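import Groth.Statements.S17825
import Mathlib.CategoryTheory.Limits.Constructions.Over.Basic
import Mathlib.CategoryTheory.Limits.Shapes.Equalizers
import Mathlib.Tactic

set_option autoImplicit false
universe u
open CategoryTheory CategoryTheory.Limits AlgebraicGeometry
open JacVar

namespace Groth.Agent.S17825

/-- Let S be a scheme, Y an S-scheme separated over S, F a presheaf of sets on the category of
S-schemes, f : h_Y ⟶ F a morphism from the functor of points of Y, and s : F ⟶ h_Y a section of f (s
followed by f is the identity). Then F is represented by a closed subscheme of Y: there are an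
S-scheme Z, a morphism i : Z ⟶ Y over S which is a closed immersion, and an isomorphism F ≅ h_Z
whose composite with h_i : h_Z ⟶ h_Y is s. (The published lemma treats the case where Y is the r-th
symmetric power of a curve, F the functor of degree-r invertible families modulo twisting and f the
divisor-class map.) -/
theorem result {S : Scheme.{u}} (Y : Over S) [IsSeparated Y.hom]
    (F : (Over S)ᵒᵖ ⥤ Type u) (f : yoneda.obj Y ⟶ F) (s : F ⟶ yoneda.obj Y) (hsf : s ≫ f = 𝟙 F) :
    ∃ (Z : Over S) (i : Z ⟶ Y), IsClosedImmersion i.left ∧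
      ∃ e : F ≅ yoneda.obj Z, e.hom ≫ yoneda.map i = s := by
  let e : Y ⟶ Y := Yoneda.fullyFaithful.preimage (f ≫ s)
  have he : yoneda.map e = f ≫ s := Yoneda.fullyFaithful.map_preimage _
  refine ⟨Limits.equalizer (𝟙 Y) e, Limits.equalizer.ι (𝟙 Y) e, inferInstance, ?_⟩
  have hee : e ≫ e = e := Yoneda.fullyFaithful.map_injective (by
    rw [Functor.map_comp, he, Category.assoc, ← Category.assoc s, hsf, Category.id_comp])
  let j : Y ⟶ Limits.equalizer (𝟙 Y) e := Limits.equalizer.lift e (by rw [Category.comp_id, hee])
  have hι : Limits.equalizer.ι (𝟙 Y) e ≫ e = Limits.equalizer.ι (𝟙 Y) e := by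
    simpa using (Limits.equalizer.condition (𝟙 Y) e).symm
  refine ⟨⟨s ≫ yoneda.map j, yoneda.map (Limits.equalizer.ι (𝟙 Y) e) ≫ f, ?_, ?_⟩, ?_⟩
  · rw [Category.assoc, ← Category.assoc (yoneda.map j), ← Functor.map_comp, Limits.equalizer.lift_ι, he,
      Category.assoc, reassoc_of% hsf, hsf]
  · rw [Category.assoc, ← Category.assoc f, ← he, ← Functor.map_comp, ← Functor.map_comp, ← yoneda.map_id]
    congr 1
    apply Limits.equalizer.hom_ext
    simp only [Category.assoc, Category.id_comp, j, Limits.equalizer.lift_ι, hee, hι]
  · show (s ≫ yoneda.map j) ≫ yoneda.map _ = s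
    rw [Category.assoc, ← Functor.map_comp, Limits.equalizer.lift_ι, he, ← Category.assoc, hsf, Category.id_comp]

end Groth.Agent.S17825
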