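import Groth.Statements.S17826
import Groth.Agent.H25Torelli.Polarization

set_option linter.style.haveILetI false
set_option backward.isDefEq.respectTransparency.types false

set_option autoImplicit false
universe u
open CategoryTheory CategoryTheory.Limits AlgebraicGeometry MonoidalCategory CartesianMonoidalCategory MonObj
open JacVar

namespace Groth.Agent.S17826

/-- Let C be a smooth proper geometrically connected curve of genus g > 0 over a field k with a
k-rational point P, (J, ψ) its Jacobian (a commutative group scheme over k, coarse moduli scheme on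
all k-schemes for degree-0 line bundles modulo twisting from the base, group law induced by tensor
product) with universal family M on C × J normalised along P × J and classified by the identity of
J, and j : C ⟶ J the Abel map with base point P. Let N be an invertible module of degree g − 1 on C
and Θ_J the theta line bundle on J (an invertible module inverse to the ideal of the closure of the
locus of classes ξ with a nonzero section of ξ ⊗ N — a translate of W^{g−1}, which has the same
associated homomorphism). Let (Jt, φ) be an fppf dual of J with normalised Poincaré module 𝒫 on J ×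
Jt, lam : J ⟶ Jt the homomorphism attached to Θ_J through φ, and fd : Jt ⟶ J a homomorphism such
that (1 × fd)^* M and (j × 1)^* 𝒫 have the same class on C × Jt. Then lam followed by fd is the
inversion of J and fd followed by lam is the inversion of Jt: −fd is inverse to lam, so lam is an
isomorphism. -/
theorem result (k : Type u) [Field k]
    (C : Scheme.{u}) [C.Over (Spec (CommRingCat.of k))]
    [IsProper (C ↘ Spec (CommRingCat.of k))] [Smooth (C ↘ Spec (CommRingCat.of k))] [GeometricallyConnected (C ↘ Spec (CommRingCat.of k))]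
    (hdim : topologicalKrullDim ↥C = 1)
    (g : ℕ) (hg : Curv2.genus k C = g) (hg1 : 1 ≤ g)
    (σ : Spec (CommRingCat.of k) ⟶ C) (hσ : σ ≫ (C ↘ Spec (CommRingCat.of k)) = 𝟙 _)
    (J : Over (Spec (CommRingCat.of k))) [GrpObj J] [IsCommMonObj J]
    (ψ : (ModFun.PicDeg (C ↘ Spec (CommRingCat.of k)) 0).Hom ⊤ J) (hJ : Jac.IsJacobian (C ↘ Spec (CommRingCat.of k)) ⊤ J ψ)
    (Pu : (PicF.XT (C ↘ Spec (CommRingCat.of k)) J).Modules) (hPu : ModFun.IsUnivFamily ⊤ (ModFun.PicDeg (C ↘ Spec (CommRingCat.of k)) 0) J Pu)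
    (hPn : Jac.IsNormAlong (C ↘ Spec (CommRingCat.of k)) σ hσ J Pu)
    (hT : (⊤ : ObjectProperty (Over (Spec (CommRingCat.of k)))) J) (hPuψ : ψ.app J Pu hT hPu.1 = 𝟙 J)
    (j : Over.mk (C ↘ Spec (CommRingCat.of k)) ⟶ J) (hj : Jac.IsAbelJacobiAt (C ↘ Spec (CommRingCat.of k)) σ ψ j)
    (N : C.Modules) (hN : PicF.IsInvertible N) (hNdeg : Curv2.deg k C N 1 = (g : ℤ) - 1)
    (ΘJ : J.left.Modules) (hΘJ : Jac.IsThetaLB (C ↘ Spec (CommRingCat.of k)) 0 ψ N ΘJ)
    (Jt : Over (Spec (CommRingCat.of k))) [GrpObj Jt] [IsCommMonObj Jt]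
    (φ : AgPol.DualMap J Jt) (hJt : AbDual.IsDualAV Scheme.fppfPrecoverage J Jt φ)
    (P : (PicF.XT J.hom Jt).Modules) (hP : PicF.IsInvertible P) (hPP : AbDual.IsPoincareCl J Jt φ (PicF.cl P))
    (lam : J ⟶ Jt) (hlam : AgPol.IsLambda J Jt φ ΘJ lam)
    (fd : Jt ⟶ J) [IsMonHom fd]
    (hfd : PicF.cl ((Scheme.Modules.pullback (PicF.XTmap (C ↘ Spec (CommRingCat.of k)) fd)).obj Pu) =
      PicF.cl ((Scheme.Modules.pullback (AbDual.bcMap j Jt)).obj P)) :
    lam ≫ fd = (𝟙 J)⁻¹ ∧ fd ≫ lam = (𝟙 Jt)⁻¹ := by
  exact Groth.Agent.H25Torelli.lam_fd_eq_inv hdim g hg hg1 ⟨σ, hσ⟩ hJ hj Pu hPu.1 hT hPuψ N hN hNdeg ΘJ hΘJ hJt P hP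
    hPP lam hlam fd hfd

end Groth.Agent.S17826
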