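import Groth.Statements.S17827
import Groth.Agent.H25Torelli.StatementTools

set_option linter.style.haveILetI false
set_option maxHeartbeats 3200000
set_option backward.isDefEq.respectTransparency.types false

set_option autoImplicit false
universe u
open CategoryTheory CategoryTheory.Limits AlgebraicGeometry MonoidalCategory CartesianMonoidalCategory MonObj
open JacVar

namespace Groth.Agent.S17827

/-- Let k be an algebraically closed field, C a smooth proper connected curve of genus g ≥ 1 over k with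
a k-point P, (J, ψ) its Jacobian (a commutative group scheme over k, coarse moduli scheme on all
k-schemes for degree-0 line bundles modulo twisting from the base, group law induced by tensor
product) with universal family M on C × J normalised along P × J and classified by the identity of
J, and j : C ⟶ J the Abel map with base point P. Let Θ = W^{g−1} ⊂ J be the image of the (g −
1)-fold product of C under (x_i) ↦ Π j(x_i), Θ⁻ its image under inversion, L(Θ⁻) an invertible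
module on J inverse to the ideal of the reduced closed subscheme Θ⁻, and Λ an invertible module on J
× J with Λ ⊗ pr₁^* L(Θ⁻) ⊗ pr₂^* L(Θ⁻) ≅ m^* L(Θ⁻), m the group law (the sheaf m^*L(Θ⁻) ⊗
pr₁^*L(Θ⁻)⁻¹ ⊗ pr₂^*L(Θ⁻)⁻¹). Then the pullback of Λ along j × (−1) : C × J ⟶ J × J is isomorphic to
M. -/
theorem result (k : Type u) [Field k] [IsAlgClosed k]
    (C : Scheme.{u}) [C.Over (Spec (CommRingCat.of k))]
    [IsProper (C ↘ Spec (CommRingCat.of k))] [Smooth (C ↘ Spec (CommRingCat.of k))] [GeometricallyConnected (C ↘ Spec (CommRingCat.of k))]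
    (hdim : topologicalKrullDim ↥C = 1)
    (g : ℕ) (hg : Curv2.genus k C = g) (hg1 : 1 ≤ g)
    (σ : Spec (CommRingCat.of k) ⟶ C) (hσ : σ ≫ (C ↘ Spec (CommRingCat.of k)) = 𝟙 _)
    (J : Over (Spec (CommRingCat.of k))) [GrpObj J] [IsCommMonObj J]
    (ψ : (ModFun.PicDeg (C ↘ Spec (CommRingCat.of k)) 0).Hom ⊤ J) (hJ : Jac.IsJacobian (C ↘ Spec (CommRingCat.of k)) ⊤ J ψ)
    (j : Over.mk (C ↘ Spec (CommRingCat.of k)) ⟶ J) (hj : Jac.IsAbelJacobiAt (C ↘ Spec (CommRingCat.of k)) σ ψ j)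
    (Pu : (PicF.XT (C ↘ Spec (CommRingCat.of k)) J).Modules) (hPu : ModFun.IsUnivFamily ⊤ (ModFun.PicDeg (C ↘ Spec (CommRingCat.of k)) 0) J Pu)
    (hPn : Jac.IsNormAlong (C ↘ Spec (CommRingCat.of k)) σ hσ J Pu)
    (hT : (⊤ : ObjectProperty (Over (Spec (CommRingCat.of k)))) J) (hPuψ : ψ.app J Pu hT hPu.1 = 𝟙 J)
    (LΘm : J.left.Modules) (hLΘm : PicF.IsInvertible LΘm)
    (hLΘmI : ClSub.IsInverseOf LΘm (ClSub.idealMod (Scheme.IdealSheafData.vanishingIdeal
      ⟨closure (((𝟙 J)⁻¹).left.base '' Set.range ((List.ofFn fun i : Fin (g - 1) =>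
        (Over.homMk (WidePullback.π (fun (_ : Fin (g - 1)) => (C ↘ Spec (CommRingCat.of k))) i)
          (WidePullback.π_arrow (fun (_ : Fin (g - 1)) => (C ↘ Spec (CommRingCat.of k))) i) : Over.mk (WidePullback.base fun (_ : Fin (g - 1)) => (C ↘ Spec (CommRingCat.of k))) ⟶ Over.mk (C ↘ Spec (CommRingCat.of k))) ≫ j).prod).left.base), isClosed_closure⟩)))
    (Λ : (PicF.XT J.hom J).Modules) (hΛ : PicF.IsInvertible Λ)
    (hΛL : AgPol.IsLambdaSheaf (μ[J].left : PicF.XT J.hom J ⟶ J.left) (fst J J).left (snd J J).left LΘm Λ) :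
    Nonempty ((Scheme.Modules.pullback (PicF.XTmap (C ↘ Spec (CommRingCat.of k)) ((𝟙 J)⁻¹) ≫ AbDual.bcMap j J)).obj Λ ≅ Pu) := by
  classical
  obtain ⟨D⟩ := H25Torelli.exists_dict (σ := ⟨σ, hσ⟩) hdim ψ hJ j hj
  haveI := D.proper; haveI := D.comm; haveI := D.smooth; haveI := D.integral
  obtain ⟨hX, hrel⟩ := H25Jac.isSmoothProperCurve_of_connected (C ↘ Spec (CommRingCat.of k)) hdim
  haveI := hrel
  haveI := H29DoubleCover.geometricallyIntegral_of_smooth_connected (C ↘ Spec (CommRingCat.of k))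
  let Cv := Over.mk (C ↘ Spec (CommRingCat.of k))
  haveI : IsProper Cv.hom := inferInstanceAs (IsProper (C ↘ Spec (CommRingCat.of k)))
  haveI : GeometricallyIntegral Cv.hom := inferInstanceAs (GeometricallyIntegral (C ↘ Spec (CommRingCat.of k)))
  haveI : IsIntegral J.left := GeometricallyIntegral.isIntegral_of_subsingleton J.hom
  have hPi := ((H25Jac.ok_iff J Pu).1 hPu.1).1
  let P : H25AbCube.PC Cv.left := H25Torelli.ptCls (C := C) hdim ⟨σ, hσ⟩
  -- the reflected theta divisor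
  have hset : Set.range ((List.ofFn fun i : Fin (g - 1) =>
        (Over.homMk (WidePullback.π (fun (_ : Fin (g - 1)) => (C ↘ Spec (CommRingCat.of k))) i)
          (WidePullback.π_arrow (fun (_ : Fin (g - 1)) => (C ↘ Spec (CommRingCat.of k))) i) :
            Over.mk (WidePullback.base fun (_ : Fin (g - 1)) => (C ↘ Spec (CommRingCat.of k))) ⟶ Cv) ≫ j).prod).left.base =
      H25Torelli.W j (g - 1) := rfl
  have ht1 : Jac.transl J (1 : 𝟙_ _ ⟶ J) = 𝟙 J := by
    rw [Jac.transl, MonObj.comp_one, _root_.mul_one]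
  have heq : ∀ Z : Set J.left, (Jac.transl J (1 : 𝟙_ _ ⟶ J)).left.base '' Z = Z := fun Z => by
    rw [ht1]; exact Set.image_id _
  have hM := H29CurveDual.isInvertible_of_isInverseOf hLΘm hLΘmI
  obtain ⟨hΘ, hΘe⟩ : ∃ hΘ : PicF.IsInvertible (ClSub.idealMod (Scheme.IdealSheafData.vanishingIdeal
      ⟨H25Torelli.W j (g - 1), D.isClosed_W _⟩)),
      H25AbCube.pc LΘm hLΘm = H25AbCube.ev (-H25AbCube.pc _ hΘ) ((𝟙 J)⁻¹) := by
    have hI : Scheme.IdealSheafData.vanishingIdeal ⟨closure ((Jac.transl J (1 : 𝟙_ _ ⟶ J)).left.base ''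
        (((𝟙 J)⁻¹).left.base '' H25Torelli.W j (g - 1))), isClosed_closure⟩ =
        Scheme.IdealSheafData.vanishingIdeal ⟨closure (((𝟙 J)⁻¹).left.base '' H25Torelli.W j (g - 1)),
          isClosed_closure⟩ := by
      congr 1
      exact TopologicalSpace.Closeds.ext (congrArg closure (heq _))
    have hM' : PicF.IsInvertible (ClSub.idealMod (Scheme.IdealSheafData.vanishingIdeal
        ⟨closure ((Jac.transl J (1 : 𝟙_ _ ⟶ J)).left.base '' (((𝟙 J)⁻¹).left.base '' H25Torelli.W j (g - 1))),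
          isClosed_closure⟩)) := by rw [hI]; exact hM
    obtain ⟨hΘ, e⟩ := D.pc_thetaMinus g (1 : 𝟙_ _ ⟶ J) hM'
    refine ⟨hΘ, ?_⟩
    rw [H25Torelli.pc_inverse hLΘm hM hLΘmI]
    refine Eq.trans (congrArg Neg.neg (Eq.trans ((H25AbCube.pc_eq_iff hM hM').2
      ⟨eqToIso (congrArg ClSub.idealMod hI.symm)⟩) e)) ?_
    rw [H25Torelli.reflect, ht1, Category.comp_id]
    exact (map_neg (H25AbCube.pullP _) _).symm
  let Lθ : H25AbCube.PC J.left := -H25AbCube.pc _ hΘ
  let L : H25AbCube.PC J.left := H25AbCube.pc LΘm hLΘm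
  have hL : ∀ {T : Over (Spec (CommRingCat.of k))} (x : T ⟶ J), H25AbCube.ev L x = H25AbCube.ev Lθ x⁻¹ := fun {T} x => by
    show H25AbCube.ev (H25AbCube.pc LΘm hLΘm) x = _
    rw [hΘe, H25AbCube.ev_comp, GrpObj.comp_inv, Category.comp_id]
  -- the pullback of the class of the bundle
  let m : Cv ⊗ J ⟶ J ⊗ J := lift (fst _ _ ≫ j) (snd _ _ ≫ (𝟙 J)⁻¹)
  have hm : PicF.XTmap (C ↘ Spec (CommRingCat.of k)) ((𝟙 J)⁻¹) ≫ AbDual.bcMap j J = m.left := by
    apply pullback.hom_ext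
    · refine Eq.trans ?_ (congrArg CommaMorphism.left (lift_fst (fst Cv J ≫ j) (snd Cv J ≫ (𝟙 J)⁻¹))).symm
      rw [Category.assoc, show AbDual.bcMap j J ≫ pullback.fst J.hom J.hom =
        pullback.fst (C ↘ Spec (CommRingCat.of k)) J.hom ≫ j.left from pullback.lift_fst _ _ _, ← Category.assoc]
      exact congrArg (· ≫ j.left) ((pullback.lift_fst _ _ _).trans (Category.comp_id _))
    · refine Eq.trans ?_ (congrArg CommaMorphism.left (lift_snd (fst Cv J ≫ j) (snd Cv J ≫ (𝟙 J)⁻¹))).symm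
      rw [Category.assoc, show AbDual.bcMap j J ≫ pullback.snd J.hom J.hom =
        pullback.snd (C ↘ Spec (CommRingCat.of k)) J.hom ≫ 𝟙 _ from pullback.lift_snd _ _ _, Category.comp_id]
      exact pullback.lift_snd _ _ _
  rw [hm]
  have hμ : μ[J] = fst J J * snd J J :=
    ((congrArg (· ≫ μ[J]) lift_fst_snd).trans (Category.id_comp _)).symm
  let lam : H25AbCube.PC (J ⊗ J).left := H25AbCube.pc (X := (J ⊗ J).left) Λ hΛ
  have hlam : lam = H25AbCube.ev L (fst J J * snd J J) - H25AbCube.ev L (fst J J) - H25AbCube.ev L (snd J J) := by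
    have h1 := H11Ample.isInvertible_pullback (fst J J).left hLΘm
    have h2 := H11Ample.isInvertible_pullback (snd J J).left hLΘm
    have h3 := H11Ample.isInvertible_pullback (μ[J].left : (J ⊗ J).left ⟶ J.left) hLΘm
    have h := (H25AbCube.pc_eq_iff (H11Ample.isInvertible_tensor (H11Ample.isInvertible_tensor hΛ h1) h2) h3).2 hΛL
    rw [H25AbCube.pc_tensor (H11Ample.isInvertible_tensor hΛ h1) h2, H25AbCube.pc_tensor hΛ h1,
      H25AbCube.pullP_pc _ _ hLΘm, H25AbCube.pullP_pc _ _ hLΘm, H25AbCube.pullP_pc _ _ hLΘm] at h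
    rw [← hμ, eq_sub_iff_add_eq, eq_sub_iff_add_eq]
    refine Eq.trans ?_ h
    exact add_right_comm _ _ _
  let u : H25AbCube.PC (Cv ⊗ J).left := H25AbCube.ev lam m - (H25AbCube.pc (X := (Cv ⊗ J).left) Pu hPi)
  have hu : H25AbCube.ev lam m = H25AbCube.ev Lθ (H25Torelli.diffMap j (𝟙 J)) -
      H25AbCube.ev Lθ ((fst Cv J ≫ j)⁻¹) - H25AbCube.ev Lθ (snd Cv J) := by
    have e : H25AbCube.ev lam m = H25AbCube.ev (H25AbCube.ev L (fst J J * snd J J)) m -
        H25AbCube.ev (H25AbCube.ev L (fst J J)) m - H25AbCube.ev (H25AbCube.ev L (snd J J)) m := by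
      show H25AbCube.pullP _ lam = _
      rw [hlam, map_sub, map_sub]
      rfl
    rw [e, H25AbCube.ev_comp, H25AbCube.ev_comp, H25AbCube.ev_comp, MonObj.comp_mul, lift_fst, lift_snd, hL, hL, hL,
      mul_inv_rev, GrpObj.comp_inv, _root_.inv_inv, Category.comp_id]
    rw [show H25Torelli.diffMap j (𝟙 J) = snd Cv J * (fst Cv J ≫ j)⁻¹ by rw [H25Torelli.diffMap, Category.comp_id]]
  have hslice : ∀ (t : 𝟙_ _ ⟶ J),
      H25AbCube.ev u (lift (𝟙 Cv) (toUnit Cv ≫ t)) = 0 := fun t => by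
    show H25AbCube.pullP _ (_ - _) = 0
    rw [map_sub, sub_eq_zero, hu, map_sub, map_sub]
    show H25AbCube.ev (H25AbCube.ev Lθ _) _ - H25AbCube.ev (H25AbCube.ev Lθ _) _ - H25AbCube.ev (H25AbCube.ev Lθ _) _ = _
    rw [H25AbCube.ev_comp, H25AbCube.ev_comp, H25AbCube.ev_comp, lift_snd, H25AbCube.ev_toUnit, sub_zero,
      GrpObj.comp_inv, ← Category.assoc, lift_fst, Category.id_comp]
    have e1 : lift (𝟙 Cv) (toUnit Cv ≫ t) ≫ H25Torelli.diffMap j (𝟙 J) = j ≫ H25Torelli.reflect J t := by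
      rw [MonObj.comp_mul, GrpObj.comp_inv, ← Category.assoc, ← Category.assoc, lift_snd, lift_fst, Category.id_comp,
        Category.comp_id, H25Torelli.comp_reflect]
    have e2 : j⁻¹ = j ≫ H25Torelli.reflect J 1 := by
      rw [H25Torelli.comp_reflect, MonObj.comp_one, _root_.one_mul]
    rw [e1, e2, D.ev_reflect hJ hj g hg hg1 hΘ, D.ev_reflect hJ hj g hg hg1 hΘ, D.map_one, zero_add, add_sub_cancel_right]
    refine (D.slice_univ Pu hPi hPu.1 hT hPuψ t).symm.trans ?_
    exact congrArg (fun F => H25AbCube.pullP F (H25AbCube.pc Pu hPi)) (H25Torelli.slice_eq_lift t)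
  let s₀ : 𝟙_ _ ⟶ Cv := H25Torelli.Pts.hom ⟨σ, hσ⟩
  have hnorm : H25AbCube.ev u (lift (toUnit J ≫ s₀) (𝟙 J)) = 0 := by
    show H25AbCube.pullP _ (_ - _) = 0
    rw [map_sub, sub_eq_zero, hu, map_sub, map_sub]
    show H25AbCube.ev (H25AbCube.ev Lθ _) _ - H25AbCube.ev (H25AbCube.ev Lθ _) _ - H25AbCube.ev (H25AbCube.ev Lθ _) _ = _
    have hj0 : s₀ ≫ j = 1 := D.injective (by rw [D.map_one, D.abel, sub_self])
    rw [H25AbCube.ev_comp, H25AbCube.ev_comp, H25AbCube.ev_comp, MonObj.comp_mul, GrpObj.comp_inv, ← Category.assoc,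
      ← Category.assoc, lift_snd, lift_fst, Category.comp_id, Category.assoc, hj0, MonObj.comp_one, inv_one,
      _root_.mul_one, show H25AbCube.ev Lθ (1 : J ⟶ J) = 0 by
        rw [← MonObj.comp_one (f := toUnit J)]; exact H25AbCube.ev_toUnit _ _, sub_zero, sub_self]
    obtain ⟨e⟩ := H12Pic.Sep.iso_of_cl_eq (L := (Scheme.Modules.pullback (PicF.secT (C ↘ Spec (CommRingCat.of k)) σ hσ J)).obj Pu)
      (L' := Coh.structureModule J.left) hPn
    have h := (H25AbCube.pc_eq_iff (H11Ample.isInvertible_pullback _ hPi) H11Ample.isInvertible_structureModule).2 ⟨e⟩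
    rw [H25AbCube.pullP_pc _ _ hPi, H25AbCube.pc_one] at h
    refine h.symm.trans (congrArg (fun F => H25AbCube.pullP F (H25AbCube.pc Pu hPi)) ?_)
    apply pullback.hom_ext
    · exact (pullback.lift_fst _ _ _).trans (congrArg CommaMorphism.left (lift_fst (toUnit J ≫ s₀) (𝟙 J))).symm
    · exact (pullback.lift_snd _ _ _).trans (congrArg CommaMorphism.left (lift_snd (toUnit J ≫ s₀) (𝟙 J))).symm
  have h0 := H25AbCube.eq_zero_of_slices Cv J u s₀ hslice hnorm
  refine (H25AbCube.pc_eq_iff (H11Ample.isInvertible_pullback m.left hΛ) hPi).1 ?_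
  rw [H25AbCube.pullP_pc m.left Λ hΛ]
  exact sub_eq_zero.1 h0

end Groth.Agent.S17827
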