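import Groth.Statements.S17828
import Groth.Agent.H25Torelli.PerfectField

set_option linter.style.haveILetI false
set_option backward.isDefEq.respectTransparency.types false

set_option autoImplicit false
universe u
open CategoryTheory CategoryTheory.Limits AlgebraicGeometry MonoidalCategory CartesianMonoidalCategory MonObj
open JacVar

namespace Groth.Agent.S17828

/-- The case of curves with rational points. Let k be a perfect field, C and C' smooth proper
geometrically connected curves of the same genus g ≥ 2 over k with k-rational points P and P', (J,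
ψ) and (J', ψ') their Jacobians (commutative group schemes over k, coarse moduli schemes on all
k-schemes for degree-0 line bundles modulo twisting from the base, group law induced by tensor
product), N and N' invertible modules of degree g − 1 on C and C', and Θ ⊂ J, Θ' ⊂ J' the theta loci
of N and N' (closures of the loci of classes ξ with a nonzero global section of ξ ⊗ N, resp. ξ ⊗
N'). If β : J ≅ J' is an isomorphism of group schemes over k mapping Θ onto the translate of Θ' by a
k-rational point of J' — for curves with rational points this is an isomorphism of the canonically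
polarized Jacobians over k — then C and C' are isomorphic over k. (The published corollary does not
assume rational points on C and C'; it is stated here for curves having them, through which the
theta divisors are defined over k.) -/
theorem result (k : Type u) [Field k] [PerfectField k]
    (C : Scheme.{u}) [C.Over (Spec (CommRingCat.of k))]
    [IsProper (C ↘ Spec (CommRingCat.of k))] [Smooth (C ↘ Spec (CommRingCat.of k))] [GeometricallyConnected (C ↘ Spec (CommRingCat.of k))]
    (hdim : topologicalKrullDim ↥C = 1)
    (C' : Scheme.{u}) [C'.Over (Spec (CommRingCat.of k))]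
    [IsProper (C' ↘ Spec (CommRingCat.of k))] [Smooth (C' ↘ Spec (CommRingCat.of k))] [GeometricallyConnected (C' ↘ Spec (CommRingCat.of k))]
    (hdim' : topologicalKrullDim ↥C' = 1)
    (g : ℕ) (hg : Curv2.genus k C = g) (hg' : Curv2.genus k C' = g) (hg2 : 2 ≤ g)
    (σ : Spec (CommRingCat.of k) ⟶ C) (hσ : σ ≫ (C ↘ Spec (CommRingCat.of k)) = 𝟙 _) (σ' : Spec (CommRingCat.of k) ⟶ C') (hσ' : σ' ≫ (C' ↘ Spec (CommRingCat.of k)) = 𝟙 _)
    (J : Over (Spec (CommRingCat.of k))) [GrpObj J] [IsCommMonObj J]
    (ψ : (ModFun.PicDeg (C ↘ Spec (CommRingCat.of k)) 0).Hom ⊤ J) (hJ : Jac.IsJacobian (C ↘ Spec (CommRingCat.of k)) ⊤ J ψ)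
    (J' : Over (Spec (CommRingCat.of k))) [GrpObj J'] [IsCommMonObj J']
    (ψ' : (ModFun.PicDeg (C' ↘ Spec (CommRingCat.of k)) 0).Hom ⊤ J') (hJ' : Jac.IsJacobian (C' ↘ Spec (CommRingCat.of k)) ⊤ J' ψ')
    (N : C.Modules) (hN : PicF.IsInvertible N) (hNdeg : Curv2.deg k C N 1 = (g : ℤ) - 1)
    (N' : C'.Modules) (hN' : PicF.IsInvertible N') (hNdeg' : Curv2.deg k C' N' 1 = (g : ℤ) - 1)
    (β : J ≅ J') [IsMonHom β.hom] (c₀ : 𝟙_ (Over (Spec (CommRingCat.of k))) ⟶ J')
    (hβ : β.hom.left.base '' Jac.thetaLocus (C ↘ Spec (CommRingCat.of k)) 0 ψ N =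
      (Jac.transl J' c₀).left.base ⁻¹' Jac.thetaLocus (C' ↘ Spec (CommRingCat.of k)) 0 ψ' N') :
    ∃ α : C ≅ C', α.hom ≫ (C' ↘ Spec (CommRingCat.of k)) = (C ↘ Spec (CommRingCat.of k)) := by
  exact Groth.Agent.H25Torelli.exists_iso_perfect hdim hdim' g hg hg' hg2 ⟨σ, hσ⟩ ⟨σ', hσ'⟩ hJ hJ' N hN hNdeg N' hN'
    hNdeg' β c₀ hβ

end Groth.Agent.S17828
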