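import Groth.Statements.S17829
import Groth.Agent.H25AbCube.TraceNumber
import Groth.Agent.H25AbCube.TorsionStr
import Groth.Agent.H10Coh.Growth.Field

set_option autoImplicit false
set_option linter.style.haveILetI false
set_option backward.isDefEq.respectTransparency false
set_option synthInstance.maxHeartbeats 400000
set_option maxHeartbeats 1000000
universe u
open CategoryTheory CategoryTheory.Limits AlgebraicGeometry MonoidalCategory CartesianMonoidalCategory MonObj
open JacVar

namespace Groth.Agent.S17829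

/-- A denotes a g-dimensional abelian variety over the field k (a commutative group scheme, proper,
smooth and geometrically irreducible over k), L an ample invertible module on A with an inverse L⁻¹
(its class H), and α an endomorphism of A. Let ℓ be a prime invertible in k and Ω an algebraically
closed field over k, and let T be the ℓ-adic Tate module of the Ω-valued points of A, assumed finite
free over ℤ_ℓ (as it is, of rank 2g), so that Tr(α) is the trace of T_ℓ(α) on T. Write D_H(α) for
the class of (α + 1)^* L ⊗ α^* L⁻¹ ⊗ L⁻¹, whose inverse module is (α + 1)^* L⁻¹ ⊗ α^* L ⊗ L. Then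
Tr(α) · (H^g) = g · (H^{g−1} · D_H(α)), where the intersection numbers are the alternating sums of
Euler characteristics of tensor products of the inverse modules; that is, Tr(α) = g (H^{g−1} ·
D_H(α)) / (H^g). -/
theorem result (k : Type u) [Field k]
    (A : Over (Spec (CommRingCat.of k))) [GrpObj A] [IsCommMonObj A]
    [IsProper A.hom] [Smooth A.hom] [GeometricallyIrreducible A.hom]
    [A.left.Over (Spec (CommRingCat.of k))] (hA : A.left ↘ Spec (CommRingCat.of k) = A.hom)
    (g : ℕ) (hg : topologicalKrullDim ↥A.left = g)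
    (L Linv : A.left.Modules) (hL : PicF.IsInvertible L) (hLinv : Nonempty (CohB1.tensorMod L Linv ≅ Coh.structureModule A.left))
    (hamp : CohB1.IsAmple L)
    (α : A ⟶ A) [IsMonHom α]
    (l : ℕ) [Fact l.Prime] (hl : (l : k) ≠ 0)
    (Ω : Type u) [Field Ω] [IsAlgClosed Ω] [Algebra k Ω]
    [Module.Free ℤ_[l] (AbDual.TateMod A l (Over.mk (Spec.map (CommRingCat.ofHom (algebraMap k Ω)))))] [Module.Finite ℤ_[l] (AbDual.TateMod A l (Over.mk (Spec.map (CommRingCat.ofHom (algebraMap k Ω)))))] :
    (LinearMap.trace ℤ_[l] (AbDual.TateMod A l (Over.mk (Spec.map (CommRingCat.ofHom (algebraMap k Ω))))) (AbDual.tateMapₗ (A := A) (l := l) (T := (Over.mk (Spec.map (CommRingCat.ofHom (algebraMap k Ω))))) α)) *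
      (FGA.intNum k A.left g (fun _ : Fin g => Linv) (Coh.structureModule A.left) : ℤ_[l]) =
    (g : ℤ_[l]) * (FGA.intNum k A.left g
      (fun i : Fin g => if (i : ℕ) = 0 then
        CohB1.tensorMod ((Scheme.Modules.pullback (α * 𝟙 A).left).obj Linv)
          (CohB1.tensorMod ((Scheme.Modules.pullback α.left).obj L) L)
        else Linv) (Coh.structureModule A.left) : ℤ_[l]) := by
  classical
  rename_i inst _ _ _ _ _ _ _
  obtain rfl : inst = ⟨A.hom⟩ := by
    cases inst; subst hA; rfl
  haveI : GeometricallyConnected A.hom := Groth.Agent.H25AbCube.geometricallyConnected_of_irreducible A.hom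
  haveI : GeometricallyIntegral A.hom := Groth.Agent.H25AbCube.geometricallyIntegral_of_smooth A
  haveI : IsProper (A.left ↘ Spec (CommRingCat.of k)) := ‹IsProper A.hom›
  obtain ⟨e⟩ := hLinv
  have hLi : PicF.IsInvertible Linv :=
    Groth.Agent.H10Coh.Growth.isInvertible_of_tensor hL (Groth.Agent.H11Tilde.isInvertible_of_iso
      (e.symm ≪≫ Groth.Agent.H10Coh.Tw.commIso L Linv) Groth.Agent.H11Ample.isInvertible_structureModule)
  have hLL : Groth.Agent.H25AbCube.pc L hamp.1 + Groth.Agent.H25AbCube.pc Linv hLi = 0 := by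
    rw [← Groth.Agent.H25AbCube.pc_tensor hamp.1 hLi (Groth.Agent.H11Ample.isInvertible_tensor hamp.1 hLi)]
    exact ((Groth.Agent.H25AbCube.pc_eq_iff _ Groth.Agent.H11Ample.isInvertible_structureModule).2 ⟨e⟩).trans
      Groth.Agent.H25AbCube.pc_one
  obtain ⟨P, hPm, hPd, hPe, hPl⟩ :=
    Groth.Agent.H25AbCube.exists_charpoly_pt_any (Ω := Ω) hg (EndAV.End.of α)
  set T := AbDual.tateMapₗ (A := A) (l := l) (T := (Over.mk (Spec.map (CommRingCat.ofHom (algebraMap k Ω))))) α
  have hchar : T.charpoly = P.map (Int.castRingHom ℤ_[l]) := hPl l hl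
  let b := Module.Free.chooseBasis ℤ_[l]
    (AbDual.TateMod A l (Over.mk (Spec.map (CommRingCat.ofHom (algebraMap k Ω)))))
  have htr : LinearMap.trace ℤ_[l] _ T = -(P.map (Int.castRingHom ℤ_[l])).nextCoeff := by
    rw [LinearMap.trace_eq_matrix_trace ℤ_[l] b, Matrix.trace_eq_neg_charpoly_nextCoeff, LinearMap.charpoly_toMatrix,
      hchar]
  rw [htr, Polynomial.nextCoeff, hPm.natDegree_map, hPd]
  rcases g with _ | m
  · simp
  rw [if_neg (by omega), Polynomial.coeff_map, show 2 * (m + 1) - 1 = 2 * m + 1 by omega, eq_intCast,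
    ← Int.cast_natCast (R := ℤ_[l]) (m + 1), ← Int.cast_neg, ← Int.cast_mul, ← Int.cast_mul]
  refine congrArg _ ?_
  have h1 := Groth.Agent.H11Ample.isInvertible_pullback (α * 𝟙 A).left hLi
  have h2 := Groth.Agent.H11Ample.isInvertible_pullback α.left hamp.1
  have h3 := Groth.Agent.H11Ample.isInvertible_tensor h2 hamp.1
  refine Groth.Agent.H25AbCube.TraceForm.trace_number hg L Linv hamp hLi hLL α P hPe _
    (Groth.Agent.H11Ample.isInvertible_tensor h1 h3) ?_
  have e1 : Groth.Agent.H25AbCube.pc Linv hLi = -Groth.Agent.H25AbCube.pc L hamp.1 :=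
    eq_neg_of_add_eq_zero_right hLL
  rw [Groth.Agent.H25AbCube.pc_tensor h1 h3, Groth.Agent.H25AbCube.pc_tensor h2 hamp.1,
    Groth.Agent.H25AbCube.pullP_pc _ _ hLi, Groth.Agent.H25AbCube.pullP_pc _ _ hamp.1, e1, map_neg]
  simp only [Groth.Agent.H25AbCube.ev]
  abel

end Groth.Agent.S17829
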