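import Groth.Statements.S1783
import Groth.Agent.H26Dual2.HomFinite

set_option autoImplicit false
universe u
open CategoryTheory
attribute [local instance] HasDerivedCategory.standard
open Dual2

namespace Groth.Agent.S1783

/-- Let R → A be a ring map of finite type between Noetherian rings, where φ^!(K) is formed from a
presentation ψ : R[x_1, …, x_n] → A as RHom_P(A, K ⊗^L_R P)[n], assuming the derived base change to
P exists and taking for RHom_P(A, −) a right adjoint of restriction of scalars along ψ. If K in D(R)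
has vanishing cohomology below some degree, then so does φ^!(K); if moreover all cohomology modules
of K are finite R-modules, then all cohomology modules of φ^!(K) are finite A-modules. -/
theorem result (R A : Type u) [CommRing R] [CommRing A] [IsNoetherianRing R] [IsNoetherianRing A] [Algebra R A] (n : ℕ) (ψ : MvPolynomial (Fin n) R →ₐ[R] A) (hψ : Function.Surjective ψ) [DRing.HasLBaseChange (algebraMap R (MvPolynomial (Fin n) R))] (Rψ : Dual.D (MvPolynomial (Fin n) R) ⥤ Dual.D A) (adj : DRing.restrictD ψ.toRingHom ⊣ Rψ) (K : Dual.D R) (a : ℤ) (hKa : ∀ i : ℤ, i < a → Subsingleton (Dual.HD R K i)) : (∃ b : ℤ, ∀ i : ℤ, i < b → Subsingleton (Dual.HD A (Dual2.shriekVia n Rψ K) i)) ∧ ((∀ i : ℤ, Module.Finite R (Dual.HD R K i)) → ∀ i : ℤ, Module.Finite A (Dual.HD A (Dual2.shriekVia n Rψ K) i)) := by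
  open H26Dual2 in
  obtain ⟨adjL⟩ := Groth.Agent.S12898.result (algebraMap R (MvPolynomial (Fin n) R))
  open H26Dual2 in
  let adjL' := adjL.ofNatIsoRight (eqToIso (congrArg TD (MvPolynomial.algebraMap_eq R (Fin n))))
  let Y := ((DRing.LBaseChange (algebraMap R (MvPolynomial (Fin n) R))).obj K)⟦(n : ℤ)⟧
  let e : Dual2.shriekVia n Rψ K ≅ Rψ.obj Y :=
    (H26Dual2.shiftRightAdjointIso adj (n : ℤ)).app _
  have hY : ∀ i, i < a - n → Subsingleton (Dual.HD _ Y i) := H26Dual2.vanish_shift (n : ℤ) fun i hi =>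
    H26Dual2.subsingleton_leftAdjoint (H26Dual2.flat_mvPolynomial_C R n) adjL' (hKa i hi)
  refine ⟨⟨a - n, fun i hi => ?_⟩, fun hfin i => ?_⟩
  · haveI : Y.IsGE (a - n) := (DerivedCategory.isGE_iff Y _).2 fun j hj =>
      ModuleCat.isZero_of_iff_subsingleton.2 (hY j hj)
    haveI := H26Dual2.isGE_rightAdjoint adj Y (c := a - n)
    haveI : Subsingleton (Dual.HD A (Rψ.obj Y) i) :=
      ModuleCat.subsingleton_of_isZero (DerivedCategory.isZero_of_isGE _ (a - n) i hi)
    exact (H4DR.PCoh.hEquiv i e).injective.subsingleton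
  · have hf : ∀ j, Module.Finite (MvPolynomial (Fin n) R) (Dual.HD _ Y j) := fun j =>
      haveI := H26Dual2.finite_leftAdjoint (H26Dual2.flat_mvPolynomial_C R n) adjL' (hfin ((n : ℤ) + j))
      Module.Finite.equiv (H4DR.PCoh.hShift _ (n : ℤ) j ((n : ℤ) + j) rfl).symm
    haveI := H26Dual2.finite_rightAdjoint (RingHom.Finite.of_surjective _ hψ) adj hf hY i
    exact Module.Finite.equiv (H4DR.PCoh.hEquiv i e).symm

end Groth.Agent.S1783
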