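import Groth.Statements.S17833
import Groth.Agent.H19Chev.SmoothQuotient

set_option autoImplicit false
set_option maxHeartbeats 1000000
set_option synthInstance.maxHeartbeats 100000
set_option linter.style.haveILetI false
set_option backward.isDefEq.respectTransparency false
universe u
open CategoryTheory MonoidalCategory CartesianMonoidalCategory MonObj GrpObj AlgebraicGeometry
open AlgGrp

namespace Groth.Agent.S17833

open Groth.Agent Groth.Agent.H19Quot


/-- Over an algebraically closed field k, let G be a connected smooth k-group scheme of finite type (in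
the terminology of the notes, a smooth connected algebraic group), and H an affine normal subgroup
scheme of G such that the quotient G/H is an abelian variety: here j : H → G is the kernel of a flat
surjective homomorphism q : G → Q of k-group schemes with Q proper over k, and H is affine. Then an
automorphism u of the algebraic group G which fixes H pointwise (j ∘ u = j) and induces the identity
of Q (q ∘ u = q) is the identity. Equivalently, the map from the group of automorphisms of G fixing
H pointwise to the automorphism group of G/H is injective. -/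
theorem result (k : Type u) [Field k] [IsAlgClosed k]
    (G H Q : Over (Spec (CommRingCat.of k))) [GrpObj G] [GrpObj H] [GrpObj Q]
    [Smooth G.hom] [QuasiCompact G.hom] [ConnectedSpace ↥G.left]
    [IsAffine H.left] [IsProper Q.hom]
    (j : H ⟶ G) [IsMonHom j] (q : G ⟶ Q) [IsMonHom q] [Flat q.left] [Surjective q.left]
    (hker : AlgGrp.IsKernel j q)
    (u : G ≅ G) [IsMonHom u.hom] (hH : j ≫ u.hom = j) (hQ : u.hom ≫ q = q) :
    u.hom = 𝟙 G := by
  haveI : IsSeparated G.hom := H19Grp.AffineQuotient.isSeparated_of_grp G
  haveI : IsSeparated Q.hom := inferInstance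
  haveI : LocallyOfFinitePresentation q.left :=
    (AbelianCat.props_hom q ⟨inferInstance, inferInstance⟩ ⟨inferInstance, inferInstance⟩).2.2
  obtain ⟨hQs, hQc⟩ := H19Chev.smooth_connected_quotient q
  haveI := hQs; haveI := hQc
  haveI := H19Chev.geometricallyIntegral_av Q
  haveI : IsIso Q.hom.appTop := (ConcreteCategory.isIso_iff_bijective _).2 (H25Rig.bijective_appTop Q.hom)
  obtain ⟨d, hd⟩ := H19Grp.kernel_lift hker (u.hom * (𝟙 G)⁻¹) (by
    rw [MonObj.mul_comp, GrpObj.inv_comp, hQ, Category.id_comp, mul_inv_cancel])
  haveI : Mono j := H19Grp.kernel_mono hker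
  have hinv : ∀ (T : Over (Spec (CommRingCat.of k))) (x y : T ⟶ G), x ≫ q = y ≫ q → x ≫ d = y ≫ d := by
    intro T x y hxy
    obtain ⟨z, hz⟩ := H19Grp.kernel_lift hker (x⁻¹ * y) (by
      rw [MonObj.mul_comp, GrpObj.inv_comp, hxy, inv_mul_cancel])
    have hy : y = x * (z ≫ j) := by rw [hz, mul_inv_cancel_left]
    rw [← cancel_mono j, Category.assoc, Category.assoc, hd, MonObj.comp_mul, MonObj.comp_mul, GrpObj.comp_inv,
      GrpObj.comp_inv, Category.comp_id, Category.comp_id]
    conv_rhs => rw [hy, MonObj.mul_comp, Category.assoc, hH, _root_.mul_inv_rev, ← _root_.mul_assoc,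
      mul_inv_cancel_right]
  obtain ⟨e, he⟩ := (H19Grp.QuotientDesc.existsUnique_desc q d hinv).exists
  obtain ⟨c, hc⟩ := H19Grp.AntiAffineSmooth.exists_eq_toUnit e
  have hd1 : d ≫ j = 1 := by
    have h0 : toUnit G ≫ c ≫ j = u.hom * (𝟙 G)⁻¹ := by
      rw [← hd, ← he, hc, ← Category.assoc, ← Category.assoc, comp_toUnit, Category.assoc]
    have h1 := congrArg (fun f => η[G] ≫ f) h0
    simp only [MonObj.comp_mul, GrpObj.comp_inv, Category.comp_id, IsMonHom.one_hom, mul_inv_cancel] at h1
    rw [← Category.assoc, toUnit_unique (η[G] ≫ toUnit G) (𝟙 _), Category.id_comp] at h1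
    rw [hd, ← h0, h1, MonObj.comp_one]
  rw [hd, mul_inv_eq_one] at hd1
  exact hd1

end Groth.Agent.S17833
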