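import Groth.Statements.S17839
import Mathlib
import Groth.Agent.H22Alg.DimFunLft
import Groth.Agent.H22Alg.DeltaDim

set_option autoImplicit false
universe u
open CategoryTheory AlgebraicGeometry
open Cyc

namespace Groth.Agent.S17839

/-- Let S be a locally Noetherian scheme all of whose local rings are regular and universally catenary,
and δS : S → ℤ the function with δS(s) = −dim O_{S,s}. Let f : X ⟶ S be locally of finite type and δ
: X → ℤ the induced function, δ(x) = δS(f x) + trdeg_{κ(f x)} κ(x) — the S-dimension: for X
irreducible with generic point ξ, δ(ξ) is the transcendence degree of the function field of X over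
κ(f ξ) minus dim O_{S, f ξ}. Then δ is a dimension function on X: it drops strictly along every
nontrivial specialization and by exactly one along immediate ones; equivalently, for irreducible
closed subsets V ⊆ W of X with generic points v and w, codim(V, W) = δ(w) − δ(v). (The published
statement fixes S Noetherian, excellent, regular and separated and X separated of finite type over
S; its proof uses only the hypotheses listed.) -/
theorem result {X S : Scheme.{u}} (f : X ⟶ S)
    [LocallyOfFiniteType f] [IsLocallyNoetherian S]
    (hreg : ∀ s : S, IsRegularLocalRing (S.presheaf.stalk s))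
    (huc : ∀ s : S, CAlg.IsUniversallyCatenary (S.presheaf.stalk s))
    (δS : S → ℤ) (hδS : ∀ s : S, ringKrullDim (S.presheaf.stalk s) = ((-δS s).toNat : WithBot ℕ∞) ∧ δS s ≤ 0)
    (δ : X → ℤ) (hδ : Cyc.DeltaCompat f δ δS) :
    Cyc.IsDimFun X δ := by
  refine Groth.Agent.H22Alg.DimFunLft.isDimFun_of_deltaCompat f δS ⟨inferInstance, huc, ?_⟩ δ hδ
  exact Groth.Agent.H22Alg.DeltaDim.isDimFun_neg_stalkDim
    (fun s => haveI := hreg s; Groth.Agent.H4Depth.isCohenMacaulayLocalRing_of_regular _) δS hδS

end Groth.Agent.S17839
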