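import Groth.Statements.S17841
import Groth.Agent.H17.ProjSmooth.Factor
import Groth.Agent.S8855
-- import your own Groth.Agent.* helpers here

set_option autoImplicit false
universe u
open CategoryTheory AlgebraicGeometry
open RegImm

namespace Groth.Agent.S17841

/-- Let Y be a Noetherian separated scheme and f : X ⟶ Y a projective morphism (X is isomorphic over Y
to the relative Proj of a quasi-coherent graded O_Y-algebra generated by its degree-one part, which
is of finite type), and assume every local ring of X and of Y is regular. Then f is a local complete
intersection morphism with a global factorization: f = i ≫ g for a closed immersion i : X ⟶ P which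
is a regular immersion (its ideal is locally generated by a regular sequence) and a smooth morphism
g : P ⟶ Y. (The published statement is for schemes separated of finite type over a Noetherian
excellent regular separated base, and its notion of local complete intersection morphism also fixes
one codimension for the immersion and one relative dimension for the smooth morphism; for a regular
X that is not equidimensional, such as a point together with a line over a field, no factorization
has such constants, so only the factorization is asserted.) -/
theorem result {X Y : Scheme.{u}}
    (f : X ⟶ Y) [IsNoetherian Y] [Y.IsSeparated] (hf : RelProj.IsProjective f)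
    (hX : ∀ x : X, IsRegularLocalRing (X.presheaf.stalk x))
    (hY : ∀ y : Y, IsRegularLocalRing (Y.presheaf.stalk y)) :
    ∃ (P : Scheme.{u}) (i : X ⟶ P) (g : P ⟶ Y),
      IsClosedImmersion i ∧ RegImm.IsRegularImmersion RegImm.Kind.regular i ∧ Smooth g ∧ i ≫ g = f := by
  obtain ⟨P, i, p, hi, hp, -, hip⟩ := H17.ProjSmooth.exists_smooth_projective_embedding f hY hf
  haveI := hi
  haveI := hp
  haveI : IsLocallyNoetherian P := LocallyOfFiniteType.isLocallyNoetherian p
  haveI : IsLocallyNoetherian X := LocallyOfFiniteType.isLocallyNoetherian i
  exact ⟨P, i, p, hi, S8855.result i (H17.ProjSmooth.isRegularLocalRing_stalk_of_smooth p hY) hX, hp, hip⟩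

end Groth.Agent.S17841
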