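import Groth.Statements.S17843
import Groth.Agent.H3CAlg.RescaleLift

set_option autoImplicit false
universe u v
open CAlg

namespace Groth.Agent.S17843

/-- In the case of an affine scheme of finite presentation, let B be a finitely presented R-algebra, r ∈
R, and x : B → R[1/r][T] an R-algebra homomorphism whose value at T = 0, a homomorphism B → R[1/r],
is induced by a homomorphism x̃₀ : B → R. Then for every large enough n, the homomorphism x(rⁿT) : B
→ R[1/r][T] is induced by a homomorphism x̃ : B → R[T] whose value at T = 0 is x̃₀. The published
statement is for algebraic spaces locally of finite presentation over R; this row takes an affine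
scheme of finite presentation. -/
theorem result
    (R : Type u) (B : Type v) [CommRing R] [CommRing B] [Algebra R B]
    [Algebra.FinitePresentation R B] (r : R)
    (x : B →ₐ[R] Polynomial (Localization.Away r))
    (x₀ : B →ₐ[R] R)
    (hx₀ : (algebraMap R (Localization.Away r)).comp x₀.toRingHom =
      (Polynomial.evalRingHom 0).comp x.toRingHom) :
    ∃ N : ℕ, ∀ n : ℕ, N ≤ n →
      ∃ y : B →ₐ[R] Polynomial R,
        (Polynomial.evalRingHom 0).comp y.toRingHom = x₀.toRingHom ∧
        (Polynomial.mapRingHom (algebraMap R (Localization.Away r))).comp y.toRingHom =
          (Polynomial.aeval (Polynomial.C (algebraMap R (Localization.Away r) (r ^ n)) * Polynomial.X) :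
              Polynomial (Localization.Away r) →ₐ[Localization.Away r] Polynomial (Localization.Away r)).toRingHom.comp
            x.toRingHom := by
  exact Groth.Agent.H3CAlg.exists_lift_rescaled r x x₀ hx₀

end Groth.Agent.S17843
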