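import Groth.Statements.S17846
import Groth.Agent.H19Mult.FiniteDual

set_option autoImplicit false
set_option linter.style.haveILetI false
set_option backward.isDefEq.respectTransparency false
universe u
open SGA3b

namespace Groth.Agent.S17846

/-- Over an affine base, i.e. over a ring R with connected prime spectrum, a finite R-group scheme of
multiplicative type G = Spec A (A a commutative Hopf algebra, finite as an R-module, diagonalisable
locally in the fppf topology) is isotrivial: diagonalisable after a finite étale faithfully flat
base change. The published statement is for any connected base scheme. -/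
theorem result
    (R : Type u) [CommRing R] [ConnectedSpace (PrimeSpectrum R)]
    (A : Type u) [CommRing A] [HopfAlgebra R A] [Module.Finite R A]
    (hA : SGA3b.IsMultType R A) : SGA3b.IsIsotrivial R A := by
  haveI : Nontrivial R := by
    obtain ⟨p₀⟩ : Nonempty (PrimeSpectrum R) := ConnectedSpace.toNonempty
    exact nontrivial_of_ne 1 0 fun h10 => p₀.isPrime.ne_top ((Ideal.eq_top_iff_one _).2 (h10 ▸ zero_mem _))
  obtain ⟨T, _, _, hff, N, _, ⟨e⟩⟩ := H19Mult.exists_ff_chart H19Mult.connected_idem hA
  haveI := hff
  haveI : Nontrivial T := (FaithfulSMul.algebraMap_injective R T).nontrivial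
  haveI := H19Mult.projective_of_chart e
  haveI := H19Mult.isCocomm_of_chart e
  haveI := H19Mult.etale_dual_of_chart e
  exact H19Mult.isIsotrivial_of_etale_dual

end Groth.Agent.S17846
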