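import Groth.Statements.S17849
import Mathlib

set_option autoImplicit false
open CategoryTheory
open GalLat

namespace Groth.Agent.S17849

open MonoidAlgebra groupCohomology

variable {k : Type} [CommRing k] {Γ : Type} [Group Γ]

noncomputable def liftMap {X M : Type} [AddCommGroup M] [Module k M] (v : X → M) : k[X] →ₗ[k] M :=
  (Finsupp.linearCombination k v).comp (coeffLinearEquiv k).toLinearMap

lemma liftMap_single {X M : Type} [AddCommGroup M] [Module k M] (v : X → M) (x : X) (c : k) :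
    liftMap v (single x c) = c • v x := by
  show Finsupp.linearCombination k v ((single x c).coeff) = _
  rw [coeff_single, Finsupp.linearCombination_single]

lemma isZero_H1_iff {H : Type} [Group H] (A : Rep.{0} k H) :
    Limits.IsZero (groupCohomology A 1) ↔
      ∀ c : H → A.V, (∀ g h, c (g * h) = A.ρ g (c h) + c g) → ∃ m : A.V, ∀ g, c g = A.ρ g m - m := by
  constructor
  · intro hz c hc
    haveI := ModuleCat.subsingleton_of_isZero hz
    obtain ⟨m, hm⟩ := (H1π_eq_zero_iff ⟨c, (mem_cocycles₁_iff c).mpr hc⟩).mp (Subsingleton.elim _ _)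
    exact ⟨m, fun g => (congr_fun hm g).symm⟩
  · intro h
    haveI : Subsingleton (H1 A) := subsingleton_of_forall_eq 0 fun x => by
      induction x using H1_induction_on with
      | h c =>
        rw [H1π_eq_zero_iff]
        obtain ⟨m, hm⟩ := h c ((mem_cocycles₁_iff _).mp c.2)
        exact ⟨m, funext fun g => (hm g).symm⟩
    exact ModuleCat.isZero_of_subsingleton (H1 A)

lemma splitting_of_h1 (Λ : Rep.{0} k Γ)
    (hH : ∀ Γ' : Subgroup Γ, Limits.IsZero (groupCohomology (Rep.res Γ'.subtype Λ) 1))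
    (X : Type) [MulAction Γ X] (E : ShortComplex (Rep.{0} k Γ)) (hE : E.ShortExact)
    (i1 : E.X₁ ≅ Λ) (i3 : E.X₃ ≅ Rep.ofMulAction k Γ X) : Nonempty E.Splitting := by
  classical
  have hmod := (ShortComplex.ShortExact.map_of_exact hE (forget₂ (Rep.{0} k Γ) (ModuleCat.{0} k)))
  have hinj : Function.Injective E.f.hom := hmod.moduleCat_injective_f
  have hsurj : Function.Surjective E.g.hom := hmod.moduleCat_surjective_g
  have hex : ∀ z, E.g.hom z = 0 → ∃ a, E.f.hom a = z := fun z hz =>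
    (ShortComplex.moduleCat_exact_iff _).mp hmod.exact z hz
  let f' := i1.inv ≫ E.f
  have hf'inj : Function.Injective f'.hom := fun a b h => by
    have hi : Function.Injective i1.inv.hom := (Representation.equivOfIso i1.symm).injective
    exact hi (hinj h)
  let g' := E.g ≫ i3.hom
  have hg'surj : Function.Surjective g'.hom := fun w => by
    obtain ⟨z, hz⟩ := hsurj (i3.inv.hom w)
    refine ⟨z, ?_⟩
    show i3.hom.hom (E.g.hom z) = w
    rw [hz]
    exact (Representation.equivOfIso i3).apply_symm_apply w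
  have hex' : ∀ z, g'.hom z = 0 → ∃ a, f'.hom a = z := fun z hz => by
    obtain ⟨a, ha⟩ := hex z (by
      apply (Representation.equivOfIso i3).injective
      rw [map_zero]; exact hz)
    refine ⟨i1.hom.hom a, ?_⟩
    show E.f.hom (i1.inv.hom (i1.hom.hom a)) = z
    exact (congr_arg E.f.hom ((Representation.equivOfIso i1).symm_apply_apply a)).trans ha
  have hgf : ∀ a, g'.hom (f'.hom a) = 0 := fun a => by
    have h0 : f' ≫ g' = 0 := by simp [f', g', E.zero_assoc]
    exact congr($(h0).hom a)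
  have hfix : ∀ x : X, ∃ e, g'.hom e = single x (1 : k) ∧
      ∀ h ∈ MulAction.stabilizer Γ x, E.X₂.ρ h e = e := by
    intro x
    obtain ⟨e₀, he₀⟩ := hg'surj (single x (1 : k))
    have hd : ∀ h : MulAction.stabilizer Γ x, ∃ a, f'.hom a = E.X₂.ρ (h : Γ) e₀ - e₀ := fun h => by
      refine hex' _ ?_
      rw [map_sub, he₀, Rep.hom_comm_apply g' (h : Γ) e₀, he₀]
      show Representation.ofMulAction k Γ X (h : Γ) (single x (1 : k)) - _ = 0
      rw [Representation.ofMulAction_single, MulAction.mem_stabilizer_iff.mp h.2, sub_self]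
    choose c hc using hd
    obtain ⟨m, hm⟩ := (isZero_H1_iff _).mp (hH (MulAction.stabilizer Γ x)) c (fun g h => by
      apply hf'inj
      show _ = f'.hom (Λ.ρ (g : Γ) (c h) + c g)
      rw [map_add, Rep.hom_comm_apply f' (g : Γ), hc, hc, hc, Subgroup.coe_mul, map_mul,
        Module.End.mul_apply, map_sub]
      abel)
    refine ⟨e₀ - f'.hom m, by rw [map_sub, hgf, sub_zero, he₀], fun h hh => ?_⟩
    have h2 : c ⟨h, hh⟩ = Λ.ρ h m - m := hm ⟨h, hh⟩
    have h1 := hc ⟨h, hh⟩
    rw [h2, map_sub, Rep.hom_comm_apply f' h] at h1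
    rw [map_sub]
    exact sub_eq_sub_iff_sub_eq_sub.mp h1.symm
  choose e he hef using hfix
  let x₀ : X → X := fun x => (Quotient.mk (MulAction.orbitRel Γ X) x).out
  have hx₀ : ∀ x, ∃ g : Γ, g • x₀ x = x := fun x => by
    have h : (MulAction.orbitRel Γ X) x (x₀ x) := Setoid.symm' _ (Quotient.mk_out (s := MulAction.orbitRel Γ X) x)
    exact h
  choose γ hγ using hx₀
  let v : X → E.X₂.V := fun x => E.X₂.ρ (γ x) (e (x₀ x))
  have hv : ∀ g x, v (g • x) = E.X₂.ρ g (v x) := by
    intro g x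
    have h0 : x₀ (g • x) = x₀ x :=
      congr_arg Quotient.out (Quotient.sound (MulAction.mem_orbit x g))
    have hs : (γ (g • x))⁻¹ * (g * γ x) ∈ MulAction.stabilizer Γ (x₀ x) := by
      rw [MulAction.mem_stabilizer_iff, mul_smul, mul_smul, hγ, inv_smul_eq_iff, ← h0, hγ]
    simp only [v, h0]
    conv_lhs => rw [← hef (x₀ x) _ hs]
    rw [← Module.End.mul_apply, ← map_mul, mul_inv_cancel_left, map_mul, Module.End.mul_apply]
  let sL : k[X] →ₗ[k] E.X₂.V := liftMap v
  let s' : Rep.ofMulAction k Γ X ⟶ E.X₂ := Rep.ofHom ⟨sL, fun g => MonoidAlgebra.lhom_ext' fun x => LinearMap.ext_ring (by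
    show sL (Representation.ofMulAction k Γ X g (single x (1 : k))) = E.X₂.ρ g (sL (single x (1 : k)))
    rw [Representation.ofMulAction_single, liftMap_single, liftMap_single, one_smul, one_smul, hv])⟩
  have hs' : s' ≫ g' = 𝟙 _ := by
    apply Rep.hom_ext
    apply Representation.IntertwiningMap.toLinearMap_injective
    refine MonoidAlgebra.lhom_ext' fun x => LinearMap.ext_ring ?_
    show g'.hom (sL (single x (1 : k))) = single x (1 : k)
    rw [liftMap_single, one_smul]
    show g'.hom (E.X₂.ρ (γ x) (e (x₀ x))) = _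
    rw [Rep.hom_comm_apply g', he]
    show Representation.ofMulAction k Γ X (γ x) (single (x₀ x) (1 : k)) = _
    rw [Representation.ofMulAction_single, hγ]
  haveI := hE.mono_f
  exact ⟨ShortComplex.Splitting.ofExactOfSection E hE.exact (i3.hom ≫ s') (by
    rw [Category.assoc, ← cancel_mono i3.hom, Category.assoc, Category.assoc, Category.id_comp]
    exact (congr_arg (i3.hom ≫ ·) hs').trans (Category.comp_id _)) inferInstance⟩

lemma h1_of_splitting [Finite Γ] (Λ : Rep.{0} k Γ)
    (hS : ∀ (X : Type) [MulAction Γ X] [Finite X] (E : ShortComplex (Rep.{0} k Γ)),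
        E.ShortExact → Nonempty (E.X₁ ≅ Λ) → Nonempty (E.X₃ ≅ Rep.ofMulAction k Γ X) →
          Nonempty E.Splitting)
    (H : Subgroup Γ) : Limits.IsZero (groupCohomology (Rep.res H.subtype Λ) 1) := by
  classical
  rw [isZero_H1_iff]
  intro (f : H → Λ.V) (hf : ∀ g h : H, f (g * h) = Λ.ρ (g : Γ) (f h) + f g)
  have hs : ∀ (g : Γ) (x : Γ ⧸ H), ((g • x).out)⁻¹ * (g * x.out) ∈ H := fun g x => by
    rw [← QuotientGroup.eq, QuotientGroup.out_eq']
    conv_lhs => rw [← QuotientGroup.out_eq' x]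
    rfl
  let c : Γ → Γ ⧸ H → Λ.V := fun g x => Λ.ρ (g • x).out (f ⟨_, hs g x⟩)
  have hc : ∀ g₁ g₂ x, c (g₁ * g₂) x = Λ.ρ g₁ (c g₂ x) + c g₁ (g₂ • x) := by
    intro g₁ g₂ x
    have e1 : (⟨_, hs (g₁ * g₂) x⟩ : H) = ⟨_, hs g₁ (g₂ • x)⟩ * ⟨_, hs g₂ x⟩ := by
      apply Subtype.ext
      simp only [Subgroup.coe_mul, mul_smul]
      group
    simp only [c]
    rw [e1, hf, map_add, ← Module.End.mul_apply, ← Module.End.mul_apply, ← map_mul, ← map_mul]
    simp only [mul_smul]
    congr 1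
    congr 2
    group
  let L : Γ → (k[Γ ⧸ H] →ₗ[k] Λ.V) := fun g => liftMap (c g)
  have hL : ∀ g₁ g₂ z, L (g₁ * g₂) z
      = Λ.ρ g₁ (L g₂ z) + L g₁ (Representation.ofMulAction k Γ (Γ ⧸ H) g₂ z) := by
    intro g₁ g₂ z
    have : L (g₁ * g₂) = (Λ.ρ g₁).comp (L g₂)
        + (L g₁).comp (Representation.ofMulAction k Γ (Γ ⧸ H) g₂) := by
      refine MonoidAlgebra.lhom_ext' fun x => ?_
      ext
      show L (g₁ * g₂) (single x (1 : k))
        = Λ.ρ g₁ (L g₂ (single x (1 : k))) + L g₁ (Representation.ofMulAction k Γ (Γ ⧸ H) g₂ (single x (1 : k)))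
      rw [Representation.ofMulAction_single]
      simp only [L, liftMap_single, one_smul, hc]
    exact congr($this z)
  let ρE : Representation k Γ (Λ.V × k[Γ ⧸ H]) :=
    { toFun := fun g => LinearMap.prod ((Λ.ρ g).comp (LinearMap.fst k _ _) + (L g).comp (LinearMap.snd k _ _))
        ((Representation.ofMulAction k Γ (Γ ⧸ H) g).comp (LinearMap.snd k _ _))
      map_one' := by
        have h1 : f 1 = 0 := by
          have := hf 1 1
          simpa using this
        have hL1 : L 1 = 0 := by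
          refine MonoidAlgebra.lhom_ext' fun x => ?_
          ext
          show L 1 (single x (1 : k)) = 0
          simp only [L, liftMap_single]
          rw [one_smul]
          show Λ.ρ _ (f ⟨_, hs 1 x⟩) = 0
          rw [show (⟨_, hs 1 x⟩ : H) = 1 from Subtype.ext (by simp), h1, map_zero]
        refine LinearMap.ext fun z => Prod.ext ?_ ?_
        · show Λ.ρ 1 z.1 + L 1 z.2 = z.1
          rw [hL1, map_one]; simp
        · show Representation.ofMulAction k Γ (Γ ⧸ H) 1 z.2 = z.2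
          rw [map_one]; rfl
      map_mul' := fun g₁ g₂ => by
        refine LinearMap.ext fun z => Prod.ext ?_ ?_
        · show Λ.ρ (g₁ * g₂) z.1 + L (g₁ * g₂) z.2
            = Λ.ρ g₁ (Λ.ρ g₂ z.1 + L g₂ z.2) + L g₁ (Representation.ofMulAction k Γ (Γ ⧸ H) g₂ z.2)
          rw [hL, map_mul, Module.End.mul_apply, map_add, add_assoc]
        · show Representation.ofMulAction k Γ (Γ ⧸ H) (g₁ * g₂) z.2 = _
          rw [map_mul]; rfl }
  let fE : Λ ⟶ Rep.of ρE := Rep.ofHom ⟨LinearMap.inl k _ _, fun g => LinearMap.ext fun a => Prod.ext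
    (by show Λ.ρ g a = Λ.ρ g a + L g 0; simp) (by show (0 : k[Γ ⧸ H]) = Representation.ofMulAction k Γ (Γ ⧸ H) g 0; simp)⟩
  let gE : Rep.of ρE ⟶ Rep.ofMulAction k Γ (Γ ⧸ H) :=
    Rep.ofHom ⟨LinearMap.snd k _ _, fun g => LinearMap.ext fun z => rfl⟩
  let E : ShortComplex (Rep.{0} k Γ) := ShortComplex.mk fE gE (by
    apply Rep.hom_ext
    apply Representation.IntertwiningMap.toLinearMap_injective
    exact LinearMap.ext fun a => rfl)
  have hE : E.ShortExact := by
    haveI hm : Mono E.f := (Rep.mono_iff_injective fE).mpr fun a b h => congr_arg Prod.fst h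
    haveI he : Epi E.g := (Rep.epi_iff_surjective gE).mpr fun z => ⟨(0, z), rfl⟩
    refine { exact := ?_ }
    rw [← E.exact_map_iff_of_faithful (forget₂ (Rep.{0} k Γ) (ModuleCat.{0} k)), ShortComplex.moduleCat_exact_iff]
    intro z hz
    exact ⟨z.1, Prod.ext rfl (by exact hz.symm)⟩
  obtain ⟨σ⟩ := hS (Γ ⧸ H) E hE ⟨Iso.refl _⟩ ⟨Iso.refl _⟩
  let x₁ : Γ ⧸ H := QuotientGroup.mk 1
  have hsg : gE.hom (σ.s.hom (single x₁ (1 : k))) = single x₁ (1 : k) := congr($(σ.s_g).hom (single x₁ (1 : k)))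
  obtain ⟨l, z, hlz⟩ : ∃ l z, σ.s.hom (single x₁ (1 : k)) = ((l, z) : Λ.V × k[Γ ⧸ H]) := ⟨_, _, rfl⟩
  rw [hlz] at hsg
  have hz : z = single x₁ (1 : k) := hsg
  subst hz
  let s₀ : H := ⟨x₁.out, by
    have h : (QuotientGroup.mk x₁.out : Γ ⧸ H) = QuotientGroup.mk 1 := QuotientGroup.out_eq' x₁
    rw [eq_comm, QuotientGroup.eq] at h
    simpa using h⟩
  refine ⟨-(l + f s₀), fun h => ?_⟩
  have hx : (h : Γ) • x₁ = x₁ := by
    show QuotientGroup.mk ((h : Γ) * 1) = QuotientGroup.mk 1
    rw [QuotientGroup.eq]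
    simp
  have hcomm := Rep.hom_comm_apply σ.s (h : Γ) (single x₁ (1 : k))
  rw [show (E.X₃.ρ (h : Γ)) (single x₁ (1 : k)) = single x₁ (1 : k) by
    show Representation.ofMulAction k Γ (Γ ⧸ H) (h : Γ) _ = _
    rw [Representation.ofMulAction_single, hx]] at hcomm
  rw [hlz] at hcomm
  have h1 : l = Λ.ρ (h : Γ) l + L h (single x₁ (1 : k)) := congr_arg Prod.fst hcomm
  have h2 : L h (single x₁ (1 : k)) = Λ.ρ (s₀ : Γ) (f (s₀⁻¹ * (h * s₀))) := by
    simp only [L, liftMap_single, one_smul, c]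
    congr 1
    · rw [hx]
    · congr 1
      apply Subtype.ext
      simp [s₀, hx]
  have h3 : Λ.ρ (s₀ : Γ) (f (s₀⁻¹ * (h * s₀))) = Λ.ρ (h : Γ) (f s₀) + f h - f s₀ := by
    have h4 := hf s₀ (s₀⁻¹ * (h * s₀))
    rw [mul_inv_cancel_left, hf h s₀] at h4
    rw [eq_sub_iff_add_eq, h4]
  rw [h2, h3] at h1
  show f h = Λ.ρ (h : Γ) (-(l + f s₀)) - -(l + f s₀)
  rw [map_neg, map_add]
  have h5 := sub_eq_zero.mpr h1
  rw [← sub_eq_zero]
  rw [← neg_eq_zero] at h5
  convert h5 using 1
  abel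

/-- For a finite group Γ and a Γ-lattice Λ (finitely generated free ℤ-module with Γ-action) the
following are equivalent: (i) H¹(Γ', Λ) = 0 for every subgroup Γ' ≤ Γ; (ii) Ext¹ over ℤ[Γ] of P into
Λ vanishes for every permutation lattice P = ℤ[X], X a finite Γ-set. Condition (ii) is stated
through Yoneda extensions: every short exact sequence 0 → Λ' → E → P → 0 of ℤ-linear
Γ-representations with Λ' ≅ Λ and P ≅ ℤ[X] splits. (These are the lattices called coflasque.) The
group, the lattice and the Γ-sets are taken in the lowest universe. -/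
theorem result
    (Γ : Type) [Group Γ] [Finite Γ] (Λ : Rep ℤ Γ) [Module.Free ℤ Λ.V] [Module.Finite ℤ Λ.V] :
    (∀ Γ' : Subgroup Γ, Limits.IsZero (groupCohomology (Rep.res Γ'.subtype Λ) 1)) ↔
      ∀ (X : Type) [MulAction Γ X] [Finite X] (E : ShortComplex (Rep ℤ Γ)),
        E.ShortExact → Nonempty (E.X₁ ≅ Λ) → Nonempty (E.X₃ ≅ Rep.ofMulAction ℤ Γ X) →
          Nonempty E.Splitting := by
  constructor
  · rintro hH X _ _ E hE ⟨i1⟩ ⟨i3⟩
    exact splitting_of_h1 Λ hH X E hE i1 i3
  · exact fun hS H => h1_of_splitting Λ hS H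

end Groth.Agent.S17849
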