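import Groth.Statements.S17855
import Groth.Agent.H18Patch.Quillen

set_option autoImplicit false
open CategoryTheory CategoryTheory.Limits MonoidalCategory CartesianMonoidalCategory MonObj GrpObj AlgebraicGeometry
universe u
open NonAbH1

namespace Groth.Agent.S17855

/-- For a group scheme locally of finite presentation, let R be a ring, G an R-group scheme locally of
finite presentation over S = Spec R, and r, r' ∈ R generating the unit ideal; let A = R[1/r], A' =
R[1/r'], B = R[1/rr']. For an R-algebra C write G₀(C) for the set of S-morphisms Spec C[T] → G whose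
restriction along T ↦ 0 (the S-morphism Spec C → Spec C[T]) is the unit. Then G₀(B) = G₀(A)·G₀(A'):
every g ∈ G₀(B) is the product, in the group of Spec B[T]-points of G, of the pullback of some g₁ ∈
G₀(A) and the pullback of some g₂ ∈ G₀(A') along Spec B[T] → Spec A[T], Spec A'[T]. The S-morphisms
induced by T ↦ 0 and by the localisation maps are taken as data determined by their underlying
scheme maps. The published statement also allows more general group functors and graded algebras. -/
theorem result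
    (R : Type u) [CommRing R]
    (G : Over (Spec (CommRingCat.of R))) [GrpObj G] [LocallyOfFinitePresentation G.hom]
    (r r' : R) (hrr : Ideal.span ({r, r'} : Set R) = ⊤)
    (A A' B : Type u) [CommRing A] [CommRing A'] [CommRing B] [Algebra R A] [Algebra R A'] [Algebra R B]
    [IsLocalization.Away r A] [IsLocalization.Away r' A'] [IsLocalization.Away (r * r') B]
    [Algebra A B] [Algebra A' B] [IsScalarTower R A B] [IsScalarTower R A' B]
    (eA : Over.mk (Spec.map (CommRingCat.ofHom (algebraMap R (A)))) ⟶ Over.mk (Spec.map (CommRingCat.ofHom (algebraMap R (Polynomial A)))))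
    (heA : eA.left = Spec.map (CommRingCat.ofHom (Polynomial.evalRingHom (0 : A))))
    (eA' : Over.mk (Spec.map (CommRingCat.ofHom (algebraMap R (A')))) ⟶ Over.mk (Spec.map (CommRingCat.ofHom (algebraMap R (Polynomial A')))))
    (heA' : eA'.left = Spec.map (CommRingCat.ofHom (Polynomial.evalRingHom (0 : A'))))
    (eB : Over.mk (Spec.map (CommRingCat.ofHom (algebraMap R (B)))) ⟶ Over.mk (Spec.map (CommRingCat.ofHom (algebraMap R (Polynomial B)))))
    (heB : eB.left = Spec.map (CommRingCat.ofHom (Polynomial.evalRingHom (0 : B))))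
    (tA : Over.mk (Spec.map (CommRingCat.ofHom (algebraMap R (Polynomial B)))) ⟶ Over.mk (Spec.map (CommRingCat.ofHom (algebraMap R (Polynomial A)))))
    (htA : tA.left = Spec.map (CommRingCat.ofHom (Polynomial.mapRingHom (algebraMap A B))))
    (tA' : Over.mk (Spec.map (CommRingCat.ofHom (algebraMap R (Polynomial B)))) ⟶ Over.mk (Spec.map (CommRingCat.ofHom (algebraMap R (Polynomial A')))))
    (htA' : tA'.left = Spec.map (CommRingCat.ofHom (Polynomial.mapRingHom (algebraMap A' B))))
    (g : Over.mk (Spec.map (CommRingCat.ofHom (algebraMap R (Polynomial B)))) ⟶ G) (hg : eB ≫ g = 1) :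
    ∃ (g₁ : Over.mk (Spec.map (CommRingCat.ofHom (algebraMap R (Polynomial A)))) ⟶ G) (g₂ : Over.mk (Spec.map (CommRingCat.ofHom (algebraMap R (Polynomial A')))) ⟶ G),
      eA ≫ g₁ = 1 ∧ eA' ≫ g₂ = 1 ∧ g = (tA ≫ g₁) * (tA' ≫ g₂) := by
  haveI hB : IsLocalization.Away (algebraMap R A r') B :=
    Groth.Agent.H18Patch.isLocalization_away_right r r'
  haveI : IsLocalization.Away (r' * r) B := by rwa [mul_comm]
  haveI hB' : IsLocalization.Away (algebraMap R A' r) B :=
    Groth.Agent.H18Patch.isLocalization_away_right r' r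
  have htA0 : tA = Groth.Agent.H18Patch.mor (Polynomial.mapAlgHom (IsScalarTower.toAlgHom R A B)) := by
    ext1; rw [htA]; rfl
  have htA'0 : tA' = Groth.Agent.H18Patch.mor (Polynomial.mapAlgHom (IsScalarTower.toAlgHom R A' B)) := by
    ext1; rw [htA']; rfl
  have heA0 : eA = Groth.Agent.H18Patch.mor (Groth.Agent.H18Patch.ev R (0 : A)) := by
    ext1; rw [heA]; rfl
  have heA'0 : eA' = Groth.Agent.H18Patch.mor (Groth.Agent.H18Patch.ev R (0 : A')) := by
    ext1; rw [heA']; rfl
  have heB0 : eB = Groth.Agent.H18Patch.mor (Groth.Agent.H18Patch.ev R (0 : B)) := by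
    ext1; rw [heB]; rfl
  rw [heB0] at hg
  obtain ⟨N, hN⟩ := Groth.Agent.H18Patch.exists_rescale_quotient (algebraMap R A r') g hg
  obtain ⟨N', hN'⟩ := Groth.Agent.H18Patch.exists_rescale_quotient (algebraMap R A' r) g hg
  obtain ⟨x, y, hxy⟩ : ∃ x y : R, x * r ^ N' + y * r' ^ N = 1 := by
    have h : IsCoprime r r' := by
      obtain ⟨a, b, hab⟩ := Ideal.mem_span_pair.1 (hrr ▸ Submodule.mem_top : (1 : R) ∈ Ideal.span {r, r'})
      exact ⟨a, b, hab⟩
    obtain ⟨x, y, hxy⟩ := (h.pow (m := N') (n := N))
    exact ⟨x, y, hxy⟩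
  -- `g = [g (T) / g (aT)] * [g (aT) / g (0)]` with `a = x r ^ N'`
  obtain ⟨g₁, h₁, h₁'⟩ := hN (algebraMap R A (x * r ^ N')) (algebraMap R A y)
  obtain ⟨g₂, h₂, h₂'⟩ := hN' 0 (algebraMap R A' x)
  refine ⟨g₁, g₂, heA0 ▸ h₁, heA'0 ▸ h₂, ?_⟩
  rw [htA0, htA'0, h₁', h₂']
  have e1 : algebraMap A B (algebraMap R A (x * r ^ N') + algebraMap R A r' ^ N * algebraMap R A y) = 1 := by
    rw [← map_pow, ← map_mul, ← map_add, mul_comm (r' ^ N), hxy, map_one, map_one]
  have e2 : algebraMap A' B (0 + algebraMap R A' r ^ N' * algebraMap R A' x) =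
      algebraMap A B (algebraMap R A (x * r ^ N')) := by
    rw [zero_add, ← map_pow, ← map_mul, ← IsScalarTower.algebraMap_apply, ← IsScalarTower.algebraMap_apply,
      mul_comm]
  have h10 : Groth.Agent.H18Patch.mor (Groth.Agent.H18Patch.scaleA R (1 : B)) ≫ g = g := by
    rw [show Groth.Agent.H18Patch.scaleA R (1 : B) = AlgHom.id R (Polynomial B) from
      AlgHom.ext fun f => Groth.Agent.H18Patch.scale_one f, Groth.Agent.H18Patch.mor_id]
    exact Category.id_comp g
  have h00 : Groth.Agent.H18Patch.mor (Groth.Agent.H18Patch.scaleA R (algebraMap A' B 0)) ≫ g = 1 := by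
    rw [map_zero, show Groth.Agent.H18Patch.scaleA R (0 : B) =
        (Groth.Agent.H18Patch.CA R B).comp (Groth.Agent.H18Patch.ev R (0 : B)) from
      Groth.Agent.H18Patch.algHom_ext' (fun x => by simp) (by simp),
      ← Groth.Agent.H18Patch.mor_mor_assoc, hg, Groth.Agent.H18Patch.mor_one]
  rw [e1, e2, h10, h00, inv_one, _root_.mul_one, inv_mul_cancel_right]

end Groth.Agent.S17855
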