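import Groth.Statements.S17859
import Mathlib.Algebra.Category.ModuleCat.Monoidal.Basic
import Mathlib.LinearAlgebra.Contraction
import Mathlib.RingTheory.Finiteness.Projective

set_option autoImplicit false
set_option linter.style.haveILetI false
open CategoryTheory MonoidalCategory
universe u
open Algz

namespace Groth.Agent.S17859

/-- Over an affine scheme, that is for modules over a commutative ring `R`, a finitely generated
projective `R`-module `M`, viewed as an object of the monoidal category of `R`-modules (tensor
product over `R`), has a right dual. (The published statement is the equivalence, for quasi-coherent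
sheaves on a quasi-compact quasi-separated scheme, between being dualizable and being a vector
bundle; stated here is the affine case of the implication from vector bundle to dualizable. The
converse implication, that a module admitting a dual is finitely generated projective, is stated
separately and is not repeated here.) -/
theorem result (R : Type u) [CommRing R] (M : ModuleCat.{u} R)
    [Module.Finite R M] [Module.Projective R M] : Nonempty (HasRightDual M) := by
  classical
  obtain ⟨n, f, g, -, -, hfg⟩ := Module.Finite.exists_comp_eq_id_of_projective R M
  let v : Fin n → M := fun i => f (Pi.single i 1)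
  let φ : Fin n → Module.Dual R M := fun i => LinearMap.proj i ∘ₗ g
  have hexp : ∀ x : M, ∑ i, φ i x • v i = x := by
    intro x
    have h1 : ∑ i, (g x i) • (Pi.single i (1 : R) : Fin n → R) = g x := by
      funext j
      simp [Finset.sum_apply, Pi.single_apply]
    calc ∑ i, φ i x • v i = f (∑ i, (g x i) • (Pi.single i (1 : R) : Fin n → R)) := by
          simp only [map_sum, map_smul]; rfl
      _ = x := by rw [h1]; exact LinearMap.congr_fun hfg x
  let D : ModuleCat.{u} R := ModuleCat.of R (Module.Dual R M)
  let η : R →ₗ[R] TensorProduct R M (Module.Dual R M) := LinearMap.toSpanSingleton R _ (∑ i, TensorProduct.tmul R (v i) (φ i))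
  have hη : η 1 = ∑ i, TensorProduct.tmul R (v i) (φ i) := by simp [η]
  have h1 : (contractLeft R M).rTensor _ ∘ₗ (TensorProduct.assoc R (Module.Dual R M) M (Module.Dual R M)).symm.toLinearMap ∘ₗ
      η.lTensor (Module.Dual R M) =
        (TensorProduct.lid R _).symm.toLinearMap ∘ₗ (TensorProduct.rid R _).toLinearMap := by
    refine TensorProduct.ext' fun ψ r => ?_
    have hr : TensorProduct.tmul R ψ r = r • TensorProduct.tmul R ψ (1 : R) := by
      rw [← TensorProduct.tmul_smul, smul_eq_mul, mul_one]
    rw [hr, map_smul, map_smul]
    congr 1
    simp only [LinearMap.coe_comp, Function.comp_apply, LinearEquiv.coe_toLinearMap, LinearMap.lTensor_tmul, hη,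
      TensorProduct.tmul_sum, map_sum, TensorProduct.assoc_symm_tmul, LinearMap.rTensor_tmul, contractLeft_apply,
      TensorProduct.rid_tmul, one_smul, TensorProduct.lid_symm_apply]
    have : ψ = ∑ i, ψ (v i) • φ i := by
      ext x
      conv_lhs => rw [← hexp x]
      simp [map_sum, mul_comm]
    conv_rhs => rw [this]
    rw [TensorProduct.tmul_sum]
    exact Finset.sum_congr rfl fun i _ => by rw [TensorProduct.tmul_smul, TensorProduct.smul_tmul', smul_eq_mul, mul_one]
  have h2 : (contractLeft R M).lTensor _ ∘ₗ (TensorProduct.assoc R M (Module.Dual R M) M).toLinearMap ∘ₗ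
      η.rTensor M =
        (TensorProduct.rid R _).symm.toLinearMap ∘ₗ (TensorProduct.lid R _).toLinearMap := by
    refine TensorProduct.ext' fun r x => ?_
    have hr : TensorProduct.tmul R r x = r • TensorProduct.tmul R (1 : R) x := by
      rw [TensorProduct.smul_tmul', smul_eq_mul, mul_one]
    rw [hr, map_smul, map_smul]
    congr 1
    simp only [LinearMap.coe_comp, Function.comp_apply, LinearEquiv.coe_toLinearMap, LinearMap.rTensor_tmul, hη,
      TensorProduct.sum_tmul, map_sum, TensorProduct.assoc_tmul, LinearMap.lTensor_tmul, contractLeft_apply,
      TensorProduct.lid_tmul, one_smul, TensorProduct.rid_symm_apply]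
    conv_rhs => rw [← hexp x]
    rw [TensorProduct.sum_tmul]
    exact Finset.sum_congr rfl fun i _ => by rw [TensorProduct.smul_tmul, smul_eq_mul, mul_one]
  letI : ExactPairing M D :=
    { coevaluation' := ModuleCat.ofHom η
      evaluation' := ModuleCat.ofHom (contractLeft R M)
      coevaluation_evaluation' := by ext : 1; exact h1
      evaluation_coevaluation' := by ext : 1; exact h2 }
  exact ⟨⟨D⟩⟩

end Groth.Agent.S17859
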