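import Groth.Statements.S17861
import Groth.Agent.H13PtsPi.Chart
-- import your own Groth.Agent.* helpers here

set_option autoImplicit false
set_option backward.isDefEq.respectTransparency false
open CategoryTheory AlgebraicGeometry
universe u
open Algz

namespace Groth.Agent.S17861

/-- Let `S` be an affine scheme, `X` a quasi-compact and quasi-separated algebraic space over `S`, and
`A i` a family of henselian local rings indexed by an arbitrary type, with a morphism `h` from the
spectrum of the product ring `Π i, A i` to `S` (so that each `Spec (A i)` is an `S`-scheme through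
the projection). Sending an `S`-morphism `Spec (Π i, A i) ⟶ X` to the family of its composites with
the morphisms `Spec (A i) ⟶ Spec (Π i, A i)` is a bijection onto the set of families of
`S`-morphisms `Spec (A i) ⟶ X`. (Over an affine base, quasi-separatedness relative to `S` agrees
with the absolute notion.) -/
theorem result (S : Scheme.{u}) [IsAffine S]
    (X : AlgSp.Space S) (hqc : AlgSp.IsQuasiCompactSp X.obj) (hqs : AlgSp.IsQuasiSeparatedSp X.obj)
    {ι : Type u} (A : ι → CommRingCat.{u}) [∀ i, HenselianLocalRing (A i)]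
    (h : Spec (CommRingCat.of (∀ i, A i)) ⟶ S) :
    Function.Bijective (fun g : (AlgSp.ofScheme S).obj (Over.mk h) ⟶ X => fun i : ι =>
      (AlgSp.ofScheme S).map (Over.homMk
        (Spec.map (CommRingCat.ofHom (Pi.evalRingHom (fun j => (A j : Type u)) i)))
        rfl : Over.mk (Spec.map (CommRingCat.ofHom (Pi.evalRingHom (fun j => (A j : Type u)) i)) ≫ h) ⟶
          Over.mk h) ≫ g) := by
  haveI : QuasiSeparatedSpace S := inferInstance
  let P : Over S := Over.mk h
  let ev : ∀ i, Spec (A i) ⟶ P.left := fun i =>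
    Spec.map (CommRingCat.ofHom (Pi.evalRingHom (fun j => (A j : Type u)) i))
  let P' : ι → Over S := fun i => Over.mk (ev i ≫ h)
  let ε : ∀ i, P' i ⟶ P := fun i => Over.homMk (ev i) rfl
  refine ⟨fun g g' e => ?_, fun x => ?_⟩
  · obtain ⟨g₀, hg₀⟩ : ∃ g₀ : (AlgSp.yon S).obj P ⟶ X.obj, g₀ = g.hom := ⟨g.hom, rfl⟩
    obtain ⟨g₁, hg₁⟩ : ∃ g₁ : (AlgSp.yon S).obj P ⟶ X.obj, g₁ = g'.hom := ⟨g'.hom, rfl⟩
    have he : ∀ i, (AlgSp.yon S).map (ε i) ≫ g₀ = (AlgSp.yon S).map (ε i) ≫ g₁ := fun i => by
      subst hg₀; subst hg₁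
      exact congrArg (fun m : (AlgSp.ofScheme S).obj (P' i) ⟶ X => m.hom) (congrFun e i)
    suffices g₀ = g₁ from ObjectProperty.hom_ext _ (hg₀.symm.trans (this.trans hg₁))
    obtain ⟨E, k, a, sq⟩ := hqs.rep (Limits.prod.lift g₀ g₁)
    haveI : QuasiCompact k.left := hqs.property _ _ k sq
    haveI : CompactSpace P.left := inferInstanceAs (CompactSpace (Spec _))
    haveI : QuasiSeparatedSpace P.left := inferInstanceAs (QuasiSeparatedSpace (Spec _))
    haveI : CompactSpace E.left := QuasiCompact.compactSpace_of_compactSpace k.left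
    have hl : ∀ i, ∃ l : P' i ⟶ E, l ≫ k = ε i := fun i => by
      obtain ⟨l', hl₁, hl₂⟩ := sq.exists_lift ((AlgSp.yon S).map (ε i) ≫ g₀) ((AlgSp.yon S).map (ε i)) (by
        apply Limits.prod.hom_ext
        · simp [Limits.diag]
        · simp [Limits.diag, he i])
      obtain ⟨l, rfl⟩ := (AlgSp.yon S).map_surjective l'
      exact ⟨l, (AlgSp.yon S).map_injective (by rw [Functor.map_comp, hl₂])⟩
    choose l hl using hl
    obtain ⟨s, hs⟩ := pointsPi_surjective A E.left (fun i => (l i).left)
    have hsk : s ≫ k.left = 𝟙 _ := pointsPi_injective A P.left (funext fun i => by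
      show ev i ≫ s ≫ k.left = ev i ≫ 𝟙 _
      rw [← Category.assoc, show ev i ≫ s = (l i).left from congrFun hs i, Category.comp_id]
      exact congrArg (fun f => Over.Hom.left f) (hl i))
    let σ : P ⟶ E := Over.homMk s (by rw [← Over.w k, reassoc_of% hsk])
    have hσ : σ ≫ k = 𝟙 P := Over.OverMorphism.ext hsk
    have w : (AlgSp.yon S).map σ ≫ a ≫ Limits.diag X.obj =
        (AlgSp.yon S).map σ ≫ (AlgSp.yon S).map k ≫ Limits.prod.lift g₀ g₁ := by rw [sq.w]
    rw [← Functor.map_comp_assoc, hσ, CategoryTheory.Functor.map_id, Category.id_comp] at w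
    have h₁ : (AlgSp.yon S).map σ ≫ a = g₀ := by simpa [Limits.diag] using congrArg (· ≫ Limits.prod.fst) w
    have h₂ : (AlgSp.yon S).map σ ≫ a = g₁ := by simpa [Limits.diag] using congrArg (· ≫ Limits.prod.snd) w
    exact h₁.symm.trans h₂
  · obtain ⟨U, q, hU, hq, hlift⟩ := H13PtsPi.exists_affine_henselian_chart X hqc hqs
    haveI := hU
    choose u hu using fun i => hlift (A i) (ev i ≫ h) (x i).hom
    obtain ⟨s, hs⟩ := pointsPi_surjective_of_isAffine A U.left (fun i => (u i).left)
    have hsU : s ≫ U.hom = h := pointsPi_injective A S (funext fun i => by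
      show ev i ≫ s ≫ U.hom = ev i ≫ h
      rw [← Category.assoc, show ev i ≫ s = (u i).left from congrFun hs i]
      exact Over.w (u i))
    let σ : P ⟶ U := Over.homMk s hsU
    refine ⟨ObjectProperty.homMk ((AlgSp.yon S).map σ ≫ q), funext fun i => ObjectProperty.hom_ext _ ?_⟩
    show (AlgSp.yon S).map (ε i) ≫ (AlgSp.yon S).map σ ≫ q = (x i).hom
    rw [← Functor.map_comp_assoc, show ε i ≫ σ = u i from Over.OverMorphism.ext (congrFun hs i)]
    exact hu i

end Groth.Agent.S17861
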