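import Groth.Statements.S17862
import Groth.Agent.S17856

set_option autoImplicit false
set_option linter.style.haveILetI false
open CategoryTheory AlgebraicGeometry
universe u
open Algz
open Groth.Agent

namespace Groth.Agent.S17862

/-- Let `S` be an affine scheme, `X` a quasi-compact and quasi-separated algebraic space over `S`, and
`A i` a family of commutative rings indexed by an arbitrary type, with a morphism `h` from the
spectrum of the product ring to `S`. Two `S`-morphisms `Spec (Π i, A i) ⟶ X` that agree after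
composition with every `Spec (A i) ⟶ Spec (Π i, A i)` are equal. (For schemes this is the
injectivity half of the corresponding bijection; the algebraic-space case is the one stated here.
Over an affine base, relative and absolute quasi-separatedness agree.) -/
theorem result (S : Scheme.{u}) [IsAffine S]
    (X : AlgSp.Space S) (hqc : AlgSp.IsQuasiCompactSp X.obj) (hqs : AlgSp.IsQuasiSeparatedSp X.obj)
    {ι : Type u} (A : ι → CommRingCat.{u}) (h : Spec (CommRingCat.of (∀ i, A i)) ⟶ S) :
    Function.Injective (fun g : (AlgSp.ofScheme S).obj (Over.mk h) ⟶ X => fun i : ι =>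
      (AlgSp.ofScheme S).map (Over.homMk
        (Spec.map (CommRingCat.ofHom (Pi.evalRingHom (fun j => (A j : Type u)) i)))
        rfl : Over.mk (Spec.map (CommRingCat.ofHom (Pi.evalRingHom (fun j => (A j : Type u)) i)) ≫ h) ⟶
          Over.mk h) ≫ g) := by
  intro g₁ g₂ hg
  have hg' := fun i => congrArg (fun m : _ ⟶ X => m.hom) (congrFun hg i)
  let T : Over S := Over.mk h
  let π : ∀ i, Over.mk (H24Algz.PiPoints.pr A i ≫ h) ⟶ T := fun i => Over.homMk (H24Algz.PiPoints.pr A i) rfl
  have hπ : ∀ i, (AlgSp.yon S).map (π i) ≫ g₁.hom = (AlgSp.yon S).map (π i) ≫ g₂.hom := fun i => hg' i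
  let a₁ : (AlgSp.yon S).obj T ⟶ X.obj := g₁.hom
  let a₂ : (AlgSp.yon S).obj T ⟶ X.obj := g₂.hom
  let l : (AlgSp.yon S).obj T ⟶ X.obj ⨯ X.obj := Limits.prod.lift a₁ a₂
  have sq := hqs.rep.isPullback l
  haveI hqc' : QuasiCompact (hqs.rep.snd l).left := hqs.property_snd l
  haveI : Mono (Limits.diag X.obj) :=
    (inferInstance : IsSplitMono (Limits.diag X.obj)).mono
  haveI : Mono ((AlgSp.yon S).map (hqs.rep.snd l)) := sq.mono_snd_of_mono
  haveI : Mono (hqs.rep.snd l) := (AlgSp.yon S).mono_of_mono_map inferInstance
  haveI : Mono (hqs.rep.snd l).left := inferInstanceAs (Mono ((Over.forget S).map (hqs.rep.snd l)))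
  haveI : IsSeparated (hqs.rep.snd l).left := inferInstance
  haveI : IsAffine T.left := inferInstanceAs (IsAffine (Spec (CommRingCat.of (∀ i, A i))))
  haveI : CompactSpace (hqs.rep.pullback l).left := QuasiCompact.compactSpace_of_compactSpace (hqs.rep.snd l).left
  haveI : QuasiSeparatedSpace (hqs.rep.pullback l).left :=
    quasiSeparatedSpace_of_quasiSeparated (hqs.rep.snd l).left
  have hsq : ∀ i, ((AlgSp.yon S).map (π i) ≫ a₁) ≫ Limits.diag X.obj = (AlgSp.yon S).map (π i) ≫ l := by
    intro i
    refine Limits.prod.hom_ext ?_ ?_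
    · simp only [l, Category.assoc, Limits.prod.lift_fst, Category.comp_id]
    · simp only [l, Category.assoc, Limits.prod.lift_snd, Category.comp_id]
      exact hπ i
  obtain ⟨s, hs⟩ := (S17856.result (hqs.rep.pullback l).left A).2 fun i =>
    (hqs.rep.lift ((AlgSp.yon S).map (π i) ≫ a₁) (π i) (hsq i)).left
  have hs1 : s ≫ (hqs.rep.snd l).left = 𝟙 _ := by
    refine H24Algz.PiPoints.hom_ext A _ _ fun i => ?_
    rw [← Category.assoc, Category.comp_id]
    rw [show H24Algz.PiPoints.pr A i ≫ s = _ from congrFun hs i, ← Over.comp_left,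
      Functor.relativelyRepresentable.lift_snd]
    rfl
  let s' : T ⟶ hqs.rep.pullback l := Over.homMk s (by
    rw [← Over.w (hqs.rep.snd l), ← Category.assoc, hs1]
    exact Category.id_comp _)
  have hs2 : s' ≫ hqs.rep.snd l = 𝟙 T := Over.OverMorphism.ext hs1
  have e := congrArg (fun m => (AlgSp.yon S).map s' ≫ m) sq.w
  simp only [← Category.assoc, ← Functor.map_comp, hs2, Functor.map_id, Category.id_comp] at e
  refine InducedCategory.hom_ext ?_
  have e1 := congrArg (fun m => m ≫ Limits.prod.fst) e
  have e2 := congrArg (fun m => m ≫ Limits.prod.snd) e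
  simp only [l, Category.assoc, Limits.prod.lift_fst, Limits.prod.lift_snd, Category.comp_id] at e1 e2
  exact e1.symm.trans e2

end Groth.Agent.S17862
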