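import Groth.Statements.S17863
import Mathlib.AlgebraicGeometry.QuasiAffine
import Mathlib.RingTheory.AdicCompletion.RingHom

set_option autoImplicit false
set_option linter.style.haveILetI false
open CategoryTheory AlgebraicGeometry
universe u
open Algz

namespace Groth.Agent.S17863

/-- Let `A` be a commutative ring which is `I`-adically complete for an ideal `I` and let `X` be a
quasi-affine scheme. Then the natural map from `X(A)` to compatible systems in the `X(A/I^n)` is
bijective: two morphisms `Spec A ⟶ X` with the same restriction to every `Spec (A/I^n)` are equal,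
and every family of morphisms `Spec (A/I^n) ⟶ X` compatible with the transition maps `Spec (A/I^n) ⟶
Spec (A/I^(n+1))` is the family of restrictions of a morphism `Spec A ⟶ X`. -/
theorem result (A : Type u) [CommRing A] (I : Ideal A) [IsAdicComplete I A]
    (X : Scheme.{u}) [X.IsQuasiAffine] :
    (∀ f g : Spec (CommRingCat.of A) ⟶ X,
      (∀ n : ℕ, Spec.map (CommRingCat.ofHom (Ideal.Quotient.mk (I ^ n))) ≫ f =
        Spec.map (CommRingCat.ofHom (Ideal.Quotient.mk (I ^ n))) ≫ g) → f = g) ∧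
    (∀ e : ∀ n : ℕ, Spec (CommRingCat.of (A ⧸ I ^ n)) ⟶ X,
      (∀ n : ℕ, Spec.map (CommRingCat.ofHom (Ideal.Quotient.factorPowSucc I n)) ≫ e (n + 1) = e n) →
      ∃ f : Spec (CommRingCat.of A) ⟶ X,
        ∀ n : ℕ, Spec.map (CommRingCat.ofHom (Ideal.Quotient.mk (I ^ n))) ≫ f = e n) := by
  haveI : IsOpenImmersion X.toSpecΓ := inferInstance
  let j := X.toSpecΓ
  have hmk : ∀ (g : Γ(X, ⊤) →+* A) (n : ℕ),
      Spec.map (CommRingCat.ofHom (Ideal.Quotient.mk (I ^ n))) ≫ Spec.map (CommRingCat.ofHom g) =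
        Spec.map (CommRingCat.ofHom ((Ideal.Quotient.mk (I ^ n)).comp g)) := fun g n => by
    rw [← Spec.map_comp, ← CommRingCat.ofHom_comp]
  refine ⟨fun f g h => ?_, fun e he => ?_⟩
  · rw [← cancel_mono j]
    obtain ⟨a, ha⟩ := Spec.map_surjective (f ≫ j)
    obtain ⟨b, hb⟩ := Spec.map_surjective (g ≫ j)
    rw [← ha, ← hb]
    refine congrArg Spec.map (CommRingCat.hom_ext (RingHom.ext fun x => sub_eq_zero.mp
      (IsHausdorff.haus (I := I) inferInstance _ fun n => ?_)))
    have h1 := congrArg (fun t => t ≫ j) (h n)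
    simp only [Category.assoc, ← ha, ← hb, ← Spec.map_comp] at h1
    have h2 := congrArg (fun t => t.hom x) (Spec.map_injective h1)
    simp only [CommRingCat.hom_comp, CommRingCat.hom_ofHom, RingHom.comp_apply] at h2
    rw [SModEq.sub_mem, sub_zero, smul_eq_mul, Ideal.mul_top]
    exact Ideal.Quotient.eq.mp h2
  choose φ hφ using fun n => Spec.map_surjective (e n ≫ j)
  let g : ∀ n, Γ(X, ⊤) →+* A ⧸ I ^ n := fun n => (φ n).hom
  have hg1 : ∀ n, (Ideal.Quotient.factorPowSucc I n).comp (g (n + 1)) = g n := by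
    intro n
    have h1 := congrArg (fun t => t ≫ j) (he n)
    simp only [Category.assoc, ← hφ, ← Spec.map_comp] at h1
    exact congrArg CommRingCat.Hom.hom (Spec.map_injective h1)
  have hg : ∀ {m n : ℕ} (hle : m ≤ n), (Ideal.Quotient.factorPow I hle).comp (g n) = g m := by
    intro m n hle
    induction hle with
    | refl =>
      refine RingHom.ext fun x => ?_
      obtain ⟨y, hy⟩ := Ideal.Quotient.mk_surjective (g m x)
      simp [← hy]
    | @step k hle ih =>
      refine RingHom.ext fun x => ?_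
      rw [← ih, ← hg1 k]
      obtain ⟨y, hy⟩ := Ideal.Quotient.mk_surjective (g (k + 1) x)
      simp only [RingHom.comp_apply, ← hy]
      rfl
  let G : Γ(X, ⊤) →+* A := IsAdicComplete.liftRingHom I g hg
  let f' : Spec (CommRingCat.of A) ⟶ Spec Γ(X, ⊤) := Spec.map (CommRingCat.ofHom G)
  have hfac : ∀ n, Spec.map (CommRingCat.ofHom (Ideal.Quotient.mk (I ^ n))) ≫ f' = e n ≫ j := fun n => by
    rw [hmk, IsAdicComplete.mk_comp_liftRingHom, ← hφ]
    rfl
  have hrange : Set.range f' ⊆ Set.range j := by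
    rintro _ ⟨P, rfl⟩
    obtain ⟨M, hM, hPM⟩ := Ideal.exists_le_maximal P.asIdeal P.2.ne_top
    let M' : PrimeSpectrum A := ⟨M, hM.isPrime⟩
    have hspec : (P : Spec (CommRingCat.of A)) ⤳ M' := (PrimeSpectrum.le_iff_specializes P M').mp hPM
    have hIM : I ≤ M := (IsAdicComplete.le_jacobson_bot I).trans (sInf_le ⟨bot_le, hM⟩)
    have hker : RingHom.ker (Ideal.Quotient.mk (I ^ 1)) ≤ M := by rw [Ideal.mk_ker, pow_one]; exact hIM
    haveI : (M.map (Ideal.Quotient.mk (I ^ 1))).IsPrime :=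
      @Ideal.map_isPrime_of_surjective _ _ _ _ _ _ _ _ Ideal.Quotient.mk_surjective _ hM.isPrime hker
    have hM' : (Spec.map (CommRingCat.ofHom (Ideal.Quotient.mk (I ^ 1)))).base
        (⟨M.map (Ideal.Quotient.mk (I ^ 1)), inferInstance⟩ : PrimeSpectrum (A ⧸ I ^ 1)) = M' := by
      refine PrimeSpectrum.ext ?_
      show (M.map (Ideal.Quotient.mk (I ^ 1))).comap (Ideal.Quotient.mk (I ^ 1)) = M
      rw [Ideal.comap_map_of_surjective _ Ideal.Quotient.mk_surjective, ← RingHom.ker_eq_comap_bot, sup_eq_left]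
      exact hker
    have hmem : f' M' ∈ Set.range j := by
      rw [← hM']
      let z : Spec (CommRingCat.of (A ⧸ I ^ 1)) := (⟨M.map (Ideal.Quotient.mk (I ^ 1)), inferInstance⟩ : PrimeSpectrum (A ⧸ I ^ 1))
      exact ⟨e 1 z, congrArg (fun t : Spec (CommRingCat.of (A ⧸ I ^ 1)) ⟶ Spec Γ(X, ⊤) => t.base z) (hfac 1).symm⟩
    exact hspec.map f'.continuous |>.mem_open j.isOpenEmbedding.isOpen_range hmem
  refine ⟨IsOpenImmersion.lift j f' hrange, fun n => ?_⟩
  rw [← cancel_mono j, Category.assoc, IsOpenImmersion.lift_fac, hfac]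

end Groth.Agent.S17863
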