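import Groth.Statements.S17864
import Mathlib.Tactic
import Mathlib.RingTheory.AdicCompletion.Basic
import Mathlib.RingTheory.Finiteness.Projective

set_option autoImplicit false
set_option linter.style.haveILetI false
universe u
open Algz

namespace Groth.Agent.S17864

/-- The full-faithfulness assertion. Let `A` be a commutative ring which is `I`-adically complete for an
ideal `I`, and `P`, `Q` finitely generated projective `A`-modules. An `A`-linear map `P → Q` is
determined by its reductions modulo the powers `I^n`, and every family of `A`-linear maps `P/I^n P →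
Q/I^n Q` compatible with the transition maps is the family of reductions of an `A`-linear map `P →
Q`. (The companion assertion, that compatible systems of finite projective modules over the rings
`A/I^n` lift to `A`, is not restated here.) -/
theorem result (A : Type u) [CommRing A] (I : Ideal A)
    [IsAdicComplete I A] (P Q : Type u) [AddCommGroup P] [Module A P] [Module.Finite A P]
    [Module.Projective A P] [AddCommGroup Q] [Module A Q] [Module.Finite A Q] [Module.Projective A Q] :
    (∀ f f' : P →ₗ[A] Q, (∀ n : ℕ, f.reduceModIdeal (I ^ n) = f'.reduceModIdeal (I ^ n)) → f = f') ∧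
    (∀ g : ∀ n : ℕ, P ⧸ (I ^ n • ⊤ : Submodule A P) →ₗ[A] Q ⧸ (I ^ n • ⊤ : Submodule A Q),
      (∀ n : ℕ, AdicCompletion.transitionMap I Q (Nat.le_succ n) ∘ₗ g (n + 1) =
        g n ∘ₗ AdicCompletion.transitionMap I P (Nat.le_succ n)) →
      ∃ f : P →ₗ[A] Q, ∀ n : ℕ, f.reduceModIdeal (I ^ n) = g n) := by
    classical
    haveI : IsAdicComplete I Q := by
      obtain ⟨m, f, g, -, -, hfg⟩ := Module.Finite.exists_comp_eq_id_of_projective A Q
      have hgf : ∀ q, f (g q) = q := fun q => LinearMap.congr_fun hfg q
      have hpi : ∀ (j : ℕ) (x : Fin m → A), (∀ i, x i ∈ (I ^ j • ⊤ : Submodule A A)) →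
          x ∈ (I ^ j • ⊤ : Submodule A (Fin m → A)) := fun j x hx => by
        rw [pi_eq_sum_univ x]
        exact Submodule.sum_mem _ fun i _ => Submodule.smul_mem_smul (by simpa using hx i) Submodule.mem_top
      have hproj : ∀ (j : ℕ) (q : Q), q ∈ (I ^ j • ⊤ : Submodule A Q) → ∀ i, g q i ∈ (I ^ j • ⊤ : Submodule A A) :=
        fun j q hq i => by
          have h := Submodule.mem_map_of_mem (f := (LinearMap.proj i : (Fin m → A) →ₗ[A] A) ∘ₗ g) hq
          rw [Submodule.map_smul''] at h
          exact Submodule.smul_mono le_rfl le_top h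
      haveI : IsHausdorff I Q := ⟨fun q hq => by
        have : g q = 0 := funext fun i => IsHausdorff.haus (I := I) inferInstance _ fun j =>
          SModEq.zero.mpr (hproj j q (SModEq.zero.mp (hq j)) i)
        rw [← hgf q, this, map_zero]⟩
      haveI : IsPrecomplete I Q := ⟨fun x hx => by
        have hlim : ∀ i, ∃ L : A, ∀ j, g (x j) i ≡ L [SMOD (I ^ j • ⊤ : Submodule A A)] := fun i =>
          IsPrecomplete.prec inferInstance fun {a b} hab => by
            have := hx hab
            rw [SModEq.sub_mem] at this ⊢
            simpa using hproj a _ this i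
        choose L hL using hlim
        refine ⟨f L, fun j => ?_⟩
        rw [SModEq.sub_mem, ← hgf (x j), ← map_sub]
        have h := Submodule.mem_map_of_mem (f := f) (hpi j (g (x j) - L) fun i => SModEq.sub_mem.mp (hL i j))
        rw [Submodule.map_smul''] at h
        exact Submodule.smul_mono le_rfl le_top h⟩
      exact ⟨⟩
    refine ⟨fun f f' h => LinearMap.ext fun x => sub_eq_zero.mp (IsHausdorff.haus (I := I) inferInstance _ fun n => ?_), fun g hg => ?_⟩
    · rw [SModEq.zero, ← Submodule.Quotient.mk_eq_zero, Submodule.Quotient.mk_sub, sub_eq_zero]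
      exact LinearMap.congr_fun (h n) (Submodule.Quotient.mk x)
    · let F : ∀ n : ℕ, P →ₗ[A] Q ⧸ (I ^ n • ⊤ : Submodule A Q) := fun n => g n ∘ₗ Submodule.mkQ _
      have hc : ∀ {m n : ℕ} (hle : m ≤ n), AdicCompletion.transitionMap I Q hle ∘ₗ F n = F m := by
        intro m n hle
        induction hle with
        | refl => exact LinearMap.ext fun x => by simp [F]
        | @step n hle ih =>
          refine LinearMap.ext fun x => ?_
          have h1 := LinearMap.congr_fun (hg n) (Submodule.Quotient.mk x)
          have h2 := LinearMap.congr_fun ih x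
          simp only [LinearMap.comp_apply, F, Submodule.mkQ_apply] at h1 h2 ⊢
          obtain ⟨w, hw⟩ := Submodule.Quotient.mk_surjective _ (g (n + 1) (Submodule.Quotient.mk x))
          rw [← hw] at h1 ⊢
          rw [← h2, show (g n) (Submodule.Quotient.mk x) = (g n) (AdicCompletion.transitionMap I P (Nat.le_succ n) (Submodule.Quotient.mk x)) from rfl, ← h1]
          rfl
      refine ⟨IsAdicComplete.lift I F hc, fun n => LinearMap.ext fun q => ?_⟩
      obtain ⟨x, rfl⟩ := Submodule.Quotient.mk_surjective _ q
      exact IsAdicComplete.mk_lift I hc n x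

end Groth.Agent.S17864
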