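import Groth.Statements.S17867
import Groth.Agent.H24Algz.NisGenerators

set_option autoImplicit false
open CategoryTheory AlgebraicGeometry
universe u
open Algz

namespace Groth.Agent.S17867

/-- In the case of schemes. Let `R` be a commutative ring and `f : U ⟶ Spec R` a Nisnevich cover of
length at most `m`, with `U` a quasi-compact quasi-separated scheme, and let `M` be a finite
`R`-module. If the pullback `f^* M~` of the associated sheaf of modules is a quotient of the free
module of rank `N` on `U` (it is generated by `N` global sections), then `M` is generated by `N * m`
elements. (Finite generation of `M` follows from the other hypotheses by faithfully flat descent and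
is assumed here; the original form is for a Nisnevich cover by a quasi-compact quasi-separated
algebraic space, stated here for a scheme `U`.) -/
theorem result (R : CommRingCat.{u}) (M : ModuleCat.{u} R)
    [Module.Finite R M] {U : Scheme.{u}} [CompactSpace U] [QuasiSeparatedSpace U]
    (f : U ⟶ Spec R) (m N : ℕ) (hf : W4c5algebraiztannaka.IsNisCoverLen f m)
    (hgen : ∃ φ : FlatMod.freeMod U N ⟶ (Scheme.Modules.pullback f).obj (AlgebraicGeometry.tilde M), Epi φ) :
    ∃ s : Fin (N * m) → M, Submodule.span R (Set.range s) = ⊤ := by
  exact Groth.Agent.H24Algz.exists_generators_card_mul_of_isNisCoverLen R M f m N hf hgen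

end Groth.Agent.S17867
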