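import Groth.Statements.S17868
import Groth.Agent.H24Algz.UniformCover
import Groth.Agent.H24Algz.NisCover

set_option autoImplicit false
set_option linter.style.haveILetI false
open CategoryTheory AlgebraicGeometry
universe u
open Algz

namespace Groth.Agent.S17868

/-- In the case of schemes with an affine source. Let `f : U ⟶ Y` be a Nisnevich cover of length at most
`m'` with `U` affine and `Y` quasi-compact quasi-separated. There is a natural number `m` such that
for every commutative ring `B` and every morphism `g : Spec B ⟶ Y` there exist an affine scheme `V`,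
a Nisnevich cover `v : V ⟶ Spec B` of length at most `m`, and a morphism `w : V ⟶ U` over `Y` (that
is, `w ≫ f = v ≫ g`). (The original form allows `U` to be any quasi-compact quasi-separated
algebraic space; `U` is taken affine here, which makes `f` quasi-affine.) -/
theorem result {U Y : Scheme.{u}} [IsAffine U]
    [CompactSpace Y] [QuasiSeparatedSpace Y] (f : U ⟶ Y) (m' : ℕ)
    (hf : W4c5algebraiztannaka.IsNisCoverLen f m') :
    ∃ m : ℕ, ∀ (B : CommRingCat.{u}) (g : Spec B ⟶ Y),
      ∃ (V : Scheme.{u}) (_ : IsAffine V) (v : V ⟶ Spec B) (w : V ⟶ U),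
        W4c5algebraiztannaka.IsNisCoverLen v m ∧ w ≫ f = v ≫ g := by
  classical
  obtain ⟨k, hk⟩ := Groth.Agent.H24Algz.exists_uniform_affine_cover_pullback f
  refine ⟨k * m', fun B g => ?_⟩
  obtain ⟨W, hW, hcov⟩ := hk B g
  haveI : CompactSpace ↥(Limits.pullback f g) := by
    constructor
    have h : (Set.univ : Set ↥(Limits.pullback f g)) = ⋃ i, (W i : Set ↥(Limits.pullback f g)) := by
      rw [← TopologicalSpace.Opens.coe_iSup, hcov]; rfl
    rw [h]
    exact isCompact_iUnion fun i => (hW i).isCompact
  haveI : QuasiSeparatedSpace U := inferInstance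
  haveI : QuasiSeparated f := QuasiSeparated.of_quasiSeparatedSpace f
  haveI : QuasiSeparated (Limits.pullback.snd f g) := MorphismProperty.pullback_snd _ _ ‹QuasiSeparated f›
  haveI : QuasiSeparatedSpace ↥(Limits.pullback f g) :=
    quasiSeparatedSpace_of_quasiSeparated (Limits.pullback.snd f g)
  have h1 := Groth.Agent.H24Algz.isNisCoverLen_sigma_desc_opens k W (fun i => (hW i).isCompact) hcov
  have h2 := Groth.Agent.H24Algz.isNisCoverLen_pullback_snd f g m' hf
  haveI : ∀ i, IsAffine ((W i : (Limits.pullback f g).Opens) : Scheme.{u}) := hW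
  refine ⟨∐ fun i => ((W i : (Limits.pullback f g).Opens) : Scheme.{u}), inferInstance,
    Limits.Sigma.desc (fun i => (W i).ι) ≫ Limits.pullback.snd f g,
    Limits.Sigma.desc (fun i => (W i).ι) ≫ Limits.pullback.fst f g,
    Groth.Agent.H24Algz.isNisCoverLen_comp_mul _ _ _ _ h1 h2, ?_⟩
  rw [Category.assoc, Category.assoc, Limits.pullback.condition]

end Groth.Agent.S17868
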