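import Groth.Statements.S1787
import Groth.Agent.H4DR.FlatBC.Descent

set_option autoImplicit false
universe u
open CategoryTheory
attribute [local instance] HasDerivedCategory.standard
open Dual

namespace Groth.Agent.S1787

/-- Let A be a Noetherian ring and f_1, …, f_n elements generating the unit ideal. Let ω be an object of
D(A) such that for each i, assuming the derived base change functor D(A) → D(A_{f_i}) exists, the
base change of ω is a dualizing complex for A_{f_i}. Then ω is a dualizing complex for A. -/
theorem result (A : Type u) [CommRing A] [IsNoetherianRing A] (n : ℕ) (f : Fin n → A) (hf : Ideal.span (Set.range f) = ⊤) (ω : Dual.D A) (h : ∀ i : Fin n, ∃ _ : DRing.HasLBaseChange (algebraMap A (Localization.Away (f i))), Dual.IsDualizing (Localization.Away (f i)) ((DRing.LBaseChange (algebraMap A (Localization.Away (f i)))).obj ω)) : Dual.IsDualizing A ω := by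
  classical
  haveI : ∀ i, Module.Flat A (Localization.Away (f i)) := fun i => IsLocalization.flat _ (Submonoid.powers (f i))
  have hB := H4DR.FlatBC.jFaithful_away f hf
  have hloc : ∀ i, Dual.IsDualizing (Localization.Away (f i)) ((H4DR.FlatBC.FD A (Localization.Away (f i))).obj ω) :=
    fun i => by
      obtain ⟨hh, hd⟩ := h i
      exact H4DR.Dualizing.isDualizing_of_iso (H4DR.FlatBC.lbaseIso ω) hd
  choose a b hab using fun i => H4DR.Dualizing.exists_bounds (hloc i)
  choose c d hcd using fun i => (hloc i).finite_injective_dimension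
  obtain ⟨a₀, ha₀⟩ := (Set.finite_range a).bddBelow
  obtain ⟨b₀, hb₀⟩ := (Set.finite_range b).bddAbove
  obtain ⟨c₀, hc₀⟩ := (Set.finite_range c).bddBelow
  obtain ⟨d₀, hd₀⟩ := (Set.finite_range d).bddAbove
  have hbd : ∀ i : ℤ, (i < a₀ ∨ b₀ < i) → Subsingleton (Dual.HD A ω i) := fun i hi =>
    H4DR.FlatBC.subsingleton_HD_of_family _ hB fun j => hab j i <| by
      have := ha₀ (Set.mem_range_self j)
      have := hb₀ (Set.mem_range_self j)
      omega
  have hfin : ∀ i : ℤ, Module.Finite A (Dual.HD A ω i) := fun i =>
    H4DR.FlatBC.finite_of_family _ hB _ fun j =>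
      haveI := (hloc j).finite_cohomology i
      Module.Finite.equiv (H4DR.FlatBC.hBC (Localization.Away (f j)) i ω)
  have hamp := H4DR.FlatBC.injAmp_descent (a := c₀) (b := d₀) _ hB (fun j hj => hbd j (Or.inl hj))
    fun j M _ _ i hi => hcd j M i <| by
      have := hc₀ (Set.mem_range_self j)
      have := hd₀ (Set.mem_range_self j)
      omega
  exact H4DR.FlatBC.isDualizing_descent _ hB hfin ⟨a₀, b₀, hbd⟩ hloc
    ⟨c₀, d₀, fun M _ _ i hi => H4DR.Ext.subsingleton_inD_of_injAmp hamp M hi⟩

end Groth.Agent.S1787
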