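import Groth.Statements.S17873
import Groth.Agent.H4Depth.DepthLemmas
import Groth.Agent.H4Depth.Regular

set_option autoImplicit false
universe u
open GRRSing

namespace Groth.Agent.S17873
open RingTheory.Sequence IsLocalRing in
theorem exch {R : Type u} [CommRing R] [IsLocalRing R] (us : List R) (K : Ideal R) (x : R)
    (hx : x ∈ Ideal.ofList us) (hx' : x ∉ K ⊔ maximalIdeal R * Ideal.ofList us) :
    ∃ u l, us.Perm (u :: l) ∧ u ∈ Ideal.span {x} ⊔ Ideal.ofList l := by
  induction us generalizing x K with
  | nil =>
    rw [Ideal.ofList_nil, Submodule.mem_bot] at hx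
    exact absurd (hx ▸ Submodule.zero_mem _) hx'
  | cons u us ih =>
    rw [Ideal.ofList_cons] at hx hx'
    obtain ⟨z, hz, y, hy, rfl⟩ := Submodule.mem_sup.mp hx
    obtain ⟨c, rfl⟩ := Ideal.mem_span_singleton'.mp hz
    by_cases hc : IsUnit c
    · refine ⟨u, us, List.Perm.refl _, ?_⟩
      obtain ⟨d, hd⟩ := hc.exists_left_inv
      have e : u = d * (c * u + y) + -(d * y) := by linear_combination -u * hd
      have := Submodule.add_mem_sup (Ideal.mul_mem_left _ d (Ideal.mem_span_singleton_self (c * u + y)))
        (Submodule.neg_mem _ (Ideal.mul_mem_left _ d hy))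
      rwa [← e] at this
    · have hc' : c ∈ maximalIdeal R := hc
      have hy' : y ∉ K ⊔ maximalIdeal R * Ideal.ofList us := fun h => hx' (Submodule.add_mem _
        (Submodule.mem_sup_right (Ideal.mul_mem_mul hc' (Submodule.mem_sup_left (Ideal.mem_span_singleton_self u))))
        ((sup_le le_sup_left (le_trans (Ideal.mul_mono_right le_sup_right) le_sup_right) : K ⊔ maximalIdeal R * Ideal.ofList us ≤ K ⊔ maximalIdeal R * (Ideal.span {u} ⊔ Ideal.ofList us)) h))
      obtain ⟨v, l, hp, hv⟩ := ih K y hy hy'
      refine ⟨v, u :: l, (hp.cons u).trans (List.Perm.swap v u l), ?_⟩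
      have hy2 : y ∈ Ideal.span {c * u + y} ⊔ Ideal.ofList (u :: l) := by
        rw [Ideal.ofList_cons]
        have e : y = (c * u + y) + -(c * u) := by ring
        nth_rw 2 [e]
        exact Submodule.add_mem_sup (Ideal.mem_span_singleton_self _)
          (Submodule.neg_mem _ (Submodule.mem_sup_left (Ideal.mul_mem_left _ _ (Ideal.mem_span_singleton_self u))))
      refine (sup_le ((Ideal.span_singleton_le_iff_mem _).mpr hy2) ?_) hv
      rw [Ideal.ofList_cons]
      exact le_sup_right.trans le_sup_right

open RingTheory.Sequence IsLocalRing in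
theorem step {T : Type u} [CommRing T] [IsLocalRing T] [IsNoetherianRing T] (J : Ideal T) (hJ : J ≠ ⊤)
    (j : ℕ) (hj : LocCoh.idealDepth J T = j) : ∀ i ≤ j, ∃ ts us : List T, ts.length = i ∧
      (ts ++ us).length = Submodule.spanFinrank J ∧ Ideal.ofList (ts ++ us) = J ∧ IsWeaklyRegular T ts := by
  have hne : J • (⊤ : Submodule T T) ≠ ⊤ := by rwa [smul_eq_mul, Ideal.mul_top]
  intro i
  induction i with
  | zero =>
    intro _
    obtain ⟨g, hg⟩ := Groth.Agent.H4Depth.exists_fun_fin_span_eq (I := J)
    refine ⟨[], List.ofFn g, rfl, by simp, ?_, IsWeaklyRegular.nil T T⟩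
    rw [List.nil_append, Ideal.ofList]
    conv_rhs => rw [← hg]
    congr 1
    ext x; simp
  | succ i ih =>
    intro hij
    obtain ⟨ts, us, hl, hlen, hgen, hreg⟩ := ih (by omega)
    have hmem : ∀ r ∈ ts, r ∈ J := fun r hr => hgen ▸ Ideal.subset_span (List.mem_append_left us hr)
    let Q := T ⧸ Ideal.ofList ts • (⊤ : Submodule T T)
    have hq := Groth.Agent.H4Depth.idealDepth_quotient_ofList_add_length hne ts hreg hmem
    rw [hj, hl] at hq
    have hQ0 : LocCoh.idealDepth J Q ≠ 0 := fun h => by
      rw [h, zero_add] at hq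
      exact absurd (Nat.cast_inj.mp hq) (by omega)
    have hQne : J • (⊤ : Submodule T Q) ≠ ⊤ := fun h => by
      rw [Groth.Agent.H4Depth.idealDepth_eq_top h, top_add] at hq
      exact ENat.top_ne_coe j hq
    have hr := fun h => hQ0 ((Groth.Agent.H4Depth.idealDepth_eq_zero_iff hQne).mpr h)
    obtain ⟨r, hrJ, hrreg⟩ : ∃ r ∈ J, IsSMulRegular Q r := by
      by_contra hcon
      exact hr fun r hrJ hrreg => hcon ⟨r, hrJ, hrreg⟩
    let S : Set (Ideal T) := insert (Ideal.ofList ts ⊔ maximalIdeal T * J) (associatedPrimes T Q)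
    have hbad : ¬ J ≤ Ideal.ofList ts ⊔ maximalIdeal T * J := fun h => by
      have h1 : J ≤ Ideal.ofList ts := Submodule.le_of_le_smul_of_le_jacobson_bot (IsNoetherian.noetherian J)
        (IsLocalRing.maximalIdeal_le_jacobson _) h
      have h2 : r • (Submodule.Quotient.mk (1 : T) : Q) = 0 := by
        rw [← Submodule.Quotient.mk_smul, Submodule.Quotient.mk_eq_zero, smul_eq_mul, smul_eq_mul, mul_one,
          Ideal.mul_top]
        exact h1 hrJ
      have h3 := hrreg (h2.trans (smul_zero r).symm)
      rw [Submodule.Quotient.mk_eq_zero, smul_eq_mul, Ideal.mul_top] at h3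
      exact hJ ((Ideal.eq_top_iff_one J).mpr (Ideal.span_le.mpr (fun a ha => hmem a ha) h3))
    have havoid : ¬ (J : Set T) ⊆ ⋃ p ∈ S, (p : Set T) := fun h => by
      obtain ⟨p, hp, hle⟩ := (Ideal.subset_union_prime_finite ((associatedPrimes.finite T Q).insert _)
        (Ideal.ofList ts ⊔ maximalIdeal T * J) (Ideal.ofList ts ⊔ maximalIdeal T * J)
        (f := fun p => p) (fun p hp h1 _ => by
          rcases hp with rfl | hp
          · exact absurd rfl h1
          · exact IsAssociatedPrime.isPrime hp)).mp h
      rcases hp with rfl | hp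
      · exact hbad hle
      · exact Groth.Agent.H4Depth.not_isSMulRegular_of_mem_associatedPrimes hp (hle hrJ) hrreg
    obtain ⟨x, hxJ, hxS⟩ := Set.not_subset.mp havoid
    simp only [Set.mem_iUnion, not_exists] at hxS
    have hxreg : IsSMulRegular Q x := by
      by_contra hn
      have : x ∈ ({r : T | IsSMulRegular Q r} : Set T)ᶜ := hn
      rw [← biUnion_associatedPrimes_eq_compl_regular T Q] at this
      obtain ⟨p, hp, hxp⟩ := Set.mem_iUnion₂.mp this
      exact hxS p (Set.mem_insert_of_mem _ hp) hxp
    have hxbad := hxS _ (Set.mem_insert _ _)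
    have hx2 : x ∈ Ideal.ofList ts ⊔ Ideal.ofList us := by rw [← Ideal.ofList_append, hgen]; exact hxJ
    obtain ⟨a, ha, b, hb, hab⟩ := Submodule.mem_sup.mp hx2
    have hus : Ideal.ofList us ≤ J := by rw [← hgen, Ideal.ofList_append]; exact le_sup_right
    obtain ⟨u, l, hp, hu⟩ := exch us ⊥ b hb (fun h => hxbad (hab ▸ Submodule.add_mem_sup ha
      (Ideal.mul_mono_right hus (by simpa using h))))
    refine ⟨ts ++ [x], l, by simp [hl], ?_, ?_, ?_⟩
    · have := hp.length_eq
      simp only [List.length_append, List.length_cons, List.length_nil] at *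
      omega
    · have hpe : Ideal.ofList us = Ideal.ofList (u :: l) := by
        unfold Ideal.ofList
        congr 1
        ext y
        exact hp.mem_iff
      rw [List.append_assoc, List.singleton_append, Ideal.ofList_append, Ideal.ofList_cons]
      apply le_antisymm
      · refine sup_le (hgen ▸ (Ideal.ofList_append ts us).symm ▸ le_sup_left) (sup_le ?_ ?_)
        · exact (Ideal.span_singleton_le_iff_mem _).mpr hxJ
        · refine le_trans ?_ hus
          rw [hpe, Ideal.ofList_cons]; exact le_sup_right
      · conv_lhs => rw [← hgen, Ideal.ofList_append, hpe, Ideal.ofList_cons]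
        refine sup_le le_sup_left (sup_le ?_ (le_sup_right.trans le_sup_right))
        rw [Ideal.span_singleton_le_iff_mem]
        have hb2 : b ∈ Ideal.ofList ts ⊔ (Ideal.span {x} ⊔ Ideal.ofList l) := by
          have e : b = -a + x := by rw [← hab]; ring
          rw [e]
          exact Submodule.add_mem_sup (Submodule.neg_mem _ ha) (Submodule.mem_sup_left (Ideal.mem_span_singleton_self x))
        exact (sup_le ((Ideal.span_singleton_le_iff_mem _).mpr hb2) (le_sup_right.trans le_sup_right)) hu
    · rw [isWeaklyRegular_append_iff]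
      exact ⟨hreg, (isWeaklyRegular_cons_iff _ x []).mpr ⟨hxreg, IsWeaklyRegular.nil T _⟩⟩


/-- Let T be a Cohen–Macaulay Noetherian local ring, J a proper ideal of T, j the grade of J (the
J-depth of T, i.e. the supremum of the lengths of T-regular sequences inside J; a natural number
here) and c the minimal number of generators of J (equal to the dimension of J/𝔪J over the residue
field). Then j ≤ c and there is a generating sequence t_1, …, t_c of J such that t_1, …, t_j is a
T-regular sequence. (The published statement does not exclude J = T; there c = 1 while the grade,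
read as the depth of T, can exceed 1, so this row assumes J proper.) -/
theorem result {T : Type u} [CommRing T] [LocCoh.IsCohenMacaulayLocalRing T]
    (J : Ideal T) (hJ : J ≠ ⊤) (j : ℕ) (hj : LocCoh.idealDepth J T = j) :
    j ≤ Submodule.spanFinrank J ∧
      ∃ ts : List T, ts.length = Submodule.spanFinrank J ∧ Ideal.ofList ts = J ∧
        RingTheory.Sequence.IsRegular T (ts.take j) := by
  obtain ⟨ts, us, hl, hlen, hgen, hreg⟩ := step J hJ j hj j le_rfl
  refine ⟨by rw [← hlen, List.length_append]; omega, ts ++ us, hlen, hgen, ?_⟩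
  rw [List.take_left' hl]
  refine Groth.Agent.H4Depth.isRegular_of_mem (I := J) (by rwa [smul_eq_mul, Ideal.mul_top]) ?_ hreg
  exact fun r hr => hgen ▸ Ideal.subset_span (List.mem_append_left us hr)

end Groth.Agent.S17873
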