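import Groth.Statements.S17875
import Mathlib.RingTheory.Polynomial.Pochhammer
import Mathlib.Data.Nat.Factorial.BigOperators
import Mathlib.Tactic

set_option autoImplicit false
universe u
open Polynomial
open GRRSing

namespace Groth.Agent.S17875

open Polynomial

theorem eval_descPochhammer (n k : ℕ) :
    (descPochhammer ℚ k).eval (n : ℚ) / (k.factorial : ℚ) = (n.choose k : ℚ) := by
  rw [div_eq_iff (by exact_mod_cast k.factorial_ne_zero), descPochhammer_eval_eq_descFactorial,
    Nat.descFactorial_eq_factorial_mul_choose]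
  push_cast; ring

/-- Let R be a commutative ℚ-algebra, r an element of R and δ a natural number with (r - 1) ^ (δ + 1) =
0. Write s(k, j) for the signed Stirling numbers of the first kind, the coefficients of x (x - 1) ⋯
(x - k + 1) = Σ_j s(k, j) x ^ j. Then (i) for every natural number n, r ^ n = Σ_{k ≤ δ} [n (n - 1) ⋯
(n - k + 1) / k!] (r - 1) ^ k; and (ii) in the polynomial ring R[x], Σ_{k ≤ δ} [x (x - 1) ⋯ (x - k +
1) / k!] (r - 1) ^ k = Σ_{j ≤ δ} [Σ_{k ≤ δ} Σ_{u ≤ k} (-1) ^ (k - u) s(k, j) / (u! (k - u)!) · r ^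
u] x ^ j. -/
theorem result {R : Type u} [CommRing R] [Algebra ℚ R]
    (r : R) (δ : ℕ) (hr : (r - 1) ^ (δ + 1) = 0) :
    (∀ n : ℕ, r ^ n = ∑ k ∈ Finset.range (δ + 1), ((descPochhammer ℚ k).eval (n : ℚ) / (k.factorial : ℚ)) • (r - 1) ^ k) ∧
    (∑ k ∈ Finset.range (δ + 1), ((k.factorial : ℚ)⁻¹ • (descPochhammer R k * Polynomial.C ((r - 1) ^ k))) =
      ∑ j ∈ Finset.range (δ + 1), Polynomial.C (∑ k ∈ Finset.range (δ + 1), ∑ u ∈ Finset.range (k + 1),
        (((-1 : ℚ) ^ (k - u) * (((descPochhammer ℤ k).coeff j : ℤ) : ℚ)) / ((u.factorial * (k - u).factorial : ℕ) : ℚ)) • r ^ u) * Polynomial.X ^ j) := by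
  constructor
  · intro n
    simp only [eval_descPochhammer, Nat.cast_smul_eq_nsmul ℚ]
    have h1 : r ^ n = ∑ k ∈ Finset.range (n + 1), n.choose k • (r - 1) ^ k := by
      conv_lhs => rw [← sub_add_cancel r 1, add_pow]
      exact Finset.sum_congr rfl fun k _ => by rw [one_pow, mul_one, nsmul_eq_mul, mul_comm]
    rw [h1]
    rcases le_total n δ with h | h
    · refine Finset.sum_subset (Finset.range_subset_range.2 (by omega)) fun k _ hk => ?_
      rw [Finset.mem_range, not_lt] at hk
      rw [Nat.choose_eq_zero_of_lt (by omega), zero_smul]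
    · refine (Finset.sum_subset (Finset.range_subset_range.2 (by omega)) fun k _ hk => ?_).symm
      rw [Finset.mem_range, not_lt] at hk
      rw [show k = δ + 1 + (k - (δ + 1)) by omega, pow_add, hr, zero_mul, smul_zero]
  · refine Polynomial.ext fun j => ?_
    simp only [finset_sum_coeff, coeff_smul, coeff_mul_C, coeff_C_mul, coeff_X_pow, mul_ite, mul_one, mul_zero,
      Finset.sum_ite_eq, Finset.mem_range]
    have hj : ∀ k, (descPochhammer R k).coeff j = (((descPochhammer ℤ k).coeff j : ℤ) : R) := fun k => by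
      rw [← descPochhammer_map (Int.castRingHom R) k, coeff_map]; rfl
    have hpow : ∀ k : ℕ, (k.factorial : ℚ)⁻¹ • (r - 1) ^ k =
        ∑ u ∈ Finset.range (k + 1), ((-1 : ℚ) ^ (k - u) / ((u.factorial * (k - u).factorial : ℕ) : ℚ)) • r ^ u := by
      intro k
      rw [sub_eq_add_neg, add_pow, Finset.smul_sum]
      refine Finset.sum_congr rfl fun u hu => ?_
      rw [Finset.mem_range] at hu
      have hc : ((k.choose u : ℕ) : R) = algebraMap ℚ R (k.choose u : ℚ) := by rw [map_natCast]
      have hm : (-1 : R) ^ (k - u) = algebraMap ℚ R ((-1) ^ (k - u)) := by simp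
      rw [hc, hm, Algebra.smul_def, Algebra.smul_def, mul_assoc (r ^ u), ← map_mul, ← mul_left_comm, ← map_mul,
        mul_comm (r ^ u)]
      congr 2
      have h := Nat.choose_mul_factorial_mul_factorial (show u ≤ k by omega)
      rw [← h]
      have h1 : (u.factorial : ℚ) ≠ 0 := by exact_mod_cast u.factorial_ne_zero
      have h2 : ((k - u).factorial : ℚ) ≠ 0 := by exact_mod_cast (k - u).factorial_ne_zero
      have h3 : (k.choose u : ℚ) ≠ 0 := by exact_mod_cast (Nat.choose_pos (show u ≤ k by omega)).ne'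
      push_cast
      field_simp
    split_ifs with hjδ
    · refine Finset.sum_congr rfl fun k _ => ?_
      rw [hj, ← mul_smul_comm, hpow, Finset.mul_sum]
      refine Finset.sum_congr rfl fun u _ => ?_
      rw [← map_intCast (algebraMap ℚ R) ((descPochhammer ℤ k).coeff j), ← Algebra.smul_def, smul_smul]
      congr 1
      ring
    · refine Finset.sum_eq_zero fun k hk => ?_
      rw [Finset.mem_range] at hk
      rw [hj, coeff_eq_zero_of_natDegree_lt (lt_of_eq_of_lt (descPochhammer_natDegree ℤ k) (by omega))]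
      simp

end Groth.Agent.S17875
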