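import Groth.Statements.S17878
import Mathlib.Analysis.SpecificLimits.Normed
import Mathlib.RingTheory.PowerSeries.Exp
import Mathlib.Analysis.Complex.Basic
import Mathlib.Topology.Algebra.InfiniteSum.Module
import Mathlib.Tactic

set_option autoImplicit false
universe u
open Filter Topology
open GRRSing

namespace Groth.Agent.S17878

open Finset

theorem summable_pow_pow (j : ℕ) {y : ℂ} (hy : ‖y‖ < 1) : Summable fun k : ℕ => (k : ℂ) ^ j * y ^ k :=
  summable_pow_mul_geometric_of_norm_lt_one j hy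

theorem series_rec (j : ℕ) {y : ℂ} (hy : ‖y‖ < 1) :
    (1 - y) * ∑' k : ℕ, (k : ℂ) ^ j * y ^ k =
      (if j = 0 then 1 else 0) + y * ∑ i ∈ range j, (j.choose i : ℂ) * ∑' k : ℕ, (k : ℂ) ^ i * y ^ k := by
  have hs : ∀ i, Summable fun k : ℕ => (j.choose i : ℂ) * ((k : ℂ) ^ i * y ^ k) := fun i =>
    (summable_pow_pow i hy).mul_left _
  have e : ∀ k : ℕ, ((k + 1 : ℕ) : ℂ) ^ j * y ^ (k + 1) =
      y * ∑ i ∈ range (j + 1), (j.choose i : ℂ) * ((k : ℂ) ^ i * y ^ k) := fun k => by
    push_cast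
    rw [add_pow, Finset.sum_mul, Finset.mul_sum]
    exact Finset.sum_congr rfl fun i _ => by rw [one_pow]; ring
  have h0 : ∑' k : ℕ, (k : ℂ) ^ j * y ^ k = (if j = 0 then 1 else 0) +
      y * ∑ i ∈ range (j + 1), (j.choose i : ℂ) * ∑' k : ℕ, (k : ℂ) ^ i * y ^ k := by
    rw [(summable_pow_pow j hy).tsum_eq_zero_add]
    congr 1
    · rcases j with _ | j <;> simp
    · simp only [e]
      rw [tsum_mul_left, Summable.tsum_finsetSum fun i _ => hs i]
      simp only [tsum_mul_left]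
  rw [Finset.sum_range_succ, Nat.choose_self, Nat.cast_one, one_mul] at h0
  linear_combination h0

theorem rec_euler (E : ℕ → ℚ) (hE : PowerSeries.mk (fun j => E j / (j.factorial : ℚ)) * (PowerSeries.exp ℚ + 1) = 2)
    (j : ℕ) : 2 * E j + ∑ i ∈ range j, (j.choose i : ℚ) * E i = if j = 0 then 2 else 0 := by
  have h := congrArg (PowerSeries.coeff j) hE
  rw [mul_add, mul_one, map_add, PowerSeries.coeff_mul, Finset.Nat.sum_antidiagonal_eq_sum_range_succ_mk,
    show (2 : PowerSeries ℚ) = PowerSeries.C 2 by rw [map_ofNat], PowerSeries.coeff_C, Finset.sum_range_succ] at h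
  simp only [PowerSeries.coeff_mk, PowerSeries.coeff_exp, Algebra.algebraMap_self, RingHom.id_apply, Nat.sub_self,
    Nat.factorial_zero, Nat.cast_one, div_one, mul_one] at h
  have hj : (j.factorial : ℚ) ≠ 0 := by exact_mod_cast j.factorial_ne_zero
  have hsum : ∑ i ∈ range j, (j.choose i : ℚ) * E i =
      (j.factorial : ℚ) * ∑ i ∈ range j, E i / (i.factorial : ℚ) * (1 / ((j - i).factorial : ℚ)) := by
    rw [Finset.mul_sum]
    refine Finset.sum_congr rfl fun i hi => ?_
    rw [Nat.cast_choose ℚ (Finset.mem_range.1 hi).le]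
    ring
  rcases eq_or_ne j 0 with rfl | hj0
  · simp at h ⊢
    linarith
  · rw [if_neg hj0] at h ⊢
    rw [hsum]
    field_simp at h ⊢
    linear_combination h

theorem tendsto_series (E : ℕ → ℚ)
    (hE : PowerSeries.mk (fun j => E j / (j.factorial : ℚ)) * (PowerSeries.exp ℚ + 1) = 2) (j : ℕ) :
    Filter.Tendsto (fun y : ℝ => ∑' k : ℕ, (k : ℂ) ^ j * (y : ℂ) ^ k) (nhdsWithin (-1 : ℝ) (Set.Ioo (-1 : ℝ) 1))
      (nhds ((E j : ℂ) / 2)) := by
  induction j using Nat.strong_induction_on with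
  | _ j ih =>
    have hev : (fun y : ℝ => ((if j = 0 then 1 else 0) + (y : ℂ) * ∑ i ∈ range j, (j.choose i : ℂ) *
        ∑' k : ℕ, (k : ℂ) ^ i * (y : ℂ) ^ k) / (1 - (y : ℂ))) =ᶠ[nhdsWithin (-1 : ℝ) (Set.Ioo (-1 : ℝ) 1)]
        fun y : ℝ => ∑' k : ℕ, (k : ℂ) ^ j * (y : ℂ) ^ k := by
      filter_upwards [self_mem_nhdsWithin] with y hy
      have hy' : ‖(y : ℂ)‖ < 1 := by rw [Complex.norm_real, Real.norm_eq_abs, abs_lt]; exact hy
      have hne : (1 : ℂ) - y ≠ 0 := fun h => by
        rw [sub_eq_zero] at h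
        rw [← h, norm_one] at hy'
        exact lt_irrefl _ hy'
      rw [div_eq_iff hne, ← series_rec j hy']; ring
    refine Filter.Tendsto.congr' hev ?_
    have hy : Filter.Tendsto (fun y : ℝ => (y : ℂ)) (nhdsWithin (-1 : ℝ) (Set.Ioo (-1 : ℝ) 1)) (nhds (-1)) := by
      have := (Complex.continuous_ofReal.tendsto (-1 : ℝ)).mono_left (nhdsWithin_le_nhds (s := Set.Ioo (-1 : ℝ) 1))
      simpa using this
    have hlim := ((tendsto_const_nhds (x := if j = 0 then (1 : ℂ) else 0)).add (hy.mul (tendsto_finsetSum (range j)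
      fun i hi => (ih i (Finset.mem_range.1 hi)).const_mul (j.choose i : ℂ)))).div
      ((tendsto_const_nhds (x := (1 : ℂ))).sub hy) (by norm_num)
    have h := congrArg (fun q : ℚ => (q : ℂ)) (rec_euler E hE j)
    push_cast at h
    have heq : ((if j = 0 then (1 : ℂ) else 0) + -1 * ∑ i ∈ range j, (j.choose i : ℂ) * ((E i : ℂ) / 2)) / (1 - -1) =
        (E j : ℂ) / 2 := by
      rw [Finset.sum_congr rfl fun i _ => (mul_div_assoc (j.choose i : ℂ) (E i : ℂ) 2).symm, ← Finset.sum_div]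
      split_ifs at h ⊢ <;> · push_cast at h; field_simp; linear_combination -h
    exact heq ▸ hlim

/-- Let T be a nonzero commutative normed ℂ-algebra such that the map ℂ → T/nilradical(T) is surjective,
let P = Σ_j d_j x ^ j be a polynomial over T and put h_k = P(k). Let E_0, E_1, … be the rational
numbers with 2/(e^t + 1) = Σ_j E_j t ^ j / j! (so E_0 = 1, E_1 = -1/2). Then for every complex y
with |y| < 1 the series Σ_k h_k y ^ k converges in T, and as y → -1 along real y in (-1, 1) its sum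
tends to (1/2) Σ_j E_j d_j. (The published statement allows any norm topology on T as a complex
vector space; this row takes T a normed ℂ-algebra.) -/
theorem result {T : Type u} [NormedCommRing T] [NormedAlgebra ℂ T] [Nontrivial T]
    (hT : Function.Surjective (algebraMap ℂ (T ⧸ nilradical T)))
    (E : ℕ → ℚ) (hE : PowerSeries.mk (fun j => E j / (j.factorial : ℚ)) * (PowerSeries.exp ℚ + 1) = 2)
    (P : Polynomial T) :
    (∀ y : ℂ, ‖y‖ < 1 → Summable (fun k : ℕ => y ^ k • P.eval (k : T))) ∧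
    Tendsto (fun y : ℝ => ∑' k : ℕ, ((y : ℂ) ^ k) • P.eval (k : T)) (𝓝[Set.Ioo (-1 : ℝ) 1] (-1 : ℝ))
      (𝓝 ((2 : ℂ)⁻¹ • ∑ j ∈ Finset.range (P.natDegree + 1), ((E j : ℚ) : ℂ) • P.coeff j)) := by
  classical
  have hterm : ∀ (y : ℂ) (k : ℕ), y ^ k • P.eval (k : T) =
      ∑ j ∈ Finset.range (P.natDegree + 1), ((k : ℂ) ^ j * y ^ k) • P.coeff j := fun y k => by
    rw [Polynomial.eval_eq_sum_range, Finset.smul_sum]
    refine Finset.sum_congr rfl fun j _ => ?_
    rw [mul_comm ((k : ℂ) ^ j), mul_smul, Algebra.smul_def ((k : ℂ) ^ j), map_pow, map_natCast, mul_comm (P.coeff j)]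
  have hs : ∀ y : ℂ, ‖y‖ < 1 → ∀ j, Summable fun k : ℕ => ((k : ℂ) ^ j * y ^ k) • P.coeff j := fun y hy j =>
    (summable_pow_pow j hy).smul_const _
  refine ⟨fun y hy => ?_, ?_⟩
  · simp only [hterm]
    exact summable_sum fun j _ => hs y hy j
  · have hev : (fun y : ℝ => ∑ j ∈ Finset.range (P.natDegree + 1), (∑' k : ℕ, (k : ℂ) ^ j * (y : ℂ) ^ k) • P.coeff j)
        =ᶠ[𝓝[Set.Ioo (-1 : ℝ) 1] (-1 : ℝ)] fun y : ℝ => ∑' k : ℕ, ((y : ℂ) ^ k) • P.eval (k : T) := by
      filter_upwards [self_mem_nhdsWithin] with y hy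
      have hy' : ‖(y : ℂ)‖ < 1 := by rw [Complex.norm_real, Real.norm_eq_abs, abs_lt]; exact hy
      simp only [hterm]
      rw [Summable.tsum_finsetSum fun j _ => hs _ hy' j]
      exact Finset.sum_congr rfl fun j _ => ((summable_pow_pow j hy').tsum_smul_const _).symm
    refine Tendsto.congr' hev ?_
    rw [Finset.smul_sum]
    refine tendsto_finsetSum _ fun j _ => ?_
    rw [smul_smul, mul_comm, ← div_eq_mul_inv]
    exact (tendsto_series E hE j).smul_const _

end Groth.Agent.S17878
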