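import Groth.Statements.S17879
import Groth.Agent.H7Flat.Flatten.Nagata
import Groth.Agent.H7Lim.Approx.Consequences
import Groth.Agent.H13Cartier.Compl
-- import your own Groth.Agent.* helpers here

set_option autoImplicit false
universe u
open CategoryTheory AlgebraicGeometry
open Lim HTop

namespace Groth.Agent.S17879

/-- Let f : Y → X be a morphism of schemes with X and Y quasi-compact and quasi-separated. Then f is
separated if and only if it is the composite of an affine morphism Y → Z and a proper morphism Z →
X, for some scheme Z. -/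
theorem result {X Y : Scheme.{u}} (f : Y ⟶ X)
    [CompactSpace X] [QuasiSeparatedSpace X] [CompactSpace Y] [QuasiSeparatedSpace Y] :
    IsSeparated f ↔
      ∃ (Z : Scheme.{u}) (g : Y ⟶ Z) (h : Z ⟶ X), IsAffineHom g ∧ IsProper h ∧ g ≫ h = f := by
  constructor
  · intro hf
    obtain ⟨Z, g, h, hg, hlfp, hqc, hqs, hsep, hgh⟩ := H7Lim.Approx.exists_affineHom_comp_fp f
    haveI := hsep hf
    haveI := hlfp
    haveI := hqc
    haveI := hg
    obtain ⟨Zb, j, p, hjo, hjq, hp, hj⟩ := H7Flat.Flatten.exists_compactification h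
    haveI := hjo
    haveI := hjq
    haveI := hp
    haveI : CompactSpace Z := QuasiCompact.compactSpace_of_compactSpace h
    haveI : CompactSpace Zb := QuasiCompact.compactSpace_of_compactSpace p
    haveI : QuasiSeparatedSpace Zb := quasiSeparatedSpace_of_quasiSeparated p
    obtain ⟨J, hJ, hJaway⟩ := H7Flat.Flatten.exists_centre_awayFrom_eq j.opensRange (isCompact_range j.continuous)
    obtain ⟨Z', b, hb⟩ := H26Blow.exists_isBlowUp J
    haveI : IsProper b := H7Flat.Flatten.isProper_blowUp hJ hb
    have hO : ∀ z : Zb, z ∈ Set.range j ↔ z ∉ J.support := fun z =>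
      (Set.ext_iff.mp (congrArg (fun V : Zb.Opens => (V : Set Zb)) hJaway) z).symm
    obtain ⟨l, hlo, hl⟩ := H7Flat.Flatten.exists_lift_openImmersion hb j
      (Set.disjoint_left.mpr fun z hz hz' => (hO z).1 hz hz')
    haveI := hlo
    have hrange : Set.range l = ((J.comap b).support : Set Z')ᶜ := by
      rw [Scheme.IdealSheafData.support_comap]
      ext z
      constructor
      · rintro ⟨w, rfl⟩ hz
        have h1 : b (l w) ∈ J.support := hz
        rw [← Scheme.Hom.comp_apply, hl] at h1
        exact (hO (j w)).1 ⟨w, rfl⟩ h1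
      · intro hz
        have h1 : b z ∈ Set.range j := (hO (b z)).2 hz
        obtain ⟨w, hw⟩ := h1
        refine ⟨w, ?_⟩
        let O : Zb.Opens := awayFrom J
        haveI : IsIso (b ∣_ O) := H29Blow.isIso_morphismRestrict hb O fun x hx => hx
        have hz' : z ∈ b ⁻¹ᵁ O := hz
        have hlw : l w ∈ b ⁻¹ᵁ O := by
          show b (l w) ∈ O
          rw [← Scheme.Hom.comp_apply, hl, hw]
          exact hz
        have := (b ∣_ O).homeomorph.injective (a₁ := ⟨l w, hlw⟩) (a₂ := ⟨z, hz'⟩)
          (Subtype.ext (by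
            show ((b ∣_ O) ⟨l w, hlw⟩).1 = ((b ∣_ O) ⟨z, hz'⟩).1
            rw [morphismRestrict_base_coe, morphismRestrict_base_coe]
            show b (l w) = b z
            rw [← Scheme.Hom.comp_apply, hl, hw]))
        exact congrArg Subtype.val this
    haveI : IsAffineHom l := H13Cartier.isAffineHom_of_range_eq_compl l _
      (fun x => (hb.1 x).imp fun U hU => ⟨hU.1, hU.2.imp fun f hf => hf.2⟩) hrange
    exact ⟨Z', g ≫ l, b ≫ p, inferInstance, inferInstance, by
      rw [Category.assoc, reassoc_of% hl, hj, hgh]⟩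
  · rintro ⟨Z, g, h, hg, hh, rfl⟩
    haveI := hg
    haveI := hh
    infer_instance

end Groth.Agent.S17879
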