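-- statement Lim.GrothFrozen.S17880 (Groth/Statements/S17880.lean; the theorem Lim.exists_affineHom_comp_finitePresentation);
import Groth.Statements.S17880
import Groth.Agent.H7Lim.Approx.Consequences

set_option autoImplicit false
universe u
open CategoryTheory AlgebraicGeometry
open Lim

namespace Groth.Agent.S17880
set_option backward.isDefEq.respectTransparency false

/-- Let f : Y → X be a morphism of schemes with X and Y quasi-compact and quasi-separated. Then f is the
composite of an affine morphism Y → Z and a morphism Z → X of finite presentation (locally of finite
presentation, quasi-compact and quasi-separated); if f is separated, Z → X can in addition be chosen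
separated. Both assertions are packaged in one existential. -/
theorem result {X Y : Scheme.{u}} (f : Y ⟶ X)
    [CompactSpace X] [QuasiSeparatedSpace X] [CompactSpace Y] [QuasiSeparatedSpace Y] :
    ∃ (Z : Scheme.{u}) (g : Y ⟶ Z) (h : Z ⟶ X), IsAffineHom g ∧ LocallyOfFinitePresentation h ∧
      QuasiCompact h ∧ QuasiSeparated h ∧ (IsSeparated f → IsSeparated h) ∧ g ≫ h = f := by
  exact Groth.Agent.H7Lim.Approx.exists_affineHom_comp_fp f

end Groth.Agent.S17880
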