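import Groth.Statements.S17881
import Groth.Agent.H3CAlg.GenericDet
import Groth.Agent.S15706
import Mathlib.Data.Int.ConditionallyCompleteOrder
import Mathlib.Data.Int.Star
import Mathlib.RingTheory.LocalProperties.FinitePresentation
import Mathlib.RingTheory.LocalProperties.Projective
import Mathlib.RingTheory.MvPolynomial.IrreducibleQuadratic
import Mathlib.RingTheory.PicardGroup

set_option autoImplicit false
universe u
open CAlg

namespace Groth.Agent.S17881

/-- Let O be a subring of a nontrivial commutative ring A. The following are equivalent: (i) A is a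
local ring, every non-unit of A belongs to O, and for every unit u of A one of u, u⁻¹ belongs to O —
equivalently O is the preimage in the local ring A of a valuation ring of the residue field of A,
which makes O a semi-valuation ring with semi-fraction ring A; (ii) for all f, g in A generating the
unit ideal, either f ∈ gO or g ∈ fO. (A is taken nontrivial: over the zero ring (ii) holds and (i)
fails.) -/
theorem result (A : Type u) [CommRing A] [Nontrivial A]
    (O : Subring A) :
    (IsLocalRing A ∧ (∀ a : A, ¬ IsUnit a → a ∈ O) ∧ (∀ u : Aˣ, (u : A) ∈ O ∨ ((u⁻¹ : Aˣ) : A) ∈ O)) ↔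
      ∀ f g : A, IsCoprime f g → (∃ o ∈ O, f = g * o) ∨ (∃ o ∈ O, g = f * o) := by
  constructor
  · rintro ⟨hloc, hnu, hu⟩ f g ⟨a, b, hab⟩
    by_cases hg : IsUnit g
    · by_cases hf : IsUnit f
      · rcases hu (hf.unit * hg.unit⁻¹) with h | h
        · refine Or.inl ⟨_, h, ?_⟩
          rw [Units.val_mul, IsUnit.unit_spec, mul_left_comm, hg.mul_val_inv, mul_one]
        · refine Or.inr ⟨_, h, ?_⟩
          rw [mul_inv_rev, inv_inv, Units.val_mul, IsUnit.unit_spec, mul_left_comm, hf.mul_val_inv, mul_one]
      · refine Or.inl ⟨((hg.unit⁻¹ : Aˣ) : A) * f, hnu _ (fun h => hf (isUnit_of_mul_isUnit_right h)), ?_⟩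
        rw [← mul_assoc, hg.mul_val_inv, one_mul]
    · have hf : IsUnit f := by
        rcases IsLocalRing.isUnit_or_isUnit_of_add_one hab with h | h
        · exact isUnit_of_mul_isUnit_right h
        · exact absurd (isUnit_of_mul_isUnit_right h) hg
      refine Or.inr ⟨((hf.unit⁻¹ : Aˣ) : A) * g, hnu _ (fun h => hg (isUnit_of_mul_isUnit_right h)), ?_⟩
      rw [← mul_assoc, hf.mul_val_inv, one_mul]
  · intro h
    refine ⟨?_, ?_, ?_⟩
    · refine IsLocalRing.of_isUnit_or_isUnit_one_sub_self fun a => ?_
      rcases h a (1 - a) ⟨1, 1, by ring⟩ with ⟨o, -, ho⟩ | ⟨o, -, ho⟩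
      · exact Or.inr (IsUnit.of_mul_eq_one (o + 1) (by linear_combination -ho))
      · exact Or.inl (IsUnit.of_mul_eq_one (o + 1) (by linear_combination -ho))
    · intro a ha
      rcases h a 1 isCoprime_one_right with ⟨o, ho, h'⟩ | ⟨o, -, h'⟩
      · rw [h', one_mul]; exact ho
      · exact absurd (IsUnit.of_mul_eq_one o h'.symm) ha
    · intro u
      rcases h (u : A) 1 isCoprime_one_right with ⟨o, ho, h'⟩ | ⟨o, ho, h'⟩
      · left; rw [h', one_mul]; exact ho
      · right
        rw [show ((u⁻¹ : Aˣ) : A) = o from Units.inv_eq_of_mul_eq_one_right h'.symm]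
        exact ho

end Groth.Agent.S17881
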