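import Groth.Statements.S17882
import Mathlib.RepresentationTheory.Invariants
import Mathlib.RingTheory.Henselian
import Mathlib.RingTheory.LocalProperties.Reduced
import Mathlib.RingTheory.LocalRing.Pullback
import Mathlib.RingTheory.PowerSeries.NoZeroDivisors
import Mathlib.RingTheory.RegularLocalRing.Defs
import Mathlib.RingTheory.SimpleRing.Principal

set_option autoImplicit false
universe u
open CAlg

namespace Groth.Agent.S17882

/-- Let B be a commutative ring, r ≥ 1, N a finitely generated submodule of B^r, and n_1, …, n_r ∈ N.
Suppose the determinant of the matrix with rows n_1, …, n_r is a nonzerodivisor of B and that the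
determinant of every matrix whose rows lie in N is a multiple of it (the image of the top exterior
power of N in that of B^r ≅ B is the principal ideal generated by n_1 ∧ ⋯ ∧ n_r, a nonzerodivisor).
Then n_1, …, n_r are linearly independent over B and span N: N is free of rank r with this basis. -/
theorem result (B : Type u) [CommRing B] (r : ℕ) (hr : 0 < r)
    (N : Submodule B (Fin r → B)) (hN : N.FG) (n : Fin r → (Fin r → B)) (hn : ∀ i, n i ∈ N)
    (hgen : ∀ m : Fin r → (Fin r → B), (∀ i, m i ∈ N) →
      Matrix.det (Matrix.of m) ∈ Ideal.span {Matrix.det (Matrix.of n)})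
    (hnzd : Matrix.det (Matrix.of n) ∈ nonZeroDivisors B) :
    LinearIndependent B n ∧ Submodule.span B (Set.range n) = N := by
  classical
  set M := Matrix.of n
  refine ⟨?_, le_antisymm (Submodule.span_le.mpr (Set.range_subset_iff.mpr hn)) ?_⟩
  · rw [Fintype.linearIndependent_iff]
    intro g hg i
    have h1 : Matrix.vecMul g M = 0 := by
      funext j
      simpa [Matrix.vecMul, dotProduct, M, Finset.sum_apply] using congrFun hg j
    have h2 := congrArg (fun v => Matrix.vecMul v M.adjugate) h1
    simp only [Matrix.vecMul_vecMul, Matrix.mul_adjugate, Matrix.zero_vecMul, Matrix.vecMul_smul, Matrix.vecMul_one] at h2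
    exact (mem_nonZeroDivisors_iff.mp hnzd).1 _ (congrFun h2 i)
  · intro v hv
    have hc : ∀ i, ∃ c, c * M.det = M.transpose.cramer v i := by
      intro i
      rw [Matrix.cramer_transpose_apply]
      have := hgen (Function.update n i v) (fun j => by
        by_cases hj : j = i
        · subst hj; simpa using hv
        · simpa [hj] using hn j)
      obtain ⟨c, hc⟩ := Ideal.mem_span_singleton'.mp this
      exact ⟨c, hc.trans rfl⟩
    choose c hc using hc
    have h1 := Matrix.mulVec_cramer M.transpose v
    rw [← funext hc, Matrix.det_transpose] at h1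
    have h2 : v = ∑ i, c i • n i := by
      funext j
      have h3 := congrFun h1 j
      simp only [Matrix.mulVec, dotProduct, Matrix.transpose_apply, Pi.smul_apply, smul_eq_mul, M, Matrix.of_apply] at h3
      have h4 : M.det * (v j - ∑ i, c i * n i j) = 0 := by
        rw [mul_sub, ← h3, Finset.mul_sum, sub_eq_zero]
        exact Finset.sum_congr rfl fun i _ => by ring
      rw [Finset.sum_apply]
      simpa using sub_eq_zero.mp ((mem_nonZeroDivisors_iff.mp hnzd).1 _ h4)
    rw [h2]
    exact Submodule.sum_mem _ fun i _ => Submodule.smul_mem _ _ (Submodule.subset_span ⟨i, rfl⟩)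

end Groth.Agent.S17882
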