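import Groth.Statements.S17883
import Groth.Agent.H8Extend.Compactify

set_option autoImplicit false
universe u v
open CategoryTheory AlgebraicGeometry
open FlatMor

namespace Groth.Agent.S17883

/-- Let S be a Noetherian scheme and f : X → S a separated morphism of finite type, and let (E_i) be a
finite family of finite locally free O_X-modules. Then there exist a scheme X', an open immersion j
: X → X' with schematically dense image (scheme-theoretically dominant and quasi-compact) and a
proper morphism g : X' → S with j ≫ g = f, and for each i a finite locally free module E'_i on X'
whose pullback along j is isomorphic to E_i. For the empty family this is Nagata's embedding into a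
proper S-scheme with schematically dense image. -/
theorem result {S X : Scheme.{u}} (f : X ⟶ S)
    [IsNoetherian S] [IsSeparated f] [QuasiCompact f] [LocallyOfFiniteType f]
    {ι : Type v} [Finite ι] (E : ι → X.Modules) (hE : ∀ i, FlatMod.IsFinLocFree (E i)) :
    ∃ (X' : Scheme.{u}) (j : X ⟶ X') (g : X' ⟶ S), IsOpenImmersion j ∧ QuasiCompact j ∧
      IsSchemeTheoreticallyDominant j ∧ IsProper g ∧ j ≫ g = f ∧
      ∀ i, ∃ E' : X'.Modules, FlatMod.IsFinLocFree E' ∧
        Nonempty ((Scheme.Modules.pullback j).obj E' ≅ E i) := by
  exact H8Extend.exists_compactification_bundles f E hE

end Groth.Agent.S17883
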