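import Groth.Statements.S17887
import Groth.Agent.H11Div.CartierCompl
import Mathlib.AlgebraicGeometry.Morphisms.SchemeTheoreticallyDominant

set_option autoImplicit false
universe u
open CategoryTheory AlgebraicGeometry
open BlowUp

namespace Groth.Agent.S17887

/-- Let X be a Noetherian scheme, U ⊆ X an open subscheme that is schematically dense in X, I a
quasi-coherent ideal sheaf on X whose support does not meet U, and π : X' → X a blowing-up of X
along I. Then π⁻¹(U) is schematically dense in X'. -/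
theorem result {X X' : Scheme.{u}} [IsNoetherian X]
    (U : X.Opens) [IsSchemeTheoreticallyDominant U.ι] (𝓘 : X.IdealSheafData)
    (hU : Disjoint (𝓘.support : Set X) (U : Set X)) (π : X' ⟶ X) (hπ : BlowUp.IsBlowUp π 𝓘) :
    IsSchemeTheoreticallyDominant (π ⁻¹ᵁ U).ι := by
  let W : X.Opens := 𝓘.support.compl
  have hUW : U ≤ W := fun x hx hxI => hU.le_bot ⟨hxI, hx⟩
  haveI : IsIso (π ∣_ W) := _root_.H29Blow.isIso_morphismRestrict hπ W fun x hx => hx
  haveI : IsIso (π ∣_ U) := _root_.H29Blow.isIso_morphismRestrict hπ U fun x hx => hUW hx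
  haveI : IsSchemeTheoreticallyDominant (X.homOfLE hUW) := by
    have hpb : IsPullback (𝟙 (U : Scheme)) (X.homOfLE hUW) U.ι W.ι := by
      apply IsOpenImmersion.isPullback
      · simp
      · rw [Scheme.Opens.opensRange_ι, Scheme.opensRange_homOfLE]
    exact IsSchemeTheoreticallyDominant.of_isPullback hpb
  haveI h1 : IsSchemeTheoreticallyDominant (X'.homOfLE (show π ⁻¹ᵁ U ≤ π ⁻¹ᵁ W from fun x hx => hUW hx)) := by
    have e : X'.homOfLE (show π ⁻¹ᵁ U ≤ π ⁻¹ᵁ W from fun x hx => hUW hx) =
        (π ∣_ U) ≫ X.homOfLE hUW ≫ inv (π ∣_ W) := by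
      rw [← Category.assoc, IsIso.eq_comp_inv, ← cancel_mono W.ι]
      simp
    rw [e]
    infer_instance
  haveI h2 : IsSchemeTheoreticallyDominant (π ⁻¹ᵁ W).ι := by
    have e : (π ⁻¹ᵁ W : X'.Opens) = (𝓘.comap π).support.compl := by
      ext x
      simp [W, Scheme.IdealSheafData.support_comap]
    rw [e]
    exact H11Div.isSchemeTheoreticallyDominant_compl _ hπ.1
  rw [← Scheme.homOfLE_ι X' (show π ⁻¹ᵁ U ≤ π ⁻¹ᵁ W from fun x hx => hUW hx)]
  infer_instance

end Groth.Agent.S17887
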