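import Groth.Statements.S17888
import Groth.Agent.H8Extend.Compactify

set_option autoImplicit false
universe u
open CategoryTheory AlgebraicGeometry
open FlatMor

namespace Groth.Agent.S17888

/-- S is a Noetherian scheme and f : X → S is separated and of finite type; X is covered by two open
subschemes X₁ and X₂, both containing an open subscheme U that is schematically dense in X; and E₁
on X₁, E₂ on X₂ are finite locally free modules that become isomorphic after restricting to U. Then
there exist a proper morphism π : X' → X which restricts to an isomorphism over U and under which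
the preimage of U is schematically dense in X', and a finite locally free module E' on X' whose
restriction to π⁻¹(U) is isomorphic to the pullback of E₁|_U along π⁻¹(U) → U. -/
theorem result {S X : Scheme.{u}} (f : X ⟶ S)
    [IsNoetherian S] [IsSeparated f] [QuasiCompact f] [LocallyOfFiniteType f]
    (U X₁ X₂ : X.Opens) (hU₁ : U ≤ X₁) (hU₂ : U ≤ X₂) (hX : X₁ ⊔ X₂ = ⊤)
    [IsSchemeTheoreticallyDominant U.ι]
    (E₁ : (↑X₁ : Scheme.{u}).Modules) (E₂ : (↑X₂ : Scheme.{u}).Modules)
    (hE₁ : FlatMod.IsFinLocFree E₁) (hE₂ : FlatMod.IsFinLocFree E₂)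
    (φ : (Scheme.Modules.pullback (X.homOfLE hU₁)).obj E₁ ≅ (Scheme.Modules.pullback (X.homOfLE hU₂)).obj E₂) :
    ∃ (X' : Scheme.{u}) (π : X' ⟶ X) (E' : X'.Modules), IsProper π ∧ IsIso (π ∣_ U) ∧
      IsSchemeTheoreticallyDominant (π ⁻¹ᵁ U).ι ∧ FlatMod.IsFinLocFree E' ∧
      Nonempty ((Scheme.Modules.pullback (π ⁻¹ᵁ U).ι).obj E' ≅
        (Scheme.Modules.pullback (π ∣_ U ≫ X.homOfLE hU₁)).obj E₁) := by
  obtain ⟨X', π, E', hπ, hiso, hd, hE', ⟨θ⟩⟩ := H8Extend.exists_proper_extension_open f U
    ((Scheme.Modules.pullback (X.homOfLE hU₁)).obj E₁) (H16Derived.KFlat.Stalk.isFinLocFree_pullback _ hE₁)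
  exact ⟨X', π, E', hπ, hiso, hd, hE', ⟨θ ≪≫ (Scheme.Modules.pullbackComp (π ∣_ U) (X.homOfLE hU₁)).app E₁⟩⟩

end Groth.Agent.S17888
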