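import Groth.Statements.S1789
import Groth.Agent.H26Dual2.Shriek
import Groth.Agent.H4RepDual.PointLoc
import Groth.Agent.H4RepDual.PointRes
import Groth.Agent.H4DR.Dualizing.FiniteMap
import Groth.Agent.H4DR.FlatBC.Dualizing
import Groth.Agent.S1783
import Mathlib.RingTheory.Jacobson.Ring

set_option autoImplicit false
universe u
open CategoryTheory
attribute [local instance] HasDerivedCategory.standard
open Dual2

namespace Groth.Agent.S1789

/-- Let R → A be a ring map of finite type between Noetherian rings with R local, where φ^!(K) is formed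
from a presentation ψ : R[x_1, …, x_n] → A as RHom_P(A, K ⊗^L_R P)[n], assuming the derived base
change to P exists and taking for RHom_P(A, −) a right adjoint of restriction of scalars along ψ.
Let m be a maximal ideal of A lying over the maximal ideal of R and ω a normalized dualizing complex
for R. Assuming the derived base change D(A) → D(A_m) exists, the base change of φ^!(ω) to A_m is a
normalized dualizing complex for A_m. -/
theorem result (R A : Type u) [CommRing R] [CommRing A] [IsNoetherianRing R] [IsNoetherianRing A] [Algebra R A] (n : ℕ) (ψ : MvPolynomial (Fin n) R →ₐ[R] A) (hψ : Function.Surjective ψ) [DRing.HasLBaseChange (algebraMap R (MvPolynomial (Fin n) R))] (Rψ : Dual.D (MvPolynomial (Fin n) R) ⥤ Dual.D A) (adj : DRing.restrictD ψ.toRingHom ⊣ Rψ) [IsLocalRing R] (m : Ideal A) [m.IsMaximal] (hm : m.comap (algebraMap R A) = IsLocalRing.maximalIdeal R) (ω : Dual.D R) (hω : Dual.IsDualizing R ω) (hn : Dual.IsNormalized R ω) [DRing.HasLBaseChange (algebraMap A (Localization.AtPrime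 m))] : Dual.IsDualizing (Localization.AtPrime m) ((DRing.LBaseChange (algebraMap A (Localization.AtPrime m))).obj (Dual2.shriekVia n Rψ ω)) ∧ Dual.IsNormalized (Localization.AtPrime m) ((DRing.LBaseChange (algebraMap A (Localization.AtPrime m))).obj (Dual2.shriekVia n Rψ ω)) := by
  classical
  letI := Ideal.Quotient.field m
  haveI hk : Module.Finite R (A ⧸ m) := by
    let k₀ := R ⧸ IsLocalRing.maximalIdeal R
    letI := Ideal.Quotient.field (IsLocalRing.maximalIdeal R)
    letI : Algebra k₀ (A ⧸ m) := (Ideal.Quotient.lift (IsLocalRing.maximalIdeal R) (algebraMap R (A ⧸ m))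
      (fun r hr => (Ideal.Quotient.eq_zero_iff_mem).2 (show algebraMap R A r ∈ m from hm.ge hr))).toAlgebra
    haveI : IsScalarTower R k₀ (A ⧸ m) := IsScalarTower.of_algebraMap_eq fun r => rfl
    haveI : Algebra.FiniteType R (A ⧸ m) :=
      Algebra.FiniteType.of_surjective ((Ideal.Quotient.mkₐ R m).comp ψ)
        ((Ideal.Quotient.mkₐ_surjective R m).comp hψ)
    haveI : Algebra.FiniteType k₀ (A ⧸ m) := Algebra.FiniteType.of_restrictScalars_finiteType R k₀ (A ⧸ m)
    haveI : Module.Finite k₀ (A ⧸ m) := finite_of_finite_type_of_isJacobsonRing k₀ (A ⧸ m)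
    haveI : Module.Finite R k₀ := inferInstanceAs (Module.Finite R (R ⧸ IsLocalRing.maximalIdeal R))
    exact Module.Finite.trans k₀ (A ⧸ m)
  haveI := H26Dual2.isLeftAdjoint_TD (Ideal.Quotient.mk m)
  haveI := H26Dual2.isLeftAdjoint_TD (algebraMap R (A ⧸ m))
  let adjA := Adjunction.ofIsLeftAdjoint (H26Dual2.TD (Ideal.Quotient.mk m))
  let adjR := Adjunction.ofIsLeftAdjoint (H26Dual2.TD (algebraMap R (A ⧸ m)))
  let ψk : MvPolynomial (Fin n) R →ₐ[R] A ⧸ m := (Ideal.Quotient.mkₐ R m).comp ψ
  obtain ⟨ε⟩ := H26Dual2.shriekVia_iso_of_finite R n ψk _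
    ((adjA.comp adj).ofNatIsoLeft (H26Dual2.tdComp ψ.toRingHom (Ideal.Quotient.mk m)).symm) _ adjR ω
  let E := Dual2.shriekVia n Rψ ω
  let e : (H26Dual2.TD (Ideal.Quotient.mk m)).rightAdjoint.obj E ≅
      (H26Dual2.TD (algebraMap R (A ⧸ m))).rightAdjoint.obj ω :=
    ((H26Dual2.shiftRightAdjointIso adjA (n : ℤ)).app _).symm ≪≫ ε
  haveI : IsLocalHom (algebraMap R (A ⧸ m)) := ⟨fun r hr => by
    by_contra h
    exact not_isUnit_zero ((Ideal.Quotient.eq_zero_iff_mem.2 (show algebraMap R A r ∈ m from hm.ge h) :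
      algebraMap R (A ⧸ m) r = 0) ▸ hr)⟩
  have hfk : (algebraMap R (A ⧸ m)).Finite := RingHom.finite_algebraMap.2 hk
  have hdk := H4DR.Dualizing.isDualizing_of_iso e.symm (H4DR.Dualizing.isDualizing_rightAdjoint adjR hfk hω)
  have hnk : Dual.IsNormalized (A ⧸ m) ((H26Dual2.TD (Ideal.Quotient.mk m)).rightAdjoint.obj E) := fun i hi => by
    haveI := H4DR.Dualizing.isNormalized_rightAdjoint adjR hfk hω hn i hi
    exact (Iso.homToEquiv ((shiftFunctor (Dual.D (A ⧸ m)) i).mapIso e)).subsingleton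
  obtain ⟨d, hvan, hd, hd0⟩ := H4RepDual.residue_of_dualizing adjA Ideal.Quotient.mk_surjective E hdk
  rw [Ideal.mk_ker] at hvan hd
  obtain rfl := hd0 hnk
  obtain ⟨lo, hi', hlo⟩ := H4DR.Dualizing.exists_bounds hω
  obtain ⟨⟨b, hb⟩, hfin⟩ := S1783.result R A n ψ hψ Rψ adj ω lo fun i hi => hlo i (Or.inl hi)
  obtain ⟨hD, hN⟩ := H4RepDual.isDualizing_loc_of_residue (⟨m, inferInstance⟩ : PrimeSpectrum A)
    (hfin hω.finite_cohomology) hb 0 hvan hd
  haveI : Module.Flat A (Localization.AtPrime m) := IsLocalization.flat _ m.primeCompl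
  let σ := H4DR.FlatBC.lbaseIso (A := A) (B := Localization.AtPrime m) E
  refine ⟨H4DR.Dualizing.isDualizing_of_iso σ.symm hD, fun i hi => ?_⟩
  haveI := hN i hi
  exact (H4DR.Ext.postIso _ ((shiftFunctor _ i).mapIso σ)).injective.subsingleton

end Groth.Agent.S1789
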