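import Groth.Statements.S17894
import Groth.Agent.H8YBlow.Extend

set_option autoImplicit false
universe u
open CategoryTheory AlgebraicGeometry
open FlatMor

namespace Groth.Agent.S17894

/-- Here f : Y → X is an affine morphism with X and Y quasi-compact and quasi-separated; a
Y-modification of X is a factorization f = fᵢ ≫ gᵢ with fᵢ : Y → Xᵢ schematically dominant and gᵢ :
Xᵢ → X proper, and it is a Y-blow-up of X when Xᵢ carries a gᵢ-ample module L with a section ε : O →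
L whose pullback along fᵢ is an isomorphism (a Y-trivialization). Let V ⊆ X be a quasi-compact open
with preimage f⁻¹(V) ⊆ Y. Every f⁻¹(V)-blow-up (X'₁, f'₁, g'₁) of V (for the restriction f ∣_ V)
extends to a Y-blow-up (X₁, f₁, g₁) of X: there is an open immersion r : X'₁ → X₁ whose image is
g₁⁻¹(V), with r ≫ g₁ = g'₁ followed by the inclusion of V, and f'₁ ≫ r equal to the inclusion of
f⁻¹(V) followed by f₁. -/
theorem result {X Y : Scheme.{u}} (f : Y ⟶ X)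
    [CompactSpace X] [QuasiSeparatedSpace X] [CompactSpace Y] [QuasiSeparatedSpace Y] [IsAffineHom f]
    (V : X.Opens) (hV : IsCompact (V : Set X))
    {X'₁ : Scheme.{u}} (f'₁ : ↑(f ⁻¹ᵁ V) ⟶ X'₁) (g'₁ : X'₁ ⟶ ↑V)
    (h' : IsSchemeTheoreticallyDominant f'₁ ∧ IsProper g'₁ ∧ f'₁ ≫ g'₁ = (f ∣_ V) ∧
        ∃ (L : X'₁.Modules) (ε : Coh.structureModule X'₁ ⟶ L),
          RelAmple.IsRelAmple g'₁ L ∧ IsIso ((Scheme.Modules.pullback f'₁).map ε)) :
    ∃ (X₁ : Scheme.{u}) (f₁ : Y ⟶ X₁) (g₁ : X₁ ⟶ X) (r : X'₁ ⟶ X₁),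
      (IsSchemeTheoreticallyDominant f₁ ∧ IsProper g₁ ∧ f₁ ≫ g₁ = f ∧
        ∃ (L : X₁.Modules) (ε : Coh.structureModule X₁ ⟶ L),
          RelAmple.IsRelAmple g₁ L ∧ IsIso ((Scheme.Modules.pullback f₁).map ε)) ∧ IsOpenImmersion r ∧
      Set.range (fun x => r x) = (g₁ ⁻¹ᵁ V : Set X₁) ∧ r ≫ g₁ = g'₁ ≫ V.ι ∧ f'₁ ≫ r = (f ⁻¹ᵁ V).ι ≫ f₁ := by
  exact H8YBlow.exists_isYBlow_extending f V hV f'₁ g'₁ h'

end Groth.Agent.S17894
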