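import Groth.Statements.S17896
import Groth.Agent.H8Extend.Compactify

set_option autoImplicit false
universe u
open CategoryTheory AlgebraicGeometry
open FlatMor

namespace Groth.Agent.S17896

/-- Let S be a Noetherian scheme, X₁ and X₂ separated S-schemes of finite type and j₁ : U → X₁, j₂ : U →
X₂ open immersions over S with schematically dense images, and let E be an O_U-module extending to
finite locally free modules E₁ on X₁ and E₂ on X₂ (pullbacks along jᵢ isomorphic to E). Then there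
exist a separated S-scheme X of finite type, an open immersion k : U → X over S with schematically
dense image, a finite locally free module E' on X whose pullback along k is isomorphic to E, and for
i = 1, 2 a proper quasi-domination of X over Xᵢ compatible with U: a schematically dense open Wᵢ ⊆ X
through which k factors and a proper S-morphism φᵢ : Wᵢ → Xᵢ restricting to jᵢ on U, whose graph
morphism Wᵢ → X ×_S Xᵢ has closed image. -/
theorem result {S X₁ X₂ U : Scheme.{u}}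
    [IsNoetherian S] (p₁ : X₁ ⟶ S) (p₂ : X₂ ⟶ S)
    [IsSeparated p₁] [QuasiCompact p₁] [LocallyOfFiniteType p₁]
    [IsSeparated p₂] [QuasiCompact p₂] [LocallyOfFiniteType p₂]
    (j₁ : U ⟶ X₁) (j₂ : U ⟶ X₂) [IsOpenImmersion j₁] [IsOpenImmersion j₂]
    [IsSchemeTheoreticallyDominant j₁] [IsSchemeTheoreticallyDominant j₂] (hj : j₁ ≫ p₁ = j₂ ≫ p₂)
    (E : U.Modules) (E₁ : X₁.Modules) (E₂ : X₂.Modules)
    (hE₁ : FlatMod.IsFinLocFree E₁) (hE₂ : FlatMod.IsFinLocFree E₂)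
    (e₁ : (Scheme.Modules.pullback j₁).obj E₁ ≅ E) (e₂ : (Scheme.Modules.pullback j₂).obj E₂ ≅ E) :
    ∃ (X : Scheme.{u}) (p : X ⟶ S) (k : U ⟶ X) (E' : X.Modules),
      IsSeparated p ∧ QuasiCompact p ∧ LocallyOfFiniteType p ∧ IsOpenImmersion k ∧ QuasiCompact k ∧
      IsSchemeTheoreticallyDominant k ∧ k ≫ p = j₁ ≫ p₁ ∧ FlatMod.IsFinLocFree E' ∧
      Nonempty ((Scheme.Modules.pullback k).obj E' ≅ E) ∧
      (∃ (W₁ : X.Opens) (φ₁ : (↑W₁ : Scheme.{u}) ⟶ X₁) (hφ₁ : W₁.ι ≫ p = φ₁ ≫ p₁) (l₁ : U ⟶ ↑W₁),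
        IsSchemeTheoreticallyDominant W₁.ι ∧ IsProper φ₁ ∧ l₁ ≫ W₁.ι = k ∧ l₁ ≫ φ₁ = j₁ ∧
        IsClosed (Set.range (fun w => (Limits.pullback.lift W₁.ι φ₁ hφ₁) w))) ∧
      (∃ (W₂ : X.Opens) (φ₂ : (↑W₂ : Scheme.{u}) ⟶ X₂) (hφ₂ : W₂.ι ≫ p = φ₂ ≫ p₂) (l₂ : U ⟶ ↑W₂),
        IsSchemeTheoreticallyDominant W₂.ι ∧ IsProper φ₂ ∧ l₂ ≫ W₂.ι = k ∧ l₂ ≫ φ₂ = j₂ ∧
        IsClosed (Set.range (fun w => (Limits.pullback.lift W₂.ι φ₂ hφ₂) w))) := by
  exact H8Extend.exists_common_quasiDomination_bundle p₁ p₂ j₁ j₂ hj E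
    (H16Derived.KFlat.Stalk.isFinLocFree_of_iso e₁ (H16Derived.KFlat.Stalk.isFinLocFree_pullback j₁ hE₁))

end Groth.Agent.S17896
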