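import Groth.Statements.S17897
import Groth.Agent.H11Val.LocalExt

set_option autoImplicit false
universe u
open CategoryTheory AlgebraicGeometry
open ValCrit

open Groth.Agent.H11Val
namespace Groth.Agent.S17897

/-- Let f : Y → X be a morphism of schemes (not assumed separated), R a valuation ring with fraction
field K, and i : Spec K → Y, φ : Spec R → X with i ≫ f = (Spec K → Spec R) ≫ φ. Let y be the point
of Y hit by i and g : κ(y) → K the induced embedding, R' = g⁻¹(R) the induced valuation ring of κ(y)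
and ρ : R' → R the restriction of g. Then φ factors uniquely through Spec R → Spec R': there is a
unique φ' : Spec R' → X with (Spec ρ) ≫ φ' = φ whose restriction to the generic point Spec κ(y) is
the canonical morphism Spec κ(y) → Y followed by f. (Here y and g are given as data with Spec g
followed by Spec κ(y) → Y equal to i, and ρ as data by its defining equation.) -/
theorem result {X Y : Scheme.{u}} (f : Y ⟶ X)
    (K : Type u) [Field K] (R : ValuationSubring K)
    (i : Spec (CommRingCat.of K) ⟶ Y) (φ : Spec (CommRingCat.of ↥R) ⟶ X)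
    (w : Spec.map (CommRingCat.ofHom R.subtype) ≫ φ = i ≫ f)
    (y : Y) (g : Y.residueField y ⟶ CommRingCat.of K) (hg : Spec.map g ≫ Y.fromSpecResidueField y = i)
    (ρ : ↥(R.comap g.hom) →+* ↥R)
    (hρ : ∀ x : ↥(R.comap g.hom), ((ρ x : ↥R) : K) = g.hom (x : ↑(Y.residueField y))) :
    ∃! φ' : Spec (CommRingCat.of ↥(R.comap g.hom)) ⟶ X,
      Spec.map (CommRingCat.ofHom ρ) ≫ φ' = φ ∧
      Spec.map (CommRingCat.ofHom (R.comap g.hom).subtype) ≫ φ' = Y.fromSpecResidueField y ≫ f := by
  have hρinj : Function.Injective ρ := fun a b hab => Subtype.ext (g.hom.injective (by rw [← hρ, ← hρ, hab]))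
  have : IsLocalHom ρ := ⟨fun a ha => by
    obtain ⟨b, hb⟩ := ha.exists_right_inv
    have hb' : g.hom (a : Y.residueField y) * (b : K) = 1 := by
      have := congrArg Subtype.val hb
      rw [← hρ]
      exact this
    have hmem : ((a : Y.residueField y))⁻¹ ∈ R.comap g.hom := by
      rw [ValuationSubring.mem_comap, map_inv₀, ← eq_inv_of_mul_eq_one_right hb']
      exact b.2
    refine IsUnit.of_mul_eq_one (⟨_, hmem⟩ : ↥(R.comap g.hom)) (Subtype.ext (mul_inv_cancel₀ fun h0 => ?_))
    rw [h0, map_zero, zero_mul] at hb'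
    exact zero_ne_one hb'⟩
  obtain ⟨τ, hτloc, hτ⟩ := exists_factor_fromSpecStalk φ (x := φ.base (IsLocalRing.closedPoint R)) rfl
  have hfy : f.base y ⤳ φ.base (IsLocalRing.closedPoint R) := by
    have : f.base y = φ.base (Spec.map (CommRingCat.ofHom R.subtype) (IsLocalRing.closedPoint K)) := by
      rw [← Scheme.Hom.comp_apply, w, Scheme.Hom.comp_apply, ← hg, Scheme.Hom.comp_apply,
        Scheme.fromSpecResidueField_apply]
    exact (specializes_of_eq this).trans ((IsLocalRing.specializes_closedPoint _).map φ.continuous)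
  let ψ := X.presheaf.stalkSpecializes hfy ≫ f.stalkMap y ≫ Y.residue y
  have hψ : Spec.map ψ ≫ X.fromSpecStalk _ = Y.fromSpecResidueField y ≫ f := by
    simp only [ψ, Spec.map_comp, Category.assoc, Scheme.SpecMap_stalkSpecializes_fromSpecStalk,
      Scheme.SpecMap_stalkMap_fromSpecStalk, Scheme.fromSpecResidueField]
  have hcomm : ψ ≫ g = τ ≫ CommRingCat.ofHom R.subtype := by
    rw [← Spec.map_inj, ← cancel_mono (X.fromSpecStalk _), Spec.map_comp, Category.assoc, hψ, ← Category.assoc,
      hg, Spec.map_comp, Category.assoc, hτ, w]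
  have hmem : ∀ a, ψ.hom a ∈ R.comap g.hom := fun a => by
    rw [ValuationSubring.mem_comap]
    have : g.hom (ψ.hom a) = ((τ.hom a : ↥R) : K) := congr($hcomm a)
    rw [this]
    exact (τ.hom a).2
  let ψ' : X.presheaf.stalk (φ.base (IsLocalRing.closedPoint R)) ⟶ CommRingCat.of ↥(R.comap g.hom) :=
    CommRingCat.ofHom (ψ.hom.codRestrict (R.comap g.hom).toSubring hmem)
  refine ⟨Spec.map ψ' ≫ X.fromSpecStalk _, ⟨?_, ?_⟩, fun φ'' hφ'' => ?_⟩
  · have : ψ' ≫ CommRingCat.ofHom ρ = τ := by
      ext a
      skip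
      exact (hρ _).trans (congr($hcomm a))
    rw [← Spec.map_comp_assoc, this, hτ]
  · have : ψ' ≫ CommRingCat.ofHom (R.comap g.hom).subtype = ψ := rfl
    rw [← Spec.map_comp_assoc, this, hψ]
  · have : ψ' ≫ CommRingCat.ofHom ρ = τ := by
      ext a
      skip
      exact (hρ _).trans (congr($hcomm a))
    refine hom_ext_of_closedPoint ρ hρinj _ _ ?_ (by rw [hφ''.1, ← Spec.map_comp_assoc, this, hτ])
    have e : φ''.base (IsLocalRing.closedPoint ↥(R.comap g.hom)) = φ.base (IsLocalRing.closedPoint R) := by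
      rw [← closedPoint_map ρ, ← Scheme.Hom.comp_apply, hφ''.1]
    have e' : (Spec.map ψ' ≫ X.fromSpecStalk _).base (IsLocalRing.closedPoint ↥(R.comap g.hom)) =
        φ.base (IsLocalRing.closedPoint R) := by
      rw [← closedPoint_map ρ, ← Scheme.Hom.comp_apply, ← Spec.map_comp_assoc, this, hτ]
    rw [e, e']

end Groth.Agent.S17897
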