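import Groth.Statements.S17898
import Groth.Agent.H11Val.LocalExt

set_option autoImplicit false
universe u
open CategoryTheory AlgebraicGeometry
open ValCrit

open Groth.Agent.H11Val
namespace Groth.Agent.S17898

/-- Let f : Y → X be a morphism of schemes (not assumed separated), K a field with valuation rings R ⊆
R' (inclusion ι), i : Spec K → Y and φ : Spec R → X a commutative square over f, and g : Spec R' → Y
a lift of Spec R' → Spec R → X restricting to i on Spec K. Let K̃ be the residue field of R', R̃ ⊆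
K̃ the image of R (a valuation ring of K̃) with the surjection σ : R → R̃. Then every h̃ : Spec R̃ →
Y whose restriction to Spec K̃ is Spec K̃ → Spec R' → Y (via g) and which lies over Spec R̃ → Spec R
→ X is induced by a unique h : Spec R → Y compatible with the whole diagram: h restricts to i on
Spec K, lies over φ, restricts to g along Spec R' → Spec R and to h̃ along Spec R̃ → Spec R. (ι, R̃,
σ are given as data pinned by their defining equations.) -/
theorem result {X Y : Scheme.{u}} (f : Y ⟶ X)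
    (K : Type u) [Field K] (R R' : ValuationSubring K) (hRR' : R ≤ R')
    (ι : ↥R →+* ↥R') (hι : ∀ x : ↥R, ((ι x : ↥R') : K) = (x : K))
    (i : Spec (CommRingCat.of K) ⟶ Y) (φ : Spec (CommRingCat.of ↥R) ⟶ X)
    (w : Spec.map (CommRingCat.ofHom R.subtype) ≫ φ = i ≫ f)
    (g : Spec (CommRingCat.of ↥R') ⟶ Y) (hg₁ : Spec.map (CommRingCat.ofHom R'.subtype) ≫ g = i)
    (hg₂ : g ≫ f = Spec.map (CommRingCat.ofHom ι) ≫ φ)
    (Rt : ValuationSubring (IsLocalRing.ResidueField ↥R')) (σ : ↥R →+* ↥Rt) (hσs : Function.Surjective σ)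
    (hσ : ∀ x : ↥R, ((σ x : ↥Rt) : IsLocalRing.ResidueField ↥R') = IsLocalRing.residue ↥R' (ι x))
    (ht : Spec (CommRingCat.of ↥Rt) ⟶ Y)
    (hht₁ : Spec.map (CommRingCat.ofHom Rt.subtype) ≫ ht =
      Spec.map (CommRingCat.ofHom (IsLocalRing.residue ↥R')) ≫ g)
    (hht₂ : ht ≫ f = Spec.map (CommRingCat.ofHom σ) ≫ φ) :
    ∃! h : Spec (CommRingCat.of ↥R) ⟶ Y, Spec.map (CommRingCat.ofHom R.subtype) ≫ h = i ∧ h ≫ f = φ ∧
      Spec.map (CommRingCat.ofHom ι) ≫ h = g ∧ Spec.map (CommRingCat.ofHom σ) ≫ h = ht := by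
  have : IsLocalHom σ := .of_surjective σ hσs
  obtain ⟨τt, -, hτt⟩ := exists_factor_fromSpecStalk ht (x := ht.base (IsLocalRing.closedPoint Rt)) rfl
  obtain ⟨τg, -, hτg⟩ := exists_factor_fromSpecStalk g (x := g.base (IsLocalRing.closedPoint R')) rfl
  have hsp : g.base (IsLocalRing.closedPoint R') ⤳ ht.base (IsLocalRing.closedPoint Rt) := by
    have : g.base (IsLocalRing.closedPoint R') =
        ht.base (Spec.map (CommRingCat.ofHom Rt.subtype) (IsLocalRing.closedPoint _)) := by
      rw [← Scheme.Hom.comp_apply, hht₁, Scheme.Hom.comp_apply, closedPoint_map (IsLocalRing.residue ↥R')]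
    exact (specializes_of_eq this).trans ((IsLocalRing.specializes_closedPoint _).map ht.continuous)
  have hcomm : τt ≫ CommRingCat.ofHom Rt.subtype =
      Y.presheaf.stalkSpecializes hsp ≫ τg ≫ CommRingCat.ofHom (IsLocalRing.residue ↥R') := by
    rw [← Spec.map_inj, ← cancel_mono (Y.fromSpecStalk _)]
    simp only [Spec.map_comp, Category.assoc, Scheme.SpecMap_stalkSpecializes_fromSpecStalk]
    rw [hτt, hτg, hht₁]
  let τ' := Y.presheaf.stalkSpecializes hsp ≫ τg
  have hmem : ∀ a, ((τ'.hom a : ↥R') : K) ∈ R := by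
    intro a
    obtain ⟨r, hr⟩ := hσs (τt.hom a)
    have hres : IsLocalRing.residue ↥R' (τ'.hom a) = IsLocalRing.residue ↥R' (ι r) := by
      rw [← hσ, hr]
      exact (congr($hcomm a)).symm
    have hsub : τ'.hom a - ι r ∈ IsLocalRing.maximalIdeal ↥R' := by
      rw [← IsLocalRing.residue_eq_zero_iff, map_sub, hres, sub_self]
    have hv : R'.valuation ((τ'.hom a - ι r : ↥R') : K) < 1 := (R'.valuation_lt_one_iff _).1 hsub
    have hR : ((τ'.hom a - ι r : ↥R') : K) ∈ R := by
      rcases R.mem_or_inv_mem ((τ'.hom a - ι r : ↥R') : K) with h | h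
      · exact h
      · rcases eq_or_ne ((τ'.hom a - ι r : ↥R') : K) 0 with h0 | h0
        · rw [h0]; exact zero_mem _
        · have h1 : R'.valuation ((τ'.hom a - ι r : ↥R') : K)⁻¹ ≤ 1 := (R'.valuation_le_one_iff _).2 (hRR' h)
          rw [map_inv₀] at h1
          exact absurd h1 ((one_lt_inv₀ (zero_lt_iff.2 ((R'.valuation).ne_zero_iff.2 h0))).2 hv).not_ge
    have e : ((τ'.hom a : ↥R') : K) = ((τ'.hom a - ι r : ↥R') : K) + (r : K) := by
      rw [← hι r]
      exact (sub_add_cancel _ _).symm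
    rw [e]
    exact add_mem hR r.2
  let τ : Y.presheaf.stalk (ht.base (IsLocalRing.closedPoint Rt)) ⟶ CommRingCat.of ↥R :=
    CommRingCat.ofHom ((R'.subtype.comp τ'.hom).codRestrict R.toSubring hmem)
  have hτι : τ ≫ CommRingCat.ofHom ι = τ' := by
    ext a
    exact hι _
  have hτσ : τ ≫ CommRingCat.ofHom σ = τt := by
    ext a
    refine (hσ _).trans ?_
    refine (congrArg (IsLocalRing.residue ↥R') (show ι (τ.hom a) = τ'.hom a from congr($hτι a))).trans ?_
    exact (congr($hcomm a)).symm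
  let h := Spec.map τ ≫ Y.fromSpecStalk _
  have hg' : Spec.map (CommRingCat.ofHom ι) ≫ h = g := by
    rw [← Spec.map_comp_assoc, hτι, Spec.map_comp, Category.assoc,
      Scheme.SpecMap_stalkSpecializes_fromSpecStalk, hτg]
  have ht' : Spec.map (CommRingCat.ofHom σ) ≫ h = ht := by rw [← Spec.map_comp_assoc, hτσ, hτt]
  have hιsub : CommRingCat.ofHom ι ≫ CommRingCat.ofHom R'.subtype = CommRingCat.ofHom R.subtype := by
    ext a
    exact hι a
  have hi : Spec.map (CommRingCat.ofHom R.subtype) ≫ h = i := by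
    rw [← hιsub, Spec.map_comp, Category.assoc, hg', hg₁]
  refine ⟨h, ⟨hi, ?_, hg', ht'⟩, fun h' hh' => ?_⟩
  · refine hom_ext_of_closedPoint R.subtype Subtype.val_injective _ _ ?_ (by rw [← Category.assoc, hi, w])
    rw [← closedPoint_map σ, ← Scheme.Hom.comp_apply, ← Scheme.Hom.comp_apply, ← Category.assoc, ht', hht₂]
  · refine hom_ext_of_closedPoint R.subtype Subtype.val_injective _ _ ?_ (hh'.1.trans hi.symm)
    rw [← closedPoint_map σ, ← Scheme.Hom.comp_apply, ← Scheme.Hom.comp_apply, hh'.2.2.2, ht']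

end Groth.Agent.S17898
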