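import Groth.Statements.S17899
import Groth.Agent.H3CAlg.SemiVal.Main
-- import your own Groth.Agent.* helpers here

set_option autoImplicit false
universe u
open TensorProduct
open CAlg

namespace Groth.Agent.S17899

/-- Let A be a local ring with residue field K, R a valuation ring of K and O ⊆ A the preimage of R
under A → K (so O is a semi-valuation ring with semi-fraction ring A, S = Spec O is glued from U =
Spec A and T = Spec R). Let C be an O-algebra of finite type which is U-admissible (C → A ⊗_O C
injective) and such that A ⊗_O C is flat and of finite presentation over A. Then C is flat and of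
finite presentation over O. (The published assertion is more general: the base may be any
quasi-compact quasi-separated U-admissible scheme over Spec O, and the scheme over it any
quasi-compact quasi-separated admissible scheme. This row is the case of an affine scheme over Spec
O itself, the case in which the published proof carries out its argument.) -/
theorem result
    (A : Type u) [CommRing A] [IsLocalRing A] (R : ValuationSubring (IsLocalRing.ResidueField A))
    (O : Subring A) (hO : O = R.toSubring.comap (IsLocalRing.residue A))
    (C : Type u) [CommRing C] [Algebra ↥O C] [Algebra.FiniteType ↥O C]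
    (hadm : Function.Injective (Algebra.TensorProduct.includeRight : C →ₐ[↥O] A ⊗[↥O] C))
    (hflat : Module.Flat A (A ⊗[↥O] C)) (hfp : Algebra.FinitePresentation A (A ⊗[↥O] C)) :
    Module.Flat ↥O C ∧ Algebra.FinitePresentation ↥O C := by
  subst hO
  let π : ↥(R.toSubring.comap (IsLocalRing.residue A)) →+* R :=
    { toFun := fun o => ⟨IsLocalRing.residue A o.1, o.2⟩
      map_one' := Subtype.ext (map_one _)
      map_mul' := fun _ _ => Subtype.ext (map_mul _ _ _)
      map_zero' := Subtype.ext (map_zero _)
      map_add' := fun _ _ => Subtype.ext (map_add _ _ _) }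
  have hmax : ∀ μ ∈ IsLocalRing.maximalIdeal A, μ ∈ R.toSubring.comap (IsLocalRing.residue A) := fun μ hμ => by
    rw [Subring.mem_comap, (IsLocalRing.residue_eq_zero_iff μ).2 hμ]
    exact zero_mem _
  have h : H3CAlg.SemiVal.IsSemiVal ↥(R.toSubring.comap (IsLocalRing.residue A)) A R π := by
    refine ⟨Subtype.val_injective, fun μ hμ => ⟨⟨μ, hmax μ hμ⟩, rfl⟩, fun a => ?_, fun v => ?_, fun o => ?_⟩
    · by_cases ha : IsLocalRing.residue A a ∈ R
      · exact ⟨1, ⟨a, ha⟩, by simp, by rw [map_one, one_mul]; rfl⟩
      · have hne : IsLocalRing.residue A a ≠ 0 := fun e => ha (e ▸ zero_mem R)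
        have hu : IsUnit a := by
          by_contra hu
          exact hne ((IsLocalRing.residue_eq_zero_iff a).2 ((IsLocalRing.mem_maximalIdeal _).2 hu))
        have hmem : IsLocalRing.residue A ↑hu.unit⁻¹ ∈ R := by
          have h1 : IsLocalRing.residue A ↑hu.unit⁻¹ = (IsLocalRing.residue A a)⁻¹ := by
            refine eq_inv_of_mul_eq_one_left ?_
            rw [← map_mul, IsUnit.val_inv_mul, map_one]
          rw [h1]
          exact (R.mem_or_inv_mem _).resolve_left ha
        exact ⟨⟨_, hmem⟩, 1, hu.unit⁻¹.isUnit, by rw [map_one]; exact hu.val_inv_mul⟩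
    · obtain ⟨a, ha⟩ := IsLocalRing.residue_surjective (v : IsLocalRing.ResidueField A)
      exact ⟨⟨a, by rw [Subring.mem_comap, ha]; exact v.2⟩, Subtype.ext ha⟩
    · exact Subtype.ext_iff.trans (IsLocalRing.residue_eq_zero_iff o.1)
  have hjden : ∀ t : A ⊗[↥(R.toSubring.comap (IsLocalRing.residue A))] C, ∃ s,
      IsUnit (algebraMap ↥(R.toSubring.comap (IsLocalRing.residue A)) A s) ∧ ∃ c,
        algebraMap _ (A ⊗[↥(R.toSubring.comap (IsLocalRing.residue A))] C) s * t =
          Algebra.TensorProduct.includeRight c := by
    intro t
    induction t using TensorProduct.induction_on with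
    | zero => exact ⟨1, by simp, 0, by simp⟩
    | tmul a c =>
      obtain ⟨s, o, hs, ho⟩ := h.den a
      refine ⟨s, hs, o • c, ?_⟩
      rw [← Algebra.smul_def, TensorProduct.smul_tmul', Algebra.TensorProduct.includeRight_apply,
        ← TensorProduct.smul_tmul, Algebra.smul_def, Algebra.smul_def, mul_one, ho]
    | add x y hx hy =>
      obtain ⟨s, hs, c, hc⟩ := hx
      obtain ⟨s', hs', c', hc'⟩ := hy
      refine ⟨s * s', by rw [map_mul]; exact hs.mul hs', s' • c + s • c', ?_⟩
      rw [map_add, map_smul, map_smul, ← hc, ← hc', map_mul, Algebra.smul_def, Algebra.smul_def]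
      ring
  haveI := hflat
  haveI := hfp
  exact ⟨H3CAlg.SemiVal.flat h _ hadm hjden, H3CAlg.SemiVal.finitePresentation h _ hadm hjden⟩

end Groth.Agent.S17899
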