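import Groth.Statements.S17902
import Mathlib

set_option autoImplicit false
universe u
open CAlg

namespace Groth.Agent.S17902

/-- Let A be a commutative ring, M a finitely generated projective A-module, n a natural number and P a
finite set of prime ideals of A such that for every p in P there is g outside p with M_g free of
rank n over A_g. Then there exist n elements of M and an open subset U of Spec A containing P such
that for every prime q in U the images of these elements in M_q form a basis of M_q over A_q. (The
published conclusion is that the associated sheaf is free of rank n on some open neighbourhood of P;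
the form given here, with n global elements of M, is what its proof produces.) -/
theorem result (A : Type u) [CommRing A] (M : Type u) [AddCommGroup M] [Module A M]
    [Module.Finite A M] [Module.Projective A M] (n : ℕ) (P : Finset (PrimeSpectrum A))
    (hP : ∀ p ∈ P, ∃ g : A, g ∉ p.asIdeal ∧
      Nonempty (Module.Basis (Fin n) (Localization.Away g) (LocalizedModule (Submonoid.powers g) M))) :
    ∃ (s : Fin n → M) (U : Set (PrimeSpectrum A)), IsOpen U ∧ (∀ p ∈ P, p ∈ U) ∧
      ∀ q ∈ U,
        LinearIndependent (Localization.AtPrime q.asIdeal)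
            (fun j => LocalizedModule.mkLinearMap q.asIdeal.primeCompl M (s j)) ∧
          Submodule.span (Localization.AtPrime q.asIdeal)
            (Set.range fun j => LocalizedModule.mkLinearMap q.asIdeal.primeCompl M (s j)) = ⊤ := by
  classical
  -- rank at the points of P
  have hrk : ∀ p ∈ P, Module.rankAtStalk (R := A) M p = n := by
    intro p hp
    obtain ⟨g, hg, ⟨b⟩⟩ := hP p hp
    obtain ⟨p', hp'⟩ : p ∈ Set.range (PrimeSpectrum.comap (algebraMap A (Localization.Away g))) := by
      rw [PrimeSpectrum.localization_away_comap_range (Localization.Away g) g]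
      exact hg
    have : Nontrivial (Localization.Away g) := p'.nontrivial
    have : Module.Free (Localization.Away g) (LocalizedModule (Submonoid.powers g) M) :=
      Module.Free.of_basis b
    rw [← hp', ← Module.rankAtStalk_isBaseChange
      (IsLocalizedModule.isBaseChange (Submonoid.powers g) (Localization.Away g)
        (LocalizedModule.mkLinearMap (Submonoid.powers g) M)),
      Module.rankAtStalk_eq_finrank_of_free]
    simp [Module.finrank_eq_card_basis b]
  let f := fun q : PrimeSpectrum A => LocalizedModule.mkLinearMap q.asIdeal.primeCompl M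
  -- local lifts of bases
  have hlift : ∀ q ∈ P, ∃ m : Fin n → M,
      Submodule.span (Localization.AtPrime q.asIdeal) (Set.range fun j => f q (m j)) = ⊤ := by
    intro q hq
    have : Module.Free (Localization.AtPrime q.asIdeal)
        (LocalizedModule q.asIdeal.primeCompl M) := Module.free_of_flat_of_isLocalRing
    let b := Module.finBasisOfFinrankEq (Localization.AtPrime q.asIdeal)
        (LocalizedModule q.asIdeal.primeCompl M) (hrk q hq)
    choose x hx using fun j => IsLocalizedModule.surj q.asIdeal.primeCompl (f q) (b j)
    refine ⟨fun j => (x j).1, eq_top_iff.mpr (b.span_eq.ge.trans (Submodule.span_le.mpr ?_))⟩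
    rintro _ ⟨j, rfl⟩
    have hu := IsLocalization.map_units (Localization.AtPrime q.asIdeal) (x j).2
    have h1 : b j = ((hu.unit⁻¹ : _ˣ) : Localization.AtPrime q.asIdeal) • f q (x j).1 := by
      rw [← hx j, Submonoid.smul_def,
        ← algebraMap_smul (Localization.AtPrime q.asIdeal) ((x j).2 : A),
        ← mul_smul, IsUnit.val_inv_mul, one_smul]
    rw [SetLike.mem_coe, h1]
    exact Submodule.smul_mem _ _ (Submodule.subset_span ⟨j, rfl⟩)
  choose! m hm using hlift
  let P' := P.filter fun q => ∀ q' ∈ P, q ≤ q' → q' = q
  have hc : ∀ q ∈ P', ∃ c : A, c ∉ q.asIdeal ∧ ∀ q' ∈ P', q' ≠ q → c ∈ q'.asIdeal := by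
    intro q hq
    have : ¬ (P'.erase q).inf (fun q' => q'.asIdeal) ≤ q.asIdeal := by
      rw [Ideal.IsPrime.inf_le' q.isPrime]
      rintro ⟨q', hq', hle⟩
      rw [Finset.mem_erase] at hq'
      exact hq'.1 ((Finset.mem_filter.mp hq'.2).2 q (Finset.mem_filter.mp hq).1 hle).symm
    obtain ⟨c, hc1, hc2⟩ := SetLike.not_le_iff_exists.mp this
    exact ⟨c, hc2, fun q' hq' hne => by
      rw [Submodule.mem_finsetInf] at hc1
      exact hc1 q' (Finset.mem_erase.mpr ⟨hne, hq'⟩)⟩
  choose! c hc1 hc2 using hc
  let s : Fin n → M := fun j => ∑ q ∈ P', c q • m q j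
  let K := Submodule.span A (Set.range s)
  -- spanning criterion
  have hcrit : ∀ q : PrimeSpectrum A,
      Submodule.span (Localization.AtPrime q.asIdeal) (Set.range fun j => f q (s j)) = ⊤ ↔
        q ∉ Module.support A (M ⧸ K) := by
    intro q
    have himg : Submodule.span (Localization.AtPrime q.asIdeal) (Set.range fun j => f q (s j)) =
        Submodule.localized' (Localization.AtPrime q.asIdeal) q.asIdeal.primeCompl (f q) K := by
      rw [Submodule.localized'_span]
      congr 1
      exact Set.range_comp (f q) s
    rw [himg, Module.notMem_support_iff']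
    constructor
    · intro h x
      obtain ⟨y, rfl⟩ := Submodule.mkQ_surjective _ x
      have hy : f q y ∈ Submodule.localized' (Localization.AtPrime q.asIdeal) q.asIdeal.primeCompl
          (f q) K := h ▸ Submodule.mem_top
      obtain ⟨w, hw, t, ht⟩ := hy
      rw [IsLocalizedModule.mk'_eq_iff, Submonoid.smul_def, ← map_smul] at ht
      obtain ⟨u, hu⟩ := (IsLocalizedModule.eq_iff_exists q.asIdeal.primeCompl (f q)).mp ht
      refine ⟨(u : A) * t, q.asIdeal.primeCompl.mul_mem u.2 t.2, ?_⟩
      rw [← map_smul, Submodule.mkQ_apply, Submodule.Quotient.mk_eq_zero, mul_smul,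
        ← Submonoid.smul_def u, ← hu, Submonoid.smul_def]
      exact K.smul_mem _ hw
    · intro h
      rw [eq_top_iff]
      intro x _
      obtain ⟨⟨y, t⟩, rfl⟩ := IsLocalizedModule.mk'_surjective q.asIdeal.primeCompl (f q) x
      obtain ⟨r, hr, hr'⟩ := h (Submodule.Quotient.mk y)
      rw [← Submodule.Quotient.mk_smul, Submodule.Quotient.mk_eq_zero] at hr'
      refine ⟨r • y, hr', t * ⟨r, hr⟩, ?_⟩
      simp only [Function.uncurry_apply_pair]
      rw [show r • y = (⟨r, hr⟩ : q.asIdeal.primeCompl) • y from rfl,
        IsLocalizedModule.mk'_cancel_right]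
  -- spanning at the maximal points of P
  have hspan : ∀ q ∈ P', q ∉ Module.support A (M ⧸ K) := by
    intro q hq
    rw [← hcrit, eq_top_iff]
    refine Submodule.le_of_le_smul_of_le_jacobson_bot (I := IsLocalRing.maximalIdeal _)
      Module.Finite.fg_top (IsLocalRing.maximalIdeal_le_jacobson _) ?_
    rw [← hm q (Finset.mem_filter.mp hq).1, Submodule.span_le]
    rintro _ ⟨j, rfl⟩
    have h2 : f q (∑ x ∈ P'.erase q, c x • m x j) ∈
        IsLocalRing.maximalIdeal (Localization.AtPrime q.asIdeal) •
          (⊤ : Submodule (Localization.AtPrime q.asIdeal)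
            (LocalizedModule q.asIdeal.primeCompl M)) := by
      rw [map_sum]
      refine Submodule.sum_mem _ fun x hx => ?_
      rw [map_smul, ← algebraMap_smul (Localization.AtPrime q.asIdeal) (c x)]
      refine Submodule.smul_mem_smul ?_ Submodule.mem_top
      rw [IsLocalization.AtPrime.to_map_mem_maximal_iff (Localization.AtPrime q.asIdeal) q.asIdeal]
      rw [Finset.mem_erase] at hx
      exact hc2 x hx.2 q hq (Ne.symm hx.1)
    have hu : IsUnit (algebraMap A (Localization.AtPrime q.asIdeal) (c q)) :=
      IsLocalization.map_units _ (⟨c q, hc1 q hq⟩ : q.asIdeal.primeCompl)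
    have h3 : algebraMap A (Localization.AtPrime q.asIdeal) (c q) • f q (m q j) =
        f q (s j) - f q (∑ x ∈ P'.erase q, c x • m x j) := by
      rw [algebraMap_smul, ← map_smul, ← map_sub, eq_comm]
      congr 1
      rw [sub_eq_iff_eq_add, eq_comm]
      exact Finset.add_sum_erase P' (fun x => c x • m x j) hq
    have h4 : algebraMap A (Localization.AtPrime q.asIdeal) (c q) • f q (m q j) ∈
        Submodule.span (Localization.AtPrime q.asIdeal) (Set.range fun j => f q (s j)) ⊔
          IsLocalRing.maximalIdeal (Localization.AtPrime q.asIdeal) • ⊤ := by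
      rw [h3]
      exact sub_mem (Submodule.mem_sup_left (Submodule.subset_span ⟨j, rfl⟩))
        (Submodule.mem_sup_right h2)
    rw [hm q (Finset.mem_filter.mp hq).1]
    exact (Submodule.smul_mem_iff_of_isUnit _ hu).mp h4
  refine ⟨s, {q | Module.rankAtStalk (R := A) M q = n} ∩ (Module.support A (M ⧸ K))ᶜ,
    IsOpen.inter ?_ ?_, fun p hp => ⟨hrk p hp, ?_⟩, fun q hq => ?_⟩
  · have : Module.FinitePresentation A M := Module.finitePresentation_of_projective A M
    exact (Module.isLocallyConstant_rankAtStalk (R := A) (M := M)).isOpen_fiber n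
  · rw [isOpen_compl_iff]
    exact Module.isClosed_support
  · obtain ⟨q, hq, hpq⟩ := P.exists_le_maximal hp
    exact fun h => hspan q (Finset.mem_filter.mpr ⟨hpq.1, fun q' hq' hle =>
      le_antisymm (hpq.2 hq' hle) hle⟩) (Module.mem_support_mono hq h)
  · obtain ⟨hq1, hq2⟩ := hq
    have h := (hcrit q).mpr hq2
    have : Module.Free (Localization.AtPrime q.asIdeal)
        (LocalizedModule q.asIdeal.primeCompl M) := Module.free_of_flat_of_isLocalRing
    exact ⟨linearIndependent_of_top_le_span_of_card_eq_finrank h.ge
      (by rw [Fintype.card_fin]; exact hq1.symm), h⟩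

end Groth.Agent.S17902
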