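import Groth.Statements.S17909
import Groth.Agent.H27Normic.BaseChange

set_option autoImplicit false
universe u
open scoped TensorProduct
open PolLaw

namespace Groth.Agent.S17909

/-- Affine-free form, stated through the universal property of the norm module. Let R → R' be a
commutative algebra, free of finite rank as an R-module; let Q be a commutative R-algebra and Q' a
commutative ring under both Q and R' which is their pushout over R; let M' be an R'-module and f :
M' → M'' an R'-linear map into a Q'-module that exhibits M'' as Q' ⊗_{R'} M'. Let (N, ν) be a
universal normic pair for M' over R (ν a polynomial law M' → N over R with ν(x · m) = norm(x) · ν(m)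
over every commutative test ring, through which every normic law factors by a unique linear map) and
(N'', ν'') a universal normic pair for M'' over Q. Then there is an R-linear map u : N → N'' which
is compatible with the two laws over every commutative Q-algebra P, in the sense ν''_P (p ⊗ f m) =
(p ⊗ u)(ν_P (p ⊗ m)), and whose Q-linear extension Q ⊗_R N → N'' is an isomorphism (N'' is the base
change of N along R → Q via u). (The published statements are for the norm modules constructed from
divided powers, for a finite locally free extension of constant rank; here the extension is free
over an affine base and the norm modules enter through their universal property.) -/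
theorem result {R R' Q Q' : Type u} [CommRing R] [CommRing R'] [Algebra R R']
    [CommRing Q] [Algebra R Q] [CommRing Q'] [Algebra R Q'] [Algebra Q Q'] [Algebra R' Q']
    [IsScalarTower R Q Q'] [IsScalarTower R R' Q'] [Algebra.IsPushout R R' Q Q']
    [Module.Free R R'] [Module.Finite R R']
    {M' : Type u} [AddCommGroup M'] [Module R M'] [Module R' M'] [IsScalarTower R R' M']
    {M'' : Type u} [AddCommGroup M''] [Module R M''] [Module R' M''] [Module Q M''] [Module Q' M'']
    [IsScalarTower R R' M''] [IsScalarTower R Q M''] [IsScalarTower R' Q' M''] [IsScalarTower Q Q' M'']
    (f : M' →ₗ[R'] M'') (hf : IsBaseChange Q' f)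
    {N : Type u} [AddCommGroup N] [Module R N] (ν : M' →ₚₗ[R] N) (hν : PolLaw.IsUnivNormic R' ν)
    {N'' : Type u} [AddCommGroup N''] [Module R N''] [Module Q N''] [IsScalarTower R Q N'']
    (ν'' : M'' →ₚₗ[Q] N'') (hν'' : PolLaw.IsUnivNormic Q' ν'') :
    ∃ u : N →ₗ[R] N'',
      (∀ (P : Type u) [CommRing P] [Algebra R P] [Algebra Q P] [IsScalarTower R Q P] (m : P ⊗[R] M'),
          ν''.toFun' P (PolLaw.bcAlong (f.restrictScalars R) P m) = PolLaw.bcAlong u P (ν.toFun' P m)) ∧
      IsBaseChange Q u := by
  exact Groth.Agent.H27Normic.main hf ν hν ν'' hν''

end Groth.Agent.S17909
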