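import Groth.Statements.S1791
import Groth.Agent.H4DR.HT.FaltingsModule
import Groth.Agent.H4DR.FlatBC.Dualizing

set_option autoImplicit false
universe u
open CategoryTheory
attribute [local instance] HasDerivedCategory.standard
open LocCoh

namespace Groth.Agent.S1791

/-- Let A be a Noetherian ring with a dualizing complex, T ⊆ T' subsets of Spec A stable under
specialization, s an integer, and K an object of D(A) which is bounded below with finite cohomology
modules. Assume the derived base change functors D(A) → D(A_p) exist. Then there is an ideal J with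
V(J) ⊆ T' annihilating H^i_T(K) for all i ≤ s if and only if for all primes p ∉ T' and q ∈ T with p
⊆ q, writing h for the length of the longest chain of primes from p to q, the local cohomology H^i
of K_p at the maximal ideal of A_p vanishes for every i ≤ s − h (that is, depth(K_p) + h > s). -/
theorem result (A : Type u) [CommRing A] [IsNoetherianRing A] (hA : ∃ ω : Dual.D A, Dual.IsDualizing A ω) (T T' : Set (PrimeSpectrum A)) (hT : StableUnderSpecialization T) (hT' : StableUnderSpecialization T') (hTT' : T ⊆ T') (s : ℤ) (K : Dual.D A) (a : ℤ) (hKa : ∀ i : ℤ, i < a → Subsingleton (Dual.HD A K i)) (hK : ∀ i : ℤ, Module.Finite A (Dual.HD A K i)) [∀ p : PrimeSpectrum A, DRing.HasLBaseChange (algebraMap A (Localization.AtPrime p.asIdeal))] : (∃ J : Ideal A, PrimeSpectrum.zeroLocus (J : Set A) ⊆ T' ∧ ∀ i : ℤ, i ≤ s → ∀ a ∈ J, ∀ x : Dual2.HDT A T K i, a • x = 0) ↔ (∀ (p q : PrimeSpectrum A) (hpq : p ≤ q), p ∉ T' → q ∈ T → ∀ h : ℕ, Order.height (⟨q, hpq⟩ : Set.Ici p) = h → ∀ i : ℤ, i ≤ s - h → Subsingleton (Dual2.HDI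 (Localization.AtPrime p.asIdeal) (IsLocalRing.maximalIdeal (Localization.AtPrime p.asIdeal)) ((DRing.LBaseChange (algebraMap A (Localization.AtPrime p.asIdeal))).obj K) i)) := by
  obtain ⟨ω, hω⟩ := hA
  refine (H4DR.HT.exists_kill_iff hω hT hT' s hKa hK).trans ⟨fun h p q hpq hp hq d hd i hi => ?_,
    fun h p q hp => ?_⟩
  · haveI := IsLocalization.flat (Localization.AtPrime p.asIdeal) p.asIdeal.primeCompl
    rw [H4DR.HT.height_Ici hω hpq, Nat.cast_inj] at hd
    obtain ⟨e, -, he, -⟩ := H4DR.Dualizing.exists_dim hω hpq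
    have h1 : Subsingleton _ := by_contra fun hns => h p q hp ⟨hpq, hq, i, by omega, hns⟩
    exact (H4DR.LD.hEquiv (IsLocalRing.maximalIdeal (Localization.AtPrime p.asIdeal))
      ((shiftFunctor (Dual.D (Localization.AtPrime p.asIdeal)) i).mapIso
        (H4DR.FlatBC.lbaseIso K))).toEquiv.subsingleton_congr.2 h1
  · rintro ⟨hpq, hq, i, hi, hns⟩
    haveI := IsLocalization.flat (Localization.AtPrime p.asIdeal) p.asIdeal.primeCompl
    obtain ⟨e, -, he, -⟩ := H4DR.Dualizing.exists_dim hω hpq
    exact hns ((H4DR.LD.hEquiv (IsLocalRing.maximalIdeal (Localization.AtPrime p.asIdeal))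
      ((shiftFunctor (Dual.D (Localization.AtPrime p.asIdeal)) i).mapIso
        (H4DR.FlatBC.lbaseIso K))).toEquiv.subsingleton_congr.1
      (h p q hpq hp hq _ (H4DR.HT.height_Ici hω hpq) i (by omega)))

end Groth.Agent.S1791
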