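import Groth.Statements.S17918
import Groth.Agent.H26ChowK.Euler

set_option autoImplicit false
universe u
open CategoryTheory CategoryTheory.Limits AlgebraicGeometry
open RefCh

namespace Groth.Agent.S17918

/-- Let k be an algebraically closed field, X an integral normal scheme of dimension s + 3 admitting a
closed immersion into some P^N_k over k, L_1, …, L_s, A and B invertible O_X-modules with inverses
M_1, …, M_s, A' and B' (so that A' ⊗ B' is an inverse of A ⊗ B), and ℒ a coherent reflexive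
O_X-module of rank one (ℒ = O_X(D)). Suppose 2 χ(c_1(A) c_1(L_1) ⋯ c_1(L_s) · [ℒ^[m]]) / m^2 → a, 2
χ(c_1(B) c_1(L_1) ⋯ c_1(L_s) · [ℒ^[m]]) / m^2 → b and 2 χ(c_1(A ⊗ B) c_1(L_1) ⋯ c_1(L_s) · [ℒ^[m]])
/ m^2 → c as m → ∞, the Euler characteristics being the alternating sums FGA.intNum in (A', M_1, …,
M_s), (B', M_1, …, M_s) and (A' ⊗ B', M_1, …, M_s) of the reflexive powers ℒ^[m]. Then c = a + b:
the self-intersection number D^2 · L_0 · L_1 ⋯ L_s is additive in the invertible module L_0. -/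
theorem result (k : Type u) [Field k] [IsAlgClosed k] (X : Scheme.{u}) [X.Over (Spec (CommRingCat.of k))]
    [AlgebraicGeometry.IsIntegral X] (hnorm : Pi1.IsNormalScheme X) (s : ℕ) (hdim : topologicalKrullDim X = (s + 3 : ℕ))
    (hproj : ∃ (N : ℕ) (ι : X ⟶ CohB1.ProjSpace N k), IsClosedImmersion ι ∧ ι ≫ CohB1.ProjSpace.toSpec N k = X ↘ Spec (CommRingCat.of k))
    (L M : Fin s → X.Modules) (hL : ∀ i, PicF.IsInvertible (L i))
    (hLM : ∀ i, Nonempty (CohB1.tensorMod (L i) (M i) ≅ Coh.structureModule X))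
    (A A' B B' : X.Modules) (hA : PicF.IsInvertible A) (hB : PicF.IsInvertible B)
    (hAA' : Nonempty (CohB1.tensorMod A A' ≅ Coh.structureModule X))
    (hBB' : Nonempty (CohB1.tensorMod B B' ≅ Coh.structureModule X))
    (ℒ : X.Modules) (hℒ : RefHull.IsRef1 ℒ) (a b c : ℝ)
    (ha : Filter.Tendsto (fun m : ℕ => (2 : ℝ) * (FGA.intNum k X (s + 3) (Fin.cons A' M) (RefPow.refPow ℒ m) : ℝ) / ((m : ℝ) ^ 2)) Filter.atTop (nhds a))
    (hb : Filter.Tendsto (fun m : ℕ => (2 : ℝ) * (FGA.intNum k X (s + 3) (Fin.cons B' M) (RefPow.refPow ℒ m) : ℝ) / ((m : ℝ) ^ 2)) Filter.atTop (nhds b))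
    (hc : Filter.Tendsto (fun m : ℕ => (2 : ℝ) * (FGA.intNum k X (s + 3) (Fin.cons (CohB1.tensorMod A' B') M) (RefPow.refPow ℒ m) : ℝ) / ((m : ℝ) ^ 2)) Filter.atTop (nhds c)) :
    c = a + b := by
    haveI : IsProper (X ↘ Spec (CommRingCat.of k)) := by
      obtain ⟨N, ι, hι, hι'⟩ := hproj
      haveI := hι
      rw [← hι']; infer_instance
    haveI := Groth.Agent.H28Int.isNoetherian k (X := X)
    obtain ⟨δ, hd, hnn, hle⟩ := Groth.Agent.H26ChowK.exists_isDimFun (X ↘ Spec (CommRingCat.of k))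
    have hψ := Groth.Agent.H26ChowK.isAddG_euler (k := k) (δ := δ) (b := -1) fun x => by
      have := hnn x; omega
    have hM : ∀ i, PicF.IsInvertible (M i) := fun i => (hLM i).elim Groth.Agent.H26ChowK.isInvertible_inv
    have hA' := hAA'.elim Groth.Agent.H26ChowK.isInvertible_inv
    have hB' := hBB'.elim Groth.Agent.H26ChowK.isInvertible_inv
    have hAB' : PicF.IsInvertible (CohB1.tensorMod A' B') := Groth.Agent.H11Ample.isInvertible_tensor hA' hB'
    have hlM : ∀ N ∈ List.ofFn M, PicF.IsInvertible N := Groth.Agent.H28Int.mem_ofFn hM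
    have hl := Groth.Agent.H26ChowK.isAddG_D hd hψ (List.ofFn M) hlM
    have hD := Groth.Agent.H26ChowK.isAddG_D hd hψ (A' :: B' :: List.ofFn M) (fun N hN => by
      rcases List.mem_cons.1 hN with rfl | hN
      · exact hA'
      rcases List.mem_cons.1 hN with rfl | hN
      · exact hB'
      exact hlM N hN)
    have hη := hle _ hdim (genericPoint X)
    let g : X.Modules → ℤ := Groth.Agent.H26ChowK.D (Curv2.euler k X) (A' :: B' :: List.ofFn M)
    have haff : ∀ m : ℕ, g (RefPow.refPow ℒ m) =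
        g (Coh.structureModule X) + (m : ℤ) • (g ℒ - g (Coh.structureModule X)) :=
      hD.refPow_affine hd hnorm (by simp only [List.length_cons, List.length_ofFn]; push_cast at *; omega) hℒ
    have hinv : ∀ P : X.Modules, PicF.IsInvertible P → ∀ i, PicF.IsInvertible ((Fin.cons P M : Fin (s + 1) → X.Modules) i) :=
      fun P hP i => by cases i using Fin.cases <;> simp [hP, hM]
    have hcoh : ∀ m, Coh.IsCoh (RefPow.refPow ℒ m) := fun m => (Groth.Agent.H29Ref.isRef1_refPow hℒ m).1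
    have key : ∀ m : ℕ, FGA.intNum k X (s + 3) (Fin.cons A' M) (RefPow.refPow ℒ m) +
        FGA.intNum k X (s + 3) (Fin.cons B' M) (RefPow.refPow ℒ m) -
        FGA.intNum k X (s + 3) (Fin.cons (CohB1.tensorMod A' B') M) (RefPow.refPow ℒ m) =
        g (Coh.structureModule X) + (m : ℤ) * (g ℒ - g (Coh.structureModule X)) := fun m => by
      rw [Groth.Agent.H28Int.intNum_eq k hdim.le _ (hinv _ hA') (hcoh m),
        Groth.Agent.H28Int.intNum_eq k hdim.le _ (hinv _ hB') (hcoh m),
        Groth.Agent.H28Int.intNum_eq k hdim.le _ (hinv _ hAB') (hcoh m)]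
      simp only [← Groth.Agent.H26ChowK.D_euler_eq, List.ofFn_cons]
      rw [Groth.Agent.H26ChowK.D_cons_tensor (fun e => hl.congr e) A' B', ← smul_eq_mul, ← haff m]
      ring
    have hlim : Filter.Tendsto (fun m : ℕ => (2 : ℝ) * ((g (Coh.structureModule X) : ℝ) +
        (m : ℝ) * ((g ℒ - g (Coh.structureModule X) : ℤ) : ℝ)) / ((m : ℝ) ^ 2)) Filter.atTop (nhds 0) := by
      have h1 : Filter.Tendsto (fun m : ℕ => ((m : ℝ))⁻¹) Filter.atTop (nhds 0) :=
        tendsto_inv_atTop_zero.comp tendsto_natCast_atTop_atTop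
      have h2 := ((h1.mul h1).const_mul (2 * (g (Coh.structureModule X) : ℝ))).add
        (h1.const_mul (2 * ((g ℒ - g (Coh.structureModule X) : ℤ) : ℝ)))
      simp only [mul_zero, add_zero] at h2
      refine h2.congr' ?_
      filter_upwards [Filter.eventually_ge_atTop 1] with m hm
      have : (m : ℝ) ≠ 0 := Nat.cast_ne_zero.2 (by omega)
      field_simp
    have habc := (ha.add hb).sub hc
    have h0 := hlim.congr fun m => show _ = (2 : ℝ) * (FGA.intNum k X (s + 3) (Fin.cons A' M) (RefPow.refPow ℒ m) : ℝ) / ((m : ℝ) ^ 2) +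
        (2 : ℝ) * (FGA.intNum k X (s + 3) (Fin.cons B' M) (RefPow.refPow ℒ m) : ℝ) / ((m : ℝ) ^ 2) -
        (2 : ℝ) * (FGA.intNum k X (s + 3) (Fin.cons (CohB1.tensorMod A' B') M) (RefPow.refPow ℒ m) : ℝ) / ((m : ℝ) ^ 2) by
      have h := congrArg (fun z : ℤ => (z : ℝ)) (key m)
      push_cast at h ⊢
      rw [← h]
      ring
    have := tendsto_nhds_unique habc h0
    linarith

end Groth.Agent.S17918
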