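import Groth.Statements.S17919
import Groth.Agent.H26ChowK.FrobSeq

set_option autoImplicit false
universe u
open CategoryTheory CategoryTheory.Limits AlgebraicGeometry
open RefCh

namespace Groth.Agent.S17919

/-- Let k be an algebraically closed field of characteristic p > 0, X an integral normal scheme of
dimension s + 3 admitting a closed immersion into some P^N_k over k, L_1, …, L_s, A and B invertible
O_X-modules with inverses M_1, …, M_s, A' and B', E a coherent reflexive O_X-module, and (G_m) its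
reflexive Frobenius pull-backs F_X^[m] E (G_0 = E, G_{m+1} ≅ (F_X^* G_m)^**). Suppose χ(c_1(A)
c_1(L_1) ⋯ c_1(L_s) · [G_m]) / p^{2m} → a, χ(c_1(B) c_1(L_1) ⋯ c_1(L_s) · [G_m]) / p^{2m} → b and
χ(c_1(A ⊗ B) c_1(L_1) ⋯ c_1(L_s) · [G_m]) / p^{2m} → c as m → ∞ (alternating sums FGA.intNum in (A',
M_1, …, M_s), (B', M_1, …, M_s) and (A' ⊗ B', M_1, …, M_s)). Then c = a + b: the number ∫_X ch_2(E)
L_0 L_1 ⋯ L_s, defined as such a limit, is additive in the invertible module L_0. -/
theorem result (k : Type u) [Field k] [IsAlgClosed k] (X : Scheme.{u}) [X.Over (Spec (CommRingCat.of k))]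
    [AlgebraicGeometry.IsIntegral X] (hnorm : Pi1.IsNormalScheme X) (s : ℕ) (hdim : topologicalKrullDim X = (s + 3 : ℕ))
    (hproj : ∃ (N : ℕ) (ι : X ⟶ CohB1.ProjSpace N k), IsClosedImmersion ι ∧ ι ≫ CohB1.ProjSpace.toSpec N k = X ↘ Spec (CommRingCat.of k))
    (p : ℕ) [Fact p.Prime] [CharP k p] [FrobSch.IsCharP X p]
    (L M : Fin s → X.Modules) (hL : ∀ i, PicF.IsInvertible (L i))
    (hLM : ∀ i, Nonempty (CohB1.tensorMod (L i) (M i) ≅ Coh.structureModule X))
    (A A' B B' : X.Modules) (hA : PicF.IsInvertible A) (hB : PicF.IsInvertible B)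
    (hAA' : Nonempty (CohB1.tensorMod A A' ≅ Coh.structureModule X))
    (hBB' : Nonempty (CohB1.tensorMod B B' ≅ Coh.structureModule X))
    (E : X.Modules) (hE : Coh.IsCoh E) (hEr : RefHull.IsReflexive E)
    (G : ℕ → X.Modules) (hG0 : G 0 = E)
    (hG : ∀ m, Nonempty (G (m + 1) ≅ RefHull.ddual ((Scheme.Modules.pullback (FrobSch.frob X p)).obj (G m)))) (a b c : ℝ)
    (ha : Filter.Tendsto (fun m : ℕ => (FGA.intNum k X (s + 3) (Fin.cons A' M) (G m) : ℝ) / ((p : ℝ) ^ (2 * m))) Filter.atTop (nhds a))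
    (hb : Filter.Tendsto (fun m : ℕ => (FGA.intNum k X (s + 3) (Fin.cons B' M) (G m) : ℝ) / ((p : ℝ) ^ (2 * m))) Filter.atTop (nhds b))
    (hc : Filter.Tendsto (fun m : ℕ => (FGA.intNum k X (s + 3) (Fin.cons (CohB1.tensorMod A' B') M) (G m) : ℝ) / ((p : ℝ) ^ (2 * m))) Filter.atTop (nhds c)) :
    c = a + b := by
    haveI : IsProper (X ↘ Spec (CommRingCat.of k)) := by
      obtain ⟨N, ι, hι, hι'⟩ := hproj
      haveI := hι
      rw [← hι']; infer_instance
    haveI := Groth.Agent.H28Int.isNoetherian k (X := X)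
    obtain ⟨δ, hd, hnn, hle⟩ := Groth.Agent.H26ChowK.exists_isDimFun (X ↘ Spec (CommRingCat.of k))
    have hψ := Groth.Agent.H26ChowK.isAddG_euler (k := k) (δ := δ) (b := -1) fun x => by
      have := hnn x; omega
    have hM : ∀ i, PicF.IsInvertible (M i) := fun i => (hLM i).elim Groth.Agent.H26ChowK.isInvertible_inv
    have hA' := hAA'.elim Groth.Agent.H26ChowK.isInvertible_inv
    have hB' := hBB'.elim Groth.Agent.H26ChowK.isInvertible_inv
    have hAB' : PicF.IsInvertible (CohB1.tensorMod A' B') := Groth.Agent.H11Ample.isInvertible_tensor hA' hB'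
    have hlM : ∀ N ∈ List.ofFn M, PicF.IsInvertible N := Groth.Agent.H28Int.mem_ofFn hM
    have hl := Groth.Agent.H26ChowK.isAddG_D hd hψ (List.ofFn M) hlM
    have hD := Groth.Agent.H26ChowK.isAddG_D hd hψ (A' :: B' :: List.ofFn M) (fun N hN => by
      rcases List.mem_cons.1 hN with rfl | hN
      · exact hA'
      rcases List.mem_cons.1 hN with rfl | hN
      · exact hB'
      exact hlM N hN)
    have hη := hle _ hdim (genericPoint X)
    let g : X.Modules → ℤ := Groth.Agent.H26ChowK.D (Curv2.euler k X) (A' :: B' :: List.ofFn M)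
    -- `g` kills dimension `≤ δ η - 2`
    have hg : Groth.Agent.H26ChowK.IsAddG δ (δ (genericPoint X) - 2) g := by
      refine ⟨fun e => hD.congr e, hD.add, fun F hF hs => hD.small F hF fun x hx => le_trans (hs x hx) ?_⟩
      simp only [List.length_cons, List.length_ofFn]
      push_cast at *
      omega
    obtain ⟨u, v, huv⟩ : ∃ u v : ℤ, ∀ m : ℕ, g (G m) = (p : ℤ) ^ m * u + v := ⟨_, _, fun m => by
      rw [hg.frobSeq_eq hd hnorm (sub_add_cancel _ _).symm p hE hEr G hG0 hG m, smul_eq_mul, smul_eq_mul]⟩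
    have hinv : ∀ P : X.Modules, PicF.IsInvertible P → ∀ i, PicF.IsInvertible ((Fin.cons P M : Fin (s + 1) → X.Modules) i) :=
      fun P hP i => by cases i using Fin.cases <;> simp [hP, hM]
    have hcoh : ∀ m, Coh.IsCoh (G m) := by
      intro m
      induction m with
      | zero => rw [hG0]; exact hE
      | succ m ih =>
        exact Groth.Agent.H10Coh.isCoh_of_iso (hG m).some.symm
          (Groth.Agent.H29Ref.isCoh_ddual _ (Groth.Agent.H26ChowK.isCoh_pullback' _ ih))
    have key : ∀ m : ℕ, FGA.intNum k X (s + 3) (Fin.cons A' M) (G m) +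
        FGA.intNum k X (s + 3) (Fin.cons B' M) (G m) -
        FGA.intNum k X (s + 3) (Fin.cons (CohB1.tensorMod A' B') M) (G m) = (p : ℤ) ^ m * u + v := fun m => by
      rw [Groth.Agent.H28Int.intNum_eq k hdim.le _ (hinv _ hA') (hcoh m),
        Groth.Agent.H28Int.intNum_eq k hdim.le _ (hinv _ hB') (hcoh m),
        Groth.Agent.H28Int.intNum_eq k hdim.le _ (hinv _ hAB') (hcoh m)]
      simp only [← Groth.Agent.H26ChowK.D_euler_eq, List.ofFn_cons]
      rw [Groth.Agent.H26ChowK.D_cons_tensor (fun e => hl.congr e) A' B', ← huv m]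
      ring
    have hp : (1 : ℝ) < (p : ℝ) := by exact_mod_cast (Fact.out : p.Prime).one_lt
    have h1 : Filter.Tendsto (fun m : ℕ => ((p : ℝ) ^ m)⁻¹) Filter.atTop (nhds 0) :=
      tendsto_inv_atTop_zero.comp (tendsto_pow_atTop_atTop_of_one_lt hp)
    have hlim : Filter.Tendsto (fun m : ℕ => ((p : ℝ) ^ m * (u : ℝ) + (v : ℝ)) / ((p : ℝ) ^ (2 * m)))
        Filter.atTop (nhds 0) := by
      have h2 := ((h1.const_mul (u : ℝ)).add ((h1.mul h1).const_mul (v : ℝ)))
      simp only [mul_zero, add_zero] at h2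
      refine h2.congr fun m => ?_
      have : (p : ℝ) ^ m ≠ 0 := pow_ne_zero _ (by positivity)
      rw [two_mul, pow_add]
      field_simp
    have habc := (ha.add hb).sub hc
    have h0 := hlim.congr fun m => show _ = (FGA.intNum k X (s + 3) (Fin.cons A' M) (G m) : ℝ) / ((p : ℝ) ^ (2 * m)) +
        (FGA.intNum k X (s + 3) (Fin.cons B' M) (G m) : ℝ) / ((p : ℝ) ^ (2 * m)) -
        (FGA.intNum k X (s + 3) (Fin.cons (CohB1.tensorMod A' B') M) (G m) : ℝ) / ((p : ℝ) ^ (2 * m)) by
      have h := congrArg (fun z : ℤ => (z : ℝ)) (key m)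
      push_cast at h ⊢
      rw [← h]
      ring
    have := tendsto_nhds_unique habc h0
    linarith

end Groth.Agent.S17919
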