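import Groth.Statements.S17929
import Groth.Agent.H26ChowK.Main

set_option autoImplicit false
universe u
open CategoryTheory CategoryTheory.Limits AlgebraicGeometry
open RefCh

namespace Groth.Agent.S17929

/-- Let k be an algebraically closed field, X an integral normal scheme of dimension n = s + 2 admitting
a closed immersion into some P^N_k over k, δ a dimension function on X (Cyc.IsSetup) with δ(generic
point) = n, L_1, …, L_s, A and B invertible O_X-modules with inverses M_1, …, M_s, A' and B' (so A'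
⊗ B' is an inverse of A ⊗ B), and ℒ a coherent reflexive O_X-module of rank one (ℒ = O_X(-D)). For a
family (N_0, …, N_s) of modules put S_N(ℒ) = Σ_{I ⊆ {0, …, s}} (-1)^{|I|} ([N_I ⊗ O_X] - [N_I ⊗ ℒ])
in K(X) = K_0(Coh(X)) (classes KZero.clSub of coherent modules), N_I = ⊗_{i∈I} N_i, so that S_{(A',
M_1, …, M_s)}(O_X(-D)) = c_1(A) c_1(L_1) ⋯ c_1(L_s) · [O_D]. Then S_{(A' ⊗ B', M)}(ℒ) = S_{(A',
M)}(ℒ) + S_{(B', M)}(ℒ): the K(X)-valued symbol c_1(L_0) c_1(L_1) ⋯ c_1(L_s) · [O_D] is additive,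
hence ℤ-linear, in the invertible module L_0. -/
theorem result (k : Type u) [Field k] [IsAlgClosed k] (X : Scheme.{u}) [X.Over (Spec (CommRingCat.of k))]
    [AlgebraicGeometry.IsIntegral X] (hnorm : Pi1.IsNormalScheme X) (s : ℕ) (hdim : topologicalKrullDim X = (s + 2 : ℕ))
    (hproj : ∃ (N : ℕ) (ι : X ⟶ CohB1.ProjSpace N k), IsClosedImmersion ι ∧ ι ≫ CohB1.ProjSpace.toSpec N k = X ↘ Spec (CommRingCat.of k))
    (δ : X → ℤ) (hδ : Cyc.IsSetup X δ) (hδη : δ (genericPoint X) = (s + 2 : ℕ))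
    (L M : Fin s → X.Modules) (hL : ∀ i, PicF.IsInvertible (L i))
    (hLM : ∀ i, Nonempty (CohB1.tensorMod (L i) (M i) ≅ Coh.structureModule X))
    (A A' B B' : X.Modules) (hA : PicF.IsInvertible A) (hB : PicF.IsInvertible B)
    (hAA' : Nonempty (CohB1.tensorMod A A' ≅ Coh.structureModule X))
    (hBB' : Nonempty (CohB1.tensorMod B B' ≅ Coh.structureModule X))
    (ℒ : X.Modules) (hℒ : RefHull.IsRef1 ℒ) :
    (∑ I : Finset (Fin (s + 1)), ((-1 : ℤ) ^ I.card) •
        (KZero.clSub (Cyc.CohLe δ (s + 2 : ℕ)) (CohB1.tensorMod (FGA.tensorList ((I.sort (· ≤ ·)).map (Fin.cons (CohB1.tensorMod A' B') M))) (Coh.structureModule X)) -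
          KZero.clSub (Cyc.CohLe δ (s + 2 : ℕ)) (CohB1.tensorMod (FGA.tensorList ((I.sort (· ≤ ·)).map (Fin.cons (CohB1.tensorMod A' B') M))) ℒ))) =
      (∑ I : Finset (Fin (s + 1)), ((-1 : ℤ) ^ I.card) •
        (KZero.clSub (Cyc.CohLe δ (s + 2 : ℕ)) (CohB1.tensorMod (FGA.tensorList ((I.sort (· ≤ ·)).map (Fin.cons A' M))) (Coh.structureModule X)) -
          KZero.clSub (Cyc.CohLe δ (s + 2 : ℕ)) (CohB1.tensorMod (FGA.tensorList ((I.sort (· ≤ ·)).map (Fin.cons A' M))) ℒ))) +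
      (∑ I : Finset (Fin (s + 1)), ((-1 : ℤ) ^ I.card) •
        (KZero.clSub (Cyc.CohLe δ (s + 2 : ℕ)) (CohB1.tensorMod (FGA.tensorList ((I.sort (· ≤ ·)).map (Fin.cons B' M))) (Coh.structureModule X)) -
          KZero.clSub (Cyc.CohLe δ (s + 2 : ℕ)) (CohB1.tensorMod (FGA.tensorList ((I.sort (· ≤ ·)).map (Fin.cons B' M))) ℒ))) := by
    haveI := Groth.Agent.H26ChowK.isNoetherian_of_proj _ hproj
    have hd := hδ.2.2
    have hle : ∀ x : X, δ x ≤ ((s + 2 : ℕ) : ℤ) := fun x => hδη ▸ Groth.Agent.H26ChowK.isDimFun_le_generic hd x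
    have hM : ∀ i, PicF.IsInvertible (M i) := fun i => (hLM i).elim Groth.Agent.H26ChowK.isInvertible_inv
    have hA' := hAA'.elim Groth.Agent.H26ChowK.isInvertible_inv
    have hB' := hBB'.elim Groth.Agent.H26ChowK.isInvertible_inv
    have hAB' : PicF.IsInvertible (CohB1.tensorMod A' B') := Groth.Agent.H11Ample.isInvertible_tensor hA' hB'
    have hψ := Groth.Agent.H26ChowK.isAddG_clSub (X := X) (δ := δ) (b := -1) hle (fun x => by
      have := Groth.Agent.H26ChowK.isDimFun_nonneg hd hdim hδη x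
      omega)
    have hlM : ∀ N ∈ List.ofFn M, PicF.IsInvertible N := fun N hN => by
      obtain ⟨i, rfl⟩ := List.mem_ofFn.1 hN; exact hM i
    have hD := Groth.Agent.H26ChowK.isAddG_D hd hψ (A' :: B' :: List.ofFn M) (fun N hN => by
      rcases List.mem_cons.1 hN with rfl | hN
      · exact hA'
      rcases List.mem_cons.1 hN with rfl | hN
      · exact hB'
      exact hlM N hN)
    have h := hD.eq_of_isRef1 hd hnorm
      (by rw [hδη]; simp only [List.length_cons, List.length_ofFn]; push_cast; omega) hℒ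
    have hinv : ∀ P : X.Modules, PicF.IsInvertible P → ∀ i, PicF.IsInvertible ((Fin.cons P M : Fin (s + 1) → X.Modules) i) :=
      fun P hP i => by cases i using Fin.cases <;> simp [hP, hM]
    simp only [zsmul_sub, Finset.sum_sub_distrib,
      Groth.Agent.H26ChowK.sum_eq_D (fun e => hψ.congr e) _ _ (hinv _ hAB'),
      Groth.Agent.H26ChowK.sum_eq_D (fun e => hψ.congr e) _ _ (hinv _ hA'),
      Groth.Agent.H26ChowK.sum_eq_D (fun e => hψ.congr e) _ _ (hinv _ hB'), List.ofFn_cons]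
    have hl := Groth.Agent.H26ChowK.isAddG_D hd hψ (List.ofFn M) hlM
    rw [Groth.Agent.H26ChowK.D_cons_tensor (fun e => hl.congr e),
      Groth.Agent.H26ChowK.D_cons_tensor (fun e => hl.congr e), h]
    abel

end Groth.Agent.S17929
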