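import Groth.Statements.S17933
import Groth.Agent.H25MultCrv.Filt

set_option autoImplicit false
universe u
open MultCrv

namespace Groth.Agent.S17933

/-- Let R be a discrete valuation ring, n ≥ 1, A = R[X]/(X^n) with z the class of X, and M a finitely
generated A-module. Then M is torsion-free as an R-module if and only if the submodule M^(1) of
elements killed by z is a free R-module. (This is the statement at a closed point of the sheaf
statement: for a primitive multiple curve of multiplicity n the local ring at a closed point is of
the form R[X]/(X^n) with R the local ring of the reduced smooth curve, torsion-freeness is the
absence of sections with finite support, and local freeness on the reduced curve is freeness of the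
stalk; the row is stated for every discrete valuation ring R.) -/
theorem result (R : Type u) [CommRing R] [IsDomain R] [IsDiscreteValuationRing R] (n : ℕ) (hn : 1 ≤ n) (M : Type u) [AddCommGroup M] [Module (MultCrv.Rn R n) M] [Module R M] [IsScalarTower R (MultCrv.Rn R n) M] [Module.Finite (MultCrv.Rn R n) M] : Module.IsTorsionFree R M ↔ Module.Free R ↥(MultCrv.filt2 R n M 1) := by
  open Groth.Agent.H25MultCrv in
    have : NeZero n := ⟨by omega⟩
    exact free_filt2_one_iff

end Groth.Agent.S17933
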