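import Groth.Statements.S17940
import Mathlib

set_option autoImplicit false
universe u
open MultCrv

namespace Groth.Agent.S17940

/-- Let R be a discrete valuation ring, n ≥ 1, A = R[X]/(X^n) with z the class of X, and M an A-module
that is quasi-free of type (m_1, …, m_n), i.e. isomorphic to the direct sum of m_i copies of
A/(z^i). Let φ be a surjective A-linear map from a finitely generated free module A^r onto M that is
bijective modulo z (the preimage of zM is zA^r). Then the kernel of φ is quasi-free of type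
(m_{n-1}, m_{n-2}, …, m_1, 0). (Statement at a closed point of the sheaf statement on a primitive
multiple curve of multiplicity n with local rings R[X]/(X^n), for the kernel of a surjection from a
vector bundle onto a quasi locally free sheaf that is an isomorphism on the reduced curve; stated
for every discrete valuation ring R.) -/
theorem result (R : Type u) [CommRing R] [IsDomain R] [IsDiscreteValuationRing R] (n : ℕ) (hn : 1 ≤ n) (m : Fin n → ℕ) (M : Type u) [AddCommGroup M] [Module (MultCrv.Rn R n) M] (hM : MultCrv.IsQuasiFreeOfType R n M m) (r : ℕ) (φ : (Fin r → MultCrv.Rn R n) →ₗ[MultCrv.Rn R n] M) (hφ : Function.Surjective φ) (hφz : ∀ f : Fin r → MultCrv.Rn R n, φ f ∈ MultCrv.filt R n M 1 → f ∈ MultCrv.filt R n (Fin r → MultCrv.Rn R n) 1) : MultCrv.IsQuasiFreeOfType R n ↥(LinearMap.ker φ) (MultCrv.revType n m) := by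
  classical
  obtain ⟨Ψ⟩ := hM
  let A := MultCrv.Rn R n
  let zz : A := MultCrv.z R n
  have hzn : zz ^ n = 0 := by
    rw [← map_pow, Ideal.Quotient.eq_zero_iff_mem]; exact Ideal.subset_span rfl
  haveI : Nontrivial A := Ideal.Quotient.nontrivial_iff.2 fun h => by
    have h2 := Polynomial.not_isUnit_X (R := R)
    exact h2 ((isUnit_pow_iff (by omega : n ≠ 0)).1 (Ideal.span_singleton_eq_top.1 h))
  -- the model quotient map
  let σ := Σ i : Fin n, Fin (m i)
  let q : (σ → A) →ₗ[A] MultCrv.QFModel R n m :=
    (MultCrv.QFModel.equivPi R n m).symm.toLinearMap ∘ₗ LinearMap.pi fun i => LinearMap.pi fun l =>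
      (Submodule.mkQ (Ideal.span {zz ^ (i.1 + 1)})).comp (LinearMap.proj (⟨i, l⟩ : σ))
  have hq : ∀ a i l, q a i l = Submodule.Quotient.mk (a ⟨i, l⟩) := fun a i l => rfl
  have hqs : Function.Surjective q := fun v => by
    choose a ha using fun s : σ => Submodule.Quotient.mk_surjective _ (v s.1 s.2)
    exact ⟨a, funext fun i => funext fun l => (hq a i l).trans (ha ⟨i, l⟩)⟩
  choose e he using fun s : σ => hφ (Ψ.symm (q (Pi.single s 1)))
  let Λ : (σ → A) →ₗ[A] (Fin r → A) := Fintype.linearCombination A e
  have hΛ : ∀ a, φ (Λ a) = Ψ.symm (q a) := by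
    have : φ ∘ₗ Λ = Ψ.symm.toLinearMap ∘ₗ q := by
      refine (Pi.basisFun A σ).ext fun s => ?_
      simp only [Pi.basisFun_apply, LinearMap.comp_apply, Λ, Fintype.linearCombination_apply_single, one_smul, he]
      rfl
    exact fun a => LinearMap.congr_fun this a
  have hΛs : Function.Surjective Λ := by
    have key : ∀ j, ∀ f : Fin r → A, ∃ a, ∃ g : Fin r → A, f = Λ a + zz ^ j • g := by
      intro j
      induction j with
      | zero => exact fun f => ⟨0, f, by rw [map_zero, pow_zero, one_smul, zero_add]⟩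
      | succ j ih =>
        intro f
        obtain ⟨a, g, rfl⟩ := ih f
        obtain ⟨b, hb⟩ := hqs (Ψ (φ g))
        have h0 : φ (g - Λ b) ∈ MultCrv.filt R n M 1 := by
          rw [map_sub, hΛ, hb, LinearEquiv.symm_apply_apply, sub_self]; exact zero_mem _
        obtain ⟨g', hg'⟩ := hφz _ h0
        refine ⟨a + zz ^ j • b, g', ?_⟩
        have hg'' : zz ^ 1 • g' = g - Λ b := hg'
        rw [pow_one] at hg''
        have e : (zz ^ (j+1)) • g' = zz ^ j • (g - Λ b) := by rw [← hg'', smul_smul, ← pow_succ]
        rw [map_add, map_smul, e, smul_sub]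
        abel
    intro f
    obtain ⟨a, g, rfl⟩ := key n f
    exact ⟨a, by rw [hzn]; funext x; show Λ a x = Λ a x + (0 : A) * g x; simp⟩
  have hcard : Fintype.card σ = r := by
    refine le_antisymm ?_ ?_
    · let J : Ideal A := Ideal.span {zz}
      haveI : Nontrivial (A ⧸ J) := Ideal.Quotient.nontrivial_iff.2 fun h =>
        not_isUnit_zero (M₀ := A) (hzn ▸ (Ideal.span_singleton_eq_top.1 h).pow n)
      have hle : ∀ s : σ, Ideal.span {zz ^ (s.1.1 + 1)} ≤ J := fun s =>
        (Ideal.span_singleton_le_iff_mem _).2 (Ideal.mem_span_singleton.2 (dvd_pow_self _ (Nat.succ_ne_zero _)))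
      let χ : (Fin r → A) →ₗ[A] (σ → A ⧸ J) := LinearMap.pi fun s =>
        (Submodule.factor (hle s)).comp
          ((LinearMap.proj s.2).comp ((LinearMap.proj s.1).comp
            ((MultCrv.QFModel.equivPi R n m).toLinearMap.comp (Ψ.toLinearMap.comp φ))))
      have hχ : ∀ a, χ (Λ a) = fun s => Ideal.Quotient.mk J (a s) := fun a => funext fun s => by
        show Submodule.factor (hle s) (MultCrv.QFModel.equivPi R n m (Ψ (φ (Λ a))) s.1 s.2) = _
        rw [hΛ, LinearEquiv.apply_symm_apply]
        exact rfl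
      let χ' : (Fin r → A ⧸ J) →ₗ[A ⧸ J] (σ → A ⧸ J) := Fintype.linearCombination (A ⧸ J) fun j => χ (Pi.single j 1)
      have hχ' : ∀ f : Fin r → A, χ f = χ' fun j => Ideal.Quotient.mk J (f j) := fun f => by
        conv_lhs => rw [pi_eq_sum_univ' f]
        rw [map_sum, Fintype.linearCombination_apply]
        refine Finset.sum_congr rfl fun j _ => ?_
        rw [map_smul]
        funext s
        rfl
      have hs : Function.Surjective χ' := fun v => by
        choose a ha using fun s => Ideal.Quotient.mk_surjective (v s)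
        exact ⟨_, ((hχ' (Λ a)).symm.trans (hχ a)).trans (funext ha)⟩
      simpa using card_le_of_surjective (A ⧸ J) χ' hs
    · simpa using card_le_of_surjective A Λ hΛs
  have hΛi : Function.Injective Λ := by
    let ε : (Fin r → A) ≃ₗ[A] (σ → A) := LinearEquiv.funCongrLeft A A ((Fintype.equivFin σ).trans (finCongr hcard))
    have h1 : Function.Injective (ε.toLinearMap ∘ₗ Λ) :=
      OrzechProperty.injective_of_surjective_endomorphism _ (ε.surjective.comp hΛs)
    exact fun a b h => h1 (congrArg ε h)
  let Λe := LinearEquiv.ofBijective Λ ⟨hΛi, hΛs⟩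
  -- the kernel is a product of principal ideals
  have e1 : LinearMap.ker φ ≃ₗ[A] LinearMap.ker q :=
    (LinearEquiv.ofSubmodules Λe (LinearMap.ker q) (LinearMap.ker φ) (by
      ext f
      constructor
      · rintro ⟨a, ha, rfl⟩
        show φ (Λ a) = 0
        rw [hΛ, show q a = 0 from ha, map_zero]
      · intro hf
        obtain ⟨a, rfl⟩ := hΛs f
        refine ⟨a, ?_, rfl⟩
        have : Ψ.symm (q a) = 0 := (hΛ a).symm.trans hf
        simpa using this)).symm
  have e2 : LinearMap.ker q ≃ₗ[A] ((i : Fin n) → Fin (m i) → ↥(Ideal.span {zz ^ (i.1 + 1)})) :=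
    { toFun := fun a i l => ⟨a.1 ⟨i, l⟩, (Submodule.Quotient.mk_eq_zero _).1 ((hq a.1 i l).symm.trans (congrFun (congrFun a.2 i) l))⟩
      map_add' := fun a b => rfl
      map_smul' := fun c a => rfl
      invFun := fun v => ⟨fun s => (v s.1 s.2 : A), funext fun i => funext fun l =>
        (hq _ i l).trans ((Submodule.Quotient.mk_eq_zero _).2 (v i l).2)⟩
      left_inv := fun a => Subtype.ext (funext fun s => rfl)
      right_inv := fun v => funext fun i => funext fun l => Subtype.ext rfl }
  have e3 : ∀ k : ℕ, k ≤ n → Nonempty (MultCrv.Oi R n (n - k) ≃ₗ[A] ↥(Ideal.span {zz ^ k})) := fun k hk => by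
    let μ : A →ₗ[A] ↥(Ideal.span {zz ^ k}) := LinearMap.toSpanSingleton A _ ⟨zz ^ k, Ideal.subset_span rfl⟩
    have hμs : Function.Surjective μ := fun ⟨w, hw⟩ => by
      obtain ⟨c, hc⟩ := Ideal.mem_span_singleton'.1 hw
      exact ⟨c, Subtype.ext hc⟩
    have hμk : LinearMap.ker μ = Ideal.span {zz ^ (n - k)} := by
      ext a
      rw [LinearMap.mem_ker, Ideal.mem_span_singleton]
      constructor
      · intro h
        have h' : a * zz ^ k = 0 := congrArg Subtype.val h
        obtain ⟨f, rfl⟩ := Ideal.Quotient.mk_surjective a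
        rw [← map_pow, ← map_mul, Ideal.Quotient.eq_zero_iff_mem, Ideal.mem_span_singleton] at h'
        rw [show (Polynomial.X : Polynomial R) ^ n = Polynomial.X ^ (n - k) * Polynomial.X ^ k by
          rw [← pow_add, Nat.sub_add_cancel hk]] at h'
        obtain ⟨c, hc⟩ := h'
        have hcancel : f = Polynomial.X ^ (n - k) * c :=
          mul_right_cancel₀ (pow_ne_zero k Polynomial.X_ne_zero) (by rw [hc]; ring)
        exact ⟨Ideal.Quotient.mk _ c, by rw [← map_pow, ← map_mul, hcancel]⟩
      · rintro ⟨c, rfl⟩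
        refine Subtype.ext ?_
        show zz ^ (n - k) * c * zz ^ k = 0
        rw [mul_comm _ c, mul_assoc, ← pow_add, Nat.sub_add_cancel hk, hzn, mul_zero]
    exact ⟨(Submodule.quotEquivOfEq _ _ hμk.symm).trans (μ.quotKerEquivOfSurjective hμs)⟩
  have e4 := fun i : Fin n => (e3 (i.1 + 1) i.2).some.symm
  let π : Fin n → Fin n := fun i => if h : i.1 + 1 < n then ⟨n - 2 - i.1, by omega⟩ else i
  have hπ : Function.Involutive π := fun i => by
    apply Fin.ext
    have := i.2
    by_cases h : i.1 + 1 < n
    · have h' : n - 2 - i.1 + 1 < n := by omega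
      simp only [π, dif_pos h, dif_pos h']
      omega
    · simp only [π, dif_neg h]
  let πe : Fin n ≃ Fin n := hπ.toPerm π
  have e5 : ((i : Fin n) → Fin (m i) → MultCrv.Oi R n (n - (i.1 + 1))) ≃ₗ[A] MultCrv.QFModel R n (MultCrv.revType n m) := by
    let ea := LinearEquiv.piCongrLeft' A (fun i : Fin n => Fin (m i) → MultCrv.Oi R n (n - (i.1+1))) πe
    suffices hh : ∀ j : Fin n, (Fin (m (πe.symm j)) → MultCrv.Oi R n (n - ((πe.symm j).1+1))) ≃ₗ[A] (Fin (MultCrv.revType n m j) → MultCrv.Oi R n (j.1+1)) from
      ea.trans ((LinearEquiv.piCongrRight hh).trans (MultCrv.QFModel.equivPi R n (MultCrv.revType n m)).symm)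
    intro j
    have hsymm : πe.symm j = π j := rfl
    rw [hsymm]
    by_cases h : j.1 + 1 < n
    · have h1 : n - ((π j).1 + 1) = j.1 + 1 := by simp only [π, dif_pos h]; omega
      have h2 : MultCrv.revType n m j = m (π j) := by simp only [MultCrv.revType, π, dif_pos h]
      rw [h1]
      exact LinearEquiv.funCongrLeft A _ (finCongr h2)
    · have h1 : n - ((π j).1 + 1) = 0 := by simp only [π, dif_neg h]; omega
      have h2 : MultCrv.revType n m j = 0 := by simp only [MultCrv.revType, dif_neg h]
      haveI : Subsingleton (MultCrv.Oi R n (n - ((π j).1 + 1))) := by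
        rw [h1]; exact Ideal.Quotient.subsingleton_iff.2 (by simp)
      haveI : IsEmpty (Fin (MultCrv.revType n m j)) := by rw [h2]; exact Fin.isEmpty
      exact 0
  exact ⟨((e1.trans e2).trans (LinearEquiv.piCongrRight fun i => LinearEquiv.piCongrRight fun _ => e4 i)).trans e5⟩

end Groth.Agent.S17940
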