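import Groth.Statements.S17947
import Groth.Agent.H26Hens.Glue
import Groth.Agent.H26Hens.Lift

set_option autoImplicit false
universe u
open CategoryTheory AlgebraicGeometry Opposite
open HensSch

namespace Groth.Agent.S17947

open Groth.Agent.H26Hens TopologicalSpace Topology in
theorem hom_ext_chart {X : Scheme.{u}} {Y : Set X} {Xh : LocallyRingedSpace.{u}} {ι : Xh ⟶ X.toLocallyRingedSpace}
    {A : Type u} [CommRing A] (j : Spec (CommRingCat.of A) ⟶ X) [IsOpenImmersion j]
    {V : LocallyRingedSpace.{u}} (v : V ⟶ Xh) [LocallyRingedSpace.IsOpenImmersion v] {π : V ⟶ specLRS A}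
    (hv : Set.range v.base = ι.base ⁻¹' Set.range j.base) (hcomm : v ≫ ι = π ≫ j.toLRSHom)
    (hsph : IsSph A (PrimeSpectrum.vanishingIdeal (j.base ⁻¹' Y)) V π)
    {Q : LocallyRingedSpace.{u}} (hQ : AllHens Q) (a b : Q ⟶ Xh) (h : a ≫ ι = b ≫ ι)
    (hr : ∀ q, (a ≫ ι).base q ∈ Set.range j.base) : a = b := by
  haveI : LocallyRingedSpace.IsOpenImmersion j.toLRSHom := ‹IsOpenImmersion j›
  have ha : Set.range a.base ⊆ Set.range v.base := by
    rintro _ ⟨q, rfl⟩; rw [hv]; exact hr q
  have hb : Set.range b.base ⊆ Set.range v.base := by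
    rintro _ ⟨q, rfl⟩; rw [hv]
    have := hr q
    rw [h] at this
    exact this
  have e1 := LocallyRingedSpace.IsOpenImmersion.lift_fac v a ha
  have e2 := LocallyRingedSpace.IsOpenImmersion.lift_fac v b hb
  set a' := LocallyRingedSpace.IsOpenImmersion.lift v a ha
  set b' := LocallyRingedSpace.IsOpenImmersion.lift v b hb
  have e : a' ≫ π = b' ≫ π := by
    rw [← cancel_mono j.toLRSHom, Category.assoc, Category.assoc, ← hcomm, ← Category.assoc, ← Category.assoc,
      e1, e2, h]
  rw [← e1, ← e2, hom_ext_sph hsph hQ (fun q => range_le hsph (a'.base q)) rfl e.symm]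

open Groth.Agent.H26Hens TopologicalSpace Topology in
/-- Let `ι : Xh ⟶ X` be the Henselization of a scheme `X` along a closed subset `Y`. For every Henselian
scheme `Z` (a locally ringed space covered by affine Henselian spectra of Henselian pairs) and every
morphism of locally ringed spaces `g : Z ⟶ X` whose image lies in `Y`, there is exactly one morphism
`Z ⟶ Xh` whose composite with `ι` is `g` (the Henselization is final among such `Z`). -/
theorem result (X : Scheme.{u}) (Y : Set X)
    (Xh : LocallyRingedSpace.{u}) (ι : Xh ⟶ X.toLocallyRingedSpace)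
    (hh : HensSch.IsHenselizationAlong X Y Xh ι)
    (Z : LocallyRingedSpace.{u}) (hZ : HensSch.IsHensScheme Z) (g : Z ⟶ X.toLocallyRingedSpace)
    (hg : Set.range g.base ⊆ Y) : ∃! g' : Z ⟶ Xh, g' ≫ ι = g := by
  obtain ⟨-, hι, -, hchart⟩ := hh
  have hAll := allHens_of_isHensScheme hZ
  choose A _ j hj hmem V v hv π hrange hcomm hsph using fun z : Z => hchart (g.base z) (hg ⟨z, rfl⟩)
  haveI := fun z => (hj z : LocallyRingedSpace.IsOpenImmersion (j z).toLRSHom)
  haveI := hj
  haveI := hv
  let O : Z → Opens Z := fun z => ⟨g.base ⁻¹' Set.range (j z).base,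
    (j z).isOpenEmbedding.isOpen_range.preimage g.base.hom.continuous⟩
  let q := fun z => Z.ofRestrict (Opens.isOpenEmbedding (O z))
  have hO : ∀ z, Set.range (q z ≫ g).base ⊆ Set.range (j z).toLRSHom.base := by
    rintro z _ ⟨t, rfl⟩; exact t.2
  have hHens : ∀ z, AllHens _ := fun z => allHens_of_openImmersion (q z) hAll
  let k := fun z => LocallyRingedSpace.IsOpenImmersion.lift (j z).toLRSHom (q z ≫ g) (hO z)
  have hk : ∀ z, k z ≫ (j z).toLRSHom = q z ≫ g := fun z => LocallyRingedSpace.IsOpenImmersion.lift_fac _ _ _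
  have hI : ∀ z t, PrimeSpectrum.vanishingIdeal ((j z).base ⁻¹' Y) ≤ ((k z).base t).asIdeal := fun z t a ha =>
    (PrimeSpectrum.mem_vanishingIdeal _ _).1 ha _ (by
      show (k z ≫ (j z).toLRSHom).base t ∈ Y
      rw [hk]
      exact hg ⟨_, rfl⟩)
  choose l hl using fun z => exists_lift_sph (hsph z) (hHens z) (hI z)
  have hf : ∀ z, (l z ≫ v z) ≫ ι = q z ≫ g := fun z => by
    rw [Category.assoc, hcomm, ← Category.assoc, hl, hk]
  have hcov : ∀ z, ∃ a u, (q a).base u = z := fun z => ⟨z, ⟨z, hmem z⟩, rfl⟩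
  obtain ⟨m, hm⟩ := exists_glue q hcov (fun z => l z ≫ v z)
    (fun a b Q p p' hp' h => hom_ext_chart (j a) (v a) (hrange a) (hcomm a) (hsph a)
      (allHens_of_openImmersion p' (hHens b)) _ _
      (by rw [Category.assoc, hf, Category.assoc, hf, reassoc_of% h])
      (fun t => by
        rw [Category.assoc, hf]
        exact (p.base t).2))
    (fun a b x y h => hι.injective (by
      show ((l a ≫ v a) ≫ ι).base x = ((l b ≫ v b) ≫ ι).base y
      rw [hf, hf]
      exact congrArg g.base h))
  have hm' : m ≫ ι = g := hom_ext_cover q hcov fun a => by rw [reassoc_of% (hm a), hcomm, ← Category.assoc, hl, hk]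
  refine ⟨m, hm', fun m' h' => hom_ext_cover q hcov fun a => ?_⟩
  exact hom_ext_chart (j a) (v a) (hrange a) (hcomm a) (hsph a) (hHens a) _ _
    (by rw [Category.assoc, Category.assoc, hm', h']) (fun t => by
      rw [Category.assoc, h']
      exact t.2)

end Groth.Agent.S17947
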