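import Groth.Statements.S17949
import Groth.Agent.H26Hens.Glue
import Groth.Agent.H26Hens.Lift

set_option autoImplicit false
universe u
open CategoryTheory AlgebraicGeometry Opposite
open HensSch
open Groth.Agent.H26Hens

namespace Groth.Agent.S17949

/-- Let `X` be a Henselian scheme and let `U = Sph(A, I)`, `V = Sph(B, J)` be affine Henselian opens of
`X` (open immersions `iU`, `iV` of the affine Henselian spectra of Henselian pairs). Then every
point of `U ∩ V` lies in an open subset of `X` which is at the same time the image of a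
distinguished open `D(f) ∩ V(I)` of `U` and the image of a distinguished open `D(g) ∩ V(J)` of `V`. -/
theorem result (X : LocallyRingedSpace.{u}) (hX : HensSch.IsHensScheme X)
    (U V : LocallyRingedSpace.{u}) (iU : U ⟶ X) [LocallyRingedSpace.IsOpenImmersion iU]
    (iV : V ⟶ X) [LocallyRingedSpace.IsOpenImmersion iV]
    (A : Type u) [CommRing A] (I : Ideal A) [HenselianRing A I] (πU : U ⟶ HensSch.specLRS A)
    (hU : HensSch.IsSph A I U πU)
    (B : Type u) [CommRing B] (J : Ideal B) [HenselianRing B J] (πV : V ⟶ HensSch.specLRS B)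
    (hV : HensSch.IsSph B J V πV)
    (x : X) (hxU : x ∈ Set.range iU.base) (hxV : x ∈ Set.range iV.base) :
    ∃ (f : A) (g : B), x ∈ iU.base '' (HensSch.dOpen πU f : Set U) ∧
      iU.base '' (HensSch.dOpen πU f : Set U) = iV.base '' (HensSch.dOpen πV g : Set V) := by
  obtain ⟨u, rfl⟩ := hxU
  obtain ⟨w, hw⟩ := hxV
  obtain ⟨g, hwg, hgle⟩ := exists_dOpen_le hV w ((TopologicalSpace.Opens.map iV.base).obj (image iU ⊤))
    ⟨u, trivial, hw.symm⟩
  let E' := image iV (HensSch.dOpen πV g)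
  obtain ⟨f, huf, hfle⟩ := exists_dOpen_le hU u ((TopologicalSpace.Opens.map iU.base).obj E') ⟨w, hwg, hw⟩
  let pre' := (TopologicalSpace.Opens.map iU.base).obj E'
  have he : E' = image iU pre' := TopologicalSpace.Opens.ext (by
    rw [coe_image]
    refine (Set.image_preimage_eq_of_subset ?_).symm
    rintro _ ⟨y, hy, rfl⟩
    obtain ⟨z, -, hz⟩ := hgle hy
    exact ⟨z, hz⟩)
  obtain ⟨s, hs⟩ := (appLE_bijective_of_eq iU pre' he (fun _ hx => hx)).2 (sec πU pre' f)
  have hiV : ∀ y ∈ HensSch.dOpen πV g, iV.base y ∈ E' := fun y hy => ⟨y, hy, rfl⟩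
  obtain ⟨n, a, hna⟩ := exists_num_vanish hV g (appLE iV E' (HensSch.dOpen πV g) hiV s)
  have hnv := map_secMap_le_vanish πV (PrimeSpectrum.basicOpen g) (I := J) (fun v _ => range_le hV v) hna
  have key : ∀ (y : V) (hy : y ∈ HensSch.dOpen πV g) (z : U), iU.base z = iV.base y →
      (f ∉ (πU.base z).asIdeal ↔ a ∉ (πV.base y).asIdeal) := by
    intro y hy z hz
    have hzp : z ∈ pre' := by show iU.base z ∈ E'; rw [hz]; exact hiV y hy
    rw [← isUnit_germ_iff_num πV g hnv y hy, ← isUnit_germ_sec πU pre' z hzp f, ← hs,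
      isUnit_germ_appLE, isUnit_germ_appLE]
    have : ∀ p q (hp : p ∈ E') (hq : q ∈ E'), p = q →
        (IsUnit (X.presheaf.germ E' p hp s) ↔ IsUnit (X.presheaf.germ E' q hq s)) := by
      rintro p q hp hq rfl; exact Iff.rfl
    exact this _ _ _ _ hz
  refine ⟨f, g * a, ⟨u, huf, rfl⟩, Set.ext fun p => ⟨?_, ?_⟩⟩
  · rintro ⟨z, hz, rfl⟩
    obtain ⟨y, hy, hyz⟩ := hfle hz
    refine ⟨y, fun h => ?_, hyz⟩
    rcases (πV.base y).isPrime.mem_or_mem h with h | h
    · exact hy h
    · exact (key y hy z hyz.symm).1 hz h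
  · rintro ⟨y, hy, rfl⟩
    have hyg : y ∈ HensSch.dOpen πV g := fun h => hy ((πV.base y).asIdeal.mul_mem_right _ h)
    obtain ⟨z, -, hz⟩ := hgle hyg
    exact ⟨z, (key y hyg z hz).2 (fun h => hy ((πV.base y).asIdeal.mul_mem_left _ h)), hz⟩

end Groth.Agent.S17949
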