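import Groth.Statements.S17952
import Groth.Agent.H26Hens.Flat

set_option autoImplicit false
universe u
open CategoryTheory AlgebraicGeometry Opposite
open HensSch

namespace Groth.Agent.S17952

open Groth.Agent.H26Hens.Flatness

/-- Let `ι : Xh ⟶ X` be the Henselization of a scheme `X` along a closed subset `Y`. The inverse image
`F ↦ F^h = ι^* F` on sheaves of modules preserves finite limits (finite colimits come for free from
the adjunction), so it is exact. (The published statement concerns the functor between the
categories of quasi-coherent modules on `X` and on `Xh`; the published argument, flatness of `Xh ⟶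
X` on local rings, gives exactness on all modules, which is the form stated here and implies the
quasi-coherent one.) -/
theorem result (X : Scheme.{u}) (Y : Set X)
    (Xh : LocallyRingedSpace.{u}) (ι : Xh ⟶ X.toLocallyRingedSpace)
    (hh : HensSch.IsHenselizationAlong X Y Xh ι) :
    Limits.PreservesFiniteLimits (HensSch.pullMod ι) := by
    refine preservesFiniteLimits_pullMod ι fun x => ?_
    obtain ⟨-, -, hr, hloc⟩ := hh
    obtain ⟨A, _, j, _, hxj, V, v, _, π, hv, hcomm, hsph⟩ := hloc (ι.base x) (hr ▸ ⟨x, rfl⟩)
    obtain ⟨y, rfl⟩ : x ∈ Set.range v.base := hv ▸ hxj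
    have hπj : (LocallyRingedSpace.Hom.stalkMap (π ≫ j.toLRSHom) y).hom.Flat := by
      refine (congrArg (fun f => f.hom.Flat) (LocallyRingedSpace.stalkMap_comp π j.toLRSHom y)).mpr ?_
      exact RingHom.Flat.comp (RingHom.Flat.of_bijective (ConcreteCategory.bijective_of_isIso
        (j.toLRSHom.stalkMap (π.base y)))) (flat_stalkMap hsph y)
    have h1 : (LocallyRingedSpace.Hom.stalkMap (v ≫ ι) y).hom.Flat := by
      refine (congrArg (fun f => f.hom.Flat)
        (LocallyRingedSpace.stalkMap_congr_hom (v ≫ ι) (π ≫ j.toLRSHom) hcomm y)).mpr ?_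
      exact RingHom.Flat.comp (RingHom.Flat.of_bijective (ConcreteCategory.bijective_of_isIso
        (TopCat.Presheaf.stalkCongr _ (.of_eq (by rw [hcomm]))).hom)) hπj
    replace h1 : ((v.stalkMap y).hom.comp (ι.stalkMap (v.base y)).hom).Flat :=
      (congrArg (fun f => f.hom.Flat) (LocallyRingedSpace.stalkMap_comp v ι y)).mp h1
    have hv' : Function.Bijective (v.stalkMap y).hom := ConcreteCategory.bijective_of_isIso _
    let e := RingEquiv.ofBijective _ hv'
    have he : (ι.stalkMap (v.base y)).hom =
        e.symm.toRingHom.comp ((v.stalkMap y).hom.comp (ι.stalkMap (v.base y)).hom) := by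
      ext a; exact (e.symm_apply_apply _).symm
    rw [he]
    exact h1.comp (RingHom.Flat.of_bijective e.symm.bijective)

end Groth.Agent.S17952
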