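import Groth.Statements.S17954
import Groth.Agent.LeadHens.FullFaith
import Groth.Agent.H10Coh.Proper
import Groth.Agent.H11Ample.Ample

set_option autoImplicit false
universe u
open CategoryTheory AlgebraicGeometry Opposite
open HensSch

namespace Groth.Agent.S17954

/-- Let `(A, I)` be a Noetherian Henselian pair with `A` `I`-adically complete, `X` a proper `A`-scheme
with `I`-adic Henselization `ι : Xh ⟶ X` (the Henselization along the preimage of `V(I)`), and `F` a
coherent `O_X`-module. Then the natural map `Γ(X, F) → Γ(Xh, F^h)` (the unit of the inverse-image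
adjunction on global sections) is bijective. -/
theorem result (A : Type u) [CommRing A] (I : Ideal A) [IsNoetherianRing A]
    [HenselianRing A I] [IsAdicComplete I A]
    (X : Scheme.{u}) (s : X ⟶ Spec (CommRingCat.of A)) [IsProper s]
    (Xh : LocallyRingedSpace.{u}) (ι : Xh ⟶ X.toLocallyRingedSpace)
    (hh : HensSch.IsHenselizationAlong X (s.base ⁻¹' PrimeSpectrum.zeroLocus (I : Set A)) Xh ι)
    (F : X.Modules) (hF : Coh.IsCoh F) :
    Function.Bijective (((HensSch.pullPushAdj ι).unit.app F).val.app (op ⊤)) := by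
  letI : X.Over (Spec (CommRingCat.of A)) := ⟨s⟩
  haveI : IsProper (X ↘ Spec (CommRingCat.of A)) := ‹IsProper s›
  haveI : IsLocallyNoetherian X := LocallyOfFiniteType.isLocallyNoetherian s
  have hO : Coh.IsCoh (Coh.structureModule X) := Groth.Agent.H10Coh.isCoh_structureModule' X
  let adj := HensSch.pullPushAdj ι
  let N : X.Modules := (HensSch.pushMod ι).obj ((HensSch.pullMod ι).obj F)
  let η : F ⟶ N := adj.unit.app F
  have hb : Function.Bijective (fun φ : Coh.structureModule X ⟶ F => φ ≫ η) := by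
    have h := (adj.homEquiv (Coh.structureModule X) ((HensSch.pullMod ι).obj F)).bijective.comp
      (Groth.Agent.LeadHens.bijective_map ι hh (Coh.structureModule X) F hO hF)
    refine Eq.mpr (congrArg Function.Bijective (funext fun φ => ?_)) h
    show φ ≫ η = adj.homEquiv _ _ ((HensSch.pullMod ι).map φ)
    rw [Adjunction.homEquiv_unit]
    exact adj.unit.naturality φ
  have hint : ∀ {M : X.Modules} (φ : Coh.structureModule X ⟶ M) (W : X.Opens) (r : Γ(X, W)),
      φ.app W r = r • M.presheaf.map (homOfLE (le_top : W ≤ ⊤)).op (φ.app ⊤ (1 : Γ(X, ⊤))) := fun {M} φ W r => by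
    have h1 := congr($(((SheafOfModules.toSheaf _).map φ).hom.naturality (homOfLE (le_top : W ≤ ⊤)).op) (1 : Γ(X, ⊤)))
    refine Eq.trans ?_ (congrArg (r • ·) h1)
    show φ.app W r = r • φ.app W (X.presheaf.map (homOfLE (le_top : W ≤ ⊤)).op (1 : Γ(X, ⊤)))
    rw [map_one]
    refine Eq.trans ?_ (Scheme.Modules.Hom.app_smul φ r _)
    exact congrArg (φ.app W) (mul_one r).symm
  refine ⟨fun a b h => ?_, fun b => ?_⟩
  · have h2 : ∀ g : Γ(F, ⊤), (Groth.Agent.H11Tilde.homOfGlobal F g ≫ η).app ⊤ (1 : Γ(X, ⊤)) = η.app ⊤ g := fun g =>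
      congrArg (η.app ⊤) (Groth.Agent.H11Ample.val_homOfGlobal g)
    have heq : Groth.Agent.H11Tilde.homOfGlobal F a = Groth.Agent.H11Tilde.homOfGlobal F b := hb.1 (by
      refine Scheme.Modules.hom_ext _ _ fun W => ConcreteCategory.hom_ext _ _ fun r => ?_
      refine (hint _ W r).trans (Eq.trans ?_ (hint _ W r).symm)
      rw [h2, h2]
      exact congrArg (fun x : Γ(N, ⊤) => (show Γ(X, W) from r) • (show Γ(N, W) from N.presheaf.map (homOfLE (le_top : W ≤ ⊤)).op x)) h)
    exact (Groth.Agent.H11Ample.val_homOfGlobal a).symm.trans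
      ((congrArg (fun φ => φ.app ⊤ (1 : Γ(X, ⊤))) heq).trans (Groth.Agent.H11Ample.val_homOfGlobal b))
  · obtain ⟨φ, hφ⟩ := hb.2 (Groth.Agent.H11Tilde.homOfGlobal N b)
    refine ⟨φ.app ⊤ (1 : Γ(X, ⊤)), ?_⟩
    exact (congrArg (fun ψ : Coh.structureModule X ⟶ N => ψ.app ⊤ (1 : Γ(X, ⊤))) hφ).trans
      (Groth.Agent.H11Ample.val_homOfGlobal (L := N) b)

end Groth.Agent.S17954
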