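import Groth.Statements.S17959
import Groth.Agent.H9Hens.IdemLiftFree
import Groth.Agent.H18Et.FEtRestrictGamma
import Mathlib.AlgebraicGeometry.Morphisms.Flat
import Mathlib.AlgebraicGeometry.Morphisms.Finite
import Mathlib.AlgebraicGeometry.PullbackCarrier
import Mathlib.LinearAlgebra.TensorProduct.Quotient
import Mathlib.RingTheory.Flat.Basic
-- import your own Groth.Agent.* helpers here

set_option autoImplicit false
open CategoryTheory CategoryTheory.Limits AlgebraicGeometry
universe u
open Hensel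

namespace Groth.Agent.S17959

open CategoryTheory CategoryTheory.Limits AlgebraicGeometry

theorem isPushout_sections {B C : CommRingCat.{u}} (φ : B ⟶ C) [Flat (Spec.map φ)] {Z W : Scheme.{u}}
    [CompactSpace ↥Z] [QuasiSeparatedSpace ↥Z] {z : Z ⟶ Spec B} {w₁ : W ⟶ Z} {w₂ : W ⟶ Spec C}
    (H : IsPullback w₁ w₂ z (Spec.map φ)) :
    IsPushout ((Scheme.ΓSpecIso B).inv ≫ z.appTop) φ w₁.appTop ((Scheme.ΓSpecIso C).inv ≫ w₂.appTop) := by
  have h := isIso_pushoutSection_of_isQuasiSeparated_of_flat_right H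
    (US := ⊤) (UT := ⊤) (UX := ⊤) (UY := ⊤) le_top le_top (by simp) (isAffineOpen_top _) (isAffineOpen_top _)
    isCompact_univ (isQuasiSeparated_univ)
  have h2 := (isIso_pushoutSection_iff H le_top le_top (by simp)).1 h
  refine h2.of_iso (Scheme.ΓSpecIso B) (Iso.refl _) (Scheme.ΓSpecIso C) (Iso.refl _) ?_ ?_ ?_ ?_
  · simp [Scheme.Hom.app_eq_appLE, Scheme.Hom.appTop]
  · simpa [Scheme.Hom.app_eq_appLE, Scheme.Hom.appTop] using (Scheme.ΓSpecIso_naturality φ)
  · simp [Scheme.Hom.app_eq_appLE, Scheme.Hom.appTop]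
  · simp [Scheme.Hom.app_eq_appLE, Scheme.Hom.appTop]

theorem idem_eq {W : Scheme.{u}} {a b : Γ(W, ⊤)} (ha : a * a = a) (hb : b * b = b)
    (h : W.basicOpen a = W.basicOpen b) : a = b := by
  refine TopCat.Presheaf.section_ext W.sheaf ⊤ a b fun x hx => ?_
  have hab : IsUnit (W.presheaf.germ ⊤ x hx a) ↔ IsUnit (W.presheaf.germ ⊤ x hx b) := by
    rw [← W.mem_basicOpen_top a x, ← W.mem_basicOpen_top b x, h]
  have key : ∀ c : Γ(W, ⊤), c * c = c → (W.presheaf.germ ⊤ x hx c = 1 ∧ IsUnit (W.presheaf.germ ⊤ x hx c)) ∨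
      (W.presheaf.germ ⊤ x hx c = 0 ∧ ¬ IsUnit (W.presheaf.germ ⊤ x hx c)) := by
    intro c hc
    have h1 : W.presheaf.germ ⊤ x hx c * W.presheaf.germ ⊤ x hx c = W.presheaf.germ ⊤ x hx c := by
      rw [← map_mul, hc]
    by_cases hu : IsUnit (W.presheaf.germ ⊤ x hx c)
    · exact Or.inl ⟨(IsIdempotentElem.iff_eq_one_of_isUnit hu).1 h1, hu⟩
    · refine Or.inr ⟨?_, hu⟩
      have h2 := (IsLocalRing.isUnit_or_isUnit_one_sub_self _).resolve_left hu
      refine h2.mul_right_eq_zero.1 ?_
      rw [sub_mul, one_mul, h1, sub_self]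
  show W.presheaf.germ ⊤ x hx a = W.presheaf.germ ⊤ x hx b
  rcases key a ha with ⟨e1, u1⟩ | ⟨e1, u1⟩ <;> rcases key b hb with ⟨e2, u2⟩ | ⟨e2, u2⟩
  · rw [e1, e2]
  · exact absurd (hab.1 u1) u2
  · exact absurd (hab.2 u2) u1
  · rw [e1, e2]

open TensorProduct in
theorem mem_map_of_isPushout {B C A P : CommRingCat.{u}} {φ : B ⟶ C} {ι : B ⟶ A} {l : A ⟶ P} {r : C ⟶ P}
    (h : IsPushout ι φ l r) (hfl : φ.hom.Flat) (c : C) (hc : r c = 0) :
    c ∈ (RingHom.ker ι.hom).map φ.hom := by
  algebraize [φ.hom, ι.hom]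
  let e := h.isoIsPushout _ _ (CommRingCat.isPushout_tensorProduct B A C)
  have h1 : ((1 : A) ⊗ₜ[B] c : A ⊗[B] C) = 0 := by
    have h2 := congrArg e.hom.hom hc
    rw [map_zero, ← CommRingCat.comp_apply, IsPushout.inr_isoIsPushout_hom] at h2
    exact h2
  let J := RingHom.ker ι.hom
  let m : (B ⧸ J) →ₗ[B] A := (J : Submodule B B).liftQ (Algebra.linearMap B A) fun x hx => hx
  have hm : Function.Injective m := by
    rw [← LinearMap.ker_eq_bot]
    exact Submodule.ker_liftQ_eq_bot _ _ _ fun x hx => hx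
  have h3 : ((1 : B ⧸ J) ⊗ₜ[B] c : (B ⧸ J) ⊗[B] C) = 0 := by
    refine Module.Flat.rTensor_preserves_injective_linearMap (M := C) m hm ?_
    rw [LinearMap.rTensor_tmul, map_zero]
    have h4 : m 1 = 1 := map_one (algebraMap B A)
    rw [h4]
    exact h1
  have h5 := congrArg (TensorProduct.quotTensorEquivQuotSMul C J) h3
  rw [map_zero, ← map_one (Ideal.Quotient.mk J), TensorProduct.quotTensorEquivQuotSMul_mk_tmul, one_smul, Submodule.Quotient.mk_eq_zero, Ideal.smul_top_eq_map] at h5
  exact h5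

/-- Let X be a quasi-compact quasi-separated scheme and i : X₀ ⟶ X a closed immersion such that (X, X₀)
is a henselian couple, i.e. for every finite morphism g : Y ⟶ X every open-closed subset of Y ×_X X₀
is the inverse image under the first projection of exactly one open-closed subset of Y. Let B = Γ(X,
O_X) and let J be the kernel of the restriction map B → Γ(X₀, O_{X₀}). Then (B, J) is a henselian
pair. -/
theorem result {X X₀ : Scheme.{u}}
    (i : X₀ ⟶ X) [IsClosedImmersion i] [CompactSpace ↥X] [QuasiSeparatedSpace ↥X]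
    (hX : ∀ (Y : Scheme.{u}) (g : Y ⟶ X), IsFinite g →
      ∀ V : Set ↥(pullback g (i)), IsClopen V →
        ∃! U : Set ↥Y, IsClopen U ∧ (pullback.fst g (i)).base ⁻¹' U = V) :
    HenselianRing (Γ(X, ⊤) : Type u) (RingHom.ker i.appTop.hom) := by
  refine Groth.Agent.H9Hens.IdemLiftFree.henselianRing_of_idem_lift_free ?_ ?_
  · intro b hb
    rw [Ideal.mem_jacobson_bot]
    intro y
    let b' : Γ(X, ⊤) := b * y + 1
    let q : Γ(X, ⊤) ⟶ CommRingCat.of ((Γ(X, ⊤) : Type u) ⧸ Ideal.span {b'}) :=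
      CommRingCat.ofHom (Ideal.Quotient.mk _)
    haveI : IsClosedImmersion (Spec.map q) := IsClosedImmersion.spec_of_surjective _ Ideal.Quotient.mk_surjective
    let Y := pullback X.toSpecΓ (Spec.map q)
    let g : Y ⟶ X := pullback.fst _ _
    haveI : IsFinite g := inferInstance
    have hempty : IsEmpty ↥(pullback g i) := by
      refine ⟨fun w => ?_⟩
      have hw1 : g (pullback.fst g i w) = i (pullback.snd g i w) := by
        rw [← Scheme.Hom.comp_apply, pullback.condition, Scheme.Hom.comp_apply]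
      have hz : X.toSpecΓ (g (pullback.fst g i w)) ∈ Set.range (Spec.map q) :=
        ⟨pullback.snd X.toSpecΓ (Spec.map q) (pullback.fst g i w), by
          rw [← Scheme.Hom.comp_apply, ← pullback.condition, Scheme.Hom.comp_apply]⟩
      have h1 : g (pullback.fst g i w) ∉ X.basicOpen b' := fun hm => by
        obtain ⟨p, hp⟩ := hz
        have h2 : X.toSpecΓ (g (pullback.fst g i w)) ∈ PrimeSpectrum.basicOpen b' := by
          rw [← Scheme.toSpecΓ_preimage_basicOpen] at hm
          exact hm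
        rw [← hp] at h2
        apply h2
        show q.hom b' ∈ p.asIdeal
        rw [show q.hom b' = 0 from Ideal.Quotient.eq_zero_iff_mem.2 (Ideal.mem_span_singleton_self b')]
        exact zero_mem _
      apply h1
      rw [hw1]
      show pullback.snd g i w ∈ i ⁻¹ᵁ X.basicOpen b'
      rw [Scheme.preimage_basicOpen]
      have h3 : i.appTop b' = 1 := by
        show i.appTop (b * y + 1) = 1
        rw [map_add, map_mul, map_one, show i.appTop b = 0 from hb, zero_mul, zero_add]
      rw [show i.app ⊤ b' = 1 from h3, X₀.basicOpen_of_isUnit isUnit_one]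
      trivial
    obtain ⟨U, -, huniq⟩ := hX Y g inferInstance ∅ isClopen_empty
    have he : Set.univ = (∅ : Set ↥Y) :=
      (huniq _ ⟨isClopen_univ, Set.eq_empty_of_isEmpty _⟩).trans (huniq _ ⟨isClopen_empty, Set.preimage_empty⟩).symm
    haveI : IsEmpty ↥Y := Set.univ_eq_empty_iff.1 he
    have hbo : X.basicOpen b' = ⊤ := by
      refine top_le_iff.1 fun x _ => by_contra fun hx => ?_
      have h3 : ∀ P : PrimeSpectrum (Γ(X, ⊤) : Type u), b' ∈ P.asIdeal →
          P ∈ Set.range (PrimeSpectrum.comap (Ideal.Quotient.mk (Ideal.span {b'}))) := fun P hP => by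
        rw [range_comap_of_surjective _ _ Ideal.Quotient.mk_surjective, Ideal.mk_ker,
          PrimeSpectrum.zeroLocus_span, PrimeSpectrum.mem_zeroLocus, Set.singleton_subset_iff]
        exact hP
      have h2 : X.toSpecΓ x ∈ Set.range (Spec.map q) := h3 (X.toSpecΓ x) (by
        by_contra hb2
        apply hx
        rw [← Scheme.toSpecΓ_preimage_basicOpen]
        exact hb2)
      obtain ⟨p, hp⟩ := h2
      obtain ⟨w, -⟩ := Scheme.Pullback.exists_preimage_pullback (f := X.toSpecΓ) (g := Spec.map q) x p hp.symm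
      exact IsEmpty.false (α := ↥Y) w
    exact X.toRingedSpace.isUnit_of_isUnit_germ ⊤ b' fun x hx => (X.mem_basicOpen b' x hx).1 (show x ∈ X.basicOpen b' by rw [hbo]; exact hx)
  · intro C _ _ _ _ b hb
    let φ : Γ(X, ⊤) ⟶ CommRingCat.of C := CommRingCat.ofHom (algebraMap _ C)
    have hφfl : φ.hom.Flat := RingHom.flat_algebraMap_iff.2 inferInstance
    haveI : Flat (Spec.map φ) := (HasRingHomProperty.Spec_iff (P := @Flat)).2 hφfl
    haveI : IsFinite (Spec.map φ) := (IsFinite.SpecMap_iff _).2 (RingHom.finite_algebraMap.2 inferInstance)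
    let Y := pullback X.toSpecΓ (Spec.map φ)
    let g : Y ⟶ X := pullback.fst _ _
    let s : Y ⟶ Spec (CommRingCat.of C) := pullback.snd _ _
    have hP := isPushout_sections φ (IsPullback.of_hasPullback X.toSpecΓ (Spec.map φ))
    rw [Scheme.toSpecΓ_appTop] at hP
    have hPid : IsPushout (𝟙 Γ(X, ⊤)) φ g.appTop ((Scheme.ΓSpecIso (CommRingCat.of C)).inv ≫ s.appTop) := by
      have e : (Scheme.ΓSpecIso Γ(X, ⊤)).inv ≫ (Scheme.ΓSpecIso Γ(X, ⊤)).hom = 𝟙 _ := Iso.inv_hom_id _
      exact e ▸ hP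
    haveI : IsIso ((Scheme.ΓSpecIso (CommRingCat.of C)).inv ≫ s.appTop) := hPid.isIso_inr_of_isIso
    let θ := (Scheme.ΓSpecIso (CommRingCat.of C)).inv ≫ s.appTop
    haveI : QuasiCompact i := inferInstance
    haveI : CompactSpace ↥X₀ := QuasiCompact.compactSpace_of_compactSpace i
    haveI : QuasiSeparatedSpace ↥X₀ := quasiSeparatedSpace_of_quasiSeparated i
    have hsq : IsPullback (pullback.snd g i) (pullback.fst g i ≫ s) (i ≫ X.toSpecΓ) (Spec.map φ) :=
      ((IsPullback.of_hasPullback g i).paste_horiz (IsPullback.of_hasPullback X.toSpecΓ (Spec.map φ)).flip).flip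
    have hP₀ := isPushout_sections φ hsq
    have hleg : (Scheme.ΓSpecIso Γ(X, ⊤)).inv ≫ (i ≫ X.toSpecΓ).appTop = i.appTop := by
      rw [Scheme.Hom.comp_appTop, Scheme.toSpecΓ_appTop, Iso.inv_hom_id_assoc]
    rw [hleg] at hP₀
    have hr : (Scheme.ΓSpecIso (CommRingCat.of C)).inv ≫ (pullback.fst g i ≫ s).appTop =
        θ ≫ (pullback.fst g i).appTop := by
      rw [Scheme.Hom.comp_appTop]
      exact (Category.assoc _ _ _).symm
    rw [hr] at hP₀
    let F := pullback.fst g i
    have hker : ∀ c : C, c ∈ (RingHom.ker i.appTop.hom).map (algebraMap _ C) → F.appTop (θ c) = 0 := by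
      intro c hc
      refine Submodule.span_induction ?_ (by simp) (fun x y _ _ hx hy => by rw [map_add, map_add, hx, hy, add_zero])
        (fun r x _ hx => by rw [smul_eq_mul, map_mul, map_mul, hx, mul_zero]) hc
      rintro _ ⟨r, hr, rfl⟩
      have h1 := ConcreteCategory.congr_hom hP₀.w r
      simp only [CommRingCat.comp_apply] at h1
      exact h1.symm.trans (by rw [show i.appTop r = 0 from hr, map_zero])
    let β := F.appTop (θ b)
    have hβ : β * β = β := by
      have h1 := hker _ hb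
      rw [map_sub, map_mul, map_sub, map_mul, sub_eq_zero] at h1
      exact h1
    haveI : IsFinite g := inferInstance
    obtain ⟨U, ⟨hUc, hUV⟩, -⟩ := hX Y g inferInstance _ (Groth.Agent.H18Et.FEtRestrictGamma.isClopen_basicOpen β hβ)
    obtain ⟨e', he', heU⟩ := Groth.Agent.H18Et.FEtRestrictGamma.exists_idempotent_of_isClopen U hUc
    have hFe : F.appTop e' = β := by
      refine idem_eq (by rw [← map_mul, he']) hβ (TopologicalSpace.Opens.ext ?_)
      show ((pullback g i).basicOpen (F.app ⊤ e') : Set ↥(pullback g i)) = _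
      rw [← Scheme.preimage_basicOpen]
      show F ⁻¹' (Y.basicOpen e' : Set ↥Y) = _
      rw [heU]
      exact hUV
    refine ⟨inv θ e', ?_, ?_⟩
    · show inv θ e' * inv θ e' = inv θ e'
      rw [← map_mul, he']
    · refine mem_map_of_isPushout hP₀ hφfl _ ?_
      show F.appTop (θ (inv θ e' - b)) = 0
      have e2 : θ (inv θ e') = e' := by rw [← CommRingCat.comp_apply, IsIso.inv_hom_id, CommRingCat.id_apply]
      rw [map_sub, map_sub, e2, hFe, sub_self]

end Groth.Agent.S17959
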