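import Groth.Statements.S17960
import Groth.Agent.H9Hens.ProperPairApps
-- import your own Groth.Agent.* helpers here

set_option autoImplicit false
open CategoryTheory CategoryTheory.Limits AlgebraicGeometry
universe u
open Hensel

namespace Groth.Agent.S17960

/-- Suppose A is a Noetherian ring with an ideal I, and f : X ⟶ Spec A is a proper morphism; write i :
X₀ = X ×_{Spec A} Spec (A/I) ⟶ X for the first projection. Put B = Γ(X, O_X), and take J to be the
kernel of the restriction B → Γ(X₀, O_{X₀}). Assuming (B, J) is a henselian pair, the couple (X, X₀)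
is henselian: given any finite morphism g : Y ⟶ X, each open-closed subset of Y ×_X X₀ arises as the
inverse image, along the first projection, of a unique open-closed subset of Y. -/
theorem result
    (A : Type u) [CommRing A] [IsNoetherianRing A] (I : Ideal A) {X : Scheme.{u}}
    (f : X ⟶ Spec (CommRingCat.of A)) [IsProper f]
    (h : HenselianRing (Γ(X, ⊤) : Type u)
      (RingHom.ker (pullback.fst f (Spec.map (CommRingCat.ofHom (Ideal.Quotient.mk I)))).appTop.hom)) :
    ∀ (Y : Scheme.{u}) (g : Y ⟶ X), IsFinite g →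
      ∀ V : Set ↥(pullback g (pullback.fst f (Spec.map (CommRingCat.ofHom (Ideal.Quotient.mk I))))), IsClopen V →
        ∃! U : Set ↥Y, IsClopen U ∧ (pullback.fst g (pullback.fst f (Spec.map (CommRingCat.ofHom (Ideal.Quotient.mk I))))).base ⁻¹' U = V := by
  haveI := h
  haveI : IsClosedImmersion (Spec.map (CommRingCat.ofHom (Ideal.Quotient.mk I))) :=
    IsClosedImmersion.spec_of_surjective _ Ideal.Quotient.mk_surjective
  set i := pullback.fst f (Spec.map (CommRingCat.ofHom (Ideal.Quotient.mk I))) with hidef
  let α : CommRingCat.of A ⟶ Γ(X, ⊤) := (Scheme.ΓSpecIso _).inv ≫ f.appTop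
  have hfac : X.toSpecΓ ≫ Spec.map α = f := by
    refine ext_of_isAffine ?_
    simp [α, Scheme.toSpecΓ_appTop]
  haveI : IsProper (X.toSpecΓ ≫ Spec.map α) := by rw [hfac]; infer_instance
  haveI hp : IsProper X.toSpecΓ := IsProper.of_comp X.toSpecΓ (Spec.map α)
  have hr : Set.range i = X.toSpecΓ ⁻¹' PrimeSpectrum.zeroLocus ((RingHom.ker i.appTop.hom : Ideal Γ(X, ⊤)) : Set Γ(X, ⊤)) := by
    refine Set.Subset.antisymm ?_ fun x hx => ?_
    · rintro _ ⟨w, rfl⟩
      have k : ∀ r ∈ RingHom.ker i.appTop.hom, i w ∉ X.basicOpen r := fun r hr hm => by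
        have h1 : w ∈ i ⁻¹ᵁ X.basicOpen r := hm
        rw [Scheme.preimage_basicOpen, show i.app ⊤ r = 0 from hr, Scheme.basicOpen_zero] at h1
        exact h1
      show X.toSpecΓ (i w) ∈ PrimeSpectrum.zeroLocus _
      intro r hr
      by_contra hn
      refine k r hr ?_
      rw [← Scheme.toSpecΓ_preimage_basicOpen]
      exact hn
    · rw [Groth.Agent.H9Hens.ProperPairApps.range_fst_quotient]
      show f x ∈ PrimeSpectrum.zeroLocus (I : Set A)
      intro a ha
      have h1 : α a ∈ RingHom.ker i.appTop.hom := by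
        rw [RingHom.mem_ker]
        have h2 : (Scheme.ΓSpecIso (CommRingCat.of A)).inv ≫ (i ≫ f).appTop =
            CommRingCat.ofHom (Ideal.Quotient.mk I) ≫ (Scheme.ΓSpecIso (CommRingCat.of (A ⧸ I))).inv ≫
              (pullback.snd f (Spec.map (CommRingCat.ofHom (Ideal.Quotient.mk I)))).appTop := by
          rw [hidef, pullback.condition, Scheme.Hom.comp_appTop, ← Category.assoc, ← Category.assoc,
            Scheme.ΓSpecIso_inv_naturality]
        have h3 := ConcreteCategory.congr_hom h2 a
        rw [Scheme.Hom.comp_appTop] at h3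
        simp only [CommRingCat.comp_apply] at h3
        refine h3.trans ?_
        rw [CommRingCat.comp_apply, CommRingCat.comp_apply, show (CommRingCat.ofHom (Ideal.Quotient.mk I)) a = 0 from Ideal.Quotient.eq_zero_iff_mem.2 ha, map_zero, map_zero]
      have h4 : ∀ P : PrimeSpectrum Γ(X, ⊤), α a ∈ P.asIdeal → a ∈ (PrimeSpectrum.comap α.hom P).asIdeal := fun P hP => hP
      have h5 := h4 (X.toSpecΓ x) (hx h1)
      rw [← hfac]
      exact h5
  exact Groth.Agent.H9Hens.ProperPair.henselian_couple (B := Γ(X, ⊤)) (RingHom.ker i.appTop.hom) X.toSpecΓ i hr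

end Groth.Agent.S17960
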