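import Groth.Statements.S17963
import Groth.Agent.H9Hens.ProperPairApps
-- import your own Groth.Agent.* helpers here

set_option autoImplicit false
open CategoryTheory CategoryTheory.Limits AlgebraicGeometry
universe u
open Hensel

namespace Groth.Agent.S17963

/-- Let (A, I) be a henselian pair and f : X ⟶ Spec A a proper morphism of finite presentation, and let
X₀ = X ×_{Spec A} Spec (A/I). Then X is nonempty and connected if and only if X₀ is nonempty and
connected. -/
theorem result
    (A : Type u) [CommRing A] (I : Ideal A) [HenselianRing A I] {X : Scheme.{u}}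
    (f : X ⟶ Spec (CommRingCat.of A)) [IsProper f] [LocallyOfFinitePresentation f] :
    ConnectedSpace ↥X ↔ ConnectedSpace ↥(pullback f (Spec.map (CommRingCat.ofHom (Ideal.Quotient.mk I)))) := by
  exact Groth.Agent.H9Hens.ProperPairApps.connectedSpace_iff
    (pullback.fst f (Spec.map (CommRingCat.ofHom (Ideal.Quotient.mk I)))).continuous
    (Groth.Agent.H9Hens.ProperPairApps.uniqueLift_fibre I f)

end Groth.Agent.S17963
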