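import Groth.Statements.S17964
import Mathlib.AlgebraicGeometry.PullbackCarrier
import Mathlib.AlgebraicGeometry.Limits
import Mathlib.AlgebraicGeometry.Morphisms.Finite
-- import your own Groth.Agent.* helpers here

set_option autoImplicit false
open CategoryTheory CategoryTheory.Limits AlgebraicGeometry
universe u
open Hensel

namespace Groth.Agent.S17964

/-- Open-closed subsets of `Z` lift uniquely to open-closed subsets of the ambient space. -/
def UniqueLift {Y : Type u} [TopologicalSpace Y] (Z : Set Y) : Prop :=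
  ∀ V : Set Z, IsClopen V → ∃! U : Set Y, IsClopen U ∧ Subtype.val ⁻¹' U = V

theorem uniqueLift_iff {P Y : Type u} [TopologicalSpace P] [TopologicalSpace Y] (e : P → Y)
    (he : Topology.IsEmbedding e) (Z : Set Y) (hZ : Set.range e = Z) :
    (∀ V : Set P, IsClopen V → ∃! U : Set Y, IsClopen U ∧ e ⁻¹' U = V) ↔ UniqueLift Z := by
  subst hZ
  let h := he.toHomeomorph
  have key : ∀ (U : Set Y) (V : Set (Set.range e)),
      e ⁻¹' U = h ⁻¹' V ↔ Subtype.val ⁻¹' U = V := by
    intro U V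
    rw [← h.surjective.preimage_injective.eq_iff]
    rfl
  constructor
  · intro H V hV
    obtain ⟨U, hU, huniq⟩ := H (h ⁻¹' V) (hV.preimage h.continuous)
    exact ⟨U, ⟨hU.1, (key U V).1 hU.2⟩, fun U' hU' => huniq U' ⟨hU'.1, (key U' V).2 hU'.2⟩⟩
  · intro H V hV
    obtain ⟨U, hU, huniq⟩ := H (h.symm ⁻¹' V) (hV.preimage h.symm.continuous)
    have hV' : h ⁻¹' (h.symm ⁻¹' V) = V := by ext p; simp
    rw [← hV']
    exact ⟨U, ⟨hU.1, (key U _).2 hU.2⟩, fun U' hU' => huniq U' ⟨hU'.1, (key U' _).1 hU'.2⟩⟩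

theorem henselian_iff_uniqueLift {W W₀ : Scheme.{u}} (c : W₀ ⟶ W) [IsClosedImmersion c] :
    (∀ (Y : Scheme.{u}) (g : Y ⟶ W), IsFinite g → ∀ V : Set ↥(pullback g c), IsClopen V →
      ∃! U : Set ↥Y, IsClopen U ∧ (pullback.fst g c).base ⁻¹' U = V) ↔
    ∀ (Y : Scheme.{u}) (g : Y ⟶ W), IsFinite g → UniqueLift (g ⁻¹' Set.range c) :=
  forall₃_congr fun _ g _ =>
    uniqueLift_iff _ (pullback.fst g c).isEmbedding _ (Scheme.Pullback.range_fst g c)

/-- Gluing lifts along an open partition. -/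
theorem uniqueLift_of_partition {ι : Type u} {Y : Type u} [TopologicalSpace Y] {P : ι → Type u}
    [∀ j, TopologicalSpace (P j)] (e : ∀ j, P j → Y) (he : ∀ j, Topology.IsOpenEmbedding (e j))
    (hcov : ∀ y, ∃ j p, e j p = y) (hdisj : ∀ j k p q, e j p = e k q → j = k)
    (Z : Set Y) (h : ∀ j, UniqueLift (e j ⁻¹' Z)) : UniqueLift Z := by
  intro V hV
  let Vj : ∀ j, Set ↥(e j ⁻¹' Z) := fun j => (fun p => (⟨e j p.1, p.2⟩ : Z)) ⁻¹' V
  have hVj : ∀ j, IsClopen (Vj j) := fun j =>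
    hV.preimage (((he j).continuous.comp continuous_subtype_val).subtype_mk _)
  choose U hU huniq using fun j => h j (Vj j) (hVj j)
  let T : Set Y := ⋃ j, e j '' U j
  have hmem : ∀ j p, e j p ∈ T ↔ p ∈ U j := by
    intro j p
    refine ⟨fun hp => ?_, fun hp => Set.mem_iUnion.2 ⟨j, p, hp, rfl⟩⟩
    obtain ⟨k, q, hq, hqp⟩ := Set.mem_iUnion.1 hp
    obtain rfl := hdisj _ _ _ _ hqp
    exact (he k).injective hqp ▸ hq
  have hTc : Tᶜ = ⋃ j, e j '' (U j)ᶜ := by
    ext y
    obtain ⟨j, p, rfl⟩ := hcov y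
    rw [Set.mem_compl_iff, hmem]
    refine ⟨fun hp => Set.mem_iUnion.2 ⟨j, p, hp, rfl⟩, fun hp => ?_⟩
    obtain ⟨k, q, hq, hqp⟩ := Set.mem_iUnion.1 hp
    obtain rfl := hdisj _ _ _ _ hqp
    exact (he k).injective hqp ▸ hq
  refine ⟨T, ⟨⟨?_, isOpen_iUnion fun j => (he j).isOpenMap _ (hU j).1.isOpen⟩, ?_⟩, fun T' hT' => ?_⟩
  · rw [← isOpen_compl_iff, hTc]
    exact isOpen_iUnion fun j => (he j).isOpenMap _ (hU j).1.compl.isOpen
  · ext ⟨y, hy⟩
    obtain ⟨j, p, rfl⟩ := hcov y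
    rw [Set.mem_preimage, hmem]
    exact Set.ext_iff.1 (hU j).2 ⟨p, hy⟩
  · ext y
    obtain ⟨j, p, rfl⟩ := hcov y
    rw [hmem]
    have hj : e j ⁻¹' T' = U j := huniq j _ ⟨hT'.1.preimage (he j).continuous, by
      show (fun q : ↥(e j ⁻¹' Z) => (⟨e j q.1, q.2⟩ : Z)) ⁻¹' (Subtype.val ⁻¹' T') = _
      rw [hT'.2]⟩
    exact Set.ext_iff.1 hj p

/-- Let (X_j) be a family of schemes indexed by a type ι, with closed immersions i_j : X_{j,0} ⟶ X_j,
and consider the induced morphism of disjoint unions ∐ X_{j,0} ⟶ ∐ X_j. Then the couple (∐ X_j, ∐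
X_{j,0}) is henselian (for every finite morphism g : Y ⟶ ∐ X_j, every open-closed subset of the
fibre product of Y with ∐ X_{j,0} is the inverse image under the first projection of exactly one
open-closed subset of Y) if and only if each couple (X_j, X_{j,0}) is henselian. -/
theorem result {ι : Type u} (X X₀ : ι → Scheme.{u})
    (i : ∀ j, X₀ j ⟶ X j) [∀ j, IsClosedImmersion (i j)] :
    (∀ (Y : Scheme.{u}) (g : Y ⟶ ∐ X), IsFinite g →
      ∀ V : Set ↥(pullback g (Limits.Sigma.map i)), IsClopen V →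
        ∃! U : Set ↥Y, IsClopen U ∧ (pullback.fst g (Limits.Sigma.map i)).base ⁻¹' U = V) ↔
    ∀ j : ι, ∀ (Y : Scheme.{u}) (g : Y ⟶ X j), IsFinite g →
      ∀ V : Set ↥(pullback g (i j)), IsClopen V →
        ∃! U : Set ↥Y, IsClopen U ∧ (pullback.fst g (i j)).base ⁻¹' U = V := by
  have hcov : ∀ (W : ι → Scheme.{u}) (x : ↥(∐ W)), ∃ k z, Limits.Sigma.ι W k z = x := fun W x =>
    ⟨((sigmaMk W).symm x).1, ((sigmaMk W).symm x).2, (sigmaMk_mk W _ _).symm.trans ((sigmaMk W).apply_symm_apply x)⟩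
  have hinj : ∀ (W : ι → Scheme.{u}) (k l : ι) (a : ↥(W k)) (b : ↥(W l)),
      Limits.Sigma.ι W k a = Limits.Sigma.ι W l b → k = l := fun W k l a b h =>
    congrArg Sigma.fst ((sigmaι_eq_iff W k l a b).mp h)
  have hsq : ∀ k, IsPullback (i k) (Limits.Sigma.ι X₀ k) (Limits.Sigma.ι X k) (Limits.Sigma.map i) := by
    intro k
    refine IsOpenImmersion.isPullback _ _ _ _ (Limits.Sigma.ι_map i k) ?_
    apply le_antisymm
    · rintro x ⟨y, hxy⟩
      obtain ⟨l, z, rfl⟩ := hcov X₀ x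
      rw [← Scheme.Hom.comp_apply, Limits.Sigma.ι_map,
        Scheme.Hom.comp_apply] at hxy
      obtain rfl := hinj X _ _ _ _ hxy
      exact ⟨z, rfl⟩
    · rintro _ ⟨x, rfl⟩
      refine ⟨i k x, ?_⟩
      rw [← Scheme.Hom.comp_apply, ← Scheme.Hom.comp_apply, Limits.Sigma.ι_map]
  haveI : IsClosedImmersion (Limits.Sigma.map i) := by
    refine (IsZariskiLocalAtTarget.iff_of_openCover (P := @IsClosedImmersion) (sigmaOpenCover X)).mpr fun k => ?_
    show IsClosedImmersion (pullback.snd (Limits.Sigma.map i) (Limits.Sigma.ι X k))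
    rw [← (hsq k).flip.isoPullback_inv_snd]
    exact (MorphismProperty.cancel_left_of_respectsIso @IsClosedImmersion _ _).mpr inferInstance
  have hrange : ∀ k, Limits.Sigma.ι X k ⁻¹' Set.range (Limits.Sigma.map i) = Set.range (i k) := by
    intro k
    rw [← Scheme.Pullback.range_fst (Limits.Sigma.ι X k) (Limits.Sigma.map i)]
    rw [← (hsq k).isoPullback_inv_fst, Scheme.Hom.comp_base, TopCat.coe_comp, Set.range_comp,
      Set.range_eq_univ.2 (hsq k).isoPullback.inv.surjective, Set.image_univ]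
  rw [henselian_iff_uniqueLift, forall_congr' fun j => henselian_iff_uniqueLift (i j)]
  constructor
  · intro H j Y g hg
    haveI : IsClosedImmersion (Limits.Sigma.ι X j) := by
      refine IsClosedImmersion.of_isPreimmersion _ ?_
      rw [← isOpen_compl_iff]
      have : (Set.range (Limits.Sigma.ι X j))ᶜ = ⋃ k : {k // k ≠ j}, Set.range (Limits.Sigma.ι X k.1) := by
        ext x
        obtain ⟨k, z, rfl⟩ := hcov X x
        refine ⟨fun hk => Set.mem_iUnion.2 ⟨⟨k, fun hkj => hk (hkj ▸ ⟨z, rfl⟩)⟩, ⟨z, rfl⟩⟩, ?_⟩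
        rintro hk ⟨y, hy⟩
        obtain ⟨⟨l, hl⟩, w, hw⟩ := Set.mem_iUnion.1 hk
        exact hl ((hinj X _ _ _ _ hw).trans (hinj X _ _ _ _ hy).symm)
      rw [this]
      exact isOpen_iUnion fun k => (Limits.Sigma.ι X k.1).isOpenEmbedding.isOpen_range
    have h := H Y (g ≫ Limits.Sigma.ι X j) inferInstance
    rw [Scheme.Hom.comp_base, TopCat.coe_comp, Set.preimage_comp, hrange] at h
    exact h
  · intro H Y g hg
    refine uniqueLift_of_partition (fun j => ⇑(pullback.fst g (Limits.Sigma.ι X j)))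
      (fun j => (pullback.fst g (Limits.Sigma.ι X j)).isOpenEmbedding) ?_ ?_ _ fun j => ?_
    · intro y
      obtain ⟨j, z, hz⟩ := hcov X (g y)
      obtain ⟨p, hp, -⟩ := Scheme.Pullback.exists_preimage_pullback (f := g) (g := Limits.Sigma.ι X j) y z hz.symm
      exact ⟨j, p, hp⟩
    · intro j k p q hpq
      have h := congrArg g hpq
      rw [← Scheme.Hom.comp_apply, ← Scheme.Hom.comp_apply, pullback.condition, pullback.condition,
        Scheme.Hom.comp_apply, Scheme.Hom.comp_apply] at h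
      exact hinj X _ _ _ _ h
    · have h := H j _ (pullback.snd g (Limits.Sigma.ι X j)) inferInstance
      rw [← hrange, ← Set.preimage_comp, ← TopCat.coe_comp, ← Scheme.Hom.comp_base, ← pullback.condition,
        Scheme.Hom.comp_base, TopCat.coe_comp, Set.preimage_comp] at h
      exact h

end Groth.Agent.S17964
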