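import Groth.Statements.S17965
import Groth.Agent.H9Hens.ProperPairConverse
-- import your own Groth.Agent.* helpers here

set_option autoImplicit false
open CategoryTheory CategoryTheory.Limits AlgebraicGeometry
universe u
open Hensel

namespace Groth.Agent.S17965

/-- Let A be a Noetherian ring, I an ideal of A, f : X ⟶ Spec A a proper morphism, i : X₀ = X ×_{Spec A}
Spec (A/I) ⟶ X the first projection, and assume that (X, X₀) is a henselian couple (for every finite
morphism g : Y ⟶ X, every open-closed subset of Y ×_X X₀ is the inverse image under the first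
projection of exactly one open-closed subset of Y). Then (X, X₀) is proper over a henselian pair:
there exist a Noetherian ring A' with an ideal I' such that (A', I') is a henselian pair, a proper
morphism f' : X ⟶ Spec A' and a morphism t : X₀ ⟶ Spec (A'/I') such that the square formed by i, t,
f' and Spec (A'/I') ⟶ Spec A' is cartesian. (The published statement asserts only that X is proper
over some henselian pair; this row also asks the ring of that pair to be Noetherian, which holds for
the henselization of (A, I) that the proof uses.) -/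
theorem result
    (A : Type u) [CommRing A] [IsNoetherianRing A] (I : Ideal A) {X : Scheme.{u}}
    (f : X ⟶ Spec (CommRingCat.of A)) [IsProper f]
    (hX : ∀ (Y : Scheme.{u}) (g : Y ⟶ X), IsFinite g →
      ∀ V : Set ↥(pullback g (pullback.fst f (Spec.map (CommRingCat.ofHom (Ideal.Quotient.mk I))))), IsClopen V →
        ∃! U : Set ↥Y, IsClopen U ∧ (pullback.fst g (pullback.fst f (Spec.map (CommRingCat.ofHom (Ideal.Quotient.mk I))))).base ⁻¹' U = V) :
    ∃ (A' : Type u) (_ : CommRing A') (I' : Ideal A') (_ : HenselianRing A' I') (_ : IsNoetherianRing A')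
      (f' : X ⟶ Spec (CommRingCat.of A')) (_ : IsProper f')
      (t : pullback f (Spec.map (CommRingCat.ofHom (Ideal.Quotient.mk I))) ⟶ Spec (CommRingCat.of (A' ⧸ I'))),
      IsPullback (pullback.fst f (Spec.map (CommRingCat.ofHom (Ideal.Quotient.mk I)))) t f' (Spec.map (CommRingCat.ofHom (Ideal.Quotient.mk I'))) := by
  let N := f.normalization
  haveI : IsAffine N := isAffine_of_isAffineHom f.fromNormalization
  let φ : CommRingCat.of A ⟶ Γ(N, ⊤) := (Scheme.ΓSpecIso _).inv ≫ f.fromNormalization.appTop
  have hφ : f.fromNormalization = N.isoSpec.hom ≫ Spec.map φ := by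
    refine ext_of_isAffine ?_
    rw [Scheme.Hom.comp_appTop, Scheme.isoSpec_hom, Scheme.toSpecΓ_appTop, Scheme.ΓSpecIso_naturality]
    simp [φ]
  haveI : IsFinite (Spec.map φ) := by
    rw [show Spec.map φ = N.isoSpec.inv ≫ f.fromNormalization by rw [hφ, Iso.inv_hom_id_assoc]]
    haveI := Groth.Agent.S1297.result f
    infer_instance
  letI : Algebra A Γ(N, ⊤) := φ.hom.toAlgebra
  haveI : Module.Finite A Γ(N, ⊤) := RingHom.finite_algebraMap.1 ((IsFinite.SpecMap_iff φ).1 inferInstance)
  haveI : IsNoetherianRing Γ(N, ⊤) := IsNoetherianRing.of_finite A _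
  let f' : X ⟶ Spec (CommRingCat.of Γ(N, ⊤)) := f.toNormalization ≫ N.isoSpec.hom
  haveI : IsProper f.toNormalization := Groth.Agent.H8Props.Stein.isProper_toNormalization f
  haveI : Surjective f.toNormalization := Groth.Agent.H8Props.Stein.surjective_toNormalization f
  haveI : IsProper f' := by dsimp [f']; infer_instance
  haveI : Surjective f' := by dsimp [f']; infer_instance
  haveI : GeometricallyConnected f' := by
    refine (MorphismProperty.cancel_right_of_respectsIso @GeometricallyConnected f.toNormalization N.isoSpec.hom).2 ?_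
    exact Groth.Agent.H8Props.Stein.geometricallyConnected_toNormalization f
  have hf : f' ≫ Spec.map φ = f := by
    dsimp only [f']
    rw [Category.assoc, ← hφ, f.toNormalization_fromNormalization]
  let q := Spec.map (CommRingCat.ofHom (Ideal.Quotient.mk I))
  let J : Ideal Γ(N, ⊤) := I.map φ.hom
  have hr : Set.range (pullback.fst f q) = f' ⁻¹' PrimeSpectrum.zeroLocus (J : Set Γ(N, ⊤)) := by
    rw [Groth.Agent.H9Hens.ProperPairApps.range_fst_quotient]
    ext x
    have e : f x = Spec.map φ (f' x) := by rw [← Scheme.Hom.comp_apply, hf]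
    show f x ∈ PrimeSpectrum.zeroLocus (I : Set A) ↔ f' x ∈ PrimeSpectrum.zeroLocus (J : Set Γ(N, ⊤))
    rw [e]
    exact (PrimeSpectrum.mem_zeroLocus _ _).trans
      (Ideal.map_le_iff_le_comap.symm.trans (PrimeSpectrum.mem_zeroLocus _ _).symm)
  haveI hH : HenselianRing Γ(N, ⊤) J :=
    Groth.Agent.H9Hens.ProperPairConverse.henselianRing f' (pullback.fst f q) hr hX
  have Q := (isPullback_SpecMap_of_isPushout _ _ _ _ (Groth.Agent.H13Inf.isPushout_quotient φ.hom I)).flip
  have hw : (pullback.fst f q ≫ f') ≫ Spec.map (CommRingCat.ofHom φ.hom) = pullback.snd f q ≫ q := by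
    rw [Category.assoc]
    exact (congrArg (pullback.fst f q ≫ ·) hf).trans pullback.condition
  refine ⟨Γ(N, ⊤), inferInstance, J, hH, inferInstance, f', inferInstance, Q.lift _ _ hw, ?_⟩
  refine IsPullback.of_bot ?_ (Q.lift_fst _ _ hw).symm Q
  rw [Q.lift_snd]
  exact hf.symm ▸ IsPullback.of_hasPullback f q

end Groth.Agent.S17965
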