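import Groth.Statements.S17966
import Groth.Agent.H18PBC.Couple

set_option autoImplicit false
open CategoryTheory CategoryTheory.Limits AlgebraicGeometry
universe u
open Pi1

namespace Groth.Agent.S17966

/-- Let A be a Noetherian ring, I an ideal of A, f : X ⟶ Spec A a proper morphism, i : X₀ = X ×_{Spec A}
Spec (A/I) ⟶ X the first projection, and assume that (X, X₀) is a henselian couple (for every finite
morphism g : Y ⟶ X, every open-closed subset of Y ×_X X₀ is the inverse image under the first
projection of exactly one open-closed subset of Y). Then for every finite morphism g : X' ⟶ X, base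
change of finite etale covers along the first projection X' ×_X X₀ ⟶ X' is an equivalence of
categories. -/
theorem result
    (A : Type u) [CommRing A] [IsNoetherianRing A] (I : Ideal A) {X : Scheme.{u}}
    (f : X ⟶ Spec (CommRingCat.of A)) [IsProper f]
    (hX : ∀ (Y : Scheme.{u}) (g : Y ⟶ X), IsFinite g →
      ∀ V : Set ↥(pullback g (pullback.fst f (Spec.map (CommRingCat.ofHom (Ideal.Quotient.mk I))))), IsClopen V →
        ∃! U : Set ↥Y, IsClopen U ∧ (pullback.fst g (pullback.fst f (Spec.map (CommRingCat.ofHom (Ideal.Quotient.mk I))))).base ⁻¹' U = V)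
    {X' : Scheme.{u}} (g : X' ⟶ X) [IsFinite g] :
    (FEt.restrict (pullback.fst g (pullback.fst f (Spec.map (CommRingCat.ofHom (Ideal.Quotient.mk I)))))).IsEquivalence := by
  exact H18PBC.Couple.isEquivalence I f g hX

end Groth.Agent.S17966
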