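import Groth.Statements.S17968
import Groth.Agent.H9Hens.Pair
-- import your own Groth.Agent.* helpers here

set_option autoImplicit false
universe u
open Hensel

namespace Groth.Agent.S17968

/-- Let A be a commutative ring and I an ideal contained in the Jacobson radical of A. Suppose that for
every natural number m and every monic polynomial p over A whose reduction modulo I is the reduction
of (T^2 - T)^m, every idempotent of B/IB is the image of an idempotent of B, where B = A[T]/(p).
Then (A, I) is a henselian pair. -/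
theorem result (A : Type u) [CommRing A]
    (I : Ideal A) (hI : I ≤ Ideal.jacobson ⊥)
    (h : ∀ (m : ℕ) (p : Polynomial A), p.Monic →
      Polynomial.map (Ideal.Quotient.mk I) p =
        Polynomial.map (Ideal.Quotient.mk I) ((Polynomial.X ^ 2 - Polynomial.X) ^ m) →
      Set.SurjOn (Ideal.Quotient.mk (Ideal.map (algebraMap A (AdjoinRoot p)) I))
        {e : AdjoinRoot p | IsIdempotentElem e} {e | IsIdempotentElem e}) :
    HenselianRing A I := by
  refine Groth.Agent.H9Hens.henselianRing_of_idem_lift hI fun B _ _ hB b hb => ?_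
  classical
  rcases subsingleton_or_nontrivial B with hs | hn
  · exact ⟨0, IsIdempotentElem.zero, by rw [Subsingleton.elim (0 - b) 0]; exact zero_mem _⟩
  have : Nontrivial A := Module.nontrivial A B
  obtain ⟨G, m, hGm, hG, hGb⟩ : ∃ (G : Polynomial A) (m : ℕ), G.Monic ∧
      G.map (Ideal.Quotient.mk I) = (Polynomial.X ^ 2 - Polynomial.X) ^ m ∧
      Polynomial.aeval b G = 0 := by
    obtain ⟨P, hP, -, hPI, hP0⟩ :=
      LinearMap.exists_monic_and_natDegree_eq_and_coeff_mem_pow_and_aeval_eq_zero A
        (Algebra.lmul A B (b * b - b)) I (by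
          rintro _ ⟨y, rfl⟩
          rw [Ideal.smul_top_eq_map]
          exact Ideal.mul_mem_right y _ hb)
    have hsq : ((Polynomial.X : Polynomial A) ^ 2 - Polynomial.X).Monic :=
      (Polynomial.monic_X_pow 2).sub_of_left (by
        rw [Polynomial.degree_X_pow, Polynomial.degree_X]; norm_num)
    refine ⟨P.comp (Polynomial.X ^ 2 - Polynomial.X), P.natDegree, hP.comp hsq ?_, ?_, ?_⟩
    · rw [Polynomial.natDegree_sub_eq_left_of_natDegree_lt (by simp)]
      simp
    · have hPmap : P.map (Ideal.Quotient.mk I) = Polynomial.X ^ P.natDegree := by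
        ext i
        rw [Polynomial.coeff_map, Polynomial.coeff_X_pow]
        rcases lt_trichotomy i P.natDegree with h | h | h
        · rw [if_neg h.ne, Ideal.Quotient.eq_zero_iff_mem]
          exact Ideal.pow_le_self (by omega) (hPI i)
        · rw [if_pos h, h, hP.coeff_natDegree, map_one]
        · rw [if_neg h.ne', Polynomial.coeff_eq_zero_of_natDegree_lt h, map_zero]
      rw [Polynomial.map_comp, hPmap, Polynomial.X_pow_comp]
      simp
    · rw [Polynomial.aeval_comp]
      simp only [map_sub, map_pow, Polynomial.aeval_X, pow_two]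
      have := LinearMap.congr_fun hP0 1
      rw [Polynomial.aeval_algHom_apply] at this
      simpa using this
  set q := (Polynomial.X : Polynomial (A ⧸ I)) ^ 2 - Polynomial.X
  -- a polynomial idempotent modulo `q ^ m` and congruent to `X` modulo `q`
  let π := Ideal.Quotient.factor
    (show Ideal.span {q ^ (m + 1)} ≤ Ideal.span {q} from
      Ideal.span_singleton_le_span_singleton.mpr (dvd_pow_self q m.succ_ne_zero))
  obtain ⟨t, ht, htX⟩ := exists_isIdempotentElem_eq_of_ker_isNilpotent π (fun x hx => by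
      obtain ⟨x, rfl⟩ := Ideal.Quotient.mk_surjective x
      obtain ⟨c, rfl⟩ := Ideal.mem_span_singleton'.mp (Ideal.Quotient.eq_zero_iff_mem.mp hx)
      exact ⟨m + 1, by
        rw [← map_pow, Ideal.Quotient.eq_zero_iff_mem, mul_pow]
        exact Ideal.mul_mem_left _ _ (Ideal.mem_span_singleton_self _)⟩)
    (Ideal.Quotient.mk _ Polynomial.X) ⟨Ideal.Quotient.mk _ Polynomial.X, rfl⟩ (by
      rw [IsIdempotentElem, ← map_mul, Ideal.Quotient.eq]
      exact Ideal.mem_span_singleton'.mpr ⟨1, by simp [q, pow_two]⟩)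
  obtain ⟨t, rfl⟩ := Ideal.Quotient.mk_surjective t
  obtain ⟨t, rfl⟩ := Polynomial.map_surjective _ Ideal.Quotient.mk_surjective t
  obtain ⟨c₁, hc₁⟩ := Ideal.mem_span_singleton'.mp
    (Ideal.Quotient.eq.mp ((map_mul _ _ _).trans ht.eq))
  obtain ⟨c₂, hc₂⟩ := Ideal.mem_span_singleton'.mp (Ideal.Quotient.eq.mp htX)
  set Bm := AdjoinRoot G
  set IB := Ideal.map (algebraMap A Bm) I
  have hker : ∀ r : Polynomial A, r.map (Ideal.Quotient.mk I) = 0 → AdjoinRoot.mk G r ∈ IB := by
    intro r hr
    have h1 : r ∈ I.map (Polynomial.C : A →+* Polynomial A) := by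
      rw [Ideal.mem_map_C_iff]
      intro i
      rw [← Ideal.Quotient.eq_zero_iff_mem, ← Polynomial.coeff_map, hr, Polynomial.coeff_zero]
    have h2 := Ideal.mem_map_of_mem (AdjoinRoot.mk G) h1
    rw [Ideal.map_map] at h2
    exact h2
  obtain ⟨c₁, rfl⟩ := Polynomial.map_surjective _ Ideal.Quotient.mk_surjective c₁
  have hidem : IsIdempotentElem (Ideal.Quotient.mk IB (AdjoinRoot.mk G t)) := by
    rw [IsIdempotentElem, ← map_mul, Ideal.Quotient.eq, ← map_mul, ← map_sub]
    have h1 := hker (t * t - t - G * (c₁ * (Polynomial.X ^ 2 - Polynomial.X))) (by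
      have : (Polynomial.X ^ 2 - Polynomial.X : Polynomial A).map (Ideal.Quotient.mk I) = q := by
        simp [q]
      simp only [Polynomial.map_sub, Polynomial.map_mul, hG, this]
      rw [← hc₁]
      simp only [q, Polynomial.map_pow, Polynomial.map_X]
      ring)
    rwa [map_sub, map_mul _ G, AdjoinRoot.mk_self, zero_mul, sub_zero] at h1
  obtain ⟨e, he, hemk⟩ := h m G hGm (by rw [hG]; simp [q]) hidem
  refine ⟨AdjoinRoot.liftAlgHom G (Algebra.ofId A B) b hGb e, IsIdempotentElem.map he _, ?_⟩
  rw [← Ideal.Quotient.eq]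
  set φ := AdjoinRoot.liftAlgHom G (Algebra.ofId A B) b hGb
  set JB := Ideal.map (algebraMap A B) I
  have hφ : ∀ r : Bm, r ∈ IB → φ r ∈ JB := fun r hr => by
    have := Ideal.mem_map_of_mem φ.toRingHom hr
    rwa [Ideal.map_map, AlgHom.toRingHom_eq_coe, AlgHom.comp_algebraMap] at this
  have h1 : Ideal.Quotient.mk JB (φ e) = Ideal.Quotient.mk JB (φ (AdjoinRoot.mk G t)) := by
    rw [Ideal.Quotient.eq, ← map_sub]
    exact hφ _ (Ideal.Quotient.eq.mp hemk)
  rw [h1]
  have h2 : φ (AdjoinRoot.mk G t) = Polynomial.aeval b t := by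
    show AdjoinRoot.liftAlgHom G (Algebra.ofId A B) b hGb (AdjoinRoot.mk G t) = _
    erw [AdjoinRoot.liftAlgHom_mk]
  obtain ⟨c₂, rfl⟩ := Polynomial.map_surjective _ Ideal.Quotient.mk_surjective c₂
  have h3 : Ideal.Quotient.mk JB (Polynomial.aeval b (t - Polynomial.X -
      c₂ * (Polynomial.X ^ 2 - Polynomial.X))) = 0 := by
    rw [Polynomial.aeval_def, Polynomial.hom_eval₂,
      show (Ideal.Quotient.mk JB).comp (algebraMap A B) =
        (Ideal.quotientMap JB (algebraMap A B) Ideal.le_comap_map).comp (Ideal.Quotient.mk I)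
        from (Ideal.quotientMap_comp_mk _).symm, ← Polynomial.eval₂_map]
    have : (t - Polynomial.X - c₂ * (Polynomial.X ^ 2 - Polynomial.X)).map (Ideal.Quotient.mk I)
        = 0 := by
      simp only [Polynomial.map_sub, Polynomial.map_mul, Polynomial.map_pow, Polynomial.map_X]
      rw [← hc₂]
      ring
    rw [this, Polynomial.eval₂_zero]
  simp only [map_sub, map_mul, map_pow, Polynomial.aeval_X] at h3
  rw [h2]
  have hidb : Ideal.Quotient.mk JB b ^ 2 - Ideal.Quotient.mk JB b = 0 := by
    rw [← map_pow, ← map_sub, Ideal.Quotient.eq_zero_iff_mem, pow_two]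
    exact hb
  linear_combination h3 + Ideal.Quotient.mk JB (Polynomial.aeval b c₂) * hidb

end Groth.Agent.S17968
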