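import Groth.Statements.S17969
import Mathlib.LinearAlgebra.Charpoly.Basic
import Mathlib.LinearAlgebra.FreeModule.PID
import Mathlib.RingTheory.Adjoin.PowerBasis
import Mathlib.RingTheory.Finiteness.ModuleFinitePresentation
import Mathlib.RingTheory.Flat.TorsionFree
import Mathlib.RingTheory.Invariant.Basic
import Mathlib.RingTheory.Polynomial.GaussLemma
import Mathlib.RingTheory.PowerSeries.NoZeroDivisors
import Mathlib.RingTheory.SimpleRing.Principal
import Mathlib.RingTheory.TotallySplit

set_option autoImplicit false
universe u
open scoped TensorProduct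
open CAlg

namespace Groth.Agent.S17969

/-- Let A be an integrally closed domain with fraction field K and B a commutative A-algebra which is
finite and torsion-free as an A-module and generated as an A-algebra by a single element x. Let P be
the characteristic polynomial of multiplication by 1 ⊗ x on the finite free K-module K ⊗_A B. Then P
has coefficients in A, namely P is the image of a monic polynomial over A, and the kernel of the
A-algebra map A[T] → B sending T to x is generated by that polynomial, so that B is A[T]/(P). -/
theorem result
    (A : Type u) [CommRing A] [IsDomain A] [IsIntegrallyClosed A]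
    (B : Type u) [CommRing B] [Algebra A B] [Module.Finite A B] [NoZeroSMulDivisors A B]
    (x : B) (hx : Algebra.adjoin A {x} = ⊤) :
    ∃ P : Polynomial A, P.Monic ∧
      Polynomial.map (algebraMap A (FractionRing A)) P =
        (LinearMap.mulLeft (FractionRing A) ((1 : FractionRing A) ⊗ₜ[A] x)).charpoly ∧
      RingHom.ker (Polynomial.aeval x).toRingHom = Ideal.span {P} := by
  classical
  let K := FractionRing A
  let C := K ⊗[A] B
  let x' : C := (1 : K) ⊗ₜ[A] x
  let j : B →ₐ[A] C := Algebra.TensorProduct.includeRight
  have hB : Module.IsTorsionFree A B := inferInstance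
  have : IsLocalizedModule (nonZeroDivisors A) (TensorProduct.mk A K B 1) :=
    (isLocalizedModule_iff_isBaseChange (nonZeroDivisors A) K _).mpr (TensorProduct.isBaseChange A B K)
  have hj : Function.Injective j := by
    rw [injective_iff_map_eq_zero]
    intro b hb
    obtain ⟨s, hs⟩ := (IsLocalizedModule.eq_zero_iff (nonZeroDivisors A) (TensorProduct.mk A K B 1)).mp hb
    exact (smul_eq_zero.mp hs).resolve_left (nonZeroDivisors.ne_zero s.2)
  have htop : Algebra.adjoin K ({x'} : Set C) = ⊤ := by
    rw [eq_top_iff]
    rintro z -
    induction z using TensorProduct.induction_on with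
    | zero => exact zero_mem _
    | tmul k b =>
      have hb : b ∈ Algebra.adjoin A ({x} : Set B) := hx ▸ Algebra.mem_top
      rw [show k ⊗ₜ[A] b = k • ((1 : K) ⊗ₜ[A] b) by rw [TensorProduct.smul_tmul', smul_eq_mul, mul_one]]
      refine Subalgebra.smul_mem _ ?_ k
      have := (Algebra.adjoin_le (S := ((Algebra.adjoin K ({x'} : Set C)).restrictScalars A).comap j) (by
        rintro _ rfl; exact Algebra.subset_adjoin rfl)) hb
      exact this
    | add a b ha hb => exact add_mem ha hb
  have : Module.Finite K C := inferInstance
  have hint : IsIntegral K x' := Algebra.IsIntegral.isIntegral x'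
  have hdeg : Module.finrank K C = (minpoly K x').natDegree := by
    rw [← subalgebra_top_finrank_eq_submodule_top_finrank.trans (finrank_top K C), ← htop]
    exact (Algebra.adjoin.powerBasis hint).finrank.trans (Algebra.adjoin.powerBasis_dim hint)
  have hchi : (LinearMap.mulLeft K x').charpoly = minpoly K x' := by
    refine (Polynomial.eq_of_monic_of_dvd_of_natDegree_le (minpoly.monic hint) (LinearMap.charpoly_monic _) (minpoly.dvd K x' ?_) ?_)
    · have h1 := LinearMap.aeval_self_charpoly (LinearMap.mulLeft K x')
      have h2 : Polynomial.aeval (LinearMap.mulLeft K x') (LinearMap.mulLeft K x').charpoly =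
          Algebra.lmul K C (Polynomial.aeval x' (LinearMap.mulLeft K x').charpoly) := by
        rw [← Polynomial.aeval_algHom_apply]; rfl
      have h3 := LinearMap.congr_fun (h2.symm.trans h1) 1
      simpa using h3
    · rw [LinearMap.charpoly_natDegree, hdeg]
  obtain ⟨p, hpm, hp⟩ : IsIntegral A x := Algebra.IsIntegral.isIntegral x
  have hev : ∀ Q : Polynomial A, Polynomial.aeval x' (Q.map (algebraMap A K)) = j (Polynomial.aeval x Q) := by
    intro Q
    rw [Polynomial.aeval_map_algebraMap, ← Polynomial.aeval_algHom_apply]
    rfl
  have hdvd : minpoly K x' ∣ p.map (algebraMap A K) := minpoly.dvd K x' (by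
    rw [hev, Polynomial.aeval_def, hp, map_zero])
  obtain ⟨P, hP⟩ := IsIntegrallyClosed.eq_map_mul_C_of_dvd K hpm hdvd
  rw [(minpoly.monic hint).leadingCoeff, map_one, mul_one] at hP
  have hPm : P.Monic := Polynomial.monic_of_injective (IsFractionRing.injective A K) (hP ▸ minpoly.monic hint)
  refine ⟨P, hPm, hP.trans hchi.symm, ?_⟩
  ext Q
  rw [RingHom.mem_ker, Ideal.mem_span_singleton, AlgHom.toRingHom_eq_coe, RingHom.coe_coe]
  constructor
  · intro hQ
    rw [← Polynomial.map_dvd_map _ (IsFractionRing.injective A K) hPm, hP]
    exact minpoly.dvd K x' (by rw [hev, hQ, map_zero])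
  · rintro ⟨R', rfl⟩
    apply hj
    rw [map_zero, ← hev, Polynomial.map_mul, hP, map_mul, minpoly.aeval, zero_mul]

end Groth.Agent.S17969
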