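import Groth.Statements.S1797
import Groth.Agent.H4LC.AffineSections
import Groth.Agent.H4LC.NormalCompletion
import Groth.Agent.H4LC.HLVT

set_option autoImplicit false
universe u
open LocCoh

namespace Groth.Agent.S1797

/-- Let A be an excellent normal Noetherian local ring (an integrally closed domain) and I an ideal with
dim V(I) ≥ 1, i.e. dim A/I ≥ 1. Then cd(A, I) < dim A: for every A-module M, H^i_I(M) = 0 whenever i
≥ dim A. Moreover, if dim A = 2 then the open subscheme Spec A ∖ V(I) is affine. -/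
theorem result (A : Type u) [CommRing A] [IsDomain A] [IsLocalRing A] [IsNoetherianRing A] [IsIntegrallyClosed A] (hA : EGA4.IsExcellent A) (I : Ideal A) (hI : (1 : WithBot ℕ∞) ≤ ringKrullDim (A ⧸ I)) : (∀ (M : Type u) [AddCommGroup M] [Module A M] (i : ℕ), ringKrullDim A ≤ (i : WithBot ℕ∞) → Subsingleton (LocCoh.H I i M)) ∧ (ringKrullDim A = 2 → AlgebraicGeometry.IsAffine (↑(LocCoh.puncturedOpen A I) : AlgebraicGeometry.Scheme.{u})) := by
  have hdom := Groth.Agent.H4LC.isDomain_completion_of_normal_gring A hA.2.2.1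
  obtain ⟨d, hd⟩ := Groth.Agent.H05EGA4.exists_dim_eq_nat A
  have hvan : ∀ (M : Type u) [AddCommGroup M] [Module A M] (i : ℕ), ringKrullDim A ≤ (i : WithBot ℕ∞) →
      Subsingleton (LocCoh.H I i M) := by
    intro M _ _ i hi
    refine Groth.Agent.H4LC.subsingleton_H_top_hlvt I d hd (fun p hp _ => ?_) M i ?_
    · have hbot : p = ⊥ := le_antisymm (hp.2 ⟨Ideal.isPrime_bot, le_rfl⟩ bot_le) bot_le
      subst hbot
      rw [sup_bot_eq, Groth.Agent.H05EGA4.ringKrullDim_completion_quotient]
      exact hI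
    · rw [hd] at hi; exact_mod_cast hi
  refine ⟨hvan, fun h2 => Groth.Agent.H4LC.isAffine_puncturedOpen_of_cdLE_one I fun M _ _ i hi => hvan M i ?_⟩
  rw [h2]; exact_mod_cast hi

end Groth.Agent.S1797
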