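import Groth.Statements.S17970
import Groth.Agent.H9Hens.Local
-- import your own Groth.Agent.* helpers here

set_option autoImplicit false
universe u
open Hensel

namespace Groth.Agent.S17970

/-- Let A be a local ring with maximal ideal m and B a commutative A-algebra which is finitely generated
as an A-module. Then B is ring-isomorphic to a finite product of local rings if and only if every
idempotent of B/mB is the image of an idempotent of B. (Reduction modulo mB is always injective on
the idempotents of B, because mB lies in the Jacobson radical of B; so this surjectivity amounts to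
the bijectivity on idempotents in the printed assertion.) -/
theorem result
    (A : Type u) [CommRing A] [IsLocalRing A] (B : Type u) [CommRing B] [Algebra A B] [Module.Finite A B] :
    (∃ (ι : Type u) (_ : Fintype ι) (C : ι → Type u) (_ : ∀ j, CommRing (C j)),
        (∀ j, IsLocalRing (C j)) ∧ Nonempty (B ≃+* (∀ j, C j))) ↔
      Set.SurjOn (Ideal.Quotient.mk (Ideal.map (algebraMap A B) (IsLocalRing.maximalIdeal A)))
        {e : B | IsIdempotentElem e} {e | IsIdempotentElem e} := by
  constructor
  · rintro ⟨ι, _, C, _, hC, ⟨e⟩⟩ ē hē
    have := hC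
    obtain ⟨b, rfl⟩ := Ideal.Quotient.mk_surjective ē
    obtain ⟨x, hx, hxb⟩ := Groth.Agent.H9Hens.exists_idem_lift_of_ringEquiv_pi e
      (Groth.Agent.H9Hens.map_le_jacobson_of_isIntegral
        (Groth.Agent.H9Hens.maximalIdeal_le_jac A)) b
      (by rw [← Ideal.Quotient.eq, map_mul]; exact hē)
    exact ⟨x, hx, Ideal.Quotient.eq.mpr hxb⟩
  · intro h
    have hb := Groth.Agent.H9Hens.toPiLocalization_bijective_of_idem_lift (R := A) (B := B)
      fun b hb => by
        obtain ⟨x, hx, hxb⟩ := h (show IsIdempotentElem (Ideal.Quotient.mk _ b) by
          rw [IsIdempotentElem, ← map_mul]; exact Ideal.Quotient.eq.mpr hb)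
        exact ⟨x, hx, Ideal.Quotient.eq.mp hxb⟩
    have := Groth.Agent.H9Hens.finite_maximalSpectrum (R := A) B
    exact ⟨MaximalSpectrum B, Fintype.ofFinite _, fun n => Localization.AtPrime n.asIdeal,
      fun n => inferInstance, fun n => inferInstance, ⟨RingEquiv.ofBijective _ hb⟩⟩

end Groth.Agent.S17970
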