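import Groth.Statements.S17971
import Mathlib
import Groth.Agent.H9Hens.SchemeSections
-- import your own Groth.Agent.* helpers here

set_option autoImplicit false
open CategoryTheory CategoryTheory.Limits AlgebraicGeometry
universe u
open Hensel

namespace Groth.Agent.S17971

/-- For a commutative ring A and an ideal I, the pair (A, I) is henselian if and only if the couple
(Spec A, Spec (A/I)) is henselian, i.e. if and only if for every finite morphism g : Y ⟶ Spec A
every open-closed subset of Y ×_{Spec A} Spec (A/I) is the inverse image under the first projection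
of exactly one open-closed subset of Y. -/
theorem result (A : Type u) [CommRing A] (I : Ideal A) :
    HenselianRing A I ↔
    ∀ (Y : Scheme.{u}) (g : Y ⟶ Spec (CommRingCat.of A)), IsFinite g →
      ∀ V : Set ↥(pullback g (Spec.map (CommRingCat.ofHom (Ideal.Quotient.mk I)))), IsClopen V →
        ∃! U : Set ↥Y, IsClopen U ∧ (pullback.fst g (Spec.map (CommRingCat.ofHom (Ideal.Quotient.mk I)))).base ⁻¹' U = V := by
  let i := Spec.map (CommRingCat.ofHom (Ideal.Quotient.mk I))
  have hri : Set.range i.base = PrimeSpectrum.zeroLocus (I : Set A) := by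
    refine (range_comap_of_surjective _ _ Ideal.Quotient.mk_surjective).trans ?_
    rw [Ideal.mk_ker]
  have : IsClosedImmersion i := IsClosedImmersion.spec_of_surjective _ Ideal.Quotient.mk_surjective
  have hz : ∀ {B : Type u} [CommRing B] (φ : A →+* B) (z : PrimeSpectrum B),
      PrimeSpectrum.comap φ z ∈ PrimeSpectrum.zeroLocus (I : Set A) ↔
        z ∈ PrimeSpectrum.zeroLocus (I.map φ : Set B) := fun φ z => by
    simp only [PrimeSpectrum.mem_zeroLocus, SetLike.coe_subset_coe, Ideal.map_le_iff_le_comap]
    rfl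
  constructor
  · intro h Y g _
    have : IsAffine Y := isAffine_of_isAffineHom g
    let ψ : CommRingCat.of A ⟶ Γ(Y, ⊤) := Spec.preimage (Y.isoSpec.inv ≫ g)
    have hψ : Spec.map ψ = Y.isoSpec.inv ≫ g := Spec.map_preimage _
    have hfin : ψ.hom.Finite := by
      rw [← IsFinite.SpecMap_iff, hψ]; infer_instance
    algebraize [ψ.hom]
    let w := Scheme.homeoOfIso Y.isoSpec
    let j : ↥(pullback g i) → PrimeSpectrum Γ(Y, ⊤) := w ∘ (pullback.fst g i).base
    have hj : Topology.IsClosedEmbedding j :=
      w.isClosedEmbedding.comp (pullback.fst g i).isClosedEmbedding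
    have hgw : ∀ z, g.base (w.symm z) = PrimeSpectrum.comap ψ.hom z := fun z => by
      change g.base (Y.isoSpec.inv.base z) = (Spec.map ψ).base z
      rw [hψ]; rfl
    have hr : Set.range j = PrimeSpectrum.zeroLocus (I.map ψ.hom : Set Γ(Y, ⊤)) := by
      rw [show Set.range j = w '' Set.range (pullback.fst g i).base from Set.range_comp _ _,
        Scheme.Pullback.range_fst, hri]
      ext z
      rw [Homeomorph.image_eq_preimage_symm]
      refine Iff.trans (iff_of_eq ?_) (hz ψ.hom z)
      exact congrArg (· ∈ PrimeSpectrum.zeroLocus (I : Set A)) (hgw z)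
    intro V hV
    have hL : I.map ψ.hom ≤ Ideal.jacobson ⊥ :=
      H9Hens.map_le_jacobson_of_isIntegral (B := Γ(Y, ⊤)) h.jac
    obtain ⟨U, ⟨hU, hUV⟩, huniq⟩ := (H9Hens.clopen_lift_iff (I.map ψ.hom) j hj hr).mpr
      (fun b hb => by
        obtain ⟨e, he, heb⟩ := H9Hens.exists_idem_lift (I := I) (B := Γ(Y, ⊤)) b hb
        exact ⟨e, ⟨he, heb⟩, fun e' he' => H9Hens.idem_eq_of_sub_mem hL he'.1 he
          (by simpa using sub_mem he'.2 heb)⟩) V hV
    refine ⟨w ⁻¹' U, ⟨hU.preimage w.continuous, hUV⟩, ?_⟩
    rintro U' ⟨hU', hU'V⟩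
    rw [← huniq (w.symm ⁻¹' U') ⟨hU'.preimage w.symm.continuous, by
      rw [← hU'V]; ext p; exact iff_of_eq (congrArg (· ∈ U') (w.symm_apply_apply _))⟩]
    ext y; exact (iff_of_eq (congrArg (· ∈ U') (w.symm_apply_apply y))).symm
  · intro H
    have key : ∀ (B : Type u) [CommRing B] [Algebra A B], Module.Finite A B → ∀ b : B,
        b * b - b ∈ I.map (algebraMap A B) →
        ∃! e : B, IsIdempotentElem e ∧ e - b ∈ I.map (algebraMap A B) := by
      intro B _ _ hB b hb
      let g := Spec.map (CommRingCat.ofHom (algebraMap A B))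
      have hg : IsFinite g := (IsFinite.SpecMap_iff _).mpr (RingHom.finite_algebraMap.mpr hB)
      refine (H9Hens.clopen_lift_iff (I.map (algebraMap A B))
        ((pullback.fst g i).base : ↥(pullback g i) → PrimeSpectrum B)
        (pullback.fst g i).isClosedEmbedding ?_).mp (fun V hV => H _ g hg V hV) b hb
      refine (Scheme.Pullback.range_fst (f := g) (g := i)).trans ?_
      rw [hri]
      ext z
      exact hz (algebraMap A B) z
    have hI : I ≤ Ideal.jacobson ⊥ := by
      refine le_sInf fun m hm => ?_
      have := hm.2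
      by_contra hIm
      have hmk : I.map (algebraMap A (A ⧸ m)) = ⊤ := by
        rw [Ideal.Quotient.algebraMap_eq]
        let := Ideal.Quotient.field m
        exact (Ideal.eq_bot_or_top _).resolve_left
          (fun h0 => hIm (fun x hx => Ideal.Quotient.eq_zero_iff_mem.mp
            ((Submodule.mem_bot _).mp (h0 ▸ Ideal.mem_map_of_mem _ hx))))
      obtain ⟨e, -, hu⟩ := key (A ⧸ m) inferInstance 0 (by simp)
      have h0 := hu 0 ⟨IsIdempotentElem.zero, by simp⟩
      have h1 := hu 1 ⟨IsIdempotentElem.one, by rw [hmk]; exact Submodule.mem_top⟩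
      exact zero_ne_one (h0.trans h1.symm)
    exact H9Hens.henselianRing_of_idem_lift hI fun B _ _ hB b hb => (key B hB b hb).exists

end Groth.Agent.S17971
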