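import Groth.Statements.S17974
import Mathlib.RingTheory.Unramified.Finite


set_option autoImplicit false
universe u
open Unram

namespace Groth.Agent.S17974

/-- Let A be a commutative ring, B an unramified A-algebra (formally unramified and of finite type), C
an A-algebra, p a prime ideal of C, and u, v : B → C two A-algebra homomorphisms which agree after
composition with C → C/p. Then there is an element f of C not in p such that u and v agree after
composition with the localization map C → C[1/f]. -/
theorem result
    (A : Type u) [CommRing A] (B : Type u) [CommRing B] [Algebra A B]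
    [Algebra.FormallyUnramified A B] [Algebra.FiniteType A B]
    (C : Type u) [CommRing C] [Algebra A C] (p : Ideal C) [p.IsPrime]
    (u v : B →ₐ[A] C)
    (huv : (Ideal.Quotient.mk p).comp u.toRingHom = (Ideal.Quotient.mk p).comp v.toRingHom) :
    ∃ f : C, f ∉ p ∧
      (algebraMap C (Localization.Away f)).comp u.toRingHom =
        (algebraMap C (Localization.Away f)).comp v.toRingHom := by
  obtain ⟨t, ht, ht1⟩ := (Algebra.FormallyUnramified.iff_exists_tensorProduct (R := A) (S := B)).1
    inferInstance
  let w : TensorProduct A B B →ₐ[A] C := Algebra.TensorProduct.lift u v (fun x y => .all _ _)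
  refine ⟨w t, ?_, ?_⟩
  · have hcomp : (Ideal.Quotient.mk p).comp w.toRingHom
        = ((Ideal.Quotient.mk p).comp u.toRingHom).comp
          (Algebra.TensorProduct.lmul' (S := B) A).toRingHom := by
      have h : (Ideal.Quotient.mkₐ A p).comp w
          = ((Ideal.Quotient.mkₐ A p).comp u).comp (Algebra.TensorProduct.lmul' (S := B) A) := by
        apply Algebra.TensorProduct.ext
        · ext b; simp [w]
        · ext b
          have := RingHom.congr_fun huv b
          simp only [RingHom.coe_comp, Function.comp_apply, AlgHom.toRingHom_eq_coe,
            RingHom.coe_coe] at this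
          simp [w, this]
      exact congrArg AlgHom.toRingHom h
    intro hm
    have h2 := RingHom.congr_fun hcomp t
    simp only [RingHom.coe_comp, Function.comp_apply, AlgHom.toRingHom_eq_coe, RingHom.coe_coe,
      ht1, map_one, Ideal.Quotient.eq_zero_iff_mem.2 hm] at h2
    exact zero_ne_one h2
  · ext b
    simp only [RingHom.coe_comp, Function.comp_apply, AlgHom.toRingHom_eq_coe, RingHom.coe_coe]
    apply (IsLocalization.Away.algebraMap_isUnit (S := Localization.Away (w t)) (w t)).mul_left_cancel
    rw [← map_mul, ← map_mul]
    congr 1
    have h3 := congrArg w (ht b)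
    rw [map_mul, map_zero, map_sub] at h3
    simp only [w, Algebra.TensorProduct.lift_tmul, map_one, one_mul, mul_one] at h3 ⊢
    linear_combination (-1 : C) * h3

end Groth.Agent.S17974
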