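import Groth.Statements.S17975
import Mathlib.RingTheory.Nakayama
import Mathlib.RingTheory.AdjoinRoot
-- import your own Groth.Agent.* helpers here

set_option autoImplicit false
universe u
open Hensel

namespace Groth.Agent.S17975

/-- Let A be a local ring with maximal ideal m and residue field k, C a commutative A-algebra which is
finitely generated as an A-module, Q₀ a monic polynomial of degree n over k, e an A-algebra
isomorphism from C/mC to k[T]/(Q₀), and x an element of C whose class is sent by e to the class of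
T. Then x generates C as an A-algebra, and x is a root of a monic polynomial Q over A of degree n
whose reduction modulo m equals Q₀. -/
theorem result
    (A : Type u) [CommRing A] [IsLocalRing A] (C : Type u) [CommRing C] [Algebra A C] [Module.Finite A C]
    (Q₀ : Polynomial (IsLocalRing.ResidueField A)) (hQ₀ : Q₀.Monic)
    (e : (C ⧸ Ideal.map (algebraMap A C) (IsLocalRing.maximalIdeal A)) ≃ₐ[A] AdjoinRoot Q₀)
    (x : C) (hx : e (Ideal.Quotient.mk (Ideal.map (algebraMap A C) (IsLocalRing.maximalIdeal A)) x) = AdjoinRoot.root Q₀) :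
    Algebra.adjoin A {x} = ⊤ ∧
      ∃ Q : Polynomial A, Q.Monic ∧ Q.natDegree = Q₀.natDegree ∧
        Polynomial.map (IsLocalRing.residue A) Q = Q₀ ∧ Polynomial.aeval x Q = 0 := by
  classical
  let mC := Ideal.map (algebraMap A C) (IsLocalRing.maximalIdeal A)
  let N : Submodule A C := Submodule.span A (Set.range fun i : Fin Q₀.natDegree => x ^ (i : ℕ))
  let R' := AdjoinRoot Q₀
  have hsmul : (IsLocalRing.maximalIdeal A) • (⊤ : Submodule A C) = mC.restrictScalars A :=
    Ideal.smul_top_eq_map _
  have hspan : ∀ y : R', ∃ c : Fin Q₀.natDegree → A, y = ∑ i, c i • AdjoinRoot.root Q₀ ^ (i : ℕ) := by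
    intro y
    let pb := AdjoinRoot.powerBasis' hQ₀
    have h := pb.basis.sum_repr y
    choose c hc using fun i => IsLocalRing.residue_surjective (pb.basis.repr y i)
    refine ⟨fun i => c (Fin.cast (by rfl) i), h.symm.trans (Fintype.sum_congr _ _ fun i => ?_)⟩
    rw [← IsScalarTower.algebraMap_smul (IsLocalRing.ResidueField A) (c _) (AdjoinRoot.root Q₀ ^ _),
      pb.basis_eq_pow]
    exact congrArg (· • _) (hc i).symm
  have hN : ⊤ ≤ N := by
    refine Submodule.le_of_le_smul_of_le_jacobson_bot Module.Finite.fg_top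
      (IsLocalRing.maximalIdeal_le_jacobson _) fun y _ => ?_
    obtain ⟨c, hc⟩ := hspan (e (Ideal.Quotient.mk mC y))
    let z := ∑ i, c i • x ^ (i : ℕ)
    have hz : y - z ∈ mC := by
      rw [← Ideal.Quotient.eq]
      apply e.injective
      rw [hc, map_sum, map_sum]
      refine Fintype.sum_congr _ _ fun i => ?_
      rw [← Ideal.Quotient.mkₐ_eq_mk A, map_smul, map_smul, map_pow, map_pow]
      exact (congrArg (fun r => c i • r ^ (i : ℕ)) hx).symm
    rw [hsmul]
    exact Submodule.mem_sup.mpr ⟨z, sum_mem fun i _ => Submodule.smul_mem _ _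
      (Submodule.subset_span ⟨i, rfl⟩), y - z, hz, add_sub_cancel _ _⟩
  refine ⟨eq_top_iff.mpr fun y _ => ?_, ?_⟩
  · exact (Submodule.span_le.mpr (by
      rintro _ ⟨i, rfl⟩; exact pow_mem (Algebra.self_mem_adjoin_singleton A x) _) :
        N ≤ (Algebra.adjoin A {x}).toSubmodule) (hN trivial)
  · obtain ⟨a, ha⟩ := (Submodule.mem_span_range_iff_exists_fun A).mp (hN (Submodule.mem_top (x := x ^ Q₀.natDegree)))
    let r : Polynomial A := ∑ i : Fin Q₀.natDegree, Polynomial.monomial (i : ℕ) (a i)
    have hr : r.degree < (Q₀.natDegree : ℕ) := by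
      refine lt_of_le_of_lt (Polynomial.degree_sum_le _ _) ((Finset.sup_lt_iff (WithBot.bot_lt_coe _)).mpr fun i _ => ?_)
      exact lt_of_le_of_lt (Polynomial.degree_monomial_le _ _) (by exact_mod_cast i.2)
    let Q := Polynomial.X ^ Q₀.natDegree - r
    have hQm : Q.Monic := Polynomial.monic_X_pow_sub hr
    have hQd : Q.natDegree = Q₀.natDegree := Polynomial.natDegree_eq_of_degree_eq_some (by
      rw [Polynomial.degree_sub_eq_left_of_degree_lt (by rwa [Polynomial.degree_X_pow]),
        Polynomial.degree_X_pow])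
    have hQ0 : Polynomial.aeval x Q = 0 := by
      simp only [Q, r, map_sub, map_pow, Polynomial.aeval_X, map_sum, Polynomial.aeval_monomial,
        ← Algebra.smul_def, ha, sub_self]
    refine ⟨Q, hQm, hQd, Polynomial.eq_of_monic_of_dvd_of_natDegree_le hQ₀ (hQm.map _) ?_
      (by rw [hQm.natDegree_map, hQd]), hQ0⟩
    rw [← AdjoinRoot.mk_eq_zero, ← AdjoinRoot.aeval_eq]
    have h := congrArg (fun t => e (Ideal.Quotient.mk mC t)) hQ0
    simp only [map_zero] at h
    rw [← Ideal.Quotient.mkₐ_eq_mk A, ← Polynomial.aeval_algHom_apply, ← Polynomial.aeval_algHom_apply] at h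
    rw [Ideal.Quotient.mkₐ_eq_mk, hx] at h
    exact (Polynomial.aeval_map_algebraMap (IsLocalRing.ResidueField A) _ Q).trans h

end Groth.Agent.S17975
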