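import Groth.Statements.S17976
import Groth.Agent.H9Hens.FinitePart
import Groth.Agent.H9Hens.PairHens
import Mathlib.RingTheory.ZariskisMainTheorem
import Mathlib.LinearAlgebra.DirectSum.Finsupp
import Mathlib.LinearAlgebra.TensorProduct.RightExactness
-- import your own Groth.Agent.* helpers here

set_option autoImplicit false
universe u
open Hensel

namespace Groth.Agent.S17976
open TensorProduct

open TensorProduct in
theorem exists_finset_eq_zero {A : Type u} [CommRing A] {k H : Type u} [CommRing k] [Algebra A k]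
    [CommRing H] [Algebra A H] {π : H →ₐ[A] k} (hH : Groth.Agent.H9Hens.IsPtColim π) {ι : Type u}
    (s : Finset ι) (S : Type u) [CommRing S] [Algebra A S] [Algebra.Etale A S] (φ : S →ₐ[A] H)
    (x : ι → S) (h : ∀ i ∈ s, φ (x i) = 0) :
    ∃ (T : Type u) (_ : CommRing T) (_ : Algebra A T) (_ : Algebra.Etale A T) (ψ : S →ₐ[A] T)
      (φT : T →ₐ[A] H), φT.comp ψ = φ ∧ ∀ i ∈ s, ψ (x i) = 0 := by
  classical
  induction s using Finset.induction with
  | empty => exact ⟨S, inferInstance, inferInstance, inferInstance, AlgHom.id A S, φ, AlgHom.comp_id φ,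
      fun i hi => absurd hi (Finset.notMem_empty i)⟩
  | insert a s ha ih =>
    obtain ⟨T, _, _, _, ψ, φT, hc, hz⟩ := ih fun i hi => h i (Finset.mem_insert_of_mem hi)
    obtain ⟨T', _, _, _, ψ', φT', hc', hz'⟩ := hH.exists_eq_zero T φT (ψ (x a)) (by
      rw [← AlgHom.comp_apply, hc]; exact h a (Finset.mem_insert_self a s))
    refine ⟨T', inferInstance, inferInstance, inferInstance, ψ'.comp ψ, φT',
      by rw [← AlgHom.comp_assoc, hc', hc], fun i hi => ?_⟩
    rcases Finset.mem_insert.1 hi with rfl | hi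
    · exact hz'
    · rw [AlgHom.comp_apply, hz i hi, map_zero]

open TensorProduct in
theorem exists_tensor_eq_zero {A : Type u} [CommRing A] {k H : Type u} [CommRing k] [Algebra A k]
    [CommRing H] [Algebra A H] {π : H →ₐ[A] k} (hH : Groth.Agent.H9Hens.IsPtColim π)
    {B : Type u} [AddCommGroup B] [Module A B]
    (S : Type u) [CommRing S] [Algebra A S] [Algebra.Etale A S] (φ : S →ₐ[A] H)
    (z : S ⊗[A] B) (h : φ.toLinearMap.rTensor B z = 0) :
    ∃ (T : Type u) (_ : CommRing T) (_ : Algebra A T) (_ : Algebra.Etale A T) (ψ : S →ₐ[A] T)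
      (φT : T →ₐ[A] H), φT.comp ψ = φ ∧ ψ.toLinearMap.rTensor B z = 0 := by
  classical
  let F := B →₀ A
  let p : F →ₗ[A] B := Finsupp.linearCombination A (fun b : B => b)
  have hp : Function.Surjective p := fun b => ⟨Finsupp.single b 1, (Finsupp.linearCombination_single ..).trans (one_smul A b)⟩
  let R := LinearMap.ker p
  have hex : Function.Exact R.subtype p := by
    intro x
    exact ⟨fun hx => ⟨⟨x, hx⟩, rfl⟩, by rintro ⟨y, rfl⟩; exact y.2⟩
  obtain ⟨z', rfl⟩ := LinearMap.lTensor_surjective S hp z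
  have h0 : p.lTensor H (φ.toLinearMap.rTensor F z') = 0 := by
    rw [← h, ← LinearMap.comp_apply, ← LinearMap.comp_apply, LinearMap.lTensor_comp_rTensor, LinearMap.rTensor_comp_lTensor]
  have hex' := @lTensor_exact A R F B _ _ _ _ _ _ _ R.subtype p H _ _ hex hp
  obtain ⟨w, hw⟩ := (hex' (φ.toLinearMap.rTensor F z')).1 h0
  obtain ⟨t, rfl⟩ := TensorProduct.exists_finset w
  obtain ⟨S₂, _, _, _, φ₂, y, hy⟩ := hH.exists_rep_finset (t.image Prod.fst) (fun x => x)
  let L : S ⊗[A] S₂ →ₐ[A] H := Algebra.TensorProduct.lift φ φ₂ fun _ _ => Commute.all _ _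
  haveI : Algebra.Etale A (S ⊗[A] S₂) := Algebra.Etale.comp A S _
  let i₁ : S →ₐ[A] S ⊗[A] S₂ := Algebra.TensorProduct.includeLeft
  let v : (S ⊗[A] S₂) ⊗[A] F := i₁.toLinearMap.rTensor F z' -
    ∑ x ∈ t, (((1 : S) ⊗ₜ[A] y x.1) ⊗ₜ[A] (x.2 : F))
  have hL : L.comp i₁ = φ := AlgHom.ext fun a => by simp [L, i₁]
  have hv : L.toLinearMap.rTensor F v = 0 := by
    simp only [v, map_sub, map_sum]
    rw [← LinearMap.comp_apply, ← LinearMap.rTensor_comp, ← AlgHom.comp_toLinearMap, hL, ← hw, map_sum,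
      sub_eq_zero]
    refine Finset.sum_congr rfl fun x hx => ?_
    simp [L, hy x.1 (Finset.mem_image_of_mem _ hx)]
  let c := TensorProduct.finsuppScalarRight A A (S ⊗[A] S₂) B v
  have hc : ∀ b, L (c b) = 0 := by
    intro b
    have key : ∀ q : (S ⊗[A] S₂) ⊗[A] F, TensorProduct.finsuppScalarRight A A H B (L.toLinearMap.rTensor F q) b =
        L (TensorProduct.finsuppScalarRight A A (S ⊗[A] S₂) B q b) := by
      intro q
      induction q using TensorProduct.induction_on with
      | zero => simp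
      | tmul a f =>
        exact (TensorProduct.finsuppScalarRight_apply_tmul_apply _ _ b).trans ((map_smul _ _ a).symm.trans
          (congrArg _ (TensorProduct.finsuppScalarRight_apply_tmul_apply (S := A) a f b).symm))
      | add a a' ha ha' => simp only [map_add, Finsupp.add_apply, ha, ha']
    rw [← key, hv, map_zero, Finsupp.zero_apply]
  obtain ⟨T, _, _, _, ψ, φT, hψ, hz⟩ := exists_finset_eq_zero hH c.support (S ⊗[A] S₂) L c (fun b _ => hc b)
  have hψv : ψ.toLinearMap.rTensor F v = 0 := by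
    apply (TensorProduct.finsuppScalarRight A A T B).injective
    ext b
    have key : ∀ q : (S ⊗[A] S₂) ⊗[A] F, TensorProduct.finsuppScalarRight A A T B (ψ.toLinearMap.rTensor F q) b =
        ψ (TensorProduct.finsuppScalarRight A A (S ⊗[A] S₂) B q b) := by
      intro q
      induction q using TensorProduct.induction_on with
      | zero => simp
      | tmul a f =>
        exact (TensorProduct.finsuppScalarRight_apply_tmul_apply _ _ b).trans ((map_smul _ _ a).symm.trans
          (congrArg _ (TensorProduct.finsuppScalarRight_apply_tmul_apply (S := A) a f b).symm))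
      | add a a' ha ha' => simp only [map_add, Finsupp.add_apply, ha, ha']
    rw [key, map_zero, Finsupp.zero_apply]
    by_cases hb : b ∈ c.support
    · exact hz b hb
    · rw [show TensorProduct.finsuppScalarRight A A (S ⊗[A] S₂) B v b = 0 from Finsupp.notMem_support_iff.1 hb, map_zero]
  refine ⟨T, inferInstance, inferInstance, inferInstance, ψ.comp i₁, φT, by rw [← AlgHom.comp_assoc, hψ, hL], ?_⟩
  rw [← LinearMap.comp_apply, LinearMap.rTensor_comp_lTensor, ← LinearMap.lTensor_comp_rTensor, LinearMap.comp_apply]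
  have : (ψ.comp i₁).toLinearMap.rTensor F z' = ψ.toLinearMap.rTensor F (i₁.toLinearMap.rTensor F z') := by
    rw [← LinearMap.comp_apply, ← LinearMap.rTensor_comp, ← AlgHom.comp_toLinearMap]
  rw [this, sub_eq_zero.1 ((map_sub _ _ _).symm.trans hψv), map_sum, map_sum]
  refine Finset.sum_eq_zero fun x _ => ?_
  rw [LinearMap.rTensor_tmul, LinearMap.lTensor_tmul, show p (x.2 : F) = 0 from x.2.2, tmul_zero]

theorem exists_nbhd_over {A : Type u} [CommRing A] {I : Ideal A} {H : Type u} [CommRing H] [Algebra A H]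
    {π : H →ₐ[A] A ⧸ I} (hH : Groth.Agent.H9Hens.IsPtColim π)
    (S : Type u) [CommRing S] [Algebra A S] [Algebra.Etale A S] (φ : S →ₐ[A] H) :
    ∃ (T : Type u) (_ : CommRing T) (_ : Algebra A T) (_ : Algebra.Etale A T) (ψ : S →ₐ[A] T) (φT : T →ₐ[A] H),
      Function.Bijective (Ideal.quotientMap (I.map (algebraMap A T)) (algebraMap A T) Ideal.le_comap_map) ∧
        φT.comp ψ = φ := by
  obtain ⟨T, _, _, hT, ψ, σT, hb, hσ, -⟩ := Groth.Agent.H9Hens.exists_etale_nbhd (I := I) S (π.comp φ) 1
    (by rw [map_one]; exact isUnit_one)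
  obtain ⟨φT, hφT⟩ := hH.exists_map T σT
  exact ⟨T, inferInstance, inferInstance, hT, ψ, φT, hb, hH.hom_ext (by rw [← AlgHom.comp_assoc, hφT, hσ])⟩

theorem quasiFiniteAt_of_finite_quotient {R S : Type u} [CommRing R] [CommRing S] [Algebra R S]
    [Algebra.FiniteType R S] (I : Ideal R) (hfin : Module.Finite R (S ⧸ I.map (algebraMap R S)))
    (q : Ideal S) [q.IsPrime] (hq : I.map (algebraMap R S) ≤ q) : Algebra.QuasiFiniteAt R q := by
  let Q : PrimeSpectrum S := ⟨q, ‹_›⟩
  let X := ↥(PrimeSpectrum.comap (algebraMap R S) ⁻¹' {Q.comap (algebraMap R S)})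
  let mk := Ideal.Quotient.mk (I.map (algebraMap R S))
  have hXI : ∀ x : X, I.map (algebraMap R S) ≤ x.1.asIdeal := fun x => by
    rw [Ideal.map_le_iff_le_comap]
    have h := congrArg PrimeSpectrum.asIdeal (show x.1.comap (algebraMap R S) = Q.comap (algebraMap R S) from x.2)
    exact (Ideal.map_le_iff_le_comap.1 hq).trans h.ge
  have hT : T1Space X := by
    refine ⟨fun x => isClosed_induced_iff.2 ⟨PrimeSpectrum.zeroLocus (x.1.asIdeal : Set S),
      PrimeSpectrum.isClosed_zeroLocus _, ?_⟩⟩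
    ext y
    refine ⟨fun hy => ?_, fun hy => by rw [Set.mem_singleton_iff.1 hy]; exact (PrimeSpectrum.mem_zeroLocus _ _).2 le_rfl⟩
    have hle : x.1.asIdeal ≤ y.1.asIdeal := hy
    have hc : x.1.asIdeal.comap (algebraMap R S) = y.1.asIdeal.comap (algebraMap R S) :=
      congrArg PrimeSpectrum.asIdeal (x.2.trans y.2.symm)
    have hp : ∀ z : X, (z.1.asIdeal.map mk).IsPrime := fun z =>
      Ideal.map_isPrime_of_surjective Ideal.Quotient.mk_surjective (by rw [Ideal.mk_ker]; exact hXI z)
    have hm : ∀ z : X, (z.1.asIdeal.map mk).comap mk = z.1.asIdeal := fun z => by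
      rw [Ideal.comap_map_of_surjective _ Ideal.Quotient.mk_surjective, ← RingHom.ker_eq_comap_bot, Ideal.mk_ker,
        sup_eq_left]
      exact hXI z
    haveI := hp x
    have he : x.1.asIdeal.map mk = y.1.asIdeal.map mk := by
      refine ((Ideal.map_mono (f := mk) hle).eq_or_lt).resolve_right fun hlt => ?_
      haveI : Algebra.IsIntegral R (S ⧸ I.map (algebraMap R S)) := Algebra.IsIntegral.of_finite R _
      obtain ⟨hle', z, hz1, hz2⟩ := SetLike.lt_iff_le_and_exists.mp hlt
      have hlt' := Ideal.comap_lt_comap_of_integral_mem_sdiff (R := R) hle' ⟨hz1, hz2⟩ (Algebra.IsIntegral.isIntegral z)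
      rw [IsScalarTower.algebraMap_eq R S (S ⧸ I.map (algebraMap R S)), ← Ideal.comap_comap, ← Ideal.comap_comap,
        Ideal.Quotient.algebraMap_eq, hm, hm] at hlt'
      exact hlt'.ne hc
    exact Subtype.ext (PrimeSpectrum.ext (by rw [← hm x, ← hm y, he]))
  haveI : Finite X := by
    haveI : Algebra.QuasiFinite R (S ⧸ I.map (algebraMap R S)) := inferInstance
    have hfin' := Algebra.QuasiFinite.finite_comap_preimage_singleton (R := R) (S := S ⧸ I.map (algebraMap R S))
      (Q.comap (algebraMap R S))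
    haveI := hfin'.to_subtype
    refine Finite.of_surjective (fun z : ↥(PrimeSpectrum.comap (algebraMap R (S ⧸ I.map (algebraMap R S))) ⁻¹' {Q.comap (algebraMap R S)}) =>
      (⟨z.1.comap mk, by
        show (z.1.comap mk).comap (algebraMap R S) = _
        exact z.2⟩ : X)) fun x => ?_
    have hx : x.1 ∈ Set.range (PrimeSpectrum.comap mk) := by
      rw [range_comap_of_surjective _ _ Ideal.Quotient.mk_surjective, Ideal.mk_ker]
      exact hXI x
    obtain ⟨z, hz⟩ := hx
    exact ⟨⟨z, (congrArg (PrimeSpectrum.comap (algebraMap R S)) hz).trans x.2⟩, Subtype.ext hz⟩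
  haveI : DiscreteTopology X := inferInstance
  exact Algebra.QuasiFiniteAt.of_isOpen_singleton_fiber Q (isOpen_discrete _)

/-- Let A be a commutative ring, I an ideal of A and B an A-algebra of finite type such that B/IB is a
finite A-module. Then there exist an etale A-algebra A' such that A → A'/IA' is surjective with
kernel I, and a commutative ring C which is an A'-algebra finite over A' and an etale B-algebra,
with compatible A-algebra structures, such that B → C/IC is surjective with kernel IB. In scheme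
language: an etale affine neighbourhood S' of Spec (A/I) in Spec A and an etale neighbourhood Z =
Spec C of Spec (B/IB) in Spec B, finite over S', forming a commutative square. -/
theorem result
    (A : Type u) [CommRing A] (I : Ideal A) (B : Type u) [CommRing B] [Algebra A B] [Algebra.FiniteType A B]
    (hfin : Module.Finite A (B ⧸ Ideal.map (algebraMap A B) I)) :
    ∃ (A' : Type u) (_ : CommRing A') (_ : Algebra A A') (_ : Algebra.Etale A A')
      (C : Type u) (_ : CommRing C) (_ : Algebra A C) (_ : Algebra A' C) (_ : Algebra B C)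
      (_ : IsScalarTower A A' C) (_ : IsScalarTower A B C),
      Function.Surjective ((Ideal.Quotient.mk (Ideal.map (algebraMap A A') I)).comp (algebraMap A A')) ∧
      RingHom.ker ((Ideal.Quotient.mk (Ideal.map (algebraMap A A') I)).comp (algebraMap A A')) = I ∧
      Algebra.Etale B C ∧ Module.Finite A' C ∧
      Function.Surjective ((Ideal.Quotient.mk (Ideal.map (algebraMap A C) I)).comp (algebraMap B C)) ∧
      RingHom.ker ((Ideal.Quotient.mk (Ideal.map (algebraMap A C) I)).comp (algebraMap B C)) =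
        Ideal.map (algebraMap A B) I := by
  classical

  obtain ⟨H, _, _, π, hπ, hH⟩ := Groth.Agent.H9Hens.exists_isPairHenselization A I
  haveI := hH.1
  let S := H ⊗[A] B
  have hIS : (I.map (algebraMap A H)).map (algebraMap H S) = I.map (algebraMap A S) := by
    rw [Ideal.map_map, ← IsScalarTower.algebraMap_eq]
  let J : Ideal S := (I.map (algebraMap A H)).map (algebraMap H S) ⊔ Ideal.span {1 - (1 : S)}
  have hJ : J = I.map (algebraMap A S) := by
    simp only [J, sub_self, Ideal.span_singleton_zero, sup_bot_eq, hIS]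
  let inR : B →ₐ[A] S := Algebra.TensorProduct.includeRight
  have hfinA : Module.Finite A (S ⧸ J) := by
    let g : (B ⧸ I.map (algebraMap A B)) →ₐ[A] S ⧸ J :=
      Ideal.Quotient.liftₐ _ ((Ideal.Quotient.mkₐ A J).comp inR) fun b hb => by
        show Ideal.Quotient.mk J (inR b) = 0
        rw [Ideal.Quotient.eq_zero_iff_mem, hJ]
        have := Ideal.mem_map_of_mem inR.toRingHom hb
        rwa [Ideal.map_map, AlgHom.toRingHom_eq_coe, AlgHom.comp_algebraMap] at this
    refine Module.Finite.of_surjective g.toLinearMap fun x => ?_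
    obtain ⟨x, rfl⟩ := Ideal.Quotient.mk_surjective x
    induction x using TensorProduct.induction_on with
    | zero => exact ⟨0, by simp⟩
    | add x y hx hy =>
      obtain ⟨u, hu⟩ := hx
      obtain ⟨v, hv⟩ := hy
      exact ⟨u + v, by rw [map_add, hu, hv, ← map_add]⟩
    | tmul h b =>
      obtain ⟨a, ha⟩ := Ideal.Quotient.mk_surjective (π h)
      refine ⟨Ideal.Quotient.mk _ (a • b), ?_⟩
      show Ideal.Quotient.mk J (inR (a • b)) = Ideal.Quotient.mk J (h ⊗ₜ b)
      rw [Ideal.Quotient.eq, hJ, ← hIS]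
      have hh : algebraMap A H a - h ∈ I.map (algebraMap A H) := by
        rw [← hπ.ker_eq_map, RingHom.mem_ker, map_sub, π.commutes, ← ha]
        exact sub_self _
      have e : inR (a • b) - h ⊗ₜ[A] b = algebraMap H S (algebraMap A H a - h) * inR b := by
        show (1 : H) ⊗ₜ[A] (a • b) - h ⊗ₜ[A] b = ((algebraMap A H a - h) ⊗ₜ[A] (1 : B)) * ((1 : H) ⊗ₜ[A] b)
        rw [Algebra.TensorProduct.tmul_mul_tmul, mul_one, one_mul, sub_tmul, Algebra.algebraMap_eq_smul_one, smul_tmul]
      rw [e]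
      exact Ideal.mul_mem_right _ _ (Ideal.mem_map_of_mem _ hh)
  have hfinH : Module.Finite H (S ⧸ J) := Module.Finite.of_restrictScalars_finite A H _
  have hq : ∀ (q : Ideal S) [q.IsPrime], J ≤ q → Algebra.QuasiFiniteAt H q := fun q _ hq => by
    refine quasiFiniteAt_of_finite_quotient (I.map (algebraMap A H)) ?_ q (le_sup_left.trans hq)
    rwa [hIS, ← hJ]
  obtain ⟨B', hB', u, hu, -, -, hfinal⟩ := Groth.Agent.H9Hens.exists_finitePart_subalgebra
    (I := I.map (algebraMap A H)) (HenselianRing.jac (I := I.map (algebraMap A H))) (1 : S) (by simp) hfinH hq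
  haveI : Module.Finite H B' := Module.Finite.of_fg hB'
  haveI : Algebra.IsIntegral H B' := Algebra.IsIntegral.of_finite H B'
  obtain ⟨ε, hε, hεu⟩ := Groth.Agent.H9Hens.exists_idem_lift_integral (I := I.map (algebraMap A H)) u hu
  obtain ⟨he1, hefin⟩ := hfinal ε hε hεu
  rw [hIS] at he1
  let e : S := (ε : S)
  have hee : e * e = e := congrArg Subtype.val hε.eq
  -- generators and their integral equations on the finite part
  obtain ⟨gB, hgB⟩ := Algebra.FiniteType.out (R := A) (A := B)
  haveI : Algebra.IsIntegral H (S ⧸ Ideal.span {1 - e}) := Algebra.IsIntegral.of_finite H _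
  have hpb : ∀ b : B, ∃ p : Polynomial H, p.Monic ∧ Polynomial.aeval (inR b) p * e = 0 := by
    intro b
    obtain ⟨p, hp, hp0⟩ := Algebra.IsIntegral.isIntegral (R := H) (Ideal.Quotient.mk (Ideal.span {1 - e}) (inR b))
    refine ⟨p, hp, ?_⟩
    have h0 : Ideal.Quotient.mk (Ideal.span {1 - e}) (Polynomial.aeval (inR b) p) = 0 := by
      rw [← Ideal.Quotient.mkₐ_eq_mk H, ← Polynomial.aeval_algHom_apply]
      exact hp0
    obtain ⟨c, hc⟩ := Ideal.mem_span_singleton'.1 (Ideal.Quotient.eq_zero_iff_mem.1 h0)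
    rw [← hc]
    linear_combination (-c) * hee
  choose p hpm hp0 using hpb
  obtain ⟨n, fc, gc, hsum⟩ := (Submodule.mem_span_set').1 (show e - 1 ∈ Submodule.span S (algebraMap A S '' I) from he1)
  choose ac hac hacg using fun i => (gc i).2
  choose ts hts using fun i => TensorProduct.exists_finset (fc i)
  let hs : Finset H := (Finset.univ.biUnion fun i => (ts i).image Prod.fst) ∪
    gB.biUnion fun b => (Finset.range (p b).natDegree).image (p b).coeff
  obtain ⟨S₀, _, _, _, φ₀, y, hy⟩ := hπ.exists_rep_finset hs (fun h => h)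
  let G₀ : S₀ ⊗[A] B →ₐ[A] S := Algebra.TensorProduct.map φ₀ (AlgHom.id A B)
  let e₀ : S₀ ⊗[A] B := 1 + ∑ i, (∑ x ∈ ts i, y x.1 ⊗ₜ[A] x.2) * algebraMap A (S₀ ⊗[A] B) (ac i)
  have he₀ : G₀ e₀ = e := by
    have h1 : ∀ i, G₀ (∑ x ∈ ts i, y x.1 ⊗ₜ[A] x.2) = fc i := fun i => by
      rw [map_sum, hts i]
      refine Finset.sum_congr rfl fun x hx => ?_
      rw [Algebra.TensorProduct.map_tmul, hy x.1 (Finset.mem_union_left _ (Finset.mem_biUnion.2 ⟨i, Finset.mem_univ _, Finset.mem_image_of_mem _ hx⟩))]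
      rfl
    simp only [e₀, map_add, map_one, map_sum, map_mul, AlgHom.commutes, h1]
    have h2 : ∀ i, fc i * algebraMap A S (ac i) = fc i • (gc i : S) := fun i => by rw [smul_eq_mul, hacg]
    simp only [map_sum, map_mul, h1, h2] at *
    rw [hsum]
    ring
  let p₀ : B → Polynomial S₀ := fun b => Polynomial.X ^ (p b).natDegree +
    ∑ i ∈ Finset.range (p b).natDegree, Polynomial.C (y ((p b).coeff i)) * Polynomial.X ^ i
  have hp₀ : ∀ b ∈ gB, (p₀ b).map φ₀.toRingHom = p b := fun b hb => by
    conv_rhs => rw [(hpm b).as_sum]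
    simp only [p₀, Polynomial.map_add, Polynomial.map_pow, Polynomial.map_X, Polynomial.map_sum, Polynomial.map_mul, Polynomial.map_C]
    congr 1
    refine Finset.sum_congr rfl fun i hi => ?_
    show Polynomial.C (φ₀ (y _)) * _ = _
    rw [hy _ (Finset.mem_union_right _ (Finset.mem_biUnion.2 ⟨b, hb, Finset.mem_image_of_mem _ hi⟩))]
  have hp₀m : ∀ b, (p₀ b).Monic := fun b => by
    refine Polynomial.monic_X_pow_add ?_
    refine (Polynomial.degree_sum_le _ _).trans_lt ((Finset.sup_lt_iff (WithBot.bot_lt_coe _)).2 fun i hi => ?_)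
    exact (Polynomial.degree_C_mul_X_pow_le _ _).trans_lt (WithBot.coe_lt_coe.2 (Finset.mem_range.1 hi))
  -- kill the finitely many relations
  let rel : Option B → S₀ ⊗[A] B := fun o => o.elim (e₀ * e₀ - e₀)
    fun b => (p₀ b).eval₂ (algebraMap S₀ (S₀ ⊗[A] B)) (1 ⊗ₜ[A] b) * e₀
  have hrel : ∀ o ∈ insert none (gB.image some), G₀ (rel o) = 0 := by
    intro o ho
    rcases Finset.mem_insert.1 ho with rfl | ho
    · simp only [rel, Option.elim_none, map_sub, map_mul, he₀, hee, sub_self]
    · obtain ⟨b, hb, rfl⟩ := Finset.mem_image.1 ho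
      simp only [rel, Option.elim_some, map_mul, he₀]
      rw [← hp0 b, ← hp₀ b hb, Polynomial.aeval_def, Polynomial.eval₂_map, ← RingHom.coe_coe, Polynomial.hom_eval₂]
      congr 2
      exact (Algebra.TensorProduct.map_tmul φ₀ (AlgHom.id A B) 1 b).trans (by rw [map_one]; rfl)
  have kill : ∀ (s : Finset (Option B)), (∀ o ∈ s, G₀ (rel o) = 0) →
      ∃ (T : Type u) (_ : CommRing T) (_ : Algebra A T) (_ : Algebra.Etale A T) (ψ : S₀ →ₐ[A] T) (φT : T →ₐ[A] H),
        φT.comp ψ = φ₀ ∧ ∀ o ∈ s, Algebra.TensorProduct.map ψ (AlgHom.id A B) (rel o) = 0 := by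
    intro s
    induction s using Finset.induction with
    | empty => exact fun _ => ⟨S₀, inferInstance, inferInstance, inferInstance, AlgHom.id A S₀, φ₀, AlgHom.comp_id _, by simp⟩
    | insert a s ha ih =>
      intro h
      obtain ⟨T, _, _, _, ψ, φT, hc, hz⟩ := ih fun o ho => h o (Finset.mem_insert_of_mem ho)
      have hG : ∀ z, Algebra.TensorProduct.map φT (AlgHom.id A B) (Algebra.TensorProduct.map ψ (AlgHom.id A B) z) = G₀ z := fun z => by
        rw [← AlgHom.comp_apply, ← Algebra.TensorProduct.map_comp, hc, AlgHom.id_comp]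
      obtain ⟨T', _, _, _, ψ', φT', hc', hz'⟩ := exists_tensor_eq_zero hπ T φT
        (Algebra.TensorProduct.map ψ (AlgHom.id A B) (rel a)) ((hG (rel a)).trans (h a (Finset.mem_insert_self a s)))
      refine ⟨T', inferInstance, inferInstance, inferInstance, ψ'.comp ψ, φT', by rw [← AlgHom.comp_assoc, hc', hc], fun o ho => ?_⟩
      rw [show Algebra.TensorProduct.map (ψ'.comp ψ) (AlgHom.id A B) (rel o) =
          Algebra.TensorProduct.map ψ' (AlgHom.id A B) (Algebra.TensorProduct.map ψ (AlgHom.id A B) (rel o)) by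
        rw [← AlgHom.comp_apply, ← Algebra.TensorProduct.map_comp, AlgHom.id_comp]]
      rcases Finset.mem_insert.1 ho with rfl | ho
      · exact hz'
      · rw [hz o ho, map_zero]
  obtain ⟨T₁, _, _, _, ψ₁, φ₁, -, hz₁⟩ := kill _ hrel
  obtain ⟨T, _, _, _, ψ₂, φT, hbij, -⟩ := exists_nbhd_over hπ T₁ φ₁
  let ψ := ψ₂.comp ψ₁
  let G : S₀ ⊗[A] B →ₐ[A] T ⊗[A] B := Algebra.TensorProduct.map ψ (AlgHom.id A B)
  have hz : ∀ o ∈ insert none (gB.image some), G (rel o) = 0 := fun o ho => by
    rw [show G = (Algebra.TensorProduct.map ψ₂ (AlgHom.id A B)).comp (Algebra.TensorProduct.map ψ₁ (AlgHom.id A B)) by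
      rw [← Algebra.TensorProduct.map_comp, AlgHom.id_comp], AlgHom.comp_apply, hz₁ o ho, map_zero]
  let e₂ := G e₀
  have he₂ : IsIdempotentElem e₂ := by
    have := hz none (Finset.mem_insert_self _ _)
    simp only [rel, Option.elim_none, map_sub, map_mul, sub_eq_zero] at this
    exact this
  have he₂1 : e₂ - 1 ∈ I.map (algebraMap A (T ⊗[A] B)) := by
    simp only [e₂, e₀, map_add, map_one, map_sum, map_mul, AlgHom.commutes, add_sub_cancel_left]
    exact Ideal.sum_mem _ fun i _ => Ideal.mul_mem_left _ _ (Ideal.mem_map_of_mem _ (hac i))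
  let K : Ideal (T ⊗[A] B) := Ideal.span {1 - e₂}
  letI : Algebra B (T ⊗[A] B) := Algebra.TensorProduct.rightAlgebra
  haveI : IsScalarTower A B (T ⊗[A] B) := IsScalarTower.of_algebraMap_eq fun a =>
    (Algebra.TensorProduct.includeRight : B →ₐ[A] T ⊗[A] B).commutes a |>.symm
  haveI : Algebra.Etale B (T ⊗[A] B) :=
    Algebra.Etale.of_equiv (Algebra.TensorProduct.commRight A B T)
  haveI : IsLocalization.Away e₂ ((T ⊗[A] B) ⧸ K) :=
    IsLocalization.away_of_isIdempotentElem he₂ Ideal.mk_ker Ideal.Quotient.mk_surjective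
  haveI : Algebra.Etale (T ⊗[A] B) ((T ⊗[A] B) ⧸ K) := Algebra.Etale.of_isLocalizationAway e₂
  haveI hEt : Algebra.Etale B ((T ⊗[A] B) ⧸ K) := Algebra.Etale.comp B (T ⊗[A] B) _
  have hFin : Module.Finite T ((T ⊗[A] B) ⧸ K) := by
    let m : (T ⊗[A] B) →ₐ[T] (T ⊗[A] B) ⧸ K := Ideal.Quotient.mkₐ T K
    let g : B → (T ⊗[A] B) ⧸ K := fun b => m (1 ⊗ₜ b)
    have hint : ∀ b ∈ gB, IsIntegral T (g b) := fun b hb => by
      refine ⟨(p₀ b).map ψ.toRingHom, (hp₀m b).map _, ?_⟩
      have h := congrArg m (hz (some b) (Finset.mem_insert_of_mem (Finset.mem_image_of_mem _ hb)))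
      simp only [rel, Option.elim_some, map_mul, map_zero] at h
      have h1 : m e₂ = 1 := ((map_one m).symm.trans (Ideal.Quotient.eq.2 (Ideal.mem_span_singleton_self _))).symm
      rw [h1, mul_one] at h
      have h' := Polynomial.hom_eval₂ (p₀ b) (algebraMap S₀ (S₀ ⊗[A] B)) (m.toRingHom.comp G.toRingHom) ((1 : S₀) ⊗ₜ[A] b)
      rw [Polynomial.eval₂_map]
      refine Eq.trans ?_ h
      refine Eq.trans ?_ h'.symm
      congr 1
      simp [G, g]
    have hadj : Algebra.adjoin T ((gB.image g : Finset _) : Set ((T ⊗[A] B) ⧸ K)) = ⊤ := by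
      refine Algebra.eq_top_iff.2 fun x => ?_
      obtain ⟨x, rfl⟩ := Ideal.Quotient.mk_surjective x
      induction x using TensorProduct.induction_on with
      | zero => simp
      | add a b ha hb => rw [map_add]; exact add_mem ha hb
      | tmul t b =>
        have hb : m (1 ⊗ₜ b) ∈ Algebra.adjoin T ((gB.image g : Finset _) : Set ((T ⊗[A] B) ⧸ K)) := by
          have hbm : b ∈ Algebra.adjoin A (gB : Set B) := hgB ▸ Algebra.mem_top
          induction hbm using Algebra.adjoin_induction with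
          | mem c hc => exact Algebra.subset_adjoin (Finset.mem_image_of_mem g hc)
          | algebraMap a =>
            rw [show (1 : T) ⊗ₜ[A] algebraMap A B a = algebraMap T (T ⊗[A] B) (algebraMap A T a) by
              simp [Algebra.TensorProduct.algebraMap_apply, Algebra.algebraMap_eq_smul_one, smul_tmul, Algebra.TensorProduct.one_def], m.commutes]
            exact Subalgebra.algebraMap_mem _ _
          | add c d _ _ hc hd => rw [tmul_add, map_add]; exact add_mem hc hd
          | mul c d _ _ hc hd =>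
            rw [show (1 : T) ⊗ₜ[A] (c * d) = (1 ⊗ₜ c) * (1 ⊗ₜ d) by simp, map_mul]
            exact mul_mem hc hd
        rw [show t ⊗ₜ[A] b = t • ((1 : T) ⊗ₜ[A] b) by rw [smul_tmul', smul_eq_mul, mul_one]]
        exact Subalgebra.smul_mem _ hb t
    refine ⟨?_⟩
    rw [← Algebra.top_toSubmodule, ← hadj]
    exact fg_adjoin_of_finite (Finset.finite_toSet _) fun x hx => by
      obtain ⟨b, hb, rfl⟩ := Finset.mem_image.1 hx
      exact hint b hb
  have hK : K ≤ I.map (algebraMap A (T ⊗[A] B)) :=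
    (Ideal.span_singleton_le_iff_mem _).2 (by simpa using neg_mem he₂1)
  have hmapK : I.map (algebraMap A ((T ⊗[A] B) ⧸ K)) = (I.map (algebraMap A (T ⊗[A] B))).map (Ideal.Quotient.mk K) := by
    rw [Ideal.map_map]
    rfl
  refine ⟨T, inferInstance, inferInstance, inferInstance, (T ⊗[A] B) ⧸ K, inferInstance, inferInstance, inferInstance,
    inferInstance, inferInstance, inferInstance, ?_, ?_, hEt, hFin, ?_, ?_⟩
  · intro x
    obtain ⟨a, ha⟩ := hbij.2 x
    obtain ⟨a, rfl⟩ := Ideal.Quotient.mk_surjective a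
    exact ⟨a, ha⟩
  · ext a
    rw [RingHom.mem_ker, RingHom.comp_apply, ← Ideal.quotientMap_mk (H := Ideal.le_comap_map),
      map_eq_zero_iff _ hbij.1, Ideal.Quotient.eq_zero_iff_mem]
  · intro x
    obtain ⟨x, rfl⟩ := Ideal.Quotient.mk_surjective x
    obtain ⟨x, rfl⟩ := Ideal.Quotient.mk_surjective x
    induction x using TensorProduct.induction_on with
    | zero => exact ⟨0, by simp⟩
    | add a b ha hb =>
      obtain ⟨u, hu⟩ := ha
      obtain ⟨v, hv⟩ := hb
      exact ⟨u + v, by rw [map_add, hu, hv, map_add, map_add]⟩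
    | tmul t b =>
      obtain ⟨a, ha⟩ := hbij.2 (Ideal.Quotient.mk _ t)
      obtain ⟨a, rfl⟩ := Ideal.Quotient.mk_surjective a
      rw [Ideal.quotientMap_mk, Ideal.Quotient.eq] at ha
      refine ⟨a • b, ?_⟩
      rw [RingHom.comp_apply, Ideal.Quotient.eq, hmapK]
      show Ideal.Quotient.mk K ((1 : T) ⊗ₜ[A] (a • b)) - Ideal.Quotient.mk K (t ⊗ₜ b) ∈ _
      rw [← map_sub]
      refine Ideal.mem_map_of_mem _ ?_
      have h' := Ideal.mem_map_of_mem (algebraMap T (T ⊗[A] B)) ha
      rw [Ideal.map_map, ← IsScalarTower.algebraMap_eq] at h'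
      have e : (1 : T) ⊗ₜ[A] (a • b) - t ⊗ₜ b = algebraMap T (T ⊗[A] B) (algebraMap A T a - t) * (1 ⊗ₜ b) := by
        show _ = ((algebraMap A T a - t) ⊗ₜ[A] (1 : B)) * ((1 : T) ⊗ₜ[A] b)
        rw [Algebra.TensorProduct.tmul_mul_tmul, mul_one, one_mul, sub_tmul, Algebra.algebraMap_eq_smul_one, smul_tmul]
      rw [e]
      exact Ideal.mul_mem_right _ _ h'
  · ext b
    rw [RingHom.mem_ker, RingHom.comp_apply, Ideal.Quotient.eq_zero_iff_mem]
    constructor
    · intro hb
      let q : (A ⧸ I) →ₐ[A] B ⧸ I.map (algebraMap A B) := Ideal.Quotient.liftₐ I (Algebra.ofId A _) fun a ha => by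
        rw [Algebra.ofId_apply, IsScalarTower.algebraMap_apply A B (B ⧸ _), Ideal.Quotient.algebraMap_eq,
          Ideal.Quotient.eq_zero_iff_mem]
        exact Ideal.mem_map_of_mem _ ha
      let r : T ⊗[A] B →ₐ[A] B ⧸ I.map (algebraMap A B) :=
        Algebra.TensorProduct.lift (q.comp (π.comp φT)) (Ideal.Quotient.mkₐ A _) fun _ _ => Commute.all _ _
      have hle : I.map (algebraMap A (T ⊗[A] B)) ≤ RingHom.ker r := Ideal.map_le_iff_le_comap.2 fun a ha => by
        rw [Ideal.mem_comap, RingHom.mem_ker, r.commutes, IsScalarTower.algebraMap_apply A B (B ⧸ _),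
          Ideal.Quotient.algebraMap_eq, Ideal.Quotient.eq_zero_iff_mem]
        exact Ideal.mem_map_of_mem _ ha
      rw [hmapK] at hb
      have hb' : (1 : T) ⊗ₜ[A] b ∈ I.map (algebraMap A (T ⊗[A] B)) ⊔ K := by
        have h1 : Ideal.Quotient.mk K ((1 : T) ⊗ₜ[A] b) ∈ (I.map (algebraMap A (T ⊗[A] B))).map (Ideal.Quotient.mk K) := hb
        rw [← Ideal.mem_comap, Ideal.comap_map_of_surjective _ Ideal.Quotient.mk_surjective, ← RingHom.ker_eq_comap_bot,
          Ideal.mk_ker] at h1
        exact h1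
      rw [sup_eq_left.2 hK] at hb'
      have h2 : r ((1 : T) ⊗ₜ[A] b) = 0 := hle hb'
      simp [r, Ideal.Quotient.eq_zero_iff_mem] at h2
      exact h2
    · intro hb
      have := Ideal.mem_map_of_mem (algebraMap B ((T ⊗[A] B) ⧸ K)) hb
      rwa [Ideal.map_map, ← IsScalarTower.algebraMap_eq] at this

end Groth.Agent.S17976
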