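import Groth.Statements.S1798
import Groth.Agent.H4KillPow.Sheaf
import Groth.Prelude.Def_Canon
import Groth.Agent.H10Coh.FinH

set_option autoImplicit false
set_option linter.style.haveILetI false
universe u
open CategoryTheory CategoryTheory.Limits AlgebraicGeometry Opposite TopologicalSpace
open scoped ZeroObject

namespace Groth.Agent.S1798

variable {A : Type u} [CommRing A] {X : Scheme.{u}} [X.Over (Spec (CommRingCat.of A))]

theorem HHlin_comp_apply {F G H : X.Modules} (φ : F ⟶ G) (ψ : G ⟶ H) (p : ℕ) (x : Coh.HH X F p) :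
    Canon.HHlin A (φ ≫ ψ) p x = Canon.HHlin A ψ p (Canon.HHlin A φ p x) := by
  exact (congrArg (fun t => Sheaf.H.map t p x)
    ((SheafOfModules.toSheaf X.ringCatSheaf).map_comp φ ψ)).trans (Sheaf.H.map_comp_apply _ _ x)

theorem HHlin_add_apply {F G : X.Modules} (φ ψ : F ⟶ G) (p : ℕ) (x : Coh.HH X F p) :
    Canon.HHlin A (φ + ψ) p x = Canon.HHlin A φ p x + Canon.HHlin A ψ p x := by
  exact (congrArg (fun t => Sheaf.H.map t p x)
    ((SheafOfModules.toSheaf X.ringCatSheaf).map_add (f := φ) (g := ψ))).trans (Sheaf.H.map_add_apply _ _ x)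

theorem HHlin_sum_apply {F G : X.Modules} {ι : Type} (s : Finset ι) (φ : ι → (F ⟶ G)) (p : ℕ)
    (x : Coh.HH X F p) :
    Canon.HHlin A (∑ i ∈ s, φ i) p x = ∑ i ∈ s, Canon.HHlin A (φ i) p x :=
  map_sum (AddMonoidHom.mk' (fun ψ : F ⟶ G => Canon.HHlin A ψ p x)
    fun ψ χ => HHlin_add_apply ψ χ p x) φ s

/-- A morphism which is multiplication by `a` on sections acts as `a` on cohomology. -/
theorem HHlin_eq_smul {F : X.Modules} (φ : F ⟶ F) (a : A)
    (h : ∀ (V : X.Opens) (m : Γ(F, V)), φ.app V m =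
      TwSh.resTop X V (Coh.toGlobal (X ↘ Spec (CommRingCat.of A)) a) • m)
    (p : ℕ) (x : Coh.HH X F p) : Canon.HHlin A φ p x = a • x := by
  change Sheaf.H.map ((SheafOfModules.toSheaf X.ringCatSheaf).map φ) p x =
    Sheaf.H.map (Coh.smulAb F (Coh.toGlobal (X ↘ Spec (CommRingCat.of A)) a)) p x
  congr 2
  ext V m
  exact h V.unop m

/-- The scalar endomorphism, restricted to an open and moved along an isomorphism. -/
theorem restrict_scalarEnd_app (G : (Spec (CommRingCat.of A)).Modules) (U : (Spec (CommRingCat.of A)).Opens)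
    (F : (U : Scheme.{u}).Modules) (e : G.restrict U.ι ≅ F) (a : A) (V : (U : Scheme.{u}).Opens) (m : Γ(F, V)) :
    (e.inv ≫ (Scheme.Modules.restrictFunctor U.ι).map
        (TwSh.scalarEnd G ((Scheme.ΓSpecIso (CommRingCat.of A)).inv a)) ≫ e.hom).app V m =
      TwSh.resTop (U : Scheme.{u}) V
        (Coh.toGlobal ((U : Scheme.{u}) ↘ Spec (CommRingCat.of A)) a) • m := by
  have h1 : ∀ t : Γ(G.restrict U.ι, V), ((Scheme.Modules.restrictFunctor U.ι).map
      (TwSh.scalarEnd G ((Scheme.ΓSpecIso (CommRingCat.of A)).inv a))).app V t =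
        TwSh.resTop (U : Scheme.{u}) V
          (Coh.toGlobal ((U : Scheme.{u}) ↘ Spec (CommRingCat.of A)) a) • t := by
    intro t
    rw [Scheme.Opens.over_def]
    refine (ConcreteCategory.bijective_of_isIso (G.restrictAppIso U.ι V).hom).1 ?_
    rw [Scheme.Modules.smul_restrictAppIso_hom_apply]
    show TwSh.resTop (Spec (CommRingCat.of A)) (U.ι ''ᵁ V) _ • (G.restrictAppIso U.ι V).hom t = _
    congr 1
    rw [Scheme.Opens.ι_appIso]
    let P := (Spec (CommRingCat.of A)).presheaf
    show (P.map (homOfLE (le_top : U.ι ''ᵁ V ≤ ⊤)).op).hom _ =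
      ((P.map (homOfLE (le_top : U.ι ''ᵁ ⊤ ≤ ⊤)).op ≫
        P.map (homOfLE (U.ι.image_mono (le_top : V ≤ ⊤))).op)).hom _
    rw [← Functor.map_comp]
    rfl
  rw [Scheme.Modules.Hom.comp_app, Scheme.Modules.Hom.comp_app, ConcreteCategory.comp_apply,
    ConcreteCategory.comp_apply, h1, Scheme.Modules.Hom.app_smul]
  congr 1
  rw [← ConcreteCategory.comp_apply, ← Scheme.Modules.Hom.comp_app, e.inv_hom_id]
  rfl

/-- Let A be a ring, J ⊆ I finitely generated ideals, U the open complement of V(I) in Spec A and p ≥ 0.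
If some power of J kills H^p(U, O_U), then for each finite locally free O_U-module F some power of J
kills H^p(U, F). -/
theorem result (A : Type u) [CommRing A] (J I : Ideal A) (hJI : J ≤ I) (hJ : J.FG) (hI : I.FG) (p n : ℕ) (hO : ∀ a ∈ J ^ n, ∀ x : Coh.HH (↑(LocCoh.puncturedOpen A I)) (Coh.structureModule (↑(LocCoh.puncturedOpen A I))) p, a • x = 0) (F : (↑(LocCoh.puncturedOpen A I) : Scheme.{u}).Modules) (hF : FlatMod.IsFinLocFree F) : ∃ m : ℕ, ∀ a ∈ J ^ m, ∀ x : Coh.HH (↑(LocCoh.puncturedOpen A I)) F p, a • x = 0 := by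
  revert hO F hF
  generalize hU' : LocCoh.puncturedOpen A I = U
  intro hO F hF
  have hU : IsCompact (U : Set (Spec (CommRingCat.of A))) := by
    rw [← hU']
    exact (PrimeSpectrum.isCompact_isOpen_iff_ideal.2 ⟨I, hI, rfl⟩).1
  obtain ⟨G, -, e, hG, -⟩ := Groth.Agent.S2115.result (Spec (CommRingCat.of A)) 0
    (H10Coh.isQuasicoherent_zero _ (isZero_zero _)) U hU F
    (H8Props.FinLocFree.isFP_of_isFinLocFree F hF) 0
  let uU : (Scheme.Modules.restrictFunctor U.ι).obj (Coh.structureModule (Spec (CommRingCat.of A))) ≅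
      Coh.structureModule (U : Scheme.{u}) := Scheme.Modules.restrictUnitIso U.ι
  let K : Ideal A :=
    { carrier := {c | ∀ a ∈ J ^ n, ∀ x : Coh.HH (↑U) F p, (c * a) • x = 0}
      add_mem' := fun {c d} hc hd a ha x => by rw [add_mul, add_smul, hc a ha x, hd a ha x, add_zero]
      zero_mem' := fun a _ x => by rw [zero_mul, zero_smul]
      smul_mem' := fun r c hc a ha x => by
        rw [smul_eq_mul, mul_assoc, mul_smul, hc a ha x, smul_zero] }
  have hK : I ≤ K.radical := by
    intro f hf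
    have hfU : PrimeSpectrum.basicOpen f ≤ U := by
      rw [← hU']
      intro q hq hq'
      exact hq (hq' hf)
    obtain ⟨N, m, a, b, hab⟩ := H4KillPow.exists_split_scalarEnd (R := CommRingCat.of A) G hG U F e hF f hfU
    refine ⟨m, fun c hc x => ?_⟩
    let φ : F ⟶ F := e.inv ≫ (Scheme.Modules.restrictFunctor U.ι).map
      (TwSh.scalarEnd G ((Scheme.ΓSpecIso (CommRingCat.of A)).inv (f ^ m))) ≫ e.hom
    have hφ : φ = ∑ i, (e.inv ≫ (Scheme.Modules.restrictFunctor U.ι).map (a i) ≫ uU.hom) ≫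
        (uU.inv ≫ (Scheme.Modules.restrictFunctor U.ι).map (b i) ≫ e.hom) := by
      simp only [φ, ← hab, Functor.map_sum, Preadditive.sum_comp, Preadditive.comp_sum, Functor.map_comp,
        Category.assoc]
      exact Finset.sum_congr rfl fun i _ => by erw [uU.hom_inv_id_assoc]
    rw [mul_comm, mul_smul,
      ← HHlin_eq_smul φ (f ^ m) (restrict_scalarEnd_app G U F e (f ^ m)) p x, hφ, HHlin_sum_apply,
      Finset.smul_sum]
    refine Finset.sum_eq_zero fun i _ => ?_
    exact (congrArg (c • ·) (HHlin_comp_apply _ _ p x)).trans (((Canon.HHlin A _ p).map_smul c _).symm.trans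
      ((congrArg _ (hO c hc _)).trans (map_zero _)))
  obtain ⟨M, hM⟩ := Ideal.exists_pow_le_of_le_radical_of_fg hK hI
  refine ⟨M + n, fun a ha x => ?_⟩
  rw [pow_add] at ha
  refine Submodule.mul_induction_on ha (fun c hc d hd => ?_) fun c d hc hd => by rw [add_smul, hc, hd, add_zero]
  exact hM (Ideal.pow_right_mono hJI M hc) d hd x

end Groth.Agent.S1798
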