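import Groth.Statements.S17980
import Groth.Agent.H9Hens.Pair
-- import your own Groth.Agent.* helpers here

set_option autoImplicit false
universe u
open Hensel

namespace Groth.Agent.S17980

/-- Let A be a local ring with residue field k, and let Q R = U V be two factorizations of one
polynomial over A with Q and U monic, such that Q and U have the same image in k[T], R and V have
the same image in k[T], and the images of Q and R in k[T] generate the unit ideal. Then Q = U and R
= V. -/
theorem result (A : Type u) [CommRing A] [IsLocalRing A]
    (Q R U V : Polynomial A) (hQ : Q.Monic) (hU : U.Monic)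
    (hQU : Polynomial.map (IsLocalRing.residue A) Q = Polynomial.map (IsLocalRing.residue A) U)
    (hRV : Polynomial.map (IsLocalRing.residue A) R = Polynomial.map (IsLocalRing.residue A) V)
    (hcop : IsCoprime (Polynomial.map (IsLocalRing.residue A) Q) (Polynomial.map (IsLocalRing.residue A) R))
    (h : Q * R = U * V) : Q = U ∧ R = V := by
  have hQV : IsCoprime Q V := H9Hens.isCoprime_of_map (I := IsLocalRing.maximalIdeal A)
    (IsLocalRing.maximalIdeal_le_jacobson _) hQ (by
      show IsCoprime (Q.map (IsLocalRing.residue A)) (V.map (IsLocalRing.residue A))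
      rw [← hRV]; exact hcop)
  have hdvd : Q ∣ U := hQV.dvd_of_dvd_mul_right ⟨R, h.symm⟩
  have hdeg : Q.natDegree = U.natDegree := by
    rw [← hQ.natDegree_map (IsLocalRing.residue A), hQU, hU.natDegree_map]
  have hQUeq : Q = U := (Polynomial.eq_of_monic_of_dvd_of_natDegree_le hQ hU hdvd hdeg.ge).symm
  subst hQUeq
  exact ⟨rfl, hQ.isRegular.left h⟩

end Groth.Agent.S17980
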