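import Groth.Statements.S17983
import Mathlib

set_option autoImplicit false
universe u
open WeilNum

namespace Groth.Agent.S17983

/-- Let p be a prime number, e ≥ 1 and q = p^e. Let π be an element of a field of characteristic zero
which is integral over ℤ, with minimal polynomial P over ℤ, and assume that every complex root of P
has absolute value √q and that no complex root of P is real (π is a nonreal Weil q-number). Then the
degree of P is even, say 2d, and writing a_j for the coefficient of x^j in P one has a_{d−r} = q^r ·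
a_{d+r} for every 0 ≤ r ≤ d. -/
theorem result (p e : ℕ) [Fact p.Prime] (he : 0 < e)
    (K : Type u) [Field K] [CharZero K] (π : K) (hπ : IsIntegral ℤ π)
    (hweil : ∀ z ∈ (minpoly ℤ π).aroots ℂ, ‖z‖ = Real.sqrt ((p : ℝ) ^ e))
    (hnr : ∀ z ∈ (minpoly ℤ π).aroots ℂ, z.im ≠ 0) :
    Even (minpoly ℤ π).natDegree ∧
      ∀ r ≤ (minpoly ℤ π).natDegree / 2,
        (minpoly ℤ π).coeff ((minpoly ℤ π).natDegree / 2 - r) =
          (p : ℤ) ^ (e * r) * (minpoly ℤ π).coeff ((minpoly ℤ π).natDegree / 2 + r) := by
  classical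
  set P := minpoly ℤ π with hP
  set q : ℝ := (p : ℝ) ^ e
  have hq : 0 < q := pow_pos (Nat.cast_pos.mpr (Fact.out : p.Prime).pos) e
  have hmon : P.Monic := minpoly.monic hπ
  set PC := P.map (algebraMap ℤ ℂ) with hPC
  have hPCm : PC.Monic := hmon.map _
  set R := P.aroots ℂ with hR
  have hsplit : PC.Splits := IsAlgClosed.splits PC
  have hD : R.card = P.natDegree := by
    rw [hR, Polynomial.aroots_def, ← hPC, ← hsplit.natDegree_eq_card_roots, hPC,
      Polynomial.natDegree_map_eq_of_injective (algebraMap ℤ ℂ).injective_int]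
  have hprod : PC = (R.map fun z => Polynomial.X - Polynomial.C z).prod :=
    hsplit.eq_prod_roots_of_monic hPCm
  have hconj : R.map (starRingEnd ℂ) = R := by
    rw [hR, Polynomial.aroots_def, ← hPC, ← hsplit.roots_map (starRingEnd ℂ), hPC,
      Polynomial.map_map, RingHom.ext_int ((starRingEnd ℂ).comp (algebraMap ℤ ℂ)) (algebraMap ℤ ℂ)]
  set U := R.filter (fun z => 0 < z.im) with hU
  have hsum : R = U + U.map (starRingEnd ℂ) := by
    have h2 : U.map (starRingEnd ℂ) = R.filter (fun z => ¬ 0 < z.im) := by
      conv_rhs => rw [← hconj]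
      rw [Multiset.filter_map]
      congr 1
      refine Multiset.filter_congr fun z hz => ?_
      have := hnr z hz
      simp only [Function.comp_apply, Complex.conj_im, not_lt, neg_nonpos]
      exact ⟨le_of_lt, fun h => lt_of_le_of_ne h (Ne.symm this)⟩
    rw [h2, Multiset.filter_add_not]
  have hcard : P.natDegree = 2 * U.card := by
    rw [← hD, hsum, Multiset.card_add, Multiset.card_map, two_mul]
  have hzz : ∀ z ∈ R, (starRingEnd ℂ) z * z = (q : ℂ) := fun z hz => by
    rw [mul_comm, Complex.mul_conj, Complex.normSq_eq_norm_sq, hweil z hz, Real.sq_sqrt hq.le]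
  have hRne : ∀ z ∈ R, z ≠ 0 := fun z hz h0 => hnr z hz (by simp [h0])
  set d := U.card
  have hprodR : R.prod = (q : ℂ) ^ d := by
    have h4 : U.prod * (U.map (starRingEnd ℂ)).prod =
        (U.map fun z => z * (starRingEnd ℂ) z).prod := by
      rw [Multiset.prod_map_mul, Multiset.map_id']
    have h3 : U.map (fun z => z * (starRingEnd ℂ) z) = U.map (fun _ => (q : ℂ)) :=
      Multiset.map_congr rfl fun z hz => by
        rw [mul_comm]
        exact hzz z (Multiset.mem_of_mem_filter hz)
    rw [hsum, Multiset.prod_add, h4, h3, Multiset.map_const', Multiset.prod_replicate]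
  -- the functional equation
  let Q : Polynomial ℂ := ∑ j ∈ Finset.range (2 * d + 1),
    Polynomial.C ((P.coeff (2 * d - j) : ℂ) * (q : ℂ) ^ (2 * d - j)) * Polynomial.X ^ j
  have hev : ∀ x : ℂ, x ≠ 0 → Q.eval x = (Polynomial.C ((q : ℂ) ^ d) * PC).eval x := by
    intro x hx
    have h1 : Q.eval x = x ^ (2 * d) * PC.eval ((q : ℂ) / x) := by
      rw [Polynomial.eval_eq_sum_range' (p := PC) (n := 2 * d + 1) (by
        rw [hPC, Polynomial.natDegree_map_eq_of_injective (algebraMap ℤ ℂ).injective_int, hcard]
        exact Nat.lt_succ_self _), Finset.mul_sum, ← Finset.sum_range_reflect]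
      simp only [Q, Polynomial.eval_finset_sum, Polynomial.eval_mul, Polynomial.eval_C,
        Polynomial.eval_pow, Polynomial.eval_X, hPC, Polynomial.coeff_map]
      refine Finset.sum_congr rfl fun j hj => ?_
      rw [Finset.mem_range] at hj
      rw [show 2 * d + 1 - 1 - j = 2 * d - j by omega, div_pow,
        show x ^ (2 * d) = x ^ j * x ^ (2 * d - j) by rw [← pow_add]; congr 1; omega]
      simp only [eq_intCast]
      field_simp
    rw [h1, ← hcard, ← hD, Polynomial.eval_mul, Polynomial.eval_C, hprod,
      Polynomial.eval_multiset_prod, Multiset.map_map, Polynomial.eval_multiset_prod,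
      Multiset.map_map]
    have h2 : (R.map fun z => x * ((q : ℂ) / x - z)) = R.map fun z => -z * (x - (starRingEnd ℂ) z) :=
      Multiset.map_congr rfl fun z hz => by
        rw [mul_sub, mul_div_cancel₀ _ hx, ← hzz z hz]
        ring
    have h3 := congrArg Multiset.prod h2
    rw [Multiset.prod_map_mul, Multiset.map_const', Multiset.prod_replicate,
      Multiset.prod_map_mul, Multiset.prod_map_neg, hprodR] at h3
    simp only [Function.comp_def, Polynomial.eval_sub, Polynomial.eval_X, Polynomial.eval_C]
    rw [h3, hD, hcard, Even.neg_one_pow (even_two_mul d), one_mul]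
    congr 2
    conv_rhs => rw [← hconj, Multiset.map_map]
    rfl
  have hQ : Q = Polynomial.C ((q : ℂ) ^ d) * PC :=
    Polynomial.eq_of_infinite_eval_eq _ _ <| (Set.finite_singleton (0 : ℂ)).infinite_compl.mono
      fun x hx => hev x hx
  refine ⟨⟨d, by omega⟩, fun r hr => ?_⟩
  rw [hcard, Nat.mul_div_cancel_left d two_pos] at hr ⊢
  have hc := congrArg (fun f => Polynomial.coeff f (d + r)) hQ
  simp only [Q, Polynomial.finset_sum_coeff, Polynomial.coeff_C_mul, Polynomial.coeff_X_pow, hPC,
    Polynomial.coeff_map, mul_ite, mul_one, mul_zero] at hc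
  rw [Finset.sum_ite_eq, if_pos (by simp; omega), show 2 * d - (d + r) = d - r by omega] at hc
  have hq' : (q : ℂ) ≠ 0 := by exact_mod_cast hq.ne'
  have h5 : ((P.coeff (d - r) : ℤ) : ℂ) = (q : ℂ) ^ r * (P.coeff (d + r) : ℂ) := by
    rw [show (q : ℂ) ^ d = (q : ℂ) ^ r * (q : ℂ) ^ (d - r) by rw [← pow_add]; congr 1; omega] at hc
    refine mul_right_cancel₀ (pow_ne_zero (d - r) hq') ?_
    rw [eq_intCast] at hc
    linear_combination hc
  have h6 : (q : ℂ) ^ r = (((p : ℤ) ^ (e * r) : ℤ) : ℂ) := by
    simp [q, pow_mul]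
  rw [h6, ← Int.cast_mul] at h5
  exact_mod_cast h5

end Groth.Agent.S17983
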