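import Groth.Statements.S17985
import Groth.Agent.H23WeilN.Gor

set_option autoImplicit false
universe u
open MvPolynomial
open WeilNum

namespace Groth.Agent.S17985

/-- Let p be a prime, e ≥ 1 and q = p^e. Let (π_i) be a nonempty finite family of pairwise nonconjugate
Weil q-numbers: π_i is an element of a field K_i of characteristic zero, integral over ℤ with
minimal polynomial P_i, every complex root of P_i has absolute value √q, and P_i ≠ P_j for i ≠ j.
Suppose the total degree Σ_i deg P_i is even, equal to 2D. Let R_w be the minimal central order, the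
image of ℤ[F, V] → ∏_i K_i, F ↦ (π_i), V ↦ (q/π_i). Then R_w is free of rank 2D as a ℤ-module, has
Krull dimension 1, and is a Gorenstein ring (Noetherian, with all localizations at primes of finite
injective dimension over themselves). -/
theorem result (p e : ℕ) [Fact p.Prime] (he : 0 < e)
    (ι : Type) [Fintype ι] (K : ι → Type u) [∀ i, Field (K i)] [∀ i, CharZero (K i)] (π : ∀ i, K i)
    (hint : ∀ i, IsIntegral ℤ (π i))
    (hweil : ∀ i, ∀ z ∈ (minpoly ℤ (π i)).aroots ℂ, ‖z‖ = Real.sqrt ((p : ℝ) ^ e))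
    (hinj : ∀ i j, minpoly ℤ (π i) = minpoly ℤ (π j) → i = j)
    [Nonempty ι] (D : ℕ) (hD : ∑ i, (minpoly ℤ (π i)).natDegree = 2 * D) :
    Module.Free ℤ (MvPolynomial.aeval ![fun i => π i, fun i => ((p : K i) ^ e) / π i] :
        MvPolynomial (Fin 2) ℤ →ₐ[ℤ] ((i : ι) → K i)).range ∧
      Module.finrank ℤ (MvPolynomial.aeval ![fun i => π i, fun i => ((p : K i) ^ e) / π i] :
        MvPolynomial (Fin 2) ℤ →ₐ[ℤ] ((i : ι) → K i)).range = 2 * D ∧
      ringKrullDim (MvPolynomial.aeval ![fun i => π i, fun i => ((p : K i) ^ e) / π i] :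
        MvPolynomial (Fin 2) ℤ →ₐ[ℤ] ((i : ι) → K i)).range = 1 ∧
      LocCoh.IsGorensteinRing (MvPolynomial.aeval ![fun i => π i, fun i => ((p : K i) ^ e) / π i] :
        MvPolynomial (Fin 2) ℤ →ₐ[ℤ] ((i : ι) → K i)).range := by
  obtain ⟨ε, hs, hker, hfree, hrank⟩ := Groth.Agent.H23WeilN.family_main hint hweil hinj hD
  have hq : ((p : ℤ) ^ e) ≠ 0 := pow_ne_zero _ (Int.natCast_ne_zero.mpr (Fact.out : p.Prime).ne_zero)
  refine ⟨hfree, hrank, ?_, Groth.Agent.H23WeilN.isGorensteinRing_range _ fun P _ _ =>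
    ⟨[Groth.Agent.H23WeilN.relq ((p : ℤ) ^ e), Groth.Agent.H23WeilN.symPoly (∏ i, minpoly ℤ (π i)) D ε],
      Groth.Agent.H23WeilN.regular_pair hq (Groth.Agent.H23WeilN.ne_zero_of_pow_mul_sub_mem hq hs.monic.ne_zero
        (Groth.Agent.H23WeilN.pow_mul_symPoly_sub_mem hs)), 1, fun h => ?_, fun r hr => ?_, fun a ha => ?_⟩⟩
  · haveI := hfree
    haveI : Nonempty ι := inferInstance
    haveI : CharZero ((i : ι) → K i) := ⟨fun a b h => Nat.cast_injective (R := K (Classical.arbitrary ι))
      (congrFun h (Classical.arbitrary ι))⟩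
    haveI : Nontrivial ((i : ι) → K i) := (Nat.cast_injective (R := ((i : ι) → K i))).nontrivial
    have hpos : 0 < 2 * D := by
      rw [← hD]
      exact lt_of_lt_of_le (minpoly.natDegree_pos (hint (Classical.arbitrary ι)))
        (Finset.single_le_sum (f := fun i => (minpoly ℤ (π i)).natDegree) (fun i _ => Nat.zero_le _) (Finset.mem_univ _))
    have hfin := Module.finite_of_finrank_pos (lt_of_lt_of_eq hpos hrank.symm)
    exact @Groth.Agent.H23WeilN.ringKrullDim_range _ _ _ _ _ hfin
  · exact Ideal.IsPrime.ne_top inferInstance ((Ideal.eq_top_iff_one _).mpr h)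
  · rw [one_mul]
    exact hker.ge ((Groth.Agent.H23WeilN.ofList_pair _ _).le (Ideal.subset_span hr))
  · rw [one_mul, Groth.Agent.H23WeilN.ofList_pair]
    exact hker.le ha

end Groth.Agent.S17985
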