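import Groth.Statements.S17986
import Groth.Agent.H23WeilN.Twist
import Groth.Agent.S17983

set_option autoImplicit false
universe u
open MvPolynomial
open scoped Classical
open WeilNum

namespace Groth.Agent.S17986

/-- Let p be a prime, e ≥ 1, and assume q = p^e = s² for an integer s (of either sign; s is then a
rational Weil q-number). Let (π_i) be a finite family of pairwise nonconjugate nonrational Weil
q-numbers: π_i lies in a field K_i of characteristic zero, is integral over ℤ with minimal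
polynomial P_i of degree different from 1, every complex root of P_i has absolute value √q, and P_i
≠ P_j for i ≠ j (since q is a square these π_i are nonreal, so Σ_i deg P_i = 2D is even). Put P_v =
∏_i P_i and let h ∈ ℤ[F, V] (F = X_0, V = X_1) be any polynomial with F^D · h ≡ P_v(F) modulo FV −
q. Consider the ring map ℤ[F, V] → (∏_i K_i) × ℚ sending F to ((π_i)_i, s) and V to ((q/π_i)_i, s);
its image R_w is the minimal central order of the family enlarged by s. Then: (1) its kernel is the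
ideal generated by FV − q, h · (F − s) and h · (V − s); (2) R_w is a Gorenstein ring if and only if
every π_i is ordinary, meaning that exactly half of the roots of P_i in an algebraic closure of ℚ_p,
counted with multiplicity, are p-adic units. -/
theorem result (p e : ℕ) [Fact p.Prime] (he : 0 < e)
    (s : ℤ) (hs : s ^ 2 = (p : ℤ) ^ e)
    (ι : Type) [Fintype ι] (K : ι → Type u) [∀ i, Field (K i)] [∀ i, CharZero (K i)] (π : ∀ i, K i)
    (hint : ∀ i, IsIntegral ℤ (π i)) (hdeg : ∀ i, (minpoly ℤ (π i)).natDegree ≠ 1)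
    (hweil : ∀ i, ∀ z ∈ (minpoly ℤ (π i)).aroots ℂ, ‖z‖ = Real.sqrt ((p : ℝ) ^ e))
    (hinj : ∀ i j, minpoly ℤ (π i) = minpoly ℤ (π j) → i = j)
    (D : ℕ) (hD : ∑ i, (minpoly ℤ (π i)).natDegree = 2 * D)
    (h : MvPolynomial (Fin 2) ℤ)
    (hh : X 0 ^ D * h - Polynomial.aeval (X 0 : MvPolynomial (Fin 2) ℤ) (∏ i, minpoly ℤ (π i)) ∈
      Ideal.span ({X 0 * X 1 - C ((p : ℤ) ^ e)} : Set (MvPolynomial (Fin 2) ℤ))) :
    RingHom.ker (MvPolynomial.aeval ![(⟨fun i => π i, (s : ℚ)⟩ : ((i : ι) → K i) × ℚ), ⟨fun i => ((p : K i) ^ e) / π i, (s : ℚ)⟩] :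
        MvPolynomial (Fin 2) ℤ →ₐ[ℤ] (((i : ι) → K i) × ℚ)) =
        Ideal.span {X 0 * X 1 - C ((p : ℤ) ^ e), h * (X 0 - C s), h * (X 1 - C s)} ∧
      (LocCoh.IsGorensteinRing (MvPolynomial.aeval ![(⟨fun i => π i, (s : ℚ)⟩ : ((i : ι) → K i) × ℚ), ⟨fun i => ((p : K i) ^ e) / π i, (s : ℚ)⟩] :
        MvPolynomial (Fin 2) ℤ →ₐ[ℤ] (((i : ι) → K i) × ℚ)).range ↔
        ∀ i, 2 * Multiset.card (((minpoly ℤ (π i)).aroots (PadicAlgCl p)).filter (fun z => ‖z‖ = 1)) = (minpoly ℤ (π i)).natDegree) := by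
  classical
  have hp := (Fact.out : p.Prime)
  have hq0 : ((p : ℤ) ^ e) ≠ 0 := pow_ne_zero _ (Int.natCast_ne_zero.mpr hp.ne_zero)
  have hps : (p : ℤ) ∣ s := (Nat.prime_iff_prime_int.mp hp).dvd_of_dvd_pow (hs ▸ dvd_pow_self _ he.ne' : (p : ℤ) ∣ s ^ 2)
  set P := ∏ i, minpoly ℤ (π i) with hP
  have hPm : P.Monic := Polynomial.monic_prod_of_monic _ _ fun i _ => minpoly.monic (hint i)
  have hroot : ∀ i (t : ℤ), (minpoly ℤ (π i)).eval t ≠ 0 := fun i t ht => by
    refine hdeg i ?_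
    have hd := Polynomial.dvd_iff_isRoot.mpr ht
    have h1 := Polynomial.eq_of_monic_of_associated (Polynomial.monic_X_sub_C t) (minpoly.monic (hint i))
      ((Polynomial.irreducible_X_sub_C t).associated_of_dvd (minpoly.irreducible (hint i)) hd)
    rw [← h1, Polynomial.natDegree_X_sub_C]
  have hnr : ∀ i, ∀ z ∈ (minpoly ℤ (π i)).aroots ℂ, z.im ≠ 0 := by
    intro i z hz him
    have hn := hweil i z hz
    rw [← Complex.abs_re_eq_norm.mpr him,
      show ((p : ℝ) ^ e) = (s : ℝ) ^ 2 by exact_mod_cast hs.symm, Real.sqrt_sq_eq_abs] at hn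
    obtain ⟨t, ht⟩ : ∃ t : ℤ, z = (t : ℂ) := by
      rcases abs_eq_abs.mp hn with h1 | h1
      · exact ⟨s, Complex.ext (by simp [h1]) (by simp [him])⟩
      · exact ⟨-s, Complex.ext (by simp [h1]) (by simp [him])⟩
    have h2 := (Polynomial.mem_aroots.mp hz).2
    rw [ht, show (t : ℂ) = algebraMap ℤ ℂ t from (eq_intCast _ _).symm, Polynomial.aeval_algebraMap_apply] at h2
    exact hroot i t (by simpa using h2)
  obtain ⟨ε, hsym, hkv, -⟩ := Groth.Agent.H23WeilN.family_main hint hweil hinj hD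
  have hmid : ∀ i, 2 * Multiset.card (((minpoly ℤ (π i)).aroots (PadicAlgCl p)).filter (fun z => ‖z‖ = 1)) ≤
      (minpoly ℤ (π i)).natDegree := fun i => by
    obtain ⟨⟨d, hd⟩, hsy⟩ := Groth.Agent.S17983.result p e he (K i) (π i) (hint i) (hweil i) (hnr i)
    obtain ⟨m, hm, -, hu⟩ := Groth.Agent.H23WeilN.exists_low p (minpoly.monic (hint i))
    have := Groth.Agent.H23WeilN.half_le (D := d) (ε := 1) he ⟨minpoly.monic (hint i), by omega, one_mul 1,
      fun r hr => by
        have h3 := hsy r (by omega)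
        rw [show (minpoly ℤ (π i)).natDegree / 2 = d by omega, pow_mul] at h3
        rw [one_mul, h3]⟩ hu
    omega
  have hord : (∀ i, 2 * Multiset.card (((minpoly ℤ (π i)).aroots (PadicAlgCl p)).filter (fun z => ‖z‖ = 1)) =
      (minpoly ℤ (π i)).natDegree) ↔ ¬ (p : ℤ) ∣ P.coeff D := by
    obtain ⟨m, hm, hlt, hu⟩ := Groth.Agent.H23WeilN.exists_low p hPm
    have hge := Groth.Agent.H23WeilN.half_le he hsym hu
    have hsum : Multiset.card ((P.aroots (PadicAlgCl p)).filter (fun z => ‖z‖ = 1)) =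
        ∑ i, Multiset.card (((minpoly ℤ (π i)).aroots (PadicAlgCl p)).filter (fun z => ‖z‖ = 1)) := by
      rw [Polynomial.aroots_def, hP, Polynomial.map_prod, Polynomial.roots_prod _ _
        (Finset.prod_ne_zero_iff.mpr fun i _ => ((minpoly.monic (hint i)).map _).ne_zero),
        Multiset.filter_bind, Multiset.card_bind]
      rfl
    rw [hsym.natDegree, hsum] at hm
    rw [show (∀ i, 2 * Multiset.card (((minpoly ℤ (π i)).aroots (PadicAlgCl p)).filter (fun z => ‖z‖ = 1)) =
        (minpoly ℤ (π i)).natDegree) ↔ ∑ i, 2 * Multiset.card (((minpoly ℤ (π i)).aroots (PadicAlgCl p)).filter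
          (fun z => ‖z‖ = 1)) = ∑ i, (minpoly ℤ (π i)).natDegree from
      ⟨fun h => Finset.sum_congr rfl fun i _ => h i, fun h i =>
        (Finset.sum_eq_sum_iff_of_le fun i _ => hmid i).mp h i (Finset.mem_univ i)⟩, ← Finset.mul_sum, hD]
    constructor
    · intro h1 hd
      exact hu (show (p : ℤ) ∣ P.coeff m from (show m = D by omega) ▸ hd)
    · intro h1
      have : ¬ D < m := fun h2 => h1 (hlt D h2)
      omega
  set φv := (MvPolynomial.aeval ![fun i => π i, fun i => ((p : K i) ^ e) / π i] :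
        MvPolynomial (Fin 2) ℤ →ₐ[ℤ] ((i : ι) → K i))
  set φ := (MvPolynomial.aeval ![(⟨fun i => π i, (s : ℚ)⟩ : ((i : ι) → K i) × ℚ), ⟨fun i => ((p : K i) ^ e) / π i, (s : ℚ)⟩] :
        MvPolynomial (Fin 2) ℤ →ₐ[ℤ] (((i : ι) → K i) × ℚ))
  have hfst : ∀ g, (φ g).1 = φv g := fun g => by
    refine RingHom.congr_fun (f := (RingHom.fst _ _).comp φ.toRingHom) (g := φv.toRingHom)
      (MvPolynomial.ringHom_ext (fun z => by simp) fun i => ?_) g
    fin_cases i <;> simp [φ, φv]
  have hsnd : ∀ g, (φ g).2 = ((MvPolynomial.aeval ![s, s] g : ℤ) : ℚ) := fun g => by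
    refine RingHom.congr_fun (f := (RingHom.snd _ _).comp φ.toRingHom)
      (g := (Int.castRingHom ℚ).comp (MvPolynomial.aeval ![s, s]).toRingHom)
      (MvPolynomial.ringHom_ext (fun z => by simp) fun i => ?_) g
    fin_cases i <;> simp [φ]
  have hne : ∀ g : MvPolynomial (Fin 2) ℤ, MvPolynomial.X 0 ^ D * g - Polynomial.aeval (MvPolynomial.X 0 : MvPolynomial (Fin 2) ℤ) P ∈
      Ideal.span {Groth.Agent.H23WeilN.relq ((p : ℤ) ^ e)} → MvPolynomial.aeval ![s, s] g ≠ 0 := fun g hg h0 => by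
    obtain ⟨c, hc⟩ := Ideal.mem_span_singleton'.mp hg
    have h1 := congrArg (MvPolynomial.aeval ![s, s]) hc
    rw [map_mul, map_sub, map_mul, h0, mul_zero, zero_sub,
      show MvPolynomial.aeval ![s, s] (Groth.Agent.H23WeilN.relq ((p : ℤ) ^ e)) = 0 by
        simp [Groth.Agent.H23WeilN.relq, ← hs, sq], mul_zero, ← Polynomial.aeval_algHom_apply, eq_comm,
      neg_eq_zero] at h1
    simp only [MvPolynomial.aeval_X, Matrix.cons_val_zero, hP, map_prod, Finset.prod_eq_zero_iff] at h1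
    obtain ⟨i, -, hi⟩ := h1
    exact hroot i s (by simpa using hi)
  have hkerg : ∀ g : MvPolynomial (Fin 2) ℤ, MvPolynomial.X 0 ^ D * g - Polynomial.aeval (MvPolynomial.X 0 : MvPolynomial (Fin 2) ℤ) P ∈
      Ideal.span {Groth.Agent.H23WeilN.relq ((p : ℤ) ^ e)} → RingHom.ker φ =
        Ideal.span {Groth.Agent.H23WeilN.relq ((p : ℤ) ^ e), g * (MvPolynomial.X 0 - MvPolynomial.C s),
          g * (MvPolynomial.X 1 - MvPolynomial.C s)} := fun g hg => by
    ext x
    rw [← Groth.Agent.H23WeilN.mem_ker_twist_iff hs.symm (hne g hg),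
      ← Groth.Agent.H23WeilN.relI_eq hsym hq0 hg, RingHom.mem_ker, Prod.ext_iff, hfst, hsnd]
    refine and_congr ⟨fun hx => hkv.le hx, fun hx => hkv.ge hx⟩ ?_
    simp
  refine ⟨hkerg h hh, ?_⟩
  rw [hord]
  have hker := hkerg _ (Groth.Agent.H23WeilN.pow_mul_symPoly_sub_mem hsym)
  have hcD : MvPolynomial.aeval ![(0 : ℤ), 0] (Groth.Agent.H23WeilN.symPoly P D ε) = P.coeff D := by
    rw [Groth.Agent.H23WeilN.aeval_symPoly, Finset.sum_range_succ' _ D]
    simp
  constructor
  · intro hG hd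
    refine Groth.Agent.H23WeilN.not_gorenstein_twist φ (p := p) (fun x hx => ?_) hs.symm hps hsym hker hd hG
    have h1 : ((p : ℕ) : ((i : ι) → K i) × ℚ) * (x : ((i : ι) → K i) × ℚ) = 0 := by
      simpa using congrArg Subtype.val hx
    refine Subtype.ext (Prod.ext (funext fun i => ?_) ?_)
    · have h2 := congrFun (congrArg Prod.fst h1) i
      simpa [hp.ne_zero] using h2
    · have h2 := congrArg Prod.snd h1
      simpa [hp.ne_zero] using h2
  · intro hd
    exact Groth.Agent.H23WeilN.isGorensteinRing_twist φ hs.symm hq0 (fun Q hQ hC => by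
      haveI := hQ
      have h1 : MvPolynomial.C ((p : ℤ) ^ e) ∈ Q := by rw [← hs, map_pow]; exact Ideal.pow_mem_of_mem _ hC 2 two_pos
      rw [map_pow] at h1
      exact hQ.mem_of_pow_mem _ h1)
      (Groth.Agent.H23WeilN.ne_zero_of_pow_mul_sub_mem hq0 hPm.ne_zero
        (Groth.Agent.H23WeilN.pow_mul_symPoly_sub_mem hsym)) hker (by rw [hcD]; exact hd) hp

end Groth.Agent.S17986
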