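import Groth.Statements.S17989
import Groth.Agent.H3CAlg.C2
import Groth.Agent.H3CAlg.GorMCM
import Groth.Agent.H3CAlg.GorOne
import Groth.Agent.S0561

set_option autoImplicit false
universe u
open CategoryTheory
open CAlg

namespace Groth.Agent.S17989

/-- Let S be a Gorenstein ring (a Noetherian ring all of whose localizations at prime ideals have finite
injective dimension as modules over themselves) of Krull dimension 1, and let M be a finitely
generated reflexive S-module (the canonical map M → M** is bijective). Then Ext¹_S(M, S) = 0. -/
theorem result (S : Type u) [CommRing S]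
    [LocCoh.IsGorensteinRing S] (hdim : ringKrullDim S = 1)
    (M : Type u) [AddCommGroup M] [Module S M] [Module.Finite S M] [Module.IsReflexive S M] :
    Subsingleton (Abelian.Ext (ModuleCat.of S M) (ModuleCat.of S S) 1) := by
  classical
  haveI := Groth.Agent.H3CAlg.GorOne.hasInjectiveDimensionLT_two (S := S) hdim.le
  obtain ⟨k, φ, hφ⟩ := Module.Finite.exists_fin (R := S) (M := Module.Dual S M)
  let j : M →ₗ[S] (Fin k → S) := LinearMap.pi φ
  have hj : Function.Injective j := by
    rw [injective_iff_map_eq_zero]
    intro m hm
    refine (Module.IsReflexive.bijective_dual_eval' (R := S) (M := M)).1 ?_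
    rw [map_zero]
    refine LinearMap.ext fun ψ => ?_
    have hψ : ψ ∈ Submodule.span S (Set.range φ) := hφ ▸ Submodule.mem_top
    induction hψ using Submodule.span_induction with
    | mem x hx =>
      obtain ⟨i, rfl⟩ := hx
      exact congrFun hm i
    | zero => simp
    | add x y _ _ hx hy => rw [map_add, map_add, hx, hy]
    | smul c x _ hx => rw [map_smul, map_smul, hx]
  refine subsingleton_of_forall_eq 0 fun x => ?_
  haveI : Projective (ModuleCat.of S (Fin k → S)) := (IsProjective.iff_projective (R := S) (Fin k → S)).mp inferInstance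
  obtain ⟨y, rfl⟩ := Abelian.Ext.contravariant_sequence_exact₁
    (ModuleCat.shortComplex_shortExact (ShortComplex.mk (ModuleCat.ofHom j) (ModuleCat.ofHom (LinearMap.range j).mkQ)
      (ModuleCat.hom_ext (LinearMap.ext fun z => (Submodule.Quotient.mk_eq_zero _).2 ⟨z, rfl⟩)))
      (LinearMap.exact_map_mkQ_range j) hj (LinearMap.range j).mkQ_surjective) _ x (n₁ := 2) rfl
    (Abelian.Ext.eq_zero_of_hasInjectiveDimensionLT _ 2 le_rfl)
  have hy : y = 0 := Abelian.Ext.eq_zero_of_projective (P := ModuleCat.of S (Fin k → S)) y
  subst hy
  simp

end Groth.Agent.S17989
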