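import Groth.Statements.S17993
import Groth.Agent.H25Weilp.MinOrderTate

set_option autoImplicit false
set_option linter.style.haveILetI false
set_option backward.isDefEq.respectTransparency false
set_option synthInstance.maxHeartbeats 200000
universe u
open CategoryTheory MonoidalCategory CartesianMonoidalCategory MonObj GrpObj AlgebraicGeometry MvPolynomial
open AbVar

namespace Groth.Agent.S17993

/-- The ℤ-rank of M_w(A) = Hom(A, A_w) is 2 dim A, in the following setting: let p be a prime and k a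
field with p elements. Let (π_j) be a finite family of pairwise nonconjugate nonreal Weil p-numbers
(π_j in a field K_j of characteristic zero, integral over ℤ with minimal polynomial P_j, all complex
roots of P_j of absolute value √p and none real, P_i ≠ P_j for i ≠ j), P_w = ∏_j P_j, and R_w ⊆ ∏_j
K_j the minimal central order, the image of ℤ[F, V] → ∏_j K_j, F ↦ (π_j), V ↦ (p/π_j). An abelian
variety over k means a proper, geometrically integral commutative group scheme over k, taken with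
its p-Frobenius endomorphism π (the identity on points and the p-th power map on sections; a
homomorphism); it lies in AV_w when P_w(π) = 0 in its endomorphism ring. Let A_w be an abelian
variety over k together with a ring isomorphism ρ : R_w ≅ End(A_w) sending the class of F to the
Frobenius of A_w (so A_w lies in AV_w and its endomorphism ring is the minimal central order);
Hom(X, A_w) is a module over End(A_w) ≅ R_w by postcomposition. Then for every abelian variety A in
AV_w, of dimension g, the group Hom(A, A_w) is a finitely generated free ℤ-module of rank 2g. -/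
theorem result (p : ℕ) [Fact p.Prime] (k : Type u) [Field k] [Finite k] (hk : Nat.card k = p)
    (J : Type) [Fintype J] (K : J → Type) [∀ j, Field (K j)] [∀ j, CharZero (K j)] (ϖ : ∀ j, K j)
    (hint : ∀ j, IsIntegral ℤ (ϖ j))
    (hweil : ∀ j, ∀ z ∈ (minpoly ℤ (ϖ j)).aroots ℂ, ‖z‖ = Real.sqrt p)
    (hnr : ∀ j, ∀ z ∈ (minpoly ℤ (ϖ j)).aroots ℂ, z.im ≠ 0)
    (hinj : ∀ i j, minpoly ℤ (ϖ i) = minpoly ℤ (ϖ j) → i = j)
    (Aw : Over (Spec (CommRingCat.of k))) [GrpObj Aw] [IsCommMonObj Aw] [IsProper Aw.hom] [GeometricallyIntegral Aw.hom]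
    (πw : Aw ⟶ Aw) [IsMonHom πw] (hπwb : πw.left.base = 𝟙 _) (hπwle : ∀ U : Aw.left.Opens, U ≤ πw.left ⁻¹ᵁ U)
    (hπwapp : ∀ (U : Aw.left.Opens) (s : Γ(Aw.left, U)), (πw.left.appLE U U (hπwle U)).hom s = s ^ p)
    (ρw : (MvPolynomial.aeval ![fun j => ϖ j, fun j => (p : K j) / ϖ j] : MvPolynomial (Fin 2) ℤ →ₐ[ℤ] ((j : J) → K j)).range ≃+* EndAV.End Aw)
    (hρw : ρw ⟨(MvPolynomial.aeval ![fun j => ϖ j, fun j => (p : K j) / ϖ j] : MvPolynomial (Fin 2) ℤ →ₐ[ℤ] ((j : J) → K j)) (X 0), AlgHom.mem_range_self _ _⟩ = EndAV.End.of πw)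
    (A : Over (Spec (CommRingCat.of k))) [GrpObj A] [IsCommMonObj A] [IsProper A.hom] [GeometricallyIntegral A.hom]
    (πA : A ⟶ A) [IsMonHom πA] (hπAb : πA.left.base = 𝟙 _) (hπAle : ∀ U : A.left.Opens, U ≤ πA.left ⁻¹ᵁ U)
    (hπAapp : ∀ (U : A.left.Opens) (s : Γ(A.left, U)), (πA.left.appLE U U (hπAle U)).hom s = s ^ p)
    (hPA : Polynomial.aeval (EndAV.End.of πA) (∏ j, minpoly ℤ (ϖ j)) = 0)
    (g : ℕ) (hg : topologicalKrullDim A.left = g) :
    Module.Free ℤ (EndAV.Hom A Aw) ∧ Module.Finite ℤ (EndAV.Hom A Aw) ∧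
      Module.finrank ℤ (EndAV.Hom A Aw) = 2 * g := by
  obtain ⟨l, hlp, hl⟩ := Groth.Agent.H25AbCube.exists_prime_ne_zero k
  haveI : Fact l.Prime := ⟨hlp⟩
  have hFw : Groth.Agent.H25Weilp.IsFrob πw := ⟨hπwb, hπwle, fun U s => by rw [hπwapp U s, hk]⟩
  have hFA : Groth.Agent.H25Weilp.IsFrob πA := ⟨hπAb, hπAle, fun U s => by rw [hπAapp U s, hk]⟩
  obtain ⟨h1, h2⟩ := Groth.Agent.H25Weilp.MinOrder.free_hom (A := A) (B := Aw)
  exact ⟨h1, h2, Groth.Agent.H25Weilp.MinOrder.finrank_hom_eq hint hinj hFw ρw hρw (AlgebraicClosure k) l hl hFA hPA hg⟩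

end Groth.Agent.S17993
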