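import Groth.Statements.S17998
import Groth.Agent.H25Weilp.MinOrderTate

set_option autoImplicit false
set_option linter.style.haveILetI false
set_option backward.isDefEq.respectTransparency false
set_option synthInstance.maxHeartbeats 200000
universe u
open CategoryTheory MonoidalCategory CartesianMonoidalCategory MonObj GrpObj AlgebraicGeometry MvPolynomial
open AbVar

namespace Groth.Agent.S17998

/-- Stated for abelian varieties with Weil support in a fixed finite set w, where the lattice functor is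
M_w = Hom(−, A_w); let p be a prime and k a field with p elements. Let (π_j) be a finite family of
pairwise nonconjugate nonreal Weil p-numbers (π_j in a field K_j of characteristic zero, integral
over ℤ with minimal polynomial P_j, all complex roots of P_j of absolute value √p and none real, P_i
≠ P_j for i ≠ j), P_w = ∏_j P_j, and R_w ⊆ ∏_j K_j the minimal central order, the image of ℤ[F, V] →
∏_j K_j, F ↦ (π_j), V ↦ (p/π_j). An abelian variety over k means a proper, geometrically integral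
commutative group scheme over k, taken with its p-Frobenius endomorphism π (the identity on points
and the p-th power map on sections; a homomorphism); it lies in AV_w when P_w(π) = 0 in its
endomorphism ring. Let A_w be an abelian variety over k together with a ring isomorphism ρ : R_w ≅
End(A_w) sending the class of F to the Frobenius of A_w (so A_w lies in AV_w and its endomorphism
ring is the minimal central order); Hom(X, A_w) is a module over End(A_w) ≅ R_w by postcomposition.
Let Ω be an algebraic closure of k, ℓ a prime number invertible in k, and A in AV_w; let T_ℓ denote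
the ℓ-adic Tate module of Ω-valued points, on which endomorphisms act through the Tate
representation. Then the natural map T_ℓ(A) → Hom_{End(A_w)}(Hom(A, A_w), T_ℓ(A_w)), x ↦ (φ ↦
T_ℓ(φ)(x)), is bijective: two elements of T_ℓ(A) with the same image under T_ℓ(φ) for every
homomorphism φ : A → A_w are equal, and every additive map g : Hom(A, A_w) → T_ℓ(A_w) with g(φ
followed by s) = T_ℓ(s)(g(φ)) for all φ and all endomorphisms s of A_w is of the form φ ↦ T_ℓ(φ)(x)
for some x in T_ℓ(A). -/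
theorem result (p : ℕ) [Fact p.Prime] (k : Type u) [Field k] [Finite k] (hk : Nat.card k = p)
    (J : Type) [Fintype J] (K : J → Type) [∀ j, Field (K j)] [∀ j, CharZero (K j)] (ϖ : ∀ j, K j)
    (hint : ∀ j, IsIntegral ℤ (ϖ j))
    (hweil : ∀ j, ∀ z ∈ (minpoly ℤ (ϖ j)).aroots ℂ, ‖z‖ = Real.sqrt p)
    (hnr : ∀ j, ∀ z ∈ (minpoly ℤ (ϖ j)).aroots ℂ, z.im ≠ 0)
    (hinj : ∀ i j, minpoly ℤ (ϖ i) = minpoly ℤ (ϖ j) → i = j)
    (Aw : Over (Spec (CommRingCat.of k))) [GrpObj Aw] [IsCommMonObj Aw] [IsProper Aw.hom] [GeometricallyIntegral Aw.hom]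
    (πw : Aw ⟶ Aw) [IsMonHom πw] (hπwb : πw.left.base = 𝟙 _) (hπwle : ∀ U : Aw.left.Opens, U ≤ πw.left ⁻¹ᵁ U)
    (hπwapp : ∀ (U : Aw.left.Opens) (s : Γ(Aw.left, U)), (πw.left.appLE U U (hπwle U)).hom s = s ^ p)
    (ρw : (MvPolynomial.aeval ![fun j => ϖ j, fun j => (p : K j) / ϖ j] : MvPolynomial (Fin 2) ℤ →ₐ[ℤ] ((j : J) → K j)).range ≃+* EndAV.End Aw)
    (hρw : ρw ⟨(MvPolynomial.aeval ![fun j => ϖ j, fun j => (p : K j) / ϖ j] : MvPolynomial (Fin 2) ℤ →ₐ[ℤ] ((j : J) → K j)) (X 0), AlgHom.mem_range_self _ _⟩ = EndAV.End.of πw)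
    (Ω : Type u) [Field Ω] [Algebra k Ω] [IsAlgClosure k Ω] (l : ℕ) [Fact l.Prime] (hl : (l : k) ≠ 0)
    (A : Over (Spec (CommRingCat.of k))) [GrpObj A] [IsCommMonObj A] [IsProper A.hom] [GeometricallyIntegral A.hom]
    (πA : A ⟶ A) [IsMonHom πA] (hπAb : πA.left.base = 𝟙 _) (hπAle : ∀ U : A.left.Opens, U ≤ πA.left ⁻¹ᵁ U)
    (hπAapp : ∀ (U : A.left.Opens) (s : Γ(A.left, U)), (πA.left.appLE U U (hπAle U)).hom s = s ^ p)
    (hPA : Polynomial.aeval (EndAV.End.of πA) (∏ j, minpoly ℤ (ϖ j)) = 0) :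
    (∀ x y : AbDual.TateMod A l (SGA7.pt Ω),
        (∀ φ : EndAV.Hom A Aw, EndAV.Hom.tateMap l (SGA7.pt Ω) φ x = EndAV.Hom.tateMap l (SGA7.pt Ω) φ y) → x = y) ∧
      (∀ g : EndAV.Hom A Aw →+ AbDual.TateMod Aw l (SGA7.pt Ω),
        (∀ (φ : EndAV.Hom A Aw) (s : EndAV.End Aw), g (φ ≫ s) = EndAV.End.tateRep l (SGA7.pt Ω) s (g φ)) →
          ∃ x : AbDual.TateMod A l (SGA7.pt Ω), ∀ φ : EndAV.Hom A Aw, g φ = EndAV.Hom.tateMap l (SGA7.pt Ω) φ x) := by
  have hFw : Groth.Agent.H25Weilp.IsFrob πw := ⟨hπwb, hπwle, fun U s => by rw [hπwapp U s, hk]⟩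
  have hFA : Groth.Agent.H25Weilp.IsFrob πA := ⟨hπAb, hπAle, fun U s => by rw [hπAapp U s, hk]⟩
  refine ⟨fun x y h => sub_eq_zero.1 (Groth.Agent.H25Weilp.MinOrder.eq_zero_of_forall hk hint hnr hinj hFw ρw hρw
    Ω l hl hFA hPA _ fun φ => by rw [map_sub, h φ, sub_self]), fun g hg => ?_⟩
  exact Groth.Agent.H25Weilp.MinOrder.exists_eq_eval hk hint hnr hinj hFw ρw hρw Ω l hl hFA hPA g hg

end Groth.Agent.S17998
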