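import Groth.Statements.S17999
import Groth.Agent.H23WeilN.PicLift
import Groth.Agent.H23WeilN.Family

set_option autoImplicit false
universe u
open MvPolynomial
open WeilNum

namespace Groth.Agent.S17999

open Groth.Agent.H23WeilN

theorem conj_integral {K : Type u} [Field K] [CharZero K] {x : K} {q : ℕ} (hint : IsIntegral ℤ x)
    (hweil : ∀ z ∈ (minpoly ℤ x).aroots ℂ, ‖z‖ = Real.sqrt (q : ℝ)) :
    Polynomial.aeval ((q : K) / x) (minpoly ℤ x) = 0 := by
  haveI : Algebra.IsAlgebraic ℚ (IntermediateField.adjoin ℚ {x}) :=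
    IntermediateField.isAlgebraic_adjoin fun y hy => by
      rw [Set.mem_singleton_iff.mp hy]
      exact hint.tower_top
  let σ : IntermediateField.adjoin ℚ {x} →ₐ[ℚ] ℂ := IsAlgClosed.lift
  let y : IntermediateField.adjoin ℚ {x} := ⟨x, IntermediateField.mem_adjoin_simple_self ℚ x⟩
  have hy : Polynomial.aeval (σ y) (minpoly ℤ x) = 0 := by
    have h1 : Polynomial.aeval y (minpoly ℤ x) = 0 := by
      apply (IntermediateField.adjoin ℚ {x}).val.toRingHom.injective
      rw [map_zero]
      exact (Polynomial.aeval_algHom_apply ((IntermediateField.adjoin ℚ {x}).val.restrictScalars ℤ) y _).symm.trans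
        (minpoly.aeval ℤ x)
    exact (Polynomial.aeval_algHom_apply (σ.restrictScalars ℤ) y _).trans (by rw [h1, map_zero])
  have hn := hweil _ (Polynomial.mem_aroots.mpr ⟨(minpoly.monic hint).ne_zero, hy⟩)
  have hsq : (σ y : ℂ) * (starRingEnd ℂ) (σ y) = (q : ℂ) := by
    rw [Complex.mul_conj, Complex.normSq_eq_norm_sq, hn, Real.sq_sqrt (Nat.cast_nonneg q)]
    norm_num
  have h2 : σ (Polynomial.aeval ((q : IntermediateField.adjoin ℚ {x}) / y) (minpoly ℤ x)) = 0 := by
    by_cases h0 : σ y = 0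
    · have hq : (q : ℂ) = 0 := by rw [← hsq, h0, zero_mul]
      refine (Polynomial.aeval_algHom_apply (σ.restrictScalars ℤ) _ _).symm.trans ?_
      rw [AlgHom.restrictScalars_apply, map_div₀, map_natCast, hq, zero_div]
      rwa [h0] at hy
    · refine (Polynomial.aeval_algHom_apply (σ.restrictScalars ℤ) _ _).symm.trans ?_
      rw [AlgHom.restrictScalars_apply, map_div₀, map_natCast, ← hsq, mul_div_cancel_left₀ _ h0]
      exact (Polynomial.aeval_algHom_apply (starRingEnd ℂ).toIntAlgHom (σ y) _).trans (by rw [hy, map_zero])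
  have h3 := (map_eq_zero σ).mp h2
  have h4 := congrArg ((IntermediateField.adjoin ℚ {x}).val.restrictScalars ℤ) h3
  rw [← Polynomial.aeval_algHom_apply, map_zero] at h4
  convert h4 using 2
  simp [y]

theorem one_add_mul_ne_zero {K : Type u} [Field K] [CharZero K] {α : K} (hα : IsIntegral ℤ α) {n : ℤ}
    (hn : 2 ∣ n) : 1 + (n : K) * α ≠ 0 := fun h => by
  have hn0 : n ≠ 0 := fun h0 => by simp [h0] at h
  have hα' : α = algebraMap ℚ K (-1 / n) := by
    rw [map_div₀, map_neg, map_one, map_intCast, eq_div_iff (Int.cast_ne_zero.mpr hn0)]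
    linear_combination h
  rw [hα', isIntegral_algebraMap_iff (algebraMap ℚ K).injective, IsIntegrallyClosed.isIntegral_iff] at hα
  obtain ⟨k, hk⟩ := hα
  rw [eq_intCast, eq_div_iff (Int.cast_ne_zero.mpr hn0)] at hk
  obtain ⟨c, rfl⟩ := hn
  have : k * (2 * c) = -1 := by exact_mod_cast hk
  have h2 : (2 : ℤ) ∣ -1 := ⟨k * c, by rw [← this]; ring⟩
  omega

theorem finite_mod_int (R : Type*) [CommRing R] [Module.Finite ℤ R] {n : ℤ} (hn : n ≠ 0) :
    Finite (R ⧸ Ideal.span {(n : R)}) := by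
  haveI : Module.Finite ℤ (R ⧸ Ideal.span {(n : R)}) :=
    Module.Finite.of_surjective (Ideal.Quotient.mk (Ideal.span {(n : R)})).toAddMonoidHom.toIntLinearMap
      Ideal.Quotient.mk_surjective
  refine Module.finite_of_fg_torsion _ fun z => ⟨⟨n, mem_nonZeroDivisors_of_ne_zero hn⟩, ?_⟩
  refine (zsmul_eq_mul z n).trans ?_
  rw [← map_intCast (Ideal.Quotient.mk (Ideal.span {(n : R)})), Ideal.Quotient.eq_zero_iff_mem.mpr
    (Ideal.mem_span_singleton_self _), zero_mul]

theorem finite_quotient {ι : Type} [Fintype ι] {K : ι → Type u} [∀ i, Field (K i)] {x y : ∀ i, K i}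
    (hx : IsIntegral ℤ x) (hy : IsIntegral ℤ y) {n : ℤ} (hn : n ≠ 0) :
    Finite ((FV ⧸ RingHom.ker (aeval ![x, y] : FV →ₐ[ℤ] ((i : ι) → K i))) ⧸
      Ideal.span {(n : FV ⧸ RingHom.ker (aeval ![x, y] : FV →ₐ[ℤ] ((i : ι) → K i)))}) := by
  set φ : FV →ₐ[ℤ] ((i : ι) → K i) := aeval ![x, y]
  haveI : Module.Finite ℤ φ.range := by
    refine (Module.Finite.iff_fg (N := φ.range.toSubmodule)).mpr ?_
    rw [show φ.range = Algebra.adjoin ℤ (Set.range ![x, y]) from (Algebra.adjoin_range_eq_range_aeval ℤ _).symm]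
    refine fg_adjoin_of_finite (Set.finite_range _) ?_
    rintro _ ⟨i, rfl⟩
    fin_cases i
    · exact hx
    · exact hy
  haveI : Module.Finite ℤ (FV ⧸ RingHom.ker φ) := Module.Finite.equiv
    (Ideal.quotientKerEquivRange φ).symm.toAddEquiv.toIntLinearEquiv
  exact finite_mod_int _ hn

theorem isIntegral_pi {ι : Type} [Fintype ι] {K : ι → Type u} [∀ i, Field (K i)] {x : ∀ i, K i}
    (hx : ∀ i, IsIntegral ℤ (x i)) : IsIntegral ℤ x := by
  refine ⟨∏ i, minpoly ℤ (x i), Polynomial.monic_prod_of_monic _ _ fun i _ => minpoly.monic (hx i), ?_⟩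
  rw [← Polynomial.aeval_def]
  funext i
  show Pi.evalAlgHom ℤ K i (Polynomial.aeval x (∏ i, minpoly ℤ (x i))) = 0
  rw [← Polynomial.aeval_algHom_apply, map_prod]
  exact Finset.prod_eq_zero (Finset.mem_univ i) (minpoly.aeval ℤ _)

open scoped Classical in
theorem exists_int_bezout {ι : Type} [Fintype ι] {K : ι → Type u} [∀ i, Field (K i)] [∀ i, CharZero (K i)]
    {π : ∀ i, K i} (hint : ∀ i, IsIntegral ℤ (π i))
    (hinj : ∀ i j, minpoly ℤ (π i) = minpoly ℤ (π j) → i = j) (s : Finset ι) :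
    ∃ (n : ℤ) (U W : Polynomial ℤ), n ≠ 0 ∧
      U * ∏ i ∈ s, minpoly ℤ (π i) + W * ∏ i ∈ sᶜ, minpoly ℤ (π i) = Polynomial.C n := by
  have hcop : IsCoprime (∏ i ∈ s, minpoly ℚ (π i)) (∏ i ∈ sᶜ, minpoly ℚ (π i)) := by
    refine IsCoprime.prod_left fun i hi => IsCoprime.prod_right fun j hj => ?_
    refine (minpoly.irreducible (hint i).tower_top).coprime_iff_not_dvd.mpr fun hd => ?_
    have he := Polynomial.eq_of_monic_of_associated (minpoly.monic (hint i).tower_top)
      (minpoly.monic (hint j).tower_top) ((minpoly.irreducible (hint i).tower_top).associated_of_dvd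
        (minpoly.irreducible (hint j).tower_top) hd)
    rw [minpoly.isIntegrallyClosed_eq_field_fractions' ℚ (hint i),
      minpoly.isIntegrallyClosed_eq_field_fractions' ℚ (hint j)] at he
    have := hinj i j (Polynomial.map_injective _ (algebraMap ℤ ℚ).injective_int he)
    exact Finset.mem_compl.mp hj (this ▸ hi)
  obtain ⟨u, w, h⟩ := hcop
  obtain ⟨⟨b, hb⟩, hu⟩ := IsLocalization.integerNormalization_map_to_map (nonZeroDivisors ℤ) u
  obtain ⟨⟨c, hc⟩, hw⟩ := IsLocalization.integerNormalization_map_to_map (nonZeroDivisors ℤ) w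
  refine ⟨b * c, Polynomial.C c * IsLocalization.integerNormalization (nonZeroDivisors ℤ) u,
    Polynomial.C b * IsLocalization.integerNormalization (nonZeroDivisors ℤ) w,
    mul_ne_zero (nonZeroDivisors.ne_zero hb) (nonZeroDivisors.ne_zero hc), ?_⟩
  apply Polynomial.map_injective (algebraMap ℤ ℚ) (algebraMap ℤ ℚ).injective_int
  simp only [Polynomial.map_add, Polynomial.map_mul, Polynomial.map_C, Polynomial.map_prod]
  simp only [← minpoly.isIntegrallyClosed_eq_field_fractions' ℚ (hint _)]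
  rw [hu, hw, zsmul_eq_mul, zsmul_eq_mul]
  simp only [eq_intCast, map_intCast, Int.cast_mul, map_mul]
  linear_combination (b : Polynomial ℚ) * (c : Polynomial ℚ) * h


/-- The case of finite sets of Weil numbers; let p be a prime, e ≥ 1 and q = p^e; let (π_j)_{j ∈ J} be a
finite family of pairwise nonconjugate Weil q-numbers (π_j in a field K_j of characteristic zero,
integral over ℤ with minimal polynomial P_j, all complex roots of P_j of absolute value √q, P_i ≠
P_j for i ≠ j), and let e : J' → J be an injective map selecting a subfamily. Let I_w, resp. I_v, be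
the kernel of ℤ[F, V] → ∏_{j ∈ J} K_j, resp. → ∏_{j' ∈ J'} K_{e(j')}, sending F ↦ (π_j) and V ↦
(q/π_j); then I_w ⊆ I_v and ℤ[F,V]/I_w → ℤ[F,V]/I_v is the natural surjection R_w → R_v of minimal
central orders. Then the induced homomorphism of Picard groups Pic(R_w) → Pic(R_v) is surjective.
The published statement concerns the Picard groups of the pro-rings attached to arbitrary subsets V
⊆ W of Weil q-number classes; only the case of finite sets is stated here. -/
theorem result (p e : ℕ) [Fact p.Prime] (he : 0 < e)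
    (J J' : Type) [Fintype J] [Fintype J'] (emb : J' → J) (hemb : Function.Injective emb)
    (K : J → Type u) [∀ j, Field (K j)] [∀ j, CharZero (K j)] (ϖ : ∀ j, K j)
    (hint : ∀ j, IsIntegral ℤ (ϖ j))
    (hweil : ∀ j, ∀ z ∈ (minpoly ℤ (ϖ j)).aroots ℂ, ‖z‖ = Real.sqrt ((p : ℝ) ^ e))
    (hinj : ∀ i j, minpoly ℤ (ϖ i) = minpoly ℤ (ϖ j) → i = j)
    (hle : RingHom.ker (MvPolynomial.aeval ![fun j => ϖ j, fun j => ((p : K j) ^ e) / ϖ j] :
          MvPolynomial (Fin 2) ℤ →ₐ[ℤ] ((j : J) → K j)) ≤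
        RingHom.ker (MvPolynomial.aeval ![fun j' => ϖ (emb j'), fun j' => ((p : K (emb j')) ^ e) / ϖ (emb j')] :
          MvPolynomial (Fin 2) ℤ →ₐ[ℤ] ((j' : J') → K (emb j')))) :
    Function.Surjective (CommRing.Pic.mapRingHom (Ideal.Quotient.factor hle)) := by
  classical
  set φ : FV →ₐ[ℤ] ((j : J) → K j) := aeval ![fun j => ϖ j, fun j => ((p : K j) ^ e) / ϖ j]
  set φv : FV →ₐ[ℤ] ((j' : J') → K (emb j')) :=
    aeval ![fun j' => ϖ (emb j'), fun j' => ((p : K (emb j')) ^ e) / ϖ (emb j')]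
  let s : Finset J := Finset.univ.image emb
  let φc : FV →ₐ[ℤ] ((j : {j // j ∉ s}) → K j) :=
    aeval ![fun j => ϖ j.1, fun j => ((p : K j.1) ^ e) / ϖ j.1]
  have hq : ∀ j, IsIntegral ℤ (((p : K j) ^ e) / ϖ j) := fun j => ⟨minpoly ℤ (ϖ j), minpoly.monic (hint j), by
    have := conj_integral (q := p ^ e) (hint j) (by simpa using hweil j)
    simpa [Nat.cast_pow, Polynomial.aeval_def] using this⟩
  have hev : ∀ (j : J) (g : FV), φ g j = aeval ![ϖ j, ((p : K j) ^ e) / ϖ j] g := fun j g => by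
    show (Pi.evalAlgHom ℤ K j).comp φ g = _
    congr 1
    ext i; fin_cases i <;> simp [φ]
  have hevv : ∀ (j' : J') (g : FV), φv g j' = φ g (emb j') := fun j' g => by
    rw [hev]
    show (Pi.evalAlgHom ℤ (fun j' => K (emb j')) j').comp φv g = _
    congr 1
    ext i; fin_cases i <;> simp [φv]
  have hevc : ∀ (j : {j // j ∉ s}) (g : FV), φc g j = φ g j.1 := fun j g => by
    rw [hev]
    show (Pi.evalAlgHom ℤ (fun j : {j // j ∉ s} => K j.1) j).comp φc g = _
    congr 1
    ext i; fin_cases i <;> simp [φc]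
  have hker : RingHom.ker φ ≤ RingHom.ker φc := fun g hg => by
    rw [RingHom.mem_ker] at hg ⊢
    funext j
    rw [hevc, hg]; rfl
  obtain ⟨n, U, W, hn, hUW⟩ := exists_int_bezout hint hinj s
  have hroot : ∀ (j : J) (t : Finset J), j ∈ t →
      φ (Polynomial.aeval (X 0 : FV) (∏ i ∈ t, minpoly ℤ (ϖ i))) j = 0 := fun j t hjt => by
    rw [hev, ← Polynomial.aeval_algHom_apply, map_prod]
    exact Finset.prod_eq_zero hjt (by simp)
  have hsum : Polynomial.aeval (X 0 : FV) (U * ∏ i ∈ s, minpoly ℤ (ϖ i)) +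
      Polynomial.aeval (X 0 : FV) (W * ∏ i ∈ sᶜ, minpoly ℤ (ϖ i)) = (n : FV) := by
    rw [← map_add, hUW, Polynomial.aeval_C]; simp
  let fA : FV ⧸ RingHom.ker φ →+* ((j : {j // j ∉ s}) → K j.1) :=
    Ideal.Quotient.lift (RingHom.ker φ) φc.toRingHom fun g hg => hker hg
  have hintA : ∀ (j : J) (g : FV), IsIntegral ℤ (φ g j) := fun j g => by
    rw [hev]
    induction g using MvPolynomial.induction_on with
    | C a => rw [MvPolynomial.aeval_C]; exact isIntegral_algebraMap
    | add a b ha hb => rw [map_add]; exact ha.add hb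
    | mul_X a i ha =>
      rw [map_mul, MvPolynomial.aeval_X]
      refine ha.mul ?_
      fin_cases i
      · exact hint j
      · exact hq j
  haveI : Finite ((FV ⧸ RingHom.ker φv) ⧸
      Ideal.span {Ideal.Quotient.factor hle (Ideal.Quotient.mk _ ((2 * n : ℤ) : FV))}) := by
    rw [map_intCast, map_intCast]
    refine finite_quotient ?_ ?_ (mul_ne_zero two_ne_zero hn)
    · exact isIntegral_pi fun j' => hint _
    · exact isIntegral_pi fun j' => hq _
  refine pic_mapRingHom_surjective (Ideal.Quotient.factor hle) fA (Ideal.Quotient.factor_surjective hle)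
    ?_ (Ideal.Quotient.mk _ ((2 * n : ℤ) : FV))
    (Ideal.Quotient.mk _ (2 * Polynomial.aeval (X 0 : FV) (U * ∏ i ∈ s, minpoly ℤ (ϖ i)))) ?_ ?_ ?_ ?_
  · intro a h1 h2
    obtain ⟨g, rfl⟩ := Ideal.Quotient.mk_surjective a
    rw [Ideal.Quotient.factor_mk, Ideal.Quotient.eq_zero_iff_mem, RingHom.mem_ker] at h1
    rw [Ideal.Quotient.eq_zero_iff_mem, RingHom.mem_ker]
    funext j
    by_cases hj : j ∈ s
    · obtain ⟨j', -, rfl⟩ := Finset.mem_image.mp hj
      rw [← hevv, h1]; rfl
    · rw [← hevc ⟨j, hj⟩]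
      exact congrFun (show φc g = 0 from h2) ⟨j, hj⟩
  · rw [Ideal.Quotient.factor_mk, Ideal.Quotient.eq_zero_iff_mem, RingHom.mem_ker]
    funext j'
    rw [hevv, map_mul, map_mul, map_mul, Pi.mul_apply, Pi.mul_apply,
      hroot (emb j') s (Finset.mem_image_of_mem _ (Finset.mem_univ j')), mul_zero, mul_zero]
    rfl
  · show φc _ = φc _
    rw [Int.cast_mul, Int.cast_ofNat, ← hsum, mul_add, map_add]
    refine left_eq_add.mpr ?_
    funext j
    rw [hevc, map_mul, map_mul, map_mul, Pi.mul_apply, Pi.mul_apply,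
      hroot j.1 sᶜ (Finset.mem_compl.mpr j.2), mul_zero, mul_zero]
    rfl
  · intro a x hx
    obtain ⟨g, rfl⟩ := Ideal.Quotient.mk_surjective a
    obtain ⟨h, rfl⟩ := Ideal.Quotient.mk_surjective x
    rw [← map_one (Ideal.Quotient.mk (RingHom.ker φ)), ← map_mul, ← map_add, Ideal.Quotient.factor_mk, ← map_mul,
      Ideal.Quotient.eq_zero_iff_mem, RingHom.mem_ker] at hx
    rw [Ideal.Quotient.eq_zero_iff_mem, RingHom.mem_ker]
    funext j'
    have := congrFun hx j'
    rw [hevv] at this ⊢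
    simp only [map_mul, map_add, map_one, map_intCast, Pi.mul_apply, Pi.add_apply, Pi.one_apply, Pi.intCast_apply,
      Pi.zero_apply] at this
    exact (mul_eq_zero.mp this).resolve_left (one_add_mul_ne_zero (hintA _ g) (dvd_mul_right 2 n))
  · intro a x hx
    obtain ⟨g, rfl⟩ := Ideal.Quotient.mk_surjective a
    funext j
    have := congrFun hx j
    change φc (1 + ((2 * n : ℤ) : FV) * g) j * x j = 0 at this
    rw [hevc] at this
    simp only [map_mul, map_add, map_one, map_intCast, Pi.mul_apply, Pi.add_apply, Pi.one_apply, Pi.intCast_apply]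
      at this
    exact (mul_eq_zero.mp this).resolve_left (one_add_mul_ne_zero (hintA _ g) (dvd_mul_right 2 n))
end Groth.Agent.S17999
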