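import Groth.Statements.S18000
import Groth.Agent.H25Weilp.MinOrderIsogeny

set_option autoImplicit false
set_option linter.style.haveILetI false
set_option backward.isDefEq.respectTransparency false
set_option synthInstance.maxHeartbeats 200000
universe u
open CategoryTheory MonoidalCategory CartesianMonoidalCategory MonObj GrpObj AlgebraicGeometry MvPolynomial
open AbVar

namespace Groth.Agent.S18000

/-- Stated for abelian varieties with Weil support in a fixed finite set w, where the lattice functor is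
M_w = Hom(−, A_w); let p be a prime and k a field with p elements. Let (π_j) be a finite family of
pairwise nonconjugate nonreal Weil p-numbers (π_j in a field K_j of characteristic zero, integral
over ℤ with minimal polynomial P_j, all complex roots of P_j of absolute value √p and none real, P_i
≠ P_j for i ≠ j), P_w = ∏_j P_j, and R_w ⊆ ∏_j K_j the minimal central order, the image of ℤ[F, V] →
∏_j K_j, F ↦ (π_j), V ↦ (p/π_j). An abelian variety over k means a proper, geometrically integral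
commutative group scheme over k, taken with its p-Frobenius endomorphism π (the identity on points
and the p-th power map on sections; a homomorphism); it lies in AV_w when P_w(π) = 0 in its
endomorphism ring. Let A_w be an abelian variety over k together with a ring isomorphism ρ : R_w ≅
End(A_w) sending the class of F to the Frobenius of A_w (so A_w lies in AV_w and its endomorphism
ring is the minimal central order); Hom(X, A_w) is a module over End(A_w) ≅ R_w by postcomposition.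
Let A, B lie in AV_w and let f : B → A be a homomorphism. Then f is an isogeny — its underlying
morphism of schemes is finite and surjective — if and only if the map Hom(A, A_w) → Hom(B, A_w), φ ↦
(f followed by φ), is an isomorphism after tensoring with ℚ, that is, injective with finite
cokernel. -/
theorem result (p : ℕ) [Fact p.Prime] (k : Type u) [Field k] [Finite k] (hk : Nat.card k = p)
    (J : Type) [Fintype J] (K : J → Type) [∀ j, Field (K j)] [∀ j, CharZero (K j)] (ϖ : ∀ j, K j)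
    (hint : ∀ j, IsIntegral ℤ (ϖ j))
    (hweil : ∀ j, ∀ z ∈ (minpoly ℤ (ϖ j)).aroots ℂ, ‖z‖ = Real.sqrt p)
    (hnr : ∀ j, ∀ z ∈ (minpoly ℤ (ϖ j)).aroots ℂ, z.im ≠ 0)
    (hinj : ∀ i j, minpoly ℤ (ϖ i) = minpoly ℤ (ϖ j) → i = j)
    (Aw : Over (Spec (CommRingCat.of k))) [GrpObj Aw] [IsCommMonObj Aw] [IsProper Aw.hom] [GeometricallyIntegral Aw.hom]
    (πw : Aw ⟶ Aw) [IsMonHom πw] (hπwb : πw.left.base = 𝟙 _) (hπwle : ∀ U : Aw.left.Opens, U ≤ πw.left ⁻¹ᵁ U)
    (hπwapp : ∀ (U : Aw.left.Opens) (s : Γ(Aw.left, U)), (πw.left.appLE U U (hπwle U)).hom s = s ^ p)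
    (ρw : (MvPolynomial.aeval ![fun j => ϖ j, fun j => (p : K j) / ϖ j] : MvPolynomial (Fin 2) ℤ →ₐ[ℤ] ((j : J) → K j)).range ≃+* EndAV.End Aw)
    (hρw : ρw ⟨(MvPolynomial.aeval ![fun j => ϖ j, fun j => (p : K j) / ϖ j] : MvPolynomial (Fin 2) ℤ →ₐ[ℤ] ((j : J) → K j)) (X 0), AlgHom.mem_range_self _ _⟩ = EndAV.End.of πw)
    (A : Over (Spec (CommRingCat.of k))) [GrpObj A] [IsCommMonObj A] [IsProper A.hom] [GeometricallyIntegral A.hom]
    (πA : A ⟶ A) [IsMonHom πA] (hπAb : πA.left.base = 𝟙 _) (hπAle : ∀ U : A.left.Opens, U ≤ πA.left ⁻¹ᵁ U)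
    (hπAapp : ∀ (U : A.left.Opens) (s : Γ(A.left, U)), (πA.left.appLE U U (hπAle U)).hom s = s ^ p)
    (hPA : Polynomial.aeval (EndAV.End.of πA) (∏ j, minpoly ℤ (ϖ j)) = 0)
    (B : Over (Spec (CommRingCat.of k))) [GrpObj B] [IsCommMonObj B] [IsProper B.hom] [GeometricallyIntegral B.hom]
    (πB : B ⟶ B) [IsMonHom πB] (hπBb : πB.left.base = 𝟙 _) (hπBle : ∀ U : B.left.Opens, U ≤ πB.left ⁻¹ᵁ U)
    (hπBapp : ∀ (U : B.left.Opens) (s : Γ(B.left, U)), (πB.left.appLE U U (hπBle U)).hom s = s ^ p)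
    (hPB : Polynomial.aeval (EndAV.End.of πB) (∏ j, minpoly ℤ (ϖ j)) = 0)
    (f : EndAV.Hom B A) :
    (IsFinite f.toHom.left ∧ Surjective f.toHom.left) ↔
      (Function.Injective (Preadditive.leftComp (CommGrp.mk Aw) f) ∧
        Finite (EndAV.Hom B Aw ⧸ (Preadditive.leftComp (CommGrp.mk Aw) f).range)) := by
  obtain ⟨l, hlp, hl⟩ := Groth.Agent.H25AbCube.exists_prime_ne_zero k
  haveI : Fact l.Prime := ⟨hlp⟩
  have hFw : Groth.Agent.H25Weilp.IsFrob πw := ⟨hπwb, hπwle, fun U s => by rw [hπwapp U s, hk]⟩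
  have hFA : Groth.Agent.H25Weilp.IsFrob πA := ⟨hπAb, hπAle, fun U s => by rw [hπAapp U s, hk]⟩
  have hFB : Groth.Agent.H25Weilp.IsFrob πB := ⟨hπBb, hπBle, fun U s => by rw [hπBapp U s, hk]⟩
  haveI := Groth.Agent.H25Weilp.MinOrder.torsionFree_hom (A := A) (B := Aw)
  haveI := Groth.Agent.H25Weilp.MinOrder.torsionFree_hom (A := B) (B := Aw)
  haveI := (Groth.Agent.H25Weilp.MinOrder.free_hom (A := A) (B := Aw)).2
  haveI := (Groth.Agent.H25Weilp.MinOrder.free_hom (A := B) (B := Aw)).2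
  let r := Preadditive.leftComp (CommGrp.mk Aw) f
  constructor
  · rintro ⟨hfin, hsurj⟩
    obtain ⟨N, hN, τ, hτ, h1, h2⟩ := Groth.Agent.H25AbCube.exists_isogeny_inverse f.toHom
    haveI := hτ
    let t : EndAV.Hom A B := EndAV.Hom.of τ
    have e1 : ∀ ψ : EndAV.Hom B Aw, f ≫ (t ≫ ψ) = N • ψ := fun ψ => EndAV.Hom.ext (by
      rw [EndAV.Hom.toHom_nsmul]
      show f.toHom ≫ τ ≫ ψ.toHom = _
      rw [← Category.assoc, h1]
      exact Groth.Agent.H25AbCube.pow_id_comp_gen ψ.toHom N)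
    have e2 : ∀ φ : EndAV.Hom A Aw, t ≫ (f ≫ φ) = N • φ := fun φ => EndAV.Hom.ext (by
      rw [EndAV.Hom.toHom_nsmul]
      show τ ≫ f.toHom ≫ φ.toHom = _
      rw [← Category.assoc, h2]
      exact Groth.Agent.H25AbCube.pow_id_comp_gen φ.toHom N)
    refine ⟨fun a c hac => smul_right_injective _ (Int.natCast_ne_zero.2 hN.ne') ?_, ?_⟩
    · show (N : ℤ) • a = (N : ℤ) • c
      rw [natCast_zsmul, natCast_zsmul]
      rw [← e2, ← e2]
      exact congrArg (t ≫ ·) hac
    · haveI : Module.Finite ℤ (EndAV.Hom B Aw ⧸ r.range) :=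
        Module.Finite.of_surjective (QuotientAddGroup.mk' r.range).toIntLinearMap QuotientAddGroup.mk_surjective
      refine Module.finite_of_fg_torsion _ fun q => ?_
      obtain ⟨ψ, rfl⟩ := QuotientAddGroup.mk_surjective q
      refine ⟨⟨(N : ℤ), mem_nonZeroDivisors_of_ne_zero (Int.natCast_ne_zero.2 hN.ne')⟩, ?_⟩
      rw [Submonoid.mk_smul, natCast_zsmul, ← QuotientAddGroup.mk_nsmul, QuotientAddGroup.eq_zero_iff]
      exact ⟨t ≫ ψ, e1 ψ⟩
  · rintro ⟨hinj', hfin⟩
    obtain ⟨N, hN, hkill⟩ : ∃ N, 0 < N ∧ ∀ ψ : EndAV.Hom B Aw, N • ψ ∈ r.range := by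
      haveI : Fintype (EndAV.Hom B Aw ⧸ r.range) := Fintype.ofFinite _
      refine ⟨Fintype.card (EndAV.Hom B Aw ⧸ r.range), Fintype.card_pos, fun ψ => ?_⟩
      rw [← QuotientAddGroup.eq_zero_iff, QuotientAddGroup.mk_nsmul]
      exact card_nsmul_eq_zero
    let Ω := AlgebraicClosure k
    haveI : IsIntegral A.left := GeometricallyIntegral.isIntegral_of_subsingleton A.hom
    haveI : IsIntegral B.left := GeometricallyIntegral.isIntegral_of_subsingleton B.hom
    obtain ⟨gA, hgA⟩ := Groth.Agent.H25Grp.exists_nat_dim A.hom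
    obtain ⟨gB, hgB⟩ := Groth.Agent.H25Grp.exists_nat_dim B.hom
    have hrk : Module.finrank ℤ (EndAV.Hom A Aw) = Module.finrank ℤ (EndAV.Hom B Aw) := by
      refine le_antisymm ?_ (Groth.Agent.H25Weilp.MinOrder.finrank_le_of_smul_mem r hinj' N hN hkill)
      exact LinearMap.finrank_le_finrank_of_injective (f := r.toIntLinearMap) hinj'
    rw [Groth.Agent.H25Weilp.MinOrder.finrank_hom_eq hint hinj hFw ρw hρw Ω l hl hFA hPA hgA,
      Groth.Agent.H25Weilp.MinOrder.finrank_hom_eq hint hinj hFw ρw hρw Ω l hl hFB hPB hgB] at hrk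
    have hTf : Function.Injective (Groth.Agent.H25Weilp.tm Ω l f.toHom) := by
      rw [injective_iff_map_eq_zero]
      intro x hx
      refine Groth.Agent.H25Weilp.MinOrder.eq_zero_of_forall hk hint hnr hinj hFw ρw hρw Ω l hl hFB hPB x fun ψ => ?_
      obtain ⟨φ, hφ⟩ := hkill ψ
      haveI := (Groth.Agent.H25Weilp.free_finite Ω l hl Aw).1
      refine (smul_eq_zero.1 (?_ : (N : ℤ_[l]) • EndAV.Hom.tateMap l (SGA7.pt Ω) ψ x = 0)).resolve_left
        (Nat.cast_ne_zero.2 hN.ne')
      rw [Nat.cast_smul_eq_nsmul, ← LinearMap.smul_apply, ← map_nsmul, ← hφ]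
      show Groth.Agent.H25Weilp.tm Ω l (f.toHom ≫ EndAV.Hom.toHom φ) x = 0
      rw [Groth.Agent.H25Weilp.tm_comp, LinearMap.comp_apply, hx, map_zero]
    obtain ⟨v, _, M, hM, h1, h2⟩ := Groth.Agent.H25Weilp.MinOrder.exists_inverse_of_tm_injective Ω l hl f.toHom
      hgA hgB (by omega) hFA hFB hTf
    exact Groth.Agent.H25Weilp.MinOrder.isFinite_surjective_of_inverse f.toHom v M hM h1 h2

end Groth.Agent.S18000
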