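import Groth.Statements.S18003
import Groth.Agent.H23WeilN.Family

set_option autoImplicit false
universe u
open MvPolynomial
open WeilNum

namespace Groth.Agent.S18003

/-- Let p be a prime, e ≥ 1 and q = p^e; let (π_i) be a finite family of pairwise nonconjugate Weil
q-numbers (π_i in a field K_i of characteristic zero, integral over ℤ with minimal polynomial P_i,
all complex roots of P_i of absolute value √q, P_i ≠ P_j for i ≠ j) of even total degree Σ_i deg
P_i, P_w = ∏_i P_i, and R_w ⊆ ∏_i K_i the minimal central order, the image of ℤ[F, V] → ∏_i K_i, F ↦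
(π_i), V ↦ (q/π_i). Let T be a finitely generated free ℤ-module and F_T an endomorphism of T. Then
there exists an R_w-module structure on the additive group T in which the class of F acts as F_T if
and only if P_w(F_T) = 0 (equivalently: F_T is semisimple after tensoring with ℚ, with eigenvalues
among the conjugates of the π_i) and there is an endomorphism V_T of T with F_T ∘ V_T = q. When it
exists the structure is determined by F_T (the class of V acts as V_T = q·F_T⁻¹), and reflexive
R_w-modules are exactly the ℤ-free finitely generated ones, so this identifies the objects of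
Refl(R_w) with such pairs (T, F_T); the uniqueness remark is not part of the formal statement. -/
theorem result (p e : ℕ) [Fact p.Prime] (he : 0 < e)
    (ι : Type) [Fintype ι] (K : ι → Type u) [∀ i, Field (K i)] [∀ i, CharZero (K i)] (π : ∀ i, K i)
    (hint : ∀ i, IsIntegral ℤ (π i))
    (hweil : ∀ i, ∀ z ∈ (minpoly ℤ (π i)).aroots ℂ, ‖z‖ = Real.sqrt ((p : ℝ) ^ e))
    (hinj : ∀ i j, minpoly ℤ (π i) = minpoly ℤ (π j) → i = j)
    (D : ℕ) (hD : ∑ i, (minpoly ℤ (π i)).natDegree = 2 * D)
    (T : Type) [AddCommGroup T] [Module.Finite ℤ T] [Module.Free ℤ T] (FT : T →ₗ[ℤ] T) :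
    (∃ _ : Module (MvPolynomial.aeval ![fun i => π i, fun i => ((p : K i) ^ e) / π i] :
        MvPolynomial (Fin 2) ℤ →ₐ[ℤ] ((i : ι) → K i)).range T,
        ∀ t : T, (⟨(MvPolynomial.aeval ![fun i => π i, fun i => ((p : K i) ^ e) / π i] :
        MvPolynomial (Fin 2) ℤ →ₐ[ℤ] ((i : ι) → K i)) (X 0), AlgHom.mem_range_self _ _⟩ : (MvPolynomial.aeval ![fun i => π i, fun i => ((p : K i) ^ e) / π i] :
        MvPolynomial (Fin 2) ℤ →ₐ[ℤ] ((i : ι) → K i)).range) • t = FT t) ↔
      (Polynomial.aeval FT (∏ i, minpoly ℤ (π i)) = 0 ∧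
        ∃ VT : T →ₗ[ℤ] T, FT ∘ₗ VT = ((p : ℤ) ^ e) • LinearMap.id) := by
  classical
  obtain ⟨ε, hs, hker, -⟩ := Groth.Agent.H23WeilN.family_main hint hweil hinj hD
  have hq : ((p : ℤ) ^ e) ≠ 0 := pow_ne_zero _ (Int.natCast_ne_zero.mpr (Fact.out : p.Prime).ne_zero)
  set φ := (MvPolynomial.aeval ![fun i => π i, fun i => ((p : K i) ^ e) / π i] :
        MvPolynomial (Fin 2) ℤ →ₐ[ℤ] ((i : ι) → K i))
  have hne := fun i => Groth.Agent.H23WeilN.weil_ne_zero (hint i) (hweil i)
  constructor
  · rintro ⟨_, hF⟩
    let μ : φ.range →+* Module.End ℤ T := Module.toModuleEnd ℤ (S := φ.range) T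
    have hμF : μ (φ.rangeRestrict (X 0)) = FT := LinearMap.ext hF
    refine ⟨?_, μ (φ.rangeRestrict (X 1)), ?_⟩
    · have h1 := congrArg μ (show Polynomial.aeval (φ.rangeRestrict (X 0)) (∏ i, minpoly ℤ (π i)) = 0 from ?_)
      · rw [map_zero, ← RingHom.toIntAlgHom_apply, ← Polynomial.aeval_algHom_apply] at h1
        exact (congrArg (fun f => Polynomial.aeval f (∏ i, minpoly ℤ (π i))) hμF).symm.trans h1
      · apply Subtype.ext
        show φ.range.val (Polynomial.aeval (φ.rangeRestrict (X 0)) (∏ i, minpoly ℤ (π i))) = 0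
        rw [← Polynomial.aeval_algHom_apply]
        funext i
        show Pi.evalAlgHom ℤ K i (Polynomial.aeval (φ (X 0)) (∏ i, minpoly ℤ (π i))) = 0
        rw [← Polynomial.aeval_algHom_apply, map_prod,
          show Pi.evalAlgHom ℤ K i (φ (X 0)) = π i by simp [φ]]
        exact Finset.prod_eq_zero (Finset.mem_univ i) (minpoly.aeval ℤ _)
    · rw [← hμF]
      show μ _ * μ _ = _
      rw [← map_mul, show φ.rangeRestrict (X 0) * φ.rangeRestrict (X 1) = (((p : ℤ) ^ e : ℤ) : φ.range) from
        Subtype.ext (funext fun i => by simp [φ, mul_div_cancel₀ _ (hne i)]), map_intCast]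
      ext x
      simp
  · rintro ⟨hP, VT, hV⟩
    have hinjT : Function.Injective (fun x : T => ((p : ℤ) ^ e) • x) := smul_right_injective T hq
    have hFinj : Function.Injective FT := by
      haveI : Module.Free ℤ T := inferInstance
      refine LinearMap.ker_eq_bot.mp (Submodule.finrank_eq_zero.mp ?_)
      have hsurj : Module.finrank ℤ T ≤ Module.finrank ℤ FT.range :=
        LinearMap.finrank_le_finrank_of_injective
          (f := (FT ∘ₗ VT).codRestrict FT.range fun x => ⟨VT x, rfl⟩) fun a b h => hinjT (by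
            have h1 := congrArg Subtype.val h
            simp only [LinearMap.codRestrict_apply, hV, LinearMap.smul_apply, LinearMap.id_apply] at h1
            exact h1)
      have h4 := FT.ker.finrank_quotient_add_finrank
      rw [FT.quotKerEquivRange.finrank_eq] at h4
      omega
    have hVF : VT * FT = FT * VT := by
      ext x
      apply hFinj
      have h1 := DFunLike.congr_fun hV (FT x)
      have h2 := DFunLike.congr_fun hV x
      simp only [LinearMap.comp_apply, LinearMap.smul_apply, LinearMap.id_apply] at h1 h2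
      show FT (VT (FT x)) = FT (FT (VT x))
      rw [h1, h2, map_zsmul]
    let C := Algebra.adjoin ℤ ({FT, VT} : Set (Module.End ℤ T))
    haveI : IsMulCommutative C := Algebra.isMulCommutative_adjoin ℤ fun a ha b hb => by
      rcases ha with rfl | rfl <;> rcases hb with rfl | rfl <;> first | rfl | exact hVF | exact hVF.symm
    let f₀ : C := ⟨FT, Algebra.subset_adjoin (Set.mem_insert _ _)⟩
    let v₀ : C := ⟨VT, Algebra.subset_adjoin (Set.mem_insert_of_mem _ rfl)⟩
    letI : CommRing C := { (inferInstance : Ring C) with mul_comm := IsMulCommutative.is_comm.comm }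
    let Φ : MvPolynomial (Fin 2) ℤ →ₐ[ℤ] C := MvPolynomial.aeval ![f₀, v₀]
    have hfv : f₀ * v₀ = (((p : ℤ) ^ e : ℤ) : C) := Subtype.ext (by
      show FT * VT = _
      refine Eq.trans hV ?_
      ext x
      simp)
    have hle : RingHom.ker φ ≤ RingHom.ker Φ := by
      rw [hker, Groth.Agent.H23WeilN.relI, Ideal.span_le, Set.insert_subset_iff, Set.singleton_subset_iff]
      refine ⟨?_, ?_⟩
      · simp [Φ, Groth.Agent.H23WeilN.relq, hfv]
      · have h1 := Groth.Agent.H23WeilN.pow_mul_aeval_symPoly hs f₀ v₀ hfv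
        have h2 : C.val (Polynomial.aeval f₀ (∏ i, minpoly ℤ (π i))) = 0 := by
          rw [← Polynomial.aeval_algHom_apply]; exact hP
        rw [← h1, map_mul, map_pow] at h2
        show Φ _ = 0
        apply Subtype.ext
        ext x
        have h3 := DFunLike.congr_fun h2 x
        refine (Module.End.iterate_injective hFinj D) ?_
        show ((FT : Module.End ℤ T) ^ D) _ = ((FT : Module.End ℤ T) ^ D) _
        simp only [ZeroMemClass.coe_zero, LinearMap.zero_apply, map_zero]
        exact h3
    let Ψ : φ.range →+* Module.End ℤ T :=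
      (C.val.toRingHom).comp (φ.rangeRestrict.toRingHom.liftOfSurjective φ.rangeRestrict_surjective
        ⟨Φ.toRingHom, fun a ha => hle (congrArg Subtype.val ha)⟩)
    refine ⟨Module.compHom T Ψ, fun t => ?_⟩
    show Ψ (φ.rangeRestrict (X 0)) t = FT t
    have h5 : Ψ (φ.rangeRestrict (X 0)) = C.val (Φ (X 0)) :=
      congrArg C.val (φ.rangeRestrict.toRingHom.liftOfRightInverse_comp_apply _ _ _ (X 0))
    rw [h5]
    simp [Φ, f₀]

end Groth.Agent.S18003
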