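import Groth.Statements.S18004
import Groth.Agent.H14Lift.ThetaAffine

set_option autoImplicit false
set_option backward.isDefEq.respectTransparency false
set_option backward.isDefEq.respectTransparency.types false
universe u
open ThetaS

namespace Groth.Agent.S18004

open CategoryTheory AlgebraicGeometry in
/-- An affine morphism of locally Noetherian algebraic stacks is Θ-reductive. Here the stacks are
categories over schemes over a base scheme S, algebraic for the fppf topology, locally Noetherian in
the sense that every scheme mapping smoothly to them is locally Noetherian, and f affine means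
representable by algebraic spaces with affine structure morphisms; the conclusion asks, for every
discrete valuation ring R with a uniformizer and every structure map Spec R → S, that every
2-commutative square against the open immersion of the punctured stack Θ_R minus its closed point
into Θ_R = [A¹_R/G_m] be filled by a dotted arrow, unique up to a unique 2-isomorphism. -/
theorem result {S : Scheme.{u}} (𝒳 𝒴 : AlgSt.Cat S) (f : 𝒳 ⥤ᵇ 𝒴)
    (h𝒳 : AlgSt.IsAlgStack Scheme.fppfPrecoverage 𝒳) (h𝒴 : AlgSt.IsAlgStack Scheme.fppfPrecoverage 𝒴)
    (hn𝒳 : AlgSt.SmoothLocally (fun U => IsLocallyNoetherian U) 𝒳)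
    (hn𝒴 : AlgSt.SmoothLocally (fun U => IsLocallyNoetherian U) 𝒴)
    (hf : AlgSt.RepByAlgSpWith (AlgSp.RepWith @IsAffineHom) f) :
    ThetaS.IsThetaReductive Scheme.fppfPrecoverage f := by
  intro R _ _ _ ϖ hϖ h
  exact Groth.Agent.H14Lift.liftsUniquely_theta hϖ.ne_zero h f h𝒳.isStack.1 h𝒴.isStack.1 hf

end Groth.Agent.S18004
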