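import Groth.Statements.S18014
import Groth.Agent.H7Lim.IntegralPairs
-- import your own Groth.Agent.* helpers here

set_option autoImplicit false
universe u
open CategoryTheory CategoryTheory.Limits
open Lim

namespace Groth.Agent.S18014

/-- Let A be a commutative ring, B an A-algebra and C a B-algebra, with B and C both integral over A.
Then B → C is a filtered colimit, in the category of A-algebras, of maps B_i → C_i between
A-algebras each of which is finite and of finite presentation over A: there are a small filtered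
index category, two diagrams of A-algebras over it with a morphism of diagrams, and colimiting
cocones with vertices B and C under which the morphism of diagrams induces B → C. Moreover the
system can be chosen so that if A → B (resp. B → C, resp. A → C) is surjective then so is every A →
B_i (resp. B_i → C_i, resp. A → C_i), and if A → B (resp. B → C, resp. A → C) is surjective with
nilpotent kernel then so is every A → B_i (resp. B_i → C_i, resp. A → C_i). -/
theorem result {A B C : Type u} [CommRing A] [CommRing B]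
    [CommRing C] [Algebra A B] [Algebra A C] [Algebra B C] [IsScalarTower A B C]
    [Algebra.IsIntegral A B] [Algebra.IsIntegral A C] :
    ∃ (ι : Type u) (_ : SmallCategory ι) (_ : IsFiltered ι) (DB DC : ι ⥤ Under (CommRingCat.of A)) (τ : DB ⟶ DC)
      (cB : DB ⟶ (Functor.const ι).obj (Under.mk (CommRingCat.ofHom (algebraMap A B))))
      (cC : DC ⟶ (Functor.const ι).obj (Under.mk (CommRingCat.ofHom (algebraMap A C)))),
      Nonempty (IsColimit (Cocone.mk _ cB)) ∧ Nonempty (IsColimit (Cocone.mk _ cC)) ∧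
      (∀ i, (τ.app i).right ≫ (cC.app i).right = (cB.app i).right ≫ CommRingCat.ofHom (algebraMap B C)) ∧
      (∀ i, (DB.obj i).hom.hom.Finite ∧ (DB.obj i).hom.hom.FinitePresentation ∧
        (DC.obj i).hom.hom.Finite ∧ (DC.obj i).hom.hom.FinitePresentation) ∧
      (Function.Surjective (algebraMap A B) → ∀ i, Function.Surjective (DB.obj i).hom.hom) ∧
      (Function.Surjective (algebraMap B C) → ∀ i, Function.Surjective (τ.app i).right.hom) ∧
      (Function.Surjective (algebraMap A C) → ∀ i, Function.Surjective (DC.obj i).hom.hom) ∧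
      (Function.Surjective (algebraMap A B) → IsNilpotent (RingHom.ker (algebraMap A B)) →
        ∀ i, Function.Surjective (DB.obj i).hom.hom ∧ IsNilpotent (RingHom.ker (DB.obj i).hom.hom)) ∧
      (Function.Surjective (algebraMap B C) → IsNilpotent (RingHom.ker (algebraMap B C)) →
        ∀ i, Function.Surjective (τ.app i).right.hom ∧ IsNilpotent (RingHom.ker (τ.app i).right.hom)) ∧
      (Function.Surjective (algebraMap A C) → IsNilpotent (RingHom.ker (algebraMap A C)) →
        ∀ i, Function.Surjective (DC.obj i).hom.hom ∧ IsNilpotent (RingHom.ker (DC.obj i).hom.hom)) := by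
  let g : B →ₐ[A] C := IsScalarTower.toAlgHom A B C
  let ι : Type u := {q : H17.FPUH.Idx₀ A B × H17.FPUH.Idx₀ A C // H7Lim.Pres.Good g q.1 q.2}
  let p₁ : ι → H17.FPUH.Idx₀ A B := fun q => q.1.1
  let p₂ : ι → H17.FPUH.Idx₀ A C := fun q => q.1.2
  have hp₁ : Monotone p₁ := fun _ _ h => h.1
  have hp₂ : Monotone p₂ := fun _ _ h => h.2
  have hcof : ∀ i j, ∃ k : ι, i ≤ p₁ k ∧ j ≤ p₂ k := fun i j => by
    obtain ⟨i', j', hi, hj, hG⟩ := H7Lim.Pres.exists_good (g := g) i j
    exact ⟨⟨(i', j'), hG⟩, hi, hj⟩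
  have : IsDirectedOrder ι := ⟨fun a b => by
    obtain ⟨i, hi, hi'⟩ := H7Lim.Pres.exists_sup (p₁ a) (p₁ b)
    obtain ⟨j, hj, hj'⟩ := H7Lim.Pres.exists_sup (p₂ a) (p₂ b)
    obtain ⟨k, hki, hkj⟩ := hcof i j
    exact ⟨k, ⟨hi.trans hki, hj.trans hkj⟩, ⟨hi'.trans hki, hj'.trans hkj⟩⟩⟩
  let e₁ : H17.FPUH.Idx₀ A B := ⟨(∅, ∅), fun x h => absurd h (Finset.notMem_empty x)⟩
  let e₂ : H17.FPUH.Idx₀ A C := ⟨(∅, ∅), fun x h => absurd h (Finset.notMem_empty x)⟩
  have : Nonempty ι := ⟨(hcof e₁ e₂).choose⟩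
  refine ⟨ι, inferInstance, inferInstance, H7Lim.Pres.system p₁ hp₁, H7Lim.Pres.system p₂ hp₂,
    H7Lim.Pres.natHom p₁ hp₁ p₂ hp₂ g (fun k => k.2.le), H7Lim.Pres.cocone p₁ hp₁,
    H7Lim.Pres.cocone p₂ hp₂,
    H7Lim.Pres.isColimit p₁ hp₁ (fun i => ⟨_, (hcof i e₂).choose_spec.1⟩),
    H7Lim.Pres.isColimit p₂ hp₂ (fun j => ⟨_, (hcof e₁ j).choose_spec.2⟩),
    fun k => H7Lim.Pres.natHom_cocone p₁ hp₁ p₂ hp₂ g (fun k => k.2.le) k,
    fun k => ⟨RingHom.finite_algebraMap.mpr k.2.finB,
      RingHom.finitePresentation_algebraMap.mpr (H17.FPUH.finitePresentation (p₁ k)),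
      RingHom.finite_algebraMap.mpr k.2.finC,
      RingHom.finitePresentation_algebraMap.mpr (H17.FPUH.finitePresentation (p₂ k))⟩,
    fun h k => k.2.surjB h, fun h k => k.2.surj h, fun h k => k.2.surjC h, ?_,
    fun h h' k => ⟨k.2.surj h, k.2.nil h h'⟩, ?_⟩
  · rintro h ⟨N, hN⟩ k
    refine ⟨k.2.surjB h, N, le_antisymm ((Ideal.pow_right_mono (fun a ha => ?_) N).trans hN.le) bot_le⟩
    show algebraMap A B a = 0
    rw [← (H17.FPUH.toB (p₁ k)).commutes a]
    exact (congrArg _ (RingHom.mem_ker.mp ha)).trans (map_zero _)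
  · rintro h ⟨N, hN⟩ k
    refine ⟨k.2.surjC h, N, le_antisymm ((Ideal.pow_right_mono (fun a ha => ?_) N).trans hN.le) bot_le⟩
    show algebraMap A C a = 0
    rw [← (H17.FPUH.toB (p₂ k)).commutes a]
    exact (congrArg _ (RingHom.mem_ker.mp ha)).trans (map_zero _)

end Groth.Agent.S18014
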