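import Groth.Statements.S18015
import Mathlib.RingTheory.Ideal.AssociatedPrime.Finiteness
import Mathlib.Algebra.Homology.ShortComplex.ModuleCat
-- import your own Groth.Agent.* helpers here

set_option autoImplicit false
universe u
open CategoryTheory
open Coh

namespace Groth.Agent.S18015




/-- Let A be a Noetherian commutative ring and F an additive functor from A-modules to A-modules which
is half-exact, i.e. for every short exact sequence 0 → M' → M → M'' → 0 the sequence F(M') → F(M) →
F(M'') is exact at F(M). Then F(M) is a finitely generated A-module for every finitely generated
A-module M if and only if F(A/p) is a finitely generated A-module for every prime ideal p of A. (The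
published statement takes F from quasi-coherent sheaves on Spec A to abelian groups, with A acting
on each F(M) through F; this row allows any additive functor between A-module categories, A-linear
or not, and the same argument applies, since it uses only that each map F(f) is A-linear.) -/
theorem result {A : Type u} [CommRing A] [IsNoetherianRing A]
    (F : ModuleCat.{u} A ⥤ ModuleCat.{u} A) [F.Additive]
    (hF : ∀ S : ShortComplex (ModuleCat.{u} A), S.ShortExact → (S.map F).Exact) :
    (∀ M : ModuleCat.{u} A, Module.Finite A M → Module.Finite A (F.obj M)) ↔
      ∀ p : PrimeSpectrum A, Module.Finite A (F.obj (ModuleCat.of A (A ⧸ p.asIdeal))) := by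

  constructor
  · intro h p
    exact h _ (show Module.Finite A (A ⧸ p.asIdeal) from inferInstance)
  · intro h M hM
    suffices H : Module.Finite A (F.obj (ModuleCat.of A M)) from H
    refine IsNoetherianRing.induction_on_isQuotientEquivQuotientPrime (A := A) (M := M) hM
      (motive := fun N _ _ _ => Module.Finite A (F.obj (ModuleCat.of A N))) ?_ ?_ ?_
    · intro N _ _ _ _
      have hz : Limits.IsZero (ModuleCat.of A N) := ModuleCat.isZero_of_subsingleton _
      have := ModuleCat.subsingleton_of_isZero (F.map_isZero hz)
      infer_instance
    · intro N _ _ _ p e
      have := h p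
      exact Module.Finite.equiv (F.mapIso e.toModuleIso).toLinearEquiv.symm
    · intro N₁ _ _ _ N₂ _ _ _ N₃ _ _ _ f g hf hg hfg h₁ h₃
      let S : ShortComplex (ModuleCat.{u} A) :=
        ShortComplex.mk (ModuleCat.ofHom f) (ModuleCat.ofHom g)
          (by ext x; exact hfg.apply_apply_eq_zero x)
      have hS : S.ShortExact :=
        { exact := (ShortComplex.ShortExact.moduleCat_exact_iff_function_exact S).mpr hfg
          mono_f := (ModuleCat.mono_iff_injective _).mpr hf
          epi_g := (ModuleCat.epi_iff_surjective _).mpr hg }
      have hex := (ShortComplex.ShortExact.moduleCat_exact_iff_function_exact _).mp (hF S hS)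
      let g' := (F.map (ModuleCat.ofHom g)).hom
      let f' := (F.map (ModuleCat.ofHom f)).hom
      refine ⟨Submodule.fg_of_fg_map_of_fg_inf_ker g' ?_ ?_⟩
      · rw [Submodule.map_top]
        exact IsNoetherian.noetherian _
      · have hker : LinearMap.ker g' = LinearMap.range f' := LinearMap.exact_iff.mp hex
        rw [top_inf_eq, hker, LinearMap.range_eq_map]
        exact Module.Finite.fg_top.map _


end Groth.Agent.S18015
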