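import Groth.Statements.S18016
import Groth.Agent.H7Lim.NilPairsFibre
-- import your own Groth.Agent.* helpers here

set_option autoImplicit false
universe u
open CategoryTheory CategoryTheory.Limits
open Lim

namespace Groth.Agent.S18016

/-- In ring form, let R be a commutative ring, f : B → D any map of R-algebras and i : D' → D a
surjective map of R-algebras every element of whose kernel is nilpotent (so Spec D → Spec D' is a
locally nilpotent closed immersion of affine R-schemes and Spec D → Spec B is affine), and let q₁ :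
P → B, q₂ : P → D' exhibit P as the fibre product ring B ×_D D' (the pushout of the two affine
schemes). Then the diagram B → D ← D' is a filtered colimit, in R-algebras, of diagrams B_j → D_j ←
D'_j of R-algebras of finite presentation in which D'_j → D_j is surjective with locally nilpotent
kernel; and the fibre products P_j = B_j ×_{D_j} D'_j form a compatible diagram whose colimit is P.
Moreover: if f is surjective (resp. surjective with locally nilpotent kernel, resp. integral) then
every B_j → D_j can be taken surjective (resp. surjective with locally nilpotent kernel, resp.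
integral). (The published statement also covers two further classes, maps that become a closed or a
locally nilpotent immersion after composing with a locally nilpotent closed immersion; those two
clauses are not stated here.) -/
theorem result {R B D D' P : Type u} [CommRing R] [CommRing B]
    [CommRing D] [CommRing D'] [CommRing P] [Algebra R B] [Algebra R D] [Algebra R D'] [Algebra R P]
    (f : B →ₐ[R] D) (i : D' →ₐ[R] D) (hi : Function.Surjective i)
    (hnil : ∀ x ∈ RingHom.ker i.toRingHom, IsNilpotent x) (q₁ : P →ₐ[R] B) (q₂ : P →ₐ[R] D')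
    (hP : IsPullback (CommRingCat.ofHom q₁.toRingHom) (CommRingCat.ofHom q₂.toRingHom)
      (CommRingCat.ofHom f.toRingHom) (CommRingCat.ofHom i.toRingHom)) :
    ∃ (ι : Type u) (_ : SmallCategory ι) (_ : IsFiltered ι) (DB DD DD' DP : ι ⥤ Under (CommRingCat.of R))
      (φ : DB ⟶ DD) (ψ : DD' ⟶ DD) (π₁ : DP ⟶ DB) (π₂ : DP ⟶ DD')
      (cB : DB ⟶ (Functor.const ι).obj (Under.mk (CommRingCat.ofHom (algebraMap R B))))
      (cD : DD ⟶ (Functor.const ι).obj (Under.mk (CommRingCat.ofHom (algebraMap R D))))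
      (cD' : DD' ⟶ (Functor.const ι).obj (Under.mk (CommRingCat.ofHom (algebraMap R D'))))
      (cP : DP ⟶ (Functor.const ι).obj (Under.mk (CommRingCat.ofHom (algebraMap R P)))),
      Nonempty (IsColimit (Cocone.mk _ cB)) ∧ Nonempty (IsColimit (Cocone.mk _ cD)) ∧
      Nonempty (IsColimit (Cocone.mk _ cD')) ∧ Nonempty (IsColimit (Cocone.mk _ cP)) ∧
      (∀ j, (φ.app j).right ≫ (cD.app j).right = (cB.app j).right ≫ CommRingCat.ofHom f.toRingHom) ∧
      (∀ j, (ψ.app j).right ≫ (cD.app j).right = (cD'.app j).right ≫ CommRingCat.ofHom i.toRingHom) ∧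
      (∀ j, (π₁.app j).right ≫ (cB.app j).right = (cP.app j).right ≫ CommRingCat.ofHom q₁.toRingHom) ∧
      (∀ j, (π₂.app j).right ≫ (cD'.app j).right = (cP.app j).right ≫ CommRingCat.ofHom q₂.toRingHom) ∧
      (∀ j, (DB.obj j).hom.hom.FinitePresentation ∧ (DD.obj j).hom.hom.FinitePresentation ∧
        (DD'.obj j).hom.hom.FinitePresentation) ∧
      (∀ j, Function.Surjective (ψ.app j).right.hom ∧ ∀ x ∈ RingHom.ker (ψ.app j).right.hom, IsNilpotent x) ∧
      (∀ j, IsPullback (π₁.app j).right (π₂.app j).right (φ.app j).right (ψ.app j).right) ∧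
      (Function.Surjective f → ∀ j, Function.Surjective (φ.app j).right.hom) ∧
      (Function.Surjective f → (∀ x ∈ RingHom.ker f.toRingHom, IsNilpotent x) →
        ∀ j, Function.Surjective (φ.app j).right.hom ∧ ∀ x ∈ RingHom.ker (φ.app j).right.hom, IsNilpotent x) ∧
      (f.toRingHom.IsIntegral → ∀ j, (φ.app j).right.hom.IsIntegral) := by
  let ι₀ : Type u := {t : H17.FPUH.Idx₀ R B × H17.FPUH.Idx₀ R D × H17.FPUH.Idx₀ R D' //
    H7Lim.Pres.NilGood f i t.1 t.2.1 t.2.2}
  let p : ι₀ → H17.FPUH.Idx₀ R B := fun t => t.1.1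
  let r : ι₀ → H17.FPUH.Idx₀ R D := fun t => t.1.2.1
  let q : ι₀ → H17.FPUH.Idx₀ R D' := fun t => t.1.2.2
  have hp : Monotone p := fun _ _ h => h.1
  have hr : Monotone r := fun _ _ h => h.2.1
  have hq : Monotone q := fun _ _ h => h.2.2
  have hnil' : ∀ x, i x = 0 → IsNilpotent x := fun x hx => hnil x (RingHom.mem_ker.mpr hx)
  have hcof : ∀ a d c, ∃ k : ι₀, a ≤ p k ∧ d ≤ r k ∧ c ≤ q k := fun a d c => by
    obtain ⟨a', d', c', ha, hd, hc, hG⟩ := H7Lim.Pres.exists_nilGood f i hi hnil' a d c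
    exact ⟨⟨(a', d', c'), hG⟩, ha, hd, hc⟩
  have : IsDirectedOrder ι₀ := ⟨fun s t => by
    obtain ⟨a, ha, ha'⟩ := H7Lim.Pres.exists_sup (p s) (p t)
    obtain ⟨d, hd, hd'⟩ := H7Lim.Pres.exists_sup (r s) (r t)
    obtain ⟨c, hc, hc'⟩ := H7Lim.Pres.exists_sup (q s) (q t)
    obtain ⟨k, hka, hkd, hkc⟩ := hcof a d c
    exact ⟨k, ⟨ha.trans hka, hd.trans hkd, hc.trans hkc⟩, ⟨ha'.trans hka, hd'.trans hkd, hc'.trans hkc⟩⟩⟩
  let e₁ : H17.FPUH.Idx₀ R B := ⟨(∅, ∅), fun x h => absurd h (Finset.notMem_empty x)⟩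
  let e₂ : H17.FPUH.Idx₀ R D := ⟨(∅, ∅), fun x h => absurd h (Finset.notMem_empty x)⟩
  let e₃ : H17.FPUH.Idx₀ R D' := ⟨(∅, ∅), fun x h => absurd h (Finset.notMem_empty x)⟩
  have : Nonempty ι₀ := ⟨(hcof e₁ e₂ e₃).choose⟩
  let hf := fun k : ι₀ => k.2.lef
  let hg := fun k : ι₀ => k.2.leg
  refine ⟨ι₀, inferInstance, inferInstance, H7Lim.Pres.system p hp, H7Lim.Pres.system r hr,
    H7Lim.Pres.system q hq, H7Lim.Pres.fibSystem p hp q hq r hr f i hf hg,
    H7Lim.Pres.natHom p hp r hr f hf, H7Lim.Pres.natHom q hq r hr i hg,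
    H7Lim.Pres.fibFst p hp q hq r hr f i hf hg, H7Lim.Pres.fibSnd p hp q hq r hr f i hf hg,
    H7Lim.Pres.cocone p hp, H7Lim.Pres.cocone r hr, H7Lim.Pres.cocone q hq,
    H7Lim.Pres.fibCocone p hp q hq r hr f i hf hg q₁ q₂ hP,
    H7Lim.Pres.isColimit p hp (fun a => ⟨_, (hcof a e₂ e₃).choose_spec.1⟩),
    H7Lim.Pres.isColimit r hr (fun d => ⟨_, (hcof e₁ d e₃).choose_spec.2.1⟩),
    H7Lim.Pres.isColimit q hq (fun c => ⟨_, (hcof e₁ e₂ c).choose_spec.2.2⟩),
    H7Lim.Pres.isColimit_fib p hp q hq r hr f i hf hg q₁ q₂ hP hcof,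
    fun k => H7Lim.Pres.natHom_cocone p hp r hr f hf k,
    fun k => H7Lim.Pres.natHom_cocone q hq r hr i hg k,
    fun k => ?_, fun k => ?_,
    fun k => ⟨RingHom.finitePresentation_algebraMap.mpr (H17.FPUH.finitePresentation (p k)),
      RingHom.finitePresentation_algebraMap.mpr (H17.FPUH.finitePresentation (r k)),
      RingHom.finitePresentation_algebraMap.mpr (H17.FPUH.finitePresentation (q k))⟩,
    fun k => ⟨k.2.surjg, fun x hx => k.2.nilg x hx⟩,
    H7Lim.Pres.isPullback_fib p hp q hq r hr f i hf hg,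
    fun h k => k.2.surjf h,
    fun h h' k => ⟨k.2.surjf h, fun x hx => k.2.nilf h (fun y hy => h' y (RingHom.mem_ker.mpr hy)) x hx⟩,
    fun h k => k.2.intf h⟩
  · ext x
    exact (H7Lim.Pres.fibToP_fst p q r f i hf hg q₁ q₂ hP k x).symm
  · ext x
    exact (H7Lim.Pres.fibToP_snd p q r f i hf hg q₁ q₂ hP k x).symm

end Groth.Agent.S18016
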