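import Groth.Statements.S18017
import Groth.Agent.H06Unram.ArtinLift
import Groth.Agent.H12AlgSp.LargeFieldLift

set_option autoImplicit false
universe u
open CategoryTheory AlgebraicGeometry
open Unram

namespace Groth.Agent.S18017

/-- In the case where the S-groupoid is the base scheme S itself, let g : T → S be a morphism of
schemes, e : U → T an étale morphism and u a point of U with t = e(u). Say that T is formally versal
over S at t when, for every surjection π : C' → C of local Artinian rings, every morphism a : Spec C
→ T sending the closed point to t and inducing a surjection (hence an isomorphism) of residue fields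
κ(t) → κ, and every b : Spec C' → S compatible with a over S, there is c : Spec C' → T restricting
to a and lying over b. If T is formally versal over S at t, then U (over S via e) is formally versal
over S at u. (No Noetherian or finiteness hypotheses; a scheme has all the pushouts of local
Artinian schemes that the general statement asks of the target.) -/
theorem result {S T U : Scheme.{u}} (g : T ⟶ S) (e : U ⟶ T) [Etale e] (u : U)
    (hT : ∀ (C C' : Type u) [CommRing C] [CommRing C'] [IsLocalRing C] [IsLocalRing C'] [IsArtinianRing C]
        [IsArtinianRing C'] (π : C' →+* C), Function.Surjective π →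
        ∀ (a : Spec (CommRingCat.of C) ⟶ T) (b : Spec (CommRingCat.of C') ⟶ S),
          a (IsLocalRing.closedPoint C) = e u →
          Function.Surjective (a.residueFieldMap (IsLocalRing.closedPoint C)).hom →
          Spec.map (CommRingCat.ofHom π) ≫ b = a ≫ g →
          ∃ c : Spec (CommRingCat.of C') ⟶ T, Spec.map (CommRingCat.ofHom π) ≫ c = a ∧ c ≫ g = b) :
    ∀ (C C' : Type u) [CommRing C] [CommRing C'] [IsLocalRing C] [IsLocalRing C'] [IsArtinianRing C]
        [IsArtinianRing C'] (π : C' →+* C), Function.Surjective π →
        ∀ (a : Spec (CommRingCat.of C) ⟶ U) (b : Spec (CommRingCat.of C') ⟶ S),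
          a (IsLocalRing.closedPoint C) = u →
          Function.Surjective (a.residueFieldMap (IsLocalRing.closedPoint C)).hom →
          Spec.map (CommRingCat.ofHom π) ≫ b = a ≫ (e ≫ g) →
          ∃ c : Spec (CommRingCat.of C') ⟶ U, Spec.map (CommRingCat.ofHom π) ≫ c = a ∧ c ≫ (e ≫ g) = b := by
  intro C C' _ _ _ _ _ _ π hπ a b hau hres w
  have hfin : ((a ≫ e).residueFieldMap (IsLocalRing.closedPoint C)).hom.Finite := by
    rw [Scheme.residueFieldMap_comp]
    exact (RingHom.Finite.of_surjective _ hres).comp (H12AlgSp.finite_residueFieldMap_etale e _)
  obtain ⟨c, hc, hcg⟩ := H06Unram.ArtinLift.lift_of_finite hT π hπ (a ≫ e) b (congrArg e hau) hfin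
    (by rw [w, Category.assoc])
  obtain ⟨l, hl, hle⟩ := H06Unram.ArtinLift.exists_lift_of_nilpotent e
    (H15Magnet.EtaleLift.isFormallyEtaleHom e) π hπ (H06Unram.ArtinLift.isNilpotent_ker π) a c hc
  exact ⟨l, hl, by rw [← Category.assoc, hle, hcg]⟩

end Groth.Agent.S18017
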