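import Groth.Statements.S18018
import Groth.Agent.H06Unram.ArtinLift

set_option autoImplicit false
universe u
open CategoryTheory AlgebraicGeometry
open Unram

namespace Groth.Agent.S18018

/-- In the case where the S-groupoid is the base scheme S itself, let g : T → S be a morphism of schemes
with T affine, and t a point of T of finite type (the morphism Spec κ(t) → T is locally of finite
type). Suppose T is formally versal over S at t: for every surjection π : C' → C of local Artinian
rings, every a : Spec C → T sending the closed point to t with κ(t) → κ surjective, and every b :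
Spec C' → S compatible with a, there is c : Spec C' → T restricting to a over b. Then T is formally
smooth over S at t: the same lifting exists for all such a whose residue field extension κ(t) ⊆ κ is
only assumed finite. -/
theorem result {S T : Scheme.{u}} (g : T ⟶ S) [IsAffine T] (t : T)
    (ht : LocallyOfFiniteType (T.fromSpecResidueField t))
    (hT : ∀ (C C' : Type u) [CommRing C] [CommRing C'] [IsLocalRing C] [IsLocalRing C'] [IsArtinianRing C]
        [IsArtinianRing C'] (π : C' →+* C), Function.Surjective π →
        ∀ (a : Spec (CommRingCat.of C) ⟶ T) (b : Spec (CommRingCat.of C') ⟶ S),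
          a (IsLocalRing.closedPoint C) = t →
          Function.Surjective (a.residueFieldMap (IsLocalRing.closedPoint C)).hom →
          Spec.map (CommRingCat.ofHom π) ≫ b = a ≫ g →
          ∃ c : Spec (CommRingCat.of C') ⟶ T, Spec.map (CommRingCat.ofHom π) ≫ c = a ∧ c ≫ g = b) :
    ∀ (C C' : Type u) [CommRing C] [CommRing C'] [IsLocalRing C] [IsLocalRing C'] [IsArtinianRing C]
        [IsArtinianRing C'] (π : C' →+* C), Function.Surjective π →
        ∀ (a : Spec (CommRingCat.of C) ⟶ T) (b : Spec (CommRingCat.of C') ⟶ S),
          a (IsLocalRing.closedPoint C) = t →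
          (a.residueFieldMap (IsLocalRing.closedPoint C)).hom.Finite →
          Spec.map (CommRingCat.ofHom π) ≫ b = a ≫ g →
          ∃ c : Spec (CommRingCat.of C') ⟶ T, Spec.map (CommRingCat.ofHom π) ≫ c = a ∧ c ≫ g = b := by
  intro C C' _ _ _ _ _ _ π hπ a b hat hfin w
  exact H06Unram.ArtinLift.lift_of_finite hT π hπ a b hat hfin w

end Groth.Agent.S18018
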