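import Groth.Statements.S18019
import Mathlib.Algebra.Polynomial.Div
import Mathlib.Algebra.Polynomial.AlgebraMap
import Mathlib.RingTheory.Adjoin.Basic
import Mathlib.Algebra.CharP.Two
import Mathlib.Tactic

set_option autoImplicit false
universe u
open ClassStk

namespace Groth.Agent.S18019

open Polynomial in
/-- Let R be an integral domain of characteristic 2 and let a be a nonzero element of R, so that x ↦ x +
a defines an R-algebra involution of the polynomial ring R[x] (an action of the group of order two).
A polynomial f is invariant, f(x + a) = f(x), if and only if f belongs to the R-subalgebra generated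
by u = x (x + a); in other words the ring of invariants is the polynomial ring R[u]. -/
theorem result (R : Type u) [CommRing R] [IsDomain R]
    [CharP R 2] (a : R) (ha : a ≠ 0) (f : Polynomial R) :
    f.comp (X + C a) = f ↔ f ∈ Algebra.adjoin R ({X * (X + C a)} : Set (Polynomial R)) := by
  set q : Polynomial R := X * (X + C a) with hq
  have hqinv : q.comp (X + C a) = q := by
    have h2 : C a + C a = (0 : Polynomial R) := CharTwo.add_self_eq_zero _
    simp only [hq, mul_comp, add_comp, X_comp, C_comp]
    rw [add_assoc, h2, add_zero, mul_comm]
  constructor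
  · intro hf
    induction hn : f.natDegree using Nat.strong_induction_on generalizing f with
    | _ d ih =>
    have hqm : q.Monic := monic_X.mul (monic_X_add_C a)
    have hqd : q.natDegree = 2 := by
      rw [hq, natDegree_mul X_ne_zero (monic_X_add_C a).ne_zero, natDegree_X, natDegree_X_add_C]
    have hdiv := modByMonic_add_div f (q := q)
    set r := f %ₘ q
    set g := f /ₘ q with hg
    have hq1 : q ≠ 1 := fun h => by rw [h] at hqd; simp at hqd
    have hr : r.natDegree < 2 := hqd ▸ natDegree_modByMonic_lt f hqm hq1
    have hr1 : r = C (r.coeff 1) * X + C (r.coeff 0) := eq_X_add_C_of_natDegree_le_one (by omega)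
    have hrc : r.comp (X + C a) = r + C (r.coeff 1 * a) := by
      conv_lhs => rw [hr1]
      conv_rhs => arg 1; rw [hr1]
      simp only [add_comp, mul_comp, X_comp, C_comp, C_mul]
      ring
    have hzero : C (r.coeff 1 * a) + q * (g.comp (X + C a) - g) = 0 := by
      have := hf
      rw [← hdiv, add_comp, mul_comp, hqinv, hrc] at this
      linear_combination this
    have hgc : g.comp (X + C a) = g := by
      by_contra hne
      have : (q * (g.comp (X + C a) - g)).natDegree = (C (r.coeff 1 * a)).natDegree := by
        rw [eq_neg_of_add_eq_zero_right hzero, natDegree_neg]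
      rw [natDegree_mul hqm.ne_zero (sub_ne_zero.mpr hne), natDegree_C, hqd] at this
      omega
    rw [hgc, sub_self, mul_zero, add_zero, C_eq_zero] at hzero
    have h1 : r.coeff 1 = 0 := (mul_eq_zero.mp hzero).resolve_right ha
    rw [← hdiv, hr1, h1, map_zero, zero_mul, zero_add]
    refine add_mem (Subalgebra.algebraMap_mem _ _) (mul_mem (Algebra.subset_adjoin rfl) ?_)
    rcases eq_or_ne g 0 with h | h
    · rw [h]; exact zero_mem _
    refine ih g.natDegree ?_ g hgc rfl
    rw [← hn, hg, natDegree_divByMonic f hqm, hqd]
    have : 2 ≤ f.natDegree := by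
      by_contra hlt
      refine h ((divByMonic_eq_zero_iff hqm).mpr ?_)
      rw [degree_eq_natDegree hqm.ne_zero, hqd]
      exact lt_of_le_of_lt degree_le_natDegree (by exact_mod_cast (by omega : f.natDegree < 2))
    omega
  · intro h
    induction h using Algebra.adjoin_induction with
    | mem x hx => rw [Set.mem_singleton_iff.mp hx]; exact hqinv
    | algebraMap r => simp [← C_eq_algebraMap]
    | add x y _ _ hx hy => rw [add_comp, hx, hy]
    | mul x y _ _ hx hy => rw [mul_comp, hx, hy]

end Groth.Agent.S18019
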