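import Groth.Statements.S1802
import Groth.Agent.H4LC.AffineSections
import Groth.Agent.H4LC.Cd

set_option autoImplicit false
universe u
open AlgebraicGeometry
open LocCoh

namespace Groth.Agent.S1802

/-- For a Noetherian ring. Let I be an ideal of a Noetherian ring A with cd(A, I) = 1, i.e. H^i_I(M) = 0
for all modules M and all i ≥ 2 but H^1_I(M) ≠ 0 for some M. Then the open subscheme Spec A minus
V(I) is nonempty and affine. -/
theorem result (A : Type u) [CommRing A] [IsNoetherianRing A] (I : Ideal A) (h1 : LocCoh.CdLE A I 1) (h0 : ¬ LocCoh.CdLE A I 0) : Nonempty (↑(LocCoh.puncturedOpen A I) : Scheme.{u}) ∧ IsAffine (↑(LocCoh.puncturedOpen A I) : Scheme.{u}) := by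
  refine ⟨?_, Groth.Agent.H4LC.isAffine_puncturedOpen_of_cdLE_one I h1⟩
  by_contra hne
  have hall : ∀ p : PrimeSpectrum A, I ≤ p.asIdeal := fun p => by
    by_contra hp
    exact hne ⟨(⟨p, hp⟩ : LocCoh.puncturedOpen A I)⟩
  obtain ⟨n, hn⟩ := Ideal.exists_pow_le_of_le_radical_of_fg
    (show I ≤ (⊥ : Ideal A).radical by
      rw [Ideal.radical_eq_sInf]
      exact le_sInf fun P hP => hall ⟨P, hP.2⟩) (IsNoetherian.noetherian I)
  refine h0 fun M _ _ i hi => Groth.Agent.H4LC.subsingleton_H_of_isPowerTorsion I i M (fun m => ⟨n, fun a ha => ?_⟩) hi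
  rw [(Ideal.mem_bot).1 (hn ha), zero_smul]

end Groth.Agent.S1802
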