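import Groth.Statements.S18024
import Groth.Agent.H20Inertia.Spectrum

set_option autoImplicit false
open W4c5stacksedinertia

namespace Groth.Agent.S18024

open W4c5stacksedinertia in
/-- In the rational vector space K with basis the isomorphism classes of finite groups (the class of a
group standing for its classifying groupoid), for every `r` the kernel of `inertiaR r` is the span
of the eigenspaces of the inertia operator with eigenvalue a natural number `k < r`. -/
theorem result (r : ℕ) :
    LinearMap.ker (inertiaR r) = ⨆ k ∈ Finset.range r, Module.End.eigenspace inertia (k : ℚ) := by
  exact H20Inertia.ker_inertiaR r

end Groth.Agent.S18024
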