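import Groth.Statements.S18026
import Mathlib
import Groth.Agent.H9Hens.FinitePartScheme
import Groth.Agent.H06Unram.SmoothQF
-- import your own Groth.Agent.* helpers here

set_option autoImplicit false
universe u
open Hensel

namespace Groth.Agent.S18026

open AlgebraicGeometry CategoryTheory in
/-- Let `A` be a henselian discrete valuation ring and `f : T ⟶ Spec A` an étale surjective morphism of
schemes. Then some open subscheme `U` of `T` is finite over `Spec A` and still maps onto it; in
particular `U → Spec A` is a finite étale cover sitting inside `T` as an open subscheme (étaleness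
of the restriction is automatic, and surjectivity records that `U` meets the closed fibre). (The
published statement asks for an open component of `T` finite étale over `Spec A`; when `T` is not
separated — two copies of `Spec A` glued along the generic point — no open and closed subset of `T`
is finite over `Spec A`, while the published proof constructs an open subscheme, the spectrum of the
local ring of `T` at a point of the closed fibre; so this row asks only for an open subscheme.) -/
theorem result
    (A : Type u) [CommRing A] [IsDomain A] [IsDiscreteValuationRing A] [HenselianLocalRing A]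
    (T : Scheme.{u}) (f : T ⟶ Spec (CommRingCat.of A)) [Etale f] [Surjective f] :
    ∃ U : T.Opens, IsFinite (U.ι ≫ f) ∧ Surjective (U.ι ≫ f) := by
  obtain ⟨x, hx⟩ := f.surjective (IsLocalRing.closedPoint A)
  obtain ⟨V, hV, hxV, -⟩ := exists_isAffineOpen_mem_and_subset (x := x) (U := ⊤) trivial
  have : IsAffine V := hV
  have : LocallyQuasiFinite (V.ι ≫ f) :=
    ((H06Unram.etale_iff_smooth_and_locallyQuasiFinite (V.ι ≫ f)).mp inferInstance).2
  obtain ⟨W, -, hWfin, hWfib⟩ := H9Hens.exists_finitePart_scheme (V.ι ≫ f)
  refine ⟨V.ι ''ᵁ W, ?_, ?_⟩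
  · rw [show (V.ι ''ᵁ W).ι = (V.ι.isoImage W).inv ≫ W.ι ≫ V.ι from
      (Scheme.Hom.isoImage_inv_ι _ _).symm, Category.assoc, Category.assoc]
    infer_instance
  · have : Surjective (W.ι ≫ V.ι ≫ f) := ⟨fun y => by
      have ho : IsOpen (Set.range (W.ι ≫ V.ι ≫ f).base) := (W.ι ≫ V.ι ≫ f).isOpenMap.isOpen_range
      exact (IsLocalRing.specializes_closedPoint y).mem_open ho
        ⟨⟨⟨x, hxV⟩, hWfib ⟨x, hxV⟩ hx⟩, hx⟩⟩
    rw [show (V.ι ''ᵁ W).ι = (V.ι.isoImage W).inv ≫ W.ι ≫ V.ι from
      (Scheme.Hom.isoImage_inv_ι _ _).symm, Category.assoc, Category.assoc]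
    infer_instance

end Groth.Agent.S18026
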