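import Groth.Statements.S18027
import Groth.Agent.H19Grp.Dimension
import Groth.Agent.H19Grp.GrpToGrpd

set_option autoImplicit false
set_option linter.style.haveILetI false
universe u
open CategoryTheory MonoidalCategory CartesianMonoidalCategory MonObj GrpObj AlgebraicGeometry CategoryTheory.Limits
open AlgGrp

namespace Groth.Agent.S18027

theorem exists_series_last {X : Scheme.{u}} (x : X) [IsNoetherianRing (X.presheaf.stalk x)] :
    ∃ p : LTSeries X, p.head = x ∧ (p.length : ℕ∞) = Order.coheight x := by
  have hlt : ringKrullDim (X.presheaf.stalk x) < ⊤ := ringKrullDim_lt_top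
  rw [ringKrullDim_stalk_eq_coheight] at hlt
  obtain ⟨n, hn⟩ := ENat.ne_top_iff_exists.mp (show Order.coheight x ≠ ⊤ from fun h => by
    rw [h] at hlt; exact lt_irrefl _ hlt)
  obtain ⟨p, hp, hl⟩ := Order.exists_series_of_le_coheight x (n := n) hn.le
  exact ⟨p, hp, by rw [hl]; exact hn⟩


/-- Let `k` be a field and `u : G ⟶ H` a homomorphism of smooth `k`-group schemes which is a closed
immersion, where `G` and `H` have the same dimension. Then `u` carries the connected component of
the identity of `G` onto the connected component of the identity of `H`; as `u` is a closed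
immersion and `H` is reduced, `u` therefore restricts to an isomorphism between the identity
components. (The second printed assertion, on the groups of components, is not included.) -/
theorem result (k : Type u) [Field k]
    (G H : Over (Spec (CommRingCat.of k))) [GrpObj G] [GrpObj H]
    [Smooth G.hom] [Smooth H.hom] (u : G ⟶ H) [IsMonHom u] [IsClosedImmersion u.left]
    (hdim : topologicalKrullDim ↥G.left = topologicalKrullDim ↥H.left)
    (t : ↥((𝟙_ (Over (Spec (CommRingCat.of k)))).left)) :
    ⇑u.left.base '' connectedComponent (η[G].left.base t) = connectedComponent (η[H].left.base t) := by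
  set GG := Groth.Agent.H19Grp.grpToGrpd G
  set HH := Groth.Agent.H19Grp.grpToGrpd H
  have hG : η[G].left.base t = Groth.Agent.H19Grp.ePt GG (Iso.refl _) :=
    congrArg η[G].left (Subsingleton.elim (α := PrimeSpectrum k) _ _)
  have hH : η[H].left.base t = Groth.Agent.H19Grp.ePt HH (Iso.refl _) :=
    congrArg η[H].left (Subsingleton.elim (α := PrimeSpectrum k) _ _)
  have hu : u.left (η[G].left.base t) = η[H].left.base t := by
    show (η[G] ≫ u).left t = _
    rw [IsMonHom.one_hom (f := u)]
  apply Set.Subset.antisymm
  · exact (isConnected_connectedComponent.image _ u.left.continuous.continuousOn).subset_connectedComponent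
      ⟨_, mem_connectedComponent, hu⟩
  haveI : IsLocallyNoetherian G.left := LocallyOfFiniteType.isLocallyNoetherian G.hom
  obtain ⟨p, hp, hpl⟩ := exists_series_last (η[G].left.base t)
  have hemb := u.left.isClosedEmbedding.toIsEmbedding
  have hmono : StrictMono (fun x : G.left => u.left x) := by
    intro a b hab
    refine lt_of_le_not_ge ((hab.le : b ⤳ a).map u.left.continuous) fun h => ?_
    exact (lt_iff_le_not_ge.mp hab).2 (hemb.isInducing.specializes_iff.mp h)
  let q := p.map _ hmono
  have hd : Groth.Agent.H19Grp.zeta (α := H.left) (η[H].left.base t) ≤ q.last ∧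
      q.last ⤳ η[H].left.base t := by
    have hq : q.last ⤳ η[H].left.base t := by
      rw [← hu, ← hp]
      exact ((LTSeries.monotone p (Fin.zero_le _) : p.head ≤ p.last) : p.last ⤳ p.head).map
        u.left.continuous
    refine ⟨?_, hq⟩
    have hd' := Groth.Agent.H19Grp.dirGen HH (Iso.refl _)
    by_contra hne
    have hlt : q.last < Groth.Agent.H19Grp.zeta (α := H.left) (η[H].left.base t) := by
      refine lt_of_le_not_ge ?_ hne
      show Groth.Agent.H19Grp.zeta (α := H.left) (η[H].left.base t) ⤳ q.last
      rw [← Groth.Agent.H19Grp.zeta_eq_of_specializes hd' hq]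
      exact Groth.Agent.H19Grp.zeta_specializes _
    have h1 := Order.length_le_coheight_head (p := q.snoc _ hlt)
    rw [RelSeries.head_snoc] at h1
    have hqh : q.head = η[H].left.base t := by
      show u.left p.head = _
      rw [hp, hu]
    have h2 := Groth.Agent.H19Grp.topologicalKrullDim_eq_coheight GG (Iso.refl _)
    have h3 := Groth.Agent.H19Grp.topologicalKrullDim_eq_coheight HH (Iso.refl _)
    rw [← hG] at h2; rw [← hH] at h3
    have h4 : Order.coheight (η[G].left.base t) = Order.coheight (η[H].left.base t) :=
      WithBot.coe_injective (h2.symm.trans (hdim.trans h3))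
    rw [hqh, ← h4, ← hpl] at h1
    simp [q] at h1
    norm_cast at h1
    omega
  intro y hy
  rw [hH] at hy
  have hy' : y ∈ irreducibleComponent (Groth.Agent.H19Grp.ePt HH (Iso.refl _)) := by
    rw [← Groth.Agent.H19Grp.connectedComponent_eq_irreducibleComponent HH (Iso.refl _)]
    exact hy
  rw [← hH, ← (Groth.Agent.H19Grp.isGenericPoint_zeta (α := H.left) (η[H].left.base t)).def] at hy'
  have h5 : y ∈ closure {q.last} :=
    closure_minimal (Set.singleton_subset_iff.mpr
      ((hd.1 : q.last ⤳ _).mem_closure)) isClosed_closure hy'
  have h6 : closure {u.left p.last} ⊆ u.left '' closure {p.last} :=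
    closure_minimal (Set.singleton_subset_iff.mpr ⟨p.last, subset_closure rfl, rfl⟩)
      (u.left.isClosedMap _ isClosed_closure)
  obtain ⟨x, hx, hxy⟩ := h6 h5
  refine ⟨x, ?_, hxy⟩
  have hpt : p.last ⤳ η[G].left.base t :=
    hp ▸ (LTSeries.monotone p (Fin.zero_le _) : p.head ≤ p.last)
  exact isIrreducible_singleton.closure.isConnected.subset_connectedComponent hpt.mem_closure hx

end Groth.Agent.S18027
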