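import Groth.Statements.S18028
import Groth.Agent.H9GalCoh.Complement.Main
-- import your own Groth.Agent.* helpers here

set_option autoImplicit false
universe u
open Hensel

namespace Groth.Agent.S18028

/-- Let `A` be a henselian discrete valuation ring with fraction field `K`, `L` a separable closure of
`K` and `B` a valuation subring of `L` lying over `A`. Then the inertia subgroup of `B` has a closed
complement inside the decomposition subgroup of `B` in `Gal(L/K)` (Krull topology): the inertia
exact sequence of the absolute Galois group of `K` is split as an extension of profinite groups.
(`A` being henselian, the decomposition subgroup is the whole Galois group; the row does not use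
this.) -/
theorem result
    (K : Type u) [Field K] (A : ValuationSubring K) [IsDiscreteValuationRing A] [HenselianLocalRing A]
    (L : Type u) [Field L] [Algebra K L] [IsSepClosure K L]
    (B : ValuationSubring L) (hB : ∀ x : K, algebraMap K L x ∈ B ↔ x ∈ A) :
    ∃ H : Subgroup (B.decompositionSubgroup K),
      IsClosed ((H.map (B.decompositionSubgroup K).subtype : Subgroup (L ≃ₐ[K] L)) : Set (L ≃ₐ[K] L)) ∧
      H ⊓ B.inertiaSubgroup K = ⊥ ∧ H ⊔ B.inertiaSubgroup K = ⊤ := by
  haveI : IsGalois K L := inferInstance
  haveI : IsSepClosed L := IsSepClosure.sep_closed K
  exact H9GalCoh.Complement.exists_closed_complement (K := K) (B := B)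

end Groth.Agent.S18028
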