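import Groth.Statements.S18029
import Groth.Agent.H06GenSub.CommSpread
import Groth.Agent.H21Cent.SubObj

set_option autoImplicit false
universe u
open CategoryTheory MonoidalCategory CartesianMonoidalCategory MonObj GrpObj AlgebraicGeometry CategoryTheory.Limits
open AlgGrp

namespace Groth.Agent.S18029

open Groth.Agent Groth.Agent.H06GenSub
open scoped CategoryTheory.Obj

set_option backward.isDefEq.respectTransparency false
set_option linter.style.haveILetI false
set_option synthInstance.maxHeartbeats 100000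

/-- Closed subgroups of the generic fibre spread out. Let `X` be an integral scheme with generic point
`η : Spec K(X) ⟶ X`, `G` an affine `X`-group scheme locally of finite presentation and `H_η` a
closed subgroup scheme of the generic fibre `G_η = G ×_X Spec K(X)`. Then there are a non-empty open
`U ⊆ X` (through which `η` factors) and a closed subgroup scheme `H_U` of `G ×_X U` whose generic
fibre is `H_η`: a cartesian square presents `H_η` as `H_U ×_U Spec K(X)`, compatibly with the
embeddings into `G`. -/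
theorem result
    (X : Scheme.{u}) [IsIntegral X] (G : Over X) [GrpObj G]
    [IsAffineHom G.hom] [LocallyOfFinitePresentation G.hom]
    (Hη : Over (Spec X.functionField)) [GrpObj Hη]
    (i : Hη ⟶ Red.bc (X.fromSpecStalk (genericPoint X)) G) [IsMonHom i] [IsClosedImmersion i.left] :
    ∃ (U : X.Opens) (ηU : Spec X.functionField ⟶ (U : Scheme.{u})) (HU : Over (U : Scheme.{u}))
      (_ : GrpObj HU) (j : HU ⟶ Red.bc U.ι G) (φ : Hη.left ⟶ HU.left),
      ηU ≫ U.ι = X.fromSpecStalk (genericPoint X) ∧ IsMonHom j ∧ IsClosedImmersion j.left ∧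
      IsPullback φ Hη.hom HU.hom ηU ∧
      φ ≫ j.left ≫ pullback.fst G.hom U.ι = i.left ≫ pullback.fst G.hom (X.fromSpecStalk (genericPoint X)) := by
  let e₀ := X.fromSpecStalk (genericPoint X)
  haveI : Flat e₀ := H22Alg.flat_fromSpecStalk X _
  haveI : QuasiCompact e₀ := by
    refine ⟨fun W _ _ => Set.Subsingleton.isCompact ?_⟩
    intro a _ b _
    exact Subsingleton.elim (α := PrimeSpectrum X.functionField) a b
  haveI : IsSchemeTheoreticallyDominant e₀ := by
    haveI : IsDominant e₀ := by
      refine ⟨dense_iff_closure_eq.mpr ?_⟩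
      refine Set.eq_univ_of_univ_subset ((genericPoint_closure _).ge.trans (closure_mono ?_))
      rintro _ rfl
      exact ⟨IsLocalRing.closedPoint _, Scheme.fromSpecStalk_closedPoint⟩
    exact .of_isDominant _
  obtain ⟨Z, z, _, c, _, hcz⟩ := CommSpread.exists_closure e₀ i
  haveI : LocallyOfFiniteType Z.hom := by rw [← Over.w z]; infer_instance
  haveI : QuasiCompact Z.hom := by rw [← Over.w z]; infer_instance
  obtain ⟨U, hU, hflat, -⟩ := CommSpread.exists_flat_lfp Z
  let D := Red.bc U.ι Z
  let G' := Red.bc U.ι G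
  let d : D ⟶ G' := (Over.pullback U.ι).map z
  haveI : Flat D.hom := CommSpread.of_restrict @Flat Z le_rfl hflat
  haveI : IsClosedImmersion d.left := CommSpread.isClosedImmersion_map U.ι z
  haveI : Mono d := Over.mono_of_mono_left _
  let F := Over.pullback e₀
  let φ : ∀ T : Over (U : Scheme.{u}), (T ⟶ G') →* (Red.bc e₀ ((Over.map U.ι).obj T) ⟶ Red.bc e₀ G) := fun T =>
    (MonoidHom.mk' (fun g => F.map g) fun g h => Functor.map_mul _ _ _).comp (Adj.equiv U.ι G T).toMonoidHom
  have hφd : ∀ (T : Over (U : Scheme.{u})) (x : T ⟶ D), φ T (x ≫ d) ∈ Adj.subPts i _ := fun T x => by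
    refine ⟨F.map (Adj.push U.ι x) ≫ inv c, ?_⟩
    show (F.map (Adj.push U.ι x) ≫ inv c) ≫ i = F.map (Adj.push U.ι (x ≫ (Over.pullback U.ι).map z))
    rw [Adj.push_comp_map, F.map_comp, Category.assoc, ← hcz, IsIso.inv_hom_id_assoc]
  have hfac : ∀ (T : Over (U : Scheme.{u})) [Flat T.hom] (f : T ⟶ G'),
      φ T f ∈ Adj.subPts i _ → ∃ g, g ≫ d = f := fun T _ f hf => by
    obtain ⟨x, hx⟩ := hf
    haveI : Flat ((Over.map U.ι).obj T).hom := inferInstanceAs (Flat (T.hom ≫ U.ι))
    obtain ⟨g, hg⟩ := CommSpread.factor_generic e₀ z (Adj.push U.ι f)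
      ⟨x ≫ c, by rw [Category.assoc, hcz]; exact hx⟩
    exact ⟨Adj.pull U.ι g, by rw [← Adj.pull_comp, hg, Adj.pull_push]⟩
  haveI : Flat (D ⊗ D).hom := inferInstanceAs (Flat (pullback.fst D.hom D.hom ≫ D.hom))
  haveI : Flat (𝟙_ (Over (U : Scheme.{u}))).hom := inferInstanceAs (Flat (𝟙 (U : Scheme.{u})))
  obtain ⟨inst, hd⟩ := H21Cent.exists_grpObj_of_mono d
    (hfac (𝟙_ _) 1 (by rw [map_one]; exact one_mem _))
    (hfac (D ⊗ D) ((fst D D ≫ d) * (snd D D ≫ d)) (by rw [map_mul]; exact mul_mem (hφd _ _) (hφd _ _)))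
    (hfac D d⁻¹ (by rw [map_inv]; exact inv_mem (by simpa using hφd D (𝟙 D))))
  have hr : Set.range e₀ ⊆ Set.range U.ι := by
    rw [Scheme.range_fromSpecStalk, Scheme.Opens.range_ι]
    intro y hy
    exact (Specializes.mem_open hy U.2 hU)
  let eU : Spec X.functionField ⟶ (U : Scheme.{u}) := IsOpenImmersion.lift U.ι e₀ hr
  have heU : eU ≫ U.ι = e₀ := IsOpenImmersion.lift_fac _ _ _
  haveI : IsIso c.left := inferInstanceAs (IsIso ((Over.forget _).map c))
  let cφ : Hη.left ⟶ D.left := pullback.lift (c.left ≫ pullback.fst Z.hom e₀) (Hη.hom ≫ eU) (by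
    rw [Category.assoc, Category.assoc, pullback.condition, heU, ← Category.assoc]
    exact congrArg (· ≫ e₀) (Over.w c))
  refine ⟨U, eU, D, inst, d, cφ, heU, hd, inferInstance, ?_, ?_⟩
  · refine IsPullback.of_right ?_ (pullback.lift_snd _ _ _) (IsPullback.of_hasPullback Z.hom U.ι)
    rw [pullback.lift_fst, heU]
    exact (IsPullback.of_hasPullback Z.hom e₀).of_iso (asIso c.left).symm (Iso.refl _) (Iso.refl _) (Iso.refl _)
      (by simp) (by simp [← Over.w c]) (by simp) (by simp)
  · rw [show d.left ≫ pullback.fst G.hom U.ι = pullback.fst Z.hom U.ι ≫ z.left from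
      (CommSpread.isPullback_map U.ι z).w.symm, pullback.lift_fst_assoc, Category.assoc,
      (CommSpread.isPullback_map e₀ z).w, ← hcz, Over.comp_left, Category.assoc]

end Groth.Agent.S18029
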