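import Groth.Statements.S1803
import Groth.Agent.H02CA.GorRing
import Mathlib

set_option autoImplicit false
universe u
open scoped TensorProduct
open Goren

namespace Groth.Agent.S1803

/-- Let k'/k be any field extension, C a k-algebra of finite type, q a prime of C ⊗_k k' and p its
contraction to C. Then C_p is Gorenstein if and only if (C ⊗_k k')_q is Gorenstein. -/
theorem result (k k' : Type u) [Field k] [Field k'] [Algebra k k'] (C : Type u) [CommRing C] [Algebra k C] [Algebra.FiniteType k C] (q : PrimeSpectrum (C ⊗[k] k')) : LocCoh.IsGorensteinLocalRing (Localization.AtPrime (q.asIdeal.comap (algebraMap C (C ⊗[k] k')))) ↔ LocCoh.IsGorensteinLocalRing (Localization.AtPrime q.asIdeal) := by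
  haveI : IsNoetherianRing C := Algebra.FiniteType.isNoetherianRing k C
  haveI : IsNoetherianRing (C ⊗[k] k') := by
    haveI : IsNoetherianRing (k' ⊗[k] C) := Algebra.FiniteType.isNoetherianRing k' (k' ⊗[k] C)
    exact isNoetherianRing_of_ringEquiv _ (Algebra.TensorProduct.comm k k' C).toRingEquiv
  set p := q.asIdeal.comap (algebraMap C (C ⊗[k] k')) with hp
  haveI : p.IsPrime := by rw [hp]; infer_instance
  have hfg : ∃ s : Finset p.ResidueField,
      IntermediateField.adjoin k (s : Set p.ResidueField) = ⊤ := by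
    haveI : Algebra.EssFiniteType k p.ResidueField := Algebra.EssFiniteType.comp k C p.ResidueField
    obtain ⟨s, hs⟩ := IntermediateField.fg_top_iff.mpr (inferInstance : Algebra.EssFiniteType k p.ResidueField)
    exact ⟨s, hs⟩
  haveI hF : LocCoh.IsGorensteinRing (p.Fiber (C ⊗[k] k')) :=
    Groth.Agent.H02CA.GorFlat.isGorensteinRing_of_ringEquiv
      ((Algebra.TensorProduct.comm k k' p.ResidueField).toRingEquiv.trans
        (Algebra.TensorProduct.cancelBaseChange k C C p.ResidueField k').toRingEquiv.symm)
      (Groth.Agent.H02CA.GorFlat.isGorensteinRing_field_tensor k k' p.ResidueField hfg)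
  let Q := PrimeSpectrum.preimageEquivFiber C (C ⊗[k] k') ⟨p, inferInstance⟩
    ⟨q, PrimeSpectrum.ext hp.symm⟩
  have hQ : Q.asIdeal.comap Algebra.TensorProduct.includeRight = q.asIdeal :=
    congr($((PrimeSpectrum.preimageEquivFiber C (C ⊗[k] k')
      ⟨p, inferInstance⟩).left_inv ⟨q, PrimeSpectrum.ext hp.symm⟩).1.asIdeal)
  rw [← Groth.Agent.H02CA.GorFlat.gor_congr hQ, Groth.Agent.H02CA.GorFlat.gor_iff_fibre p Q.asIdeal,
    and_iff_left (hF.isGorensteinLocalRing_localization _)]

end Groth.Agent.S1803
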