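import Groth.Statements.S1804
import Groth.Agent.H4DR.RG.Change

set_option autoImplicit false
universe u
open CategoryTheory
attribute [local instance] HasDerivedCategory.standard
open LocCoh

namespace Groth.Agent.S1804

/-- For Noetherian rings and stated on cohomology. Suppose A → B is a ring map between Noetherian rings,
I is an ideal of A whose extension to B is J = IB, and K is an object of D(B). For every i, the
A-module H^i_I of the restriction of K to D(A) (the direct limit of Hom(A/I^n, K[i])) is isomorphic
to the restriction to A of the B-module H^i_J(K). -/
theorem result (A B : Type u) [CommRing A] [CommRing B] [Algebra A B] [IsNoetherianRing A] [IsNoetherianRing B] (I : Ideal A) (K : Dual.D B) (i : ℤ) : Nonempty (Dual2.HDI A I ((DRing.restrictD (algebraMap A B)).obj K) i ≅ (ModuleCat.restrictScalars (algebraMap A B)).obj (Dual2.HDI B (I.map (algebraMap A B)) K i)) := by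
  exact Groth.Agent.H4DR.RG.nonempty_HDI_restrict I K i

end Groth.Agent.S1804
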