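import Groth.Statements.S18040
import Mathlib.RingTheory.MvPolynomial.Homogeneous
import Mathlib.LinearAlgebra.Dual.Lemmas
import Mathlib.LinearAlgebra.FiniteDimensional.Lemmas
import Mathlib.Algebra.Module.Submodule.Union
import Mathlib.Tactic

set_option autoImplicit false
universe u
open AdjLin

namespace Groth.Agent.S18040

open Module

/-- Evaluation of forms of degree `j` at the points of `Z`. -/
noncomputable def ev {k : Type u} [Field k] (Z : Finset (Projectivization k (Fin 4 → k))) (j : ℕ) :
    MvPolynomial.homogeneousSubmodule (Fin 4) k j →ₗ[k] (↥Z → k) :=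
  (LinearMap.pi fun z : ↥Z => (MvPolynomial.aeval (R := k) z.1.rep).toLinearMap) ∘ₗ
    (MvPolynomial.homogeneousSubmodule (Fin 4) k j).subtype

theorem ev_apply {k : Type u} [Field k] (Z : Finset (Projectivization k (Fin 4 → k))) (j : ℕ)
    (p : MvPolynomial.homogeneousSubmodule (Fin 4) k j) (z : ↥Z) :
    ev Z j p z = MvPolynomial.eval z.1.rep (p : MvPolynomial (Fin 4) k) := by
  simp [ev]

/-- In the orthogonal of a subspace containing no coordinate vector some vector has no zero coordinate. -/
theorem exists_weight {k : Type u} [Field k] [Infinite k] {ι : Type*} [Fintype ι] [DecidableEq ι]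
    (E : Submodule k (ι → k)) (h : ∀ i : ι, (Pi.single i 1 : ι → k) ∉ E) :
    ∃ w : ι → k, (∀ i, w i ≠ 0) ∧ ∀ f ∈ E, ∑ i, w i * f i = 0 := by
  by_contra hc
  push Not at hc
  -- weights killing `E`
  let B : (ι → k) →ₗ[k] Module.Dual k (ι → k) := LinearMap.mk₂ k (fun w f => ∑ i, w i * f i)
    (fun a b f => by simp [add_mul, Finset.sum_add_distrib])
    (fun c a f => by simp [Finset.mul_sum, mul_assoc])
    (fun a f g => by simp [mul_add, Finset.sum_add_distrib])
    (fun c a f => by simp [Finset.mul_sum, mul_left_comm])
  let O : Submodule k (ι → k) := (E.dualAnnihilator).comap B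
  have hO : ∀ i : ι, ∃ w ∈ O, w i ≠ 0 := fun i => by
    obtain ⟨φ, hφ, hE⟩ := Submodule.exists_dual_map_eq_bot_of_notMem (h i) inferInstance
    have hB : B (fun j => φ (Pi.single j 1)) = φ := LinearMap.ext fun f => by
      conv_rhs => rw [pi_eq_sum_univ' f, map_sum]
      simp [B, mul_comm]
    refine ⟨fun j => φ (Pi.single j 1), ?_, hφ⟩
    rw [Submodule.mem_comap, hB, Submodule.mem_dualAnnihilator]
    intro f hf
    have : φ f ∈ Submodule.map φ E := Submodule.mem_map_of_mem hf
    rwa [hE, Submodule.mem_bot] at this
  let p : ι → Submodule k O := fun i => LinearMap.ker ((LinearMap.proj i : (ι → k) →ₗ[k] k) ∘ₗ O.subtype)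
  have hp : ∀ i, p i ≠ ⊤ := fun i htop => by
    obtain ⟨w, hw, hwi⟩ := hO i
    have : (⟨w, hw⟩ : O) ∈ p i := htop ▸ Submodule.mem_top
    exact hwi this
  have hu := Submodule.iUnion_ssubset_of_forall_ne_top_of_card_lt (K := k) (M := O) Finset.univ p
    hp (by simp)
  obtain ⟨w, -, hw⟩ := Set.exists_of_ssubset hu
  have hw' : ∀ i, (w : ι → k) i ≠ 0 := fun i hi => hw (Set.mem_iUnion₂.2 ⟨i, Finset.mem_univ i, hi⟩)
  obtain ⟨f, hf, hne⟩ := hc _ hw'
  exact hne ((Submodule.mem_dualAnnihilator _).1 w.2 f hf)

theorem finrank_le_of_orth {k : Type u} [Field k] {ι : Type*} [Fintype ι] (w : ι → k) (hw : ∀ i, w i ≠ 0)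
    (E F : Submodule k (ι → k)) (h : ∀ f ∈ E, ∀ g ∈ F, ∑ i, w i * (f i * g i) = 0) :
    finrank k E + finrank k F ≤ Fintype.card ι := by
  classical
  let B : (ι → k) →ₗ[k] Module.Dual k (ι → k) := LinearMap.mk₂ k (fun f g => ∑ i, w i * (f i * g i))
    (fun a b g => by simp [add_mul, mul_add, Finset.sum_add_distrib])
    (fun c a g => by simp [Finset.mul_sum, mul_assoc, mul_left_comm])
    (fun a f g => by simp [mul_add, Finset.sum_add_distrib])
    (fun c a g => by simp [Finset.mul_sum, mul_left_comm])
  have hB : Function.Injective B := by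
    rw [injective_iff_map_eq_zero]
    intro f hf
    funext i
    have := DFunLike.congr_fun hf (Pi.single i 1)
    simpa [B, Pi.single_apply, hw i] using this
  have hsub : E.map B ≤ F.dualAnnihilator := by
    rintro _ ⟨f, hf, rfl⟩
    exact (Submodule.mem_dualAnnihilator _).2 (h f hf)
  have h1 := Submodule.finrank_mono hsub
  rw [← (Submodule.equivMapOfInjective B hB E).finrank_eq] at h1
  have h2 := Subspace.finrank_add_finrank_dualAnnihilator_eq F
  rw [Module.finrank_pi] at h2
  omega

/-- Let k be an algebraically closed field of characteristic zero and Z a finite set of points of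
projective 3-space over k, realised as points of the projectivization of k⁴, a homogeneous form in
four variables being evaluated at the chosen representative of a point (its vanishing does not
depend on the choice). Suppose Z has the Cayley–Bacharach property in degree n: every form of degree
n vanishing at all points of Z but one vanishes at that point as well. Then for every m ≤ n, either
there is a nonzero form of degree n − m vanishing at every point of Z, or the rank of the evaluation
map from forms of degree m to functions on Z is at most the number of points of Z minus the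
dimension of the space of forms of degree n − m. -/
theorem result (k : Type u) [Field k] [IsAlgClosed k] [CharZero k]
    (Z : Finset (Projectivization k (Fin 4 → k))) (n : ℕ)
    (hCB : (∀ z ∈ Z, ∀ p : MvPolynomial (Fin 4) k, p.IsHomogeneous n →
      (∀ z' ∈ Z, z' ≠ z → MvPolynomial.eval z'.rep p = 0) → MvPolynomial.eval z.rep p = 0))
    (m : ℕ) (hm : m ≤ n) :
    (∃ s : MvPolynomial (Fin 4) k, s.IsHomogeneous (n - m) ∧ s ≠ 0 ∧ ∀ z ∈ Z, MvPolynomial.eval z.rep s = 0) ∨
      Module.finrank k (LinearMap.range
          ((LinearMap.pi fun z : ↥Z => (MvPolynomial.aeval (R := k) z.1.rep).toLinearMap) ∘ₗ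
            (MvPolynomial.homogeneousSubmodule (Fin 4) k m).subtype)) +
        Module.finrank k ↥(MvPolynomial.homogeneousSubmodule (Fin 4) k (n - m)) ≤ Z.card := by
  classical
  by_cases hinj : ∀ s : MvPolynomial.homogeneousSubmodule (Fin 4) k (n - m), ev Z (n - m) s = 0 → s = 0
  · right
    have hsingle : ∀ z : ↥Z, (Pi.single z 1 : ↥Z → k) ∉ LinearMap.range (ev Z n) := by
      rintro z ⟨p, hp⟩
      have h1 := hCB z.1 z.2 p.1 p.2 (fun z' hz' hne => by
        have := congrFun hp ⟨z', hz'⟩
        rw [ev_apply, Pi.single_eq_of_ne (fun e => hne (congrArg Subtype.val e))] at this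
        exact this)
      have h2 := congrFun hp z
      rw [ev_apply, h1, Pi.single_eq_same] at h2
      exact zero_ne_one h2
    obtain ⟨w, hw, hwE⟩ := exists_weight _ hsingle
    have h := finrank_le_of_orth w hw (LinearMap.range (ev Z m)) (LinearMap.range (ev Z (n - m))) (by
      rintro _ ⟨p, rfl⟩ _ ⟨q, rfl⟩
      rw [← hwE (ev Z n ⟨p.1 * q.1, by
        have := MvPolynomial.IsHomogeneous.mul p.2 q.2
        rwa [show m + (n - m) = n by omega] at this⟩) (LinearMap.mem_range_self _ _)]
      refine Finset.sum_congr rfl fun z _ => ?_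
      rw [ev_apply, ev_apply, ev_apply, map_mul])
    rw [LinearMap.finrank_range_of_inj ((injective_iff_map_eq_zero _).2 hinj), Fintype.card_coe] at h
    exact h
  · left
    push Not at hinj
    obtain ⟨s, hs, hne⟩ := hinj
    exact ⟨s.1, s.2, fun h => hne (Subtype.ext h), fun z hz => by
      have := congrFun hs ⟨z, hz⟩; rwa [ev_apply] at this⟩

end Groth.Agent.S18040
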