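import Groth.Statements.S18042
import Groth.Agent.H26Misc.CB

set_option autoImplicit false
universe u
open AdjLin

namespace Groth.Agent.S18042

/-- Let k be an algebraically closed field of characteristic zero, n ≥ 1, and Z a finite set of points
of projective 3-space over k (points of the projectivization of k⁴, forms in four variables being
evaluated at the chosen representative) with the Cayley–Bacharach property in degree n: every form
of degree n vanishing at all points of Z but one vanishes at that point as well. If Z has at most 3n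
+ 1 points, then either all points of Z lie in one plane (a common 3-dimensional subspace of k⁴), or
they lie on the union of two skew lines (two 2-dimensional subspaces of k⁴ meeting in zero), each
line carrying at least n + 1 points of Z, and Z has at least 2n + 3 points. (The source states this
for an arbitrary zero-dimensional subscheme, with a third alternative, containment in the
first-order thickening of a line; for the reduced subschemes treated here that alternative is a case
of coplanarity.) -/
theorem result (k : Type u) [Field k] [IsAlgClosed k] [CharZero k]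
    (Z : Finset (Projectivization k (Fin 4 → k))) (n : ℕ) (hn : 1 ≤ n)
    (hCB : (∀ z ∈ Z, ∀ p : MvPolynomial (Fin 4) k, p.IsHomogeneous n →
      (∀ z' ∈ Z, z' ≠ z → MvPolynomial.eval z'.rep p = 0) → MvPolynomial.eval z.rep p = 0))
    (hcard : Z.card ≤ 3 * n + 1) :
    (∃ W : Submodule k (Fin 4 → k), Module.finrank k ↥W = 3 ∧ ∀ z ∈ Z, z.submodule ≤ W) ∨
      (∃ W₁ W₂ : Submodule k (Fin 4 → k), Module.finrank k ↥W₁ = 2 ∧ Module.finrank k ↥W₂ = 2 ∧ W₁ ⊓ W₂ = ⊥ ∧
        (∀ z ∈ Z, z.submodule ≤ W₁ ∨ z.submodule ≤ W₂) ∧
        n + 1 ≤ Set.ncard {z : Projectivization k (Fin 4 → k) | z ∈ Z ∧ z.submodule ≤ W₁} ∧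
        n + 1 ≤ Set.ncard {z : Projectivization k (Fin 4 → k) | z ∈ Z ∧ z.submodule ≤ W₂} ∧
        2 * n + 3 ≤ Z.card) := by
  classical
  open Groth.Agent.H26CB in
  rcases two_lines_or_coplanar hCB hcard with ⟨W, hW, hmem⟩ | ⟨W₁, W₂, h1, h2, hskew, hcov, hc1, hc2⟩
  · refine Or.inl ⟨W, hW, fun z hz => ?_⟩
    rw [Projectivization.submodule_eq, Submodule.span_singleton_le_iff_mem]
    exact hmem z hz
  · have hset : ∀ W : Submodule k (Fin 4 → k),
        Set.ncard {z : Projectivization k (Fin 4 → k) | z ∈ Z ∧ z.submodule ≤ W} =
          (Groth.Agent.H26CB.on W Z).card := fun W => by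
      rw [← Set.ncard_coe_finset]
      congr 1
      ext z
      simp [Groth.Agent.H26CB.mem_on, Projectivization.submodule_eq, Submodule.span_singleton_le_iff_mem]
    refine Or.inr ⟨W₁, W₂, h1, h2, hskew, fun z hz => ?_, by rw [hset]; omega, by rw [hset]; omega, ?_⟩
    · simp only [Projectivization.submodule_eq, Submodule.span_singleton_le_iff_mem]
      exact hcov z hz
    · have hdisj : Disjoint (Groth.Agent.H26CB.on W₁ Z) (Groth.Agent.H26CB.on W₂ Z) :=
        Finset.disjoint_left.2 fun w hw1 hw2 => w.rep_nonzero ((Submodule.mem_bot k).1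
          (hskew ▸ ⟨(Groth.Agent.H26CB.mem_on.1 hw1).2, (Groth.Agent.H26CB.mem_on.1 hw2).2⟩))
      have hun := Finset.card_le_card (show Groth.Agent.H26CB.on W₁ Z ∪ Groth.Agent.H26CB.on W₂ Z ⊆ Z from
        Finset.union_subset (fun x hx => (Groth.Agent.H26CB.mem_on.1 hx).1) (fun x hx => (Groth.Agent.H26CB.mem_on.1 hx).1))
      rw [Finset.card_union_of_disjoint hdisj] at hun
      omega

end Groth.Agent.S18042
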