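import Groth.Statements.S18046
import Groth.Agent.H7CB.Surface
-- import your own Groth.Agent.* helpers here

set_option autoImplicit false
universe u
open CategoryTheory CategoryTheory.Limits AlgebraicGeometry
open AdjLin

namespace Groth.Agent.S18046

/-- Let k be an algebraically closed field of characteristic zero and X ⊂ P³_k a smooth surface of
degree d, that is, a closed immersion ι : X → P³_k of an irreducible smooth k-scheme of dimension 2
whose hyperplane class H = ι*O(1) has self-intersection (H·H) = d (computed as an alternating sum of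
Euler characteristics from two copies of ι*O(−1)); write O_X(j) = ι*O_{P³}(j) and h⁰(F) for the
k-dimension of H⁰(X, F). Let Z ⊂ X be a zero-dimensional local complete intersection subscheme (a
quasi-coherent ideal I_Z with finite support, generated by two sections on an affine neighbourhood
of every point) with the Cayley–Bacharach property for O_X(n): for every quasi-coherent ideal I'
covering I_Z in the order of ideal sheaves, every global section of O_X(n) whose zero scheme has
ideal ≤ I' has zero scheme with ideal ≤ I_Z. For an integer j put r_Z(j) = h⁰(O_X(j)) − h⁰(O_X(j) ⊗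
I_Z), the rank of the evaluation of forms of degree j on Z. Then for every integer m ≤ n, r_Z(m) +
r_Z(n − m) ≤ χ(O_X/I_Z) + h⁰(O_X(d − 4 − m)), where χ(O_X/I_Z), the Euler characteristic of the
structure sheaf of Z pushed to X, is the length of Z. (The published lemma does not assume that Z is
a local complete intersection; its proof constructs a rank-2 vector bundle from Z by the
Cayley–Bacharach criterion, which needs this, so it is assumed here.) -/
theorem result
    (k : Type u) [Field k] [IsAlgClosed k] [CharZero k]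
    (X : Scheme.{u}) [X.Over (Spec (CommRingCat.of k))] [Smooth (X ↘ (Spec (CommRingCat.of k)))]
    [IrreducibleSpace X] (hdim : topologicalKrullDim X = 2)
    (ι : X ⟶ CohB1.ProjSpace 3 k) [IsClosedImmersion ι]
    (hι : ι ≫ CohB1.ProjSpace.toSpec 3 k = X ↘ (Spec (CommRingCat.of k)))
    (d : ℤ) (hd : FGA.intNum k X 2 ![((Scheme.Modules.pullback ι).obj (Twist.twistProjSpace 3 k (-1))), ((Scheme.Modules.pullback ι).obj (Twist.twistProjSpace 3 k (-1)))] (Coh.structureModule X) = d)
    (IZ : X.IdealSheafData) (hfin : (IZ.support : Set X).Finite)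
    (hlci : ∀ x : X, ∃ V : X.affineOpens, x ∈ (V : X.Opens) ∧
      ∃ a b : Γ(X, V), IZ.ideal V = Ideal.span {a, b})
    (n m : ℤ) (hm : m ≤ n)
    (hCB : ∀ I' : X.IdealSheafData, IZ ⋖ I' →
      ∀ σ : Coh.structureModule X ⟶ ((Scheme.Modules.pullback ι).obj (Twist.twistProjSpace 3 k (n))),
        PicF2.zeroScheme ((Scheme.Modules.pullback ι).obj (Twist.twistProjSpace 3 k (n))) σ ≤ I' → PicF2.zeroScheme ((Scheme.Modules.pullback ι).obj (Twist.twistProjSpace 3 k (n))) σ ≤ IZ) :
    ((Module.finrank k (Coh.HH X ((Scheme.Modules.pullback ι).obj (Twist.twistProjSpace 3 k (m))) 0) : ℤ) - (Module.finrank k (Coh.HH X (CohB1.tensorMod ((Scheme.Modules.pullback ι).obj (Twist.twistProjSpace 3 k (m))) (ClSub.idealMod IZ)) 0) : ℤ)) +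
        ((Module.finrank k (Coh.HH X ((Scheme.Modules.pullback ι).obj (Twist.twistProjSpace 3 k (n - m))) 0) : ℤ) - (Module.finrank k (Coh.HH X (CohB1.tensorMod ((Scheme.Modules.pullback ι).obj (Twist.twistProjSpace 3 k (n - m))) (ClSub.idealMod IZ)) 0) : ℤ)) ≤
      FGA.eulerCharLE k X (ClSub.quotMod IZ) 2 + (Module.finrank k (Coh.HH X ((Scheme.Modules.pullback ι).obj (Twist.twistProjSpace 3 k (d - 4 - m))) 0) : ℤ) := by
  haveI : IsProper (X ↘ Spec (CommRingCat.of k)) := by
    haveI := H27Weil.isProper_toSpec 3 k
    rw [← hι]; infer_instance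
  obtain ⟨S, hS, hcl, hsoc⟩ := H7CB.exists_points_socle k hdim IZ hfin hlci
  have hfam := (H10Coh.Stab.isTwistFamily_projSpace 3 k).pullback ι
  obtain ⟨μ⟩ := hfam.add m (n - m)
  have h := H7CB.cb_ineq (k := k) S hcl IZ hS.ge (fun z => let ⟨d, hd, _, hmin⟩ := hsoc z; ⟨d, hd, hmin⟩) _ _ _ (hfam.inv m) (hfam.inv (n - m)) (hfam.inv n)
    (μ ≪≫ eqToIso (by rw [add_sub_cancel])) hCB
  omega

end Groth.Agent.S18046
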