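import Groth.Statements.S18049
import Mathlib.Tactic

set_option autoImplicit false
open STCI

namespace Groth.Agent.S18049

/-- For natural numbers 0 < k < N such that k does not divide N, ⌊N/k⌋ ≤ (N - k)/gcd(k, N); stated here
in the equivalent cleared form ⌊N/k⌋ · gcd(k, N) ≤ N - k. -/
theorem result (k N : ℕ) (hk : 0 < k) (hkN : k < N) (hndvd : ¬ k ∣ N) :
    N / k * Nat.gcd k N ≤ N - k := by
  obtain ⟨q, r, rfl, hr⟩ : ∃ q r, N = q * k + r ∧ r < k := ⟨N / k, N % k, by rw [Nat.div_add_mod' N k], Nat.mod_lt _ hk⟩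
  have hr0 : 0 < r := by
    rcases Nat.eq_zero_or_pos r with h | h
    · exact absurd ⟨q, by subst h; ring⟩ hndvd
    · exact h
  have hdiv : (q * k + r) / k = q := by
    rw [Nat.mul_comm, Nat.mul_add_div hk, Nat.div_eq_of_lt hr, Nat.add_zero]
  rw [hdiv]
  have hq : 0 < q := by
    rcases Nat.eq_zero_or_pos q with h | h
    · subst h; simp only [Nat.zero_mul, Nat.zero_add] at hkN; omega
    · exact h
  set g := Nat.gcd k (q * k + r) with hg
  have hgk : g ≤ k := Nat.le_of_dvd hk (Nat.gcd_dvd_left _ _)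
  have hgr : g ≤ r := Nat.le_of_dvd hr0 <| by
    have h1 : g ∣ q * k := dvd_mul_of_dvd_right (Nat.gcd_dvd_left _ _) q
    exact (Nat.dvd_add_right h1).mp (Nat.gcd_dvd_right _ _)
  obtain ⟨q', rfl⟩ : ∃ q', q = q' + 1 := ⟨q - 1, by omega⟩
  have : q' * g ≤ q' * k := Nat.mul_le_mul_left _ hgk
  rw [Nat.add_mul, Nat.add_mul]
  omega

end Groth.Agent.S18049
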