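import Groth.Statements.S18050
import Groth.Prelude.Def_W4c5stcicurvesp3Euclid
import Mathlib.Tactic
import Mathlib.Algebra.BigOperators.Intervals

set_option autoImplicit false
open STCI

namespace Groth.Agent.S18050

open W4c5stcicurvesp3

theorem irem_shift (a b : ℕ) (h : a % b ≠ 0) :
    ∀ n, irem a b (n + 1) = irem b (a % b) n
  | 0 => by simp [irem]
  | 1 => by simp [irem, h]
  | n + 2 => by
    have h1 := irem_shift a b h n
    have h2 := irem_shift a b h (n + 1)
    show (if irem a b (n + 2) = 0 then 0 else irem a b (n + 1) % irem a b (n + 2)) = _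
    rw [h1, h2]; rfl

theorem idiv_shift (a b : ℕ) (h : a % b ≠ 0) :
    ∀ n, idiv a b (n + 2) = idiv b (a % b) (n + 1)
  | 0 => by simp [idiv, irem, h]
  | n + 1 => by
    have h1 := irem_shift a b h n
    have h2 := irem_shift a b h (n + 1)
    show (if irem a b (n + 2) = 0 then 0 else irem a b (n + 1) / irem a b (n + 2)) = _
    rw [h1, h2]; rfl

theorem sum_quot_shift (a b : ℕ) (h : a % b ≠ 0) (t : ℕ) :
    ∑ i ∈ Finset.range (t + 1), idiv a b (i + 1) =
      a / b + ∑ i ∈ Finset.range t, idiv b (a % b) (i + 1) := by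
  rw [Finset.sum_range_succ', show idiv a b (0 + 1) = a / b from rfl,
    Finset.sum_congr rfl fun i _ => idiv_shift a b h i]
  exact add_comm _ _

theorem sum_Icc (f : ℕ → ℕ) (t : ℕ) : ∑ i ∈ Finset.Icc 1 t, f i = ∑ i ∈ Finset.range t, f (i + 1) := by
  induction t with
  | zero => simp
  | succ t ih => rw [Finset.sum_range_succ, Finset.sum_Icc_succ_top (by omega), ih]

theorem quot_bound (t : ℕ) : ∀ (a b : ℕ), 0 < b → b ≤ a → irem a b (t + 1) = 0 →
    (∀ i, 0 < i → i < t + 1 → irem a b i ≠ 0) →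
    (∑ i ∈ Finset.range (t + 1), idiv a b (i + 1)) * Nat.gcd b a ≤ a := by
  induction t with
  | zero =>
    intro a b hb _ hz _
    simp only [irem] at hz
    rw [Finset.sum_range_one]
    show a / b * Nat.gcd b a ≤ a
    rw [Nat.gcd_eq_left (Nat.dvd_of_mod_eq_zero hz)]
    exact Nat.div_mul_le_self a b
  | succ t ih =>
    intro a b hb hba hz hmin
    have hne : a % b ≠ 0 := by simpa [irem] using hmin 1 one_pos (by omega)
    rw [sum_quot_shift a b hne, Nat.gcd_rec b a, Nat.gcd_comm (a % b) b]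
    have h := ih b (a % b) (Nat.pos_of_ne_zero hne) (Nat.mod_lt a hb).le
      (by rw [← irem_shift a b hne]; exact hz)
      (fun i h0 hi => by rw [← irem_shift a b hne]; exact hmin (i + 1) (by omega) (by omega))
    rw [Nat.gcd_comm (a % b) b] at h
    have hg : Nat.gcd b (a % b) ≤ a % b := Nat.le_of_dvd (Nat.pos_of_ne_zero hne) (Nat.gcd_dvd_right _ _)
    have hgb : Nat.gcd b (a % b) ≤ b := Nat.le_of_dvd hb (Nat.gcd_dvd_left _ _)
    have hq : 1 ≤ a / b := Nat.div_pos hba hb
    obtain ⟨q, hq'⟩ : ∃ q, a / b = q + 1 := ⟨a / b - 1, by omega⟩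
    have ha := Nat.div_add_mod a b
    rw [hq'] at ha ⊢
    nlinarith [Nat.mul_le_mul_left q hgb]

open W4c5stcicurvesp3 in
/-- Let k ≤ N be positive integers, let t be the least positive integer with rem_t(N, k) = 0, where
rem_0 = k, rem_1 = N mod k and rem_i is the remainder of rem_{i-2} by rem_{i-1} (iterated Euclidean
remainders), and let d_i be the corresponding iterated quotients (d_1 = ⌊N/k⌋, d_i =
⌊rem_{i-2}/rem_{i-1}⌋). Then d_1 + ⋯ + d_t ≤ N/gcd(k, N); stated in the cleared form (d_1 + ⋯ + d_t)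
· gcd(k, N) ≤ N. -/
theorem result (k N t : ℕ) (hk : 0 < k) (hkN : k ≤ N) (ht : 0 < t)
    (hzero : irem N k t = 0) (hmin : ∀ i, 0 < i → i < t → irem N k i ≠ 0) :
    (∑ i ∈ Finset.Icc 1 t, idiv N k i) * Nat.gcd k N ≤ N := by
  obtain ⟨s, rfl⟩ : ∃ s, t = s + 1 := ⟨t - 1, by omega⟩
  rw [sum_Icc]
  exact quot_bound s N k hk hkN hzero hmin

end Groth.Agent.S18050
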