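import Groth.Statements.S18051
import Groth.Agent.S18050
import Mathlib.Data.Rat.Cast.Order

set_option autoImplicit false
open STCI

namespace Groth.Agent.S18051

open W4c5stcicurvesp3 Groth.Agent.S18050

theorem three_step (q p k r s : ℚ) (hq : 2 ≤ q) (hp : 1 ≤ p) (hs : 0 < s) (hsr : s < r) (hk : k = p * r + s) :
    (k - r) / q + (r - s) / (q + p) + s / (q + p + 1) ≤ k ^ 2 / (q * k + r) := by
  have hr : 0 < r := lt_trans hs hsr
  have hk0 : 0 < k := by nlinarith
  have hN : 0 < q * k + r := by nlinarith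
  have hM : 0 < (q + p) * r + s := by nlinarith
  have hden : 0 < q * ((q + p) * r + s) * (q * k + r) := by positivity
  have e1 : k ^ 2 / (q * k + r) - (k - r) / q - r ^ 2 / ((q + p) * r + s) =
      (q - 1) * k * r * (k - r) / (q * ((q + p) * r + s) * (q * k + r)) := by
    subst hk; field_simp; ring
  have e2 : (r - s) / (q + p) + s / (q + p + 1) - r ^ 2 / ((q + p) * r + s) =
      s * (r - s) / ((q + p) * (q + p + 1) * ((q + p) * r + s)) := by
    have : q + p ≠ 0 := by linarith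
    have : q + p + 1 ≠ 0 := by linarith
    field_simp; ring
  suffices s * (r - s) / ((q + p) * (q + p + 1) * ((q + p) * r + s)) ≤
      (q - 1) * k * r * (k - r) / (q * ((q + p) * r + s) * (q * k + r)) by linarith
  rw [div_le_div_iff₀ (by positivity) hden]
  have a1 : s ≤ k - r := by nlinarith
  have a2 : q * k + r ≤ (q + 1) * k := by nlinarith
  have hX : q * (q + 1) ≤ (q + p) * (q + p + 1) := mul_le_mul (by linarith) (by linarith) (by linarith) (by linarith)
  have a3 : q * (q + 1) ≤ (q - 1) * ((q + p) * (q + p + 1)) := by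
    have hX0 : 0 ≤ (q + p) * (q + p + 1) := mul_nonneg (by linarith) (by linarith)
    nlinarith [mul_nonneg (sub_nonneg.2 hq) hX0]
  have a4 : s * (r - s) ≤ r * (k - r) := by nlinarith
  have a5 : q * (q * k + r) ≤ (q - 1) * ((q + p) * (q + p + 1)) * k := by
    calc q * (q * k + r) ≤ q * ((q + 1) * k) := by nlinarith
      _ = q * (q + 1) * k := by ring
      _ ≤ _ := by nlinarith
  have a6 : s * (r - s) * (q * (q * k + r)) ≤ r * (k - r) * ((q - 1) * ((q + p) * (q + p + 1)) * k) := by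
    gcongr
    · nlinarith
    all_goals nlinarith
  nlinarith [mul_le_mul_of_nonneg_left a6 hM.le]

open W4c5stcicurvesp3 in
/-- Let k ≤ N/2 be positive integers and let r_i = rem_i(N, k), d_i = div_i(N, k) be the iterated
Euclidean remainders and quotients of (N, k) (r_0 = k, r_1 = N mod k, r_2 = r_0 mod r_1, d_1 =
⌊N/k⌋, d_2 = ⌊r_0/r_1⌋). If the least positive t with r_t = 0 satisfies t ≥ 3, i.e. r_1 ≠ 0 and r_2
≠ 0, then (r_0 - r_1)/d_1 + (r_1 - r_2)/(d_1 + d_2) + r_2/(d_1 + d_2 + 1) ≤ k²/N (in ℚ). -/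
theorem result (k N : ℕ) (hk : 0 < k) (hkN : 2 * k ≤ N)
    (h1 : irem N k 1 ≠ 0) (h2 : irem N k 2 ≠ 0) :
    ((irem N k 0 : ℚ) - irem N k 1) / (idiv N k 1)
      + ((irem N k 1 : ℚ) - irem N k 2) / ((idiv N k 1 : ℚ) + idiv N k 2)
      + (irem N k 2 : ℚ) / ((idiv N k 1 : ℚ) + idiv N k 2 + 1)
      ≤ (k : ℚ) ^ 2 / N := by
  have hne : N % k ≠ 0 := by simpa [irem] using h1
  have hne2 : k % (N % k) ≠ 0 := by simpa [irem, hne] using h2
  simp only [irem, idiv, hne, if_false]
  have e1 : (N : ℚ) = (N / k : ℕ) * k + (N % k : ℕ) := by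
    exact_mod_cast (by rw [Nat.mul_comm]; exact (Nat.div_add_mod N k).symm)
  rw [e1]
  refine three_step _ _ _ _ _ ?_ ?_ (by exact_mod_cast Nat.pos_of_ne_zero hne2) ?_ ?_
  · exact_mod_cast (Nat.le_div_iff_mul_le hk).2 hkN
  · exact_mod_cast Nat.div_pos (Nat.mod_lt N hk).le (Nat.pos_of_ne_zero hne)
  · exact_mod_cast Nat.mod_lt k (Nat.pos_of_ne_zero hne)
  · exact_mod_cast (by rw [Nat.mul_comm]; exact (Nat.div_add_mod k (N % k)).symm)

end Groth.Agent.S18051
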