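import Groth.Statements.S18052
import Groth.Agent.S18050
import Mathlib.Data.Rat.Cast.Order

set_option autoImplicit false
open STCI

namespace Groth.Agent.S18052

open W4c5stcicurvesp3 Groth.Agent.S18050

theorem step_bound (b r Q : ℚ) (hr : 0 < r) (hrb : r < b) (hQ : 1 ≤ Q) :
    (b - r) / Q + r ^ 2 / (b + Q * r) ≤ b ^ 2 / (Q * b + r) := by
  have h1 : 0 < b + Q * r := by nlinarith
  have h2 : 0 < Q * b + r := by nlinarith
  rw [div_add_div _ _ (by linarith) h1.ne', div_le_div_iff₀ (by positivity) h2]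
  nlinarith [mul_nonneg (mul_nonneg (sub_nonneg.2 hQ) (mul_nonneg (show (0:ℚ) ≤ b by linarith) hr.le)) (sub_nonneg.2 hrb.le)]

theorem tele_bound (t : ℕ) : ∀ (a b : ℕ) (c : ℚ), 0 ≤ c → 0 < b → b ≤ a → irem a b (t + 1) = 0 →
    (∀ i, 0 < i → i < t + 1 → irem a b i ≠ 0) →
    ∑ i ∈ Finset.range (t + 1), ((irem a b i : ℚ) - irem a b (i + 1)) /
      (c + ∑ j ∈ Finset.range (i + 1), (idiv a b (j + 1) : ℚ)) ≤ (b : ℚ) ^ 2 / (a + c * b) := by
  induction t with
  | zero =>
    intro a b c hc hb hba hz _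
    simp only [irem] at hz
    rw [Finset.sum_range_one, Finset.sum_range_one]
    simp only [irem, idiv, hz, Nat.cast_zero, sub_zero]
    rw [Nat.cast_div (Nat.dvd_of_mod_eq_zero hz) (Nat.cast_ne_zero.2 hb.ne')]
    have hb' : (b : ℚ) ≠ 0 := Nat.cast_ne_zero.2 hb.ne'
    refine le_of_eq ?_
    have : (a : ℚ) + c * b ≠ 0 := by
      have : (0 : ℚ) < a := by exact_mod_cast lt_of_lt_of_le hb hba
      positivity
    field_simp
    ring
  | succ t ih =>
    intro a b c hc hb hba hz hmin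
    have hne : a % b ≠ 0 := by simpa [irem] using hmin 1 one_pos (by omega)
    have h := ih b (a % b) (c + (a / b : ℕ)) (by positivity) (Nat.pos_of_ne_zero hne) (Nat.mod_lt a hb).le
      (by rw [← irem_shift a b hne]; exact hz)
      (fun i h0 hi => by rw [← irem_shift a b hne]; exact hmin (i + 1) (by omega) (by omega))
    rw [Finset.sum_range_succ']
    have e : ∀ i ∈ Finset.range (t + 1), ((irem a b (i + 1) : ℚ) - irem a b (i + 1 + 1)) /
        (c + ∑ j ∈ Finset.range (i + 1 + 1), (idiv a b (j + 1) : ℚ)) =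
        ((irem b (a % b) i : ℚ) - irem b (a % b) (i + 1)) /
          (c + (a / b : ℕ) + ∑ j ∈ Finset.range (i + 1), (idiv b (a % b) (j + 1) : ℚ)) := fun i _ => by
      rw [irem_shift a b hne, irem_shift a b hne, ← Nat.cast_sum, sum_quot_shift a b hne]
      push_cast; ring
    rw [Finset.sum_congr rfl e]
    refine le_trans (add_le_add h le_rfl) ?_
    rw [Finset.sum_range_one]
    simp only [irem, idiv]
    have hq : (1 : ℚ) ≤ (a / b : ℕ) := by exact_mod_cast Nat.div_pos hba hb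
    have ha : (a : ℚ) = b * (a / b : ℕ) + (a % b : ℕ) := by exact_mod_cast (Nat.div_add_mod a b).symm
    rw [show (a : ℚ) + c * b = (c + (a / b : ℕ)) * b + (a % b : ℕ) by rw [ha]; ring, add_comm]
    exact step_bound b _ _ (by exact_mod_cast Nat.pos_of_ne_zero hne) (by exact_mod_cast Nat.mod_lt a hb) (by linarith)

open W4c5stcicurvesp3 in
/-- Let k ≤ N/2 be positive integers, let r_i = rem_i(N, k) and d_i = div_i(N, k) be the iterated
Euclidean remainders and quotients of (N, k) (r_0 = k, r_1 = N mod k, …; d_1 = ⌊N/k⌋, d_i =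
⌊r_{i-2}/r_{i-1}⌋), and let t be the least positive integer with r_t = 0. Then the sum over i = 0,
…, t - 1 of (r_i - r_{i+1})/(d_1 + ⋯ + d_{i+1}) is at most k²/N (in ℚ). -/
theorem result (k N t : ℕ) (hk : 0 < k) (hkN : 2 * k ≤ N) (ht : 0 < t)
    (hzero : irem N k t = 0) (hmin : ∀ i, 0 < i → i < t → irem N k i ≠ 0) :
    ∑ i ∈ Finset.range t, ((irem N k i : ℚ) - irem N k (i + 1)) / (∑ j ∈ Finset.Icc 1 (i + 1), (idiv N k j : ℚ))
      ≤ (k : ℚ) ^ 2 / N := by
  obtain ⟨s, rfl⟩ : ∃ s, t = s + 1 := ⟨t - 1, by omega⟩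
  have h := tele_bound s N k 0 le_rfl hk (by omega) hzero hmin
  simp only [zero_add, zero_mul, add_zero] at h
  refine le_trans (le_of_eq (Finset.sum_congr rfl fun i _ => ?_)) h
  rw [← Nat.cast_sum, sum_Icc, Nat.cast_sum]

end Groth.Agent.S18052
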