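import Groth.Statements.S18053
import Mathlib.Tactic
import Mathlib.Topology.Algebra.InfiniteSum.Real
import Mathlib.Analysis.SpecificLimits.Basic

set_option autoImplicit false
open STCI

namespace Groth.Agent.S18053

theorem tsum_eq_range (p : ℕ → ℕ) (hp : Antitone p) (B : ℕ) (hB : ∀ m, ∑ k ∈ Finset.range m, p k ≤ B) :
    ∃ M, B < M ∧ (∀ k, M ≤ k → p k = 0) := by
  refine ⟨B + 1, Nat.lt_succ_self B, fun k hk => ?_⟩
  by_contra h
  have h1 : ∀ j ∈ Finset.range (B + 1), 1 ≤ p j := fun j hj => by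
    have := hp (show j ≤ k by have := Finset.mem_range.1 hj; omega)
    omega
  have h2 := Finset.card_nsmul_le_sum _ _ _ h1
  have h3 : (Finset.range (B + 1)).sum p ≤ B := hB (B + 1)
  simp only [Finset.card_range, smul_eq_mul, mul_one] at h2
  omega

/-- Let (p_k)_{k ≥ 1} be a sequence of nonnegative integers and n a nonnegative integer such that (i)
p_1 ≤ 9 - (2/5)n, (ii) p_1 ≥ p_2 ≥ p_3 ≥ ⋯, (iii) Σ_k p_k ≤ 19 - n, and (iv) n/4 + Σ_{k ≥ 1}
p_k/(k(k+1)) ≥ 6. Then n = 0 and (p_k) is one of (9, 8, 2), (9, 9), (9, 9, 1) (followed by zeros).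
Here the sequence is indexed from 0 (so p 0 is p_1 and the weight of p k is 1/((k+1)(k+2))), (iii)
is stated for every partial sum, and the series in (iv) is the real sum Σ' over all k. -/
theorem result (p : ℕ → ℕ) (n : ℕ)
    (h1 : (p 0 : ℝ) ≤ 9 - (2 / 5 : ℝ) * n) (h2 : Antitone p)
    (h3 : ∀ m : ℕ, ((∑ k ∈ Finset.range m, p k : ℕ) : ℝ) ≤ 19 - (n : ℝ))
    (h4 : (6 : ℝ) ≤ (n : ℝ) / 4 + ∑' k : ℕ, (p k : ℝ) / (((k : ℝ) + 1) * ((k : ℝ) + 2))) :
    n = 0 ∧ (p = (fun k => if k = 0 then 9 else if k = 1 then 8 else if k = 2 then 2 else 0)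
      ∨ p = (fun k => if k = 0 then 9 else if k = 1 then 9 else 0)
      ∨ p = (fun k => if k = 0 then 9 else if k = 1 then 9 else if k = 2 then 1 else 0)) := by
  have hB : ∀ m, ∑ k ∈ Finset.range m, p k ≤ 19 := fun m => by
    have := h3 m
    have hn : (0 : ℝ) ≤ n := Nat.cast_nonneg n
    exact_mod_cast (show ((∑ k ∈ Finset.range m, p k : ℕ) : ℝ) ≤ 19 by linarith)
  obtain ⟨M, hM, hzero⟩ := tsum_eq_range p h2 19 hB
  obtain ⟨M', rfl⟩ : ∃ M', M = M' + 3 := ⟨M - 3, by omega⟩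
  rw [tsum_eq_sum (s := Finset.range (M' + 3)) (fun k hk => by
    rw [hzero k (by simpa using hk)]; simp), Finset.sum_range_succ', Finset.sum_range_succ', Finset.sum_range_succ'] at h4
  have hsum := h3 (M' + 3)
  rw [Finset.sum_range_succ', Finset.sum_range_succ', Finset.sum_range_succ'] at hsum
  simp only [Nat.zero_add, Nat.cast_add] at hsum h4
  have hR : ∑ x ∈ Finset.range M', (p (x + 1 + 1 + 1) : ℝ) / ((((x : ℕ) : ℝ) + 1 + 1 + 1 + 1) * ((((x : ℕ) : ℝ)) + 1 + 1 + 1 + 2)) ≤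
      (∑ x ∈ Finset.range M', (p (x + 1 + 1 + 1) : ℝ)) / 20 := by
    rw [Finset.sum_div]
    refine Finset.sum_le_sum fun x _ => ?_
    have hx : (0 : ℝ) ≤ (x : ℝ) := Nat.cast_nonneg x
    exact div_le_div_of_nonneg_left (Nat.cast_nonneg _) (by norm_num) (by nlinarith)
  push_cast at h4 hsum hR
  norm_num at h4
  have h4' : (6 : ℝ) ≤ n / 4 + ((∑ x ∈ Finset.range M', (p (x + 1 + 1 + 1) : ℝ)) / 20 + (p 2 : ℝ) / 12 + (p 1 : ℝ) / 6 + (p 0 : ℝ) / 2) := by
    norm_num at hR h4 ⊢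
    linarith
  set R := ∑ x ∈ Finset.range M', (p (x + 1 + 1 + 1) : ℝ)
  have hR0 : 0 ≤ R := Finset.sum_nonneg fun x _ => Nat.cast_nonneg _
  have q1 : (p 1 : ℝ) ≤ p 0 := by exact_mod_cast h2 (Nat.zero_le 1)
  have q2 : (p 2 : ℝ) ≤ p 1 := by exact_mod_cast h2 (Nat.le_succ 1)
  have hsum' : R + p 2 + p 1 + p 0 ≤ 19 - (n : ℝ) := by linarith
  have hn : n = 0 := by
    have hn2 : (n : ℝ) ≤ 2.5 := by linarith
    rcases Nat.eq_zero_or_pos n with h | h
    · exact h
    exfalso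
    have hn1 : (1 : ℝ) ≤ n := by exact_mod_cast h
    have hp8 : p 0 ≤ 8 := by
      have : (p 0 : ℝ) < 9 := by linarith
      exact Nat.lt_succ_iff.1 (by exact_mod_cast this)
    have : (p 0 : ℝ) ≤ 8 := by exact_mod_cast hp8
    have hn2' : (n : ℝ) ≤ 2 := by
      have h5 : n < 3 := by exact_mod_cast (show (n : ℝ) < 3 by linarith)
      exact_mod_cast (show n ≤ 2 by omega)
    linarith
  subst hn
  simp only [Nat.cast_zero, sub_zero, zero_div, zero_add, mul_zero] at *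
  have p0 : p 0 = 9 := by
    have a : p 0 ≤ 9 := by exact_mod_cast h1
    by_contra hne
    have : (p 0 : ℝ) ≤ 8 := by exact_mod_cast (show p 0 ≤ 8 by omega)
    linarith
  have p1a : p 1 ≤ 9 := p0 ▸ h2 (Nat.zero_le 1)
  have p1b : 8 ≤ p 1 := by
    by_contra hne
    have : (p 1 : ℝ) ≤ 7 := by exact_mod_cast (show p 1 ≤ 7 by omega)
    rw [p0] at h4' hsum'
    push_cast at h4' hsum'
    linarith
  have hnat : ∑ x ∈ Finset.range M', p (x + 1 + 1 + 1) + p 2 + p 1 + p 0 ≤ 19 := by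
    have := hsum'
    simp only [R] at this
    exact_mod_cast this
  refine ⟨trivial, ?_⟩
  have main : p 2 ≤ 2 ∧ (p 1 = 8 → p 2 = 2) ∧ (p 1 = 9 → p 2 ≤ 1) := by
    refine ⟨by omega, fun h => ?_, fun h => by omega⟩
    by_contra hne
    have : (p 2 : ℝ) ≤ 1 := by exact_mod_cast (show p 2 ≤ 1 by omega)
    rw [p0, h] at h4' hsum'
    push_cast at h4' hsum'
    linarith
  have rest : ∀ k, 3 ≤ k → p k = 0 := by
    intro k hk
    by_cases hp2 : p 2 = 0
    · have := h2 (show 2 ≤ k by omega); omega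
    have hR : ∑ x ∈ Finset.range M', p (x + 1 + 1 + 1) = 0 := by omega
    rcases lt_or_ge k (M' + 3) with hlt | hge
    · have := (Finset.sum_eq_zero_iff.1 hR) (k - 3) (Finset.mem_range.2 (by omega))
      rwa [show k - 3 + 1 + 1 + 1 = k by omega] at this
    · exact hzero k hge
  have key : ∀ a b : ℕ, p 1 = a → p 2 = b → p = fun k => if k = 0 then 9 else if k = 1 then a else if k = 2 then b else 0 := by
    intro a b ha hb
    funext k
    rcases k with _ | _ | _ | k <;> simp [p0, ha, hb]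
    exact rest _ (by omega)
  rcases (show p 1 = 8 ∨ p 1 = 9 by omega) with h | h
  · exact Or.inl (key 8 2 h (main.2.1 h))
  rcases (show p 2 = 0 ∨ p 2 = 1 by have := main.2.2 h; omega) with h' | h'
  · refine Or.inr (Or.inl ((key 9 0 h h').trans ?_))
    funext k; split_ifs <;> rfl
  · exact Or.inr (Or.inr (key 9 1 h h'))

end Groth.Agent.S18053
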