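import Groth.Statements.S18055
import Mathlib.Tactic

set_option autoImplicit false
open STCI

namespace Groth.Agent.S18055

/-- Let d ≥ 1, g ≥ 0 and 1 ≤ s ≤ t be integers with d dividing st, put n = st/d and r = d[n(s - 4) + t]
+ (2 - 2g)n, and assume n ≥ 2, r > 0 and (n - 1) divides r. Then s < 2d² and t < 2d⁴. This is the
statement about the degree data (d, g the degree and genus of the curve, s ≤ t the degrees of the
two surfaces) to which the published proof reduces the degree bound: there the divisibility and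
positivity express that r/(n - 1), the common value of the type numbers of the pair, is a positive
integer; the geometric hypotheses themselves are not part of this row. -/
theorem result (d g s t n : ℤ) (hd : 1 ≤ d) (hg : 0 ≤ g) (hs : 1 ≤ s) (hst : s ≤ t)
    (hn : s * t = d * n) (hn2 : 2 ≤ n)
    (hpos : 0 < d * (n * (s - 4) + t) + (2 - 2 * g) * n)
    (hdvd : (n - 1) ∣ d * (n * (s - 4) + t) + (2 - 2 * g) * n) :
    s < 2 * d ^ 2 ∧ t < 2 * d ^ 4 := by
  have hn1 : 0 < n - 1 := by omega
  set e : ℤ := d * (s - 4) + 2 - 2 * g with he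
  have hR : (n - 1) ∣ d * t + e := by
    have : d * t + e = d * (n * (s - 4) + t) + (2 - 2 * g) * n - (n - 1) * e := by rw [he]; ring
    rw [this]; exact dvd_sub hdvd (dvd_mul_right _ _)
  have hpos' : 0 < n * e + d * t := by rw [he]; linarith
  have hdt : 0 < d * t := mul_pos (by omega) (by omega)
  have hR0 : 0 < d * t + e := by nlinarith
  obtain ⟨j, hj⟩ := hR
  have hj1 : 1 ≤ j := by nlinarith
  have hupper : e ≤ d * (s - 4) + 2 := by omega
  have hes : 0 < e * s + d ^ 2 := by
    have : 0 < t * (e * s + d ^ 2) := by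
      have : t * (e * s + d ^ 2) = d * (n * e + d * t) := by linear_combination e * hn
      rw [this]; exact mul_pos (by omega) hpos'
    nlinarith
  have hmain : d ^ 2 * t + d * e = j * (s * t - d) := by rw [hn]; linear_combination d * hj
  have hstd : d ≤ s * t - d := by rw [hn]; nlinarith
  have hs2 : s * t - d ≤ j * (s * t - d) := by nlinarith
  have hlt : s * t < d ^ 2 * (s + t) := by nlinarith
  have hsB : s < 2 * d ^ 2 := by
    by_contra hc; push Not at hc
    nlinarith
  refine ⟨hsB, ?_⟩
  by_contra hc; push Not at hc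
  rcases lt_trichotomy (j * s) (d ^ 2) with h | h | h
  · have h1 : (d ^ 2 - j * s) * t = -(d * (e + j)) := by linear_combination hmain
    have h2 : t ≤ -(d * (e + j)) := by nlinarith
    have h3 : -e < d ^ 2 := by nlinarith
    have h4 : d ^ 3 ≤ d ^ 4 := by nlinarith
    nlinarith
  · have h1 : e + j = 0 := by
      have : d * (e + j) = 0 := by linear_combination hmain + t * h
      rcases mul_eq_zero.mp this with h0 | h0
      · omega
      · exact h0
    nlinarith
  · by_cases hd1 : d = 1
    · subst hd1
      have : s = 1 := by omega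
      subst this
      nlinarith
    have hd2 : 2 ≤ d := by omega
    have hsd : s ≤ d ^ 2 := by
      by_contra hc2; push Not at hc2
      nlinarith
    have hjd : j ≤ 2 * d ^ 2 := by
      by_contra hc2; push Not at hc2
      have h1 : 2 * d ^ 2 * (t - d) ≤ j * (s * t - d) := by
        apply mul_le_mul hc2.le (by nlinarith) (by nlinarith) (by omega)
      have he2 : e ≤ d * (d ^ 2 - 4) + 2 := by
        have := mul_le_mul_of_nonneg_left (show s - 4 ≤ d ^ 2 - 4 by omega) (show (0:ℤ) ≤ d by omega)
        linarith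
      have h5 : d * e ≤ d * (d * (d ^ 2 - 4) + 2) := mul_le_mul_of_nonneg_left he2 (by omega)
      have h8 : d ^ 2 * t ≤ d ^ 4 - 4 * d ^ 2 + 2 * d + 2 * d ^ 3 := by linarith only [h1, h5, hmain]
      have h9 : d ^ 2 * (2 * d ^ 4) ≤ d ^ 2 * t := mul_le_mul_of_nonneg_left hc (sq_nonneg d)
      have h10 : d ^ 2 * (2 * d ^ 4) ≥ 8 * d ^ 4 := by nlinarith only [hd2, mul_le_mul hd2 hd2 (by norm_num) (show (0:ℤ) ≤ d by omega), sq_nonneg (d^2)]
      have h11 : 2 * d ^ 3 ≤ d ^ 4 := by nlinarith only [hd2, mul_nonneg (sq_nonneg d) (show (0:ℤ) ≤ d by omega)]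
      nlinarith only [h8, h9, h10, h11, hd2]
    have h2 : t ≤ d * (e + j) := by
      have h12 : (j * s - d ^ 2) * t = d * (e + j) := by linear_combination -hmain
      have := mul_le_mul_of_nonneg_right (show (1:ℤ) ≤ j * s - d ^ 2 by omega) (show (0:ℤ) ≤ t by omega)
      linarith only [h12, this]
    have h5 : e + j ≤ d * (d ^ 2 - 4) + 2 + 2 * d ^ 2 := by
      have := mul_le_mul_of_nonneg_left (show s - 4 ≤ d ^ 2 - 4 by omega) (show (0:ℤ) ≤ d by omega)
      linarith
    have h6 : t ≤ d * (d * (d ^ 2 - 4) + 2 + 2 * d ^ 2) := h2.trans (mul_le_mul_of_nonneg_left h5 (by omega))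
    have h7 : 0 ≤ d ^ 2 * (d - 1) ^ 2 := by positivity
    nlinarith only [h6, hc, h7, hd2]

end Groth.Agent.S18055
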