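import Groth.Statements.S18056
import Mathlib
import Groth.Agent.H05EGA4.CohenSmooth
import Groth.Agent.H25Len

set_option autoImplicit false
universe u v
open STCI

namespace Groth.Agent.S18056

open IsLocalRing Polynomial in
theorem isField_of_formallySmooth_perfect (P : Type) [Field P] [PerfectField P] (κ : Type u) (B : Type v)
    [Field κ] [CommRing B] [IsLocalRing B] [IsArtinianRing B] [Algebra P κ] [Algebra κ B]
    [Algebra.FormallySmooth κ B] : maximalIdeal B = ⊥ := by
  letI : Algebra P B := ((algebraMap κ B).comp (algebraMap P κ)).toAlgebra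
  haveI : IsScalarTower P κ B := IsScalarTower.of_algebraMap_eq' rfl
  haveI := H05EGA4.formallySmooth_of_perfectField P κ
  haveI : Algebra.FormallySmooth P B := Algebra.FormallySmooth.comp P κ B
  haveI := H05EGA4.formallySmooth_of_perfectField P (ResidueField B)
  have hnil : IsNilpotent (maximalIdeal B) := by
    rw [← IsLocalRing.jacobson_eq_maximalIdeal ⊥ bot_ne_top]
    exact IsArtinianRing.isNilpotent_jacobson_bot
  by_contra hne
  let π : B →ₐ[P] ResidueField B := IsScalarTower.toAlgHom P B (ResidueField B)
  have hπ : Function.Surjective π := residue_surjective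
  have hker : RingHom.ker (π : B →+* ResidueField B) = maximalIdeal B := ker_residue
  obtain ⟨σ, hσ⟩ : ∃ σ : ResidueField B →ₐ[P] B, ∀ r, π (σ r) = r :=
    ⟨Algebra.FormallySmooth.liftOfSurjective (AlgHom.id P _) π hπ (hker ▸ hnil),
      fun r => Algebra.FormallySmooth.liftOfSurjective_apply _ _ _ _ r⟩
  have hnt : Nontrivial (CotangentSpace B) := by
    show Nontrivial (maximalIdeal B).Cotangent
    rw [← not_subsingleton_iff_nontrivial, Ideal.cotangent_subsingleton_iff]
    intro hid
    obtain ⟨n, hn⟩ := hnil
    exact hne ((hid.pow_succ_eq n).symm.trans (by rw [pow_succ, hn]; exact zero_mul _))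
  obtain ⟨v, hv⟩ := exists_ne (0 : CotangentSpace B)
  obtain ⟨φ, hφ⟩ := Module.Projective.exists_dual_eq_one (ResidueField B) hv
  have hmem : ∀ b, b - σ (π b) ∈ maximalIdeal B := fun b => by
    rw [← hker, RingHom.mem_ker]
    simp [hσ]
  let D : B → ResidueField B := fun b => φ ((maximalIdeal B).toCotangent ⟨b - σ (π b), hmem b⟩)
  have hDadd : ∀ a b, D (a + b) = D a + D b := fun a b => by
    simp only [D, ← map_add]
    refine congrArg φ (congrArg _ (Subtype.ext ?_))
    simp only [Submodule.coe_add, map_add]; ring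
  have hlin : ∀ (c : B) (y : maximalIdeal B),
      φ ((maximalIdeal B).toCotangent (c • y)) = π c * φ ((maximalIdeal B).toCotangent y) := fun c y => by
    rw [map_smul]
    exact (congrArg φ (algebraMap_smul (ResidueField B) c ((maximalIdeal B).toCotangent y)).symm).trans
      (map_smul φ _ _)
  have hDmul : ∀ a b, D (a * b) = π a * D b + π b * D a := fun a b => by
    have e : (⟨a * b - σ (π (a * b)), hmem (a * b)⟩ : maximalIdeal B) =
        a • (⟨b - σ (π b), hmem b⟩ : maximalIdeal B) + σ (π b) • ⟨a - σ (π a), hmem a⟩ :=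
      Subtype.ext (by simp only [Submodule.coe_add, Submodule.coe_smul, smul_eq_mul, map_mul]; ring)
    show φ _ = _
    rw [e, map_add, map_add, hlin, hlin, hσ]
  have hD0 : ∀ r, D (algebraMap P B r) = 0 := fun r => by
    show φ _ = 0
    have : (⟨_, hmem (algebraMap P B r)⟩ : maximalIdeal B) = 0 := Subtype.ext (by simp)
    rw [this, map_zero, map_zero]
  have hD1 : D 1 = 0 := by simpa using hD0 1
  let I2 : Ideal (ResidueField B)[X] := Ideal.span {(Polynomial.X : (ResidueField B)[X]) ^ 2}
  let g : B →ₐ[P] (ResidueField B)[X] ⧸ I2 :=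
    { toFun := fun b => Ideal.Quotient.mk I2 (C (π b) + C (D b) * X)
      map_one' := by simp [hD1]
      map_mul' := fun a b => by
        rw [← map_mul, Ideal.Quotient.mk_eq_mk_iff_sub_mem, Ideal.mem_span_singleton, hDmul, map_mul]
        exact ⟨-(C (D a) * C (D b)), by simp only [map_add, map_mul]; ring⟩
      map_zero' := by
        have : D 0 = 0 := by simpa using hD0 0
        simp [this]
      map_add' := fun a b => by
        simp only [hDadd, map_add, add_mul]; ring
      commutes' := fun r => by
        simp only [hD0, AlgHom.commutes, map_zero, zero_mul, add_zero]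
        rfl }
  obtain ⟨x, hx⟩ := (maximalIdeal B).toCotangent_surjective v
  have hπx : π x.1 = 0 := by
    have h : x.1 ∈ RingHom.ker (π : B →+* ResidueField B) := by rw [hker]; exact x.2
    exact h
  have hDx : D x.1 = 1 := by
    show φ _ = 1
    rw [← hφ, ← hx]
    exact congrArg φ (congrArg _ (Subtype.ext (by simp [hπx])))
  obtain ⟨K, hK⟩ := hnil
  have hxK : x.1 ^ K = 0 := by
    have := Ideal.pow_mem_pow x.2 K
    rw [hK] at this
    exact this
  let IM : Ideal (ResidueField B)[X] := Ideal.span {(Polynomial.X : (ResidueField B)[X]) ^ (K + 2)}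
  have hle : IM ≤ I2 := Ideal.span_singleton_le_span_singleton.2 (pow_dvd_pow _ (by omega))
  let p : (ResidueField B)[X] ⧸ IM →ₐ[P] (ResidueField B)[X] ⧸ I2 := Ideal.Quotient.factorₐ P hle
  have hp : Function.Surjective p := Ideal.Quotient.factor_surjective hle
  have hpn : IsNilpotent (RingHom.ker (p : (ResidueField B)[X] ⧸ IM →+* (ResidueField B)[X] ⧸ I2)) := by
    refine ⟨K + 2, ?_⟩
    show (RingHom.ker (Ideal.Quotient.factor hle)) ^ (K + 2) = ⊥
    rw [Ideal.Quotient.factor_ker, ← Ideal.map_pow, Ideal.map_eq_bot_iff_le_ker, Ideal.mk_ker,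
      Ideal.span_singleton_pow]
    exact Ideal.span_singleton_le_span_singleton.2 (by rw [← pow_mul]; exact pow_dvd_pow _ (by omega))
  let h := Algebra.FormallySmooth.liftOfSurjective g p hp hpn
  obtain ⟨q, hq⟩ := Ideal.Quotient.mk_surjective (h x.1)
  have hq2 : Ideal.Quotient.mk I2 q = Ideal.Quotient.mk I2 X := by
    have h1 : p (h x.1) = g x.1 := Algebra.FormallySmooth.liftOfSurjective_apply _ _ _ _ _
    rw [← hq] at h1
    refine Eq.trans ?_ (h1.trans ?_)
    · rfl
    · show Ideal.Quotient.mk I2 (C (π x.1) + C (D x.1) * X) = _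
      simp [hπx, hDx]
  rw [Ideal.Quotient.mk_eq_mk_iff_sub_mem, Ideal.mem_span_singleton] at hq2
  obtain ⟨w, hw⟩ := hq2
  have hqK : Ideal.Quotient.mk IM (q ^ K) = 0 := by rw [map_pow, hq, ← map_pow, hxK, map_zero]
  rw [Ideal.Quotient.eq_zero_iff_mem, Ideal.mem_span_singleton,
    show q = X * (1 + X * w) by linear_combination hw, mul_pow, pow_add,
    mul_dvd_mul_iff_left (pow_ne_zero _ X_ne_zero)] at hqK
  obtain ⟨u, hu⟩ := hqK
  simpa using congrArg (eval 0) hu

open IsLocalRing in
theorem maximalIdeal_eq_bot_of_formallySmooth (κ : Type u) (B : Type v) [Field κ] [CommRing B] [IsLocalRing B]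
    [IsArtinianRing B] [Algebra κ B] [Algebra.FormallySmooth κ B] : maximalIdeal B = ⊥ := by
  obtain ⟨p, hp⟩ := CharP.exists κ
  rcases (CharP.char_is_prime_or_zero κ p) with h | h
  · haveI := Fact.mk h
    letI := ZMod.algebra κ p
    exact isField_of_formallySmooth_perfect (ZMod p) κ B
  · subst h
    haveI := CharP.charP_to_charZero κ
    exact isField_of_formallySmooth_perfect ℚ κ B

/-- Let A → B be a homomorphism of Artinian local rings that is flat and formally smooth, where A has a
subring that is a field. Then A and B have the same length, each as a module over itself. -/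
theorem result (A : Type u) (B : Type v) [CommRing A] [CommRing B]
    [IsLocalRing A] [IsLocalRing B] [IsArtinianRing A] [IsArtinianRing B] [Algebra A B]
    [Module.Flat A B] [Algebra.FormallySmooth A B] (hK : ∃ K : Subring A, IsField K) :
    Module.length A A = Module.length B B := by
  haveI : IsLocalHom (algebraMap A B) := ⟨fun a ha => by
    by_contra hu
    have hn : IsNilpotent a := by
      obtain ⟨n, hn⟩ := IsArtinianRing.isNilpotent_jacobson_bot (R := A)
      rw [IsLocalRing.jacobson_eq_maximalIdeal ⊥ bot_ne_top] at hn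
      refine ⟨n, ?_⟩
      have := Ideal.pow_mem_pow (show a ∈ IsLocalRing.maximalIdeal A from hu) n
      rw [hn] at this
      exact this
    exact (hn.map (algebraMap A B)).not_isUnit ha⟩
  haveI : Module.FaithfullyFlat A B := Module.FaithfullyFlat.of_flat_of_isLocalHom
  let m := IsLocalRing.maximalIdeal A
  have hne : m.map (algebraMap A B) ≠ ⊤ := ne_top_of_le_ne_top (IsLocalRing.maximalIdeal.isMaximal B).ne_top
    (IsLocalRing.map_maximalIdeal_le (algebraMap A B))
  haveI : Nontrivial (B ⧸ m.map (algebraMap A B)) := Ideal.Quotient.nontrivial_iff.2 hne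
  haveI : IsLocalRing (B ⧸ m.map (algebraMap A B)) := IsLocalRing.of_surjective' _ Ideal.Quotient.mk_surjective
  letI : Field (A ⧸ m) := Ideal.Quotient.field m
  haveI : Algebra.FormallySmooth (A ⧸ m) (B ⧸ m.map (algebraMap A B)) :=
    Algebra.FormallySmooth.of_equiv (Algebra.TensorProduct.quotIdealMapEquivQuotTensor B m).symm
  have hmax : (m.map (algebraMap A B)).IsMaximal := by
    refine Ideal.Quotient.maximal_of_isField _ ?_
    rw [IsLocalRing.isField_iff_maximalIdeal_eq]
    exact maximalIdeal_eq_bot_of_formallySmooth (A ⧸ m) _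
  have hs : IsSimpleModule B (B ⧸ (m.map (algebraMap A B) • (⊤ : Submodule B B))) := by
    rw [smul_eq_mul, Ideal.mul_top]
    exact isSimpleModule_iff_quot_maximal.2 ⟨_, hmax, ⟨LinearEquiv.refl _ _⟩⟩
  have key := H25Len.length_baseChange (A := A) (B := B) A B
    (isFiniteLength_iff_isNoetherian_isArtinian.2 ⟨inferInstance, inferInstance⟩)
  rw [(TensorProduct.AlgebraTensorModule.rid A B B).length_eq, Module.length_eq_one_iff.2 hs, mul_one] at key
  exact key.symm

end Groth.Agent.S18056
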