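import Groth.Statements.S18057
import Mathlib
import Groth.Agent.S18056
import Groth.Agent.H8Props.FormallySmoothScheme

set_option autoImplicit false
universe u
open STCI

namespace Groth.Agent.S18057

open AlgebraicGeometry CategoryTheory in
theorem artinian_stalk_genericPoint (X : Scheme.{u}) [IrreducibleSpace ↥X] [IsNoetherian X] :
    IsArtinianRing (X.presheaf.stalk (genericPoint X)) := by
  have : Ring.KrullDimLE 0 (X.presheaf.stalk (genericPoint X)) := by
    have hsub : Subsingleton (PrimeSpectrum (X.presheaf.stalk (genericPoint X))) := by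
      refine ⟨fun p q => (X.fromSpecStalk (genericPoint X)).isEmbedding.injective ?_⟩
      have h : ∀ r : PrimeSpectrum (X.presheaf.stalk (genericPoint X)),
          X.fromSpecStalk (genericPoint X) r = genericPoint X := fun r => by
        have hr : X.fromSpecStalk (genericPoint X) r ∈ Set.range (X.fromSpecStalk (genericPoint X)) := ⟨r, rfl⟩
        rw [Scheme.range_fromSpecStalk] at hr
        exact (Specializes.antisymm hr ((genericPoint_spec ↥X).specializes trivial)).eq
      exact (h p).trans (h q).symm
    refine Ring.KrullDimLE.mk₀ fun I hI => ?_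
    obtain ⟨M, hM, -⟩ := Ideal.exists_le_maximal I hI.ne_top
    have : I = M := congrArg PrimeSpectrum.asIdeal (Subsingleton.elim (⟨I, hI⟩ : PrimeSpectrum _) ⟨M, hM.isPrime⟩)
    exact this ▸ hM
  exact isArtinianRing_iff_isNoetherianRing_krullDimLE_zero.2 ⟨inferInstance, inferInstance⟩

open AlgebraicGeometry CategoryTheory in
/-- For a morphism f : X' → X between irreducible Noetherian schemes that is flat and formally smooth,
with X defined over a field (rendered: the ring of global sections of X contains a subring that is a
field, which for nonempty X is the same as giving a morphism from X to the spectrum of a field), the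
local rings of X' and X at their generic points η', η (Artinian local rings) satisfy length
O_{X',η'} = length O_{X,η}. Formal smoothness is the infinitesimal lifting property against
square-zero thickenings of affine schemes. -/
theorem result {X' X : Scheme.{u}} (f : X' ⟶ X)
    [IrreducibleSpace ↥X'] [IrreducibleSpace ↥X] [IsNoetherian X'] [IsNoetherian X] [Flat f]
    (hf : MoreMor.IsFormallySmoothHom f) (hK : ∃ K : Subring Γ(X, ⊤), IsField K) :
    Module.length (X'.presheaf.stalk (genericPoint X')) (X'.presheaf.stalk (genericPoint X'))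
      = Module.length (X.presheaf.stalk (genericPoint X)) (X.presheaf.stalk (genericPoint X)) := by
  have hgen : genericPoint X = f (genericPoint X') := by
    have hfl : (f.stalkMap (genericPoint X')).hom.Flat := Flat.iff_flat_stalkMap f |>.1 inferInstance _
    algebraize [(f.stalkMap (genericPoint X')).hom]
    haveI : IsLocalHom (algebraMap (X.presheaf.stalk (f (genericPoint X'))) (X'.presheaf.stalk (genericPoint X'))) :=
      inferInstanceAs (IsLocalHom (f.stalkMap (genericPoint X')).hom)
    have := Module.FaithfullyFlat.of_flat_of_isLocalHom (A := X.presheaf.stalk (f (genericPoint X')))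
      (B := X'.presheaf.stalk (genericPoint X'))
    obtain ⟨p, hp⟩ : genericPoint X ∈ Set.range (X.fromSpecStalk (f (genericPoint X'))) := by
      rw [Scheme.range_fromSpecStalk]
      exact (genericPoint_spec ↥X).specializes trivial
    obtain ⟨q, rfl⟩ := PrimeSpectrum.comap_surjective_of_faithfullyFlat (B := X'.presheaf.stalk (genericPoint X')) p
    have hq : X'.fromSpecStalk (genericPoint X') q = genericPoint X' := by
      have hr : X'.fromSpecStalk (genericPoint X') q ∈ Set.range (X'.fromSpecStalk (genericPoint X')) := ⟨q, rfl⟩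
      rw [Scheme.range_fromSpecStalk] at hr
      exact (Specializes.antisymm hr ((genericPoint_spec ↥X').specializes trivial)).eq
    rw [← hp]
    exact (congrArg (fun g : Spec (X'.presheaf.stalk (genericPoint X')) ⟶ X => g q)
      (Scheme.SpecMap_stalkMap_fromSpecStalk f (x := genericPoint X'))).trans (congrArg f hq)
  rw [hgen]
  have hA : IsArtinianRing (X.presheaf.stalk (f (genericPoint X'))) := hgen ▸ artinian_stalk_genericPoint X
  haveI := artinian_stalk_genericPoint X'
  obtain ⟨K, hK⟩ := hK
  obtain ⟨_, ⟨(V : X.Opens), hV, rfl⟩, hxV, -⟩ :=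
    X.isBasis_affineOpens.exists_subset_of_mem_open (Set.mem_univ (f (genericPoint X'))) isOpen_univ
  obtain ⟨_, ⟨(U : X'.Opens), hU, rfl⟩, hxU, hUV⟩ :=
    X'.isBasis_affineOpens.exists_subset_of_mem_open (show genericPoint X' ∈ f ⁻¹ᵁ V from hxV) (f ⁻¹ᵁ V).isOpen
  replace hV : IsAffineOpen V := hV
  replace hU : IsAffineOpen U := hU
  have hUV' : U ≤ f ⁻¹ᵁ V := hUV
  have hFS := H8Props.FormallySmoothScheme.formallySmooth_appLE f hf hU hV hUV'
  letI a1 := TopCat.Presheaf.algebra_section_stalk X.presheaf (⟨f (genericPoint X'), hxV⟩ : V)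
  letI a2 := TopCat.Presheaf.algebra_section_stalk X'.presheaf (⟨genericPoint X', hxU⟩ : U)
  letI a3 := (f.stalkMap (genericPoint X')).hom.toAlgebra
  letI a4 : Algebra Γ(X, V) Γ(X', U) := (f.appLE V U hUV').hom.toAlgebra
  letI a5 : Algebra Γ(X, V) (X'.presheaf.stalk (genericPoint X')) :=
    ((f.appLE V U hUV') ≫ X'.presheaf.germ U (genericPoint X') hxU).hom.toAlgebra
  haveI : IsScalarTower Γ(X, V) Γ(X', U) (X'.presheaf.stalk (genericPoint X')) := .of_algebraMap_eq fun _ => rfl
  haveI : IsScalarTower Γ(X, V) (X.presheaf.stalk (f (genericPoint X'))) (X'.presheaf.stalk (genericPoint X')) := by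
    have h : f.appLE V U hUV' ≫ X'.presheaf.germ U (genericPoint X') hxU =
      X.presheaf.germ V (f (genericPoint X')) hxV ≫ f.stalkMap (genericPoint X') := by
      rw [Scheme.Hom.germ_stalkMap f V (genericPoint X') hxV, Scheme.Hom.appLE, Category.assoc,
        TopCat.Presheaf.germ_res]
    exact .of_algebraMap_eq fun a => congr($h a)
  haveI := hV.isLocalization_stalk ⟨f (genericPoint X'), hxV⟩
  haveI := hU.isLocalization_stalk ⟨genericPoint X', hxU⟩
  haveI : Algebra.FormallySmooth Γ(X', U) (X'.presheaf.stalk (genericPoint X')) :=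
    Algebra.FormallySmooth.of_isLocalization (hU.primeIdealOf ⟨genericPoint X', hxU⟩).asIdeal.primeCompl
  haveI : Algebra.FormallyUnramified Γ(X, V) (X.presheaf.stalk (f (genericPoint X'))) :=
    Algebra.FormallyUnramified.of_isLocalization (hV.primeIdealOf ⟨f (genericPoint X'), hxV⟩).asIdeal.primeCompl
  haveI : Algebra.FormallySmooth Γ(X, V) (X'.presheaf.stalk (genericPoint X')) :=
    Algebra.FormallySmooth.comp _ Γ(X', U) _
  haveI : Algebra.FormallySmooth (X.presheaf.stalk (f (genericPoint X'))) (X'.presheaf.stalk (genericPoint X')) :=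
    Algebra.FormallySmooth.of_restrictScalars Γ(X, V) _ _
  haveI : Module.Flat (X.presheaf.stalk (f (genericPoint X'))) (X'.presheaf.stalk (genericPoint X')) :=
    Flat.iff_flat_stalkMap f |>.1 inferInstance (genericPoint X')
  refine (Groth.Agent.S18056.result _ _ ?_).symm
  let φ : Γ(X, ⊤) →+* X.presheaf.stalk (f (genericPoint X')) := (X.presheaf.germ ⊤ (f (genericPoint X')) trivial).hom
  letI := hK.toField
  exact ⟨(φ.comp K.subtype).range, MulEquiv.isField hK
    (RingEquiv.ofBijective (φ.comp K.subtype).rangeRestrict ⟨fun a b h => (φ.comp K.subtype).injective (congrArg Subtype.val h),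
      (φ.comp K.subtype).rangeRestrict_surjective⟩).symm.toMulEquiv⟩

end Groth.Agent.S18057
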