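import Groth.Statements.S18063
import Groth.Agent.H19Grp.SchDense

set_option autoImplicit false
set_option maxHeartbeats 1000000
set_option synthInstance.maxHeartbeats 100000
set_option linter.style.haveILetI false
set_option backward.isDefEq.respectTransparency false
universe u
open CategoryTheory MonoidalCategory CartesianMonoidalCategory MonObj GrpObj AlgebraicGeometry CategoryTheory.Limits
open AlgGrp

namespace Groth.Agent.S18063

open MonoidalCategory CartesianMonoidalCategory MonObj Limits in
lemma schDom_spec_map {A K : Type u} [CommRing A] [CommRing K] (f : A →+* K) (hf : Function.Injective f) :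
    IsSchemeTheoreticallyDominant (Spec.map (CommRingCat.ofHom f)) := by
  constructor
  apply Scheme.IdealSheafData.ext_of_isAffine
  rw [Scheme.Hom.ker_apply, Scheme.IdealSheafData.ideal_bot]
  simp only [Pi.bot_apply]
  rw [← RingHom.injective_iff_ker_eq_bot]
  exact (MorphismProperty.arrow_mk_iso_iff (MorphismProperty.injective CommRingCat)
    (arrowIsoΓSpecOfIsAffine (CommRingCat.ofHom f))).mp hf


/-- A is a discrete valuation ring, K denotes its field of fractions and k its residue field, and G is
an A-group scheme that is flat, separated and of finite presentation. If the generic fibre G_K is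
commutative, then the special fibre G_k is commutative. (The published statement does not require G
separated over A, and its proof argues by density of the generic fibre; without separatedness the
conclusion fails: gluing copies of Spec A indexed by a finite non-abelian group along their common
generic point gives a flat group scheme of finite presentation over A whose generic fibre is the
trivial group and whose special fibre is that non-abelian constant group. So G is taken separated
here.) -/
theorem result (A : Type u) [CommRing A] [IsDomain A] [IsDiscreteValuationRing A]
    (K : Type u) [Field K] [Algebra A K] [IsFractionRing A K]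
    (G : Over (Spec (CommRingCat.of A))) [GrpObj G] [Flat G.hom] [LocallyOfFinitePresentation G.hom] [QuasiCompact G.hom]
    [IsSeparated G.hom] [IsCommMonObj (Red.bc (Spec.map (CommRingCat.ofHom (algebraMap A K))) G)] :
    IsCommMonObj (Red.bc (Spec.map (CommRingCat.ofHom (algebraMap A (IsLocalRing.ResidueField A)))) G) := by
  set t := Spec.map (CommRingCat.ofHom (algebraMap A K)) with ht
  haveI : IsSchemeTheoreticallyDominant t := schDom_spec_map _ (IsFractionRing.injective A K)
  haveI : QuasiCompact t := inferInstance
  haveI : Flat (G ⊗ G).hom := by
    have h1 : Flat (pullback.snd G.hom G.hom) := inferInstance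
    have h2 : Flat (pullback.snd G.hom G.hom ≫ G.hom) := inferInstance
    change Flat (pullback.fst G.hom G.hom ≫ G.hom)
    rw [pullback.condition]; exact h2
  let F := Over.pullback t
  have hc := IsCommMonObj.mul_comm (F.obj G)
  have hmap : F.map ((β_ G G).hom ≫ μ[G]) = F.map μ[G] := by
    rw [← cancel_epi (Functor.LaxMonoidal.μ F G G), Functor.map_comp]
    have h3 : μ[F.obj G] = Functor.LaxMonoidal.μ F G G ≫ F.map μ[G] := rfl
    rw [h3] at hc
    rw [← hc, ← Category.assoc, ← Category.assoc]
    congr 1
    exact Functor.LaxBraided.braided (F := F) G G
  haveI : IsSchemeTheoreticallyDominant (pullback.fst (G ⊗ G).hom t) :=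
    IsSchemeTheoreticallyDominant.of_isPullback (IsPullback.of_hasPullback (G ⊗ G).hom t).flip
  have hcomm : (β_ G G).hom ≫ μ[G] = μ[G] := by
    apply Over.OverMorphism.ext
    refine H19Grp.ext_of_ker_eq_bot (pullback.fst (G ⊗ G).hom t) (Scheme.Hom.ker_eq_bot _) G.hom ?_ ?_
    · rw [Over.w, Over.w]
    · have h4 := congrArg (fun m => m.left ≫ pullback.fst G.hom t) hmap
      simpa only [F, Over.pullback_map_left, pullback.lift_fst, Over.comp_left, Category.assoc] using h4
  haveI : IsCommMonObj G := ⟨hcomm⟩
  infer_instance

end Groth.Agent.S18063
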