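import Groth.Statements.S18067
import Groth.Agent.H19Chev.PowAffine
import Groth.Agent.H19Chev.AntiAffineFinite
import Groth.Agent.S14744

set_option autoImplicit false
set_option maxHeartbeats 1000000
set_option synthInstance.maxHeartbeats 100000
set_option linter.style.haveILetI false
set_option backward.isDefEq.respectTransparency false
universe u
open CategoryTheory MonoidalCategory CartesianMonoidalCategory MonObj GrpObj AlgebraicGeometry CategoryTheory.Limits
open AlgGrp

namespace Groth.Agent.S18067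

open Groth.Agent Groth.Agent.H25AbCube Groth.Agent.H19Quot

attribute [local instance] Functor.grpObjObj


/-- Let k be a field and G an anti-affine algebraic group over k, i.e. a smooth k-group scheme of finite
type with O(G) = k (hence connected and commutative). Then for every non-zero integer n the n-th
power map G → G, x ↦ x^n, is an isogeny: surjective and finite. -/
theorem result (k : Type u) [Field k]
    (G : Over (Spec (CommRingCat.of k))) [GrpObj G] [Smooth G.hom] [QuasiCompact G.hom]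
    (hG : Function.Bijective ((Scheme.ΓSpecIso (CommRingCat.of k)).inv ≫ G.hom.appTop).hom) (n : ℤ) (hn : n ≠ 0) :
    Surjective ((𝟙 G) ^ n).left ∧ IsFinite ((𝟙 G) ^ n).left := by
  classical
  haveI : IsSeparated G.hom := H19Grp.AffineQuotient.isSeparated_of_grp G
  haveI : IsIso G.hom.appTop := by
    haveI : IsIso ((Scheme.ΓSpecIso (CommRingCat.of k)).inv ≫ G.hom.appTop) :=
      (ConcreteCategory.isIso_iff_bijective _).2 hG
    exact IsIso.of_isIso_comp_left (Scheme.ΓSpecIso (CommRingCat.of k)).inv _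
  haveI := H19Grp.AntiAffineGroup.connectedSpace G
  haveI : IsCommMonObj G := H19Grp.AntiAffineGroup.isCommMonObj G
  haveI := H19Chev.geometricallyIntegral_grp G
  suffices H : ∀ m : ℕ, 0 < m → Surjective ((𝟙 G) ^ m : G ⟶ G).left ∧ IsFinite ((𝟙 G) ^ m : G ⟶ G).left by
    have hi : ((𝟙 G)⁻¹ : G ⟶ G) ≫ (𝟙 G)⁻¹ = 𝟙 G := by rw [GrpObj.comp_inv, Category.comp_id, _root_.inv_inv]
    haveI : IsIso ((𝟙 G)⁻¹ : G ⟶ G) := ⟨(𝟙 G)⁻¹, hi, hi⟩
    haveI : IsIso ((𝟙 G)⁻¹ : G ⟶ G).left := inferInstanceAs (IsIso ((Over.forget _).map ((𝟙 G)⁻¹ : G ⟶ G)))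
    obtain ⟨m, rfl | rfl⟩ := Int.eq_nat_or_neg n
    · rw [zpow_natCast]; exact H m (by omega)
    · obtain ⟨h1, h2⟩ := H m (by omega)
      haveI := h1; haveI := h2
      rw [zpow_neg, zpow_natCast, show ((𝟙 G) ^ m : G ⟶ G)⁻¹ = ((𝟙 G) ^ m : G ⟶ G) ≫ (𝟙 G)⁻¹ by
        rw [GrpObj.comp_inv, Category.comp_id], Over.comp_left]
      exact ⟨inferInstance, inferInstance⟩
  intro m hm
  let K := AlgebraicClosure k
  let F := GeomTate.bc k K
  haveI := GeomTate.flat_σ k K
  haveI := GeomTate.surjective_σ k K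
  haveI : Smooth (F.obj G).hom := inferInstanceAs (Smooth (pullback.snd G.hom (GeomTate.σ k K)))
  haveI : QuasiCompact (F.obj G).hom := inferInstanceAs (QuasiCompact (pullback.snd G.hom (GeomTate.σ k K)))
  haveI : GeometricallyIntegral (F.obj G).hom :=
    inferInstanceAs (GeometricallyIntegral (pullback.snd G.hom (GeomTate.σ k K)))
  haveI : IsIntegral (F.obj G).left := GeometricallyIntegral.isIntegral_of_subsingleton (F.obj G).hom
  haveI hK : IsIso (F.obj G).hom.appTop :=
    H19Grp.AntiAffine.isIso_appTop_baseChange (p := (F.obj G).hom) (IsPullback.of_hasPullback G.hom (GeomTate.σ k K)).flip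
  haveI : IsCommMonObj (F.obj G) := H19Grp.AntiAffineGroup.isCommMonObj (F.obj G)
  have hb : Function.Bijective ((Scheme.ΓSpecIso (CommRingCat.of K)).inv ≫ (F.obj G).hom.appTop).hom :=
    ConcreteCategory.bijective_of_isIso ((Scheme.ΓSpecIso (CommRingCat.of K)).inv ≫ (F.obj G).hom.appTop)
  haveI hs := S14744.result K (F.obj G) hb m hm
  haveI : IsMonHom ((𝟙 (F.obj G)) ^ m : F.obj G ⟶ F.obj G) :=
    H19Grp.AntiAffineGroup.isMonHom_of_one_hom _ (by rw [MonObj.comp_pow, Category.comp_id, MonObj.one_eq_one, one_pow])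
  haveI : IsFinite ((𝟙 (F.obj G)) ^ m : F.obj G ⟶ F.obj G).left :=
    H19Chev.isFinite_of_finite_ker _ (H19Chev.finite_ker_of_surjective _)
  have e : F.map ((𝟙 G) ^ m : G ⟶ G) = ((𝟙 (F.obj G)) ^ m : F.obj G ⟶ F.obj G) := by
    rw [← F.map_id G]
    exact map_pow (Functor.homMonoidHom F) _ m
  have hsq := H19Chev.isPullback_bc K ((𝟙 G) ^ m : G ⟶ G)
  haveI : Surjective (pullback.fst G.hom (GeomTate.σ k K)) :=
    MorphismProperty.pullback_fst (P := @Surjective) _ _ inferInstance
  haveI : Flat (pullback.fst G.hom (GeomTate.σ k K)) :=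
    MorphismProperty.pullback_fst (P := @Flat) _ _ inferInstance
  haveI : QuasiCompact (pullback.fst G.hom (GeomTate.σ k K)) :=
    MorphismProperty.pullback_fst (P := @QuasiCompact) _ _ inferInstance
  haveI : Surjective (F.map ((𝟙 G) ^ m : G ⟶ G)).left := by rw [e]; exact hs
  haveI : IsFinite (F.map ((𝟙 G) ^ m : G ⟶ G)).left := by rw [e]; infer_instance
  refine ⟨?_, MorphismProperty.of_isPullback_of_descendsAlong (P := @IsFinite) (Q := H18Descent.fpqc) hsq
    ⟨⟨inferInstance, inferInstance⟩, inferInstance⟩ inferInstance⟩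
  haveI : Surjective (pullback.fst G.hom (GeomTate.σ k K) ≫ ((𝟙 G) ^ m : G ⟶ G).left) := by
    rw [← hsq.w]
    exact inferInstanceAs (Surjective ((F.map ((𝟙 G) ^ m : G ⟶ G)).left ≫ pullback.fst G.hom (GeomTate.σ k K)))
  exact Surjective.of_comp (pullback.fst G.hom (GeomTate.σ k K)) _

end Groth.Agent.S18067
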