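import Groth.Statements.S18068
import Groth.Agent.H19Grp.AntiAffineGroup
import Groth.Agent.H19Grp.QuotientDesc
import Groth.Agent.H19Grp.Kernel
import Groth.Agent.H19Grp.HomFlat
import Groth.Agent.H19Grp.Reduced
import Groth.Agent.H19Grp.PointRigid
import Groth.Agent.H12AlgSp.FreeActionQuot
import Groth.Agent.H7Lim.Chevalley
import Groth.Agent.S5938
import Groth.Agent.H13AlgSp.EtaleLocally
import Groth.Agent.H19Grp.ImageFactor

set_option autoImplicit false
set_option maxHeartbeats 1000000
set_option synthInstance.maxHeartbeats 100000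
set_option linter.style.haveILetI false
set_option backward.isDefEq.respectTransparency false
universe u
open CategoryTheory MonoidalCategory CartesianMonoidalCategory MonObj GrpObj AlgebraicGeometry CategoryTheory.Limits
open AlgGrp

namespace Groth.Agent.S18068

open Groth.Agent.H19Grp in
theorem finite_of_surjective {k : Type u} [Field k] {K A C : Over (Spec (CommRingCat.of k))} [IsFinite K.hom]
    (p : K ⟶ C) [Surjective p.left] (i : C ⟶ A) [IsClosedImmersion i.left] [IsAffine A.left]
    [LocallyOfFiniteType A.hom] : IsFinite C.hom := by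
  haveI : IsAffine C.left := isAffine_of_isAffineHom i.left
  haveI : IsSeparated A.hom := inferInstance
  haveI : IsSeparated C.hom := inferInstance
  haveI : LocallyOfFiniteType C.hom := by rw [← Over.w i]; infer_instance
  haveI : UniversallyClosed (p.left ≫ C.hom) := by rw [Over.w p]; infer_instance
  haveI : UniversallyClosed C.hom := UniversallyClosed.of_comp_surjective p.left C.hom
  haveI : QuasiCompact C.hom := inferInstance
  haveI : IsProper C.hom := ⟨⟩
  exact IsFinite.iff_isProper_and_isAffineHom.mpr ⟨inferInstance, inferInstance⟩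


/-- Let k be a field and f : G → H an isogeny (a surjective homomorphism with finite kernel, i.e.
surjective and finite) of connected commutative algebraic groups over k. Then G is anti-affine (O(G)
= k) if and only if H is anti-affine. -/
theorem result (k : Type u) [Field k]
    (G H : Over (Spec (CommRingCat.of k))) [GrpObj G] [Smooth G.hom] [QuasiCompact G.hom] [ConnectedSpace ↥G.left] [IsCommMonObj G]
    [GrpObj H] [Smooth H.hom] [QuasiCompact H.hom] [ConnectedSpace ↥H.left] [IsCommMonObj H]
    (f : G ⟶ H) [IsMonHom f] [Surjective f.left] [IsFinite f.left] :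
    Function.Bijective ((Scheme.ΓSpecIso (CommRingCat.of k)).inv ≫ G.hom.appTop).hom ↔
      Function.Bijective ((Scheme.ΓSpecIso (CommRingCat.of k)).inv ≫ H.hom.appTop).hom := by
  haveI : IsNoetherianRing (CommRingCat.of k) := inferInstanceAs (IsNoetherianRing k)
  haveI : IsLocallyNoetherian G.left := LocallyOfFiniteType.isLocallyNoetherian G.hom
  haveI : IsLocallyNoetherian H.left := LocallyOfFiniteType.isLocallyNoetherian H.hom
  haveI : LocallyOfFinitePresentation f.left := inferInstance
  haveI : Flat f.left := Groth.Agent.H19Grp.flat_of_surjective f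
  refine ⟨fun hG => ?_, fun hH => ?_⟩
  · haveI : IsIso G.hom.appTop := (Groth.Agent.H19Grp.AntiAffine.isIso_appTop_iff G.hom).mpr hG
    exact (Groth.Agent.H19Grp.AntiAffine.isIso_appTop_iff H.hom).mp
      (Groth.Agent.H19Grp.AntiAffineGroup.isIso_appTop_of_flat_surjective f)
  haveI : IsIso H.hom.appTop := (Groth.Agent.H19Grp.AntiAffine.isIso_appTop_iff H.hom).mpr hH
  obtain ⟨hρf, hρs, hAl⟩ := Groth.Agent.H19Grp.Affinization.flat_surjective G
  obtain ⟨gA, hρ⟩ := Groth.Agent.H19Grp.Affinization.exists_grpObj G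
  let A := Groth.Agent.H19Grp.Affinization.aff G
  let ρ := Groth.Agent.H19Grp.Affinization.rho G
  haveI : LocallyOfFiniteType A.hom := hAl
  haveI : IsLocallyNoetherian A.left := LocallyOfFiniteType.isLocallyNoetherian A.hom
  haveI : Flat ρ.left := hρf
  haveI : Surjective ρ.left := hρs
  haveI : IsReduced (Spec (CommRingCat.of k)) := inferInstance
  haveI : IsReduced G.left := Groth.Agent.H13AlgSp.isReduced_of_smooth_mor G.hom
  haveI : IsReduced A.left := Groth.Agent.H19Grp.isReduced_of_flat_surjective ρ.left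
  haveI : QuasiCompact A.hom := inferInstance
  haveI : IsSeparated A.hom := inferInstance
  -- kernel of the isogeny
  let Kr : Over (Spec (CommRingCat.of k)) := Over.mk (pullback.snd f.left η[H].left)
  have hKw : pullback.fst f.left η[H].left ≫ G.hom = Kr.hom := by
    rw [← Over.w f, reassoc_of% (pullback.condition (f := f.left) (g := η[H].left)), Over.w η[H]]
    exact Category.comp_id _
  let i : Kr ⟶ G := Over.homMk (pullback.fst f.left η[H].left) hKw
  haveI : IsFinite Kr.hom := MorphismProperty.pullback_snd (P := @IsFinite) _ _ inferInstance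
  have hker : AlgGrp.IsKernel i f := Groth.Agent.H19Grp.isKernel_of
    (by rw [Hom.one_def]; exact Over.OverMorphism.ext pullback.condition)
    (fun T a b h => Over.OverMorphism.ext (pullback.hom_ext (congrArg (·.left) h) ((Over.w a).trans (Over.w b).symm)))
    (fun T x hx => by
      refine ⟨Over.homMk (pullback.lift x.left T.hom ?_) (pullback.lift_snd _ _ _), Over.OverMorphism.ext (pullback.lift_fst _ _ _)⟩
      have := congrArg (·.left) hx
      rw [Hom.one_def] at this
      exact this)
  -- its image in the affinization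
  obtain ⟨gK, hi⟩ : ∃ _ : GrpObj Kr, IsMonHom i := by
    haveI := Groth.Agent.H19Grp.kernel_mono hker
    obtain ⟨e₀, he₀⟩ := Groth.Agent.H19Grp.kernel_lift hker η[G] (by
      rw [IsMonHom.one_hom f, Hom.one_def, toUnit_unique (toUnit (𝟙_ (Over (Spec (CommRingCat.of k))))) (𝟙 _), Category.id_comp])
    obtain ⟨m₀, hm₀⟩ := Groth.Agent.H19Grp.kernel_lift hker ((i ⊗ₘ i) ≫ μ[G]) (by
      rw [show (i ⊗ₘ i) ≫ μ[G] = (fst _ _ ≫ i) * (snd _ _ ≫ i) by rw [Hom.mul_def, lift_fst_comp_snd_comp],
        MonObj.mul_comp, Category.assoc, Category.assoc, Groth.Agent.H19Grp.kernel_comp_eq_one hker,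
        MonObj.comp_one, MonObj.comp_one, _root_.mul_one])
    obtain ⟨i₀, hi₀⟩ := Groth.Agent.H19Grp.kernel_lift hker (i ≫ ι[G]) (by
      rw [← Hom.inv_def, GrpObj.inv_comp, Groth.Agent.H19Grp.kernel_comp_eq_one hker, inv_one])
    exact Groth.Agent.H19Grp.exists_grpObj_of_mono G i e₀ he₀ m₀ hm₀ i₀ hi₀
  haveI := hi
  haveI : QuasiCompact (i ≫ ρ).left := by
    haveI : QuasiCompact ((i ≫ ρ).left ≫ A.hom) := by rw [Over.w (i ≫ ρ)]; infer_instance
    exact QuasiCompact.of_comp (i ≫ ρ).left A.hom
  obtain ⟨L, gL, p, l, hp, hl, hpl, hpf, hps, hpfp, hlcl, hLlft, -⟩ :=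
    Groth.Agent.H19Grp.ImageFactor.exists_image_factor Kr A (i ≫ ρ) (by
      have h : ∀ {X : Scheme.{u}} (g : X ⟶ Spec (CommRingCat.of k)), Flat g := fun g => inferInstance
      exact h _)
  haveI := hlcl
  haveI := hps
  haveI := hl
  haveI : IsFinite L.hom := finite_of_surjective p l
  haveI : Mono l := Over.mono_of_mono_left _
  let act : AlgGrp.Action L A :=
    { act := (fst L A ≫ l) * snd L A
      one_act := by
        rw [MonObj.comp_mul, ← Category.assoc, whiskerRight_fst, whiskerRight_snd, Category.assoc,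
          IsMonHom.one_hom l, leftUnitor_hom]
        rw [toUnit_unique (fst (𝟙_ _) A) (toUnit _), ← Hom.one_def, _root_.one_mul]
      mul_act := by
        have hμ : μ[L] ≫ l = (fst L L ≫ l) * (snd L L ≫ l) := by
          rw [← MonObj.mul_comp, Hom.mul_def, lift_fst_snd, Category.id_comp]
        simp only [MonObj.comp_mul, whiskerRight_fst_assoc, whiskerRight_snd, whiskerLeft_fst_assoc,
          whiskerLeft_snd, associator_hom_fst_assoc, associator_hom_snd_fst_assoc,
          associator_hom_snd_snd, hμ]
        simp only [← _root_.mul_assoc, Category.assoc] }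
  have hfree : ∀ (T : Over (Spec (CommRingCat.of k))) (g : T ⟶ L) (x : T ⟶ A), lift g x ≫ act.act = x →
      g = toUnit T ≫ η[L] := by
    intro T g x h
    rw [← cancel_mono l, Category.assoc, IsMonHom.one_hom l, ← Hom.one_def]
    have h' : (g ≫ l) * x = x := by simpa [act, MonObj.comp_mul] using h
    simpa using h'
  haveI : IsFinite (Groth.Agent.H12AlgSp.ActionGroupoid.groupoid act).s := inferInstanceAs (IsFinite (Limits.pullback.snd L.hom A.hom))
  haveI : Flat (Groth.Agent.H12AlgSp.ActionGroupoid.groupoid act).s := inferInstanceAs (Flat (Limits.pullback.snd L.hom A.hom))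
  haveI : LocallyOfFinitePresentation (Groth.Agent.H12AlgSp.ActionGroupoid.groupoid act).s :=
    inferInstanceAs (LocallyOfFinitePresentation (Limits.pullback.snd L.hom A.hom))
  haveI := Groth.Agent.H12AlgSp.ActionGroupoid.mono_j act hfree
  obtain ⟨M, q₀, q1, q2, q3, sq₀, hq⟩ := Groth.Agent.H12AlgSp.exists_finLocFree_quotient (Groth.Agent.H12AlgSp.ActionGroupoid.groupoid act)
    (Groth.Agent.H12AlgSp.ActionGroupoid.orbit_in_affine act (Or.inl inferInstance))
  let q : A ⟶ M := q₀
  have sq : IsPullback act.act.left (snd L A).left q.left q.left := sq₀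
  have hw : act.act ≫ q = snd L A ≫ q := Over.OverMorphism.ext sq.w
  haveI : IsFinite q.left := q1
  haveI : LocallyOfFinitePresentation q.left := q3
  haveI : Surjective q.left := Groth.Agent.H12AlgSp.surjective_of_isQuotient hq
  haveI : IsAffine M.left := by
    haveI : LocallyOfFiniteType M.hom := by
      haveI : Flat q.left := q2
      haveI : LocallyOfFiniteType (q.left ≫ M.hom) := by rw [Over.w q]; infer_instance
      exact Groth.Agent.S5938.result q.left M.hom
    haveI : IsLocallyNoetherian M.left := LocallyOfFiniteType.isLocallyNoetherian M.hom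
    haveI : CompactSpace M.left := ⟨by
      rw [← Set.range_eq_univ.mpr q.left.surjective]; exact isCompact_range q.left.continuous⟩
    exact Groth.Agent.H7Lim.Chevalley.isAffine_of_finite_fp_surjective q.left
  obtain ⟨ψ, hψ, -⟩ := Groth.Agent.H19Grp.QuotientDesc.existsUnique_desc f (ρ ≫ q) fun T x y hxy => by
    obtain ⟨z, hz⟩ := Groth.Agent.H19Grp.kernel_lift hker (x * y⁻¹)
      (by rw [MonObj.mul_comp, GrpObj.inv_comp, hxy, mul_inv_cancel])
    have h := congrArg (lift (z ≫ p) (y ≫ ρ) ≫ ·) hw
    simp only [← Category.assoc, lift_snd] at h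
    rw [show act.act = (fst L A ≫ l) * snd L A from rfl, MonObj.comp_mul, ← Category.assoc, lift_fst, lift_snd,
      Category.assoc z p l, hpl, ← Category.assoc z i ρ, hz, MonObj.mul_comp x y⁻¹ ρ, GrpObj.inv_comp, inv_mul_cancel_right] at h
    simpa only [Category.assoc] using h
  obtain ⟨c, rfl⟩ := Groth.Agent.H19Grp.AntiAffineSmooth.exists_eq_toUnit ψ
  haveI : LocallyOfFinitePresentation ρ.left := by
    haveI : LocallyOfFiniteType (ρ.left ≫ A.hom) := by rw [Over.w ρ]; infer_instance
    haveI : LocallyOfFiniteType ρ.left := locallyOfFiniteType_of_comp ρ.left A.hom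
    infer_instance
  haveI : Epi ρ := (Over.forget _).epi_of_epi_map (show Epi ρ.left from Flat.epi_of_flat_of_surjective _)
  have hK : q = toUnit A ≫ c := by
    rw [← cancel_epi ρ, ← hψ, ← Category.assoc, ← Category.assoc, toUnit_unique (f ≫ toUnit H) (ρ ≫ toUnit A)]
  have sq' : IsPullback act.act (snd L A) q q := IsPullback.of_map (Over.forget _) hw sq
  let t : A ⟶ L ⊗ A := sq'.lift (𝟙 A) (1 : A ⟶ A) (by rw [hK, ← Category.assoc, ← Category.assoc,
    toUnit_unique ((𝟙 A) ≫ toUnit A) ((1 : A ⟶ A) ≫ toUnit A)])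
  let s : A ⟶ L := t ≫ fst L A
  have hs : s ≫ l = 𝟙 A := by
    have h1 : t ≫ act.act = 𝟙 A := sq'.lift_fst _ _ _
    have h2 : t ≫ snd L A = 1 := sq'.lift_snd _ _ _
    rw [show act.act = (fst L A ≫ l) * snd L A from rfl, MonObj.comp_mul, h2, _root_.mul_one] at h1
    rw [Category.assoc]; exact h1
  haveI : IsSplitEpi l := ⟨⟨⟨s, hs⟩⟩⟩
  haveI : IsIso l := isIso_of_mono_of_isSplitEpi l
  haveI : IsIso l.left := inferInstanceAs (IsIso ((Over.forget _).map l))
  haveI : IsFinite A.hom := by
    have : A.hom = inv l.left ≫ L.hom := by rw [← Over.w l, IsIso.inv_hom_id_assoc]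
    rw [this]; infer_instance
  haveI : ConnectedSpace A.left := by
    refine connectedSpace_iff_univ.mpr ?_
    rw [← Set.range_eq_univ.mpr ρ.left.surjective]
    exact isConnected_range ρ.left.continuous
  haveI : IsIso A.hom.appTop := by
    rw [ConcreteCategory.isIso_iff_bijective]
    refine ⟨fun a b hab => ?_, Groth.Agent.H19Grp.appTop_surjective_of_rat_point A.hom η[A].left (Over.w η[A])⟩
    have e := congrArg η[A].left.appTop hab
    rw [← CommRingCat.comp_apply, ← CommRingCat.comp_apply, ← Scheme.Hom.comp_appTop, Over.w η[A]] at e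
    have hi : Function.Bijective (𝟙_ (Over (Spec (CommRingCat.of k)))).hom.appTop := by
      show Function.Bijective (Scheme.Hom.appTop (𝟙 (Spec (CommRingCat.of k))))
      rw [Scheme.Hom.id_appTop]; exact Function.bijective_id
    exact hi.1 e
  obtain ⟨c', hc'⟩ := Groth.Agent.H19Grp.AntiAffineSmooth.exists_eq_toUnit (𝟙 A)
  apply (Groth.Agent.H19Grp.AntiAffine.isIso_appTop_iff G.hom).mp
  refine Groth.Agent.H19Grp.AntiAffineGroup.isIso_appTop_of_rho_const G c' ?_
  show ρ = toUnit G ≫ c'
  rw [← Category.comp_id ρ, hc', ← Category.assoc, toUnit_unique (ρ ≫ toUnit A) (toUnit G)]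

end Groth.Agent.S18068
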