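import Groth.Statements.S18069
import Groth.Agent.H19Grp.AntiAffineGroup
import Groth.Agent.H19Grp.QuotientDesc
import Groth.Agent.H19Grp.Kernel

set_option autoImplicit false
set_option maxHeartbeats 1000000
set_option synthInstance.maxHeartbeats 100000
set_option linter.style.haveILetI false
set_option backward.isDefEq.respectTransparency false
universe u
open CategoryTheory MonoidalCategory CartesianMonoidalCategory MonObj GrpObj AlgebraicGeometry CategoryTheory.Limits
open AlgGrp

namespace Groth.Agent.S18069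

/-- Let k be a field and G₁, G₂ connected k-group schemes of finite type. Then G₁ × G₂ is anti-affine,
i.e. O(G₁ × G₂) = k, if and only if G₁ and G₂ are both anti-affine. -/
theorem result (k : Type u) [Field k]
    (G₁ G₂ : Over (Spec (CommRingCat.of k))) [GrpObj G₁] [LocallyOfFiniteType G₁.hom] [QuasiCompact G₁.hom] [ConnectedSpace ↥G₁.left]
    [GrpObj G₂] [LocallyOfFiniteType G₂.hom] [QuasiCompact G₂.hom] [ConnectedSpace ↥G₂.left] :
    Function.Bijective ((Scheme.ΓSpecIso (CommRingCat.of k)).inv ≫ (G₁ ⊗ G₂).hom.appTop).hom ↔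
      Function.Bijective ((Scheme.ΓSpecIso (CommRingCat.of k)).inv ≫ G₁.hom.appTop).hom ∧ Function.Bijective ((Scheme.ΓSpecIso (CommRingCat.of k)).inv ≫ G₂.hom.appTop).hom := by
  have hp : IsPushout G₁.hom.appTop G₂.hom.appTop (fst G₁ G₂).left.appTop (snd G₁ G₂).left.appTop := by
    haveI : IsNoetherianRing (CommRingCat.of k) := inferInstanceAs (IsNoetherianRing k)
    haveI : IsLocallyNoetherian G₁.left := LocallyOfFiniteType.isLocallyNoetherian G₁.hom
    haveI : IsLocallyNoetherian G₂.left := LocallyOfFiniteType.isLocallyNoetherian G₂.hom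
    exact Groth.Agent.H19Grp.Affinization.isPushout_prod (IsPullback.of_hasPullback G₁.hom G₂.hom)
  have h1 : (G₁ ⊗ G₂).hom.appTop = G₁.hom.appTop ≫ (fst G₁ G₂).left.appTop := by
    rw [← Scheme.Hom.comp_appTop, Over.w (fst G₁ G₂)]
  haveI : Nonempty G₁.left := ⟨η[G₁].left (IsLocalRing.closedPoint k)⟩
  haveI : Nonempty G₂.left := ⟨η[G₂].left (IsLocalRing.closedPoint k)⟩
  rw [← Groth.Agent.H19Grp.AntiAffine.isIso_appTop_iff, ← Groth.Agent.H19Grp.AntiAffine.isIso_appTop_iff,
    ← Groth.Agent.H19Grp.AntiAffine.isIso_appTop_iff]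
  refine ⟨fun h => ?_, fun ⟨h, h'⟩ => ?_⟩
  · haveI := h
    haveI : Surjective G₁.hom := ⟨fun x => ⟨η[G₁].left x, by rw [← Scheme.Hom.comp_apply, Over.w η[G₁]]; rfl⟩⟩
    haveI : Surjective G₂.hom := ⟨fun x => ⟨η[G₂].left x, by rw [← Scheme.Hom.comp_apply, Over.w η[G₂]]; rfl⟩⟩
    haveI : Flat (fst G₁ G₂).left := inferInstanceAs (Flat (pullback.fst G₁.hom G₂.hom))
    haveI : Flat (snd G₁ G₂).left := inferInstanceAs (Flat (pullback.snd G₁.hom G₂.hom))
    haveI : Surjective (fst G₁ G₂).left := inferInstanceAs (Surjective (pullback.fst G₁.hom G₂.hom))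
    haveI : Surjective (snd G₁ G₂).left := inferInstanceAs (Surjective (pullback.snd G₁.hom G₂.hom))
    exact ⟨Groth.Agent.H19Grp.AntiAffineGroup.isIso_appTop_of_flat_surjective (fst G₁ G₂),
      Groth.Agent.H19Grp.AntiAffineGroup.isIso_appTop_of_flat_surjective (snd G₁ G₂)⟩
  · haveI := h
    haveI := h'
    haveI := hp.isIso_inl_of_isIso
    rw [h1]
    infer_instance

end Groth.Agent.S18069
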