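import Groth.Statements.S18070
import Groth.Agent.H19Grp.AntiAffineGroup
import Groth.Agent.H19Grp.QuotientDesc
import Groth.Agent.H19Grp.Kernel

set_option autoImplicit false
set_option maxHeartbeats 1000000
set_option synthInstance.maxHeartbeats 100000
set_option linter.style.haveILetI false
set_option backward.isDefEq.respectTransparency false
universe u
open CategoryTheory MonoidalCategory CartesianMonoidalCategory MonObj GrpObj AlgebraicGeometry CategoryTheory.Limits
open AlgGrp

namespace Groth.Agent.S18070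

/-- Let k be a field and 1 → G₁ → G → G₂ → 1 an exact sequence of k-group schemes of finite type with
G₁, G₂ connected (i : G₁ → G a homomorphism and closed immersion which is the kernel of the flat
surjective homomorphism q : G → G₂). Anti-affineness passes from G to the quotient G₂; in the other
direction, G is anti-affine whenever G₁ and G₂ both are. -/
theorem result (k : Type u) [Field k]
    (G₁ G G₂ : Over (Spec (CommRingCat.of k))) [GrpObj G₁] [LocallyOfFiniteType G₁.hom] [QuasiCompact G₁.hom] [ConnectedSpace ↥G₁.left]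
    [GrpObj G] [LocallyOfFiniteType G.hom] [QuasiCompact G.hom]
    [GrpObj G₂] [LocallyOfFiniteType G₂.hom] [QuasiCompact G₂.hom] [ConnectedSpace ↥G₂.left]
    (i : G₁ ⟶ G) [IsMonHom i] [IsClosedImmersion i.left] (q : G ⟶ G₂) [IsMonHom q] [Surjective q.left] [Flat q.left]
    (hex : AlgGrp.IsKernel i q) :
    (Function.Bijective ((Scheme.ΓSpecIso (CommRingCat.of k)).inv ≫ G.hom.appTop).hom → Function.Bijective ((Scheme.ΓSpecIso (CommRingCat.of k)).inv ≫ G₂.hom.appTop).hom) ∧
    (Function.Bijective ((Scheme.ΓSpecIso (CommRingCat.of k)).inv ≫ G₁.hom.appTop).hom → Function.Bijective ((Scheme.ΓSpecIso (CommRingCat.of k)).inv ≫ G₂.hom.appTop).hom → Function.Bijective ((Scheme.ΓSpecIso (CommRingCat.of k)).inv ≫ G.hom.appTop).hom) := by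
  refine ⟨fun hG => ?_, fun h1 h2 => ?_⟩
  · haveI : IsIso G.hom.appTop := (Groth.Agent.H19Grp.AntiAffine.isIso_appTop_iff G.hom).mpr hG
    exact (Groth.Agent.H19Grp.AntiAffine.isIso_appTop_iff G₂.hom).mp
      (Groth.Agent.H19Grp.AntiAffineGroup.isIso_appTop_of_flat_surjective q)
  · haveI : IsIso G₁.hom.appTop := (Groth.Agent.H19Grp.AntiAffine.isIso_appTop_iff G₁.hom).mpr h1
    haveI : IsIso G₂.hom.appTop := (Groth.Agent.H19Grp.AntiAffine.isIso_appTop_iff G₂.hom).mpr h2
    haveI : IsNoetherianRing (CommRingCat.of k) := inferInstanceAs (IsNoetherianRing k)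
    haveI : IsLocallyNoetherian G.left := LocallyOfFiniteType.isLocallyNoetherian G.hom
    haveI : IsLocallyNoetherian G₂.left := LocallyOfFiniteType.isLocallyNoetherian G₂.hom
    haveI : QuasiSeparated G.hom := inferInstance
    haveI : LocallyOfFiniteType q.left := by
      haveI : LocallyOfFiniteType (q.left ≫ G₂.hom) := by rw [Over.w q]; infer_instance
      exact locallyOfFiniteType_of_comp q.left G₂.hom
    obtain ⟨gA, hρ⟩ := Groth.Agent.H19Grp.Affinization.exists_grpObj G
    let ρ := Groth.Agent.H19Grp.Affinization.rho G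
    have hi : i ≫ ρ = 1 := Groth.Agent.H19Grp.AntiAffineGroup.eq_one_of_isAffine _ (IsMonHom.one_hom _)
    obtain ⟨ψ, hψ, -⟩ := Groth.Agent.H19Grp.QuotientDesc.existsUnique_desc q ρ fun T a b hab => by
      obtain ⟨y, hy⟩ := Groth.Agent.H19Grp.kernel_lift hex (a⁻¹ * b)
        (by rw [MonObj.mul_comp, GrpObj.inv_comp, hab, inv_mul_cancel])
      have h3 : (a⁻¹ * b) ≫ ρ = 1 := by rw [← hy, Category.assoc, hi, MonObj.comp_one]
      rw [MonObj.mul_comp, GrpObj.inv_comp, inv_mul_eq_one] at h3
      exact h3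
    obtain ⟨c, rfl⟩ := Groth.Agent.H19Grp.AntiAffineSmooth.exists_eq_toUnit ψ
    apply (Groth.Agent.H19Grp.AntiAffine.isIso_appTop_iff G.hom).mp
    refine Groth.Agent.H19Grp.AntiAffineGroup.isIso_appTop_of_rho_const G c ?_
    show ρ = _
    rw [← hψ, ← Category.assoc, toUnit_unique (q ≫ toUnit G₂) (toUnit G)]

end Groth.Agent.S18070
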