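import Groth.Statements.S18071
import Groth.Agent.LeadTorus.AnyGroup
import Groth.Agent.H21Diag.MaxTorusBc
import Groth.Agent.H20Borel.BaseBorel
import Groth.Agent.H20Conj.MaxConv

set_option autoImplicit false
set_option linter.style.haveILetI false
set_option backward.isDefEq.respectTransparency false
set_option maxHeartbeats 1000000
universe u
open CategoryTheory MonoidalCategory CartesianMonoidalCategory MonObj GrpObj AlgebraicGeometry CategoryTheory.Limits
open AlgGrp

namespace Groth.Agent.S18071

/-- Let F be a field with algebraic closure F̄ and M an affine smooth connected F-group. Then all F-tori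
of M are trivial if and only if all F̄-tori of M_{F̄} are trivial; for such M this condition is
equivalent to M being unipotent. -/
theorem result (F : Type u) [Field F]
    (M : Over (Spec (CommRingCat.of F))) [GrpObj M] [Smooth M.hom] [QuasiCompact M.hom] [IsAffine M.left] [ConnectedSpace ↥M.left] :
    Red.HasNoSubtorus F M ↔ Red.HasNoSubtorus (AlgebraicClosure F) (Red.bc (Spec.map (CommRingCat.ofHom (algebraMap F (AlgebraicClosure F)))) M) := by
  let z := Spec.map (CommRingCat.ofHom (algebraMap F (AlgebraicClosure F)))
  haveI := (Over.mapPullbackAdj z).isRightAdjoint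
  constructor
  · intro h R _ j _ _ hR
    obtain ⟨T, gT, i, hi⟩ := Groth.Agent.LeadTorus.exists_maximalTorus_smooth M
    letI := gT
    obtain ⟨hih, him, hT, -⟩ := id hi
    haveI := hih; haveI := him
    haveI : IsIso T.hom := h T i hT
    haveI : IsIso (Red.bc z T).hom := inferInstanceAs (IsIso (Limits.pullback.snd T.hom z))
    haveI hMs : Smooth M.hom := inferInstance
    haveI : Smooth (Red.bc z M).hom := MorphismProperty.pullback_snd (P := @Smooth) _ _ hMs
    haveI := H20Borel.isAffine_bc (K := AlgebraicClosure F) z M
    obtain ⟨h1, h2, h3, hmax⟩ := H20Conj.isMaxTorus_of_isMaximalTorus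
      (Groth.Agent.H21Diag.isMaximalTorus_bc hMs inferInstance i z hi)
    haveI := h1
    haveI : IsIso (toUnit (Red.bc z T)) := by
      haveI : IsIso ((Over.forget _).map (toUnit (Red.bc z T))) := inferInstanceAs (IsIso (Red.bc z T).hom)
      exact isIso_of_reflects_iso _ (Over.forget _)
    have hone : ∀ {X : Over (Spec (CommRingCat.of (AlgebraicClosure F)))} [GrpObj X] (f : Red.bc z T ⟶ X) [IsMonHom f],
        f = toUnit _ ≫ η[X] := fun {X} _ f _ => by
      have he : η[Red.bc z T] = inv (toUnit (Red.bc z T)) := by
        refine IsIso.eq_inv_of_inv_hom_id ?_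
        exact toUnit_unique _ _
      rw [← IsMonHom.one_hom f, he, IsIso.hom_inv_id_assoc]
    haveI := hmax R j (toUnit _ ≫ η[R]) hR (by rw [hone ((Over.pullback z).map i), Category.assoc, IsMonHom.one_hom j])
    show IsIso R.hom
    rw [← Over.w (inv (toUnit (Red.bc z T) ≫ η[R]))]
    haveI : IsIso (inv (toUnit (Red.bc z T) ≫ η[R])).left :=
      inferInstanceAs (IsIso ((Over.forget _).map (inv (toUnit (Red.bc z T) ≫ η[R]))))
    infer_instance
  · intro h T _ j _ _ hT
    haveI := Groth.Agent.H21Diag.isMonHom_map z j
    haveI : IsIso (Red.bc z T).hom := h (Red.bc z T) ((Over.pullback z).map j) (Groth.Agent.H21Diag.isTorus_bc hT z)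
    haveI : IsIso ((Over.pullback z).map (toUnit T)) := by
      haveI : IsIso ((Over.forget _).map ((Over.pullback z).map (toUnit T))) := by
        show IsIso ((Over.pullback z).map (toUnit T)).left
        haveI : IsIso (Red.bc z (𝟙_ (Over (Spec (CommRingCat.of F))))).hom :=
          inferInstanceAs (IsIso (Limits.pullback.snd (𝟙 (Spec (CommRingCat.of F))) z))
        haveI : IsIso (((Over.pullback z).map (toUnit T)).left ≫ (Red.bc z (𝟙_ (Over (Spec (CommRingCat.of F))))).hom) := by
          rw [Over.w ((Over.pullback z).map (toUnit T))]; infer_instance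
        exact IsIso.of_isIso_comp_right _ (Red.bc z (𝟙_ (Over (Spec (CommRingCat.of F))))).hom
      exact isIso_of_reflects_iso _ (Over.forget _)
    haveI := Groth.Agent.H21Diag.isIso_of_isIso_bc z (toUnit T)
    exact inferInstanceAs (IsIso ((Over.forget _).map (toUnit T)))

end Groth.Agent.S18071
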