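import Groth.Statements.S18074
import Groth.Agent.H19Grp.AffineCriteria
import Groth.Agent.H19Grp.AntiAffineGroup

set_option autoImplicit false
set_option maxHeartbeats 1000000
set_option synthInstance.maxHeartbeats 100000
set_option linter.style.haveILetI false
set_option backward.isDefEq.respectTransparency false
universe u
open CategoryTheory MonoidalCategory CartesianMonoidalCategory MonObj GrpObj AlgebraicGeometry CategoryTheory.Limits
open AlgGrp CategoryTheory.Limits

namespace Groth.Agent.S18074

open Groth.Agent.H19Grp in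
/-- An affine anti-affine group is trivial. -/
theorem eq_one_id {k : Type u} [Field k] (H : Over (Spec (CommRingCat.of k))) [GrpObj H]
    [LocallyOfFiniteType H.hom] [QuasiCompact H.hom] [IsIso H.hom.appTop] (hA : IsAffine H.left) :
    (𝟙 H : H ⟶ H) = 1 :=
  @AntiAffineGroup.eq_one_of_isAffine _ _ H H _ _ _ _ _ hA (𝟙 H) (Category.comp_id _)

/-- A group whose identity is constant is trivial. -/
theorem trivial_of_id_eq_one {k : Type u} [Field k] (H : Over (Spec (CommRingCat.of k))) [GrpObj H]
    (h : (𝟙 H : H ⟶ H) = 1) : Red.IsTrivialGrp H := by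
  haveI : IsIso (η[H] : 𝟙_ (Over (Spec (CommRingCat.of k))) ⟶ H) :=
    ⟨toUnit H, toUnit_unique _ _, by rw [← Hom.one_def, ← h]⟩
  haveI : IsIso (η[H] : 𝟙_ (Over (Spec (CommRingCat.of k))) ⟶ H).left :=
    inferInstanceAs (IsIso ((Over.forget _).map η[H]))
  show IsIso H.hom
  have e := Over.w (η[H] : 𝟙_ (Over (Spec (CommRingCat.of k))) ⟶ H)
  rw [← IsIso.inv_hom_id_assoc (η[H] : 𝟙_ (Over (Spec (CommRingCat.of k))) ⟶ H).left H.hom, e]
  show IsIso (_ ≫ 𝟙 (Spec (CommRingCat.of k)))
  infer_instance


/-- Let k be a field and G a non-trivial k-group scheme of finite type. Then G is non-affine with every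
closed subgroup scheme H ≠ G affine if and only if G is anti-affine and every anti-affine closed
subgroup scheme H ≠ G of G is trivial. -/
theorem result (k : Type u) [Field k]
    (G : Over (Spec (CommRingCat.of k))) [GrpObj G] [LocallyOfFiniteType G.hom] [QuasiCompact G.hom] (hG : ¬ Red.IsTrivialGrp G) :
    (¬ IsAffine G.left ∧ ∀ (H : Over (Spec (CommRingCat.of k))) [GrpObj H] (h : H ⟶ G) [IsMonHom h] [IsClosedImmersion h.left], ¬ IsIso h → IsAffine H.left) ↔
    (Function.Bijective ((Scheme.ΓSpecIso (CommRingCat.of k)).inv ≫ G.hom.appTop).hom ∧ ∀ (H : Over (Spec (CommRingCat.of k))) [GrpObj H] (h : H ⟶ G) [IsMonHom h] [IsClosedImmersion h.left], ¬ IsIso h → Function.Bijective ((Scheme.ΓSpecIso (CommRingCat.of k)).inv ≫ H.hom.appTop).hom → Red.IsTrivialGrp H) := by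
  haveI : IsNoetherianRing (CommRingCat.of k) := inferInstanceAs (IsNoetherianRing k)
  haveI : IsLocallyNoetherian G.left := LocallyOfFiniteType.isLocallyNoetherian G.hom
  constructor
  · rintro ⟨hna, hsub⟩
    obtain ⟨gM, hl⟩ := Groth.Agent.H19Grp.AffinizationKernel.exists_grpObj G
    letI := gM
    haveI := hl
    obtain ⟨hiso, -, -⟩ := Groth.Agent.H19Grp.AffinizationKernel.smooth_and_connected G
    haveI := hiso
    let l := Groth.Agent.H19Grp.AffinizationKernel.incl G
    haveI : LocallyOfFiniteType (Groth.Agent.H19Grp.AffinizationKernel.N G).hom := by rw [← Over.w l]; infer_instance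
    haveI : QuasiCompact (Groth.Agent.H19Grp.AffinizationKernel.N G).hom := by rw [← Over.w l]; infer_instance
    have hl' : IsIso l := by
      by_contra hne
      refine hna (Groth.Agent.H19Grp.AffineCriteria.isAffine_of_incl_eq_one G ?_)
      show l = 1
      rw [← Category.id_comp l, eq_one_id _ (hsub _ l hne), MonObj.one_comp]
    haveI := hl'
    haveI : IsIso l.left := inferInstanceAs (IsIso ((Over.forget _).map l))
    haveI : IsIso G.hom.appTop := by
      rw [show G.hom = inv l.left ≫ (Groth.Agent.H19Grp.AffinizationKernel.N G).hom by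
        rw [← Over.w l, IsIso.inv_hom_id_assoc], Scheme.Hom.comp_appTop]
      infer_instance
    refine ⟨(Groth.Agent.H19Grp.AntiAffine.isIso_appTop_iff G.hom).mp inferInstance, fun H _ h _ _ hne hH => ?_⟩
    haveI : IsIso H.hom.appTop := (Groth.Agent.H19Grp.AntiAffine.isIso_appTop_iff H.hom).mpr hH
    haveI : LocallyOfFiniteType H.hom := by rw [← Over.w h]; infer_instance
    haveI : QuasiCompact H.hom := by rw [← Over.w h]; infer_instance
    exact trivial_of_id_eq_one H (eq_one_id H (hsub H h hne))
  · rintro ⟨hGa, hsub⟩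
    haveI : IsIso G.hom.appTop := (Groth.Agent.H19Grp.AntiAffine.isIso_appTop_iff G.hom).mpr hGa
    refine ⟨fun hA => hG (trivial_of_id_eq_one G (eq_one_id G hA)), fun H _ h _ _ hne => ?_⟩
    haveI : LocallyOfFiniteType H.hom := by rw [← Over.w h]; infer_instance
    haveI : QuasiCompact H.hom := by rw [← Over.w h]; infer_instance
    haveI : IsLocallyNoetherian H.left := LocallyOfFiniteType.isLocallyNoetherian H.hom
    haveI : Mono h := Over.mono_of_mono_left _
    obtain ⟨gM, hl⟩ := Groth.Agent.H19Grp.AffinizationKernel.exists_grpObj H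
    letI := gM
    haveI := hl
    obtain ⟨hiso, -, -⟩ := Groth.Agent.H19Grp.AffinizationKernel.smooth_and_connected H
    haveI := hiso
    let l := Groth.Agent.H19Grp.AffinizationKernel.incl H
    haveI : IsClosedImmersion l.left := Groth.Agent.H19Grp.AffinizationKernel.isClosedImmersion_incl H
    haveI : IsClosedImmersion (l ≫ h).left := by rw [Over.comp_left]; infer_instance
    have hne' : ¬ IsIso (l ≫ h) := fun e => hne (by
      haveI := e
      haveI : IsSplitEpi h := ⟨⟨⟨inv (l ≫ h) ≫ l, by rw [Category.assoc, IsIso.inv_hom_id]⟩⟩⟩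
      exact isIso_of_mono_of_isSplitEpi h)
    have ht := hsub _ (l ≫ h) hne' ((Groth.Agent.H19Grp.AntiAffine.isIso_appTop_iff _).mp hiso)
    refine Groth.Agent.H19Grp.AffineCriteria.isAffine_of_incl_eq_one H ?_
    haveI : IsIso (Groth.Agent.H19Grp.AffinizationKernel.N H).hom := ht
    haveI : IsAffine (Groth.Agent.H19Grp.AffinizationKernel.N H).left := .of_isIso (Groth.Agent.H19Grp.AffinizationKernel.N H).hom
    haveI : LocallyOfFiniteType (Groth.Agent.H19Grp.AffinizationKernel.N H).hom := by rw [← Over.w l]; infer_instance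
    haveI : QuasiCompact (Groth.Agent.H19Grp.AffinizationKernel.N H).hom := by rw [← Over.w l]; infer_instance
    show l = 1
    rw [← Category.id_comp l, eq_one_id _ inferInstance, MonObj.one_comp]

end Groth.Agent.S18074
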