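import Groth.Statements.S18076
import Groth.Agent.H19Chev.MulSurjective
import Groth.Agent.H19Chev.AntiAffineFinite

set_option autoImplicit false
set_option maxHeartbeats 1000000
set_option synthInstance.maxHeartbeats 100000
set_option linter.style.haveILetI false
set_option backward.isDefEq.respectTransparency false
universe u
open CategoryTheory MonoidalCategory CartesianMonoidalCategory MonObj GrpObj AlgebraicGeometry CategoryTheory.Limits
open AlgGrp

namespace Groth.Agent.S18076

open CategoryTheory.Limits
open Groth.Agent Groth.Agent.H19Quot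


/-- Let k be a finite field and G a connected k-group scheme of finite type, i : N → G a connected
affine closed normal subgroup scheme which is the kernel of a flat surjective homomorphism q onto an
abelian variety A (for instance N = G_aff; any such N is allowed) and b : B → G the largest abelian
subvariety G_ab of G (a smooth connected proper closed subgroup scheme through which every other one
factors). Then G = N G_ab, i.e. multiplication N × B → G is surjective, and N ∩ G_ab is finite; for
N = G_aff this reads G = G_aff G_ab with G_aff ∩ G_ab finite. -/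
theorem result (k : Type u) [Field k] [Finite k]
    (G : Over (Spec (CommRingCat.of k))) [GrpObj G] [LocallyOfFiniteType G.hom] [QuasiCompact G.hom] [ConnectedSpace ↥G.left]
    (N A : Over (Spec (CommRingCat.of k))) [GrpObj N] [GrpObj A] (i : N ⟶ G) [IsMonHom i] [IsClosedImmersion i.left]
    [IsAffine N.left] [ConnectedSpace ↥N.left] (hN : AlgGrp.IsNormalHom i)
    (q : G ⟶ A) [IsMonHom q] [Surjective q.left] [Flat q.left] [IsProper A.hom] [Smooth A.hom] [ConnectedSpace ↥A.left]
    (hq : AlgGrp.IsKernel i q)
    (B : Over (Spec (CommRingCat.of k))) [GrpObj B] (b : B ⟶ G) [IsMonHom b] [IsClosedImmersion b.left] [Smooth B.hom] [ConnectedSpace ↥B.left] [IsProper B.hom]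
    (hBmax : ∀ (B' : Over (Spec (CommRingCat.of k))) [GrpObj B'] (b' : B' ⟶ G) [IsMonHom b'] [IsClosedImmersion b'.left], Smooth B'.hom → ConnectedSpace ↥B'.left → IsProper B'.hom →
      ∃ g : B' ⟶ B, g ≫ b = b') :
    Surjective ((i ⊗ₘ b) ≫ μ[G]).left ∧
    ∀ (P : Over (Spec (CommRingCat.of k))) (p₁ : P ⟶ N) (p₂ : P ⟶ B), IsPullback p₁ p₂ i b → IsFinite P.hom := by
  classical
  haveI : IsSeparated G.hom := H19Grp.AffineQuotient.isSeparated_of_grp G
  obtain ⟨gR, hrr⟩ := H19Grp.GroupCI.exists_grpObj_reduced G
  let R : Over (Spec (CommRingCat.of k)) := Over.mk (G.left.nilradical.subschemeι ≫ G.hom)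
  let rr : R ⟶ G := Over.homMk G.left.nilradical.subschemeι rfl
  haveI : IsMonHom rr := hrr
  haveI : IsClosedImmersion rr.left := inferInstanceAs (IsClosedImmersion G.left.nilradical.subschemeι)
  haveI : IsReduced R.left := inferInstanceAs (IsReduced G.left.nilradical.subscheme)
  haveI : Surjective rr.left := ⟨fun x => by
    have : Set.range G.left.nilradical.subschemeι = Set.univ := by
      rw [Scheme.IdealSheafData.range_subschemeι, Scheme.support_nilradical]
      rfl
    exact this.ge trivial⟩
  haveI : LocallyOfFiniteType R.hom := by rw [← Over.w rr]; infer_instance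
  haveI : QuasiCompact R.hom := by rw [← Over.w rr]; infer_instance
  haveI : Smooth R.hom := H19Grp.smooth_of_isReduced_perfect R
  haveI : ConnectedSpace R.left := by
    let e : R.left ≃ₜ G.left := rr.left.isEmbedding.toHomeomorph.trans
      ((Homeomorph.setCongr rr.left.surjective.range_eq).trans (Homeomorph.Set.univ _))
    exact e.symm.surjective.connectedSpace e.symm.continuous
  obtain ⟨L, gL, l, A', gA', q', hl, hlc, hLa, hLn, -, hq', hqs, hqf, hqp, hk, hAp, hAs, hAc, hLs⟩ :=
    H19Chev.exists_chevalley_field R
  haveI := hl; haveI := hlc; haveI := hLa; haveI := hLn; haveI := hq'; haveI := hqs; haveI := hqf; haveI := hqp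
  haveI := hAp
  haveI : Smooth L.hom := hLs inferInstance
  obtain ⟨h, hh⟩ := (H19Grp.QuotientDesc.existsUnique_desc q' (rr ≫ q) fun T x y hxy => by
    obtain ⟨z, hz⟩ := H19Grp.kernel_lift hk (x / y) (by rw [GrpObj.div_comp, hxy, div_self'])
    have h2 : (x / y) ≫ rr ≫ q = 1 := by
      rw [← hz, Category.assoc, H19Chev.eq_one_of_affine_to_proper_field (l ≫ rr ≫ q), MonObj.comp_one]
    rwa [GrpObj.div_comp, div_eq_one] at h2).exists
  haveI : Surjective h.left := by
    haveI : Surjective (q'.left ≫ h.left) := by rw [← Over.comp_left, hh, Over.comp_left]; infer_instance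
    exact Surjective.of_comp q'.left h.left
  obtain ⟨gM, hm⟩ := H19Grp.AffinizationKernel.exists_grpObj R
  obtain ⟨hM1, hM2, hM3⟩ := H19Grp.AffinizationKernel.smooth_and_connected R
  let M := H19Grp.AffinizationKernel.N R
  let m := H19Grp.AffinizationKernel.incl R
  haveI : IsSeparated R.hom := H19Grp.AffineQuotient.isSeparated_of_grp R
  haveI : IsClosedImmersion m.left := by
    show IsClosedImmersion (H19Grp.AffinizationKernel.incl R).left
    infer_instance
  haveI : IsMonHom m := hm
  haveI := hM1
  haveI : LocallyOfFiniteType M.hom := by rw [← Over.w m]; infer_instance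
  haveI : QuasiCompact M.hom := by rw [← Over.w m]; infer_instance
  haveI : IsProper M.hom := H19Chev.isProper_of_antiAffine_finite M
  haveI : IsClosedImmersion (m ≫ rr).left := by rw [Over.comp_left]; infer_instance
  obtain ⟨g, hg⟩ := hBmax M (m ≫ rr) hM2 hM3 inferInstance
  haveI hs : Surjective (b ≫ q).left := by
    haveI := H19Chev.surjective_incl_comp q'
    haveI hs' : Surjective ((m ≫ q') ≫ h).left := by rw [Over.comp_left]; infer_instance
    rw [Category.assoc, hh, ← Category.assoc, ← hg, Category.assoc, Over.comp_left] at hs'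
    exact Surjective.of_comp g.left _
  refine ⟨H19Chev.surjective_mul_right i q hq b, fun P p₁ p₂ hP => ?_⟩
  have hP' : IsPullback p₁.left p₂.left i.left b.left := hP.map (Over.forget _)
  haveI : IsClosedImmersion p₁.left := MorphismProperty.of_isPullback (P := @IsClosedImmersion) hP'.flip inferInstance
  haveI : IsClosedImmersion p₂.left := MorphismProperty.of_isPullback (P := @IsClosedImmersion) hP' inferInstance
  rw [IsFinite.iff_isProper_and_isAffineHom]
  refine ⟨?_, ?_⟩
  · rw [← Over.w p₂]; infer_instance
  · haveI : IsAffineHom N.hom := inferInstance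
    rw [← Over.w p₁]; infer_instance

end Groth.Agent.S18076
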