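import Groth.Statements.S18079
import Groth.Agent.H19Chev.UnipotentIsogeny
import Groth.Agent.H19Chev.SolvableIsogeny
import Groth.Agent.H19Chev.PowAffine

set_option autoImplicit false
set_option maxHeartbeats 1000000
set_option synthInstance.maxHeartbeats 100000
set_option linter.style.haveILetI false
set_option backward.isDefEq.respectTransparency false
universe u
open CategoryTheory MonoidalCategory CartesianMonoidalCategory MonObj GrpObj AlgebraicGeometry CategoryTheory.Limits
open AlgGrp

namespace Groth.Agent.S18079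

open Groth.Agent
open CategoryTheory.Limits


/-- Let k be a field with algebraic closure k̄ and f : G → H an isogeny of algebraic k-groups (a
surjective homomorphism of k-group schemes of finite type with finite kernel, i.e. surjective and
finite). Then for every d, G_{k̄} contains a smooth connected unipotent subgroup of dimension at
least d (unipotent: no non-trivial subtorus) if and only if H_{k̄} does; that is, d_u(G) = d_u(H). -/
theorem result (k : Type u) [Field k]
    (G H : Over (Spec (CommRingCat.of k))) [GrpObj G] [LocallyOfFiniteType G.hom] [QuasiCompact G.hom]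
    [GrpObj H] [LocallyOfFiniteType H.hom] [QuasiCompact H.hom]
    (f : G ⟶ H) [IsMonHom f] [Surjective f.left] [IsFinite f.left] (d : ℕ) :
    (∃ (U : Over (Spec (CommRingCat.of (AlgebraicClosure k)))) (_ : GrpObj U) (i : U ⟶ Red.bc (Spec.map (CommRingCat.ofHom (algebraMap k (AlgebraicClosure k)))) G), IsMonHom i ∧ IsClosedImmersion i.left ∧
        Smooth U.hom ∧ IsAffine U.left ∧ ConnectedSpace ↥U.left ∧ Red.HasNoSubtorus (AlgebraicClosure k) U ∧
        (d : WithBot ℕ∞) ≤ topologicalKrullDim ↥U.left) ↔
    (∃ (U : Over (Spec (CommRingCat.of (AlgebraicClosure k)))) (_ : GrpObj U) (i : U ⟶ Red.bc (Spec.map (CommRingCat.ofHom (algebraMap k (AlgebraicClosure k)))) H), IsMonHom i ∧ IsClosedImmersion i.left ∧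
        Smooth U.hom ∧ IsAffine U.left ∧ ConnectedSpace ↥U.left ∧ Red.HasNoSubtorus (AlgebraicClosure k) U ∧
        (d : WithBot ℕ∞) ≤ topologicalKrullDim ↥U.left) := by
  let e := Spec.map (CommRingCat.ofHom (algebraMap k (AlgebraicClosure k)))
  let fK : Red.bc e G ⟶ Red.bc e H := (Over.pullback e).map f
  haveI : IsMonHom fK := inferInstanceAs (IsMonHom ((Over.pullback e).map f))
  haveI : IsFinite fK.left :=
    MorphismProperty.of_isPullback (P := @IsFinite) (H19Chev.isPullback_bc (AlgebraicClosure k) f).flip ‹IsFinite f.left›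
  haveI : Surjective fK.left :=
    MorphismProperty.of_isPullback (P := @Surjective) (H19Chev.isPullback_bc (AlgebraicClosure k) f).flip ‹Surjective f.left›
  haveI : LocallyOfFiniteType (Red.bc e G).hom := inferInstanceAs (LocallyOfFiniteType (pullback.snd G.hom e))
  haveI : LocallyOfFiniteType (Red.bc e H).hom := inferInstanceAs (LocallyOfFiniteType (pullback.snd H.hom e))
  haveI : QuasiCompact (Red.bc e G).hom := inferInstanceAs (QuasiCompact (pullback.snd G.hom e))
  haveI : QuasiCompact (Red.bc e H).hom := inferInstanceAs (QuasiCompact (pullback.snd H.hom e))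
  constructor
  · rintro ⟨U, gU, i, hi, hic, hUs, hUa, hUc, hU, hd⟩
    obtain ⟨V, gV, j, hj, hjc, hVs, hVc, p, hp, hpf, hps, hdim, haff⟩ :=
      H19Chev.SolvableIsogeny.exists_image_isogeny fK i
    haveI := hVs; haveI := hVc; haveI := hp; haveI := hpf; haveI := hps; haveI := hUs; haveI := hUa; haveI := hUc
    haveI : IsAffine V.left := haff hUa
    exact ⟨V, gV, j, hj, hjc, hVs, haff hUa, hVc,
      (H19Chev.UnipotentIsogeny.hasNoSubtorus_iff_of_isogeny p).1 hU, hdim ▸ hd⟩
  · rintro ⟨V, gV, j, hj, hjc, hVs, hVa, hVc, hV, hd⟩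
    obtain ⟨U, gU, i, hi, hic, hUs, hUc, p, hp, hpf, hps, hdim, haff⟩ :=
      H19Chev.SolvableIsogeny.exists_preimage_isogeny fK j
    haveI := hVs; haveI := hVa; haveI := hVc; haveI := hp; haveI := hpf; haveI := hps; haveI := hUs; haveI := hUc
    haveI : IsAffine U.left := haff hVa
    exact ⟨U, gU, i, hi, hic, hUs, haff hVa, hUc,
      (H19Chev.UnipotentIsogeny.hasNoSubtorus_iff_of_isogeny p).2 hV, hdim.symm ▸ hd⟩

end Groth.Agent.S18079
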