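import Groth.Statements.S1808
import Groth.Agent.H4RepDual.Local

set_option autoImplicit false
set_option linter.style.haveILetI false
set_option backward.isDefEq.respectTransparency false
universe u
open CategoryTheory CategoryTheory.Limits AlgebraicGeometry
attribute [local instance] HasDerivedCategory.standard
open Dual

namespace Groth.Agent.S1808

/-- Let A be a Noetherian local ring with normalized dualizing complex ω_A^• and ω_A = H^{−dim
A}(ω_A^•); let X be proper over Spec A with Rf_* on D_QCoh assumed to exist and to preserve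
quasi-coherence of cohomology, a a right adjoint of it, and W an object of D_QCoh(Spec A) isomorphic
to the derived tilde of ω_A^• (tilde assumed left exact). Put ω_X = H^{−dim X}(a(W)). Let d be the
dimension of the closed fibre and suppose dim X = d + dim A. Then there is an A-linear map t :
H^d(X, ω_X) → ω_A such that for every coherent O_X-module F and every A-linear ψ : H^d(X, F) → ω_A
there is exactly one φ : F → ω_X with ψ = t ∘ H^d(φ); that is, ω_X represents F ↦ Hom_A(H^d(X, F),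
ω_A). -/
theorem result (A : Type u) [CommRing A] [IsLocalRing A] [IsNoetherianRing A] (ω : Dual.D A) (hω : Dual.IsDualizing A ω) (hn : Dual.IsNormalized A ω) (dA : ℕ) (hdA : ringKrullDim A = dA) (X : Scheme.{u}) [X.Over (Spec (CommRingCat.of A))] [IsProper (X ↘ Spec (CommRingCat.of A))] [DCoh.HasRpush (X ↘ Spec (CommRingCat.of A))] (h : ∀ K : DCoh.D X, DCoh.IsQCohD K → DCoh.IsQCohD ((DCoh.Rpush (X ↘ Spec (CommRingCat.of A))).obj K)) (a : DCoh.DQCoh (Spec (CommRingCat.of A)) ⥤ DCoh.DQCoh X) (adj : (ObjectProperty.lift DCoh.IsQCohD (ObjectProperty.ι DCoh.IsQCohD ⋙ DCoh.Rpush (X ↘ Spec (CommRingCat.of A))) (fun K => h K.obj K.property)) ⊣ a) [PreservesFiniteLimits (tilde.functor (CommRingCat.of A))] (W : DCoh.DQCoh (Spec (CommRingCat.of A))) (hW : Nonempty (W.obj ≅ (DCoh.tildeD (CommRingCat.of A)).obj ω)) (dX d : ℕ) (hdX : topologicalKrullDim X = dX) (hd : topologicalKrullDim ((X ↘ Spec (CommRingCat.of A)).fiber (IsLocalRing.closedPoint A)) = d)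 (hdim : dX = d + dA) : ∃ t : Coh.HH X (DCoh.HD (a.obj W).obj (-(dX : ℤ))) d →ₗ[A] Dual.HD A ω (-(dA : ℤ)), ∀ (F : X.Modules), Coh.IsCoh F → ∀ ψ : Coh.HH X F d →ₗ[A] Dual.HD A ω (-(dA : ℤ)), ∃! φ : F ⟶ DCoh.HD (a.obj W).obj (-(dX : ℤ)), ∀ x : Coh.HH X F d, ψ x = t (Sheaf.H.map ((SheafOfModules.toSheaf X.ringCatSheaf).map φ) d x) := by
  haveI := H4RepDual.hasExtModules X
  let f := X ↘ Spec (CommRingCat.of A)
  have hbound : ∀ M : X.Modules, Coh.IsQCoh M → ((DCoh.Rpush f).obj (DCoh.inD X M)).IsLE d :=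
    H4RepDual.isLE_rpush_inD f d (H4RepDual.dim_fiber_le f hd.le)
  haveI : CompactSpace X := QuasiCompact.compactSpace_of_compactSpace f
  haveI : QuasiSeparatedSpace X := quasiSeparatedSpace_of_quasiSeparated f
  obtain ⟨e₀⟩ := hW
  let n : ℤ := -(dA : ℤ)
  let T : DCoh.DQCoh (Spec (CommRingCat.of A)) :=
    ⟨W.obj⟦n⟧, H16Derived.QCohD.HomVanish.isQCohD_shift W.property n⟩
  let eK : T.obj ≅ (DCoh.tildeD (CommRingCat.of A)).obj (ω⟦n⟧) :=
    (shiftFunctor _ n).mapIso e₀ ≪≫ (((DCoh.tildeD (CommRingCat.of A)).commShiftIso n).app ω).symm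
  haveI := H4RepDual.isGE_of_normalized hω hn dA hdA
  have hω' : DerivedCategory.IsGE (ω⟦n⟧) 0 := DerivedCategory.TStructure.t.isGE_shift ω (-(dA : ℤ)) n 0 (by omega)
  have hT : T.obj.IsGE 0 := by
    haveI := (H16Derived.KFlat.Stalk.isGE_tilde_iff (ω⟦n⟧) 0).2 hω'
    exact DerivedCategory.TStructure.t.isGE_of_iso eK.symm 0
  obtain ⟨t₀, ht₀, hu⟩ := H4RepDual.exists_trace_aux f (hf := h) adj d hbound T (ω⟦n⟧) hω' eK
    (by simpa using H4RepDual.isGE_of_bound f h adj d hbound T 0 hT)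
  obtain ⟨eA⟩ := LeadBrown.nonempty_shift (hf := h) adj W n T (Iso.refl _)
  let e : DCoh.HD (a.obj T).obj (-(d : ℤ)) ≅ DCoh.HD (a.obj W).obj (-(dX : ℤ)) :=
    (DerivedCategory.homologyFunctor X.Modules _).mapIso eA ≪≫
      ((DerivedCategory.homologyFunctor X.Modules 0).shiftIso n (-(d : ℤ)) (-(dX : ℤ))
        (by simp only [n]; omega)).app _
  let s : Dual.HD A (ω⟦n⟧) 0 ≃ₗ[A] Dual.HD A ω n :=
    (((DerivedCategory.homologyFunctor (ModuleCat.{u} A) 0).shiftIso n 0 n (by omega)).app ω).toLinearEquiv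
  have hlin : ∀ {M N : X.Modules} (φ : M ⟶ N) (r : A) (x : Coh.HH X M d),
      Sheaf.H.map ((SheafOfModules.toSheaf X.ringCatSheaf).map φ) d (r • x) =
        r • Sheaf.H.map ((SheafOfModules.toSheaf X.ringCatSheaf).map φ) d x := fun {M N} φ r x => by
    show Sheaf.H.map _ d (Sheaf.H.map (Coh.smulAb M (Coh.toGlobal f r)) d x) =
      Sheaf.H.map (Coh.smulAb N (Coh.toGlobal f r)) d (Sheaf.H.map _ d x)
    rw [← Sheaf.H.map_comp_apply, ← Sheaf.H.map_comp_apply]
    refine congrArg (fun g => Sheaf.H.map g d x) ?_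
    ext U m
    exact φ.app_smul (Coh.resTop X U (Coh.toGlobal f r)) m
  let t : Coh.HH X (DCoh.HD (a.obj W).obj (-(dX : ℤ))) d →ₗ[A] Dual.HD A ω n :=
    { toFun := fun x => s (t₀ (Sheaf.H.map ((SheafOfModules.toSheaf X.ringCatSheaf).map e.inv) d x))
      map_add' := fun x y => by rw [map_add, map_add, map_add]
      map_smul' := fun r x => by
        rw [hlin]
        exact (congrArg s (ht₀ r _)).trans (s.map_smul r _) }
  refine ⟨t, fun F hF ψ => ?_⟩
  obtain ⟨φ, hφ, huniq⟩ := hu F hF.1 (s.symm.toAddMonoidHom.comp ψ.toAddMonoidHom) fun r x =>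
    (congrArg s.symm (ψ.map_smul r x)).trans (s.symm.map_smul r (ψ x))
  have hcomp : ∀ (χ : F ⟶ DCoh.HD (a.obj W).obj (-(dX : ℤ))) (x : Coh.HH X F d),
      t (Sheaf.H.map ((SheafOfModules.toSheaf X.ringCatSheaf).map χ) d x) =
        s (t₀ (Sheaf.H.map ((SheafOfModules.toSheaf X.ringCatSheaf).map (χ ≫ e.inv)) d x)) := fun χ x => by
    show s (t₀ _) = _
    rw [← Sheaf.H.map_comp_apply, ← Functor.map_comp]
  refine ⟨φ ≫ e.hom, fun x => ?_, fun χ hχ => (Iso.comp_inv_eq e).1 (huniq _ fun x => ?_)⟩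
  · rw [hcomp, Category.assoc, e.hom_inv_id, Category.comp_id]
    exact (s.apply_symm_apply (ψ x)).symm.trans (congrArg s (hφ x))
  · show s.symm (ψ x) = _
    rw [hχ x, hcomp]
    exact s.symm_apply_apply _

end Groth.Agent.S1808
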