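import Groth.Statements.S18083
import Groth.Agent.LeadSpec.RegSub
-- import your own Groth.Agent.* helpers here

set_option autoImplicit false
universe u
open CategoryTheory MonoidalCategory CartesianMonoidalCategory MonObj GrpObj AlgebraicGeometry CategoryTheory.Limits
open AlgGrp

namespace Groth.Agent.S18083

/-- A is a regular local ring, K denotes its field of fractions and k its residue field; G is a flat
separated A-group scheme of finite presentation, and d is a natural number. If G_K contains a
commutative (resp. nilpotent, resp. solvable) closed subgroup scheme of dimension d, then so does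
G_k. (The published statement does not require G separated; its proof goes through the
specialisation of commutativity, nilpotency and solvability over a discrete valuation ring by a
density argument that is valid for separated group schemes, so G is taken separated here.) -/
theorem result (A : Type u) [CommRing A] [IsDomain A] [IsRegularLocalRing A]
    (K : Type u) [Field K] [Algebra A K] [IsFractionRing A K]
    (G : Over (Spec (CommRingCat.of A))) [GrpObj G] [Flat G.hom] [LocallyOfFinitePresentation G.hom] [QuasiCompact G.hom]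
    [IsSeparated G.hom] (d : ℕ) :
    ((∃ (H : Over (Spec (CommRingCat.of K))) (_ : GrpObj H) (i : H ⟶ Red.bc (Spec.map (CommRingCat.ofHom (algebraMap A K))) G),
        IsMonHom i ∧ IsClosedImmersion i.left ∧ IsCommMonObj H ∧ topologicalKrullDim ↥H.left = (d : WithBot ℕ∞)) → ∃ (H : Over (Spec (CommRingCat.of (IsLocalRing.ResidueField A)))) (_ : GrpObj H) (i : H ⟶ Red.bc (Spec.map (CommRingCat.ofHom (algebraMap A (IsLocalRing.ResidueField A)))) G),
        IsMonHom i ∧ IsClosedImmersion i.left ∧ IsCommMonObj H ∧ topologicalKrullDim ↥H.left = (d : WithBot ℕ∞)) ∧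
    ((∃ (H : Over (Spec (CommRingCat.of K))) (_ : GrpObj H) (i : H ⟶ Red.bc (Spec.map (CommRingCat.ofHom (algebraMap A K))) G),
        IsMonHom i ∧ IsClosedImmersion i.left ∧ AGF.IsNilpotentGrp H ∧ topologicalKrullDim ↥H.left = (d : WithBot ℕ∞)) → ∃ (H : Over (Spec (CommRingCat.of (IsLocalRing.ResidueField A)))) (_ : GrpObj H) (i : H ⟶ Red.bc (Spec.map (CommRingCat.ofHom (algebraMap A (IsLocalRing.ResidueField A)))) G),
        IsMonHom i ∧ IsClosedImmersion i.left ∧ AGF.IsNilpotentGrp H ∧ topologicalKrullDim ↥H.left = (d : WithBot ℕ∞)) ∧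
    ((∃ (H : Over (Spec (CommRingCat.of K))) (_ : GrpObj H) (i : H ⟶ Red.bc (Spec.map (CommRingCat.ofHom (algebraMap A K))) G),
        IsMonHom i ∧ IsClosedImmersion i.left ∧ Red.IsSolvableGrp H ∧ topologicalKrullDim ↥H.left = (d : WithBot ℕ∞)) → ∃ (H : Over (Spec (CommRingCat.of (IsLocalRing.ResidueField A)))) (_ : GrpObj H) (i : H ⟶ Red.bc (Spec.map (CommRingCat.ofHom (algebraMap A (IsLocalRing.ResidueField A)))) G),
        IsMonHom i ∧ IsClosedImmersion i.left ∧ Red.IsSolvableGrp H ∧ topologicalKrullDim ↥H.left = (d : WithBot ℕ∞)) := by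
  refine ⟨?_, ?_, ?_⟩
  · rintro ⟨H, _, i, hi, hc, hP, hd⟩
    haveI := hi
    rw [Groth.Agent.LeadSpec.isCommMonObj_iff_identity] at hP
    obtain ⟨H', _, i', h1, h2, h3, -, h5⟩ := Groth.Agent.LeadSpec.exists_special_subgroup K G i hc
    exact ⟨H', inferInstance, i', h1, h2, (Groth.Agent.LeadSpec.isCommMonObj_iff_identity H').2 (h5 inferInstance _ hP), h3.trans hd⟩
  · rintro ⟨H, _, i, hi, hc, hP, hd⟩
    haveI := hi
    rw [Groth.Agent.LeadSpec.isNilpotentGrp_iff] at hP
    obtain ⟨H', _, i', h1, h2, h3, -, h5⟩ := Groth.Agent.LeadSpec.exists_special_subgroup K G i hc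
    exact ⟨H', inferInstance, i', h1, h2, (Groth.Agent.LeadSpec.isNilpotentGrp_iff H').2 (hP.imp fun m hm => h5 inferInstance _ hm), h3.trans hd⟩
  · rintro ⟨H, _, i, hi, hc, hP, hd⟩
    haveI := hi
    rw [Groth.Agent.LeadSpec.isSolvableGrp_iff] at hP
    obtain ⟨H', _, i', h1, h2, h3, -, h5⟩ := Groth.Agent.LeadSpec.exists_special_subgroup K G i hc
    exact ⟨H', inferInstance, i', h1, h2, (Groth.Agent.LeadSpec.isSolvableGrp_iff H').2 (hP.imp fun m hm => h5 inferInstance _ hm), h3.trans hd⟩

end Groth.Agent.S18083
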