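import Groth.Statements.S1809
import Groth.Agent.H4DualSch.Basic

set_option autoImplicit false
set_option linter.style.haveILetI false
universe u
open CategoryTheory CategoryTheory.Limits AlgebraicGeometry
attribute [local instance] HasDerivedCategory.standard
open Dual

namespace Groth.Agent.S1809

/-- Let X be a locally Noetherian scheme and ω a dualizing complex on X (affine-locally the derived
tilde of a dualizing complex of the ring; exactness of restriction of module sheaves to opens and of
M ↦ M~ is assumed through instance binders). Then for every point x the local ring O_{X,x} is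
Cohen–Macaulay if and only if exactly one cohomology sheaf of ω has nonzero stalk at x; and the set
of points whose local ring is Cohen–Macaulay is open. -/
theorem result (X : Scheme.{u}) [IsLocallyNoetherian X] [∀ (U : Scheme.{u}) (j : U ⟶ X) [IsOpenImmersion j], PreservesFiniteLimits (Scheme.Modules.restrictFunctor j)] [∀ (R : CommRingCat.{u}), PreservesFiniteLimits (tilde.functor R)] (ω : DCoh.D X) (hω : Dual2.IsDualizingSch X ω) : (∀ x : X, LocCoh.IsCohenMacaulayLocalRing (X.presheaf.stalk x) ↔ ∃! i : ℤ, Nontrivial ((DCoh.HD ω i).presheaf.stalk x)) ∧ IsOpen {x : X | LocCoh.IsCohenMacaulayLocalRing (X.presheaf.stalk x)} := by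
  have key : ∀ x : X, ∃ (A : Type u) (_ : CommRing A) (j : Spec (CommRingCat.of A) ⟶ X) (_ : IsOpenImmersion j)
      (p : PrimeSpectrum A), j.base p = x := fun x => by
    obtain ⟨y, hy⟩ := X.affineCover.covers x
    exact ⟨_, inferInstance, X.affineCover.f (X.affineCover.idx x),
      (inferInstanceAs (IsOpenImmersion (X.affineCover.f (X.affineCover.idx x)))), y, hy⟩
  refine ⟨fun x => ?_, isOpen_iff_forall_mem_open.2 fun x hx => ?_⟩
  · obtain ⟨A, _, j, _, p, rfl⟩ := key x
    obtain ⟨ωA, hωA, ⟨e⟩⟩ := hω A j
    haveI := H4DualSch.isNoetherianRing_chart j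
    rw [H4DualSch.isCM_stalk_iff j p, H4DualSch.cm_iff_existsUnique hωA p]
    exact existsUnique_congr fun i => (H4DualSch.nontrivial_stalk_HD_iff j ω ωA e p i).symm
  · obtain ⟨A, _, j, _, p, rfl⟩ := key x
    obtain ⟨ωA, hωA, -⟩ := hω A j
    haveI := H4DualSch.isNoetherianRing_chart j
    refine ⟨j.base '' {q : PrimeSpectrum A | LocCoh.IsCohenMacaulayLocalRing (Localization.AtPrime q.asIdeal)}, ?_,
      j.isOpenEmbedding.isOpenMap _ ?_, ⟨p, (H4DualSch.isCM_stalk_iff j p).1 hx, rfl⟩⟩
    · rintro _ ⟨q, hq, rfl⟩
      exact (H4DualSch.isCM_stalk_iff j q).2 hq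
    · have heq := Set.ext (a := {q : PrimeSpectrum A | LocCoh.IsCohenMacaulayLocalRing (Localization.AtPrime q.asIdeal)})
        fun q => H4DR.Dualizing.cmLocalRing_iff q
      exact (congrArg IsOpen heq).mpr (H4DR.Dualizing.isOpen_cm_or_zero hωA A)

end Groth.Agent.S1809
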