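import Groth.Statements.S18091
import Groth.Agent.LeadSpec.Sub
-- import your own Groth.Agent.* helpers here

set_option autoImplicit false
universe u
open CategoryTheory MonoidalCategory CartesianMonoidalCategory MonObj GrpObj AlgebraicGeometry CategoryTheory.Limits
open AlgGrp

namespace Groth.Agent.S18091

/-- Let S be a scheme and G an S-group scheme of finite presentation; for s ∈ S let d'_n(s) be the
largest dimension of a smooth connected nilpotent closed subgroup of the geometric fibre of G at s.
Then d'_n does not decrease under specialization: for every natural number n, if s specializes to s'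
(that is, s' lies in the closure of s) and d'_n(s) ≥ n, then d'_n(s') ≥ n. (The published statement
asserts that d'_n is upper semicontinuous on S, i.e. that the set of points s with d'_n(s) ≥ n is
closed; the published argument reduces to the spectrum of an integral local ring and establishes
that this set is stable under specialization, which is what is stated here. Closedness would in
addition need the set to be locally constructible, which the argument does not address.) -/
theorem result (S : Scheme.{u}) (G : Over S) [GrpObj G]
    [LocallyOfFinitePresentation G.hom] [QuasiCompact G.hom] [QuasiSeparated G.hom] (n : ℕ) :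
    StableUnderSpecialization {s : ↥S | ∃ (H : Over (Spec (CommRingCat.of (AlgebraicClosure (S.residueField s))))) (_ : GrpObj H)
      (i : H ⟶ Red.geomFibre s G), IsMonHom i ∧ IsClosedImmersion i.left ∧ Smooth H.hom ∧
      ConnectedSpace ↥H.left ∧ AGF.IsNilpotentGrp H ∧ (n : WithBot ℕ∞) ≤ topologicalKrullDim ↥H.left} := by
  intro s s' h hs
  obtain ⟨H, _, i, hi, hcl, -, -, hP, hn⟩ := hs
  haveI := hi
  haveI : LocallyOfFiniteType G.hom := inferInstance
  obtain ⟨H', _, i', h1, h2, h3, h4, hd, hw⟩ := Groth.Agent.LeadSpec.exists_specialized_subgroup h G i hcl
  exact ⟨H', inferInstance, i', h1, h2, h3, h4, ((Groth.Agent.LeadSpec.isNilpotentGrp_iff H').2 (((Groth.Agent.LeadSpec.isNilpotentGrp_iff H).1 hP).imp fun m hm => hw _ hm)), hn.trans hd⟩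

end Groth.Agent.S18091
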