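import Groth.Statements.S18096
import Groth.Agent.H19Quot.LinearHom

set_option autoImplicit false
universe u
open CategoryTheory MonoidalCategory CartesianMonoidalCategory MonObj GrpObj AlgebraicGeometry CategoryTheory.Limits
open AlgGrp

namespace Groth.Agent.S18096

attribute [local instance 2000] Hom.group Hom.monoid


/-- Let k be a field and G a k-group scheme of finite type. Then G is anti-affine, i.e. O(G) = k, if and
only if every finite-dimensional linear representation of G is trivial, i.e. for every n every
homomorphism G → GL_{n,k} is trivial. -/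
theorem result (k : Type u) [Field k]
    (G : Over (Spec (CommRingCat.of k))) [GrpObj G] [LocallyOfFiniteType G.hom] [QuasiCompact G.hom] :
    Function.Bijective ((Scheme.ΓSpecIso (CommRingCat.of k)).inv ≫ G.hom.appTop).hom ↔
      ∀ (n : ℕ) (ρ : G ⟶ FrB.GLn n (Spec (CommRingCat.of k))), IsMonHom ρ → ρ = 1 := by
  constructor
  · intro h n ρ hρ
    haveI := hρ
    haveI : IsIso G.hom.appTop := (Groth.Agent.H19Grp.AntiAffine.isIso_appTop_iff G.hom).mpr h
    haveI : IsAffineHom (FrB.GLn n (Spec (CommRingCat.of k))).hom := Groth.Agent.H19Quot.isAffineHom_GLn n _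
    haveI : IsAffine (FrB.GLn n (Spec (CommRingCat.of k))).left := isAffine_of_isAffineHom (FrB.GLn n (Spec (CommRingCat.of k))).hom
    exact Groth.Agent.H19Grp.AntiAffineGroup.eq_one_of_isAffine ρ (IsMonHom.one_hom ρ)
  · intro h
    exact (Groth.Agent.H19Grp.AntiAffine.isIso_appTop_iff G.hom).mp
      (Groth.Agent.H19Quot.isIso_appTop_of_forall_hom_GLn G h)

end Groth.Agent.S18096
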