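import Groth.Statements.S18101
import Groth.Agent.H19Quot.VecAction
import Groth.Agent.H19Quot.AntiAffineAct

set_option autoImplicit false
set_option maxHeartbeats 1000000
set_option synthInstance.maxHeartbeats 400000
set_option linter.style.haveILetI false
set_option backward.isDefEq.respectTransparency.types false
universe u
open CategoryTheory MonoidalCategory CartesianMonoidalCategory MonObj GrpObj AlgebraicGeometry CategoryTheory.Limits
open AlgGrp

namespace Groth.Agent.S18101

/-- Anti-affine groups fixing a point act trivially. -/
theorem act_eq_snd {k : Type u} [Field k] {G X : Over (Spec (CommRingCat.of k))} [GrpObj G]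
    [LocallyOfFiniteType G.hom] [QuasiCompact G.hom] [IsIso G.hom.appTop] [IsSeparated X.hom] [IsIntegral X.left]
    [LocallyOfFiniteType X.hom] (a : AlgGrp.Action G X) (x : 𝟙_ (Over (Spec (CommRingCat.of k))) ⟶ X)
    (hx : a.IsFixedPt x) : a.act = snd G X := by
  haveI : IsLocallyNoetherian X.left := LocallyOfFiniteType.isLocallyNoetherian X.hom
  have h := Groth.Agent.H19Quot.antiAffine_act_trivial a (𝟙 G) x
    (fun T m => by rw [Category.comp_id]; exact hx T m) (fst G X) (snd G X)
  simpa using h

/-- Only anti-affine groups act trivially whenever they fix a point. -/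
theorem isIso_of_forall_act {k : Type u} [Field k] {G : Over (Spec (CommRingCat.of k))} [GrpObj G]
    [LocallyOfFiniteType G.hom] [QuasiCompact G.hom]
    (h : ∀ (X : Over (Spec (CommRingCat.of k))) [LocallyOfFiniteType X.hom] [QuasiCompact X.hom] [IsSeparated X.hom]
      [GeometricallyIntegral X.hom] (a : AlgGrp.Action G X) (x : 𝟙_ (Over (Spec (CommRingCat.of k))) ⟶ X),
      a.IsFixedPt x → a.act = snd G X) : IsIso G.hom.appTop := by
  refine Groth.Agent.H19Quot.isIso_appTop_of_forall_hom_GLn G fun n ρ hρ => ?_
  haveI := hρ
  haveI : IsAffineHom (Groth.Agent.H19Quot.vecSpace k n).hom :=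
    inferInstanceAs (IsAffineHom (𝔸(ULift.{u} (Fin n); Spec (CommRingCat.of k)) ↘ Spec (CommRingCat.of k)))
  haveI : LocallyOfFiniteType (Groth.Agent.H19Quot.vecSpace k n).hom :=
    inferInstanceAs (LocallyOfFiniteType (𝔸(ULift.{u} (Fin n); Spec (CommRingCat.of k)) ↘ Spec (CommRingCat.of k)))
  haveI : GeometricallyIntegral (Groth.Agent.H19Quot.vecSpace k n).hom :=
    inferInstanceAs (GeometricallyIntegral (𝔸(ULift.{u} (Fin n); Spec (CommRingCat.of k)) ↘ Spec (CommRingCat.of k)))
  exact Groth.Agent.H19Quot.eq_one_of_repAction_trivial ρ
    (h _ (Groth.Agent.H19Quot.repAction ρ) _ (Groth.Agent.H19Quot.isFixedPt_vecOrigin ρ))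


/-- Let k be a field and G a k-group scheme of finite type. Then G is anti-affine, i.e. O(G) = k, if and
only if every action of G on a variety having a fixed point is trivial; the fixed point is taken
k-rational here (the published condition allows any closed fixed point, which gives a formally
stronger necessary condition; the equivalence with a rational fixed point is what the published
argument through linear representations yields). -/
theorem result (k : Type u) [Field k]
    (G : Over (Spec (CommRingCat.of k))) [GrpObj G] [LocallyOfFiniteType G.hom] [QuasiCompact G.hom] :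
    Function.Bijective ((Scheme.ΓSpecIso (CommRingCat.of k)).inv ≫ G.hom.appTop).hom ↔
      ∀ (X : Over (Spec (CommRingCat.of k))) [LocallyOfFiniteType X.hom] [QuasiCompact X.hom] [IsSeparated X.hom] [GeometricallyIntegral X.hom]
        (a : AlgGrp.Action G X) (x : 𝟙_ (Over (Spec (CommRingCat.of k))) ⟶ X), a.IsFixedPt x → a.act = snd G X := by
  constructor
  · intro hG X _ _ _ _ a x hx
    haveI : IsIso G.hom.appTop := (Groth.Agent.H19Grp.AntiAffine.isIso_appTop_iff G.hom).mpr hG
    haveI : IsIntegral X.left := GeometricallyIntegral.isIntegral_of_subsingleton X.hom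
    exact act_eq_snd a x hx
  · intro h
    exact (Groth.Agent.H19Grp.AntiAffine.isIso_appTop_iff G.hom).mp (isIso_of_forall_act h)

end Groth.Agent.S18101
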