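import Groth.Statements.S18112
import Mathlib

set_option autoImplicit false
universe u
open CategoryTheory CategoryTheory.Limits MonoidalCategory CartesianMonoidalCategory MonObj GrpObj AlgebraicGeometry
open AbVar

namespace Groth.Agent.S18112

open Polynomial Finset
open scoped fwdDiff

/-- A polynomial of degree at most `g` with integer values at `g + 1` consecutive integers becomes
integral after multiplication by `g!`. -/
theorem factorial_mul_coeff (g : ℕ) (P : ℚ[X]) (hP : P.natDegree ≤ g) (c : ℤ)
    (h : ∀ n : ℕ, n ≤ g → ∃ z : ℤ, P.eval ((c : ℚ) + n) = z) (j : ℕ) :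
    ∃ z : ℤ, (g.factorial : ℚ) * P.coeff j = z := by
  classical
  choose z hz using h
  let f : ℕ → ℤ := fun n => if h : n ≤ g then z n h else 0
  let T : ℤ[X] := ∑ k ∈ range (g + 1), C (((g.factorial / k.factorial : ℕ) : ℤ) * ((fwdDiff (1 : ℕ))^[k] f 0)) *
    descPochhammer ℤ k
  let q : ℚ[X] := P.comp (X + C (c : ℚ))
  have hq : q.natDegree ≤ g := by
    refine natDegree_comp_le.trans ?_
    rw [natDegree_X_add_C, _root_.mul_one]
    exact hP
  have hT : (T.map (Int.castRingHom ℚ)).natDegree ≤ g := by
    refine natDegree_map_le.trans (natDegree_sum_le_of_forall_le _ _ fun k hk => ?_)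
    refine (natDegree_C_mul_le _ _).trans ?_
    rw [descPochhammer_natDegree]
    exact Nat.lt_succ_iff.mp (mem_range.mp hk)
  have key : C (g.factorial : ℚ) * q = T.map (Int.castRingHom ℚ) := by
    refine eq_of_natDegree_lt_card_of_eval_eq _ _ (f := fun n : Fin (g + 1) => ((n : ℕ) : ℚ))
      (fun a b e => Fin.ext (Nat.cast_injective (R := ℚ) e)) (fun n => ?_) ?_
    · have hn : (n : ℕ) ≤ g := Nat.lt_succ_iff.mp n.2
      have e1 : q.eval ((n : ℕ) : ℚ) = (f n : ℤ) := by
        simp only [q, eval_comp, eval_add, eval_X, eval_C, f, dif_pos hn]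
        rw [add_comm]
        exact hz n hn
      have e2 := shift_eq_sum_fwdDiff_iter (h := (1 : ℕ)) f (n : ℕ) 0
      simp only [smul_eq_mul, _root_.mul_one, zero_add] at e2
      have e3 : T.eval ((n : ℕ) : ℤ) = (g.factorial : ℤ) * f n := by
        rw [e2, mul_sum, eval_finsetSum]
        refine Eq.trans ?_ (sum_subset (range_mono (Nat.succ_le_succ hn)) ?_).symm
        · refine sum_congr rfl fun k hk => ?_
          rw [eval_mul, eval_C, descPochhammer_eval_eq_descFactorial, Nat.descFactorial_eq_factorial_mul_choose]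
          have hd : k.factorial ∣ g.factorial := Nat.factorial_dvd_factorial (Nat.lt_succ_iff.mp (mem_range.mp hk))
          have hd' : ((g.factorial / k.factorial : ℕ) : ℤ) * (k.factorial : ℤ) = (g.factorial : ℤ) := by
            exact_mod_cast Nat.div_mul_cancel hd
          rw [← hd', nsmul_eq_mul]
          push_cast
          ring
        · intro k _ hk
          rw [Nat.choose_eq_zero_of_lt (by simpa using hk)]
          simp
      rw [eval_mul, eval_C, e1]
      have e4 : (T.map (Int.castRingHom ℚ)).eval (((n : ℕ) : ℤ) : ℚ) = ((T.eval ((n : ℕ) : ℤ) : ℤ) : ℚ) :=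
        eval_intCast_map (Int.castRingHom ℚ) T _
      rw [e3] at e4
      push_cast at e4
      exact e4.symm
    · rw [Fintype.card_fin]
      have := natDegree_C_mul_le (g.factorial : ℚ) q
      omega
  refine ⟨(T.comp (X - C c)).coeff j, ?_⟩
  have h2 : C (g.factorial : ℚ) * P = (T.comp (X - C c)).map (Int.castRingHom ℚ) := by
    have h3 : P = q.comp (X - C (c : ℚ)) := by
      simp [q, comp_assoc]
    rw [Polynomial.map_comp, ← key, Polynomial.mul_comp, C_comp, Polynomial.map_sub, map_X, map_C, eq_intCast, ← h3]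
  have h4 := congrArg (fun p => p.coeff j) h2
  simp only [coeff_C_mul, coeff_map, eq_intCast] at h4
  exact h4

theorem factorial_coeff_int (g : ℕ) (Q : ℚ[X]) (hQ : Q.natDegree ≤ g) (u v : ℚ) (huv : u < v)
    (H : ∀ (a : ℤ) (b : ℕ), 0 < b → u < (a : ℚ) / b → (a : ℚ) / b < v →
      ∃ N : ℕ, (N : ℚ) / (b : ℚ) ^ (2 * g) = Q.eval ((a : ℚ) / b)) (j : ℕ) :
    ∃ z : ℤ, (g.factorial : ℚ) * Q.coeff j = z := by
  rcases lt_or_ge g j with hj | hj
  · exact ⟨0, by rw [coeff_eq_zero_of_natDegree_lt (lt_of_le_of_lt hQ hj)]; simp⟩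
  have step : ∀ b : ℕ, 0 < b → (g + 2 : ℚ) < (v - u) * b →
      ∃ z : ℤ, (b : ℚ) ^ (2 * g - j) * ((g.factorial : ℚ) * Q.coeff j) = z := by
    intro b hb hbig
    have hb' : (0 : ℚ) < b := by exact_mod_cast hb
    let P : ℚ[X] := C ((b : ℚ) ^ (2 * g)) * Q.comp (C ((b : ℚ)⁻¹) * X)
    have hP : P.natDegree ≤ g := by
      refine (natDegree_C_mul_le _ _).trans (natDegree_comp_le.trans ?_)
      calc Q.natDegree * (C ((b : ℚ)⁻¹) * X).natDegree ≤ g * 1 :=
            Nat.mul_le_mul hQ ((natDegree_C_mul_le _ _).trans natDegree_X_le)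
        _ = g := _root_.mul_one g
    obtain ⟨z, hz⟩ := factorial_mul_coeff g P hP (⌊u * b⌋ + 1) (fun n hn => by
      have h1 := Int.floor_le (u * b)
      have h2 := Int.lt_floor_add_one (u * b)
      have hn' : (n : ℚ) ≤ g := by exact_mod_cast hn
      have hn0 : (0 : ℚ) ≤ n := n.cast_nonneg
      obtain ⟨N, hN⟩ := H (⌊u * b⌋ + 1 + n) b hb
        (by rw [lt_div_iff₀ hb']; push_cast; linarith)
        (by rw [div_lt_iff₀ hb']; push_cast; nlinarith)
      refine ⟨N, ?_⟩
      have hne : (b : ℚ) ^ (2 * g) ≠ 0 := pow_ne_zero _ hb'.ne'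
      rw [div_eq_iff hne] at hN
      simp only [P, eval_mul, eval_C, eval_comp, eval_X]
      push_cast at hN ⊢
      rw [hN, div_eq_inv_mul, mul_comm]) j
    refine ⟨z, ?_⟩
    rw [← hz]
    simp only [P, coeff_C_mul, comp_C_mul_X_coeff]
    have hpow : (b : ℚ) ^ (2 * g) = (b : ℚ) ^ (2 * g - j) * (b : ℚ) ^ j := by
      rw [← pow_add]
      congr 1
      omega
    rw [hpow, inv_pow]
    field_simp
  obtain ⟨b, hb⟩ := exists_nat_gt ((g + 2 : ℚ) / (v - u))
  have hpos : (0 : ℚ) < v - u := sub_pos.mpr huv
  rw [div_lt_iff₀ hpos] at hb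
  have hb0 : 0 < b := by
    rcases Nat.eq_zero_or_pos b with rfl | h
    · exfalso
      have : (0 : ℚ) ≤ g := g.cast_nonneg
      simp only [Nat.cast_zero, zero_mul] at hb
      linarith
    · exact h
  obtain ⟨z₁, hz₁⟩ := step b hb0 (by linarith)
  obtain ⟨z₂, hz₂⟩ := step (b + 1) b.succ_pos (by push_cast; nlinarith)
  have hco : IsCoprime ((b : ℤ) ^ (2 * g - j)) ((b + 1 : ℤ) ^ (2 * g - j)) :=
    IsCoprime.pow ⟨-1, 1, by ring⟩
  obtain ⟨s, t, hst⟩ := hco
  refine ⟨s * z₁ + t * z₂, ?_⟩
  have hst' : (s : ℚ) * (b : ℚ) ^ (2 * g - j) + (t : ℚ) * ((b : ℚ) + 1) ^ (2 * g - j) = 1 := by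
    exact_mod_cast hst
  push_cast at hz₂ ⊢
  linear_combination (-(g.factorial : ℚ) * Q.coeff j) * hst' + (s : ℚ) * hz₁ + (t : ℚ) * hz₂

end Groth.Agent.S18112

namespace Groth.Agent.S18112

/-- Let k be an algebraically closed field of characteristic zero, A an abelian variety over k (a proper
smooth k-group scheme with geometrically connected fibres) of dimension g, (A^t, φ) a given dual
abelian variety of A for the fppf topology with A^t itself an abelian variety, and P an invertible
module on A ×_k A^t whose class is a Poincaré class; for a k-point α of A^t write P_α for the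
restriction of P to A × {α}. Let L be an ample invertible O_A-module with an inverse L' (L ⊗ L' ≅
O_A), negative powers of L meaning powers of L'. For a coherent O_A-module G write h^i_gen(G) for
the generic value of h^i(A, G ⊗ P_α), rendered as the minimum over all k-points α of A^t (the
generic value by semicontinuity), and for b ≥ 1 let b_A : A → A be multiplication by b. Let F be a
coherent O_A-module and i ≥ 0, and consider the i-th cohomological rank function of F with respect
to L, the function on the rationals x = a/b (b ≥ 1) with value b^{-2g} · h^i_gen(b_A^* F ⊗ L^{ab}).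
Suppose that on an open interval (u, v), u < v rational, this function agrees with a polynomial Q
with rational coefficients of degree at most g. Then every coefficient of Q lies in (1/g!)ℤ, i.e. g!
· Q has integer coefficients. (Stated for a coherent module; the source allows any object of the
bounded derived category of coherent modules. The degree bound on Q, which the source takes from the
local polynomiality of rank functions, is made a hypothesis here.) -/
theorem result (k : Type u) [Field k] [IsAlgClosed k] [CharZero k]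
    (A At : Over (Spec (CommRingCat.of k))) [GrpObj A] [IsProper A.hom] [Smooth A.hom] [GeometricallyConnected A.hom]
    [GrpObj At] [IsProper At.hom] [Smooth At.hom] [GeometricallyConnected At.hom]
    (φ : ∀ T : Over (Spec (CommRingCat.of k)), PicF.Cl (PicF.XT A.hom T) → (T ⟶ At))
    (hφ : AbDual.IsDualAV Scheme.fppfPrecoverage A At φ)
    (P : (pullback A.hom At.hom).Modules) (hP : PicF.IsInvertible P)
    (hPξ : AbDual.IsPoincareCl A At φ (PicF.cl P))
    (g : ℕ) (hg : topologicalKrullDim ↥A.left = g)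
    (L L' : A.left.Modules) (hL : CohB1.IsAmple L) (hLL' : Nonempty (CohB1.tensorMod L L' ≅ Coh.structureModule A.left))
    (F : A.left.Modules) (hF : Coh.IsCoh F) (i : ℕ) (u v : ℚ) (huv : u < v)
    (Q : Polynomial ℚ) (hQ : Q.natDegree ≤ g)
    (hpoly : ∀ (a : ℤ) (b : ℕ), 0 < b → u < (a : ℚ) / (b : ℚ) → (a : ℚ) / (b : ℚ) < v →
      ((W4c5cohrankabvar.hgen k P (W4c5cohrankabvar.twist A F L L' b (a * b)) i : ℕ) : ℚ) / (b : ℚ) ^ (2 * g) =
        Q.eval ((a : ℚ) / (b : ℚ)))
    (j : ℕ) : ∃ z : ℤ, (Nat.factorial g : ℚ) * Q.coeff j = (z : ℚ) := by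
  exact factorial_coeff_int g Q hQ u v huv (fun a b hb h1 h2 => ⟨_, hpoly a b hb h1 h2⟩) j

end Groth.Agent.S18112
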