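import Groth.Statements.S18125
import Groth.Agent.H28Pinch.Point

set_option autoImplicit false
universe u
open Pinch

namespace Groth.Agent.S18125

/-- Let K be a field in which 2 ≠ 0, n ≥ 0, S = K[u, v, w, t_1, …, t_n] (u, v, w the first three
variables), h = u^2 - v^2 w the equation of the pinch-point model, and Jac the ideal generated by h
and its three partial derivatives 2u, -2vw, -v^2, which cuts out the scheme-theoretic singular locus
of {h = 0}. Then the ideal (u, v) of the double locus is Jac + (v), and the colon ideal of Jac by
(v) is (u, v, w). Consequently (u, v)/Jac, the ideal of the double locus restricted to the singular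
locus, is an invertible sheaf on the pinch locus u = v = w = 0: it is free of rank one over K[t_1,
…, t_n] on the class of v. (The text states this for every semi-smooth variety and reduces to this
model; K algebraically closed is not needed for the model computation.) -/
theorem result
    (K : Type u) [Field K] [NeZero (2 : K)] (n : ℕ) :
    letI u : MvPolynomial (Fin (n + 3)) K := MvPolynomial.X 0
    letI v : MvPolynomial (Fin (n + 3)) K := MvPolynomial.X 1
    letI w : MvPolynomial (Fin (n + 3)) K := MvPolynomial.X 2
    letI Jac : Ideal (MvPolynomial (Fin (n + 3)) K) :=
      Ideal.span {u ^ 2 - v ^ 2 * w, 2 * u, -(2 * v * w), -(v ^ 2)}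
    Ideal.span {u, v} = Jac ⊔ Ideal.span {v} ∧ Jac.colon (Ideal.span {v}) = Ideal.span {u, v, w} := by
  exact H28Pinch.jacobian n

end Groth.Agent.S18125
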