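import Groth.Statements.S18127
import Mathlib.LinearAlgebra.Matrix.Rank
import Mathlib.LinearAlgebra.Matrix.Basis
import Mathlib.RingTheory.LocalRing.ResidueField.Basic
import Mathlib.LinearAlgebra.Matrix.Determinant.Basic
import Mathlib.LinearAlgebra.Projection
import Mathlib.LinearAlgebra.Dimension.Finrank

set_option autoImplicit false
universe u
open LocAlg

namespace Groth.Agent.S18127

/-- Let R be a local ring with maximal ideal m and algebraically closed residue field, and M an n × n
matrix over R whose reduction modulo m has rank at most r. Then the determinant of M lies in m^(n −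
r). (The published setting is the local ring of germs of holomorphic functions at a point of a
complex manifold, where this says that the determinant vanishes to order at least n − r at a point
where the matrix has rank at most r.) -/
theorem result
    {R : Type u} [CommRing R] [IsLocalRing R] [IsAlgClosed (IsLocalRing.ResidueField R)]
    {n : ℕ} (M : Matrix (Fin n) (Fin n) R) (r : ℕ)
    (hr : (M.map (IsLocalRing.residue R)).rank ≤ r) :
    M.det ∈ IsLocalRing.maximalIdeal R ^ (n - r) := by

  classical
  let κ := IsLocalRing.ResidueField R
  let Mb : Matrix (Fin n) (Fin n) κ := M.map (IsLocalRing.residue R)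
  let W : Submodule κ (Fin n → κ) := LinearMap.ker Mb.transpose.mulVecLin
  have hW : n - r ≤ Module.finrank κ W := by
    have h := Mb.transpose.mulVecLin.finrank_range_add_finrank_ker
    rw [Module.finrank_fin_fun] at h
    have h2 : Module.finrank κ (LinearMap.range Mb.transpose.mulVecLin) ≤ r := (Matrix.rank_transpose Mb).le.trans hr
    show n - r ≤ Module.finrank κ (LinearMap.ker Mb.transpose.mulVecLin)
    omega
  obtain ⟨W', hW'⟩ := Submodule.exists_isCompl W
  let b0 := ((Module.finBasis κ W).prod (Module.finBasis κ W')).map (Submodule.prodEquivOfIsCompl W W' hW')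
  let e : (Fin (Module.finrank κ W) ⊕ Fin (Module.finrank κ W')) ≃ Fin n :=
    Fintype.equivOfCardEq (by
      rw [Fintype.card_fin, ← Module.finrank_eq_card_basis b0, Module.finrank_fin_fun])
  let b : Module.Basis (Fin n) κ (Fin n → κ) := b0.reindex e
  choose P hP using fun i j => IsLocalRing.residue_surjective (b i j)
  let P' : Matrix (Fin n) (Fin n) R := Matrix.of P
  have hPdet : IsUnit P'.det := by
    rw [← IsLocalRing.residue_ne_zero_iff_isUnit, RingHom.map_det]
    have hmap : (IsLocalRing.residue R).mapMatrix P' = ((Pi.basisFun κ (Fin n)).toMatrix b).transpose := by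
      ext i j
      simp [P', hP, Module.Basis.toMatrix_apply]
    rw [hmap, Matrix.det_transpose]
    haveI := (Pi.basisFun κ (Fin n)).invertibleToMatrix b
    exact ((Matrix.isUnit_iff_isUnit_det _).mp (isUnit_of_invertible _)).ne_zero
  -- rows in the maximal ideal
  let s : Finset (Fin n) := Finset.univ.image fun i => e (Sum.inl i)
  have hs : s.card = Module.finrank κ W := by
    show (Finset.univ.image fun i => e (Sum.inl i)).card = _
    rw [Finset.card_image_of_injective Finset.univ (f := fun i => e (Sum.inl i)) (fun x y h => Sum.inl_injective (e.injective h)),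
      Finset.card_univ, Fintype.card_fin]
  have hrow : ∀ i ∈ s, ∀ j, (P' * M) i j ∈ IsLocalRing.maximalIdeal R := by
    intro i hi j
    obtain ⟨i', -, rfl⟩ := Finset.mem_image.mp hi
    rw [← IsLocalRing.residue_eq_zero_iff]
    have hbW : b (e (Sum.inl i')) ∈ W := by simp [b, b0]
    have h0 := congrFun (LinearMap.mem_ker.mp hbW) j
    rw [Matrix.mulVecLin_apply, Matrix.mulVec_transpose] at h0
    rw [Matrix.mul_apply, map_sum]
    refine Eq.trans ?_ h0
    simp only [Matrix.vecMul, dotProduct, map_mul, P', Matrix.of_apply, hP, Mb, Matrix.map_apply]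
  have hdet : (P' * M).det ∈ IsLocalRing.maximalIdeal R ^ (n - r) := by
    rw [Matrix.det_apply]
    refine sum_mem fun σ _ => ?_
    rw [Units.smul_def]
    refine zsmul_mem ?_ _
    rw [← Equiv.prod_comp σ.symm, show n - r = n - r from rfl]
    simp only [Equiv.apply_symm_apply]
    rw [← Finset.prod_mul_prod_compl s]
    refine Ideal.mul_mem_right _ _ (Ideal.pow_le_pow_right (hW.trans hs.ge) ?_)
    rw [← Finset.prod_const]
    exact Ideal.prod_mem_prod fun i hi => hrow i hi _
  rw [Matrix.det_mul] at hdet
  exact (Ideal.unit_mul_mem_iff_mem _ hPdet).mp hdet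

end Groth.Agent.S18127
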