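import Groth.Statements.S18128
import Groth.Agent.H3CAlg.Acyclicity

set_option autoImplicit false
universe u
open CAlg

namespace Groth.Agent.S18128

/-- Local step of Buchsbaum–Eisenbud: let R be a Noetherian local ring with maximal ideal m, and 0 →
R^(n_e) → ⋯ → R^(n_1) → R^(n_0) a complex of finite free modules, the map R^(n_(i+1)) → R^(n_i)
being given by the matrix A i, with 1 ≤ e and e at most the depth of R (there is an R-regular
sequence of length e inside m). If for every prime ideal p ≠ m the complex of matrices over R_p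
obtained by localization is exact at R_p^(n_e), …, R_p^(n_1), then the complex is exact at R^(n_e),
…, R^(n_1). -/
theorem result
    {R : Type u} [CommRing R] [IsLocalRing R] [IsNoetherianRing R]
    (e : ℕ) (he : 1 ≤ e) (n : ℕ → ℕ) (A : (i : ℕ) → Matrix (Fin (n i)) (Fin (n (i + 1))) R)
    (hA : ∀ i, i + 2 ≤ e → A i * A (i + 1) = 0)
    (rs : List R) (hlen : rs.length = e) (hmem : ∀ x ∈ rs, x ∈ IsLocalRing.maximalIdeal R)
    (hreg : RingTheory.Sequence.IsRegular R rs)
    (hloc : ∀ (p : Ideal R) [p.IsPrime], p ≠ IsLocalRing.maximalIdeal R →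
      LinearMap.ker ((A (e - 1)).map (algebraMap R (Localization.AtPrime p))).mulVecLin = ⊥ ∧
        ∀ i, i + 2 ≤ e →
          LinearMap.ker ((A i).map (algebraMap R (Localization.AtPrime p))).mulVecLin =
            LinearMap.range ((A (i + 1)).map (algebraMap R (Localization.AtPrime p))).mulVecLin) :
    LinearMap.ker (A (e - 1)).mulVecLin = ⊥ ∧
      ∀ i, i + 2 ≤ e → LinearMap.ker (A i).mulVecLin = LinearMap.range (A (i + 1)).mulVecLin := by
  classical
  have hl : ∀ (p : Ideal R) [p.IsPrime] {a b : ℕ} (B : Matrix (Fin a) (Fin b) R) (v : Fin b → R),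
      (B.map (algebraMap R (Localization.AtPrime p))).mulVecLin
        (fun j => algebraMap R (Localization.AtPrime p) (v j)) =
      fun j => algebraMap R (Localization.AtPrime p) (B.mulVecLin v j) := by
    intro p _ a b B v
    funext j
    simp only [Matrix.mulVecLin_apply, RingHom.map_mulVec]
    rfl
  -- homology classes are killed by powers of the elements of the maximal ideal
  have hrad : ∀ (J : Ideal R), (∀ (p : Ideal R) [p.IsPrime], p ≠ IsLocalRing.maximalIdeal R → ¬ J ≤ p) →
      ∀ y ∈ IsLocalRing.maximalIdeal R, y ∈ J.radical := by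
    intro J hJ y hy
    rw [Ideal.radical_eq_sInf, Submodule.mem_sInf]
    rintro p ⟨hJp, hp⟩
    haveI := hp
    by_contra hyp
    exact hJ p (by rintro rfl; exact hyp hy) hJp
  have hkill : ∀ i, i + 2 ≤ e → ∀ v, (A i).mulVecLin v = 0 → ∀ y ∈ IsLocalRing.maximalIdeal R,
      ∃ k : ℕ, y ^ k • v ∈ LinearMap.range (A (i + 1)).mulVecLin := by
    intro i hi v hv y hy
    refine hrad ((LinearMap.range (A (i + 1)).mulVecLin).comap (LinearMap.toSpanSingleton R _ v))
      (fun p _ hp hJp => ?_) y hy
    have h : (fun j => algebraMap R (Localization.AtPrime p) (v j)) ∈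
        LinearMap.ker ((A i).map (algebraMap R (Localization.AtPrime p))).mulVecLin := by
      rw [LinearMap.mem_ker, hl, hv]
      funext j
      simp
    rw [(hloc p hp).2 i hi] at h
    obtain ⟨u, hu⟩ := h
    obtain ⟨s, hs⟩ := IsLocalization.exist_integer_multiples p.primeCompl Finset.univ u
    choose u' hu' using fun j => hs j (Finset.mem_univ j)
    have hu2 : ∀ j, algebraMap R (Localization.AtPrime p) ((A (i + 1)).mulVecLin u' j) =
        algebraMap R (Localization.AtPrime p) ((s : R) * v j) := by
      intro j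
      rw [← congrFun (hl p (A (i + 1)) u') j, show (fun j => algebraMap R (Localization.AtPrime p) (u' j))
        = (s : R) • u from funext hu', LinearMap.map_smul_of_tower, hu, map_mul]
      simp [Algebra.smul_def]
    choose t ht using fun j => (IsLocalization.eq_iff_exists p.primeCompl (Localization.AtPrime p)).mp (hu2 j)
    refine ((∏ j, t j) * s).2 (hJp ?_)
    refine ⟨(∏ j, (t j : R)) • u', funext fun j => ?_⟩
    obtain ⟨c, hc⟩ : ∃ c, ∏ j', (t j' : R) = c * t j :=
      ⟨∏ j' ∈ Finset.univ.erase j, (t j' : R), (Finset.prod_erase_mul _ _ (Finset.mem_univ j)).symm⟩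
    simp only [map_smul, LinearMap.toSpanSingleton_apply, Pi.smul_apply, smul_eq_mul,
      Submonoid.coe_mul, Submonoid.coe_finsetProd, hc, mul_assoc]
    rw [ht j]
  have htop : ∀ v, (A (e - 1)).mulVecLin v = 0 → ∀ y ∈ IsLocalRing.maximalIdeal R,
      ∃ k : ℕ, y ^ k • v = 0 := by
    intro v hv y hy
    refine hrad (LinearMap.ker (LinearMap.toSpanSingleton R _ v))
      (fun p _ hp hJp => ?_) y hy
    have h : (fun j => algebraMap R (Localization.AtPrime p) (v j)) ∈
        LinearMap.ker ((A (e - 1)).map (algebraMap R (Localization.AtPrime p))).mulVecLin := by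
      rw [LinearMap.mem_ker, hl, hv]
      funext j
      simp
    rw [(hloc p hp).1, Submodule.mem_bot] at h
    choose t ht using fun j => (IsLocalization.map_eq_zero_iff p.primeCompl
      (Localization.AtPrime p) (v j)).mp (congrFun h j)
    refine (∏ j, t j).2 (hJp ?_)
    rw [LinearMap.mem_ker, LinearMap.toSpanSingleton_apply]
    funext j
    rw [Submonoid.coe_finsetProd, Pi.smul_apply, smul_eq_mul,
      ← Finset.prod_erase_mul _ _ (Finset.mem_univ j), mul_assoc, ht j, mul_zero, Pi.zero_apply]
  have hw : ∀ i, RingTheory.Sequence.IsWeaklyRegular (Fin (n i) → R) rs := fun i =>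
    ((TensorProduct.lid R (Fin (n i) → R)).isWeaklyRegular_congr rs).mp
      (hreg.toIsWeaklyRegular.isWeaklyRegular_rTensor (M₂ := Fin (n i) → R))
  have := Groth.Agent.H3CAlg.Acyclicity.exact_of_killed (IsLocalRing.maximalIdeal R) rs hmem
    (fun i => Fin (n i) → R) (fun i => (A i).mulVecLin) (fun i _ => hw i)
    (fun i hi w => by
      simp only [Matrix.mulVecLin_apply, Matrix.mulVec_mulVec, hA i (hlen ▸ hi), Matrix.zero_mulVec])
    (fun i hi => hkill i (hlen ▸ hi))
    (fun i hi v hv => by
      obtain rfl : i = e - 1 := by omega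
      exact htop v hv)
  refine ⟨LinearMap.ker_eq_bot'.mpr (this.1 (e - 1) (by omega)), fun i hi => le_antisymm
    (fun v hv => this.2 i (by omega) v hv) ?_⟩
  rintro _ ⟨w, rfl⟩
  simp only [LinearMap.mem_ker, Matrix.mulVecLin_apply, Matrix.mulVec_mulVec, hA i hi, Matrix.zero_mulVec]

end Groth.Agent.S18128
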