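import Groth.Statements.S18129
import Groth.Agent.H28RR.Sect

set_option autoImplicit false
universe u
open CategoryTheory CategoryTheory.Limits AlgebraicGeometry
open Groth.Agent
open Surf

namespace Groth.Agent.S18129

/-- Let X be a K3 surface over an algebraically closed field k of characteristic zero — an integral
scheme, smooth and proper over k, of dimension two, carrying an ample invertible module, whose
structure sheaf is a second exterior power of its sheaf of differentials (trivial canonical sheaf)
and with H^1(X, O_X) = 0. If L is an invertible O_X-module which is numerically trivial — the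
intersection number (L·M), the alternating sum χ(O_X) − χ(L) − χ(M) + χ(L ⊗ M) of Euler
characteristics, vanishes for every invertible O_X-module M — then L ≅ O_X. Consequently the natural
surjections from Pic(X) to the Néron–Severi group and to the group of numerical equivalence classes
are bijective. -/
theorem result (k : Type u) [Field k] [IsAlgClosed k] [CharZero k]
    (X : Scheme.{u}) [X.Over (Spec (CommRingCat.of k))] [IsIntegral X]
    [Smooth (X ↘ Spec (CommRingCat.of k))] (hdim : topologicalKrullDim X = 2)
    [IsProper (X ↘ Spec (CommRingCat.of k))]
    (H : X.Modules) (hHa : CohB1.IsAmple H)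
    (hK : Canon.IsTopDiff (X ↘ Spec (CommRingCat.of k)) 2 (Coh.structureModule X))
    (hq : Module.finrank k (Coh.HH X (Coh.structureModule X) 1) = 0)
    (L : X.Modules) (hL : PicF.IsInvertible L)
    (hnum : ∀ M : X.Modules, PicF.IsInvertible M →
      FGA.intNum k X 2 ![L, M] (Coh.structureModule X) = 0) :
    Nonempty (L ≅ Coh.structureModule X) := by
  refine H28RR.iso_structure_of_trivial_canonical k hdim hK hq hL fun M hM => ?_
  rw [← H28Surf.intNum_eq_pr k hdim hL hM]
  exact hnum M hM

end Groth.Agent.S18129
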