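import Groth.Statements.S18130
import Groth.Agent.H28RR.LazMukBN

set_option autoImplicit false
universe u
open CategoryTheory CategoryTheory.Limits AlgebraicGeometry
open Groth.Agent
open Surf

namespace Groth.Agent.S18130

/-- Let X be a K3 surface over an algebraically closed field k of characteristic zero — an integral
scheme, smooth and proper over k, of dimension two, carrying an ample invertible module, whose
structure sheaf is a second exterior power of its sheaf of differentials (trivial canonical sheaf)
and with H^1(X, O_X) = 0. Let i : C → X be a closed immersion over k with C integral, smooth over k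
and of dimension one, whose ideal sheaf I_C is invertible and such that the Picard group of X is
infinite cyclic, generated by the class of I_C (equivalently of O_X(C)). Then for every invertible
O_C-module A the Brill–Noether number is non-negative: h^0(C, A) · h^1(C, A) ≤ g(C), where g(C) =
dim_k H^1(C, O_C). -/
theorem result (k : Type u) [Field k] [IsAlgClosed k] [CharZero k]
    (X : Scheme.{u}) [X.Over (Spec (CommRingCat.of k))] [IsIntegral X]
    [Smooth (X ↘ Spec (CommRingCat.of k))] (hdim : topologicalKrullDim X = 2)
    [IsProper (X ↘ Spec (CommRingCat.of k))]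
    (H : X.Modules) (hHa : CohB1.IsAmple H)
    (hK : Canon.IsTopDiff (X ↘ Spec (CommRingCat.of k)) 2 (Coh.structureModule X))
    (hq : Module.finrank k (Coh.HH X (Coh.structureModule X) 1) = 0)
    [PicGrp.Law X]
    (C : Scheme.{u}) [C.Over (Spec (CommRingCat.of k))] [IsIntegral C]
    [Smooth (C ↘ Spec (CommRingCat.of k))] (hC : topologicalKrullDim C = 1)
    (i : C ⟶ X) [IsClosedImmersion i] (hi : i ≫ (X ↘ Spec (CommRingCat.of k)) = C ↘ Spec (CommRingCat.of k))
    (hI : PicF.IsInvertible (ClSub.idealMod i.ker))
    (hgen : ∀ c : PicLoc.PicSet X, ∃ n : ℤ, c = PicGrp.cls (ClSub.idealMod i.ker) hI ^ n)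
    (hfree : ∀ n : ℤ, PicGrp.cls (ClSub.idealMod i.ker) hI ^ n = 1 → n = 0)
    (A : C.Modules) (hA : PicF.IsInvertible A) :
    Module.finrank k (Coh.HH C A 0) * Module.finrank k (Coh.HH C A 1) ≤ Curv2.genus k C := by
  obtain rfl : ‹PicGrp.Law X› = H28Vert.picLaw X := Subsingleton.elim _ _
  exact H28RR.LazMuk.bn_nonneg k hdim hHa hK hq hC i hi hI hgen A hA

end Groth.Agent.S18130
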