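import Groth.Statements.S18133
import Groth.Agent.H28RR.LazMukPic
import Groth.Agent.H10Coh.K3Surf.Hull
-- import your own Groth.Agent.* helpers here

set_option autoImplicit false
universe u
open CategoryTheory CategoryTheory.Limits AlgebraicGeometry
open ShStab

namespace Groth.Agent.S18133

open Groth.Agent Groth.Agent.H28RR Groth.Agent.H28RR.LazMuk Groth.Agent.H28RR.PicNum Groth.Agent.H28RR.ZariskiVol
open Groth.Agent.H28Surf hiding dot dot_mul_left dot_mul_right dot_pow_left
open Polynomial StabCat Groth.Agent.H10Coh.Stab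

attribute [local instance] H28Vert.picLaw

set_option backward.isDefEq.respectTransparency.types false
set_option linter.style.haveILetI false
set_option linter.unusedSectionVars false
set_option maxHeartbeats 1600000

/-- The degree against the polarisation in terms of the Hilbert polynomial. -/
theorem deg_eq_coeff {k : Type u} [Field k] {X : Scheme.{u}} [X.Over (Spec (CommRingCat.of k))]
    [IsProper (X ↘ Spec (CommRingCat.of k))] [IsIntegral X] (hX : topologicalKrullDim X = ((2 : ℕ) : WithBot ℕ∞))
    {Hc I : X.Modules} (hHa : CohB1.IsAmple Hc) (hI : PicF.IsInvertible I)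
    (e : CohB1.tensorMod Hc I ≅ Coh.structureModule X) {M : X.Modules} (hM : Coh.IsCoh M) {p : ℚ[X]}
    (hp : ShStab.IsHilbPoly k X Hc M p) (hp2 : ∀ n, 2 < n → p.coeff n = 0) :
    (H28Int.D k [I] M : ℚ) = p.coeff 1 - p.coeff 2 := by
  haveI := isLocallyNoetherian_of_proper (Z := X) k
  haveI : CompactSpace X := hHa.2.1
  have hM' : Coh.IsCoh (CohB1.tensorMod I M) :=
    H10Coh.isCoh_of_iso (H10Coh.Tw.commIso M I) (H11Ample.isCoh_tensor hM hI)
  obtain ⟨q, hq⟩ := H02CA.SurfStab.exists_poly (k := k) hHa hX hM'
  have hs : p = q.comp (Polynomial.X + Polynomial.C ((1 : ℕ) : ℚ)) :=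
    H25Euler.hilbPoly_unique hp (H02CA.SurfStab.hilbPoly_shift (k := k) hHa.1 1
      ((H10Coh.Tw.rightUnitIso M).symm ≪≫ PicGrp.tensorModIso (Iso.refl M) (e.symm ≪≫ H10Coh.Tw.commIso Hc I) ≪≫
        (H11Ample.tensorAssocIso M I Hc).symm ≪≫
        PicGrp.tensorModIso (H10Coh.Tw.commIso M I) (H11Ample.tensorLeftUnitIso Hc).symm) hq)
  have h0 : (Curv2.euler k X M : ℚ) = p.eval 0 := by
    have h := hp 0
    rw [Nat.cast_zero] at h
    exact (congrArg (fun z : ℤ => (z : ℚ)) (H25Euler.euler_congr (H10Coh.Tw.rightUnitIso M).symm)).trans h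
  have hm1 : (Curv2.euler k X (CohB1.tensorMod I M) : ℚ) = p.eval (-1 : ℚ) := by
    rw [hs, eval_comp, show ((Polynomial.X + Polynomial.C ((1 : ℕ) : ℚ) : ℚ[X]).eval (-1 : ℚ)) = 0 by simp]
    have h := hq 0
    rw [Nat.cast_zero] at h
    exact (congrArg (fun z : ℤ => (z : ℚ)) (H25Euler.euler_congr (H10Coh.Tw.rightUnitIso _).symm)).trans h
  have hd : p.natDegree ≤ 2 := natDegree_le_iff_coeff_eq_zero.2 hp2
  rw [eval_eq_sum_range' (show p.natDegree < 3 by omega)] at h0 hm1
  simp [Finset.sum_range_succ] at h0 hm1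
  show ((Curv2.euler k X M - Curv2.euler k X (CohB1.tensorMod I M) : ℤ) : ℚ) = _
  push_cast
  rw [h0, hm1]
  ring

/-- Let X be a K3 surface over an algebraically closed field k of characteristic zero — an integral
scheme, smooth and proper over k, of dimension two, carrying an ample invertible module, whose
structure sheaf is a second exterior power of its sheaf of differentials (trivial canonical sheaf)
and with H^1(X, O_X) = 0. Let i : C → X be a closed immersion over k with C integral, smooth over k
and of dimension one, whose ideal sheaf I_C is invertible with the Picard group of X infinite cyclic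
generated by its class, and let H be an ample O_X-module which is a tensor inverse of I_C (the
module O_X(C)). Let A be an invertible O_C-module and lam : O_X^e → i_*A an epimorphism inducing a
bijection H^0(X, O_X^e) → H^0(X, i_*A), with kernel F (the Lazarsfeld–Mukai bundle). Then F is
coherent with torsion-free stalks and is slope-stable of dimension 2 with respect to H: it has no
coherent submodule with one-dimensional support, and every coherent submodule whose multiplicity
lies strictly between 0 and that of F has strictly smaller slope. -/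
theorem result (k : Type u) [Field k] [IsAlgClosed k] [CharZero k]
    (X : Scheme.{u}) [X.Over (Spec (CommRingCat.of k))] [IsIntegral X]
    [Smooth (X ↘ Spec (CommRingCat.of k))] (hdim : topologicalKrullDim X = 2)
    [IsProper (X ↘ Spec (CommRingCat.of k))]
    (H : X.Modules) (hHa : CohB1.IsAmple H)
    (hK : Canon.IsTopDiff (X ↘ Spec (CommRingCat.of k)) 2 (Coh.structureModule X))
    (hq : Module.finrank k (Coh.HH X (Coh.structureModule X) 1) = 0)
    [PicGrp.Law X]
    (C : Scheme.{u}) [C.Over (Spec (CommRingCat.of k))] [IsIntegral C]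
    [Smooth (C ↘ Spec (CommRingCat.of k))] (hC : topologicalKrullDim C = 1)
    (i : C ⟶ X) [IsClosedImmersion i] (hi : i ≫ (X ↘ Spec (CommRingCat.of k)) = C ↘ Spec (CommRingCat.of k))
    (hI : PicF.IsInvertible (ClSub.idealMod i.ker))
    (hgen : ∀ c : PicLoc.PicSet X, ∃ n : ℤ, c = PicGrp.cls (ClSub.idealMod i.ker) hI ^ n)
    (hfree : ∀ n : ℤ, PicGrp.cls (ClSub.idealMod i.ker) hI ^ n = 1 → n = 0)
    (Hc : X.Modules) (hHc : ClSub.IsInverseOf Hc (ClSub.idealMod i.ker)) (hHca : CohB1.IsAmple Hc)
    (A : C.Modules) (hA : PicF.IsInvertible A) (e : ℕ)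
    (lam : FlatMod.freeMod X e ⟶ (Coh.push i).obj A) [Epi lam]
    (hlam : Function.Bijective (Sheaf.H.map ((SheafOfModules.toSheaf _).map lam) 0)) :
    Coh.IsCoh (kernel lam) ∧ TorSh.IsTorsionFree (kernel lam) ∧
      ShStab.IsMuStable k X Hc (kernel lam) 2 := by
  obtain rfl : ‹PicGrp.Law X› = H28Vert.picLaw X := Subsingleton.elim _ _
  letI := H28Vert.picLaw X
  have hH := hHa
  have hKt : ExtPow.IsExtPow 2 (Omega.sheaf (X ↘ Spec (CommRingCat.of k))) (Coh.structureModule X) := hK
  haveI := H28Int.isNoetherian k (X := X)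
  haveI : IsProper (C ↘ Spec (CommRingCat.of k)) := by rw [← hi]; infer_instance
  haveI := H28Int.isNoetherian k (X := C)
  have hdr : topologicalKrullDim (Set.range i.base) = 1 := by
    rw [← IsHomeomorph.topologicalKrullDim_eq _ i.isClosedEmbedding.isEmbedding.toHomeomorph.isHomeomorph, hC]
  have hCcurve : IsCurve i.ker := by
    refine ⟨?_, ?_⟩
    · haveI : IsIso i.toImage := inferInstance
      haveI : Nonempty i.image := ⟨i.toImage (genericPoint C)⟩
      haveI : IsIntegral i.image := IsIntegral.of_isIso i.toImage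
      exact ‹IsIntegral i.image›
    · rw [i.support_ker, i.isClosedEmbedding.isClosed_range.closure_eq]
      exact hdr
  have hCI : curveCls k hdim hCcurve = (PicGrp.cls (ClSub.idealMod i.ker) hI)⁻¹ := rfl
  obtain ⟨hq', hN⟩ := ample_generator k hdim hI hgen hCcurve hCI
  have hηC : ¬ IsClosed ({i (genericPoint C)} : Set X) := fun h => by
    have hsub : Set.range i.base ⊆ {i (genericPoint C)} := by
      rw [← Set.image_univ, ← genericPoint_spec C, ← i.isClosedEmbedding.closure_image_eq, Set.image_singleton,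
        h.closure_eq]
    have hle := H28Int.dim_le_of_subset hsub
    rw [hdr] at hle
    exact absurd (hle.trans (topologicalKrullDim_zero_of_discreteTopology ({i (genericPoint C)} : Set X))) (by norm_num)
  have hη : genericPoint X ∉ Set.range i.base := fun hmem => by
    have hu : Set.range i.base = Set.univ := Set.eq_univ_of_univ_subset
      ((genericPoint_spec X).symm.le.trans
        (closure_minimal (Set.singleton_subset_iff.2 hmem) i.isClosedEmbedding.isClosed_range))
    rw [hu, (Homeomorph.Set.univ X).isHomeomorph.topologicalKrullDim_eq, hdim] at hdr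
    exact absurd hdr (by norm_num)
  have hAf := H28Pinch.isFinLocFree_of_isInvertible hA
  have hEf := H22Alg.KModel.finLocFree_free (X := X) e
  have hF : FlatMod.IsFinLocFree (kernel lam) := finLocFree_kernel_push i hI hAf hEf lam
  have hS : (ShortComplex.mk (kernel.ι lam) lam (kernel.condition lam)).ShortExact :=
    { exact := ShortComplex.exact_of_f_is_kernel _ (kernelIsKernel lam) }
  have hF0 : Subsingleton (Coh.HH X (kernel lam) 0) := ⟨fun x y => H28Surf.hhlin_injective k hS (hlam.1 (by
      refine Eq.trans (H29RR.hhlin_comp (k := k) (kernel.ι lam) lam 0 x).symm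
        (Eq.trans ?_ (H29RR.hhlin_comp (k := k) (kernel.ι lam) lam 0 y))
      rw [kernel.condition, H29RR.hhlin_zero, H29RR.hhlin_zero]))⟩
  have hEc := H16Derived.KFlat.Stalk.isCoh_of_isFinLocFree hEf
  have hFc := H16Derived.KFlat.Stalk.isCoh_of_isFinLocFree hF
  have hPc : Coh.IsCoh ((Coh.push i).obj A) := H22Alg.KPushCl.isCoh_push i hAf
  have he : grk (kernel lam) = e := by
    have h := grk_add hS hEc
    haveI := H16Derived.ProjFormula.subsingleton_stalk_push i A _ hη
    change grk (FlatMod.freeMod X e) = grk (kernel lam) + grk ((Coh.push i).obj A) at h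
    have h3 : grk ((Coh.push i).obj A) = 0 := Module.finrank_zero_of_subsingleton
    have h2 : grk (FlatMod.freeMod X e) = e := finrank_generic_of_rank (rank_freeMod e)
    omega
  have hdeg : H28Int.D k [ClSub.idealMod i.ker] (kernel lam) =
      e * H28Int.D k [ClSub.idealMod i.ker] (Coh.structureModule X) -
        dot k (PicGrp.cls (ClSub.idealMod i.ker) hI) (PicGrp.cls (ClSub.idealMod i.ker) hI) := by
    have hadd := (isAddFn_deg k hI).add _ hS hFc hEc hPc
    change H28Int.D k [ClSub.idealMod i.ker] (FlatMod.freeMod X e) =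
      H28Int.D k [ClSub.idealMod i.ker] (kernel lam) + H28Int.D k [ClSub.idealMod i.ker] ((Coh.push i).obj A) at hadd
    rw [deg_free k hdim hI, deg_push k hdim hI hC.le i hi (H11Ample.isCoh_of_isInvertible hA),
      show grk A = 1 from finrank_generic_of_rank (H29RR.rank_one_of_isInvertible hA)] at hadd
    have h1 : H28Int.D k [ClSub.idealMod i.ker] ((Coh.push i).obj (Coh.structureModule C)) =
        dot k (PicGrp.cls (ClSub.idealMod i.ker) hI) (PicGrp.cls (ClSub.idealMod i.ker) hI) := by
      rw [(isAddFn_deg k hI).congr (H28Vert.quotModKerIso i).symm,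
        ← H28Surf.intNum_idealMod k hdim.le i.ker hI hI, intNum_eq_pr k hdim hI hI, ← dot_cls k hdim hI hI]
    rw [h1] at hadd
    push_cast at hadd
    linarith
  have hX : topologicalKrullDim X = ((2 : ℕ) : WithBot ℕ∞) := by exact_mod_cast hdim
  haveI := isLocallyNoetherian_of_proper (Z := X) k
  haveI : CompactSpace X := hHca.2.1
  obtain ⟨eI⟩ := hHc
  have hFp : ShStab.IsPure X (kernel lam) 2 :=
    isPure_of_isReflexive k (H02CA.SurfStab.isReflexive_of_vb hF hFc) hX
  have hFt : TorSh.IsTorsionFree (kernel lam) := torsionFree_of_finLocFree hF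
  refine ⟨hFc, hFt, ?_⟩
  by_cases h00 : e = 0
  · exfalso
    subst h00
    have hz : IsZero (FlatMod.freeMod X 0) := (IsZero.iff_id_eq_zero _).2 (Sigma.hom_ext _ _ fun i => i.elim0)
    haveI := H28Int.isNoetherian k (X := X)
    rw [(isAddFn_deg k hI).zero (IsZero.of_mono (kernel.ι lam) hz)] at hdeg
    push_cast at hdeg
    linarith
  obtain ⟨pO, hpO⟩ := H02CA.SurfStab.exists_poly (k := k) hHca hX (H10Coh.isCoh_structureModule' X)
  have hOi : PicF.IsInvertible (Coh.structureModule X) := H11Proj.isInvertible_structureModule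
  have hOp := H10Coh.K3Surf.isPure_inv (k := k) hX hOi
  have hO1 := deg_eq_coeff hX hHca hI eI (H10Coh.isCoh_structureModule' X) hpO
    fun n hn => coeff_above hHca hOp (H10Coh.isCoh_structureModule' X) hpO n hn
  have hO0 : ¬ IsZero (Coh.structureModule X) := fun h => by
    have := H25Euler.mem_support_structure (X := X) (genericPoint X)
    rw [H10Coh.Stab.support_eq_empty_of_isZero h] at this
    exact this
  have ha : 0 < pO.coeff 2 := by
    have := alpha_pos_of_pure hHca hOp (H10Coh.isCoh_structureModule' X) hO0 hpO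
    simp [alpha] at this
    linarith
  have hrk : ∀ {M : X.Modules} {p : ℚ[X]}, Coh.IsCoh M → ShStab.IsHilbPoly k X Hc M p →
      p.coeff 2 = grk M * pO.coeff 2 := fun {M} {p} hM hp =>
    H25Euler.coeff_hilbPoly_eq_genRank_mul k hHca hX hpO hM hp
  have hF0' : ¬ IsZero (kernel lam) := fun h => by
    obtain ⟨p, hp⟩ := H02CA.SurfStab.exists_poly (k := k) hHca hX hFc
    have h2 := hrk hFc hp
    rw [H25Euler.hilbPoly_unique hp (H25Euler.hilbPoly_zero h), coeff_zero, he, eq_comm, mul_eq_zero] at h2
    rcases h2 with h2 | h2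
    · exact h00 (by exact_mod_cast h2)
    · exact ha.ne' h2
  refine ⟨hFc, hF0', dim_self_of_pure hFp hFc hF0', fun K a hma hK => ?_, fun K a hma hK pK pF hpK hpF hα₀ hα => ?_⟩
  · haveI := hma
    by_cases h0 : IsZero K
    · haveI : IsEmpty (TopologicalSpace.IrreducibleCloseds ↥(∅ : Set X)) :=
        ⟨fun C => C.2.nonempty.elim fun x _ => x.2.elim⟩
      rw [H10Coh.Stab.support_eq_empty_of_isZero h0, topologicalKrullDim, Order.krullDim_eq_bot, WithBot.bot_add]
      exact WithBot.bot_ne_coe
    · rw [hFp K a hma hK h0]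
      exact_mod_cast (by norm_num : (2 : ℕ) + 1 ≠ 2)
  haveI := hma
  have hK2 := hrk hK hpK
  have hF2 := hrk hFc hpF
  rw [he] at hF2
  have hK1 := deg_eq_coeff hX hHca hI eI hK hpK fun n hn => coeff_above hHca (isPure_of_mono hFp a) hK hpK n hn
  have hF1 := deg_eq_coeff hX hHca hI eI hFc hpF fun n hn => coeff_above hHca hFp hFc hpF n hn
  simp only [alpha, hK2, hF2, Nat.factorial] at hα₀ hα
  push_cast at hα₀ hα
  have hs1 : 0 < grk K := Nat.pos_of_ne_zero fun h => by rw [h] at hα₀; simp at hα₀
  have hs2 : (grk K : ℚ) < e := by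
    by_contra h
    push Not at h
    nlinarith
  have hle := deg_sub_le k hdim hH hKt hI hgen hN hq' i hηC hAf lam hF0 hK a hs1
  rw [hdeg] at hF1
  rw [hK2] at hK1
  rw [hF2] at hF1
  have hleq : (H28Int.D k [ClSub.idealMod i.ker] K : ℚ) ≤
      grk K * (H28Int.D k [ClSub.idealMod i.ker] (Coh.structureModule X) : ℚ) -
        (dot k (PicGrp.cls (ClSub.idealMod i.ker) hI) (PicGrp.cls (ClSub.idealMod i.ker) hI) : ℚ) := by
    exact_mod_cast hle
  push_cast at hF1
  rw [hK1, hO1] at hleq
  rw [hO1] at hF1
  have hqq : (0 : ℚ) < (dot k (PicGrp.cls (ClSub.idealMod i.ker) hI) (PicGrp.cls (ClSub.idealMod i.ker) hI) : ℚ) := by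
    exact_mod_cast hq'
  have hs0 : (0 : ℚ) < grk K := by exact_mod_cast hs1
  show alpha 1 pK / alpha 2 pK < alpha 1 pF / alpha 2 pF
  simp only [alpha, hK2, hF2, Nat.factorial]
  push_cast
  rw [div_lt_div_iff₀ (by positivity) (by positivity)]
  nlinarith [mul_le_mul_of_nonneg_left hleq (hs0.le.trans hs2.le), mul_lt_mul_of_pos_right hs2 hqq]

end Groth.Agent.S18133
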