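import Groth.Statements.S18136
import Mathlib.RingTheory.Ideal.Cotangent
import Mathlib.Order.Directed

set_option autoImplicit false
universe u v
open IsLocalRing
open CAlg

namespace Groth.Agent.S18136

/-- Let A be a regular local ring with maximal ideal m and residue field k, written as a directed
colimit of regular local rings A_j with local transition maps (compatible maps ψ_j : A_j → A that
are jointly surjective, an element dying in A dying at some later stage). Let f_1, …, f_c, g_1, …,
g_d ∈ m have linearly independent classes in m/m^2 over k, and put I = (f_1, …, f_c) ⊆ I' = (f_1, …,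
f_c, g_1, …, g_d) (so I is generated by part of a regular system of parameters of A and I'/I by part
of a regular system of parameters of A/I; for a regular local ring the condition on I ⊆ I' is stated
through such a joint family). Then there are an index j_0 and ideals I_j ⊆ I'_j ⊆ A_j for j ≥ j_0
such that: each I_j is generated by c elements and I'_j by these together with d further elements of
the maximal ideal m_j, the c + d classes in m_j/m_j^2 being linearly independent over the residue
field of A_j; the transition maps carry I_i, I'_i onto generators of I_j, I'_j for j_0 ≤ i ≤ j; and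
I_j, I'_j generate I, I' in A. -/
theorem result
    {A : Type u} [CommRing A] [IsRegularLocalRing A]
    {ι : Type v} [Preorder ι] [Nonempty ι] [IsDirected ι (· ≤ ·)]
    (B : ι → Type u) [∀ j, CommRing (B j)] [∀ j, IsRegularLocalRing (B j)]
    (φ : ∀ i j, i ≤ j → (B i →+* B j)) (hφloc : ∀ i j (h : i ≤ j), IsLocalHom (φ i j h))
    (hφ : ∀ i j l (hij : i ≤ j) (hjl : j ≤ l), (φ j l hjl).comp (φ i j hij) = φ i l (hij.trans hjl))
    (ψ : ∀ j, B j →+* A) (hψ : ∀ i j (h : i ≤ j), (ψ j).comp (φ i j h) = ψ i)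
    (hsurj : ∀ a : A, ∃ j, ∃ x : B j, ψ j x = a)
    (hker : ∀ j (x : B j), ψ j x = 0 → ∃ l, ∃ h : j ≤ l, φ j l h x = 0)
    (c d : ℕ) (f : Fin c → maximalIdeal A) (g : Fin d → maximalIdeal A)
    (hind : LinearIndependent (ResidueField A) (⇑(maximalIdeal A).toCotangent ∘ Sum.elim f g)) :
    ∃ j₀ : ι, ∃ (P : ∀ j, j₀ ≤ j → Ideal (B j)) (Q : ∀ j, j₀ ≤ j → Ideal (B j)),
      (∀ j (hj : j₀ ≤ j), ∃ (F : Fin c → maximalIdeal (B j)) (E : Fin d → maximalIdeal (B j)),
        LinearIndependent (ResidueField (B j)) (⇑(maximalIdeal (B j)).toCotangent ∘ Sum.elim F E) ∧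
        P j hj = Ideal.span (Set.range (fun s => (F s : B j))) ∧
        Q j hj = P j hj ⊔ Ideal.span (Set.range (fun t => (E t : B j)))) ∧
      (∀ i j (hi : j₀ ≤ i) (hij : i ≤ j),
        (P i hi).map (φ i j hij) = P j (le_trans hi hij) ∧ (Q i hi).map (φ i j hij) = Q j (le_trans hi hij)) ∧
      (∀ j (hj : j₀ ≤ j),
        (P j hj).map (ψ j) = Ideal.span (Set.range (fun s => (f s : A))) ∧
        (Q j hj).map (ψ j) = Ideal.span (Set.range (fun s => (f s : A))) ⊔ Ideal.span (Set.range (fun t => (g t : A)))) := by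
  classical
  choose jf xf hxf using fun s : Fin c ⊕ Fin d => hsurj ((Sum.elim f g s : maximalIdeal A) : A)
  obtain ⟨j₀, hj₀⟩ := (Set.finite_range jf).bddAbove (α := ι)
  have hle : ∀ s, jf s ≤ j₀ := fun s => hj₀ ⟨s, rfl⟩
  let F₀ : Fin c ⊕ Fin d → B j₀ := fun s => φ (jf s) j₀ (hle s) (xf s)
  have hψφ : ∀ i j (h : i ≤ j) (x : B i), ψ j (φ i j h x) = ψ i x := fun i j h x => RingHom.congr_fun (hψ i j h) x
  have hF₀ : ∀ j (hj : j₀ ≤ j) s, ψ j (φ j₀ j hj (F₀ s)) = ((Sum.elim f g s : maximalIdeal A) : A) := fun j hj s => by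
    rw [hψφ, hψφ]; exact hxf s
  have hloc : ∀ j (x : B j), ψ j x ∈ maximalIdeal A → x ∈ maximalIdeal (B j) := fun j x hx =>
    (IsLocalRing.mem_maximalIdeal _).mpr fun hu => (IsLocalRing.mem_maximalIdeal _).mp hx (hu.map (ψ j))
  have hloc' : ∀ j (x : B j), x ∈ maximalIdeal (B j) → ψ j x ∈ maximalIdeal A := by
    intro j x hx
    refine (IsLocalRing.mem_maximalIdeal _).mpr fun hu => (IsLocalRing.mem_maximalIdeal _).mp hx ?_
    obtain ⟨v, hv⟩ := hu.exists_right_inv
    obtain ⟨l, y, rfl⟩ := hsurj v
    obtain ⟨m, hjm, hlm⟩ := directed_of (· ≤ ·) j l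
    obtain ⟨m', hmm', h0⟩ := hker m (φ j m hjm x * φ l m hlm y - 1) (by
      rw [map_sub, map_mul, map_one, hψφ, hψφ, hv, sub_self])
    rw [map_sub, map_mul, map_one, sub_eq_zero, ← RingHom.comp_apply, hφ] at h0
    haveI := hφloc j m' (hjm.trans hmm')
    exact IsUnit.of_map (φ j m' (hjm.trans hmm')) x (.of_mul_eq_one _ h0)
  refine ⟨j₀, fun j hj => Ideal.span (Set.range fun s => φ j₀ j hj (F₀ (Sum.inl s))),
    fun j hj => Ideal.span (Set.range fun s => φ j₀ j hj (F₀ (Sum.inl s))) ⊔
      Ideal.span (Set.range fun t => φ j₀ j hj (F₀ (Sum.inr t))), fun j hj => ?_, fun i j hi hij => ?_, fun j hj => ?_⟩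
  · let G : Fin c ⊕ Fin d → maximalIdeal (B j) := fun s =>
      ⟨φ j₀ j hj (F₀ s), hloc j _ (by rw [hF₀]; exact SetLike.coe_mem _)⟩
    refine ⟨fun s => G (.inl s), fun t => G (.inr t), ?_, rfl, rfl⟩
    have e : Sum.elim (fun s => G (.inl s)) (fun t => G (.inr t)) = G := Sum.elim_comp_inl_inr G
    rw [e, Fintype.linearIndependent_iff]
    intro a ha s
    choose b hb using fun s => IsLocalRing.residue_surjective (a s)
    have hsq : ∑ s, b s * φ j₀ j hj (F₀ s) ∈ maximalIdeal (B j) ^ 2 := by
      have : (maximalIdeal (B j)).toCotangent (∑ s, b s • G s) = 0 := by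
        rw [map_sum, ← ha]
        refine Finset.sum_congr rfl fun s _ => ?_
        rw [map_smul, ← hb s]
        rfl
      rw [Ideal.toCotangent_eq_zero] at this
      simpa [G] using this
    have hsqA : ∑ s, ψ j (b s) * ((Sum.elim f g s : maximalIdeal A) : A) ∈ maximalIdeal A ^ 2 := by
      have h1 := Ideal.mem_map_of_mem (ψ j) hsq
      rw [Ideal.map_pow] at h1
      have h2 := Ideal.pow_right_mono (Ideal.map_le_iff_le_comap.mpr (fun x hx => hloc' j x hx) : (maximalIdeal (B j)).map (ψ j) ≤ maximalIdeal A) 2 h1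
      simpa [hF₀] using h2
    have hA := Fintype.linearIndependent_iff.mp hind (fun s => residue A (ψ j (b s))) (by
      have : (maximalIdeal A).toCotangent (∑ s, ψ j (b s) • Sum.elim f g s) = 0 := by
        rw [Ideal.toCotangent_eq_zero]; simpa using hsqA
      rw [← this, map_sum]
      refine Finset.sum_congr rfl fun s _ => ?_
      rw [map_smul]
      rfl) s
    rw [← hb s]
    rw [IsLocalRing.residue_eq_zero_iff] at hA ⊢
    exact hloc j _ hA
  · have hc : ∀ s, φ i j hij (φ j₀ i hi (F₀ s)) = φ j₀ j (hi.trans hij) (F₀ s) := fun s =>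
      RingHom.congr_fun (hφ j₀ i j hi hij) _
    constructor
    · rw [Ideal.map_span, ← Set.range_comp]; simp only [Function.comp_def, hc]
    · rw [Ideal.map_sup, Ideal.map_span, Ideal.map_span, ← Set.range_comp, ← Set.range_comp]
      simp only [Function.comp_def, hc]
  · constructor
    · rw [Ideal.map_span, ← Set.range_comp]; simp only [Function.comp_def, hF₀]; rfl
    · rw [Ideal.map_sup, Ideal.map_span, Ideal.map_span, ← Set.range_comp, ← Set.range_comp]
      simp only [Function.comp_def, hF₀]; rfl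

end Groth.Agent.S18136
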