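import Groth.Statements.S18151
import Groth.Agent.H27Split.Basic
import Groth.Agent.S0002
import Groth.Agent.H11Ample.Tensor

set_option autoImplicit false
universe u
open CategoryTheory AlgebraicGeometry Opposite TopologicalSpace
open FrobSch

open Groth.Agent.H27Split

namespace Groth.Agent.S18151

/-- Let p be a prime, k a perfect field of characteristic p, and X a proper k-scheme. Let φ be the p-th
power map on the sheaf of additive groups underlying O_X and suppose X is Frobenius split: φ admits
a retraction s, an additive endomorphism of O_X with s ∘ φ the identity and s(a^p·b) = a·s(b) on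
every open. Then for every invertible module L and every i the dimension of H^i(X, L) over k is at
most that of H^i(X, L^{⊗p}). (The source shows, for any k-scheme X, that the Frobenius pull-back
H^i(X, L) → H^i(X, L^{⊗p}) is injective, with a left inverse coming from the splitting; that map is
not named here, so the statement records its consequence on dimensions, for X proper so that both
are finite.) -/
theorem result (p : ℕ) [Fact p.Prime]
    (k : Type u) [Field k] [CharP k p] [PerfectRing k p]
    (X : Scheme.{u}) [X.Over (Spec (CommRingCat.of k))] [IsProper (X ↘ Spec (CommRingCat.of k))]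
    (φ : Coh.toAb (Coh.structureModule X) ⟶ Coh.toAb (Coh.structureModule X))
    (hφ : ∀ (U : X.Opens) (t : Γ(X, U)), φ.hom.app (op U) t = t ^ p)
    (s : Coh.toAb (Coh.structureModule X) ⟶ Coh.toAb (Coh.structureModule X))
    (hs : φ ≫ s = 𝟙 _)
    (hlin : ∀ (U : X.Opens) (a b : Γ(X, U)),
      s.hom.app (op U) (a ^ p * b) = a * @id Γ(X, U) (s.hom.app (op U) b))
    (L : X.Modules) (hL : PicF.IsInvertible L) (i : ℕ) :
    Module.finrank k (Coh.HH X L i) ≤ Module.finrank k (Coh.HH X (CohB1.tensorPow L p) i) := by
  let g : k →+* Coh.Γtop X := Coh.toGlobal (X ↘ Spec (CommRingCat.of k))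
  have hp0 : ∀ V : X.Opens, (p : Γ(X, V)) = 0 := fun V =>
    Groth.Agent.H27Perf.natCast_map ((Coh.resTop X (op V)).comp g) (CharP.cast_eq_zero k p)
  obtain ⟨σ, hσ⟩ := exists_retraction_of_split hp0 φ s hφ hs hlin hL
  let ψ := powMap hp0 hL
  have hinj : Function.Injective (Sheaf.H.map ψ i) := fun x y h => by
    have := congrArg (Sheaf.H.map σ i) h
    rwa [← Sheaf.H.map_comp_apply, ← Sheaf.H.map_comp_apply, hσ, Sheaf.H.map_id_apply,
      Sheaf.H.map_id_apply] at this
  have hsemi : ∀ (c : k) (x : Coh.HH X L i),
      Sheaf.H.map ψ i (c • x) = c ^ p • Sheaf.H.map ψ i x := by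
    intro c x
    change Sheaf.H.map ψ i (Sheaf.H.map (Coh.smulAb L (g c)) i x) =
      Sheaf.H.map (Coh.smulAb _ (g (c ^ p))) i (Sheaf.H.map ψ i x)
    rw [← Sheaf.H.map_comp_apply, ← Sheaf.H.map_comp_apply, powMap_smulAb, map_pow]
  have hfin : Module.Finite k (Coh.HH X (CohB1.tensorPow L p) i) := by
    haveI : IsLocallyNoetherian X :=
      LocallyOfFiniteType.isLocallyNoetherian (X ↘ Spec (CommRingCat.of k))
    exact Groth.Agent.S0002.result k X _
      (Groth.Agent.H11Ample.isCoh_of_isInvertible
        (Groth.Agent.H11Ample.isInvertible_tensorPow hL p)) i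
  haveI : ExpChar k p := .prime (Fact.out : p.Prime)
  have hinj' : ∀ c : k, ∃ d : k, d ^ p = c := fun c => (bijective_frobenius k p).2 c
  refine Module.finrank_le_finrank_of_rank_le_rank ?_ (Module.rank_lt_aleph0 k _)
  rw [Cardinal.lift_id, Cardinal.lift_id]
  obtain ⟨b⟩ : Nonempty (Module.Basis (Module.Basis.ofVectorSpaceIndex k (Coh.HH X L i)) k
      (Coh.HH X L i)) := ⟨Module.Basis.ofVectorSpace k _⟩
  rw [← b.mk_eq_rank'']
  refine LinearIndependent.cardinal_le_rank (v := fun j => Sheaf.H.map ψ i (b j)) ?_
  refine linearIndependent_iff'.2 fun t c hc j hj => ?_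
  choose d hd using fun j => hinj' (c j)
  have h1 : Sheaf.H.map ψ i (∑ j ∈ t, d j • b j) = 0 := by
    rw [map_sum]
    simpa [hsemi, hd] using hc
  have h2 := (linearIndependent_iff'.1 b.linearIndependent) t d
    (hinj (h1.trans (map_zero _).symm)) j hj
  rw [← hd, h2, zero_pow (Fact.out : p.Prime).ne_zero]

end Groth.Agent.S18151
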