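import Groth.Statements.S18150
import Groth.Agent.S10934
import Groth.Agent.S18151
import Groth.Agent.H22Alg.CurveProj
import Groth.Agent.H28Vert.PicVert
import Groth.Agent.H4Depth.Regular
import Groth.Agent.H29RR.FiniteSupport
import Groth.Agent.H17.DualSh.Equidim
import Groth.Agent.H17.InvertibleTensor
import Groth.Agent.H29RR.Degree

set_option autoImplicit false
universe u
open CategoryTheory AlgebraicGeometry Opposite TopologicalSpace
open FrobSch

namespace Groth.Agent.S18150

/-- Let p be a prime, k a perfect field of characteristic p, and X an irreducible smooth proper k-scheme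
of dimension n. Let φ be the p-th power map on the sheaf of additive groups underlying O_X and
suppose X is Frobenius split: φ admits a retraction s, an additive endomorphism of O_X with s ∘ φ
the identity and s(a^p·b) = a·s(b) on every open. Then Kodaira vanishing holds on X: for every ample
invertible module L with tensor inverse L⁻¹ and every i < n, the cohomology group H^i(X, L⁻¹)
vanishes. (The source allows X Gorenstein projective; X is taken smooth, proper with an ample
invertible module, and irreducible so that n is the dimension of every component.) -/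
theorem result (p : ℕ) [Fact p.Prime]
    (k : Type u) [Field k] [CharP k p] [PerfectRing k p]
    (X : Scheme.{u}) [X.Over (Spec (CommRingCat.of k))] [IsProper (X ↘ Spec (CommRingCat.of k))]
    [Smooth (X ↘ Spec (CommRingCat.of k))] [IrreducibleSpace X] (n : ℕ) (hn : topologicalKrullDim X = n)
    (φ : Coh.toAb (Coh.structureModule X) ⟶ Coh.toAb (Coh.structureModule X))
    (hφ : ∀ (U : X.Opens) (t : Γ(X, U)), φ.hom.app (op U) t = t ^ p)
    (s : Coh.toAb (Coh.structureModule X) ⟶ Coh.toAb (Coh.structureModule X))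
    (hs : φ ≫ s = 𝟙 _)
    (hlin : ∀ (U : X.Opens) (a b : Γ(X, U)),
      s.hom.app (op U) (a ^ p * b) = a * @id Γ(X, U) (s.hom.app (op U) b))
    (L Linv : X.Modules) (hL : CohB1.IsAmple L) (hLinv : ClSub.IsInverseOf Linv L)
    (i : ℕ) (hi : i < n) :
    Subsingleton (Coh.HH X Linv i) := by
  let P := X ↘ Spec (CommRingCat.of k)
  haveI := H29RR.isNoetherian_of_proper (k := k) (X := X)
  haveI : IsIntegral X := by
    haveI : ∀ x : X, _root_.IsReduced (X.presheaf.stalk x) := fun x => by
      haveI := H19Grp.isRegularLocalRing_stalk_of_smooth P x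
      haveI := H4Depth.isDomain_of_isRegularLocalRing (X.presheaf.stalk x)
      infer_instance
    haveI : IsReduced X := isReduced_of_isReduced_stalk X
    exact isIntegral_of_irreducibleSpace_of_isReduced X
  obtain ⟨N, m, ι, hm, hι, hιp, ⟨eι⟩⟩ := H22Alg.CurveProj.exists_closedImmersion_iso k X hL
  haveI := hι
  obtain ⟨eL⟩ := hLinv
  have hM : PicF.IsInvertible Linv := H17.InvertibleTensor.isInvertible_of_tensor_iso Linv L eL
  letI := H28Vert.picLaw X
  let M := PicGrp.cls Linv hM
  have hpow : ∀ j : ℕ, PicF.IsInvertible (CohB1.tensorPow Linv j) := H11Ample.isInvertible_tensorPow hM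
  have hcls : ∀ j : ℕ, PicGrp.cls (CohB1.tensorPow Linv j) (hpow j) = M ^ j := fun j =>
    H28Vert.cls_tensorPow hM j
  -- the negative twists
  have h1 : ∀ x : Proj (CohB1.polyGrading N k), ∃ f ∈ CohB1.polyGrading N k 1, f ∉ x.asHomogeneousIdeal := fun x => by
    obtain ⟨l, hl⟩ := H11Ample.exists_mem_basicOpen_X (n := N) (R := k) x
    exact ⟨_, H11Ample.X_mem l, hl⟩
  have htw : ∀ z : ℤ, PicF.IsInvertible ((Scheme.Modules.pullback ι).obj (Twist.twistProjSpace N k z)) := fun z =>
    H11Ample.isInvertible_pullback ι (H11Tilde.isInvertible_twist _ h1 z)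
  let T : ℤ → PicLoc.PicSet X := fun z => PicGrp.cls _ (htw z)
  have hTadd : ∀ a b : ℤ, T a * T b = T (a + b) := fun a b => by
    obtain ⟨e₁⟩ := H11Tilde.nonempty_twist_tensor_iso (CohB1.polyGrading N k) h1 a b (a + b) rfl
    obtain ⟨e₂⟩ := H11Ample.exists_iso_pullback_tensor ι (H11Tilde.isInvertible_twist _ h1 a)
      (H11Tilde.isInvertible_twist _ h1 b)
    refine Subtype.ext ?_
    rw [PicGrp.cls_mul_cls_val, PicGrp.cls_val]
    exact Quot.sound ⟨e₂.symm ≪≫ (Scheme.Modules.pullback ι).mapIso e₁⟩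
  have hT1 : T 1 = M⁻¹ ^ m := by
    have hLi : PicF.IsInvertible L := hL.1
    have hinv : PicGrp.cls L hLi = M⁻¹ := (PicGrp.cls_inv_eq_cls hM hLi ⟨eL⟩).symm
    rw [← hinv, ← H28Vert.cls_tensorPow hLi m]
    exact Subtype.ext (Quot.sound ⟨eι⟩)
  have hTq : ∀ q : ℕ, T (-(q : ℤ)) = M ^ (m * q) := fun q => by
    induction q with
    | zero =>
      have h := hTadd 0 0
      rw [add_zero] at h
      rw [Nat.cast_zero, neg_zero, mul_zero, pow_zero]
      exact mul_eq_left.1 h
    | succ q ih =>
      have h := hTadd (-((q + 1 : ℕ) : ℤ)) 1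
      rw [show -((q + 1 : ℕ) : ℤ) + 1 = -(q : ℤ) by push_cast; ring, ih, hT1, inv_pow] at h
      rw [Nat.mul_succ, pow_add]
      exact eq_mul_of_mul_inv_eq h
  -- vanishing for large powers
  have hdim : ∀ x : X, IsClosed ({x} : Set X) → LocCoh.IsCohenMacaulayLocalRing (X.presheaf.stalk x) ∧
      ringKrullDim (X.presheaf.stalk x) = n := fun x hx => by
    haveI := H19Grp.isRegularLocalRing_stalk_of_smooth P x
    refine ⟨H4Depth.isCohenMacaulayLocalRing_of_regular _, H17.DualSh.ringKrullDim_closed P n (fun Z hZ => ?_) x hx⟩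
    rw [irreducibleComponents_eq_singleton] at hZ
    obtain rfl : Z = Set.univ := hZ
    rw [← hn]
    exact IsHomeomorph.topologicalKrullDim_eq _ (Homeomorph.Set.univ X).isHomeomorph
  have hvan := (S10934.result k N n ι hn).1 hdim
  choose q₀ hq₀ using fun r : Fin m => hvan (CohB1.tensorPow Linv r)
    (H28Pinch.isFinLocFree_of_isInvertible (hpow r))
  have hlarge : ∀ j : ℕ, m * (Finset.univ.sup q₀ + 1) ≤ j → Subsingleton (Coh.HH X (CohB1.tensorPow Linv j) i) := by
    intro j hj
    let r : Fin m := ⟨j % m, Nat.mod_lt _ hm⟩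
    have hq : q₀ r ≤ j / m := by
      rw [Nat.le_div_iff_mul_le hm]
      calc q₀ r * m ≤ (Finset.univ.sup q₀ + 1) * m :=
            Nat.mul_le_mul_right m ((Finset.le_sup (Finset.mem_univ r)).trans (Nat.le_succ _))
        _ ≤ j := by rw [mul_comm]; exact hj
    have hV := hq₀ r (j / m) hq i hi
    obtain ⟨e⟩ : Nonempty (CohB1.tensorMod (CohB1.tensorPow Linv r)
        ((Scheme.Modules.pullback ι).obj (Twist.twistProjSpace N k (-((j / m : ℕ) : ℤ)))) ≅ CohB1.tensorPow Linv j) := by
      rw [← PicGrp.cl_eq_cl_iff, ← PicGrp.cls_mul_cls_val (hpow r) (htw _), ← PicGrp.cls_val _ (hpow j)]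
      refine congrArg Subtype.val ?_
      show _ * T (-((j / m : ℕ) : ℤ)) = _
      rw [hcls, hTq, hcls, ← pow_add]
      congr 1
      exact Nat.mod_add_div j m
    haveI := hV
    exact (H29RR.hhIso (k := k) e i).symm.toEquiv.subsingleton
  -- Frobenius splitting
  have hstep : ∀ e : ℕ, Module.finrank k (Coh.HH X (CohB1.tensorPow Linv (p ^ e)) i) ≤
      Module.finrank k (Coh.HH X (CohB1.tensorPow Linv (p ^ (e + 1))) i) := fun e => by
    refine (S18151.result p k X φ hφ s hs hlin _ (hpow (p ^ e)) i).trans (le_of_eq ?_)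
    have hpp := H11Ample.isInvertible_tensorPow (hpow (p ^ e)) p
    obtain ⟨e'⟩ : Nonempty (CohB1.tensorPow (CohB1.tensorPow Linv (p ^ e)) p ≅ CohB1.tensorPow Linv (p ^ (e + 1))) := by
      rw [← PicGrp.cl_eq_cl_iff, ← PicGrp.cls_val _ hpp, ← PicGrp.cls_val _ (hpow (p ^ (e + 1)))]
      refine congrArg Subtype.val ?_
      rw [H28Vert.cls_tensorPow (hpow (p ^ e)) p, hcls, hcls, ← pow_mul, ← pow_succ]
    exact (H29RR.hhIso (k := k) e' i).finrank_eq
  have hmono : ∀ e : ℕ, Module.finrank k (Coh.HH X (CohB1.tensorPow Linv (p ^ 0)) i) ≤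
      Module.finrank k (Coh.HH X (CohB1.tensorPow Linv (p ^ e)) i) := fun e =>
    Nat.rec le_rfl (fun e ih => ih.trans (hstep e)) e
  haveI := hlarge (p ^ (m * (Finset.univ.sup q₀ + 1))) (Nat.lt_pow_self (Fact.out : p.Prime).one_lt).le
  have h0 := hmono (m * (Finset.univ.sup q₀ + 1))
  rw [Module.finrank_zero_of_subsingleton (M := Coh.HH X (CohB1.tensorPow Linv (p ^ (m * (Finset.univ.sup q₀ + 1)))) i),
    Nat.le_zero] at h0
  haveI : Module.Finite k (Coh.HH X (CohB1.tensorPow Linv (p ^ 0)) i) :=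
    H10Coh.finite_HH_proper k X _ (H11Ample.isCoh_of_isInvertible (hpow _)) i
  haveI := (Module.finrank_zero_iff (R := k)).1 h0
  obtain ⟨e0⟩ : Nonempty (CohB1.tensorPow Linv (p ^ 0) ≅ Linv) := by
    rw [← PicGrp.cl_eq_cl_iff, ← PicGrp.cls_val _ (hpow (p ^ 0)), ← PicGrp.cls_val _ hM]
    exact congrArg Subtype.val (by rw [hcls, pow_zero, pow_one])
  exact (H29RR.hhIso (k := k) e0 i).symm.toEquiv.subsingleton

end Groth.Agent.S18150
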