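import Groth.Statements.S18153
import Groth.Agent.H27Misc.JacobianCoeff

set_option autoImplicit false
universe u w
open FrobAlg

namespace Groth.Agent.S18153

/-- Let R be a commutative ring of prime characteristic p and f_1, …, f_m (m ≥ 1) polynomials over R in
the variables t_1, …, t_m and a further, possibly empty, family of variables s_a. Then in the m × m
Jacobian determinant det(∂f_i/∂t_j) with respect to the t-variables, the coefficient of the monomial
t_1^{p-1} ⋯ t_m^{p-1} (all s-exponents zero) vanishes. (In the source this is the claim, for formal
power series in n ≥ m variables over the base field, to which the proof of the proposition reduces;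
the coefficient in question only involves truncations of the f_i, so the polynomial form over any
ring of characteristic p is the same assertion.) -/
theorem result
    (p : ℕ) [Fact p.Prime] (R : Type u) [CommRing R] [CharP R p]
    {m : ℕ} (hm : 0 < m) (σ : Type w) (f : Fin m → MvPolynomial (Fin m ⊕ σ) R) :
    MvPolynomial.coeff
        (Finsupp.sumElim (Finsupp.equivFunOnFinite.symm fun _ : Fin m => p - 1) (0 : σ →₀ ℕ))
        (Matrix.of fun i j : Fin m => MvPolynomial.pderiv (Sum.inl j) (f i)).det = 0 := by
  exact Groth.Agent.H27Misc.coeff_det_jacobian (p := p) (Fact.out : p.Prime).one_le hm f

end Groth.Agent.S18153
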