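import Groth.Statements.S18156
import Mathlib.RingTheory.AdicCompletion.Algebra
import Mathlib.RingTheory.Derivation.Basic
import Mathlib.RingTheory.RegularLocalRing.Defs

set_option autoImplicit false
universe u v
open CAlg

namespace Groth.Agent.S18156

/-- Let k be a field and A a regular local ring that is a k-algebra, with maximal ideal m and m-adic
completion Â. Then every k-derivation D of A into itself extends to a k-derivation D̂ of Â into
itself along the canonical map ρ : A → Â, in the sense that D̂(ρ(a)) = ρ(D(a)) for every a ∈ A. (The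
source works throughout over an algebraically closed field of characteristic p; neither assumption
enters this statement.) -/
theorem result
    (k : Type u) [Field k] (A : Type v) [CommRing A] [Algebra k A] [IsRegularLocalRing A]
    (D : Derivation k A A) :
    ∃ Dhat : Derivation k (AdicCompletion (IsLocalRing.maximalIdeal A) A)
        (AdicCompletion (IsLocalRing.maximalIdeal A) A),
      ∀ a : A, Dhat (algebraMap A (AdicCompletion (IsLocalRing.maximalIdeal A) A) a) =
        algebraMap A (AdicCompletion (IsLocalRing.maximalIdeal A) A) (D a) := by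
  classical
  let 𝔪 := IsLocalRing.maximalIdeal A
  let Ahat := AdicCompletion 𝔪 A
  have hD : ∀ (n : ℕ), ∀ x ∈ 𝔪 ^ (n + 1), D x ∈ 𝔪 ^ n := by
    intro n
    induction n with
    | zero => intro x _; simp
    | succ n ih =>
      intro x hx
      rw [pow_succ] at hx
      induction hx using Submodule.mul_induction_on' with
      | mem_mul_mem a ha b hb =>
        rw [Derivation.leibniz, smul_eq_mul, smul_eq_mul]
        refine add_mem (Ideal.mul_mem_right _ _ ha) ?_
        rw [pow_succ']
        exact Ideal.mul_mem_mul hb (ih a ha)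
      | add y _ z _ hy hz => rw [map_add]; exact add_mem hy hz
  have htop : ∀ n, (𝔪 ^ n • ⊤ : Submodule A A) = 𝔪 ^ n := fun n => by
    rw [smul_eq_mul, Ideal.mul_top]
  have hrep : ∀ (x : Ahat) (n : ℕ), ∃ y : A, (Submodule.Quotient.mk y : A ⧸ (𝔪 ^ n • ⊤ : Submodule A A)) = x.val n :=
    fun x n => Submodule.Quotient.mk_surjective _ _
  choose rep hrep using hrep
  have huniq : ∀ (x : Ahat) (n : ℕ) (y : A),
      (Submodule.Quotient.mk y : A ⧸ (𝔪 ^ (n + 1) • ⊤ : Submodule A A)) = x.val (n + 1) →
      (Submodule.Quotient.mk (D (rep x (n + 1))) : A ⧸ (𝔪 ^ n • ⊤ : Submodule A A)) =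
        Submodule.Quotient.mk (D y) := by
    intro x n y hy
    rw [Submodule.Quotient.eq, ← map_sub, htop]
    refine hD n _ ?_
    rw [← htop, ← Submodule.Quotient.eq, hy, hrep]
  let Fv : Ahat → Ahat := fun x =>
    ⟨fun n => Submodule.Quotient.mk (D (rep x (n + 1))), fun {m n} hmn => by
      show Submodule.mapQ _ _ LinearMap.id _ _ = _
      rw [Submodule.mapQ_apply, LinearMap.id_apply]
      refine (huniq x m _ ?_).symm
      have := x.property (show m + 1 ≤ n + 1 by omega)
      rw [← hrep x (n + 1)] at this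
      exact this⟩
  have hval : ∀ (x : Ahat) (n : ℕ) (y : A),
      (Submodule.Quotient.mk y : A ⧸ (𝔪 ^ (n + 1) • ⊤ : Submodule A A)) = x.val (n + 1) →
      (Fv x).val n = Submodule.Quotient.mk (D y) := huniq
  have hadd : ∀ x y, Fv (x + y) = Fv x + Fv y := fun x y => AdicCompletion.ext fun {n} => by
    rw [hval (x + y) n (rep x (n + 1) + rep y (n + 1)) (by
      rw [Submodule.Quotient.mk_add, hrep, hrep]; rfl), map_add, Submodule.Quotient.mk_add]
    rfl
  have hmulval : ∀ (x y : Ahat) (n : ℕ) (a b : A),
      (Submodule.Quotient.mk a : A ⧸ (𝔪 ^ n • ⊤ : Submodule A A)) = x.val n →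
      (Submodule.Quotient.mk b : A ⧸ (𝔪 ^ n • ⊤ : Submodule A A)) = y.val n →
      (Submodule.Quotient.mk (a * b) : A ⧸ (𝔪 ^ n • ⊤ : Submodule A A)) = (x * y).val n := by
    intro x y n a b ha hb
    rw [AdicCompletion.val_mul]
    show _ = x.val n * y.val n
    rw [← ha, ← hb]
    rfl
  have hmem : ∀ (x : Ahat) (n : ℕ), (Submodule.Quotient.mk (rep x (n + 1)) : A ⧸ (𝔪 ^ n • ⊤ : Submodule A A)) =
      x.val n := fun x n => by
    have := x.property (show n ≤ n + 1 by omega)
    rw [← hrep x (n + 1)] at this
    exact this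
  have hmul : ∀ x y, Fv (x * y) = x * Fv y + y * Fv x := fun x y => AdicCompletion.ext fun {n} => by
    rw [hval (x * y) n (rep x (n + 1) * rep y (n + 1)) (hmulval _ _ _ _ _ (hrep _ _) (hrep _ _)),
      Derivation.leibniz, Submodule.Quotient.mk_add]
    show (Submodule.Quotient.mk (rep x (n + 1) * D (rep y (n + 1))) : A ⧸ (𝔪 ^ n • ⊤ : Submodule A A)) +
      Submodule.Quotient.mk (rep y (n + 1) * D (rep x (n + 1))) = _
    rw [hmulval x (Fv y) n _ _ (hmem x n) rfl, hmulval y (Fv x) n _ _ (hmem y n) rfl]
    rfl
  have halg : ∀ a : A, Fv (algebraMap A Ahat a) = algebraMap A Ahat (D a) := fun a =>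
    AdicCompletion.ext fun {n} => hval (algebraMap A Ahat a) n a rfl
  have hsmul : ∀ (c : k) (x : Ahat), Fv (c • x) = c • Fv x := fun c x => by
    rw [← algebraMap_smul A c x, ← algebraMap_smul A c (Fv x), Algebra.smul_def, Algebra.smul_def, hmul,
      halg, Derivation.map_algebraMap, map_zero, mul_zero, add_zero]
  let L : Ahat →ₗ[k] Ahat := { toFun := Fv, map_add' := hadd, map_smul' := hsmul }
  refine ⟨Derivation.mk' L fun x y => ?_, halg⟩
  simp only [smul_eq_mul]
  exact hmul x y

end Groth.Agent.S18156
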