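import Groth.Statements.S18158
import Groth.Agent.H18Et.TopInvThickening
import Groth.Agent.H27Frob.W2Alg
-- import your own Groth.Agent.* helpers here

set_option autoImplicit false
universe u
open CategoryTheory CategoryTheory.Limits AlgebraicGeometry
open Lift

open CategoryTheory CategoryTheory.Limits AlgebraicGeometry
open Groth.Agent

set_option backward.isDefEq.respectTransparency false
set_option backward.isDefEq.respectTransparency.types false
set_option maxHeartbeats 800000
set_option linter.style.haveILetI false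

namespace Groth.Agent.S18158

/-- Let k be an algebraically closed field of characteristic p and q : Y → X an étale morphism to a
smooth k-scheme X. Suppose X has a W_2-lifting of its Frobenius: a scheme X~ flat over Spec W_2(k),
a morphism i : X → X~ making X the base change of X~ along Spec k → Spec W_2(k) (the residue map),
and an endomorphism F~ of X~ with i ∘ F_X = F~ ∘ i, F_X the absolute Frobenius. Then Y has one as
well: there are a scheme Y~ flat over Spec W_2(k), a morphism j : Y → Y~ making Y the base change of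
Y~ along the same map, and an endomorphism G~ of Y~ with j ∘ F_Y = G~ ∘ j. (The source speaks of an
étale cover Y → X of smooth varieties; its argument uses only that Y is étale over X and that X
lifts, so X is taken smooth over k and Y étale over X, with no integrality, separatedness or
quasi-compactness assumed.) -/
theorem result
    (p : ℕ) [Fact p.Prime] (k : Type u) [Field k] [IsAlgClosed k] [CharP k p]
    (X Y : Scheme.{u}) (f : X ⟶ Spec (CommRingCat.of k)) [Smooth f]
    (q : Y ⟶ X) [AlgebraicGeometry.Etale q]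
    [FrobSch.IsCharP X p] [FrobSch.IsCharP Y p]
    (Xl : Scheme.{u}) (g : Xl ⟶ Spec (CommRingCat.of (FrobAlg.W2 p k))) [Flat g]
    (i : X ⟶ Xl) (hsq : IsPullback i f g (Spec.map (CommRingCat.ofHom (FrobAlg.res p k))))
    (Fl : Xl ⟶ Xl) (hF : i ≫ Fl = FrobSch.frob X p ≫ i) :
    ∃ (Yl : Scheme.{u}) (gY : Yl ⟶ Spec (CommRingCat.of (FrobAlg.W2 p k))) (j : Y ⟶ Yl) (Gl : Yl ⟶ Yl),
      Flat gY ∧ IsPullback j (q ≫ f) gY (Spec.map (CommRingCat.ofHom (FrobAlg.res p k))) ∧
        j ≫ Gl = FrobSch.frob Y p ≫ j := by
  classical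
  have hres : Function.Surjective (FrobAlg.res p k) := fun a =>
    ⟨WittVector.truncate 2 (WittVector.teichmuller p a), by rw [FrobAlg.res_truncate]; simp⟩
  let ρ := Spec.map (CommRingCat.ofHom (FrobAlg.res p k))
  haveI : IsClosedImmersion ρ := IsClosedImmersion.spec_of_surjective _ hres
  haveI : Surjective ρ := ⟨fun z => by
    refine (range_comap_of_surjective _ _ hres).ge ?_
    intro x hx
    refine z.isPrime.mem_of_pow_mem 2 ?_
    rw [sq, H27Frob.ker_mul_ker p (CharP.cast_eq_zero k p) (RingHom.mem_ker.1 hx) (RingHom.mem_ker.1 hx)]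
    exact z.asIdeal.zero_mem⟩
  haveI : IsClosedImmersion i := MorphismProperty.of_isPullback (P := @IsClosedImmersion) hsq.flip ‹_›
  haveI : Surjective i := MorphismProperty.of_isPullback (P := @Surjective) hsq.flip ‹_›
  haveI := H18Et.TopInv.bc_isEquivalence_of_thickening i
  let B := EtCoh.bc i
  let Y₀ : X.Etale := MorphismProperty.Over.mk ⊤ q ‹_›
  let W := B.objPreimage Y₀
  let e := B.objObjPreimageIso Y₀
  let ql : W.left ⟶ Xl := W.hom
  haveI : AlgebraicGeometry.Etale ql := W.prop
  let j : Y ⟶ W.left := e.inv.left ≫ pullback.fst ql i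
  have hej : IsIso e.inv.left := H18Et.TopInv.isIso_left e.symm
  have hj : IsPullback j q ql i := by
    refine IsPullback.of_iso (IsPullback.of_hasPullback ql i) (asIso e.inv.left).symm (Iso.refl _) (Iso.refl _)
      (Iso.refl _) ?_ ?_ (by simp) (by simp)
    · simp [j]
    · rw [Iso.symm_hom, asIso_inv, Iso.refl_hom, Category.comp_id, IsIso.eq_inv_comp]
      exact MorphismProperty.Over.w e.inv
  haveI : Flat (ql ≫ g) := inferInstance
  refine ⟨W.left, ql ≫ g, j, ?_⟩
  let Z : Xl.Etale := MorphismProperty.Over.mk ⊤ (pullback.snd ql Fl) inferInstance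
  have hc : (FrobSch.frob Y p ≫ j) ≫ ql = (q ≫ i) ≫ Fl := by
    rw [Category.assoc, hj.w, Category.assoc, hF, FrobSch.frob_comp_assoc]
  let m₀ : Y ⟶ Z.left := pullback.lift (FrobSch.frob Y p ≫ j) (q ≫ i) hc
  let m : Y₀ ⟶ B.obj Z := MorphismProperty.Over.homMk
    (pullback.lift m₀ q (pullback.lift_snd _ _ _) : Y ⟶ pullback Z.hom i) (pullback.lift_snd _ _ _) trivial
  let t : W ⟶ Z := B.preimage (e.hom ≫ m)
  refine ⟨t.left ≫ pullback.fst ql Fl, inferInstance, hj.paste_vert hsq, ?_⟩
  have ht : B.map t = e.hom ≫ m := B.map_preimage _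
  have h1 : (B.map t).left ≫ pullback.fst Z.hom i = pullback.fst ql i ≫ t.left := pullback.lift_fst _ _ _
  have h2 : j ≫ t.left = m₀ := by
    rw [Category.assoc, ← h1, ht]
    have h3 : e.inv.left ≫ (e.hom ≫ m).left = m.left := by
      rw [← MorphismProperty.Comma.comp_left, Iso.inv_hom_id_assoc]
    rw [reassoc_of% h3]
    exact pullback.lift_fst _ _ _
  rw [reassoc_of% h2]
  exact pullback.lift_fst _ _ _

end Groth.Agent.S18158
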