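import Groth.Statements.S18165
import Groth.Agent.H26EqSec.Alg

set_option autoImplicit false
universe u
open AlgebraicGeometry CategoryTheory
open BSB

namespace Groth.Agent.S18165

theorem isAffineOpen_inf_of_le {X : Scheme.{u}} {U V W : X.Opens} (hU : IsAffineOpen U) (hV : IsAffineOpen V)
    (hW : IsAffineOpen W) (h1 : U ≤ W) (h2 : V ≤ W) : IsAffineOpen (U ⊓ V) := by
  haveI : IsAffine (W : Scheme.{u}) := hW
  have hU' := hU.preimage_of_isOpenImmersion W.ι (by rwa [Scheme.Opens.opensRange_ι])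
  have hV' := hV.preimage_of_isOpenImmersion W.ι (by rwa [Scheme.Opens.opensRange_ι])
  have h := (hU'.inf hV').image_of_isOpenImmersion W.ι
  convert h using 1
  rw [← Scheme.Hom.preimage_inf, W.ι.image_preimage_eq_opensRange_inf, Scheme.Opens.opensRange_ι,
    inf_eq_right.2 (inf_le_left.trans h1)]

theorem exists_affine_stable {X : Scheme.{u}} {G : Type u} [Group G] [Finite G] (σ : G → (X ⟶ X))
    (hσ1 : σ 1 = 𝟙 X) (hσmul : ∀ g h : G, σ (g * h) = σ g ≫ σ h) (z : X) (hz : ∀ g, (σ g).base z = z) :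
    ∃ U : X.Opens, IsAffineOpen U ∧ z ∈ U ∧ ∀ g, U ≤ σ g ⁻¹ᵁ U := by
  classical
  haveI := Fintype.ofFinite G
  have hiso : ∀ g, IsIso (σ g) := fun g => ⟨⟨σ g⁻¹, by rw [← hσmul, mul_inv_cancel, hσ1],
    by rw [← hσmul, inv_mul_cancel, hσ1]⟩⟩
  obtain ⟨V, hV, hzV, -⟩ := exists_isAffineOpen_mem_and_subset (x := z) (U := (⊤ : X.Opens)) trivial
  let V' : X.Opens := Finset.univ.inf fun g => σ g ⁻¹ᵁ V
  have hV'le : ∀ g, V' ≤ σ g ⁻¹ᵁ V := fun g => Finset.inf_le (Finset.mem_univ g)
  have hzV' : z ∈ V' := by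
    rw [← SetLike.mem_coe, TopologicalSpace.Opens.coe_finset_inf, Finset.inf_eq_iInf]
    simp only [Set.iInf_eq_iInter, Set.mem_iInter]
    intro g _
    show (σ g).base z ∈ V
    rw [hz]; exact hzV
  obtain ⟨W, hW, hzW, hWV⟩ := exists_isAffineOpen_mem_and_subset (x := z) (U := V') hzV'
  have hWaff : ∀ g, IsAffineOpen (σ g ⁻¹ᵁ W) := fun g => by haveI := hiso g; exact hW.preimage_of_isIso (σ g)
  have hWle : ∀ g, σ g ⁻¹ᵁ W ≤ V := fun g => by
    intro y hy
    have h1 := hV'le g⁻¹ (hWV hy)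
    show y ∈ V
    have h2 : (σ g⁻¹).base ((σ g).base y) = y := by
      rw [← Scheme.Hom.comp_apply, ← hσmul, mul_inv_cancel, hσ1]
      rfl
    exact h2 ▸ h1
  have haux : ∀ (s : Finset G), s.Nonempty →
      IsAffineOpen (s.inf fun g => σ g ⁻¹ᵁ W) ∧ (s.inf fun g => σ g ⁻¹ᵁ W) ≤ V := by
    intro s hs
    induction hs using Finset.Nonempty.cons_induction with
    | singleton a => rw [Finset.inf_singleton]; exact ⟨hWaff a, hWle a⟩
    | cons a s ha hs ih =>
      rw [Finset.inf_cons]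
      exact ⟨isAffineOpen_inf_of_le (hWaff a) ih.1 hV (hWle a) ih.2, inf_le_left.trans (hWle a)⟩
  refine ⟨Finset.univ.inf fun g => σ g ⁻¹ᵁ W, (haux _ Finset.univ_nonempty).1, ?_, fun g => ?_⟩
  · rw [← SetLike.mem_coe, TopologicalSpace.Opens.coe_finset_inf, Finset.inf_eq_iInf]
    simp only [Set.iInf_eq_iInter, Set.mem_iInter]
    intro g _
    show (σ g).base z ∈ W
    rw [hz]; exact hzW
  · intro y hy
    show (σ g).base y ∈ Finset.univ.inf fun g => σ g ⁻¹ᵁ W
    rw [← SetLike.mem_coe, TopologicalSpace.Opens.coe_finset_inf, Finset.inf_eq_iInf]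
    simp only [Set.iInf_eq_iInter, Set.mem_iInter]
    intro h _
    show (σ h).base ((σ g).base y) ∈ W
    rw [← Scheme.Hom.comp_apply, ← hσmul]
    exact Finset.inf_le (f := fun g => σ g ⁻¹ᵁ W) (Finset.mem_univ (g * h)) hy

/-- Let A be a Henselian local ring with residue field κ and f : X ⟶ Spec A a smooth morphism. Let a
finite group G, of order invertible in κ, act on A by ring automorphisms inducing the identity on κ,
and on X by morphisms σ_g with σ_1 = 𝟙 and σ_{gh} = σ_g ≫ σ_h, compatibly with f (σ_g ≫ f = f ≫ Spec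
of the action of g on A). If x is a κ-point of X over the closed point that is fixed by every σ_g,
then f has a section a : Spec A ⟶ X through x which is equivariant: Spec of the action of g,
followed by a, equals a followed by σ_g. -/
theorem result (A : Type u) [CommRing A] [HenselianLocalRing A]
    (X : Scheme.{u}) (f : X ⟶ Spec (CommRingCat.of A)) [Smooth f]
    (G : Type u) [Group G] [Finite G] [MulSemiringAction G A]
    (hG : IsUnit ((Nat.card G : ℕ) : IsLocalRing.ResidueField A))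
    (htriv : ∀ (g : G) (a : A), g • a - a ∈ IsLocalRing.maximalIdeal A)
    (σ : G → (X ⟶ X)) (hσ1 : σ 1 = 𝟙 X) (hσmul : ∀ g h : G, σ (g * h) = σ g ≫ σ h)
    (hσf : ∀ g : G, σ g ≫ f = f ≫ Spec.map (CommRingCat.ofHom (MulSemiringAction.toRingHom G A g)))
    (x : Spec (CommRingCat.of (IsLocalRing.ResidueField A)) ⟶ X)
    (hx : x ≫ f = Spec.map (CommRingCat.ofHom (IsLocalRing.residue A)))
    (hfix : ∀ g : G, x ≫ σ g = x) :
    ∃ a : Spec (CommRingCat.of A) ⟶ X, a ≫ f = 𝟙 _ ∧
      Spec.map (CommRingCat.ofHom (IsLocalRing.residue A)) ≫ a = x ∧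
      ∀ g : G, Spec.map (CommRingCat.ofHom (MulSemiringAction.toRingHom G A g)) ≫ a = a ≫ σ g := by
  obtain ⟨U, hU, hxU, hst⟩ := exists_affine_stable σ hσ1 hσmul (x.base (IsLocalRing.closedPoint _)) fun g => by
    rw [← Scheme.Hom.comp_apply, hfix g]
  have hrange : Set.range x.base ⊆ Set.range hU.fromSpec.base := by
    rintro _ ⟨y, rfl⟩
    rw [hU.range_fromSpec, Subsingleton.elim y (IsLocalRing.closedPoint _)]
    exact hxU
  let χ := Spec.preimage (IsOpenImmersion.lift hU.fromSpec x hrange)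
  have hχx : Spec.map χ ≫ hU.fromSpec = x := by
    rw [Spec.map_preimage, IsOpenImmersion.lift_fac]
  let φ : CommRingCat.of A ⟶ Γ(X, U) := Spec.preimage (hU.fromSpec ≫ f)
  have hφ : Spec.map φ = hU.fromSpec ≫ f := Spec.map_preimage _
  have hsm : φ.hom.Smooth := (HasRingHomProperty.Spec_iff (P := @Smooth)).1 (by rw [hφ]; infer_instance)
  have hrg : ∀ g, Set.range (hU.fromSpec ≫ σ g).base ⊆ Set.range hU.fromSpec.base := fun g => by
    rintro _ ⟨y, rfl⟩
    rw [hU.range_fromSpec, Scheme.Hom.comp_apply]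
    have : hU.fromSpec.base y ∈ U := by
      rw [← SetLike.mem_coe, ← hU.range_fromSpec]; exact ⟨y, rfl⟩
    exact hst g this
  let τ : G → (Γ(X, U) ⟶ Γ(X, U)) := fun g =>
    Spec.preimage (IsOpenImmersion.lift hU.fromSpec (hU.fromSpec ≫ σ g) (hrg g))
  have hτ : ∀ g, Spec.map (τ g) ≫ hU.fromSpec = hU.fromSpec ≫ σ g := fun g => by
    rw [Spec.map_preimage, IsOpenImmersion.lift_fac]
  have hinj : ∀ {R : CommRingCat.{u}} (a b : Γ(X, U) ⟶ R), Spec.map a ≫ hU.fromSpec = Spec.map b ≫ hU.fromSpec →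
      a = b := fun a b h => Spec.map_injective ((cancel_mono hU.fromSpec).1 h)
  have hτ1 : τ 1 = 𝟙 _ := hinj _ _ (by rw [hτ, hσ1, Category.comp_id, Spec.map_id, Category.id_comp])
  have hτmul : ∀ g h, τ (g * h) = τ h ≫ τ g := fun g h => hinj _ _ (by
    rw [hτ, hσmul, Spec.map_comp, Category.assoc, hτ, ← Category.assoc (Spec.map (τ g)), hτ, Category.assoc])
  have hτφ : ∀ g, φ ≫ τ g = CommRingCat.ofHom (MulSemiringAction.toRingHom G A g) ≫ φ := fun g => by
    apply Spec.map_injective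
    rw [Spec.map_comp, Spec.map_comp, hφ, ← Category.assoc, hτ, Category.assoc, hσf, Category.assoc]
  have hχφ : φ ≫ χ = CommRingCat.ofHom (IsLocalRing.residue A) := Spec.map_injective (by
    rw [Spec.map_comp, hφ, ← Category.assoc, hχx, hx])
  have hτχ : ∀ g, τ g ≫ χ = χ := fun g => hinj _ _ (by
    rw [Spec.map_comp, Category.assoc, hτ, ← Category.assoc, hχx, hfix])
  letI : Algebra A Γ(X, U) := φ.hom.toAlgebra
  haveI : Algebra.Smooth A Γ(X, U) := hsm
  letI : MulSemiringAction G Γ(X, U) :=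
    { smul := fun g z => τ g z
      one_smul := fun z => show τ 1 z = z by rw [hτ1]; rfl
      mul_smul := fun g h z => show τ (g * h) z = τ g (τ h z) by rw [hτmul]; rfl
      smul_zero := fun g => map_zero (τ g).hom
      smul_add := fun g => map_add (τ g).hom
      smul_one := fun g => map_one (τ g).hom
      smul_mul := fun g => map_mul (τ g).hom }
  obtain ⟨s, hs, hseq⟩ := H26EqSec.exists_equivariant_algHom (A := A) (B := Γ(X, U)) (G := G)
    (fun g a => congrArg (fun ψ : CommRingCat.of A ⟶ Γ(X, U) => ψ a) (hτφ g)) hG htriv χ.hom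
    (congrArg CommRingCat.Hom.hom hχφ) (fun g z => congrArg (fun ψ : Γ(X, U) ⟶ _ => ψ z) (hτχ g))
  refine ⟨Spec.map (CommRingCat.ofHom s.toRingHom) ≫ hU.fromSpec, ?_, ?_, fun g => ?_⟩
  · rw [Category.assoc, ← hφ, ← Spec.map_comp,
      show φ ≫ CommRingCat.ofHom s.toRingHom = 𝟙 _ from CommRingCat.hom_ext (RingHom.ext s.commutes)]
    exact Spec.map_id _
  · rw [← Category.assoc, ← Spec.map_comp, ← hχx]
    congr 2
    exact CommRingCat.hom_ext (RingHom.ext hs)
  · rw [Category.assoc, ← hτ, ← Category.assoc, ← Category.assoc, ← Spec.map_comp, ← Spec.map_comp]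
    congr 2
    exact CommRingCat.hom_ext (RingHom.ext fun z => (hseq g z).symm)

end Groth.Agent.S18165
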