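import Groth.Statements.S18175
import Groth.Agent.H23LinSer.Members

set_option autoImplicit false
open FunFld

namespace Groth.Agent.S18175

/-- Let `k` be an algebraically closed field of characteristic zero and `K/k` a function field of one
variable (the function field of a smooth projective curve over `k`). A `g^r_d` is a divisor `D` of
degree `d` with a subspace `V ⊆ L(D)` of dimension `r + 1`; for a place `P` and `n ≥ 0`, `V(-nP) = V
∩ L(D - nP)` is the space of members vanishing to order at least `n` at `P`, so `dim V(-nP)` counts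
the vanishing orders `m_0 < ⋯ < m_r` of `V` at `P` that are at least `n`, and the weight of `V` at
`P` is `∑_{n=1}^{d} dim V(-nP) - r(r+1)/2`. Assume `K` has genus `0` and the `g^r_d` `(D, V)` has at
least a cusp at the place `Q` (`dim V(-2Q) ≥ r`), and let `P, P'` be places other than `Q`. Then up
to a constant factor there is at most one member of `V` vanishing only at `P` and `P'`: if `f, g ∈
V` are nonzero and the divisors `div f + D`, `div g + D` are both supported on `{P, P'}`, then `g =
c f` for some `c ∈ k`. (In the source `Q` is the point where the rational component `Y` meets a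
chain of curves ending in a curve of positive genus, a situation that forces the cusp condition
assumed here.) (The source states this for curves over the complex numbers.) -/
theorem result
    (k : Type*) [Field k] [IsAlgClosed k] [CharZero k]
    (K : Type*) [Field K] [Algebra k K] (hK : FunFld.IsFunctionField k K) (hg0 : FunFld.genus k K = 0)
    (d r : ℕ) (D : FunFld.Divisor k K) (hD : D.deg = d)
    (V : Submodule k K) (hV : V ≤ FunFld.L D) (hVr : Module.finrank k ↥V = r + 1)
    (Q : FunFld.Place k K) (hcusp : r ≤ Module.finrank k ↥(V ⊓ FunFld.L (D - Finsupp.single Q ((2 : ℤ)))))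
    (P P' : FunFld.Place k K) (hP : P ≠ Q) (hP' : P' ≠ Q)
    (f g : K) (hf : f ∈ V) (hg : g ∈ V) (hf0 : f ≠ 0) (hg0' : g ≠ 0)
    (hfs : ∀ R : FunFld.Place k K, R ≠ P → R ≠ P' → (FunFld.div k f + D) R = 0)
    (hgs : ∀ R : FunFld.Place k K, R ≠ P → R ≠ P' → (FunFld.div k g + D) R = 0) :
    ∃ c : k, g = c • f := by
  by_contra hcon
  have hne : g * f⁻¹ ≠ 0 := mul_ne_zero hg0' (inv_ne_zero hf0)
  have hord : ∀ R : FunFld.Place k K, R.ord (g * f⁻¹) = R.ord g - R.ord f := fun R => by
    rw [Groth.Agent.H23FunFld.ord_mul R hg0' (inv_ne_zero hf0), Groth.Agent.H23FunFld.ord_inv]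
    ring
  have hfR : ∀ R : FunFld.Place k K, R ≠ P → R ≠ P' → R.ord f + D R = 0 := fun R h1 h2 => by
    rw [← Groth.Agent.H23FunFld.div_apply hK, ← Finsupp.add_apply]; exact hfs R h1 h2
  have hgR : ∀ R : FunFld.Place k K, R ≠ P → R ≠ P' → R.ord g + D R = 0 := fun R h1 h2 => by
    rw [← Groth.Agent.H23FunFld.div_apply hK, ← Finsupp.add_apply]; exact hgs R h1 h2
  have hh : ∀ R : FunFld.Place k K, R ≠ P → R ≠ P' → R.ord (g * f⁻¹) = 0 := fun R h1 h2 => by
    rw [hord]; linarith [hfR R h1 h2, hgR R h1 h2]
  have hnc : g * f⁻¹ ∉ Set.range (algebraMap k K) := fun ⟨c, hc⟩ =>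
    hcon ⟨c, by rw [Algebra.smul_def, hc, mul_assoc, inv_mul_cancel₀ hf0, mul_one]⟩
  obtain ⟨Z, hZ⟩ := Groth.Agent.H23FunFld.exists_zero hK hnc
  obtain ⟨B, hB⟩ := Groth.Agent.H23FunFld.exists_pole hK hnc
  have hZm : Z = P ∨ Z = P' := by by_contra! h; rw [hh Z h.1 h.2] at hZ; omega
  have hBm : B = P ∨ B = P' := by by_contra! h; rw [hh B h.1 h.2] at hB; omega
  have hZB : Z ≠ B := fun h => by rw [h] at hZ; omega
  have hsupp : ∀ R, R ≠ Z → R ≠ B → R.ord (g * f⁻¹) = 0 := fun R h1 h2 => by
    refine hh R ?_ ?_ <;> rcases hZm with rfl | rfl <;> rcases hBm with rfl | rfl <;>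
      first | assumption | exact absurd rfl hZB
  have hQP : Q ≠ P := Ne.symm hP
  have hQP' : Q ≠ P' := Ne.symm hP'
  have key := Groth.Agent.H23LinSer.ord_sub_const_le_one hK hg0 hne hZ hZB hsupp (Q := Q)
    (by rcases hZm with rfl | rfl <;> assumption) (by rcases hBm with rfl | rfl <;> assumption)
  -- the pencil spanned by `f, g` meets `L(D - 2Q)`
  have := Groth.Agent.H23LinSer.finiteDimensional_of_le_L hK hV
  let W := V ⊓ FunFld.L (D - Finsupp.single Q (2 : ℤ))
  have hli : LinearIndependent k ![f, g] := (LinearIndependent.pair_iff' hf0).2 fun c hc =>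
    hcon ⟨c, hc.symm⟩
  have hpair : Module.finrank k ↥(Submodule.span k (Set.range ![f, g])) = 2 := by
    rw [finrank_span_eq_card hli]; simp
  have hle : Submodule.span k (Set.range ![f, g]) ≤ V := Submodule.span_le.2 (by
    rintro _ ⟨i, rfl⟩; fin_cases i <;> simpa)
  have := Submodule.finiteDimensional_of_le hle
  have := Submodule.finiteDimensional_of_le (inf_le_left : W ≤ V)
  have h1 := Submodule.finrank_sup_add_finrank_inf_eq (Submodule.span k (Set.range ![f, g])) W
  have h2 : Module.finrank k ↥(Submodule.span k (Set.range ![f, g]) ⊔ W) ≤ r + 1 :=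
    hVr ▸ Submodule.finrank_mono (sup_le hle inf_le_left)
  have h3 : 0 < Module.finrank k ↥(Submodule.span k (Set.range ![f, g]) ⊓ W) := by
    have : r ≤ Module.finrank k ↥W := hcusp
    omega
  obtain ⟨⟨u, hu⟩, hu0⟩ := Module.finrank_pos_iff_exists_ne_zero.1 h3
  have hu' : u ≠ 0 := fun h => hu0 (Subtype.ext h)
  have hu1 := hu.1
  rw [Matrix.range_cons, Matrix.range_cons, Matrix.range_empty, Set.union_empty,
    Set.singleton_union] at hu1
  obtain ⟨a, b, hab⟩ := Submodule.mem_span_pair.1 hu1
  have hordu := (Groth.Agent.H23FunFld.val_le_exp_iff Q hu').1 (hu.2.2 Q)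
  rw [Finsupp.sub_apply, Finsupp.single_eq_same] at hordu
  have hfQ := hfR Q hQP hQP'
  rcases eq_or_ne b 0 with rfl | hb
  · rw [zero_smul, add_zero] at hab
    rw [← hab, Algebra.smul_def, Groth.Agent.H23FunFld.ord_mul Q (fun h => hu' (by
      rw [← hab, Algebra.smul_def, h, zero_mul])) hf0, Groth.Agent.H23FunFld.ord_const] at hordu
    omega
  have e : u = algebraMap k K b * f * (g * f⁻¹ - algebraMap k K (-a / b)) := by
    have hb' : algebraMap k K b ≠ 0 := by simpa using hb
    rw [← hab, Algebra.smul_def, Algebra.smul_def, map_div₀, map_neg]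
    field_simp
    ring
  have hu2 : g * f⁻¹ - algebraMap k K (-a / b) ≠ 0 := fun h => hu' (by rw [e, h, mul_zero])
  rw [e, Groth.Agent.H23FunFld.ord_mul Q (mul_ne_zero (by simpa using hb) hf0) hu2,
    Groth.Agent.H23FunFld.ord_mul Q (by simpa using hb) hf0,
    Groth.Agent.H23FunFld.ord_const] at hordu
  have := key (-a / b)
  omega

end Groth.Agent.S18175
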