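import Groth.Statements.S18177
import Groth.Agent.H23LinSer.Members

set_option autoImplicit false
open FunFld

namespace Groth.Agent.S18177

/-- Let `k` be an algebraically closed field of characteristic zero and `K/k` a function field of one
variable (the function field of a smooth projective curve over `k`). A `g^r_d` is a divisor `D` of
degree `d` with a subspace `V ⊆ L(D)` of dimension `r + 1`; for a place `P` and `n ≥ 0`, `V(-nP) = V
∩ L(D - nP)` is the space of members vanishing to order at least `n` at `P`, so `dim V(-nP)` counts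
the vanishing orders `m_0 < ⋯ < m_r` of `V` at `P` that are at least `n`, and the weight of `V` at
`P` is `∑_{n=1}^{d} dim V(-nP) - r(r+1)/2`. Let `(D, V)` be a `g^r_d` with `r ≥ 1` and `P ≠ Q`
places at which the weights are large: `w(V, P) + w(V, Q) ≥ (r+1)(d-r) - (r-1)`, that is `(r+1)d + 1
≤ ∑_{n=1}^{d} dim V(-nP) + ∑_{n=1}^{d} dim V(-nQ) + r`. Then `V` contains members with divisors `m_i
Q + (d - m_i) P` for two different indices `i`, and hence `m(Q - P)` is a principal divisor for some
`1 ≤ m ≤ d`. (In the source `K` is an elliptic tail of a degenerate curve, `P` its node and `Q` the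
limit of the moving ramification point, the weight hypothesis coming from `ρ ≤ 0`; it concludes that
only finitely many `Q` are possible. The torsion assertion holds in any genus and is what is stated
here.) (The source states this for curves over the complex numbers.) -/
theorem result
    (k : Type*) [Field k] [IsAlgClosed k] [CharZero k]
    (K : Type*) [Field K] [Algebra k K] (hK : FunFld.IsFunctionField k K)
    (d r : ℕ) (hr : 1 ≤ r) (D : FunFld.Divisor k K) (hD : D.deg = d)
    (V : Submodule k K) (hV : V ≤ FunFld.L D) (hVr : Module.finrank k ↥V = r + 1)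
    (P Q : FunFld.Place k K) (hPQ : P ≠ Q)
    (hw : (r + 1) * d + 1 ≤
      (∑ n ∈ Finset.range d, Module.finrank k ↥(V ⊓ FunFld.L (D - Finsupp.single P ((n : ℤ) + 1)))) +
        (∑ n ∈ Finset.range d, Module.finrank k ↥(V ⊓ FunFld.L (D - Finsupp.single Q ((n : ℤ) + 1)))) + r) :
    ∃ m : ℕ, 1 ≤ m ∧ m ≤ d ∧ ∃ h : K, h ≠ 0 ∧
      FunFld.div k h = Finsupp.single Q (m : ℤ) - Finsupp.single P (m : ℤ) := by
  classical
  let E : ℕ → FunFld.Divisor k K := fun n =>
    D - Finsupp.single P (n : ℤ) - Finsupp.single Q ((d : ℤ) - n)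
  have hE : ∀ n, (E n).deg = 0 := fun n => by
    rw [Groth.Agent.H23LinSer.deg_sub_single hK, Groth.Agent.H23LinSer.deg_sub_single hK, hD]; ring
  let g : ℕ → ℕ := fun n => Groth.Agent.H23LinSer.vd V D P (n : ℤ) +
    Groth.Agent.H23LinSer.vd V D Q (((d - n : ℕ) : ℤ))
  have hg : ∀ n ≤ d, g n ≤ r + 1 + Module.finrank k ↥(V ⊓ FunFld.L (E n)) := fun n hn => by
    have := Groth.Agent.H23LinSer.vd_add_vd_le hK hV hPQ (a := (n : ℤ))
      (b := ((d - n : ℕ) : ℤ)) (by omega) (by omega)
    rw [hVr, show ((d - n : ℕ) : ℤ) = (d : ℤ) - n by omega] at this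
    simp only [g, E]
    rw [show ((d - n : ℕ) : ℤ) = (d : ℤ) - n by omega]
    exact this
  let S := (Finset.range (d + 1)).filter fun n => 0 < Module.finrank k ↥(V ⊓ FunFld.L (E n))
  have hS : 1 < S.card := by
    have h1 : ∑ n ∈ Finset.range (d + 1), g n ≤ (r + 1) * (d + 1) + S.card := by
      rw [Finset.card_filter]
      refine (Finset.sum_le_sum (g := fun n => (r + 1) +
        if 0 < Module.finrank k ↥(V ⊓ FunFld.L (E n)) then 1 else 0) fun n hn => ?_).trans ?_
      · rw [Finset.mem_range] at hn
        have := hg n (by omega)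
        have := Groth.Agent.H23LinSer.finrank_inf_le_one hK (V := V) (hE n)
        split <;> omega
      · rw [Finset.sum_add_distrib, Finset.sum_const, Finset.card_range, smul_eq_mul, mul_comm]
    have h2 : ∑ n ∈ Finset.range (d + 1), g n = 2 * (r + 1) +
        Groth.Agent.H23LinSer.wt V D P d + Groth.Agent.H23LinSer.wt V D Q d := by
      rw [Finset.sum_add_distrib]
      rw [show (∑ n ∈ Finset.range (d + 1), Groth.Agent.H23LinSer.vd V D Q ((d - n : ℕ) : ℤ)) =
        ∑ n ∈ Finset.range (d + 1), Groth.Agent.H23LinSer.vd V D Q (n : ℤ) from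
        Finset.sum_range_reflect (fun n : ℕ => Groth.Agent.H23LinSer.vd V D Q (n : ℤ)) (d + 1)]
      rw [Finset.sum_range_succ', Finset.sum_range_succ', Nat.cast_zero,
        Groth.Agent.H23LinSer.vd_zero hK hV, Groth.Agent.H23LinSer.vd_zero hK hV, hVr]
      unfold Groth.Agent.H23LinSer.wt
      push_cast
      omega
    unfold Groth.Agent.H23LinSer.wt Groth.Agent.H23LinSer.vd at h2
    rw [mul_add, mul_one] at h1
    omega
  obtain ⟨a, ha, b, hb, hab⟩ := Finset.one_lt_card.1 hS
  wlog hlt : a < b generalizing a b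
  · exact this b hb a ha (Ne.symm hab) (by omega)
  simp only [S, Finset.mem_filter, Finset.mem_range] at ha hb
  obtain ⟨f, -, hf0, hf⟩ := Groth.Agent.H23LinSer.exists_exact hK (hE a) ha.2
  obtain ⟨f', -, hf0', hf'⟩ := Groth.Agent.H23LinSer.exists_exact hK (hE b) hb.2
  refine ⟨b - a, by omega, by omega, f * f'⁻¹, mul_ne_zero hf0 (inv_ne_zero hf0'), ?_⟩
  rw [Groth.Agent.H23FunFld.div_mul hK hf0 (inv_ne_zero hf0'), Groth.Agent.H23FunFld.div_inv hK,
    eq_neg_of_add_eq_zero_left hf, eq_neg_of_add_eq_zero_left hf']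
  simp only [E, Finsupp.single_sub, show ((b - a : ℕ) : ℤ) = (b : ℤ) - a by omega]
  abel

end Groth.Agent.S18177
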