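import Groth.Statements.S18182
import Mathlib
import Groth.Agent.H23Proj.Classical

set_option autoImplicit false
open FunFld

namespace Groth.Agent.S18182

/-- Let `k` be an algebraically closed field of characteristic zero and `K/k` a function field of one
variable (the function field of a smooth projective curve over `k`). A `g^r_d` is a divisor `D` of
degree `d` with a subspace `V ⊆ L(D)` of dimension `r + 1`; for a place `P` and `n ≥ 0`, `V(-nP) = V
∩ L(D - nP)` is the space of members vanishing to order at least `n` at `P`, so `dim V(-nP)` counts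
the vanishing orders `m_0 < ⋯ < m_r` of `V` at `P` that are at least `n`, and the weight of `V` at
`P` is `∑_{n=1}^{d} dim V(-nP) - r(r+1)/2`. Assume `K` has genus one, fix a place `P` and natural
numbers `d` and `r ≥ 1`. Then only finitely many places `Q ≠ P` admit a `g^r_d` `(D, V)` whose
weights at `P` and `Q` are large in the sense `w(V, P) + w(V, Q) ≥ (r+1)(d-r) - (r-1)`, that is
`(r+1)d + 1 ≤ ∑_{n=1}^{d} dim V(-nP) + ∑_{n=1}^{d} dim V(-nQ) + r`. (In the source `K` is an
elliptic tail of a flag curve degenerating a general curve of genus `g`, `P` its node, `Q` the limit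
of a moving ramification point, and the weight hypothesis is what `ρ ≤ 0` gives; the finiteness of
torsion points of bounded order on an elliptic curve is used.) (The source states this for curves
over the complex numbers.) -/
theorem result
    (k : Type*) [Field k] [IsAlgClosed k] [CharZero k]
    (K : Type*) [Field K] [Algebra k K] (hK : FunFld.IsFunctionField k K) (hg1 : FunFld.genus k K = 1)
    (P : FunFld.Place k K) (d r : ℕ) (hr : 1 ≤ r) :
    Set.Finite {Q : FunFld.Place k K | Q ≠ P ∧ ∃ (D : FunFld.Divisor k K) (V : Submodule k K),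
      D.deg = d ∧ V ≤ FunFld.L D ∧ Module.finrank k ↥V = r + 1 ∧
      (r + 1) * d + 1 ≤
        (∑ n ∈ Finset.range d, Module.finrank k ↥(V ⊓ FunFld.L (D - Finsupp.single P ((n : ℤ) + 1)))) +
          (∑ n ∈ Finset.range d, Module.finrank k ↥(V ⊓ FunFld.L (D - Finsupp.single Q ((n : ℤ) + 1)))) + r} := by
  classical
  open Groth.Agent.H23FunFld Groth.Agent.H23Proj in
  have hd1 := fun R : FunFld.Place k K => deg_eq_one_of_isAlgClosed hK R
  -- finitely many torsion points of each order
  have hfinN : ∀ N : ℕ, 1 ≤ N → {Q : FunFld.Place k K | Q ≠ P ∧ ∃ f : K, f ≠ 0 ∧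
      f ∈ FunFld.L (Finsupp.single P (N : ℤ)) ∧ Q.ord f = N}.Finite := by
    intro N hN
    obtain ⟨n, rfl⟩ : ∃ n, N = n + 1 := ⟨N - 1, by omega⟩
    set E : FunFld.Divisor k K := Finsupp.single P ((n + 1 : ℕ) : ℤ)
    have hdegE : E.deg = (n : ℤ) + 1 := by simp only [E, deg_single, hd1]; push_cast; ring
    have hell : FunFld.ell E = n + 1 := by
      have h := ell_of_deg_large hK (D := E) (by rw [hdegE, hg1]; push_cast; omega)
      rw [hdegE, hg1] at h
      push_cast at h
      omega
    haveI := finiteDimensional_L hK E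
    let b := Module.finBasisOfFinrankEq k (FunFld.L E) (n := n + 1) hell
    let φ : Fin (n + 1) → K := fun i => (b i : K)
    have hφ : LinearIndependent k φ := b.linearIndependent.map' (FunFld.L E).subtype (Submodule.ker_subtype _)
    have hspan : Submodule.span k (Set.range φ) = FunFld.L E := by
      rw [show Set.range φ = (FunFld.L E).subtype '' Set.range b by rw [← Set.range_comp]; rfl,
        Submodule.span_image, b.span_eq, Submodule.map_subtype_top]
    obtain ⟨s, -, hs⟩ := exists_val_eq P (-1)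
    obtain ⟨H, hH⟩ := Groth.Agent.H23Diff.exists_hasseFamily hK (Groth.Agent.H23Geom.isGeometric_of_perfectField hK)
      (Groth.Agent.H23Diff.D_ne_zero_param' hK hs)
    obtain ⟨J, hJ, -⟩ := Groth.Agent.S12600.result k K hK φ hφ (AlgHom.id k K) s H hH
    choose Φ hΦ using fun R : FunFld.Place k K => Groth.Agent.H23Diff.exists_expansion hK R
    refine (FunFld.wDiv (AlgHom.id k K) H Φ s φ J).finite_support.subset ?_
    rintro Q ⟨hQP, f, hf0, hfL, hfo⟩
    change FunFld.wDiv (AlgHom.id k K) H Φ s φ J Q ≠ 0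
    have hchar : ringChar k = 0 ∨ (FunFld.mapDiv k φ).deg < ringChar k := Or.inl ringChar.eq_zero
    have hJle : ∀ l : Fin n, J l ≤ (l : ℕ) + 1 := fun l =>
      orders_le_classical hK hφ hchar hH hJ le_rfl (P := Q) (fun z hz => hz) (Or.inl one_pos) l
    have hlow : ∀ l : Fin n, (l : ℕ) + 1 ≤ J l := by
      rintro ⟨l, hl⟩
      induction l with
      | zero => exact orders_id_pos hK hH hJ _
      | succ l ih =>
        have h1 := hJ.1 (show (⟨l, by omega⟩ : Fin n) < ⟨l + 1, hl⟩ from Nat.lt_succ_self l)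
        have h2 := ih (by omega)
        simp only at h2 ⊢
        omega
    have hJeq : J = fun l : Fin n => (l : ℕ) + 1 := funext fun l => le_antisymm (hJle l) (hlow l)
    obtain ⟨t, y, Ht, ψ, ht, hy, rfl, hHt, hψ, heff, hnorm, hJψ, hW⟩ :=
      exists_local_form hK hφ (AlgHom.id k K) hH hJ hΦ Q
    obtain ⟨J', hJ'⟩ := exists_ordersAt hK ht hHt hnorm hψ heff
    have hpos := ordersAt_pos hK ht hHt hnorm hJ'
    have hsmul : ∀ u ∈ FunFld.L E, y * u ∈ Submodule.span k (Set.range (y • φ)) := by
      intro u hu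
      rw [show Set.range (y • φ) = LinearMap.mulLeft k y '' Set.range φ by rw [← Set.range_comp]; rfl,
        Submodule.span_image, hspan]
      exact ⟨u, hu, rfl⟩
    have h1E : (1 : K) ∈ FunFld.L E := fun R => by
      rw [map_one, ← WithZero.exp_zero, WithZero.exp_le_exp]
      simp only [E, Finsupp.single_apply]
      split <;> omega
    have hy1 : Q.1 y = 1 := by
      obtain ⟨a, ha⟩ := (Submodule.mem_span_range_iff_exists_fun k).1 (hsmul 1 h1E)
      have hle : Q.1 y ≤ 1 := by
        have := val_comb_le hK ht hHt hnorm a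
        rwa [ha, mul_one] at this
      obtain ⟨c, hc⟩ := (Submodule.mem_span_range_iff_exists_fun k).1 heff
      have hinv : y⁻¹ ∈ FunFld.L E := by
        have e : ∑ i, c i • φ i = y⁻¹ := by
          refine eq_inv_of_mul_eq_one_right ?_
          rw [← hc, Finset.mul_sum]
          exact Finset.sum_congr rfl fun i _ => mul_smul_comm _ _ _
        rw [← e, ← hspan]
        exact (Submodule.mem_span_range_iff_exists_fun k).2 ⟨c, rfl⟩
      have h2 := hinv Q
      simp only [E, Finsupp.single_eq_of_ne hQP, WithZero.exp_zero, map_inv₀] at h2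
      exact le_antisymm hle (by
        have hpos : 0 < Q.1 y := zero_lt_iff.2 (by simpa using hy)
        rwa [inv_le_one₀ hpos] at h2)
    have hfv : Q.1 (y * f) = WithZero.exp (-((n + 1 : ℕ) : ℤ)) := by
      rw [map_mul, hy1, one_mul, val_eq_exp Q hf0, hfo]
    obtain ⟨l₀, hl₀⟩ : n + 1 ∈ Set.range J' :=
      ((mem_ordersAt_iff hK ht hHt hnorm hJ' heff (n + 1)).2 ⟨_, hsmul f hfL, hfv⟩).resolve_left (by omega)
    have hbound : ∀ r, ringChar k = 0 ∨ J' r < ringChar k := fun r => Or.inl ringChar.eq_zero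
    rw [← hW, wDiv_apply hK hψ _ ht heff hnorm Ht J hΦ,
      show FunFld.mapDiv k ((AlgHom.id k K : K → K) ∘ (y • φ)) Q = 0 from
        mapDiv_apply_eq_zero hK hψ.ne_zero heff hnorm, add_zero, hJeq]
    obtain ⟨-, heq⟩ := val_det hK ht hHt (AlgHom.id k K) (fun z hz => hz) hψ heff hnorm hJ'
      (fun l : Fin n => (l : ℕ) + 1)
    have hv := (heq (Or.inl fun l => by omega)).2 (det_binomMat_ne_zero le_rfl hJ'.1 hpos hbound)
    rw [FunFld.Place.ord, hv, WithZero.log_exp, neg_neg]
    refine ne_of_gt ?_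
    have hlow' : ∀ l : Fin n, (l : ℕ) + 1 ≤ J' l := by
      rintro ⟨l, hl⟩
      induction l with
      | zero => exact hpos _
      | succ l ih =>
        have h1 := hJ'.1 (show (⟨l, by omega⟩ : Fin n) < ⟨l + 1, hl⟩ from Nat.lt_succ_self l)
        have h2 := ih (by omega)
        simp only at h2 ⊢
        omega
    refine Finset.sum_pos' (fun l _ => by have := hlow' l; push_cast; omega) ⟨l₀, Finset.mem_univ _, ?_⟩
    rw [hl₀]
    have := l₀.2
    push_cast
    omega
  refine ((Finset.Icc 1 d).finite_toSet.biUnion fun N hN => hfinN N (Finset.mem_Icc.1 hN).1).subset ?_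
  rintro Q ⟨hQP, D, V, hD, hV, hdimV, hineq⟩
  haveI := finiteDimensional_L hK D
  haveI : FiniteDimensional k V := Submodule.finiteDimensional_of_le hV
  let dP : ℕ → ℕ := fun n => Module.finrank k ↥(V ⊓ FunFld.L (D - Finsupp.single P (n : ℤ)))
  let dQ : ℕ → ℕ := fun n => Module.finrank k ↥(V ⊓ FunFld.L (D - Finsupp.single Q (n : ℤ)))
  have hsupinf : ∀ n m : ℕ, dP n + dQ m ≤ r + 1 +
      Module.finrank k ↥((V ⊓ FunFld.L (D - Finsupp.single P (n : ℤ))) ⊓ (V ⊓ FunFld.L (D - Finsupp.single Q (m : ℤ)))) := by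
    intro n m
    rw [← hdimV]
    have h := Submodule.finrank_sup_add_finrank_inf_eq (V ⊓ FunFld.L (D - Finsupp.single P (n : ℤ)))
      (V ⊓ FunFld.L (D - Finsupp.single Q (m : ℤ)))
    have h2 := Submodule.finrank_mono (sup_le (inf_le_left (b := FunFld.L (D - Finsupp.single P (n : ℤ))))
      (inf_le_left (b := FunFld.L (D - Finsupp.single Q (m : ℤ)))) : _ ≤ V)
    simp only [dP, dQ]
    omega
  have hinf : ∀ n m : ℕ, (V ⊓ FunFld.L (D - Finsupp.single P (n : ℤ))) ⊓ (V ⊓ FunFld.L (D - Finsupp.single Q (m : ℤ))) ≤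
      FunFld.L (D - Finsupp.single P (n : ℤ) - Finsupp.single Q (m : ℤ)) := by
    intro n m u hu R
    rcases eq_or_ne R Q with rfl | hR
    · have := hu.2.2 R
      simpa [Finsupp.single_eq_of_ne hQP] using this
    · have := hu.1.2 R
      simpa [Finsupp.single_eq_of_ne hR] using this
  have hdeg2 : ∀ n m : ℕ, (D - Finsupp.single P (n : ℤ) - Finsupp.single Q (m : ℤ)).deg = (d : ℤ) - n - m := by
    intro n m
    rw [deg_sub, deg_sub, deg_single, deg_single, hd1, hd1, hD]
    push_cast
    ring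
  have hle : ∀ n m : ℕ, d < n + m → dP n + dQ m ≤ r + 1 := by
    intro n m hnm
    have h := hsupinf n m
    have h0 := (Submodule.eq_bot_iff _).2 fun u hu => (Submodule.mem_bot k).1
      ((L_eq_bot_of_deg_neg hK (D := D - Finsupp.single P (n : ℤ) - Finsupp.single Q (m : ℤ)) (by rw [hdeg2]; omega)) ▸ hinf n m hu)
    rw [h0, finrank_bot] at h
    omega
  have hdP0 : dP 0 = r + 1 := by
    have e : V ⊓ FunFld.L (D - Finsupp.single P ((0 : ℕ) : ℤ)) = V := by simpa using hV
    exact (congrArg (fun W : Submodule k K => Module.finrank k W) e).trans hdimV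
  have hdQ0 : dQ 0 = r + 1 := by
    have e : V ⊓ FunFld.L (D - Finsupp.single Q ((0 : ℕ) : ℤ)) = V := by simpa using hV
    exact (congrArg (fun W : Submodule k K => Module.finrank k W) e).trans hdimV
  have hdPtop : dP (d + 1) = 0 := by
    have := hle (d + 1) 0 (by omega)
    omega
  have hmono : ∀ n, dP (n + 1) ≤ dP n := fun n => by
    haveI : FiniteDimensional k ↥(V ⊓ FunFld.L (D - Finsupp.single P (n : ℤ))) :=
      Submodule.finiteDimensional_of_le inf_le_left
    exact Submodule.finrank_mono (inf_le_inf_left V (L_mono (sub_le_sub_left (Finsupp.single_mono (by omega)) D)))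
  -- two indices where the bound is exceeded
  let δ : ℕ → ℤ := fun n => (dP n : ℤ) + dQ (d - n) - (r + 1)
  have hone : ∀ n ≤ d, δ n ≤ 1 := by
    intro n hn
    have h := hsupinf n (d - n)
    haveI := finiteDimensional_L hK (D - Finsupp.single P (n : ℤ) - Finsupp.single Q ((d - n : ℕ) : ℤ))
    have h1 := Submodule.finrank_mono (hinf n (d - n))
    change _ ≤ FunFld.ell _ at h1
    rcases Nat.eq_zero_or_pos (FunFld.ell (D - Finsupp.single P (n : ℤ) - Finsupp.single Q ((d - n : ℕ) : ℤ))) with h0 | h0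
    · simp only [δ]; omega
    · obtain ⟨z, hz, hz'⟩ := exists_effective hK h0
      have h2 : FunFld.ell (D - Finsupp.single P (n : ℤ) - Finsupp.single Q ((d - n : ℕ) : ℤ)) ≤ 1 := by
        have h3 := ell_le_deg hK hz'
        rw [deg_add, deg_div hK, hdeg2] at h3
        have h4 := ell_eq_of_eq_add_div hK (D := D - Finsupp.single P (n : ℤ) - Finsupp.single Q ((d - n : ℕ) : ℤ)) hz
        omega
      simp only [δ]; omega
  have hsum : (2 : ℤ) ≤ ∑ n ∈ Finset.range (d + 1), δ n := by
    have e1 : ∑ n ∈ Finset.range (d + 1), (dP n : ℤ) = (r + 1) + ∑ n ∈ Finset.range d, (dP (n + 1) : ℤ) := by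
      rw [Finset.sum_range_succ', hdP0]; push_cast; ring
    have e2 : ∑ n ∈ Finset.range (d + 1), (dQ (d - n) : ℤ) = (r + 1) + ∑ n ∈ Finset.range d, (dQ (n + 1) : ℤ) := by
      rw [← Finset.sum_range_reflect (fun n => (dQ (d - n) : ℤ)) (d + 1), Finset.sum_range_succ']
      have : ∀ n ∈ Finset.range d, (dQ (d - (d + 1 - 1 - (n + 1))) : ℤ) = dQ (n + 1) := fun n hn => by
        rw [Finset.mem_range] at hn
        rw [show d - (d + 1 - 1 - (n + 1)) = n + 1 by omega]
      rw [Finset.sum_congr rfl this, show d - (d + 1 - 1 - 0) = 0 by omega, hdQ0]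
      push_cast; ring
    have h' : ((r + 1) * d + 1 : ℤ) ≤ ∑ n ∈ Finset.range d, (dP (n + 1) : ℤ) + ∑ n ∈ Finset.range d, (dQ (n + 1) : ℤ) + r := by
      exact_mod_cast hineq
    simp only [δ, Finset.sum_sub_distrib, Finset.sum_add_distrib, e1, e2, Finset.sum_const, Finset.card_range, nsmul_eq_mul]
    push_cast
    linarith
  obtain ⟨n₁, hn₁, n₂, hn₂, hne, hp₁, hp₂⟩ : ∃ n₁ ≤ d, ∃ n₂ ≤ d, n₁ ≠ n₂ ∧ 0 < δ n₁ ∧ 0 < δ n₂ := by
    by_contra hno
    push Not at hno
    obtain ⟨n₁, hn₁, hp₁⟩ : ∃ n ∈ Finset.range (d + 1), 0 < δ n := by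
      by_contra h0
      push Not at h0
      have := Finset.sum_nonpos h0
      omega
    rw [Finset.mem_range] at hn₁
    rw [← Finset.add_sum_erase _ _ (Finset.mem_range.2 hn₁)] at hsum
    have h1 := hone n₁ (by omega)
    have h2 : ∑ n ∈ (Finset.range (d + 1)).erase n₁, δ n ≤ 0 := Finset.sum_nonpos fun n hn => by
      obtain ⟨hn', hn''⟩ := Finset.mem_erase.1 hn
      rw [Finset.mem_range] at hn''
      exact hno n₁ (by omega) n (by omega) (Ne.symm hn') hp₁
    omega
  have hprin : ∀ n ≤ d, 0 < δ n → ∃ z : K, z ≠ 0 ∧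
      FunFld.div k z + (D - Finsupp.single P (n : ℤ) - Finsupp.single Q ((d - n : ℕ) : ℤ)) = 0 := by
    intro n hn hp
    haveI := finiteDimensional_L hK (D - Finsupp.single P (n : ℤ) - Finsupp.single Q ((d - n : ℕ) : ℤ))
    have h1 := Submodule.finrank_mono (hinf n (d - n))
    have h2 := hsupinf n (d - n)
    change _ ≤ FunFld.ell _ at h1
    simp only [δ] at hp
    obtain ⟨z, hz, hz'⟩ := exists_effective hK
      (D := D - Finsupp.single P (n : ℤ) - Finsupp.single Q ((d - n : ℕ) : ℤ)) (by omega)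
    refine ⟨z, hz, ?_⟩
    rw [add_comm]
    exact deg_nonneg_lt hK hz' (by rw [deg_add, deg_div hK, hdeg2]; omega)
  have key : ∀ a ≤ d, ∀ b ≤ d, b < a → 0 < δ a → 0 < δ b →
      Q ∈ ⋃ N ∈ (Finset.Icc 1 d : Set ℕ), {Q : FunFld.Place k K | Q ≠ P ∧ ∃ f : K, f ≠ 0 ∧
        f ∈ FunFld.L (Finsupp.single P (N : ℤ)) ∧ Q.ord f = N} := by
    intro a ha b hb hab hpa hpb
    obtain ⟨za, hza, ea⟩ := hprin a ha hpa
    obtain ⟨zb, hzb, eb⟩ := hprin b hb hpb
    refine Set.mem_iUnion₂.2 ⟨a - b, by simp; omega, hQP, zb / za, div_ne_zero hzb hza, ?_, ?_⟩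
    · intro R
      have h1 := congrArg (fun E : FunFld.Divisor k K => E R) ea
      have h2 := congrArg (fun E : FunFld.Divisor k K => E R) eb
      simp only [Finsupp.add_apply, Finsupp.sub_apply, Finsupp.zero_apply, div_apply hK] at h1 h2
      rw [map_div₀, val_eq_exp R hza, val_eq_exp R hzb, ← WithZero.exp_sub, WithZero.exp_le_exp]
      rcases eq_or_ne R P with rfl | hR
      · simp only [Finsupp.single_eq_same, Finsupp.single_eq_of_ne (Ne.symm hQP)] at h1 h2 ⊢
        omega
      · simp only [Finsupp.single_eq_of_ne hR] at h1 h2 ⊢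
        rcases eq_or_ne R Q with rfl | hR'
        · simp only [Finsupp.single_eq_same] at h1 h2; omega
        · simp only [Finsupp.single_eq_of_ne hR'] at h1 h2; omega
    · have h1 := congrArg (fun E : FunFld.Divisor k K => E Q) ea
      have h2 := congrArg (fun E : FunFld.Divisor k K => E Q) eb
      simp only [Finsupp.add_apply, Finsupp.sub_apply, Finsupp.zero_apply, div_apply hK,
        Finsupp.single_eq_of_ne hQP, Finsupp.single_eq_same] at h1 h2
      rw [div_eq_mul_inv, ord_mul Q hzb (inv_ne_zero hza), ord_inv]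
      omega
  rcases lt_or_gt_of_ne hne with h | h
  · exact key n₂ hn₂ n₁ hn₁ h hp₂ hp₁
  · exact key n₁ hn₁ n₂ hn₂ h hp₁ hp₂

end Groth.Agent.S18182
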