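import Groth.Statements.S18187
import Groth.Agent.H24Art.T1Tr

set_option autoImplicit false
set_option linter.style.haveILetI false
universe u v
open CategoryTheory
open T1Lift
open Groth.Agent.H24Art

namespace Groth.Agent.S18187

/-- In the set-valued case, let k be a field of characteristic zero and F a functor on local Artinian
k-algebras with residue field k such that F(k) is one point, F satisfies the Rim–Schlessinger
condition (for every fibre-product square A' ×_A A'' with A'' → A surjective the comparison map F(A'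
×_A A'') → F(A') ×_{F(A)} F(A'') is bijective), and F has an obstruction theory with values in a
k-vector space V which is moreover functorial for every commutative square of surjections whose
kernels are killed by the maximal ideal. Write A_m = k[t]/(t^(m+1)), B_m = A_m[y]/(y²), α : A_(m+1)
→ A_m and ξ : B_(m+1) → B_m for t ↦ t, β : B_m → A_m for y ↦ 0 and ε : A_(m+1) → B_m for t ↦ t + y.
Then an element X ∈ F(A_(n+1)) lifts to F(A_(n+2)) along α if and only if there is Y ∈ F(B_(n+1))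
with F(β) Y = X and F(ξ) Y = F(ε) X, i.e. if and only if the element of the first-order tangent set
T¹(F(α)X / A_n) defined by F(ε) X lies in the image of T¹(X / A_(n+1)). (Stated here for functors
with values in sets; the version for predeformation categories in groupoids satisfying the
Rim–Schlessinger condition specialises to it. The functoriality of the obstruction theory for
arbitrary commutative squares is an explicit hypothesis, pinned through linear maps between the
kernels that agree with the given ring map.) -/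
theorem result (k : Type u) [Field k] [CharZero k]
    (F : ArtFun.Art k k ⥤ Type v) (h0 : ArtFun.H0 F)
    (hRS : ∀ ⦃P A A' A'' : ArtFun.Art k k⦄ (p' : P ⟶ A') (p'' : P ⟶ A'') (f' : A' ⟶ A) (f'' : A'' ⟶ A)
      (h : ArtFun.Art.IsFibreProd p' p'' f' f''), Function.Surjective f'' → Function.Bijective (ArtFun.cmp F h))
    (V : Type u) [AddCommGroup V] [Module k V] (O : ArtFun.ObsTheory F V)
    (hnat : ∀ ⦃A' A C' C : ArtFun.Art k k⦄ (φ : A' ⟶ A) (hφ : ArtFun.Art.IsSemismallExt φ)
      (ψ : C' ⟶ C) (hψ : ArtFun.Art.IsSemismallExt ψ) (g' : A' ⟶ C') (g : A ⟶ C), φ ≫ g = g' ≫ ψ →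
      ∀ (ℓ : ↥(RingHom.ker φ.toAlgHom) →ₗ[k] ↥(RingHom.ker ψ.toAlgHom)),
        (∀ j : ↥(RingHom.ker φ.toAlgHom), ((ℓ j : ↥(RingHom.ker ψ.toAlgHom)) : C') = g' (j : A')) →
        ∀ u : F.obj A, O.obs ψ hψ (F.map g u) = LinearMap.lTensor V ℓ (O.obs φ hφ u))
    (n : ℕ) (X : F.obj (T1Lift.A k (n + 1))) :
    (∃ X' : F.obj (T1Lift.A k (n + 2)), F.map (T1Lift.α k (n + 1)) X' = X) ↔
      ∃ Y : F.obj (T1Lift.B k (n + 1)), F.map (T1Lift.β k (n + 1)) Y = X ∧
        F.map (T1Lift.ξ k n) Y = F.map (T1Lift.ε k n) X := by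
  constructor
  · rintro ⟨X', hX'⟩
    have h1 := T1Tr.ε_β k (n + 1)
    refine ⟨F.map (T1Lift.ε k (n + 1)) X', ?_, ?_⟩
    · rw [← map_comp_apply', h1, hX']
    · rw [← map_comp_apply', T1Tr.sq_ε k n, map_comp_apply', hX']
  · rintro ⟨Y, hY, hY'⟩
    have h1 : T1Lift.ε k (n + 1) ≫ T1Lift.β k (n + 1) = T1Lift.α k (n + 1) := T1Tr.ε_β k (n + 1)
    obtain ⟨C, p', p'', hC⟩ := exists_fibre_of_surjective (T1Lift.α k n) (T1Lift.β k n)
      (fun a => ⟨TrivSqZeroExt.inl a, rfl⟩)
    obtain ⟨ψ, hψ₁, hψ₂⟩ := IsFibreProd.exists_lift hC (T1Lift.β k (n + 1)) (T1Lift.ξ k n)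
      (ArtFun.Art.hom_ext (AlgHom.ext fun x => rfl))
    obtain ⟨g, hg₁, hg₂⟩ := IsFibreProd.exists_lift hC (𝟙 (T1Lift.A k (n + 1))) (T1Lift.ε k n)
      (by rw [Category.id_comp, T1Tr.ε_β k n])
    have hsq : T1Lift.α k (n + 1) ≫ g = T1Lift.ε k (n + 1) ≫ ψ := by
      refine IsFibreProd.hom_ext hC ?_ ?_
      · rw [Category.assoc, Category.assoc, hg₁, hψ₁, Category.comp_id, h1]
      · rw [Category.assoc, Category.assoc, hg₂, hψ₂, T1Tr.sq_ε k n]
    have hker : ∀ x : T1Lift.B k (n + 1), ψ x = 0 →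
        x.fst = 0 ∧ T1Lift.αAlg k n x.snd = 0 := fun x hx => by
      have e1 : T1Lift.β k (n + 1) x = 0 := by rw [← hψ₁, ArtFun.Art.comp_apply, hx, map_zero]
      have e2 : T1Lift.ξ k n x = 0 := by rw [← hψ₂, ArtFun.Art.comp_apply, hx, map_zero]
      exact ⟨e1, congrArg TrivSqZeroExt.snd e2⟩
    have hψs : ArtFun.Art.IsSemismallExt ψ := by
      refine ⟨fun c => ?_, ?_⟩
      · obtain ⟨s, hs⟩ := T1Tr.αAlg_surjective k n ((p'' c).snd)
        refine ⟨TrivSqZeroExt.inl (p' c) + TrivSqZeroExt.inr s, hC.inj _ _ ?_ ?_⟩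
        · rw [← ArtFun.Art.comp_apply, hψ₁]
          change (TrivSqZeroExt.inl (p' c) + TrivSqZeroExt.inr s).fst = p' c
          rw [TrivSqZeroExt.fst_add, TrivSqZeroExt.fst_inl, TrivSqZeroExt.fst_inr, add_zero]
        · rw [← ArtFun.Art.comp_apply, hψ₂]
          refine TrivSqZeroExt.ext ?_ ?_
          · change T1Lift.αAlg k n (TrivSqZeroExt.inl (p' c) + TrivSqZeroExt.inr s).fst = (p'' c).fst
            rw [TrivSqZeroExt.fst_add, TrivSqZeroExt.fst_inl, TrivSqZeroExt.fst_inr, add_zero]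
            exact hC.w_apply c
          · change T1Lift.αAlg k n (TrivSqZeroExt.inl (p' c) + TrivSqZeroExt.inr s).snd = (p'' c).snd
            rw [TrivSqZeroExt.snd_add, TrivSqZeroExt.snd_inl, TrivSqZeroExt.snd_inr, zero_add, hs]
      · rw [eq_bot_iff, Ideal.mul_le]
        intro x hx y hy
        obtain ⟨hy1, hy2⟩ := hker y hy
        exact Ideal.mem_bot.mpr
          (T1Tr.dual_mul_eq_zero k n x y ((ArtFun.Art.mem_maximalIdeal_iff _ x).mp hx) hy1 hy2)
    have hmem : ∀ j : ↥(RingHom.ker (T1Lift.α k (n + 1)).toAlgHom),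
        T1Lift.ε k (n + 1) (j : T1Lift.A k (n + 1 + 1)) ∈ RingHom.ker ψ.toAlgHom := fun j => by
      change ψ (T1Lift.ε k (n + 1) j.1) = 0
      rw [← ArtFun.Art.comp_apply, ← hsq, ArtFun.Art.comp_apply,
        show T1Lift.α k (n + 1) j.1 = 0 from j.2, map_zero]
    let ℓ : ↥(RingHom.ker (T1Lift.α k (n + 1)).toAlgHom) →ₗ[k] ↥(RingHom.ker ψ.toAlgHom) :=
      { toFun := fun j => ⟨_, hmem j⟩
        map_add' := fun a b => Subtype.ext (map_add (T1Lift.ε k (n + 1)).toAlgHom a.1 b.1)
        map_smul' := fun c a => Subtype.ext (map_smul (T1Lift.ε k (n + 1)).toAlgHom c a.1) }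
    have hℓ : Function.Injective ℓ := by
      rw [injective_iff_map_eq_zero]
      intro j hj
      exact Subtype.ext (T1Tr.εAlg_injOn_ker k n j.2 (congrArg Subtype.val hj))
    have hψY : F.map ψ Y = F.map g X := by
      refine (hRS p' p'' _ _ hC (fun a => ⟨TrivSqZeroExt.inl a, rfl⟩)).injective (ArtFun.FibProd.ext ?_ ?_)
      · change F.map p' (F.map ψ Y) = F.map p' (F.map g X)
        rw [← map_comp_apply', ← map_comp_apply', hψ₁, hg₁, map_id_apply', hY]
      · change F.map p'' (F.map ψ Y) = F.map p'' (F.map g X)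
        rw [← map_comp_apply', ← map_comp_apply', hψ₂, hg₂, hY']
    have hobs := hnat (T1Lift.α k (n + 1)) (T1Tr.α_isSemismallExt k (n + 1)) ψ hψs (T1Lift.ε k (n + 1)) g
      hsq ℓ (fun j => rfl) X
    rw [(O.obs_eq_zero_iff ψ hψs _).mpr ⟨Y, hψY⟩] at hobs
    exact (O.obs_eq_zero_iff _ (T1Tr.α_isSemismallExt k (n + 1)) X).mp
      (Module.Flat.lTensor_preserves_injective_linearMap ℓ hℓ (hobs.symm.trans (map_zero _).symm))

end Groth.Agent.S18187
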