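import Groth.Statements.S18188
import Mathlib.RingTheory.RootsOfUnity.PrimitiveRoots
import Mathlib.Algebra.Field.GeomSum
import Mathlib.RingTheory.RootsOfUnity.Basic
import Mathlib.Tactic

set_option autoImplicit false
universe u
open OrbRR

namespace Groth.Agent.S18188

/-- Let K be a field in which 6 ≠ 0, let j < N be natural numbers (so N ≥ 1), and let ζ ∈ K be a
primitive N-th root of unity. Then the sum over i = 1, …, N − 1 of ζ^{ij} / (2 − ζ^i − ζ^{−i})
equals j(j − N)/2 + (N² − 1)/12. (The published setting is characteristic zero; the identity is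
stated here over any field of characteristic different from 2 and 3, where the published proof
applies unchanged: a field containing a primitive N-th root of unity has characteristic prime to N,
and each denominator 2 − ζ^i − ζ^{−i} = −(1 − ζ^i)²/ζ^i with 0 < i < N is nonzero. In
characteristics 2 and 3 the right-hand side has no meaning.) -/
theorem result (K : Type u) [Field K] (h6 : (6 : K) ≠ 0)
    (N j : ℕ) (hj : j < N) (ζ : K) (hζ : IsPrimitiveRoot ζ N) :
    ∑ i ∈ Finset.Ioo 0 N, ζ ^ (i * j) / (2 - ζ ^ i - (ζ ^ i)⁻¹) =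
      (j : K) * ((j : K) - (N : K)) / 2 + ((N : K) ^ 2 - 1) / 12 := by
  classical
  have hN : 0 < N := by omega
  haveI : NeZero N := ⟨hN.ne'⟩
  have hN0 : (N : K) ≠ 0 := hζ.neZero'.out
  have h2 : (2 : K) ≠ 0 := fun h => h6 (by linear_combination 3 * h)
  have h3 : (3 : K) ≠ 0 := fun h => h6 (by linear_combination 2 * h)
  have hζ0 : ζ ≠ 0 := hζ.ne_zero hN.ne'
  set den : ℕ → K := fun i => 2 - ζ ^ i - (ζ ^ i)⁻¹ with hden
  have hden0 : ∀ i ∈ Finset.Ioo 0 N, den i ≠ 0 := by
    intro i hi h
    rw [Finset.mem_Ioo] at hi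
    have h1 : ζ ^ i ≠ 1 := hζ.pow_ne_one_of_pos_of_lt hi.1.ne' hi.2
    have h0 : ζ ^ i ≠ 0 := pow_ne_zero _ hζ0
    apply h1
    have : (ζ ^ i - 1) ^ 2 = 0 := by
      have := congrArg (· * ζ ^ i) h
      simp only [hden, sub_mul, zero_mul, inv_mul_cancel₀ h0] at this
      linear_combination -this
    exact sub_eq_zero.mp (eq_zero_of_pow_eq_zero this)
  set g : ℕ → K := fun j => ∑ i ∈ Finset.Ioo 0 N, ζ ^ (i * j) / den i with hg
  have hfull : ∀ i, 0 < i → i < N → ∑ j ∈ Finset.range N, ζ ^ (i * j) = 0 := by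
    intro i h0 h1
    have hne : ζ ^ i ≠ 1 := hζ.pow_ne_one_of_pos_of_lt h0.ne' h1
    simp only [pow_mul]
    rw [geom_sum_eq hne, ← pow_mul, mul_comm, pow_mul, hζ.pow_eq_one, one_pow, sub_self, zero_div]
  have hIoo : Finset.range N = insert 0 (Finset.Ioo 0 N) := by
    ext a; simp; omega
  have hstep : ∀ j, j + 1 < N → g (j + 2) = 2 * g (j + 1) - g j + 1 := by
    intro j hj
    have h1 : ∑ i ∈ Finset.Ioo 0 N, ζ ^ (i * (j + 1)) = -1 := by
      have := hfull (j + 1) (by omega) hj
      rw [hIoo, Finset.sum_insert (by simp)] at this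
      simp only [mul_zero, pow_zero] at this
      have h' : ∑ i ∈ Finset.Ioo 0 N, ζ ^ (i * (j + 1)) = ∑ i ∈ Finset.Ioo 0 N, ζ ^ ((j + 1) * i) := by
        simp only [mul_comm]
      rw [h']; linear_combination this
    have h2' : g (j + 2) - 2 * g (j + 1) + g j = -∑ i ∈ Finset.Ioo 0 N, ζ ^ (i * (j + 1)) := by
      simp only [hg, Finset.mul_sum, ← Finset.sum_sub_distrib, ← Finset.sum_add_distrib, ← Finset.sum_neg_distrib]
      refine Finset.sum_congr rfl fun i hi => ?_
      rw [mul_div_assoc', ← sub_div, ← add_div, div_eq_iff (hden0 i hi)]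
      simp only [hden, mul_add, mul_one, pow_add, pow_mul, show i * 2 = i + i by ring]
      have h0 : ζ ^ i ≠ 0 := pow_ne_zero _ hζ0
      field_simp
      ring
    rw [h1] at h2'
    linear_combination h2'
  have hclosed : ∀ j, j ≤ N → g j = g 0 + (j : K) * (g 1 - g 0) + (j : K) * ((j : K) - 1) / 2 := by
    intro j
    induction j using Nat.twoStepInduction with
    | zero => intro _; simp
    | one => intro _; simp
    | more j ih1 ih2 =>
      intro hjN
      rw [hstep j (by omega), ih1 (by omega), ih2 (by omega)]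
      push_cast
      field_simp
      ring
  have hper : g N = g 0 := by
    refine Finset.sum_congr rfl fun i _ => ?_
    rw [mul_comm, pow_mul, hζ.pow_eq_one, one_pow, mul_zero, pow_zero]
  have hα : g 1 - g 0 = -((N : K) - 1) / 2 := by
    have := hclosed N le_rfl
    rw [hper] at this
    have e := congrArg (· * (2 : K)) this
    simp only [add_mul, div_mul_cancel₀ _ h2] at e
    apply mul_left_cancel₀ (mul_ne_zero hN0 h2)
    rw [mul_assoc (N : K) 2 (_ / 2), mul_div_cancel₀ _ h2]
    linear_combination -e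
  have hform : ∀ j, j ≤ N → g j = g 0 + (j : K) * ((j : K) - N) / 2 := by
    intro j hj
    rw [hclosed j hj, hα]; field_simp; ring
  have hS : ∑ j ∈ Finset.range N, g j = 0 := by
    simp only [hg]
    rw [Finset.sum_comm]
    refine Finset.sum_eq_zero fun i hi => ?_
    rw [Finset.mem_Ioo] at hi
    rw [← Finset.sum_div, hfull i hi.1 hi.2, zero_div]
  have hpoly : ∀ M : ℕ, ∑ j ∈ Finset.range M, (g 0 + (j : K) * ((j : K) - N) / 2) =
      (M : K) * g 0 + (((M : K) - 1) * M * (2 * M - 1) - 3 * N * M * ((M : K) - 1)) / 12 := by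
    intro M
    induction M with
    | zero => simp
    | succ M ih =>
      rw [Finset.sum_range_succ, ih]
      have h12 : (12 : K) ≠ 0 := by
        rw [show (12 : K) = 2 * 6 by norm_num]; exact mul_ne_zero h2 h6
      push_cast
      field_simp
      ring
  have h12 : (12 : K) ≠ 0 := by
    rw [show (12 : K) = 2 * 6 by norm_num]; exact mul_ne_zero h2 h6
  have hg0 : g 0 = ((N : K) ^ 2 - 1) / 12 := by
    have h := hpoly N
    rw [← Finset.sum_congr rfl fun j hj => hform j (Finset.mem_range.mp hj).le, hS] at h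
    have e := congrArg (· * (12 : K)) h
    simp only [add_mul, div_mul_cancel₀ _ h12, zero_mul] at e
    apply mul_left_cancel₀ (mul_ne_zero hN0 h12)
    rw [mul_assoc (N : K) 12 (_ / 12), mul_div_cancel₀ _ h12]
    linear_combination -e
  show g j = _
  rw [hform j hj.le, hg0]
  ring

end Groth.Agent.S18188
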