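import Groth.Statements.S18189
import Groth.Agent.S18188
import Mathlib.Analysis.Complex.Norm
import Mathlib.Analysis.Complex.Basic
import Mathlib.RingTheory.RootsOfUnity.Complex
import Mathlib.Tactic

set_option autoImplicit false
open OrbRR

namespace Groth.Agent.S18189

/-- Let N ≥ 1 be a natural number, let ζ ∈ ℂ be a primitive N-th root of unity, and put f(i) = i(i −
N)/2 + (N² − 1)/12 for 0 ≤ i < N. For every natural number m the complex number ε_m = (1/N)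
∑_{i=0}^{N−1} f(i) ζ^{mi}, an eigenvalue of the symmetric circulant N × N matrix with (i, j) entry
f(j − i)/N, is real and nonnegative. -/
theorem result (N : ℕ) (hN : 0 < N) (ζ : ℂ)
    (hζ : IsPrimitiveRoot ζ N) (m : ℕ) :
    (∑ i ∈ Finset.range N,
        ((i : ℂ) * ((i : ℂ) - (N : ℂ)) / 2 + ((N : ℂ) ^ 2 - 1) / 12) / (N : ℂ) * ζ ^ (m * i)).im = 0 ∧
    0 ≤ (∑ i ∈ Finset.range N,
        ((i : ℂ) * ((i : ℂ) - (N : ℂ)) / 2 + ((N : ℂ) ^ 2 - 1) / 12) / (N : ℂ) * ζ ^ (m * i)).re := by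
  classical
  have h6 : (6 : ℂ) ≠ 0 := by norm_num
  have hzero : ∀ a : ℕ, ∑ i ∈ Finset.range N, ζ ^ (a * i) = if N ∣ a then (N : ℂ) else 0 := by
    intro a
    simp only [pow_mul]
    split_ifs with h
    · rw [(hζ.pow_eq_one_iff_dvd a).mpr h]; simp
    · rw [geom_sum_eq (fun h1 => h ((hζ.pow_eq_one_iff_dvd a).mp h1)), ← pow_mul, mul_comm, pow_mul,
        hζ.pow_eq_one, one_pow, sub_self, zero_div]
  have hsum : ∑ i ∈ Finset.range N,
      ((i : ℂ) * ((i : ℂ) - (N : ℂ)) / 2 + ((N : ℂ) ^ 2 - 1) / 12) / (N : ℂ) * ζ ^ (m * i) =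
      ∑ k ∈ Finset.Ioo 0 N, if N ∣ k + m then (2 - ζ ^ k - (ζ ^ k)⁻¹)⁻¹ else 0 := by
    have hN0 : (N : ℂ) ≠ 0 := Nat.cast_ne_zero.mpr hN.ne'
    calc _ = ∑ i ∈ Finset.range N, ∑ k ∈ Finset.Ioo 0 N,
          (2 - ζ ^ k - (ζ ^ k)⁻¹)⁻¹ / (N : ℂ) * ζ ^ ((k + m) * i) := by
          refine Finset.sum_congr rfl fun i hi => ?_
          rw [← S18188.result ℂ h6 N i (Finset.mem_range.mp hi) ζ hζ, Finset.sum_div, Finset.sum_mul]
          refine Finset.sum_congr rfl fun k _ => ?_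
          rw [add_mul, pow_add]; ring
      _ = _ := by
          rw [Finset.sum_comm]
          refine Finset.sum_congr rfl fun k _ => ?_
          rw [← Finset.mul_sum, hzero]
          split_ifs
          · rw [div_mul_cancel₀ _ hN0]
          · rw [mul_zero]
  rw [hsum]
  have hw : ∀ k, (2 - ζ ^ k - (ζ ^ k)⁻¹)⁻¹ = (((Complex.normSq (1 - ζ ^ k))⁻¹ : ℝ) : ℂ) := by
    intro k
    have h1 : (ζ ^ k)⁻¹ = (starRingEnd ℂ) (ζ ^ k) :=
      Complex.inv_eq_conj (by rw [norm_pow, hζ.norm'_eq_one hN.ne', one_pow])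
    have hn : (starRingEnd ℂ) (ζ ^ k) * ζ ^ k = 1 := by
      rw [← h1, inv_mul_cancel₀ (pow_ne_zero _ (hζ.ne_zero hN.ne'))]
    rw [h1, Complex.ofReal_inv, Complex.normSq_eq_conj_mul_self, map_sub, map_one]
    congr 1
    linear_combination -hn
  simp only [Complex.re_sum, Complex.im_sum, hw]
  refine ⟨Finset.sum_eq_zero fun k _ => ?_, Finset.sum_nonneg fun k _ => ?_⟩
  · split_ifs
    · exact Complex.ofReal_im _
    · rfl
  · split_ifs
    · rw [Complex.ofReal_re]; exact inv_nonneg.mpr (Complex.normSq_nonneg _)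
    · exact le_rfl

end Groth.Agent.S18189
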