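import Groth.Statements.S18190
import Groth.Agent.S18188
import Mathlib.Analysis.Complex.Norm
import Mathlib.Analysis.Complex.Basic
import Mathlib.LinearAlgebra.Matrix.PosDef
import Mathlib.RingTheory.RootsOfUnity.Complex
import Mathlib.Tactic

set_option autoImplicit false
open OrbRR

namespace Groth.Agent.S18190

/-- Let N ≥ 1 and let f : ℤ/Nℤ → ℚ be f(x) = x(x − N)/2 + (N² − 1)/12, where x is read as its
representative with 0 ≤ x < N. The real N × N matrix indexed by ℤ/Nℤ whose (i, j) entry is f(j −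
i)/N, a symmetric circulant matrix, is positive semidefinite. -/
theorem result (N : ℕ) [NeZero N] :
    (Matrix.of fun i j : ZMod N =>
        ((((j - i).val : ℝ) * (((j - i).val : ℝ) - (N : ℝ))) / 2 + ((N : ℝ) ^ 2 - 1) / 12) / (N : ℝ)).PosSemidef := by
  classical
  have hN0 : N ≠ 0 := NeZero.ne N
  have hN : (0 : ℝ) < N := by exact_mod_cast Nat.pos_of_ne_zero hN0
  set ζ : ℂ := Complex.exp (2 * Real.pi * Complex.I / N)
  have hζ : IsPrimitiveRoot ζ N := Complex.isPrimitiveRoot_exp N hN0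
  have hn1 : ‖ζ‖ = 1 := hζ.norm'_eq_one hN0
  set f : ZMod N → ℝ := fun d =>
    (((d.val : ℝ) * ((d.val : ℝ) - (N : ℝ))) / 2 + ((N : ℝ) ^ 2 - 1) / 12) / (N : ℝ) with hf
  have hpow : ∀ a b : ZMod N, ζ ^ (b - a).val = ζ ^ b.val / ζ ^ a.val := by
    intro a b
    rw [eq_div_iff (pow_ne_zero _ (hζ.ne_zero hN0)), ← pow_add, pow_eq_pow_mod b.val hζ.pow_eq_one,
      pow_eq_pow_mod ((b - a).val + a.val) hζ.pow_eq_one]
    congr 1
    rw [← ZMod.val_add, sub_add_cancel, Nat.mod_eq_of_lt (ZMod.val_lt b)]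
  have hfc : ∀ d : ZMod N, ((f d : ℝ) : ℂ) =
      ∑ k ∈ Finset.Ioo 0 N, ((((N : ℝ) * Complex.normSq (1 - ζ ^ k))⁻¹ : ℝ) : ℂ) * (ζ ^ d.val) ^ k := by
    intro d
    have h := S18188.result ℂ (by norm_num) N d.val (ZMod.val_lt d) ζ hζ
    have h2 : ((f d : ℝ) : ℂ) = ((d.val : ℂ) * ((d.val : ℂ) - (N : ℂ)) / 2 + ((N : ℂ) ^ 2 - 1) / 12) / (N : ℂ) := by
      simp only [hf]; push_cast; ring
    rw [h2, ← h, Finset.sum_div]
    refine Finset.sum_congr rfl fun k _ => ?_
    have h1 : (ζ ^ k)⁻¹ = (starRingEnd ℂ) (ζ ^ k) :=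
      Complex.inv_eq_conj (by rw [norm_pow, hn1, one_pow])
    have hn : (starRingEnd ℂ) (ζ ^ k) * ζ ^ k = 1 := by
      rw [← h1, inv_mul_cancel₀ (pow_ne_zero _ (hζ.ne_zero hN0))]
    have hw : 2 - ζ ^ k - (ζ ^ k)⁻¹ = (Complex.normSq (1 - ζ ^ k) : ℂ) := by
      rw [h1, Complex.normSq_eq_conj_mul_self, map_sub, map_one]; linear_combination -hn
    rw [hw, ← pow_mul, mul_comm k]
    push_cast
    rw [mul_inv]; ring
  refine Matrix.PosSemidef.of_dotProduct_mulVec_nonneg ?_ fun x => ?_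
  · ext i j
    show f (i - j) = f (j - i)
    rcases eq_or_ne (i - j) 0 with h | h
    · rw [h, show j - i = 0 by rw [← neg_sub, h, neg_zero]]
    · haveI : NeZero (i - j) := ⟨h⟩
      rw [hf]
      simp only
      rw [← neg_sub i j, ZMod.val_neg_of_ne_zero, Nat.cast_sub (ZMod.val_lt _).le]
      ring
  · set Q : ℝ := ∑ i, ∑ j, x i * f (j - i) * x j with hQ
    suffices h : 0 ≤ Q by simpa [Matrix.mulVec, dotProduct, hQ, Finset.mul_sum, mul_assoc, hf] using h
    obtain ⟨w, hw⟩ : ∃ w : ℕ → ℝ, ∀ k, ((N : ℝ) * Complex.normSq (1 - ζ ^ k))⁻¹ = w k :=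
      ⟨_, fun k => rfl⟩
    have hQc : (Q : ℂ) = ((∑ k ∈ Finset.Ioo 0 N, w k *
        Complex.normSq (∑ j, (x j : ℂ) * (ζ ^ j.val) ^ k) : ℝ) : ℂ) := by
      simp only [hQ]
      push_cast
      simp only [hfc, hw, Complex.normSq_eq_conj_mul_self, map_sum, map_mul, Complex.conj_ofReal, map_pow,
        Finset.sum_mul_sum]
      simp only [Finset.mul_sum, Finset.sum_mul]
      rw [Finset.sum_comm]
      conv_lhs => enter [2, i]; rw [Finset.sum_comm]
      rw [Finset.sum_comm]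
      refine Finset.sum_congr rfl fun k _ => ?_
      rw [Finset.sum_comm]
      refine Finset.sum_congr rfl fun i _ => Finset.sum_congr rfl fun j _ => ?_
      have hc : (starRingEnd ℂ) ζ = ζ⁻¹ := (Complex.inv_eq_conj hn1).symm
      rw [hpow, hc, div_pow, inv_pow, inv_pow]
      push_cast
      rw [div_eq_mul_inv]; ring
    rw [Complex.ofReal_inj] at hQc
    rw [hQc]
    exact Finset.sum_nonneg fun k _ => mul_nonneg (hw k ▸ inv_nonneg.mpr (mul_nonneg hN.le (Complex.normSq_nonneg _))) (Complex.normSq_nonneg _)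

end Groth.Agent.S18190
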