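import Groth.Statements.S18194
import Groth.Agent.H17.LocImmNhd
-- import your own Groth.Agent.* helpers here

set_option autoImplicit false
universe u
open LocImm

namespace Groth.Agent.S18194

open CategoryTheory AlgebraicGeometry in
/-- Let `X, Y₁, Y₂` be Noetherian schemes, `f_i : X ⟶ Y_i` separated localizing immersions (localizing
and injective on points) and `g : Y₁ ⟶ Y₂` a separated morphism essentially of finite type with `f₁
≫ g = f₂`. Then there is an open `U ⊆ Y₁` containing the image of `f₁` such that the restriction `U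
⟶ Y₂` of `g` is a localizing immersion. -/
theorem result {X Y₁ Y₂ : Scheme.{u}} [IsNoetherian X] [IsNoetherian Y₁] [IsNoetherian Y₂]
    (f₁ : X ⟶ Y₁) (f₂ : X ⟶ Y₂) (g : Y₁ ⟶ Y₂) (hf₁ : LocImm.IsLocImmersion f₁) (hf₂ : LocImm.IsLocImmersion f₂)
    [IsSeparated f₁] [IsSeparated f₂] [IsSeparated g] [EssFT.EssFiniteType g] (h : f₁ ≫ g = f₂) :
    ∃ U : Y₁.Opens, Set.range (fun x => f₁ x) ⊆ (U : Set Y₁) ∧ LocImm.IsLocImmersion (U.ι ≫ g) := by
  exact H17.LocImmNhd.exists_open_isLocImmersion f₁ f₂ g hf₁ hf₂ h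

end Groth.Agent.S18194
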