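import Groth.Statements.S18196
import Groth.Agent.H17.LocIm
import Mathlib.AlgebraicGeometry.Morphisms.Proper
import Mathlib.AlgebraicGeometry.Morphisms.UniversallyInjective
import Mathlib.AlgebraicGeometry.Morphisms.Flat
import Mathlib.AlgebraicGeometry.Morphisms.UniversallyOpen
import Mathlib.AlgebraicGeometry.Morphisms.FinitePresentation
import Mathlib.AlgebraicGeometry.Morphisms.ClosedImmersion

set_option autoImplicit false
universe u
open LocImm

namespace Groth.Agent.S18196

open CategoryTheory Limits AlgebraicGeometry TopologicalSpace
open Groth.Agent.H17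

open CategoryTheory AlgebraicGeometry in
/-- Let `f : X ⟶ Y` and `g : Y ⟶ Z` be morphisms of Noetherian schemes with `g` separated and `f ≫ g` a
localizing immersion (localizing and injective on points). If `f` is proper then `f` is a closed
immersion. -/
theorem result {X Y Z : Scheme.{u}} [IsNoetherian X] [IsNoetherian Y] [IsNoetherian Z]
    (f : X ⟶ Y) (g : Y ⟶ Z) (hfg : LocImm.IsLocImmersion (f ≫ g)) [IsSeparated g] [IsProper f] : IsClosedImmersion f := by
  have hi : Function.Injective f := fun a b h => hfg.2 (congrArg g.base h)
  have := LocIm.surjectiveOnStalks hfg.1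
  have : SurjectiveOnStalks f := SurjectiveOnStalks.of_comp f g
  have : IsPreimmersion f := ⟨(Topology.IsClosedEmbedding.of_continuous_injective_isClosedMap f.continuous hi f.isClosedMap).isEmbedding⟩
  exact IsClosedImmersion.of_isPreimmersion f f.isClosedMap.isClosed_range

end Groth.Agent.S18196
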