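import Groth.Statements.S18200
import Groth.Agent.H17.LocImmFactor
import Groth.Agent.H7Lim.QuasiFiniteFactor
-- import your own Groth.Agent.* helpers here

set_option autoImplicit false
universe u
open LocImm

namespace Groth.Agent.S18200

open CategoryTheory AlgebraicGeometry in
/-- Let `f : X ⟶ Y` be a separated morphism of Noetherian schemes that is essentially quasi-finite:
essentially of finite type with every fibre the spectrum of a finite algebra over the residue field
(equivalently, `f` locally quasi-finite in the fibrewise sense, which carries no finite-type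
condition). Then `f` factors as a localizing immersion `i : X ⟶ Z` (localizing and injective on
points, `Z` Noetherian) followed by a finite morphism `h : Z ⟶ Y`. -/
theorem result {X Y : Scheme.{u}} [IsNoetherian X] [IsNoetherian Y] (f : X ⟶ Y) [IsSeparated f] [EssFT.EssFiniteType f] [LocallyQuasiFinite f] :
    ∃ (Z : Scheme.{u}) (i : X ⟶ Z) (h : Z ⟶ Y), IsNoetherian Z ∧ LocImm.IsLocImmersion i ∧ IsFinite h ∧ i ≫ h = f := by
  obtain ⟨W, k, p, hW, hk, hp, hp', -, rfl⟩ := H17.LocImmFactor.exists_factor f
  have hqf : ∀ x, p.QuasiFiniteAt (k x) := fun x => by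
    have h := Scheme.Hom.quasiFiniteAt (k ≫ p) x
    haveI := H17.LocIm.isIso_stalkMap hk.1 x
    rw [Scheme.Hom.QuasiFiniteAt, Scheme.Hom.stalkMap_comp] at h
    have h' : (p.stalkMap (k x) ≫ k.stalkMap x).hom.QuasiFinite := h
    rw [CommRingCat.hom_comp, RingHom.QuasiFinite.respectsIso.cancel_right_isIso] at h'
    exact h'
  let G := p.quasiFiniteLocus
  haveI := H17.LocImmNhd.isNoetherian_opens G
  let i : X ⟶ G := IsOpenImmersion.lift G.ι k (by
    rw [Scheme.Opens.range_ι]; rintro _ ⟨x, rfl⟩; exact hqf x)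
  have hi : i ≫ G.ι = k := IsOpenImmersion.lift_fac _ _ _
  haveI : LocallyQuasiFinite (G.ι ≫ p) := by
    rw [← Scheme.Hom.quasiFiniteLocus_eq_top_iff, Scheme.Hom.quasiFiniteLocus_comp]
    exact Scheme.Opens.ι_preimage_self _
  obtain ⟨T, j, π, hj, -, hπ, hjπ⟩ := H7Lim.exists_openImmersion_finite (G.ι ≫ p)
  refine ⟨T, i ≫ j, π, H17.LocImmCommon.isNoetherian_of_locallyOfFiniteType π,
    H17.LocImB.isLocImmersion_comp (H17.LocImB.isLocImmersion_of_comp_mono (by rwa [hi]))
      (H17.LocImB.isLocImmersion_of_isOpenImmersion j), hπ, ?_⟩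
  rw [Category.assoc, hjπ, ← Category.assoc, hi]

end Groth.Agent.S18200
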