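import Groth.Statements.S18201
import Groth.Agent.H17.LocImmLocus
-- import your own Groth.Agent.* helpers here

set_option autoImplicit false
universe u
open LocImm

namespace Groth.Agent.S18201

open CategoryTheory AlgebraicGeometry in
/-- Let `P` be a property of morphisms of schemes such that (α) for every separated, essentially
finite-type `f : X ⟶ Y` of Noetherian schemes and every localizing immersion `i : W ⟶ X` (`W`
Noetherian; localizing and injective on points), `P f` implies `P (i ≫ f)`; and (β) for every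
separated finite-type `f : X ⟶ Y` of Noetherian schemes, (i) `P f` holds whenever `P` holds for each
composite `Spec O_{X,x} ⟶ X ⟶ Y`, and (ii) the set of `x` for which that composite satisfies `P` is
open. Then (i) and (ii) hold for every separated, essentially finite-type `f : X ⟶ Y` of Noetherian
schemes, and any such `f` with `P f` factors as a localizing immersion `X ⟶ Z` (`Z` Noetherian)
followed by a separated morphism of finite type `h : Z ⟶ Y` satisfying `P`. -/
theorem result (P : MorphismProperty Scheme.{u})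
    (hα : ∀ {W X Y : Scheme.{u}} [IsNoetherian W] [IsNoetherian X] [IsNoetherian Y] (i : W ⟶ X) (f : X ⟶ Y) [IsSeparated f] [EssFT.EssFiniteType f], LocImm.IsLocImmersion i → P f → P (i ≫ f))
    (hβ₁ : ∀ {X Y : Scheme.{u}} [IsNoetherian X] [IsNoetherian Y] (f : X ⟶ Y) [IsSeparated f] [LocallyOfFiniteType f], (∀ x : X, P (X.fromSpecStalk x ≫ f)) → P f)
    (hβ₂ : ∀ {X Y : Scheme.{u}} [IsNoetherian X] [IsNoetherian Y] (f : X ⟶ Y) [IsSeparated f] [LocallyOfFiniteType f], IsOpen {x : X | P (X.fromSpecStalk x ≫ f)})
    {X Y : Scheme.{u}} [IsNoetherian X] [IsNoetherian Y] (f : X ⟶ Y) [IsSeparated f] [EssFT.EssFiniteType f] :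
    ((∀ x : X, P (X.fromSpecStalk x ≫ f)) → P f) ∧ IsOpen {x : X | P (X.fromSpecStalk x ≫ f)} ∧
      (P f → ∃ (Z : Scheme.{u}) (i : X ⟶ Z) (h : Z ⟶ Y), IsNoetherian Z ∧ LocImm.IsLocImmersion i ∧ IsSeparated h ∧ LocallyOfFiniteType h ∧ QuasiCompact h ∧ P h ∧ i ≫ h = f) := by
  exact H17.LocImmLocus.main P hα hβ₁ hβ₂ f

end Groth.Agent.S18201
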