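import Groth.Statements.S18203
import Groth.Agent.H17.LocIm
import Mathlib.AlgebraicGeometry.Morphisms.Proper
import Mathlib.AlgebraicGeometry.Morphisms.UniversallyInjective
import Mathlib.AlgebraicGeometry.Morphisms.Flat
import Mathlib.AlgebraicGeometry.Morphisms.UniversallyOpen
import Mathlib.AlgebraicGeometry.Morphisms.FinitePresentation
import Mathlib.AlgebraicGeometry.Morphisms.ClosedImmersion

set_option autoImplicit false
universe u
open LocImm

namespace Groth.Agent.S18203

open CategoryTheory Limits AlgebraicGeometry TopologicalSpace
open Groth.Agent.H17

open CategoryTheory AlgebraicGeometry in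
/-- Let `f : X ⟶ Y` be a localizing immersion (localizing and injective on points) of Noetherian
schemes. Then `f` is a topological embedding, its image is stable under generization, and every
stalk map `O_{Y, f x} → O_{X, x}` is an isomorphism; thus `f` identifies `X` with the subspace
`f(X)` equipped with the restriction of `O_Y`. -/
theorem result {X Y : Scheme.{u}} [IsNoetherian X] [IsNoetherian Y]
    (f : X ⟶ Y) (hf : LocImm.IsLocImmersion f) :
    Topology.IsEmbedding (fun x => f x) ∧ StableUnderGeneralization (Set.range (fun x => f x)) ∧ ∀ x : X, IsIso (f.stalkMap x) := by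
  exact ⟨LocIm.isEmbedding hf, LocIm.stableUnderGeneralization_range hf.1, LocIm.isIso_stalkMap hf.1⟩

end Groth.Agent.S18203
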