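import Groth.Statements.S18206
import Groth.Agent.H17.LocIm
import Mathlib.AlgebraicGeometry.IdealSheaf.Functorial

set_option autoImplicit false
universe u
open LocImm

namespace Groth.Agent.S18206

open CategoryTheory Limits AlgebraicGeometry TopologicalSpace
open Groth.Agent.H17

open CategoryTheory AlgebraicGeometry in
/-- Let `f : X ⟶ Y` be a localizing immersion (localizing and injective on points) of Noetherian
schemes. Then every quasi-coherent ideal sheaf `I` on `X` is the inverse image ideal `J·O_X` of some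
quasi-coherent ideal sheaf `J` on `Y` (all such ideals are coherent, the schemes being Noetherian). -/
theorem result {X Y : Scheme.{u}} [IsNoetherian X] [IsNoetherian Y]
    (f : X ⟶ Y) (hf : LocImm.IsLocImmersion f) (I : X.IdealSheafData) : ∃ J : Y.IdealSheafData, J.comap f = I := by
  choose V hV using fun x => LocIm.exists_affine_preimage hf x (O := ⊤) trivial
  refine ⟨I.map f, le_antisymm (Scheme.IdealSheafData.comap_map_le I f) ?_⟩
  refine Scheme.IdealSheafData.le_of_iSup_eq_top (fun x => (⟨f ⁻¹ᵁ V x, (hV x).2.2.2.1⟩ : X.affineOpens))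
    (eq_top_iff.mpr fun x _ => Opens.mem_iSup.mpr ⟨x, (hV x).2.1⟩) fun x => ?_
  let W : X.affineOpens := ⟨f ⁻¹ᵁ V x, (hV x).2.2.2.1⟩
  let U : Y.affineOpens := ⟨V x, (hV x).2.2.1⟩
  let K := (I.map f).comap f
  have h1 : (I.map f).ideal U ≤ (K.map f).ideal U := Scheme.IdealSheafData.le_map_comap (J := I.map f) (f := f) U
  rw [Scheme.IdealSheafData.ideal_map I f U (hV x).2.2.2.1,
    Scheme.IdealSheafData.ideal_map K f U (hV x).2.2.2.1] at h1
  let := (f.app (V x)).hom.toAlgebra
  obtain ⟨S, hS⟩ := (hV x).2.2.2.2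
  show I.ideal W ≤ K.ideal W
  rw [← IsLocalization.map_under S Γ(X, f ⁻¹ᵁ V x) (I.ideal W)]
  exact Ideal.map_le_iff_le_comap.mpr h1

end Groth.Agent.S18206
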