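import Groth.Statements.S18209
import Groth.Agent.H17.LocImmBlow.Join
-- import your own Groth.Agent.* helpers here

set_option autoImplicit false
universe u
open LocImm

namespace Groth.Agent.S18209

open CategoryTheory AlgebraicGeometry Limits in
/-- Let `f : X ⟶ Y` and `g : Y ⟶ Z` be separated morphisms of Noetherian schemes, essentially of finite
type, such that `f` and `f ≫ g` are localizing immersions (localizing and injective on points). Then
there are blow-ups `b : Ỹ ⟶ Y` and `c : Z̃ ⟶ Z` in quasi-coherent (hence coherent) ideals whose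
closed subschemes are disjoint from the image of `X`, and a localizing immersion `g' : Ỹ ⟶ Z̃`
lifting `g`, i.e. `g' ≫ c = b ≫ g`. -/
theorem result {X Y Z : Scheme.{u}} [IsNoetherian X] [IsNoetherian Y] [IsNoetherian Z]
    (f : X ⟶ Y) (g : Y ⟶ Z) [IsSeparated f] [IsSeparated g] [EssFT.EssFiniteType f] [EssFT.EssFiniteType g]
    (hf : LocImm.IsLocImmersion f) (hfg : LocImm.IsLocImmersion (f ≫ g)) :
    ∃ (𝓘 : Y.IdealSheafData) (𝓙 : Z.IdealSheafData) (Yt Zt : Scheme.{u}) (b : Yt ⟶ Y) (c : Zt ⟶ Z) (g' : Yt ⟶ Zt),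
      BlowUp.IsBlowUp b 𝓘 ∧ Disjoint (𝓘.support : Set Y) (Set.range (fun x => f x)) ∧
      BlowUp.IsBlowUp c 𝓙 ∧ Disjoint (𝓙.support : Set Z) (Set.range (fun x => g (f x))) ∧
      LocImm.IsLocImmersion g' ∧ g' ≫ c = b ≫ g := by
  obtain ⟨Yc, k, p, _, hk, _, hkp⟩ := Groth.Agent.S18198.result g
  obtain ⟨W, q, b, 𝓘, 𝓙, w, _, -, -, -, -, hqb, hq, hqd, hb, hbd⟩ :=
    Groth.Agent.H17.LocImmBlow.join p (𝟙 Z) (f ≫ k) (f ≫ g) (Groth.Agent.H17.LocImB.isLocImmersion_comp hf hk) hfg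
      (by simp [hkp])
  obtain ⟨h1, h2⟩ := Groth.Agent.H17.LocImmBlow.pullback_blowUp hk hq
  refine ⟨_, 𝓙, pullback k q, W, pullback.fst k q, b, pullback.snd k q, h1, ?_, hb, ?_, h2, ?_⟩
  · rw [Scheme.IdealSheafData.support_comap]
    refine Set.disjoint_left.2 ?_
    rintro y hy ⟨x, rfl⟩
    exact Set.disjoint_left.1 hqd hy ⟨x, rfl⟩
  · exact hbd
  · calc pullback.snd k q ≫ b = pullback.snd k q ≫ q ≫ p := by rw [hqb, Category.comp_id]
      _ = pullback.fst k q ≫ g := by rw [← hkp, ← pullback.condition_assoc]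

end Groth.Agent.S18209
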