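import Groth.Statements.S18210
import Groth.Agent.H17.LocImmBlow.Many
-- import your own Groth.Agent.* helpers here

set_option autoImplicit false
universe u
open LocImm

namespace Groth.Agent.S18210

open CategoryTheory AlgebraicGeometry Limits in
/-- Let `S` be a Noetherian scheme, `U` and `Y_1, …, Y_n` Noetherian schemes separated and essentially
of finite type over `S`, and `f_i : U ⟶ Y_i` localizing immersions over `S` (localizing and
injective on points). Then there are blow-ups `b_i : Ỹ_i ⟶ Y_i` in quasi-coherent ideals whose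
closed subschemes miss `f_i(U)`, a separated `S`-scheme `Z` of finite type, lifts `u_i : U ⟶ Ỹ_i` of
the `f_i`, and localizing immersions `g_i : Ỹ_i ⟶ Z` over `S` with dense image such that all
composites `u_i ≫ g_i` coincide. (The published statement does not require the `Y_i` to be separated
over `S`; its proof factors each `Y_i ⟶ S` through the main factorization result, which needs it,
and without it the line with a doubled point over a field, with `U` the complement of the doubled
point, is a counterexample, since a scheme admitting a localizing immersion into a separated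
`S`-scheme is separated over `S`.) -/
theorem result {S U : Scheme.{u}} [IsNoetherian S] [IsNoetherian U] {n : ℕ}
    (gU : U ⟶ S) (Y : Fin n → Scheme.{u}) [∀ i, IsNoetherian (Y i)] (q : ∀ i, Y i ⟶ S)
    [∀ i, IsSeparated (q i)] [∀ i, EssFT.EssFiniteType (q i)]
    (f : ∀ i, U ⟶ Y i) (hf : ∀ i, LocImm.IsLocImmersion (f i)) (hfq : ∀ i, f i ≫ q i = gU) :
    ∃ (Z : Scheme.{u}) (r : Z ⟶ S) (_ : IsSeparated r) (_ : LocallyOfFiniteType r) (_ : QuasiCompact r)
      (𝓘 : ∀ i, (Y i).IdealSheafData) (Yt : Fin n → Scheme.{u}) (b : ∀ i, Yt i ⟶ Y i) (u : ∀ i, U ⟶ Yt i) (g : ∀ i, Yt i ⟶ Z),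
      (∀ i, BlowUp.IsBlowUp (b i) (𝓘 i) ∧ Disjoint ((𝓘 i).support : Set (Y i)) (Set.range (fun x => f i x)) ∧
        u i ≫ b i = f i ∧ LocImm.IsLocImmersion (g i) ∧ Dense (Set.range (fun x => g i x)) ∧ g i ≫ r = b i ≫ q i) ∧
      (∀ i i', u i ≫ g i = u i' ≫ g i') := by
  rcases Nat.eq_zero_or_pos n with rfl | hn
  · exact ⟨S, 𝟙 S, inferInstance, inferInstance, inferInstance, fun i => i.elim0, fun i => i.elim0, fun i => i.elim0,
      fun i => i.elim0, fun i => i.elim0, fun i => i.elim0, fun i => i.elim0⟩
  choose Yc k p hYc hk hp hkp using fun i => Groth.Agent.S18198.result (q i)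
  haveI := hYc
  haveI := hp
  obtain ⟨W, r, w, qW, J, _, _, hw, hd, hall⟩ := Groth.Agent.H17.LocImmBlow.many ⟨0, hn⟩ Yc p gU (fun i => f i ≫ k i)
    (fun i => Groth.Agent.H17.LocImB.isLocImmersion_comp (hf i) (hk i)) (fun i => by rw [Category.assoc, hkp i, hfq i])
  refine ⟨W, r, inferInstance, inferInstance, inferInstance, fun i => (J i).comap (k i),
    fun i => pullback (k i) (qW i), fun i => pullback.fst (k i) (qW i),
    fun i => pullback.lift (f i) w (hall i).1.symm, fun i => pullback.snd (k i) (qW i), fun i => ?_, fun i i' => ?_⟩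
  · obtain ⟨h1, h2, h3, h4⟩ := hall i
    obtain ⟨hb, hg⟩ := Groth.Agent.H17.LocImmBlow.pullback_blowUp (hk i) h3
    refine ⟨hb, ?_, pullback.lift_fst _ _ _, hg, ?_, ?_⟩
    · rw [Scheme.IdealSheafData.support_comap]
      refine Set.disjoint_left.2 ?_
      rintro y hy ⟨x, rfl⟩
      exact Set.disjoint_left.1 h4 hy ⟨x, rfl⟩
    · refine hd.mono ?_
      rintro _ ⟨x, rfl⟩
      exact ⟨pullback.lift (f i) w h1.symm x, (congr($(pullback.lift_snd (f i) w h1.symm) x) : _)⟩
    · rw [← h2, ← pullback.condition_assoc, hkp i]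
  · rw [pullback.lift_snd, pullback.lift_snd]

end Groth.Agent.S18210
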