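import Groth.Statements.S18211
import Groth.Agent.H17.LocImmBlow.Join
import Groth.Agent.H11Proj.ProjectiveProps
import Groth.Agent.H11Strict.BlowProj
import Groth.Agent.S9708
-- import your own Groth.Agent.* helpers here

set_option autoImplicit false
universe u
open LocImm

namespace Groth.Agent.S18211

open CategoryTheory AlgebraicGeometry Limits in
/-- Let `π : Y ⟶ S` be a separated morphism of Noetherian schemes, essentially of finite type, and `f :
U ⟶ Y` a localizing immersion (localizing and injective on points) with dense image such that `U ⟶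
S` is essentially quasi-projective: it factors as a localizing immersion `j : U ⟶ P` followed by a
projective morphism `P ⟶ S` (in the sense of the relative homogeneous spectrum of a quasi-coherent
graded algebra generated in degree one with degree-one part of finite type). Then there is a blow-up
`Ỹ ⟶ Y` in a quasi-coherent ideal whose closed subscheme misses `f(U)` such that `Ỹ ⟶ S` is
essentially quasi-projective in the same sense. -/
theorem result {U Y S P : Scheme.{u}} [IsNoetherian U] [IsNoetherian Y] [IsNoetherian S] [IsNoetherian P]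
    (π : Y ⟶ S) [IsSeparated π] [EssFT.EssFiniteType π] (f : U ⟶ Y) (hf : LocImm.IsLocImmersion f)
    (hfd : Dense (Set.range (fun x => f x))) (j : U ⟶ P) (p : P ⟶ S) (hj : LocImm.IsLocImmersion j)
    (hp : RelProj.IsProjective p) (hc : j ≫ p = f ≫ π) :
    ∃ (𝓘 : Y.IdealSheafData) (Yt P' : Scheme.{u}) (b : Yt ⟶ Y) (j' : Yt ⟶ P') (p' : P' ⟶ S),
      BlowUp.IsBlowUp b 𝓘 ∧ Disjoint (𝓘.support : Set Y) (Set.range (fun x => f x)) ∧
      LocImm.IsLocImmersion j' ∧ RelProj.IsProjective p' ∧ j' ≫ p' = b ≫ π := by
  obtain ⟨Yc, k, pc, _, hk, _, hkp⟩ := Groth.Agent.S18198.result π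
  haveI := Groth.Agent.H11Proj.isProper_of_isProjective hp
  obtain ⟨W, b, q, 𝓘, 𝓙, w, _, -, -, -, -, hbq, hb, hbd, hq, hqd⟩ :=
    Groth.Agent.H17.LocImmBlow.join p pc j (f ≫ k) hj (Groth.Agent.H17.LocImB.isLocImmersion_comp hf hk)
      (by rw [hc, Category.assoc, hkp])
  obtain ⟨h1, h2⟩ := Groth.Agent.H17.LocImmBlow.pullback_blowUp hk hq
  refine ⟨_, pullback k q, W, pullback.fst k q, pullback.snd k q, b ≫ p, h1, ?_, h2,
    Groth.Agent.S9708.result b p (Groth.Agent.H11Strict.BlowProj.isProjective (Groth.Agent.H17.LocImmBlow.isFiniteTypeIdeal _) hb) hp, ?_⟩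
  · rw [Scheme.IdealSheafData.support_comap]
    refine Set.disjoint_left.2 ?_
    rintro y hy ⟨x, rfl⟩
    exact Set.disjoint_left.1 hqd hy ⟨x, rfl⟩
  · rw [hbq, ← pullback.condition_assoc, hkp]

end Groth.Agent.S18211
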