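import Groth.Statements.S18213
import Groth.Agent.H17.LocImmLocus
import Groth.Agent.S0386
-- import your own Groth.Agent.* helpers here

set_option autoImplicit false
universe u
open LocImm

namespace Groth.Agent.S18213

open CategoryTheory AlgebraicGeometry in
/-- Let `f : X ⟶ Y` be a separated morphism of Noetherian schemes, essentially of finite type. Then the
set of points `x` for which the composite `Spec O_{X,x} ⟶ X ⟶ Y` is flat is open, and if `f` is flat
it factors as a localizing immersion `i : X ⟶ Z` (localizing and injective on points, `Z`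
Noetherian) followed by a separated flat morphism of finite type `h : Z ⟶ Y`. -/
theorem result {X Y : Scheme.{u}} [IsNoetherian X] [IsNoetherian Y] (f : X ⟶ Y) [IsSeparated f] [EssFT.EssFiniteType f] :
    IsOpen {x : X | Flat (X.fromSpecStalk x ≫ f)} ∧
      (Flat f → ∃ (Z : Scheme.{u}) (i : X ⟶ Z) (h : Z ⟶ Y), IsNoetherian Z ∧ LocImm.IsLocImmersion i ∧ IsSeparated h ∧ LocallyOfFiniteType h ∧ QuasiCompact h ∧ Flat h ∧ i ≫ h = f) := by
  have key : ∀ {A B : Scheme.{u}} (g : A ⟶ B) (a : A), Flat (A.fromSpecStalk a ≫ g) ↔ (g.stalkMap a).hom.Flat := by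
    intro A B g a
    rw [← Scheme.SpecMap_stalkMap_fromSpecStalk]
    refine ⟨fun h => ?_, fun h => ?_⟩
    · exact Flat.SpecMap_iff.1 (MorphismProperty.of_postcomp (W := @Flat) (W' := MorphismProperty.monomorphisms Scheme)
        _ (B.fromSpecStalk (g a)) (inferInstanceAs (Mono (B.fromSpecStalk (g a)))) h)
    · haveI := Flat.SpecMap_iff.2 h
      haveI : Flat (B.fromSpecStalk (g a)) := by
        refine Flat.of_stalkMap _ fun z => ?_
        haveI := H17.LocIm.isIso_stalkMap (H17.LocImmLocus.isLocImmersion_fromSpecStalk B (g a)).1 z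
        exact RingHom.Flat.of_bijective (ConcreteCategory.bijective_of_isIso _)
      infer_instance
  obtain ⟨-, h₂, h₃⟩ := H17.LocImmLocus.main @Flat
    (fun {W X Y} _ _ _ i g _ _ hi hg => by
      haveI : Flat i := Flat.of_stalkMap _ fun z => by
        haveI := H17.LocIm.isIso_stalkMap hi.1 z
        exact RingHom.Flat.of_bijective (ConcreteCategory.bijective_of_isIso _)
      infer_instance)
    (fun {X Y} _ _ g _ _ hg => Flat.of_stalkMap _ fun a => (key g a).1 (hg a))
    (fun {X Y} _ _ g _ _ => by
      rw [show {x : X | Flat (X.fromSpecStalk x ≫ g)} = {x | (g.stalkMap x).hom.Flat} from Set.ext (key g)]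
      haveI : LocallyOfFinitePresentation g := LocallyOfFinitePresentation.iff_locallyOfFiniteType.2 inferInstance
      exact Groth.Agent.S0386.result g) f
  exact ⟨h₂, h₃⟩

end Groth.Agent.S18213
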