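import Groth.Statements.S18227
import Groth.Agent.H3CAlg.KC.Iterated

set_option autoImplicit false
universe u
open GrSyz

namespace Groth.Agent.S18227

/-- Let k be an algebraically closed field, S = k[x_0, …, x_r] with its standard grading, 𝔪 = (x_0, …,
x_r) so that k = S/𝔪, and R a finitely generated ℤ-graded S-module. Put T^0(R) = R, T^1(R) =
Ker[R(−1) ⊗_k S_1 → R] (the kernel of (m_v) ↦ Σ_v x_v m_v on R(−1)^{r+1}) and T^i(R) =
T^{i−1}(T^1(R)); concretely T^i(R) is the module of R-valued functions m on words c of length i in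
the indices 0, …, r such that Σ_v x_v m(c with the letter in slot s replaced by v) = 0 for every
slot s and every word c, an element being homogeneous of degree j when all its values lie in
R_{j−i}; let d_i(R) be the least d such that T^i(R) is generated over S by elements of degree ≤ d.
Let p ≥ 0 and j an integer with j > p − i + d_i(R) for all 0 ≤ i ≤ p, that is: for every i ≤ p,
T^i(R) is generated over S by its homogeneous elements of degree ≤ j − p + i − 1. Then Tor_p^S(R,
k)_j = 0: every graded free resolution of R by finite-rank free modules with homogeneous bases which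
is minimal (all matrix entries in 𝔪) has no basis vector of degree j in its p-th term. -/
theorem result (k : Type u) [Field k] [IsAlgClosed k] (r : ℕ)
    (R : Type u) [AddCommGroup R] [Module k R] [Module (MvPolynomial (Fin (r + 1)) k) R]
    [IsScalarTower k (MvPolynomial (Fin (r + 1)) k) R] [Module.Finite (MvPolynomial (Fin (r + 1)) k) R]
    (ℛ : ℤ → Submodule k R) [DirectSum.Decomposition ℛ] [SetLike.GradedSMul (GrSyz.stdGr k (Fin (r + 1))) ℛ]
    (p : ℕ) (j : ℤ)
    (hgen : ∀ i : ℕ, i ≤ p → ∀ m : (Fin i → Fin (r + 1)) → R, (∀ (s : Fin i) (c : Fin i → Fin (r + 1)), ∑ v : Fin (r + 1), (MvPolynomial.X v : MvPolynomial (Fin (r + 1)) k) • m (Function.update c s v) = 0) →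
      m ∈ Submodule.span (MvPolynomial (Fin (r + 1)) k) {m' : (Fin i → Fin (r + 1)) → R |
        (∀ (s : Fin i) (c : Fin i → Fin (r + 1)), ∑ v : Fin (r + 1), (MvPolynomial.X v : MvPolynomial (Fin (r + 1)) k) • m' (Function.update c s v) = 0) ∧ ∃ e : ℤ, e ≤ j - (p : ℤ) + (i : ℤ) - 1 ∧ ∀ c : Fin i → Fin (r + 1), m' c ∈ ℛ (e - (i : ℤ))})
    (F : GrSyz.FreeRes (GrSyz.stdGr k (Fin (r + 1))) ℛ)
    (hF : F.IsMinimal (GrSyz.irrel (GrSyz.stdGr k (Fin (r + 1)))).toIdeal) :
    F.betti p j = 0 := by
  open Groth.Agent.H3CAlg.KC in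
  have h := ex_iterSyz ℛ p j (fun i hi m hm => hgen i hi m hm) p 0 (zero_add p)
  let φ : (iterSyz (k := k) (r := r) (M := R) 0) →ₗ[MvPolynomial (Fin (r + 1)) k] R :=
    (LinearMap.proj (R := MvPolynomial (Fin (r + 1)) k) (φ := fun _ : Fin 0 → Fin (r + 1) => R) Fin.elim0) ∘ₗ (iterSyz (k := k) (r := r) (M := R) 0).subtype
  have hq : (modHom (h₁ := iterPiece_smul ℛ 0) (h₂ := fun _ hy _ _ hz => smul_mem_piece ℛ hy hz) φ
      fun e z hz => by have := hz Fin.elim0; rwa [Nat.cast_zero, sub_zero] at this :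
        Hom (ofMod (Lv k r) (iterPiece (r := r) ℛ 0) (iterPiece_smul ℛ 0)) (modBC (r := r) ℛ)).IsQ := by
    refine isQ_of_bij ?_ ?_
    · intro a b hab
      refine Subtype.ext (funext fun c => ?_)
      rw [Subsingleton.elim c Fin.elim0]
      exact hab
    · intro n e z hz
      refine ⟨⟨fun _ => z, fun s => Fin.elim0 s⟩, mem_ofMod.mpr ⟨fun hn c => ?_, fun hn => ?_⟩, rfl⟩
      · simpa using (mem_ofMod.mp hz).1 hn
      · exact Subtype.ext (funext fun _ => (mem_ofMod.mp hz).2 hn)
  rw [ex_coneL_iff hq, ex_iff_deg F hF] at h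
  refine Finset.card_eq_zero.mpr (Finset.filter_eq_empty_iff.mpr fun b _ hb => h p b rfl ?_)
  rw [hb, sub_add_cancel]

end Groth.Agent.S18227
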