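import Groth.Statements.S18229
import Groth.Agent.H25AbCube.Simple


set_option autoImplicit false
set_option linter.style.haveILetI false
set_option backward.isDefEq.respectTransparency false
set_option synthInstance.maxHeartbeats 200000
universe u
open CategoryTheory CategoryTheory.Limits MonoidalCategory CartesianMonoidalCategory MonObj GrpObj AlgebraicGeometry
open AbVar

namespace Groth.Agent.S18229

/-- Let k be an algebraically closed field (any characteristic) and X a simple abelian variety over k: a
proper smooth k-group scheme with geometrically connected fibres whose only geometrically integral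
closed k-subgroup schemes are the trivial subgroup and X itself. Let G be an invertible O_X-module
which is effective and non-trivial: H^0(X, G) ≠ 0 and G is not isomorphic to O_X. Then G is ample.
(In other words, when the abelian variety is simple, any line bundle that is effective and not
trivial must be ample.) -/
theorem result (k : Type u) [Field k] [IsAlgClosed k]
    (X : Over (Spec (CommRingCat.of k))) [GrpObj X] [IsProper X.hom] [Smooth X.hom] [GeometricallyConnected X.hom]
    (hsimple : ∀ (B : Over (Spec (CommRingCat.of k))) [GrpObj B] [GeometricallyIntegral B.hom] (i : B ⟶ X) [IsMonHom i]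
      [IsClosedImmersion i.left], Subsingleton ↥B.left ∨ IsIso i)
    (G : X.left.Modules) (hG : PicF.IsInvertible G)
    (hsec : Nontrivial (Coh.HH X.left G 0)) (hne : ¬ Nonempty (G ≅ Coh.structureModule X.left)) :
    CohB1.IsAmple G := by
  haveI : GeometricallyIntegral X.hom := Groth.Agent.H25AbCube.geometricallyIntegral_of_smooth X
  haveI : IsIntegral X.left := GeometricallyIntegral.isIntegral_of_subsingleton X.hom
  haveI : IsLocallyNoetherian X.left := LocallyOfFiniteType.isLocallyNoetherian X.hom
  obtain ⟨g, hg⟩ := Groth.Agent.H29RR.exists_global_ne_zero G hsec
  exact Groth.Agent.H25AbCube.Stab.isAmple_of_simple hsimple hG g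
    (Groth.Agent.H25AbCube.Stab.gen_nonempty_of_ne_zero hG hg)
    (fun htop => hne (Groth.Agent.LeadBC.TrivInv.nonempty_iso_of_gen_eq_top g htop))

end Groth.Agent.S18229
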