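import Groth.Statements.S1823
import Groth.Agent.H4RSH.GlobalBidual

set_option autoImplicit false
universe u
open CategoryTheory CategoryTheory.Limits AlgebraicGeometry
attribute [local instance] HasDerivedCategory.standard
open Dual

namespace Groth.Agent.S1823

/-- Values in D_Coh and biduality, stated objectwise: Let X be a locally Noetherian scheme and K a
dualizing complex on X (exactness instances for restriction and tilde assumed). Let L be a complex
of O_X-modules with coherent cohomology sheaves, with − ⊗^L L and its right adjoint RSheafHom(L, −)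
assumed to exist. Then all cohomology sheaves of RSheafHom(L, K) are coherent, and for every complex
M representing RSheafHom(L, K) (with the same functors assumed for M) there is an isomorphism
RSheafHom(M, K) ≅ L in D(O_X). -/
theorem result (X : Scheme.{u}) [IsLocallyNoetherian X] [∀ (U : Scheme.{u}) (j : U ⟶ X) [IsOpenImmersion j], PreservesFiniteLimits (Scheme.Modules.restrictFunctor j)] [∀ (R : CommRingCat.{u}), PreservesFiniteLimits (tilde.functor R)] (K : DCoh.D X) (hK : Dual2.IsDualizingSch X K) (L : CochainComplex X.Modules ℤ) (hL : ∀ i : ℤ, Coh.IsCoh (DCoh.HD (DCoh.toD X L) i)) [DCoh.HasLTensorCx L] [DCoh.HasRSheafHom L] : (∀ i : ℤ, Coh.IsCoh (DCoh.HD ((DCoh.RSheafHom L).obj K) i)) ∧ ∀ (M : CochainComplex X.Modules ℤ) [DCoh.HasLTensorCx M] [DCoh.HasRSheafHom M], Nonempty (DCoh.toD X M ≅ (DCoh.RSheafHom L).obj K) → Nonempty ((DCoh.RSheafHom M).obj K ≅ DCoh.toD X L) := by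
  refine ⟨fun i => ?_, fun M _ _ hM => ?_⟩
  · exact Groth.Agent.H10Coh.isCoh_of_iso
      ((DerivedCategory.homologyFunctor _ i).mapIso ((Groth.Agent.H16Derived.Dual.rsheafHomIso L).app K).symm)
      (Groth.Agent.H4RSH.isCohD_R hK (k := DCoh.toD X L) hL i)
  · obtain ⟨eM⟩ := hM
    let eM' := eM ≪≫ (Groth.Agent.H16Derived.Dual.rsheafHomIso L).app K
    haveI := Groth.Agent.H4RSH.isIso_η hK (k := DCoh.toD X L) hL
    exact ⟨(Groth.Agent.H16Derived.Dual.rsheafHomIso M).app K ≪≫
      (Groth.Agent.H16Derived.Dual.RIso eM').app K ≪≫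
      (asIso (Groth.Agent.H4RSH.η K (DCoh.toD X L))).symm⟩

end Groth.Agent.S1823
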