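import Groth.Statements.S18231
import Groth.Agent.H15Magnet.Grad.LiftApp

set_option autoImplicit false
universe u
open CategoryTheory MonoidalCategory CartesianMonoidalCategory AlgebraicGeometry Opposite
open Magnet

set_option linter.style.haveILetI false
set_option backward.isDefEq.respectTransparency false
set_option backward.isDefEq.respectTransparency.types false

namespace Groth.Agent.S18231


/-- Let S be a scheme, M a finitely generated abelian group, N a submonoid of M, and let X, Y be
S-schemes with actions of the diagonalizable group scheme D(M)_S and f : X → Y an equivariant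
S-morphism which is smooth (formally smooth and locally of finite presentation). Then f^N : X^N →
Y^N is formally smooth as a transformation of functors on S-schemes: for every ring A, ideal I of A
with I² = 0 and structure morphism Spec A → S, writing T = Spec (A/I) ⊂ T' = Spec A, every x in
X^N(T) and y in Y^N(T') with f^N(x) = y|_T admit some l in X^N(T') with l|_T = x and f^N(l) = y.
(Stated for schemes; the published statement is for algebraic spaces over S.) -/
theorem result (S : Scheme.{u}) (M : Type) [AddCommGroup M] [AddGroup.FG M]
    (N : AddSubmonoid M) {X Y : Over S} (aX : Magnet.MonAct (Magnet.AMonS S M) X)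
    (aY : Magnet.MonAct (Magnet.AMonS S M) Y) (f : X ⟶ Y) (hf : Magnet.MonAct.IsEquivariant aX aY f)
    [Smooth f.left] (A : Type u) [CommRing A] (I : Ideal A) (hI : I ^ 2 = ⊥)
    (str : Spec (CommRingCat.of A) ⟶ S)
    (x : (Magnet.attr aX N).obj (op (Over.mk (Spec.map (CommRingCat.ofHom (Ideal.Quotient.mk I)) ≫ str))))
    (y : (Magnet.attr aY N).obj (op (Over.mk str)))
    (h : (Magnet.MonAct.eqvHom.postcomp (Magnet.subAct S M N) f hf).app _ x =
      (Magnet.attr aY N).map (Over.homMk (Spec.map (CommRingCat.ofHom (Ideal.Quotient.mk I))) rfl :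
        Over.mk (Spec.map (CommRingCat.ofHom (Ideal.Quotient.mk I)) ≫ str) ⟶ Over.mk str).op y) :
    ∃ l : (Magnet.attr aX N).obj (op (Over.mk str)),
      (Magnet.attr aX N).map (Over.homMk (Spec.map (CommRingCat.ofHom (Ideal.Quotient.mk I))) rfl :
        Over.mk (Spec.map (CommRingCat.ofHom (Ideal.Quotient.mk I)) ≫ str) ⟶ Over.mk str).op l = x ∧
      (Magnet.MonAct.eqvHom.postcomp (Magnet.subAct S M N) f hf).app _ l = y := by
  obtain ⟨l, h1, h2⟩ := Groth.Agent.H15Magnet.Grad.exists_lift_postcomp aX aY f hf
    ((Groth.Agent.S1488.result f.left).1 inferInstance).2 str hI x y (congrArg Subtype.val h)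
  exact ⟨l, Subtype.ext h1, h2⟩

end Groth.Agent.S18231
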