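import Groth.Statements.S18233
import Groth.Agent.H15Magnet.Grad.LimitPresApp
import Groth.Agent.H15Magnet.Grad.LiftApp

set_option autoImplicit false
set_option linter.style.haveILetI false
set_option backward.isDefEq.respectTransparency false
set_option backward.isDefEq.respectTransparency.types false
universe u
open CategoryTheory MonoidalCategory CartesianMonoidalCategory AlgebraicGeometry Opposite
open Magnet

namespace Groth.Agent.S18233

/-- Let S be a scheme, M a finitely generated abelian group, N a submonoid of M, X and Y schemes over S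
with actions of the diagonalizable group scheme D(M)_S, and f : X → Y a smooth equivariant
S-morphism. If the attractors X^N and Y^N are represented by S-schemes Z_X and Z_Y, and j : Z_X →
Z_Y is the S-morphism that corresponds to f^N : X^N → Y^N under the two representing bijections,
then j is smooth. (Stated for schemes; the published statement is for algebraic spaces over S and
representability by algebraic spaces.) -/
theorem result (S : Scheme.{u}) (M : Type) [AddCommGroup M] [AddGroup.FG M]
    (N : AddSubmonoid M) {X Y : Over S} (aX : Magnet.MonAct (Magnet.AMonS S M) X)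
    (aY : Magnet.MonAct (Magnet.AMonS S M) Y) (f : X ⟶ Y) (hf : Magnet.MonAct.IsEquivariant aX aY f)
    [Smooth f.left] {ZX ZY : Over S} (eX : (Magnet.attr aX N).RepresentableBy ZX) (eY : (Magnet.attr aY N).RepresentableBy ZY)
    (j : ZX ⟶ ZY) (hj : ∀ (T : Over S) (z : T ⟶ ZX),
      eY.homEquiv (z ≫ j) = (Magnet.MonAct.eqvHom.postcomp (Magnet.subAct S M N) f hf).app (op T) (eX.homEquiv z)) :
    Smooth j.left := by
  haveI := Groth.Agent.H15Magnet.Grad.isAffineHom_amonS S M
  haveI := Groth.Agent.H15Magnet.Grad.isAffineHom_amonS S N
  haveI : LocallyOfFinitePresentation f.left := ((Groth.Agent.S1488.result f.left).1 inferInstance).1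
  refine (Groth.Agent.S1488.result j.left).2
    ⟨Groth.Agent.H15Magnet.Grad.lfp_of_representsPostcomp f hf eX eY j hj, fun A _ I hI a b hab => ?_⟩
  let str : Spec (CommRingCat.of A) ⟶ S := b ≫ ZY.hom
  let za : Groth.Agent.H15Magnet.PB str (Ideal.Quotient.mk I) ⟶ ZX := Over.homMk a (by
    show a ≫ ZX.hom = Spec.map _ ≫ b ≫ ZY.hom
    rw [← Category.assoc, hab, Category.assoc, Over.w j])
  let zb : Over.mk str ⟶ ZY := Over.homMk b rfl
  have h : za ≫ j = Groth.Agent.H15Magnet.Grad.jI str I ≫ zb := Over.OverMorphism.ext hab.symm
  obtain ⟨l, hl1, hl2⟩ := Groth.Agent.H15Magnet.Grad.exists_lift_postcomp aX aY f hf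
    ((Groth.Agent.S1488.result f.left).1 inferInstance).2 str hI (eX.homEquiv za) (eY.homEquiv zb) (by
      show ((MonAct.eqvHom.postcomp (subAct S M N) f hf).app _ (eX.homEquiv za)).1 = _
      rw [← hj, h, eY.homEquiv_comp]
      rfl)
  refine ⟨(eX.homEquiv.symm l).left, ?_, ?_⟩
  · have e : Groth.Agent.H15Magnet.Grad.jI str I ≫ eX.homEquiv.symm l = za := by
      apply eX.homEquiv.injective
      rw [eX.homEquiv_comp, Equiv.apply_symm_apply]
      exact Subtype.ext hl1
    exact congrArg CommaMorphism.left e
  · have e : eX.homEquiv.symm l ≫ j = zb := by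
      apply eY.homEquiv.injective
      rw [hj, Equiv.apply_symm_apply, hl2]
    exact congrArg CommaMorphism.left e

end Groth.Agent.S18233
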