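import Groth.Statements.S18235
import Groth.Agent.H15Magnet.Grad.Open

set_option autoImplicit false
universe u
open CategoryTheory MonoidalCategory CartesianMonoidalCategory AlgebraicGeometry Opposite
open Magnet

set_option linter.style.haveILetI false
set_option linter.unusedVariables false
set_option backward.isDefEq.respectTransparency false
set_option backward.isDefEq.respectTransparency.types false

namespace Groth.Agent.S18235

open Groth.Agent.H15Magnet in
set_option maxHeartbeats 2000000 in

/-- Let S be a scheme, M a finitely generated abelian group, N a submonoid of M, X and Y schemes locally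
of finite presentation over S with actions of the diagonalizable group scheme D(M)_S, and f : X → Y
an equivariant S-morphism which is an open immersion. If the attractors X^N and Y^N are represented
by S-schemes Z_X and Z_Y, and j : Z_X → Z_Y is the S-morphism that corresponds to f^N under the two
representing bijections, then j is an open immersion. (Stated for schemes; the published statement
is for algebraic spaces over S.) -/
theorem result (S : Scheme.{u}) (M : Type) [AddCommGroup M]
    [AddGroup.FG M] (N : AddSubmonoid M) {X Y : Over S} [LocallyOfFinitePresentation X.hom]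
    [LocallyOfFinitePresentation Y.hom] (aX : Magnet.MonAct (Magnet.AMonS S M) X)
    (aY : Magnet.MonAct (Magnet.AMonS S M) Y) (f : X ⟶ Y) (hf : Magnet.MonAct.IsEquivariant aX aY f)
    [IsOpenImmersion f.left] {ZX ZY : Over S} (eX : (Magnet.attr aX N).RepresentableBy ZX) (eY : (Magnet.attr aY N).RepresentableBy ZY)
    (j : ZX ⟶ ZY) (hj : ∀ (T : Over S) (z : T ⟶ ZX),
      eY.homEquiv (z ≫ j) = (Magnet.MonAct.eqvHom.postcomp (Magnet.subAct S M N) f hf).app (op T) (eX.homEquiv z)) :
    IsOpenImmersion j.left := by
  let Zg : AddSubgroup M :=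
    { unitFace N with
      neg_mem' := fun {m} hm => by
        obtain ⟨h, y, hy, hxy⟩ := hm
        have : y = -m := eq_neg_of_add_eq_zero_right hxy
        exact ⟨this ▸ hy, m, h, by simp⟩ }
  have hF := isFace_unitFace N
  let U : Y.left.Opens := f.left.opensRange
  have hst : Grad.Stable aY U := by
    intro t ht
    obtain ⟨w, hw⟩ : f.left.opensRange.1 ((snd (AMonS S M) Y).left t) := ht
    have hsq : CategoryTheory.IsPullback (snd (AMonS S M) X).left (AMonS S M ◁ f).left f.left
        (snd (AMonS S M) Y).left := by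
      refine CategoryTheory.IsPullback.of_bot (v₂₁ := (fst (AMonS S M) Y).left) (v₂₂ := Y.hom)
        (h₃₁ := (AMonS S M).hom) ?_ ?_ (CategoryTheory.IsPullback.of_hasPullback (AMonS S M).hom Y.hom).flip
      · rw [← Over.comp_left, whiskerLeft_fst, Over.w f]
        exact (CategoryTheory.IsPullback.of_hasPullback (AMonS S M).hom X.hom).flip
      · show (snd (AMonS S M) X).left ≫ f.left = (AMonS S M ◁ f).left ≫ (snd (AMonS S M) Y).left
        rw [← Over.comp_left, ← Over.comp_left, whiskerLeft_snd]
    obtain ⟨v, -, hv⟩ := Scheme.Pullback.exists_preimage_pullback (f := f.left)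
      (g := (snd (AMonS S M) Y).left) w t hw
    refine ⟨aX.act.left (hsq.isoPullback.inv v), ?_⟩
    rw [← Scheme.Hom.comp_apply, ← Over.comp_left, show aX.act ≫ f = (AMonS S M ◁ f) ≫ aY.act from hf,
      Over.comp_left, Scheme.Hom.comp_apply]
    refine congrArg aY.act.left ?_
    rw [← Scheme.Hom.comp_apply, CategoryTheory.IsPullback.isoPullback_inv_snd, hv]
  haveI : Mono f := (Over.forget S).mono_of_mono_map (show Mono f.left from inferInstance)
  let q := MonAct.eqvHom.postcomp (subAct S M N) f hf
  have hinj : ∀ T, Function.Injective (q.app (op T)) := fun T ψ ψ' h =>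
    Subtype.ext ((cancel_mono f).1 (congrArg Subtype.val h))
  have hpost : ∀ (T : Over S) (φ : (attr aY N).obj (op T)), (∃ ψ, q.app (op T) ψ = φ) ↔ ∀ z, φ.1.left z ∈ U := by
    intro T φ
    constructor
    · rintro ⟨ψ, rfl⟩ z
      exact ⟨ψ.1.left z, rfl⟩
    · intro h
      have hr : Set.range φ.1.left ⊆ Set.range f.left := by
        rintro _ ⟨z, rfl⟩
        exact h z
      let ψ : AMonS S N ⊗ T ⟶ X := Over.homMk (IsOpenImmersion.lift f.left _ hr) (by
        rw [← Over.w f, IsOpenImmersion.lift_fac_assoc]
        exact Over.w φ.1)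
      have hψ : ψ ≫ f = φ.1 := Over.OverMorphism.ext (IsOpenImmersion.lift_fac _ _ hr)
      refine ⟨⟨ψ, ?_⟩, Subtype.ext hψ⟩
      rw [MonAct.mem_eqvHom_iff]
      intro T' g b t
      rw [← cancel_mono f, Category.assoc, hψ, Category.assoc]
      rw [(MonAct.mem_eqvHom_iff φ.1).1 φ.2 T' g b t, (MonAct.isEquivariant_iff aX aY f).1 hf, Category.assoc, hψ]
  let lim : ZY ⟶ Y := (attrToX aY (unitFace N)).app (op ZY) ((attrFace aY hF).app (op ZY) (eY.homEquiv (𝟙 ZY)))
  have hlim : ∀ (T : Over S) (p : T ⟶ ZY),
      (attrToX aY (unitFace N)).app (op T) ((attrFace aY hF).app (op T) (eY.homEquiv p)) = p ≫ lim := fun T p => by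
    rw [show eY.homEquiv p = (attr aY N).map p.op (eY.homEquiv (𝟙 ZY)) by
      rw [← eY.homEquiv_comp, Category.comp_id]]
    let φ : (attr aY N).obj (op ZY) := eY.homEquiv (𝟙 ZY)
    have e1 : (attrFace aY hF).app (op T) ((attr aY N).map p.op φ) =
        (attr aY (unitFace N)).map p.op ((attrFace aY hF).app (op ZY) φ) := by
      apply Subtype.ext
      show (AMonS.faceMap S hF ▷ T) ≫ (AMonS S N ◁ p) ≫ φ.1 = (AMonS S (unitFace N) ◁ p) ≫ (AMonS.faceMap S hF ▷ ZY) ≫ φ.1
      exact (whisker_exchange_assoc (AMonS.faceMap S hF) p φ.1).symm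
    exact (congrArg (fun v => (attrToX aY (unitFace N)).app (op T) v) e1).trans
      (toX_map aY (unitFace N) p ((attrFace aY hF).app (op ZY) φ))
  obtain ⟨i, hi⟩ := Grad.exists_iso_open q hinj eX eY (lim.left ⁻¹ᵁ U) fun T p => by
    rw [hpost]
    constructor
    · intro h
      refine Grad.mem_of_face_mem aY hF hst _ (Grad.orbit_mem aY hst Zg ((attrFace aY hF).app (op T) (eY.homEquiv p))
        fun t => ?_)
      show ((attrToX aY (unitFace N)).app (op T) ((attrFace aY hF).app (op T) (eY.homEquiv p))).left t ∈ U
      rw [hlim, Over.comp_left, Scheme.Hom.comp_apply]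
      exact h t
    · intro h t
      show lim.left (p.left t) ∈ U
      rw [← Scheme.Hom.comp_apply, ← Over.comp_left, ← hlim]
      exact h _
  have hjeq : j = eY.homEquiv.symm (q.app (op ZX) (eX.homEquiv (𝟙 ZX))) := by
    rw [Equiv.eq_symm_apply]
    have := hj ZX (𝟙 ZX)
    rwa [Category.id_comp] at this
  rw [hjeq, ← hi]
  infer_instance

end Groth.Agent.S18235
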