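import Groth.Statements.S18236
import Groth.Agent.H15Magnet.Factor

set_option autoImplicit false
set_option linter.style.haveILetI false
set_option backward.isDefEq.respectTransparency false
set_option backward.isDefEq.respectTransparency.types false
set_option maxHeartbeats 1000000
universe u
open CategoryTheory MonoidalCategory CartesianMonoidalCategory AlgebraicGeometry Opposite
open Magnet

namespace Groth.Agent.S18236

open CategoryTheory.Limits in
/-- A morphism out of `W × T` factors through a closed immersion if it does so locally on `T`. -/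
theorem exists_factor_of_local {S : Scheme.{u}} {W T X Y : Over S} (f : X ⟶ Y) [Mono f.left] (g : W ⊗ T ⟶ Y)
    (h : ∀ (R : Type u) [CommRing R] (str : Spec (CommRingCat.of R) ⟶ S) (j : Over.mk str ⟶ T),
      ∃ ψ : W ⊗ Over.mk str ⟶ X, ψ ≫ f = (W ◁ j) ≫ g) :
    ∃ ψ : W ⊗ T ⟶ X, ψ ≫ f = g := by
  let 𝒰 := T.left.affineCover
  let p : (W ⊗ T).left ⟶ T.left := (snd W T).left
  let 𝒱 : (W ⊗ T).left.OpenCover := 𝒰.pullback₁ p
  have key : ∀ i : 𝒱.I₀, ∃ q : 𝒱.X i ⟶ X.left, q ≫ f.left = 𝒱.f i ≫ g.left := by
    intro i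
    obtain ⟨R, hR⟩ : ∃ R : CommRingCat.{u}, 𝒰.X i = Spec R := ⟨_, rfl⟩
    let a : Spec R ⟶ T.left := eqToHom hR.symm ≫ 𝒰.f i
    let j : Over.mk (a ≫ T.hom) ⟶ T := Over.homMk a rfl
    obtain ⟨ψ, hψ⟩ := h R (a ≫ T.hom) j
    have w1 : (pullback.fst p (𝒰.f i) ≫ (fst W T).left) ≫ W.hom =
        (pullback.snd p (𝒰.f i) ≫ eqToHom hR) ≫ a ≫ T.hom := by
      simp only [a, Category.assoc, eqToHom_trans_assoc, eqToHom_refl, Category.id_comp]
      rw [← pullback.condition_assoc]
      exact congrArg (pullback.fst p (𝒰.f i) ≫ ·) pullback.condition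
    let e : pullback p (𝒰.f i) ⟶ (W ⊗ Over.mk (a ≫ T.hom)).left := pullback.lift _ _ w1
    refine ⟨e ≫ ψ.left, ?_⟩
    rw [Category.assoc, ← Over.comp_left, hψ, Over.comp_left, ← Category.assoc]
    congr 1
    show e ≫ (W ◁ j).left = pullback.fst p (𝒰.f i)
    apply pullback.hom_ext
    · rw [Category.assoc, Over.whiskerLeft_left_fst]
      exact pullback.lift_fst _ _ _
    · rw [Category.assoc, Over.whiskerLeft_left_snd]
      refine (pullback.lift_snd_assoc _ _ _ _).trans ?_
      show (pullback.snd p (𝒰.f i) ≫ eqToHom hR) ≫ eqToHom hR.symm ≫ 𝒰.f i = _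
      simp only [Category.assoc, eqToHom_trans_assoc, eqToHom_refl, Category.id_comp]
      exact pullback.condition.symm
  choose q hq using key
  let ψ₀ := 𝒱.glueMorphisms q fun i k => by
    rw [← cancel_mono f.left, Category.assoc, Category.assoc, hq, hq, pullback.condition_assoc]
  have hψ₀ : ψ₀ ≫ f.left = g.left := 𝒱.hom_ext _ _ fun i => by
    rw [← Category.assoc, Scheme.Cover.ι_glueMorphisms, hq]
  exact ⟨Over.homMk ψ₀ (by rw [← Over.w f, ← Category.assoc, hψ₀, Over.w g]), Over.OverMorphism.ext hψ₀⟩


/-- Let S be a scheme, M a finitely generated abelian group, N a submonoid of M and Z = N* its subgroup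
of invertible elements; let X and Y be schemes locally of finite presentation over S with actions of
the diagonalizable group scheme D(M)_S, and f : X → Y an equivariant S-morphism which is a closed
immersion. Assume that Y admits an N*-FPR atlas: an equivariant, étale and surjective g : U → Y
where U is a disjoint union of D(M)_S-stable open subschemes each affine over S, such that for the
actions restricted along D(M/Z)_S → D(M)_S the square of fixed-point subfunctors U^{D(M/Z)} →
Y^{D(M/Z)} over U → Y is cartesian; assume also that N is finitely generated or X is separated over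
S. Then the commutative square with top f^N : X^N → Y^N, sides the evaluation maps X^N → X and Y^N →
Y at the unit section, and bottom f is cartesian, i.e. X^N = Y^N ×_Y X as functors on S-schemes (so
that f^N is a closed immersion whenever X^N and Y^N are representable). (Stated for schemes; the
published statement is for algebraic spaces over S.) -/
theorem result (S : Scheme.{u}) (M : Type)
    [AddCommGroup M] [AddGroup.FG M] (N : AddSubmonoid M) (Z : AddSubgroup M)
    (hZ : ∀ m : M, m ∈ Z ↔ (m ∈ N ∧ -m ∈ N)) {X Y : Over S} [LocallyOfFinitePresentation X.hom]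
    [LocallyOfFinitePresentation Y.hom] (aX : Magnet.MonAct (Magnet.AMonS S M) X)
    (aY : Magnet.MonAct (Magnet.AMonS S M) Y) (f : X ⟶ Y) (hf : Magnet.MonAct.IsEquivariant aX aY f)
    [IsClosedImmersion f.left] (U : Over S) (aU : Magnet.MonAct (Magnet.AMonS S M) U) (g : U ⟶ Y)
    (hg : Magnet.MonAct.IsEquivariant aU aY g) [Etale g.left] [Surjective g.left]
    (ι : Type u) (V : ι → U.left.Opens) (hVd : ∀ i i', i ≠ i' → Disjoint (V i) (V i'))
    (hVc : ⨆ i, V i = ⊤) (hVa : ∀ i, IsAffineHom ((V i).ι ≫ U.hom))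
    (hVs : ∀ i, (CartesianMonoidalCategory.snd (Magnet.AMonS S M) U).left ⁻¹ᵁ (V i) ≤ aU.act.left ⁻¹ᵁ (V i))
    (hgZ : Magnet.MonAct.IsEquivariant (aU.restrict (Magnet.AMonS.map S (QuotientAddGroup.mk' Z))) (aY.restrict (Magnet.AMonS.map S (QuotientAddGroup.mk' Z))) g)
    (hfpr : IsPullback (Magnet.MonAct.fixedPsh.map g hgZ)
      (Magnet.MonAct.fixedPshι (aU.restrict (Magnet.AMonS.map S (QuotientAddGroup.mk' Z))))
      (Magnet.MonAct.fixedPshι (aY.restrict (Magnet.AMonS.map S (QuotientAddGroup.mk' Z)))) (yoneda.map g))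
    (hc : N.FG ∨ IsSeparated X.hom) :
    IsPullback (Magnet.MonAct.eqvHom.postcomp (Magnet.subAct S M N) f hf) (Magnet.attrToX aX N)
      (Magnet.attrToX aY N) (yoneda.map f) := by
  haveI : Mono f := (Over.forget S).mono_of_mono_map (by dsimp; infer_instance)
  refine IsPullback.of_forall_isPullback_app fun T => ?_
  rw [Limits.Types.isPullback_iff]
  refine ⟨?_, fun φ φ' h => Subtype.ext ((cancel_mono f).1 (congrArg Subtype.val h.1)), fun φ z h => ?_⟩
  · refine ConcreteCategory.hom_ext _ _ fun φ => ?_
    change (_ ≫ (φ.1 ≫ f)) = ((_ ≫ φ.1) ≫ f)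
    exact (Category.assoc _ _ _).symm
  · induction T with
    | op T =>
      obtain ⟨ψ, hψ⟩ := exists_factor_of_local f φ.1 fun R _ str j => by
        let φj := (attr aY N).map j.op φ
        have hj : (attrToX aY N).app (op (Over.mk str)) φj = j ≫ z ≫ f :=
          (Groth.Agent.H15Magnet.toX_map aY N j φ).trans (congrArg (j ≫ ·) h)
        have ho := Groth.Agent.H15Magnet.factor_of_eq aY N _ φj _ hj
        have hω : ((AMonS S M ◁ (j ≫ z)) ≫ aX.act) ≫ f = (AMonS.map S N.subtype ▷ _) ≫ φj.1 := by
          rw [ho, Category.assoc, hf, ← MonoidalCategory.whiskerLeft_comp_assoc, Category.assoc]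
        exact Groth.Agent.H15Magnet.exists_factor_closed f str N.subtype Subtype.val_injective φj.1 _ hω
      have hψe : MonAct.IsEquivariant ((subAct S M N).prod (MonAct.trivial (AMonS S M) T)) aX ψ := by
        have e := φ.2
        rw [MonAct.IsEquivariant] at e ⊢
        rw [← cancel_mono f, Category.assoc, Category.assoc, hψ, e, hf,
          ← MonoidalCategory.whiskerLeft_comp_assoc, hψ]
      refine ⟨⟨ψ, hψe⟩, Subtype.ext hψ, (cancel_mono f).1 ?_⟩
      refine Eq.trans ?_ h
      exact (Category.assoc _ _ _).trans (congrArg (_ ≫ ·) hψ)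

end Groth.Agent.S18236
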