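import Groth.Statements.S18237
import Groth.Agent.H15Magnet.RangeSingle
import Groth.Agent.H15Magnet.WeightsGlobal

set_option autoImplicit false
set_option linter.style.haveILetI false
set_option backward.isDefEq.respectTransparency false
universe u
open CategoryTheory MonoidalCategory CartesianMonoidalCategory AlgebraicGeometry Opposite
open Magnet

namespace Groth.Agent.S18237

/-- Let S be a quasi-compact scheme, M a finitely generated abelian group, X a scheme which is
quasi-compact, separated and locally of finite presentation over S with an action of the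
diagonalizable group scheme D(M)_S, and N a submonoid of M with subgroup of invertible elements Z =
N*. Assume X admits an S-affine N*-FPR atlas: an equivariant, étale and surjective g : U → X with U
affine over S such that, for the actions restricted along D(M/Z)_S → D(M)_S, the square of
fixed-point subfunctors U^{D(M/Z)} → X^{D(M/Z)} over U → X is cartesian. Then there is a finitely
generated submonoid N_c of N with the same invertible elements as N such that the canonical map of
attractors X^{N_c} → X^N is an isomorphism of functors. (Stated for schemes, the published statement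
being for algebraic spaces. The published statement assumes only M finitely generated and X → S
quasi-compact and separated; it fails without X locally of finite presentation over S or without S
quasi-compact, so this row assumes both, and it assumes an S-affine N*-FPR atlas, which the
published argument obtains from a general existence result.) -/
theorem result (S : Scheme.{u}) [CompactSpace S] (M : Type)
    [AddCommGroup M] [AddGroup.FG M] {X : Over S} [QuasiCompact X.hom] [IsSeparated X.hom]
    [LocallyOfFinitePresentation X.hom] (a : Magnet.MonAct (Magnet.AMonS S M) X) (N : AddSubmonoid M)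
    (Z : AddSubgroup M) (hZ : ∀ m : M, m ∈ Z ↔ (m ∈ N ∧ -m ∈ N)) (U : Over S) [IsAffineHom U.hom]
    (aU : Magnet.MonAct (Magnet.AMonS S M) U) (g : U ⟶ X) (hg : Magnet.MonAct.IsEquivariant aU a g)
    [Etale g.left] [Surjective g.left]
    (hgZ : Magnet.MonAct.IsEquivariant (aU.restrict (Magnet.AMonS.map S (QuotientAddGroup.mk' Z))) (a.restrict (Magnet.AMonS.map S (QuotientAddGroup.mk' Z))) g)
    (hfpr : IsPullback (Magnet.MonAct.fixedPsh.map g hgZ)
      (Magnet.MonAct.fixedPshι (aU.restrict (Magnet.AMonS.map S (QuotientAddGroup.mk' Z))))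
      (Magnet.MonAct.fixedPshι (a.restrict (Magnet.AMonS.map S (QuotientAddGroup.mk' Z)))) (yoneda.map g)) :
    ∃ (Nc : AddSubmonoid M) (h : Nc ≤ N), Nc.FG ∧ (∀ m : M, (m ∈ Nc ∧ -m ∈ Nc) ↔ (m ∈ N ∧ -m ∈ N)) ∧
      IsIso (Magnet.attrMap a h) := by
  classical
  haveI : LocallyOfFinitePresentation U.hom := by rw [← Over.w g]; infer_instance
  obtain ⟨E₀, key⟩ := Groth.Agent.H15Magnet.exists_finset_weights_global S aU
  have hQ : Magnet.IsFace N Z.toAddSubmonoid := by
    refine ⟨fun m hm => ((hZ m).1 hm).1, fun x hx y hy h => ?_⟩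
    obtain ⟨-, hneg⟩ := (hZ _).1 h
    refine ⟨(hZ x).2 ⟨hx, ?_⟩, (hZ y).2 ⟨hy, ?_⟩⟩
    · have := N.add_mem hy hneg
      rwa [neg_add_rev, add_neg_cancel_left] at this
    · have := N.add_mem hx hneg
      rwa [neg_add_rev, add_comm (-y), add_neg_cancel_left] at this
  obtain ⟨gZ, hgZs⟩ : Z.toAddSubmonoid.FG := by
    haveI : Module.Finite ℤ M := Module.Finite.iff_addGroup_fg.2 inferInstance
    exact (AddSubgroup.fg_iff_addSubmonoid_fg Z).1 ((Submodule.fg_iff_addSubgroup_fg _).1 (IsNoetherian.noetherian Z.toIntSubmodule))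
  let Nc : AddSubmonoid M := AddSubmonoid.closure ((gZ ∪ E₀.filter (· ∈ N) : Finset M) : Set M)
  have hle : Nc ≤ N := AddSubmonoid.closure_le.2 fun m hm => by
    rcases Finset.mem_union.1 hm with h | h
    · exact hQ.1 (hgZs ▸ AddSubmonoid.subset_closure h : m ∈ Z.toAddSubmonoid)
    · exact (Finset.mem_filter.1 h).2
  have hZc : Z.toAddSubmonoid ≤ Nc := by
    rw [← hgZs]
    exact AddSubmonoid.closure_mono fun m hm => Finset.mem_union_left _ hm
  refine ⟨Nc, hle, ⟨_, rfl⟩, fun m => ⟨fun h => ⟨hle h.1, hle h.2⟩, fun h =>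
    ⟨hZc ((hZ m).2 h), hZc ((hZ (-m)).2 ⟨h.2, by rw [neg_neg]; exact h.1⟩)⟩⟩, ?_⟩
  suffices ∀ T, IsIso ((Magnet.attrMap a hle).app T) from NatIso.isIso_of_isIso_app _
  intro T
  refine (isIso_iff_bijective _).2 ⟨Groth.Agent.H15Magnet.EtaleFace.attrMap_injective a hle T.unop, fun φ => ?_⟩
  obtain ⟨ψ, hψ⟩ := Groth.Agent.H15Magnet.range_subset_single S M a U aU g hg N Nc Z hQ hgZ hfpr
    (fun T' => fun x hx => key N Nc (fun m hm => ⟨fun hmN =>
      AddSubmonoid.subset_closure (Finset.mem_union_right _ (Finset.mem_filter.2 ⟨hm, hmN⟩)), fun h => hle h⟩) T' x hx)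
    T.unop φ
  exact ⟨ψ, Groth.Agent.H15Magnet.attrToX_injective a N T.unop
    ((Groth.Agent.H15Magnet.attrMap_comp_attrToX a hle T.unop ψ).trans hψ)⟩

end Groth.Agent.S18237
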