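import Groth.Statements.S18238
import Groth.Agent.H11Misc.GradedSmooth
import Mathlib.Algebra.MonoidAlgebra.Grading

set_option autoImplicit false
universe u
open DiagMon

namespace Groth.Agent.S18238

/-- Let R be a commutative ring and N a fine and sharp commutative monoid (finitely generated,
cancellative, and 0 its only invertible element). If the diagonalizable monoid scheme A(N)_R = Spec
R[N] is smooth over Spec R, then it is a vector bundle over Spec R: the monoid algebra R[N] is
isomorphic as an R-algebra to the symmetric algebra of a finitely generated projective R-module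
(existence of such a module and isomorphism). (Affine base; the published statement is over an
arbitrary base scheme S.) -/
theorem result (R : Type u) [CommRing R] (N : Type)
    [AddCommMonoid N] [AddMonoid.FG N] [IsCancelAdd N] (hsharp : ∀ n : N, IsAddUnit n → n = 0)
    [Algebra.Smooth R (AddMonoidAlgebra R N)] :
    ∃ (P : Type u) (_ : AddCommGroup P) (_ : Module R P), Module.Finite R P ∧ Module.Projective R P ∧
      Nonempty (AddMonoidAlgebra R N ≃ₐ[R] SymmetricAlgebra R P) := by
  classical
  let χ : Multiplicative N →* R :=
    { toFun := fun n => if n.toAdd = 0 then 1 else 0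
      map_one' := by simp
      map_mul' := fun a b => by
        by_cases h : (a * b).toAdd = 0
        · have ha : a.toAdd = 0 := hsharp _ (isAddUnit_iff_exists_neg.2 ⟨b.toAdd, h⟩)
          have hb : b.toAdd = 0 := by rw [toAdd_mul, ha, zero_add] at h; exact h
          simp [ha, hb]
        · rw [toAdd_mul] at h
          by_cases ha : a.toAdd = 0
          · simp only [ha, zero_add] at h
            simp [ha, h]
          · simp [ha, h] }
  let r : AddMonoidAlgebra R N →ₐ[R] R := AddMonoidAlgebra.lift R R N χ
  refine H11Misc.exists_equiv_symmetricAlgebra (R := R) (AddMonoidAlgebra.grade R : N → Submodule R (AddMonoidAlgebra R N)) hsharp r fun x => ?_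
  induction x using AddMonoidAlgebra.induction_linear with
  | zero => simp
  | single n c =>
    rw [GradedRing.proj_apply, AddMonoidAlgebra.grade.decompose_single]
    simp only [r, AddMonoidAlgebra.lift_single, χ, MonoidHom.coe_mk, OneHom.coe_mk, toAdd_ofAdd, smul_eq_mul]
    rcases eq_or_ne n 0 with rfl | h
    · simp [AddMonoidAlgebra.algebraMap_def]
    · simp [h, DirectSum.of_eq_of_ne _ _ _ h.symm]
  | add x y hx hy => rw [map_add, map_add, map_add, hx, hy]

end Groth.Agent.S18238
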