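import Groth.Statements.S18239
import Groth.Agent.H11Misc.GradedSmooth

set_option autoImplicit false
universe u
open DiagMon

namespace Groth.Agent.S18239

/-- Let R be a commutative ring, N a fine and sharp commutative monoid (finitely generated,
cancellative, and 0 its only invertible element) and A a commutative R-algebra graded by N which is
smooth over R. Then A is isomorphic, as an algebra over its degree-zero part A_0, to the symmetric
algebra of a finitely generated projective A_0-module; that is, Spec A → Spec A_0 is a vector bundle
whose zero section is the closed subscheme Spec A_0 cut out by the elements of non-zero degree.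
(This is the affine, graded form of the statement that for a smooth S-scheme X with a
Zariski-locally linearizable action of a diagonalizable group D(M)_S and a finitely generated
submonoid N of M the map from the attractor X^N to X^{N*} is a vector bundle: here the base is
affine, N* = 0, and X = Spec A equals its own attractor X^N, an N-grading of A being an action of
the monoid scheme of N; the fixed-point scheme X^0 is Spec A_0.) -/
theorem result (R : Type u) [CommRing R] (A : Type u)
    [CommRing A] [Algebra R A] (N : Type) [AddCommMonoid N] [DecidableEq N] [AddMonoid.FG N] [IsCancelAdd N]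
    (hsharp : ∀ n : N, IsAddUnit n → n = 0) (𝒜 : N → Submodule R A) [GradedAlgebra 𝒜]
    [Algebra.Smooth R A] :
    ∃ (P : Type u) (_ : AddCommGroup P) (_ : Module (𝒜 0) P), Module.Finite (𝒜 0) P ∧
      Module.Projective (𝒜 0) P ∧ Nonempty (A ≃ₐ[𝒜 0] SymmetricAlgebra (𝒜 0) P) := by
  let r : A →ₐ[𝒜 0] 𝒜 0 :=
    { toFun := fun x => DirectSum.decompose 𝒜 x 0
      map_one' := Subtype.ext (DirectSum.decompose_of_mem_same 𝒜 (SetLike.one_mem_graded 𝒜))
      map_mul' := fun x y => Subtype.ext (by
        show GradedRing.proj 𝒜 0 (x * y) = GradedRing.proj 𝒜 0 x * GradedRing.proj 𝒜 0 y
        induction x using DirectSum.Decomposition.inductionOn 𝒜 with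
        | zero => simp
        | @homogeneous i x =>
          induction y using DirectSum.Decomposition.inductionOn 𝒜 with
          | zero => simp
          | @homogeneous j y =>
            simp only [GradedRing.proj_apply]
            rcases eq_or_ne (i + j) 0 with h | h
            · obtain rfl := hsharp i (isAddUnit_iff_exists_neg.2 ⟨j, h⟩)
              rw [zero_add] at h
              subst h
              rw [DirectSum.decompose_of_mem_same 𝒜 (by simpa using SetLike.mul_mem_graded x.2 y.2),
                DirectSum.decompose_of_mem_same 𝒜 x.2, DirectSum.decompose_of_mem_same 𝒜 y.2]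
            · rw [DirectSum.decompose_of_mem_ne 𝒜 (SetLike.mul_mem_graded x.2 y.2) h]
              rcases eq_or_ne i 0 with rfl | hi
              · rw [DirectSum.decompose_of_mem_ne 𝒜 y.2 (by simpa using h), mul_zero]
              · rw [DirectSum.decompose_of_mem_ne 𝒜 x.2 hi, zero_mul]
          | add y y' hy hy' => rw [mul_add, map_add, map_add, hy, hy', mul_add]
        | add x x' hx hx' => rw [add_mul, map_add, map_add, hx, hx', add_mul])
      map_zero' := by simp
      map_add' := fun x y => by simp
      commutes' := fun c => Subtype.ext (DirectSum.decompose_of_mem_same 𝒜 c.2) }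
  haveI : IsScalarTower R (𝒜 0) A := IsScalarTower.of_algebraMap_eq fun x => rfl
  exact H11Misc.exists_equiv_symmetricAlgebra (R := R) 𝒜 hsharp r fun x => rfl

end Groth.Agent.S18239
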