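import Groth.Statements.S18240
import Groth.Agent.H15Magnet.Grad.LiftFace

set_option autoImplicit false
universe u
open CategoryTheory MonoidalCategory CartesianMonoidalCategory AlgebraicGeometry Opposite
open Magnet

set_option linter.style.haveILetI false
set_option backward.isDefEq.respectTransparency false
set_option backward.isDefEq.respectTransparency.types false

namespace Groth.Agent.S18240

open Groth.Agent.H15Magnet in
open Groth.Agent.H15Magnet.Grad in
attribute [local instance 100000] rmCommRing rmSemiring rmNonAssoc in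
attribute [local instance] ULift.algebra' in
set_option maxHeartbeats 2000000 in
set_option synthInstance.maxHeartbeats 200000 in

/-- Let S be a scheme, M a finitely generated abelian group, N a submonoid of M and F a face of N (x + y
∈ F iff x ∈ F and y ∈ F), and X an S-scheme with an action of the diagonalizable group scheme D(M)_S
such that X → S is smooth. Then the canonical map X^N → X^F (restriction along the closed immersion
A(F) → A(N) of the face) is formally smooth as a transformation of functors on S-schemes: for every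
ring A, ideal I with I² = 0 and Spec A → S, writing T = Spec (A/I) ⊂ T' = Spec A, every x in X^N(T)
and y in X^F(T') with the same image in X^F(T) admit some l in X^N(T') with l|_T = x mapping to y.
(Stated for schemes; the published statement is for algebraic spaces over S.) -/
theorem result (S : Scheme.{u}) (M : Type) [AddCommGroup M] [AddGroup.FG M]
    {N F : AddSubmonoid M} (hF : Magnet.IsFace N F) {X : Over S} [Smooth X.hom]
    (a : Magnet.MonAct (Magnet.AMonS S M) X) (A : Type u) [CommRing A] (I : Ideal A) (hI : I ^ 2 = ⊥)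
    (str : Spec (CommRingCat.of A) ⟶ S)
    (x : (Magnet.attr a N).obj (op (Over.mk (Spec.map (CommRingCat.ofHom (Ideal.Quotient.mk I)) ≫ str))))
    (y : (Magnet.attr a F).obj (op (Over.mk str)))
    (h : (Magnet.attrFace a hF).app _ x = (Magnet.attr a F).map (Over.homMk (Spec.map (CommRingCat.ofHom (Ideal.Quotient.mk I))) rfl :
        Over.mk (Spec.map (CommRingCat.ofHom (Ideal.Quotient.mk I)) ≫ str) ⟶ Over.mk str).op y) :
    ∃ l : (Magnet.attr a N).obj (op (Over.mk str)),
      (Magnet.attr a N).map (Over.homMk (Spec.map (CommRingCat.ofHom (Ideal.Quotient.mk I))) rfl :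
        Over.mk (Spec.map (CommRingCat.ofHom (Ideal.Quotient.mk I)) ≫ str) ⟶ Over.mk str).op l = x ∧ (Magnet.attrFace a hF).app _ l = y := by
  obtain ⟨xb, hA, hB, hx⟩ := exists_gp_desc hF I str a x y (congrArg Subtype.val h)
  let a1 : MonAct (AMonS S M) (𝟙_ (Over S)) := MonAct.trivial (AMonS S M) (𝟙_ (Over S))
  have hf : MonAct.IsEquivariant a a1 (toUnit X) := toUnit_unique _ _
  have hfs : MoreMor.IsFormallySmoothHom (toUnit X).left := by
    have e : (toUnit X).left = X.hom := by
      have := Over.w (toUnit X)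
      simpa using this
    rw [e]
    exact ((Groth.Agent.S1488.result X.hom).1 inferInstance).2
  let y1 : (attr a1 N).obj (op (Over.mk str)) := ⟨toUnit _, toUnit_unique _ _⟩
  obtain ⟨l, hl, -⟩ := exists_equivariant_lift a a1 (toUnit X) hf hfs str y1 (gpK N F I) (gpK_sq hI)
    (fun C _ χ ξ φ => gpK_stable I χ ξ φ) xb (toUnit_unique _ _) hx
  -- values of the lift
  have hval : ∀ (C : Type u) [CommRing C] (χ : Multiplicative N →* C) (φ : A →+* C)
      (g : RM N A ⧸ gpK N F I →+* C) (hg : g.comp (Ideal.Quotient.mk _) = evR χ φ),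
      PtR str χ φ ≫ l.1 = spR str g (base_eq hg) ≫ xb := by
    intro C _ χ φ g hg
    rw [← hl, spR_comp' str _ _ _ _ hg (evR_comp_uphi χ φ), ← Category.assoc, spR_PtR, evR_comp_uchi]
  refine ⟨l, Subtype.ext (tensor_ext fun C _ yy χ t' => ?_), Subtype.ext (tensor_ext fun C _ yy ξ t' => ?_)⟩
  · obtain ⟨ψ, hψ⟩ := Spec.map_surjective t'.left
    have hyy : yy = Spec.map (CommRingCat.ofHom (ψ.hom.comp (Ideal.Quotient.mk I))) ≫ str := by
      rw [CommRingCat.ofHom_comp, Spec.map_comp, Category.assoc, CommRingCat.ofHom_hom, hψ]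
      exact (Over.w t').symm
    subst hyy
    let φ : A →+* C := ψ.hom.comp (Ideal.Quotient.mk I)
    have hle : gpK N F I ≤ RingHom.ker (evR χ φ) := (gpK_le_ker_iff I χ φ).2 fun n c _ hc => by
      show χ _ * ψ.hom (Ideal.Quotient.mk I c) = 0
      rw [Ideal.Quotient.eq_zero_iff_mem.2 hc, map_zero, mul_zero]
    have ht : t' = spR str ψ.hom (rfl : ψ.hom.comp (Ideal.Quotient.mk I) = φ) :=
      Over.OverMorphism.ext hψ.symm
    have e1 := hA C χ ψ.hom φ rfl (Ideal.Quotient.lift _ _ fun b hb => hle hb) (RingHom.ext fun _ => rfl)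
    rw [← hval C χ φ _ (RingHom.ext fun _ => rfl), PtR] at e1
    show lift (mpt _ χ) t' ≫ (AMonS S N ◁ tpR str (Ideal.Quotient.mk I)) ≫ l.1 = lift (mpt _ χ) t' ≫ x.1
    rw [lift_whiskerLeft_assoc, ht, spR_tpR]
    exact e1
  · obtain ⟨ψ, hψ⟩ := Spec.map_surjective t'.left
    have hyy : yy = Spec.map (CommRingCat.ofHom ψ.hom) ≫ str := by
      rw [CommRingCat.ofHom_hom, hψ]
      exact (Over.w t').symm
    subst hyy
    have ht : t' = tpR str ψ.hom := Over.OverMorphism.ext hψ.symm
    have hle : gpK N F I ≤ RingHom.ker (evR (extZ hF ξ) ψ.hom) := (gpK_le_ker_iff I _ _).2 fun n c hn _ => by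
      rw [extZ_of_not_mem hF _ n hn, zero_mul]
    have e1 := hB C ξ ψ.hom (Ideal.Quotient.lift _ _ fun b hb => hle hb) (RingHom.ext fun _ => rfl)
    rw [← hval C _ ψ.hom _ (RingHom.ext fun _ => rfl), PtR, PtR] at e1
    show lift (mpt _ ξ) t' ≫ (AMonS.faceMap S hF ▷ Over.mk str) ≫ l.1 = lift (mpt _ ξ) t' ≫ y.1
    rw [lift_whiskerRight_assoc, mpt_face, ht]
    exact e1

end Groth.Agent.S18240
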