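import Groth.Statements.S18241
import Groth.Agent.H15Magnet.Grad.LimitPresApp
import Groth.Agent.S18240

set_option autoImplicit false
set_option linter.style.haveILetI false
set_option backward.isDefEq.respectTransparency false
set_option backward.isDefEq.respectTransparency.types false
universe u
open CategoryTheory MonoidalCategory CartesianMonoidalCategory AlgebraicGeometry Opposite
open Magnet

namespace Groth.Agent.S18241

/-- Let S be a scheme, M a finitely generated abelian group, N a submonoid of M and F a face of N, and X
an S-scheme smooth over S with an action of the diagonalizable group scheme D(M)_S. If the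
attractors X^N and X^F are represented by S-schemes Z_N and Z_F, and j : Z_N → Z_F is the S-morphism
that corresponds to the canonical map X^N → X^F under the two representing bijections, then j is
smooth. (Stated for schemes; the published statement is for algebraic spaces over S.) -/
theorem result (S : Scheme.{u}) (M : Type) [AddCommGroup M] [AddGroup.FG M]
    {N F : AddSubmonoid M} (hF : Magnet.IsFace N F) {X : Over S} [Smooth X.hom]
    (a : Magnet.MonAct (Magnet.AMonS S M) X) {ZN ZF : Over S} (eN : (Magnet.attr a N).RepresentableBy ZN)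
    (eF : (Magnet.attr a F).RepresentableBy ZF) (j : ZN ⟶ ZF)
    (hj : ∀ (T : Over S) (z : T ⟶ ZN), eF.homEquiv (z ≫ j) = (Magnet.attrFace a hF).app (op T) (eN.homEquiv z)) :
    Smooth j.left := by
  haveI := Groth.Agent.H15Magnet.Grad.isAffineHom_amonS S M
  haveI := Groth.Agent.H15Magnet.Grad.isAffineHom_amonS S N
  haveI := Groth.Agent.H15Magnet.Grad.isAffineHom_amonS S F
  haveI : LocallyOfFinitePresentation X.hom := ((Groth.Agent.S1488.result X.hom).1 inferInstance).1
  refine (Groth.Agent.S1488.result j.left).2
    ⟨Groth.Agent.H15Magnet.Grad.lfp_of_representsPrecomp (Magnet.AMonS.faceMap S hF)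
      (Magnet.isEquivariant_faceMapS S hF) eN eF j hj, fun A _ I hI a' b hab => ?_⟩
  let str : Spec (CommRingCat.of A) ⟶ S := b ≫ ZF.hom
  let za : Over.mk (Spec.map (CommRingCat.ofHom (Ideal.Quotient.mk I)) ≫ str) ⟶ ZN := Over.homMk a' (by
    show a' ≫ ZN.hom = Spec.map _ ≫ b ≫ ZF.hom
    rw [← Category.assoc, hab, Category.assoc, Over.w j])
  let jI : Over.mk (Spec.map (CommRingCat.ofHom (Ideal.Quotient.mk I)) ≫ str) ⟶ Over.mk str :=
    Over.homMk (Spec.map (CommRingCat.ofHom (Ideal.Quotient.mk I))) rfl
  let zb : Over.mk str ⟶ ZF := Over.homMk b rfl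
  have h : za ≫ j = jI ≫ zb := Over.OverMorphism.ext hab.symm
  obtain ⟨l, hl1, hl2⟩ := Groth.Agent.S18240.result S M hF a A I hI str (eN.homEquiv za) (eF.homEquiv zb) (by
    rw [← hj, h, eF.homEquiv_comp])
  refine ⟨(eN.homEquiv.symm l).left, ?_, ?_⟩
  · have e : jI ≫ eN.homEquiv.symm l = za := by
      apply eN.homEquiv.injective
      rw [eN.homEquiv_comp, Equiv.apply_symm_apply]
      exact hl1
    exact congrArg CommaMorphism.left e
  · have e : eN.homEquiv.symm l ≫ j = zb := by
      apply eF.homEquiv.injective
      rw [hj, Equiv.apply_symm_apply, hl2]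
    exact congrArg CommaMorphism.left e

end Groth.Agent.S18241
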