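import Groth.Statements.S18242
import Groth.Agent.H15Magnet.FibreConnected

set_option autoImplicit false
set_option linter.style.haveILetI false
set_option backward.isDefEq.respectTransparency false
set_option backward.isDefEq.respectTransparency.types false
universe u
open CategoryTheory MonoidalCategory CartesianMonoidalCategory AlgebraicGeometry Opposite
open Magnet

namespace Groth.Agent.S18242

/-- Let S be a scheme, M a finitely generated abelian group, N a finitely generated submonoid of M and Z
= N* its subgroup of invertible elements (a face of N); let X be a scheme locally of finite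
presentation over S with an action of the diagonalizable group scheme D(M)_S, admitting an N*-FPR
atlas: an equivariant, étale and surjective g : U → X where U is a disjoint union of D(M)_S-stable
open subschemes each affine over S, such that for the actions restricted along D(M/Z)_S → D(M)_S the
square of fixed-point subfunctors U^{D(M/Z)} → X^{D(M/Z)} over U → X is cartesian. If the attractors
X^N and X^{N*} are represented by S-schemes Z_N and Z_* and j : Z_N → Z_* is the S-morphism
corresponding to the canonical map X^N → X^{N*} under the two representing bijections, then for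
every field K and every K-valued point of Z_* the fibre of j is connected (the fibres are
geometrically connected), and j induces a bijection on the sets of connected components. (Stated for
schemes; the published statement is for algebraic spaces over S.) -/
theorem result (S : Scheme.{u}) (M : Type) [AddCommGroup M]
    [AddGroup.FG M] (N : AddSubmonoid M) (hN : N.FG) (Z : AddSubgroup M)
    (hZ : ∀ m : M, m ∈ Z ↔ m ∈ Magnet.unitFace N)
    {X : Over S} [LocallyOfFinitePresentation X.hom] (a : Magnet.MonAct (Magnet.AMonS S M) X)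
    (U : Over S) (aU : Magnet.MonAct (Magnet.AMonS S M) U) (g : U ⟶ X)
    (hg : Magnet.MonAct.IsEquivariant aU a g) [Etale g.left] [Surjective g.left]
    (ι : Type u) (V : ι → U.left.Opens) (hVd : ∀ i i', i ≠ i' → Disjoint (V i) (V i'))
    (hVc : ⨆ i, V i = ⊤) (hVa : ∀ i, IsAffineHom ((V i).ι ≫ U.hom))
    (hVs : ∀ i, (CartesianMonoidalCategory.snd (Magnet.AMonS S M) U).left ⁻¹ᵁ (V i) ≤ aU.act.left ⁻¹ᵁ (V i))
    (hgZ : Magnet.MonAct.IsEquivariant (aU.restrict (Magnet.AMonS.map S (QuotientAddGroup.mk' Z))) (a.restrict (Magnet.AMonS.map S (QuotientAddGroup.mk' Z))) g)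
    (hfpr : IsPullback (Magnet.MonAct.fixedPsh.map g hgZ)
      (Magnet.MonAct.fixedPshι (aU.restrict (Magnet.AMonS.map S (QuotientAddGroup.mk' Z))))
      (Magnet.MonAct.fixedPshι (a.restrict (Magnet.AMonS.map S (QuotientAddGroup.mk' Z)))) (yoneda.map g))
    {ZN Z0 : Over S} (eN : (Magnet.attr a N).RepresentableBy ZN)
    (e0 : (Magnet.attr a (Magnet.unitFace N)).RepresentableBy Z0) (j : ZN ⟶ Z0)
    (hj : ∀ (T : Over S) (z : T ⟶ ZN), e0.homEquiv (z ≫ j) = (Magnet.attrFace a (Magnet.isFace_unitFace N)).app (op T) (eN.homEquiv z)) :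
    (∀ (K : Type u) [Field K] (k : Spec (CommRingCat.of K) ⟶ Z0.left),
        ConnectedSpace ↥(Limits.pullback j.left k)) ∧
      Function.Bijective (Continuous.connectedComponentsMap (Scheme.Hom.continuous j.left)) := by
  obtain ⟨δ, hδnat, hδ0, hδ1, hδr⟩ :=
    Groth.Agent.H15Magnet.exists_homotopy a hN (Magnet.isFace_unitFace N)
  let i : Z0 ⟶ ZN :=
    eN.homEquiv.symm ((Magnet.attrMap a (Magnet.isFace_unitFace N).le).app _ (e0.homEquiv (𝟙 Z0)))
  have hi : i ≫ j = 𝟙 Z0 := by
    apply e0.homEquiv.injective
    rw [hj, Equiv.apply_symm_apply]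
    exact ConcreteCategory.congr_hom (NatTrans.congr_app (Magnet.attrMap_comp_attrFace a (Magnet.isFace_unitFace N)) _) _
  have hir : ∀ (T : Over S) (z : T ⟶ Z0),
      eN.homEquiv (z ≫ i) = (Magnet.attrMap a (Magnet.isFace_unitFace N).le).app _ (e0.homEquiv z) := by
    intro T z
    conv_rhs => rw [← Category.comp_id z, e0.homEquiv_comp]
    rw [eN.homEquiv_comp, Equiv.apply_symm_apply]
    exact (ConcreteCategory.congr_hom ((Magnet.attrMap a (Magnet.isFace_unitFace N).le).naturality z.op) _).symm
  have hom : ∀ (L : Type u) [Field L] (x : Spec (CommRingCat.of L) ⟶ ZN.left),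
      ∃ γ : Spec (CommRingCat.of (Polynomial L)) ⟶ ZN.left,
        Groth.Agent.H15Magnet.evPt (1 : L) ≫ γ = x ∧
        Groth.Agent.H15Magnet.evPt (0 : L) ≫ γ = x ≫ j.left ≫ i.left ∧
        γ ≫ j.left = Groth.Agent.H15Magnet.projPt L ≫ x ≫ j.left := by
    intro L _ x
    let T : Over S := Over.mk (x ≫ ZN.hom)
    let T1 : Over S := Over.mk (Groth.Agent.H15Magnet.projPt L ≫ x ≫ ZN.hom)
    let xz : T ⟶ ZN := Over.homMk x rfl
    let π : T1 ⟶ T := Over.homMk (Groth.Agent.H15Magnet.projPt L) rfl
    let c : Γ(T1.left, ⊤) := (Scheme.ΓSpecIso (CommRingCat.of (Polynomial L))).inv Polynomial.X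
    let γ : T1 ⟶ ZN := eN.homEquiv.symm (δ T1 ((Magnet.attr a N).map π.op (eN.homEquiv xz)) c)
    have hev : ∀ b : L, ∀ v : T ⟶ T1, v.left = Groth.Agent.H15Magnet.evPt b →
        eN.homEquiv (v ≫ γ) = δ T (eN.homEquiv xz) ((Scheme.ΓSpecIso (CommRingCat.of L)).inv b) := by
      intro b v hv
      rw [eN.homEquiv_comp, Equiv.apply_symm_apply, ← hδnat]
      have e1 : (Magnet.attr a N).map v.op ((Magnet.attr a N).map π.op (eN.homEquiv xz)) = eN.homEquiv xz := by
        have e : v ≫ π = 𝟙 T := Over.OverMorphism.ext (by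
          show v.left ≫ Groth.Agent.H15Magnet.projPt L = 𝟙 _
          rw [hv, Groth.Agent.H15Magnet.evPt_proj]; rfl)
        rw [← eN.homEquiv_comp, ← eN.homEquiv_comp, ← Category.assoc, e, Category.id_comp]
      rw [e1]
      congr 1
      rw [hv]
      have := ConcreteCategory.congr_hom
        (Scheme.ΓSpecIso_inv_naturality (CommRingCat.ofHom (Polynomial.evalRingHom b))) Polynomial.X
      refine this.symm.trans ?_
      show (Scheme.ΓSpecIso (CommRingCat.of L)).inv (Polynomial.evalRingHom b Polynomial.X) = _
      rw [Polynomial.coe_evalRingHom, Polynomial.eval_X]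
    have hw : ∀ b : L, Groth.Agent.H15Magnet.evPt b ≫ T1.hom = T.hom := fun b => by
      show _ ≫ Groth.Agent.H15Magnet.projPt L ≫ x ≫ ZN.hom = x ≫ ZN.hom
      rw [← Category.assoc, Groth.Agent.H15Magnet.evPt_proj, Category.id_comp]
    refine ⟨γ.left, ?_, ?_, ?_⟩
    · have e : (Over.homMk (Groth.Agent.H15Magnet.evPt (1 : L)) (hw 1) : T ⟶ T1) ≫ γ = xz := by
        apply eN.homEquiv.injective
        rw [hev 1 _ rfl, map_one]
        exact hδ1 _ _
      exact congrArg CommaMorphism.left e
    · have e : (Over.homMk (Groth.Agent.H15Magnet.evPt (0 : L)) (hw 0) : T ⟶ T1) ≫ γ = (xz ≫ j) ≫ i := by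
        apply eN.homEquiv.injective
        rw [hev 0 _ rfl, map_zero, hir, hj]
        exact hδ0 _ _
      exact (congrArg CommaMorphism.left e).trans (Category.assoc _ _ _)
    · have e : γ ≫ j = π ≫ (xz ≫ j) := by
        apply e0.homEquiv.injective
        rw [hj, Equiv.apply_symm_apply, hδr, e0.homEquiv_comp, hj]
        exact ConcreteCategory.congr_hom ((Magnet.attrFace a (Magnet.isFace_unitFace N)).naturality π.op) _
      exact congrArg CommaMorphism.left e
  have hi' : i.left ≫ j.left = 𝟙 _ := congrArg CommaMorphism.left hi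
  exact ⟨fun K _ k => Groth.Agent.H15Magnet.connectedSpace_fibre j.left i.left hom hi' K k,
    Groth.Agent.H15Magnet.connectedComponents_bijective j.left i.left hom hi'⟩

end Groth.Agent.S18242
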