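import Groth.Statements.S18244
import Groth.Agent.H15Magnet.Degree
import Groth.Agent.H15Magnet.GlobalPt

set_option autoImplicit false
universe u
open CategoryTheory MonoidalCategory CartesianMonoidalCategory AlgebraicGeometry Opposite
open Magnet

open CategoryTheory MonoidalCategory CartesianMonoidalCategory MonObj AlgebraicGeometry Opposite Magnet

set_option linter.style.haveILetI false

namespace Groth.Agent.S18244.Aux

open Groth.Agent.H15Magnet

variable {S : Scheme.{u}} {M : Type} [AddCommMonoid M] {X : Over S} (a : MonAct (AMonS S M) X)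
  {N F : AddSubmonoid M}

/-- translate a point of the attractor by a point of `A(N)` -/
noncomputable def δ (T : Over S) (p : T ⟶ AMonS S N) (x : (attr a N).obj (op T)) : (attr a N).obj (op T) :=
  ⟨lift (fst _ _ * (snd _ _ ≫ p)) (snd _ _) ≫ x.1, by
    rw [MonAct.mem_eqvHom_iff]
    intro T' g b t
    have h := (MonAct.mem_eqvHom_iff x.1).1 x.2 T' g (b * (t ≫ p)) t
    simp only [subAct, MonAct.lift_restrict_act, MonAct.lift_regular_act, comp_lift_assoc, MonObj.comp_mul,
      lift_fst, lift_snd, lift_snd_assoc] at h ⊢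
    rw [← _root_.mul_assoc] at h
    exact h⟩

theorem δ_map {T T' : Over S} (t : T' ⟶ T) (p : T ⟶ AMonS S N) (x : (attr a N).obj (op T)) :
    δ a T' (t ≫ p) ((attr a N).map t.op x) = (attr a N).map t.op (δ a T p x) := by
  apply Subtype.ext
  refine hom_ext_lift₂ fun Q b q => ?_
  change lift b q ≫ (lift (fst _ _ * (snd _ _ ≫ t ≫ p)) (snd _ _) ≫ (_ ◁ t) ≫ x.1) =
    lift b q ≫ (_ ◁ t) ≫ lift (fst _ _ * (snd _ _ ≫ p)) (snd _ _) ≫ x.1
  simp only [comp_lift_assoc, MonObj.comp_mul, lift_fst, lift_snd, lift_snd_assoc, lift_whiskerLeft_assoc,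
    Category.assoc]

theorem δ_one (T : Over S) (x : (attr a N).obj (op T)) : δ a T (toUnit T ≫ η[AMonS S N]) x = x := by
  apply Subtype.ext
  change lift (fst _ _ * (snd _ _ ≫ toUnit T ≫ η[AMonS S N])) (snd _ _) ≫ x.1 = x.1
  rw [comp_toUnit_assoc, ← Hom.one_def, _root_.mul_one, lift_fst_snd, Category.id_comp]

theorem δ_zero (hF : IsFace N F) (T : Over S) (x : (attr a N).obj (op T)) :
    δ a T ((toUnit T ≫ η[AMonS S F]) ≫ AMonS.faceMap S hF) x =
      (attrMap a hF.le).app (op T) ((attrFace a hF).app (op T) x) := by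
  apply Subtype.ext
  refine hom_ext_lift₂ fun Q b q => ?_
  change lift b q ≫ (lift (fst _ _ * (snd _ _ ≫ (toUnit T ≫ η[AMonS S F]) ≫ AMonS.faceMap S hF)) (snd _ _) ≫ x.1) =
    lift b q ≫ (AMonS.map S (AddSubmonoid.inclusion hF.le) ▷ T) ≫ (AMonS.faceMap S hF ▷ T) ≫ x.1
  simp only [comp_lift_assoc, MonObj.comp_mul, lift_fst, lift_snd, lift_snd_assoc, lift_whiskerRight_assoc,
    Category.assoc]
  rw [← Category.assoc q, comp_toUnit, ← Category.assoc (toUnit Q), mul_face_one hF b]

theorem δ_incl (hF : F ≤ N) (T : Over S) (p : T ⟶ AMonS S N)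
    (hp : p ≫ AMonS.map S (AddSubmonoid.inclusion hF) = toUnit T ≫ η[AMonS S F]) (y : (attr a F).obj (op T)) :
    δ a T p ((attrMap a hF).app (op T) y) = (attrMap a hF).app (op T) y := by
  apply Subtype.ext
  refine hom_ext_lift₂ fun Q b q => ?_
  change lift b q ≫ (lift (fst _ _ * (snd _ _ ≫ p)) (snd _ _) ≫
      (AMonS.map S (AddSubmonoid.inclusion hF) ▷ T) ≫ y.1) =
    lift b q ≫ (AMonS.map S (AddSubmonoid.inclusion hF) ▷ T) ≫ y.1
  simp only [comp_lift_assoc, lift_whiskerRight_assoc, MonObj.comp_mul, MonObj.mul_comp, lift_fst, lift_snd,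
    lift_snd_assoc, Category.assoc, hp, lift_fst_assoc]
  rw [← Category.assoc q, comp_toUnit, ← Hom.one_def, _root_.mul_one]

/-- the character `n ↦ c ^ ψ n` -/
def powChar {R : Type u} [CommRing R] (ψ : M →+ ℤ) (hψ : ∀ n ∈ N, 0 ≤ ψ n) (c : R) : Multiplicative N →* R where
  toFun n := c ^ (ψ (Multiplicative.toAdd n : N)).toNat
  map_one' := by simp
  map_mul' x y := by
    rw [toAdd_mul, AddSubmonoid.coe_add, map_add, Int.toNat_add (hψ _ (Multiplicative.toAdd x).2)
      (hψ _ (Multiplicative.toAdd y).2), pow_add]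

end Groth.Agent.S18244.Aux

namespace Groth.Agent.S18244

/-- Let S be a scheme, M a finitely generated abelian group, X a scheme locally of finite presentation
over S with an action of the diagonalizable group scheme D(M)_S, N a finitely generated submonoid of
M and F a face of N; let ι : X^F → X^N be the canonical section and r : X^N → X^F the face
projection. Then (ι, r) is a strong deformation retract: there is a morphism δ : X^N ×_S 𝔸¹_S → X^N
of functors on S-schemes — here a family of maps X^N(T) × Γ(T, O_T) → X^N(T) natural in T — such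
that δ(x, 0) = ι(r(x)), δ(x, 1) = x, and δ(ι(y), c) = ι(y) for all x in X^N(T), y in X^F(T) and
functions c on T. (Stated for schemes; the published statement is for algebraic spaces over S.) -/
theorem result (S : Scheme.{u}) (M : Type) [AddCommGroup M] [AddGroup.FG M]
    {X : Over S} [LocallyOfFinitePresentation X.hom] (a : Magnet.MonAct (Magnet.AMonS S M) X)
    {N F : AddSubmonoid M} (hN : N.FG) (hF : Magnet.IsFace N F) :
    ∃ δ : ∀ T : Over S, (Magnet.attr a N).obj (op T) → Γ(T.left, ⊤) → (Magnet.attr a N).obj (op T),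
      (∀ (T T' : Over S) (t : T' ⟶ T) (x : (Magnet.attr a N).obj (op T)) (c : Γ(T.left, ⊤)),
          δ T' ((Magnet.attr a N).map t.op x) (t.left.appTop c) = (Magnet.attr a N).map t.op (δ T x c)) ∧
      (∀ (T : Over S) (x : (Magnet.attr a N).obj (op T)),
          δ T x 0 = (Magnet.attrMap a hF.le).app (op T) ((Magnet.attrFace a hF).app (op T) x)) ∧
      (∀ (T : Over S) (x : (Magnet.attr a N).obj (op T)), δ T x 1 = x) ∧
      (∀ (T : Over S) (y : (Magnet.attr a F).obj (op T)) (c : Γ(T.left, ⊤)),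
          δ T ((Magnet.attrMap a hF.le).app (op T) y) c = (Magnet.attrMap a hF.le).app (op T) y) := by
  classical
  obtain ⟨ψ, hψ⟩ := Groth.Agent.H15Magnet.exists_degree hN hF
  let P : ∀ T : Over S, Γ(T.left, ⊤) → (T ⟶ AMonS S N) := fun T c =>
    Groth.Agent.H15Magnet.gpt T (Aux.powChar ψ (fun n hn => (hψ n hn).1) c)
  refine ⟨fun T x c => Aux.δ a T (P T c) x, fun T T' t x c => ?_, fun T x => ?_, fun T x => ?_, fun T y c => ?_⟩
  · have h : t ≫ P T c = P T' (t.left.appTop c) := by
      refine (Groth.Agent.H15Magnet.comp_gpt t _).trans (congrArg (Groth.Agent.H15Magnet.gpt T') (MonoidHom.ext fun m => ?_))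
      exact map_pow t.left.appTop.hom c _
    change Aux.δ a T' (P T' (t.left.appTop c)) _ = _
    rw [← h]
    exact Aux.δ_map a t _ x
  · have h : P T 0 = (toUnit T ≫ η[AMonS S F]) ≫ AMonS.faceMap S hF := by
      rw [← Groth.Agent.H15Magnet.gpt_one]
      refine Groth.Agent.H15Magnet.pt_ext fun B _ y j => ?_
      rw [← Category.assoc, Groth.Agent.H15Magnet.comp_gpt, Groth.Agent.H15Magnet.gpt_eq_mpt,
        Groth.Agent.H15Magnet.comp_gpt, Groth.Agent.H15Magnet.gpt_eq_mpt, Groth.Agent.H15Magnet.mpt_face]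
      refine congrArg (Groth.Agent.H15Magnet.mpt y) (MonoidHom.ext fun m => ?_)
      obtain ⟨m, rfl⟩ := Multiplicative.ofAdd.surjective m
      simp only [MonoidHom.coe_comp, Function.comp_apply, Aux.powChar, MonoidHom.coe_mk, OneHom.coe_mk,
        toAdd_ofAdd]
      by_cases hm : (m : M) ∈ F
      · rw [((hψ _ m.2).2).2 hm, faceMonoidHom_apply_of_mem _ hF m hm]
        simp
      · rw [faceMonoidHom_apply_of_not_mem _ hF m hm, zero_pow]
        · simp
        · have h1 := (hψ _ m.2).1
          have h2 : ψ (m : M) ≠ 0 := fun h => hm ((hψ _ m.2).2.1 h)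
          omega
    change Aux.δ a T (P T 0) x = _
    rw [h]
    exact Aux.δ_zero a hF T x
  · have h : P T 1 = toUnit T ≫ η[AMonS S N] := by
      rw [← Groth.Agent.H15Magnet.gpt_one]
      exact congrArg (Groth.Agent.H15Magnet.gpt T) (MonoidHom.ext fun m => one_pow _)
    change Aux.δ a T (P T 1) x = _
    rw [h]
    exact Aux.δ_one a T x
  · have h : P T c ≫ AMonS.map S (AddSubmonoid.inclusion hF.le) = toUnit T ≫ η[AMonS S F] := by
      rw [← Groth.Agent.H15Magnet.gpt_one]
      refine (Groth.Agent.H15Magnet.gpt_map _ _ _).trans (congrArg (Groth.Agent.H15Magnet.gpt T) (MonoidHom.ext fun m => ?_))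
      have hm := (hψ _ (hF.le (Multiplicative.toAdd m).2)).2.2 (Multiplicative.toAdd m).2
      simp [Aux.powChar, hm]
    exact Aux.δ_incl a hF.le T _ h y

end Groth.Agent.S18244
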