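import Groth.Statements.S18245
import Groth.Agent.H15Magnet.Grad.Open
import Groth.Agent.H15Magnet.Grad.Bundle

set_option autoImplicit false
universe u
open CategoryTheory MonoidalCategory CartesianMonoidalCategory AlgebraicGeometry Opposite
open Magnet

set_option linter.style.haveILetI false
set_option linter.unusedVariables false
set_option backward.isDefEq.respectTransparency false
set_option backward.isDefEq.respectTransparency.types false

open CategoryTheory CategoryTheory.Limits MonoidalCategory CartesianMonoidalCategory AlgebraicGeometry Opposite Magnet in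
open Groth.Agent.H15Magnet in
/-- The affine pieces of a locally linearized action. -/
theorem Groth.Agent.S18245.exists_chart {S : Scheme.{u}} {M : Type} [AddCommGroup M] {X : Over S}
    (a : MonAct (AMonS S M) X) {x : X.left} {V : X.left.Opens} (hx : x ∈ V) (hV : IsAffineHom (V.ι ≫ X.hom))
    (hst : Grad.Stable a V) :
    ∃ (U : X.left.Opens) (S0 : S.Opens), x ∈ U ∧ IsAffineOpen U ∧ IsAffineOpen S0 ∧ U ≤ X.hom ⁻¹ᵁ S0 ∧
      Grad.Stable a U := by
  obtain ⟨S0, hS0, hxS, -⟩ := exists_isAffineOpen_mem_and_subset (x := X.hom x) (U := ⊤) trivial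
  refine ⟨V ⊓ X.hom ⁻¹ᵁ S0, S0, ⟨hx, hxS⟩, ?_, hS0, inf_le_right, fun t ht => ⟨hst ht.1, ?_⟩⟩
  · have h := (hS0.preimage (V.ι ≫ X.hom)).image_of_isOpenImmersion V.ι
    rwa [Scheme.Hom.comp_preimage, Scheme.Hom.image_preimage_eq_opensRange_inf, Scheme.Opens.opensRange_ι] at h
  · show X.hom (a.act.left t) ∈ S0
    rw [← Scheme.Hom.comp_apply, Over.w a.act, ← Over.w (snd (AMonS S M) X), Scheme.Hom.comp_apply]
    exact ht.2

namespace Groth.Agent.S18245

open Groth.Agent.H15Magnet in
set_option maxHeartbeats 2000000 in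

/-- Let S be a scheme, M a finitely generated abelian group, X a scheme smooth and locally of finite
presentation over S with an action a of the diagonalizable group scheme D(M)_S which is Zariski
locally linearizable (every point of X lies in a D(M)_S-stable open subscheme affine over S), and N
a submonoid of M such that N is finitely generated or X is quasi-compact over S. If the attractors
X^N and X^{N*} are represented by S-schemes Z_N and Z_* and j : Z_N → Z_* is the S-morphism
corresponding to the canonical map X^N → X^{N*} under the two representing bijections, then j is a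
vector bundle, in the following Zariski-local sense: every point of Z_* has an affine open
neighbourhood W with a finitely generated projective module P over B = Γ(W, O) and an isomorphism
j⁻¹(W) ≅ Spec Sym_B(P) over W. (Stated for schemes and for the local structure only; the published
statement is for algebraic spaces over S and says that X^N → X^{N*} is a vector bundle.) -/
theorem result (S : Scheme.{u}) (M : Type) [AddCommGroup M]
    [AddGroup.FG M] {X : Over S} [LocallyOfFinitePresentation X.hom] [Smooth X.hom]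
    (a : Magnet.MonAct (Magnet.AMonS S M) X)
    (hlin : ∀ x : X.left, ∃ V : X.left.Opens, x ∈ V ∧ IsAffineHom (V.ι ≫ X.hom) ∧
      (CartesianMonoidalCategory.snd (Magnet.AMonS S M) X).left ⁻¹ᵁ V ≤ a.act.left ⁻¹ᵁ V)
    (N : AddSubmonoid M) (hN : N.FG ∨ QuasiCompact X.hom) {ZN Z0 : Over S}
    (eN : (Magnet.attr a N).RepresentableBy ZN) (e0 : (Magnet.attr a (Magnet.unitFace N)).RepresentableBy Z0)
    (j : ZN ⟶ Z0) (hj : ∀ (T : Over S) (z : T ⟶ ZN),
      e0.homEquiv (z ≫ j) = (Magnet.attrFace a (Magnet.isFace_unitFace N)).app (op T) (eN.homEquiv z))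
    (z : Z0.left) :
    ∃ (W : Z0.left.Opens) (hW : IsAffineOpen W), z ∈ W ∧
      ∃ (P : Type u) (_ : AddCommGroup P) (_ : Module Γ(Z0.left, W) P),
        Module.Finite Γ(Z0.left, W) P ∧ Module.Projective Γ(Z0.left, W) P ∧
        ∃ e : (↑(j.left ⁻¹ᵁ W) : Scheme.{u}) ≅ Spec (CommRingCat.of (SymmetricAlgebra Γ(Z0.left, W) P)),
          e.hom ≫ Spec.map (CommRingCat.ofHom (algebraMap Γ(Z0.left, W) (SymmetricAlgebra Γ(Z0.left, W) P))) =
            (j.left ∣_ W) ≫ hW.isoSpec.hom := by
  classical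
  let Zg : AddSubgroup M :=
    { unitFace N with
      neg_mem' := fun {m} hm => by
        obtain ⟨h, y, hy, hxy⟩ := hm
        have : y = -m := eq_neg_of_add_eq_zero_right hxy
        exact ⟨this ▸ hy, m, h, by simp⟩ }
  let x0 : Z0 ⟶ X := (attrToX a (unitFace N)).app (op Z0) (e0.homEquiv (𝟙 Z0))
  have htoX : ∀ {T : Over S} (p : T ⟶ Z0), (attrToX a (unitFace N)).app (op T) (e0.homEquiv p) = p ≫ x0 := fun p => by
    rw [show e0.homEquiv p = (attr a (unitFace N)).map p.op (e0.homEquiv (𝟙 Z0)) by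
      rw [← e0.homEquiv_comp, Category.comp_id]]
    exact toX_map a _ p _
  obtain ⟨V, hxV, hVaff, hVst⟩ := hlin (x0.left z)
  obtain ⟨U, S0, hxU, hU, hS0, hUS, hUst⟩ := exists_chart a hxV hVaff hVst
  obtain ⟨aU, hf⟩ := Grad.exists_restrictAct hUst
  let A : Type u := Γ(X.left, U)
  let κ : Γ(S, S0) →+* A := (X.hom.appLE S0 U hUS).hom
  have hκ : κ.Smooth := X.hom.smooth_appLE hS0 hU hUS
  let e : Spec (CommRingCat.of A) ≅ (Grad.OpenObj U).left := hU.isoSpec.symm
  have hs : e.hom ≫ (Grad.OpenObj U).hom = Spec.map (CommRingCat.ofHom κ) ≫ hS0.fromSpec := by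
    show hU.isoSpec.inv ≫ U.ι ≫ X.hom = _
    rw [← Category.assoc, IsAffineOpen.isoSpec_inv_ι, ← IsAffineOpen.SpecMap_appLE_fromSpec X.hom hS0 hU hUS]
    rfl
  obtain ⟨rN, hrN⟩ := Grad.exists_representableBy aU e κ hS0.fromSpec hs N
  obtain ⟨rZ, hrZ⟩ := Grad.exists_representableBy aU e κ hS0.fromSpec hs (unitFace N)
  -- the open pieces
  let W : Z0.left.Opens := x0.left ⁻¹ᵁ U
  have hW0 : ∀ (T : Over S) (p : T ⟶ Z0), (∀ t, p.left t ∈ W) ↔
      ∃ ψ, (Grad.post hf (unitFace N)).app (op T) ψ = e0.homEquiv p := fun T p => by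
    rw [Grad.exists_post_iff hf]
    refine ⟨fun h => Grad.orbit_mem a hUst Zg (e0.homEquiv p) fun t => ?_, fun h t => ?_⟩
    · show ((attrToX a (unitFace N)).app (op T) (e0.homEquiv p)).left t ∈ U
      rw [htoX, Over.comp_left, Scheme.Hom.comp_apply]
      exact h t
    · show x0.left (p.left t) ∈ U
      rw [← Scheme.Hom.comp_apply, ← Over.comp_left, ← htoX]
      exact h _
  obtain ⟨i0, hi0⟩ := Grad.exists_iso_open (Grad.post hf (unitFace N)) (Grad.post_injective hf _) rZ e0 W hW0
  have hWN : ∀ (T : Over S) (p : T ⟶ ZN), (∀ t, p.left t ∈ j.left ⁻¹ᵁ W) ↔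
      ∃ ψ, (Grad.post hf N).app (op T) ψ = eN.homEquiv p := fun T p => by
    have hW' := hW0 T (p ≫ j)
    rw [hj T p] at hW'
    constructor
    · intro h
      obtain ⟨ψ0, hψ0⟩ := hW'.1 fun t => by rw [Over.comp_left, Scheme.Hom.comp_apply]; exact h t
      refine (Grad.exists_post_iff hf N T _).2 (Grad.mem_of_face_mem a (isFace_unitFace N) hUst _ ?_)
      exact (Grad.exists_post_iff hf _ T _).1 ⟨ψ0, hψ0⟩
    · rintro ⟨ψ, hψ⟩ t
      have := hW'.2 ⟨(attrFace aU (isFace_unitFace N)).app (op T) ψ, by rw [← hψ, Grad.post_attrFace]⟩ t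
      rwa [Over.comp_left, Scheme.Hom.comp_apply] at this
  obtain ⟨iN, hiN⟩ := Grad.exists_iso_open (Grad.post hf N) (Grad.post_injective hf _) rN eN (j.left ⁻¹ᵁ W) hWN
  have hzW : z ∈ W := hxU
  haveI : IsAffine (Grad.attrSpec aU e (unitFace N)).left := inferInstanceAs (IsAffine (Spec _))
  have hW : IsAffineOpen W := IsAffine.of_isIso i0.inv
  -- the algebra
  let δ := Grad.coact aU e
  have hδ : Grad.IsGrading δ := Grad.isGrading aU e
  have hdeg0 : ∀ c, Grad.Homog δ 0 (κ c) := Grad.homog_const aU e κ hS0.fromSpec hs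
  have hface := isFace_unitFace N
  obtain ⟨ι₀, hι, hιs⟩ := Grad.exists_sec N (unitFace N) hface.le hface.mem_of_add_mem hδ
  let B := A ⧸ Grad.outside δ N
  let B0 := A ⧸ Grad.outside δ (unitFace N)
  letI : Algebra Γ(S, S0) A := κ.toAlgebra
  haveI : Algebra.Smooth Γ(S, S0) A := hκ
  have hsm : @Algebra.FormallySmooth B0 B _ _ ι₀.toAlgebra :=
    Grad.formallySmooth_sec hδ hdeg0 N (unitFace N) hface.le hface.mem_of_add_mem ι₀ hι
  obtain ⟨γ, hγ⟩ := Spec.map_surjective
    (R := Γ(Z0.left, W)) (S := CommRingCat.of B0) (i0.hom ≫ hW.isoSpec.hom)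
  obtain ⟨γi, hγi⟩ := Spec.map_surjective
    (R := CommRingCat.of B0) (S := Γ(Z0.left, W)) (hW.isoSpec.inv ≫ i0.inv)
  have hγ1 : ∀ r, γi.hom (γ.hom r) = r := fun r => by
    have : γ ≫ γi = 𝟙 _ := Spec.map_injective (by
      rw [Spec.map_comp, hγ, hγi, Spec.map_id, Category.assoc, Iso.inv_hom_id_assoc, Iso.inv_hom_id])
    exact ConcreteCategory.congr_hom this r
  have hγ2 : ∀ r, γ.hom (γi.hom r) = r := fun r => by
    have : γi ≫ γ = 𝟙 _ := Spec.map_injective (by
      rw [Spec.map_comp, hγ, hγi, Spec.map_id, Category.assoc, Iso.hom_inv_id_assoc, Iso.hom_inv_id])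
    exact ConcreteCategory.congr_hom this r
  letI : Algebra Γ(Z0.left, W) B := (ι₀.comp γ.hom).toAlgebra
  haveI : Algebra.FormallySmooth Γ(Z0.left, W) B := by
    letI : Algebra Γ(Z0.left, W) B0 := γ.hom.toAlgebra
    letI : Algebra B0 B := ι₀.toAlgebra
    haveI : IsScalarTower Γ(Z0.left, W) B0 B := IsScalarTower.of_algebraMap_eq fun _ => rfl
    haveI : Algebra.FormallySmooth B0 B := hsm
    haveI : Algebra.FormallySmooth Γ(Z0.left, W) B0 := Algebra.FormallySmooth.of_equiv
      (AlgEquiv.ofBijective (Algebra.ofId Γ(Z0.left, W) B0)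
        ⟨Function.LeftInverse.injective hγ1, Function.RightInverse.surjective hγ2⟩)
    exact Algebra.FormallySmooth.comp Γ(Z0.left, W) B0 B
  have hιmk : ∀ {m} (b : A), m ∈ unitFace N → Grad.Homog δ m b →
      ι₀ (Ideal.Quotient.mk _ b) = Ideal.Quotient.mk _ b := fun b hm hb => by
    rw [hι, Grad.secAdd_homog N (unitFace N) hb, if_pos hm]
  haveI : Algebra.FiniteType Γ(Z0.left, W) B := by
    refine RingHom.FiniteType.of_comp_finiteType (f := (γi.hom.comp (Ideal.Quotient.mk _)).comp κ)
      (g := ι₀.comp γ.hom) ?_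
    have e1 : (ι₀.comp γ.hom).comp ((γi.hom.comp (Ideal.Quotient.mk _)).comp κ) =
        (Ideal.Quotient.mk (Grad.outside δ N)).comp κ := RingHom.ext fun c => by
      show ι₀ (γ.hom (γi.hom (Ideal.Quotient.mk _ (κ c)))) = _
      rw [hγ2]
      exact hιmk _ (unitFace N).zero_mem (hdeg0 c)
    rw [e1]
    exact (RingHom.FiniteType.of_surjective _ Ideal.Quotient.mk_surjective).comp
      (show κ.FiniteType from (inferInstance : Algebra.FiniteType Γ(S, S0) A))
  let ε : B →ₐ[Γ(Z0.left, W)] Γ(Z0.left, W) :=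
    { γi.hom.comp (Ideal.Quotient.factor (Grad.outside_anti hface.le)) with
      commutes' := fun r => by
        show γi.hom (((Ideal.Quotient.factor (Grad.outside_anti hface.le)).comp ι₀) (γ.hom r)) = r
        rw [hιs]
        exact hγ1 r }
  obtain ⟨P, _, _, hfin, hproj, ⟨Ψ⟩⟩ := Grad.exists_symEquiv (R := Γ(Z0.left, W)) (hδ.quot N) hface
    (fun m b hm hb => Grad.homog_quot_eq_zero hδ hm hb) ε (fun m b hm hb => by
      obtain ⟨b, hb', rfl⟩ := Grad.exists_homog_lift hδ hb
      show γi.hom (Ideal.Quotient.mk _ b) = 0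
      rw [Ideal.Quotient.eq_zero_iff_mem.2 (Grad.mem_outside hm hb'), map_zero]) (fun m b hm hb => by
      obtain ⟨b, hb', rfl⟩ := Grad.exists_homog_lift hδ hb
      show ι₀ (γ.hom (γi.hom (Ideal.Quotient.mk _ b))) = _
      rw [hγ2]
      exact hιmk _ hm hb')
  -- the square
  let TN := Grad.attrSpec aU e N
  let uN := rN.homEquiv (𝟙 TN)
  let t : TN ⟶ Grad.attrSpec aU e (unitFace N) := rZ.homEquiv.symm ((attrFace aU hface).app (op TN) uN)
  have ht : t.left = Spec.map (CommRingCat.ofHom ι₀) := by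
    have h1 := congrArg CommaMorphism.left (hrN TN (𝟙 TN))
    rw [Category.id_comp] at h1
    obtain ⟨φ', hφ', hφ'm⟩ := Grad.exists_lim aU e hface κ hS0.fromSpec hs TN.hom uN
      (Ideal.Quotient.mk (Grad.outside δ N)) h1
    have h2 : φ' = ι₀.comp (Ideal.Quotient.mk _) := hδ.hom_ext fun m b hb => by
      rw [hφ'm m b hb, RingHom.comp_apply, hι, Grad.secAdd_homog N (unitFace N) hb]
    have h3 := congrArg CommaMorphism.left (hrZ TN t)
    rw [Equiv.apply_symm_apply] at h3
    have h4 : Spec.map (CommRingCat.ofHom φ') ≫ e.hom = t.left ≫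
        Spec.map (CommRingCat.ofHom (Ideal.Quotient.mk (Grad.outside δ (unitFace N)))) ≫ e.hom := hφ'.symm.trans h3
    haveI : IsClosedImmersion (Spec.map (CommRingCat.ofHom (Ideal.Quotient.mk (Grad.outside δ (unitFace N))))) :=
      IsClosedImmersion.spec_of_surjective _ Ideal.Quotient.mk_surjective
    rw [h2, CommRingCat.ofHom_comp, Spec.map_comp, Category.assoc] at h4
    exact ((cancel_mono (Spec.map (CommRingCat.ofHom (Ideal.Quotient.mk (Grad.outside δ (unitFace N)))) ≫ e.hom)).1 h4).symm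
  have hsq : iN.hom ≫ (j.left ∣_ W) = Spec.map (CommRingCat.ofHom ι₀) ≫ i0.hom := by
    rw [← cancel_mono W.ι, Category.assoc, morphismRestrict_ι, Category.assoc, hi0, reassoc_of% hiN, ← ht,
      ← Over.comp_left, ← Over.comp_left]
    refine congrArg CommaMorphism.left (e0.homEquiv.injective ?_)
    rw [hj, Equiv.apply_symm_apply, Grad.post_attrFace]
    have hnat : (attrFace aU hface).app (op TN) uN = rZ.homEquiv t := (Equiv.apply_symm_apply _ _).symm
    rw [hnat, e0.homEquiv_comp]
    refine Eq.trans ?_ (congrArg ((attr a (unitFace N)).map t.op) (Equiv.apply_symm_apply e0.homEquiv _)).symm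
    refine Eq.trans ?_ (ConcreteCategory.congr_hom ((Grad.post hf (unitFace N)).naturality t.op) _)
    refine congrArg ((Grad.post hf (unitFace N)).app (op TN)) ?_
    exact (congrArg rZ.homEquiv (Category.comp_id t)).symm.trans (rZ.homEquiv_comp t (𝟙 _))
  let c1 : CommRingCat.of (SymmetricAlgebra Γ(Z0.left, W) P) ⟶ CommRingCat.of B :=
    CommRingCat.ofHom Ψ.toRingEquiv.toRingHom
  let c2 : CommRingCat.of B ⟶ CommRingCat.of (SymmetricAlgebra Γ(Z0.left, W) P) :=
    CommRingCat.ofHom Ψ.symm.toRingEquiv.toRingHom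
  have hc1 : c1 ≫ c2 = 𝟙 _ := CommRingCat.hom_ext (RingHom.ext fun x => Ψ.symm_apply_apply x)
  have hc2 : c2 ≫ c1 = 𝟙 _ := CommRingCat.hom_ext (RingHom.ext fun x => Ψ.apply_symm_apply x)
  refine ⟨W, hW, hzW, P, inferInstance, inferInstance, hfin, hproj,
    ⟨iN.inv ≫ Spec.map c1, Spec.map c2 ≫ iN.hom, ?_, ?_⟩, ?_⟩
  · rw [Category.assoc, ← Category.assoc (Spec.map c1), ← Spec.map_comp, hc2, Spec.map_id]
    exact (congrArg (iN.inv ≫ ·) (Category.id_comp _)).trans iN.inv_hom_id
  · rw [Category.assoc, iN.hom_inv_id_assoc, ← Spec.map_comp, hc1, Spec.map_id]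
  · show (iN.inv ≫ Spec.map c1) ≫ _ = _
    rw [Category.assoc, Iso.inv_comp_eq, ← Category.assoc, hsq, Category.assoc, ← hγ, ← Spec.map_comp,
      ← Spec.map_comp]
    congr 1
    exact CommRingCat.hom_ext (RingHom.ext fun r => Ψ.commutes r)

end Groth.Agent.S18245
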