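import Groth.Statements.S18247
import Mathlib

set_option autoImplicit false
universe u
open W4c5m1nsnscurves
open Curves W4c5m1nsnscurves MvPolynomial

namespace Groth.Agent.S18247

/-- Case n = 5: the coordinate ring of U_5 over ℤ (m = 2 indices, standing for the points 4 and 5;
generators a, c, c̄, c_4, c̄_4, c_5, c̄_5, c_{45}, c_{54} with the linear and the two quadratic
relations for the one pair of indices, and no triple) is the polynomial ring on a, c_4, c̄_4, c_5,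
c̄_5, c_{45}: the ℤ-algebra map from the polynomial ring in six variables sending the variables to
these six classes, in this order, is bijective. -/
theorem result :
    Function.Bijective (MvPolynomial.aeval (R := ℤ) (S₁ := URing ℤ 2)
      ![ugen ℤ 2 .a, ugen ℤ 2 (.ci 0), ugen ℤ 2 (.cbi 0), ugen ℤ 2 (.ci 1), ugen ℤ 2 (.cbi 1),
        ugen ℤ 2 (.cij 0 1 Fin.zero_ne_one)]) := by
  classical
  let img : UGen 2 → MvPolynomial (Fin 6) ℤ := fun g => match g with
    | .a => X 0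
    | .ci i => if i = 0 then X 1 else X 3
    | .cbi i => if i = 0 then X 2 else X 4
    | .cij i _ _ => if i = 0 then X 5 else X 0 + X 1 + X 2 + X 3 + X 4 - X 5
    | .c => (X 0 + X 1 + X 2 + X 3 + X 4 - X 5) * X 3 + X 5 * X 1 - X 1 * X 3
    | .cb => (X 0 + X 1 + X 2 + X 3 + X 4 - X 5) * X 2 + X 5 * X 4 - X 2 * X 4
  have hrel : ∀ r ∈ URel ℤ 2, aeval img r = 0 := by
    rintro r (((⟨⟨⟨i, j⟩, h⟩, rfl⟩ | ⟨⟨⟨i, j⟩, h⟩, rfl⟩) | ⟨⟨⟨i, j⟩, h⟩, rfl⟩) | ⟨⟨⟨i, j, l⟩, h⟩, rfl⟩)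
    all_goals first
      | (fin_cases i <;> fin_cases j <;> fin_cases l <;> simp at h)
      | (fin_cases i <;> fin_cases j <;> first | (simp at h; done) | (simp [img]; done) | (simp [img] <;> ring))
  let ψ : URing ℤ 2 →ₐ[ℤ] MvPolynomial (Fin 6) ℤ := Ideal.Quotient.liftₐ _ (aeval img) (fun r hr => by
    refine (Ideal.span_le.mpr ?_ : Ideal.span (URel ℤ 2) ≤ RingHom.ker (aeval img).toRingHom) hr
    exact fun r hr => hrel r hr)
  set φ := MvPolynomial.aeval (R := ℤ) (S₁ := URing ℤ 2)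
      ![ugen ℤ 2 .a, ugen ℤ 2 (.ci 0), ugen ℤ 2 (.cbi 0), ugen ℤ 2 (.ci 1), ugen ℤ 2 (.cbi 1),
        ugen ℤ 2 (.cij 0 1 Fin.zero_ne_one)] with hφ
  have hψ : ∀ g, ψ (ugen ℤ 2 g) = img g := fun g => aeval_X img g
  have h1 : ψ.comp φ = AlgHom.id ℤ _ := by
    refine MvPolynomial.algHom_ext fun s => ?_
    rw [AlgHom.comp_apply, hφ, aeval_X, AlgHom.id_apply]
    fin_cases s <;> exact hψ _
  have hrel0 : ∀ r ∈ URel ℤ 2, (Ideal.Quotient.mk (Ideal.span (URel ℤ 2)) r) = 0 := fun r hr =>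
    Ideal.Quotient.eq_zero_iff_mem.mpr (Ideal.subset_span hr)
  have hsum : ugen ℤ 2 (.cij 0 1 Fin.zero_ne_one) + ugen ℤ 2 (.cij 1 0 Fin.zero_ne_one.symm) =
      ugen ℤ 2 .a + ugen ℤ 2 (.ci 0) + ugen ℤ 2 (.cbi 0) + ugen ℤ 2 (.ci 1) + ugen ℤ 2 (.cbi 1) := by
    have := hrel0 _ (Or.inl (Or.inl (Or.inl ⟨⟨((0 : Fin 2), (1 : Fin 2)), Fin.zero_ne_one⟩, rfl⟩)))
    simp only [map_sub, map_add, sub_eq_zero] at this
    exact this
  have hc := hrel0 _ (Or.inl (Or.inl (Or.inr ⟨⟨((0 : Fin 2), (1 : Fin 2)), Fin.zero_ne_one⟩, rfl⟩)))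
  have hcb := hrel0 _ (Or.inl (Or.inr ⟨⟨((0 : Fin 2), (1 : Fin 2)), Fin.zero_ne_one⟩, rfl⟩))
  simp only [map_sub, map_add, map_mul, sub_eq_zero] at hc hcb
  change _ = ugen ℤ 2 .c at hc
  change _ = ugen ℤ 2 .cb at hcb
  have h2 : ∀ g, φ (img g) = ugen ℤ 2 g := by
    have h10 : φ (X 0 + X 1 + X 2 + X 3 + X 4 - X 5) = ugen ℤ 2 (.cij 1 0 Fin.zero_ne_one.symm) := by
      simp only [hφ, map_add, map_sub, aeval_X]
      simp
      linear_combination -hsum
    intro g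
    cases g with
    | a => simp [img, hφ]
    | ci i => fin_cases i <;> simp [img, hφ]
    | cbi i => fin_cases i <;> simp [img, hφ]
    | cij i j h =>
      fin_cases i <;> fin_cases j <;> first
        | exact absurd rfl h
        | (simp [img, hφ]; done)
        | exact h10
    | c =>
      rw [← hc]
      simp only [img, map_add, map_sub, map_mul, h10]
      simp [hφ, ugen]
    | cb =>
      rw [← hcb]
      simp only [img, map_add, map_sub, map_mul, h10]
      simp [hφ, ugen]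
  refine ⟨fun x y hxy => ?_, fun y => ?_⟩
  · simpa using (AlgHom.congr_fun h1 x).symm.trans ((congrArg ψ hxy).trans (AlgHom.congr_fun h1 y))
  · obtain ⟨p, rfl⟩ := Ideal.Quotient.mk_surjective y
    refine ⟨aeval img p, ?_⟩
    have h3 : φ.comp (aeval img) = Ideal.Quotient.mkₐ ℤ (Ideal.span (URel ℤ 2)) :=
      MvPolynomial.algHom_ext fun g => by rw [AlgHom.comp_apply, aeval_X]; exact h2 g
    exact AlgHom.congr_fun h3 p

end Groth.Agent.S18247
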