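import Groth.Statements.S18248
import Mathlib

set_option autoImplicit false
universe u
open W4c5m1nsnscurves
open Curves W4c5m1nsnscurves

namespace Groth.Agent.S18248

open MvPolynomial

abbrev G (m : ℕ) : Type := Option ((Fin m ⊕ Fin m) ⊕ {q : Fin m × Fin m // q.1 < q.2})

def γ {m : ℕ} : G m → UGen m
  | none => .a
  | some (.inl (.inl i)) => .ci i
  | some (.inl (.inr i)) => .cbi i
  | some (.inr q) => .cij q.1.1 q.1.2 (ne_of_lt q.2)

noncomputable def lin (k : Type u) [CommRing k] {m : ℕ} : UGen m → (G m →₀ k)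
  | .a => Finsupp.single none 1
  | .ci i => Finsupp.single (some (.inl (.inl i))) 1
  | .cbi i => Finsupp.single (some (.inl (.inr i))) 1
  | .c => 0
  | .cb => 0
  | .cij i j h =>
    if hij : i < j then Finsupp.single (some (.inr ⟨(i, j), hij⟩)) 1
    else Finsupp.single none 1 + Finsupp.single (some (.inl (.inl i))) 1 + Finsupp.single (some (.inl (.inr i))) 1 +
      Finsupp.single (some (.inl (.inl j))) 1 + Finsupp.single (some (.inl (.inr j))) 1 -
      Finsupp.single (some (.inr ⟨(j, i), lt_of_le_of_ne (not_lt.mp hij) (Ne.symm h)⟩)) 1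

theorem card_G (m : ℕ) (hm : 1 ≤ m) : Fintype.card (G m) = (m + 2) * (m + 1) / 2 := by
  have h1 : Fintype.card {q : Fin m × Fin m // q.1 < q.2} = m * (m - 1) / 2 := by
    rw [← Finset.sum_range_id, ← Fin.sum_univ_eq_sum_range,
      show (∑ i : Fin m, (i : ℕ)) = Fintype.card ((j : Fin m) × Fin j) by simp [Fintype.card_sigma]]
    exact Fintype.card_congr
      { toFun := fun q => ⟨q.1.2, ⟨q.1.1, q.2⟩⟩
        invFun := fun p => ⟨(⟨p.2, p.2.2.trans p.1.2⟩, p.1), p.2.2⟩
        left_inv := fun q => rfl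
        right_inv := fun p => rfl }
  simp only [Fintype.card_option, Fintype.card_sum, Fintype.card_fin, h1]
  have h2 : (m + 2) * (m + 1) = m * (m - 1) + 2 * (2 * m + 1) := by
    obtain ⟨n, rfl⟩ : ∃ n, m = n + 1 := ⟨m - 1, by omega⟩
    simp; ring
  rw [h2, Nat.add_mul_div_left _ _ (by norm_num : 0 < 2)]
  omega

theorem rels (R : Type u) [CommRing R] (m : ℕ) :
    (∀ i j : Fin m, ∀ h : i ≠ j, ugen R m (.cij i j h) + ugen R m (.cij j i h.symm) =
      ugen R m .a + ugen R m (.ci i) + ugen R m (.cbi i) + ugen R m (.ci j) + ugen R m (.cbi j)) ∧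
    (∀ i j : Fin m, ∀ h : i ≠ j, ugen R m .c = ugen R m (.cij j i h.symm) * ugen R m (.ci j) +
      ugen R m (.cij i j h) * ugen R m (.ci i) - ugen R m (.ci i) * ugen R m (.ci j)) ∧
    (∀ i j : Fin m, ∀ h : i ≠ j, ugen R m .cb = ugen R m (.cij j i h.symm) * ugen R m (.cbi i) +
      ugen R m (.cij i j h) * ugen R m (.cbi j) - ugen R m (.cbi i) * ugen R m (.cbi j)) := by
  have h0 : ∀ r ∈ URel R m, (Ideal.Quotient.mk (Ideal.span (URel R m)) r) = 0 := fun r hr =>
    Ideal.Quotient.eq_zero_iff_mem.mpr (Ideal.subset_span hr)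
  refine ⟨fun i j h => ?_, fun i j h => ?_, fun i j h => ?_⟩
  · have := h0 _ (Or.inl (Or.inl (Or.inl ⟨⟨(i, j), h⟩, rfl⟩)))
    simp only [map_sub, map_add, sub_eq_zero] at this
    exact this
  · have := h0 _ (Or.inl (Or.inl (Or.inr ⟨⟨(i, j), h⟩, rfl⟩)))
    simp only [map_sub, map_add, map_mul, sub_eq_zero] at this
    exact this.symm
  · have := h0 _ (Or.inl (Or.inr ⟨⟨(i, j), h⟩, rfl⟩))
    simp only [map_sub, map_add, map_mul, sub_eq_zero] at this
    exact this.symm

open TrivSqZeroExt in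
theorem finrank_cotangent (k : Type u) [Field k] (m : ℕ) (hm : 2 ≤ m) :
    Module.finrank k (uorigin k m).Cotangent = (m + 2) * (m + 1) / 2 := by
  classical
  obtain ⟨hlin, hc, hcb⟩ := rels k m
  let V := G m →₀ k
  let η₀ : MvPolynomial (UGen m) k →ₐ[k] TrivSqZeroExt k V := aeval fun g => inr (lin k g)
  have hη : ∀ r ∈ URel k m, η₀ r = 0 := by
    rintro r (((⟨⟨⟨i, j⟩, h⟩, rfl⟩ | ⟨⟨⟨i, j⟩, h⟩, rfl⟩) | ⟨⟨⟨i, j⟩, h⟩, rfl⟩) | ⟨⟨⟨i, j, l⟩, h⟩, rfl⟩)
    · simp only [η₀, map_sub, map_add, aeval_X, ← inr_add, ← inr_sub]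
      rw [← inr_zero k]
      congr 1
      rcases lt_or_gt_of_ne h with h' | h'
      · simp [lin, h', h'.not_gt] <;> abel
      · simp [lin, h', h'.not_gt] <;> abel
    · simp only [η₀, map_sub, map_add, map_mul, aeval_X, inr_mul_inr]
      simp [lin]
    · simp only [η₀, map_sub, map_add, map_mul, aeval_X, inr_mul_inr]
      simp [lin]
    · simp only [η₀, map_sub, map_add, map_mul, aeval_X, add_mul, inr_mul_inr]
      simp [lin]
  let η : URing k m →ₐ[k] TrivSqZeroExt k V := Ideal.Quotient.liftₐ _ η₀ (fun r hr =>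
    (Ideal.span_le.mpr (fun r hr => hη r hr) : Ideal.span (URel k m) ≤ RingHom.ker η₀.toRingHom) hr)
  have hηg : ∀ g, η (ugen k m g) = inr (lin k g) := fun g => aeval_X _ g
  have hfst : ∀ x ∈ uorigin k m, (η x).fst = 0 := by
    intro x hx
    induction hx using Submodule.span_induction with
    | mem x hx => obtain ⟨g, rfl⟩ := hx; rw [hηg, fst_inr]
    | zero => rw [map_zero, fst_zero]
    | add x y _ _ hx hy => rw [map_add, fst_add, hx, hy, add_zero]
    | smul r x _ hx => rw [smul_eq_mul, map_mul, fst_mul, hx, mul_zero]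
  let ψ₀ : ↥((uorigin k m).restrictScalars k) →ₗ[k] V :=
    { toFun := fun x => (η x.1).snd
      map_add' := fun x y => by rw [Submodule.coe_add, map_add, snd_add]
      map_smul' := fun r x => by rw [Submodule.coe_smul, map_smul, snd_smul]; rfl }
  let τ : ↥((uorigin k m).restrictScalars k) →ₗ[k] (uorigin k m).Cotangent :=
    { toFun := fun x => (uorigin k m).toCotangent ⟨x.1, x.2⟩
      map_add' := fun x y => map_add (uorigin k m).toCotangent ⟨x.1, x.2⟩ ⟨y.1, y.2⟩
      map_smul' := fun r x => by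
        rw [RingHom.id_apply, ← algebraMap_smul (URing k m) r ((uorigin k m).toCotangent ⟨x.1, x.2⟩), ← map_smul]
        congr 1
        exact Subtype.ext (Algebra.smul_def r x.1) }
  have hτ : LinearMap.ker τ ≤ LinearMap.ker ψ₀ := by
    intro x hx
    have hx' : x.1 ∈ uorigin k m ^ 2 := (Ideal.toCotangent_eq_zero _ _).mp hx
    rw [pow_two] at hx'
    change (η x.1).snd = 0
    refine Submodule.mul_induction_on hx' (fun a ha b hb => ?_) (fun a b ha hb => ?_)
    · rw [map_mul, snd_mul, hfst a ha, hfst b hb]; simp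
    · rw [map_add, snd_add, ha, hb, add_zero]
  have hτs : Function.Surjective τ := fun y => by
    obtain ⟨⟨x, hx⟩, rfl⟩ := Ideal.toCotangent_surjective _ y
    exact ⟨⟨x, hx⟩, rfl⟩
  let Ψ : (uorigin k m).Cotangent →ₗ[k] V :=
    ((LinearMap.ker τ).liftQ ψ₀ hτ).comp (τ.quotKerEquivOfSurjective hτs).symm.toLinearMap
  have hΨ : ∀ x, Ψ (τ x) = ψ₀ x := fun x => by
    have : (τ.quotKerEquivOfSurjective hτs).symm (τ x) = Submodule.Quotient.mk x := by
      rw [LinearEquiv.symm_apply_eq]; rfl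
    change ((LinearMap.ker τ).liftQ ψ₀ hτ) ((τ.quotKerEquivOfSurjective hτs).symm (τ x)) = _
    rw [this]; rfl
  have hmem : ∀ g, ugen k m g ∈ uorigin k m := fun g => Ideal.subset_span ⟨g, rfl⟩
  let cls : UGen m → (uorigin k m).Cotangent := fun g => τ ⟨ugen k m g, hmem g⟩
  let Φ : V →ₗ[k] (uorigin k m).Cotangent := Finsupp.linearCombination k (fun g => cls (γ g))
  have hΦ1 : ∀ g, Φ (Finsupp.single g 1) = cls (γ g) := fun g => by
    change Finsupp.linearCombination k _ _ = _; rw [Finsupp.linearCombination_single, one_smul]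
  have hΦ : ∀ g, Φ (lin k g) = cls g := by
    obtain ⟨i₀, j₀, h₀⟩ : ∃ i j : Fin m, i ≠ j := ⟨⟨0, by omega⟩, ⟨1, by omega⟩, by simp [Fin.ext_iff]⟩
    have hsq : ∀ x (hx : x ∈ uorigin k m), x ∈ uorigin k m ^ 2 → τ ⟨x, hx⟩ = 0 := fun x hx h =>
      (Ideal.toCotangent_eq_zero _ _).mpr h
    have hprod : ∀ g g' : UGen m, ugen k m g * ugen k m g' ∈ uorigin k m ^ 2 := fun g g' => by
      rw [pow_two]; exact Ideal.mul_mem_mul (hmem g) (hmem g')
    intro g
    cases g with
    | a => exact hΦ1 none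
    | ci i => exact hΦ1 (some (.inl (.inl i)))
    | cbi i => exact hΦ1 (some (.inl (.inr i)))
    | c =>
      rw [show lin k (UGen.c : UGen m) = 0 from rfl, map_zero]
      refine (hsq _ _ ?_).symm
      rw [hc i₀ j₀ h₀]
      exact sub_mem (add_mem (hprod _ _) (hprod _ _)) (hprod _ _)
    | cb =>
      rw [show lin k (UGen.cb : UGen m) = 0 from rfl, map_zero]
      refine (hsq _ _ ?_).symm
      rw [hcb i₀ j₀ h₀]
      exact sub_mem (add_mem (hprod _ _) (hprod _ _)) (hprod _ _)
    | cij i j h =>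
      by_cases hij : i < j
      · simp only [lin, dif_pos hij]
        exact hΦ1 (some (.inr ⟨(i, j), hij⟩))
      · simp only [lin, dif_neg hij, map_add, map_sub, hΦ1, γ]
        rw [sub_eq_iff_eq_add]
        simp only [cls, ← map_add]
        congr 1
        exact Subtype.ext (hlin i j h).symm
  have hres : ∀ r : URing k m, ∃ c : k, r - algebraMap k _ c ∈ uorigin k m := by
    intro r
    obtain ⟨p, rfl⟩ := Ideal.Quotient.mk_surjective r
    induction p using MvPolynomial.induction_on with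
    | C a => exact ⟨a, by rw [show Ideal.Quotient.mk _ (C a) = algebraMap k (URing k m) a from rfl, sub_self]; exact zero_mem _⟩
    | add p q hp hq =>
      obtain ⟨a, ha⟩ := hp
      obtain ⟨b, hb⟩ := hq
      refine ⟨a + b, ?_⟩
      rw [map_add, map_add, add_sub_add_comm]
      exact add_mem ha hb
    | mul_X p g _ =>
      refine ⟨0, ?_⟩
      rw [map_zero, sub_zero, map_mul]
      exact Ideal.mul_mem_left _ _ (hmem g)
  have hsurj : Function.Surjective Φ := by
    intro y
    obtain ⟨⟨x, hx⟩, rfl⟩ := Ideal.toCotangent_surjective _ y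
    suffices h : ∀ hx : x ∈ uorigin k m, (uorigin k m).toCotangent ⟨x, hx⟩ ∈ LinearMap.range Φ from h hx
    induction hx using Submodule.span_induction with
    | mem x hx => obtain ⟨g, rfl⟩ := hx; intro _; exact ⟨lin k g, hΦ g⟩
    | zero => intro h; rw [show (⟨0, h⟩ : ↥(uorigin k m)) = 0 from rfl, map_zero]; exact zero_mem _
    | add a b ha hb iha ihb =>
      intro h
      rw [show (⟨a + b, h⟩ : ↥(uorigin k m)) = ⟨a, ha⟩ + ⟨b, hb⟩ from rfl, map_add]
      exact add_mem (iha ha) (ihb hb)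
    | smul r a ha iha =>
      intro h
      obtain ⟨c, hc'⟩ := hres r
      have he : (uorigin k m).toCotangent ⟨r • a, h⟩ = c • (uorigin k m).toCotangent ⟨a, ha⟩ := by
        rw [← algebraMap_smul (URing k m) c ((uorigin k m).toCotangent ⟨a, ha⟩), ← map_smul, ← sub_eq_zero, ← map_sub, Ideal.toCotangent_eq_zero, pow_two]
        change r * a - algebraMap k _ c * a ∈ _
        rw [← sub_mul]
        exact Ideal.mul_mem_mul hc' ha
      rw [he]
      exact Submodule.smul_mem _ c (iha ha)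
  have hinj : Function.Injective Φ := by
    have : Ψ.comp Φ = LinearMap.id := by
      refine Finsupp.lhom_ext fun g r => ?_
      have hsg : lin k (γ g) = Finsupp.single g (1 : k) := by
        rcases g with - | ((i | i) | q)
        · rfl
        · rfl
        · rfl
        · simp only [γ, lin, dif_pos q.2]
      rw [← mul_one r, ← smul_eq_mul, ← Finsupp.smul_single, LinearMap.comp_apply, map_smul, map_smul, hΦ1, LinearMap.id_apply]
      congr 1
      rw [hΨ]
      change (η (ugen k m (γ g))).snd = _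
      rw [hηg, snd_inr, hsg]
    exact Function.LeftInverse.injective (g := Ψ) fun x => LinearMap.congr_fun this x
  rw [← (LinearEquiv.ofBijective Φ ⟨hinj, hsurj⟩).finrank_eq, Module.finrank_finsupp_self, card_G m (by omega)]

theorem adjoin_top (m : ℕ) (hm : 2 ≤ m) :
    Algebra.adjoin ℤ ({ugen ℤ m .a} ∪ Set.range (fun i : Fin m => ugen ℤ m (.ci i)) ∪
        Set.range (fun i : Fin m => ugen ℤ m (.cbi i)) ∪
        Set.range (fun q : {q : Fin m × Fin m // q.1 < q.2} => ugen ℤ m (.cij q.1.1 q.1.2 (ne_of_lt q.2)))) = ⊤ := by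
  obtain ⟨hlin, hc, hcb⟩ := rels ℤ m
  set A := Algebra.adjoin ℤ ({ugen ℤ m .a} ∪ Set.range (fun i : Fin m => ugen ℤ m (.ci i)) ∪
        Set.range (fun i : Fin m => ugen ℤ m (.cbi i)) ∪
        Set.range (fun q : {q : Fin m × Fin m // q.1 < q.2} => ugen ℤ m (.cij q.1.1 q.1.2 (ne_of_lt q.2))))
  have ha : ugen ℤ m .a ∈ A := Algebra.subset_adjoin (Or.inl (Or.inl (Or.inl rfl)))
  have hci : ∀ i, ugen ℤ m (.ci i) ∈ A := fun i => Algebra.subset_adjoin (Or.inl (Or.inl (Or.inr ⟨i, rfl⟩)))
  have hcbi : ∀ i, ugen ℤ m (.cbi i) ∈ A := fun i => Algebra.subset_adjoin (Or.inl (Or.inr ⟨i, rfl⟩))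
  have hcij : ∀ i j h, ugen ℤ m (.cij i j h) ∈ A := by
    intro i j h
    rcases lt_or_gt_of_ne h with h' | h'
    · exact Algebra.subset_adjoin (Or.inr ⟨⟨(i, j), h'⟩, rfl⟩)
    · rw [eq_sub_of_add_eq (hlin i j h)]
      exact sub_mem (add_mem (add_mem (add_mem (add_mem ha (hci i)) (hcbi i)) (hci j)) (hcbi j))
        (Algebra.subset_adjoin (Or.inr ⟨⟨(j, i), h'⟩, rfl⟩))
  have h₀ : (⟨0, by omega⟩ : Fin m) ≠ ⟨1, by omega⟩ := by simp [Fin.ext_iff]
  have hall : ∀ g, ugen ℤ m g ∈ A := by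
    intro g
    cases g with
    | a => exact ha
    | ci i => exact hci i
    | cbi i => exact hcbi i
    | cij i j h => exact hcij i j h
    | c => rw [hc _ _ h₀]; exact sub_mem (add_mem (mul_mem (hcij _ _ _) (hci _)) (mul_mem (hcij _ _ _) (hci _))) (mul_mem (hci _) (hci _))
    | cb => rw [hcb _ _ h₀]; exact sub_mem (add_mem (mul_mem (hcij _ _ _) (hcbi _)) (mul_mem (hcij _ _ _) (hcbi _))) (mul_mem (hcbi _) (hcbi _))
  refine eq_top_iff.mpr fun x _ => ?_
  obtain ⟨p, rfl⟩ := Ideal.Quotient.mk_surjective x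
  induction p using MvPolynomial.induction_on with
  | C n =>
    rw [show (C n : MvPolynomial (UGen m) ℤ) = algebraMap ℤ _ n from rfl]
    exact A.algebraMap_mem n
  | add p q hp hq => rw [map_add]; exact add_mem (hp trivial) (hq trivial)
  | mul_X p g hp => rw [map_mul]; exact mul_mem (hp trivial) (hall g)


/-- Let m ≥ 2, so that n = m + 3 ≥ 5 points are marked. For every field k, the Zariski cotangent space
of U_n over k at the origin, that is I/I² for the ideal I of the coordinate ring of U_n over k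
generated by the classes of all the generators a, c, c̄, c_i, c̄_i, c_{ij}, has dimension (n − 1)(n
− 2)/2 = (m + 2)(m + 1)/2 over k; and the weight-one classes a, c_i, c̄_i (all indices i) and c_{ij}
(i < j) generate the coordinate ring of U_n over ℤ as a ℤ-algebra (so they form a minimal generating
set). -/
theorem result (m : ℕ) (hm : 2 ≤ m) :
    (∀ (k : Type u) [Field k], Module.finrank k (uorigin k m).Cotangent = (m + 2) * (m + 1) / 2) ∧
    Algebra.adjoin ℤ ({ugen ℤ m .a} ∪ Set.range (fun i : Fin m => ugen ℤ m (.ci i)) ∪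
        Set.range (fun i : Fin m => ugen ℤ m (.cbi i)) ∪
        Set.range (fun q : {q : Fin m × Fin m // q.1 < q.2} => ugen ℤ m (.cij q.1.1 q.1.2 (ne_of_lt q.2)))) = ⊤ := by
  exact ⟨fun k _ => finrank_cotangent k m hm, adjoin_top m hm⟩

end Groth.Agent.S18248
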