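import Groth.Statements.S18250
import Groth.Agent.H17.GorCurve.RDualPoint

set_option autoImplicit false
universe u
open AlgebraicGeometry CategoryTheory CategoryTheory.Limits
open Curves

namespace Groth.Agent.S18250

/-- Let k be an algebraically closed field and C a reduced, connected scheme, proper over k and of
dimension one (a reduced connected projective curve), of arithmetic genus 1, i.e. dim_k H^1(C, O_C)
= 1. Let (ω, tr) be a 1-dualizing pair for C over k (ω a dualizing sheaf with its trace on H^1), let
p be a closed point of C whose local ring is regular (a smooth point), and let L be an invertible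
O_C-module inverse to the ideal sheaf of the reduced point p (L = O_C(p)). Then dim_k H^0(C, L) = 1
if and only if H^1(C, L) = 0; and H^1(C, L) = 0 if and only if every nonzero global section s of ω
generates ω near p, i.e. p lies in the open C_s (equivalently, since H^0(C, ω) and the fibre of ω at
p are one-dimensional, the restriction map from H^0(C, ω) to the fibre of ω at p is an isomorphism). -/
theorem result
    (k : Type u) [Field k] [IsAlgClosed k] (C : Scheme.{u}) [C.Over (Spec (CommRingCat.of k))]
    [IsProper (C ↘ Spec (CommRingCat.of k))] [AlgebraicGeometry.IsReduced C] [ConnectedSpace C]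
    (hdim : topologicalKrullDim C = 1) (hg : Curv2.genus k C = 1)
    (ω : C.Modules) (tr : Coh.HH C ω 1 →ₗ[k] k) (hω : Canon.IsRDualOver k C 1 ω tr)
    (p : C) (hp : IsClosed ({p} : Set C)) (hreg : IsRegularLocalRing (C.presheaf.stalk p))
    (L : C.Modules)
    (hL : ClSub.IsInverseOf L (ClSub.idealMod (Scheme.IdealSheafData.vanishingIdeal ⟨{p}, hp⟩))) :
    (Module.finrank k (Coh.HH C L 0) = 1 ↔ Subsingleton (Coh.HH C L 1)) ∧
      (Subsingleton (Coh.HH C L 1) ↔
        ∀ s : Coh.structureModule C ⟶ ω, s ≠ 0 → p ∈ CohB1.genLocus ω s) := by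
  haveI := H28Int.isNoetherian k (X := C)
  have hequi := H17.GorCurve.equidim_of_connected (k := k) hdim
  set S : TopologicalSpace.Closeds C := ⟨{p}, hp⟩
  have hcl : ∀ z ∈ S, IsClosed ({z} : Set C) := fun z (hz : z = p) => hz ▸ hp
  have hdimp := H06Wedge.ringKrullDim_stalk_of_pure_one (K := k) hequi hp
  have hprin : (IsLocalRing.maximalIdeal (C.presheaf.stalk p)).IsPrincipal := by
    have h2 := (IsRegularLocalRing.iff_finrank_cotangentSpace (R := C.presheaf.stalk p)).1 hreg
    rw [hdimp] at h2
    have h3 : (IsLocalRing.maximalIdeal (C.presheaf.stalk p)).spanFinrank = 1 := by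
      rw [IsLocalRing.spanFinrank_maximalIdeal_eq_finrank_cotangentSpace]
      exact_mod_cast h2
    exact ((Submodule.spanFinrank_eq_one_iff _).1 h3).1
  have hI := H17.GorCurve.isEffCartierIdeal_idl (S := S) (Set.finite_singleton p) hcl
    (fun z (hz : z = p) => hz ▸ ⟨hprin, hdimp⟩)
  have hII := H29Blow.isInvertible_of_isEffCartierIdeal _ hI
  obtain ⟨eL⟩ := hL
  have hLi : PicF.IsInvertible L :=
    H29CurveDual.isInvertible_of_isInverseOf hII ⟨H10Coh.Tw.commIso _ _ ≪≫ eL⟩
  have hfinL : ∀ n, Module.Finite k (Coh.HH C L n) := fun n =>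
    H10Coh.finite_HH_proper k C L (H11Ample.isCoh_of_isInvertible hLi) n
  haveI := hfinL 0
  haveI := hfinL 1
  have hdeg : Curv2.euler k C L = 1 := by
    have hO : Curv2.euler k C (Coh.structureModule C) = 0 := by
      rw [H29RR.euler_eq_sub (k := k) hdim.le, H29RR.finrank_h0_structure k C]
      show (1 : ℕ) - ((Curv2.genus k C : ℕ) : ℤ) = 0
      rw [hg]; rfl
    have h := H27Prod.deg_tensor k (by exact_mod_cast hdim.le) hLi hII
    rw [H27Prod.deg_congr k eL, H27Prod.deg_structure k,
      H17.GorCurve.deg_idl (k := k) (S := S) hdim.le (Set.finite_singleton p) hcl, H29RR.deg_def, hO] at h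
    have h1 : (S : Set C).ncard = 1 := Set.ncard_singleton p
    rw [h1] at h
    omega
  rw [H29RR.euler_eq_sub (k := k) hdim.le] at hdeg
  refine ⟨⟨fun h1 => Module.finrank_zero_iff.1 (show Module.finrank k (Coh.HH C L 1) = 0 by omega), fun h1 => ?_⟩, ?_⟩
  · rw [Module.finrank_zero_of_subsingleton (R := k) (M := Coh.HH C L 1)] at hdeg
    omega
  have hb := hω.2 L (H11Ample.isCoh_of_isInvertible hLi).1
  have hiff : Subsingleton (Coh.HH C L 1) ↔ Subsingleton (L ⟶ ω) := by
    rw [(Equiv.ofBijective _ hb).subsingleton_congr]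
    exact ⟨fun _ => inferInstance, fun _ => (Module.subsingleton_dual_iff k).1 inferInstance⟩
  rw [hiff]
  exact H17.GorCurve.twist_point_iff hp hI hLi eL
    (H17.GorCurve.exists_isGen_of_isRDualOver hdim hω hp hreg)

end Groth.Agent.S18250
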