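import Groth.Statements.S18251
import Mathlib

set_option autoImplicit false
universe u
open W4c5m1nsnscurves
open Curves W4c5m1nsnscurves

namespace Groth.Agent.S18251

abbrev Idx : Type := Option (ℕ ⊕ (Fin 2 × ℕ))

/-- Normal form of `y ^ j * x ^ i`. -/
noncomputable def nf {R : Type u} [CommRing R] (a b c d : R) : ℕ → ℕ → (Idx →₀ R)
  | 0, 0 => Finsupp.single none 1
  | 0, i + 1 => Finsupp.single (some (Sum.inr (0, i))) 1
  | 1, 0 => Finsupp.single (some (Sum.inr (1, 0))) 1
  | 1, i + 1 => Finsupp.single (some (Sum.inl i)) 1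
  | j + 2, 0 => Finsupp.single (some (Sum.inr (1, j + 1))) 1
  | j + 2, i + 1 => nf a b c d (j + 1) (i + 2) + a • nf a b c d (j + 1) (i + 1) + b • nf a b c d j (i + 1) +
      c • nf a b c d (j + 1) i + d • nf a b c d j i

open MvPolynomial in
theorem indep (R : Type u) [CommRing R] (a b c d : R) : LinearIndependent R (cmon3 R a b c d) := by
  classical
  let P := MvPolynomial (Fin 2) R
  let L : P →ₗ[R] (Idx →₀ R) := (MvPolynomial.basisMonomials (Fin 2) R).constr R (fun e => nf a b c d (e 1) (e 0))
  have hL : ∀ e, L (monomial e 1) = nf a b c d (e 1) (e 0) := fun e => by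
    have := (MvPolynomial.basisMonomials (Fin 2) R).constr_basis R (fun e => nf a b c d (e 1) (e 0)) e
    rwa [MvPolynomial.coe_basisMonomials] at this
  have hXY : ∀ (e : Fin 2 →₀ ℕ) (i j : ℕ), L (monomial e 1 * (X 0 ^ i * X 1 ^ j)) = nf a b c d (e 1 + j) (e 0 + i) := by
    intro e i j
    rw [X_pow_eq_monomial, X_pow_eq_monomial, monomial_mul, monomial_mul, mul_one, mul_one, hL]
    simp
  let r : P := X 0 * X 1 ^ 2 - X 0 ^ 2 * X 1 - (C a * X 0 * X 1 + C b * X 0 + C c * X 1 + C d)
  have hr : ∀ e, L (monomial e 1 * r) = 0 := by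
    intro e
    have he : monomial e 1 * r = monomial e 1 * (X 0 ^ 1 * X 1 ^ 2) - monomial e 1 * (X 0 ^ 2 * X 1 ^ 1) -
        (a • (monomial e 1 * (X 0 ^ 1 * X 1 ^ 1)) + b • (monomial e 1 * (X 0 ^ 1 * X 1 ^ 0)) +
          c • (monomial e 1 * (X 0 ^ 0 * X 1 ^ 1)) + d • (monomial e 1 * (X 0 ^ 0 * X 1 ^ 0))) := by
      simp only [r, MvPolynomial.smul_eq_C_mul]; ring
    rw [he, map_sub, map_sub, map_add, map_add, map_add, map_smul, map_smul, map_smul, map_smul,
      hXY, hXY, hXY, hXY, hXY, hXY]
    simp only [add_zero]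
    rw [show e 1 + 2 = e 1 + 1 + 1 from rfl, show nf a b c d (e 1 + 1 + 1) (e 0 + 1) = _ from rfl, nf]
    abel
  have hker : (Ideal.span {r}).restrictScalars R ≤ LinearMap.ker L := by
    intro p hp
    obtain ⟨q, rfl⟩ := Ideal.mem_span_singleton'.mp hp
    clear hp
    rw [LinearMap.mem_ker]
    induction q using MvPolynomial.induction_on' with
    | monomial e x =>
      rw [show monomial e x = x • monomial e (1 : R) by rw [smul_monomial, smul_eq_mul, mul_one],
        smul_mul_assoc, map_smul, hr, smul_zero]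
    | add p q hp hq =>
      rw [add_mul, map_add, hp, hq, add_zero]
  let Lb : (P ⧸ (Ideal.span {r}).restrictScalars R) →ₗ[R] (Idx →₀ R) := Submodule.liftQ _ L hker
  let e : CurveAlg3 R a b c d →ₗ[R] (P ⧸ (Ideal.span {r}).restrictScalars R) :=
    (Submodule.Quotient.restrictScalarsEquiv R (Ideal.span {r})).symm.toLinearMap
  have key : ∀ (i j : ℕ), (Lb.comp e) (Ideal.Quotient.mk _ (X 0 ^ i * X 1 ^ j)) = nf a b c d j i := by
    intro i j
    have := hXY 0 i j
    rw [show (monomial (0 : Fin 2 →₀ ℕ) (1 : R)) = 1 from rfl, one_mul] at this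
    simp only [Finsupp.coe_zero, Pi.zero_apply, zero_add] at this
    exact this
  refine LinearIndependent.of_comp (Lb.comp e) ?_
  have hco : ⇑(Lb.comp e) ∘ cmon3 R a b c d = fun i : Idx => Finsupp.single i (1 : R) := by
    funext i
    rcases i with - | k | ⟨y, k⟩
    · simpa [cmon3, nf] using key 0 0
    · simpa [cmon3, nf] using key (k + 1) 1
    · fin_cases y
      · simpa [cmon3, nf] using key (k + 1) 0
      · rcases k with - | k
        · simpa [cmon3, nf] using key 0 1
        · simpa [cmon3, nf] using key 0 (k + 2)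
  rw [hco]
  exact Finsupp.linearIndependent_single_one R Idx

open MvPolynomial in
theorem spans (R : Type u) [CommRing R] (a b c d : R) : Submodule.span R (Set.range (cmon3 R a b c d)) = ⊤ := by
  classical
  set S := Submodule.span R (Set.range (cmon3 R a b c d)) with hS
  let x : CurveAlg3 R a b c d := Ideal.Quotient.mk _ (X 0)
  let y : CurveAlg3 R a b c d := Ideal.Quotient.mk _ (X 1)
  have hrel : x * y ^ 2 = x ^ 2 * y + (a • (x * y) + b • x + c • y + d • 1) := by
    have h : x * y ^ 2 - x ^ 2 * y -
        (algebraMap R _ a * x * y + algebraMap R _ b * x + algebraMap R _ c * y + algebraMap R _ d) = 0 := by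
      exact Ideal.Quotient.eq_zero_iff_mem.mpr (Ideal.mem_span_singleton_self _)
    have sm : ∀ (r : R) (z : CurveAlg3 R a b c d), r • z = algebraMap R (CurveAlg3 R a b c d) r * z :=
      fun r z => Algebra.smul_def r z
    refine (sub_eq_zero.mp ?_)
    erw [sm, sm, sm, sm]
    linear_combination h
  have hb : ∀ i, cmon3 R a b c d i ∈ S := fun i => Submodule.subset_span ⟨i, rfl⟩
  have h1 : (1 : CurveAlg3 R a b c d) ∈ S := hb none
  have hx : ∀ k, x ^ k ∈ S := by
    rintro (- | k)
    · simpa using h1
    · simpa [cmon3, x, map_pow] using hb (some (Sum.inr (0, k)))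
  have hy : ∀ k, y ^ k ∈ S := by
    rintro (- | k)
    · simpa using h1
    · simpa [cmon3, y, map_pow] using hb (some (Sum.inr (1, k)))
  have hxy : ∀ k, x ^ k * y ∈ S := by
    rintro (- | k)
    · simpa using hy 1
    · simpa [cmon3, x, y, map_pow] using hb (some (Sum.inl k))
  have hmy : ∀ s ∈ S, s * y ∈ S := by
    intro s hs
    induction hs using Submodule.span_induction with
    | mem s hs =>
      obtain ⟨i, rfl⟩ := hs
      rcases i with - | k | ⟨z, k⟩
      · simpa [cmon3] using hy 1
      · have : cmon3 R a b c d (some (Sum.inl k)) * y = x ^ k * (x * y ^ 2) := by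
          simp only [cmon3, map_mul, map_pow, x, y]; ring
        rw [this, hrel, mul_add, mul_add, mul_add, mul_add, mul_smul_comm, mul_smul_comm, mul_smul_comm,
          mul_smul_comm, mul_one, ← mul_assoc, ← mul_assoc, ← pow_add, ← pow_succ]
        exact add_mem (hxy _) (add_mem (add_mem (add_mem (S.smul_mem a (hxy _)) (S.smul_mem b (hx _)))
          (S.smul_mem c (hxy _))) (S.smul_mem d (hx _)))
      · fin_cases z
        · simpa [cmon3, x, map_pow] using hxy (k + 1)
        · simpa [cmon3, y, map_pow, ← pow_succ] using hy (k + 2)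
    | zero => simp
    | add u v _ _ hu hv => rw [add_mul]; exact add_mem hu hv
    | smul t u _ hu => rw [smul_mul_assoc]; exact S.smul_mem t hu
  have hall : ∀ i j : ℕ, x ^ i * y ^ j ∈ S := by
    intro i j
    induction j with
    | zero => simpa using hx i
    | succ j ih =>
      have e1 : x ^ i * y ^ (j + 1) = x ^ i * y ^ j * y := by ring
      exact e1 ▸ hmy _ ih
  refine eq_top_iff.mpr fun p _ => ?_
  obtain ⟨p, rfl⟩ := Ideal.Quotient.mk_surjective p
  induction p using MvPolynomial.induction_on' with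
  | monomial e r =>
    have : (monomial e r : MvPolynomial (Fin 2) R) = r • (X 0 ^ e 0 * X 1 ^ e 1) := by
      rw [monomial_eq, MvPolynomial.smul_eq_C_mul, Finsupp.prod_fintype _ _ (fun _ => pow_zero _), Fin.prod_univ_two]
    rw [this, ← Ideal.Quotient.mkₐ_eq_mk R, map_smul, map_mul, map_pow, map_pow]
    exact S.smul_mem r (hall _ _)
  | add p q hp hq => rw [map_add]; exact add_mem (hp trivial) (hq trivial)


/-- Case n = 3: let R be a commutative ring and a, b, c, d elements of R (a point of U_3, which is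
affine 4-space, so no condition is imposed). Then in the R-algebra R[x_2, x_3]/(x_2 x_3² − x_2² x_3
− a x_2 x_3 − b x_2 − c x_3 − d) the classes of the monomials 1, x_2^k x_3, x_2^k and x_3^k (k ≥ 1)
are linearly independent over R and span, i.e. form an R-basis. -/
theorem result (R : Type u) [CommRing R] (a b c d : R) :
    LinearIndependent R (cmon3 R a b c d) ∧
      Submodule.span R (Set.range (cmon3 R a b c d)) = ⊤ := by
  exact ⟨indep R a b c d, spans R a b c d⟩

end Groth.Agent.S18251
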