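import Groth.Statements.S18256
import Groth.Agent.H24Mod.ScalarEnd
import Mathlib.RingTheory.Flat.Tensor

set_option autoImplicit false
set_option linter.style.haveILetI false
universe u
open ArtFun

namespace Groth.Agent.S18256

open CategoryTheory TensorProduct in
/-- Let R be an Artinian local ring with residue field k and M a finitely generated R-module. Suppose
that for every small extension p : A' → A of local Artinian R-algebras with residue field k (p
surjective, its kernel I a nonzero principal ideal killed by the maximal ideal of A'), the map M ⊗_R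
I → M ⊗_R A' induced by the inclusion I ⊆ A' is injective (equivalently, the sequence 0 → M ⊗_R I →
M ⊗_R A' → M ⊗_R A → 0 is exact). Then M is a free R-module. (The printed conclusion reads free over
the residue field; the proof establishes freeness over R, which is what is stated here.) -/
theorem result
    (R : Type u) [CommRing R] [IsArtinianRing R] [IsLocalRing R]
    (k : Type u) [Field k] [Algebra R k] (hk : Function.Surjective (algebraMap R k))
    (M : Type u) [AddCommGroup M] [Module R M] [Module.Finite R M]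
    (h : ∀ (A' A : ArtFun.Art R k) (p : A' ⟶ A), ArtFun.Art.IsSmallExt p →
      Function.Injective
        (LinearMap.lTensor M (((RingHom.ker p.toAlgHom).restrictScalars R).subtype))) :
    Module.Free R M := by
  classical
  have hker : ∀ r : R, algebraMap R k r = 0 ↔ r ∈ IsLocalRing.maximalIdeal R := fun r => by
    haveI := RingHom.ker_isMaximal_of_surjective (algebraMap R k) hk
    rw [← IsLocalRing.eq_maximalIdeal (RingHom.ker_isMaximal_of_surjective (algebraMap R k) hk)]
    exact RingHom.mem_ker.symm
  have hflat : ∀ J : Ideal R, Function.Injective (J.subtype.lTensor M) := by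
    intro J
    induction J using WellFoundedLT.induction with
    | ind J ih =>
    by_cases hJtop : J = ⊤
    · subst hJtop
      exact (LinearEquiv.lTensor M (Submodule.topEquiv (R := R) (M := R))).injective
    by_cases hJbot : J = ⊥
    · subst hJbot
      intro a b _
      exact Subsingleton.elim a b
    obtain ⟨J', hJ', hmax⟩ := (wellFounded_gt (α := Ideal R)).has_min {I | I < J}
      ⟨⊥, bot_lt_iff_ne_bot.mpr hJbot⟩
    change J' < J at hJ'
    have hJ'top : J' ≠ ⊤ := ne_top_of_lt hJ'
    obtain ⟨t, htJ, htJ'⟩ := SetLike.not_le_iff_exists.mp (not_le_of_gt hJ')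
    have hmJ : IsLocalRing.maximalIdeal R * J ≤ J' := by
      have hle : J' ⊔ IsLocalRing.maximalIdeal R * J ≤ J := sup_le hJ'.le Ideal.mul_le_right
      rcases hle.lt_or_eq with hlt | heq
      · have := hmax _ hlt
        have h2 : J' = J' ⊔ IsLocalRing.maximalIdeal R * J := (le_sup_left : J' ≤ _).eq_of_not_lt this
        exact le_sup_right.trans h2.ge
      · exact absurd (Submodule.le_of_le_smul_of_le_jacobson_bot (IsNoetherian.noetherian J)
          (IsLocalRing.maximalIdeal_le_jacobson ⊥) (by rw [Ideal.smul_eq_mul]; exact heq.ge)) (not_le_of_gt hJ')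
    have hgen : J = J' ⊔ Ideal.span {t} := by
      refine ((sup_le hJ'.le ((Ideal.span_singleton_le_iff_mem J).mpr htJ)).lt_or_eq.resolve_left fun hlt => ?_).symm
      exact hmax _ hlt (Submodule.lt_sup_iff_notMem.mpr htJ')
    haveI : Nontrivial (R ⧸ J') := Ideal.Quotient.nontrivial_iff.mpr hJ'top
    haveI : Nontrivial (R ⧸ J) := Ideal.Quotient.nontrivial_iff.mpr hJtop
    haveI : IsLocalRing (R ⧸ J') := IsLocalRing.of_surjective' (Ideal.Quotient.mk J') Ideal.Quotient.mk_surjective
    haveI : IsLocalRing (R ⧸ J) := IsLocalRing.of_surjective' (Ideal.Quotient.mk J) Ideal.Quotient.mk_surjective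
    let res : ∀ I : Ideal R, I ≠ ⊤ → ((R ⧸ I) →ₐ[R] k) := fun I hI =>
      Ideal.Quotient.liftₐ I (Algebra.ofId R k) fun a ha => (hker a).mpr (IsLocalRing.le_maximalIdeal hI ha)
    have hres : ∀ (I : Ideal R) (hI : I ≠ ⊤), Function.Surjective (res I hI) := fun I hI y => by
      obtain ⟨r, rfl⟩ := hk y
      exact ⟨Ideal.Quotient.mk I r, rfl⟩
    let B : ArtFun.Art R k := ArtFun.Art.of (R ⧸ J') (res J' hJ'top) (hres J' hJ'top)
    let C : ArtFun.Art R k := ArtFun.Art.of (R ⧸ J) (res J hJtop) (hres J hJtop)
    let p : B ⟶ C := ArtFun.Art.homMk (Ideal.Quotient.factorₐ R hJ'.le) (by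
      apply Ideal.Quotient.algHom_ext
      rfl)
    have hkerp : ∀ r : R, p.toAlgHom (Ideal.Quotient.mk J' r) = 0 ↔ r ∈ J := fun r =>
      Ideal.Quotient.eq_zero_iff_mem
    have hsurj : Function.Surjective p.toAlgHom := by
      intro y
      obtain ⟨r, rfl⟩ := Ideal.Quotient.mk_surjective y
      exact ⟨Ideal.Quotient.mk J' r, rfl⟩
    have hsmall : ArtFun.Art.IsSmallExt p := by
      refine ⟨hsurj, ?_, ⟨⟨Ideal.Quotient.mk J' t, ?_⟩⟩, ?_⟩
      · intro hbot
        have : (Ideal.Quotient.mk J' t : R ⧸ J') ∈ RingHom.ker p.toAlgHom := (hkerp t).mpr htJ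
        rw [hbot] at this
        exact htJ' (Ideal.Quotient.eq_zero_iff_mem.mp this)
      · apply le_antisymm
        · intro y hy
          obtain ⟨r, rfl⟩ := Ideal.Quotient.mk_surjective y
          have hr : r ∈ J := (hkerp r).mp hy
          rw [hgen, Submodule.mem_sup] at hr
          obtain ⟨a, ha, b, hb, rfl⟩ := hr
          obtain ⟨c, rfl⟩ := Ideal.mem_span_singleton'.mp hb
          rw [map_add, Ideal.Quotient.eq_zero_iff_mem.mpr ha, zero_add, map_mul]
          exact Ideal.mem_span_singleton'.mpr ⟨_, rfl⟩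
        · exact (Ideal.span_singleton_le_iff_mem (RingHom.ker p.toAlgHom)).mpr ((hkerp t).mpr htJ)
      · refine eq_bot_iff.mpr (Ideal.mul_le.mpr fun a ha b hb => ?_)
        obtain ⟨a, rfl⟩ := Ideal.Quotient.mk_surjective a
        obtain ⟨b, rfl⟩ := Ideal.Quotient.mk_surjective b
        have hb' : b ∈ J := (hkerp b).mp hb
        have ha' : a ∈ IsLocalRing.maximalIdeal R := by
          rw [IsLocalRing.mem_maximalIdeal, mem_nonunits_iff] at ha ⊢
          exact fun hu => ha (hu.map (Ideal.Quotient.mk J'))
        rw [Submodule.mem_bot]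
        show Ideal.Quotient.mk J' a * Ideal.Quotient.mk J' b = (0 : R ⧸ J')
        rw [← map_mul]
        exact Ideal.Quotient.eq_zero_iff_mem.mpr (hmJ (Ideal.mul_mem_mul ha' hb'))
    have hinj := h B C p hsmall
    let K := (RingHom.ker p.toAlgHom).restrictScalars R
    let g : ↥J →ₗ[R] ↥K := LinearMap.codRestrict K
      ((Ideal.Quotient.mkₐ R J').toLinearMap ∘ₗ J.subtype) fun j => (hkerp (j : R)).mpr j.2
    have hg : Function.Surjective g := by
      rintro ⟨y, hy⟩
      obtain ⟨r, rfl⟩ := Ideal.Quotient.mk_surjective y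
      exact ⟨⟨r, (hkerp r).mp hy⟩, rfl⟩
    let i : ↥J' →ₗ[R] ↥J := Submodule.inclusion hJ'.le
    have hex : Function.Exact i g := by
      intro j
      constructor
      · intro hj
        have : Ideal.Quotient.mk J' (j : R) = 0 := congrArg Subtype.val hj
        exact ⟨⟨j, Ideal.Quotient.eq_zero_iff_mem.mp this⟩, rfl⟩
      · rintro ⟨j', rfl⟩
        exact Subtype.ext (Ideal.Quotient.eq_zero_iff_mem.mpr j'.2)
    rw [injective_iff_map_eq_zero]
    intro z hz
    have h1 : g.lTensor M z = 0 := by
      apply hinj
      let π : R →ₗ[R] B := (Ideal.Quotient.mkₐ R J').toLinearMap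
      rw [map_zero, ← LinearMap.comp_apply, ← LinearMap.lTensor_comp,
        show K.subtype ∘ₗ g = π ∘ₗ J.subtype from rfl, LinearMap.lTensor_comp, LinearMap.comp_apply,
        hz, map_zero]
    obtain ⟨w, rfl⟩ := (lTensor_exact M hex hg z).mp h1
    have : i.lTensor M w = i.lTensor M 0 := by
      congr 1
      apply ih J' hJ'
      rw [map_zero, ← hz, ← LinearMap.comp_apply, ← LinearMap.lTensor_comp]
      rfl
    rw [this, map_zero]
  haveI : Module.Flat R M := Module.Flat.iff_lTensor_injective.mpr fun I _ => hflat I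
  exact Groth.Agent.H24Mod.free_of_flat M

end Groth.Agent.S18256
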