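import Groth.Statements.S18263
import Groth.Agent.H20Forms.Config

set_option autoImplicit false
universe u
open InvQ

namespace Groth.Agent.S18263

/-- Let k be an algebraically closed field in which m! is non-zero, n ≥ 1 and m ≤ n natural numbers, and
p_1, …, p_m non-zero vectors of k^(n+1), an ordered configuration of m points of projective n-space,
encoded by the product π = ∏_i (Σ_j p_i,j x_j) of its linear forms, on which the special linear
group SL(n+1) acts by substitution; let a be the point of the affine space of degree-m forms in n +
1 variables whose form is π. Then a is not stable for SL(n+1): a configuration of at most n points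
of projective n-space is never stable. (The case n = 0 is excluded: there the group is trivial and
the empty configuration is stable. The published statement allows any characteristic; this row
assumes m! non-zero in k, as the space of forms used here requires.) -/
theorem result (k : Type u) [Field k] [IsAlgClosed k] (n m : ℕ) (hn : 1 ≤ n) (hmn : m ≤ n)
    (hm : (Nat.factorial m : k) ≠ 0) (p : Fin m → Fin (n + 1) → k) (hp : ∀ i, p i ≠ 0)
    (a : CoordGrp.FormIdx (n + 1) m → k)
    (ha : CoordGrp.formPoly a = ∏ i, ∑ j, MvPolynomial.C (p i j) * MvPolynomial.X j) :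
    ¬ @GLin.IsStableVec k _ (CoordGrp.SLn (n + 1) k) _ _ (CoordGrp.FormIdx (n + 1) m)
      (GLin.comodAlong ((CoordGrp.SLn.mkHom (n + 1) k).comp (CoordGrp.Mat.toGLn (n + 1) k)) (CoordGrp.formsCoact k (n + 1) m))
      (GLin.isCoactAlg_comodAlong ((CoordGrp.SLn.mkHom (n + 1) k).comp (CoordGrp.Mat.toGLn (n + 1) k)) (CoordGrp.formsCoact k (n + 1) m) (CoordGrp.formsCoact_isCoactAlg k (n + 1) m)) a := by
  intro hst
  classical
  have key : ∀ W : Submodule k (Fin (n + 1) → k), W ≠ ⊥ → W ≠ ⊤ →
      Nat.card {i : Fin m // p i ∈ W} * (n + 1) < m * Module.finrank k W := fun W hW hW' =>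
    Groth.Agent.H20Forms.card_mul_lt_of_isStableVec hm p a ha hst W hW hW'
  have hfr : Module.finrank k (Fin (n + 1) → k) = n + 1 := Module.finrank_fintype_fun_eq_card k |>.trans (Fintype.card_fin _)
  rcases Nat.eq_zero_or_pos m with rfl | hm0
  · let W : Submodule k (Fin (n + 1) → k) := Submodule.span k {Pi.single 0 1}
    have hv : (Pi.single 0 1 : Fin (n + 1) → k) ≠ 0 := by simp
    have h1 : Module.finrank k W = 1 := finrank_span_singleton hv
    have := key W (fun h => by rw [h, finrank_bot] at h1; omega) (fun h => by rw [h, finrank_top, hfr] at h1; omega)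
    simp at this
  · let W : Submodule k (Fin (n + 1) → k) := Submodule.span k (Set.range p)
    have hall : Nat.card {i : Fin m // p i ∈ W} = m :=
      (Nat.card_congr (Equiv.subtypeUnivEquiv fun i => Submodule.subset_span (Set.mem_range_self i))).trans (Nat.card_fin m)
    have hle : Module.finrank k W ≤ m := (finrank_range_le_card p).trans (Fintype.card_fin m).le
    have hbot : W ≠ ⊥ := fun h => hp ⟨0, hm0⟩ (by
      have : p ⟨0, hm0⟩ ∈ W := Submodule.subset_span (Set.mem_range_self _)
      rwa [h, Submodule.mem_bot] at this)
    have := key W hbot (fun h => by rw [h, finrank_top, hfr] at hle; omega)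
    rw [hall] at this
    have h2 : Module.finrank k W < n + 1 := by omega
    exact absurd this (not_lt.2 (Nat.mul_le_mul_left m h2.le))

end Groth.Agent.S18263
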