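import Groth.Statements.S18265
import Mathlib.RingTheory.Polynomial.UniqueFactorization
import Mathlib.RingTheory.IntegralClosure.IntegrallyClosed
import Mathlib.RingTheory.Polynomial.RationalRoot

set_option autoImplicit false
universe u
open InvQ

namespace Groth.Agent.S18265
theorem isIntegrallyClosed_eqLocus {k A : Type*} [CommRing k] [CommRing A] [Algebra k A] [IsDomain A]
    [IsIntegrallyClosed A] (B : Subalgebra k A) (S : Set (A →ₐ[k] A)) (hB : ∀ x, x ∈ B ↔ ∀ σ ∈ S, σ x = x) :
    IsIntegrallyClosed B := by
  refine (isIntegrallyClosed_iff (FractionRing B)).2 fun {z} hz => ?_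
  obtain ⟨a, b, hb, hab⟩ := IsFractionRing.div_surjective B z
  let ψ : FractionRing B →+* FractionRing A :=
    IsFractionRing.lift (g := (algebraMap A (FractionRing A)).comp B.val.toRingHom)
      ((IsFractionRing.injective A (FractionRing A)).comp Subtype.val_injective)
  have hψ : ∀ r : B, ψ (algebraMap B _ r) = algebraMap A (FractionRing A) (r : A) := IsFractionRing.lift_algebraMap _
  have hint : IsIntegral A (ψ z) := by
    obtain ⟨p, hp, hp0⟩ := hz
    refine ⟨p.map B.val.toRingHom, hp.map _, ?_⟩
    rw [Polynomial.eval₂_map, show (algebraMap A (FractionRing A)).comp B.val.toRingHom = ψ.comp (algebraMap B _) from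
      RingHom.ext fun r => (hψ r).symm, ← Polynomial.hom_eval₂, hp0, map_zero]
  obtain ⟨c, hc⟩ := (IsIntegrallyClosed.isIntegral_iff (R := A)).1 hint
  have hb0 : (b : A) ≠ 0 := fun h => nonZeroDivisors.ne_zero hb (Subtype.ext h)
  have hcb : c * (b : A) = (a : A) := by
    apply IsFractionRing.injective A (FractionRing A)
    rw [map_mul, hc, ← hab, map_div₀, hψ, hψ, div_mul_cancel₀]
    exact (map_ne_zero_iff _ (IsFractionRing.injective A (FractionRing A))).2 hb0
  have hcB : c ∈ B := (hB c).2 fun σ hσ => by
    have h := congrArg σ hcb
    rw [map_mul, (hB _).1 b.2 σ hσ, (hB _).1 a.2 σ hσ] at h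
    exact mul_right_cancel₀ hb0 (h.trans hcb.symm)
  refine ⟨⟨c, hcB⟩, ?_⟩
  rw [← hab, eq_div_iff (IsFractionRing.to_map_ne_zero_of_mem_nonZeroDivisors hb), ← map_mul]
  exact congrArg _ (Subtype.ext hcb)


/-- Let k be an algebraically closed field and n, m natural numbers, and let R be the ring of polynomial
functions of m vectors of k^(n+1) invariant under the special linear group SL(n+1, k) acting on all
the vectors at once and under the rescalings of the individual vectors by units with product 1
(equivalently: invariant and homogeneous of one and the same degree in each vector) — the graded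
ring of invariant sections whose Proj is the quotient variety of ordered m-point sets in projective
n-space. Then R is integrally closed in its field of fractions; hence that quotient variety is
normal. (Only the normality assertion of the source's statement is given here; its dimension,
rationality and singular-locus assertions are not.) -/
theorem result (k : Type u) [Field k] [IsAlgClosed k] (n m : ℕ) :
    IsIntegrallyClosed (W4c5pointsetsdelpezzo.invRing k n m) := by
  refine isIntegrallyClosed_eqLocus _ (Set.range (W4c5pointsetsdelpezzo.slSubst k n m) ∪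
    Set.range (fun s : {s : Fin m → kˣ // ∏ i, s i = 1} => W4c5pointsetsdelpezzo.colScale k n m s.1)) fun x => ?_
  simp only [W4c5pointsetsdelpezzo.invRing, Algebra.mem_inf, Algebra.mem_iInf, AlgHom.mem_equalizer, AlgHom.id_apply,
    Set.mem_union, Set.mem_range]
  constructor
  · rintro ⟨h1, h2⟩ σ (⟨g, rfl⟩ | ⟨s, rfl⟩)
    · exact h1 g
    · exact h2 s
  · exact fun h => ⟨fun g => h _ (Or.inl ⟨g, rfl⟩), fun s => h _ (Or.inr ⟨s, rfl⟩)⟩

end Groth.Agent.S18265
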