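import Groth.Statements.S18266
import Mathlib
import Groth.Agent.H12AlgSp.Residual

set_option autoImplicit false
universe u
open CategoryTheory AlgebraicGeometry
open FDesc

namespace Groth.Agent.S18266

open CategoryTheory.Limits

/-- Let A be a discrete valuation ring, η the generic point of Spec A, and f : X → Spec A a morphism
from an arbitrary scheme X. The scheme-theoretic closure of the generic fibre X_η in X (the flat
completion) is flat over Spec A, and it is the largest closed subscheme of X flat over Spec A: for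
every closed immersion i : Z → X with Z flat over Spec A, the ideal sheaf of the flat completion is
contained in the ideal sheaf of i. -/
theorem result (A : Type u) [CommRing A] [IsDomain A]
    [IsDiscreteValuationRing A] {X : Scheme.{u}} (f : X ⟶ Spec (CommRingCat.of A))
    (η : ↥(Spec (CommRingCat.of A))) (hη : η.asIdeal = ⊥) :
    Flat ((f.fiberι η).imageι ≫ f) ∧
      ∀ (Z : Scheme.{u}) (i : Z ⟶ X), IsClosedImmersion i → Flat (i ≫ f) → (f.fiberι η).ker ≤ i.ker := by
  classical
  obtain ⟨ϖ, hϖ⟩ := IsDiscreteValuationRing.exists_irreducible A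
  let t : Γ(Spec (CommRingCat.of A), ⊤) := (Scheme.ΓSpecIso (CommRingCat.of A)).inv ϖ
  have hopen : (Spec (CommRingCat.of A)).basicOpen t = ⟨{η}, by
      have h : ({η} : Set ↥(Spec (CommRingCat.of A))) = (PrimeSpectrum.basicOpen ϖ : Set (PrimeSpectrum A)) := by
        refine Set.ext fun p => ?_
        change p = η ↔ ϖ ∉ p.asIdeal
        constructor
        · rintro rfl
          rw [hη, Ideal.mem_bot]; exact hϖ.ne_zero
        · intro hp
          refine PrimeSpectrum.ext ?_
          rw [hη]
          by_contra hne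
          refine hp ?_
          rw [IsLocalRing.eq_maximalIdeal (Ideal.IsPrime.isMaximal p.2 hne), hϖ.maximalIdeal_eq]
          exact Ideal.mem_span_singleton_self ϖ
      rw [h]; exact PrimeSpectrum.basicOpen ϖ |>.2⟩ := by
    rw [basicOpen_eq_of_affine]
    refine TopologicalSpace.Opens.ext (Set.ext fun p => ?_)
    change ϖ ∉ p.asIdeal ↔ p = η
    constructor
    · intro hp
      refine PrimeSpectrum.ext ?_
      rw [hη]
      by_contra hne
      refine hp ?_
      rw [IsLocalRing.eq_maximalIdeal (Ideal.IsPrime.isMaximal p.2 hne), hϖ.maximalIdeal_eq]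
      exact Ideal.mem_span_singleton_self ϖ
    · rintro rfl
      rw [hη, Ideal.mem_bot]; exact hϖ.ne_zero
  have hfld : IsField ((Spec (CommRingCat.of A)).presheaf.stalk η) := by
    letI : Algebra A ((Spec (CommRingCat.of A)).presheaf.stalk η) := StructureSheaf.stalkAlgebra _ η
    haveI h : IsLocalization.AtPrime ((Spec (CommRingCat.of A)).presheaf.stalk η) η.asIdeal :=
      (inferInstance : IsLocalization.AtPrime ((Spec.structureSheaf A).presheaf.stalk η) η.asIdeal)
    haveI : IsFractionRing A ((Spec (CommRingCat.of A)).presheaf.stalk η) := by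
      have hM : η.asIdeal.primeCompl = nonZeroDivisors A := by
        ext x
        rw [mem_nonZeroDivisors_iff_ne_zero]
        change x ∉ η.asIdeal ↔ _
        rw [hη, Ideal.mem_bot]
      change IsLocalization _ _
      rw [← hM]; exact h
    exact (IsFractionRing.toField A).toIsField _
  haveI : IsOpenImmersion ((Spec (CommRingCat.of A)).fromSpecResidueField η) :=
    H12AlgSp.Residual.isOpenImmersion_fromSpecResidueField η
      (by have := ((Spec (CommRingCat.of A)).basicOpen t).2; rwa [hopen] at this) hfld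
  haveI : IsOpenImmersion (f.fiberι η) :=
    inferInstanceAs (IsOpenImmersion (pullback.fst f ((Spec (CommRingCat.of A)).fromSpecResidueField η)))
  haveI : QuasiCompact (f.fiberι η) :=
    inferInstanceAs (QuasiCompact (pullback.fst f ((Spec (CommRingCat.of A)).fromSpecResidueField η)))
  let φ : ∀ W : X.Opens, A →+* Γ(X, W) := fun W =>
    (f.appLE ⊤ W le_top).hom.comp (Scheme.ΓSpecIso (CommRingCat.of A)).inv.hom
  have hker : ∀ (W : X.affineOpens) (x : Γ(X, W.1)),
      x ∈ (f.fiberι η).ker.ideal W ↔ ∃ n : ℕ, φ W.1 ϖ ^ n * x = 0 := by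
    intro W x
    let D : X.Opens := f ⁻¹ᵁ (Spec (CommRingCat.of A)).basicOpen t
    have hr : Set.range (f.fiberι η) = Set.range D.ι := by
      rw [f.range_fiberι, Scheme.Opens.range_ι]
      simp only [D, hopen]
      rfl
    let e := IsOpenImmersion.isoOfRangeEq (f.fiberι η) D.ι hr
    have he : e.hom ≫ D.ι = f.fiberι η := IsOpenImmersion.isoOfRangeEq_hom_fac _ _ _
    rw [Scheme.Hom.ker_apply, RingHom.mem_ker]
    have h1 : (f.fiberι η).app W.1 x = 0 ↔ D.ι.app W.1 x = 0 := by
      have key : ∀ (g : f.fiber η ⟶ X), e.hom ≫ D.ι = g →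
          (g.app W.1 x = 0 ↔ D.ι.app W.1 x = 0) := by
        rintro g rfl
        exact map_eq_zero_iff _ (ConcreteCategory.bijective_of_isIso (e.hom.app (D.ι ⁻¹ᵁ W.1))).1
      exact key _ he
    rw [h1]
    have hρ : X.basicOpen (φ W.1 ϖ) = W.1 ⊓ D := Scheme.basicOpen_appLE f W.1 ⊤ le_top t
    have h2 : ∀ (O : X.Opens) (hO : O ≤ W.1), O = X.basicOpen (φ W.1 ϖ) →
        (X.presheaf.map (homOfLE hO).op x = 0 ↔ ∃ n : ℕ, φ W.1 ϖ ^ n * x = 0) := by
      rintro O hO rfl
      haveI := W.2.isLocalization_basicOpen (φ W.1 ϖ)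
      change algebraMap Γ(X, W.1) Γ(X, X.basicOpen (φ W.1 ϖ)) x = 0 ↔ _
      rw [IsLocalization.map_eq_zero_iff (Submonoid.powers (φ W.1 ϖ))]
      constructor
      · rintro ⟨⟨_, n, rfl⟩, hn⟩; exact ⟨n, hn⟩
      · rintro ⟨n, hn⟩; exact ⟨⟨_, n, rfl⟩, hn⟩
    rw [Scheme.Opens.ι_app]
    exact h2 _ _ (by rw [hρ, Scheme.Hom.image_preimage_eq_opensRange_inf, Scheme.Opens.opensRange_ι, inf_comm])
  constructor
  · let I := (f.fiberι η).ker
    change Flat (I.subschemeι ≫ f)
    let V : X.affineOpens → I.subscheme.affineOpens := fun W => ⟨I.subschemeι ⁻¹ᵁ W.1, W.2.preimage _⟩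
    refine HasRingHomProperty.of_iSup_eq_top (P := @Flat) V ?_ fun W => ?_
    · refine eq_top_iff.mpr fun z _ => ?_
      obtain ⟨W, hW, hzW, -⟩ := TopologicalSpace.Opens.isBasis_iff_nbhd.mp X.isBasis_affineOpens
        (TopologicalSpace.Opens.mem_top (I.subschemeι z))
      exact TopologicalSpace.Opens.mem_iSup.mpr ⟨⟨W, hW⟩, hzW⟩
    · let g := (I.subschemeι ≫ f).appLE ⊤ (V W).1 le_top
      let ψ : A →+* Γ(I.subscheme, (V W).1) := g.hom.comp (Scheme.ΓSpecIso (CommRingCat.of A)).inv.hom
      have hψ : ∀ a, ψ a = I.subschemeι.app W.1 (φ W.1 a) := by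
        intro a
        have : g = f.appLE ⊤ W.1 le_top ≫ I.subschemeι.app W.1 := by
          rw [Scheme.Hom.app_eq_appLE, Scheme.Hom.appLE_comp_appLE]
        simp [ψ, φ, this]
      have hflat : ψ.Flat := by
        letI := ψ.toAlgebra
        haveI : Module.IsTorsionFree A Γ(I.subscheme, (V W).1) := by
          refine ⟨fun a ha y z hyz => ?_⟩
          rw [← sub_eq_zero]
          obtain ⟨x, hx⟩ := I.subschemeι_app_surjective W (y - z)
          have h0 : ψ a * I.subschemeι.app W.1 x = 0 := by
            have : ψ a * y = ψ a * z := hyz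
            rw [hx, mul_sub, this, sub_self]
          rw [hψ, ← map_mul] at h0
          have hmem : φ W.1 a * x ∈ I.ideal W := by
            rw [← I.ker_subschemeι_app W]; exact h0
          obtain ⟨n, hn⟩ := (hker W _).mp hmem
          have ha0 : a ≠ 0 := ha.ne_zero
          obtain ⟨m, v, hv⟩ := IsDiscreteValuationRing.eq_unit_mul_pow_irreducible ha0 hϖ
          have hxI : x ∈ I.ideal W := (hker W x).mpr ⟨n + m, by
            rw [hv, map_mul, map_pow] at hn
            have hvu : IsUnit (φ W.1 v) := v.isUnit.map _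
            rw [← hvu.mul_right_eq_zero]
            linear_combination hn⟩
          rw [← hx]
          have : x ∈ RingHom.ker (I.subschemeι.app W.1).hom := by rw [I.ker_subschemeι_app W]; exact hxI
          exact this
        exact (inferInstance : Module.Flat A Γ(I.subscheme, (V W).1))
      have hg : g.hom = ψ.comp (Scheme.ΓSpecIso (CommRingCat.of A)).hom.hom := by
        ext x
        simp [ψ]
      change g.hom.Flat
      rw [hg]
      exact (RingHom.Flat.of_bijective (ConcreteCategory.bijective_of_isIso (Scheme.ΓSpecIso (CommRingCat.of A)).hom)).comp hflat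
  · intro Z i hi hflat W x hx
    haveI := hi
    obtain ⟨n, hn⟩ := (hker W x).mp hx
    rw [Scheme.Hom.ker_apply, RingHom.mem_ker]
    let g := (i ≫ f).appLE ⊤ (i ⁻¹ᵁ W.1) le_top
    let ψ : A →+* Γ(Z, i ⁻¹ᵁ W.1) := g.hom.comp (Scheme.ΓSpecIso (CommRingCat.of A)).inv.hom
    have hψf : ψ.Flat := (RingHom.Flat.of_bijective
      (ConcreteCategory.bijective_of_isIso (Scheme.ΓSpecIso (CommRingCat.of A)).inv)).comp
      (Scheme.Hom.flat_appLE (i ≫ f) (isAffineOpen_top _) (W.2.preimage i) le_top)
    have hψ : ∀ a, ψ a = i.app W.1 (φ W.1 a) := by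
      intro a
      have : g = f.appLE ⊤ W.1 le_top ≫ i.app W.1 := by
        rw [Scheme.Hom.app_eq_appLE, Scheme.Hom.appLE_comp_appLE]
      simp [ψ, φ, this]
    letI := ψ.toAlgebra
    haveI : Module.Flat A Γ(Z, i ⁻¹ᵁ W.1) := hψf
    have h0 : ψ (ϖ ^ n) * i.app W.1 x = 0 := by
      rw [hψ, map_pow, ← map_mul, hn, map_zero]
    exact (smul_eq_zero.mp (show (ϖ ^ n) • (i.app W.1 x) = 0 from h0)).resolve_left (pow_ne_zero n hϖ.ne_zero)

end Groth.Agent.S18266
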