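import Groth.Statements.S18267
import Groth.Agent.H29Curve.Morphism
import Groth.Agent.H29DoubleCover.Separable
import Groth.Agent.H28Neron.NormalSmooth
import Groth.Agent.H11Proj.ProperQProj
-- import your own Groth.Agent.* helpers here

set_option autoImplicit false
open CategoryTheory CategoryTheory.Limits AlgebraicGeometry
open ZCorr

namespace Groth.Agent.S18267

/-- Over the complex numbers, suppose C is a quasi-projective curve that is smooth and irreducible and X
is a projective variety that is smooth and irreducible; take Z to be an integral closed subscheme of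
C × X of dimension one whose projection to C is surjective (a non-vertical irreducible component of
a correspondence from C to X). Then the projection Z → C is finite and flat. -/
theorem result
    (C X : Scheme.{0}) [C.Over (Spec (CommRingCat.of ℂ))] [X.Over (Spec (CommRingCat.of ℂ))]
    [AlgebraicGeometry.IsIntegral C] [Smooth (C ↘ Spec (CommRingCat.of ℂ))] (hC : RelProj.IsHQuasiProjective (C ↘ Spec (CommRingCat.of ℂ)))
    (hdimC : topologicalKrullDim C = 1)
    [AlgebraicGeometry.IsIntegral X] [Smooth (X ↘ Spec (CommRingCat.of ℂ))] (hX : RelProj.IsHProjective (X ↘ Spec (CommRingCat.of ℂ)))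
    {Z : Scheme.{0}} (i : Z ⟶ pullback (C ↘ Spec (CommRingCat.of ℂ)) (X ↘ Spec (CommRingCat.of ℂ))) [IsClosedImmersion i]
    [AlgebraicGeometry.IsIntegral Z] (hdimZ : topologicalKrullDim Z = 1)
    (hsurj : Function.Surjective ⇑(i ≫ pullback.fst (C ↘ Spec (CommRingCat.of ℂ)) (X ↘ Spec (CommRingCat.of ℂ)))) :
    IsFinite (i ≫ pullback.fst (C ↘ Spec (CommRingCat.of ℂ)) (X ↘ Spec (CommRingCat.of ℂ))) ∧
      Flat (i ≫ pullback.fst (C ↘ Spec (CommRingCat.of ℂ)) (X ↘ Spec (CommRingCat.of ℂ))) := by
  let sC := C ↘ Spec (CommRingCat.of ℂ)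
  let sX := X ↘ Spec (CommRingCat.of ℂ)
  let f := i ≫ pullback.fst sC sX
  haveI : IsProper sX := by
    obtain ⟨N, j, hj, hj'⟩ := hX
    haveI := Groth.Agent.H27Weil.isProper_toBase N (Spec (CommRingCat.of ℂ))
    haveI := hj
    show IsProper (X ↘ Spec (CommRingCat.of ℂ))
    rw [← hj']; infer_instance
  haveI : IsProper f := inferInstanceAs (IsProper (i ≫ pullback.fst sC sX))
  haveI : IsLocallyNoetherian C := LocallyOfFiniteType.isLocallyNoetherian sC
  haveI : QuasiCompact sC := by
    obtain ⟨N, j, -, hjq, hj'⟩ := hC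
    haveI := hjq
    haveI := Groth.Agent.H27Weil.isProper_toBase N (Spec (CommRingCat.of ℂ))
    show QuasiCompact (C ↘ Spec (CommRingCat.of ℂ))
    rw [← hj']; infer_instance
  have hη : f (genericPoint Z) = genericPoint C := by
    obtain ⟨z, hz⟩ := hsurj (genericPoint C)
    have h1 : f (genericPoint Z) ⤳ genericPoint C := by
      rw [← hz]; exact (genericPoint_specializes z).map f.continuous
    exact (h1.antisymm (genericPoint_specializes _)).eq
  have hnc := Groth.Agent.H29Curve.nontrivial_range_of_dominant (k := ℂ) (f ≫ sC) sC f rfl hη hdimC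
  haveI := Groth.Agent.H29Curve.locallyQuasiFinite_of_nontrivial (k := ℂ) (f ≫ sC) sC f rfl hdimZ.le hnc
  exact ⟨.of_isProper_of_locallyQuasiFinite f,
    Groth.Agent.H29Curve.flat_of_dominant_normal f hη
      (fun y => (Groth.Agent.H28Neron.isNormalScheme_of_smooth sC
        (Groth.Agent.H29DoubleCover.isNormalScheme_spec_field ℂ) y).2) hdimC.le⟩
end Groth.Agent.S18267
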