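import Groth.Statements.S18268
import Groth.Agent.H3Cyc.SetupLft
import Groth.Agent.H3Cyc.KDegree
import Groth.Agent.H22Alg.DeltaDim
import Mathlib

set_option autoImplicit false
open CategoryTheory CategoryTheory.Limits AlgebraicGeometry
open ZCorr

set_option backward.isDefEq.respectTransparency.types false
set_option linter.style.haveILetI false

namespace Groth.Agent.S18268

universe u

open IsLocalRing TopologicalSpace

/-- In a closed finite fibre the multiplicity along a closed point is positive. -/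
theorem fibreMult_pos {P C : Scheme.{u}} [IsLocallyNoetherian P] [JacobsonSpace ↥P] (g : P ⟶ C) (v w : P)
    (h : w ⤳ v) (hv : IsClosed ({g v} : Set C)) (hfin : (closure {w} ∩ g ⁻¹' {g v}).Finite) :
    0 < AlgEqCyc.fibreMult g v w h := by
  have hFc : IsClosed (closure {w} ∩ g ⁻¹' {g v}) := isClosed_closure.inter (hv.preimage g.continuous)
  have hclosed : ∀ z ∈ closure {w} ∩ g ⁻¹' {g v}, IsClosed ({z} : Set P) := by
    intro z hz
    have hc : IsClosed ((closure {w} ∩ g ⁻¹' {g v}) ∩ closedPoints P) := by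
      rw [← Set.biUnion_of_singleton ((closure {w} ∩ g ⁻¹' {g v}) ∩ closedPoints P)]
      exact (hfin.subset Set.inter_subset_left).isClosed_biUnion fun y hy => hy.2
    have := JacobsonSpace.closure_inter_closedPoints hFc
    rw [hc.closure_eq] at this
    exact (this.symm ▸ hz : z ∈ (closure {w} ∩ g ⁻¹' {g v}) ∩ closedPoints P).2
  let ψ : C.presheaf.stalk (g v) →+* Cyc.LocQuot v w h :=
    (Ideal.Quotient.mk (RingHom.ker (Cyc.specMap v w h))).comp (g.stalkMap v).hom
  let I : Ideal (Cyc.LocQuot v w h) := (maximalIdeal (C.presheaf.stalk (g v))).map ψ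
  let π : P.presheaf.stalk v →+* (Cyc.LocQuot v w h ⧸ I) :=
    (Ideal.Quotient.mk I).comp (Ideal.Quotient.mk _)
  have hπ : Function.Surjective π := Ideal.Quotient.mk_surjective.comp Ideal.Quotient.mk_surjective
  haveI hloc : IsLocalHom (g.stalkMap v).hom := inferInstance
  haveI : (RingHom.ker (Cyc.specMap v w h)).IsPrime := RingHom.ker_isPrime _
  haveI : IsLocalRing (Cyc.LocQuot v w h) :=
    IsLocalRing.of_surjective' (Ideal.Quotient.mk _) Ideal.Quotient.mk_surjective
  haveI : IsLocalHom (Ideal.Quotient.mk (RingHom.ker (Cyc.specMap v w h))) :=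
    IsLocalHom.of_surjective _ Ideal.Quotient.mk_surjective
  have hI : I ≠ ⊤ := by
    apply ne_top_of_le_ne_top (IsLocalRing.maximalIdeal.isMaximal _).ne_top
    rw [Ideal.map_le_iff_le_comap]
    intro a ha hu
    have : IsUnit ((g.stalkMap v).hom a) := by
      exact (isUnit_map_iff (Ideal.Quotient.mk (RingHom.ker (Cyc.specMap v w h))) _).1 hu
    exact ha ((isUnit_map_iff (g.stalkMap v).hom a).1 this)
  haveI : Nontrivial (Cyc.LocQuot v w h ⧸ I) := Ideal.Quotient.nontrivial_iff.2 hI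
  haveI : Ring.KrullDimLE 0 (Cyc.LocQuot v w h ⧸ I) := by
    refine Ring.KrullDimLE.mk₀ fun Q hQ => ?_
    let q : PrimeSpectrum (P.presheaf.stalk v) := ⟨Q.comap π, hQ.comap π⟩
    obtain ⟨J, hJx, hJ⟩ := Groth.Agent.H22Alg.DeltaDim.exists_prime h
    let e : PrimeSpectrum (P.presheaf.stalk v) → P := P.fromSpecStalk v
    have hec : Continuous e := (P.fromSpecStalk v).continuous
    have hJq : J ⤳ q := by
      rw [← PrimeSpectrum.le_iff_specializes]
      change J.asIdeal ≤ q.asIdeal
      intro a ha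
      rw [hJ] at ha
      change π a ∈ Q
      have : Ideal.Quotient.mk (RingHom.ker (Cyc.specMap v w h)) a = 0 := Ideal.Quotient.eq_zero_iff_mem.2 ha
      simp only [π, RingHom.comp_apply, this, map_zero, Submodule.zero_mem]
    have h1 : w ⤳ e q := hJx ▸ hJq.map hec
    have hcl : PrimeSpectrum.comap (g.stalkMap v).hom q = closedPoint _ := by
      apply PrimeSpectrum.ext
      refine ((IsLocalRing.maximalIdeal.isMaximal _).eq_of_le (Ideal.IsPrime.ne_top inferInstance) fun a ha => ?_).symm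
      change π ((g.stalkMap v).hom a) ∈ Q
      have : Ideal.Quotient.mk I (ψ a) = 0 := Ideal.Quotient.eq_zero_iff_mem.2 (Ideal.mem_map_of_mem _ ha)
      change Ideal.Quotient.mk I (ψ a) ∈ Q
      rw [this]; exact zero_mem _
    have h2 : g (e q) = g v := by
      have := congrArg (fun m : Spec (P.presheaf.stalk v) ⟶ C => m q) (Scheme.SpecMap_stalkMap_fromSpecStalk g (x := v))
      change C.fromSpecStalk (g v) (PrimeSpectrum.comap (g.stalkMap v).hom q) = g (e q) at this
      rw [← this, hcl]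
      exact Scheme.fromSpecStalk_closedPoint
    have h3 : IsClosed ({e q} : Set P) := hclosed _ ⟨specializes_iff_mem_closure.1 h1, h2⟩
    have h4 : e q ⤳ v := by
      have : q ⤳ closedPoint (P.presheaf.stalk v) := IsLocalRing.specializes_closedPoint q
      have := this.map hec
      rwa [show e (closedPoint (P.presheaf.stalk v)) = v from Scheme.fromSpecStalk_closedPoint] at this
    have h5 : e q = e (closedPoint (P.presheaf.stalk v)) := by
      rw [show e (closedPoint (P.presheaf.stalk v)) = v from Scheme.fromSpecStalk_closedPoint]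
      exact (Set.mem_singleton_iff.1 (h3.closure_eq ▸ specializes_iff_mem_closure.1 h4)).symm
    have h6 : Q.comap π = maximalIdeal _ :=
      congrArg PrimeSpectrum.asIdeal ((P.fromSpecStalk v).isEmbedding.injective h5)
    rw [← Ideal.map_comap_of_surjective π hπ Q, h6]
    refine (Ideal.map_eq_top_or_isMaximal_of_surjective π hπ (IsLocalRing.maximalIdeal.isMaximal _)).resolve_left ?_
    rw [← h6, Ideal.map_comap_of_surjective π hπ Q]
    exact hQ.ne_top
  haveI : IsArtinianRing (Cyc.LocQuot v w h ⧸ I) := isArtinianRing_iff_krullDimLE_zero.2 inferInstance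
  haveI : IsArtinian (P.presheaf.stalk v) (Cyc.LocQuot v w h ⧸ I) := isArtinian_of_surjective_algebraMap hπ
  have hne : Module.length (P.presheaf.stalk v) (Cyc.LocQuot v w h ⧸ I) ≠ ⊤ :=
    Module.length_ne_top_iff.2 (isFiniteLength_iff_isNoetherian_isArtinian.2 ⟨inferInstance, inferInstance⟩)
  have hpos : 0 < Module.length (P.presheaf.stalk v) (Cyc.LocQuot v w h ⧸ I) := Module.length_pos
  obtain ⟨m, hm⟩ := ENat.ne_top_iff_exists.1 hne
  change 0 < (Module.length (P.presheaf.stalk v) (Cyc.LocQuot v w h ⧸ I)).toNat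
  rw [← hm] at hpos ⊢
  simpa using hpos

end Groth.Agent.S18268

namespace Groth.Agent.S18268

/-- Over the complex numbers let W be a smooth irreducible quasi-projective variety of dimension n, X a
smooth irreducible projective variety and Γ an n-cycle on X × W, viewed as a correspondence from W
to X, with no vertical component (every point of the support of Γ maps to the generic point of W).
If there is a nonempty open U ⊂ W over whose points the closures of the support points of Γ have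
finite fibres, and such that for every complex point u of U the fibre cycle Γ_u on X vanishes, then
Γ = 0. Here Γ_u is the sum, over the support points ξ of Γ with coefficient Γ(ξ), of the fundamental
cycles of the scheme-theoretic fibres over u of the closures of ξ, read on X (the cycle-level fibre
of the family at u; it agrees with the refined intersection of Γ with X × {u} where the components
are flat over u and has the same support wherever they are finite over u). -/
theorem result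
    (W X : Scheme.{0}) [W.Over (Spec (CommRingCat.of ℂ))] [X.Over (Spec (CommRingCat.of ℂ))]
    [AlgebraicGeometry.IsIntegral W] [Smooth (W ↘ Spec (CommRingCat.of ℂ))] (hW : RelProj.IsHQuasiProjective (W ↘ Spec (CommRingCat.of ℂ)))
    (n : ℕ) (hdimW : topologicalKrullDim W = n)
    [AlgebraicGeometry.IsIntegral X] [Smooth (X ↘ Spec (CommRingCat.of ℂ))] (hX : RelProj.IsHProjective (X ↘ Spec (CommRingCat.of ℂ)))
    (δ : ↥(pullback (X ↘ Spec (CommRingCat.of ℂ)) (W ↘ Spec (CommRingCat.of ℂ))) → ℤ)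
    (hδ : Cyc.DeltaCompat (pullback.fst (X ↘ Spec (CommRingCat.of ℂ)) (W ↘ Spec (CommRingCat.of ℂ)) ≫ (X ↘ Spec (CommRingCat.of ℂ))) δ (fun _ => 0))
    (Γ : AlgebraicCycle (pullback (X ↘ Spec (CommRingCat.of ℂ)) (W ↘ Spec (CommRingCat.of ℂ))) ℤ)
    (hΓ : Γ ∈ Cyc.Zk (pullback (X ↘ Spec (CommRingCat.of ℂ)) (W ↘ Spec (CommRingCat.of ℂ))) δ n)
    (hvert : ∀ ξ, Γ ξ ≠ 0 → pullback.snd (X ↘ Spec (CommRingCat.of ℂ)) (W ↘ Spec (CommRingCat.of ℂ)) ξ = genericPoint W)
    (U : W.Opens) (hU : (U : Set W).Nonempty)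
    (hfin : ∀ ξ, Γ ξ ≠ 0 → ∀ w ∈ U,
      (closure {ξ} ∩ pullback.snd (X ↘ Spec (CommRingCat.of ℂ)) (W ↘ Spec (CommRingCat.of ℂ)) ⁻¹' {w}).Finite)
    (hzero : ∀ (u : Spec (CommRingCat.of ℂ) ⟶ W) (hu : u ≫ (W ↘ Spec (CommRingCat.of ℂ)) = 𝟙 _),
      u (IsLocalRing.closedPoint ℂ) ∈ U →
        ∀ x : X, AlgEqCyc.fibreFun (X ↘ Spec (CommRingCat.of ℂ)) (W ↘ Spec (CommRingCat.of ℂ)) Γ u hu x = 0) :
    Γ = 0 := by
  classical
  let pX := X ↘ Spec (CommRingCat.of ℂ)
  let qW := W ↘ Spec (CommRingCat.of ℂ)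
  haveI : LocallyOfFiniteType pX := inferInstanceAs (LocallyOfFiniteType (X ↘ Spec (CommRingCat.of ℂ)))
  haveI : LocallyOfFiniteType qW := inferInstanceAs (LocallyOfFiniteType (W ↘ Spec (CommRingCat.of ℂ)))
  let pp : pullback pX qW ⟶ Spec (CommRingCat.of ℂ) := pullback.fst pX qW ≫ pX
  haveI : LocallyOfFiniteType pp := inferInstanceAs (LocallyOfFiniteType (pullback.fst pX qW ≫ pX))
  let g : pullback pX qW ⟶ W := pullback.snd pX qW
  haveI : LocallyOfFiniteType g := inferInstanceAs (LocallyOfFiniteType (pullback.snd pX qW))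
  haveI : JacobsonSpace ↥(pullback pX qW) := LocallyOfFiniteType.jacobsonSpace pp
  haveI : IsLocallyNoetherian (pullback pX qW) := LocallyOfFiniteType.isLocallyNoetherian pp
  have hsetup : Cyc.IsSetup (pullback pX qW) δ :=
    Groth.Agent.H3Cyc.isSetup_of_locallyOfFiniteType pp Groth.Agent.H26ChowK.isSetup_spec_field hδ
  ext ξ₀
  by_contra hne
  change Γ ξ₀ ≠ 0 at hne
  have hdeg : ∀ η, Γ η ≠ 0 → δ η = n := fun η h => by
    by_contra hh; exact h (hΓ η hh)
  obtain ⟨N, hN, hNfin⟩ := Γ.supportLocallyFiniteWithinDomain ξ₀ trivial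
  obtain ⟨N', hN'N, hN'o, hξN'⟩ := mem_nhds_iff.1 hN
  have hS : {η | η ∈ N' ∧ Γ η ≠ 0 ∧ η ≠ ξ₀}.Finite :=
    hNfin.subset fun η h => ⟨hN'N h.1, h.2.1⟩
  let Z : Set ↥(pullback pX qW) := ⋃ η ∈ {η | η ∈ N' ∧ Γ η ≠ 0 ∧ η ≠ ξ₀}, closure {η}
  have hZ : IsClosed Z := hS.isClosed_biUnion fun _ _ => isClosed_closure
  have hξZ : ξ₀ ∉ Z := by
    simp only [Z, Set.mem_iUnion, not_exists, ← specializes_iff_mem_closure]
    intro η hη hsp
    have h1 := Groth.Agent.H22Alg.DeltaDim.delta_le hsetup.2.2 hsp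
    have := (hsetup.2.2 η ξ₀ hsp hη.2.2)
    have h2 := this.1
    rw [hdeg η hη.2.1, hdeg ξ₀ hne] at h2
    omega
  have hξU : g ξ₀ ∈ U := by
    have := hvert ξ₀ hne
    change g ξ₀ = genericPoint W at this
    rw [this]
    exact ((genericPoint_spec W).mem_open_set_iff U.2).2 (by simpa using hU)
  have hV : IsOpen ((N' ∩ g ⁻¹' (U : Set W)) \ Z) :=
    (hN'o.inter (U.2.preimage g.continuous)).sdiff hZ
  obtain ⟨p, ⟨⟨⟨hpN, hpU⟩, hpZ⟩, hpξ⟩, hpc⟩ := nonempty_inter_closedPoints
    (⟨ξ₀, ⟨⟨hξN', hξU⟩, hξZ⟩, subset_closure rfl⟩ :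
      (((N' ∩ g ⁻¹' (U : Set W)) \ Z) ∩ closure {ξ₀}).Nonempty)
    (hV.isLocallyClosed.inter isClosed_closure.isLocallyClosed)
  have hgp : IsClosed ({g p} : Set W) := by
    haveI : JacobsonSpace ↥W := LocallyOfFiniteType.jacobsonSpace qW
    exact g.closePoints_subset_preimage_closedPoints hpc
  let pt := pointOfClosedPoint pp p hpc
  have hpt : pt ≫ pp = 𝟙 _ := pointOfClosedPoint_comp pp p hpc
  have hu : (pt ≫ g) ≫ qW = 𝟙 _ := by
    rw [Category.assoc, ← pullback.condition]; exact hpt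
  have hgu : (pt ≫ g) (IsLocalRing.closedPoint ℂ) = g p := congrArg g (pointOfClosedPoint_apply pp p hpc _)
  have hzero' := hzero (pt ≫ g) hu (by rw [hgu]; exact hpU) (pullback.fst pX qW p)
  have hsl : (pt ≫ pullback.fst pX qW) ≫ AlgEqCyc.slice pX qW (pt ≫ g) hu = pt := by
    apply pullback.hom_ext
    · have e1 : AlgEqCyc.slice pX qW (pt ≫ g) hu ≫ pullback.fst pX qW = 𝟙 _ := pullback.lift_fst _ _ _
      rw [Category.assoc, e1, Category.comp_id]
    · have e2 : AlgEqCyc.slice pX qW (pt ≫ g) hu ≫ pullback.snd pX qW = pX ≫ pt ≫ g := pullback.lift_snd _ _ _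
      have e : pt ≫ pullback.fst pX qW ≫ pX = 𝟙 _ := hpt
      rw [Category.assoc, e2, Category.assoc, reassoc_of% e]
  have hslice : AlgEqCyc.slice pX qW (pt ≫ g) hu (pullback.fst pX qW p) = p := by
    have := congrArg (fun m : Spec (CommRingCat.of ℂ) ⟶ pullback pX qW => m (IsLocalRing.closedPoint ℂ)) hsl
    simp only [Scheme.Hom.comp_apply, pt, pointOfClosedPoint_apply] at this
    exact this
  have hspec : ξ₀ ⤳ AlgEqCyc.slice pX qW (pt ≫ g) hu (pullback.fst pX qW p) := by
    rw [hslice]; exact specializes_iff_mem_closure.2 hpξ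
  change AlgEqCyc.fibreFun pX qW Γ (pt ≫ g) hu (pullback.fst pX qW p) = 0 at hzero'
  unfold AlgEqCyc.fibreFun at hzero'
  rw [finsum_eq_single _ ⟨ξ₀, hne, hspec⟩ ?_] at hzero'
  · have hpos : 0 < AlgEqCyc.fibreMult g (AlgEqCyc.slice pX qW (pt ≫ g) hu (pullback.fst pX qW p)) ξ₀ hspec := by
      refine fibreMult_pos g _ _ hspec (by rw [hslice]; exact hgp) ?_
      rw [hslice]
      exact hfin ξ₀ hne (g p) hpU
    rcases mul_eq_zero.1 hzero' with h | h
    · exact hne h
    · exact hpos.ne' (by exact_mod_cast h)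
  · rintro ⟨η, hη, hsp⟩ hη'
    exfalso
    have hsp' : η ⤳ p := hslice ▸ hsp
    refine hpZ (Set.mem_iUnion₂.2 ⟨η, ⟨hsp'.mem_open hN'o hpN, hη, fun e => hη' (Subtype.ext e)⟩, specializes_iff_mem_closure.1 hsp'⟩)

end Groth.Agent.S18268
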