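import Groth.Statements.S18272
import Groth.Agent.H25AbCube.Generated


set_option autoImplicit false
set_option linter.style.haveILetI false
set_option backward.isDefEq.respectTransparency false
set_option synthInstance.maxHeartbeats 200000
open CategoryTheory MonoidalCategory CartesianMonoidalCategory MonObj GrpObj AlgebraicGeometry
open AbVar

namespace Groth.Agent.S18272

/-- Let A be an abelian variety over the complex numbers (a proper integral group scheme over Spec of
the complex numbers), G an abstract group and f : A(ℂ) → G a homomorphism from the group of complex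
points. If V ⊂ A is an irreducible closed subset containing the neutral element and every complex
point lying in V is in the kernel of f, then there is an abelian subvariety A' ⊂ A (an integral
closed subgroup scheme) containing V and with all its complex points in the kernel of f. -/
theorem result
    (A : Over (Spec (CommRingCat.of ℂ))) [GrpObj A] [IsProper A.hom] [AlgebraicGeometry.IsIntegral A.left]
    (G : Type) [Group G] (f : (𝟙_ (Over (Spec (CommRingCat.of ℂ))) ⟶ A) →* G)
    (V : Set ↥A.left) (hVcl : IsClosed V) (hVirr : IsIrreducible V)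
    (hV1 : Set.range ⇑(η[A]).left ⊆ V)
    (hVker : ∀ a : 𝟙_ (Over (Spec (CommRingCat.of ℂ))) ⟶ A, Set.range ⇑a.left ⊆ V → f a = 1) :
    ∃ (B : Over (Spec (CommRingCat.of ℂ))) (_ : GrpObj B) (incl : B ⟶ A), IsMonHom incl ∧ IsClosedImmersion incl.left ∧
      AlgebraicGeometry.IsIntegral B.left ∧ V ⊆ Set.range ⇑incl.left ∧
      ∀ b : 𝟙_ (Over (Spec (CommRingCat.of ℂ))) ⟶ B, f (b ≫ incl) = 1 := by
  haveI : GeometricallyIntegral A.hom := Groth.Agent.H25AbCube.geometricallyIntegral_of_isIntegral' A
  haveI : IsAlgClosed ℂ := Complex.isAlgClosed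
  obtain ⟨x, hx⟩ : ∃ x, x ∈ Set.range (η[A]).left :=
    ⟨_, IsLocalRing.closedPoint ℂ, rfl⟩
  have h1 : Groth.Agent.H25AbCube.Stab.pnt (1 : 𝟙_ (Over (Spec (CommRingCat.of ℂ))) ⟶ A) ∈ V := by
    refine hV1 ⟨IsLocalRing.closedPoint ℂ, ?_⟩
    rw [Hom.one_def, show toUnit (𝟙_ (Over (Spec (CommRingCat.of ℂ)))) = 𝟙 _ from toUnit_unique _ _,
      Category.id_comp]
  obtain ⟨B, instB, i, hi, hci, hBint, -, hVB, hBK⟩ :=
    Groth.Agent.H25AbCube.Stab.exists_generated V hVcl hVirr h1 f.ker (fun a ha => hVker a (by
      rintro _ ⟨z, rfl⟩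
      obtain rfl := Subsingleton.elim (α := PrimeSpectrum ℂ) z (IsLocalRing.closedPoint ℂ)
      exact ha))
  exact ⟨B, instB, i, hi, hci, hBint, hVB, fun b => hBK b⟩

end Groth.Agent.S18272
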