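import Groth.Statements.S18273
import Groth.Agent.H3Cyc.CurveMove
import Groth.Agent.LeadPic.PnRel
import Groth.Agent.H3Cyc.RatRel
import Groth.Agent.H3Cyc.PnCyclic
import Groth.Agent.H3Cyc.Chow
import Groth.Agent.H17.Ample.GenAffine
import Groth.Agent.H22Alg.ESZInt
import Groth.Agent.H11Proj.ProperQProj

set_option autoImplicit false
open CategoryTheory CategoryTheory.Limits AlgebraicGeometry
open ZCorr

set_option backward.isDefEq.respectTransparency.types false
set_option linter.style.haveILetI false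

namespace Groth.Agent.S18273

open TopologicalSpace IsLocalRing

variable {k : Type} [Field k] [IsAlgClosed k] {X : Scheme.{0}} (p : X ⟶ Spec (CommRingCat.of k)) [IsProper p]
  {δ : X → ℤ} (hδ : Cyc.DeltaCompat p δ (fun _ => 0))

include hδ

theorem map_single {N : Scheme.{0}} (ι : N ⟶ X) [IsProper ι] {δN : N → ℤ}
    (hδN : Cyc.DeltaCompat (ι ≫ p) δN (fun _ => 0)) [DecidableEq ↥X] [DecidableEq ↥N] (t : N)
    (htc : IsClosed ({t} : Set N)) :
    AlgebraicCycle.map ι δN δ (Function.locallyFinsuppWithin.single t (1 : ℤ)) =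
      Function.locallyFinsuppWithin.single (ι t) (1 : ℤ) := by
  classical
  have hx0 : δ (ι t) = 0 := H3Cyc.PointsAlg.delta_eq_zero p hδ (by
    simpa using ι.isClosedMap _ htc)
  have ht0 : δN t = 0 := H3Cyc.PointsAlg.delta_eq_zero (ι ≫ p) hδN htc
  ext w
  simp only [AlgebraicCycle.map, Function.locallyFinsupp.map_apply, Function.locallyFinsuppWithin.single_apply]
  split_ifs with hw
  · rw [finsum_mem_inter_support_eq (s := (ι.base ⁻¹' {w})) (t := {t}) _ ?_]
    · rw [finsum_mem_singleton, if_pos rfl, one_mul, AlgebraicCycle.mapCoeff, if_pos]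
      · have h := H22Alg.CycBasic.residueDegree_comp ι p t
        rw [H3Cyc.CurveMove.residueDegree_closed (ι ≫ p) t htc] at h
        have h1 : ι.residueDegree t = 1 := by
          rcases Nat.eq_one_of_mul_eq_one_left h.symm with h' <;> first | exact h' | omega
        rw [h1]; rfl
      · show δN t = δ (ι t)
        rw [hx0, ht0]
    · ext z
      simp only [Set.mem_inter_iff, Set.mem_preimage, Set.mem_singleton_iff, Function.mem_support, ne_eq,
        and_congr_left_iff]
      intro h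
      have : z = t := by by_contra e; simp [e] at h
      simp [this, hw]
  · refine finsum_mem_eq_zero_of_forall_eq_zero fun z hz => ?_
    rw [if_neg, zero_mul]
    rintro rfl
    exact hw hz.symm

end Groth.Agent.S18273

namespace Groth.Agent.S18273

open TopologicalSpace IsLocalRing

/-- The degree over an algebraically closed field detects rational equivalence of points on a line. -/
theorem ratEquiv_line [DecidableEq ↥(CohB1.ProjSpace 1 ℂ)] {δ : ↥(CohB1.ProjSpace 1 ℂ) → ℤ}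
    (hδ : Cyc.DeltaCompat (CohB1.ProjSpace.toSpec 1 ℂ) δ (fun _ => 0)) (a b : CohB1.ProjSpace 1 ℂ)
    (ha : IsClosed ({a} : Set (CohB1.ProjSpace 1 ℂ))) (hb : IsClosed ({b} : Set (CohB1.ProjSpace 1 ℂ))) :
    Cyc.RatEquiv δ 0 (Function.locallyFinsuppWithin.single a (1 : ℤ))
      (Function.locallyFinsuppWithin.single b (1 : ℤ)) := by
  classical
  let p := CohB1.ProjSpace.toSpec 1 ℂ
  haveI : IsProper p := H27Weil.isProper_toSpec 1 ℂ
  let P := CohB1.ProjSpace 1 ℂ
  let δ₀ : Spec (CommRingCat.of ℂ) → ℤ := fun _ => 0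
  have hK : Cyc.IsSetup (Spec (CommRingCat.of ℂ)) δ₀ := H26ChowK.isSetup_spec_field
  have hP : Cyc.IsSetup P δ := H3Cyc.isSetup_of_locallyOfFiniteType p hK hδ
  have hz : ∀ t : P, IsClosed ({t} : Set P) →
      (Function.locallyFinsuppWithin.single t (1 : ℤ) : AlgebraicCycle P ℤ) ∈ Cyc.Zk P δ 0 := fun t ht w hw => by
    rw [Function.locallyFinsuppWithin.single_apply, if_neg]
    rintro rfl; exact hw (H3Cyc.PointsAlg.delta_eq_zero p hδ ht)
  have hD : ∀ t : P, IsClosed ({t} : Set P) →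
      AlgebraicCycle.map p δ δ₀ (Function.locallyFinsuppWithin.single t (1 : ℤ)) =
        Function.locallyFinsuppWithin.single (p t) (1 : ℤ) := fun t ht => by
    refine map_single (k := ℂ) (𝟙 _) (δ := δ₀) ?_ p (δN := δ) (by simpa using hδ) t ht
    exact H3Cyc.SpFun.deltaCompat_preimmersion (𝟙 (Spec (CommRingCat.of ℂ))) δ₀
  have hlin : ∀ α β : AlgebraicCycle P ℤ, Cyc.RatEquiv δ 0 α β →
      AlgebraicCycle.map p δ δ₀ α (closedPoint ℂ) = AlgebraicCycle.map p δ δ₀ β (closedPoint ℂ) := by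
    intro α β h
    obtain ⟨ι, ξ, f, h1, -, -, -⟩ := id (H3Cyc.PushRat.ratEquiv_map (p := p) hP hK hδ 0 α β h)
    obtain ⟨ι, ξ, f, h1, -, -, h4⟩ := H3Cyc.PushRat.ratEquiv_map (p := p) hP hK hδ 0 α β h
    haveI : IsEmpty ι := ⟨fun i => by simpa [δ₀] using h1 i⟩
    have := h4 (closedPoint ℂ)
    rw [finsum_of_isEmpty] at this
    exact sub_eq_zero.1 this
  obtain ⟨g, hg⟩ := H3Cyc.PnCyclic.exists_generator (n := 1) (K := ℂ) hP hδ 0
  obtain ⟨m, hm⟩ := AddSubgroup.mem_zmultiples_iff.1 (hg (ChowOps.cl _ (hz a ha)))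
  obtain ⟨m', hm'⟩ := AddSubgroup.mem_zmultiples_iff.1 (hg (ChowOps.cl _ (hz b hb)))
  obtain ⟨⟨γ, hγ⟩, rfl⟩ : ∃ c, ChowOps.clHom P δ 0 c = g := QuotientAddGroup.mk'_surjective _ g
  let F : AlgebraicCycle P ℤ → ℤ := fun α => AlgebraicCycle.map p δ δ₀ α (closedPoint ℂ)
  have key : ∀ (t : P) (ht : IsClosed ({t} : Set P)) (m : ℤ), m • ChowOps.clHom P δ 0 ⟨γ, hγ⟩ = ChowOps.cl _ (hz t ht) →
      m * F γ = 1 := by
    intro t ht m hm
    rw [← map_zsmul] at hm
    have h := hlin _ _ ((H3Cyc.Chow.cl_eq_iff _ _).1 hm)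
    have h1 : F (m • γ) = m * F γ := by
      simp only [F, AlgebraicCycle.map, Function.locallyFinsupp.map_apply, Function.locallyFinsuppWithin.coe_zsmul,
        Pi.smul_apply, smul_eq_mul, mul_assoc]
      rw [mul_finsum_mem]
    rw [← h1]
    refine h.trans ?_
    rw [hD t ht, Function.locallyFinsuppWithin.single_apply]
    exact if_pos (Subsingleton.elim (α := PrimeSpectrum ℂ) _ _)
  have hγ0 : F γ ≠ 0 := fun e => by simpa [e] using key a ha m hm
  have hmm : m = m' := mul_right_cancel₀ hγ0 ((key a ha m hm).trans (key b hb m' hm').symm)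
  subst hmm
  exact (H3Cyc.Chow.cl_eq_iff _ _).1 (hm.symm.trans hm')

/-- A section of an invertible module on an integral scheme that is nonzero generates somewhere. -/
theorem gen_nonempty {X : Scheme.{0}} [IsIntegral X] {L : X.Modules} (hL : PicF.IsInvertible L)
    (s : Coh.structureModule X ⟶ L) (hs : s ≠ 0) : ((CohB1.genLocus L s : Set X)).Nonempty := by
  by_contra hne
  apply hs
  rw [H11Ample.genLocus_eq_gen, Set.not_nonempty_iff_eq_empty] at hne
  have hg : SecTwist.val s ⊤ = 0 := by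
    refine TopCat.Sheaf.eq_of_locally_eq' ⟨L.presheaf, L.isSheaf⟩
      (fun x : X => (H11Ample.exists_gen hL x).choose) ⊤ (fun x => homOfLE le_top) ?_ _ _ fun x => ?_
    · intro x _
      exact Opens.mem_iSup.2 ⟨x, (H11Ample.exists_gen hL x).choose_spec.choose_spec.1⟩
    · obtain ⟨e, hxV, he⟩ := (H11Ample.exists_gen hL x).choose_spec
      obtain ⟨a, ha⟩ := H11Ample.exists_coeff he (L.presheaf.map (homOfLE (le_top : (H11Ample.exists_gen hL x).choose ≤ ⊤)).op (SecTwist.val s ⊤))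
      have hbo := H11Ample.gen_inf_eq_basicOpen he (SecTwist.val s ⊤) a ha
      rw [show H11Ample.gen L (SecTwist.val s ⊤) = ⊥ from SetLike.coe_injective hne, bot_inf_eq] at hbo
      have ha0 : a = 0 := (basicOpen_eq_bot_iff a).1 hbo.symm
      rw [ha0, zero_smul] at ha
      exact ha.trans (map_zero (L.presheaf.map (homOfLE (le_top : (H11Ample.exists_gen hL x).choose ≤ ⊤)).op).hom).symm
  have h : ∀ t : Coh.structureModule X ⟶ L, H11Tilde.homOfGlobal L (SecTwist.val t ⊤) = t := fun t => by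
    refine Scheme.Modules.hom_ext _ _ fun W => ?_
    ext r
    exact (H06Mod.app_unit t W r).symm
  have h0 : SecTwist.val (0 : Coh.structureModule X ⟶ L) ⊤ = 0 := rfl
  rw [← h s, hg, ← h0, h 0]

end Groth.Agent.S18273

namespace Groth.Agent.S18273

/-- Over the complex numbers let X be a smooth irreducible projective surface carrying an ample
invertible module L with a nonzero global section s whose zero set H is connected and is a union of
rational curves: every closed point of H lies on the image of a nonconstant morphism from the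
projective line to X with image inside H. If x and y are closed points of X each lying on the image
of a nonconstant morphism from the projective line, then [x] and [y] are rationally equivalent
0-cycles on X. (For a projective K3 surface the existence of such an ample rational curve is a cited
input of the source, carried here as the hypothesis on H; the K3 condition plays no further role.) -/
theorem result
    (X : Scheme.{0}) [X.Over (Spec (CommRingCat.of ℂ))]
    [AlgebraicGeometry.IsIntegral X] [Smooth (X ↘ Spec (CommRingCat.of ℂ))] (hX : RelProj.IsHProjective (X ↘ Spec (CommRingCat.of ℂ)))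
    (hdim : topologicalKrullDim X = 2)
    (L : X.Modules) (hL : CohB1.IsAmple L) (s : Coh.structureModule X ⟶ L) (hs : s ≠ 0)
    (hconn : _root_.IsConnected ((CohB1.genLocus L s : Set X)ᶜ))
    (hrat : ∀ h ∈ ((CohB1.genLocus L s : Set X)ᶜ), IsClosed ({h} : Set X) →
      ∃ g : CohB1.ProjSpace 1 ℂ ⟶ X, g ≫ (X ↘ Spec (CommRingCat.of ℂ)) = CohB1.ProjSpace.toSpec 1 ℂ ∧ (Set.range ⇑g).Nontrivial ∧
        h ∈ Set.range ⇑g ∧ Set.range ⇑g ⊆ (CohB1.genLocus L s : Set X)ᶜ)
    (x y : X) (hx : IsClosed ({x} : Set X)) (hy : IsClosed ({y} : Set X))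
    (hxr : ∃ g : CohB1.ProjSpace 1 ℂ ⟶ X, g ≫ (X ↘ Spec (CommRingCat.of ℂ)) = CohB1.ProjSpace.toSpec 1 ℂ ∧ (Set.range ⇑g).Nontrivial ∧ x ∈ Set.range ⇑g)
    (hyr : ∃ g : CohB1.ProjSpace 1 ℂ ⟶ X, g ≫ (X ↘ Spec (CommRingCat.of ℂ)) = CohB1.ProjSpace.toSpec 1 ℂ ∧ (Set.range ⇑g).Nontrivial ∧ y ∈ Set.range ⇑g)
    (δ : X → ℤ) (hδ : Cyc.DeltaCompat (X ↘ Spec (CommRingCat.of ℂ)) δ (fun _ => 0))
    (cx cy : AlgebraicCycle X ℤ) (hcx : ⇑cx = Set.indicator {x} 1) (hcy : ⇑cy = Set.indicator {y} 1) :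
    Cyc.RatEquiv δ 0 cx cy := by
  classical
  obtain ⟨N, i, hicl, hii⟩ := hX
  let p : X ⟶ Spec (CommRingCat.of ℂ) := X ↘ Spec (CommRingCat.of ℂ)
  haveI := hicl
  haveI : IsProper (CohB1.ProjSpaceOver.toBase N (Spec (CommRingCat.of ℂ))) :=
    Groth.Agent.H27Weil.isProper_toBase N _
  haveI : IsProper p := by
    change IsProper (X ↘ Spec (CommRingCat.of ℂ))
    rw [← hii]
    infer_instance
  haveI : IsProper (X ↘ Spec (CommRingCat.of ℂ)) := inferInstanceAs (IsProper p)
  haveI : X.IsSeparated := ⟨by rw [← terminal.comp_from p]; infer_instance⟩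
  haveI : IsProper (CohB1.ProjSpace.toSpec 1 ℂ) := H27Weil.isProper_toSpec 1 ℂ
  haveI : JacobsonSpace X := LocallyOfFiniteType.jacobsonSpace p
  haveI := H28Int.isNoetherian ℂ (X := X)
  have hs' := H3Cyc.KDegree.isSetup hδ
  have hnn := H3Cyc.KDegree.nonneg hδ
  let O : X.Opens := CohB1.genLocus L s
  have hO : IsAffineOpen O := by
    show IsAffineOpen (CohB1.genLocus L s)
    rw [H11Ample.genLocus_eq_gen]
    exact H17.GenAffine.isAffineOpen_gen p hL _
  let H : Set X := (O : Set X)ᶜ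
  have hη : genericPoint X ∈ O := ((genericPoint_spec X).mem_open_set_iff O.2).2
    (by simpa using gen_nonempty hL.1 s hs)
  have hdelta : ∀ w ∈ H, δ w ≤ 1 := by
    intro w hw
    have hne : genericPoint X ≠ w := fun e => hw (e ▸ hη)
    have h1 := (hs'.2.2 _ w (genericPoint_specializes w) hne).1
    obtain ⟨c, hc, hcc⟩ := nonempty_inter_closedPoints (Z := (Set.univ : Set X)) ⟨w, trivial⟩
      isClosed_univ.isLocallyClosed
    have h2 := H22Alg.DeltaDim.le_topologicalKrullDim_closure hs'.2.2 (genericPoint_specializes c)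
    have h3 : topologicalKrullDim ↥(closure ({genericPoint X} : Set X)) ≤ 2 := by
      refine le_trans ?_ hdim.le
      exact (Topology.IsEmbedding.subtypeVal.isInducing).topologicalKrullDim_le
    rw [H3Cyc.PointsAlg.delta_eq_zero p hδ hcc, sub_zero] at h2
    have h4 : (δ (genericPoint X)).toNat ≤ 2 := by exact_mod_cast h2.trans h3
    omega
  -- the relation
  let E : X → X → Prop := fun u v => Cyc.RatEquiv δ 0 (Function.locallyFinsuppWithin.single u (1 : ℤ))
    (Function.locallyFinsuppWithin.single v (1 : ℤ))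
  have hsymm : ∀ {u v}, E u v → E v u := fun {u v} h => H3Cyc.RatRel.symm h
  have htrans : ∀ {u v w}, E u v → E v w → E u w := fun {u v w} h h' => H3Cyc.RatRel.trans h h'
  have hcurve : ∀ (g : CohB1.ProjSpace 1 ℂ ⟶ X), g ≫ p = CohB1.ProjSpace.toSpec 1 ℂ → ∀ u v,
      u ∈ Set.range ⇑g → v ∈ Set.range ⇑g → IsClosed ({u} : Set X) → IsClosed ({v} : Set X) → E u v := by
    intro g hg u v hu hv huc hvc
    haveI : IsProper (g ≫ p) := by rw [hg]; infer_instance
    haveI : IsProper g := IsProper.of_comp g p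
    haveI : JacobsonSpace ↥(CohB1.ProjSpace 1 ℂ) := LocallyOfFiniteType.jacobsonSpace (CohB1.ProjSpace.toSpec 1 ℂ)
    obtain ⟨δ1, hδ1⟩ := H3Cyc.SpFun.exists_deltaCompat (CohB1.ProjSpace.toSpec 1 ℂ) (fun _ => 0)
    have hlift : ∀ w ∈ Set.range ⇑g, IsClosed ({w} : Set X) →
        ∃ a, IsClosed ({a} : Set ↥(CohB1.ProjSpace 1 ℂ)) ∧ g a = w := by
      rintro w ⟨b, hb⟩ hwc
      obtain ⟨c, hc1, hc2⟩ := nonempty_inter_closedPoints (⟨b, hb⟩ : (g ⁻¹' {w}).Nonempty)
        (hwc.preimage g.continuous).isLocallyClosed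
      exact ⟨c, hc2, hc1⟩
    obtain ⟨a, hac, rfl⟩ := hlift u hu huc
    obtain ⟨b, hbc, rfl⟩ := hlift v hv hvc
    have hg1 : Cyc.DeltaCompat (g ≫ p) δ1 (fun _ => 0) := by rw [hg]; exact hδ1
    have hP1 := H3Cyc.isSetup_of_locallyOfFiniteType (CohB1.ProjSpace.toSpec 1 ℂ) H26ChowK.isSetup_spec_field hδ1
    have h := H3Cyc.PushRat.ratEquiv_map (p := g) hP1 hs'
      (H3Cyc.BCPush.deltaCompat_cancel g p hδ hg1) 0 _ _ (ratEquiv_line hδ1 a b hac hbc)
    rw [map_single p hδ g hg1 a hac, map_single p hδ g hg1 b hbc] at h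
    exact h
  have hmeet : ∀ (g : CohB1.ProjSpace 1 ℂ ⟶ X), g ≫ p = CohB1.ProjSpace.toSpec 1 ℂ →
      (Set.range ⇑g).Nontrivial → ∃ w ∈ Set.range ⇑g, w ∈ H ∧ IsClosed ({w} : Set X) := by
    intro g hg hnt
    haveI : IsProper (g ≫ p) := by rw [hg]; infer_instance
    haveI : IsProper g := IsProper.of_comp g p
    haveI : IsIntegral (CohB1.ProjSpace 1 ℂ) := LeadPic.PnRel.isIntegral_projSpace (n := 1) ℂ
    have hRc : IsClosed (Set.range ⇑g) := g.isClosedMap.isClosed_range
    by_contra hcon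
    push Not at hcon
    have hsub : Set.range ⇑g ⊆ (O : Set X) := by
      intro w hw
      by_contra hwO
      obtain ⟨c, ⟨hc1, hc2⟩, hc3⟩ := nonempty_inter_closedPoints (⟨w, hw, hwO⟩ : (Set.range ⇑g ∩ H).Nonempty)
        (hRc.inter O.2.isClosed_compl).isLocallyClosed
      exact hcon c hc1 hc2 hc3
    let R := genericPoint ↥(CohB1.ProjSpace 1 ℂ)
    let J := Scheme.IdealSheafData.vanishingIdeal (⟨closure {g R}, isClosed_closure⟩ : TopologicalSpace.Closeds X)
    have hclo : closure {g R} = Set.range ⇑g := by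
      refine ((genericPoint_spec _).image g.continuous).def.trans ?_
      rw [Set.image_univ, hRc.closure_eq]
    have hrange : Set.range J.subschemeι = closure {g R} := H17.range_vanishingIdeal_subschemeι _
    have hpre : J.subschemeι ⁻¹ᵁ O = ⊤ := top_le_iff.1 fun w _ =>
      hsub (hclo ▸ hrange ▸ Set.mem_range_self w)
    haveI hA : IsAffine (⊤ : J.subscheme.Opens) := (hpre ▸ hO.preimage J.subschemeι : IsAffineOpen (⊤ : J.subscheme.Opens))
    haveI : IsAffine J.subscheme := IsAffine.of_isIso J.subscheme.topIso.inv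
    haveI : IsProper (J.subschemeι ≫ p) := inferInstance
    haveI : IsFinite (J.subschemeι ≫ p) := IsFinite.iff_isProper_and_isAffineHom.2 ⟨inferInstance, inferInstance⟩
    haveI : JacobsonSpace J.subscheme := LocallyOfFiniteType.jacobsonSpace (J.subschemeι ≫ p)
    haveI hfin : Finite J.subscheme := by
      have := (J.subschemeι ≫ p).finite_preimage_singleton (IsLocalRing.closedPoint ℂ)
      exact Set.finite_univ_iff.1 (this.subset fun w _ => Subsingleton.elim (α := PrimeSpectrum ℂ) _ _)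
    obtain ⟨w, hw⟩ : g R ∈ Set.range J.subschemeι := by rw [hrange]; exact subset_closure rfl
    have hwc : IsClosed ({g R} : Set X) := by
      have h : IsClosed ({w} : Set J.subscheme) := isClosed_discrete _
      simpa [hw] using J.subschemeι.isClosedEmbedding.isClosedMap _ h
    rw [hwc.closure_eq] at hclo
    rw [← hclo] at hnt
    exact Set.not_nontrivial_singleton hnt
  -- the curves in `H`
  let RR : Set (Set X) := {t | ∃ g : CohB1.ProjSpace 1 ℂ ⟶ X, g ≫ p = CohB1.ProjSpace.toSpec 1 ℂ ∧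
    (Set.range ⇑g).Nontrivial ∧ Set.range ⇑g ⊆ H ∧ t = Set.range ⇑g}
  obtain ⟨S, hSf, hSc, hSi, hS⟩ := TopologicalSpace.NoetherianSpace.exists_finite_set_isClosed_irreducible O.2.isClosed_compl
  have hRS : RR ⊆ S := by
    rintro _ ⟨g, hg, hnt, hsub, rfl⟩
    haveI : IsProper (g ≫ p) := by rw [hg]; infer_instance
    haveI : IsProper g := IsProper.of_comp g p
    haveI : IsIntegral (CohB1.ProjSpace 1 ℂ) := LeadPic.PnRel.isIntegral_projSpace (n := 1) ℂ
    have hg' : IsGenericPoint (g (genericPoint ↥(CohB1.ProjSpace 1 ℂ))) (Set.range ⇑g) := by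
      have := (genericPoint_spec ↥(CohB1.ProjSpace 1 ℂ)).image g.continuous
      rwa [Set.image_univ, g.isClosedMap.isClosed_range.closure_eq] at this
    obtain ⟨t, ht, hmem⟩ := Set.mem_sUnion.1 (hS.le (hsub hg'.mem))
    have hgt := IsIrreducible.isGenericPoint_genericPoint (hSi t ht) (hSc t ht)
    by_cases e : (hSi t ht).genericPoint = g (genericPoint ↥(CohB1.ProjSpace 1 ℂ))
    · rwa [← hg'.def, ← e, hgt.def]
    exfalso
    have h1 := (hs'.2.2 _ _ (hgt.specializes hmem) e).1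
    have h2 := hdelta _ (hS.ge (Set.mem_sUnion_of_mem hgt.mem ht))
    have h3 := hnn (g (genericPoint ↥(CohB1.ProjSpace 1 ℂ)))
    have h4 := H3Cyc.KDegree.isClosed_of_zero hδ
      (show δ (g (genericPoint ↥(CohB1.ProjSpace 1 ℂ))) = 0 by omega)
    rw [← hg'.def, h4.closure_eq] at hnt
    exact Set.not_nontrivial_singleton hnt
  have hRRf : RR.Finite := hSf.subset hRS
  have hcov : ∀ h ∈ H, IsClosed ({h} : Set X) → ∃ t ∈ RR, h ∈ t := fun h hh hhc => by
    obtain ⟨g, h1, h2, h3, h4⟩ := hrat h hh hhc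
    exact ⟨_, ⟨g, h1, h2, h4, rfl⟩, h3⟩
  have hin : ∀ t ∈ RR, ∀ u v, u ∈ t → v ∈ t → IsClosed ({u} : Set X) → IsClosed ({v} : Set X) → E u v := by
    rintro _ ⟨g, hg, -, -, rfl⟩ u v hu hv huc hvc
    exact hcurve g hg u v hu hv huc hvc
  have hH : H ⊆ ⋃₀ RR := by
    have h1 : IsClosed (⋃₀ RR) := by
      rw [Set.sUnion_eq_biUnion]
      exact hRRf.isClosed_biUnion fun t ht => hSc t (hRS ht)
    calc H = closure (H ∩ closedPoints X) := (JacobsonSpace.closure_inter_closedPoints O.2.isClosed_compl).symm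
      _ ⊆ closure (⋃₀ RR) := closure_mono fun w hw => Set.mem_sUnion.2 (hcov w hw.1 hw.2)
      _ = ⋃₀ RR := h1.closure_eq
  have hHeq : ∀ a b, a ∈ H → b ∈ H → IsClosed ({a} : Set X) → IsClosed ({b} : Set X) → E a b := by
    intro a b ha hb hac hbc
    let T : Set (Set X) := {t ∈ RR | ∀ z ∈ t, IsClosed ({z} : Set X) → E a z}
    obtain ⟨t₀, ht₀, hat₀⟩ := hcov a ha hac
    have ht₀T : t₀ ∈ T := ⟨ht₀, fun z hz hzc => hin t₀ ht₀ a z hat₀ hz hac hzc⟩
    obtain ⟨t₁, ht₁, hbt₁⟩ := hcov b hb hbc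
    by_cases hT : t₁ ∈ T
    · exact hT.2 b hbt₁ hbc
    exfalso
    have hU : IsClosed (⋃₀ T) := by
      rw [Set.sUnion_eq_biUnion]
      exact (hRRf.subset fun t ht => ht.1).isClosed_biUnion fun t ht => hSc t (hRS ht.1)
    have hV : IsClosed (⋃₀ (RR \ T)) := by
      rw [Set.sUnion_eq_biUnion]
      exact (hRRf.subset Set.sdiff_subset).isClosed_biUnion fun t ht => hSc t (hRS ht.1)
    obtain ⟨w, -, ⟨s₁, hs₁, hw₁⟩, ⟨s₂, hs₂, hw₂⟩⟩ := isPreconnected_closed_iff.1 hconn.isPreconnected _ _ hU hV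
      (fun w hw => by
        obtain ⟨r, hr, hwr⟩ := Set.mem_sUnion.1 (hH hw)
        by_cases hrT : r ∈ T
        · exact Or.inl (Set.mem_sUnion_of_mem hwr hrT)
        · exact Or.inr (Set.mem_sUnion_of_mem hwr ⟨hr, hrT⟩))
      ⟨a, ha, Set.mem_sUnion_of_mem hat₀ ht₀T⟩ ⟨b, hb, Set.mem_sUnion_of_mem hbt₁ ⟨ht₁, hT⟩⟩
    obtain ⟨c, hc1, hcc⟩ := nonempty_inter_closedPoints (⟨w, hw₁, hw₂⟩ : (s₁ ∩ s₂).Nonempty)
      ((hSc _ (hRS hs₁.1)).inter (hSc _ (hRS hs₂.1))).isLocallyClosed
    exact hs₂.2 ⟨hs₂.1, fun z hz hzc => htrans (hs₁.2 c hc1.1 hcc) (hin s₂ hs₂.1 c z hc1.2 hz hcc hzc)⟩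
  obtain ⟨gx, hgx, hgxn, hgxm⟩ := hxr
  obtain ⟨gy, hgy, hgyn, hgym⟩ := hyr
  obtain ⟨a, ha1, ha2, hac⟩ := hmeet gx hgx hgxn
  obtain ⟨b, hb1, hb2, hbc⟩ := hmeet gy hgy hgyn
  have h : E x y := htrans (hcurve gx hgx x a hgxm ha1 hx hac)
    (htrans (hHeq a b ha2 hb2 hac hbc) (hcurve gy hgy b y hb1 hgym hbc hy))
  refine H3Cyc.RatRel.congr h ?_ ?_
  · funext w; simp [hcx, Function.locallyFinsuppWithin.single_apply, Set.indicator_apply, Pi.single_apply]
  · funext w; simp [hcy, Function.locallyFinsuppWithin.single_apply, Set.indicator_apply, Pi.single_apply]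

end Groth.Agent.S18273
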