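import Groth.Statements.S18275
import Groth.Agent.H3Cyc.CurveMove
import Groth.Agent.H3Cyc.RatRel
import Groth.Agent.H11Proj.ProperQProj

set_option autoImplicit false
open CategoryTheory CategoryTheory.Limits AlgebraicGeometry
open ZCorr

set_option backward.isDefEq.respectTransparency.types false
set_option linter.style.haveILetI false

namespace Groth.Agent.S18275

open TopologicalSpace IsLocalRing

/-- Through a closed point passes a curve meeting a given nonempty open subset of an integral scheme. -/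
theorem exists_curve {X : Scheme.{0}} [IsIntegral X] [IsLocallyNoetherian X] {δ : X → ℤ} (hs : Cyc.IsSetup X δ)
    (hnn : ∀ z, 0 ≤ δ z) (U : X.Opens) (hU : (U : Set X).Nonempty) {x : X} (hxU : x ∉ U)
    (hx0 : δ x = 0) :
    ∃ ξ, ξ ∈ U ∧ ξ ⤳ x ∧ δ ξ = 1 := by
  classical
  have hη : genericPoint X ∈ U := ((genericPoint_spec X).mem_open_set_iff U.2).2 (by simpa using hU)
  obtain ⟨w, ⟨hwU, hwx⟩, hmin⟩ := (InvImage.wf (fun w : X => (δ w).toNat) wellFounded_lt).has_min
    {w : X | w ∈ U ∧ w ⤳ x} ⟨genericPoint X, hη, genericPoint_specializes x⟩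
  refine ⟨w, hwU, hwx, ?_⟩
  have hne : w ≠ x := fun e => hxU (e ▸ hwU)
  have h1 := (hs.2.2 w x hwx hne).1
  rw [hx0] at h1
  by_contra hne1
  have h2 : 2 ≤ δ w := by omega
  let B := Cyc.LocQuot x w hwx
  haveI : (RingHom.ker (Cyc.specMap x w hwx)).IsPrime := RingHom.ker_isPrime _
  haveI : IsLocalRing B := IsLocalRing.of_surjective' (Ideal.Quotient.mk _) Ideal.Quotient.mk_surjective
  have hdim := H22Alg.DeltaDim.eq_ringKrullDim_locQuot hs.2.2 hwx
  have hh : 2 ≤ (maximalIdeal B).height := by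
    have := IsLocalRing.maximalIdeal_height_eq_ringKrullDim (R := B)
    rw [hdim, hx0, sub_zero] at this
    have h3 : (2 : WithBot ℕ∞) ≤ ((maximalIdeal B).height : WithBot ℕ∞) := by
      rw [this]; exact_mod_cast (show 2 ≤ (δ w).toNat by omega)
    exact WithBot.coe_le_coe.1 h3
  obtain ⟨J, hJw, hJ⟩ := H22Alg.DeltaDim.exists_prime hwx
  let g : PrimeSpectrum B → X :=
    (X.fromSpecStalk x) ∘ PrimeSpectrum.comap (Ideal.Quotient.mk (RingHom.ker (Cyc.specMap x w hwx)))
  have hg : Continuous g := (X.fromSpecStalk x).continuous.comp (PrimeSpectrum.continuous_comap _)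
  have hg0 : g ⟨⊥, Ideal.isPrime_bot⟩ = w := by
    refine (congrArg (X.fromSpecStalk x) (PrimeSpectrum.ext ?_)).trans hJw
    show Ideal.comap (Ideal.Quotient.mk _) ⊥ = J.asIdeal
    rw [hJ, ← RingHom.ker_eq_comap_bot, Ideal.mk_ker]
  obtain ⟨_, ⟨c, rfl⟩, hc0, hcU⟩ := PrimeSpectrum.isTopologicalBasis_basic_opens.exists_subset_of_mem_open
    (show (⟨⊥, Ideal.isPrime_bot⟩ : PrimeSpectrum B) ∈ g ⁻¹' (U : Set X) by
      rw [Set.mem_preimage, hg0]; exact hwU) (U.2.preimage hg)
  have hc : c ≠ 0 := fun e => hc0 (by simp [e])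
  obtain ⟨r, hr, hr0, -, hcr⟩ := H12Pic.SectionCurve.exists_prime_notMem (maximalIdeal B) hh hc
  let r' : PrimeSpectrum B := ⟨r, hr⟩
  have hrU : g r' ∈ U := hcU (show r' ∈ PrimeSpectrum.basicOpen c from hcr)
  have hrw : w ⤳ g r' := by
    rw [← hg0]
    exact ((PrimeSpectrum.le_iff_specializes (⟨⊥, Ideal.isPrime_bot⟩ : PrimeSpectrum B) r').1 bot_le).map hg
  have hrx : g r' ⤳ x := by
    have := (IsLocalRing.specializes_closedPoint (PrimeSpectrum.comap
      (Ideal.Quotient.mk (RingHom.ker (Cyc.specMap x w hwx))) r')).map (X.fromSpecStalk x).continuous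
    rwa [Scheme.fromSpecStalk_closedPoint] at this
  have hrne : w ≠ g r' := by
    rw [← hg0]
    intro e
    have e' := PrimeSpectrum.comap_injective_of_surjective _ Ideal.Quotient.mk_surjective
      ((X.fromSpecStalk x).isEmbedding.injective e)
    exact hr0 (congrArg PrimeSpectrum.asIdeal e').symm
  refine hmin (g r') ⟨hrU, hrx⟩ ?_
  show (δ (g r')).toNat < (δ w).toNat
  have h4 := (hs.2.2 w (g r') hrw hrne).1
  have := hnn (g r')
  omega

end Groth.Agent.S18275

namespace Groth.Agent.S18275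

/-- Over the complex numbers let W be a smooth irreducible projective variety, U ⊂ W a nonempty open
subset and z a 0-cycle on W (dimension function induced from the base). Then z is rationally
equivalent to a 0-cycle supported in U. -/
theorem result
    (W : Scheme.{0}) [W.Over (Spec (CommRingCat.of ℂ))]
    [AlgebraicGeometry.IsIntegral W] [Smooth (W ↘ Spec (CommRingCat.of ℂ))] (hW : RelProj.IsHProjective (W ↘ Spec (CommRingCat.of ℂ)))
    (δ : W → ℤ) (hδ : Cyc.DeltaCompat (W ↘ Spec (CommRingCat.of ℂ)) δ (fun _ => 0))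
    (U : W.Opens) (hU : (U : Set W).Nonempty)
    (z : AlgebraicCycle W ℤ) (hz : z ∈ Cyc.Zk W δ 0) :
    ∃ z' : AlgebraicCycle W ℤ, z' ∈ Cyc.Zk W δ 0 ∧ (∀ w, z' w ≠ 0 → w ∈ U) ∧ Cyc.RatEquiv δ 0 z z' := by
  classical
  obtain ⟨n, i, hicl, hii⟩ := hW
  let p : W ⟶ Spec (CommRingCat.of ℂ) := W ↘ Spec (CommRingCat.of ℂ)
  haveI := hicl
  haveI : IsProper (CohB1.ProjSpaceOver.toBase n (Spec (CommRingCat.of ℂ))) :=
    Groth.Agent.H27Weil.isProper_toBase n _
  haveI : IsProper p := by
    change IsProper (W ↘ Spec (CommRingCat.of ℂ))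
    rw [← hii]
    infer_instance
  haveI : IsProper (W ↘ Spec (CommRingCat.of ℂ)) := inferInstanceAs (IsProper p)
  have hs := H3Cyc.KDegree.isSetup hδ
  have hnn := H3Cyc.KDegree.nonneg hδ
  haveI := H28Int.isNoetherian ℂ (X := W)
  have hfin : (Function.support ⇑z).Finite := by
    choose N hN hNf using fun x : W => z.supportLocallyFiniteWithinDomain x trivial
    obtain ⟨T, hT⟩ := isCompact_univ.elim_nhds_subcover' (fun x _ => N x) (fun x _ => hN x)
    refine (T.finite_toSet.biUnion fun x _ => hNf x).subset fun w hw => ?_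
    obtain ⟨x, hx, hwx⟩ := Set.mem_iUnion₂.1 (hT (Set.mem_univ w))
    exact Set.mem_iUnion₂.2 ⟨x, hx, hwx, hw⟩
  have hstep : ∀ x ∈ hfin.toFinset, ∃ zx : AlgebraicCycle W ℤ, zx ∈ Cyc.Zk W δ 0 ∧ (∀ w, zx w ≠ 0 → w ∈ U) ∧
      Cyc.RatEquiv δ 0 (Function.locallyFinsuppWithin.single x (1 : ℤ)) zx := by
    intro x hx
    rw [Set.Finite.mem_toFinset, Function.mem_support] at hx
    have hx0 : δ x = 0 := by_contra fun h => hx (hz x h)
    have hxc : IsClosed ({x} : Set W) := H3Cyc.KDegree.isClosed_of_zero hδ hx0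
    by_cases hxU : x ∈ U
    · refine ⟨Function.locallyFinsuppWithin.single x (1 : ℤ), ?_, ?_, ?_⟩
      · intro w hw
        rw [Function.locallyFinsuppWithin.single_apply, if_neg]
        rintro rfl; exact hw hx0
      · intro w hw
        simp only [Function.locallyFinsuppWithin.single_apply, ne_eq, ite_eq_right_iff, one_ne_zero,
          imp_false, not_not] at hw
        exact hw ▸ hxU
      · exact ⟨PEmpty, fun e => e.elim, fun e => e.elim, fun e => e.elim, fun e => e.elim,
          fun _ => ⟨Set.univ, isOpen_univ, trivial, Set.toFinite _⟩, fun w => by simp [finsum_of_isEmpty]⟩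
    obtain ⟨ξ, hξU, hξx, hξ1⟩ := exists_curve hs hnn U hU hxU hx0
    exact H3Cyc.CurveMove.exists_move p hδ hξ1 U hξU hξx hxc
  choose zx hzx1 hzx2 hzx3 using hstep
  refine ⟨∑ x ∈ hfin.toFinset.attach, z x.1 • zx x.1 x.2, ?_, ?_, ?_⟩
  · intro w hw
    rw [Function.locallyFinsuppWithin.coe_sum, Finset.sum_apply]
    refine Finset.sum_eq_zero fun x _ => ?_
    simp [hzx1 x.1 x.2 w hw]
  · intro w hw
    by_contra hwU
    apply hw
    rw [Function.locallyFinsuppWithin.coe_sum, Finset.sum_apply]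
    refine Finset.sum_eq_zero fun x _ => ?_
    have : zx x.1 x.2 w = 0 := by_contra fun h => hwU (hzx2 x.1 x.2 w h)
    simp [this]
  · have hdec : z = ∑ x ∈ hfin.toFinset.attach, z x.1 • Function.locallyFinsuppWithin.single x.1 (1 : ℤ) := by
      rw [Finset.sum_attach hfin.toFinset (fun x => z x • Function.locallyFinsuppWithin.single x (1 : ℤ))]
      ext w
      rw [Function.locallyFinsuppWithin.coe_sum, Finset.sum_apply, Finset.sum_eq_single w]
      · simp
      · intro b _ hb
        simp [hb.symm]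
      · intro hw
        have : z w = 0 := by simpa using hw
        simp [this]
    have key : ∀ (s : Finset ↥hfin.toFinset) (F : ↥hfin.toFinset → AlgebraicCycle W ℤ),
        (∀ x, Cyc.RatEquivZero δ 0 (F x)) → Cyc.RatEquivZero δ 0 (∑ x ∈ s, F x) := fun s F h =>
      Finset.sum_induction _ (fun a => Cyc.RatEquivZero δ 0 a) (fun a b => H3Cyc.RatRel.add)
        H3Cyc.RatRel.zero fun x _ => h x
    show Cyc.RatEquivZero δ 0 _
    conv =>
      arg 3
      arg 1
      rw [hdec]
    rw [← Finset.sum_sub_distrib]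
    refine key _ _ fun x => ?_
    rw [← smul_sub]
    have h0 := hzx3 x.1 x.2
    induction z x.1 using Int.induction_on with
    | zero => simpa using H3Cyc.RatRel.zero
    | succ i ih => rw [add_smul, one_smul]; exact H3Cyc.RatRel.add ih h0
    | pred i ih => rw [sub_smul, one_smul]; exact H3Cyc.RatRel.sub ih h0

end Groth.Agent.S18275
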