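import Groth.Statements.S18281
import Groth.Agent.H8Props.FlatLocus.Scheme
import Groth.Agent.H3Cyc.SetupLft
import Groth.Agent.H3Cyc.BCPush
import Groth.Agent.H3Cyc.SpFun
import Groth.Agent.H3CAlg.IntPt
import Groth.Agent.H26ChowK.Euler
import Groth.Agent.H11Proj.ProperQProj
-- import your own Groth.Agent.* helpers here

set_option autoImplicit false
open CategoryTheory CategoryTheory.Limits AlgebraicGeometry
open ZCorr

namespace Groth.Agent.S18281

/-- Over the complex numbers let W be a smooth irreducible quasi-projective variety of dimension n, X a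
smooth irreducible projective variety, and Z an integral closed subscheme of X × W of dimension n
(an irreducible component of a correspondence from W to X), with projection π : Z → W. (a) The set
of points of W over which π is flat (flat at every point of the fibre) is open and nonempty. (b) The
set U of points of W with finite fibre is open and nonempty, and π restricted over U is finite. -/
theorem result
    (W X : Scheme.{0}) [W.Over (Spec (CommRingCat.of ℂ))] [X.Over (Spec (CommRingCat.of ℂ))]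
    [AlgebraicGeometry.IsIntegral W] [Smooth (W ↘ Spec (CommRingCat.of ℂ))] (hW : RelProj.IsHQuasiProjective (W ↘ Spec (CommRingCat.of ℂ)))
    (n : ℕ) (hdimW : topologicalKrullDim W = n)
    [AlgebraicGeometry.IsIntegral X] [Smooth (X ↘ Spec (CommRingCat.of ℂ))] (hX : RelProj.IsHProjective (X ↘ Spec (CommRingCat.of ℂ)))
    {Z : Scheme.{0}} (i : Z ⟶ pullback (X ↘ Spec (CommRingCat.of ℂ)) (W ↘ Spec (CommRingCat.of ℂ))) [IsClosedImmersion i]
    [AlgebraicGeometry.IsIntegral Z] (hdimZ : topologicalKrullDim Z = n) :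
    (IsOpen {w : W | ∀ z : Z, (i ≫ pullback.snd (X ↘ Spec (CommRingCat.of ℂ)) (W ↘ Spec (CommRingCat.of ℂ))) z = w →
        ((i ≫ pullback.snd (X ↘ Spec (CommRingCat.of ℂ)) (W ↘ Spec (CommRingCat.of ℂ))).stalkMap z).hom.Flat} ∧
      {w : W | ∀ z : Z, (i ≫ pullback.snd (X ↘ Spec (CommRingCat.of ℂ)) (W ↘ Spec (CommRingCat.of ℂ))) z = w →
        ((i ≫ pullback.snd (X ↘ Spec (CommRingCat.of ℂ)) (W ↘ Spec (CommRingCat.of ℂ))).stalkMap z).hom.Flat}.Nonempty) ∧
    ∃ U : W.Opens, (U : Set W) = {w : W | ((i ≫ pullback.snd (X ↘ Spec (CommRingCat.of ℂ)) (W ↘ Spec (CommRingCat.of ℂ))) ⁻¹' {w}).Finite} ∧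
      (U : Set W).Nonempty ∧ IsFinite ((i ≫ pullback.snd (X ↘ Spec (CommRingCat.of ℂ)) (W ↘ Spec (CommRingCat.of ℂ))) ∣_ U) := by
  classical
  let sW := W ↘ Spec (CommRingCat.of ℂ)
  let sX := X ↘ Spec (CommRingCat.of ℂ)
  let f := i ≫ pullback.snd sX sW
  haveI : IsProper sX := by
    obtain ⟨N, j, hj, hj'⟩ := hX
    haveI := Groth.Agent.H27Weil.isProper_toBase N (Spec (CommRingCat.of ℂ))
    haveI := hj
    show IsProper (X ↘ Spec (CommRingCat.of ℂ))
    rw [← hj']; infer_instance
  haveI : IsProper f := inferInstanceAs (IsProper (i ≫ pullback.snd sX sW))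
  haveI : IsLocallyNoetherian W := LocallyOfFiniteType.isLocallyNoetherian sW
  haveI : LocallyOfFinitePresentation f := inferInstance
  refine ⟨⟨?_, ⟨genericPoint W, fun z hz => ?_⟩⟩, ?_⟩
  · have h : {w : W | ∀ z : Z, f z = w → (f.stalkMap z).hom.Flat} = (f '' {z | (f.stalkMap z).hom.Flat}ᶜ)ᶜ := by
      ext w
      simp only [Set.mem_setOf_eq, Set.mem_compl_iff, Set.mem_image, not_exists, not_and]
      exact ⟨fun h z hz e => hz (h z e), fun h z e => by_contra fun hz => h z hz e⟩
    show IsOpen {w : W | ∀ z : Z, f z = w → (f.stalkMap z).hom.Flat}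
    rw [h]
    exact (f.isClosedMap _ (Groth.Agent.H8Props.FlatLocus.isOpen_setOf_flat_stalkMap f).isClosed_compl).isOpen_compl
  · refine RingHom.Flat.of_isField ?_ _
    rw [hz]
    exact Field.toIsField W.functionField
  · have hfin : ∀ w : W, (f ⁻¹' {w}).Finite → ∀ x, f x = w → f.QuasiFiniteAt x := by
      rintro w hw x rfl
      haveI : Finite (f.fiber (f x)) := (f.fiberHomeo (f x)).finite_iff.mpr hw.to_subtype
      exact Scheme.Hom.quasiFiniteAt_iff_isOpen_singleton_asFiber.mpr (isOpen_discrete _)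
    have hopen : IsOpen {w : W | (f ⁻¹' {w}).Finite} := by
      rw [isOpen_iff_forall_mem_open]
      intro w hw
      obtain ⟨V, hwV, hV⟩ := exists_isFinite_morphismRestrict_of_finite_preimage_singleton f w hw
      refine ⟨V, fun v hv => ?_, V.2, hwV⟩
      refine (((f ∣_ V).finite_preimage_singleton ⟨v, hv⟩).image (f ⁻¹ᵁ V).ι).subset fun x hx => ?_
      have hxV : x ∈ f ⁻¹ᵁ V := by show f x ∈ V; rw [show f x = v from hx]; exact hv
      refine ⟨⟨x, hxV⟩, ?_, rfl⟩
      apply Subtype.ext
      rw [morphismRestrict_base]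
      exact hx
    let U : W.Opens := ⟨_, hopen⟩
    refine ⟨U, rfl, ⟨genericPoint W, ?_⟩, ?_⟩
    · show (f ⁻¹' {genericPoint W}).Finite
      obtain ⟨δW, hδW⟩ := Groth.Agent.H3Cyc.SpFun.exists_deltaCompat sW fun _ => (0 : ℤ)
      obtain ⟨δZ, hδZ⟩ := Groth.Agent.H3Cyc.SpFun.exists_deltaCompat f δW
      have hc := Groth.Agent.H3Cyc.BCPush.deltaCompat_comp f sW hδZ hδW
      have hS := Groth.Agent.H26ChowK.isSetup_spec_field (k := ℂ)
      have hZs := Groth.Agent.H3Cyc.isSetup_of_locallyOfFiniteType (f ≫ sW) hS hc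
      obtain ⟨a, hca, ha⟩ := Groth.Agent.H3CAlg.IntPt.delta_eq_cdim sW δW hδW (genericPoint W)
      obtain ⟨b, hcb, hb⟩ := Groth.Agent.H3CAlg.IntPt.delta_eq_cdim (f ≫ sW) δZ hc (genericPoint Z)
      rw [Groth.Agent.H8Props.FieldDim.cdim, genericPoint_closure,
        (Homeomorph.Set.univ _).isHomeomorph.topologicalKrullDim_eq, hdimW] at hca
      rw [Groth.Agent.H8Props.FieldDim.cdim, genericPoint_closure,
        (Homeomorph.Set.univ _).isHomeomorph.topologicalKrullDim_eq, hdimZ] at hcb
      have hna : n = a := by exact_mod_cast hca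
      have hnb : n = b := by exact_mod_cast hcb
      refine (Set.finite_singleton (genericPoint Z)).subset fun z hz => ?_
      obtain ⟨m, -, hm⟩ := hδZ z
      rw [show f z = genericPoint W from hz] at hm
      by_contra hne
      have := (hZs.2.2 _ z (genericPoint_specializes z) (Ne.symm hne)).1
      omega
    · suffices LocallyQuasiFinite (f ∣_ U) from .of_isProper_of_locallyQuasiFinite _
      rw [← Scheme.Hom.quasiFiniteLocus_eq_top_iff]
      ext x
      have : f.QuasiFiniteAt ((f ⁻¹ᵁ U).ι x) := hfin _ x.2 _ rfl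
      rw [← Scheme.Hom.quasiFiniteAt_comp_iff_of_isOpenImmersion, ← morphismRestrict_ι,
        Scheme.Hom.quasiFiniteAt_comp_iff] at this
      simpa
end Groth.Agent.S18281
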