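import Groth.Statements.S18283
import Mathlib.Algebra.CharP.Algebra
import Mathlib.FieldTheory.Perfect
import Mathlib.LinearAlgebra.ExteriorPower.Basic
import Mathlib.LinearAlgebra.FreeModule.PID
import Mathlib.RingTheory.Flat.TorsionFree
import Mathlib.RingTheory.Henselian
import Mathlib.RingTheory.LocalProperties.Reduced
import Mathlib.RingTheory.PicardGroup
import Mathlib.RingTheory.RegularLocalRing.Defs
import Mathlib.RingTheory.SimpleRing.Principal

set_option autoImplicit false
universe u v
open CAlgX

namespace Groth.Agent.S18283

/-- Let A be a commutative ring, ι a finite index type, H a finite set of indices (the head indices) and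
c : ι → ι → A a table of coefficients; for j ∈ H put f_j = e_j − Σ_{i ∉ H} c_{ji} e_i in the free
module A^ι, so that each f_j has head e_j with coefficient 1 and tail supported outside H. If a
submodule M of A^ι contains every f_j with j ∈ H, then M is the A-span of these f_j if and only if
every wedge product of |H|+1 elements of M vanishes in the (|H|+1)-st exterior power of A^ι
(equivalently, every (|H|+1)-minor of every matrix whose rows lie in M vanishes). The published
statement is the case where A is a Noetherian algebra over a field of characteristic zero, A^ι is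
the degree-(m+1) part of the polynomial ring over A with its basis of terms, H is the set of
degree-(m+1) terms of a strongly stable monomial ideal generated in degree m, and M is the
degree-(m+1) part of an ideal generated by a marked set on that monomial ideal; this row allows any
commutative ring and any submodule containing the marked polynomials. -/
theorem result
    {A : Type u} [CommRing A] {ι : Type v} [Fintype ι] [DecidableEq ι]
    (H : Finset ι) (c : ι → ι → A) (M : Submodule A (ι → A))
    (hf : ∀ j ∈ H, (Pi.single j (1 : A) - ∑ i ∈ Hᶜ, c j i • Pi.single i (1 : A)) ∈ M) :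
    M = Submodule.span A ((fun j => Pi.single j (1 : A) - ∑ i ∈ Hᶜ, c j i • Pi.single i (1 : A)) '' ↑H)
      ↔ ∀ v : Fin (H.card + 1) → ι → A, (∀ k, v k ∈ M) →
          exteriorPower.ιMulti A (H.card + 1) v = 0 := by
  classical
  set f : ι → ι → A := fun j => Pi.single j (1 : A) - ∑ i ∈ Hᶜ, c j i • Pi.single i (1 : A) with hfdef
  have hfH : ∀ j, ∀ k ∈ H, f j k = if k = j then 1 else 0 := by
    intro j k hk
    simp only [hfdef, Pi.sub_apply, Finset.sum_apply, Pi.smul_apply, Pi.single_apply, smul_eq_mul, mul_ite, mul_one, mul_zero]
    rw [Finset.sum_ite_eq, if_neg (fun h => Finset.mem_compl.mp h hk), sub_zero]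
  constructor
  · intro hM v hv
    let π : (↥H → A) →ₗ[A] (ι → A) := Fintype.linearCombination A (fun j : ↥H => f j)
    have hv' : ∀ k, ∃ w, π w = v k := by
      intro k
      have h1 : v k ∈ Submodule.span A (Set.range fun j : ↥H => f j) := by
        have := hv k
        rw [hM, Set.image_eq_range] at this
        exact this
      rw [← Fintype.range_linearCombination] at h1
      exact h1
    choose w hw using hv'
    have h0 : (exteriorPower.ιMulti A (H.card + 1)).compLinearMap π = 0 := by
      refine (Pi.basisFun A ↥H).ext_alternating fun u hu => absurd (Fintype.card_le_of_injective u hu) ?_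
      simp
    have h1 := congrArg (fun φ : (↥H → A) [⋀^Fin (H.card + 1)]→ₗ[A] _ => φ w) h0
    simpa [funext hw] using h1
  · intro hw
    refine le_antisymm (fun x hx => ?_) (Submodule.span_le.mpr ?_)
    swap
    · rintro _ ⟨j, hj, rfl⟩
      exact hf j hj
    set y := x - ∑ j ∈ H, x j • f j with hy
    have hyM : y ∈ M := sub_mem hx (sum_mem fun j hj => M.smul_mem _ (hf j hj))
    have hyH : ∀ k ∈ H, y k = 0 := by
      intro k hk
      simp only [hy, Pi.sub_apply, Finset.sum_apply, Pi.smul_apply, smul_eq_mul]
      rw [Finset.sum_congr rfl (fun j hj => by rw [hfH j k hk])]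
      simp [hk]
    have hy0 : y = 0 := by
      funext i
      by_cases hi : i ∈ H
      · exact hyH i hi
      let e : Fin H.card ≃ ↥H := H.equivFin.symm
      let idx : Fin (H.card + 1) → ι := Fin.cons i (fun k => (e k : ι))
      let v : Fin (H.card + 1) → ι → A := Fin.cons y (fun k => f (e k))
      let Φ : (ι → A) [⋀^Fin (H.card + 1)]→ₗ[A] A :=
        (Matrix.detRowAlternating).compLinearMap (LinearMap.funLeft A A idx)
      have h1 := congrArg (exteriorPower.alternatingMapLinearEquiv Φ)
        (hw v (fun k => Fin.cases hyM (fun l => hf _ (e l).2) k))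
      rw [map_zero, exteriorPower.alternatingMapLinearEquiv_apply_ιMulti] at h1
      have hdet : Φ v = Matrix.det (Matrix.of fun a b => v a (idx b)) := rfl
      rw [hdet, Matrix.det_succ_row_zero, Finset.sum_eq_single 0 (fun b _ hb => ?_) (by simp)] at h1
      · have hsub : ((Matrix.of fun a b => v a (idx b)).submatrix Fin.succ (Fin.succAbove 0)) = 1 := by
          ext a b
          simp only [Matrix.submatrix_apply, Matrix.of_apply, Fin.succAbove_zero, v, idx, Fin.cons_succ]
          rw [hfH _ _ (e b).2, Matrix.one_apply]
          simp only [← Subtype.ext_iff, EmbeddingLike.apply_eq_iff_eq, eq_comm]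
        rw [hsub, Matrix.det_one] at h1
        simpa [v, idx] using h1
      · obtain ⟨b', rfl⟩ := Fin.exists_succ_eq.mpr hb
        simp [v, idx, hyH _ (e b').2]
    rw [hy, sub_eq_zero] at hy0
    rw [hy0]
    exact sum_mem fun j hj => Submodule.smul_mem _ _ (Submodule.subset_span ⟨j, hj, rfl⟩)

end Groth.Agent.S18283
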