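import Groth.Statements.S18286
import Groth.Agent.H15Magnet.Factor

set_option autoImplicit false
universe u
open CategoryTheory MonoidalCategory CartesianMonoidalCategory MonObj AlgebraicGeometry Opposite
open Magnet

open CategoryTheory MonoidalCategory CartesianMonoidalCategory MonObj AlgebraicGeometry Opposite Magnet

set_option linter.style.haveILetI false
set_option maxHeartbeats 1000000

namespace Groth.Agent.S18286

/-- Let Y be an S-scheme affine over S with an action of the diagonalizable monoid scheme A(M)_S of a
commutative monoid M, let f : Z → Y be an equivariant closed immersion (for an action of A(M)_S on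
Z), and let N ⊆ M be a submonoid (magnet). Then Z^N = Z ×_Y Y^N: the square of functors on S-schemes
formed by f^N : Z^N → Y^N, the canonical maps Z^N → Z and Y^N → Y (evaluation at the unit section)
and f is cartesian. -/
theorem result (S : Scheme.{u}) (M : Type) [AddCommMonoid M]
    (N : AddSubmonoid M) (Y Z : Over S) [IsAffineHom Y.hom] (aY : Magnet.MonAct (Magnet.AMonS S M) Y)
    (aZ : Magnet.MonAct (Magnet.AMonS S M) Z) (f : Z ⟶ Y) [IsClosedImmersion f.left]
    (hf : Magnet.MonAct.IsEquivariant aZ aY f) :
    IsPullback (Magnet.MonAct.eqvHom.postcomp (Magnet.subAct S M N) f hf) (Magnet.attrToX aZ N)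
      (Magnet.attrToX aY N) (yoneda.map f) := by
  haveI : IsSeparated Z.hom := by
    rw [← Over.w f]
    infer_instance
  refine IsPullback.of_forall_isPullback_app fun T => ?_
  rw [Limits.Types.isPullback_iff]
  refine ⟨?_, fun φ φ' h => Groth.Agent.H15Magnet.attrToX_injective aZ N _ h.2, fun φ z h => ?_⟩
  · refine ConcreteCategory.hom_ext _ _ fun φ => ?_
    change (_ ≫ (φ.1 ≫ f)) = ((_ ≫ φ.1) ≫ f)
    exact (Category.assoc _ _ _).symm
  · induction T with
    | op T =>
      obtain ⟨ψ, hψ⟩ := Groth.Agent.H15Magnet.exists_attr_of_local aZ N T z (fun R _ str j => by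
        let φj := (attr aY N).map j.op φ
        have hj : (attrToX aY N).app (op (Over.mk str)) φj = j ≫ z ≫ f :=
          (Groth.Agent.H15Magnet.toX_map aY N j φ).trans (congrArg (j ≫ ·) h)
        have ho := Groth.Agent.H15Magnet.factor_of_eq aY N _ φj _ hj
        have hω : ((AMonS S M ◁ (j ≫ z)) ≫ aZ.act) ≫ f = (AMonS.map S N.subtype ▷ _) ≫ φj.1 := by
          rw [ho, Category.assoc, hf, ← MonoidalCategory.whiskerLeft_comp_assoc, Category.assoc]
        obtain ⟨ψ, hψ⟩ := Groth.Agent.H15Magnet.exists_factor_closed f str N.subtype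
          Subtype.val_injective φj.1 _ hω
        obtain ⟨p, -, hp⟩ := Groth.Agent.H15Magnet.exists_attr_of_factor aZ N _ (j ≫ z) ψ (by
          have : Mono f := (Over.forget S).mono_of_mono_map (by dsimp; infer_instance)
          rw [← cancel_mono f, Category.assoc, hψ, hω])
        exact ⟨p, hp⟩)
      refine ⟨ψ, Groth.Agent.H15Magnet.attrToX_injective aY N T ?_, hψ⟩
      refine Eq.trans ?_ h.symm
      change _ ≫ ψ.1 ≫ f = z ≫ f
      rw [← Category.assoc]
      exact congrArg (· ≫ f) hψ

end Groth.Agent.S18286
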