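import Groth.Statements.S18287
import Groth.Agent.H15Magnet.Factor

set_option autoImplicit false
universe u
open CategoryTheory MonoidalCategory CartesianMonoidalCategory MonObj AlgebraicGeometry Opposite
open Magnet

open CategoryTheory MonoidalCategory CartesianMonoidalCategory MonObj AlgebraicGeometry Opposite Magnet

set_option linter.style.haveILetI false
set_option maxHeartbeats 1000000

namespace Groth.Agent.S18287


theorem toX_comap {S : Scheme.{u}} {M Z : Type} [AddCommMonoid M] [AddCommMonoid Z] {X : Over S}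
    (a : MonAct (AMonS S M) X) (f : M →+ Z) (Y : AddSubmonoid Z) (T : Over S)
    (φ : (attr a (Y.comap f)).obj (op T)) :
    (attrToX (a.restrict (AMonS.map S f)) Y).app (op T) ((attrComap a f Y).app (op T) φ) =
      (attrToX a (Y.comap f)).app (op T) φ := by
  change lift (toUnit T ≫ η[AMonS S Y]) (𝟙 T) ≫ ((attrComap a f Y).app (op T) φ).1 =
    lift (toUnit T ≫ η[AMonS S (Y.comap f)]) (𝟙 T) ≫ φ.1
  rw [attrComap_app_coe, lift_whiskerRight_assoc, Category.assoc, IsMonHom.one_hom]

end Groth.Agent.S18287

namespace Groth.Agent.S18287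

/-- Let f : M → Z be a homomorphism of commutative monoids, Y a submonoid of Z and N its preimage in M,
and let X be an S-scheme affine over S with an action of the diagonalizable monoid scheme A(M)_S.
Regard X as an A(Z)_S-scheme through A(Z)_S → A(M)_S. Then the canonical map of attractors X^{N ⊂ M}
→ X^{Y ⊂ Z} (precomposition with A(Y)_S → A(N)_S) is an isomorphism. -/
theorem result (S : Scheme.{u}) (M Z : Type) [AddCommMonoid M] [AddCommMonoid Z]
    (f : M →+ Z) (Y : AddSubmonoid Z) (X : Over S) [IsAffineHom X.hom] (a : Magnet.MonAct (Magnet.AMonS S M) X) :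
    IsIso (Magnet.attrComap a f Y) := by
  rw [NatTrans.isIso_iff_isIso_app]
  intro T
  induction T with
  | op T =>
    rw [isIso_iff_bijective]
    refine ⟨fun φ φ' hφ => ?_, fun ψ => ?_⟩
    · refine Groth.Agent.H15Magnet.attrToX_injective a _ T ?_
      have := congrArg ((attrToX (a.restrict (AMonS.map S f)) Y).app (op T)) hφ
      simpa only [toX_comap] using this
    · let x := (attrToX (a.restrict (AMonS.map S f)) Y).app (op T) ψ
      obtain ⟨φ, hφ⟩ := Groth.Agent.H15Magnet.exists_attr_of_local a (Y.comap f) T x (fun R _ str j => by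
        let ψj := (attr (a.restrict (AMonS.map S f)) Y).map j.op ψ
        have hj : (attrToX (a.restrict (AMonS.map S f)) Y).app (op (Over.mk str)) ψj = j ≫ x :=
          Groth.Agent.H15Magnet.toX_map (a.restrict (AMonS.map S f)) Y j ψ
        have ho := Groth.Agent.H15Magnet.factor_of_eq _ Y _ ψj _ hj
        let h : M →+ M × Z := (AddMonoidHom.id M).prod f
        let Q : AddSubmonoid (M × Z) := (⊤ : AddSubmonoid M).prod Y
        let il : M →+ Q := (AddMonoidHom.inl M Z).codRestrict Q (fun m => ⟨trivial, Y.zero_mem⟩)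
        let ir : Y →+ Q := ((AddMonoidHom.inr M Z).comp Y.subtype).codRestrict Q (fun y => ⟨trivial, y.2⟩)
        let θ : AMonS S Q ⊗ Over.mk str ⟶ X :=
          lift (fst _ _ ≫ AMonS.map S il) ((AMonS.map S ir ▷ _) ≫ ψj.1) ≫ a.act
        have hθ : (AMonS.map S Q.subtype ▷ _) ≫ θ =
            (AMonS.map S h ▷ _) ≫ (AMonS S M ◁ (j ≫ x)) ≫ a.act := by
          refine hom_ext_lift₂ fun T' p t => ?_
          have e2 : (AMonS.map S (AddMonoidHom.inr M Z) ▷ _) ≫ (AMonS.map S Y.subtype ▷ _) ≫ ψj.1 =
              (AMonS.map S Q.subtype ▷ _) ≫ (AMonS.map S ir ▷ _) ≫ ψj.1 := by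
            rw [← comp_whiskerRight_assoc, ← comp_whiskerRight_assoc, ← AMonS.map_comp, ← AMonS.map_comp]
            rfl
          have e3 := congrArg (lift p t ≫ ·) e2
          simp only [ho, lift_whiskerRight_assoc, lift_whiskerLeft_assoc, MonAct.lift_restrict_act] at e3
          rw [lift_whiskerRight_assoc, lift_whiskerRight_assoc, lift_whiskerLeft_assoc, comp_lift_assoc,
            lift_fst_assoc, lift_whiskerRight_assoc, ← e3, Category.assoc, ← AMonS.map_comp,
            ← MonAct.lift_mul_act]
          congr 2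
          rw [show h = Q.subtype.comp il + (AddMonoidHom.inr M Z).comp f from
            AddMonoidHom.ext fun m => Prod.ext (add_zero m).symm (zero_add (f m)).symm, Groth.Agent.H15Magnet.amonS_map_add,
            MonObj.comp_mul, AMonS.map_comp S (AddMonoidHom.inr M Z) f, Category.assoc]
        obtain ⟨θ', hθ'⟩ := Groth.Agent.H15Magnet.exists_factor_comap str h
          (fun m m' e => congrArg Prod.fst e) Q _ θ hθ
        let c : ↥(Q.comap h) →+ ↥(Y.comap f) :=
          (Q.comap h).subtype.codRestrict (Y.comap f) (fun m => m.2.2)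
        obtain ⟨p, -, hp⟩ := Groth.Agent.H15Magnet.exists_attr_of_factor a (Y.comap f) _ (j ≫ x)
          ((AMonS.map S c ▷ _) ≫ θ') (by
            rw [← comp_whiskerRight_assoc, ← AMonS.map_comp]
            exact hθ')
        exact ⟨p, hp⟩)
      exact ⟨φ, Groth.Agent.H15Magnet.attrToX_injective (a.restrict (AMonS.map S f)) Y T
        ((toX_comap a f Y T φ).trans hφ)⟩

end Groth.Agent.S18287
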