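import Groth.Statements.S18288
import Groth.Agent.H15Magnet.Factor

set_option autoImplicit false
universe u
open CategoryTheory MonoidalCategory CartesianMonoidalCategory MonObj AlgebraicGeometry Opposite
open Magnet

open CategoryTheory MonoidalCategory CartesianMonoidalCategory MonObj AlgebraicGeometry Opposite Magnet

set_option linter.style.haveILetI false
set_option maxHeartbeats 1000000

namespace Groth.Agent.S18288


theorem toX_comap {S : Scheme.{u}} {M Z : Type} [AddCommMonoid M] [AddCommMonoid Z] {X : Over S}
    (a : MonAct (AMonS S M) X) (f : M →+ Z) (Y : AddSubmonoid Z) (T : Over S)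
    (φ : (attr a (Y.comap f)).obj (op T)) :
    (attrToX (a.restrict (AMonS.map S f)) Y).app (op T) ((attrComap a f Y).app (op T) φ) =
      (attrToX a (Y.comap f)).app (op T) φ := by
  change lift (toUnit T ≫ η[AMonS S Y]) (𝟙 T) ≫ ((attrComap a f Y).app (op T) φ).1 =
    lift (toUnit T ≫ η[AMonS S (Y.comap f)]) (𝟙 T) ≫ φ.1
  rw [attrComap_app_coe, lift_whiskerRight_assoc, Category.assoc, IsMonHom.one_hom]

end Groth.Agent.S18288

namespace Groth.Agent.S18288

/-- Let M be a commutative monoid with an injective homomorphism f : M → Z into a commutative group Z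
(so M is cancellative; the published statement takes Z to be the group completion of M, and the same
argument applies to any such Z), let Y be a submonoid of Z contained in the image of M, and let X be
an S-scheme separated over S with an action of the diagonalizable monoid scheme A(M)_S. Regard X as
a D(Z)_S-scheme through D(Z)_S → A(M)_S. Then the canonical map of attractors X^{f⁻¹Y ⊂ M} → X^{Y ⊂
Z} is an isomorphism: a D(Z)_S-equivariant family out of A(Y)_S is automatically A(M)_S-equivariant.
(The published statement allows X to be an algebraic space; here X is a scheme.) -/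
theorem result (S : Scheme.{u}) (M Z : Type) [AddCommMonoid M]
    [AddCommGroup Z] (f : M →+ Z) (hf : Function.Injective f) (Y : AddSubmonoid Z)
    (hY : Y ≤ AddMonoidHom.mrange f) (X : Over S) [IsSeparated X.hom]
    (a : Magnet.MonAct (Magnet.AMonS S M) X) :
    IsIso (Magnet.attrComap a f Y) := by
  rw [NatTrans.isIso_iff_isIso_app]
  intro T
  induction T with
  | op T =>
    rw [isIso_iff_bijective]
    refine ⟨fun φ φ' hφ => ?_, fun ψ => ?_⟩
    · refine Groth.Agent.H15Magnet.attrToX_injective a _ T ?_
      have := congrArg ((attrToX (a.restrict (AMonS.map S f)) Y).app (op T)) hφ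
      simpa only [toX_comap] using this
    · let g : (Y.comap f) →+ Y := (f.comp (Y.comap f).subtype).codRestrict Y (fun x => x.2)
      have hg : Function.Bijective g := ⟨fun x y h => Subtype.ext (hf (congrArg Subtype.val h)), fun y => by
        obtain ⟨m, hm⟩ := hY y.2
        exact ⟨⟨m, show f m ∈ Y by rw [hm]; exact y.2⟩, Subtype.ext hm⟩⟩
      let e := AddEquiv.ofBijective g hg
      let x := (attrToX (a.restrict (AMonS.map S f)) Y).app (op T) ψ
      obtain ⟨φ, hφ, hφx⟩ := Groth.Agent.H15Magnet.exists_attr_of_factor a (Y.comap f) T x
        ((AMonS.map S e.symm.toAddMonoidHom ▷ T) ≫ ψ.1) (by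
          refine Groth.Agent.H15Magnet.amap_ext f hf ?_
          rw [← comp_whiskerRight_assoc, ← comp_whiskerRight_assoc, Category.assoc, ← AMonS.map_comp,
            ← AMonS.map_comp, show f.comp ((Y.comap f).subtype.comp e.symm.toAddMonoidHom) = Y.subtype
              from AddMonoidHom.ext fun y => congrArg Subtype.val (e.apply_symm_apply y),
            Groth.Agent.H15Magnet.restrict_eq_orbit, MonAct.restrict_act, whisker_exchange_assoc])
      exact ⟨φ, Groth.Agent.H15Magnet.attrToX_injective (a.restrict (AMonS.map S f)) Y T
        ((toX_comap a f Y T φ).trans hφx)⟩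

end Groth.Agent.S18288
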