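import Groth.Statements.S18289
import Groth.Agent.H15Magnet.ComapGroup

set_option autoImplicit false
universe u
open CategoryTheory MonoidalCategory CartesianMonoidalCategory MonObj AlgebraicGeometry Opposite
open Magnet

open CategoryTheory MonoidalCategory CartesianMonoidalCategory MonObj AlgebraicGeometry Opposite Magnet

set_option linter.style.haveILetI false

namespace Groth.Agent.S18289.Aux

open Groth.Agent.H15Magnet



variable {S : Scheme.{u}} {M Q : Type} [AddCommGroup M] [AddCommGroup Q] {X : Over S}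
  (a : MonAct (AMonS S M) X) (f : M →+ Q)

theorem toX_fixed (N : AddSubmonoid M) (hN : ∀ n ∈ N, f n = 0) (T : Over S) (φ : (attr a N).obj (op T))
    (T' : Over S) (t : T' ⟶ T) (g : T' ⟶ AMonS S Q) :
    lift g (t ≫ (attrToX a N).app (op T) φ) ≫ (a.restrict (AMonS.map S f)).act =
      t ≫ (attrToX a N).app (op T) φ := by
  have e : t ≫ (attrToX a N).app (op T) φ = lift (toUnit T' ≫ η[AMonS S N]) t ≫ φ.1 := by
    change t ≫ lift (toUnit T ≫ η[AMonS S N]) (𝟙 T) ≫ φ.1 = _
    rw [comp_lift_assoc, ← Category.assoc t, comp_toUnit, Category.comp_id]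
  have h := (MonAct.mem_eqvHom_iff φ.1).1 φ.2 T' (g ≫ AMonS.map S f) (toUnit T' ≫ η[AMonS S N]) t
  simp only [subAct, MonAct.lift_restrict_act, MonAct.lift_regular_act] at h
  rw [Category.assoc, ← AMonS.map_comp,
    show f.comp N.subtype = 0 from AddMonoidHom.ext fun n => hN n n.2,
    amonS_map_zero, comp_toUnit_assoc, ← Hom.one_def, _root_.one_mul] at h
  rw [e, MonAct.lift_restrict_act, ← Hom.one_def]
  exact h.symm

theorem toX_bijective (N : AddSubmonoid M) (hN : N = (⊥ : AddSubmonoid Q).comap f) (T : Over S)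
    (hX : ∀ φ : (attr a N).obj (op T), ∀ (T' : Over S) (t : T' ⟶ T) (g : T' ⟶ AMonS S Q),
      lift g (t ≫ (attrToX a N).app (op T) φ) ≫ (a.restrict (AMonS.map S f)).act =
        t ≫ (attrToX a N).app (op T) φ) :
    Function.Bijective (fun φ : (attr a N).obj (op T) =>
      (⟨(attrToX a N).app (op T) φ, hX φ⟩ : (MonAct.fixedPsh (a.restrict (AMonS.map S f))).obj (op T))) := by
  subst hN
  have hb := attr_comap_bijective a (f := f) (Y := ⊥) bot_le T
  have hval : ∀ φ : (attr a ((⊥ : AddSubmonoid Q).comap f)).obj (op T),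
      ((attrComap a f ⊥).app (op T) φ).1 = snd _ T ≫ (attrToX a _).app (op T) φ := fun φ => by
    refine hom_ext_lift₂ fun T' y t => ?_
    haveI : Subsingleton (⊥ : AddSubmonoid Q) := ⟨fun p q => Subtype.ext ((AddSubmonoid.mem_bot.1 p.2).trans (AddSubmonoid.mem_bot.1 q.2).symm)⟩
    rw [attrComap_app_coe, lift_whiskerRight_assoc, lift_snd_assoc]
    change _ = t ≫ lift (toUnit T ≫ η[AMonS S _]) (𝟙 T) ≫ φ.1
    rw [comp_lift_assoc, ← Category.assoc t, comp_toUnit, Category.comp_id, subsingleton_pts T' y,
      Category.assoc, IsMonHom.one_hom]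
  refine ⟨fun φ φ' h => hb.1 (Subtype.ext ?_), fun x => ?_⟩
  · exact (hval φ).trans ((congrArg (fun z => snd _ T ≫ z) (congrArg Subtype.val h)).trans (hval φ').symm)
  · obtain ⟨φ, hφ⟩ := hb.2 ⟨snd _ T ≫ x.1, by
      rw [MonAct.mem_eqvHom_iff]
      intro T' g y t
      simp only [lift_snd_assoc]
      exact (x.2 T' t g).symm⟩
    refine ⟨φ, Subtype.ext ?_⟩
    have h1 := congrArg (fun z => lift (toUnit T ≫ η[AMonS S (⊥ : AddSubmonoid Q)]) (𝟙 T) ≫ z)
      ((hval φ).symm.trans (congrArg Subtype.val hφ))
    simpa only [lift_snd_assoc, Category.id_comp] using h1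

end Groth.Agent.S18289.Aux

namespace Groth.Agent.S18289

/-- Let M be a finitely generated commutative group, Z a subgroup of M and X an S-scheme with an action
of the diagonalizable group scheme D(M)_S. Then the attractor X^Z, for Z regarded as a magnet of M,
is identified with the fixed-point functor of X under the subgroup D(M/Z)_S (acting through D(M/Z)_S
→ D(M)_S): there is an isomorphism of functors on S-schemes from X^Z to the fixed points whose
composite with the inclusion of the fixed points into X is the canonical map X^Z → X. (The published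
statement allows X to be an algebraic space; here X is a scheme.) -/
theorem result (S : Scheme.{u}) (M : Type) [AddCommGroup M] [AddGroup.FG M]
    (Z : AddSubgroup M) (X : Over S) (a : AlgGrp.Action (Red.DS S M) X) :
    ∃ e : Magnet.attr (Magnet.MonAct.ofAction a) Z.toAddSubmonoid ≅
        Magnet.MonAct.fixedPsh ((Magnet.MonAct.ofAction a).restrict (Magnet.AMonS.map S (QuotientAddGroup.mk' Z))),
      e.hom ≫ Magnet.MonAct.fixedPshι _ = Magnet.attrToX (Magnet.MonAct.ofAction a) Z.toAddSubmonoid := by
  let a' : MonAct (AMonS S M) X := MonAct.ofAction a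
  let f := QuotientAddGroup.mk' Z
  have hN : Z.toAddSubmonoid = (⊥ : AddSubmonoid (M ⧸ Z)).comap f := by
    ext m
    simp [f]
  have hX := fun (T : Over S) (φ : (attr a' Z.toAddSubmonoid).obj (op T)) =>
    Aux.toX_fixed a' f Z.toAddSubmonoid (fun n hn => (QuotientAddGroup.eq_zero_iff n).2 hn) T φ
  let θ : attr a' Z.toAddSubmonoid ⟶ MonAct.fixedPsh (a'.restrict (AMonS.map S f)) :=
    { app := fun T => TypeCat.ofHom fun φ => ⟨(attrToX a' _).app T φ, hX T.unop φ⟩
      naturality := fun T T' t => ConcreteCategory.hom_ext _ _ fun φ => Subtype.ext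
        (ConcreteCategory.congr_hom ((attrToX a' Z.toAddSubmonoid).naturality t) φ) }
  haveI : IsIso θ := by
    rw [NatTrans.isIso_iff_isIso_app]
    intro T
    induction T with
    | op T =>
      rw [isIso_iff_bijective]
      exact Aux.toX_bijective a' f _ hN T (hX T)
  refine ⟨asIso θ, ?_⟩
  ext T φ
  rfl

end Groth.Agent.S18289
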