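import Groth.Statements.S1829
import Groth.Agent.H4DR.Dualizing.GorensteinFibre
import Groth.Agent.H02CA.GorRing
import Groth.Agent.S1830

set_option autoImplicit false
universe u
open CategoryTheory
attribute [local instance] HasDerivedCategory.standard
open Dual

namespace Groth.Agent.S1829

/-- Let A → B be a faithfully flat local complete intersection homomorphism of Noetherian rings and K an
object of D(A); assume the derived base change functor D(A) → D(B) exists. Then K is a dualizing
complex for A if and only if its base change is a dualizing complex for B. -/
theorem result (A B : Type u) [CommRing A] [CommRing B] [Algebra A B] [IsNoetherianRing A] [IsNoetherianRing B] [Module.FaithfullyFlat A B] (hl : LCI.IsLCI A B) [DRing.HasLBaseChange (algebraMap A B)] (K : Dual.D A) : Dual.IsDualizing A K ↔ Dual.IsDualizing B ((DRing.LBaseChange (algebraMap A B)).obj K) := by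
  classical
  haveI : Algebra.FiniteType A B := hl.1
  exact H4DR.Dualizing.lbase_iff_of_fibres (fun p => H02CA.GorFlat.isGorensteinRing_of_ringEquiv
    (Algebra.TensorProduct.comm A B p.asIdeal.ResidueField).toRingEquiv (S1830.result A B hl p)) K

end Groth.Agent.S1829
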