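import Groth.Statements.S18294
import Groth.Agent.H15Magnet.Sheaf
import Mathlib.CategoryTheory.Sites.SubcanonicalOver
import Mathlib.AlgebraicGeometry.Sites.Fpqc

set_option autoImplicit false
universe u
open CategoryTheory MonoidalCategory CartesianMonoidalCategory MonObj AlgebraicGeometry Opposite
open Magnet

namespace Groth.Agent.S18294

/-- Let A be a monoid object in schemes over S acting on S-schemes B and X (in the source A is the
diagonalizable monoid scheme A(M)_S and B = A(N)_S for a magnet N, so that the functor below is the
attractor X^N). Then the functor on S-schemes T ↦ (morphisms B ×_S T → X over S equivariant for A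
acting on the first factor) is a sheaf for the fppf topology. -/
theorem result (S : Scheme.{u}) (A B X : Over S) [MonObj A] (ρ : Magnet.MonAct A B)
    (a : Magnet.MonAct A X) :
    Presheaf.IsSheaf (QuotSh.J Scheme.fppfPrecoverage S) (Magnet.MonAct.eqvHom ρ a) := by
  haveI : (QuotSh.J Scheme.fppfPrecoverage S).Subcanonical := by
    show (Scheme.fppfTopology.over S).Subcanonical
    infer_instance
  exact Groth.Agent.H15Magnet.isSheaf_eqvHom _ ρ a

end Groth.Agent.S18294
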