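import Groth.Statements.S18299
import Groth.Agent.H15Site.ClosedDescent
import Mathlib.AlgebraicGeometry.Sites.Fpqc

set_option autoImplicit false
universe u
open CategoryTheory MonoidalCategory CartesianMonoidalCategory MonObj AlgebraicGeometry Opposite
open Magnet

open CategoryTheory MonoidalCategory CartesianMonoidalCategory MonObj AlgebraicGeometry Opposite Magnet

set_option linter.style.haveILetI false

namespace Groth.Agent.S18299.Aux

variable {S : Scheme.{u}} {A X U : Over S} [MonObj A] (aX : MonAct A X) (aU : MonAct A U)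

/-- a morphism of schemes into `X` is a fixed point -/
def IsFix {T : Scheme.{u}} (g : T ⟶ X.left) : Prop :=
  ∀ (T' : Over S) (x : T' ⟶ X) (t : T'.left ⟶ T), t ≫ g = x.left → ∀ a : T' ⟶ A, lift a x ≫ aX.act = x

theorem isFix_comp {T T' : Scheme.{u}} (h : T' ⟶ T) (g : T ⟶ X.left) (hg : IsFix aX g) : IsFix aX (h ≫ g) :=
  fun P x t e a => hg P x (t ≫ h) ((Category.assoc _ _ _).trans e) a

theorem isFix_desc {T T' : Scheme.{u}} (p : T' ⟶ T) [Flat p] [Surjective p] [QuasiCompact p]
    (g : T ⟶ X.left) (h : IsFix aX (p ≫ g)) : IsFix aX g := by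
  intro P x t e a
  let q := Limits.pullback.fst t p
  let qo : Over.mk (q ≫ P.hom) ⟶ P := Over.homMk q
  have h1 := h (Over.mk (q ≫ P.hom)) (qo ≫ x) (Limits.pullback.snd t p) (by
    rw [← Category.assoc, ← Limits.pullback.condition, Category.assoc, e]
    rfl) (qo ≫ a)
  rw [← comp_lift, Category.assoc] at h1
  apply Over.OverMorphism.ext
  haveI : Epi q := inferInstanceAs (Epi (Limits.pullback.fst t p))
  rw [← cancel_epi q]
  exact congrArg CommaMorphism.left h1

theorem isFix_cover {T : Scheme.{u}} (𝒰 : Scheme.OpenCover.{u} T) (g : T ⟶ X.left)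
    (h : ∀ i, IsFix aX (𝒰.f i ≫ g)) : IsFix aX g := by
  intro P x t e a
  apply Over.OverMorphism.ext
  refine Scheme.Cover.hom_ext (𝒰.pullback₁ t) _ _ fun i => ?_
  let q := Limits.pullback.fst t (𝒰.f i)
  let qo : Over.mk (q ≫ P.hom) ⟶ P := Over.homMk q
  have h1 := h i (Over.mk (q ≫ P.hom)) (qo ≫ x) (Limits.pullback.snd t (𝒰.f i)) (by
    rw [← Category.assoc, ← Limits.pullback.condition, Category.assoc, e]
    rfl) (qo ≫ a)
  rw [← comp_lift, Category.assoc] at h1
  exact congrArg CommaMorphism.left h1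

theorem fix_iff {T : Over S} (x : T ⟶ X) :
    (∃ y : (MonAct.fixedPsh aX).obj (op T), (MonAct.fixedPshι aX).app (op T) y = x) ↔ IsFix aX x.left := by
  constructor
  · rintro ⟨y, rfl⟩ P z t e a
    have hw : t ≫ T.hom = P.hom := by
      rw [← Over.w z, ← e, Category.assoc]
      exact congrArg (t ≫ ·) (Over.w _).symm
    let tt : P ⟶ T := Over.homMk t hw
    obtain rfl : tt ≫ y.1 = z := Over.OverMorphism.ext e
    exact y.2 P tt a
  · intro h
    exact ⟨⟨x, fun P t a => h P (t ≫ x) t.left rfl a⟩, rfl⟩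

theorem main (f : U ⟶ X) [Etale f.left] [Surjective f.left] (hf : MonAct.IsEquivariant aU aX f)
    (hfpr : IsPullback (MonAct.fixedPsh.map f hf) (MonAct.fixedPshι aU) (MonAct.fixedPshι aX) (yoneda.map f))
    (hU : ∃ (W' : Over S) (i' : W' ⟶ U) (e' : (MonAct.fixedPsh aU).RepresentableBy W'),
      IsClosedImmersion i'.left ∧ ∀ (T : Over S) (w : T ⟶ W'),
        (MonAct.fixedPshι aU).app (op T) (e'.homEquiv w) = w ≫ i') :
    ∃ (W : Over S) (i : W ⟶ X) (e : (MonAct.fixedPsh aX).RepresentableBy W),
      IsClosedImmersion i.left ∧ ∀ (T : Over S) (w : T ⟶ W),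
        (MonAct.fixedPshι aX).app (op T) (e.homEquiv w) = w ≫ i := by
  obtain ⟨W', i', e', hi', he'⟩ := hU
  have hP : ∀ {T : Scheme.{u}} (v : T ⟶ U.left), IsFix aX (v ≫ f.left) ↔ ∃ w : T ⟶ W'.left, w ≫ i'.left = v := by
    intro T v
    let To : Over S := Over.mk (v ≫ U.hom)
    let vo : To ⟶ U := Over.homMk v
    have hp := Limits.Types.isPullback_iff _ _ _ _ |>.1 (hfpr.map ((evaluation _ _).obj (op To)))
    constructor
    · intro h
      obtain ⟨y, hy⟩ := (fix_iff aX (vo ≫ f)).2 h
      obtain ⟨z, -, hz⟩ := hp.2.2 y vo hy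
      obtain ⟨w, hw⟩ := e'.homEquiv.surjective z
      refine ⟨w.left, ?_⟩
      have h2 : w ≫ i' = vo := by rw [← he', hw]; exact hz
      exact congrArg CommaMorphism.left h2
    · rintro ⟨w, hw⟩
      let wo : To ⟶ W' := Over.homMk w (by
        rw [← Over.w i', reassoc_of% hw]
        rfl)
      have h2 : wo ≫ i' = vo := Over.OverMorphism.ext hw
      refine (fix_iff aX (vo ≫ f)).1 ⟨(MonAct.fixedPsh.map f hf).app (op To) (e'.homEquiv wo), ?_⟩
      rw [← h2, ← he']
      rfl
  obtain ⟨W, i, hi, hW⟩ := Groth.Agent.H15Site.ClosedDescent.exists_closedImmersion f.left i'.left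
    (fun {T} g => IsFix aX g) (isFix_comp aX) (fun p _ _ _ g => isFix_desc aX p g) (isFix_cover aX) hP
  let Wo : Over S := Over.mk (i ≫ X.hom)
  let io : Wo ⟶ X := Over.homMk i
  haveI : IsClosedImmersion io.left := hi
  have hfix : ∀ (T : Over S) (z : T ⟶ Wo), ∃ y : (MonAct.fixedPsh aX).obj (op T),
      (MonAct.fixedPshι aX).app (op T) y = z ≫ io :=
    fun T z => (fix_iff aX _).2 ((hW _).2 ⟨z.left, rfl⟩)
  choose F hF using hfix
  have hb : ∀ T, Function.Bijective (F T) := by
    refine fun T => ⟨fun z z' h => ?_, fun y => ?_⟩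
    · have : Mono io := (Over.forget S).mono_of_mono_map (by dsimp; infer_instance)
      rw [← cancel_mono io, ← hF, ← hF, h]
    · obtain ⟨w, hw⟩ := (hW y.1.left).1 ((fix_iff aX y.1).1 ⟨y, rfl⟩)
      refine ⟨Over.homMk w (by
        change w ≫ i ≫ X.hom = _
        rw [reassoc_of% hw, Over.w]), Subtype.ext ?_⟩
      exact (hF T _).trans (Over.OverMorphism.ext hw)
  refine ⟨Wo, io, { homEquiv := fun {T} => Equiv.ofBijective _ (hb T), homEquiv_comp := ?_ }, inferInstance, hF⟩
  intro T T' h z
  apply Subtype.ext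
  change (MonAct.fixedPshι aX).app (op T) (F T (h ≫ z)) = h ≫ (MonAct.fixedPshι aX).app (op T') (F T' z)
  rw [hF, hF, Category.assoc]

end Groth.Agent.S18299.Aux

namespace Groth.Agent.S18299

/-- Let Q be a commutative group, X and U S-schemes with actions of the diagonalizable group scheme
D(Q)_S, and f : U → X an equivariant morphism over S which is étale and surjective and fixed-point
reflecting: the square formed by the fixed-point functors U^{D(Q)} → X^{D(Q)} over U → X is
cartesian (an FPR atlas). If the fixed-point functor of U is represented by a closed subscheme of U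
— which holds when U is a disjoint union of D(Q)_S-stable S-affine schemes, by the affine
representability of attractors — then the fixed-point functor of X is represented by a closed
subscheme of X, compatibly with its inclusion into X. (In the source Q = M/Z for a subgroup Z of a
commutative group M acting through D(M)_S, the fixed points of D(M/Z)_S being the attractor X^Z, and
X may be an algebraic space; here X is a scheme.) -/
theorem result (S : Scheme.{u}) (Q : Type)
    [AddCommGroup Q] (X U : Over S) (aX : AlgGrp.Action (Red.DS S Q) X) (aU : AlgGrp.Action (Red.DS S Q) U)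
    (f : U ⟶ X) [Etale f.left] [Surjective f.left]
    (hf : Magnet.MonAct.IsEquivariant (Magnet.MonAct.ofAction aU) (Magnet.MonAct.ofAction aX) f)
    (hfpr : IsPullback (Magnet.MonAct.fixedPsh.map f hf) (Magnet.MonAct.fixedPshι (Magnet.MonAct.ofAction aU))
      (Magnet.MonAct.fixedPshι (Magnet.MonAct.ofAction aX)) (yoneda.map f))
    (hU : ∃ (W' : Over S) (i' : W' ⟶ U) (e' : (Magnet.MonAct.fixedPsh (Magnet.MonAct.ofAction aU)).RepresentableBy W'),
      IsClosedImmersion i'.left ∧ ∀ (T : Over S) (w : T ⟶ W'),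
        (Magnet.MonAct.fixedPshι (Magnet.MonAct.ofAction aU)).app (op T) (e'.homEquiv w) = w ≫ i') :
    ∃ (W : Over S) (i : W ⟶ X) (e : (Magnet.MonAct.fixedPsh (Magnet.MonAct.ofAction aX)).RepresentableBy W),
      IsClosedImmersion i.left ∧ ∀ (T : Over S) (w : T ⟶ W),
        (Magnet.MonAct.fixedPshι (Magnet.MonAct.ofAction aX)).app (op T) (e.homEquiv w) = w ≫ i := by
  exact Aux.main (MonAct.ofAction aX) (MonAct.ofAction aU) f hf hfpr hU

end Groth.Agent.S18299
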