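import Groth.Statements.S18300


set_option autoImplicit false
universe u
open CategoryTheory MonoidalCategory CartesianMonoidalCategory MonObj AlgebraicGeometry Opposite
open Magnet

open CategoryTheory MonoidalCategory CartesianMonoidalCategory MonObj AlgebraicGeometry Opposite Magnet

set_option linter.style.haveILetI false
set_option linter.unusedSectionVars false

namespace Groth.Agent.S18300.Aux

variable {S : Scheme.{u}} {A B X : Over S} [MonObj A] (T : Over S) (ρ : MonAct A B) (a : MonAct A X)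
  (T'' : Over T.left)


/-- the comparison map on underlying morphisms -/
noncomputable def fwd (φ : B ⊗ ((Over.map T.hom).obj T'') ⟶ X) : Red.bc T.hom B ⊗ T'' ⟶ Red.bc T.hom X :=
  (Over.mapPullbackAdj T.hom).homEquiv _ _ (lift (((Over.mapPullbackAdj T.hom).homEquiv _ _).symm (fst (Red.bc T.hom B) T'')) ((Over.map T.hom).map (snd _ T'')) ≫ φ)

theorem fwd_pt (φ : B ⊗ ((Over.map T.hom).obj T'') ⟶ X) (T' : Over T.left) (b : (Over.map T.hom).obj T' ⟶ B) (t : T' ⟶ T'') :
    lift ((Over.mapPullbackAdj T.hom).homEquiv T' B b) t ≫ fwd T T'' φ = (Over.mapPullbackAdj T.hom).homEquiv T' X (lift b ((Over.map T.hom).map t) ≫ φ) := by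
  apply ((Over.mapPullbackAdj T.hom).homEquiv T' X).symm.injective
  rw [fwd, Equiv.symm_apply_apply, Adjunction.homEquiv_naturality_left_symm, Equiv.symm_apply_apply,
    comp_lift_assoc, ← Adjunction.homEquiv_naturality_left_symm, lift_fst, Equiv.symm_apply_apply,
    ← Functor.map_comp, lift_snd]

/-- `B ⊗ ((Over.map T.hom).obj T'')` regarded over `T` -/
noncomputable def K (B : Over S) : Over T.left := Over.mk (snd B ((Over.map T.hom).obj T'') ≫ strMap T T'').left

noncomputable def sndK (B : Over S) : K T T'' B ⟶ T'' := Over.homMk (snd B ((Over.map T.hom).obj T'')).left rfl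

noncomputable def eK (B : Over S) : (Over.map T.hom).obj (K T T'' B) ≅ B ⊗ ((Over.map T.hom).obj T'') :=
  overMapMkIso (snd B ((Over.map T.hom).obj T'') ≫ strMap T T'')

theorem eK_snd (B : Over S) : (eK T T'' B).hom ≫ snd B ((Over.map T.hom).obj T'') = (Over.map T.hom).map (sndK T T'' B) := by
  apply Over.OverMorphism.ext
  simp [eK, sndK]
  exact Category.id_comp _

theorem lift_eK (B : Over S) :
    lift ((eK T T'' B).hom ≫ fst B ((Over.map T.hom).obj T'')) ((Over.map T.hom).map (sndK T T'' B)) = (eK T T'' B).hom := by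
  rw [← eK_snd, ← comp_lift, lift_fst_snd, Category.comp_id]

/-- the inverse map -/
noncomputable def bwd (ψ : Red.bc T.hom B ⊗ T'' ⟶ Red.bc T.hom X) : B ⊗ ((Over.map T.hom).obj T'') ⟶ X :=
  (eK T T'' B).inv ≫ ((Over.mapPullbackAdj T.hom).homEquiv _ _).symm (lift ((Over.mapPullbackAdj T.hom).homEquiv _ _ ((eK T T'' B).hom ≫ fst B ((Over.map T.hom).obj T''))) (sndK T T'' B) ≫ ψ)

theorem bwd_pt (ψ : Red.bc T.hom B ⊗ T'' ⟶ Red.bc T.hom X) (T' : Over T.left)
    (b : (Over.map T.hom).obj T' ⟶ B) (t : T' ⟶ T'') :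
    lift b ((Over.map T.hom).map t) ≫ bwd T T'' ψ = ((Over.mapPullbackAdj T.hom).homEquiv T' X).symm (lift ((Over.mapPullbackAdj T.hom).homEquiv T' B b) t ≫ ψ) := by
  let q := lift b ((Over.map T.hom).map t)
  have hq : q.left ≫ (snd B ((Over.map T.hom).obj T'')).left = t.left := congrArg CommaMorphism.left (lift_snd b ((Over.map T.hom).map t))
  let k : T' ⟶ K T T'' B := Over.homMk q.left (by
    change q.left ≫ (snd B ((Over.map T.hom).obj T'')).left ≫ T''.hom = T'.hom
    rw [← Category.assoc, hq, Over.w])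
  have hk : (Over.map T.hom).map k ≫ (eK T T'' B).hom = q := by
    apply Over.OverMorphism.ext
    simp [eK, k]
    exact Category.comp_id _
  have h1 : q ≫ (eK T T'' B).inv = (Over.map T.hom).map k := by
    rw [← hk, Category.assoc, Iso.hom_inv_id, Category.comp_id]
  change q ≫ _ = _
  rw [bwd, ← Category.assoc, h1, ← Adjunction.homEquiv_naturality_left_symm, comp_lift_assoc,
    ← Adjunction.homEquiv_naturality_left, ← Category.assoc, hk, lift_fst]
  congr 3
  exact Over.OverMorphism.ext hq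

theorem bwd_fwd (φ : B ⊗ ((Over.map T.hom).obj T'') ⟶ X) : bwd T T'' (fwd T T'' φ) = φ := by
  rw [bwd, fwd_pt, Equiv.symm_apply_apply, lift_eK, Iso.inv_hom_id_assoc]

theorem fwd_bwd (ψ : Red.bc T.hom B ⊗ T'' ⟶ Red.bc T.hom X) : fwd T T'' (bwd T T'' ψ) = ψ := by
  refine hom_ext_lift₂ fun T' b t => ?_
  obtain ⟨b, rfl⟩ := ((Over.mapPullbackAdj T.hom).homEquiv T' B).surjective b
  rw [fwd_pt, bwd_pt, Equiv.apply_symm_apply]

theorem fwd_mem (φ : (MonAct.eqvHom ρ a).obj (op ((Over.map T.hom).obj T''))) :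
    MonAct.IsEquivariant ((ρ.bc T.hom).prod (MonAct.trivial _ T'')) (a.bc T.hom) (fwd T T'' φ.1) := by
  rw [MonAct.mem_eqvHom_iff]
  intro T' g b t
  obtain ⟨g, rfl⟩ := ((Over.mapPullbackAdj T.hom).homEquiv T' A).surjective g
  obtain ⟨b, rfl⟩ := ((Over.mapPullbackAdj T.hom).homEquiv T' B).surjective b
  rw [MonAct.lift_homEquiv_bc_act, fwd_pt, fwd_pt, MonAct.lift_homEquiv_bc_act,
    (MonAct.mem_eqvHom_iff φ.1).1 φ.2]

theorem bwd_mem (ψ : (MonAct.eqvHom (ρ.bc T.hom) (a.bc T.hom)).obj (op T'')) :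
    MonAct.IsEquivariant (ρ.prod (MonAct.trivial A ((Over.map T.hom).obj T''))) a (bwd T T'' ψ.1) := by
  rw [MonAct.mem_eqvHom_iff]
  intro P g b t
  let e := overMapMkIso (t ≫ strMap T T'')
  let t' : Over.mk (t ≫ strMap T T'').left ⟶ T'' := Over.homMk t.left rfl
  have ht : e.hom ≫ t = (Over.map T.hom).map t' := by
    apply Over.OverMorphism.ext
    simp [e, t']
  rw [← cancel_epi e.hom, comp_lift_assoc, comp_lift_assoc, comp_lift_assoc, comp_lift_assoc, ht, bwd_pt, bwd_pt]
  apply ((Over.mapPullbackAdj T.hom).homEquiv _ X).injective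
  rw [Equiv.apply_symm_apply, ← MonAct.lift_homEquiv_bc_act, ← MonAct.lift_homEquiv_bc_act, Equiv.apply_symm_apply]
  exact (MonAct.mem_eqvHom_iff ψ.1).1 ψ.2 _ _ _ _

noncomputable def Φ : (MonAct.eqvHom ρ a).obj (op ((Over.map T.hom).obj T'')) ≃ (MonAct.eqvHom (ρ.bc T.hom) (a.bc T.hom)).obj (op T'') where
  toFun φ := ⟨fwd T T'' φ.1, fwd_mem T ρ a T'' φ⟩
  invFun ψ := ⟨bwd T T'' ψ.1, bwd_mem T ρ a T'' ψ⟩
  left_inv φ := Subtype.ext (bwd_fwd T T'' φ.1)
  right_inv ψ := Subtype.ext (fwd_bwd T T'' ψ.1)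

theorem symm_left {Y : Over T.left} {W : Over S} (f : Y ⟶ Red.bc T.hom W) :
    (((Over.mapPullbackAdj T.hom).homEquiv Y W).symm f).left = f.left ≫ Limits.pullback.fst W.hom T.hom := by
  simp [Adjunction.homEquiv_counit]

theorem fwd_left_fst (φ : B ⊗ ((Over.map T.hom).obj T'') ⟶ X) :
    (fwd T T'' φ).left ≫ Limits.pullback.fst X.hom T.hom = (ActBC.bcCompIso T''.hom T.hom B rfl).hom.left ≫ φ.left := by
  rw [← symm_left, fwd, Equiv.symm_apply_apply, Over.comp_left]
  congr 1

theorem key (φ : B ⊗ ((Over.map T.hom).obj T'') ⟶ X) :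
    toBc T'' (fwd T T'' φ) ≫ (ActBC.bcCompIso T''.hom T.hom X rfl).hom =
      (ActBC.bcCompIso T''.hom T.hom B rfl).hom ≫ toBc ((Over.map T.hom).obj T'') φ := by
  apply Over.OverMorphism.ext
  apply Limits.pullback.hom_ext
  · rw [Over.comp_left, Over.comp_left, Category.assoc, Category.assoc]
    refine (congrArg ((toBc T'' (fwd T T'' φ)).left ≫ ·) (ActBC.bcCompIso_hom_left_fst T''.hom T.hom X rfl)).trans ?_
    refine (Category.assoc _ _ _).symm.trans ?_
    refine (congrArg (· ≫ Limits.pullback.fst X.hom T.hom) (toBc_left_fst T'' (fwd T T'' φ))).trans ?_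
    refine (fwd_left_fst T T'' φ).trans ?_
    exact congrArg ((ActBC.bcCompIso T''.hom T.hom B rfl).hom.left ≫ ·)
      (toBc_left_fst ((Over.map T.hom).obj T'') φ).symm
  · exact (Over.w _).trans (Over.w _).symm

end Groth.Agent.S18300.Aux

namespace Groth.Agent.S18300

/-- Let X be an S-scheme with an action of the diagonalizable monoid scheme A(M)_S of a commutative
monoid M, N a submonoid of M, and T an S-scheme; X_T = X ×_S T carries the base-changed action of
A(M)_T. Then X^N ×_S T = (X_T)^N objectwise: for every scheme T'' over T, the value of the attractor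
X^N at T'' (regarded over S) is in bijection with the value at T'' of the attractor of X_T, namely
the maps A(N)_T ×_T T'' → X_T equivariant for the base-changed actions; the bijection is pinned by
requiring that, under the identifications of both sides with equivariant morphisms between base
changes to T'', it is conjugation by the canonical isomorphisms (Y ×_S T) ×_T T'' ≅ Y ×_S T'' for Y
= A(N)_S and Y = X. (Naturality in T'' is not part of this statement; X may be an algebraic space in
the source, here it is a scheme.) -/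
theorem result (S : Scheme.{u}) (M : Type) [AddCommMonoid M] (N : AddSubmonoid M)
    (X : Over S) (a : Magnet.MonAct (Magnet.AMonS S M) X) (T : Over S) (T'' : Over T.left) :
    ∃ Φ : (Magnet.attr a N).obj (op ((Over.map T.hom).obj T'')) ≃
        (Magnet.MonAct.eqvHom ((Magnet.subAct S M N).bc T.hom) (a.bc T.hom)).obj (op T''),
      ∀ φ, (Magnet.eqvHomEquivBc T'' ((Magnet.subAct S M N).bc T.hom) (a.bc T.hom) (Φ φ)).1 ≫
          (ActBC.bcCompIso T''.hom T.hom X rfl).hom =
        (ActBC.bcCompIso T''.hom T.hom (Magnet.AMonS S N) rfl).hom ≫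
          (Magnet.eqvHomEquivBc ((Over.map T.hom).obj T'') (Magnet.subAct S M N) a φ).1 := by
  exact ⟨Aux.Φ T (Magnet.subAct S M N) a T'', fun φ => Aux.key T T'' φ.1⟩

end Groth.Agent.S18300
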