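import Groth.Statements.S18302
import Groth.Agent.H15Magnet.EtaleFace

set_option autoImplicit false
universe u
open CategoryTheory MonoidalCategory CartesianMonoidalCategory MonObj AlgebraicGeometry Opposite
open Magnet

open CategoryTheory MonoidalCategory CartesianMonoidalCategory MonObj AlgebraicGeometry Opposite Magnet

set_option linter.style.haveILetI false


namespace Groth.Agent.S18302

/-- Let M be a finitely generated commutative group, X an S-scheme with an action of the diagonalizable
group scheme D(M)_S, U an S-scheme affine over S with a D(M)_S-action and f : U → X an étale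
equivariant morphism; let N be a submonoid (magnet) of M and Q a face of N. Assume that N is
finitely generated as a monoid, or that X is locally of finite presentation and separated over S.
Then the natural map U^N → X^N ×_{X^Q} U^Q is an isomorphism: the square of functors formed by f^N :
U^N → X^N, the face projections U^N → U^Q and X^N → X^Q, and f^Q : U^Q → X^Q is cartesian. (The
published alternative to finite generation is only 'X separated'; its argument passes through the
directed-union description of X^N on T-points, which is established for X locally of finite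
presentation and separated, and T affine, so finite presentation is assumed here in that case; X may
be an algebraic space in the source, here it is a scheme.) -/
theorem result (S : Scheme.{u}) (M : Type) [AddCommGroup M]
    [AddGroup.FG M] (X U : Over S) (aX : AlgGrp.Action (Red.DS S M) X) (aU : AlgGrp.Action (Red.DS S M) U)
    [IsAffineHom U.hom] (f : U ⟶ X) [Etale f.left]
    (hf : Magnet.MonAct.IsEquivariant (Magnet.MonAct.ofAction aU) (Magnet.MonAct.ofAction aX) f)
    (N Q : AddSubmonoid M) (hQ : Magnet.IsFace N Q)
    (h : N.FG ∨ (IsSeparated X.hom ∧ LocallyOfFinitePresentation X.hom)) :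
    IsPullback (Magnet.MonAct.eqvHom.postcomp (Magnet.subAct S M N) f hf)
      (Magnet.attrFace (Magnet.MonAct.ofAction aU) hQ) (Magnet.attrFace (Magnet.MonAct.ofAction aX) hQ)
      (Magnet.MonAct.eqvHom.postcomp (Magnet.subAct S M Q) f hf) := by
  refine IsPullback.of_forall_isPullback_app fun T => ?_
  induction T with
  | op T =>
  rw [Limits.Types.isPullback_iff]
  refine ⟨?_, fun x x' e => ?_, fun φ p e => ?_⟩
  · refine ConcreteCategory.hom_ext _ _ fun x => Subtype.ext ?_
    change (AMonS.faceMap S hQ ▷ T) ≫ (x.1 ≫ f) = ((AMonS.faceMap S hQ ▷ T) ≫ x.1) ≫ f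
    exact (Category.assoc _ _ _).symm
  · obtain ⟨z, -, hu⟩ := Groth.Agent.H15Magnet.EtaleFace.good (Magnet.MonAct.ofAction aX) (Magnet.MonAct.ofAction aU)
      f hf hQ h T ((Magnet.MonAct.eqvHom.postcomp (Magnet.subAct S M N) f hf).app (op T) x)
      ((Magnet.attrFace (Magnet.MonAct.ofAction aU) hQ).app (op T) x) (Category.assoc _ _ _).symm
    exact (hu x ⟨rfl, rfl⟩).trans (hu x' ⟨congrArg Subtype.val e.1.symm, congrArg Subtype.val e.2.symm⟩).symm
  · obtain ⟨z, hz, -⟩ := Groth.Agent.H15Magnet.EtaleFace.good (Magnet.MonAct.ofAction aX) (Magnet.MonAct.ofAction aU)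
      f hf hQ h T φ p (congrArg Subtype.val e)
    exact ⟨z, Subtype.ext hz.1, Subtype.ext hz.2⟩

end Groth.Agent.S18302
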