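import Groth.Statements.S18303
import Groth.Agent.H15Magnet.FacePush

set_option autoImplicit false
universe u
open CategoryTheory MonoidalCategory CartesianMonoidalCategory MonObj AlgebraicGeometry Opposite
open Magnet

open CategoryTheory MonoidalCategory CartesianMonoidalCategory MonObj AlgebraicGeometry Opposite Magnet

set_option linter.style.haveILetI false

namespace Groth.Agent.S18303.Aux

open Groth.Agent.H15Magnet

variable {S : Scheme.{u}} {M : Type} [AddCommMonoid M] {X : Over S} (a : MonAct (AMonS S M) X)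
  {N N' L L' : AddSubmonoid M}

theorem piece (B : AddSubmonoid M) (k : AMonS S B ⟶ AMonS S N')
    (hk : MonAct.IsEquivariant (subAct S M B) (subAct S M N') k) {T : Over S}
    (χ : AMonS S N' ⊗ T ⟶ X) (φ : (attr a B).obj (op T)) (he : (k ▷ T) ≫ χ = φ.1) :
    (k ▷ (AMonS S M ⊗ T)) ≫
        (lift (lift (snd _ _ ≫ fst _ _) (fst _ _) ≫ (subAct S M N').act) (snd _ _ ≫ snd _ _) ≫ χ) =
      (k ▷ (AMonS S M ⊗ T)) ≫
        (lift (snd _ _ ≫ fst _ _) (lift (fst _ _) (snd _ _ ≫ snd _ _) ≫ χ) ≫ a.act) := by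
  refine hom_ext_lift₂ fun P b w => ?_
  simp only [lift_whiskerRight_assoc, comp_lift_assoc, lift_fst, lift_snd_assoc, lift_fst_assoc, comp_lift]
  have h1 : lift (w ≫ fst _ _) (b ≫ k) ≫ (subAct S M N').act =
      (lift (w ≫ fst _ _) b ≫ (subAct S M B).act) ≫ k := by
    rw [Category.assoc]
    exact ((MonAct.isEquivariant_iff _ _ _).1 hk P _ b).symm
  have h2 : ∀ (q : P ⟶ AMonS S B) (t : P ⟶ T), lift (q ≫ k) t ≫ χ = lift q t ≫ φ.1 := fun q t => by
    rw [← he, lift_whiskerRight_assoc]
  rw [h1, h2, h2]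
  exact (MonAct.mem_eqvHom_iff φ.1).1 φ.2 P _ b _

theorem main (hNL : N ≤ L) (hN'L' : N' ≤ L') (hL : IsFace L' L) (hN : IsFace N' N)
    (hdiff : (N' : Set M) = (L' : Set M) \ ((L : Set M) \ (N : Set M))) :
    IsPullback (attrMap a hN'L') (attrFace a hN) (attrFace a hL) (attrMap a hNL) := by
  refine IsPullback.of_forall_isPullback_app fun T => ?_
  induction T with
  | op T =>
  have P := isPushout_facePush hNL hN'L' hL hN hdiff T
  rw [Limits.Types.isPullback_iff]
  refine ⟨?_, fun χ χ' h => Subtype.ext (P.hom_ext (congrArg Subtype.val h.1) (congrArg Subtype.val h.2)), fun φ ψ h => ?_⟩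
  · refine ConcreteCategory.hom_ext _ _ fun χ => Subtype.ext ?_
    change (_ ≫ (_ ≫ χ.1)) = (_ ≫ (_ ≫ χ.1))
    exact P.w_assoc χ.1
  · have hc : (AMonS.faceMap S hL ▷ T) ≫ φ.1 = (AMonS.map S (AddSubmonoid.inclusion hNL) ▷ T) ≫ ψ.1 :=
      congrArg Subtype.val h
    have e1 := P.inl_desc φ.1 ψ.1 hc
    have e2 := P.inr_desc φ.1 ψ.1 hc
    refine ⟨⟨P.desc φ.1 ψ.1 hc, ?_⟩, Subtype.ext e1, Subtype.ext e2⟩
    have key : lift (lift (snd _ _ ≫ fst _ _) (fst _ _) ≫ (subAct S M N').act) (snd _ _ ≫ snd _ _) ≫ P.desc φ.1 ψ.1 hc =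
        lift (snd (AMonS S N') (AMonS S M ⊗ T) ≫ fst _ _) (lift (fst _ _) (snd _ _ ≫ snd _ _) ≫ P.desc φ.1 ψ.1 hc) ≫ a.act :=
      (isPushout_facePush hNL hN'L' hL hN hdiff (AMonS S M ⊗ T)).hom_ext
        (piece a L' _ (MonAct.isEquivariant_restrict_regular _ _ _ (by rw [← AMonS.map_comp]; rfl)) _ φ e1)
        (piece a N _ (isEquivariant_faceMapS S hN) _ ψ e2)
    rw [MonAct.mem_eqvHom_iff]
    intro T' g b t
    have e := congrArg (fun z => lift b (lift g t) ≫ z) key
    simpa only [comp_lift_assoc, comp_lift, lift_fst, lift_snd, lift_snd_assoc, lift_fst_assoc] using e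

end Groth.Agent.S18303.Aux

namespace Groth.Agent.S18303

/-- Let M be a commutative group, X an S-scheme with an action of the diagonalizable group scheme
D(M)_S, and N, N', L, L' submonoids (magnets) of M with N ≤ L ≤ L', N' ≤ L', L a face of L', N a
face of N', N = L ∩ N', L' = L + N' and N' = L' minus (L minus N). Then the square formed by the
inclusion maps of attractors X^{N'} → X^{L'}, X^N → X^L and the face projections X^{N'} → X^N,
X^{L'} → X^L is cartesian as a square of functors on S-schemes. (The published statement assumes the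
four attractors representable by schemes and concludes that the square of schemes is cartesian; its
argument is on T-valued points and gives the square of functors, which is what is stated.) -/
theorem result (S : Scheme.{u}) (M : Type) [AddCommGroup M] (X : Over S)
    (a : AlgGrp.Action (Red.DS S M) X) (N N' L L' : AddSubmonoid M) (hNL : N ≤ L) (hN'L' : N' ≤ L')
    (hL : Magnet.IsFace L' L) (hN : Magnet.IsFace N' N) (hmeet : N = L ⊓ N') (hjoin : L' = L ⊔ N')
    (hdiff : (N' : Set M) = (L' : Set M) \ ((L : Set M) \ (N : Set M))) :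
    IsPullback (Magnet.attrMap (Magnet.MonAct.ofAction a) hN'L') (Magnet.attrFace (Magnet.MonAct.ofAction a) hN)
      (Magnet.attrFace (Magnet.MonAct.ofAction a) hL) (Magnet.attrMap (Magnet.MonAct.ofAction a) hNL) := by
  exact Aux.main (MonAct.ofAction a) hNL hN'L' hL hN hdiff

end Groth.Agent.S18303
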