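import Groth.Statements.S18304
import Groth.Agent.S18289
import Groth.Agent.S18294
import Groth.Agent.S18299
import Groth.Agent.H15Magnet.EtaleFace
import Groth.Agent.H15Magnet.AffineRep

set_option autoImplicit false
universe u
open CategoryTheory MonoidalCategory CartesianMonoidalCategory MonObj AlgebraicGeometry Opposite
open Magnet

open CategoryTheory MonoidalCategory CartesianMonoidalCategory MonObj AlgebraicGeometry Opposite Magnet

set_option linter.style.haveILetI false

namespace Groth.Agent.S18304.Aux

open Groth.Agent.H15Magnet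

theorem main (S : Scheme.{u}) (M : Type) [AddCommGroup M]
    [AddGroup.FG M] (X U : Over S) (aX : AlgGrp.Action (Red.DS S M) X) (aU : AlgGrp.Action (Red.DS S M) U)
    [IsAffineHom U.hom] (f : U ⟶ X) [Etale f.left] [Surjective f.left]
    (hf : MonAct.IsEquivariant (MonAct.ofAction aU) (MonAct.ofAction aX) f)
    (N Q : AddSubmonoid M) (hQ : IsFace N Q) (Z : AddSubgroup M) (hZ : Z.toAddSubmonoid = Q)
    (hfZ : MonAct.IsEquivariant
      ((MonAct.ofAction aU).restrict (AMonS.map S (QuotientAddGroup.mk' Z)))
      ((MonAct.ofAction aX).restrict (AMonS.map S (QuotientAddGroup.mk' Z))) f)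
    (hfpr : IsPullback (MonAct.fixedPsh.map f hfZ)
      (MonAct.fixedPshι ((MonAct.ofAction aU).restrict (AMonS.map S (QuotientAddGroup.mk' Z))))
      (MonAct.fixedPshι ((MonAct.ofAction aX).restrict (AMonS.map S (QuotientAddGroup.mk' Z))))
      (yoneda.map f))
    (h : N.FG ∨ (IsSeparated X.hom ∧ LocallyOfFinitePresentation X.hom)) :
    ∃ (ZN Zs : Over S) (eN : (attr (MonAct.ofAction aX) N).RepresentableBy ZN)
      (es : (attr (MonAct.ofAction aX) Q).RepresentableBy Zs) (j : ZN ⟶ Zs),
      IsAffineHom j.left ∧ ∀ (T : Over S) (z : T ⟶ ZN),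
        es.homEquiv (z ≫ j) = (attrFace (MonAct.ofAction aX) hQ).app (op T) (eN.homEquiv z) := by
  subst hZ
  obtain ⟨θU, hθU⟩ := Groth.Agent.S18289.result S M Z U aU
  obtain ⟨θX, hθX⟩ := Groth.Agent.S18289.result S M Z X aX
  obtain ⟨W', i', eQ, hi', heQ⟩ := exists_closed (MonAct.ofAction aU) Z.toAddSubmonoid
  let eF := eQ.ofIso θU
  have heF : ∀ (T : Over S) (w : T ⟶ W'),
      (MonAct.fixedPshι ((MonAct.ofAction aU).restrict (AMonS.map S (QuotientAddGroup.mk' Z)))).app (op T)
        (eF.homEquiv w) = w ≫ i' := fun T w =>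
    (ConcreteCategory.congr_hom (NatTrans.congr_app hθU (op T)) (eQ.homEquiv w)).trans (heQ T w)
  obtain ⟨W, i, eW, hi, heW⟩ := Groth.Agent.S18299.Aux.main _ _ f hfZ hfpr ⟨W', i', eF, hi', heF⟩
  let es := eW.ofIso θX.symm
  let postQ := MonAct.eqvHom.postcomp (subAct S M Z.toAddSubmonoid) f hf
  let postN := MonAct.eqvHom.postcomp (subAct S M N) f hf
  let p : W' ⟶ W := es.homEquiv.symm (postQ.app (op W') (eQ.homEquiv (𝟙 W')))
  have hp : ∀ {T : Over S} (w : T ⟶ W'), es.homEquiv (w ≫ p) = postQ.app (op T) (eQ.homEquiv w) := by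
    intro T w
    rw [es.homEquiv_comp, Equiv.apply_symm_apply, eQ.homEquiv_eq w]
    exact (ConcreteCategory.congr_hom (postQ.naturality w.op) _).symm
  have htoX : ∀ {T : Over S} (w : T ⟶ W), (attrToX (MonAct.ofAction aX) Z.toAddSubmonoid).app (op T)
      (es.homEquiv w) = w ≫ i := fun {T} w => by
    refine (ConcreteCategory.congr_hom (NatTrans.congr_app hθX (op T)) _).symm.trans ?_
    refine Eq.trans ?_ (heW T w)
    exact congrArg ((MonAct.fixedPshι _).app (op T))
      (ConcreteCategory.congr_hom (θX.inv_hom_id_app (op T)) (eW.homEquiv w))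
  have hpi : p ≫ i = i' ≫ f := by
    rw [← htoX p, show es.homEquiv p = postQ.app (op W') (eQ.homEquiv (𝟙 W')) from Equiv.apply_symm_apply _ _,
      ← Category.id_comp i', ← heQ W' (𝟙 W')]
    simp [postQ, attrToX, Category.assoc]
  have hFp : ∀ {T : Over S} (w : T ⟶ W'), eW.homEquiv (w ≫ p) =
      (MonAct.fixedPsh.map f hfZ).app (op T) (eF.homEquiv w) := fun {T} w => by
    apply Subtype.ext
    refine (heW T (w ≫ p)).trans ?_
    rw [Category.assoc, hpi, ← Category.assoc, ← heF T w]
    rfl
  have hsq : IsPullback (yoneda.map p) (yoneda.map i') (yoneda.map i) (yoneda.map f) := by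
    refine hfpr.of_iso eF.toIso.symm eW.toIso.symm (Iso.refl _) (Iso.refl _) ?_ ?_ ?_ (by simp)
    · rw [← Iso.cancel_iso_hom_left eF.toIso]
      ext T w
      apply eW.homEquiv.injective
      simp [Functor.RepresentableBy.toIso, Functor.representableByEquiv, hFp]
    · rw [← Iso.cancel_iso_hom_left eF.toIso]
      ext T w
      simpa [Functor.RepresentableBy.toIso, Functor.representableByEquiv] using heF T.unop w
    · rw [← Iso.cancel_iso_hom_left eW.toIso]
      ext T w
      simpa [Functor.RepresentableBy.toIso, Functor.representableByEquiv] using heW T.unop w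
  have hleft : IsPullback p.left i'.left i.left f.left :=
    (IsPullback.of_map yoneda (by rw [hpi]) hsq).map (Over.forget S)
  haveI : Etale p.left := MorphismProperty.of_isPullback hleft.flip ‹Etale f.left›
  haveI : Surjective p.left := MorphismProperty.of_isPullback hleft.flip ‹Surjective f.left›
  obtain ⟨ZU, iN, eU, hiN, -⟩ := exists_closed (MonAct.ofAction aU) N
  let π : ZU ⟶ W' := eQ.homEquiv.symm ((attrFace (MonAct.ofAction aU) hQ).app (op ZU) (eU.homEquiv (𝟙 ZU)))
  have hπ : ∀ {T : Over S} (z : T ⟶ ZU),
      eQ.homEquiv (z ≫ π) = (attrFace (MonAct.ofAction aU) hQ).app (op T) (eU.homEquiv z) := by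
    intro T z
    rw [eQ.homEquiv_comp, Equiv.apply_symm_apply, eU.homEquiv_eq z]
    exact (ConcreteCategory.congr_hom ((attrFace (MonAct.ofAction aU) hQ).naturality z.op) _).symm
  haveI : IsAffineHom π.left := by
    have : IsAffineHom (π.left ≫ W'.hom) := by
      rw [Over.w π, ← Over.w iN]
      infer_instance
    have : IsSeparated W'.hom := by
      rw [← Over.w i']
      infer_instance
    exact IsAffineHom.of_comp π.left W'.hom
  let q : attr (MonAct.ofAction aX) N ⟶ yoneda.obj W := attrFace (MonAct.ofAction aX) hQ ≫ es.toIso.inv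
  have hq : ∀ {T : Over S} (g : (attr (MonAct.ofAction aX) N).obj (op T)),
      es.homEquiv (q.app (op T) g) = (attrFace (MonAct.ofAction aX) hQ).app (op T) g := fun {T} g =>
    ConcreteCategory.congr_hom (es.toIso.inv_hom_id_app (op T)) ((attrFace (MonAct.ofAction aX) hQ).app (op T) g)
  let ξ := postN.app (op ZU) (eU.homEquiv (𝟙 ZU))
  have hξ : ∀ {T : Over S} (z : T ⟶ ZU),
      (attr (MonAct.ofAction aX) N).map z.op ξ = postN.app (op T) (eU.homEquiv z) := fun {T} z => by
    rw [eU.homEquiv_eq z]
    exact (ConcreteCategory.congr_hom (postN.naturality z.op) _).symm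
  have hrep : AffineRep.IsRep q p π ξ := by
    refine ⟨es.homEquiv.injective ?_, fun T g x hgx => ?_⟩
    · rw [hq, hp, show eQ.homEquiv π = (attrFace (MonAct.ofAction aU) hQ).app (op ZU) (eU.homEquiv (𝟙 ZU))
        from Equiv.apply_symm_apply _ _]
      exact Subtype.ext (Category.assoc _ _ _).symm
    · have hg : (attrFace (MonAct.ofAction aX) hQ).app (op T) g = postQ.app (op T) (eQ.homEquiv x) := by
        rw [← hq, ← hp, hgx]
      obtain ⟨y, ⟨hy1, hy2⟩, huy⟩ := EtaleFace.good (MonAct.ofAction aX) (MonAct.ofAction aU) f hf hQ h T g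
        (eQ.homEquiv x) (congrArg Subtype.val hg)
      refine ⟨eU.homEquiv.symm y, ⟨eQ.homEquiv.injective ?_, ?_⟩, fun z hz => ?_⟩
      · rw [hπ, Equiv.apply_symm_apply]
        exact Subtype.ext hy2
      · rw [hξ, Equiv.apply_symm_apply]
        exact Subtype.ext hy1
      · rw [Equiv.eq_symm_apply]
        refine huy _ ⟨?_, ?_⟩
        · exact congrArg Subtype.val ((hξ z).symm.trans hz.2)
        · exact congrArg Subtype.val ((hπ z).symm.trans (congrArg eQ.homEquiv hz.1))
  have hG : Presheaf.IsSheaf (Scheme.fppfTopology.over S) (attr (MonAct.ofAction aX) N) :=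
    Groth.Agent.S18294.result S _ _ X _ _
  obtain ⟨ZN, j, eN, hj, hjq⟩ := AffineRep.exists_rep hG hrep
  exact ⟨ZN, W, eN, es, j, hj, fun T z => by rw [← hjq T z, hq]⟩

end Groth.Agent.S18304.Aux


namespace Groth.Agent.S18304

/-- Let M be a finitely generated commutative group, X an S-scheme with an action of the diagonalizable
group scheme D(M)_S, N a submonoid (magnet) of M and Z the subgroup of M underlying the face N* of
invertible elements of N. Suppose given an S-affine N*-FPR atlas: an S-scheme U affine over S with a
D(M)_S-action and an equivariant morphism f : U → X over S which is étale and surjective and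
fixed-point reflecting for the induced actions of D(M/Z)_S (the square of D(M/Z)_S-fixed-point
functors over U → X is cartesian). Assume that N is finitely generated as a monoid, or that X is
locally of finite presentation and separated over S. Then the attractors X^N and X^{N*} are
representable by S-schemes Z_N and Z_*, and the face projection X^N → X^{N*} corresponds to an
affine morphism Z_N → Z_*. (The published statement allows any commutative group M, X an algebraic
space and an atlas that is a disjoint union of S-affine schemes each stable under D(M)_S, assumes in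
its first alternative only that X is separated, and lists further permanence properties of X^N —
quasi-separated, separated, locally of finite presentation, quasi-compact, of finite presentation —
which are not restated here. Its argument uses the base change of étale equivariant maps along faces
and the identification of attractors of subgroups with fixed points, both established for M finitely
generated, so M is taken finitely generated here; and finite presentation is assumed with
separatedness because the directed-union step used in that case needs it.) -/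
theorem result (S : Scheme.{u}) (M : Type) [AddCommGroup M]
    [AddGroup.FG M] (X U : Over S) (aX : AlgGrp.Action (Red.DS S M) X) (aU : AlgGrp.Action (Red.DS S M) U)
    [IsAffineHom U.hom] (f : U ⟶ X) [Etale f.left] [Surjective f.left]
    (hf : Magnet.MonAct.IsEquivariant (Magnet.MonAct.ofAction aU) (Magnet.MonAct.ofAction aX) f)
    (N : AddSubmonoid M) (Z : AddSubgroup M) (hZ : Z.toAddSubmonoid = Magnet.unitFace N)
    (hfZ : Magnet.MonAct.IsEquivariant
      ((Magnet.MonAct.ofAction aU).restrict (Magnet.AMonS.map S (QuotientAddGroup.mk' Z)))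
      ((Magnet.MonAct.ofAction aX).restrict (Magnet.AMonS.map S (QuotientAddGroup.mk' Z))) f)
    (hfpr : IsPullback (Magnet.MonAct.fixedPsh.map f hfZ)
      (Magnet.MonAct.fixedPshι ((Magnet.MonAct.ofAction aU).restrict (Magnet.AMonS.map S (QuotientAddGroup.mk' Z))))
      (Magnet.MonAct.fixedPshι ((Magnet.MonAct.ofAction aX).restrict (Magnet.AMonS.map S (QuotientAddGroup.mk' Z))))
      (yoneda.map f))
    (h : N.FG ∨ (IsSeparated X.hom ∧ LocallyOfFinitePresentation X.hom)) :
    ∃ (ZN Zs : Over S) (eN : (Magnet.attr (Magnet.MonAct.ofAction aX) N).RepresentableBy ZN)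
      (es : (Magnet.attr (Magnet.MonAct.ofAction aX) (Magnet.unitFace N)).RepresentableBy Zs) (j : ZN ⟶ Zs),
      IsAffineHom j.left ∧ ∀ (T : Over S) (z : T ⟶ ZN),
        es.homEquiv (z ≫ j) = (Magnet.attrFace (Magnet.MonAct.ofAction aX) (Magnet.isFace_unitFace N)).app (op T)
          (eN.homEquiv z) := by
  exact Aux.main S M X U aX aU f hf N (Magnet.unitFace N) (Magnet.isFace_unitFace N) Z hZ hfZ hfpr h

end Groth.Agent.S18304
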