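import Groth.Statements.S18309
import Groth.Agent.H13AlgSp.HenselLift

set_option autoImplicit false
universe u
open CategoryTheory CategoryTheory.Limits AlgebraicGeometry
open AlgSp

namespace Groth.Agent.S18309

/-- Let S be a scheme, f : Z → X a morphism of algebraic spaces over S which is smooth (étale locally on
source and target), R a Henselian local ring with residue field k = R/m and structure morphism Spec
R → S, z : h_{Spec R} → X an R-point of X, and z₀' : h_{Spec k} → Z a k-point of Z whose composite
with f is the restriction of z to Spec k. Then there is an R-point z' : h_{Spec R} → Z with z'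
followed by f equal to z and whose restriction to Spec k is z₀'. The source states this for X an
algebraic stack (lifting up to isomorphism); the algebraic-space case is stated here. -/
theorem result {S : Scheme.{u}} {Z X : AlgSp.Space S}
    (f : Z ⟶ X) (hf : AlgSp.LocP @Smooth f.hom)
    (R : Type u) [CommRing R] [HenselianLocalRing R] (str : Spec (CommRingCat.of R) ⟶ S)
    (z : (AlgSp.yon S).obj (Over.mk str) ⟶ X.obj)
    (z₀ : (AlgSp.yon S).obj (Over.mk (Spec.map (CommRingCat.ofHom (IsLocalRing.residue R)) ≫ str)) ⟶ Z.obj)
    (w : z₀ ≫ f.hom = (AlgSp.yon S).map (Over.homMk (Spec.map (CommRingCat.ofHom (IsLocalRing.residue R))) rfl :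
        Over.mk (Spec.map (CommRingCat.ofHom (IsLocalRing.residue R)) ≫ str) ⟶ Over.mk str) ≫ z) :
    ∃ z' : (AlgSp.yon S).obj (Over.mk str) ⟶ Z.obj, z' ≫ f.hom = z ∧
      (AlgSp.yon S).map (Over.homMk (Spec.map (CommRingCat.ofHom (IsLocalRing.residue R))) rfl :
        Over.mk (Spec.map (CommRingCat.ofHom (IsLocalRing.residue R)) ≫ str) ⟶ Over.mk str) ≫ z' = z₀ := by
  exact H13AlgSp.exists_lift_smooth Z.property X.property f.hom hf R str _ rfl z z₀ w

end Groth.Agent.S18309
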