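import Groth.Statements.S18310
import Groth.Agent.H14AlgSt.FieldChart
import Groth.Agent.S18325

set_option autoImplicit false
set_option backward.isDefEq.respectTransparency false
set_option backward.isDefEq.respectTransparency.types false
universe u
open AlgSt

namespace Groth.Agent.S18310

open CategoryTheory AlgebraicGeometry in
/-- Let S be a scheme, 𝒵 an algebraic stack over (Sch/S) for the fppf topology whose diagonal 𝒵 → 𝒵
×_{(Sch/S)} 𝒵 is separated (representable by algebraic spaces with closed-immersion relative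
diagonal; no quasi-compactness is assumed), R a Henselian local ring with a structure morphism Spec
R → S, and z : (Sch/Spec R) → 𝒵 a functor over (Sch/S) (an R-point of 𝒵). Then there are an affine
scheme Z over S, a functor p : (Sch/Z) → 𝒵 over (Sch/S) which is representable by algebraic spaces
and smooth, and an S-morphism g : Spec R → Z such that g followed by p is isomorphic to z over
(Sch/S). The source assumes only that the fibre of the diagonal over the image in S of the closed
point of Spec R is separated; the diagonal itself is taken separated here. -/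
theorem result {S : Scheme.{u}} (𝒵 : AlgSt.Cat S)
    (h𝒵 : AlgSt.IsAlgStack Scheme.fppfPrecoverage 𝒵)
    (hΔ : AlgSt.RepByAlgSpWith AlgSp.IsSeparatedMor (FibCat.diag (FibCat.toSelf 𝒵)))
    (R : Type u) [CommRing R] [HenselianLocalRing R] (str : Spec (CommRingCat.of R) ⟶ S)
    (z : FibCat.overCat (Over.mk str) ⥤ᵇ 𝒵) :
    ∃ (Z : Over S) (_ : IsAffine Z.left) (p : FibCat.overCat Z ⥤ᵇ 𝒵) (g : Over.mk str ⟶ Z),
      AlgSt.RepByAlgSpWith (AlgSp.LocP @Smooth) p ∧
        Nonempty (BasedFunctor.comp (AlgSt.overMap g) p ≅ z) := by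
  classical
  let K : Over S := Over.mk ((Spec.map (CommRingCat.ofHom (IsLocalRing.residue R))) ≫ str)
  let i : K ⟶ Over.mk str := Over.homMk (Spec.map (CommRingCat.ofHom (IsLocalRing.residue R))) rfl
  obtain ⟨Z, hZ, p, a, hp, ⟨w⟩⟩ := H14AlgSt.exists_fieldChart H14AlgSt.etale_le_fppfPrecoverage h𝒵
    ((Spec.map (CommRingCat.ofHom (IsLocalRing.residue R))) ≫ str) (BasedFunctor.comp (AlgSt.overMap i) z)
  let Zs : AlgSp.Space S := (AlgSp.ofScheme S).obj Z
  let f : AlgSt.ofSp Zs.obj ⥤ᵇ 𝒵 := BasedFunctor.comp (AlgSt.toOverCat Z) p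
  have hf : AlgSt.RepByAlgSpWith (AlgSp.LocP @Smooth) f :=
    (H14AlgSt.repWith_square (f := p) (f' := f) (b := BasedFunctor.id 𝒵) (H14AlgSt.toOverCat_isEquivOver Z) (H14Fib.isEquivOver_id _) (Iso.refl f)).1 hp
  obtain ⟨z', -, ⟨j⟩⟩ := S18325.result 𝒵 h𝒵 Zs f hf R str z ((AlgSp.yon S).map a)
    ⟨(H14Stk.post _ p).mapIso (H14AlgSt.yonMapIso a) ≪≫ w⟩
  obtain ⟨g, hg⟩ := (AlgSp.yon S).map_surjective z'
  refine ⟨Z, hZ, p, g, hp, ⟨(H14Stk.post _ p).mapIso (H14AlgSt.yonMapIso g).symm ≪≫ ?_⟩⟩
  exact eqToIso (by rw [hg]; rfl) ≪≫ j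

end Groth.Agent.S18310
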