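import Groth.Statements.S18317
import Groth.Agent.H18Torsor.Connected
import Mathlib.RingTheory.Unramified.Field
import Mathlib.AlgebraicGeometry.Morphisms.Etale

set_option autoImplicit false
universe u
open CategoryTheory AlgebraicGeometry
open NonAbH1

namespace Groth.Agent.S18317

/-- Let K be a field and G a finite connected K-group scheme (G → Spec K finite, G connected as a
topological space). Then every G-torsor X over Spec K for the étale topology (a K-scheme with an
action of G whose shear map G ×_K X → X ×_K X is an isomorphism and which acquires a section over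
the members of some étale covering of Spec K) is trivial: X has a K-point. -/
theorem result (K : Type u) [Field K]
    (G X : Over (Spec (CommRingCat.of K))) [GrpObj G] [IsFinite G.hom] [ConnectedSpace G.left]
    (a : AlgGrp.Action G X) (h : NonAbH1.IsTorsorFor Scheme.etalePrecoverage a) :
    NonAbH1.HasSectionOver X (𝟙 (Spec (CommRingCat.of K))) := by
  obtain ⟨hps, R, hR, hsec⟩ := h
  have hfppf : R ∈ Scheme.fppfPrecoverage _ :=
    Scheme.precoverage_mono (fun _ _ f hf => by haveI : Etale f := hf; exact ⟨inferInstance, inferInstance⟩) _ hR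
  obtain ⟨L, _, _, _, x, hx, hL, -, hmap⟩ := H18Torsor.exists_point a
    (⟨hps, R, Scheme.fppfPrecoverage_le_fpqcPrecoverage _ hfppf, hsec⟩ :
      NonAbH1.IsTorsorFor Scheme.fpqcPrecoverage a)
  haveI := hL
  obtain ⟨𝒰, rfl⟩ := Precoverage.mem_iff_exists_zeroHypercover.mp hR
  obtain ⟨i, s', -⟩ := (Scheme.presieve₀_mem_precoverage_iff 𝒰.toPreZeroHypercover).mp 𝒰.mem₀ |>.1 (IsLocalRing.closedPoint K)
  haveI : Etale (𝒰.f i) := ((Scheme.presieve₀_mem_precoverage_iff 𝒰.toPreZeroHypercover).mp 𝒰.mem₀).2 i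
  obtain ⟨V, hV, hsV, -⟩ := exists_isAffineOpen_mem_and_subset (X := 𝒰.X i) (x := s') (U := ⊤) trivial
  obtain ⟨q, hq⟩ := Spec.map_surjective (hV.fromSpec ≫ 𝒰.f i)
  letI := q.hom.toAlgebra
  haveI : Algebra.Etale K Γ(𝒰.X i, V) := by
    have : Etale (Spec.map q) := by rw [hq]; infer_instance
    exact (HasRingHomProperty.Spec_iff (P := @Etale)).mp this
  haveI : Nontrivial Γ(𝒰.X i, V) := (hV.primeIdealOf ⟨s', hsV⟩).nontrivial
  obtain ⟨m, hm⟩ := Ideal.exists_maximal Γ(𝒰.X i, V)
  haveI := hm
  letI : Field (Γ(𝒰.X i, V) ⧸ m) := Ideal.Quotient.field m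
  haveI : Algebra.FormallyUnramified K (Γ(𝒰.X i, V) ⧸ m) :=
    Algebra.FormallyUnramified.of_surjective (Ideal.Quotient.mkₐ K m) Ideal.Quotient.mk_surjective
  haveI : Algebra.IsSeparable K (Γ(𝒰.X i, V) ⧸ m) := Algebra.FormallyUnramified.isSeparable K _
  obtain ⟨σ, hσ⟩ := hsec (𝒰.f i) (Presieve.ofArrows.mk i)
  obtain ⟨φ⟩ := hmap (Γ(𝒰.X i, V) ⧸ m)
    (Spec.map (CommRingCat.ofHom (Ideal.Quotient.mk m)) ≫ hV.fromSpec ≫ σ) (by
      rw [Category.assoc, Category.assoc, hσ, ← hq, ← Spec.map_comp]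
      rfl)
  haveI : Algebra.IsSeparable K L := Algebra.IsSeparable.of_algHom K _ φ
  have hbij : Function.Bijective (algebraMap K L) :=
    IsPurelyInseparable.bijective_algebraMap_of_isSeparable K L
  have := H18Torsor.exists_point_of_algHom hx (AlgEquiv.ofBijective (Algebra.ofId K L) hbij).symm.toAlgHom
  simpa using this

end Groth.Agent.S18317
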