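import Groth.Statements.S18318
import Groth.Agent.H18Torsor.Connected

set_option autoImplicit false
universe u
open CategoryTheory AlgebraicGeometry
open NonAbH1

namespace Groth.Agent.S18318

/-- Let K be a field of exponential characteristic p and G a finite connected K-group scheme. Then there
is an integer n ≥ 0 such that every G-torsor X over Spec K for the fppf topology (simply transitive
action, a section over the members of some fppf covering) becomes trivial over the purely
inseparable extension K^{1/p^n} of K: equivalently, X admits a K-morphism from Spec K regarded as a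
K-scheme through the n-th iterate x ↦ x^(p^n) of the Frobenius endomorphism of K. The source
moreover bounds n by p^n ≤ (#G)!; only the existence of a uniform n is stated here. In particular (p
= 1, characteristic zero) every such torsor is trivial. -/
theorem result (K : Type u) [Field K]
    (p : ℕ) [ExpChar K p] (G : Over (Spec (CommRingCat.of K))) [GrpObj G] [IsFinite G.hom] [ConnectedSpace G.left] :
    ∃ n : ℕ, ∀ (X : Over (Spec (CommRingCat.of K))) (a : AlgGrp.Action G X), NonAbH1.IsTorsorFor Scheme.fppfPrecoverage a →
      NonAbH1.HasSectionOver X (Spec.map (CommRingCat.ofHom (iterateFrobenius K p n))) := by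
  let d := Scheme.Hom.finrank G.hom (IsLocalRing.closedPoint K)
  refine ⟨d, fun X a h => ?_⟩
  have h' : NonAbH1.IsTorsorFor Scheme.fpqcPrecoverage a :=
    ⟨h.1, h.2.choose, Scheme.fppfPrecoverage_le_fpqcPrecoverage _ h.2.choose_spec.1, h.2.choose_spec.2⟩
  obtain ⟨L, _, _, _, x, hx, hL, hdeg, -⟩ := H18Torsor.exists_point a h'
  haveI := hL
  haveI : ExpChar L p := expChar_of_injective_algebraMap (algebraMap K L).injective p
  have hmem : ∀ z : L, ∃ y : K, algebraMap K L y = z ^ p ^ d := by
    intro z
    obtain ⟨k, y, hy⟩ := IsPurelyInseparable.minpoly_eq_X_pow_sub_C K p z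
    have hz : algebraMap K L y = z ^ p ^ k := by
      have h1 := minpoly.aeval K z
      rw [hy, map_sub, map_pow, Polynomial.aeval_X, Polynomial.aeval_C, sub_eq_zero] at h1
      exact h1.symm
    by_cases hp : p = 1
    · exact ⟨y, by rw [hz, hp, one_pow, one_pow]⟩
    · have hdk : p ^ k ≤ d := by
        refine le_trans ?_ hdeg
        have h2 := minpoly.natDegree_le (A := K) z
        rwa [hy, Polynomial.natDegree_X_pow_sub_C] at h2
      have hp1 : 1 < p := lt_of_le_of_ne (expChar_pos K p) (Ne.symm hp)
      have hk : k ≤ d := le_trans (Nat.lt_pow_self hp1).le hdk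
      exact ⟨y ^ p ^ (d - k), by rw [map_pow, hz, ← pow_mul, ← pow_add, Nat.add_sub_cancel' hk]⟩
  choose φ₀ hφ using hmem
  have hinj := (algebraMap K L).injective
  let φ : L →+* K :=
    { toFun := φ₀
      map_one' := hinj (by rw [hφ, map_one, one_pow])
      map_zero' := hinj (by rw [hφ, map_zero, zero_pow (pow_ne_zero _ (expChar_pos K p).ne')])
      map_mul' := fun u v => hinj (by rw [hφ, map_mul, hφ, hφ, mul_pow])
      map_add' := fun u v => hinj (by rw [hφ, map_add, hφ, hφ, add_pow_expChar_pow]) }
  refine ⟨Spec.map (CommRingCat.ofHom φ) ≫ x, ?_⟩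
  rw [Category.assoc, hx, ← Spec.map_comp]
  refine congrArg Spec.map (CommRingCat.hom_ext (RingHom.ext fun c => hinj ?_))
  show algebraMap K L (φ₀ (algebraMap K L c)) = algebraMap K L (iterateFrobenius K p d c)
  rw [hφ, iterateFrobenius_def, map_pow]

end Groth.Agent.S18318
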