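import Groth.Statements.S1832
import Groth.Agent.H22Alg.Herbrand
import Groth.Agent.H22Alg.FiniteLength

set_option autoImplicit false
universe u v
open Pointwise
open CycAlg

namespace Groth.Agent.S1832

/-- Over a Noetherian local ring, let (M, φ, ψ) be a (2,1)-periodic complex with M finite and cohomology
of finite length, and let x be a ring element with M/xM supported in dimension ≤ 0. Then (M, xφ, ψ)
and (M, φ, xψ) again have finite-length cohomology, and their Herbrand quotients differ from that of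
(M, φ, ψ) by the Herbrand quotient of (im φ, 0, x), respectively (im ψ, 0, x). -/
theorem result {R : Type u} [CommRing R] [IsNoetherianRing R] [IsLocalRing R] {M : Type v} [AddCommGroup M] [Module R M] [Module.Finite R M] (φ ψ : M →ₗ[R] M) (hper : CycAlg.IsPeriodic φ ψ) (hfin : CycAlg.FinCoh R φ ψ) (x : R) (hx : Module.supportDim R (M ⧸ x • (⊤ : Submodule R M)) ≤ 0) : (CycAlg.FinCoh R (x • φ) ψ ∧ CycAlg.herbrand R (x • φ) ψ = CycAlg.herbrand R φ ψ - CycAlg.herbrand R (0 : ↥(LinearMap.range φ) →ₗ[R] ↥(LinearMap.range φ)) (x • LinearMap.id)) ∧ (CycAlg.FinCoh R φ (x • ψ) ∧ CycAlg.herbrand R φ (x • ψ) = CycAlg.herbrand R φ ψ + CycAlg.herbrand R (0 : ↥(LinearMap.range ψ) →ₗ[R] ↥(LinearMap.range ψ)) (x • LinearMap.id)) := by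
  have hq0 : Module.length R (M ⧸ x • (⊤ : Submodule R M)) ≠ ⊤ :=
    Groth.Agent.H22Alg.length_ne_top_of_supportDim_le_zero hx
  have main : ∀ (φ ψ : M →ₗ[R] M), CycAlg.IsPeriodic φ ψ → CycAlg.FinCoh R φ ψ →
      CycAlg.FinCoh R (x • φ) ψ ∧ CycAlg.herbrand R (x • φ) ψ = CycAlg.herbrand R φ ψ -
        CycAlg.herbrand R (0 : ↥(LinearMap.range φ) →ₗ[R] ↥(LinearMap.range φ)) (x • LinearMap.id) := by
    intro φ ψ hper hfin
    set W := LinearMap.range φ
    let μ : W →ₗ[R] W := x • LinearMap.id
    have hμ : ∀ w, μ w = x • w := fun w => rfl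
    have hkerfin : Module.length R (LinearMap.ker μ) ≠ ⊤ := by
      refine Groth.Agent.H22Alg.length_ne_top_of_support_maximal fun p hp => ?_
      apply Groth.Agent.H22Alg.isMaximal_of_mem_support_of_supportDim_le_zero hx
      have hpM : p ∈ Module.support R M := Module.support_subset_of_injective
        (W.subtype ∘ₗ (LinearMap.ker μ).subtype) ((Submodule.subtype_injective _).comp (Submodule.subtype_injective _)) hp
      have hxp : x ∈ p.asIdeal := by
        by_contra hxp
        obtain ⟨m, hm⟩ := Module.mem_support_iff'.mp hp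
        exact hm x hxp (Subtype.ext (by have := LinearMap.mem_ker.mp m.2; rw [hμ] at this; exact this))
      rw [← Submodule.ideal_span_singleton_smul, Module.support_quotient]
      exact ⟨hpM, by simpa [PrimeSpectrum.mem_zeroLocus] using hxp⟩
    have hcokfin : Module.length R (W ⧸ LinearMap.range μ) ≠ ⊤ := by
      refine ne_top_of_le_ne_top hq0 (Module.length_le_of_surjective
        (Submodule.mapQ (x • (⊤ : Submodule R M)) (LinearMap.range μ) φ.rangeRestrict ?_) ?_)
      · intro m hm
        rw [Submodule.mem_smul_pointwise_iff_exists] at hm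
        obtain ⟨m', -, rfl⟩ := hm
        exact ⟨φ.rangeRestrict m', by rw [hμ, map_smul]⟩
      · intro z
        obtain ⟨w, rfl⟩ := Submodule.Quotient.mk_surjective _ z
        obtain ⟨m, rfl⟩ := φ.surjective_rangeRestrict w
        exact ⟨Submodule.Quotient.mk m, rfl⟩
    have hle : LinearMap.range ψ ≤ LinearMap.ker φ := LinearMap.range_le_ker_iff.mpr hper.1
    have hle' : LinearMap.range φ ≤ LinearMap.ker ψ := LinearMap.range_le_ker_iff.mpr hper.2
    have hle2 : LinearMap.range ψ ≤ LinearMap.ker (x • φ) := hle.trans fun m hm => by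
      rw [LinearMap.mem_ker] at hm ⊢; rw [LinearMap.smul_apply, hm, smul_zero]
    let g : LinearMap.ker (x • φ) →ₗ[R] LinearMap.ker μ :=
      LinearMap.codRestrict _ (φ.rangeRestrict ∘ₗ (LinearMap.ker (x • φ)).subtype) fun m => by
        rw [LinearMap.mem_ker, hμ]
        exact Subtype.ext m.2
    have hg : Function.Surjective g := by
      rintro ⟨⟨w, m, rfl⟩, hw⟩
      refine ⟨⟨m, ?_⟩, rfl⟩
      rw [LinearMap.mem_ker, hμ] at hw
      exact congrArg Subtype.val hw
    let g' : CycAlg.perH (x • φ) ψ →ₗ[R] LinearMap.ker μ := Submodule.liftQ _ g (fun m hm => by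
      apply Subtype.ext; apply Subtype.ext
      exact LinearMap.mem_ker.mp (hle hm))
    have hkg : Module.length R (LinearMap.ker g') = Module.length R (CycAlg.perH φ ψ) := by
      let g0 : LinearMap.ker φ →ₗ[R] CycAlg.perH (x • φ) ψ :=
        (Submodule.mkQ _) ∘ₗ Submodule.inclusion (fun m hm => by
          rw [LinearMap.mem_ker] at hm ⊢; rw [LinearMap.smul_apply, hm, smul_zero])
      have hg0 : LinearMap.range g0 = LinearMap.ker g' := by
        ext z
        obtain ⟨⟨m, hm⟩, rfl⟩ := Submodule.Quotient.mk_surjective _ z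
        constructor
        · rintro ⟨⟨n, hn⟩, h⟩
          rw [← h, LinearMap.mem_ker]
          apply Subtype.ext; apply Subtype.ext
          exact LinearMap.mem_ker.mp hn
        · intro h
          exact ⟨⟨m, congrArg Subtype.val (congrArg Subtype.val (LinearMap.mem_ker.mp h))⟩, rfl⟩
      have hk0 : LinearMap.ker g0 = (LinearMap.range ψ).submoduleOf (LinearMap.ker φ) := by
        ext m
        show Submodule.Quotient.mk _ = 0 ↔ _
        rw [Submodule.Quotient.mk_eq_zero]
        rfl
      rw [← hg0, ← g0.quotKerEquivRange.length_eq, hk0]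
    have hg' : Function.Surjective g' := fun z => by
      obtain ⟨m, rfl⟩ := hg z
      exact ⟨Submodule.Quotient.mk m, rfl⟩
    have e1 : Module.length R (CycAlg.perH (x • φ) ψ) =
        Module.length R (CycAlg.perH φ ψ) + Module.length R (LinearMap.ker μ) := by
      rw [Groth.Agent.H22Alg.length_ker_add_of_surjective g' hg', hkg]
    have e2 : Module.length R (CycAlg.perH ψ (x • φ)) =
        Module.length R (CycAlg.perH ψ φ) + Module.length R (W ⧸ LinearMap.range μ) := by
      have hsub : (LinearMap.range (x • φ)).submoduleOf (LinearMap.ker ψ) ≤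
          (LinearMap.range φ).submoduleOf (LinearMap.ker ψ) := by
        rintro m ⟨n, hn⟩
        exact ⟨x • n, by rw [map_smul]; exact hn⟩
      let h : W →ₗ[R] CycAlg.perH ψ (x • φ) := (Submodule.mkQ _) ∘ₗ Submodule.inclusion hle'
      have hrange : LinearMap.range h = LinearMap.ker (Submodule.factor hsub) := by
        ext z
        obtain ⟨⟨m, hm⟩, rfl⟩ := Submodule.Quotient.mk_surjective _ z
        rw [LinearMap.mem_ker]
        show _ ↔ Submodule.Quotient.mk (⟨m, hm⟩ : LinearMap.ker ψ) = 0
        rw [Submodule.Quotient.mk_eq_zero]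
        constructor
        · rintro ⟨⟨w, hw⟩, h'⟩
          have h'' := (Submodule.Quotient.eq _).mp h'
          have := Submodule.sub_mem ((LinearMap.range φ).submoduleOf (LinearMap.ker ψ))
            (show Submodule.inclusion hle' ⟨w, hw⟩ ∈ (LinearMap.range φ).submoduleOf (LinearMap.ker ψ) from hw) (hsub h'')
          rwa [sub_sub_cancel] at this
        · intro hmem
          exact ⟨⟨m, hmem⟩, rfl⟩
      have hker : LinearMap.ker h = LinearMap.range μ := by
        ext w
        show Submodule.Quotient.mk _ = 0 ↔ _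
        rw [Submodule.Quotient.mk_eq_zero]
        constructor
        · rintro ⟨n, hn⟩
          exact ⟨φ.rangeRestrict n, by rw [hμ]; exact Subtype.ext hn⟩
        · rintro ⟨v, rfl⟩
          obtain ⟨n, rfl⟩ := φ.surjective_rangeRestrict v
          exact ⟨n, rfl⟩
      rw [Groth.Agent.H22Alg.length_ker_add_of_surjective _ (Submodule.factor_surjective hsub), ← hrange,
        ← h.quotKerEquivRange.length_eq, hker, add_comm]
    have e3 : Module.length R (CycAlg.perH (0 : W →ₗ[R] W) μ) = Module.length R (W ⧸ LinearMap.range μ) := by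
      refine LinearEquiv.length_eq ?_
      refine Submodule.Quotient.equiv _ _ (LinearEquiv.ofTop _ LinearMap.ker_zero) ?_
      ext w
      constructor
      · rintro ⟨v, hv, rfl⟩; exact hv
      · intro hw; exact ⟨⟨w, by simp⟩, hw, rfl⟩
    have e4 : Module.length R (CycAlg.perH μ (0 : W →ₗ[R] W)) = Module.length R (LinearMap.ker μ) := by
      refine LinearEquiv.length_eq (Submodule.quotEquivOfEqBot _ ?_)
      rw [eq_bot_iff]
      rintro ⟨w, hw⟩ ⟨v, hv⟩
      exact Subtype.ext hv.symm
    unfold CycAlg.FinCoh CycAlg.herbrand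
    rw [e1, e2, e3, e4]
    obtain ⟨a, ha, -⟩ := Groth.Agent.H22Alg.toNat_eq hfin.1.ne
    obtain ⟨b, hb, -⟩ := Groth.Agent.H22Alg.toNat_eq hfin.2.ne
    obtain ⟨c, hc, -⟩ := Groth.Agent.H22Alg.toNat_eq hkerfin
    obtain ⟨d, hd, -⟩ := Groth.Agent.H22Alg.toNat_eq hcokfin
    rw [ha, hb, hc, hd]
    simp only [← ENat.natCast_add, ENat.natCast_lt_top, and_self, true_and, ENat.toNat_natCast]
    push_cast
    ring
  obtain ⟨a1, a2⟩ := main φ ψ hper hfin
  obtain ⟨b1, b2⟩ := main ψ φ ⟨hper.2, hper.1⟩ ⟨hfin.2, hfin.1⟩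
  refine ⟨⟨a1, a2⟩, ⟨b1.2, b1.1⟩, ?_⟩
  unfold CycAlg.herbrand at b2 ⊢
  linarith

end Groth.Agent.S1832
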