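import Groth.Statements.S18324
import Groth.Agent.H14AlgSt.SmoothTot
import Groth.Agent.H14AlgSt.HenselChart
import Groth.Agent.H9Hens.BranchNormal
import Groth.Agent.H9Hens.PairOps
import Groth.Agent.H9Hens.SchemeSections
import Groth.Agent.S0536

set_option autoImplicit false
set_option backward.isDefEq.respectTransparency false
set_option backward.isDefEq.respectTransparency.types false
universe u
open AlgSt

namespace Groth.Agent.S18324

open CategoryTheory AlgebraicGeometry in
/-- Let R be a Henselian local ring, S = Spec R, and 𝒵 an algebraic stack over (Sch/S) for the fppf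
topology which is smooth over S (in the chart sense: a smooth surjective scheme chart U of 𝒵 and a
smooth V → S with a smooth U → V compatible up to isomorphism) and whose diagonal 𝒵 → 𝒵 ×_{(Sch/S)}
𝒵 is separated (representable by algebraic spaces with closed-immersion relative diagonal). Then for
every ideal a ≠ R, with q : Spec (R/a) → S the closed immersion, the restriction functor 𝒵(R) →
𝒵(R/a) is essentially surjective: every functor z₀ : (Sch/Spec (R/a)) → 𝒵 over (Sch/S) is isomorphic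
to the composite of (Sch/q) with some functor z : (Sch/S) → 𝒵 over (Sch/S). The source assumes only
that the fibre of the diagonal over the closed point is separated; the diagonal itself is taken
separated here. -/
theorem result (R : Type u) [CommRing R]
    [HenselianLocalRing R] (𝒵 : AlgSt.Cat (Spec (CommRingCat.of R)))
    (h𝒵 : AlgSt.IsAlgStack Scheme.fppfPrecoverage 𝒵)
    (hsm : AlgSt.LocQ (AlgSp.LocP @Smooth) (FibCat.toSelf 𝒵))
    (hΔ : AlgSt.RepByAlgSpWith AlgSp.IsSeparatedMor (FibCat.diag (FibCat.toSelf 𝒵)))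
    (a : Ideal R) (ha : a ≠ ⊤)
    (z₀ : FibCat.overCat (Over.mk (Spec.map (CommRingCat.ofHom (Ideal.Quotient.mk a)))) ⥤ᵇ 𝒵) :
    ∃ z : FibCat.overCat (Over.mk (𝟙 (Spec (CommRingCat.of R)))) ⥤ᵇ 𝒵,
      Nonempty (BasedFunctor.comp (AlgSt.overMap (Over.homMk (Spec.map (CommRingCat.ofHom (Ideal.Quotient.mk a)))
        (Category.comp_id _) : Over.mk (Spec.map (CommRingCat.ofHom (Ideal.Quotient.mk a))) ⟶ Over.mk (𝟙 _))) z ≅ z₀) := by
  classical
  have : Nontrivial (R ⧸ a) := Ideal.Quotient.nontrivial_iff.2 ha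
  have : IsLocalRing (R ⧸ a) :=
    IsLocalRing.of_surjective' (Ideal.Quotient.mk a) Ideal.Quotient.mk_surjective
  have : HenselianLocalRing (R ⧸ a) := H9Hens.henselianLocalRing_quotient a
  let q : Spec (CommRingCat.of (R ⧸ a)) ⟶ Spec (CommRingCat.of R) :=
    Spec.map (CommRingCat.ofHom (Ideal.Quotient.mk a))
  obtain ⟨U, hU, p, b, hp, ⟨w⟩⟩ := H14AlgSt.exists_fieldChart H14AlgSt.etale_le_fppfPrecoverage h𝒵
    (Spec.map (CommRingCat.ofHom (IsLocalRing.residue (R ⧸ a))) ≫ q)
    (BasedFunctor.comp (AlgSt.overMap (H14AlgSt.residueIncl (R ⧸ a) q)) z₀)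
  obtain ⟨g, ⟨j⟩⟩ := H14AlgSt.exists_lift_henselian h𝒵 p hp q z₀ b w
  have hsU : Smooth U.hom := H14AlgSt.smooth_hom_of_locQ h𝒵.isStack.1 hsm p hp
  obtain ⟨φ, hφ'⟩ := Spec.map_surjective (U.left.isoSpec.inv ≫ U.hom : Spec Γ(U.left, ⊤) ⟶ Spec (CommRingCat.of R))
  have hfac : U.hom = U.left.isoSpec.hom ≫ Spec.map φ := by
    rw [hφ', Iso.hom_inv_id_assoc]
  have hφ : φ.hom.Smooth := by
    rw [← HasRingHomProperty.Spec_iff (P := @Smooth),
      ← MorphismProperty.cancel_left_of_respectsIso @Smooth U.left.isoSpec.hom, ← hfac]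
    exact hsU
  algebraize [φ.hom]
  obtain ⟨σ₀, hσ₀⟩ := Spec.map_surjective ((g.left : Spec (CommRingCat.of (R ⧸ a)) ⟶ U.left) ≫ U.left.isoSpec.hom)
  have hσR : φ ≫ σ₀ = CommRingCat.ofHom (Ideal.Quotient.mk a) := Spec.map_injective (by
    rw [Spec.map_comp, hσ₀, Category.assoc, ← hfac]
    exact Over.w g)
  let σ : Γ(U.left, ⊤) →ₐ[R] R ⧸ a :=
    { σ₀.hom with commutes' := fun r => congrArg (fun m : CommRingCat.of R ⟶ _ => m.hom r) hσR }
  have : HenselianRing R (IsLocalRing.maximalIdeal R) := H9Hens.henselianRing_maximalIdeal R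
  have : HenselianRing R a :=
    H9Hens.henselianRing_of_le (J := IsLocalRing.maximalIdeal R) (IsLocalRing.le_maximalIdeal ha)
  obtain ⟨τ, hτ⟩ := S0536.result R Γ(U.left, ⊤) R a σ
  have hτφ : φ ≫ CommRingCat.ofHom τ.toRingHom = 𝟙 _ :=
    CommRingCat.hom_ext (RingHom.ext fun r => τ.commutes r)
  let s : Over.mk (𝟙 (Spec (CommRingCat.of R))) ⟶ U :=
    Over.homMk (Spec.map (CommRingCat.ofHom τ.toRingHom) ≫ U.left.isoSpec.inv) (by
      have h1 : Spec.map (CommRingCat.ofHom τ.toRingHom) ≫ Spec.map φ = 𝟙 _ := by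
        rw [← Spec.map_comp, hτφ, Spec.map_id]
      change (Spec.map (CommRingCat.ofHom τ.toRingHom) ≫ U.left.isoSpec.inv) ≫ U.hom = 𝟙 _
      rw [hfac]
      simpa using h1)
  let i₀ : Over.mk q ⟶ Over.mk (𝟙 (Spec (CommRingCat.of R))) := Over.homMk q (Category.comp_id _)
  have hs : i₀ ≫ s = g := Over.OverMorphism.ext (by
    change q ≫ Spec.map (CommRingCat.ofHom τ.toRingHom) ≫ U.left.isoSpec.inv = g.left
    rw [← Category.assoc, ← Spec.map_comp, show CommRingCat.ofHom τ.toRingHom ≫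
      CommRingCat.ofHom (Ideal.Quotient.mk a) = σ₀ from
      CommRingCat.hom_ext (congrArg AlgHom.toRingHom hτ :), hσ₀]
    simp)
  refine ⟨BasedFunctor.comp (AlgSt.overMap s) p, ⟨?_⟩⟩
  exact (H14AlgSt.overMap_comp_iso i₀ s p h𝒵.isStack.1).some ≪≫ eqToIso (by rw [hs]) ≪≫ j

end Groth.Agent.S18324
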