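import Groth.Statements.S18326
import Groth.Agent.H14AlgSt.SigmaChart
import Groth.Agent.H14AlgSt.SmallCharts
import Groth.Agent.H14AlgSt.HenselChart
import Groth.Agent.H12AlgSp.HilbQuot
import Groth.Agent.H9Hens.BranchNormal

set_option autoImplicit false
set_option backward.isDefEq.respectTransparency false
set_option backward.isDefEq.respectTransparency.types false
universe u
open AlgSt

namespace Groth.Agent.S18326

open CategoryTheory AlgebraicGeometry in
/-- Let S be a scheme, 𝒵 an algebraic stack over (Sch/S) for the fppf topology whose diagonal 𝒵 → 𝒵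
×_{(Sch/S)} 𝒵 is separated (representable by algebraic spaces with closed-immersion relative
diagonal), and R a Henselian local ring with a structure morphism Spec R → S. Then there are a
scheme Z separated over S and a functor p : (Sch/Z) → 𝒵 over (Sch/S) which is representable by
algebraic spaces and smooth, such that for every ideal a of R (Spec (R/a) mapping to S through Spec
R) every functor (Sch/Spec (R/a)) → 𝒵 over (Sch/S) is isomorphic to (Sch/g) followed by p for some
S-morphism g : Spec (R/a) → Z. The source assumes only that the fibre of the diagonal over the image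
of the closed point is separated; the diagonal itself is taken separated here. -/
theorem result {S : Scheme.{u}} (𝒵 : AlgSt.Cat S)
    (h𝒵 : AlgSt.IsAlgStack Scheme.fppfPrecoverage 𝒵)
    (hΔ : AlgSt.RepByAlgSpWith AlgSp.IsSeparatedMor (FibCat.diag (FibCat.toSelf 𝒵)))
    (R : Type u) [CommRing R] [HenselianLocalRing R] (str : Spec (CommRingCat.of R) ⟶ S) :
    ∃ (Z : Over S) (p : FibCat.overCat Z ⥤ᵇ 𝒵), IsSeparated Z.hom ∧ AlgSt.RepByAlgSpWith (AlgSp.LocP @Smooth) p ∧
      ∀ (a : Ideal R) (x : FibCat.overCat (Over.mk (Spec.map (CommRingCat.ofHom (Ideal.Quotient.mk a)) ≫ str)) ⥤ᵇ 𝒵),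
        ∃ g : Over.mk (Spec.map (CommRingCat.ofHom (Ideal.Quotient.mk a)) ≫ str) ⟶ Z,
          Nonempty (BasedFunctor.comp (AlgSt.overMap g) p ≅ x) := by
  classical
  have hK := H14AlgSt.etale_le_fppfPrecoverage.{u}
  obtain ⟨ι, U, p, hU, hp, hl⟩ := H14AlgSt.exists_fieldCharts hK h𝒵
  obtain ⟨P, hP, hPs⟩ := H14AlgSt.exists_sigma_chart hK h𝒵 p hp
  refine ⟨H14AlgSt.sigmaOver U, P, H12AlgSp.isSeparated_sigmaDesc _ fun i => ?_, hPs, ?_⟩
  · have := hU i
    infer_instance
  intro a x
  by_cases ha : a = ⊤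
  · have : Subsingleton (R ⧸ a) := Ideal.Quotient.subsingleton_iff.2 ha
    let T : Over S := Over.mk (Spec.map (CommRingCat.ofHom (Ideal.Quotient.mk a)) ≫ str)
    have hT : IsEmpty T.left := inferInstanceAs (IsEmpty (PrimeSpectrum (R ⧸ a)))
    let g : T ⟶ H14AlgSt.sigmaOver U :=
      Over.homMk ((isInitialOfIsEmpty (X := T.left)).to _) ((isInitialOfIsEmpty (X := T.left)).hom_ext _ _)
    let G := BasedFunctor.comp (AlgSt.overMap g) P
    obtain ⟨α, hα⟩ := H14AlgSt.exists_vert_of_isEmpty (T := T) hK h𝒵.isStack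
      (G.w_obj (H14Fib.topObj T)) (x.w_obj (H14Fib.topObj T))
    have := H14Fib.isIso_of_fibGrpd h𝒵.isStack.1 (𝟙 T) α
    exact ⟨g, ⟨H14Fib.isoOfTop (H14Fib.topSC_of_fibGrpd h𝒵.isStack.1 _)
      (H14Fib.topSC_of_fibGrpd h𝒵.isStack.1 _) (asIso α) hα⟩⟩
  · have : Nontrivial (R ⧸ a) := Ideal.Quotient.nontrivial_iff.2 ha
    have : IsLocalRing (R ⧸ a) :=
      IsLocalRing.of_surjective' (Ideal.Quotient.mk a) Ideal.Quotient.mk_surjective
    have : HenselianLocalRing (R ⧸ a) := H9Hens.henselianLocalRing_quotient a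
    let str' := Spec.map (CommRingCat.ofHom (Ideal.Quotient.mk a)) ≫ str
    obtain ⟨i, b, ⟨w⟩⟩ := hl (Spec.map (CommRingCat.ofHom (IsLocalRing.residue (R ⧸ a))) ≫ str')
      (BasedFunctor.comp (AlgSt.overMap (H14AlgSt.residueIncl (R ⧸ a) str')) x)
    obtain ⟨g, ⟨j⟩⟩ := H14AlgSt.exists_lift_henselian h𝒵 (p i) (hp i) str' x b w
    exact ⟨g ≫ H14AlgSt.sigmaIncl U i,
      ⟨(H14AlgSt.overMap_comp_iso g _ P h𝒵.isStack.1).some.symm ≪≫
        (Stk.restr (AlgSt.overMap g) _).mapIso (hP i).some ≪≫ j⟩⟩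

end Groth.Agent.S18326
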