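import Groth.Statements.S18329
import Mathlib

set_option autoImplicit false
set_option linter.style.haveILetI false
set_option backward.isDefEq.respectTransparency false
universe u
open TensorProduct
open SGA3

namespace Groth.Agent.S18329

section
open TensorProduct Polynomial

variable {k : Type u} [Field k] [IsAlgClosed k]

theorem idem_eq_of_points {R : Type u} [CommRing R] [Algebra k R] [Algebra.FiniteType k R] {a b : R}
    (ha : IsIdempotentElem a) (hb : IsIdempotentElem b) (h : ∀ φ : R →ₐ[k] k, φ a = φ b) : a = b := by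
  haveI : IsJacobsonRing R := isJacobsonRing_of_finiteType (A := k)
  have hn : IsNilpotent (a - b) := by
    rw [← mem_nilradical, nilradical, Ideal.radical_eq_jacobson, Ideal.jacobson, Ideal.mem_sInf]
    rintro m ⟨-, hm⟩
    haveI := hm
    letI := Ideal.Quotient.field m
    haveI : Module.Finite k (R ⧸ m) := finite_of_finite_type_of_isJacobsonRing k _
    have hbij := IsAlgClosed.algebraMap_bijective_of_isIntegral (k := k) (K := R ⧸ m)
    let e := AlgEquiv.ofBijective (Algebra.ofId k (R ⧸ m)) hbij
    have := h (e.symm.toAlgHom.comp (Ideal.Quotient.mkₐ k m))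
    rw [← Ideal.Quotient.eq]
    exact e.symm.injective this
  obtain ⟨n, hn⟩ := hn
  have h3 : (a - b) ^ 3 = a - b := by
    have ha' : a * a = a := ha
    have hb' : b * b = b := hb
    linear_combination (a + 1 - 3 * b) * ha' + (3 * a - b - 1) * hb'
  have : ∀ m, (a - b) ^ (2 * m + 1) = a - b := by
    intro m
    induction m with
    | zero => simp
    | succ m ih =>
      rw [show 2 * (m + 1) + 1 = 2 * m + 1 + 2 by ring, pow_add, ih]
      linear_combination h3
  have h0 := this n
  rw [pow_eq_zero_of_le (by omega) hn] at h0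
  exact sub_eq_zero.1 h0.symm

theorem finite_idem (R : Type*) [CommRing R] [IsNoetherianRing R] :
    {e : R | IsIdempotentElem e}.Finite := by
  classical
  haveI : Finite (minimalPrimes R) := (minimalPrimes.finite_of_isNoetherianRing R).to_subtype
  let F : {e : R | IsIdempotentElem e} → Set (minimalPrimes R) := fun e => {p | (e : R) ∈ (p : Ideal R)}
  refine Set.finite_coe_iff.1 (Finite.of_injective F fun e f hef => ?_)
  obtain ⟨a, ha⟩ := e
  obtain ⟨b, hb⟩ := f
  have ha' : a * a = a := ha
  have hb' : b * b = b := hb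
  have hn : IsNilpotent (a - b) := by
    rw [← mem_nilradical, nilradical_eq_sInf, Ideal.mem_sInf]
    intro q hq
    haveI : q.IsPrime := hq
    obtain ⟨p, hp, hpq⟩ := Ideal.exists_minimalPrimes_le (bot_le : (⊥ : Ideal R) ≤ q)
    haveI : p.IsPrime := hp.1.1
    have hiff := Set.ext_iff.1 hef ⟨p, hp⟩
    simp only [F, Set.mem_setOf_eq] at hiff
    apply hpq
    by_cases hap : a ∈ p
    · exact sub_mem hap (hiff.1 hap)
    · have hbp : b ∉ p := fun hb'' => hap (hiff.2 hb'')
      have h1 : 1 - a ∈ p := ((‹p.IsPrime›).mem_or_mem (x := a) (y := 1 - a) (by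
        rw [show a * (1 - a) = 0 by linear_combination -ha']; exact zero_mem _)).resolve_left hap
      have h2 : 1 - b ∈ p := ((‹p.IsPrime›).mem_or_mem (x := b) (y := 1 - b) (by
        rw [show b * (1 - b) = 0 by linear_combination -hb']; exact zero_mem _)).resolve_left hbp
      rw [show a - b = (1 - b) - (1 - a) by ring]
      exact sub_mem h2 h1
  obtain ⟨n, hn⟩ := hn
  have h3 : (a - b) ^ 3 = a - b := by linear_combination (a + 1 - 3 * b) * ha' + (3 * a - b - 1) * hb'
  have : ∀ m, (a - b) ^ (2 * m + 1) = a - b := by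
    intro m
    induction m with
    | zero => simp
    | succ m ih =>
      rw [show 2 * (m + 1) + 1 = 2 * m + 1 + 2 by ring, pow_add, ih]
      linear_combination h3
  have h0 := this n
  rw [pow_eq_zero_of_le (by omega) hn] at h0
  exact Subtype.ext (sub_eq_zero.1 h0.symm)

theorem idem_mem_span_of_finiteType {R : Type u} [CommRing R] [Algebra k R] [Algebra.FiniteType k R]
    (e : R ⊗[k] R) (he : IsIdempotentElem e) :
    e ∈ Submodule.span k {x | ∃ s t : R, IsIdempotentElem s ∧ IsIdempotentElem t ∧ x = s ⊗ₜ[k] t} := by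
  classical
  haveI : IsNoetherianRing R := Algebra.FiniteType.isNoetherianRing k R
  haveI : Algebra.FiniteType k (R ⊗[k] R) := Algebra.FiniteType.trans (S := R) ‹_› inferInstance
  let sR : (R →ₐ[k] k) → R := fun h =>
    Algebra.TensorProduct.rid k k R (Algebra.TensorProduct.map (AlgHom.id k R) h e)
  let uL : (R →ₐ[k] k) → R := fun g =>
    Algebra.TensorProduct.lid k R (Algebra.TensorProduct.map g (AlgHom.id k R) e)
  have hsR : ∀ h, IsIdempotentElem (sR h) := fun h => (he.map _).map _
  have huL : ∀ g, IsIdempotentElem (uL g) := fun g => (he.map _).map _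
  have hpair : ∀ g h : R →ₐ[k] k, g (sR h) = h (uL g) ∧
      ∀ φ : R ⊗[k] R →ₐ[k] k, φ.comp Algebra.TensorProduct.includeLeft = g →
        φ.comp Algebra.TensorProduct.includeRight = h → φ e = g (sR h) := by
    intro g h
    refine ⟨?_, fun φ hg hh => ?_⟩
    · simp only [sR, uL]
      generalize e = z
      induction z using TensorProduct.induction_on with
      | zero => simp
      | tmul a b => simp [mul_comm]
      | add x y hx hy => simp only [map_add, hx, hy]
    · simp only [sR]
      generalize e = z
      induction z using TensorProduct.induction_on with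
      | zero => simp
      | tmul a b =>
        rw [Algebra.TensorProduct.map_tmul, AlgHom.id_apply, Algebra.TensorProduct.rid_tmul, map_smul,
          smul_eq_mul, ← hg, ← hh]
        simp only [AlgHom.comp_apply, Algebra.TensorProduct.includeLeft_apply,
          Algebra.TensorProduct.includeRight_apply]
        rw [← map_mul, Algebra.TensorProduct.tmul_mul_tmul, one_mul, mul_one]
      | add x y hx hy => simp only [map_add, hx, hy]
  -- finitely many values
  let U : Finset R := (Set.Finite.subset (finite_idem R) (show Set.range uL ⊆ {e : R | IsIdempotentElem e} by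
    rintro _ ⟨g, rfl⟩; exact huL g)).toFinset
  have hU : ∀ g, uL g ∈ U := fun g => by simp [U]
  let S : Finset R := (Set.Finite.subset (finite_idem R) (show Set.range sR ⊆ {e : R | IsIdempotentElem e} by
    rintro _ ⟨g, rfl⟩; exact hsR g)).toFinset
  have hS : ∀ s ∈ S, ∃ h, sR h = s := fun s hs => by simpa [S] using hs
  choose hp hhp using hS
  -- indicator of the value `s` on the second factor
  let t : R → R := fun s => if hs : s ∈ S then ∏ u ∈ U, (if (hp s hs) u = 1 then u else 1 - u) else 0
  have hUidem : ∀ u ∈ U, IsIdempotentElem u := fun u hu => by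
    simp only [U, Set.Finite.mem_toFinset] at hu
    obtain ⟨g, rfl⟩ := hu
    exact huL g
  have hval : ∀ (φ : R →ₐ[k] k) (u : R), IsIdempotentElem u → φ u = 0 ∨ φ u = 1 := fun φ u hu =>
    IsIdempotentElem.iff_eq_zero_or_one.1 (hu.map φ)
  have ht : ∀ s, IsIdempotentElem (t s) := by
    intro s
    simp only [t]
    split
    · refine Finset.prod_induction _ IsIdempotentElem (fun a b ha hb => ha.mul hb) IsIdempotentElem.one
        fun u hu => ?_
      split
      · exact hUidem u hu
      · exact (hUidem u hu).one_sub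
    · exact IsIdempotentElem.zero
  have heval : ∀ (h : R →ₐ[k] k) (s) (hs : s ∈ S), h (t s) = if sR h = s then 1 else 0 := by
    intro h s hs
    simp only [t, dif_pos hs, map_prod]
    split_ifs with heq
    · refine Finset.prod_eq_one fun u hu => ?_
      have hu' := hu
      simp only [U, Set.Finite.mem_toFinset] at hu'
      obtain ⟨g, rfl⟩ := hu'
      have : h (uL g) = hp s hs (uL g) := by rw [← (hpair g h).1, ← (hpair g _).1, heq, hhp]
      split_ifs with h1
      · rw [this, h1]
      · rw [map_sub, map_one, this, (hval _ _ (huL g)).resolve_right h1, sub_zero]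
    · obtain ⟨g, hg⟩ : ∃ g : R →ₐ[k] k, g (sR h) ≠ g s := by
        by_contra hc
        push Not at hc
        exact heq (idem_eq_of_points (hsR h) (hhp s hs ▸ hsR _) hc)
      refine Finset.prod_eq_zero (hU g) ?_
      have h1 : h (uL g) ≠ hp s hs (uL g) := by rw [← (hpair g h).1, ← (hpair g _).1, hhp]; exact hg
      rcases hval h _ (huL g) with h0 | h0 <;> rcases hval (hp s hs) _ (huL g) with h2 | h2
      · exact absurd (h0.trans h2.symm) h1
      · rw [if_pos h2, h0]
      · rw [if_neg (by rw [h2]; exact zero_ne_one), map_sub, map_one, h0, sub_self]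
      · exact absurd (h0.trans h2.symm) h1
  have hS' : ∀ s ∈ S, IsIdempotentElem s := fun s hs => hhp s hs ▸ hsR _
  have hSR : ∀ h, sR h ∈ S := fun h => by simp [S]
  suffices e = ∑ s ∈ S, s ⊗ₜ[k] t s by
    rw [this]
    exact Submodule.sum_mem _ fun s hs => Submodule.subset_span ⟨s, t s, hS' s hs, ht s, rfl⟩
  have horth : ∀ s ∈ S, ∀ s' ∈ S, s ≠ s' → t s * t s' = 0 := by
    intro s hs s' hs' hne
    refine idem_eq_of_points (k := k) ((ht s).mul (ht s')) IsIdempotentElem.zero fun φ => ?_
    rw [map_mul, map_zero, heval φ s hs, heval φ s' hs']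
    split_ifs with h1 h2 <;> simp_all
  refine idem_eq_of_points (k := k) he ?_ fun φ => ?_
  · show _ * _ = _
    rw [Finset.sum_mul_sum]
    refine Finset.sum_congr rfl fun s hs => ?_
    rw [Finset.sum_eq_single s]
    · rw [Algebra.TensorProduct.tmul_mul_tmul, hS' s hs, ht s]
    · intro s' hs' hne
      rw [Algebra.TensorProduct.tmul_mul_tmul, horth s hs s' hs' hne.symm, TensorProduct.tmul_zero]
    · exact fun h => absurd hs h
  · set g : R →ₐ[k] k := φ.comp Algebra.TensorProduct.includeLeft
    set h : R →ₐ[k] k := φ.comp Algebra.TensorProduct.includeRight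
    rw [(hpair g h).2 φ rfl rfl, map_sum, Finset.sum_eq_single (sR h)]
    · rw [show sR h ⊗ₜ[k] t (sR h) = (sR h ⊗ₜ[k] (1 : R)) * ((1 : R) ⊗ₜ[k] t (sR h)) by simp, map_mul]
      show g (sR h) = g (sR h) * h (t (sR h))
      rw [heval h _ (hSR h), if_pos rfl, mul_one]
    · intro s hs hne
      rw [show s ⊗ₜ[k] t s = (s ⊗ₜ[k] (1 : R)) * ((1 : R) ⊗ₜ[k] t s) by simp, map_mul]
      show g s * h (t s) = 0
      rw [heval h s hs, if_neg hne.symm, mul_zero]
    · exact fun hh => absurd (hSR h) hh

theorem idem_mem_span {C : Type u} [CommRing C] [Algebra k C] (e : C ⊗[k] C) (he : IsIdempotentElem e) :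
    e ∈ Submodule.span k {x | ∃ s t : C, IsIdempotentElem s ∧ IsIdempotentElem t ∧ x = s ⊗ₜ[k] t} := by
  classical
  obtain ⟨S, hS⟩ := TensorProduct.exists_finset e
  let R := Algebra.adjoin k ((S.image Prod.fst ∪ S.image Prod.snd : Finset C) : Set C)
  haveI : Algebra.FiniteType k R := (Subalgebra.fg_iff_finiteType R).1 (Subalgebra.fg_adjoin_finset _)
  let f : R ⊗[k] R →ₐ[k] C ⊗[k] C := Algebra.TensorProduct.map R.val R.val
  have hf : Function.Injective f :=
    TensorProduct.map_injective_of_flat_flat R.val.toLinearMap R.val.toLinearMap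
      Subtype.val_injective Subtype.val_injective
  have hmem : ∀ p ∈ S, p.1 ∈ R ∧ p.2 ∈ R := fun p hp =>
    ⟨Algebra.subset_adjoin (Finset.mem_coe.2 (Finset.mem_union_left _ (Finset.mem_image_of_mem _ hp))),
      Algebra.subset_adjoin (Finset.mem_coe.2 (Finset.mem_union_right _ (Finset.mem_image_of_mem _ hp)))⟩
  let e' : R ⊗[k] R := ∑ p : S, (⟨p.1.1, (hmem p.1 p.2).1⟩ : R) ⊗ₜ[k] (⟨p.1.2, (hmem p.1 p.2).2⟩ : R)
  have he' : f e' = e := by
    rw [hS, map_sum, ← Finset.sum_coe_sort S (fun i => i.1 ⊗ₜ[k] i.2)]
    exact Finset.sum_congr rfl fun p _ => rfl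
  have hi : IsIdempotentElem e' := hf (by rw [map_mul, he']; exact he)
  have h1 := Submodule.mem_map_of_mem (f := f.toLinearMap) (idem_mem_span_of_finiteType e' hi)
  rw [Submodule.map_span] at h1
  rw [← he']
  refine Submodule.span_mono ?_ h1
  rintro _ ⟨_, ⟨s, t, hs, ht, rfl⟩, rfl⟩
  exact ⟨s, t, hs.map R.val, ht.map R.val, rfl⟩

theorem separable_mem_span_idem {A : Type u} [CommRing A] [Algebra k A] {a : A} (ha : IsSeparable k a) :
    ∃ (s : Finset k[X]) (c : k[X] → k), (∀ p ∈ s, IsIdempotentElem (aeval a p)) ∧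
      a = ∑ p ∈ s, c p • aeval a p := by
  classical
  have hint : IsIntegral k a := ha.isIntegral
  have hsplit : (minpoly k a).Splits := IsAlgClosed.splits _
  let rts := (minpoly k a).roots.toFinset
  have hnd : (minpoly k a).roots.Nodup := Polynomial.nodup_roots ha
  have hprod : minpoly k a = ∏ r ∈ rts, (X - C r) := by
    conv_lhs => rw [hsplit.eq_prod_roots_of_monic (minpoly.monic hint)]
    rw [Finset.prod_eq_multiset_prod]
    simp [rts, Multiset.toFinset_val, hnd.dedup]
  have hdvd : ∀ q : k[X], (∀ r ∈ rts, q.eval r = 0) → aeval a q = 0 := by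
    intro q hq
    obtain ⟨d, rfl⟩ : minpoly k a ∣ q := by
      rw [hprod]
      refine Finset.prod_dvd_of_coprime ?_ fun r hr => Polynomial.dvd_iff_isRoot.2 (hq r hr)
      intro x _ y _ hxy
      exact Polynomial.isCoprime_X_sub_C_of_isUnit_sub (sub_ne_zero_of_ne hxy).isUnit
    rw [map_mul, minpoly.aeval, zero_mul]
  have hinj : Set.InjOn (id : k → k) rts := fun x _ y _ h => h
  refine ⟨rts.image fun r => Lagrange.basis rts id r, fun p => if h : ∃ r ∈ rts, Lagrange.basis rts id r = p then h.choose else 0, ?_, ?_⟩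
  · intro p hp
    obtain ⟨r, hr, rfl⟩ := Finset.mem_image.1 hp
    show _ * _ = _
    rw [← map_mul, ← sub_eq_zero, ← map_sub]
    refine hdvd _ fun r' hr' => ?_
    by_cases h : r = r'
    · subst h; simp [show eval r (Lagrange.basis rts id r) = 1 from Lagrange.eval_basis_self hinj hr]
    · simp [show eval r' (Lagrange.basis rts id r) = 0 from Lagrange.eval_basis_of_ne (v := id) h hr']
  · have hLinj : Set.InjOn (fun r => Lagrange.basis rts id r) rts := by
      intro x hx y hy hxy
      by_contra hne
      have h1 := Lagrange.eval_basis_self (v := id) hinj hx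
      rw [show Lagrange.basis rts id x = Lagrange.basis rts id y from hxy,
        Lagrange.eval_basis_of_ne (v := id) (Ne.symm hne) hx] at h1
      exact zero_ne_one h1
    rw [Finset.sum_image hLinj]
    have hx : aeval a (X - ∑ r ∈ rts, C r * Lagrange.basis rts id r) = 0 := by
      refine hdvd _ fun r hr => ?_
      rw [eval_sub, eval_X, eval_finsetSum, Finset.sum_eq_single r]
      · simp [show eval r (Lagrange.basis rts id r) = 1 from Lagrange.eval_basis_self hinj hr]
      · intro r' _ hne
        simp [show eval r (Lagrange.basis rts id r') = 0 from Lagrange.eval_basis_of_ne (v := id) hne hr]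
      · exact fun h => absurd hr h
    rw [map_sub, aeval_X, sub_eq_zero, map_sum] at hx
    conv_lhs => rw [hx]
    refine Finset.sum_congr rfl fun r hr => ?_
    have hex : ∃ r' ∈ rts, Lagrange.basis rts id r' = Lagrange.basis rts id r := ⟨r, hr, rfl⟩
    beta_reduce
    rw [dif_pos hex, hLinj hex.choose_spec.1 hr hex.choose_spec.2, map_mul, aeval_C, Algebra.smul_def]

theorem isSeparable_of_idem {A : Type u} [CommRing A] [Algebra k A] {s : A} (hs : IsIdempotentElem s) :
    IsSeparable k s := by
  refine (minpoly k s).separable_def.2 ?_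
  have h : minpoly k s ∣ X * (X - C 1) := minpoly.dvd k s (by
    have : s * s = s := hs
    simp [mul_sub, this])
  have hc : IsCoprime (X : k[X]) (X - C 1) := by
    have := Polynomial.isCoprime_X_sub_C_of_isUnit_sub (a := (0 : k)) (b := 1) (by simp)
    simpa using this
  exact ((separable_X.mul separable_X_sub_C hc).of_dvd h)

end


/-- Let k be an algebraically closed field of prime characteristic p and A a commutative Hopf algebra
over k, the coordinate ring of an affine k-group G, quotient groups of G being read as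
sub-Hopf-algebras of A (subalgebras stable under comultiplication and antipode). Let B₀ be the
subalgebra of elements of A that are separable over k (its spectrum is the group of connected
components π₀(G)) and let C be the largest cocommutative sub-Hopf-algebra of A (its spectrum is the
largest commutative quotient group G_ab). Then B₀ ⊓ C, whose spectrum is π₀(G_ab), is the largest
cocommutative sub-Hopf-algebra of A contained in B₀, whose spectrum is the largest commutative
quotient of π₀(G): the canonical homomorphism from π₀(G_ab) to (π₀(G))_ab is an isomorphism. (The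
abelianization is rendered through its universal property among affine quotient groups, as the
largest cocommutative sub-Hopf-algebra, rather than as the quotient by the derived subgroup.) -/
theorem result (k A : Type u) [Field k] [IsAlgClosed k]
    (p : ℕ) [Fact p.Prime] [CharP k p] [CommRing A] [HopfAlgebra k A]
    (B₀ : Subalgebra k A) (hB₀ : ∀ a : A, a ∈ B₀ ↔ IsSeparable k a)
    (C : Subalgebra k A) (hC : SGA3.IsHopfSubalgebra k A C)
    (hCc : ∀ c ∈ C, TensorProduct.comm k A A (Coalgebra.comul c) = Coalgebra.comul c)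
    (hCmax : ∀ D : Subalgebra k A, SGA3.IsHopfSubalgebra k A D →
      (∀ d ∈ D, TensorProduct.comm k A A (Coalgebra.comul d) = Coalgebra.comul d) → D ≤ C) :
    IsGreatest {D : Subalgebra k A | SGA3.IsHopfSubalgebra k A D ∧
      (∀ d ∈ D, TensorProduct.comm k A A (Coalgebra.comul d) = Coalgebra.comul d) ∧ D ≤ B₀}
      (B₀ ⊓ C) := by
  classical
  have key : ∀ a ∈ B₀ ⊓ C, ∃ (s : Finset (Polynomial k)) (c : Polynomial k → k),
      (∀ p ∈ s, IsIdempotentElem (Polynomial.aeval a p) ∧ Polynomial.aeval a p ∈ C) ∧
      a = ∑ p ∈ s, c p • Polynomial.aeval a p := by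
    intro a ha
    obtain ⟨s, c, h1, h2⟩ := separable_mem_span_idem ((hB₀ a).1 ha.1)
    exact ⟨s, c, fun p hp => ⟨h1 p hp, Algebra.adjoin_le (Set.singleton_subset_iff.2 ha.2)
      (Polynomial.aeval_mem_adjoin_singleton k a)⟩, h2⟩
  refine ⟨⟨⟨fun a ha => ?_, fun a ha => ?_⟩, fun a ha => hCc a ha.2, inf_le_left⟩, ?_⟩
  · obtain ⟨s, c, h1, h2⟩ := key a ha
    rw [h2, map_sum]
    refine Submodule.sum_mem _ fun p hp => ?_
    rw [map_smul]
    refine Submodule.smul_mem _ _ ?_
    obtain ⟨hidem, hmem⟩ := h1 p hp
    obtain ⟨z, hz⟩ := hC.1 _ hmem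
    let f : TensorProduct k C C →ₐ[k] TensorProduct k A A := Algebra.TensorProduct.map C.val C.val
    have hf : Function.Injective f :=
      TensorProduct.map_injective_of_flat_flat C.val.toLinearMap C.val.toLinearMap
        Subtype.val_injective Subtype.val_injective
    have hzi : IsIdempotentElem z := hf (by
      rw [map_mul]
      show TensorProduct.map _ _ z * TensorProduct.map _ _ z = TensorProduct.map _ _ z
      rw [hz]
      exact hidem.map (Bialgebra.comulAlgHom k A))
    rw [← hz]
    have hsp := idem_mem_span z hzi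
    clear hz hzi
    induction hsp using Submodule.span_induction with
    | mem x hx =>
      obtain ⟨u, v, hu, hv, rfl⟩ := hx
      exact ⟨(⟨u, ⟨(hB₀ _).2 (isSeparable_of_idem (hu.map C.val)), u.2⟩⟩ : ↥(B₀ ⊓ C)) ⊗ₜ[k]
        (⟨v, ⟨(hB₀ _).2 (isSeparable_of_idem (hv.map C.val)), v.2⟩⟩ : ↥(B₀ ⊓ C)), rfl⟩
    | zero => rw [map_zero]; exact zero_mem _
    | add x y _ _ hx hy => rw [map_add]; exact add_mem hx hy
    | smul r x _ hx => rw [map_smul]; exact Submodule.smul_mem _ r hx
  · obtain ⟨s, c, h1, h2⟩ := key a ha
    refine ⟨?_, hC.2 a ha.2⟩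
    rw [h2, map_sum]
    refine Subalgebra.sum_mem _ fun p hp => ?_
    rw [map_smul]
    exact B₀.smul_mem ((hB₀ _).2 (isSeparable_of_idem ((h1 p hp).1.map (HopfAlgebra.antipodeAlgHom k A)))) _
  · rintro D ⟨hD, hDc, hD0⟩
    exact le_inf hD0 (hCmax D hD hDc)

end Groth.Agent.S18329
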