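import Groth.Statements.S18332
import Groth.Agent.H14AlgSt.InertiaQF
import Groth.Agent.H14AlgSt.Props
import Groth.Agent.H14AlgSt.SourceDescent
import Groth.Agent.H13AlgSp.FiniteMor

set_option autoImplicit false
set_option backward.isDefEq.respectTransparency false
set_option backward.isDefEq.respectTransparency.types false
universe u
open AlgSt

namespace Groth.Agent.S18332

open CategoryTheory AlgebraicGeometry Groth.Agent.H14AlgSt in
/-- The inertia of a morphism to a space is the inertia. -/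
theorem exists_inertia_equiv {S : Scheme.{u}} {𝒳 : AlgSt.Cat S} {M : AlgSp.Sp S}
    (π : 𝒳 ⥤ᵇ AlgSt.ofSp M) :
    ∃ e : FibCat.inertia π ⥤ᵇ FibCat.inertia (FibCat.toSelf 𝒳), FibCat.IsEquivOver e ∧
      BasedFunctor.comp e (FibCat.inertiaToBase (FibCat.toSelf 𝒳)) = FibCat.inertiaToBase π := by
  have h1 : ∀ x : FibCat.InertiaObj π,
      (FibCat.toSelf 𝒳).map x.aut.hom = 𝟙 ((FibCat.toSelf 𝒳).obj x.pt) := fun x => by
    change 𝒳.p.map x.aut.hom = 𝟙 _
    have := Functor.congr_hom π.w x.aut.hom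
    rw [Functor.comp_map, x.map_aut, CategoryTheory.Functor.map_id] at this
    have h := congrArg (fun g => eqToHom (congrArg (fun F => F.obj x.pt) π.w).symm ≫ g ≫
      eqToHom (congrArg (fun F => F.obj x.pt) π.w)) this
    simpa using h.symm
  have h2 : ∀ x : FibCat.InertiaObj (FibCat.toSelf 𝒳),
      π.map x.aut.hom = 𝟙 (π.obj x.pt) := fun x => by
    apply Stk.EltObj.hom_ext
    change (AlgSt.ofSp M).p.map (π.map x.aut.hom) = 𝟙 ((AlgSt.ofSp M).p.obj (π.obj x.pt))
    have h := x.map_aut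
    change 𝒳.p.map x.aut.hom = 𝟙 (𝒳.p.obj x.pt) at h
    rw [← Functor.comp_map, Functor.congr_hom π.w x.aut.hom, h]
    simp
  let e : FibCat.inertia π ⥤ᵇ FibCat.inertia (FibCat.toSelf 𝒳) :=
    { toFunctor :=
        { obj := fun x => ⟨x.pt, x.aut, h1 x⟩
          map := fun m => ⟨m.hom, m.comm⟩ }
      w := rfl }
  let g : FibCat.inertia (FibCat.toSelf 𝒳) ⥤ᵇ FibCat.inertia π :=
    { toFunctor :=
        { obj := fun x => ⟨x.pt, x.aut, h2 x⟩
          map := fun m => ⟨m.hom, m.comm⟩ }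
      w := rfl }
  exact ⟨e, ⟨g, ⟨Iso.refl (BasedFunctor.comp e g)⟩, ⟨Iso.refl (BasedFunctor.comp g e)⟩⟩, rfl⟩

open CategoryTheory AlgebraicGeometry in
/-- Let 𝒳 be an algebraic stack over a scheme S which is locally of finite presentation over S and whose
diagonal over S is quasi-compact, separated and locally quasi-finite. If 𝒳 has a coarse moduli space
π : 𝒳 → M (universal for morphisms to algebraic spaces and bijective on isomorphism classes of
points with values in algebraically closed fields) such that π is separated, then the inertia of 𝒳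
over S is finite over 𝒳. (The converse implication is the Keel–Mori existence result. The diagonal
conditions are taken relative to S; with the absolute conditions, over the integers, the assertion
is the same Zariski-locally on S.) -/
theorem result (S : Scheme.{u}) (𝒳 : AlgSt.Cat S)
    (h𝒳 : AlgSt.IsAlgStack Scheme.fppfPrecoverage 𝒳)
    (hΔ : AlgSt.RepByAlgSpWith (AlgSp.IsSeparatedMor ⊓ AlgSp.IsQuasiCompactMor) (FibCat.diag (FibCat.toSelf 𝒳)))
    (hqf : AlgSt.IsQuasiDMOver 𝒳)
    (hfp : AlgSt.LocQ (AlgSp.LocP @LocallyOfFinitePresentation) (FibCat.toSelf 𝒳))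
    (M : AlgSp.Sp S) (π : 𝒳 ⥤ᵇ AlgSt.ofSp M) (hπ : AlgSt.IsCoarseModuli π)
    (hsep : AlgSt.IsSeparatedMor π) :
    AlgSt.RepByAlgSpWith AlgSp.IsFiniteMor (FibCat.inertiaToBase (FibCat.toSelf 𝒳)) := by
  obtain ⟨e, he, hec⟩ := exists_inertia_equiv π
  have h1 : RepByAlgSpWith AlgSp.IsProperMor (FibCat.inertiaToBase π) :=
    (Groth.Agent.H14AlgSt.repWith_inertiaToBase_iff h𝒳.isStack.1 π).2
      (Groth.Agent.H14AlgSt.repWith_fpFst (FibCat.diag π) hsep)
  rw [← hec] at h1
  have h2 : RepByAlgSpWith AlgSp.IsProperMor (FibCat.inertiaToBase (FibCat.toSelf 𝒳)) :=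
    (Groth.Agent.H14AlgSt.repWith_equiv_comp_iff he).2 h1
  have h3 : RepByAlgSpWith (AlgSp.LocP (@LocallyQuasiFinite ⊓ @LocallyOfFiniteType))
      (FibCat.inertiaToBase (FibCat.toSelf 𝒳)) :=
    (Groth.Agent.H14AlgSt.repWith_inertiaToBase_iff h𝒳.isStack.1 _).2
      (Groth.Agent.H14AlgSt.repWith_fpFst (FibCat.diag (FibCat.toSelf 𝒳)) hqf)
  intro U y
  obtain ⟨F, e', he', hp, hl⟩ := Groth.Agent.H14AlgSt.repWith_inf
    (Groth.Agent.H14AlgSt.sourceIsoInv_locP _) h2 h3 U y
  exact ⟨F, e', he', Groth.Agent.H13AlgSp.isFiniteMor_of_univClosed_lqf F.property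
    (AlgSp.IsAlgSpace.yon_obj U) hp.2.2 hp.1 hl⟩

end Groth.Agent.S18332
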