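import Groth.Statements.S18335
import Groth.Agent.H14CohBC.SectionModuli

set_option autoImplicit false
universe u
open AlgSt

namespace Groth.Agent.S18335

open CategoryTheory AlgebraicGeometry in
/-- Let S be a locally Noetherian scheme, 𝒳 a reduced algebraic stack of finite type over S with finite
diagonal over S, Z an algebraic space separated and locally of finite type over S, and f : 𝒳 → Z a
separated surjective morphism of finite type which is bijective on isomorphism classes of points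
with values in algebraically closed fields and admits a section. Then f is a coarse moduli space for
𝒳. (The source also asks f to be universally closed and quasi-finite; its proof does not use these
two conditions, and the second follows from the others.) -/
theorem result (S : Scheme.{u}) [IsLocallyNoetherian S]
    (𝒳 : AlgSt.Cat S) (h𝒳 : AlgSt.IsAlgStack Scheme.fppfPrecoverage 𝒳)
    (hft : AlgSt.LocQ (AlgSp.LocP @LocallyOfFiniteType) (FibCat.toSelf 𝒳)) (hqc : AlgSt.IsQuasiCompact 𝒳)
    (hΔ : AlgSt.RepByAlgSpWith AlgSp.IsFiniteMor (FibCat.diag (FibCat.toSelf 𝒳)))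
    (hI : AlgSt.RepByAlgSpWith AlgSp.IsFiniteMor (FibCat.inertiaToBase (FibCat.toSelf 𝒳)))
    (hred : AlgSt.SmoothLocally (fun X => AlgebraicGeometry.IsReduced X) 𝒳)
    (Z : AlgSp.Sp S) (hZ : AlgSp.IsAlgSpace Z) (hZs : AlgSp.IsSeparatedSp Z)
    (hZt : ∀ t : Z ⟶ (AlgSp.yon S).obj (Over.mk (𝟙 S)), AlgSp.LocP @LocallyOfFiniteType t)
    (f : 𝒳 ⥤ᵇ AlgSt.ofSp Z) (hf₁ : AlgSt.IsSeparatedMor f)
    (hf₂ : AlgSt.LocQ (AlgSp.LocP @LocallyOfFiniteType) f)
    (hf₃ : AlgSt.IsQuasiCompactMor Scheme.fppfPrecoverage f) (hf₄ : AlgSt.IsSurjective f)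
    (hf₅ : AlgSt.GeomPtBij f)
    (s : AlgSt.ofSp Z ⥤ᵇ 𝒳) (e : BasedFunctor.comp s f ≅ BasedFunctor.id (AlgSt.ofSp Z)) :
    AlgSt.IsCoarseModuli f := by
  exact H14CohBC.isCoarseModuli_of_section (Z := ⟨Z, hZ⟩) h𝒳 hΔ hred f hf₅ s e

end Groth.Agent.S18335
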