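import Groth.Statements.S1834
import Groth.Agent.H3CAlg.Tame.Refine
import Mathlib

set_option autoImplicit false
universe u
open CycAlg

namespace Groth.Agent.S1834

/-- Let R be a Noetherian local ring of dimension 1 and a, b nonzerodivisors. There is a finite
extension ring R ⊆ R' with R'/R killed by a power of the maximal ideal, and nonzerodivisors t, a',
b' of R' with a = t a', b = t b' and (a', b') the unit ideal of R'. -/
theorem result (R : Type u) [CommRing R] [IsNoetherianRing R] [IsLocalRing R] (hR : ringKrullDim R = 1) (a b : R) (ha : a ∈ nonZeroDivisors R) (hb : b ∈ nonZeroDivisors R) : ∃ (R' : Type u) (_ : CommRing R') (_ : Algebra R R'), CycAlg.IsFinExt R R' (IsLocalRing.maximalIdeal R) ∧ ∃ t a' b' : R', t ∈ nonZeroDivisors R' ∧ a' ∈ nonZeroDivisors R' ∧ b' ∈ nonZeroDivisors R' ∧ algebraMap R R' a = t * a' ∧ algebraMap R R' b = t * b' ∧ Ideal.span {a', b'} = ⊤ := by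
  haveI : Module.Finite R (⊥ : Subalgebra R (FractionRing R)) :=
    Module.Finite.of_surjective (Algebra.linearMap R (⊥ : Subalgebra R (FractionRing R)))
      (fun z => by obtain ⟨z, hz⟩ := z; obtain ⟨r, rfl⟩ := Algebra.mem_bot.mp hz; exact ⟨r, rfl⟩)
  obtain ⟨C, hBC, hC, t, a', b', ha', hb', hco, htu⟩ :=
    H3CAlg.Tame.exists_common_factor hR ⊥ (algebraMap R _ a) (algebraMap R _ b) (H3CAlg.Tame.isUnit_algebraMap_total ha)
  haveI := hC
  refine ⟨C, inferInstance, inferInstance, H3CAlg.Tame.isFinExt_subalgebra hR C, t, a', b',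
    H3CAlg.Tame.mem_nonZeroDivisors_of_isUnit C htu, ?_, ?_,
    (AlgHom.commutes (Subalgebra.inclusion hBC) a).symm.trans ha',
    (AlgHom.commutes (Subalgebra.inclusion hBC) b).symm.trans hb', ?_⟩
  · exact (mul_mem_nonZeroDivisors.mp (((AlgHom.commutes (Subalgebra.inclusion hBC) a).symm.trans ha') ▸
      H3CAlg.Tame.algebraMap_mem_nonZeroDivisors C ha)).2
  · exact (mul_mem_nonZeroDivisors.mp (((AlgHom.commutes (Subalgebra.inclusion hBC) b).symm.trans hb') ▸
      H3CAlg.Tame.algebraMap_mem_nonZeroDivisors C hb)).2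
  · obtain ⟨p, r, hpr⟩ := hco
    exact (Ideal.eq_top_iff_one _).mpr (Ideal.mem_span_pair.mpr ⟨p, r, hpr⟩)

end Groth.Agent.S1834
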