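import Groth.Statements.S18340
import Groth.Agent.H9Popescu.FPColimCommAlg
import Groth.Agent.H9Popescu.EtaleSlice
import Groth.Agent.H9Popescu.Popescu
import Groth.Agent.S0600
import Groth.Agent.H05EGA4.GRingPoly
import Groth.Agent.H05EGA4.GRing
-- import your own Groth.Agent.* helpers here

set_option autoImplicit false
universe u
open ArtinApx

namespace Groth.Agent.S18340

open CategoryTheory in
/-- Let k be an algebraically closed field, A a finitely generated k-algebra with a maximal ideal m (a
k-point of Spec A), F a functor from commutative A-algebras to sets which preserves filtered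
colimits, and ξ an element of F(Â), Â the m-adic completion of A. Then for every natural number N
there are an étale A-algebra A′, a surjective A-algebra homomorphism ψ : A′ → A/m^(N+1) and an
element ξ′ of F(A′) whose image under F(ψ) is the image of ξ under F of the canonical map Â →
A/m^(N+1). (Affine form of the statement for limit-preserving functors on schemes over a finite-type
k-scheme S with a k-point s: Spec A′ is the étale neighbourhood of s, the kernel of ψ is the
(N+1)-st power of the maximal ideal of the point above s, and the equation says that ξ′ and ξ agree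
to order N.) -/
theorem result (k : Type u) [Field k] [IsAlgClosed k]
    (A : Type u) [CommRing A] [Algebra k A] [Algebra.FiniteType k A] (m : Ideal A) [m.IsMaximal]
    (F : CommAlgCat.{u} A ⥤ Type u) [Limits.PreservesFilteredColimits F]
    (ξ : F.obj (CommAlgCat.of A (AdicCompletion m A))) (N : ℕ) :
    ∃ (A' : Type u) (_ : CommRing A') (_ : Algebra A A') (_ : Algebra.Etale A A')
      (ψ : A' →ₐ[A] (A ⧸ m ^ (N + 1))) (_ : Function.Surjective ψ) (ξ' : F.obj (CommAlgCat.of A A')),
      F.map (CommAlgCat.ofHom ψ) ξ' =
        F.map (CommAlgCat.ofHom (AdicCompletion.evalₐ m (N + 1))) ξ := by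
  haveI : IsNoetherianRing A := Algebra.FiniteType.isNoetherianRing k A
  have hk : CAlg.IsGRing k := by
    haveI : IsAdicComplete (IsLocalRing.maximalIdeal k) k := by
      rw [IsLocalRing.maximalIdeal_eq_bot]; infer_instance
    exact Groth.Agent.H05EGA4.isGRing_of_isAdicComplete k
  have hG : CAlg.IsGRing A := Groth.Agent.H05EGA4.isGRing_of_finiteType (R := k) hk
  haveI : IsNoetherianRing (AdicCompletion m A) := Groth.Agent.H05EGA4.isNoetherianRing_adicCompletion A m
  obtain ⟨P, _, _, hP, g, η, rfl⟩ :=
    Groth.Agent.H9Popescu.exists_finitePresentation_of_preservesFilteredColimits F (AdicCompletion m A) ξ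
  obtain ⟨C, _, _, hC, g₁, h, hgh⟩ := Groth.Agent.H9Popescu.popescu (Groth.Agent.S0600.result A hG m) P hP g
  haveI := hC
  obtain ⟨A', _, _, hA', ψ, gC, hψ⟩ := Groth.Agent.H9Popescu.exists_etale_of_smooth
    (fun q => by
      obtain ⟨r, rfl⟩ := Ideal.Quotient.mk_surjective q
      exact ⟨r, 1, by simp, by simp⟩)
    ((AdicCompletion.evalₐ m (N + 1)).comp h)
  refine ⟨A', inferInstance, inferInstance, hA', ψ, fun q => ?_, F.map (CommAlgCat.ofHom (gC.comp g₁)) η, ?_⟩
  · obtain ⟨r, rfl⟩ := Ideal.Quotient.mk_surjective q
    exact ⟨algebraMap A A' r, ψ.commutes r⟩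
  · rw [← Functor.map_comp_apply, ← Functor.map_comp_apply]
    suffices h' : CommAlgCat.ofHom (gC.comp g₁) ≫ CommAlgCat.ofHom ψ =
        CommAlgCat.ofHom g ≫ CommAlgCat.ofHom (AdicCompletion.evalₐ m (N + 1)) by rw [h']
    refine CommAlgCat.hom_ext (AlgHom.ext fun x => ?_)
    show ψ (gC (g₁ x)) = AdicCompletion.evalₐ m (N + 1) (g x)
    rw [← hgh]
    exact AlgHom.congr_fun hψ (g₁ x)

end Groth.Agent.S18340
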