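import Groth.Statements.S18343
import Groth.Agent.H29Blow.Basic
import Groth.Agent.H13CInt.Spread

set_option autoImplicit false
universe u
open CategoryTheory CategoryTheory.Limits AlgebraicGeometry
open MultCurve

namespace Groth.Agent.S18343

open CategoryTheory CategoryTheory.Limits AlgebraicGeometry Topology

theorem mem_range_of_mem_map {R A B : Type u} [CommRing R] [CommRing A] [CommRing B]
    (φ : R →+* A) (π : A →+* B) (hπφ : Function.Surjective (π.comp φ)) (K : Ideal R)
    (hker : RingHom.ker π = K.map φ) (hsq : RingHom.ker π * RingHom.ker π = ⊥) :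
    Function.Surjective φ := by
  have key : ∀ x ∈ K.map φ, x ∈ φ.range := by
    intro x hx
    refine (show x ∈ φ.range ∧ x ∈ RingHom.ker π from ?_).1
    induction hx using Submodule.span_induction with
    | mem y hy =>
      obtain ⟨j, hj, rfl⟩ := hy
      exact ⟨⟨j, rfl⟩, by rw [hker]; exact Ideal.mem_map_of_mem _ hj⟩
    | zero => exact ⟨zero_mem _, zero_mem _⟩
    | add y z _ _ hy hz => exact ⟨add_mem hy.1 hz.1, add_mem hy.2 hz.2⟩
    | smul a y _ hy =>
      refine ⟨?_, Ideal.mul_mem_left _ a hy.2⟩
      obtain ⟨t, ht⟩ := hπφ (π a)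
      have h0 : (a - φ t) * y = 0 := by
        have := Ideal.mul_mem_mul (show a - φ t ∈ RingHom.ker π by
          rw [RingHom.mem_ker, map_sub, ← RingHom.comp_apply, ht, sub_self]) hy.2
        rwa [hsq] at this
      rw [smul_eq_mul, show a * y = φ t * y by linear_combination h0]
      exact mul_mem ⟨t, rfl⟩ hy.1
  intro a
  obtain ⟨t, ht⟩ := hπφ (π a)
  obtain ⟨t', ht'⟩ := key (a - φ t) (by
    rw [← hker, RingHom.mem_ker, map_sub, ← RingHom.comp_apply, ht, sub_self])
  exact ⟨t + t', by rw [map_add, ht']; ring⟩

/-- Suppose C is a ribbon on the reduced scheme D via the closed immersion i : D ⟶ C (meaning the ideal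
of D squares to zero and is locally generated by a single section z whose annihilator lies in (z)),
and consider an arbitrary morphism of schemes f : C ⟶ X. The morphism f is a closed immersion
exactly when two things hold: the composite i ≫ f, i.e. f restricted to D, is a closed immersion,
and pulling back along f the ideal of the scheme-theoretic image of D in X yields the entire ideal
of D in C. This second requirement amounts to surjectivity of the map α_f that sends the pullback of
the conormal sheaf of the image of D in X onto the conormal bundle of D in C. (The statement is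
given for arbitrary schemes and any morphism f; the published version assumes all schemes are of
finite type over a field and D is connected, but the proof relies on neither assumption.) -/
theorem result (D C X : Scheme.{u}) (i : D ⟶ C)
    (hR : MultCurve.IsRibbon i) (f : C ⟶ X) :
    IsClosedImmersion f ↔ (IsClosedImmersion (i ≫ f) ∧ (i ≫ f).ker.comap f = i.ker) := by
  obtain ⟨⟨hci, hsq, -⟩, -⟩ := hR
  haveI := hci
  constructor
  · intro hf
    haveI := hf
    refine ⟨inferInstance, ?_⟩
    have hP : IsPullback i (𝟙 D) f (i ≫ f) := IsPullback.mk ⟨by simp⟩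
      ⟨PullbackCone.IsLimit.mk _ (fun s => s.snd)
        (fun s => by rw [← cancel_mono f, Category.assoc]; exact s.condition.symm)
        (fun s => Category.comp_id _)
        (fun s m _ hm => by simpa using hm)⟩
    rw [← Scheme.IdealSheafData.ker_fst_of_isClosedImmersion (i ≫ f) f,
      ← Scheme.Hom.ker_comp_of_isIso hP.isoPullback.hom (pullback.fst f (i ≫ f)), hP.isoPullback_hom_fst]
  · rintro ⟨hif, hker⟩
    haveI := hif
    have hsurj : Function.Surjective i := by
      intro c
      have h1 : i.ker.support = ⊤ := by
        rw [← Scheme.IdealSheafData.support_pow i.ker 2 two_ne_zero, hsq, Scheme.IdealSheafData.support_bot]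
      have h2 : c ∈ i.ker.support := by rw [h1]; trivial
      rw [← SetLike.mem_coe, Scheme.Hom.support_ker] at h2
      have h3 : c ∈ closure (Set.range i) := h2
      rwa [i.isClosedEmbedding.isClosed_range.closure_eq] at h3
    have hemb : IsClosedEmbedding f := by
      let e := (i.isClosedEmbedding.isEmbedding.toHomeomorphOfSurjective hsurj)
      have h : (f : C → X) = ((i ≫ f : D ⟶ X) : D → X) ∘ e.symm := by
        funext c
        obtain ⟨d, rfl⟩ := hsurj c
        simp only [Function.comp_apply]
        rw [show e.symm (i d) = d from e.symm_apply_apply d]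
        rfl
      rw [h]
      exact (i ≫ f).isClosedEmbedding.comp e.symm.isClosedEmbedding
    haveI : SurjectiveOnStalks f := ⟨fun c => by
      obtain ⟨d, rfl⟩ := hsurj c
      obtain ⟨V, hV, hxV, -⟩ := exists_isAffineOpen_mem_and_subset (TopologicalSpace.Opens.mem_top (f (i d)))
      obtain ⟨U, hU, hxU, hUV⟩ := exists_isAffineOpen_mem_and_subset (U := f ⁻¹ᵁ V) (x := i d) hxV
      have hid : RingHom.ker (i.stalkMap d).hom =
          (((i ≫ f).ker.ideal ⟨V, hV⟩).map (X.presheaf.germ V (f (i d)) hxV).hom).map (f.stalkMap (i d)).hom := by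
        rw [H13CInt.ker_stalkMap i d ⟨U, hU⟩ hxU, ← hker,
          H29Blow.ideal_comap _ f ⟨V, hV⟩ ⟨U, hU⟩ hUV, Ideal.map_map, Ideal.map_map,
          ← CommRingCat.hom_comp, ← CommRingCat.hom_comp]
        congr 1
        refine congrArg CommRingCat.Hom.hom ?_
        rw [Scheme.Hom.appLE, Category.assoc, TopCat.Presheaf.germ_res, Scheme.Hom.germ_stalkMap]
      refine mem_range_of_mem_map (f.stalkMap (i d)).hom (i.stalkMap d).hom ?_ _ hid ?_
      · rw [← CommRingCat.hom_comp, ← Scheme.Hom.stalkMap_comp]
        exact (i ≫ f).stalkMap_surjective d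
      · rw [H13CInt.ker_stalkMap i d ⟨U, hU⟩ hxU, ← Ideal.map_mul]
        have h2 : (i.ker ^ 2).ideal ⟨U, hU⟩ = i.ker.ideal ⟨U, hU⟩ * i.ker.ideal ⟨U, hU⟩ := pow_two _
        rw [← h2, hsq]
        exact Ideal.map_bot⟩
    exact ⟨hemb⟩

end Groth.Agent.S18343
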