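import Groth.Statements.S18344
import Groth.Agent.H29Omega.ConormalLocFree
import Groth.Agent.H29Fitt.PullbackQCoh
import Groth.Agent.H11Ample.Basic
import Groth.Agent.H11Tilde.AffineInvertible

set_option autoImplicit false
universe u
open CategoryTheory CategoryTheory.Limits AlgebraicGeometry
open MultCurve

namespace Groth.Agent.S18344

open CategoryTheory CategoryTheory.Limits AlgebraicGeometry TopologicalSpace

/-- A global basis over an affine open generates every stalk. -/
theorem isGen_of_bijective {X : Scheme.{u}} (M : X.Modules) (hM : Coh.IsQCoh M) {U : X.Opens} (hU : IsAffineOpen U)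
    (e : Γ(M, U)) (he : Function.Bijective fun r : Γ(X, U) => r • e) : H11Tilde.IsGen M e := by
  intro y hy
  letI := TopCat.Presheaf.algebra_section_stalk X.presheaf (⟨y, hy⟩ : U)
  letI := Module.compHom (M.presheaf.stalk y) (algebraMap Γ(X, U) (X.presheaf.stalk y))
  haveI : IsScalarTower Γ(X, U) (X.presheaf.stalk y) (M.presheaf.stalk y) :=
    .of_algebraMap_smul fun _ _ => rfl
  haveI := H29Fitt.isLocalizedModule_germLin M hM hU ⟨y, hy⟩
  haveI : IsLocalization.AtPrime (X.presheaf.stalk y) (hU.primeIdealOf ⟨y, hy⟩).asIdeal :=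
    hU.isLocalization_stalk ⟨y, hy⟩
  have hg : H11Tilde.GenOn (1 : Γ(X, U)) e := ⟨fun q => by
      obtain ⟨a, ha⟩ := he.2 q
      exact ⟨0, a, by rw [pow_zero, one_smul]; exact ha.symm⟩,
    fun a ha => ⟨0, by rw [pow_zero, one_mul]; exact he.1 (ha.trans (zero_smul _ e).symm)⟩⟩
  exact hg.bijective_lift (hU.primeIdealOf ⟨y, hy⟩).asIdeal.primeCompl (one_mem _) (H29Fitt.germLin M ⟨y, hy⟩)

/-- Let C be a scheme and I ⊂ O_C a quasi-coherent ideal with I² = 0, and let D ⊂ C be the closed
subscheme it defines. Then the following are equivalent: (a) every point of C has an affine open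
neighbourhood U on which I(U) is generated by one section z such that every a with a z = 0 lies in
I(U); (b) the conormal sheaf of D in C (the ideal I regarded as an O_D-module, which makes sense
because I² = 0) is an invertible O_D-module. This identifies the line-bundle clause in the
definition of a ribbon with the section-level principal-of-order-two condition. -/
theorem result (C : Scheme.{u}) (I : C.IdealSheafData)
    (hI : I ^ 2 = ⊥) :
    MultCurve.IsPrincipalOfOrder I 2 ↔ PicF.IsInvertible (Omega.conormal I.subschemeι) := by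
  let ι := I.subschemeι
  have hk : ι.ker = I := I.ker_subschemeι
  have hsurj : Function.Surjective ι := by
    intro c
    have h1 : I.support = ⊤ := by
      rw [← Scheme.IdealSheafData.support_pow I 2 two_ne_zero, hI, Scheme.IdealSheafData.support_bot]
    have h2 : c ∈ (I.support : Set C) := by rw [h1]; trivial
    rw [← Scheme.IdealSheafData.range_subschemeι] at h2
    exact h2
  have hthick : MoreMor.IsFirstOrderThickening ι :=
    ⟨⟨inferInstance, ⟨hsurj⟩⟩, by rw [hk, ← pow_two, hI]⟩
  have hq : Coh.IsQCoh (Omega.conormal ι) :=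
    H29Fitt.isQCoh_pullback ι _ (H17.OmegaLocal.isQuasicoherent_idealMod ι.ker)
  have hker : ∀ U : C.affineOpens, RingHom.ker (ι.app U.1).hom = I.ideal U := fun U =>
    I.ker_subschemeι_app U
  constructor
  · intro h
    refine H11Ample.isInvertible_of_gen fun d => ?_
    obtain ⟨U, hdU, z, hz, hann⟩ := h (ι d)
    obtain ⟨e, he, hes⟩ := H29Omega.exists_conormal_sections hthick U.2
    have hzk : z ∈ RingHom.ker (ι.app U.1).hom := by
      rw [hker, hz]
      exact Ideal.subset_span rfl
    refine ⟨ι ⁻¹ᵁ U.1, e ⟨z, hzk⟩, hdU, isGen_of_bijective _ hq (U.2.preimage ι) _ ⟨?_, fun n => ?_⟩⟩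
    · intro r r' hr
      obtain ⟨a, rfl⟩ := I.subschemeι_app_surjective U r
      obtain ⟨b, rfl⟩ := I.subschemeι_app_surjective U r'
      have h0 := he.1 ((hes a ⟨z, hzk⟩).trans (hr.trans (hes b ⟨z, hzk⟩).symm))
      have h1 : a * z = b * z := congrArg Subtype.val h0
      have h2 : a - b ∈ RingHom.ker (ι.app U.1).hom := by
        rw [hker]
        exact hann _ (by rw [Nat.add_one_sub_one, pow_one, sub_mul, h1, sub_self])
      rw [RingHom.mem_ker, map_sub, sub_eq_zero] at h2
      exact h2
    · obtain ⟨⟨w, hw⟩, rfl⟩ := he.2 n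
      have hw' : w ∈ Ideal.span {z} := by rw [← hz, ← hker]; exact hw
      obtain ⟨a, ha⟩ := Ideal.mem_span_singleton'.1 hw'
      exact ⟨ι.app U.1 a, (hes a ⟨z, hzk⟩).symm.trans (congrArg e (Subtype.ext ha))⟩
  · intro h x
    obtain ⟨d, rfl⟩ := hsurj x
    obtain ⟨V, g, hdV, hg⟩ := H11Ample.exists_gen h d
    obtain ⟨W, hWo, hW⟩ := ι.isClosedEmbedding.isInducing.isOpen_iff.1 V.isOpen
    have hxW : ι d ∈ W := by
      have : d ∈ ι ⁻¹' W := hW.ge hdV
      exact this
    obtain ⟨U, hU, hxU, hUW⟩ := exists_isAffineOpen_mem_and_subset (U := (⟨W, hWo⟩ : C.Opens)) hxW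
    have hle : ι ⁻¹ᵁ U ≤ V := fun y hy => hW.le (hUW hy)
    obtain ⟨e, he, hes⟩ := H29Omega.exists_conormal_sections hthick hU
    have hb := hg.bijective hle
    obtain ⟨⟨z, hzk⟩, hz⟩ := he.2 ((Omega.conormal ι).presheaf.map (homOfLE hle).op g)
    refine ⟨⟨U, hU⟩, hxU, z, le_antisymm (fun w hw => ?_) ?_, fun a ha => ?_⟩
    · rw [← hker] at hw
      obtain ⟨r, hr⟩ := hb.2 (e ⟨w, hw⟩)
      obtain ⟨a, rfl⟩ := I.subschemeι_app_surjective ⟨U, hU⟩ r
      have h0 : a • (⟨z, hzk⟩ : RingHom.ker (ι.app U).hom) = ⟨w, hw⟩ := he.1 (by rw [hes, hz]; exact hr)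
      exact Ideal.mem_span_singleton'.2 ⟨a, congrArg Subtype.val h0⟩
    · rw [Ideal.span_singleton_le_iff_mem, ← hker]
      exact hzk
    · rw [← hker, RingHom.mem_ker]
      apply hb.1
      have h0 : a • (⟨z, hzk⟩ : RingHom.ker (ι.app U).hom) = 0 := Subtype.ext (by
        rw [Nat.add_one_sub_one, pow_one] at ha
        exact ha)
      have h1 := congrArg e h0
      rw [hes, hz, map_zero] at h1
      exact h1.trans (zero_smul _ _).symm

end Groth.Agent.S18344
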