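import Groth.Statements.S1835
import Groth.Agent.H22Alg.SemilocalGlue

set_option autoImplicit false
universe u
open CycAlg

namespace Groth.Agent.S1835

/-- Let R be a Noetherian local ring of dimension 1, a a nonzerodivisor in the maximal ideal and b a
nonzerodivisor. There is an integer n such that whenever b = a^m c in some finite extension ring R ⊆
R', one has m ≤ n. -/
theorem result (R : Type u) [CommRing R] [IsNoetherianRing R] [IsLocalRing R] (hR : ringKrullDim R = 1) (a b : R) (ha : a ∈ nonZeroDivisors R) (ham : a ∈ IsLocalRing.maximalIdeal R) (hb : b ∈ nonZeroDivisors R) : ∃ n : ℕ, ∀ (R' : Type u) [CommRing R'] [Algebra R R'], Function.Injective (algebraMap R R') → Module.Finite R R' → ∀ (m : ℕ) (c : R'), algebraMap R R' b = algebraMap R R' a ^ m * c → m ≤ n := by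
  obtain ⟨p, hp⟩ : (minimalPrimes R).Nonempty := by
    obtain ⟨p, hp, -⟩ := Ideal.exists_minimalPrimes_le (bot_le : (⊥ : Ideal R) ≤ IsLocalRing.maximalIdeal R)
    exact ⟨p, hp⟩
  have : p.IsPrime := hp.1.1
  have hnot : ∀ c ∈ nonZeroDivisors R, Ideal.Quotient.mk p c ≠ 0 := fun c hc h =>
    Set.disjoint_left.mp (Ideal.disjoint_nonZeroDivisors_of_mem_minimalPrimes hp) (Ideal.Quotient.eq_zero_iff_mem.mp h) hc
  have hk : Ring.KrullDimLE 1 (R ⧸ p) :=
    (Ring.krullDimLE_iff (n := 1)).mpr ((ringKrullDim_quotient_le p).trans (by rw [hR]; rfl))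
  let K := FractionRing (R ⧸ p)
  have := Groth.Agent.H22Alg.isDedekindDomain_integralClosure (B := R ⧸ p) (K := K)
  have : IsFractionRing (integralClosure (R ⧸ p) K) K := integralClosure.isFractionRing_of_finite_extension K K
  have hloc : IsLocalRing (R ⧸ p) := IsLocalRing.of_surjective' _ Ideal.Quotient.mk_surjective
  have hnf : ¬ IsField (R ⧸ p) := fun h => by
    have hm : p.IsMaximal := Ideal.Quotient.maximal_of_isField p h
    exact hnot a ha (Ideal.Quotient.eq_zero_iff_mem.mpr (IsLocalRing.eq_maximalIdeal hm ▸ ham))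
  have hinj : Function.Injective (algebraMap (R ⧸ p) (integralClosure (R ⧸ p) K)) := fun x y h =>
    IsFractionRing.injective (R ⧸ p) K (congrArg (fun z : integralClosure (R ⧸ p) K => (z : K)) h)
  obtain ⟨M, hM, hMm⟩ := Ideal.exists_ideal_over_maximal_of_isIntegral (S := integralClosure (R ⧸ p) K)
    (IsLocalRing.maximalIdeal (R ⧸ p)) (by rw [(RingHom.injective_iff_ker_eq_bot _).mp hinj]; exact bot_le)
  have hM0 : M ≠ ⊥ := fun e => hnf ((isField_of_isIntegral_of_isField (R := R ⧸ p) hinj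
    (Ring.isField_iff_maximal_bot.mpr (e ▸ hM))))
  let P : IsDedekindDomain.HeightOneSpectrum (integralClosure (R ⧸ p) K) := ⟨M, hM.isPrime, hM0⟩
  let φ : R →+* K := (algebraMap (R ⧸ p) K).comp (Ideal.Quotient.mk p)
  have hφ0 : ∀ c ∈ nonZeroDivisors R, φ c ≠ 0 := fun c hc =>
    (map_ne_zero_iff _ (IsFractionRing.injective (R ⧸ p) K)).mpr (hnot c hc)
  have hva : P.valuation K (φ a) < 1 := by
    refine (P.valuation_lt_one_iff_mem (algebraMap (R ⧸ p) (integralClosure (R ⧸ p) K) (Ideal.Quotient.mk p a))).mpr ?_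
    show _ ∈ M
    rw [← Ideal.mem_comap, hMm]
    intro hu
    obtain ⟨w, hw⟩ := hu.exists_left_inv
    obtain ⟨w, rfl⟩ := Ideal.Quotient.mk_surjective w
    rw [← map_mul, ← map_one (Ideal.Quotient.mk p), Ideal.Quotient.eq] at hw
    have h1 : w * a - 1 ∈ IsLocalRing.maximalIdeal R := IsLocalRing.le_maximalIdeal (Ideal.IsPrime.ne_top inferInstance) hw
    have h2 := (IsLocalRing.maximalIdeal R).sub_mem ((IsLocalRing.maximalIdeal R).mul_mem_left w ham) h1
    rw [sub_sub_cancel] at h2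
    exact (IsLocalRing.maximalIdeal.isMaximal R).ne_top ((Ideal.eq_top_iff_one _).mpr h2)
  have hva0 : P.valuation K (φ a) ≠ 0 := (Valuation.ne_zero_iff _).mpr (hφ0 a ha)
  have hvb0 : P.valuation K (φ b) ≠ 0 := (Valuation.ne_zero_iff _).mpr (hφ0 b hb)
  obtain ⟨n, hn⟩ := Groth.Agent.H22Alg.exists_pow_gt (h := (P.valuation K (φ b))⁻¹)
    ((one_lt_inv₀ (zero_lt_iff.mpr hva0)).mpr hva)
  refine ⟨n, fun R' _ _ hinj' hfin m c hc => ?_⟩
  by_contra hmn
  have h1 := hn m (by omega)
  rw [inv_pow, inv_lt_inv₀ (zero_lt_iff.mpr hvb0) (zero_lt_iff.mpr (pow_ne_zero _ hva0))] at h1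
  refine absurd h1 (not_lt.mpr ?_)
  set x : K := φ b / φ a ^ m
  suffices hx : IsIntegral (R ⧸ p) x by
    have h := P.valuation_le_one (⟨x, hx⟩ : integralClosure (R ⧸ p) K) (K := K)
    have e : algebraMap (integralClosure (R ⧸ p) K) K ⟨x, hx⟩ = x := rfl
    change P.valuation K (φ b / φ a ^ m) ≤ 1 at h
    rw [map_div₀, map_pow] at h
    exact (div_le_one₀ (zero_lt_iff.mpr (pow_ne_zero _ hva0))).mp h
  have : Module.Finite R R' := hfin
  obtain ⟨q, -, hqp, hqc⟩ := Ideal.exists_ideal_over_prime_of_isIntegral p (⊥ : Ideal R')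
    (by rw [← RingHom.ker_eq_comap_bot, (RingHom.injective_iff_ker_eq_bot _).mp hinj']; exact bot_le)
  have : q.IsPrime := hqp
  let ψ : (R ⧸ p) →+* R' ⧸ q := Ideal.quotientMap q (algebraMap R R') hqc.ge
  have hψ : Function.Injective ψ := Ideal.quotientMap_injective' hqc.le
  let L := FractionRing (R' ⧸ q)
  let ι : K →+* L := IsFractionRing.lift (g := (algebraMap (R' ⧸ q) L).comp ψ)
    ((IsFractionRing.injective (R' ⧸ q) L).comp hψ)
  have hι : ∀ r : R, ι (φ r) = algebraMap (R' ⧸ q) L (Ideal.Quotient.mk q (algebraMap R R' r)) := fun r =>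
    IsFractionRing.lift_algebraMap _ _
  have hix : ι x = algebraMap (R' ⧸ q) L (Ideal.Quotient.mk q c) := by
    rw [map_div₀, map_pow, hι, hι, hc, map_mul, map_pow, map_mul, map_pow, mul_div_cancel_left₀]
    exact pow_ne_zero _ (hι a ▸ (map_ne_zero ι).mpr (hφ0 a ha))
  have hint : IsIntegral R c := Algebra.IsIntegral.isIntegral c
  obtain ⟨f, hf, hf0⟩ := hint
  refine ⟨f.map (Ideal.Quotient.mk p), hf.map _, ι.injective ?_⟩
  rw [map_zero, Polynomial.eval₂_map, Polynomial.hom_eval₂, hix]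
  have h' := congrArg ((algebraMap (R' ⧸ q) L).comp (Ideal.Quotient.mk q)) hf0
  rw [map_zero, Polynomial.hom_eval₂] at h'
  rw [show ι.comp ((algebraMap (R ⧸ p) K).comp (Ideal.Quotient.mk p)) =
    ((algebraMap (R' ⧸ q) L).comp (Ideal.Quotient.mk q)).comp (algebraMap R R') from RingHom.ext hι]
  exact h'

end Groth.Agent.S1835
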