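import Groth.Statements.S18350
import Groth.Agent.H4RSH.SerreTwist

set_option autoImplicit false
set_option synthInstance.maxHeartbeats 400000
set_option maxHeartbeats 1000000
set_option linter.style.haveILetI false
universe u
open CategoryTheory CategoryTheory.Limits AlgebraicGeometry
attribute [local instance] HasDerivedCategory.standard
open MultCurve

namespace Groth.Agent.S18350

/-- Let k be a field and X a projective primitive multiple curve of multiplicity n ≥ 1 over k: a proper
k-scheme with a closed immersion i : C ⟶ X of a smooth integral curve C whose ideal I satisfies Iⁿ =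
0 and is locally generated by one section z with the annihilator of z^(n-1) contained in (z). Let
ω_X be the dualizing module of X over k (the cohomology sheaf in degree -1 of f^! O for the
structure morphism f, with the existence of Rf_* on D_QCoh and of its right adjoint carried as
hypotheses), assumed invertible, and let F be a coherent reflexive O_X-module (the canonical map
from F to its double dual is an isomorphism). Then dim_k H⁰(X, F) = dim_k H¹(X, F^∨ ⊗ ω_X) and dim_k
H¹(X, F) = dim_k H⁰(X, F^∨ ⊗ ω_X), where F^∨ = Hom(F, O_X) is the dual sheaf. (The published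
statement gives functorial isomorphisms H^i(X, F) ≅ H^(1-i)(X, F^∨ ⊗ ω_X)^* for i = 0, 1; this row
records the equality of dimensions. Invertibility of ω_X, asserted in the published text because X
is a local complete intersection, is carried as a hypothesis. Stated over an arbitrary field; the
published setting is the complex numbers.) -/
theorem result (k : Type u) [Field k] (C X : Scheme.{u})
    [X.Over (Spec (CommRingCat.of k))] [IsProper (X ↘ (Spec (CommRingCat.of k)))] (i : C ⟶ X)
    (n : ℕ) (hn : 1 ≤ n) (h : MultCurve.IsPrimitive k i (X ↘ (Spec (CommRingCat.of k))) n)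
    [DCoh.HasRpush (X ↘ (Spec (CommRingCat.of k)))] (hq : DCoh.RpushPreservesQCoh (X ↘ (Spec (CommRingCat.of k))))
    [DCoh.HasShriek (X ↘ (Spec (CommRingCat.of k))) hq]
    (OY : DCoh.DQCoh (Spec (CommRingCat.of k)))
    (hOY : Nonempty (OY.obj ≅ DCoh.inD (Spec (CommRingCat.of k)) (Coh.structureModule (Spec (CommRingCat.of k)))))
    (hω : PicF.IsInvertible (DCoh.dualizingMod (X ↘ (Spec (CommRingCat.of k))) hq OY 1))
    (F : X.Modules) (hF : Coh.IsCoh F) (hFr : RefHull.IsReflexive F) :
    Module.finrank k (Coh.HH X F 0) =
        Module.finrank k (Coh.HH X (CohB1.tensorMod (RefHull.dual F) (DCoh.dualizingMod (X ↘ (Spec (CommRingCat.of k))) hq OY 1)) 1) ∧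
      Module.finrank k (Coh.HH X F 1) =
        Module.finrank k (Coh.HH X (CohB1.tensorMod (RefHull.dual F) (DCoh.dualizingMod (X ↘ (Spec (CommRingCat.of k))) hq OY 1)) 0) := by
  classical
  haveI := H4RepDual.hasExtModules X
  let fX := X ↘ Spec (CommRingCat.of k)
  let ω := DCoh.dualizingMod fX hq OY 1
  have hdim : topologicalKrullDim X = 1 := H4RSH.SerreTwist.topologicalKrullDim_le_one hn h
  have adj := DCoh.shriekAdj fX hq
  obtain ⟨hc, hN, hE, hcoh, -⟩ := H4RSH.ProperLocal.exists_setup_field fX adj OY hOY
  haveI := hc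
  haveI := hN
  haveI : AlgebraicGeometry.IsNoetherian X := {}
  have hωc : Coh.IsCoh ω := hcoh _
  obtain ⟨t, ht⟩ := H4RSH.SerreDual.exists_trace adj OY hOY (d := 1) (le_of_eq hdim)
  have hdF : Coh.IsCoh (RefHull.dual F) := H29Ref.isCoh_homSh F _ hF (H10Coh.isCoh_structureModule' X)
  obtain ⟨a⟩ := H4RSH.SerreTwist.nonempty_homSh_iso hω F
  obtain ⟨b⟩ := H4RSH.SerreTwist.nonempty_homSh_dual_iso hω F
  haveI : IsIso (RefHull.bidualMap F) := hFr
  refine ⟨?_, ?_⟩
  · rw [H4RSH.CurveBidual.finrank_H1_eq t ht (H11Ample.isCoh_tensor hdF hω) hωc]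
    exact H22Alg.CurveAmple.finrank_HH_congr (k := k) (asIso (RefHull.bidualMap F) ≪≫ b.symm) 0
  · rw [H4RSH.CurveBidual.finrank_H1_eq t ht hF hωc]
    exact H22Alg.CurveAmple.finrank_HH_congr (k := k) a 0

end Groth.Agent.S18350
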