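import Groth.Statements.S18352
import Groth.Agent.H11Curve.NormalTotal
import Groth.Agent.H19Grp.RegularSmooth
import Groth.Agent.H05EGA4.CompleteNormalization
import Mathlib.AlgebraicGeometry.Geometrically.Reduced

set_option autoImplicit false
universe u
open Curv2

namespace Groth.Agent.S18352

open CategoryTheory AlgebraicGeometry in
/-- Let S be an integral Noetherian scheme all of whose local rings are integrally closed domains, and
let f : C → S be a flat, proper, locally finitely presented morphism of schemes whose fibres are
geometrically reduced and geometrically connected, all of Krull dimension one, and whose fibre over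
the generic point of S is smooth over the residue field there. Then every local ring of C is an
integrally closed domain. The total space C is a scheme here; the source also allows an algebraic
space. -/
theorem result (S C : Scheme.{u}) [IsIntegral S] [IsNoetherian S]
    (hS : Pi1.IsNormalScheme S) (f : C ⟶ S) [Flat f] [IsProper f] [LocallyOfFinitePresentation f]
    [GeometricallyReduced f] [GeometricallyConnected f]
    (hdim : ∀ s : ↥S, topologicalKrullDim ↥(f.fiber s) = 1)
    (hsm : Smooth (f.fiberToSpecResidueField (genericPoint ↥S))) :
    Pi1.IsNormalScheme C := by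
  haveI : IsLocallyNoetherian C := LocallyOfFiniteType.isLocallyNoetherian f
  refine Groth.Agent.H11Curve.NormalTotal.isNormalScheme_of_flat_reduced_fibres f hS (fun x => inferInstance)
    fun x hx => ?_
  have hgenpt : f x = genericPoint ↥S := by
    rw [ringKrullDim_stalk_eq_coheight] at hx
    have hmax : IsMax (f x) := Order.coheight_eq_zero.mp (by exact_mod_cast hx)
    have hg : genericPoint ↥S ⤳ f x := genericPoint_specializes _
    have h' : f x ⤳ genericPoint ↥S := hmax (b := genericPoint ↥S) hg
    exact (h'.antisymm hg).eq
  haveI hs : Smooth (f.fiberToSpecResidueField (f x)) := by rw [hgenpt]; exact hsm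
  haveI hreg : IsRegularLocalRing ((f.fiber (f x)).presheaf.stalk (f.asFiber x)) :=
    Groth.Agent.H19Grp.isRegularLocalRing_stalk_of_smooth (k := S.residueField (f x))
      (f.fiberToSpecResidueField (f x)) _
  have hfield : IsField (S.presheaf.stalk (f x)) := by
    haveI := (hS (f x)).1
    haveI : Ring.KrullDimLE 0 (S.presheaf.stalk (f x)) := Ring.krullDimLE_iff.2 hx.le
    exact Ring.KrullDimLE.isField_of_isReduced
  have hinj : Function.Injective (Groth.Agent.H8Props.FibreStalk.toFibre f x (f x) _ (f.fiberι_asFiber x)).hom := by
    rw [RingHom.injective_iff_ker_eq_bot, Groth.Agent.H8Props.FibreStalk.ker_toFibre,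
      (IsLocalRing.isField_iff_maximalIdeal_eq).1 hfield, Ideal.map_bot]
  let e := RingEquiv.ofBijective _ ⟨hinj,
    Groth.Agent.H8Props.FibreStalk.toFibre_surjective f x (f x) _ (f.fiberι_asFiber x)⟩
  haveI : IsRegularLocalRing (C.presheaf.stalk x) := IsRegularLocalRing.of_ringEquiv e.symm
  exact ⟨Groth.Agent.H4Depth.isDomain_of_isRegularLocalRing _,
    Groth.Agent.H05EGA4.isIntegrallyClosed_of_isRegularLocalRing _⟩

end Groth.Agent.S18352
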