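import Groth.Statements.S18353
import Groth.Agent.S18352
import Groth.Agent.S2422
import Groth.Agent.H29DoubleCover.Connected
import Groth.Agent.H13Desc.GenericInj

set_option autoImplicit false
universe u
open Curv2

namespace Groth.Agent.S18353

open CategoryTheory AlgebraicGeometry in
/-- Let S be an integral Noetherian scheme all of whose local rings are integrally closed domains, and
let f₁ : C₁ → S and f₂ : C₂ → S be flat, proper, locally finitely presented morphisms of schemes
whose fibres are geometrically reduced and geometrically connected, all of Krull dimension one, and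
whose fibres over the generic point of S are smooth. Let φ : C₁ → C₂ be a morphism over S which is
birational, in the sense that it restricts to an isomorphism over some dense open subset of C₂. Then
the canonical map O_{C₂} → φ_* O_{C₁} is an isomorphism: for every open V of C₂ the pull-back map
from sections over V to sections over φ⁻¹(V) is an isomorphism of rings. The total spaces are
schemes here; the source also allows algebraic spaces. -/
theorem result (S C₁ C₂ : Scheme.{u}) [IsIntegral S]
    [IsNoetherian S] (hS : Pi1.IsNormalScheme S) (f₁ : C₁ ⟶ S) (f₂ : C₂ ⟶ S)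
    [Flat f₁] [IsProper f₁] [LocallyOfFinitePresentation f₁] [GeometricallyReduced f₁] [GeometricallyConnected f₁]
    [Flat f₂] [IsProper f₂] [LocallyOfFinitePresentation f₂] [GeometricallyReduced f₂] [GeometricallyConnected f₂]
    (hdim₁ : ∀ s : ↥S, topologicalKrullDim ↥(f₁.fiber s) = 1) (hdim₂ : ∀ s : ↥S, topologicalKrullDim ↥(f₂.fiber s) = 1)
    (hsm₁ : Smooth (f₁.fiberToSpecResidueField (genericPoint ↥S)))
    (hsm₂ : Smooth (f₂.fiberToSpecResidueField (genericPoint ↥S)))
    (φ : C₁ ⟶ C₂) (hφ : φ ≫ f₂ = f₁) (hbir : ∃ U : C₂.Opens, Dense (U : Set ↥C₂) ∧ IsIso (φ ∣_ U)) :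
    ∀ V : C₂.Opens, IsIso (φ.app V) := by
  have hN₁ : Pi1.IsNormalScheme C₁ := Groth.Agent.S18352.result S C₁ hS f₁ hdim₁ hsm₁
  have hN₂ : Pi1.IsNormalScheme C₂ := Groth.Agent.S18352.result S C₂ hS f₂ hdim₂ hsm₂
  haveI : IsLocallyNoetherian C₁ := LocallyOfFiniteType.isLocallyNoetherian f₁
  haveI : IsLocallyNoetherian C₂ := LocallyOfFiniteType.isLocallyNoetherian f₂
  have hint : ∀ (C : Scheme.{u}) (f : C ⟶ S) [Flat f] [GeometricallyConnected f],
      Pi1.IsNormalScheme C → Smooth (f.fiberToSpecResidueField (genericPoint ↥S)) → IsIntegral C := by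
    intro C f _ _ hN hsm
    haveI := hsm
    haveI : IsIntegral (f.fiber (genericPoint ↥S)) :=
      Groth.Agent.H29DoubleCover.isIntegral_of_smooth_connected (k := S.residueField (genericPoint ↥S))
        (f.fiberToSpecResidueField (genericPoint ↥S))
    haveI : ∀ x : C, _root_.IsReduced (C.presheaf.stalk x) := fun x => by
      haveI := (hN x).1
      infer_instance
    haveI : IsReduced C := isReduced_of_isReduced_stalk C
    let ξ := f.fiberι (genericPoint ↥S) (genericPoint ↥(f.fiber (genericPoint ↥S)))
    have hall : ∀ z : C, ξ ⤳ z := by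
      intro z
      obtain ⟨z', hz', hfz'⟩ := Groth.Agent.H13Desc.flat_generalizing f z (genericPoint ↥S) (genericPoint_specializes _)
      obtain ⟨w, rfl⟩ : z' ∈ Set.range (f.fiberι (genericPoint ↥S)) := by
        rw [f.range_fiberι]
        exact hfz'
      exact ((genericPoint_specializes w).map (f.fiberι (genericPoint ↥S)).continuous).trans hz'
    haveI : IrreducibleSpace C := by
      have h : closure ({ξ} : Set C) = Set.univ :=
        Set.eq_univ_of_forall fun z => specializes_iff_mem_closure.1 (hall z)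
      haveI : PreirreducibleSpace C := ⟨h ▸ isIrreducible_singleton.closure.isPreirreducible⟩
      exact IrreducibleSpace.mk (toNonempty := ⟨ξ⟩)
    exact isIntegral_of_irreducibleSpace_of_isReduced C
  haveI := hint C₁ f₁ hN₁ hsm₁
  haveI := hint C₂ f₂ hN₂ hsm₂
  haveI : IsProper φ := by
    haveI : IsProper (φ ≫ f₂) := by rw [hφ]; infer_instance
    exact IsProper.of_comp φ f₂
  obtain ⟨U, hUd, hU⟩ := hbir
  haveI := hU
  have hUne : (U : Set C₂).Nonempty := hUd.nonempty
  have hη₂ : genericPoint ↥C₂ ∈ U :=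
    ((genericPoint_spec ↥C₂).mem_open_set_iff U.isOpen).mpr (by simpa using hUne)
  obtain ⟨w, hw⟩ := (φ ∣_ U).homeomorph.surjective ⟨genericPoint ↥C₂, hη₂⟩
  have hφw : φ w.1 = genericPoint ↥C₂ := (morphismRestrict_base_coe φ U w).symm.trans (congrArg Subtype.val hw)
  have hη₁ : genericPoint ↥C₁ ∈ φ ⁻¹ᵁ U :=
    ((genericPoint_spec ↥C₁).mem_open_set_iff (φ ⁻¹ᵁ U).isOpen).mpr ⟨w.1, trivial, w.2⟩
  have hgen : φ (genericPoint ↥C₁) = genericPoint ↥C₂ :=
    ((hφw ▸ (genericPoint_specializes w.1).map φ.continuous).antisymm (genericPoint_specializes _)).eq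
  haveI hiso : IsIso (φ.stalkMap (genericPoint ↥C₁)) := by
    have h1 : MorphismProperty.isomorphisms CommRingCat ((φ ∣_ U).stalkMap ⟨genericPoint ↥C₁, hη₁⟩) := by
      show IsIso _
      infer_instance
    exact ((MorphismProperty.isomorphisms CommRingCat).arrow_mk_iso_iff
      (morphismRestrictStalkMap φ U ⟨genericPoint ↥C₁, hη₁⟩)).1 h1
  refine Groth.Agent.S2422.result hN₂ φ (hgen ▸ specializes_rfl) fun x _ => ?_
  haveI : IsIso (C₂.presheaf.stalkSpecializes (hgen ▸ specializes_rfl : φ (genericPoint ↥C₁) ⤳ genericPoint ↥C₂)) :=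
    (inferInstance : IsIso (C₂.presheaf.stalkCongr (.of_eq hgen.symm)).hom)
  exact (ConcreteCategory.bijective_of_isIso
    (C₂.presheaf.stalkSpecializes (hgen ▸ specializes_rfl : φ (genericPoint ↥C₁) ⤳ genericPoint ↥C₂) ≫
      φ.stalkMap (genericPoint ↥C₁))).2 x

end Groth.Agent.S18353
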