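import Groth.Statements.S1836
import Groth.Agent.H3CAlg.Tame.Refine
import Mathlib

set_option autoImplicit false
universe u
open CycAlg

namespace Groth.Agent.S1836

/-- Let A be a Noetherian local ring of dimension 1 and a₁, …, a_r (r ≥ 2) nonzerodivisors, not all
units. There is a finite extension ring A ⊆ B with B/A killed by a power of the maximal ideal such
that at every maximal ideal of B there is a nonzerodivisor π of the local ring B_𝔪 with each a_i
equal to a unit of B_𝔪 times a power of π. -/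
theorem result (A : Type u) [CommRing A] [IsNoetherianRing A] [IsLocalRing A] (hA : ringKrullDim A = 1) (r : ℕ) (hr : 2 ≤ r) (a : Fin r → A) (ha : ∀ i, a i ∈ nonZeroDivisors A) (hna : ∃ i, ¬ IsUnit (a i)) : ∃ (B : Type u) (_ : CommRing B) (_ : Algebra A B), CycAlg.IsFinExt A B (IsLocalRing.maximalIdeal A) ∧ ∀ q : MaximalSpectrum B, ∃ π : Localization.AtPrime q.asIdeal, π ∈ nonZeroDivisors (Localization.AtPrime q.asIdeal) ∧ ∀ i, ∃ (v : (Localization.AtPrime q.asIdeal)ˣ) (e : ℕ), algebraMap A (Localization.AtPrime q.asIdeal) (a i) = (v : Localization.AtPrime q.asIdeal) * π ^ e := by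
  haveI : Module.Finite A (⊥ : Subalgebra A (FractionRing A)) :=
    Module.Finite.of_surjective (Algebra.linearMap A (⊥ : Subalgebra A (FractionRing A)))
      (fun z => by obtain ⟨z, hz⟩ := z; obtain ⟨r, rfl⟩ := Algebra.mem_bot.mp hz; exact ⟨r, rfl⟩)
  obtain ⟨C, hBC, hC, hfac⟩ := H3CAlg.Tame.exists_local_factorizations hA (⊥ : Subalgebra A (FractionRing A))
    (Finset.univ.val.map fun i => algebraMap A _ (a i)) (by
      intro x hx
      obtain ⟨i, -, rfl⟩ := Multiset.mem_map.mp hx
      exact H3CAlg.Tame.isUnit_algebraMap_total (ha i))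
  haveI := hC
  refine ⟨C, inferInstance, inferInstance, H3CAlg.Tame.isFinExt_subalgebra hA C, fun q => ?_⟩
  obtain ⟨π, hπ, h⟩ := hfac q
  refine ⟨π, hπ, fun i => ?_⟩
  obtain ⟨v, e, hv⟩ := h _ (Multiset.mem_map.mpr ⟨i, Finset.mem_univ i, rfl⟩)
  refine ⟨v, e, ?_⟩
  rw [AlgHom.commutes] at hv
  rw [IsScalarTower.algebraMap_apply A C (Localization.AtPrime q.asIdeal)]
  exact hv

end Groth.Agent.S1836
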