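import Groth.Statements.S18360
import Groth.Agent.H13Alter.Lift
-- import your own Groth.Agent.* helpers here

set_option autoImplicit false
set_option backward.isDefEq.respectTransparency false
universe u
open CategoryTheory CategoryTheory.Limits AlgebraicGeometry
open Alter

namespace Groth.Agent.S18360

/-- Let Y be a Noetherian scheme, i : F ⟶ Y a closed immersion and s : F' ⟶ F a finite surjective
morphism. Then there are a scheme Y' and a finite surjective morphism g : Y' ⟶ Y such that every
irreducible component of F ×_Y Y', with its reduced closed-subscheme structure, is the source of an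
F-morphism to F': for every reduced scheme G and every closed immersion ι : G ⟶ F ×_Y Y' whose image
is an irreducible component, there is φ : G ⟶ F' with φ ≫ s = ι ≫ pr₁. -/
theorem result {Y F F' : Scheme.{u}} [IsNoetherian Y]
    (i : F ⟶ Y) [IsClosedImmersion i] (s : F' ⟶ F) [IsFinite s] [Surjective s] :
    ∃ (Y' : Scheme.{u}) (g : Y' ⟶ Y), IsFinite g ∧ Surjective g ∧
      ∀ (G : Scheme.{u}) (ι : G ⟶ pullback i g) [IsClosedImmersion ι] [AlgebraicGeometry.IsReduced G],
        Set.range ι.base ∈ irreducibleComponents ↥(pullback i g) →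
          ∃ φ : G ⟶ F', φ ≫ s = ι ≫ pullback.fst i g := by
  obtain ⟨Y', g, hg, hgs, hlift⟩ := Groth.Agent.H13Alter.exists_lift (s ≫ i)
  refine ⟨Y', g, hg, hgs, fun G ι _ _ hcomp => ?_⟩
  haveI : IrreducibleSpace G := by
    have h : IsIrreducible (Set.range ι.base) := hcomp.1
    haveI := Subtype.irreducibleSpace h
    let e := ι.isClosedEmbedding.isEmbedding.toHomeomorph
    rw [irreducibleSpace_def, Set.top_eq_univ, ← e.symm.surjective.range_eq, ← Set.image_univ]
    exact ((irreducibleSpace_def _).1 inferInstance).image _ e.symm.continuous.continuousOn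
  haveI : IsIntegral G := isIntegral_of_irreducibleSpace_of_isReduced G
  let κ := G.residueField (genericPoint G)
  let Ω := AlgebraicClosure κ
  let η : Spec (CommRingCat.of Ω) ⟶ G :=
    Spec.map (CommRingCat.ofHom (algebraMap κ Ω)) ≫ G.fromSpecResidueField (genericPoint G)
  haveI : IsDominant η := by
    refine ⟨fun w => ?_⟩
    have hη : genericPoint G ∈ Set.range η := by
      obtain ⟨z⟩ : Nonempty (Spec (CommRingCat.of Ω)) := inferInstance
      refine ⟨z, ?_⟩
      rw [Scheme.Hom.comp_apply]
      exact (G.range_fromSpecResidueField (genericPoint G)).le ⟨_, rfl⟩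
    exact closure_mono (Set.singleton_subset_iff.2 hη) ((genericPoint_spec G).symm ▸ Set.mem_univ w)
  let q : Spec (CommRingCat.of Ω) ⟶ F := η ≫ ι ≫ Limits.pullback.fst i g
  haveI : Nonempty (Limits.pullback s q : Scheme.{u}) := by
    obtain ⟨z, -⟩ := (Limits.pullback.snd s q).surjective (IsLocalRing.closedPoint Ω)
    exact ⟨z⟩
  obtain ⟨e, he⟩ := Groth.Agent.H13Alter.exists_point (Limits.pullback.snd s q)
  obtain ⟨φ, hφ⟩ := hlift G Ω (ι ≫ Limits.pullback.snd i g) η (e ≫ Limits.pullback.fst s q) (by
    rw [Category.assoc, Limits.pullback.condition_assoc, ← Category.assoc e, he, Category.id_comp]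
    simp only [q, Category.assoc, Limits.pullback.condition])
  refine ⟨φ, ?_⟩
  rw [← cancel_mono i, Category.assoc, hφ, Category.assoc, Category.assoc, Limits.pullback.condition]

end Groth.Agent.S18360
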