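import Groth.Statements.S18362
import Groth.Agent.H9Tame.PthRoot
import Groth.Agent.H9SInter.Simple
import Groth.Agent.H9Hens.SepClosed
import Groth.Agent.H4Depth.Regular
-- import your own Groth.Agent.* helpers here

set_option autoImplicit false
universe u
open SGA1t

namespace Groth.Agent.S18362

open scoped TensorProduct in
/-- The map out of a localization is an isomorphism. -/
theorem exists_algEquiv_away {A C D : Type u} [CommRing A] [CommRing C] [CommRing D] [Algebra A C] [Algebra A D]
    (φ : C →ₐ[A] D) (x : C) (hx : IsUnit (φ x)) (hsurj : ∀ d : D, ∃ (n : ℕ) (c : C), d * φ x ^ n = φ c)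
    (hker : ∀ c : C, φ c = 0 → ∃ n : ℕ, x ^ n * c = 0) :
    ∃ L : Localization.Away x ≃ₐ[A] D, ∀ c : C, L (algebraMap C (Localization.Away x) c) = φ c := by
  have hu : ∀ y : Submonoid.powers x, IsUnit (φ y) := by
    rintro ⟨_, n, rfl⟩
    show IsUnit (φ (x ^ n))
    rw [map_pow]
    exact hx.pow n
  let L : Localization.Away x →ₐ[A] D := IsLocalization.liftAlgHom (M := Submonoid.powers x) (f := φ) hu
  have hL : ∀ c : C, L (algebraMap C (Localization.Away x) c) = φ c := fun c => IsLocalization.lift_eq _ _
  refine ⟨AlgEquiv.ofBijective L ⟨(injective_iff_map_eq_zero L).mpr fun z hz => ?_, fun d => ?_⟩, hL⟩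
  · obtain ⟨⟨c, ⟨_, n, rfl⟩⟩, hc⟩ := IsLocalization.surj (Submonoid.powers x) z
    have h1 : φ c = 0 := by rw [← hL, ← hc, map_mul, hz, zero_mul]
    obtain ⟨m, hm⟩ := hker c h1
    have h2 : algebraMap C (Localization.Away x) c = 0 :=
      (IsLocalization.map_eq_zero_iff (Submonoid.powers x) _ c).mpr ⟨⟨_, m, rfl⟩, hm⟩
    rw [h2] at hc
    exact ((IsLocalization.map_units (Localization.Away x)
      (⟨_, n, rfl⟩ : Submonoid.powers x)).mul_left_eq_zero).mp hc
  · obtain ⟨n, c, hc⟩ := hsurj d
    refine ⟨IsLocalization.mk' _ c (⟨_, n, rfl⟩ : Submonoid.powers x), ?_⟩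
    have h1 := congrArg L (IsLocalization.mk'_spec (Localization.Away x) c (⟨_, n, rfl⟩ : Submonoid.powers x))
    rw [map_mul, hL, hL, ← hc, map_pow] at h1
    exact (hx.pow n).mul_left_inj.mp h1


/-- Let A be a regular local ring which is henselian with separably closed residue field of
characteristic p > 0, and let f be an element of A such that A/(f) is a regular local ring in which
p is nonzero. Write A₁ = A[t]/(t^p - f) and let B be a finite étale algebra over A[1/f]. If there is
a finite étale A₁-algebra C₁ with C₁[1/f] isomorphic to A₁ ⊗_A B as A₁-algebras, then there is a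
finite étale A-algebra C with C[1/f] isomorphic to B as A-algebras. The published statement also
assumes the cover connected and tamely ramified along f = 0; this row assumes neither, tameness
being automatic here because the generic point of the divisor f = 0 has residue characteristic zero. -/
theorem result {A : Type u} [CommRing A]
    [IsRegularLocalRing A] [HenselianLocalRing A] [IsSepClosed (IsLocalRing.ResidueField A)]
    (p : ℕ) [Fact p.Prime] [CharP (IsLocalRing.ResidueField A) p] (f : A)
    (hreg : IsRegularLocalRing (A ⧸ Ideal.span {f})) (hp : (p : A) ∉ Ideal.span {f})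
    (B : Type u) [CommRing B] [Algebra A B] [Algebra (Localization.Away f) B]
    [IsScalarTower A (Localization.Away f) B] [Module.Finite (Localization.Away f) B]
    [Algebra.Etale (Localization.Away f) B]
    (h : ∃ (C₁ : Type u) (_ : CommRing C₁) (_ : Algebra (AdjoinRoot (Polynomial.X ^ p - Polynomial.C f)) C₁),
      Module.Finite (AdjoinRoot (Polynomial.X ^ p - Polynomial.C f)) C₁ ∧
      Algebra.Etale (AdjoinRoot (Polynomial.X ^ p - Polynomial.C f)) C₁ ∧
      Nonempty (Localization.Away (algebraMap (AdjoinRoot (Polynomial.X ^ p - Polynomial.C f)) C₁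
          (AdjoinRoot.of (Polynomial.X ^ p - Polynomial.C f) f))
        ≃ₐ[AdjoinRoot (Polynomial.X ^ p - Polynomial.C f)]
          TensorProduct A (AdjoinRoot (Polynomial.X ^ p - Polynomial.C f)) B)) :
    ∃ (C : Type u) (_ : CommRing C) (_ : Algebra A C), Module.Finite A C ∧ Algebra.Etale A C ∧
      Nonempty (Localization.Away (algebraMap A C f) ≃ₐ[A] B) := by
  classical
  haveI := H4Depth.isDomain_of_isRegularLocalRing A
  rcases eq_or_ne f 0 with hf0 | hf0
  · subst hf0
    haveI : Subsingleton (Localization.Away (0 : A)) :=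
      IsLocalization.subsingleton (M := Submonoid.powers (0 : A)) (Submonoid.mem_powers 0)
    haveI : Subsingleton B := Module.subsingleton (Localization.Away (0 : A)) B
    haveI : Subsingleton (Localization.Away (algebraMap A A (0 : A))) :=
      IsLocalization.subsingleton (M := Submonoid.powers (algebraMap A A (0 : A)))
        (by rw [map_zero]; exact Submonoid.mem_powers 0)
    exact ⟨A, inferInstance, inferInstance, inferInstance, inferInstance,
      ⟨AlgEquiv.ofBijective (IsLocalization.liftAlgHom (M := Submonoid.powers (algebraMap A A (0 : A)))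
        (f := Algebra.ofId A B) fun y => isUnit_of_subsingleton _)
        ⟨fun a b _ => Subsingleton.elim a b, fun b => ⟨0, Subsingleton.elim _ _⟩⟩⟩⟩
  have hfm : f ∈ IsLocalRing.maximalIdeal A := by
    rw [IsLocalRing.mem_maximalIdeal]
    intro hu
    haveI : Nontrivial (A ⧸ Ideal.span {f}) := inferInstance
    exact Ideal.Quotient.nontrivial_iff.mp this (Ideal.span_singleton_eq_top.mpr hu)
  haveI : IsDomain (A ⧸ Ideal.span {f}) := H4Depth.isDomain_of_isRegularLocalRing _
  have hprime : (Ideal.span {f}).IsPrime := (Ideal.Quotient.isDomain_iff_prime _).mp inferInstance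
  let R := Localization.Away f
  haveI : IsDomain R := IsLocalization.isDomain_localization
    (powers_le_nonZeroDivisors_of_noZeroDivisors hf0)
  have hpR : ¬ IsUnit (p : R) := by
    intro hu
    rw [← map_natCast (algebraMap A R)] at hu
    obtain ⟨b, hb⟩ := hu.exists_right_inv
    obtain ⟨⟨a, ⟨_, n, rfl⟩⟩, hab⟩ := IsLocalization.surj (Submonoid.powers f) b
    have h1 : algebraMap A R ((p : A) * a) = algebraMap A R (f ^ n) := by
      rw [map_mul, ← hab, ← mul_assoc, hb, one_mul]
    have h2 : (p : A) * a = f ^ n :=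
      IsLocalization.injective R (powers_le_nonZeroDivisors_of_noZeroDivisors hf0) h1
    clear hab h1
    induction n generalizing a with
    | zero =>
      rw [pow_zero] at h2
      have h3 := congrArg (IsLocalRing.residue A) h2
      rw [map_mul, map_natCast, CharP.cast_eq_zero, zero_mul, map_one] at h3
      exact zero_ne_one h3
    | succ n ih =>
      have ha : a ∈ Ideal.span {f} := (hprime.mem_or_mem (show (p : A) * a ∈ Ideal.span {f} by
        rw [h2]; exact Ideal.pow_mem_of_mem _ (Ideal.mem_span_singleton_self f) _ (Nat.succ_pos n))).resolve_left hp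
      obtain ⟨c, rfl⟩ := Ideal.mem_span_singleton.mp ha
      exact ih c (mul_left_cancel₀ hf0 (by rw [← mul_assoc, mul_comm f, mul_assoc, h2, pow_succ']))
  -- the strictly henselian ring of the root
  let g : Polynomial A := Polynomial.X ^ p - Polynomial.C f
  have hg : g.Monic := Polynomial.monic_X_pow_sub_C f (Fact.out : p.Prime).ne_zero
  haveI := hg.free_adjoinRoot
  haveI := hg.finite_adjoinRoot
  let A₁ := AdjoinRoot g
  haveI : Nontrivial A₁ := AdjoinRoot.nontrivial g (by
    rw [Polynomial.degree_X_pow_sub_C (Fact.out : p.Prime).pos]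
    exact_mod_cast (Fact.out : p.Prime).ne_zero)
  have hroot : ∀ M : Ideal A₁, M.IsMaximal → AdjoinRoot.root g ∈ M ∧ M.comap (algebraMap A A₁) =
      IsLocalRing.maximalIdeal A := by
    intro M hM
    haveI := hM
    have hMA := IsLocalRing.eq_maximalIdeal (Ideal.isMaximal_comap_of_isIntegral_of_isMaximal (R := A) M)
    refine ⟨hM.isPrime.mem_of_pow_mem p ?_, hMA⟩
    have h0 : AdjoinRoot.root g ^ p = algebraMap A A₁ f := by
      have := (AdjoinRoot.mk_eq_mk (f := g) (g := Polynomial.X ^ p) (h := Polynomial.C f)).mpr (dvd_refl g)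
      rw [map_pow, AdjoinRoot.mk_X, AdjoinRoot.mk_C] at this
      exact this
    rw [h0]
    exact hMA.ge hfm
  have hsurjk : ∀ (M : Ideal A₁), M.IsMaximal → ∀ x : A₁, ∃ a : A, x - algebraMap A A₁ a ∈ M := by
    intro M hM x
    obtain ⟨q, rfl⟩ := AdjoinRoot.mk_surjective x
    refine ⟨q.coeff 0, ?_⟩
    obtain ⟨r, hr⟩ := Polynomial.X_dvd_sub_C (p := q)
    have : AdjoinRoot.mk g q - algebraMap A A₁ (q.coeff 0) = AdjoinRoot.root g * AdjoinRoot.mk g r := by
      rw [← AdjoinRoot.mk_X, ← map_mul, ← hr, map_sub, AdjoinRoot.mk_C]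
      rfl
    rw [this]
    exact M.mul_mem_right _ (hroot M hM).1
  haveI : IsLocalRing A₁ := by
    obtain ⟨M, hM⟩ := Ideal.exists_maximal A₁
    refine IsLocalRing.of_unique_max_ideal ⟨M, hM, fun M' hM' => ?_⟩
    refine (hM.eq_of_le hM'.ne_top fun x hx => ?_).symm
    obtain ⟨a, ha⟩ := hsurjk M hM x
    obtain ⟨q, rfl⟩ := AdjoinRoot.mk_surjective x
    obtain ⟨r, hr⟩ := Polynomial.X_dvd_sub_C (p := q)
    have heq : AdjoinRoot.mk g q = algebraMap A A₁ (q.coeff 0) + AdjoinRoot.root g * AdjoinRoot.mk g r := by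
      rw [← AdjoinRoot.mk_X, ← map_mul, ← hr, map_sub, AdjoinRoot.mk_C]
      exact (add_sub_cancel _ _).symm
    rw [heq] at hx ⊢
    refine add_mem ((hroot M' hM').2.ge ?_) (M'.mul_mem_right _ (hroot M' hM').1)
    rw [← (hroot M hM).2, Ideal.mem_comap]
    simpa using sub_mem hx (M.mul_mem_right (AdjoinRoot.mk g r) (hroot M hM).1)
  haveI : IsLocalHom (algebraMap A A₁) := by
    refine ((IsLocalRing.local_hom_TFAE (algebraMap A A₁)).out 0 4).mpr ?_
    exact (hroot _ (IsLocalRing.maximalIdeal.isMaximal A₁)).2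
  haveI : HenselianLocalRing A₁ := (H9Hens.henselian_of_isIntegral (R := A) (T := A₁)).1
  haveI : IsSepClosed (IsLocalRing.ResidueField A₁) := by
    refine H9Hens.isSepClosed_of_isAlgebraic (IsLocalRing.ResidueField A)
  obtain ⟨C₁, _, _, hC₁f, hC₁e, ⟨ε⟩⟩ := h
  haveI := hC₁f; haveI := hC₁e
  letI : Algebra A C₁ := ((algebraMap A₁ C₁).comp (algebraMap A A₁)).toAlgebra
  haveI : IsScalarTower A A₁ C₁ := IsScalarTower.of_algebraMap_eq fun _ => rfl
  obtain ⟨ι, _, ⟨α⟩⟩ := H9Tame.exists_pi_equiv A₁ C₁
  -- the generic ring of the root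
  let gR : Polynomial R := Polynomial.X ^ p - Polynomial.C (algebraMap A R f)
  have hgR : gR.Monic := Polynomial.monic_X_pow_sub_C _ (Fact.out : p.Prime).ne_zero
  let R₁ := AdjoinRoot gR
  let γ : A₁ →ₐ[A] R₁ := AdjoinRoot.liftAlgHom g (Algebra.ofId A R₁) (AdjoinRoot.root gR) (by
    have := AdjoinRoot.eval₂_root gR
    simp only [gR, Polynomial.eval₂_sub, Polynomial.eval₂_X_pow, Polynomial.eval₂_C] at this
    simp only [g, Polynomial.eval₂_sub, Polynomial.eval₂_X_pow, Polynomial.eval₂_C]
    exact this)
  have hγmk : ∀ q : Polynomial A, γ (AdjoinRoot.mk g q) = AdjoinRoot.mk gR (q.map (algebraMap A R)) := by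
    intro q
    rw [AdjoinRoot.liftAlgHom_mk, ← AdjoinRoot.aeval_eq, Polynomial.aeval_map_algebraMap]
    rfl
  have hfu : IsUnit (algebraMap A R₁ f) := by
    rw [IsScalarTower.algebraMap_apply A R R₁]
    exact (IsLocalization.Away.algebraMap_isUnit f).map _
  have hγsurj : ∀ z : R₁, ∃ (n : ℕ) (a : A₁), z * algebraMap A R₁ f ^ n = γ a := by
    intro z
    obtain ⟨q, rfl⟩ := AdjoinRoot.mk_surjective z
    obtain ⟨⟨_, n, rfl⟩, hq⟩ := IsLocalization.exist_integer_multiples_of_finset (Submonoid.powers f)
      (q.support.image q.coeff)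
    have hl : Polynomial.C (algebraMap A R (f ^ n)) * q ∈ Polynomial.lifts (algebraMap A R) := by
      rw [Polynomial.lifts_iff_coeff_lifts]
      intro i
      rw [Polynomial.coeff_C_mul]
      by_cases hi : i ∈ q.support
      · obtain ⟨a, ha⟩ := hq (q.coeff i) (Finset.mem_image_of_mem _ hi)
        exact ⟨a, ha.trans (Algebra.smul_def _ _)⟩
      · exact ⟨0, by rw [Polynomial.notMem_support_iff.mp hi, mul_zero, map_zero]⟩
    obtain ⟨q', hq'⟩ := hl
    refine ⟨n, AdjoinRoot.mk g q', ?_⟩
    rw [hγmk, show q'.map (algebraMap A R) = _ from hq', map_mul, mul_comm, AdjoinRoot.mk_C, map_pow, map_pow,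
      IsScalarTower.algebraMap_apply A R R₁]
    rfl
  have hγinj : Function.Injective γ := by
    rw [injective_iff_map_eq_zero]
    intro z hz
    obtain ⟨q, rfl⟩ := AdjoinRoot.mk_surjective z
    rw [hγmk, AdjoinRoot.mk_eq_zero] at hz
    rw [AdjoinRoot.mk_eq_zero]
    refine (Polynomial.map_dvd_map (algebraMap A R) ?_ hg).mp ?_
    · exact IsLocalization.injective R (powers_le_nonZeroDivisors_of_noZeroDivisors hf0)
    · simpa [g, gR] using hz
  -- the splitting of `B` over the root
  let φ : C₁ →ₐ[A] (ι → R₁) :=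
    { toFun := fun c i => γ (α c i)
      map_one' := by funext i; simp
      map_mul' := fun a b => by funext i; simp
      map_zero' := by funext i; simp
      map_add' := fun a b => by funext i; simp
      commutes' := fun a => by
        funext i
        show γ (α (algebraMap A C₁ a) i) = algebraMap A R₁ a
        rw [IsScalarTower.algebraMap_apply A A₁ C₁, AlgEquiv.commutes]
        exact γ.commutes a }
  let x : C₁ := algebraMap A₁ C₁ (AdjoinRoot.of g f)
  have hφx : φ x = algebraMap A (ι → R₁) f := by
    funext i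
    show γ (α (algebraMap A₁ C₁ (AdjoinRoot.of g f)) i) = algebraMap A R₁ f
    rw [AlgEquiv.commutes]
    exact γ.commutes f
  obtain ⟨L, hL⟩ := exists_algEquiv_away φ x (by
    rw [hφx, Pi.isUnit_iff]
    exact fun i => hfu) (fun d => by
    choose n a hna using fun i => hγsurj (d i)
    refine ⟨Finset.univ.sup n,
      α.symm fun i => a i * algebraMap A A₁ f ^ (Finset.univ.sup n - n i), ?_⟩
    funext i
    rw [hφx]
    show d i * algebraMap A R₁ f ^ Finset.univ.sup n = γ (α (α.symm _) i)
    rw [AlgEquiv.apply_symm_apply, map_mul, map_pow, γ.commutes, ← hna, mul_assoc, ← pow_add,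
      Nat.add_sub_cancel' (Finset.le_sup (f := n) (Finset.mem_univ i))])
    (fun c hc => ⟨0, by
      rw [pow_zero, one_mul]
      refine α.injective (funext fun i => hγinj ?_)
      have h2 : γ (α c i) = 0 := congrFun hc i
      rw [h2, map_zero α, Pi.zero_apply, map_zero]⟩)
  let Ψ₀ : B →ₐ[A] (ι → R₁) :=
    L.toAlgHom.comp ((ε.symm.toAlgHom.restrictScalars A).comp Algebra.TensorProduct.includeRight)
  have hΨR : ∀ (r : R) (b : B) (i : ι), Ψ₀ (algebraMap R B r * b) i = algebraMap R R₁ r * Ψ₀ b i := by
    intro r b i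
    obtain ⟨⟨a, ⟨_, n, rfl⟩⟩, har⟩ := IsLocalization.surj (Submonoid.powers f) r
    refine (hfu.pow n).mul_left_cancel ?_
    have h1 := congrArg (fun z => Ψ₀ (algebraMap R B z * b) i) har
    simp only [map_mul, ← IsScalarTower.algebraMap_apply, Pi.mul_apply, AlgHom.commutes, Pi.algebraMap_apply,
      map_pow, Pi.pow_apply] at h1
    rw [map_mul, Pi.mul_apply]
    rw [← mul_assoc, ← mul_assoc, mul_comm ((algebraMap A R₁) f ^ n), h1]
    congr 1
    have h2 := congrArg (algebraMap R R₁) har
    simp only [map_mul, map_pow, ← IsScalarTower.algebraMap_apply] at h2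
    rw [← h2, mul_comm]
  have hΨ : ∀ (b : B) (i : ι), Ψ₀ b i ∈ Set.range (algebraMap R R₁) := fun b i =>
    H9Tame.mem_range_of_hom_adjoinRoot p hpR (algebraMap A R f)
      ({ ((Pi.evalAlgHom A (fun _ => R₁) i).comp Ψ₀).toRingHom with
          commutes' := fun r => by
            have := hΨR r 1 i
            rw [mul_one, map_one, Pi.one_apply, mul_one] at this
            exact this } : B →ₐ[R] R₁) b
  choose ψ hψ using hΨ
  let pb := AdjoinRoot.powerBasis' hgR
  have hinjR : Function.Injective (algebraMap R R₁) := by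
    haveI := hgR.free_adjoinRoot
    haveI : Nontrivial R₁ := AdjoinRoot.nontrivial gR (by
      rw [Polynomial.degree_X_pow_sub_C (Fact.out : p.Prime).pos]
      exact_mod_cast (Fact.out : p.Prime).ne_zero)
    exact FaithfulSMul.algebraMap_injective R R₁
  let ψA : B →ₐ[A] (ι → R) :=
    { toFun := fun b i => ψ b i
      map_one' := by funext i; exact hinjR (by rw [hψ, map_one, Pi.one_apply, Pi.one_apply, map_one])
      map_mul' := fun a b => by funext i; exact hinjR (by rw [Pi.mul_apply, map_mul, hψ, hψ, hψ, map_mul]; rfl)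
      map_zero' := by funext i; exact hinjR (by rw [hψ, map_zero]; simp)
      map_add' := fun a b => by funext i; exact hinjR (by rw [Pi.add_apply, map_add, hψ, hψ, hψ, map_add]; rfl)
      commutes' := fun a => by
        funext i
        refine hinjR ?_
        rw [hψ, AlgHom.commutes, Pi.algebraMap_apply, Pi.algebraMap_apply, ← IsScalarTower.algebraMap_apply] }
  have hψinj : Function.Injective ψA := by
    intro a b hab
    have h1 : Ψ₀ a = Ψ₀ b := funext fun i => by rw [← hψ, ← hψ]; exact congrArg _ (congrFun hab i)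
    haveI : Module.Flat A R := IsLocalization.flat R (Submonoid.powers f)
    haveI : Module.Flat A B := Module.Flat.trans A R B
    exact Algebra.TensorProduct.includeRight_injective (FaithfulSMul.algebraMap_injective A A₁)
      (ε.symm.injective (L.injective h1))
  have hψsurj : Function.Surjective ψA := by
    intro v
    obtain ⟨t, ht⟩ := ε.symm.surjective (L.symm fun i => algebraMap R R₁ (v i))
    obtain ⟨s, hs⟩ := TensorProduct.exists_finset t
    have hLt : ∀ (a : A₁) (b : B), L (ε.symm (TensorProduct.tmul A a b)) = fun i => γ a * Ψ₀ b i := by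
      intro a b
      funext i
      have h1 : TensorProduct.tmul A a b = algebraMap A₁ (TensorProduct A A₁ B) a * (TensorProduct.tmul A 1 b) := by
        rw [Algebra.TensorProduct.algebraMap_apply, Algebra.TensorProduct.tmul_mul_tmul, one_mul, mul_one]
        rfl
      rw [h1, map_mul, AlgEquiv.commutes, map_mul, Pi.mul_apply,
        IsScalarTower.algebraMap_apply A₁ C₁ (Localization.Away x), hL]
      show γ (α (algebraMap A₁ C₁ a) i) * _ = _
      rw [AlgEquiv.commutes]
      rfl
    let i0 : Fin pb.dim := ⟨0, by rw [AdjoinRoot.powerBasis'_dim, Polynomial.natDegree_X_pow_sub_C]; exact (Fact.out : p.Prime).pos⟩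
    have hc0 : ∀ r : R, pb.basis.repr (algebraMap R R₁ r) i0 = r := fun r => by
      rw [Algebra.algebraMap_eq_smul_one, map_smul, show (1 : R₁) = pb.basis i0 by
        rw [pb.basis_eq_pow]; exact (pow_zero _).symm, Module.Basis.repr_self, Finsupp.smul_single, smul_eq_mul, mul_one,
        Finsupp.single_eq_same]
    refine ⟨∑ z ∈ s, algebraMap R B (pb.basis.repr (γ z.1) i0) * z.2, ?_⟩
    have hv : ∀ i, algebraMap R R₁ (v i) = ∑ z ∈ s, γ z.1 * Ψ₀ z.2 i := fun i => by
      have h1 := congrArg L ht
      rw [AlgEquiv.apply_symm_apply, hs, map_sum, map_sum] at h1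
      rw [← congrFun h1 i, Finset.sum_apply]
      exact Finset.sum_congr rfl fun z _ => congrFun (hLt z.1 z.2) i
    funext i
    show ψ _ i = v i
    rw [← hc0 (v i), hv i, map_sum, Finset.sum_apply']
    refine hinjR ?_
    rw [hψ, map_sum, Finset.sum_apply, map_sum]
    refine Finset.sum_congr rfl fun z _ => ?_
    rw [hΨR, ← hψ z.2 i, ← map_mul]
    congr 1
    rw [mul_comm (γ z.1), ← Algebra.smul_def, map_smul, Finsupp.smul_apply, smul_eq_mul, mul_comm]
  let eB : B ≃ₐ[A] (ι → R) := AlgEquiv.ofBijective ψA ⟨hψinj, hψsurj⟩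
  let φC : (ι → A) →ₐ[A] B := eB.symm.toAlgHom.comp ((Algebra.ofId A R).compLeft ι)
  haveI : Algebra.Etale A (ι → A) := inferInstance
  obtain ⟨e, -⟩ := exists_algEquiv_away φC (algebraMap A (ι → A) f) (by
    rw [AlgHom.commutes, IsScalarTower.algebraMap_apply A R B]
    exact (IsLocalization.Away.algebraMap_isUnit f).map _) (fun d => by
    choose n a hna using fun i => IsLocalization.Away.surj f (eB d i)
    refine ⟨Finset.univ.sup n, fun i => a i * f ^ (Finset.univ.sup n - n i), eB.injective ?_⟩
    show _ = eB (eB.symm _)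
    rw [AlgEquiv.apply_symm_apply, map_mul, map_pow, AlgHom.commutes, AlgEquiv.commutes]
    funext i
    show eB d i * algebraMap A R f ^ _ = algebraMap A R (a i * f ^ _)
    rw [map_mul, map_pow, ← hna, mul_assoc, ← pow_add, Nat.add_sub_cancel' (Finset.le_sup (f := n) (Finset.mem_univ i))])
    (fun c hc => ⟨0, by
      rw [pow_zero, one_mul]
      funext i
      refine IsLocalization.injective R (powers_le_nonZeroDivisors_of_noZeroDivisors hf0) ?_
      have h1 := congrFun (congrArg eB hc) i
      rw [map_zero] at h1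
      rw [Pi.zero_apply, map_zero, ← show eB (φC c) i = algebraMap A R (c i) from congrFun (eB.apply_symm_apply _) i]
      exact h1⟩)
  exact ⟨ι → A, inferInstance, inferInstance, inferInstance, inferInstance, ⟨e⟩⟩

end Groth.Agent.S18362
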