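import Groth.Statements.S18363
import Mathlib.Algebra.Category.ModuleCat.Ext.HasExt
import Mathlib.Algebra.Homology.ShortComplex.ModuleCat
import Mathlib.Algebra.Module.StablyFree.Basic
import Mathlib.LinearAlgebra.FreeModule.PID
import Mathlib.Order.CompletePartialOrder
import Mathlib.RingTheory.Flat.FaithfullyFlat.Basic
import Mathlib.RingTheory.Flat.TorsionFree
import Mathlib.RingTheory.Ideal.Quotient.Noetherian
import Mathlib.RingTheory.KrullDimension.Field
import Mathlib.RingTheory.PicardGroup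
import Mathlib.RingTheory.SimpleRing.Principal

set_option autoImplicit false
universe u
open CategoryTheory
open CAlg

namespace Groth.Agent.S18363

/-- Let R be a Noetherian local ring with maximal ideal m, and P, Q ideals of R such that P + Q contains
a power of m while R/P and R/Q are both reduced of Krull dimension one. Let I and J be nonzero
finitely generated R-modules with P·I = 0 and Q·J = 0, such that every element of R whose class in
R/P is a non-zero-divisor acts injectively on I, and every element whose class in R/Q is a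
non-zero-divisor acts injectively on J. Then the group Ext¹_R(I, J) is nonzero. (This is the stalk
statement behind the existence of a non-split extension of a torsion-free rank-one sheaf on a
subcurve Y by one on a subcurve Z of a reduced projective curve, at a point where Y and Z meet
without sharing a component; in that situation the modules moreover have rank one at the generic
points of their supports and P ∩ Q = 0, two assumptions the argument does not use.) -/
theorem result
    (R : Type u) [CommRing R] [IsNoetherianRing R] [IsLocalRing R]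
    (P Q : Ideal R) (hPQ : ∃ n : ℕ, IsLocalRing.maximalIdeal R ^ n ≤ P ⊔ Q)
    [IsReduced (R ⧸ P)] [IsReduced (R ⧸ Q)]
    (hPdim : ringKrullDim (R ⧸ P) = 1) (hQdim : ringKrullDim (R ⧸ Q) = 1)
    (I J : Type u) [AddCommGroup I] [Module R I] [Module.Finite R I] [Nontrivial I]
    [AddCommGroup J] [Module R J] [Module.Finite R J] [Nontrivial J]
    (hPI : ∀ p ∈ P, ∀ x : I, p • x = 0) (hQJ : ∀ q ∈ Q, ∀ y : J, q • y = 0)
    (hItf : ∀ r : R, Ideal.Quotient.mk P r ∈ nonZeroDivisors (R ⧸ P) → ∀ x : I, r • x = 0 → x = 0)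
    (hJtf : ∀ r : R, Ideal.Quotient.mk Q r ∈ nonZeroDivisors (R ⧸ Q) → ∀ y : J, r • y = 0 → y = 0) :
    Nontrivial (Abelian.Ext (ModuleCat.of R I) (ModuleCat.of R J) 1) := by
  classical
  let m := IsLocalRing.maximalIdeal R
  have hQm : Q ≤ m := by
    refine IsLocalRing.le_maximalIdeal fun h => ?_
    haveI : Subsingleton (R ⧸ Q) := by rw [h]; infer_instance
    rw [ringKrullDim_eq_bot_of_subsingleton] at hQdim
    exact WithBot.bot_ne_coe hQdim
  -- chains of primes above `Q`
  have hchain : ∀ (p : Ideal (R ⧸ Q)) [p.IsPrime] (t : R ⧸ Q), t ∈ nonZeroDivisors (R ⧸ Q) → t ∈ p →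
      p.IsMaximal := by
    intro p hp t ht htp
    obtain ⟨q, hq, hqp⟩ := Ideal.exists_minimalPrimes_le (I := (⊥ : Ideal (R ⧸ Q))) (bot_le : ⊥ ≤ p)
    haveI hqP : q.IsPrime := hq.1.1
    have hne : q < p := lt_of_le_of_ne hqp fun h =>
      Set.disjoint_left.mp (Ideal.disjoint_nonZeroDivisors_of_mem_minimalPrimes hq) (h ▸ htp) ht
    obtain ⟨M, hM, hpM⟩ := Ideal.exists_le_maximal p hp.ne_top
    by_contra hpmax
    have hlt : p < M := lt_of_le_of_ne hpM fun h => hpmax (h ▸ hM)
    have := Order.LTSeries.length_le_krullDim (α := PrimeSpectrum (R ⧸ Q))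
      { length := 2
        toFun := ![⟨q, hqP⟩, ⟨p, hp⟩, ⟨M, hM.isPrime⟩]
        step := fun i => by
          fin_cases i
          · exact hne
          · exact hlt }
    change (_ : WithBot ℕ∞) ≤ ringKrullDim (R ⧸ Q) at this
    rw [hQdim] at this
    norm_cast at this
  haveI hRQ : Nontrivial (R ⧸ Q) := Ideal.Quotient.nontrivial_iff.mpr (fun h => (IsLocalRing.maximalIdeal.isMaximal R).ne_top (top_le_iff.mp (h ▸ hQm)))
  obtain ⟨t, htm, htQ⟩ : ∃ t ∈ m, Ideal.Quotient.mk Q t ∈ nonZeroDivisors (R ⧸ Q) := by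
    by_contra hc
    push Not at hc
    have hsub : (m : Set R) ⊆ ⋃ q ∈ (associatedPrimes.finite (R ⧸ Q) (R ⧸ Q)).toFinset,
        ((Ideal.comap (Ideal.Quotient.mk Q) q : Ideal R) : Set R) := fun x hx => by
      have h := hc x hx
      rw [mem_nonZeroDivisors_iff_right] at h
      push Not at h
      obtain ⟨y, hy, hy0⟩ := h
      have : Ideal.Quotient.mk Q x ∈ ⋃ p ∈ associatedPrimes (R ⧸ Q) (R ⧸ Q), (p : Set (R ⧸ Q)) := by
        rw [biUnion_associatedPrimes_eq_zero_divisors]
        exact ⟨y, hy0, by rwa [smul_eq_mul, mul_comm]⟩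
      obtain ⟨q, hq, hxq⟩ := Set.mem_iUnion₂.mp this
      exact Set.mem_iUnion₂.mpr ⟨q, (Set.Finite.mem_toFinset _).mpr hq, hxq⟩
    obtain ⟨q, hq, hmq⟩ := (Ideal.subset_union_prime ⊥ ⊥ fun q hq _ _ => by
      haveI := ((associatedPrimes.finite (R ⧸ Q) (R ⧸ Q)).mem_toFinset.mp hq).isPrime
      exact Ideal.comap_isPrime _ _).mp hsub
    rw [Set.Finite.mem_toFinset] at hq
    haveI := hq.isPrime
    obtain ⟨s, hs⟩ := ((isAssociatedPrime_iff_exists_injective_linearMap q (R ⧸ Q)).mp hq).2
    obtain ⟨z, hz, hkill⟩ : ∃ z : R ⧸ Q, z ≠ 0 ∧ ∀ a ∈ q, a * z = 0 :=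
      ⟨s 1, fun h => q.ne_top_iff_one.mp hq.isPrime.ne_top
          (Ideal.Quotient.eq_zero_iff_mem.mp (hs (h.trans (map_zero s).symm))),
        fun a ha => by
          rw [← smul_eq_mul, ← map_smul, Algebra.smul_def, mul_one, Ideal.Quotient.algebraMap_eq,
            Ideal.Quotient.eq_zero_iff_mem.mpr ha, map_zero]⟩
    obtain ⟨z', rfl⟩ := Ideal.Quotient.mk_surjective z
    by_cases hz' : z' ∈ m
    · exact hz (IsReduced.pow_eq_zero (n := 2) (by rw [pow_two]; exact hkill _ (hmq hz')) |>.trans rfl)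
    · have hu : IsUnit (Ideal.Quotient.mk Q z') :=
        (IsLocalRing.notMem_maximalIdeal.mp hz').map (Ideal.Quotient.mk Q)
      have hmQ : m ≤ Q := fun x hx =>
        Ideal.Quotient.eq_zero_iff_mem.mp (hu.mul_left_eq_zero.mp (hkill _ (hmq hx)))
      haveI : Q.IsMaximal := (le_antisymm hmQ hQm) ▸ IsLocalRing.maximalIdeal.isMaximal R
      letI := Ideal.Quotient.field Q
      rw [ringKrullDim_eq_zero_of_field] at hQdim
      exact zero_ne_one hQdim
  have hreg : ∀ y : J, t • y = 0 → y = 0 := hJtf t htQ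
  -- `Hom(I, J) = 0`
  have hHom : ∀ f : I →ₗ[R] J, f = 0 := by
    intro f
    obtain ⟨n, hn⟩ := hPQ
    ext x
    obtain ⟨p, hp, q, hq, hpq⟩ := Submodule.mem_sup.mp (hn (Ideal.pow_mem_pow htm n))
    have h0 : t ^ n • f x = 0 := by
      rw [← hpq, add_smul, hQJ q hq, add_zero, ← map_smul, hPI p hp, map_zero]
    show f x = 0
    have : ∀ k, t ^ k • f x = 0 → f x = 0 := fun k => by
      induction k with
      | zero => simp
      | succ k ih => exact fun h => ih (hreg _ (by rwa [← mul_smul, ← pow_succ']))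
    exact this n h0
  -- the sequence `J → J → J/tJ`
  let N : Submodule R J := LinearMap.range (t • (LinearMap.id : J →ₗ[R] J))
  let S : ShortComplex (ModuleCat.{u} R) :=
    ShortComplex.mk (ModuleCat.ofHom (t • (LinearMap.id : J →ₗ[R] J))) (ModuleCat.ofHom N.mkQ)
      (by ext y; exact (Submodule.Quotient.mk_eq_zero N).mpr ⟨y, rfl⟩)
  have hS : S.ShortExact := by
    refine ShortComplex.ShortExact.mk' ?_ ?_ ?_
    · rw [ShortComplex.moduleCat_exact_iff_range_eq_ker]
      exact (Submodule.ker_mkQ N).symm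
    · exact (ModuleCat.mono_iff_injective _).mpr fun a b h => sub_eq_zero.mp (hreg _ (by
        rw [smul_sub, sub_eq_zero]; exact h))
    · exact (ModuleCat.epi_iff_surjective _).mpr (Submodule.mkQ_surjective N)
  -- a nonzero map `I → J/tJ`
  haveI : Nontrivial (J ⧸ N) := by
    refine Submodule.Quotient.nontrivial_iff.mpr ?_
    intro h
    have hle : (⊤ : Submodule R J) ≤ m • ⊤ := fun y _ => by
      obtain ⟨z, rfl⟩ := (h ▸ Submodule.mem_top : y ∈ N)
      exact Submodule.smul_mem_smul htm trivial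
    exact (top_ne_bot : (⊤ : Submodule R J) ≠ ⊥) (Submodule.eq_bot_of_le_smul_of_le_jacobson_bot m ⊤
      Module.Finite.fg_top hle (IsLocalRing.maximalIdeal_le_jacobson _))
  obtain ⟨p, hp⟩ := associatedPrimes.nonempty R (J ⧸ N)
  haveI := hp.isPrime
  obtain ⟨g, hg⟩ := ((isAssociatedPrime_iff_exists_injective_linearMap p (J ⧸ N)).mp hp).2
  have hpm : p = m := by
    have hann : ∀ a ∈ Q ⊔ Ideal.span {t}, a ∈ p := by
      intro a ha
      refine Ideal.Quotient.eq_zero_iff_mem.mp (hg ?_)
      rw [map_zero, show Ideal.Quotient.mk p a = a • (1 : R ⧸ p) by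
        rw [Algebra.smul_def, mul_one, Ideal.Quotient.algebraMap_eq], map_smul]
      obtain ⟨y, hy⟩ := Submodule.mkQ_surjective N (g 1)
      rw [← hy, ← map_smul]
      obtain ⟨q, hq, b, hb, rfl⟩ := Submodule.mem_sup.mp ha
      obtain ⟨c, rfl⟩ := Ideal.mem_span_singleton'.mp hb
      refine (Submodule.Quotient.mk_eq_zero N).mpr ⟨c • y, ?_⟩
      rw [add_smul, hQJ q hq, zero_add, mul_comm, mul_smul]
      rfl
    have hker : RingHom.ker (Ideal.Quotient.mk Q) ≤ p := fun a ha =>
      hann a (Ideal.mem_sup_left (Ideal.Quotient.eq_zero_iff_mem.mp ha))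
    haveI := Ideal.map_isPrime_of_surjective (I := p) Ideal.Quotient.mk_surjective hker
    haveI := hchain (p.map (Ideal.Quotient.mk Q)) _ htQ
      (Ideal.mem_map_of_mem _ (hann t (Ideal.mem_sup_right (Ideal.mem_span_singleton_self t))))
    have := Ideal.comap_isMaximal_of_surjective (Ideal.Quotient.mk Q) Ideal.Quotient.mk_surjective
      (K := p.map (Ideal.Quotient.mk Q))
    rw [Ideal.comap_map_of_surjective _ Ideal.Quotient.mk_surjective, ← RingHom.ker_eq_comap_bot,
      sup_eq_left.mpr hker] at this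
    exact IsLocalRing.eq_maximalIdeal this
  subst hpm
  -- composite `I → I/mI → k → J/tJ`
  have hne : (m • ⊤ : Submodule R I) ≠ ⊤ := fun h => (top_ne_bot : (⊤ : Submodule R I) ≠ ⊥)
    (Submodule.eq_bot_of_le_smul_of_le_jacobson_bot m ⊤ Module.Finite.fg_top h.ge
      (IsLocalRing.maximalIdeal_le_jacobson _))
  letI := Ideal.Quotient.field m
  haveI : Nontrivial (I ⧸ (m • ⊤ : Submodule R I)) := Submodule.Quotient.nontrivial_iff.mpr hne
  obtain ⟨v, hv⟩ := exists_ne (0 : I ⧸ (m • ⊤ : Submodule R I))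
  obtain ⟨ℓ, hℓ⟩ := Module.Projective.exists_dual_ne_zero (R ⧸ m) hv
  let f : I →ₗ[R] J ⧸ N := g ∘ₗ ℓ.restrictScalars R ∘ₗ (m • ⊤ : Submodule R I).mkQ
  obtain ⟨x, rfl⟩ := Submodule.mkQ_surjective _ v
  have hfx : f x ≠ 0 := fun h => hℓ (hg (h.trans (map_zero g).symm))
  by_contra hE
  rw [not_nontrivial_iff_subsingleton] at hE
  let x₃ : Abelian.Ext (ModuleCat.of R I) S.X₃ 0 := Abelian.Ext.mk₀ (ModuleCat.ofHom f)
  obtain ⟨x₂, hx₂⟩ := Abelian.Ext.covariant_sequence_exact₃ (ModuleCat.of R I) hS x₃ (n₁ := 1) rfl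
    (Subsingleton.elim _ _)
  obtain ⟨φ, rfl⟩ := (Abelian.Ext.mk₀_bijective _ _).2 x₂
  rw [Abelian.Ext.mk₀_comp_mk₀] at hx₂
  have h := (Abelian.Ext.mk₀_bijective _ _).1 hx₂
  have h2 := congrArg (fun φ' => φ'.hom x) h
  simp only [ModuleCat.hom_comp, LinearMap.comp_apply] at h2
  rw [show φ.hom = 0 from hHom φ.hom, LinearMap.zero_apply, map_zero] at h2
  exact hfx h2.symm

end Groth.Agent.S18363
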