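import Groth.Statements.S18364
import Groth.Agent.H3CAlg.Modification

set_option autoImplicit false
universe u
open CAlg

namespace Groth.Agent.S18364

/-- Let A be a Noetherian ring, π an element of A, and (𝔓_i)_{i ∈ ι} an injective finite family listing
exactly the minimal prime ideals over (π). Let M be a finitely generated A-module and M̄ = M/πM. For
a subset T of ι let K(T) ⊆ M̄ be the submodule of elements whose image in the localisation of M̄ at
𝔓_i is zero for every i ∈ T, and N(T) ⊆ M its preimage in M. Assume K(ι) = 0, i.e. no nonzero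
element of M̄ vanishes at all the minimal primes (every associated prime of M̄ is one of the 𝔓_i).
Then for every subset Y of ι with complement Z one has N(Y) ∩ N(Z) = πM, and the same construction
applied to the module N(Y) instead of M — the preimage in N(Y) of the elements of N(Y)/πN(Y)
vanishing at every 𝔓_i with i ∈ Z — is, as a submodule of M, equal to N(Y) ∩ N(Z). (Geometric
meaning: A is the local ring of a flat family of curves over a discrete valuation ring with
uniformizer π at a point of the reduced special fibre, M the stalk of a torsion-free rank-one sheaf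
I, Y a set of components of the special fibre through the point, and N(Y) the stalk of the kernel
I^Y of I → I(s)_Y; the statement is (I^Y)^Z = I^Y ∩ I^Z = πI. Reducedness of A/πA, flatness and rank
one are not used.) -/
theorem result
    (A : Type u) [CommRing A] [IsNoetherianRing A] (π : A)
    (ι : Type) [Finite ι] (𝔓 : ι → Ideal A) [∀ i, (𝔓 i).IsPrime]
    (h𝔓 : ∀ i, 𝔓 i ∈ (Ideal.span {π}).minimalPrimes) (h𝔓inj : Function.Injective 𝔓)
    (h𝔓surj : ∀ 𝔔 ∈ (Ideal.span {π}).minimalPrimes, ∃ i, 𝔓 i = 𝔔)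
    (M : Type u) [AddCommGroup M] [Module A M] [Module.Finite A M]
    (K : Set ι → Submodule A (M ⧸ Ideal.span {π} • (⊤ : Submodule A M)))
    (hK : ∀ T : Set ι, K T = ⨅ i ∈ T, LinearMap.ker
      (LocalizedModule.mkLinearMap (𝔓 i).primeCompl (M ⧸ Ideal.span {π} • (⊤ : Submodule A M))))
    (htf : K Set.univ = ⊥)
    (N : Set ι → Submodule A M)
    (hN : ∀ T : Set ι, N T = (K T).comap (Submodule.mkQ (Ideal.span {π} • (⊤ : Submodule A M))))
    (Y : Set ι) :
    N Y ⊓ N Yᶜ = Ideal.span {π} • (⊤ : Submodule A M) ∧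
    Submodule.map (N Y).subtype
      ((⨅ i ∈ Yᶜ, LinearMap.ker (LocalizedModule.mkLinearMap (𝔓 i).primeCompl
          (↥(N Y) ⧸ Ideal.span {π} • (⊤ : Submodule A ↥(N Y))))).comap
        (Submodule.mkQ (Ideal.span {π} • (⊤ : Submodule A ↥(N Y)))))
      = N Y ⊓ N Yᶜ := by
  have hmemN : ∀ (T : Set ι) (m : M),
      m ∈ N T ↔ Submodule.mkQ (Ideal.span {π} • (⊤ : Submodule A M)) m ∈ K T := by
    intro T m; rw [hN]; rfl
  have h1 : N Y ⊓ N Yᶜ = Ideal.span {π} • (⊤ : Submodule A M) := by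
    refine le_antisymm ?_ ?_
    · rintro m ⟨ha, hb⟩
      rw [SetLike.mem_coe, hmemN, hK] at ha hb
      exact (Submodule.Quotient.mk_eq_zero _).mp
        (Groth.Agent.H3CAlg.iInf_ker_inf_compl_eq_bot 𝔓 (by rw [← hK]; exact htf) Y _ ha hb)
    · intro m hm
      have h0 : Submodule.mkQ (Ideal.span {π} • (⊤ : Submodule A M)) m = 0 :=
        (Submodule.Quotient.mk_eq_zero _).mpr hm
      exact ⟨(hmemN _ m).mpr (by rw [h0]; exact zero_mem _),
        (hmemN _ m).mpr (by rw [h0]; exact zero_mem _)⟩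
  refine ⟨h1, le_antisymm ?_ ?_⟩
  · rintro _ ⟨x, hx, rfl⟩
    rw [SetLike.mem_coe, Submodule.mem_comap, Groth.Agent.H3CAlg.mem_iInf_ker_mk_iff] at hx
    refine ⟨x.2, (hmemN _ _).mpr ?_⟩
    rw [hK, Groth.Agent.H3CAlg.mem_iInf_ker_mk_iff]
    intro i hi
    obtain ⟨s, hs, h⟩ := hx i hi
    refine ⟨s, hs, ?_⟩
    rw [← map_smul, Submodule.mkQ_apply, Submodule.Quotient.mk_eq_zero,
      Groth.Agent.H3CAlg.mem_span_singleton_smul_top_iff] at h ⊢
    obtain ⟨y, hy⟩ := h
    exact ⟨(y : M), congrArg Subtype.val hy⟩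
  · rintro m ⟨hmY, hmYc⟩
    refine ⟨⟨m, hmY⟩, ?_, rfl⟩
    rw [SetLike.mem_coe, Submodule.mem_comap, Groth.Agent.H3CAlg.mem_iInf_ker_mk_iff]
    intro i hi
    obtain ⟨w, hw⟩ := (Groth.Agent.H3CAlg.mem_span_singleton_smul_top_iff π m).mp
      (h1.le ⟨hmY, hmYc⟩)
    obtain ⟨s, hs, hsY⟩ :=
      Groth.Agent.H3CAlg.exists_notMem_forall_mem_smul_eq_zero π 𝔓 h𝔓 h𝔓inj Y i hi
    have hsw : s • w ∈ N Y := by
      rw [hmemN, hK, Groth.Agent.H3CAlg.mem_iInf_ker_mk_iff]
      intro j hj
      obtain ⟨t, ht, c, hc⟩ := hsY j hj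
      refine ⟨t, ht, ?_⟩
      rw [← map_smul, Submodule.mkQ_apply, Submodule.Quotient.mk_eq_zero,
        Groth.Agent.H3CAlg.mem_span_singleton_smul_top_iff]
      exact ⟨c • w, by rw [← mul_smul, ← mul_smul, hc]⟩
    refine ⟨s, hs, ?_⟩
    rw [← map_smul, Submodule.mkQ_apply, Submodule.Quotient.mk_eq_zero,
      Groth.Agent.H3CAlg.mem_span_singleton_smul_top_iff]
    exact ⟨⟨s • w, hsw⟩, Subtype.ext (by
      change π • s • w = s • m
      rw [← hw, smul_comm])⟩

end Groth.Agent.S18364
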