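import Groth.Statements.S18365
import Groth.Agent.H3CAlg.Modification

set_option autoImplicit false
universe u
open CAlg

namespace Groth.Agent.S18365

/-- Let A be a Noetherian ring, π an element of A, (𝔓_i)_{i ∈ ι} an injective finite family listing
exactly the minimal prime ideals over (π), and M a finitely generated A-module on which π acts
injectively; put M̄ = M/πM. For T ⊆ ι let K(T) ⊆ M̄ be the submodule of elements whose image in the
localisation of M̄ at 𝔓_i vanishes for every i ∈ T, and N(T) ⊆ M its preimage; assume K(ι) = 0.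
Suppose that M̄ decomposes at Y, i.e. K(Y) + K(Yᶜ) = M̄, and that for a subset Z the module
N(Y)/πN(Y) decomposes at Z, i.e. its submodule of elements vanishing at every 𝔓_i (i ∈ Z) and its
submodule of elements vanishing at every 𝔓_i (i ∉ Z) together span it. Then M̄ decomposes at Z: K(Z)
+ K(Zᶜ) = M̄. (Geometric meaning: for a flat family of curves over a discrete valuation ring with
uniformizer π, I a torsion-free rank-one sheaf flat over the base, Y a subcurve of the special fibre
X(s) at which I(s) decomposes and I^Y = ker(I → I(s)_Y): if I^Y(s) decomposes at a subcurve Z then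
so does I(s); decomposition of a sheaf at Z is the surjectivity of I(s) → I(s)_Z ⊕ I(s)_{Z^c},
checked on stalks. Reducedness of the special fibre and rank one are not used.) -/
theorem result
    (A : Type u) [CommRing A] [IsNoetherianRing A] (π : A)
    (ι : Type) [Finite ι] (𝔓 : ι → Ideal A) [∀ i, (𝔓 i).IsPrime]
    (h𝔓 : ∀ i, 𝔓 i ∈ (Ideal.span {π}).minimalPrimes) (h𝔓inj : Function.Injective 𝔓)
    (h𝔓surj : ∀ 𝔔 ∈ (Ideal.span {π}).minimalPrimes, ∃ i, 𝔓 i = 𝔔)
    (M : Type u) [AddCommGroup M] [Module A M] [Module.Finite A M]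
    (hπ : ∀ m : M, π • m = 0 → m = 0)
    (K : Set ι → Submodule A (M ⧸ Ideal.span {π} • (⊤ : Submodule A M)))
    (hK : ∀ T : Set ι, K T = ⨅ i ∈ T, LinearMap.ker
      (LocalizedModule.mkLinearMap (𝔓 i).primeCompl (M ⧸ Ideal.span {π} • (⊤ : Submodule A M))))
    (htf : K Set.univ = ⊥)
    (N : Set ι → Submodule A M)
    (hN : ∀ T : Set ι, N T = (K T).comap (Submodule.mkQ (Ideal.span {π} • (⊤ : Submodule A M))))
    (Y Z : Set ι) (hY : K Y ⊔ K Yᶜ = ⊤)
    (K' : Set ι → Submodule A (↥(N Y) ⧸ Ideal.span {π} • (⊤ : Submodule A ↥(N Y))))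
    (hK' : ∀ T : Set ι, K' T = ⨅ i ∈ T, LinearMap.ker
      (LocalizedModule.mkLinearMap (𝔓 i).primeCompl (↥(N Y) ⧸ Ideal.span {π} • (⊤ : Submodule A ↥(N Y)))))
    (hZ : K' Z ⊔ K' Zᶜ = ⊤) :
    K Z ⊔ K Zᶜ = ⊤ := by
  exact Groth.Agent.H3CAlg.decomposition_of_modification π 𝔓 hπ K hK htf (N Y) Y Z (hN Y) hY K' hK' hZ

end Groth.Agent.S18365
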