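import Groth.Statements.S18366
import Mathlib
import Groth.Agent.H19Grp.SepPoints
import Groth.Agent.H7Flat.GenericGeomReduced

set_option autoImplicit false
universe u
open CategoryTheory CategoryTheory.Limits AlgebraicGeometry
open Variety

namespace Groth.Agent.S18366

/-- Let k be a separably closed field and X a non-empty k-scheme of finite type which is geometrically
reduced. Then X has a k-rational point, i.e. the structure morphism admits a section. (Non-emptiness
is part of the hypotheses: the empty scheme is geometrically reduced of finite type and has no
point. The published statement does not assume X non-empty; this row does, since the empty scheme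
has no rational point.) -/
theorem result (k : Type u) [Field k] [IsSepClosed k]
    {X : Scheme.{u}} (f : X ⟶ Spec (CommRingCat.of k)) [LocallyOfFiniteType f] [QuasiCompact f] [GeometricallyReduced f]
    [Nonempty X] :
    ∃ s : Spec (CommRingCat.of k) ⟶ X, s ≫ f = 𝟙 (Spec (CommRingCat.of k)) := by
  haveI : LocallyOfFinitePresentation f := by
    rw [HasRingHomProperty.iff_appLE (P := @LocallyOfFinitePresentation)]
    intro U V e
    haveI : IsNoetherianRing Γ(Spec (CommRingCat.of k), U.1) := IsLocallyNoetherian.component_noetherian U
    exact RingHom.FinitePresentation.of_finiteType.1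
      (HasRingHomProperty.appLE @LocallyOfFiniteType f inferInstance U V e)
  have hd := Groth.Agent.H7Flat.GenericFibre.dense_smoothLocus_of_geometricallyReduced f
  obtain ⟨x, hx⟩ := hd.nonempty
  haveI := Groth.Agent.H17.LocusBC.smooth_restrict_smoothLocus f
  obtain ⟨σ, hσ, -⟩ := Groth.Agent.H19Grp.exists_section_mem (f.smoothLocus.ι ≫ f) ⊤ (x := ⟨x, hx⟩) trivial
  exact ⟨σ ≫ f.smoothLocus.ι, by rw [Category.assoc]; exact hσ⟩

end Groth.Agent.S18366
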