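import Groth.Statements.S18367
import Groth.Agent.H4LC.CochainAcyclic

set_option autoImplicit false
universe u
open CategoryTheory CategoryTheory.Limits
open LocAlg

namespace Groth.Agent.S18367

/-- Let R be a Cohen–Macaulay local ring of Krull dimension g and K = (K^0 → K^1 → ⋯) a bounded cochain
complex of finitely generated free R-modules (K^i = 0 for i > N) such that every cohomology module
H^i(K) has finite length. Then H^i(K) = 0 for all i < g. -/
theorem result (R : Type u) [CommRing R]
    [LocCoh.IsCohenMacaulayLocalRing R] (g : ℕ) (hg : ringKrullDim R = g) (K : CochainComplex (ModuleCat.{u} R) ℕ)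
    (N : ℕ) (hbd : ∀ i, N < i → IsZero (K.X i)) (hfree : ∀ i, Module.Free R (K.X i) ∧ Module.Finite R (K.X i))
    (hfl : ∀ i, IsFiniteLength R (K.homology i)) (i : ℕ) (hi : i < g) :
    IsZero (K.homology i) := by

  refine H4LC.isZero_cohomology_of_lt_depth K hfree hfl g ?_ i hi
  have h := LocCoh.IsCohenMacaulayLocalRing.supportDim_eq_depth (R := R)
  rw [Module.supportDim_self_eq_ringKrullDim, hg] at h
  exact (WithBot.coe_injective h).le

end Groth.Agent.S18367
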