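import Groth.Statements.S18369
import Groth.Agent.H25AbCube.Formula
import Groth.Agent.H19Grp.GeomConnected
import Groth.Agent.H19Grp.ImageGroup

set_option autoImplicit false
universe u
open CategoryTheory CategoryTheory.Limits MonoidalCategory CartesianMonoidalCategory MonObj GrpObj AlgebraicGeometry
open AbVar

namespace Groth.Agent.S18369

/-- Let k be a field, A an abelian variety over k (a proper smooth k-group scheme with geometrically
connected fibres) with group law m : A × A → A and projections p₁, p₂, L an ample invertible
O_A-module, and N an invertible O_A-module whose class lies in the dual abelian variety, expressed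
as m^*N ≅ p₁^*N ⊗ p₂^*N. Then L ⊗ N is again ample; so ampleness of an invertible module on A
depends only on its class modulo Pic⁰. -/
theorem result (k : Type u) [Field k]
    (A : Over (Spec (CommRingCat.of k))) [GrpObj A] [IsProper A.hom] [Smooth A.hom] [GeometricallyConnected A.hom]
    (L N : A.left.Modules) (hL : CohB1.IsAmple L) (hN : PicF.IsInvertible N)
    (hN0 : Nonempty ((Scheme.Modules.pullback μ[A].left).obj N ≅
      CohB1.tensorMod ((Scheme.Modules.pullback (fst A A).left).obj N) ((Scheme.Modules.pullback (snd A A).left).obj N))) :
    CohB1.IsAmple (CohB1.tensorMod L N) := by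
  have htheta : ∀ (N : A.left.Modules) (hN : PicF.IsInvertible N), H25AbCube.theta (H25AbCube.pc N hN) = 0 ↔
      Nonempty ((Scheme.Modules.pullback μ[A].left).obj N ≅
        CohB1.tensorMod ((Scheme.Modules.pullback (fst A A).left).obj N) ((Scheme.Modules.pullback (snd A A).left).obj N)) :=
    fun N hN => by
      have h1 := H11Ample.isInvertible_pullback μ[A].left hN
      have h2 := H11Ample.isInvertible_pullback (fst A A).left hN
      have h3 := H11Ample.isInvertible_pullback (snd A A).left hN
      rw [← H25AbCube.pc_eq_iff h1 (H11Ample.isInvertible_tensor h2 h3), H25AbCube.pc_tensor h2 h3,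
        H25AbCube.pullP_pc _ N hN, H25AbCube.pullP_pc _ N hN, H25AbCube.pullP_pc _ N hN, H25AbCube.theta,
        sub_sub, sub_eq_zero, Hom.mul_def, lift_fst_snd, Category.id_comp]
      rfl
  haveI : GeometricallyIntegral A.hom :=
    haveI := H19Grp.geometricallyIrreducible_of_geometricallyConnected A
    haveI := H19Grp.geometricallyReduced_of_smooth A.hom
    .of_geometricallyReduced_of_geometricallyIrreducible _
  exact H25AbCube.isAmple_tensor_of_primitive L N hL hN ((htheta N hN).2 hN0)

end Groth.Agent.S18369
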