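import Groth.Statements.S1837
import Groth.Agent.H3CAlg.Glue.Maximal

set_option autoImplicit false
universe u
open TensorProduct
open CycAlg

open scoped TensorProduct

namespace Groth.Agent.S1837

/-- Let A be Noetherian with pairwise distinct maximal ideals 𝔪₁, …, 𝔪_r, and for each i a ring map φ_i
from A_{𝔪_i} to B_i whose kernel and cokernel are killed by a power of 𝔪_i. Then there is an
A-algebra B whose base change to each A_{𝔪_i} is isomorphic to B_i and whose structure map has
kernel and cokernel killed by a power of 𝔪₁ ∩ … ∩ 𝔪_r; if every φ_i is finite (resp. injective,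
resp. surjective) B can be taken with the same property. -/
theorem result (A : Type u) [CommRing A] [IsNoetherianRing A] (r : ℕ) (m : Fin r → Ideal A) (hm : ∀ i, (m i).IsMaximal) (hinj : Function.Injective m) (B : Fin r → Type u) [∀ i, CommRing (B i)] [∀ i, Algebra (Localization.AtPrime (m i)) (B i)] (hker : ∀ i, ∃ n : ℕ, ∀ x ∈ RingHom.ker (algebraMap (Localization.AtPrime (m i)) (B i)), ∀ y ∈ Ideal.map (algebraMap A (Localization.AtPrime (m i))) (m i) ^ n, y * x = 0) (hcoker : ∀ i, ∃ n : ℕ, ∀ y ∈ Ideal.map (algebraMap A (Localization.AtPrime (m i))) (m i) ^ n, ∀ b : B i, y • b ∈ (algebraMap (Localization.AtPrime (m i)) (B i)).range) : ∃ (C : Type u) (_ : CommRing C) (_ : Algebra A C), (∀ i, Nonempty ((Localization.AtPrime (m i)) ⊗[A] C ≃ₐ[Localization.AtPrime (m i)] B i)) ∧ (∃ n : ℕ, (∀ x ∈ RingHom.ker (algebraMap A C), ∀ y ∈ (⨅ i, m i) ^ n, y * x = 0) ∧ (∀ y ∈ (⨅ i, m i) ^ n, ∀ c : C, y • c ∈ (algebraMap A C).range)) ∧ ((∀ i, (algebraMap (Localization.AtPrime (m i)) (B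 i)).Finite) → (algebraMap A C).Finite) ∧ ((∀ i, Function.Injective (algebraMap (Localization.AtPrime (m i)) (B i))) → Function.Injective (algebraMap A C)) ∧ ((∀ i, Function.Surjective (algebraMap (Localization.AtPrime (m i)) (B i))) → Function.Surjective (algebraMap A C)) := by
  classical
  haveI := hm
  obtain ⟨C, iC, iA, hC, hC'⟩ := H3CAlg.Glue.glue_many r m hinj B hker hcoker
  choose nk hnk using hker
  choose nc hnc using hcoker
  let n : ℕ := Finset.univ.sup nk + Finset.univ.sup nc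
  have hpow : ∀ i, ∀ (N : ℕ), N ≤ n → ∀ y ∈ (⨅ j, m j) ^ n, algebraMap A (Localization.AtPrime (m i)) y ∈
      Ideal.map (algebraMap A (Localization.AtPrime (m i))) (m i) ^ N := by
    intro i N hN y hy
    rw [← Ideal.map_pow]
    exact Ideal.mem_map_of_mem _ (Ideal.pow_right_mono (iInf_le m i) N (Ideal.pow_le_pow_right hN hy))
  have hlek : ∀ i, nk i ≤ n := fun i => (Finset.le_sup (Finset.mem_univ i)).trans (Nat.le_add_right _ _)
  have hlec : ∀ i, nc i ≤ n := fun i => (Finset.le_sup (Finset.mem_univ i)).trans (Nat.le_add_left _ _)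
  -- reading off statements at the given points
  have hat : ∀ i, ∃ e : Localization.AtPrime (m i) ⊗[A] C →ₐ[Localization.AtPrime (m i)] B i, Function.Bijective e := fun i => by
    obtain ⟨e⟩ := hC i
    exact ⟨e.toAlgHom, e.bijective⟩
  choose e he using hat
  have hkerloc : ∀ (i) (x : A), algebraMap A C x = 0 →
      algebraMap (Localization.AtPrime (m i)) (B i) (algebraMap A (Localization.AtPrime (m i)) x) = 0 := by
    intro i x hx
    rw [← (e i).commutes, ← H3CAlg.Glue.one_tmul_algebraMap, hx, TensorProduct.tmul_zero, map_zero]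
  have hout : ∀ (M : Ideal A) [M.IsMaximal], (∀ i, M ≠ m i) → ∀ x : A, algebraMap A C x = 0 → ∃ s ∉ M, s * x = 0 := by
    intro M _ hne x hx
    have h0 : algebraMap A (Localization.AtPrime M) x = 0 := (hC' M hne).1 (by
      rw [map_zero, ← H3CAlg.Glue.one_tmul_algebraMap, hx, TensorProduct.tmul_zero])
    obtain ⟨⟨s, hs⟩, hsx⟩ := (IsLocalization.map_eq_zero_iff M.primeCompl _ x).mp h0
    exact ⟨s, hs, hsx⟩
  have hzero : ∀ x : A, (∀ M : Ideal A, M.IsMaximal → ∃ s ∉ M, s * x = 0) → x = 0 := fun x hx =>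
    (Submodule.mem_bot A).mp (H3CAlg.Glue.mem_of_local (C := A) ⊥ x fun M hM => by
      obtain ⟨s, hs, hsx⟩ := hx M hM
      exact ⟨s, hs, hsx⟩)
  have hR1 : (1 : C) ∈ LinearMap.range (Algebra.linearMap A C) := ⟨1, map_one (algebraMap A C)⟩
  have hrange : ∀ c : C, (∀ i, ∃ z : Localization.AtPrime (m i), e i ((1 : Localization.AtPrime (m i)) ⊗ₜ[A] c) = algebraMap (Localization.AtPrime (m i)) (B i) z) → c ∈ (algebraMap A C).range := by
    intro c hc
    refine H3CAlg.Glue.mem_of_local (LinearMap.range (Algebra.linearMap A C)) c fun M hM => ?_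
    by_cases h : ∃ i, M = m i
    · obtain ⟨i, rfl⟩ := h
      obtain ⟨z, hz⟩ := hc i
      rw [← (e i).commutes] at hz
      obtain ⟨s, hs⟩ := H3CAlg.Glue.exists_smul_mem (m i).primeCompl _ c
        ((he i).1 hz ▸ H3CAlg.Glue.algebraMap_mem_span _ _ hR1 z)
      exact ⟨s, s.2, hs⟩
    · push Not at h
      obtain ⟨z, hz⟩ := (hC' M h).2 ((1 : Localization.AtPrime M) ⊗ₜ[A] c)
      obtain ⟨s, hs⟩ := H3CAlg.Glue.exists_smul_mem M.primeCompl _ c (hz ▸ H3CAlg.Glue.algebraMap_mem_span _ _ hR1 z)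
      exact ⟨s, s.2, hs⟩
  refine ⟨C, iC, iA, hC, ⟨n, fun x hx y hy => hzero _ fun M hM => ?_, fun y hy c => hrange _ fun i => ?_⟩, fun hfin => ?_,
    fun hi => (injective_iff_map_eq_zero _).mpr fun x hx => hzero x fun M hM => ?_,
    fun hs c => hrange c fun i => ?_⟩
  · by_cases h : ∃ i, M = m i
    · obtain ⟨i, rfl⟩ := h
      have := hnk i _ (hkerloc i x hx) _ (hpow i _ (hlek i) y hy)
      rw [← map_mul] at this
      obtain ⟨⟨s, hs⟩, hsx⟩ := (IsLocalization.map_eq_zero_iff (m i).primeCompl _ _).mp this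
      exact ⟨s, hs, hsx⟩
    · push Not at h
      obtain ⟨s, hs, hsx⟩ := hout M h x hx
      exact ⟨s, hs, by rw [mul_left_comm, hsx, mul_zero]⟩
  · obtain ⟨z, hz⟩ := hnc i _ (hpow i _ (hlec i) y hy) (e i ((1 : Localization.AtPrime (m i)) ⊗ₜ[A] c))
    refine ⟨z, ?_⟩
    rw [hz, TensorProduct.tmul_smul, ← algebraMap_smul (Localization.AtPrime (m i)) y, map_smul]
  · have hgen : ∀ i, ∃ T : Finset C, ∀ x : Localization.AtPrime (m i) ⊗[A] C,
        x ∈ Submodule.span (Localization.AtPrime (m i)) ((fun c : C => (1 : Localization.AtPrime (m i)) ⊗ₜ[A] c) '' (T : Set C)) := by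
      intro i
      haveI : Module.Finite (Localization.AtPrime (m i)) (B i) := RingHom.finite_algebraMap.mp (hfin i)
      haveI : Module.Finite (Localization.AtPrime (m i)) (Localization.AtPrime (m i) ⊗[A] C) :=
        Module.Finite.equiv (AlgEquiv.ofBijective (e i) (he i)).symm.toLinearEquiv
      obtain ⟨T, hT⟩ := (inferInstance : Module.Finite (Localization.AtPrime (m i)) (Localization.AtPrime (m i) ⊗[A] C)).fg_top
      choose c s hcs using fun x : Localization.AtPrime (m i) ⊗[A] C => H3CAlg.Glue.exists_rep (m i).primeCompl x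
      refine ⟨T.image c, fun x => (Submodule.span_le.mpr ?_) (hT.ge (show x ∈ (⊤ : Submodule (Localization.AtPrime (m i)) _) from trivial))⟩
      intro t ht
      have hu := IsLocalization.map_units (Localization.AtPrime (m i)) (s t)
      have : t = (↑hu.unit⁻¹ : Localization.AtPrime (m i)) • ((1 : Localization.AtPrime (m i)) ⊗ₜ[A] c t) := by
        rw [← hcs t, ← algebraMap_smul (Localization.AtPrime (m i)) (s t : A) t, smul_smul, IsUnit.val_inv_mul, one_smul]
      rw [SetLike.mem_coe, this]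
      exact Submodule.smul_mem _ _ (Submodule.subset_span ⟨c t, Finset.mem_coe.mpr (Finset.mem_image_of_mem c ht), rfl⟩)
    choose T hT using hgen
    refine RingHom.finite_algebraMap.mpr ⟨⟨insert 1 (Finset.univ.biUnion T), eq_top_iff.mpr fun c _ => ?_⟩⟩
    refine H3CAlg.Glue.mem_of_local _ c fun M hM => ?_
    by_cases h : ∃ i, M = m i
    · obtain ⟨i, rfl⟩ := h
      obtain ⟨s, hs⟩ := H3CAlg.Glue.exists_smul_mem (m i).primeCompl _ c
        (Submodule.span_mono (Set.image_mono (Set.Subset.trans (Finset.coe_subset.mpr ((Finset.subset_biUnion_of_mem T (Finset.mem_univ i)).trans (Finset.subset_insert _ _))) Submodule.subset_span)) (hT i _))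
      exact ⟨s, s.2, hs⟩
    · push Not at h
      obtain ⟨z, hz⟩ := (hC' M h).2 ((1 : Localization.AtPrime M) ⊗ₜ[A] c)
      obtain ⟨s, hs⟩ := H3CAlg.Glue.exists_smul_mem M.primeCompl _ c
        (hz ▸ H3CAlg.Glue.algebraMap_mem_span _ _ (Submodule.subset_span (Finset.mem_insert_self _ _)) z)
      exact ⟨s, s.2, hs⟩
  · by_cases h : ∃ i, M = m i
    · obtain ⟨i, rfl⟩ := h
      have := hi i ((hkerloc i x hx).trans (map_zero _).symm)
      obtain ⟨⟨s, hs⟩, hsx⟩ := (IsLocalization.map_eq_zero_iff (m i).primeCompl _ _).mp this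
      exact ⟨s, hs, hsx⟩
    · push Not at h
      exact hout M h x hx
  · obtain ⟨z, hz⟩ := hs i (e i ((1 : Localization.AtPrime (m i)) ⊗ₜ[A] c))
    exact ⟨z, hz.symm⟩

end Groth.Agent.S1837
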