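import Groth.Statements.S18370
import Groth.Agent.H19Grp.Kernel
import Mathlib.RingTheory.Coprime.Lemmas

set_option autoImplicit false
universe u
open CategoryTheory CategoryTheory.Limits MonoidalCategory CartesianMonoidalCategory MonObj GrpObj AlgebraicGeometry
open GrpSch

namespace Groth.Agent.S18370

/-- Let S be a scheme and G a commutative S-group scheme which is killed by a natural number n, i.e. the
n-th power map of G is the trivial homomorphism, and let n = a·b with a and b coprime. If i_a : G_a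
→ G and i_b : G_b → G are scheme-theoretic kernels of the a-th and b-th power maps of G, then the
morphism G_a ×_S G_b → G sending (x, y) to i_a(x)·i_b(y) is an isomorphism of S-schemes. (The
published statement assumes n ≠ 0; the case n = 0, where {a, b} = {0, 1} and one kernel is all of G
while the other is trivial, is included here.) -/
theorem result {S : Scheme.{u}} (G Ga Gb : Over S)
    [GrpObj G] [IsCommMonObj G] (n a b : ℕ) (hn : n = a * b) (hab : Nat.Coprime a b)
    (hG : (𝟙 G) ^ n = 1)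
    (ia : Ga ⟶ G) (hia : AlgGrp.IsKernel ia ((𝟙 G) ^ a))
    (ib : Gb ⟶ G) (hib : AlgGrp.IsKernel ib ((𝟙 G) ^ b)) :
    IsIso ((fst Ga Gb ≫ ia) * (snd Ga Gb ≫ ib)) := by
  obtain ⟨u, v, huv⟩ := Nat.Coprime.isCoprime hab
  have hkill : ∀ {T : Over S} (x : T ⟶ G), x ^ (n : ℤ) = 1 := fun {T} x => by
    have := congrArg (x ≫ ·) hG
    simpa [MonObj.comp_pow] using this
  have hma := Groth.Agent.H19Grp.kernel_mono hia
  have hmb := Groth.Agent.H19Grp.kernel_mono hib
  have la : ∀ {T : Over S} (x : T ⟶ G), x ^ (a : ℤ) = 1 → ∃ y : T ⟶ Ga, y ≫ ia = x :=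
    fun {T} x hx => Groth.Agent.H19Grp.kernel_lift hia x (by
      rw [MonObj.comp_pow, Category.comp_id]; simpa using hx)
  have lb : ∀ {T : Over S} (x : T ⟶ G), x ^ (b : ℤ) = 1 → ∃ y : T ⟶ Gb, y ≫ ib = x :=
    fun {T} x hx => Groth.Agent.H19Grp.kernel_lift hib x (by
      rw [MonObj.comp_pow, Category.comp_id]; simpa using hx)
  have ka : ∀ {T : Over S} (y : T ⟶ Ga), (y ≫ ia) ^ (a : ℤ) = 1 := fun {T} y => by
    have := congrArg (y ≫ ·) (Groth.Agent.H19Grp.kernel_comp_eq_one hia)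
    simpa [MonObj.comp_pow] using this
  have kb : ∀ {T : Over S} (y : T ⟶ Gb), (y ≫ ib) ^ (b : ℤ) = 1 := fun {T} y => by
    have := congrArg (y ≫ ·) (Groth.Agent.H19Grp.kernel_comp_eq_one hib)
    simpa [MonObj.comp_pow] using this
  have hnab : (n : ℤ) = (a : ℤ) * b := by rw [hn]; push_cast; ring
  obtain ⟨pa, hpa⟩ := la ((𝟙 G) ^ (v * b)) (by
    rw [← zpow_mul, show v * b * a = n * v by rw [hnab]; ring, zpow_mul, hkill, one_zpow])
  obtain ⟨pb, hpb⟩ := lb ((𝟙 G) ^ (u * a)) (by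
    rw [← zpow_mul, show u * a * b = n * u by rw [hnab]; ring, zpow_mul, hkill, one_zpow])
  refine ⟨⟨lift pa pb, ?_, ?_⟩⟩
  · have hx : ((fst Ga Gb ≫ ia) * (snd Ga Gb ≫ ib)) ≫ pa ≫ ia = fst Ga Gb ≫ ia := by
      rw [hpa, GrpObj.comp_zpow, Category.comp_id, mul_zpow, zpow_mul' (snd Ga Gb ≫ ib) v, kb,
        one_zpow, _root_.mul_one]
      conv_rhs => rw [← zpow_one (fst Ga Gb ≫ ia), ← huv, zpow_add, zpow_mul' _ u, ka, one_zpow,
        _root_.one_mul]
    have hy : ((fst Ga Gb ≫ ia) * (snd Ga Gb ≫ ib)) ≫ pb ≫ ib = snd Ga Gb ≫ ib := by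
      rw [hpb, GrpObj.comp_zpow, Category.comp_id, mul_zpow, zpow_mul' (fst Ga Gb ≫ ia) u, ka,
        one_zpow, _root_.one_mul]
      conv_rhs => rw [← zpow_one (snd Ga Gb ≫ ib), ← huv, zpow_add, zpow_mul' _ v, kb, one_zpow,
        _root_.mul_one]
    refine CartesianMonoidalCategory.hom_ext _ _ ?_ ?_
    · rw [← cancel_mono ia]; simpa using hx
    · rw [← cancel_mono ib]; simpa using hy
  · rw [MonObj.comp_mul, lift_fst_assoc, lift_snd_assoc, hpa, hpb, ← zpow_add,
      show v * b + u * a = 1 from (add_comm _ _).trans huv, zpow_one]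

end Groth.Agent.S18370
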