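import Groth.Statements.S18371
import Groth.Agent.H25Dual.Classifying

set_option autoImplicit false
set_option linter.style.haveILetI false
set_option backward.isDefEq.respectTransparency false
set_option synthInstance.maxHeartbeats 200000
universe u
open CategoryTheory CategoryTheory.Limits MonoidalCategory CartesianMonoidalCategory MonObj GrpObj AlgebraicGeometry
open AbVar

namespace Groth.Agent.S18371

/-- Let k be a field, A and B abelian varieties over k (proper smooth k-group schemes with geometrically
connected fibres) of the same dimension g > 0, and (B^t, φ) a given dual abelian variety of B for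
the fppf topology, B^t itself an abelian variety, with a Poincaré invertible module P on B ×_k B^t.
Let Q be an invertible module on B ×_k A, regarded as a family of invertible modules on B
parametrised by A, which is trivial along the unit section of B and trivial on the fibre over the
unit of A, and whose class is algebraically trivial on every geometric fibre over A (this last
condition follows from the others and is recorded as a hypothesis). Let f_Q = φ_A(Q) : A → B^t be
the classifying homomorphism. Then the Euler characteristic χ(B ×_k A, Q) has absolute value 1 if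
and only if f_Q is an isomorphism. (The published statement also asserts the same equivalence for
the homomorphism B → A^t attached to the transposed family; that is this statement applied to the
pulled-back module on A ×_k B with the roles of A and B exchanged. The dimension of B^t is not
assumed equal to g; it is forced by the duality hypothesis.) -/
theorem result (k : Type u) [Field k]
    (A B Bt : Over (Spec (CommRingCat.of k)))
    [GrpObj A] [IsProper A.hom] [Smooth A.hom] [GeometricallyConnected A.hom]
    [GrpObj B] [IsProper B.hom] [Smooth B.hom] [GeometricallyConnected B.hom]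
    [GrpObj Bt] [IsProper Bt.hom] [Smooth Bt.hom] [GeometricallyConnected Bt.hom]
    (φ : ∀ T : Over (Spec (CommRingCat.of k)), PicF.Cl (PicF.XT B.hom T) → (T ⟶ Bt))
    (hφ : AbDual.IsDualAV Scheme.fppfPrecoverage B Bt φ)
    (P : (PicF.XT B.hom Bt).Modules) (hP : PicF.IsInvertible P) (hPξ : AbDual.IsPoincareCl B Bt φ (PicF.cl P))
    (g : ℕ) (hg : 0 < g) (hA : topologicalKrullDim ↥A.left = g) (hB : topologicalKrullDim ↥B.left = g)
    (Q : (PicF.XT B.hom A).Modules) (hQ : PicF.IsInvertible Q)
    (hQ0 : AbDual.IsPicZeroCl B.hom A (PicF.cl Q))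
    (hQB : PicF.IsTrivialCl (PicF.pullCl (PicF.secT B.hom η[B].left (Over.w η[B]) A) (PicF.cl Q)))
    (hQA : PicF.IsTrivialCl (PicF.pullCl (PicF.XTmap B.hom η[A]) (PicF.cl Q))) :
    (@Curv2.euler k _ (PicF.XT B.hom A) ⟨PicF.XTproj B.hom A ≫ A.hom⟩ Q).natAbs = 1 ↔ IsIso (φ A (PicF.cl Q)) := by
  haveI : GeometricallyIntegral A.hom := Groth.Agent.H25AbCube.geometricallyIntegral_of_smooth A
  haveI : GeometricallyIntegral B.hom := Groth.Agent.H25AbCube.geometricallyIntegral_of_smooth B
  haveI : GeometricallyIntegral Bt.hom := Groth.Agent.H25AbCube.geometricallyIntegral_of_smooth Bt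
  have hz := Groth.Agent.H25Dual.pz_pc (A := B) (T := A) hQ hQ0
  have hl : Groth.Agent.H25AbCube.ev (Groth.Agent.H25AbCube.pc (X := (B ⊗ A).left) Q hQ) (lift (1 : A ⟶ B) (𝟙 A)) = 0 := by
    obtain ⟨e⟩ := Groth.Agent.H12Pic.Sep.iso_of_cl_eq hQB
    refine (Groth.Agent.H25AbCube.pullP_pc _ Q hQ (Groth.Agent.H11Ample.isInvertible_pullback _ hQ)).symm.trans
      (Eq.trans ?_ Groth.Agent.H25AbCube.pc_one)
    exact (Groth.Agent.H25AbCube.pc_eq_iff _ _).2
      ⟨((Scheme.Modules.pullbackCongr (Groth.Agent.H25Dual.secT_eq (A := B) A)).app Q).symm ≪≫ e⟩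
  have hr : Groth.Agent.H25AbCube.ev (Groth.Agent.H25AbCube.pc (X := (B ⊗ A).left) Q hQ) (B ◁ η[A]) = 0 := by
    obtain ⟨e⟩ := Groth.Agent.H12Pic.Sep.iso_of_cl_eq hQA
    refine (Groth.Agent.H25AbCube.pullP_pc _ Q hQ (Groth.Agent.H11Ample.isInvertible_pullback _ hQ)).symm.trans
      (Eq.trans ?_ Groth.Agent.H25AbCube.pc_one)
    exact (Groth.Agent.H25AbCube.pc_eq_iff _ _).2
      ⟨((Scheme.Modules.pullbackCongr (Groth.Agent.H25Dual.XTmap_eq (A := B) η[A])).app Q).symm ≪≫ e⟩
  have hs : PicF.XTproj B.hom A ≫ A.hom = (B ⊗ A).hom := pullback.condition.symm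
  rw [hs]
  exact (Groth.Agent.H25Dual.natAbs_euler_eq_one_iff hφ P hP hPξ hA hB Q hQ hz hl hr).trans
    (by rw [Groth.Agent.H25Dual.Φ_pc])

end Groth.Agent.S18371
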