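import Groth.Statements.S18372
import Mathlib

set_option autoImplicit false
universe u
open CategoryTheory CategoryTheory.Limits MonoidalCategory CartesianMonoidalCategory MonObj GrpObj AlgebraicGeometry
open AbVar

namespace Groth.Agent.S18372

/-- Let k be an algebraically closed field, A an abelian variety over k (a proper smooth k-group scheme
with geometrically connected fibres), U an affine open subset of A containing the unit point and D =
A ∖ U. Then only finitely many k-rational points x of A have a translation t_x : z ↦ z + x (the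
product of the identity and the constant map x in the group Hom(A, A)) with t_x⁻¹(D) = D as sets. -/
theorem result (k : Type u) [Field k] [IsAlgClosed k]
    (A : Over (Spec (CommRingCat.of k))) [GrpObj A] [IsProper A.hom] [Smooth A.hom] [GeometricallyConnected A.hom]
    (U : A.left.Opens) (hU : IsAffineOpen U) (he : Set.range η[A].left.base ⊆ (U : Set A.left)) :
    Set.Finite {x : 𝟙_ (Over (Spec (CommRingCat.of k))) ⟶ A |
      (𝟙 A * (toUnit A ≫ x)).left.base ⁻¹' ((U : Set A.left)ᶜ) = (U : Set A.left)ᶜ} := by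
  let S := Spec (CommRingCat.of k)
  let T := 𝟙_ (Over S)
  set D : Set A.left := (U : Set A.left)ᶜ with hD
  have hDc : IsClosed D := U.isOpen.isClosed_compl
  let tr : (T ⟶ A) → (A ⟶ A) := fun x => 𝟙 A * (toUnit A ≫ x)
  let trL : (T ⟶ A) → (A ⟶ A) := fun d => (toUnit A ≫ d) * 𝟙 A
  have htr : ∀ d x : T ⟶ A, d ≫ tr x = d * x := fun d x => by
    simp only [tr, MonObj.comp_mul, Category.comp_id, ← Category.assoc, toUnit_unique (d ≫ toUnit A) (𝟙 T), Category.id_comp]
  have htrL : ∀ x d : T ⟶ A, x ≫ trL d = d * x := fun x d => by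
    simp only [trL, MonObj.comp_mul, Category.comp_id, ← Category.assoc, toUnit_unique (x ≫ toUnit A) (𝟙 T), Category.id_comp]
  let pt : (T ⟶ A) → A.left := fun d => d.left (IsLocalRing.closedPoint k)
  have hpt : ∀ (d : T ⟶ A) (φ : A ⟶ A), pt (d ≫ φ) = φ.left (pt d) := fun d φ => rfl
  have hinvg : ∀ x : T ⟶ A, x ≫ (𝟙 A)⁻¹ = x⁻¹ := fun x => by rw [GrpObj.comp_inv, Category.comp_id]
  let Z : Set A.left := ⋂ d ∈ {d : T ⟶ A | pt d ∈ D},
    (trL d).left ⁻¹' D ∩ ((𝟙 A)⁻¹ ≫ trL d).left ⁻¹' D
  have hZc : IsClosed Z := isClosed_biInter fun d _ =>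
    (hDc.preimage (trL d).left.continuous).inter (hDc.preimage ((𝟙 A)⁻¹ ≫ trL d).left.continuous)
  haveI : LocallyOfFiniteType A.hom := inferInstance
  haveI : JacobsonSpace A.left := LocallyOfFiniteType.jacobsonSpace A.hom
  have hone : pt 1 ∉ D := by
    intro h
    refine h (he ⟨IsLocalRing.closedPoint k, ?_⟩)
    show η[A].left (IsLocalRing.closedPoint k) = (1 : T ⟶ A).left (IsLocalRing.closedPoint k)
    rw [MonObj.one_eq_one]
  have hclosed : ∀ z : A.left, IsClosed ({z} : Set A.left) → ∃ x : T ⟶ A, pt x = z := by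
    intro z hz
    obtain ⟨⟨p, hp⟩, h⟩ := (pointEquivClosedPoint A.hom).surjective ⟨z, hz⟩
    exact ⟨Over.homMk p hp, congrArg Subtype.val h⟩
  have hZU : Z ⊆ (U : Set A.left) := by
    intro z hz
    by_contra hzU
    obtain ⟨w, ⟨hwZ, hwD⟩, hwc⟩ := nonempty_inter_closedPoints (Z := Z ∩ D) ⟨z, hz, hzU⟩ (hZc.inter hDc).isLocallyClosed
    obtain ⟨x, rfl⟩ := hclosed w hwc
    have h := (Set.mem_iInter₂.mp hwZ x hwD).2
    rw [Set.mem_preimage, ← hpt, ← Category.assoc, hinvg, htrL, mul_inv_cancel] at h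
    exact hone h
  let I := Scheme.IdealSheafData.vanishingIdeal (⟨Z, hZc⟩ : TopologicalSpace.Closeds A.left)
  let i := I.subschemeι
  have hrange : Set.range i = Z := by
    rw [Scheme.IdealSheafData.range_subschemeι]
    rfl
  haveI : IsAffine I.subscheme := by
    have h : i ⁻¹ᵁ U = ⊤ := TopologicalSpace.Opens.ext (Set.eq_univ_of_forall fun y => hZU (hrange.le ⟨y, rfl⟩))
    have h2 := hU.preimage i
    rw [h] at h2
    haveI : IsAffine ((⊤ : I.subscheme.Opens) : Scheme.{u}) := h2
    exact IsAffine.of_isIso (I.subscheme.topIso).inv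
  haveI : IsAffineHom (i ≫ A.hom) := inferInstance
  haveI : IsFinite (i ≫ A.hom) := IsFinite.iff_isProper_and_isAffineHom.mpr ⟨inferInstance, inferInstance⟩
  have hZf : Z.Finite := by
    rw [← hrange]
    have h := (i ≫ A.hom).finite_preimage_singleton (IsLocalRing.closedPoint k)
    have : ((i ≫ A.hom) ⁻¹' {IsLocalRing.closedPoint k}) = Set.univ :=
      Set.eq_univ_of_forall fun y => Subsingleton.elim (α := PrimeSpectrum k) _ _
    rw [← Set.image_univ]
    exact (h.subset (fun y _ => this.ge trivial)).image _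
  refine Set.Finite.of_finite_image (f := pt) (hZf.subset ?_) ?_
  · rintro _ ⟨x, hx, rfl⟩
    refine Set.mem_iInter₂.mpr fun d hd => ⟨?_, ?_⟩
    · rw [Set.mem_preimage, ← hpt, htrL]
      have h : pt d ∈ (tr x).left.base ⁻¹' D := hx.ge hd
      rw [Set.mem_preimage, ← hpt, htr] at h
      exact h
    · rw [Set.mem_preimage, ← hpt, ← Category.assoc, hinvg, htrL]
      show pt (d * x⁻¹) ∈ D
      have h : pt (d * x⁻¹) ∈ (tr x).left.base ⁻¹' D := by
        rw [Set.mem_preimage, ← hpt, htr, inv_mul_cancel_right]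
        exact hd
      exact hx.le h
  · intro x _ y _ h
    refine Over.OverMorphism.ext ?_
    exact congrArg Subtype.val ((pointEquivClosedPoint A.hom).injective
      (a₁ := ⟨x.left, Over.w x⟩) (a₂ := ⟨y.left, Over.w y⟩) (Subtype.ext h))

end Groth.Agent.S18372
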