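import Groth.Statements.S18373
import Groth.Agent.H25AbCube.Nondegenerate
import Groth.Agent.H25AbCube.DivisorPoint
import Groth.Agent.H25AbCube.TorsionStr
import Groth.Agent.H8Props.DivisorSection


set_option autoImplicit false
set_option linter.style.haveILetI false
set_option backward.isDefEq.respectTransparency false
set_option synthInstance.maxHeartbeats 200000
universe u
open CategoryTheory CategoryTheory.Limits MonoidalCategory CartesianMonoidalCategory MonObj GrpObj AlgebraicGeometry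
open AbVar

namespace Groth.Agent.S18373

/-- Let k be an algebraically closed field and A an abelian variety over k (a proper smooth k-group
scheme with geometrically connected fibres). Let Δ ⊆ A be an irreducible closed subset of
codimension one, with generic point ξ whose local ring O_{A,ξ} has Krull dimension 1 (an irreducible
effective divisor), and let C ⊆ A be an irreducible closed subset of dimension one (a curve)
disjoint from Δ. Then for all k-rational points x, y of A lying on C, translation by x − y (the map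
z ↦ z + x − y, written with the group Hom(A, A)) carries Δ onto itself: t_{x−y}⁻¹(Δ) = Δ. -/
theorem result (k : Type u) [Field k] [IsAlgClosed k]
    (A : Over (Spec (CommRingCat.of k))) [GrpObj A] [IsProper A.hom] [Smooth A.hom] [GeometricallyConnected A.hom]
    (Δ : Set A.left) (hΔ : IsClosed Δ) (ξ : A.left) (hξ : closure {ξ} = Δ)
    (hcodim : ringKrullDim (A.left.presheaf.stalk ξ) = 1)
    (C : Set A.left) (hC : IsClosed C) (hCirr : IsIrreducible C) (hCdim : topologicalKrullDim C = 1)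
    (hdisj : Disjoint C Δ)
    (x y : 𝟙_ (Over (Spec (CommRingCat.of k))) ⟶ A)
    (hx : Set.range x.left.base ⊆ C) (hy : Set.range y.left.base ⊆ C) :
    (𝟙 A * (toUnit A ≫ (x * y⁻¹))).left.base ⁻¹' Δ = Δ := by
  classical
  haveI : GeometricallyIntegral A.hom := H25AbCube.geometricallyIntegral_of_smooth A
  haveI : IsCommMonObj A := H25AbCube.isCommMonObj_of_av
  haveI : IsIntegral A.left := GeometricallyIntegral.isIntegral_of_subsingleton A.hom
  haveI : IsLocallyNoetherian A.left := LocallyOfFiniteType.isLocallyNoetherian A.hom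
  haveI : CompactSpace A.left := QuasiCompact.compactSpace_of_compactSpace A.hom
  haveI : JacobsonSpace A.left := LocallyOfFiniteType.jacobsonSpace A.hom
  -- the module of the divisor
  obtain ⟨L, hL, s, hU⟩ : ∃ (L : A.left.Modules) (_ : PicF.IsInvertible L) (s : Γ(L, ⊤)),
      ((H11Ample.gen L s : A.left.Opens) : Set A.left) = Δᶜ := by
    let U : A.left.Opens := ⟨Δᶜ, hΔ.isOpen_compl⟩
    have hI := H25AbCube.isEffCartierIdeal_vanishingIdeal_of_codim_one U (fun w hw hmin => by
      have hwΔ : w ∈ Δ := not_not.1 hw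
      have hξw : ξ ⤳ w := specializes_iff_mem_closure.2 (hξ ▸ hwΔ)
      have hξU : ξ ∉ U := fun h => h (hξ ▸ subset_closure rfl)
      rw [← hmin ξ hξU hξw]
      exact hcodim) fun w _ => by
        haveI := H19Grp.isRegularLocalRing_stalk_of_smooth A.hom w
        haveI := H4Depth.isDomain_of_isRegularLocalRing (A.left.presheaf.stalk w)
        exact ⟨inferInstance, H28Alg.ufd_of_regular _⟩
    obtain ⟨M, t, hM, ht⟩ := H8Props.DivisorSection.exists_invertible_section hI
    refine ⟨M, hM, t, ?_⟩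
    rw [ht]
    simp [TopologicalSpace.Closeds.compl, Scheme.IdealSheafData.coe_support_vanishingIdeal, U]
  let P : (𝟙_ (Over (Spec (CommRingCat.of k))) ⟶ A) → A.left := fun a => a.left (IsLocalRing.closedPoint k)
  have hpt : ∀ w : A.left, IsClosed ({w} : Set A.left) → ∃ a, P a = w := fun w hw =>
    ⟨Over.homMk _ ((pointEquivClosedPoint A.hom).symm ⟨w, hw⟩).2, pointOfClosedPoint_apply A.hom w hw _⟩
  have hmulpt : ∀ a b : 𝟙_ (Over (Spec (CommRingCat.of k))) ⟶ A,
      (𝟙 A * (toUnit A ≫ a)).left (P b) = P (b * a) := by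
    intro a b
    show (𝟙 A * (toUnit A ≫ a)).left (b.left (IsLocalRing.closedPoint k)) = _
    rw [← Scheme.Hom.comp_apply, ← Over.comp_left, MonObj.comp_mul, Category.comp_id, ← Category.assoc, comp_toUnit,
      toUnit_unique (toUnit (𝟙_ _)) (𝟙 _), Category.id_comp]
  -- the curve as a variety
  let I := Scheme.IdealSheafData.vanishingIdeal ⟨C, hC⟩
  have hrange : Set.range I.subschemeι = C := H17.range_vanishingIdeal_subschemeι _
  haveI : IrreducibleSpace I.subscheme := by
    haveI : IrreducibleSpace (Set.range I.subschemeι) := Subtype.irreducibleSpace (hrange ▸ hCirr)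
    exact I.subschemeι.isEmbedding.toHomeomorph.irreducibleSpace_iff.2 ‹_›
  haveI : IsReduced I.subscheme := H17.isReduced_vanishingIdeal_subscheme _
  haveI : IsIntegral I.subscheme := isIntegral_of_irreducibleSpace_of_isReduced _
  let Z : Over (Spec (CommRingCat.of k)) := Over.mk (I.subschemeι ≫ A.hom)
  let i : Z ⟶ A := Over.homMk I.subschemeι rfl
  haveI : IsIntegral Z.left := ‹IsIntegral I.subscheme›
  haveI : IsProper Z.hom := inferInstanceAs (IsProper (I.subschemeι ≫ A.hom))
  haveI : GeometricallyIntegral Z.hom := H25AbCube.geometricallyIntegral_of_isIntegral' Z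
  haveI : JacobsonSpace Z.left := LocallyOfFiniteType.jacobsonSpace Z.hom
  let ℓ := H25AbCube.pc L hL
  have hgs : ∀ {T : Scheme.{u}} (f : T ⟶ A.left), H11Ample.gen ((Scheme.Modules.pullback f).obj L)
      ((1 : Γ(T, ⊤)) • H11Ample.pullTop f s) = f ⁻¹ᵁ H11Ample.gen L s :=
    fun f => H11Ample.gen_smul_pullSect f hL s isUnit_one
  have hi0 : H25AbCube.ev ℓ i = 0 := by
    have h1 := H25AbCube.pc_eq_zero_of_gen (H11Ample.isInvertible_pullback i.left hL) _ ((hgs i.left).trans
      (TopologicalSpace.Opens.ext (Set.eq_univ_of_forall fun z => by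
        show i.left z ∈ (↑(H11Ample.gen L s) : Set A.left)
        rw [hU]
        exact Set.disjoint_left.1 hdisj (hrange.le (Set.mem_range_self z)))))
    rwa [H25AbCube.pullP_pc i.left L hL] at h1
  have key : ∀ (x : 𝟙_ (Over (Spec (CommRingCat.of k))) ⟶ A), P x ∈ C → ∀ a, P (x * a) ∈ Δ →
      (∀ c, P c ∈ C → P (c * a) ∈ Δ) ∨ (∀ c, P c ∈ C → P (c * a⁻¹) ∈ Δ) := by
    intro x hx a ha
    let f : Z ⟶ A := i * (toUnit Z ≫ a)
    let f' : Z ⟶ A := i * (toUnit Z ≫ a⁻¹)
    have hp := H11Ample.isInvertible_pullback f.left hL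
    have hp' := H11Ample.isInvertible_pullback f'.left hL
    have hsum : H25AbCube.pc _ (H11Ample.isInvertible_tensor hp hp') = 0 := by
      rw [H25AbCube.pc_tensor hp hp' _, H25AbCube.pullP_pc f.left L hL, H25AbCube.pullP_pc f'.left L hL]
      show H25AbCube.ev ℓ f + H25AbCube.ev ℓ f' = 0
      have e1 : H25AbCube.ev ℓ f = H25AbCube.ev ℓ i + H25AbCube.th ℓ i (toUnit Z ≫ a) := by
        rw [H25AbCube.th, H25AbCube.ev_const]; abel
      have e2 : H25AbCube.ev ℓ f' = H25AbCube.ev ℓ i + H25AbCube.th ℓ i (toUnit Z ≫ a⁻¹) := by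
        rw [H25AbCube.th, H25AbCube.ev_const]; abel
      rw [e1, e2, hi0, GrpObj.comp_inv, H25AbCube.th_inv_right]
      abel
    let t := H11Ample.tm ((1 : Γ(Z.left, ⊤)) • H11Ample.pullTop f.left s) ((1 : Γ(Z.left, ⊤)) • H11Ample.pullTop f'.left s)
    -- lifts of points of the curve
    have hlift : ∀ c, P c ∈ C → ∃ z : Z.left, ∀ b, (i * (toUnit Z ≫ b)).left z = P (c * b) := by
      intro c hc
      obtain ⟨z, hz⟩ : P c ∈ Set.range i.left := hrange.ge hc
      refine ⟨z, fun b => ?_⟩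
      have hb : (i * (toUnit Z ≫ b)) = i ≫ (𝟙 A * (toUnit A ≫ b)) := by
        rw [MonObj.comp_mul, Category.comp_id, ← Category.assoc, comp_toUnit]
      rw [hb, Over.comp_left, Scheme.Hom.comp_apply, hz]
      exact hmulpt b c
    obtain ⟨z₀, hz₀⟩ := hlift x hx
    have hempty : ∀ z, f.left z ∈ Δ ∨ f'.left z ∈ Δ := by
      intro z
      by_contra hz
      have htop := H25AbCube.gen_eq_top_of_trivial (H11Ample.isInvertible_tensor hp hp') hsum t ⟨z, by
        rw [H11Ample.gen_tm hp hp', hgs, hgs]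
        refine ⟨?_, ?_⟩
        · show f.left z ∈ (↑(H11Ample.gen L s) : Set A.left)
          rw [hU]; exact fun h => hz (Or.inl h)
        · show f'.left z ∈ (↑(H11Ample.gen L s) : Set A.left)
          rw [hU]; exact fun h => hz (Or.inr h)⟩
      rw [H11Ample.gen_tm hp hp', hgs, hgs] at htop
      have h1 : f.left z₀ ∈ (↑(H11Ample.gen L s) : Set A.left) := (inf_eq_top_iff.1 htop).1.ge trivial
      rw [hU] at h1
      exact h1 (by rw [hz₀ a]; exact ha)
    rcases isPreirreducible_iff_isClosed_union_isClosed.1 (IrreducibleSpace.isIrreducible_univ Z.left).isPreirreducible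
        (f.left ⁻¹' Δ) (f'.left ⁻¹' Δ) (hΔ.preimage f.left.continuous) (hΔ.preimage f'.left.continuous)
        (fun z _ => hempty z) with h | h
    · exact Or.inl fun c hc => by
        obtain ⟨z, hz⟩ := hlift c hc
        rw [← hz]; exact h (Set.mem_univ z)
    · exact Or.inr fun c hc => by
        obtain ⟨z, hz⟩ := hlift c hc
        rw [← hz]; exact h (Set.mem_univ z)
  have main : ∀ (x y : 𝟙_ (Over (Spec (CommRingCat.of k))) ⟶ A), P x ∈ C → P y ∈ C →
      ∀ b, P b ∈ Δ → P (b * (y * x⁻¹)) ∈ Δ := by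
    intro x y hx hy
    let φ : A ⟶ A := 𝟙 A * (toUnit A ≫ x)
    let ψ : A ⟶ A := 𝟙 A * (toUnit A ≫ x⁻¹)
    have hφψ : φ ≫ ψ = 𝟙 A := by
      rw [MonObj.comp_mul, Category.comp_id, ← Category.assoc, comp_toUnit, _root_.mul_assoc, ← MonObj.comp_mul,
        mul_inv_cancel, MonObj.comp_one, _root_.mul_one]
    have hψφ : ψ ≫ φ = 𝟙 A := by
      rw [MonObj.comp_mul, Category.comp_id, ← Category.assoc, comp_toUnit, _root_.mul_assoc, ← MonObj.comp_mul,
        inv_mul_cancel, MonObj.comp_one, _root_.mul_one]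
    have h1 : ∀ w, φ.left (ψ.left w) = w := fun w => by rw [← Scheme.Hom.comp_apply, ← Over.comp_left, hψφ]; rfl
    have h2 : ∀ w, ψ.left (φ.left w) = w := fun w => by rw [← Scheme.Hom.comp_apply, ← Over.comp_left, hφψ]; rfl
    let T : Set A.left := φ.left ⁻¹' Δ
    have hTgen : T ⊆ closure {ψ.left ξ} := fun w hw => by
      have := image_closure_subset_closure_image ψ.left.continuous ⟨φ.left w, hξ.ge hw, rfl⟩
      rwa [Set.image_singleton, h2] at this
    let S₁ : Set A.left := ⋂ c ∈ {c : 𝟙_ (Over (Spec (CommRingCat.of k))) ⟶ A | P c ∈ C},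
      (𝟙 A * (toUnit A ≫ c)).left ⁻¹' Δ
    let S₂ : Set A.left := ⋂ c ∈ {c : 𝟙_ (Over (Spec (CommRingCat.of k))) ⟶ A | P c ∈ C},
      ((𝟙 A)⁻¹ ≫ (𝟙 A * (toUnit A ≫ c))).left ⁻¹' Δ
    have hS₁ : IsClosed S₁ := isClosed_biInter fun c _ => hΔ.preimage (Scheme.Hom.continuous _)
    have hS₂ : IsClosed S₂ := isClosed_biInter fun c _ => hΔ.preimage (Scheme.Hom.continuous _)
    have hm₁ : ∀ a, P a ∈ S₁ ↔ ∀ c, P c ∈ C → P (c * a) ∈ Δ := fun a => by
      simp only [S₁, Set.mem_iInter₂, Set.mem_preimage, Set.mem_ofPred_eq, hmulpt]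
      exact forall₂_congr fun c _ => by rw [mul_comm a c]
    have hm₂ : ∀ a, P a ∈ S₂ ↔ ∀ c, P c ∈ C → P (c * a⁻¹) ∈ Δ := fun a => by
      simp only [S₂, Set.mem_iInter₂, Set.mem_preimage, Set.mem_ofPred_eq]
      refine forall₂_congr fun c _ => ?_
      have : ((𝟙 A)⁻¹ : A ⟶ A).left (P a) = P a⁻¹ := by
        show (a.left ≫ _) (IsLocalRing.closedPoint k) = _
        rw [← Over.comp_left]
        first | rw [GrpObj.comp_inv, Category.comp_id] | rw [← Hom.inv_def]
      rw [Over.comp_left, Scheme.Hom.comp_apply, this, hmulpt, mul_comm a⁻¹ c]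
    have hT : T ⊆ S₁ ∪ S₂ := by
      by_contra hne
      obtain ⟨w, hw, hne⟩ := Set.not_subset.1 hne
      obtain ⟨v, hv, hvc⟩ := nonempty_inter_closedPoints (Z := T ∩ (S₁ ∪ S₂)ᶜ) ⟨w, hw, hne⟩
        ((hΔ.preimage φ.left.continuous).isLocallyClosed.inter (hS₁.union hS₂).isOpen_compl.isLocallyClosed)
      obtain ⟨a, rfl⟩ := hpt v hvc
      have : P (x * a) ∈ Δ := by
        have := hv.1
        simp only [T, φ, Set.mem_preimage, hmulpt] at this
        rwa [mul_comm]
      rcases key x hx a this with h | h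
      · exact hv.2 (Or.inl ((hm₁ a).2 h))
      · exact hv.2 (Or.inr ((hm₂ a).2 h))
    have hψξ : ψ.left ξ ∈ T := by
      show φ.left (ψ.left ξ) ∈ Δ
      rw [h1]; exact hξ ▸ subset_closure rfl
    have hTb : ∀ b, P b ∈ Δ → P (b * x⁻¹) ∈ T := fun b hb => by
      show φ.left _ ∈ Δ
      simp only [φ, hmulpt]
      rwa [inv_mul_cancel_right]
    rcases hT hψξ with h | h
    · intro b hb
      have := (hm₁ _).1 ((hTgen.trans (closure_minimal (Set.singleton_subset_iff.2 h) hS₁)) (hTb b hb)) y hy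
      rwa [show b * (y * x⁻¹) = y * (b * x⁻¹) by rw [mul_left_comm]]
    · intro b hb
      have hall : ∀ b, P b ∈ Δ → ∀ c, P c ∈ C → P (c * (b * x⁻¹)⁻¹) ∈ Δ := fun b hb =>
        (hm₂ _).1 ((hTgen.trans (closure_minimal (Set.singleton_subset_iff.2 h) hS₂)) (hTb b hb))
      have h3 := hall _ (hall b hb x hx) y hy
      convert h3 using 2
      simp [mul_comm, mul_left_comm]
  have hx' : P x ∈ C := hx ⟨_, rfl⟩
  have hy' : P y ∈ C := hy ⟨_, rfl⟩
  have hiff : ∀ b, P b ∈ (𝟙 A * (toUnit A ≫ (x * y⁻¹))).left.base ⁻¹' Δ ↔ P b ∈ Δ := fun b => by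
    show (𝟙 A * (toUnit A ≫ (x * y⁻¹))).left (P b) ∈ Δ ↔ _
    rw [hmulpt]
    refine ⟨fun h => ?_, main y x hy' hx' b⟩
    have := main x y hx' hy' _ h
    convert this using 2
    simp [mul_comm, mul_left_comm]
  have hclosed := hΔ.preimage (𝟙 A * (toUnit A ≫ (x * y⁻¹))).left.continuous
  refine Set.Subset.antisymm (fun w hw => ?_) fun w hw => ?_
  all_goals by_contra hne
  · obtain ⟨v, hv, hvc⟩ := nonempty_inter_closedPoints (Z := _ ∩ Δᶜ) ⟨w, hw, hne⟩
      (hclosed.isLocallyClosed.inter hΔ.isOpen_compl.isLocallyClosed)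
    obtain ⟨b, rfl⟩ := hpt v hvc
    exact hv.2 ((hiff b).1 hv.1)
  · obtain ⟨v, hv, hvc⟩ := nonempty_inter_closedPoints (Z := Δ ∩ _) ⟨w, hw, hne⟩
      (hΔ.isLocallyClosed.inter hclosed.isOpen_compl.isLocallyClosed)
    obtain ⟨b, rfl⟩ := hpt v hvc
    exact hv.2 ((hiff b).2 hv.1)

end Groth.Agent.S18373
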