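import Groth.Statements.S18383
import Groth.Agent.H19Grp.Basic


set_option autoImplicit false
set_option backward.isDefEq.respectTransparency.types false
universe u
open CategoryTheory CategoryTheory.Limits MonoidalCategory CartesianMonoidalCategory MonObj GrpObj AlgebraicGeometry
open GrpSch

namespace Groth.Agent.S18383

/-- Let S be a scheme, H an S-group scheme and i : G → H a homomorphism of S-group schemes which is a
closed immersion (G a closed subgroup scheme of H). Then the left-translation action of G on H is
strictly free: the S-morphism G ×_S H → H ×_S H, (g, h) ↦ (i(g)·h, h), is a closed immersion. -/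
theorem result {S : Scheme.{u}} (G H : Over S)
    [GrpObj G] [GrpObj H] (i : G ⟶ H) [IsMonHom i] [IsClosedImmersion i.left] :
    IsClosedImmersion (CartesianMonoidalCategory.lift ((i ▷ H) ≫ μ[H]) (snd G H)).left := by
  let e : H ⊗ H ≅ H ⊗ H :=
    { hom := lift (μ[H]) (snd H H)
      inv := lift (fst H H / snd H H) (snd H H)
      hom_inv_id := by
        ext
        · simp [MonObj.mul_eq_mul, GrpObj.comp_div]
        · simp
      inv_hom_id := by
        ext
        · simp [MonObj.mul_eq_mul, MonObj.comp_mul]
        · simp }
  have hfac : CartesianMonoidalCategory.lift ((i ▷ H) ≫ μ[H]) (snd G H) = (i ▷ H) ≫ e.hom := by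
    ext <;> simp [e]
  rw [hfac, Over.comp_left]
  have h1 : IsClosedImmersion (i ▷ H).left := by
    rw [Over.whiskerRight_left]
    exact MorphismProperty.pullbackMap (P := @IsClosedImmersion.{u})
      (inferInstanceAs (IsClosedImmersion i.left)) (inferInstanceAs (IsClosedImmersion (𝟙 H.left)))
      (Over.w i).symm (Category.id_comp _).symm
  have : IsIso e.hom.left := ⟨⟨e.inv.left, by rw [← Over.comp_left, e.hom_inv_id]; rfl, by rw [← Over.comp_left, e.inv_hom_id]; rfl⟩⟩
  exact MorphismProperty.comp_mem (W := @IsClosedImmersion.{u}) _ _ h1 inferInstance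

end Groth.Agent.S18383
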