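import Groth.Statements.S18384
import Mathlib.RingTheory.Filtration
-- import your own Groth.Agent.* helpers here

set_option autoImplicit false
set_option linter.style.haveILetI false
set_option backward.isDefEq.respectTransparency false
universe u
open CategoryTheory CategoryTheory.Limits AlgebraicGeometry
open Coherent

namespace Groth.Agent.S18384

open CategoryTheory CategoryTheory.Limits AlgebraicGeometry TopologicalSpace Opposite

lemma appLE_stalk_quot {X : Scheme.{u}} {x : X} {V : X.Opens} (hxV : x ∈ V) {R : CommRingCat.{u}}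
    (q : X.presheaf.stalk x ⟶ R) (e : ⊤ ≤ (Spec.map q ≫ X.fromSpecStalk x) ⁻¹ᵁ V) :
    (Spec.map q ≫ X.fromSpecStalk x).appLE V ⊤ e =
      X.presheaf.germ V x hxV ≫ q ≫ (Scheme.ΓSpecIso R).inv := by
  rw [Scheme.ΓSpecIso_inv_naturality]
  simp only [Scheme.Hom.appLE, Scheme.Hom.comp_app, Scheme.fromSpecStalk_app hxV, Category.assoc]
  simp [Scheme.Hom.appTop]
  rfl

lemma q_germ_eq_zero {X : Scheme.{u}} {x : X} {V : X.Opens} (hxV : x ∈ V) {R : CommRingCat.{u}}
    (q : X.presheaf.stalk x ⟶ R) (e : ⊤ ≤ (Spec.map q ≫ X.fromSpecStalk x) ⁻¹ᵁ V) (a : Γ(X, V))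
    (h0 : ((Spec.map q ≫ X.fromSpecStalk x).appLE V ⊤ e).hom a = 0) :
    q.hom ((X.presheaf.germ V x hxV).hom a) = 0 := by
  rw [appLE_stalk_quot hxV q e, CommRingCat.comp_apply, CommRingCat.comp_apply] at h0
  have := congrArg (Scheme.ΓSpecIso R).hom.hom h0
  rwa [map_zero, ← CommRingCat.comp_apply, Iso.inv_hom_id, CommRingCat.id_apply] at this

lemma appLE_ker {X T : Scheme.{u}} (I : X.IdealSheafData) (f : T ⟶ I.subscheme) (k : T ⟶ X)
    (hk : f ≫ I.subschemeι = k) (V : X.affineOpens) (a : Γ(X, V.1)) (ha : a ∈ I.ideal V) (W : T.Opens)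
    (e : W ≤ k ⁻¹ᵁ V.1) : (k.appLE V.1 W e).hom a = 0 := by
  subst hk
  rw [← I.ker_subschemeι_app V] at ha
  have h1 : ((f ≫ I.subschemeι).appLE V.1 W e).hom a =
      ((T.presheaf.map (homOfLE e).op)).hom ((f.app (I.subschemeι ⁻¹ᵁ V.1)).hom
        ((I.subschemeι.app V.1).hom a)) := rfl
  rw [h1, RingHom.mem_ker.mp ha]
  simp

lemma germ_eq_zero {X S : Scheme.{u}} [IsLocallyNoetherian X] (p : X ⟶ S) (I : X.IdealSheafData)
    (x : X) (h : ∀ n : ℕ, ∃ g : pullback p (Spec.map (CommRingCat.ofHom (Ideal.Quotient.mk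
        (IsLocalRing.maximalIdeal ↑(S.presheaf.stalk (p.base x)) ^ (n + 1)))) ≫ S.fromSpecStalk (p.base x))
        ⟶ I.subscheme, g ≫ I.subschemeι = pullback.fst p _)
    (V : X.affineOpens) (hxV : x ∈ V.1) (a : Γ(X, V.1)) (ha : a ∈ I.ideal V) :
    (X.presheaf.germ V.1 x hxV).hom a = 0 := by
  have key : ∀ n : ℕ, (X.presheaf.germ V.1 x hxV).hom a ∈
      IsLocalRing.maximalIdeal (X.presheaf.stalk x) ^ (n + 1) := by
    intro n
    obtain ⟨g, hg⟩ := h n
    let q : X.presheaf.stalk x ⟶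
        CommRingCat.of (X.presheaf.stalk x ⧸ IsLocalRing.maximalIdeal (X.presheaf.stalk x) ^ (n + 1)) :=
      CommRingCat.ofHom (Ideal.Quotient.mk _)
    have hle : IsLocalRing.maximalIdeal (S.presheaf.stalk (p.base x)) ^ (n + 1) ≤
        (IsLocalRing.maximalIdeal (X.presheaf.stalk x) ^ (n + 1)).comap (p.stalkMap x).hom := by
      refine le_trans ?_ (Ideal.le_comap_pow _ _)
      exact Ideal.pow_right_mono (fun y hy => map_nonunit (p.stalkMap x).hom y hy) _
    let φ := CommRingCat.ofHom (Ideal.quotientMap (IsLocalRing.maximalIdeal (X.presheaf.stalk x) ^ (n + 1))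
      (p.stalkMap x).hom hle)
    have hφ : CommRingCat.ofHom (Ideal.Quotient.mk
        (IsLocalRing.maximalIdeal ↑(S.presheaf.stalk (p.base x)) ^ (n + 1))) ≫ φ = p.stalkMap x ≫ q := by
      ext b; rfl
    have hw : (Spec.map q ≫ X.fromSpecStalk x) ≫ p = Spec.map φ ≫ Spec.map (CommRingCat.ofHom
        (Ideal.Quotient.mk (IsLocalRing.maximalIdeal ↑(S.presheaf.stalk (p.base x)) ^ (n + 1)))) ≫
          S.fromSpecStalk (p.base x) := by
      rw [Category.assoc, ← Scheme.SpecMap_stalkMap_fromSpecStalk, ← Spec.map_comp_assoc,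
        ← Spec.map_comp_assoc, hφ]
    let c := pullback.lift _ _ hw
    have hc : (c ≫ g) ≫ I.subschemeι = Spec.map q ≫ X.fromSpecStalk x := by
      rw [Category.assoc, hg, pullback.lift_fst]
    have e : ⊤ ≤ (Spec.map q ≫ X.fromSpecStalk x) ⁻¹ᵁ V.1 := by
      rintro y -
      have hy : (Spec.map q ≫ X.fromSpecStalk x).base y ∈ Set.range (X.fromSpecStalk x).base :=
        ⟨(Spec.map q).base y, by simp⟩
      rw [Scheme.range_fromSpecStalk] at hy
      exact hy.mem_open V.1.2 hxV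
    have h0 := appLE_ker I _ _ hc V a ha ⊤ e
    have h2 := q_germ_eq_zero hxV q e a h0
    exact Ideal.Quotient.eq_zero_iff_mem.mp h2
  have hbot := Ideal.iInf_pow_eq_bot_of_isLocalRing (IsLocalRing.maximalIdeal (X.presheaf.stalk x))
    (IsLocalRing.maximalIdeal.isMaximal _).ne_top
  have : (X.presheaf.germ V.1 x hxV).hom a ∈ (⨅ i : ℕ, IsLocalRing.maximalIdeal (X.presheaf.stalk x) ^ i) := by
    rw [Ideal.mem_iInf]
    intro i
    exact Ideal.pow_le_pow_right (Nat.le_succ i) (key i)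
  rw [hbot] at this
  exact this

lemma exists_affine_ideal_bot {X : Scheme.{u}} [IsLocallyNoetherian X] (I : X.IdealSheafData) (x : X)
    (hx : ∀ (V : X.affineOpens) (hxV : x ∈ V.1) (a : Γ(X, V.1)), a ∈ I.ideal V →
      (X.presheaf.germ V.1 x hxV).hom a = 0) :
    ∃ D : X.affineOpens, x ∈ D.1 ∧ I.ideal D = ⊥ := by
  obtain ⟨V, hV, hxV, -⟩ :=
    exists_isAffineOpen_mem_and_subset (x := x) (U := ⊤) (Opens.mem_top x)
  have := IsLocallyNoetherian.component_noetherian ⟨V, hV⟩
  obtain ⟨s, hs⟩ := IsNoetherian.noetherian (I.ideal ⟨V, hV⟩)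
  have hz : ∀ a ∈ s, ∃ f : Γ(X, V), x ∈ X.basicOpen f ∧
      (X.presheaf.map (homOfLE (X.basicOpen_le f)).op).hom a = 0 := by
    intro a ha
    have h0 : (X.presheaf.germ V x hxV).hom a = 0 :=
      hx ⟨V, hV⟩ hxV a (hs ▸ Ideal.subset_span ha)
    obtain ⟨W, hxW, iW, iW', hW⟩ := X.presheaf.germ_eq x hxV hxV a 0 (by rw [map_zero]; exact h0)
    obtain ⟨f, hfW, hxf⟩ := hV.exists_basicOpen_le (V := W) ⟨x, hxW⟩ hxV
    refine ⟨f, hxf, ?_⟩
    have e1 : (homOfLE (X.basicOpen_le f)).op = iW.op ≫ (homOfLE hfW).op := Subsingleton.elim _ _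
    rw [e1, X.presheaf.map_comp, CommRingCat.comp_apply, hW]
    simp
  choose! F hxF hF using hz
  classical
  refine ⟨X.affineBasicOpen (U := ⟨V, hV⟩) (∏ a ∈ s, F a), ?_, ?_⟩
  · change x ∈ X.basicOpen (∏ a ∈ s, F a)
    rw [X.mem_basicOpen _ _ hxV, map_prod]
    exact IsUnit.prod_iff.mpr (fun a ha => (X.mem_basicOpen _ _ hxV).mp (hxF a ha))
  · rw [← I.map_ideal (X.affineBasicOpen_le (V := ⟨V, hV⟩) _), ← hs]
    rw [Ideal.submodule_span_eq, Ideal.map_span, Ideal.span_eq_bot]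
    rintro - ⟨a, ha, rfl⟩
    have hle : X.basicOpen (∏ b ∈ s, F b) ≤ X.basicOpen (F a) := by
      rw [← Finset.mul_prod_erase s F ha, X.basicOpen_mul]
      exact inf_le_left
    have e1 : (homOfLE (X.basicOpen_le (∏ b ∈ s, F b))).op =
        (homOfLE (X.basicOpen_le (F a))).op ≫ (homOfLE hle).op := Subsingleton.elim _ _
    change (X.presheaf.map (homOfLE (X.basicOpen_le (∏ b ∈ s, F b))).op).hom a = 0
    rw [e1, X.presheaf.map_comp, CommRingCat.comp_apply, hF a ha]
    simp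



/-- Let p : X → S be a morphism of locally Noetherian schemes, t a point of S, m the maximal ideal of
the local ring O_{S,t}, and Z the closed subscheme of X defined by a quasi-coherent ideal I. Suppose
that for every n ≥ 1 the projection X ×_S Spec(O_{S,t}/m^n) → X factors through Z. Then there is an
open subscheme U of X containing every point of the fibre p⁻¹(t) such that the inclusion U → X
factors through Z. -/
theorem result {X S : Scheme.{u}}
    [IsLocallyNoetherian X] [IsLocallyNoetherian S] (p : X ⟶ S) (t : S) (I : X.IdealSheafData)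
    (h : ∀ n : ℕ, ∃ g : pullback p (Spec.map (CommRingCat.ofHom (Ideal.Quotient.mk
        (IsLocalRing.maximalIdeal ↑(S.presheaf.stalk t) ^ (n + 1)))) ≫ S.fromSpecStalk t) ⟶ I.subscheme,
        g ≫ I.subschemeι = pullback.fst p _) :
    ∃ U : X.Opens, (∀ x : X, p.base x = t → x ∈ U) ∧
      ∃ g : (U : Scheme.{u}) ⟶ I.subscheme, g ≫ I.subschemeι = U.ι := by
  let U : X.Opens := ⨆ (D : X.affineOpens) (_ : I.ideal D = ⊥), D.1
  refine ⟨U, fun x hx => ?_, ?_⟩
  · subst hx
    obtain ⟨D, hxD, hD⟩ := exists_affine_ideal_bot I x (germ_eq_zero p I x h)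
    exact Opens.mem_iSup.mpr ⟨D, Opens.mem_iSup.mpr ⟨hD, hxD⟩⟩
  · have hle : I.subschemeι.ker ≤ U.ι.ker := by
      rw [Scheme.IdealSheafData.ker_subschemeι]
      refine Scheme.IdealSheafData.le_ofIdeals_iff.mpr fun V a ha => ?_
      rw [RingHom.mem_ker]
      have key : (X.presheaf.map (homOfLE (inf_le_right : U ⊓ V.1 ≤ V.1)).op).hom a = 0 := by
        apply X.sheaf.eq_of_locally_eq' (fun D : {D : X.affineOpens // I.ideal D = ⊥ } => D.1.1 ⊓ V.1)
          (U ⊓ V.1) (fun D => homOfLE (inf_le_inf_right _ (le_iSup₂_of_le D.1 D.2 le_rfl)))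
        · rintro y ⟨hyU, hyV⟩
          obtain ⟨D, hy⟩ := Opens.mem_iSup.mp hyU
          obtain ⟨hD, hy⟩ := Opens.mem_iSup.mp hy
          exact Opens.mem_iSup.mpr ⟨⟨D, hD⟩, hy, hyV⟩
        · rintro ⟨D, hD⟩
          apply X.sheaf.eq_of_locally_eq' (fun E : {E : X.affineOpens // E.1 ≤ D.1 ⊓ V.1} => E.1.1)
            (D.1 ⊓ V.1) (fun E => homOfLE E.2)
          · intro y hy
            obtain ⟨W, hW, hyW, hWle⟩ := exists_isAffineOpen_mem_and_subset hy
            exact Opens.mem_iSup.mpr ⟨⟨⟨W, hW⟩, hWle⟩, hyW⟩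
          · rintro ⟨E, hE⟩
            have hb : (X.presheaf.map (homOfLE (hE.trans inf_le_right)).op).hom a ∈ I.ideal E := by
              rw [← I.map_ideal (U := E) (V := V) (hE.trans inf_le_right)]
              exact Ideal.mem_map_of_mem _ ha
            rw [← I.map_ideal (U := E) (V := D) (hE.trans inf_le_left), hD, Ideal.map_bot,
              Ideal.mem_bot] at hb
            change (X.presheaf.map _).hom ((X.presheaf.map _).hom ((X.presheaf.map _).hom a)) =
              (X.presheaf.map _).hom ((X.presheaf.map _).hom 0)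
            simp only [map_zero, ← CommRingCat.comp_apply, ← X.presheaf.map_comp]
            exact hb
      rw [Scheme.Opens.ι_app]
      have e1 : (homOfLE (Scheme.Hom.image_preimage_eq_opensRange_inf U.ι V.1 ▸
          inf_le_right : U.ι ''ᵁ U.ι ⁻¹ᵁ V.1 ≤ V.1)).op = (homOfLE (inf_le_right : U ⊓ V.1 ≤ V.1)).op ≫
            (homOfLE (by simp [Scheme.Hom.image_preimage_eq_opensRange_inf] :
              U.ι ''ᵁ U.ι ⁻¹ᵁ V.1 ≤ U ⊓ V.1)).op := Subsingleton.elim _ _
      change (X.presheaf.map _).hom a = 0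
      rw [show (X.presheaf.map _) = _ from congrArg X.presheaf.map e1, X.presheaf.map_comp,
        CommRingCat.comp_apply, key, map_zero]
    exact ⟨IsClosedImmersion.lift I.subschemeι U.ι hle, IsClosedImmersion.lift_fac _ _ _⟩


end Groth.Agent.S18384
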