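import Groth.Statements.S18385
import Groth.Agent.H25Grp.Isogeny
import Groth.Agent.H19Grp.FibreLoci
import Groth.Agent.H8Props.FieldDimFibre

set_option autoImplicit false
set_option maxHeartbeats 1000000
set_option synthInstance.maxHeartbeats 100000
set_option linter.style.haveILetI false
set_option backward.isDefEq.respectTransparency false
universe u
open CategoryTheory CategoryTheory.Limits MonoidalCategory CartesianMonoidalCategory MonObj GrpObj AlgebraicGeometry
open AbSch

namespace Groth.Agent.S18385

theorem fibre_facts {S : Scheme.{u}} (A B : Over S)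
    [GrpObj A] [Smooth A.hom] [IsProper A.hom] [GeometricallyConnected A.hom]
    [GrpObj B] [Smooth B.hom] [IsProper B.hom] [GeometricallyConnected B.hom]
    (f : A ⟶ B) [IsMonHom f]
    (hdim : ∀ s : S, topologicalKrullDim ↥(A.hom.fiber s) = topologicalKrullDim ↥(B.hom.fiber s)) (s : S) :
    LocallyQuasiFinite ((Over.pullback (S.fromSpecResidueField s)).map f).left ↔
      Surjective ((Over.pullback (S.fromSpecResidueField s)).map f).left := by
  let F := Over.pullback (S.fromSpecResidueField s)
  letI : GrpObj (F.obj A) := Functor.grpObjObj
  letI : GrpObj (F.obj B) := Functor.grpObjObj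
  haveI : IsMonHom (F.map f) := inferInstance
  haveI : Smooth (F.obj A).hom := MorphismProperty.pullback_snd _ _ inferInstance
  haveI : Smooth (F.obj B).hom := MorphismProperty.pullback_snd _ _ inferInstance
  haveI : IsProper (F.obj A).hom := MorphismProperty.pullback_snd _ _ inferInstance
  haveI : IsProper (F.obj B).hom := MorphismProperty.pullback_snd _ _ inferInstance
  haveI : GeometricallyConnected (F.obj A).hom := MorphismProperty.pullback_snd _ _ inferInstance
  haveI : GeometricallyConnected (F.obj B).hom := MorphismProperty.pullback_snd _ _ inferInstance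
  haveI : IrreducibleSpace (F.obj A).left := Groth.Agent.H25Grp.irreducibleSpace_group
  haveI : IrreducibleSpace (F.obj B).left := Groth.Agent.H25Grp.irreducibleSpace_group
  haveI : IsProper (F.map f).left := by
    haveI : IsProper ((F.map f).left ≫ (F.obj B).hom) := by rw [Over.w]; infer_instance
    exact IsProper.of_comp (F.map f).left (F.obj B).hom
  have hd : topologicalKrullDim (F.obj A).left = topologicalKrullDim (F.obj B).left := hdim s
  constructor
  · intro _
    haveI : IsFinite (F.map f).left := IsFinite.of_isProper_of_locallyQuasiFinite _
    exact Groth.Agent.H25Grp.surjective_of_finite (F.obj A).hom (F.obj B).hom (F.map f).left hd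
  · intro _
    haveI : Flat (F.map f).left := Groth.Agent.H19Grp.flat_of_surjective (F.map f)
    haveI : IsFinite (F.map f).left :=
      Groth.Agent.H25Grp.isFinite_of_flat (F.obj A).hom (F.obj B).hom (F.map f).left (Over.w _) hd
    infer_instance


/-- (2) ⇔ (3): let S be a scheme, A and B abelian schemes over S (S-group schemes, smooth and proper
over S with geometrically connected fibres) whose fibres A_s and B_s have the same dimension for
every point s of S, and f : A → B a homomorphism of S-group schemes. Then f is locally quasi-finite
if and only if f is surjective (and then f is an isogeny). -/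
theorem result {S : Scheme.{u}} (A B : Over S)
    [GrpObj A] [Smooth A.hom] [IsProper A.hom] [GeometricallyConnected A.hom]
    [GrpObj B] [Smooth B.hom] [IsProper B.hom] [GeometricallyConnected B.hom]
    (f : A ⟶ B) [IsMonHom f]
    (hdim : ∀ s : S, topologicalKrullDim ↥(A.hom.fiber s) = topologicalKrullDim ↥(B.hom.fiber s)) :
    LocallyQuasiFinite f.left ↔ Surjective f.left := by
  constructor
  · intro hl
    refine ⟨fun y => ?_⟩
    obtain ⟨z, hz⟩ := Groth.Agent.H19Grp.exists_fibre_point B (rfl : B.hom y = B.hom y)
    have sq := Groth.Agent.H19Grp.isPullback_map (S.fromSpecResidueField (B.hom y)) f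
    haveI := (fibre_facts A B f hdim (B.hom y)).1 (MorphismProperty.of_isPullback sq hl)
    obtain ⟨w, hw⟩ := ((Over.pullback (S.fromSpecResidueField (B.hom y))).map f).left.surjective z
    refine ⟨pullback.fst A.hom (S.fromSpecResidueField (B.hom y)) w, ?_⟩
    refine Eq.trans ((Scheme.Hom.comp_apply _ _ _).symm.trans (Eq.trans ?_ (Scheme.Hom.comp_apply _ _ _)))
      ((congrArg (pullback.fst B.hom (S.fromSpecResidueField (B.hom y))) hw).trans hz)
    exact congrArg (fun m => m w) sq.w
  · intro hs
    haveI : LocallyOfFiniteType f.left := by
      haveI : LocallyOfFiniteType (f.left ≫ B.hom) := by rw [Over.w]; infer_instance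
      exact locallyOfFiniteType_of_comp f.left B.hom
    rw [locallyQuasiFinite_iff_isDiscrete_preimage_singleton]
    intro y
    have hfib : LocallyQuasiFinite (f.left.fiberToSpecResidueField y) :=
      Groth.Agent.H19Grp.fibre_point_of_map f y ((fibre_facts A B f hdim (B.hom y)).2
        (MorphismProperty.of_isPullback (Groth.Agent.H19Grp.isPullback_map _ f) hs))
    haveI := Groth.Agent.H8Props.FieldDim.locallyOfFiniteType_fiberToSpec f.left y
    have hd := (locallyQuasiFinite_iff_isDiscrete_preimage_singleton (f := f.left.fiberToSpecResidueField y)).1 hfib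
      (IsLocalRing.closedPoint _)
    rw [isDiscrete_iff_discreteTopology] at hd ⊢
    haveI : DiscreteTopology (f.left.fiber y) := by
      have hu : (f.left.fiberToSpecResidueField y) ⁻¹' {IsLocalRing.closedPoint _} = Set.univ :=
        Set.eq_univ_of_forall fun w => Subsingleton.elim (α := PrimeSpectrum (B.left.residueField y)) _ _
      rw [hu] at hd
      exact (Homeomorph.Set.univ (f.left.fiber y)).symm.isEmbedding.discreteTopology
    exact (f.left.fiberHomeo y).symm.isEmbedding.discreteTopology

end Groth.Agent.S18385
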