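import Groth.Statements.S18386
import Groth.Agent.H27LV.IdealSheaf

set_option autoImplicit false
universe u
open LVCorr

namespace Groth.Agent.S18386

open AlgebraicGeometry in
/-- Let X be a connected Noetherian scheme and I a quasi-coherent sheaf of ideals on X, different from
the structure sheaf, such that I^k = I^(k+1) for some natural number k. Then I^k = 0. -/
theorem result (X : Scheme.{u}) [AlgebraicGeometry.IsNoetherian X]
    [ConnectedSpace X] (I : X.IdealSheafData) (hI : I ≠ ⊤) (k : ℕ)
    (h : I ^ k = I ^ (k + 1)) : I ^ k = ⊥ := by
  exact H27LV.idealSheaf_pow_eq_bot X I hI k h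

end Groth.Agent.S18386
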