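import Groth.Statements.S18387
import Groth.Agent.H27Num.Basic

set_option autoImplicit false
universe u
open LVCorr

namespace Groth.Agent.S18387

/-- In the affine form which its proof establishes. Let A be a commutative algebra over a field F which
is finite-dimensional of dimension d over F. Then the d-th power of the nilradical of A vanishes.
(Applied to the fibre algebra A = B/mB of a quasi-finite morphism over a closed point with maximal
ideal m, this says that the d-th power of the radical of mB lies in mB, i.e. the ramification of the
morphism at that point is at most the degree d of the fibre.) -/
theorem result (F A : Type u) [Field F] [CommRing A] [Algebra F A]
    [FiniteDimensional F A] : nilradical A ^ Module.finrank F A = ⊥ := by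
  exact Groth.Agent.H27Num.nilradical_pow_finrank_eq_bot F A

end Groth.Agent.S18387
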