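import Groth.Statements.S18389
import Mathlib

set_option autoImplicit false
universe u
open LVCorr

namespace Groth.Agent.S18389

open AlgebraicGeometry CategoryTheory in
/-- Let j : C → C̄ be an open immersion with dense image and jX : X → X̄ an open immersion, and let c₁ :
C → X and c̄₁ : C̄ → X̄ satisfy j followed by c̄₁ equals c₁ followed by jX, with c̄₁ separated. Let
U be an open subset of X such that c₁⁻¹(U) is dense in C and the restriction c₁⁻¹(U) → U of c₁ is
proper. Then c̄₁⁻¹(jX(U)) = j(c₁⁻¹(U)) as open subsets of C̄. (In the source all schemes are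
separated of finite type over a field, C̄ and X̄ are compactifications of a correspondence and of X,
so that c̄₁ is automatically separated.) -/
theorem result {C Cb X Xb : Scheme.{u}}
    (j : C ⟶ Cb) [IsOpenImmersion j] (hj : DenseRange j.base)
    (jX : X ⟶ Xb) [IsOpenImmersion jX] (c₁ : C ⟶ X) (cb₁ : Cb ⟶ Xb) [IsSeparated cb₁]
    (h : j ≫ cb₁ = c₁ ≫ jX) (U : X.Opens) (hU : Dense ((c₁ ⁻¹ᵁ U : C.Opens) : Set C))
    [IsProper (c₁ ∣_ U)] :
    cb₁ ⁻¹ᵁ (jX ''ᵁ U) = j ''ᵁ (c₁ ⁻¹ᵁ U) := by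
  let W := cb₁ ⁻¹ᵁ (jX ''ᵁ U)
  let U' := c₁ ⁻¹ᵁ U
  have hUW : U' ≤ j ⁻¹ᵁ W := by
    intro x hx
    show cb₁.base (j.base x) ∈ jX ''ᵁ U
    refine ⟨c₁.base x, hx, ?_⟩
    have := congrArg (fun m => m.base x) h
    simpa using this.symm
  let f : (U' : Scheme.{u}) ⟶ W := j.resLE W U' hUW
  let g : (W : Scheme.{u}) ⟶ jX ''ᵁ U := cb₁ ∣_ (jX ''ᵁ U)
  have hfg : f ≫ g = (c₁ ∣_ U) ≫ (jX.isoImage U).hom := by
    rw [← cancel_mono (jX ''ᵁ U).ι]
    simp [f, g, W, U', morphismRestrict_ι, Scheme.Hom.resLE_comp_ι_assoc, h]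
  haveI : IsSeparated g := inferInstanceAs (IsSeparated (cb₁ ∣_ (jX ''ᵁ U)))
  haveI : IsProper (f ≫ g) := by rw [hfg]; infer_instance
  haveI : IsProper f := IsProper.of_comp f g
  have hclosed : IsClosed (Set.range f) := f.isClosedMap.isClosed_range
  have himg : ∀ x : (U' : Scheme.{u}), W.ι (f x) = j x.1 := by
    intro x
    have h1 := congrArg (fun m => m.base x) (Scheme.Hom.resLE_comp_ι j hUW)
    simpa [f] using h1
  -- the image of `U'` is dense in `Cb`
  have hd : Dense (j.base '' (U' : Set C)) := hj.dense_image j.base.hom.continuous hU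
  apply le_antisymm
  · intro w hw
    obtain ⟨t, ht, htr⟩ := isOpen_induced_iff.mp hclosed.isOpen_compl
    by_contra hne
    have hwt : w ∈ t ∩ (W : Set Cb) := by
      refine ⟨?_, hw⟩
      have : (⟨w, hw⟩ : (W : Scheme.{u})) ∈ (Set.range f)ᶜ := by
        rintro ⟨x, hx⟩
        refine hne ⟨x.1, x.2, ?_⟩
        exact (himg x).symm.trans (congrArg (fun z => W.ι z) hx)
      rw [← htr] at this
      exact this
    obtain ⟨_, ⟨hyt, hyW⟩, x, hx, rfl⟩ := hd.inter_open_nonempty _ (ht.inter W.2) ⟨w, hwt⟩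
    have : (⟨j.base x, hyW⟩ : (W : Scheme.{u})) ∈ (Set.range f)ᶜ := by
      rw [← htr]; exact hyt
    refine this ⟨⟨x, hx⟩, ?_⟩
    apply W.ι.isOpenEmbedding.injective
    rw [himg]
    rfl
  · rintro _ ⟨x, hx, rfl⟩
    exact hUW hx

end Groth.Agent.S18389
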