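import Groth.Statements.S18390
import Groth.Agent.H27LV.Basic

set_option autoImplicit false
universe u
open LVCorr

namespace Groth.Agent.S18390

/-- In the affine, ring-theoretic form which its proof establishes. Let φ : A' → A be a ring
homomorphism, I' a finitely generated ideal of A' and I an ideal of A containing the image of I'.
Then some power I'^k is mapped into I^(k+1) if and only if for every n ≥ 1 and every a ∈ I'^n there
is a k with φ(a)^k ∈ I^(nk+1). (Geometrically, for a morphism f : (X, Z) → (X', Z') of pairs with Z
a closed subscheme of the preimage of Z', the normal cone of Z in X is the spectrum of the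
associated graded algebra of I, and the second condition says that the induced map of normal cones
sends the normal cone of Z set-theoretically into the zero section Z'; the source states the
equivalence in that language.) -/
theorem result (A' A : Type u) [CommRing A'] [CommRing A]
    (φ : A' →+* A) (I' : Ideal A') (hI' : I'.FG) (I : Ideal A) (hle : I'.map φ ≤ I) :
    (∃ k : ℕ, (I' ^ k).map φ ≤ I ^ (k + 1)) ↔
      ∀ n : ℕ, 1 ≤ n → ∀ a ∈ I' ^ n, ∃ k : ℕ, 1 ≤ k ∧ φ a ^ k ∈ I ^ (n * k + 1) := by
  exact H27LV.exists_pow_le_pow_succ_iff φ I' hI' I hle

end Groth.Agent.S18390
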