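import Groth.Statements.S18391
import Mathlib

set_option autoImplicit false
universe u
open LVCorr

namespace Groth.Agent.S18391

/-- Let A be a normal (integrally closed) Noetherian domain and z an element of A such that the radical
of the principal ideal (z) is prime. Then there exist elements w, t of A and a natural number r,
with w not in the radical of (z), such that in the localization A[1/w] the ideal generated by z
equals the ideal generated by t^r and the ideal generated by t is prime. (The condition on w is the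
one the printed proof produces and the later use of the lemma needs.) -/
theorem result (A : Type u) [CommRing A] [IsDomain A]
    [IsNoetherianRing A] [IsIntegrallyClosed A] (z : A) (hz : (Ideal.span {z}).radical.IsPrime) :
    ∃ (w t : A) (r : ℕ), w ∉ (Ideal.span {z}).radical ∧
      Ideal.span {algebraMap A (Localization.Away w) z} =
        Ideal.span {algebraMap A (Localization.Away w) t ^ r} ∧
      (Ideal.span {algebraMap A (Localization.Away w) t}).IsPrime := by
  classical
  by_cases hz0 : z = 0
  · subst hz0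
    refine ⟨1, 0, 1, ?_, by simp, ?_⟩
    · intro h
      exact hz.ne_top ((Ideal.eq_top_iff_one _).mpr h)
    · haveI : IsDomain (Localization.Away (1 : A)) :=
        IsLocalization.isDomain_localization (powers_le_nonZeroDivisors_of_noZeroDivisors one_ne_zero)
      rw [map_zero, Ideal.span_singleton_eq_bot.mpr rfl]
      exact Ideal.isPrime_bot
  set P := (Ideal.span {z}).radical
  haveI : P.IsPrime := hz
  have hzP : z ∈ P := Ideal.le_radical (Ideal.mem_span_singleton_self z)
  have hPne : P ≠ ⊥ := fun h => hz0 (by simpa [h] using hzP)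
  have hmin : P ∈ (Ideal.span {z}).minimalPrimes :=
    ⟨⟨hz, Ideal.le_radical⟩, fun Q hQ _ => hQ.1.radical_le_iff.mpr hQ.2⟩
  have hh : P.height ≤ 1 := Ideal.height_le_one_of_isPrincipal_of_mem_minimalPrimes _ P hmin
  have hone : ∀ Q : Ideal A, Q.IsPrime → Q ≤ P → Q ≠ ⊥ → Q = P := by
    intro Q hQ hle hne
    refine hle.eq_or_lt.resolve_right fun hlt => ?_
    have h1 := Ideal.height_strict_mono_of_isPrime hlt
    have h2 := Ideal.height_strict_mono_of_isPrime (bot_lt_iff_ne_bot.mpr hne)
    rw [Ideal.height_bot] at h2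
    have h3 : Q.height < 1 := h1.trans_le hh
    rw [ENat.lt_one_iff_eq_zero] at h3
    rw [h3] at h2
    exact lt_irrefl _ h2
  let L := Localization.AtPrime P
  haveI : IsIntegrallyClosed L := isIntegrallyClosed_of_isLocalization L P.primeCompl P.primeCompl_le_nonZeroDivisors
  haveI : IsNoetherianRing L := IsLocalization.isNoetherianRing P.primeCompl L inferInstance
  haveI : IsDomain L := IsLocalization.isDomain_localization P.primeCompl_le_nonZeroDivisors
  have hinj : Function.Injective (algebraMap A L) :=
    IsLocalization.injective L P.primeCompl_le_nonZeroDivisors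
  have hbot : IsLocalRing.maximalIdeal L ≠ ⊥ := fun h => by
    obtain ⟨x, hx, hx0⟩ := Submodule.exists_mem_ne_zero_of_ne_bot hPne
    refine hx0 (hinj ?_)
    have : algebraMap A L x ∈ IsLocalRing.maximalIdeal L :=
      (IsLocalization.AtPrime.to_map_mem_maximal_iff L P x).mpr hx
    rw [h, Ideal.mem_bot] at this
    rw [this, map_zero]
  haveI : IsDiscreteValuationRing L := by
    refine ((IsDiscreteValuationRing.TFAE L fun h => hbot (IsLocalRing.isField_iff_maximalIdeal_eq.mp h)).out 0 3
      (a := IsDiscreteValuationRing L) (b := IsIntegrallyClosed L ∧ ∃! Q : Ideal L, Q ≠ ⊥ ∧ Q.IsPrime) rfl rfl).mpr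
      ⟨inferInstance, IsLocalRing.maximalIdeal L, ⟨hbot, inferInstance⟩, fun Q hQ => ?_⟩
    haveI := hQ.2
    have h1 : (Q.comap (algebraMap A L)).IsPrime := Ideal.IsPrime.comap _
    have hle : Q.comap (algebraMap A L) ≤ P := fun x hx => by
      by_contra hxP
      exact hQ.2.ne_top (Ideal.eq_top_of_isUnit_mem _ hx (IsLocalization.map_units L (⟨x, hxP⟩ : P.primeCompl)))
    have hmc : (Q.comap (algebraMap A L)).map (algebraMap A L) = Q := IsLocalization.map_comap P.primeCompl L Q
    have hne : Q.comap (algebraMap A L) ≠ ⊥ := fun h => hQ.1 (by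
      rw [← hmc, h, Ideal.map_bot])
    rw [← hmc, hone _ h1 hle hne, Localization.AtPrime.map_eq_maximalIdeal]
  obtain ⟨ϖ, hϖ⟩ := IsDiscreteValuationRing.exists_irreducible L
  obtain ⟨⟨t, c⟩, hc⟩ := IsLocalization.surj P.primeCompl ϖ
  simp only at hc
  have ht : Irreducible (algebraMap A L t) := by
    rw [← hc]
    exact (irreducible_mul_units (IsLocalization.map_units L c).unit).mpr hϖ
  obtain ⟨r, u, hu⟩ := IsDiscreteValuationRing.eq_unit_mul_pow_irreducible
    (show algebraMap A L z ≠ 0 from fun h => hz0 (hinj (h.trans (map_zero _).symm))) ht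
  obtain ⟨⟨a, s⟩, has⟩ := IsLocalization.surj P.primeCompl (u : L)
  simp only at has
  have hz' : (s : A) * z = a * t ^ r := hinj (by
    simp only [map_mul, map_pow]
    rw [hu, ← has]
    ring)
  have haP : a ∉ P := fun h => by
    have hm : algebraMap A L a ∈ IsLocalRing.maximalIdeal L :=
      (IsLocalization.AtPrime.to_map_mem_maximal_iff L P a).mpr h
    rw [← has, IsLocalRing.mem_maximalIdeal] at hm
    exact hm (u.isUnit.mul (IsLocalization.map_units L s))
  have htP : t ∈ P := (IsLocalization.AtPrime.to_map_mem_maximal_iff L P t).mp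
    ((IsLocalRing.mem_maximalIdeal _).mpr ht.not_isUnit)
  obtain ⟨G, hG⟩ := IsNoetherian.noetherian P
  have hgen : ∀ x ∈ P, ∃ w, w ∉ P ∧ w * x ∈ Ideal.span {t} := by
    intro x hx
    have hm : algebraMap A L x ∈ IsLocalRing.maximalIdeal L :=
      (IsLocalization.AtPrime.to_map_mem_maximal_iff L P x).mpr hx
    rw [ht.maximalIdeal_eq, Ideal.mem_span_singleton'] at hm
    obtain ⟨y, hy⟩ := hm
    obtain ⟨⟨b, d⟩, hbd⟩ := IsLocalization.surj P.primeCompl y
    simp only at hbd
    refine ⟨d, d.2, Ideal.mem_span_singleton'.mpr ⟨b, hinj ?_⟩⟩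
    rw [map_mul, map_mul, ← hbd, ← hy]
    ring
  choose! wx hwx hwxt using hgen
  have hGP : ∀ x ∈ G, x ∈ P := fun x hx => hG ▸ Submodule.subset_span hx
  let w : A := s * a * ∏ x ∈ G, wx x
  have hwP : w ∉ P := fun h => by
    rcases hz.mem_or_mem h with h | h
    · exact (hz.mem_or_mem h).elim s.2 haP
    · obtain ⟨x, hx, hxP⟩ := hz.prod_mem_iff.mp h
      exact hwx x (hGP x hx) hxP
  have hunit : ∀ d, d ∣ w → IsUnit (algebraMap A (Localization.Away w) d) := fun d hd =>
    isUnit_of_dvd_unit (map_dvd _ hd) (IsLocalization.Away.algebraMap_isUnit w)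
  refine ⟨w, t, r, hwP, ?_, ?_⟩
  · obtain ⟨us, hus⟩ := hunit s (dvd_mul_of_dvd_left (dvd_mul_right _ _) _)
    obtain ⟨ua, hua⟩ := hunit a (dvd_mul_of_dvd_left (dvd_mul_left _ _) _)
    have e := congrArg (algebraMap A (Localization.Away w)) hz'
    rw [map_mul, map_mul, map_pow, ← hus, ← hua] at e
    rw [← Ideal.span_singleton_mul_left_unit us.isUnit, e, Ideal.span_singleton_mul_left_unit ua.isUnit]
  · have hPL : Ideal.span {algebraMap A (Localization.Away w) t} = P.map (algebraMap A (Localization.Away w)) := by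
      refine le_antisymm ((Ideal.span_singleton_le_iff_mem _).mpr (Ideal.mem_map_of_mem _ htP)) ?_
      rw [Ideal.map_le_iff_le_comap, ← hG, Submodule.span_le]
      intro x hx
      obtain ⟨y, hy⟩ := Ideal.mem_span_singleton'.mp (hwxt x (hGP x hx))
      obtain ⟨ux, hux⟩ := hunit (wx x) (dvd_mul_of_dvd_right (Finset.dvd_prod_of_mem _ hx) _)
      have e := congrArg (algebraMap A (Localization.Away w)) hy
      rw [map_mul, map_mul, ← hux] at e
      rw [SetLike.mem_coe, Ideal.mem_comap, Ideal.mem_span_singleton']
      refine ⟨↑ux⁻¹ * algebraMap A (Localization.Away w) y, ?_⟩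
      rw [mul_assoc, e, Units.inv_mul_cancel_left]
    rw [hPL]
    refine IsLocalization.isPrime_of_isPrime_disjoint (Submonoid.powers w) _ P hz ?_
    rw [Set.disjoint_left]
    rintro _ ⟨i, rfl⟩ h
    exact hwP (hz.mem_of_pow_mem i h)

end Groth.Agent.S18391
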