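import Groth.Statements.S18392
import Groth.Agent.H27LV.Basic

set_option autoImplicit false
universe u
open LVCorr

namespace Groth.Agent.S18392

/-- Let A be a normal (integrally closed) Noetherian domain and z an element of A such that the radical
of (z) is prime. Then for every non-empty open subset V of Spec A contained in the basic open set
D(z) (that is, every non-empty open subset of Spec A[1/z]) there is an element x of A, not in the
radical of (z), such that the basic open set D(xz) = Spec A[1/xz] is contained in V. -/
theorem result (A : Type u) [CommRing A]
    [IsDomain A] [IsNoetherianRing A] [IsIntegrallyClosed A] (z : A)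
    (hz : (Ideal.span {z}).radical.IsPrime) (V : Set (PrimeSpectrum A)) (hV : IsOpen V)
    (hVz : V ⊆ (PrimeSpectrum.basicOpen z : Set (PrimeSpectrum A))) (hne : V.Nonempty) :
    ∃ x : A, x ∉ (Ideal.span {z}).radical ∧
      ((PrimeSpectrum.basicOpen (x * z) : TopologicalSpace.Opens (PrimeSpectrum A)) :
        Set (PrimeSpectrum A)) ⊆ V := by
  exact H27LV.exists_basicOpen_mul_subset z hz V hV hVz hne

end Groth.Agent.S18392
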