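import Groth.Statements.S18393
import Mathlib

set_option autoImplicit false
universe u v
open LVCorr

namespace Groth.Agent.S18393

/-- Stated for the underlying continuous maps. Let c₁, c₂ : C → X be continuous maps with C a Noetherian
topological space, let Z be a closed subset of X and B the closure in C of c₂⁻¹(Z) ∖ c₁⁻¹(Z). Call Z
locally invariant when every point x of Z has an open neighbourhood U such that every y in C with
c₂(y) ∈ Z ∩ U and c₁(y) ∈ U satisfies c₁(y) ∈ Z. Then Z is locally invariant if and only if for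
every irreducible subset T of B the closures of c₁(T) and of c₂(T) in X are disjoint. (The source
states this for a correspondence c = (c₁, c₂) : C → X × X of separated schemes of finite type over
an algebraically closed field and for the irreducible components of B; the condition for all
irreducible subsets of B is the same condition.) -/
theorem result {C : Type u} {X : Type v}
    [TopologicalSpace C] [TopologicalSpace X] [TopologicalSpace.NoetherianSpace C]
    (c₁ c₂ : C → X) (hc₁ : Continuous c₁) (hc₂ : Continuous c₂) (Z : Set X) (hZ : IsClosed Z) :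
    (∀ x ∈ Z, ∃ U : Set X, IsOpen U ∧ x ∈ U ∧
        ∀ y : C, c₂ y ∈ Z → c₂ y ∈ U → c₁ y ∈ U → c₁ y ∈ Z) ↔
      ∀ T : Set C, T ⊆ closure (c₂ ⁻¹' Z \ c₁ ⁻¹' Z) → IsIrreducible T →
        closure (c₁ '' T) ∩ closure (c₂ '' T) = ∅ := by
  classical
  set D := c₂ ⁻¹' Z \ c₁ ⁻¹' Z with hD
  constructor
  · intro hloc T hT hTi
    rw [Set.eq_empty_iff_forall_notMem]
    rintro x ⟨hx1, hx2⟩
    have hxZ : x ∈ Z := by
      refine hZ.closure_subset_iff.mpr ?_ hx2
      rintro _ ⟨t, ht, rfl⟩
      exact (closure_minimal Set.sdiff_subset (hZ.preimage hc₂)) (hT ht)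
    obtain ⟨U, hU, hxU, h⟩ := hloc x hxZ
    obtain ⟨a, haU, ta, hta, rfl⟩ := mem_closure_iff.mp hx1 U hU hxU
    obtain ⟨b, hbU, tb, htb, rfl⟩ := mem_closure_iff.mp hx2 U hU hxU
    obtain ⟨t, htT, h1, h2⟩ := hTi.2 _ _ (hU.preimage hc₁) (hU.preimage hc₂) ⟨ta, hta, haU⟩ ⟨tb, htb, hbU⟩
    obtain ⟨y, ⟨hy1, hy2⟩, hyD⟩ := mem_closure_iff.mp (hT htT) _
      ((hU.preimage hc₁).inter (hU.preimage hc₂)) ⟨h1, h2⟩
    exact hyD.2 (h y hyD.1 hy2 hy1)
  · intro hdis x hx
    obtain ⟨S, hSfin, hSc, hSi, hSu⟩ :=
      TopologicalSpace.NoetherianSpace.exists_finite_set_isClosed_irreducible (isClosed_closure (s := D))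
    let P : Set C → Set X := fun T => if x ∈ closure (c₁ '' T) then closure (c₂ '' T) else closure (c₁ '' T)
    refine ⟨(⋃ T ∈ S, P T)ᶜ, ?_, ?_, fun y hy hy2 hy1 => ?_⟩
    · exact (hSfin.isClosed_biUnion fun T _ => by dsimp only [P]; split_ifs <;> exact isClosed_closure).isOpen_compl
    · simp only [Set.mem_compl_iff, Set.mem_iUnion, not_exists]
      intro T hT hxP
      simp only [P] at hxP
      split_ifs at hxP with h1
      · have := hdis T (hSu ▸ Set.subset_sUnion_of_mem hT) (hSi T hT)
        exact Set.eq_empty_iff_forall_notMem.mp this x ⟨h1, hxP⟩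
      · exact h1 hxP
    · by_contra hy'
      have hyB : y ∈ closure D := subset_closure ⟨hy, hy'⟩
      rw [hSu] at hyB
      obtain ⟨T, hT, hyT⟩ := hyB
      by_cases h1 : x ∈ closure (c₁ '' T)
      · exact hy2 (Set.mem_biUnion hT (by simp only [P, if_pos h1]; exact subset_closure ⟨y, hyT, rfl⟩))
      · exact hy1 (Set.mem_biUnion hT (by simp only [P, if_neg h1]; exact subset_closure ⟨y, hyT, rfl⟩))

end Groth.Agent.S18393
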