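import Groth.Statements.S18395
import Groth.Agent.H27Corr.Compactify

set_option autoImplicit false
universe u
open LVCorr

namespace Groth.Agent.S18395

open AlgebraicGeometry CategoryTheory in
/-- Let X and C be schemes separated and of finite type over a field k, let c₁, c₂ : C → X be morphisms
over k (a correspondence C → X × X), and fix an open U ⊆ X whose preimage c₁⁻¹(U) forms a dense
subset of C, such that the restriction c₁⁻¹(U) → U of c₁ is proper, and the closed subset Z = X ∖ U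
is locally invariant: every point x of Z has an open neighbourhood U' such that every y in C with
c₂(y) ∈ Z ∩ U' and c₁(y) ∈ U' satisfies c₁(y) ∈ Z. Then the correspondence has a compactification
for which the complement of U is again locally invariant: there are schemes C̄ and X̄ proper over k,
open immersions j : C → C̄ and jX : X → X̄ over k with dense images, and morphisms c̄₁, c̄₂ : C̄ →
X̄ over k with j followed by c̄ᵢ equal to cᵢ followed by jX, such that X̄ ∖ jX(U) is locally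
invariant for (c̄₁, c̄₂) in the same sense. (The source has k algebraically closed.) -/
theorem result {C X : Scheme.{u}} (k : Type u) [Field k]
    (pC : C ⟶ Spec (CommRingCat.of k)) [IsSeparated pC] [QuasiCompact pC] [LocallyOfFiniteType pC]
    (pX : X ⟶ Spec (CommRingCat.of k)) [IsSeparated pX] [QuasiCompact pX] [LocallyOfFiniteType pX]
    (c₁ c₂ : C ⟶ X) (hc₁ : c₁ ≫ pX = pC) (hc₂ : c₂ ≫ pX = pC) (U : X.Opens)
    (hU : Dense ((c₁ ⁻¹ᵁ U : C.Opens) : Set C)) [IsProper (c₁ ∣_ U)]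
    (hZ : ∀ x ∈ ((U : Set X)ᶜ), ∃ U' : Set X, IsOpen U' ∧ x ∈ U' ∧
        ∀ y, c₂.base y ∈ ((U : Set X)ᶜ) → c₂.base y ∈ U' → c₁.base y ∈ U' → c₁.base y ∈ ((U : Set X)ᶜ)) :
    ∃ (Cb Xb : Scheme.{u}) (pCb : Cb ⟶ Spec (CommRingCat.of k)) (pXb : Xb ⟶ Spec (CommRingCat.of k))
      (j : C ⟶ Cb) (jX : X ⟶ Xb) (cb₁ cb₂ : Cb ⟶ Xb),
      IsProper pCb ∧ IsProper pXb ∧ IsOpenImmersion j ∧ IsOpenImmersion jX ∧
      DenseRange j.base ∧ DenseRange jX.base ∧ j ≫ pCb = pC ∧ jX ≫ pXb = pX ∧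
      cb₁ ≫ pXb = pCb ∧ cb₂ ≫ pXb = pCb ∧ j ≫ cb₁ = c₁ ≫ jX ∧ j ≫ cb₂ = c₂ ≫ jX ∧
      ∀ x ∈ ((jX.base '' (U : Set X))ᶜ), ∃ U' : Set Xb, IsOpen U' ∧ x ∈ U' ∧
        ∀ y, cb₂.base y ∈ ((jX.base '' (U : Set X))ᶜ) → cb₂.base y ∈ U' → cb₁.base y ∈ U' → cb₁.base y ∈ ((jX.base '' (U : Set X))ᶜ) := by
  classical
  haveI : IsLocallyNoetherian C := LocallyOfFiniteType.isLocallyNoetherian pC
  haveI : CompactSpace C := QuasiCompact.compactSpace_of_compactSpace pC
  haveI : IsNoetherian C := ⟨⟩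
  -- the pairs to be separated
  let G : Set C := {y | c₁.base y ∈ U ∧ c₂.base y ∉ U}
  haveI : TopologicalSpace.NoetherianSpace G := TopologicalSpace.NoetherianSpace.set G
  let ι := irreducibleComponents G
  haveI : Finite ι := TopologicalSpace.NoetherianSpace.finite_irreducibleComponents.to_subtype
  have hη : ∀ a : ι, ∃ η : C, η ∈ closure (Subtype.val '' a.1) ∧
      closure ({η} : Set C) = closure (Subtype.val '' a.1) := fun a => by
    have hirr : IsIrreducible (closure (Subtype.val '' a.1)) :=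
      (a.2.1.image _ continuous_subtype_val.continuousOn).closure
    obtain ⟨η, hη⟩ := QuasiSober.sober hirr isClosed_closure
    exact ⟨η, hη ▸ subset_closure rfl, hη⟩
  choose η hηmem hηcl using hη
  let C₁ : ι → Set X := fun a => closure {c₁.base (η a)}
  let C₂ : ι → Set X := fun a => closure {c₂.base (η a)}
  have hspec : ∀ (a : ι) (y : G), y ∈ a.1 → η a ⤳ y.1 := fun a y hy => by
    rw [specializes_iff_mem_closure, hηcl]
    exact subset_closure ⟨y, hy, rfl⟩
  -- the generic points are bad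
  have hηG : ∀ a : ι, c₁.base (η a) ∈ U ∧ c₂.base (η a) ∉ U := fun a => by
    obtain ⟨y, hy⟩ := a.2.1.nonempty
    refine ⟨((hspec a y hy).map c₁.continuous).mem_open U.2 y.2.1, ?_⟩
    exact closure_minimal (s := Subtype.val '' a.1) (t := c₂.base ⁻¹' (U : Set X)ᶜ)
      (by rintro _ ⟨z, -, rfl⟩; exact z.2.2) (U.2.isClosed_compl.preimage c₂.continuous) (hηmem a)
  have hdisj : ∀ a, C₁ a ∩ C₂ a = ∅ := fun a => by
    refine Set.eq_empty_of_forall_notMem fun x ⟨hx₁, hx₂⟩ => ?_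
    have hxU : x ∉ U := fun h => (hηG a).2
      ((specializes_iff_mem_closure.2 hx₂).mem_open U.2 h)
    obtain ⟨U', hU'o, hxU', hU'⟩ := hZ x hxU
    exact hU' (η a) (hηG a).2 ((specializes_iff_mem_closure.2 hx₂).mem_open hU'o hxU')
      ((specializes_iff_mem_closure.2 hx₁).mem_open hU'o hxU') (hηG a).1
  obtain ⟨Xb, jX, pXb, hpXb, hjX, hjXd, hjXp, hsep⟩ :=
    H27Corr.exists_disjoint pX C₁ C₂ (fun _ => isClosed_closure) (fun _ => isClosed_closure) hdisj
  haveI := hpXb; haveI := hjX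
  -- the correspondence
  let P := Limits.pullback pXb pXb
  let t : C ⟶ P := Limits.pullback.lift (c₁ ≫ jX) (c₂ ≫ jX) (by rw [Category.assoc, Category.assoc, hjXp, hc₁, hc₂])
  let q : P ⟶ Spec (CommRingCat.of k) := Limits.pullback.fst pXb pXb ≫ pXb
  have htq : t ≫ q = pC := by rw [← Category.assoc, Limits.pullback.lift_fst, Category.assoc, hjXp, hc₁]
  haveI : CompactSpace P := QuasiCompact.compactSpace_of_compactSpace q
  haveI : QuasiSeparatedSpace P := quasiSeparatedSpace_of_quasiSeparated q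
  haveI : LocallyOfFiniteType (t ≫ q) := by rw [htq]; infer_instance
  haveI : IsSeparated (t ≫ q) := by rw [htq]; infer_instance
  haveI : QuasiCompact (t ≫ q) := by rw [htq]; infer_instance
  haveI : LocallyOfFiniteType t := locallyOfFiniteType_of_comp t q
  haveI : IsSeparated t := IsSeparated.of_comp t q
  haveI : QuasiCompact t := QuasiCompact.of_comp t q
  obtain ⟨Cb, j, g, hj, hg, hd, hjg⟩ := H27Corr.exists_dense t
  haveI := hg; haveI := hj
  let cb₁ : Cb ⟶ Xb := g ≫ Limits.pullback.fst _ _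
  let cb₂ : Cb ⟶ Xb := g ≫ Limits.pullback.snd _ _
  have e₁ : j ≫ cb₁ = c₁ ≫ jX := by rw [← Category.assoc, hjg, Limits.pullback.lift_fst]
  have e₂ : j ≫ cb₂ = c₂ ≫ jX := by rw [← Category.assoc, hjg, Limits.pullback.lift_snd]
  refine ⟨Cb, Xb, g ≫ q, pXb, j, jX, cb₁, cb₂, inferInstance, hpXb, hj, hjX, hd, hjXd,
    by rw [← Category.assoc, hjg, htq], hjXp, by rw [Category.assoc],
    by rw [Category.assoc, ← Limits.pullback.condition], e₁, e₂, ?_⟩
  -- nothing new lies over the image of U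
  let W : Cb.Opens := cb₁ ⁻¹ᵁ (jX ''ᵁ U)
  have hle : c₁ ⁻¹ᵁ U ≤ j ⁻¹ᵁ W := fun y hy => by
    show (j ≫ cb₁).base y ∈ jX ''ᵁ U
    rw [e₁]; exact ⟨c₁.base y, hy, rfl⟩
  let r : (c₁ ⁻¹ᵁ U).toScheme ⟶ W.toScheme := j.resLE W (c₁ ⁻¹ᵁ U) hle
  have hr : r ≫ (cb₁ ∣_ (jX ''ᵁ U)) = (c₁ ∣_ U) ≫ (jX.isoImage U).hom := by
    rw [← cancel_mono (jX ''ᵁ U).ι, Category.assoc, Category.assoc, morphismRestrict_ι, Scheme.Hom.isoImage_hom_ι]
    rw [← Category.assoc r, Scheme.Hom.resLE_comp_ι, Category.assoc, e₁, ← Category.assoc (c₁ ∣_ U), morphismRestrict_ι,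
      Category.assoc]
  haveI : IsProper (cb₁ ≫ pXb) := by rw [Category.assoc]; infer_instance
  haveI : IsProper cb₁ := IsProper.of_comp cb₁ pXb
  haveI : IsProper (r ≫ (cb₁ ∣_ (jX ''ᵁ U))) := by rw [hr]; infer_instance
  haveI : IsProper r := IsProper.of_comp r (cb₁ ∣_ (jX ''ᵁ U))
  have hfull : ∀ y : Cb, y ∈ W → ∃ y₀, c₁.base y₀ ∈ U ∧ j.base y₀ = y := fun y hy => by
    by_contra hcon
    push Not at hcon
    have hd' : Dense (j.base '' ((c₁ ⁻¹ᵁ U : C.Opens) : Set C)) := hd.dense_image j.continuous hU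
    have hy' : (⟨y, hy⟩ : W.toScheme) ∉ Set.range r.base := by
      rintro ⟨z, hz⟩
      refine hcon z.1 z.2 ?_
      have := congrArg W.ι.base hz
      rw [← Scheme.Hom.comp_apply, Scheme.Hom.resLE_comp_ι] at this
      exact this
    have ho := W.ι.isOpenEmbedding.isOpenMap _ r.isClosedMap.isClosed_range.isOpen_compl
    obtain ⟨_, ⟨w, hw, rfl⟩, ⟨z, hz, hzw⟩⟩ := hd'.inter_open_nonempty _ ho ⟨y, ⟨y, hy⟩, hy', rfl⟩
    refine hw ⟨⟨z, hz⟩, W.ι.isOpenEmbedding.injective ?_⟩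
    rw [← Scheme.Hom.comp_apply, Scheme.Hom.resLE_comp_ι]
    exact hzw
  intro x hx
  let bad : ι → Set Xb := fun a =>
    if x ∈ closure (jX.base '' C₁ a) then closure (jX.base '' C₂ a) else closure (jX.base '' C₁ a)
  have hbad : ∀ a, x ∉ bad a := fun a => by
    by_cases h : x ∈ closure (jX.base '' C₁ a)
    · simp only [bad, if_pos h]; exact fun h' => (hsep a).le ⟨h, h'⟩
    · simp only [bad, if_neg h]; exact h
  have hclosed : IsClosed (⋃ a, bad a) := isClosed_iUnion_of_finite fun a => by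
    simp only [bad]; split_ifs <;> exact isClosed_closure
  refine ⟨(⋃ a, bad a)ᶜ, hclosed.isOpen_compl, by simpa using hbad, fun y hy₂ hyU₂ hyU₁ hy₁ => ?_⟩
  obtain ⟨y₀, hy₀, rfl⟩ := hfull y hy₁
  have h1 : cb₁.base (j.base y₀) = jX.base (c₁.base y₀) := by
    rw [← Scheme.Hom.comp_apply, e₁, Scheme.Hom.comp_apply]
  have h2 : cb₂.base (j.base y₀) = jX.base (c₂.base y₀) := by
    rw [← Scheme.Hom.comp_apply, e₂, Scheme.Hom.comp_apply]
  have hy₀₂ : c₂.base y₀ ∉ U := fun h => hy₂ ⟨_, h, h2.symm⟩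
  let y' : G := ⟨y₀, hy₀, hy₀₂⟩
  let a : ι := ⟨irreducibleComponent y', irreducibleComponent_mem_irreducibleComponents y'⟩
  have hspy : η a ⤳ y₀ := hspec a y' mem_irreducibleComponent
  have m₁ : jX.base (c₁.base y₀) ∈ closure (jX.base '' C₁ a) :=
    subset_closure ⟨_, specializes_iff_mem_closure.1 (hspy.map c₁.continuous), rfl⟩
  have m₂ : jX.base (c₂.base y₀) ∈ closure (jX.base '' C₂ a) :=
    subset_closure ⟨_, specializes_iff_mem_closure.1 (hspy.map c₂.continuous), rfl⟩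
  by_cases h : x ∈ closure (jX.base '' C₁ a)
  · exact hyU₂ (Set.mem_iUnion.2 ⟨a, by simp only [bad, if_pos h]; rw [h2]; exact m₂⟩)
  · exact hyU₁ (Set.mem_iUnion.2 ⟨a, by simp only [bad, if_neg h]; rw [h1]; exact m₁⟩)

end Groth.Agent.S18395
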