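import Groth.Statements.S18399
import Mathlib.Algebra.Order.Ring.Star
import Mathlib.FieldTheory.Minpoly.IsIntegrallyClosed
import Mathlib.FieldTheory.PurelyInseparable.Basic
import Mathlib.LinearAlgebra.FreeModule.PID
import Mathlib.RingTheory.Flat.TorsionFree
import Mathlib.RingTheory.Henselian
import Mathlib.RingTheory.RegularLocalRing.Defs
import Mathlib.RingTheory.SimpleRing.Principal
import Mathlib.Tactic.Ring

set_option autoImplicit false
universe u
open CAlg

namespace Groth.Agent.S18399

/-- Let k be a field and A a regular local k-algebra with residue field k (the structure map from k onto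
the residue field of A is surjective), let σ be a k-algebra endomorphism of A of finite order n with
n invertible in k, and let I_σ be the ideal of A generated by the elements f - σ f. Then I_σ is
generated by finitely many elements of the maximal ideal whose classes in the cotangent space m/m^2
are linearly independent over the residue field. (Such elements are part of a regular system of
parameters of A, hence part of a regular sequence, which is the printed conclusion; the generators
with independent classes are what the argument produces.) -/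
theorem result {k : Type u} [Field k] {A : Type u} [CommRing A] [Algebra k A] [IsRegularLocalRing A] (hres : Function.Surjective ⇑(algebraMap k (IsLocalRing.ResidueField A))) (σ : A →ₐ[k] A) (n : ℕ) (hσ : ∀ a : A, (⇑σ)^[n] a = a) (hn : (n : k) ≠ 0) : ∃ (m : ℕ) (f : Fin m → ↥(IsLocalRing.maximalIdeal A)), Ideal.span (Set.range fun i : Fin m => (f i : A)) = Ideal.span (Set.range fun a : A => a - σ a) ∧ LinearIndependent (IsLocalRing.ResidueField A) (fun i : Fin m => (IsLocalRing.maximalIdeal A).toCotangent (f i)) := by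
  classical
  have hn0 : n ≠ 0 := fun h => hn (by simp [h])
  have hbij : Function.Bijective σ := by
    obtain ⟨k, rfl⟩ := Nat.exists_eq_succ_of_ne_zero hn0
    refine ⟨fun a b h => ?_, fun a => ⟨(⇑σ)^[k] a, ?_⟩⟩
    · rw [← hσ a, ← hσ b, Function.iterate_succ_apply, Function.iterate_succ_apply, h]
    · have := hσ a
      rwa [Function.iterate_succ_apply'] at this
  set 𝔪 := IsLocalRing.maximalIdeal A with h𝔪
  let e : A ≃ₐ[k] A := AlgEquiv.ofBijective σ hbij
  have hσm : ∀ a ∈ 𝔪, σ a ∈ 𝔪 := fun a ha h => ha (by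
    have := h.map e.symm
    rwa [show σ a = e a from rfl, e.symm_apply_apply] at this)
  have hσm2 : ∀ a ∈ 𝔪 ^ 2, σ a ∈ 𝔪 ^ 2 := fun a ha => by
    have h1 : 𝔪.map σ.toRingHom ≤ 𝔪 := Ideal.map_le_iff_le_comap.mpr hσm
    have := Ideal.mem_map_of_mem σ.toRingHom ha
    rw [Ideal.map_pow] at this
    exact Ideal.pow_right_mono h1 2 this
  set J := Ideal.span (Set.range fun a : A => a - σ a) with hJ
  let φ : 𝔪 →+ 𝔪.Cotangent :=
    { toFun := fun a => 𝔪.toCotangent ⟨(a : A) - σ a, sub_mem a.2 (hσm _ a.2)⟩
      map_zero' := by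
        rw [show (⟨((0 : 𝔪) : A) - σ ((0 : 𝔪) : A), _⟩ : 𝔪) = 0 from Subtype.ext (by simp), map_zero]
      map_add' := fun a b => by
        rw [← map_add]
        congr 1
        exact Subtype.ext (by simp; ring) }
  have hres' : ∀ c : A, ∃ c₀ : k, c - algebraMap k A c₀ ∈ 𝔪 := fun c => by
    obtain ⟨c₀, hc₀⟩ := hres (IsLocalRing.residue A c)
    refine ⟨c₀, ?_⟩
    rw [h𝔪, ← IsLocalRing.residue_eq_zero_iff, map_sub, ← hc₀]
    exact sub_eq_zero.mpr rfl
  have hφsmul : ∀ (c : A) (a : 𝔪), φ (c • a) = c • φ a := by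
    intro c a
    show 𝔪.toCotangent _ = c • 𝔪.toCotangent _
    rw [← map_smul, Ideal.toCotangent_eq]
    obtain ⟨c₀, hc₀⟩ := hres' c
    have h1 : σ c - c ∈ 𝔪 := by
      have := sub_mem (hσm _ hc₀) hc₀
      rwa [map_sub, AlgHom.commutes, sub_sub_sub_cancel_right] at this
    show c * (a : A) - σ (c * a) - c * ((a : A) - σ a) ∈ 𝔪 ^ 2
    rw [map_mul, show c * (a : A) - σ c * σ a - c * ((a : A) - σ a) = -((σ c - c) * σ a) by ring, pow_two]
    exact neg_mem (Ideal.mul_mem_mul h1 (hσm _ a.2))
  let φl : 𝔪 →ₗ[A] 𝔪.Cotangent := { φ with map_smul' := hφsmul }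
  have hφ2 : 𝔪 • ⊤ ≤ LinearMap.ker φl := by
    refine Submodule.smul_le.mpr fun c hc a _ => ?_
    rw [LinearMap.mem_ker, map_smul]
    obtain ⟨b, hb⟩ := Ideal.toCotangent_surjective 𝔪 (φl a)
    rw [← hb, ← map_smul, Ideal.toCotangent_eq_zero, pow_two]
    exact Ideal.mul_mem_mul hc b.2
  let T : 𝔪.Cotangent →ₗ[A] 𝔪.Cotangent := Submodule.liftQ _ φl hφ2
  let Tk : IsLocalRing.CotangentSpace A →ₗ[IsLocalRing.ResidueField A] IsLocalRing.CotangentSpace A :=
    { toFun := T
      map_add' := map_add T
      map_smul' := fun c v => by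
        obtain ⟨c, rfl⟩ := IsLocalRing.residue_surjective c
        exact map_smul T c v }
  obtain ⟨C, hC⟩ := (LinearMap.ker Tk).exists_isCompl
  let b := Module.finBasis (IsLocalRing.ResidueField A) C
  choose g hg using fun i => Ideal.toCotangent_surjective 𝔪 (b i : IsLocalRing.CotangentSpace A)
  refine ⟨_, fun i => ⟨(g i : A) - σ (g i), sub_mem (g i).2 (hσm _ (g i).2)⟩, ?_, ?_⟩
  swap
  · have h1 : LinearIndependent (IsLocalRing.ResidueField A) (fun i => Tk (b i : IsLocalRing.CotangentSpace A)) :=
      (b.linearIndependent.map' C.subtype (Submodule.ker_subtype C)).map (f := Tk) (by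
        rw [Set.range_comp, Submodule.span_image, b.span_eq, Submodule.map_top, Submodule.range_subtype]
        exact hC.symm.disjoint)
    convert h1 using 1
    funext i
    rw [← hg i]
    rfl
  · set P := Ideal.span (Set.range fun i => (g i : A) - σ (g i)) with hP
    have hkey : ∀ a ∈ 𝔪, a - σ a ∈ P ⊔ 𝔪 * J := by
      intro a ha
      have h2 : ∀ z ∈ 𝔪 ^ 2, z - σ z ∈ P ⊔ 𝔪 * J := by
        intro z hz
        rw [pow_two] at hz
        induction hz using Submodule.mul_induction_on' with
        | mem_mul_mem x hx y hy =>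
          refine Ideal.mem_sup_right ?_
          rw [show x * y - σ (x * y) = y * (x - σ x) + σ x * (y - σ y) by rw [map_mul]; ring]
          exact add_mem (Ideal.mul_mem_mul hy (Ideal.subset_span ⟨x, rfl⟩))
            (Ideal.mul_mem_mul (hσm x hx) (Ideal.subset_span ⟨y, rfl⟩))
        | add x _ y _ hx hy =>
          rw [show x + y - σ (x + y) = (x - σ x) + (y - σ y) by rw [map_add]; ring]
          exact add_mem hx hy
      have hmem : 𝔪.toCotangent ⟨a, ha⟩ ∈ LinearMap.ker Tk ⊔ C := hC.sup_eq_top ▸ Submodule.mem_top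
      obtain ⟨w, hw, v, hv, hwv⟩ := Submodule.mem_sup.mp hmem
      have hvb : v = ∑ i, (b.repr ⟨v, hv⟩ i) • (b i : IsLocalRing.CotangentSpace A) := by
        conv_lhs => rw [show v = ((⟨v, hv⟩ : C) : IsLocalRing.CotangentSpace A) from rfl, ← b.sum_repr ⟨v, hv⟩]
        rw [Submodule.coe_sum]
        rfl
      choose c hc using fun i => hres (b.repr ⟨v, hv⟩ i)
      set a' : A := ∑ i, algebraMap k A (c i) * (g i : A) with ha'
      have ha'm : a' ∈ 𝔪 := sum_mem fun i _ => 𝔪.mul_mem_left _ (g i).2
      have hv' : v = 𝔪.toCotangent ⟨a', ha'm⟩ := by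
        have h0 : (⟨a', ha'm⟩ : 𝔪) = ∑ i, algebraMap k A (c i) • g i := Subtype.ext (by simp [ha', Algebra.smul_def])
        rw [h0, map_sum, hvb]
        refine Finset.sum_congr rfl fun i _ => ?_
        rw [map_smul, hg, ← hc i]
        rfl
      set a'' := a - a' with ha''
      have ha''m : a'' ∈ 𝔪 := sub_mem ha ha'm
      have hw' : 𝔪.toCotangent ⟨a'', ha''m⟩ = w := by
        rw [show (⟨a'', ha''m⟩ : 𝔪) = ⟨a, ha⟩ - ⟨a', ha'm⟩ from Subtype.ext rfl, map_sub, ← hv', ← hwv, add_sub_cancel_right]
      have hfix : a'' - σ a'' ∈ 𝔪 ^ 2 := by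
        have := LinearMap.mem_ker.mp hw
        rw [← hw'] at this
        exact (Ideal.toCotangent_eq_zero _ _).mp this
      set avg : A := algebraMap k A ((n : k)⁻¹) * ∑ i ∈ Finset.range n, (⇑σ)^[i] a'' with havg
      have havgfix : avg - σ avg = 0 := by
        rw [sub_eq_zero, havg, map_mul, AlgHom.commutes, map_sum]
        congr 1
        simp only [← Function.iterate_succ_apply']
        have h := Finset.sum_range_succ' (fun i => (⇑σ)^[i] a'') n
        rw [Finset.sum_range_succ, hσ] at h
        simpa using h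
      have hit : ∀ i, (⇑σ)^[i] a'' - a'' ∈ 𝔪 ^ 2 := by
        intro i
        induction i with
        | zero => simp
        | succ i ih =>
          rw [Function.iterate_succ_apply', ← sub_add_sub_cancel _ (σ a''), ← map_sub]
          exact add_mem (hσm2 _ ih) (by rw [← neg_sub]; exact neg_mem hfix)
      have hdiff : a'' - avg ∈ 𝔪 ^ 2 := by
        have h1 : (a'' : A) = algebraMap k A ((n : k)⁻¹) * ∑ i ∈ Finset.range n, a'' := by
          rw [Finset.sum_const, Finset.card_range, nsmul_eq_mul, ← mul_assoc, ← map_natCast (algebraMap k A), ← map_mul,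
            inv_mul_cancel₀ hn, map_one, one_mul]
        nth_rw 1 [h1]
        rw [havg, ← mul_sub, ← Finset.sum_sub_distrib]
        refine Ideal.mul_mem_left _ _ (sum_mem fun i _ => ?_)
        rw [← neg_sub]; exact neg_mem (hit i)
      have hsum : a - σ a = (a' - σ a') + ((a'' - avg) - σ (a'' - avg)) + (avg - σ avg) := by
        rw [map_sub, ha'', map_sub]; ring
      rw [hsum, havgfix, add_zero]
      refine add_mem (Ideal.mem_sup_left ?_) (h2 _ hdiff)
      rw [ha', map_sum, ← Finset.sum_sub_distrib]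
      refine sum_mem fun i _ => ?_
      rw [map_mul, AlgHom.commutes, ← mul_sub]
      exact Ideal.mul_mem_left _ _ (Ideal.subset_span ⟨i, rfl⟩)
    refine le_antisymm (Ideal.span_le.mpr ?_) ?_
    · rintro _ ⟨i, rfl⟩
      exact Ideal.subset_span ⟨(g i : A), rfl⟩
    · refine Submodule.le_of_le_smul_of_le_jacobson_bot (IsNoetherian.noetherian J)
        (IsLocalRing.maximalIdeal_le_jacobson ⊥) (Ideal.span_le.mpr ?_)
      rintro _ ⟨a, rfl⟩
      obtain ⟨c₀, hc₀⟩ := hres' a
      have := hkey _ hc₀
      rwa [map_sub, AlgHom.commutes, sub_sub_sub_cancel_right] at this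

end Groth.Agent.S18399
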