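import Groth.Statements.S1840
import Groth.Agent.H1CAlg.CycDet
import Mathlib.LinearAlgebra.ExteriorPower.Basis

set_option autoImplicit false
universe u v
open CycDet

namespace Groth.Agent.S1840

open CycDet Groth.Agent.H1CAlg

variable {K : Type*} [CommRing K] {N : Type*} [AddCommGroup N] [Module K N] {W : Type*} [AddCommGroup W]
  [Module K W]

theorem map_update_eq_zero {n : ℕ} (g : N [⋀^Fin n]→ₗ[K] W) (v : Fin n → N) (a : Fin n) {y : N}
    (hy : y ∈ Submodule.span K (v '' {j | j ≠ a})) : g (Function.update v a y) = 0 := by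
  classical
  induction hy using Submodule.span_induction with
  | mem y hy =>
    obtain ⟨j, hj, rfl⟩ := hy
    exact g.map_eq_zero_of_eq _ (by rw [Function.update_self, Function.update_of_ne hj]) (Ne.symm hj)
  | zero => exact g.map_update_zero _ _
  | add y z _ _ h₁ h₂ => rw [g.map_update_add, h₁, h₂, add_zero]
  | smul c y _ h₁ => rw [g.map_update_smul, h₁, smul_zero]

/-- Let M be a finite-dimensional vector space over the residue field κ of a local ring R, viewed as an
R-module. There is a κ-linear isomorphism from det_κ(M) to the top exterior power of M sending the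
symbol of an admissible tuple (e₁, …, e_l) to e₁ ∧ … ∧ e_l. -/
theorem result (R : Type u) [CommRing R] [IsLocalRing R] (M : Type v) [AddCommGroup M] [Module R M] [Module (IsLocalRing.ResidueField R) M] [IsScalarTower R (IsLocalRing.ResidueField R) M] [Module.Finite (IsLocalRing.ResidueField R) M] : ∃ Φ : CycDet.Det R M ≃ₗ[IsLocalRing.ResidueField R] (⋀[IsLocalRing.ResidueField R]^((Module.length R M).toNat) M), ∀ e : CycDet.Adm R M (Module.length R M).toNat, Φ (CycDet.symbol R M e) = exteriorPower.ιMulti (IsLocalRing.ResidueField R) ((Module.length R M).toNat) e.1 := by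
  classical
  let κ := IsLocalRing.ResidueField R
  have hsurj : Function.Surjective (algebraMap R κ) := IsLocalRing.residue_surjective
  have hlen : Module.length R M = (Module.finrank κ M : ℕ∞) := by
    rw [← Module.length_eq_finrank, Module.length_eq_of_surjective (S := R) (R := κ) (M := M) hsurj]
  have hne : Module.length R M ≠ ⊤ := by rw [hlen]; exact ENat.coe_ne_top _
  obtain ⟨_, _⟩ := isFiniteLength_iff_isNoetherian_isArtinian.1 (Module.length_ne_top_iff.1 hne)
  have hspan : ∀ (l : ℕ) (e : Fin l → M) (i : ℕ) (x : M), x ∈ spanBefore R M e i →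
      x ∈ Submodule.span κ (e '' {j : Fin l | (j : ℕ) < i}) := fun l e i x hx =>
    Submodule.span_le_restrictScalars R κ _ hx
  let l := (Module.length R M).toNat
  let g : M [⋀^Fin l]→ₗ[κ] ⋀[κ]^l M := exteriorPower.ιMulti κ l
  have hg0 : ∀ (e : Fin l → M) (a : Fin l) (y : M), y ∈ spanBefore R M e a →
      g (Function.update e a y) = 0 := fun e a y hy =>
    map_update_eq_zero g e a (Submodule.span_mono (Set.image_mono fun j hj hja => by
      rw [hja] at hj; exact lt_irrefl _ (show (a : ℕ) < a from hj)) (hspan l e a y hy))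
  let Φ₀ : Free R M l →ₗ[κ] ⋀[κ]^l M := Finsupp.linearCombination κ fun e : Adm R M l => g e.1
  have hΦ₀ : ∀ e : Adm R M l, Φ₀ (sym R M e) = g e.1 := fun e => by
    simp only [Φ₀, sym, Finsupp.linearCombination_single, one_smul]
  have hrel : Submodule.span κ (relSet R M l) ≤ LinearMap.ker Φ₀ := by
    rw [Submodule.span_le]
    rintro x ((⟨e, a, ha, rfl⟩ | ⟨e, e', a, c, heq, hd, rfl⟩) | ⟨e, e', a, b, hab, -, hsw, rfl⟩)
    · rw [SetLike.mem_coe, LinearMap.mem_ker, hΦ₀, ← Function.update_eq_self a e.1]
      exact hg0 _ _ _ ha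
    · rw [SetLike.mem_coe, LinearMap.mem_ker, map_sub, map_smul, hΦ₀, hΦ₀]
      have he' : e'.1 = Function.update e.1 a (e'.1 a) := funext fun j => by
        by_cases hj : j = a
        · rw [hj, Function.update_self]
        · rw [Function.update_of_ne hj, heq j hj]
      have h := hg0 e.1 a _ hd
      rw [g.map_update_sub, Function.update_eq_self,
        show ((c : R) • e'.1 a) = IsLocalRing.residue R (c : R) • e'.1 a from
          (algebraMap_smul κ (c : R) (e'.1 a)).symm, g.map_update_smul, ← he'] at h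
      exact h
    · rw [SetLike.mem_coe, LinearMap.mem_ker, map_add, hΦ₀, hΦ₀, hsw,
        g.map_swap _ (show a ≠ b from fun h => by rw [h] at hab; omega), add_neg_cancel]
  let Φ : Det R M →ₗ[κ] ⋀[κ]^l M := Submodule.liftQ _ Φ₀ hrel
  have hΦ : ∀ e : Adm R M l, Φ (symbol R M e) = g e.1 := fun e => hΦ₀ e
  let bas : Module.Basis (Fin l) κ M :=
    (Module.finBasis κ M).reindex (finCongr (by show _ = (Module.length R M).toNat; rw [hlen, ENat.toNat_coe]))
  have hadm : IsAdmissible R M (bas : Fin l → M) := fun i r hr => by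
    rw [← algebraMap_smul κ r (bas i), show algebraMap R κ r = 0 from (IsLocalRing.residue_eq_zero_iff r).2 hr,
      zero_smul]
    exact zero_mem _
  have hne0 : g bas ≠ 0 := fun h => by
    have := congrArg (exteriorPower.alternatingMapLinearEquiv bas.det) h
    rw [exteriorPower.alternatingMapLinearEquiv_apply_ιMulti, map_zero, bas.det_self] at this
    exact one_ne_zero this
  have hfr : Module.finrank κ (⋀[κ]^l M) ≤ 1 := by
    rw [exteriorPower.finrank_eq, show Module.finrank κ M = l by
      show _ = (Module.length R M).toNat; rw [hlen, ENat.toNat_coe], Nat.choose_self]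
  have hinj : Function.Injective Φ := by
    obtain ⟨v₀, hv₀⟩ := CycSym.exists_generator (R := R) (M := M) (l := l) (ENat.natCast_toNat hne)
    rw [← LinearMap.ker_eq_bot, eq_bot_iff]
    intro x hx
    rw [LinearMap.mem_ker] at hx
    rw [Submodule.mem_bot]
    obtain ⟨c, rfl⟩ : ∃ c : κ, c • v₀ = x := Submodule.mem_span_singleton.1 (hv₀ ▸ Submodule.mem_top)
    by_contra hne'
    have hc : c ≠ 0 := fun h0 => hne' (by rw [h0, zero_smul])
    obtain ⟨d, hd⟩ : ∃ d : κ, d • v₀ = symbol R M ⟨_, hadm⟩ :=
      Submodule.mem_span_singleton.1 (hv₀ ▸ Submodule.mem_top)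
    rw [map_smul, smul_eq_zero, or_iff_right hc] at hx
    refine hne0 ?_
    rw [← hΦ ⟨_, hadm⟩, ← hd, map_smul, hx, smul_zero]
  have hsj : Function.Surjective Φ := fun y => by
    have h1 : Module.finrank κ (⋀[κ]^l M) = 1 :=
      le_antisymm hfr (Module.finrank_pos_iff_exists_ne_zero.2 ⟨_, hne0⟩)
    obtain ⟨c, rfl⟩ := (finrank_eq_one_iff_of_nonzero' _ hne0).1 h1 y
    exact ⟨c • symbol R M ⟨_, hadm⟩, by rw [map_smul, hΦ]⟩
  exact ⟨LinearEquiv.ofBijective Φ ⟨hinj, hsj⟩, hΦ⟩

end Groth.Agent.S1840
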