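import Groth.Statements.S18400
import Groth.Agent.S6488
import Groth.Agent.H3Cyc.VBChart
import Groth.Agent.H3Cyc.KAffine
import Groth.Agent.H3Cyc.PushRat
import Groth.Agent.H3Cyc.Transfer
-- import your own Groth.Agent.* helpers here

set_option autoImplicit false
set_option linter.style.haveILetI false
set_option backward.isDefEq.respectTransparency.types false
universe u
open CategoryTheory AlgebraicGeometry
open Cyc

namespace Groth.Agent.S18400

open Opposite CategoryTheory.Limits TopologicalSpace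
open Groth.Agent Groth.Agent.H3Cyc
open Groth.Agent.H11Sym
open Groth.Agent.H11Tilde (IsGen)

variable {X : Scheme.{u}}

theorem surjective_app {E F : X.Modules} (g : E ⟶ F) [Epi g] (hE : Coh.IsQCoh E) (hF : Coh.IsQCoh F)
    {AE AF : RelSpec.QCAlg X} {jE : E ⟶ AE.toModule} {jF : F ⟶ AF.toModule} (hAF : IsAffSym jF) (φ : AE ⟶ AF)
    (hφ : jE ≫ RelSpec.QCAlg.Hom.toModuleMap φ = g ≫ jF) (U : X.Opens) (hU : IsAffineOpen U) :
    Function.Surjective (φ.hom.app (op U)).hom := by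
  haveI : E.IsQuasicoherent := hE
  haveI : F.IsQuasicoherent := hF
  letI := H11Sym.algOn AF U
  intro a
  induction a using (hAF U hU).induction with
  | algebraMap r => exact ⟨astr AE U r, ConcreteCategory.congr_hom (NatTrans.congr_app φ.comm (op U)) r⟩
  | ι m =>
    obtain ⟨q, rfl⟩ := H10Coh.surjective_app_of_epi g hU m
    exact ⟨japp jE U q, congrArg (fun f : E ⟶ AF.toModule => japp f U q) hφ⟩
  | mul a b ha hb =>
    obtain ⟨x, rfl⟩ := ha
    obtain ⟨y, rfl⟩ := hb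
    exact ⟨x * y, map_mul _ _ _⟩
  | add a b ha hb =>
    obtain ⟨x, rfl⟩ := ha
    obtain ⟨y, rfl⟩ := hb
    exact ⟨x + y, map_add _ _ _⟩

theorem exists_charts {F : X.Modules} (hF : FlatMod.IsFinLocFree F) (x : X) :
    ∃ (U : X.Opens) (_ : IsAffineOpen U) (_ : x ∈ U) (m : ℕ), Nonempty (Module.Basis (Fin m) Γ(X, U) Γ(F, U)) := by
  obtain ⟨V, n, hxV, ⟨c⟩⟩ := hF x
  obtain ⟨U, hU, hxU, hle⟩ := exists_isAffineOpen_mem_and_subset (show x ∈ V from hxV)
  exact ⟨U, hU, hxU, n, H8Props.FinLocFree.exists_basis_of_chart F c hle⟩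

theorem rank_unique {F : X.Modules} (hF : FlatMod.IsFinLocFree F) {U U' : X.Opens} (hU : IsAffineOpen U)
    (hU' : IsAffineOpen U') {x : X} (hx : x ∈ U) (hx' : x ∈ U') {m m' : ℕ}
    (b : Module.Basis (Fin m) Γ(X, U) Γ(F, U)) (b' : Module.Basis (Fin m') Γ(X, U') Γ(F, U')) : m = m' := by
  obtain ⟨s⟩ := H22Alg.ExtPowSum.exists_stalkBasis (H8Props.FinLocFree.isQCoh_of_isFinLocFree F hF) hU b hx
  obtain ⟨s'⟩ := H22Alg.ExtPowSum.exists_stalkBasis (H8Props.FinLocFree.isQCoh_of_isFinLocFree F hF) hU' b' hx'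
  have := (Module.finrank_eq_card_basis s).symm.trans (Module.finrank_eq_card_basis s')
  simpa using this

/-- The sections of the middle of an extension by the structure module. -/
theorem exists_middle_basis {E F : X.Modules} {u : Coh.structureModule X ⟶ E} {g : E ⟶ F} {w : u ≫ g = 0}
    (hex : (ShortComplex.mk u g w).ShortExact) (hE : Coh.IsQCoh E) (hF : Coh.IsQCoh F) {U : X.Opens}
    (hU : IsAffineOpen U) {m : ℕ} (b : Module.Basis (Fin m) Γ(X, U) Γ(F, U)) :
    Nonempty (Module.Basis (Fin (1 + m)) Γ(X, U) Γ(E, U)) := by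
  haveI : E.IsQuasicoherent := hE
  haveI : F.IsQuasicoherent := hF
  haveI := hex.epi_g
  obtain ⟨hinj, hexact⟩ := H06Mod.exact_sections _ hex U
  let uₗ : Γ(Coh.structureModule X, U) →ₗ[Γ(X, U)] Γ(E, U) :=
    { toFun := fun m => u.app U m, map_add' := map_add _, map_smul' := fun r m => Scheme.Modules.Hom.app_smul u r m }
  let gₗ : Γ(E, U) →ₗ[Γ(X, U)] Γ(F, U) :=
    { toFun := fun m => g.app U m, map_add' := map_add _, map_smul' := fun r m => Scheme.Modules.Hom.app_smul g r m }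
  haveI := Module.Free.of_basis b
  obtain ⟨s, hs⟩ := Module.projective_lifting_property gₗ LinearMap.id (H10Coh.surjective_app_of_epi g hU)
  have hs' : ∀ q, g.app U (s q) = q := fun q => DFunLike.congr_fun hs q
  have hgu : ∀ c, g.app U (u.app U c) = 0 := fun c =>
    ConcreteCategory.congr_hom (congrArg (fun f => Scheme.Modules.Hom.app f U) w) c
  have hbij : Function.Bijective (uₗ.coprod s) := by
    refine ⟨(injective_iff_map_eq_zero _).2 ?_, fun q => ?_⟩
    · rintro ⟨c, q⟩ h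
      have h' : u.app U c + s q = 0 := h
      have h2 := congrArg (g.app U) h'
      rw [map_add, map_zero, hgu, hs', zero_add] at h2
      subst h2
      rw [map_zero, add_zero] at h'
      have hc0 : c = 0 := hinj (h'.trans (map_zero uₗ).symm)
      rw [hc0]
      rfl
    · obtain ⟨c, hc⟩ := hexact (q - s (g.app U q)) (by rw [map_sub, hs', sub_self])
      exact ⟨(c, g.app U q), by
        show u.app U c + s (g.app U q) = q
        rw [show u.app U c = q - s (g.app U q) from hc, sub_add_cancel]⟩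
  let e := (LinearEquiv.ofBijective _ hbij)
  let k : Module.Basis (Fin 1) Γ(X, U) Γ(Coh.structureModule X, U) := Module.Basis.singleton (Fin 1) Γ(X, U)
  exact ⟨((k.prod b).map e).reindex finSumFinEquiv⟩

/-- The facts over an affine open with free quotient. -/
theorem local_data {E F : X.Modules} {u : Coh.structureModule X ⟶ E} {g : E ⟶ F} {w : u ≫ g = 0}
    (hex : (ShortComplex.mk u g w).ShortExact) (hE : Coh.IsQCoh E) (hF : Coh.IsQCoh F)
    {AE AF : RelSpec.QCAlg X} {jE : E ⟶ AE.toModule} {jF : F ⟶ AF.toModule} (hAE : IsAffSym jE) (hAF : IsAffSym jF)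
    (φ : AE ⟶ AF) [QuasiCompact (RelSpec.QCAlg.specMap φ)] (hφ : jE ≫ RelSpec.QCAlg.Hom.toModuleMap φ = g ≫ jF) {U : X.Opens}
    (hU : IsAffineOpen U) {m : ℕ} (b : Module.Basis (Fin m) Γ(X, U) Γ(F, U)) (c : Γ(AE.spec, AE.π ⁻¹ᵁ U))
    (hc : AE.gammaAff U hU c = japp jE U (u.app U (1 : Γ(X, U)))) :
    RelCartier.RegAll (AE.π.app U).hom c ∧
      ∀ hW : IsAffineOpen (AE.π ⁻¹ᵁ U), (RelSpec.QCAlg.specMap φ).ker.ideal ⟨_, hW⟩ = Ideal.span {c} := by
  haveI : E.IsQuasicoherent := hE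
  haveI : F.IsQuasicoherent := hF
  haveI := hex.epi_g
  haveI := Module.Free.of_basis b
  let k : Module.Basis (Fin 1) Γ(X, U) Γ(Coh.structureModule X, U) := Module.Basis.singleton (Fin 1) Γ(X, U)
  have hk : k 0 = (1 : Γ(X, U)) := Module.Basis.singleton_apply (Fin 1) Γ(X, U) 0
  obtain ⟨η, hη₀, hη₁, hη₂⟩ := SymSplit.exists_polyEquiv hex hAE hAF φ hφ hU (H10Coh.surjective_app_of_epi g hU) k
  haveI := H11RelSpec.isIso_gammaAff AE U hU
  let γ : Γ(AE.spec, AE.π ⁻¹ᵁ U) ≃+* AE.presheaf.obj (op U) :=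
    (asIso (AE.gammaAff U hU)).commRingCatIsoToRingEquiv
  have hγc : γ c = japp jE U (u.app U (k 0)) := by rw [hk]; exact hc
  have hγπ : ∀ r, γ (AE.π.app U r) = astr AE U r := fun r => by
    haveI := H11RelSpec.isIso_gammaMap AE
    show AE.gammaAff U hU (AE.π.app U r) = _
    rw [← AE.gammaMap_app U hU]
    exact ConcreteCategory.congr_hom (NatTrans.congr_app AE.π_c_gammaMap (op U)) r
  have hX0 : η (γ c) = MvPolynomial.X 0 := by rw [hγc, hη₁]
  refine ⟨fun J a ha => ?_, fun hW => ?_⟩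
  · have e : ((γ.trans η).toRingHom).comp (AE.π.app U).hom =
        (MvPolynomial.C : AF.presheaf.obj (op U) →+* MvPolynomial (Fin 1) (AF.presheaf.obj (op U))).comp
          (AF.str.app (op U)).hom := RingHom.ext fun r => by
      show η (γ (AE.π.app U r)) = _
      rw [hγπ, hη₀]
      rfl
    have h1 : η (γ (c * a)) ∈ (J.map (AE.π.app U).hom).map (γ.trans η).toRingHom :=
      Ideal.mem_map_of_mem (γ.trans η).toRingHom ha
    rw [Ideal.map_map, e, ← Ideal.map_map, map_mul, map_mul, hX0, MvPolynomial.mem_map_C_iff] at h1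
    have h2 : η (γ a) ∈ (J.map (AE.π.app U).hom).map (γ.trans η).toRingHom := by
      rw [Ideal.map_map, e, ← Ideal.map_map, MvPolynomial.mem_map_C_iff]
      intro n
      have h3 := h1 (Finsupp.single 0 1 + n)
      rwa [MvPolynomial.coeff_X_mul] at h3
    rw [Ideal.mem_map_iff_of_surjective (γ.trans η).toRingHom (γ.trans η).surjective] at h2
    obtain ⟨y, hy, hye⟩ := h2
    rwa [(γ.trans η).injective hye] at hy
  · let i := RelSpec.QCAlg.specMap φ
    haveI := H11RelSpec.isIso_gammaAff AF U hU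
    have hiW : AF.π ⁻¹ᵁ U = i ⁻¹ᵁ (AE.π ⁻¹ᵁ U) := by
      rw [← Scheme.Hom.comp_preimage, RelSpec.QCAlg.specMap_π]
    let γ' : Γ(AF.spec, i ⁻¹ᵁ (AE.π ⁻¹ᵁ U)) →+* AF.presheaf.obj (op U) :=
      (AF.spec.presheaf.map (eqToHom hiW).op ≫ AF.gammaAff U hU).hom
    have hγ' : Function.Injective γ' := (ConcreteCategory.bijective_of_isIso
      (AF.spec.presheaf.map (eqToHom hiW).op ≫ AF.gammaAff U hU)).1
    have hnat : ∀ a, γ' (i.app (AE.π ⁻¹ᵁ U) a) = MvPolynomial.constantCoeff (η (γ a)) := fun a => by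
      rw [← hη₂]
      refine Eq.trans ?_ (ConcreteCategory.congr_hom (SymSplit.gammaAff_specMap φ U hU hiW.le) a)
      rfl
    rw [Scheme.Hom.ker_apply]
    ext a
    rw [RingHom.mem_ker, ← hγ'.eq_iff, map_zero, hnat, ← RingHom.mem_ker, SymSplit.ker_constantCoeff,
      Set.range_unique, show (default : Fin 1) = 0 from rfl, Ideal.mem_span_singleton, Ideal.mem_span_singleton, ← hX0,
      map_dvd_iff η, map_dvd_iff γ]

theorem sec_trivial {X : Scheme.{u}} {δ : X → ℤ} (hX : Cyc.IsSetup X δ) {N : X.Modules} {e : Γ(N, ⊤)} (he : IsGen N e)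
    (hN : PicF.IsInvertible N) (k : ℤ) (A : AlgebraicCycle X ℤ) (hA : A ∈ Cyc.Zk X δ (k + 1))
    (t : (ξ : X) → Cyc.secFibre N ξ) (ht : ∀ ξ, t ξ ≠ 0) (c : AlgebraicCycle X ℤ)
    (hc : ⇑c = Cyc.c1CapFun δ N ⇑A t) : Cyc.RatEquivZero δ k c := by
  haveI := hX.1
  have hne : ∀ ξ, (1 : X.presheaf.stalk ξ) • C1Api.fib N ξ (show ξ ∈ (⊤ : X.Opens) from trivial) e ≠ 0 := fun ξ =>
    (C1Api.residue_ne_zero_iff he _ _).2 (by rw [map_one]; exact one_ne_zero)
  have h0 : ⇑(0 : AlgebraicCycle X ℤ) = Cyc.c1CapFun δ N ⇑A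
      (fun ξ => (1 : X.presheaf.stalk ξ) • C1Api.fib N ξ (show ξ ∈ (⊤ : X.Opens) from trivial) e) := funext fun x => by
    refine (finsum_eq_zero_of_forall_eq_zero fun ξ => ?_).symm
    rw [C1Api.secDivFun_gen he δ _ _ (by rw [map_one]; exact one_ne_zero) trivial, map_one]
    simp only [Cyc.divFun]
    split_ifs with h
    · rw [C1Api.ordAt_one, mul_zero]
    · rw [mul_zero]
  have := C1Api.c1Cap_ratEquiv hN k A hA _ t hne ht 0 c h0 hc
  unfold Cyc.RatEquiv at this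
  rwa [sub_zero] at this

/-- One piece of constant rank. -/
theorem piece {W EW FW : Scheme.{u}} {δW : W → ℤ} (hW : Cyc.IsSetup W δW) (pE : EW ⟶ W) [Flat pE]
    [LocallyOfFiniteType pE] {m : ℕ} (hrE : Cyc.HasRelDim pE (m + 1)) {δE : EW → ℤ} (hE : Cyc.IsSetup EW δE)
    (hδE : Cyc.DeltaCompat pE δE δW) (i : FW ⟶ EW) [IsClosedImmersion i]
    {N : EW.Modules} (hN : PicF.IsInvertible N) {e : Γ(N, ⊤)} (he : IsGen N e) (s : N.presheaf.obj (op ⊤))
    (hs : Cyc.IsZeroSchemeOf i N s)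
    (hreg : ∀ x : EW, ∃ (U : EW.Opens) (hx : x ∈ U) (e : Γ(N, U)) (a : EW.presheaf.stalk x), IsGen N e ∧
      N.presheaf.germ ⊤ x trivial s = a • N.presheaf.germ U x hx e ∧ RelCartier.RegAll (pE.stalkMap x).hom a)
    (hloc : VBChart.LocAff (ULift.{u} (Fin m)) (i ≫ pE))
    (k : ℤ) (α : AlgebraicCycle FW ℤ) (hα : α ∈ Cyc.Zk FW (fun y => δE (i y)) k) :
    Cyc.RatEquivZero δE k (AlgebraicCycle.map i (fun y => δE (i y)) δE α) := by
  classical
  haveI := hW.1
  haveI := hE.1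
  obtain ⟨hinj, hfl, hrF⟩ := RelCartier.main pE m hrE hN i hs hreg
  haveI := hfl
  have hFs : Cyc.IsSetup FW (fun y => δE (i y)) := GysinTot.isSetupD hE (i := i)
  haveI := hFs.1
  have hδF : Cyc.DeltaCompat (i ≫ pE) (fun y => δE (i y)) δW :=
    BCPush.deltaCompat_comp i pE (Reduction.deltaCompat_immersion i δE) hδE
  obtain ⟨β, β', hβ, hβ'f, hαβ⟩ := KAffine.pullFun_surjective (σ := ULift.{u} (Fin m)) (i ≫ pE) hFs hW hrF hδF
    hloc.hloc (k - m) α (by rwa [sub_add_cancel])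
  rw [sub_add_cancel] at hαβ
  have hdE : FlatRat.MaxDim pE δE δW ((m + 1 : ℕ) : ℤ) := FlatRat.maxDim_of_hasRelDim pE hrE hδE
  obtain ⟨A, hAf, hA⟩ := C1Api.exists_pullFun_cycle pE hE hW hdE (k - m) β hβ
  replace hA : A ∈ Cyc.Zk EW δE (k + 1) := by
    rw [show k + 1 = k - m + ((m + 1 : ℕ) : ℤ) by push_cast; ring]
    exact hA
  let t := Chow.sec hN
  obtain ⟨γ, hγf, hγ⟩ := GysinTot.exists_gysin_cycle (s := s) (i := i) hE hN k A hA t (Chow.sec_ne_zero hN)
  have hγβ : Cyc.RatEquiv (fun y => δE (i y)) k γ β' := by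
    have := Groth.Agent.S1945.result EW W FW δE δW hE hW pE m hrE hδE N hN s hinj i hs hrF (k - m - 1) β
      (by simpa using hβ) t (Chow.sec_ne_zero hN) γ β' (fun y => by rw [hγf, hAf]; push_cast; rfl) hβ'f
    rw [show k - (m : ℤ) - 1 + m + 1 = k by ring] at this
    exact this
  have hαm : AlgebraicCycle.map i (fun y => δE (i y)) δE α ∈ Cyc.Zk EW δE k := Chow.map_mem i α hα
  have hβ'm : β' ∈ Cyc.Zk FW (fun y => δE (i y)) k := fun y hy => by
    rw [hβ'f]
    simp only [Cyc.pullFun]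
    split_ifs with h
    · rw [show β ((i ≫ pE) y) = 0 from hβ _ fun h' => hy (by show δE (i y) = k; rw [h, h']; ring), zero_mul]
    · rfl
  have hcl : ChowOps.cl α hα = ChowOps.cl γ hγ :=
    ((Chow.cl_eq_iff hα hβ'm).mpr hαβ).trans ((Chow.cl_eq_iff hγ hβ'm).mpr hγβ).symm
  have hpush := congrArg (Chow.push i hFs hE (Reduction.deltaCompat_immersion i δE) k) hcl
  rw [Chow.push_cl, Chow.push_cl] at hpush
  rw [← Chow.cl_eq_zero_iff hαm, hpush, Chow.cl_eq_zero_iff]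
  refine sec_trivial hE he hN k A hA (Cyc.gysinChoice N s t)
    (fun ξ => Gysin.gysinChoice_ne_zero N s t (Chow.sec_ne_zero hN) ξ) _ (funext fun x => ?_)
  by_cases hx : x ∈ Set.range i
  · obtain ⟨y, rfl⟩ := hx
    rw [Gysin.map_immersion_apply, hγf]
  · rw [Gysin.map_immersion_eq_zero i δE γ x hx]
    refine (finsum_eq_zero_of_forall_eq_zero fun ξ => ?_).symm
    by_cases hξx : ξ ⤳ x
    · obtain ⟨V, eV, hxV, heV⟩ := H11Ample.exists_gen hN x
      obtain ⟨a, ha⟩ := (heV x hxV).2 (N.presheaf.germ ⊤ x trivial s)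
      have hu : IsUnit a := by
        rw [← IsLocalRing.residue_ne_zero_iff_isUnit]
        refine (C1Api.residue_ne_zero_iff heV hxV a).1 ?_
        rw [C1Api.fib, ← Submodule.Quotient.mk_smul,
          show a • N.presheaf.germ V x hxV eV = N.presheaf.germ ⊤ x trivial s from ha]
        exact (Gysin.notMem_range_iff hs x).mp hx
      have hξ : ξ ∉ Set.range i := fun h => hx (hξx.mem_closed i.isClosedEmbedding.isClosed_range h)
      have hξV := hξx.mem_open V.2 hxV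
      have hgs : N.presheaf.germ ⊤ ξ trivial s =
          (EW.presheaf.stalkSpecializes hξx).hom a • N.presheaf.germ V ξ hξV eV := by
        rw [← TopCat.Presheaf.germ_stalkSpecializes_apply N.presheaf (U := ⊤) trivial hξx s,
          show N.presheaf.germ ⊤ x trivial s = a • N.presheaf.germ V x hxV eV from ha.symm,
          C1Api.stalkSpecializes_smul, TopCat.Presheaf.germ_stalkSpecializes_apply]
      have hne : EW.residue ξ ((EW.presheaf.stalkSpecializes hξx).hom a) ≠ 0 := by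
        show IsLocalRing.residue _ _ ≠ 0
        rw [IsLocalRing.residue_ne_zero_iff_isUnit]
        exact hu.map _
      rw [Cyc.gysinChoice, if_pos ((Gysin.notMem_range_iff hs ξ).mp hξ), hgs, Submodule.Quotient.mk_smul,
        show (Submodule.Quotient.mk (N.presheaf.germ V ξ hξV eV) : Cyc.secFibre N ξ) = C1Api.fib N ξ hξV eV from rfl,
        C1Api.secDivFun_gen heV δE _ _ hne hxV]
      simp only [Cyc.divFun]
      split_ifs with h
      · refine mul_eq_zero_of_right _ ?_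
        exact C1Api.ordAt_specMap_unit x ξ h.1 hu
      · rw [mul_zero]
    · simp only [Cyc.secDivFun]
      rw [dif_neg fun hh => hξx hh.1, mul_zero]

theorem hreg_piece {AE : RelSpec.QCAlg X} (W : X.Opens) (s : Γ(Coh.structureModule AE.spec, ⊤))
    {U : X.Opens} (hU : IsAffineOpen U) (x : ((AE.π ⁻¹ᵁ W : AE.spec.Opens) : Scheme.{u}))
    (hxU : AE.π ((AE.π ⁻¹ᵁ W).ι x) ∈ U) (c : Γ(AE.spec, AE.π ⁻¹ᵁ U))
    (hgerm : ∀ (v : AE.spec) (hv : v ∈ AE.π ⁻¹ᵁ U), (Coh.structureModule AE.spec).presheaf.germ ⊤ v trivial s =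
        AE.spec.presheaf.germ _ v hv c • (Coh.structureModule AE.spec).presheaf.germ _ v hv (H11Ample.one _))
    (hreg : RelCartier.RegAll (AE.π.app U).hom c) :
    ∃ (V : ((AE.π ⁻¹ᵁ W : AE.spec.Opens) : Scheme.{u}).Opens) (hx : x ∈ V)
      (e : Γ((Scheme.Modules.pullback (AE.π ⁻¹ᵁ W).ι).obj (Coh.structureModule AE.spec), V))
      (a : ((AE.π ⁻¹ᵁ W : AE.spec.Opens) : Scheme.{u}).presheaf.stalk x),
      IsGen ((Scheme.Modules.pullback (AE.π ⁻¹ᵁ W).ι).obj (Coh.structureModule AE.spec)) e ∧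
      ((Scheme.Modules.pullback (AE.π ⁻¹ᵁ W).ι).obj (Coh.structureModule AE.spec)).presheaf.germ ⊤ x trivial
        (GysinTot.pullSec (AE.π ⁻¹ᵁ W).ι (Coh.structureModule AE.spec) s) =
        a • ((Scheme.Modules.pullback (AE.π ⁻¹ᵁ W).ι).obj (Coh.structureModule AE.spec)).presheaf.germ V x hx e ∧
      RelCartier.RegAll ((AE.π ∣_ W).stalkMap x).hom a := by
  let E' : AE.spec.Opens := AE.π ⁻¹ᵁ W
  let pE : (E' : Scheme.{u}) ⟶ W := AE.π ∣_ W
  have hsqE : IsPullback E'.ι pE AE.π W.ι := (isPullback_morphismRestrict AE.π W).flip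
  refine ⟨_, hxU, _, E'.ι.stalkMap x (AE.spec.presheaf.germ _ (E'.ι x) hxU c),
    IsGen.pullSect E'.ι (H11Ample.isGen_one _), S6488.germ_pullSect_smul E'.ι s _ x hxU _ (hgerm _ hxU), ?_⟩
  have h2 : RelCartier.RegAll (AE.π.stalkMap (E'.ι x)).hom (AE.spec.presheaf.germ _ (E'.ι x) hxU c) :=
    RelCartier.regAll_stalk AE.π hU (hU.preimage AE.π) le_rfl (by rwa [← Scheme.Hom.app_eq_appLE]) _ hxU
  have h3 := congrArg CommRingCat.Hom.hom (H8Props.NilThick.baseMap_comp hsqE x)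
  refine S6488.regAll_surjective h2 (H8Props.NilThick.baseMap hsqE x).hom (E'.ι.stalkMap x).hom ?_
    (ConcreteCategory.bijective_of_isIso (E'.ι.stalkMap x)).2 ?_ ?_
  · exact (W.ι.stalkMap_surjective (pE x)).comp
      (ConcreteCategory.bijective_of_isIso (X.presheaf.stalkCongr (.of_eq (H8Props.NilThick.base_eq hsqE x))).hom).2
  · exact h3.symm
  · rw [(RingHom.injective_iff_ker_eq_bot (E'.ι.stalkMap x).hom).1 (ConcreteCategory.bijective_of_isIso (E'.ι.stalkMap x)).1]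
    exact bot_le

/-- One piece, assembled. -/
theorem piece_at {δ : X → ℤ} (hX : Cyc.IsSetup X δ) {S : ShortComplex X.Modules} {u : Coh.structureModule X ⟶ S.X₂}
    {w : u ≫ S.g = 0} (hex : (ShortComplex.mk u S.g w).ShortExact) (hqE : Coh.IsQCoh S.X₂) (hqF : Coh.IsQCoh S.X₃)
    {AE AF : RelSpec.QCAlg X} {jE : S.X₂ ⟶ AE.toModule} {jF : S.X₃ ⟶ AF.toModule} (hjE : IsAffSym jE)
    (hjF : IsAffSym jF) (φ : AE ⟶ AF) [IsClosedImmersion (RelSpec.QCAlg.specMap φ)]
    (δE : ↥AE.spec → ℤ) (hEs : Cyc.IsSetup AE.spec δE) (hδE : Cyc.DeltaCompat AE.π δE δ)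
    (s : Γ(Coh.structureModule AE.spec, ⊤))
    (hzero : Cyc.IsZeroSchemeOf (RelSpec.QCAlg.specMap φ) (Coh.structureModule AE.spec) s)
    (hdata : ∀ x : X, ∃ (U : X.Opens) (hU : IsAffineOpen U) (_ : x ∈ U) (m : ℕ)
      (_ : Module.Basis (Fin m) Γ(X, U) Γ(S.X₃, U)) (c : Γ(AE.spec, AE.π ⁻¹ᵁ U)),
      (∀ (v : AE.spec) (hv : v ∈ AE.π ⁻¹ᵁ U), (Coh.structureModule AE.spec).presheaf.germ ⊤ v trivial s =
        AE.spec.presheaf.germ _ v hv c • (Coh.structureModule AE.spec).presheaf.germ _ v hv (H11Ample.one _)) ∧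
      RelCartier.RegAll (AE.π.app U).hom c ∧
        (RelSpec.QCAlg.specMap φ).ker.ideal ⟨_, hU.preimage AE.π⟩ = Ideal.span {c})
    (m : ℕ) (W : X.Opens) (hW' : ∀ x ∈ W, ∃ (U : X.Opens) (_ : IsAffineOpen U) (_ : x ∈ U),
      Nonempty (Module.Basis (Fin m) Γ(X, U) Γ(S.X₃, U)))
    (k : ℤ) (α : AlgebraicCycle AF.spec ℤ) (hα : α ∈ Cyc.Zk AF.spec (fun y => δE (RelSpec.QCAlg.specMap φ y)) k)
    (β : AlgebraicCycle ((AE.π ⁻¹ᵁ W : AE.spec.Opens) : Scheme.{u}) ℤ)
    (hβ : ∀ w, β w = AlgebraicCycle.map (RelSpec.QCAlg.specMap φ) (fun y => δE (RelSpec.QCAlg.specMap φ y)) δE α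
      ((AE.π ⁻¹ᵁ W).ι w)) :
    Cyc.RatEquivZero (fun x => δE ((AE.π ⁻¹ᵁ W).ι x)) k β := by
  classical
  haveI := hX.1
  haveI := hEs.1
  set i := RelSpec.QCAlg.specMap φ with hi
  have hiπ : i ≫ AE.π = AF.π := RelSpec.QCAlg.specMap_π φ
  let E' : AE.spec.Opens := AE.π ⁻¹ᵁ W
  let pE : (E' : Scheme.{u}) ⟶ W := AE.π ∣_ W
  let iW : (↑(i ⁻¹ᵁ E') : Scheme.{u}) ⟶ E' := i ∣_ E'
  have hsqE : IsPullback E'.ι pE AE.π W.ι := (isPullback_morphismRestrict AE.π W).flip
  have hchartE : VBChart.LocAff (ULift.{u} (Fin (1 + m))) pE := VBChart.locAff_baseChange hsqE fun x => by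
    obtain ⟨U, hU, hxU, ⟨b⟩⟩ := hW' _ x.2
    obtain ⟨bE⟩ := exists_middle_basis hex hqE hqF hU b
    exact ⟨U, hxU, VBChart.exists_chart hjE hU bE⟩
  have hsqF : IsPullback (i ⁻¹ᵁ E').ι (iW ≫ pE) AF.π W.ι := by
    rw [← hiπ]
    exact (isPullback_morphismRestrict i E').flip.paste_vert hsqE
  have hchartF : VBChart.LocAff (ULift.{u} (Fin m)) (iW ≫ pE) := VBChart.locAff_baseChange hsqF fun x => by
    obtain ⟨U, hU, hxU, ⟨b⟩⟩ := hW' _ x.2
    exact ⟨U, hxU, VBChart.exists_chart hjF hU b⟩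
  haveI := hchartE.flat
  haveI := hchartE.lft
  have hrE : Cyc.HasRelDim pE (m + 1) := by
    have := hchartE.hasRelDim
    rwa [Fintype.card_ulift, Fintype.card_fin, add_comm] at this
  have hW : Cyc.IsSetup (W : Scheme.{u}) (fun x => δ (W.ι x)) :=
    isSetup_of_locallyOfFiniteType W.ι hX (Reduction.deltaCompat_immersion W.ι δ)
  have hE' : Cyc.IsSetup (E' : Scheme.{u}) (fun x => δE (E'.ι x)) :=
    isSetup_of_locallyOfFiniteType E'.ι hEs (Reduction.deltaCompat_immersion E'.ι δE)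
  have hδE' : Cyc.DeltaCompat pE (fun x => δE (E'.ι x)) (fun x => δ (W.ι x)) :=
    BCPush.deltaCompat_cancel pE W.ι (Reduction.deltaCompat_immersion W.ι δ) (by
      rw [← hsqE.w]
      exact BCPush.deltaCompat_comp E'.ι AE.π (Reduction.deltaCompat_immersion E'.ι δE) hδE)
  let N := (Scheme.Modules.pullback E'.ι).obj (Coh.structureModule AE.spec)
  let sW := GysinTot.pullSec E'.ι (Coh.structureModule AE.spec) s
  have hsW : Cyc.IsZeroSchemeOf iW N sW := by
    show Cyc.IsZeroSchemeOf (i ∣_ E') N sW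
    rw [← (isPullback_morphismRestrict i E').isoPullback_hom_fst]
    exact GysOps.isZero_iso_comp _
      (GysinTot.isZeroScheme_pullSec H11Ample.isInvertible_structureModule hzero E'.ι)
  let eN : Γ(N, ⊤) := OmegaSh.pullSect E'.ι (Coh.structureModule AE.spec) ⊤ (H11Ample.one ⊤)
  have heN : IsGen N eN := IsGen.pullSect E'.ι (H11Ample.isGen_one ⊤)
  have hreg : ∀ x : (E' : Scheme.{u}), ∃ (U : (E' : Scheme.{u}).Opens) (hx : x ∈ U) (e : Γ(N, U))
      (a : (E' : Scheme.{u}).presheaf.stalk x), IsGen N e ∧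
      N.presheaf.germ ⊤ x trivial sW = a • N.presheaf.germ U x hx e ∧
      RelCartier.RegAll (pE.stalkMap x).hom a := by
    intro x
    obtain ⟨U, hU, hxU, m', b, c, hgerm, hreg, -⟩ := hdata (AE.π (E'.ι x))
    exact hreg_piece W s hU x hxU c hgerm hreg
  let αm : AlgebraicCycle (↑(i ⁻¹ᵁ E') : Scheme.{u}) ℤ := ⟨fun y => α ((i ⁻¹ᵁ E').ι y), by simp, fun y _ => by
    obtain ⟨T, hT, hfin⟩ := α.supportLocallyFiniteWithinDomain' ((i ⁻¹ᵁ E').ι y) trivial
    exact ⟨(i ⁻¹ᵁ E').ι ⁻¹' T, (i ⁻¹ᵁ E').ι.continuous.continuousAt.preimage_mem_nhds hT,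
      (hfin.preimage (i ⁻¹ᵁ E').ι.isEmbedding.injective.injOn).subset fun z hz => hz⟩⟩
  have hιi : ∀ y, E'.ι (iW y) = i ((i ⁻¹ᵁ E').ι y) := fun y => congr($(morphismRestrict_ι i E').base y)
  have key := piece hW pE hrE hE' hδE' iW (H11Ample.isInvertible_pullback _ H11Ample.isInvertible_structureModule)
    heN sW hsW hreg hchartF k αm (fun y hy => hα _ fun h => hy (by show δE (E'.ι (iW y)) = k; rw [hιi]; exact h))
  convert key using 1
  refine DFunLike.coe_injective (funext fun w => ?_)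
  rw [hβ]
  by_cases hw : w ∈ Set.range iW
  · obtain ⟨y, rfl⟩ := hw
    rw [Gysin.map_immersion_apply iW (fun x => δE (E'.ι x)) αm y, hιi]
    exact Gysin.map_immersion_apply i δE α _
  · rw [Gysin.map_immersion_eq_zero iW (fun x => δE (E'.ι x)) αm w hw]
    refine Gysin.map_immersion_eq_zero i δE α _ ?_
    rintro ⟨y, hy⟩
    have hyE : y ∈ i ⁻¹ᵁ E' := by show i y ∈ E'; rw [hy]; exact w.2
    exact hw ⟨⟨y, hyE⟩, E'.ι.isEmbedding.injective ((hιi _).trans hy)⟩

/-- Let X be a scheme and F ⊂ E an inclusion of vector bundles over X whose quotient E/F is the trivial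
line bundle; then the proper pushforward i_* : CH_k(F) → CH_k(E) along the inclusion of total spaces
is the zero map. In terms of modules: let 0 → O_X → ℰ → ℱ → 0 be a short exact sequence of
O_X-modules with ℰ, ℱ quasi-coherent and finite locally free, E = Spec(Sym ℰ) and F = Spec(Sym ℱ)
the associated vector bundles (given through the relative-spectrum layer: quasi-coherent algebras
A_E, A_F with maps from ℰ, ℱ having the universal property of the symmetric algebra,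
RelSpec.IsSymAlg), and i : F → E the morphism of relative spectra induced by the algebra map A_E →
A_F extending ℰ → ℱ (a closed immersion; its quasi-compactness is carried as an instance hypothesis
so that the pushforward of cycles is defined). Then for every k-cycle α on F, i_*α is rationally
equivalent to zero as a k-cycle on E. Here a pair (X, δ) with Cyc.IsSetup plays the role of a scheme
locally of finite type over a base with a dimension function (the source has X of finite type over a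
field; the statement is given for any such pair), Cyc.DeltaCompat records that the dimension
functions on E and F are the induced ones, and i_* is Mathlib's pushforward of cycles. -/
theorem result (X : Scheme.{u}) (δ : X → ℤ) (hX : Cyc.IsSetup X δ) (S : ShortComplex X.Modules) (hS : S.ShortExact) (e : S.X₁ ≅ Coh.structureModule X) (hqE : Coh.IsQCoh S.X₂) (hE : FlatMod.IsFinLocFree S.X₂) (hqF : Coh.IsQCoh S.X₃) (hF : FlatMod.IsFinLocFree S.X₃) (AE : RelSpec.QCAlg X) (jE : S.X₂ ⟶ AE.toModule) (hAE : RelSpec.IsSymAlg S.X₂ AE jE) (AF : RelSpec.QCAlg X) (jF : S.X₃ ⟶ AF.toModule) (hAF : RelSpec.IsSymAlg S.X₃ AF jF) (φ : AE ⟶ AF) (hφ : jE ≫ RelSpec.QCAlg.Hom.toModuleMap φ = S.g ≫ jF) [QuasiCompact (RelSpec.QCAlg.specMap φ)] (δE : ↥AE.spec → ℤ) (hEs : Cyc.IsSetup AE.spec δE) (hδE : Cyc.DeltaCompat AE.π δE δ) (δF : ↥AF.spec → ℤ) (hFs : Cyc.IsSetup AF.spec δF) (hδF : Cyc.DeltaCompat AF.π δF δ) (k : ℤ) (α : AlgebraicCycle AF.spec ℤ) (hα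 : α ∈ Cyc.Zk AF.spec δF k) : Cyc.RatEquivZero δE k (AlgebraicCycle.map (RelSpec.QCAlg.specMap φ) δF δE α) := by
  classical
  haveI := hX.1
  haveI := hEs.1
  haveI := hFs.1
  haveI := hS.epi_g
  let u := e.inv ≫ S.f
  have w : u ≫ S.g = 0 := by rw [Category.assoc, S.zero, comp_zero]
  have hex : (ShortComplex.mk u S.g w).ShortExact :=
    ShortComplex.shortExact_of_iso (S₁ := S) (ShortComplex.isoMk e (Iso.refl _) (Iso.refl _) (by simp [u]) (by simp)) hS
  have hjE := hAE.isAffSym hqE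
  have hjF := hAF.isAffSym hqF
  set i := RelSpec.QCAlg.specMap φ with hi
  haveI : IsClosedImmersion i :=
    H11Sym.isClosedImmersion_specMap φ (surjective_app S.g hqE hqF hjF φ hφ)
  have hiπ : i ≫ AE.π = AF.π := RelSpec.QCAlg.specMap_π φ
  obtain rfl : δF = fun y => δE (i y) := OpenSupp.deltaCompat_unique AF.π hδF
    (hiπ ▸ BCPush.deltaCompat_comp i AE.π (Reduction.deltaCompat_immersion i δE) hδE)
  -- the linear function
  obtain ⟨ι, hι⟩ := SymSection.exists_toPush AE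
  let one : Γ(Coh.structureModule X, ⊤) := H11Ample.one ⊤
  let s : Γ(Coh.structureModule AE.spec, ⊤) := ι.app ⊤ (jE.app ⊤ (u.app ⊤ one))
  have hs : ∀ (U : X.Opens) (hU : IsAffineOpen U),
      AE.gammaAff U hU (AE.spec.presheaf.map (homOfLE (le_top : AE.π ⁻¹ᵁ U ≤ ⊤)).op s) =
        japp jE U (u.app U (1 : Γ(X, U))) := fun U hU => by
    refine Eq.trans (congrArg (AE.gammaAff U hU) ?_) (hι U hU _)
    show _ = ((u ≫ jE ≫ ι).app U) (1 : Γ(X, U))
    rw [show (1 : Γ(X, U)) = (Coh.structureModule X).presheaf.map (homOfLE (le_top : U ≤ ⊤)).op one from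
      (H11Ample.one_res le_top).symm]
    exact (NatTrans.naturality_apply (u ≫ jE ≫ ι).mapPresheaf (homOfLE (le_top : U ≤ ⊤)).op one).symm
  have hdata : ∀ x : X, ∃ (U : X.Opens) (hU : IsAffineOpen U) (_ : x ∈ U) (m : ℕ)
      (_ : Module.Basis (Fin m) Γ(X, U) Γ(S.X₃, U)) (c : Γ(AE.spec, AE.π ⁻¹ᵁ U)),
      (∀ (v : AE.spec) (hv : v ∈ AE.π ⁻¹ᵁ U), (Coh.structureModule AE.spec).presheaf.germ ⊤ v trivial s =
        AE.spec.presheaf.germ _ v hv c • (Coh.structureModule AE.spec).presheaf.germ _ v hv (H11Ample.one _)) ∧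
      RelCartier.RegAll (AE.π.app U).hom c ∧ i.ker.ideal ⟨_, hU.preimage AE.π⟩ = Ideal.span {c} := by
    intro x
    obtain ⟨U, hU, hxU, m, ⟨b⟩⟩ := exists_charts hF x
    obtain ⟨h1, h2⟩ := local_data hex hqE hqF hjE hjF φ hφ hU b _ (hs U hU)
    refine ⟨U, hU, hxU, m, b, _, fun v hv => ?_, h1, h2 _⟩
    rw [← H06Mod.germ_smul]
    refine Eq.trans (TopCat.Presheaf.germ_res_apply (Coh.structureModule AE.spec).presheaf
      (homOfLE (le_top : AE.π ⁻¹ᵁ U ≤ ⊤)) v hv s).symm (congrArg _ ?_)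
    show _ = (AE.spec.presheaf.map (homOfLE (le_top : AE.π ⁻¹ᵁ U ≤ ⊤)).op s) * (1 : Γ(AE.spec, AE.π ⁻¹ᵁ U))
    rw [mul_one]
    rfl
  have hzero : Cyc.IsZeroSchemeOf i (Coh.structureModule AE.spec) s := RelCartier.isZeroScheme_of_local i fun v => by
    obtain ⟨U, hU, hxU, m, b, c, hgerm, -, hk⟩ := hdata (AE.π v)
    exact ⟨_, hU.preimage AE.π, hxU, H11Ample.one _, c, H11Ample.isGen_one _, hgerm, hk⟩
  -- the pieces of constant rank
  let Wm : ℕ → X.Opens := fun m => ⟨{x | ∃ (U : X.Opens) (_ : IsAffineOpen U) (_ : x ∈ U),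
      Nonempty (Module.Basis (Fin m) Γ(X, U) Γ(S.X₃, U))}, by
    rw [isOpen_iff_forall_mem_open]
    rintro x ⟨U, hU, hxU, hb⟩
    exact ⟨U, fun y hy => ⟨U, hU, hy, hb⟩, U.2, hxU⟩⟩
  have hWu : ∀ {m m' : ℕ} {x : X}, x ∈ Wm m → x ∈ Wm m' → m = m' := by
    rintro m m' x ⟨U, hU, hxU, ⟨b⟩⟩ ⟨U', hU', hxU', ⟨b'⟩⟩
    exact rank_unique hF hU hU' hxU hxU' b b'
  have hWcl : ∀ m, IsClosed (Wm m : Set X) := fun m => by
    rw [← isOpen_compl_iff, isOpen_iff_forall_mem_open]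
    intro x hx
    obtain ⟨U, hU, hxU, m', hb⟩ := exists_charts hF x
    exact ⟨U, fun y hy hy' => hx (hWu ⟨U, hU, hy, hb⟩ hy' ▸ (⟨U, hU, hxU, hb⟩ : x ∈ Wm m')), U.2, hxU⟩
  let EW : ULift.{u} ℕ → AE.spec.Opens := fun a => AE.π ⁻¹ᵁ Wm a.down
  haveI hιcl : ∀ a, IsClosedImmersion (EW a).ι := fun a => IsClosedImmersion.of_isPreimmersion _ (by
    rw [Scheme.Opens.range_ι]
    exact (hWcl a.down).preimage AE.π.continuous)
  let μ := AlgebraicCycle.map i (fun y => δE (i y)) δE α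
  let G : ULift.{u} ℕ → AE.spec → ℤ := fun a x => if x ∈ EW a then μ x else 0
  let β : (a : ULift.{u} ℕ) → AlgebraicCycle (EW a) ℤ := fun a => ⟨fun w => μ ((EW a).ι w), by simp, fun w _ => by
    obtain ⟨T, hT, hfin⟩ := μ.supportLocallyFiniteWithinDomain' ((EW a).ι w) trivial
    exact ⟨(EW a).ι ⁻¹' T, (EW a).ι.continuous.continuousAt.preimage_mem_nhds hT,
      (hfin.preimage (EW a).ι.isEmbedding.injective.injOn).subset fun z hz => hz⟩⟩
  refine Transfer.ratEquivZero_family (fun a => (EW a : Scheme.{u})) (fun a => (EW a).ι) hιcl (fun x => ?_) G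
    (fun a x hx => if_neg fun h => hx (by rw [Scheme.Opens.range_ι]; exact h)) β
    (fun a w => (if_pos w.2).symm) (fun a => ?_) μ fun x => ?_
  · obtain ⟨U, hU, hxU, m, hb⟩ := exists_charts hF (AE.π x)
    refine ⟨AE.π ⁻¹ᵁ U, (AE.π ⁻¹ᵁ U).2, hxU, (Set.finite_singleton (ULift.up m)).subset ?_⟩
    rintro ⟨m'⟩ ⟨y, ⟨y', rfl⟩, hy⟩
    rw [Set.mem_singleton_iff, ULift.up_inj]
    exact hWu y'.2 ⟨U, hU, hy, hb⟩
  · obtain ⟨m⟩ := a
    exact piece_at hX hex hqE hqF hjE hjF φ δE hEs hδE s hzero hdata m (Wm m) (fun x hx => hx) k α hα _ (fun _ => rfl)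
  · obtain ⟨U, hU, hxU, m, hb⟩ := exists_charts hF (AE.π x)
    rw [finsum_eq_single _ (ULift.up m) fun a ha => if_neg fun h => ha ?_]
    · exact (if_pos (⟨U, hU, hxU, hb⟩ : AE.π x ∈ Wm m)).symm
    · obtain ⟨m'⟩ := a
      rw [ULift.up_inj]
      exact hWu h ⟨U, hU, hxU, hb⟩

end Groth.Agent.S18400
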