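import Groth.Statements.S18401
import Groth.Agent.H3Cyc.AffComp
import Groth.Agent.H3Cyc.QuotSupp
import Groth.Agent.H3Cyc.SplitTools
import Groth.Agent.H3Cyc.RelDimBC
-- import your own Groth.Agent.* helpers here

set_option autoImplicit false
universe u
open CategoryTheory AlgebraicGeometry Limits
set_option backward.isDefEq.respectTransparency.types false
open Cyc
open Groth.Agent.H3Cyc
open CategoryTheory.Limits

namespace Groth.Agent.S18401

/-- For an affine bundle φ : B → X of rank n, flat pullback φ^* : CH_k(X) → CH_{k+n}(B) is an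
isomorphism; this row states its injectivity for a scheme X (the published statement has X an
algebraic stack of finite type over a field; surjectivity of φ^* holds for any flat morphism
Zariski-locally isomorphic to an affine space over the base and is a separate result). The affine
bundle is presented through its structure group Aff(n) ⊂ GL(n+1), i.e. through a short exact
sequence 0 → O_X → ℰ → ℱ → 0 of quasi-coherent O_X-modules with ℰ finite locally free of rank n+1
and ℱ of rank n: E = Spec(Sym ℰ) is the associated vector bundle, t : E → A^1_X = Spec(Sym O_X) is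
induced by O_X → ℰ, and B is the fibre of t over the section of A^1_X given by an invertible
function (the algebra map Sym O_X → O_X extending an automorphism u of the module O_X), so that B is
a torsor under Spec(Sym ℱ); here the structure sheaf appears both as Mathlib's unit module and as
the unit quasi-coherent algebra regarded as a module, and u is any isomorphism between the two. The
symmetric algebras are given by their universal property among quasi-coherent algebras
(RelSpec.IsSymAlg) and the algebra maps by their restrictions to the generating modules; B is the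
fibre product of the two morphisms of relative spectra and φ is its first projection followed by E →
X. A pair (X, δ) with Cyc.IsSetup plays the role of a scheme locally of finite type over a base with
a dimension function (the published statement takes X of finite type over a field; this row takes
any such pair), Cyc.DeltaCompat records that the dimension function on B is the induced one, and φ^*
is Cyc.pullFun with relative dimension n. -/
theorem result (X : Scheme.{u}) (δ : X → ℤ) (hX : Cyc.IsSetup X δ) (S : ShortComplex X.Modules) (hS : S.ShortExact) (e : S.X₁ ≅ Coh.structureModule X) (n : ℕ) (hqE : Coh.IsQCoh S.X₂) (hE : FlatMod.IsFinLocFreeOfRank (n + 1) S.X₂) (hqF : Coh.IsQCoh S.X₃) (hF : FlatMod.IsFinLocFreeOfRank n S.X₃) (AE : RelSpec.QCAlg X) (jE : S.X₂ ⟶ AE.toModule) (hAE : RelSpec.IsSymAlg S.X₂ AE jE) (A1 : RelSpec.QCAlg X) (j1 : Coh.structureModule X ⟶ A1.toModule) (hA1 : RelSpec.IsSymAlg (Coh.structureModule X) A1 j1) (ψ : A1 ⟶ AE) (hψ : j1 ≫ RelSpec.QCAlg.Hom.toModuleMap ψ = e.inv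 ≫ S.f ≫ jE) (u : Coh.structureModule X ⟶ (RelSpec.QCAlg.unit X).toModule) [IsIso u] (ε : A1 ⟶ RelSpec.QCAlg.unit X) (hε : j1 ≫ RelSpec.QCAlg.Hom.toModuleMap ε = u) (δB : ↥(pullback (RelSpec.QCAlg.specMap ψ) (RelSpec.QCAlg.specMap ε)) → ℤ) (hBs : Cyc.IsSetup (pullback (RelSpec.QCAlg.specMap ψ) (RelSpec.QCAlg.specMap ε)) δB) (hδB : Cyc.DeltaCompat (pullback.fst (RelSpec.QCAlg.specMap ψ) (RelSpec.QCAlg.specMap ε) ≫ AE.π) δB δ) (k : ℤ) (α : AlgebraicCycle X ℤ) (hα : α ∈ Cyc.Zk X δ k) (γ : AlgebraicCycle (pullback (RelSpec.QCAlg.specMap ψ) (RelSpec.QCAlg.specMap ε)) ℤ) (hγ : ⇑γ = Cyc.pullFun (pullback.fst (RelSpec.QCAlg.specMap ψ) (RelSpec.QCAlg.specMap ε) ≫ AE.π) δB δ n ⇑α) (h0 : Cyc.RatEquivZero δB (k + n) γ) : Cyc.RatEquivZero δ k α := by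
  classical
  haveI := hX.1
  let σ : Coh.structureModule X ⟶ S.X₂ := e.inv ≫ S.f
  obtain ⟨Q, q, O1, i, φ, hB, hi, hiq, hφ, hz⟩ :=
    AffComp.exists_completion hqE hE hAE hA1 σ ψ (by rw [Category.assoc]; exact hψ) u ε hε
  haveI := hi
  haveI := hφ
  haveI := hB.isProper
  haveI := hB.flat
  obtain ⟨δQ, hδQ⟩ := SpFun.exists_deltaCompat q δ
  have hQ := isSetup_of_locallyOfFiniteType q hX hδQ
  obtain rfl : δB = fun w => δQ (i w) := by
    refine OpenSupp.deltaCompat_unique _ hδB ?_
    rw [← hiq]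
    exact BCPush.deltaCompat_comp i q (Reduction.deltaCompat_immersion i δQ) hδQ
  have hdq : FlatRat.MaxDim q δQ δ (n : ℤ) := PBPush.maxDim hB hδQ
  have hdc : FlatRat.MaxDim (i ≫ q) (fun w => δQ (i w)) δ (0 + (n : ℤ)) :=
    add_comm (n : ℤ) 0 ▸ FlatRat.maxDim_comp i q (OpenSupp.maxDim_immersion i δQ) hdq
  haveI := hBs.1
  haveI := hQ.1
  let a : Tot.T X δ := Pi.single k (ChowOps.cl α hα)
  have h0' : Tot.Pull i hBs hQ (OpenSupp.maxDim_immersion i δQ) (Tot.Pull q hQ hX hdq a) = 0 := by
    rw [Tot.Pull_Pull i hBs hQ (OpenSupp.maxDim_immersion i δQ) q hX hdq hdc]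
    funext l
    obtain ⟨m, rfl⟩ : ∃ m, l = m + (0 + (n : ℤ)) := ⟨l - n, by ring⟩
    rw [Tot.Pull_apply (i ≫ q) hBs hX hdc a rfl]
    by_cases hm : m = k
    · subst hm
      obtain ⟨β, hβf, hβ⟩ := C1Api.exists_pullFun_cycle (i ≫ q) hBs hX hdc m α hα
      rw [show a m = ChowOps.cl α hα from Tot.single_apply _ _, Chow.pull_cl (i ≫ q) hBs hX hdc rfl α hα β hβ hβf]
      refine (Chow.cl_eq_zero_iff hβ).mpr ?_
      have e1 : β = γ := DFunLike.coe_injective (hβf.trans (by rw [hiq, zero_add, hγ]))
      rw [e1, zero_add]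
      exact h0
    · rw [show a m = 0 from Pi.single_eq_of_ne hm _, map_zero]
      rfl
  have hS' : ∀ l, Filt.Supp (Set.range i)ᶜ (Tot.Pull q hQ hX hdq a l) :=
    fun l => OpenSupp.supp_of_pull_eq_zero hQ i hBs _ h0' l
  obtain ⟨Y, π, δY, hY, hπ, hprop, hflat, d, hrel, hd, hinj, hsp⟩ :=
    SplitChern.exists_setting hX 1 (fun _ => S.X₃) (fun _ => n) fun _ => hF
  obtain ⟨ls, hls, hlen⟩ := hsp 0
  let g := pullback.fst q π
  let q' := pullback.snd q π
  have hsq : IsPullback g q' q π := IsPullback.of_hasPullback q π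
  have hB' := hB.baseChange hsq
  haveI : Flat g := MorphismProperty.pullback_fst _ _ inferInstance
  haveI := hB'.isProper
  haveI := hB'.flat
  obtain ⟨δQ', hq'⟩ := SpFun.exists_deltaCompat q' δY
  have hQ' := isSetup_of_locallyOfFiniteType q' hY hq'
  haveI : IsProper g := MorphismProperty.pullback_fst _ _ inferInstance
  have hg : Cyc.DeltaCompat g δQ' δQ := BCPush.deltaCompat_cancel _ q hδQ (by
    rw [hsq.w]; exact BCPush.deltaCompat_comp _ π hq' hπ)
  have hdg : FlatRat.MaxDim g δQ' δQ (d : ℤ) :=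
    FlatRat.maxDim_of_hasRelDim _ (hasRelDim_of_isPullback hsq.flip hrel) hg
  let b := Tot.Pull π hY hX hd a
  have hswap : Tot.Pull g hQ' hQ hdg (Tot.Pull q hQ hX hdq a) = ChernTot.pl hB' hY hQ' hq' b := by
    have h1 : FlatRat.MaxDim (g ≫ q) δQ' δ ((d : ℤ) + n) := add_comm (n : ℤ) (d : ℤ) ▸ FlatRat.maxDim_comp g q hdg hdq
    have h2 : FlatRat.MaxDim (q' ≫ π) δQ' δ ((n : ℤ) + d) := add_comm (d : ℤ) (n : ℤ) ▸ FlatRat.maxDim_comp q' π (PBPush.maxDim hB' hq') hd
    show _ = Tot.Pull q' hQ' hY (PBPush.maxDim hB' hq') (Tot.Pull π hY hX hd a)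
    rw [Tot.Pull_Pull g hQ' hQ hdg q hX hdq h1, Tot.Pull_Pull q' hQ' hY _ π hX hd h2]
    have key : ∀ (φ ψ : pullback q π ⟶ X) (_ : Flat φ) (_ : Flat ψ) (c e : ℤ) (hc : FlatRat.MaxDim φ δQ' δ c)
        (he : FlatRat.MaxDim ψ δQ' δ e), φ = ψ → c = e → Tot.Pull φ hQ' hX hc a = Tot.Pull ψ hQ' hX he a := by
      rintro φ ψ _ _ c e hc he rfl rfl
      rfl
    exact key _ _ inferInstance inferInstance _ _ h1 h2 hsq.w (add_comm _ _)
  have hF' : Filt.Filt ((Scheme.Modules.pullback g).obj ((Scheme.Modules.pullback q).obj S.X₃))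
      (ls.map (Scheme.Modules.pullback q').obj) :=
    (hls.toFilt.pullback q').of_iso ((Scheme.Modules.pullbackComp q' π).app S.X₃ ≪≫
      (Scheme.Modules.pullbackCongr hsq.w.symm).app S.X₃ ≪≫ ((Scheme.Modules.pullbackComp g q).app S.X₃).symm)
  let T : Set ↥(pullback q π) := g ⁻¹' (Set.range i)ᶜ
  have hT : ∀ {ξ x : ↥(pullback q π)}, ξ ⤳ x → ξ ∈ T → x ∈ T := fun h hξ =>
    h.mem_closed (i.isOpenEmbedding.isOpen_range.isClosed_compl.preimage g.continuous) hξ
  let pb := Scheme.Modules.pullback g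
  let pq := Scheme.Modules.pullback q
  haveI := (Scheme.Modules.pullbackPushforwardAdjunction g).isLeftAdjoint
  haveI := (Scheme.Modules.pullbackPushforwardAdjunction q).isLeftAdjoint
  haveI := hS.epi_g
  haveI : (Scheme.Modules.pullback g).Additive :=
    (Scheme.Modules.pullbackPushforwardAdjunction g).left_adjoint_additive
  haveI : (Scheme.Modules.pullback q).Additive :=
    (Scheme.Modules.pullbackPushforwardAdjunction q).left_adjoint_additive
  haveI : PreservesColimitsOfSize.{u, u} (pq ⋙ pb) :=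
    ((Scheme.Modules.pullbackPushforwardAdjunction q).comp
      (Scheme.Modules.pullbackPushforwardAdjunction g)).leftAdjoint_preservesColimits
  haveI : PreservesFiniteColimits (pq ⋙ pb) := PreservesColimitsOfSize.preservesFiniteColimits.{u, u} _
  have hexS := hS.exact.map_of_epi_of_preservesCokernel (pq ⋙ pb) hS.epi_g inferInstance
  have hker : ∀ x ∈ T, ∀ v, Filt.fmap (pb.map (pq.map S.g)) x v = 0 → Filt.fmap (pb.map φ) x v = 0 := by
    intro x hx v hv
    refine Filt.fmap_eq_zero_of_exact hexS (inferInstanceAs (Epi (pb.map (pq.map S.g)))) (pb.map φ) x ?_ v hv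
    show x ∈ Filt.zeroSet (pb.map (pq.map S.f) ≫ pb.map φ)
    have h1 : g x ∈ Filt.zeroSet (pq.map σ ≫ φ) := hz hx
    have h2 := QuotSupp.zeroSet_pullback g (H11Ample.isInvertible_pullback q H11Ample.isInvertible_structureModule)
      (pq.map σ ≫ φ) h1
    intro w
    have hf : pb.map (pq.map S.f) ≫ pb.map φ = pb.map (pq.map e.hom) ≫ pb.map (pq.map σ ≫ φ) := by
      rw [← Functor.map_comp, ← Functor.map_comp, ← Category.assoc, ← Functor.map_comp]
      simp [σ]
    rw [hf, Filt.fmap_comp]
    exact h2 _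
  have hfin := QuotSupp.supp_prod hQ' hF' hB'.invertible (S := T) hT
    (Tot.Pull g hQ' hQ hdg (Tot.Pull q hQ hX hdq a)) (fun l => OpenSupp.supp_pull g hQ hQ' hdg hS' l)
    (pb.map (pq.map S.g)) (pb.map φ) hker
  have hempty : T ∩ Filt.zeroSet (pb.map φ) = ∅ := by
    rw [Filt.zeroSet_eq_empty_of_epi (pb.map φ) hB'.invertible, Set.inter_empty]
  have hvan : ((ls.map (Scheme.Modules.pullback q').obj).map fun L =>
      Filt.cc hQ' ((Scheme.Modules.pullback g).obj O1) - Filt.cc hQ' L).prod (ChernTot.pl hB' hY hQ' hq' b) = 0 := by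
    rw [← hswap]
    exact funext fun l => Filt.supp_empty (hempty ▸ hfin l)
  have main : ∀ (l : List Y.Modules) (_ : ∀ L ∈ l, PicF.IsInvertible L) (s : ℕ),
      (s + l.length < n → Tot.Push q' hQ' hY hq' ((ChernTot.zeta hB' hQ' ^ s)
        (((l.map (Scheme.Modules.pullback q').obj).map fun L =>
          Filt.cc hQ' ((Scheme.Modules.pullback g).obj O1) - Filt.cc hQ' L).prod
          (ChernTot.pl hB' hY hQ' hq' b))) = 0) ∧
      (s + l.length = n → Tot.Push q' hQ' hY hq' ((ChernTot.zeta hB' hQ' ^ s)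
        (((l.map (Scheme.Modules.pullback q').obj).map fun L =>
          Filt.cc hQ' ((Scheme.Modules.pullback g).obj O1) - Filt.cc hQ' L).prod
          (ChernTot.pl hB' hY hQ' hq' b))) = b) := by
    intro l hl
    induction l with
    | nil =>
      intro s
      refine ⟨fun h => ?_, fun h => ?_⟩
      · exact ChernTot.push_zeta_lt hB' hY hQ' hq' (by simpa using h) b
      · obtain rfl : s = n := by simpa using h
        exact ChernTot.push_zeta_eq hB' hY hQ' hq' b
    | cons L l ih =>
      intro s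
      have hL := hl L List.mem_cons_self
      have ih' := ih fun N hN => hl N (List.mem_cons_of_mem _ hN)
      set c := (((l.map (Scheme.Modules.pullback q').obj).map fun L =>
        Filt.cc hQ' ((Scheme.Modules.pullback g).obj O1) - Filt.cc hQ' L).prod) (ChernTot.pl hB' hY hQ' hq' b) with hc
      have e : Tot.Push q' hQ' hY hq' ((ChernTot.zeta hB' hQ' ^ s)
          ((((L :: l).map (Scheme.Modules.pullback q').obj).map fun L =>
            Filt.cc hQ' ((Scheme.Modules.pullback g).obj O1) - Filt.cc hQ' L).prod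
            (ChernTot.pl hB' hY hQ' hq' b))) =
          Tot.Push q' hQ' hY hq' ((ChernTot.zeta hB' hQ' ^ (s + 1)) c) -
            Tot.C1 hY hL (Tot.Push q' hQ' hY hq' ((ChernTot.zeta hB' hQ' ^ s) c)) := by
        have hLq := H11Ample.isInvertible_pullback q' hL
        rw [List.map_cons, List.map_cons, List.prod_cons]
        show Tot.Push q' hQ' hY hq' ((ChernTot.zeta hB' hQ' ^ s)
          (Filt.cc hQ' ((Scheme.Modules.pullback g).obj O1) c - Filt.cc hQ' ((Scheme.Modules.pullback q').obj L) c)) = _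
        rw [map_sub, map_sub, ← Tot.Push_C1 q' hQ' hY hq' hL hLq, pow_succ, Filt.cc_eq hQ' hB'.invertible,
          Filt.cc_eq hQ' hLq]
        have hcomm : Commute (ChernTot.zeta hB' hQ' ^ s) (Tot.C1 hQ' hLq) :=
          Commute.pow_left (Tot.C1_comm hQ' hB'.invertible hLq) s
        exact congrArg₂ (fun x y => Tot.Push q' hQ' hY hq' x - Tot.Push q' hQ' hY hq' y) rfl
          (DFunLike.congr_fun hcomm.eq c)
      rw [e]
      refine ⟨fun h => ?_, fun h => ?_⟩
      · rw [(ih' (s + 1)).1 (by simp at h; omega), (ih' s).1 (by simp at h; omega), map_zero, sub_zero]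
      · rw [(ih' (s + 1)).2 (by simp at h; omega), (ih' s).1 (by simp at h; omega), map_zero, sub_zero]
  have hb : b = 0 := by
    rw [← (main ls hls.toFilt.invertible 0).2 (by simp [hlen]), hvan, map_zero, map_zero]
  have ha : a = 0 := hinj (hb.trans (map_zero _).symm)
  exact (Chow.cl_eq_zero_iff hα).mp ((Tot.single_apply k _).symm.trans (congrFun ha k))

end Groth.Agent.S18401
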