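import Groth.Statements.S18403
import Groth.Agent.H25Cubic.Hesse

set_option autoImplicit false
universe u
open Cubic

namespace Groth.Agent.S18403

open MvPolynomial in
/-- Let f be a nonzero homogeneous cubic in three variables over ℂ whose plane curve is smooth (at every
nonzero zero of f some partial derivative of f is nonzero). Then f is projectively equivalent to a
Hesse cubic: there are an invertible matrix A, a constant c ≠ 0 and a parameter k with k³ ≠ 1 such
that the linear substitution X_i ↦ Σ_j A_ij X_j carries f to c · (X₀³ + X₁³ + X₂³ − 3k·X₀X₁X₂). -/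
theorem result (f : MvPolynomial (Fin 3) ℂ) (hf : f.IsHomogeneous 3)
    (hf0 : f ≠ 0) (hsm : ∀ v : Fin 3 → ℂ, v ≠ 0 → eval v f = 0 → ∃ i : Fin 3, eval v (pderiv i f) ≠ 0) :
    ∃ (A : Matrix (Fin 3) (Fin 3) ℂ) (k c : ℂ), IsUnit A.det ∧ k ^ 3 ≠ 1 ∧ c ≠ 0 ∧
      aeval (fun i : Fin 3 => ∑ j : Fin 3, C (A i j) * X j) f = C c * HesseCubic.form k := by
  exact Groth.Agent.H25Cubic.exists_hesse hf hsm

end Groth.Agent.S18403
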