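import Groth.Statements.S18410
import Groth.Agent.H25Cubic.Eckardt

set_option autoImplicit false
universe u
open Cubic

namespace Groth.Agent.S18410

open MvPolynomial in
/-- Let f be a nonzero homogeneous cubic in four variables over ℂ whose surface S = V_+(f) ⊂ P³ is
smooth (at every nonzero zero of f some partial derivative is nonzero); a line on S is a
2-dimensional subspace of ℂ⁴ on which f vanishes, and an Eckardt point of S is a nonzero vector
lying on three distinct lines on S. Let e, e′ be non-proportional Eckardt points of S such that f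
vanishes on their span (the line joining them lies on S), and let A, A′ be their Eckardt
involutions: an involutory matrix A (A² = 1) whose +1-eigenspace is a hyperplane and with A·e = −e,
such that the substitution X_i ↦ Σ_j A_ij X_j multiplies f by a constant — that is, a projective
involution preserving S whose fixed locus is the disjoint union of a plane and the point of e, and
likewise A′ for e′. Then the two involutions commute as projective transformations (A·A′ is a scalar
multiple of A′·A) and each fixes the other point (A·e′ is proportional to e′ and A′·e to e). -/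
theorem result (f : MvPolynomial (Fin 4) ℂ) (hf : f.IsHomogeneous 3)
    (hf0 : f ≠ 0) (hsm : ∀ v : Fin 4 → ℂ, v ≠ 0 → eval v f = 0 → ∃ i : Fin 4, eval v (pderiv i f) ≠ 0)
    (e e' : Fin 4 → ℂ) (he : e ≠ 0) (he' : e' ∉ Submodule.span ℂ {e})
    (hE : (∃ U : Fin 3 → Submodule ℂ (Fin 4 → ℂ), Function.Injective U ∧
        ∀ i : Fin 3, Module.finrank ℂ ↥(U i) = 2 ∧ e ∈ U i ∧ ∀ u ∈ U i, eval u f = 0))
    (hE' : (∃ U : Fin 3 → Submodule ℂ (Fin 4 → ℂ), Function.Injective U ∧
        ∀ i : Fin 3, Module.finrank ℂ ↥(U i) = 2 ∧ e' ∈ U i ∧ ∀ u ∈ U i, eval u f = 0))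
    (hL : ∀ u ∈ Submodule.span ℂ {e, e'}, eval u f = 0)
    (A A' : Matrix (Fin 4) (Fin 4) ℂ)
    (hA : A * A = 1 ∧ Module.finrank ℂ ↥(LinearMap.ker (Matrix.toLin' A - LinearMap.id)) = 3 ∧
        A.mulVec e = -e ∧ ∃ c : ℂ, aeval (fun i : Fin 4 => ∑ j : Fin 4, C (A i j) * X j) f = C c * f)
    (hA' : A' * A' = 1 ∧ Module.finrank ℂ ↥(LinearMap.ker (Matrix.toLin' A' - LinearMap.id)) = 3 ∧
        A'.mulVec e' = -e' ∧ ∃ c : ℂ, aeval (fun i : Fin 4 => ∑ j : Fin 4, C (A' i j) * X j) f = C c * f) :
    (∃ c : ℂ, A * A' = c • (A' * A)) ∧ (∃ d : ℂ, A.mulVec e' = d • e') ∧ (∃ d : ℂ, A'.mulVec e = d • e) := by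
  exact Groth.Agent.H25Cubic.commute_of_subset hf hsm he he' hE hE' hf0 hL hA hA'

end Groth.Agent.S18410
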