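import Groth.Statements.S18411
import Groth.Agent.H25Cubic.Eckardt

set_option autoImplicit false
universe u
open Cubic

namespace Groth.Agent.S18411

open MvPolynomial in
/-- Let f be a nonzero homogeneous cubic in four variables over ℂ whose surface S = V_+(f) ⊂ P³ is
smooth (at every nonzero zero of f some partial derivative is nonzero); a line on S is a
2-dimensional subspace of ℂ⁴ on which f vanishes, and an Eckardt point of S is a nonzero vector
lying on three distinct lines on S. Let e, e′, e″ be pairwise non-proportional Eckardt points of S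
spanning a single plane L = span(e, e′) of ℂ⁴ on which f does not vanish identically (three
collinear Eckardt points whose line is not on S), and let A, A′, A″ be their Eckardt involutions: an
involutory matrix A (A² = 1) whose +1-eigenspace is a hyperplane and with A·e = −e, such that the
substitution X_i ↦ Σ_j A_ij X_j multiplies f by a constant — that is, a projective involution
preserving S whose fixed locus is the disjoint union of a plane and the point of e, and likewise for
e′ and e″. Then the three involutions generate, as projective transformations, a group isomorphic to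
the symmetric group on three letters: the product A·A′ is not a scalar matrix, its cube is, and A″
is a scalar multiple of A·A′·A. -/
theorem result (f : MvPolynomial (Fin 4) ℂ) (hf : f.IsHomogeneous 3)
    (hf0 : f ≠ 0) (hsm : ∀ v : Fin 4 → ℂ, v ≠ 0 → eval v f = 0 → ∃ i : Fin 4, eval v (pderiv i f) ≠ 0)
    (e e' e'' : Fin 4 → ℂ) (he : e ≠ 0) (he' : e' ∉ Submodule.span ℂ {e})
    (he''1 : e'' ∉ Submodule.span ℂ {e}) (he''2 : e'' ∉ Submodule.span ℂ {e'}) (he''L : e'' ∈ Submodule.span ℂ {e, e'})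
    (hE : (∃ U : Fin 3 → Submodule ℂ (Fin 4 → ℂ), Function.Injective U ∧
        ∀ i : Fin 3, Module.finrank ℂ ↥(U i) = 2 ∧ e ∈ U i ∧ ∀ u ∈ U i, eval u f = 0))
    (hE' : (∃ U : Fin 3 → Submodule ℂ (Fin 4 → ℂ), Function.Injective U ∧
        ∀ i : Fin 3, Module.finrank ℂ ↥(U i) = 2 ∧ e' ∈ U i ∧ ∀ u ∈ U i, eval u f = 0))
    (hE'' : (∃ U : Fin 3 → Submodule ℂ (Fin 4 → ℂ), Function.Injective U ∧
        ∀ i : Fin 3, Module.finrank ℂ ↥(U i) = 2 ∧ e'' ∈ U i ∧ ∀ u ∈ U i, eval u f = 0))
    (hL : ¬ ∀ u ∈ Submodule.span ℂ {e, e'}, eval u f = 0)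
    (A A' A'' : Matrix (Fin 4) (Fin 4) ℂ)
    (hA : A * A = 1 ∧ Module.finrank ℂ ↥(LinearMap.ker (Matrix.toLin' A - LinearMap.id)) = 3 ∧
        A.mulVec e = -e ∧ ∃ c : ℂ, aeval (fun i : Fin 4 => ∑ j : Fin 4, C (A i j) * X j) f = C c * f)
    (hA' : A' * A' = 1 ∧ Module.finrank ℂ ↥(LinearMap.ker (Matrix.toLin' A' - LinearMap.id)) = 3 ∧
        A'.mulVec e' = -e' ∧ ∃ c : ℂ, aeval (fun i : Fin 4 => ∑ j : Fin 4, C (A' i j) * X j) f = C c * f)
    (hA'' : A'' * A'' = 1 ∧ Module.finrank ℂ ↥(LinearMap.ker (Matrix.toLin' A'' - LinearMap.id)) = 3 ∧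
        A''.mulVec e'' = -e'' ∧ ∃ c : ℂ, aeval (fun i : Fin 4 => ∑ j : Fin 4, C (A'' i j) * X j) f = C c * f) :
    (¬ ∃ c : ℂ, A * A' = c • (1 : Matrix (Fin 4) (Fin 4) ℂ)) ∧ (∃ c : ℂ, (A * A') ^ 3 = c • (1 : Matrix (Fin 4) (Fin 4) ℂ)) ∧
      ∃ c : ℂ, A'' = c • (A * A' * A) := by
  exact Groth.Agent.H25Cubic.dihedral hf hsm he he' hE hE' hf0 hL he''1 he''2 he''L hE'' hA hA' hA''

end Groth.Agent.S18411
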