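import Groth.Statements.S18415
import Groth.Agent.H18Et.RootCover

set_option autoImplicit false
set_option backward.isDefEq.respectTransparency.types false
set_option backward.isDefEq.respectTransparency false
open scoped Groth.Agent.H18Et
universe u
open CategoryTheory AlgebraicGeometry
open EtCoh

namespace Groth.Agent.S18415

/-- Let p be a prime and X a scheme with p = 0 in Γ(X, O_X). Then the Artin–Schreier endomorphism x ↦
x^p − x of the additive group sheaf G_a on the small étale site of X is an epimorphism of abelian
étale sheaves (the right-hand exactness of 0 → Z/p → G_a → G_a → 0 on X_et). (The published example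
takes X a variety over a field of characteristic p; this row assumes only that p = 0 in Γ(X, O_X).) -/
theorem result
    (p : ℕ) (hp : p.Prime) {X : Scheme.{u}} (h0 : (p : Γ(X, ⊤)) = 0) :
    Epi (W4c5etcohweilstudent.artinSchreierEndo X p hp h0) := by
  have : CategoryTheory.Sheaf.IsLocallySurjective (W4c5etcohweilstudent.artinSchreierEndo X p hp h0) := by
    refine ⟨fun {U} s => Groth.Agent.H18Et.mem_topology_of_forall_point _ fun w => ?_⟩
    haveI : Nonempty U.left := ⟨w⟩
    haveI : Nontrivial Γ(U.left, ⊤) := (U.left.evaluation ⊤ w trivial).hom.domain_nontrivial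
    have hp0 := W4c5etcohweilstudent.natCast_eq_zero_etale p h0 U
    obtain ⟨a, rfl⟩ : ∃ a : Γ(U.left, ⊤), ULift.up a = s := ⟨ULift.down s, rfl⟩
    obtain ⟨V, g, v, t, hv, ht⟩ := Groth.Agent.H18Et.RootCover.exists_root_nbhd U w
      (Polynomial.X ^ p - (Polynomial.X + Polynomial.C a))
      (Polynomial.monic_X_pow_sub (by rw [Polynomial.degree_X_add_C]; exact_mod_cast hp.one_lt))
      ⟨0, -1, by simp [Polynomial.derivative_X_pow, hp0]⟩
      (by
        rw [Polynomial.natDegree_sub_eq_left_of_natDegree_lt] <;> simp [hp.pos, hp.one_lt])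
    refine ⟨V, g, v, ⟨ULift.up t, ?_⟩, hv⟩
    simp only [Polynomial.map_sub, Polynomial.map_pow, Polynomial.map_X, Polynomial.map_C,
      Polynomial.map_add, Polynomial.eval_sub, Polynomial.eval_add, Polynomial.eval_pow,
      Polynomial.eval_X, Polynomial.eval_C, sub_eq_zero] at ht
    refine congrArg ULift.up ?_
    change t ^ p - t = g.left.appTop.hom a
    rw [ht, add_sub_cancel_left]
  exact Sheaf.epi_of_isLocallySurjective _

end Groth.Agent.S18415
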