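import Groth.Statements.S18418
import Groth.Agent.H27FonLaf.Main
import Mathlib

set_option autoImplicit false
universe u v
open FonLaf

namespace Groth.Agent.S18418

/-- Let k be a perfect field of characteristic p and W = W(k) its ring of Witt vectors with Frobenius σ.
Fix r and W-modules of finite length N_0 = M, N_1, N_2, … with W-linear maps α_i : N_{i+1} → N_i and
σ-semilinear maps φ_i : N_i → M such that φ_i ∘ α_i = p φ_{i+1} for all i < r. Let ι be the map
sending (x_1, …, x_r) ∈ N_1 ⊕ ⋯ ⊕ N_r to (α_0 x_1, α_1 x_2 − p x_1, …, α_{r−1} x_r − p x_{r−1}, −p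
x_r) ∈ N_0 ⊕ ⋯ ⊕ N_r, and Φ the map N_0 ⊕ ⋯ ⊕ N_r → M, (y_i) ↦ Σ_i φ_i(y_i). Suppose that Φ is
surjective and that its kernel is contained in the image of ι (with the displayed relation this says
that Φ induces a σ-semilinear bijection from the cokernel of ι onto M). Then for every i < r the map
α_i is injective and its image is a direct summand of N_i (so the N_i form a filtration of M by
direct summands, the data of a Fontaine–Laffaille module). Families are indexed by all natural
numbers; only the indices ≤ r enter. -/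
theorem result (p : ℕ) [Fact p.Prime]
    (k : Type u) [Field k] [CharP k p] [PerfectRing k p] (r : ℕ)
    (N : ℕ → Type v) [∀ i, AddCommGroup (N i)] [∀ i, Module (WittVector p k) (N i)]
    (hfl : ∀ i, IsFiniteLength (WittVector p k) (N i))
    (α : ∀ i, N (i + 1) →ₗ[WittVector p k] N i)
    (φ : ∀ i, N i →ₛₗ[(WittVector.frobenius : WittVector p k →+* WittVector p k)] N 0)
    (hφ : ∀ i, i < r → ∀ y : N (i + 1), φ i (α i y) = (p : WittVector p k) • φ (i + 1) y)
    (hsurj : ∀ m : N 0, ∃ y : (i : ℕ) → N i, (∀ i, r < i → y i = 0) ∧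
      (Finset.range (r + 1)).sum (fun i => φ i (y i)) = m)
    (hker : ∀ y : (i : ℕ) → N i, (∀ i, r < i → y i = 0) →
      (Finset.range (r + 1)).sum (fun i => φ i (y i)) = 0 →
        ∃ z : (i : ℕ) → N (i + 1), (∀ i, r ≤ i → z i = 0) ∧
          y 0 = α 0 (z 0) ∧ ∀ i, y (i + 1) = α (i + 1) (z (i + 1)) - (p : WittVector p k) • z i)
    (i : ℕ) (hi : i < r) :
    Function.Injective (α i) ∧
      ∃ Q : Submodule (WittVector p k) (N i), IsCompl (LinearMap.range (α i)) Q := by
  exact Groth.Agent.H27FonLaf.main p k r N hfl α φ hφ hsurj hker i hi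

end Groth.Agent.S18418
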