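import Groth.Statements.S18419
import Groth.Agent.H27DPForms.Main

set_option autoImplicit false
universe u v
open DPow

namespace Groth.Agent.S18419

open exteriorPower in
/-- Let R be a ring and (B, J, δ) a divided power ring with B an R-algebra, and let P = B⟨X_1, …, X_n⟩
be the divided power polynomial algebra over it: a divided power ring (P, J_P, δ_P) with a B-algebra
structure making B → P a divided power morphism and elements X_i ∈ J_P, universal among divided
power rings (C, K, ε) receiving a divided power morphism from (B, J, δ) together with chosen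
elements k_i ∈ K. Let z : P → B be the B-algebra retraction sending each X_i to 0 that is a divided
power morphism (it kills all X_i^[m], m ≥ 1). Form the divided power Kähler differentials on both
sides — Ω_{P/R} modulo the P-submodule generated by the d(δ_P^{[m+1]}x) − δ_P^{[m]}x·dx (x ∈ J_P, m
≥ 0), and likewise Ω_{B/R} modulo the relations from (J, δ) — with their induced derivations, let
d_P and d_B be de Rham differentials on the exterior powers of these receptacles and ψ the map of de
Rham complexes induced by z, compatible with d_P and d_B. Then ψ is a quasi-isomorphism: in every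
degree i, every closed i-form on the B side is, up to an exact form, the image of a closed i-form on
the P side, and a closed i-form on the P side whose image is exact is itself exact. (The source
states more: the map is a filtered homotopy equivalence for the divided power Hodge filtrations;
only the quasi-isomorphism is stated here.) -/
theorem result (R : Type v) [CommRing R]
    (B : Type u) [CommRing B] [Algebra R B] (J : Ideal B) (δ : DividedPowers J) (n : ℕ)
    (P : Type u) [CommRing P] [Algebra B P] [Algebra R P] [IsScalarTower R B P]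
    (JP : Ideal P) (δP : DividedPowers JP) (X : Fin n → P) (hX : ∀ i, X i ∈ JP)
    (hmor : δ.IsDPMorphism δP (algebraMap B P))
    (huniv : ∀ (C : Type u) [CommRing C] [Algebra B C] (K : Ideal C) (ε : DividedPowers K),
      δ.IsDPMorphism ε (algebraMap B C) → ∀ k : Fin n → C, (∀ i, k i ∈ K) →
        ∃! φ : P →ₐ[B] C, (∀ i, φ (X i) = k i) ∧ δP.IsDPMorphism ε φ.toRingHom)
    (z : P →ₐ[B] B) (hz : ∀ i, z (X i) = 0) (hzmor : δP.IsDPMorphism δ z.toRingHom)
    (NP : Submodule P (Ω[P⁄R]))
    (hNP : NP = Submodule.span P {ω : Ω[P⁄R] | ∃ x ∈ JP, ∃ m : ℕ,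
      ω = KaehlerDifferential.D R P (δP.dpow (m + 1) x) - δP.dpow m x • KaehlerDifferential.D R P x})
    (NB : Submodule B (Ω[B⁄R]))
    (hNB : NB = Submodule.span B {ω : Ω[B⁄R] | ∃ x ∈ J, ∃ m : ℕ,
      ω = KaehlerDifferential.D R B (δ.dpow (m + 1) x) - δ.dpow m x • KaehlerDifferential.D R B x})
    (dP : ∀ p : ℕ, ↥(⋀[P]^p (Ω[P⁄R] ⧸ NP)) →ₗ[R] ↥(⋀[P]^(p + 1) (Ω[P⁄R] ⧸ NP)))
    (hdP : DeRham.IsDiff (NP.mkQ.compDer (KaehlerDifferential.D R P)) dP)
    (dB : ∀ p : ℕ, ↥(⋀[B]^p (Ω[B⁄R] ⧸ NB)) →ₗ[R] ↥(⋀[B]^(p + 1) (Ω[B⁄R] ⧸ NB)))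
    (hdB : DeRham.IsDiff (NB.mkQ.compDer (KaehlerDifferential.D R B)) dB)
    (ψ : ∀ p : ℕ, ↥(⋀[P]^p (Ω[P⁄R] ⧸ NP)) →+ ↥(⋀[B]^p (Ω[B⁄R] ⧸ NB)))
    (hψ : DeRham.IsCxMap (NP.mkQ.compDer (KaehlerDifferential.D R P))
      (NB.mkQ.compDer (KaehlerDifferential.D R B)) z.toRingHom ψ)
    (hψd : ∀ (p : ℕ) (x : ↥(⋀[P]^p (Ω[P⁄R] ⧸ NP))), ψ (p + 1) (dP p x) = dB p (ψ p x)) (i : ℕ) :
    (∀ c ∈ DeRham.cocycles dB i, ∃ c' ∈ DeRham.cocycles dP i, ψ i c' - c ∈ DeRham.coboundaries dB i) ∧
      (∀ c' ∈ DeRham.cocycles dP i, ψ i c' ∈ DeRham.coboundaries dB i → c' ∈ DeRham.coboundaries dP i) := by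
  classical
  have hB : ∀ x ∈ J, ∀ m : ℕ, (NB.mkQ.compDer (KaehlerDifferential.D R B)) (δ.dpow (m + 1) x) =
      δ.dpow m x • (NB.mkQ.compDer (KaehlerDifferential.D R B)) x := fun x hx m => by
    show NB.mkQ (KaehlerDifferential.D R B (δ.dpow (m + 1) x)) = δ.dpow m x • NB.mkQ (KaehlerDifferential.D R B x)
    rw [← map_smul, ← sub_eq_zero, ← map_sub, Submodule.mkQ_apply, Submodule.Quotient.mk_eq_zero, hNB]
    exact Submodule.subset_span ⟨x, hx, m, rfl⟩
  have hP : ∀ x ∈ JP, ∀ m : ℕ, (NP.mkQ.compDer (KaehlerDifferential.D R P)) (δP.dpow (m + 1) x) =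
      δP.dpow m x • (NP.mkQ.compDer (KaehlerDifferential.D R P)) x := fun x hx m => by
    show NP.mkQ (KaehlerDifferential.D R P (δP.dpow (m + 1) x)) = δP.dpow m x • NP.mkQ (KaehlerDifferential.D R P x)
    rw [← map_smul, ← sub_eq_zero, ← map_sub, Submodule.mkQ_apply, Submodule.Quotient.mk_eq_zero, hNP]
    exact Submodule.subset_span ⟨x, hx, m, rfl⟩
  have hgenB : Submodule.span B (Set.range (NB.mkQ.compDer (KaehlerDifferential.D R B))) = ⊤ := by
    rw [show Set.range (NB.mkQ.compDer (KaehlerDifferential.D R B)) =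
        NB.mkQ '' Set.range (KaehlerDifferential.D R B) from Set.range_comp NB.mkQ (KaehlerDifferential.D R B), Submodule.span_image,
      KaehlerDifferential.span_range_derivation, Submodule.map_top, Submodule.range_mkQ]
  have hgenP : Submodule.span P (Set.range (NP.mkQ.compDer (KaehlerDifferential.D R P))) = ⊤ := by
    rw [show Set.range (NP.mkQ.compDer (KaehlerDifferential.D R P)) =
        NP.mkQ '' Set.range (KaehlerDifferential.D R P) from Set.range_comp NP.mkQ (KaehlerDifferential.D R P), Submodule.span_image,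
      KaehlerDifferential.span_range_derivation, Submodule.map_top, Submodule.range_mkQ]
  have hle : NB ≤ LinearMap.ker ((NP.mkQ.restrictScalars B).comp (KaehlerDifferential.map R R B P)) := by
    rw [hNB, Submodule.span_le]
    rintro _ ⟨x, hx, m, rfl⟩
    rw [SetLike.mem_coe, LinearMap.mem_ker, map_sub, map_smul, LinearMap.comp_apply, LinearMap.comp_apply,
      KaehlerDifferential.map_D, KaehlerDifferential.map_D, ← hmor.2 x hx, sub_eq_zero, ← algebraMap_smul P,
      ← hmor.2 x hx]
    exact hP _ (hmor.1 (Ideal.mem_map_of_mem _ hx)) m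
  refine Groth.Agent.H27DPForms.quasiIso (δ := δ) hX hmor huniv z hz hzmor _ hgenB hB _ hgenP hP ?_
    (NB.liftQ _ hle) (fun c => ?_) dP hdP dB hdB ψ hψ i
  · intro N _ _ _ _ D hD
    have h : NP ≤ LinearMap.ker D.liftKaehlerDifferential := by
      rw [hNP, Submodule.span_le]
      rintro _ ⟨x, hx, m, rfl⟩
      rw [SetLike.mem_coe, LinearMap.mem_ker, map_sub, map_smul, Derivation.liftKaehlerDifferential_comp_D,
        Derivation.liftKaehlerDifferential_comp_D, hD x hx m, sub_self]
    exact ⟨NP.liftQ _ h, fun p => Derivation.liftKaehlerDifferential_comp_D D p⟩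
  · show NP.mkQ (KaehlerDifferential.map R R B P (KaehlerDifferential.D R B c)) = _
    rw [KaehlerDifferential.map_D]
    rfl

end Groth.Agent.S18419
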