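import Groth.Statements.S1842
import Groth.Agent.H25AbCube.Degree

set_option autoImplicit false
set_option maxHeartbeats 1000000
set_option synthInstance.maxHeartbeats 100000
set_option linter.style.haveILetI false
set_option backward.isDefEq.respectTransparency false
universe u v
open CategoryTheory MonoidalCategory CartesianMonoidalCategory MonObj GrpObj AlgebraicGeometry
open GrpSch

namespace Groth.Agent.S1842

/-- Let A be an abelian variety of dimension g over a field (a proper, geometrically integral group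
scheme) and d a nonzero integer. Multiplication by d (the d-th power of the identity in the group
Hom(A, A)) is finite and flat, and its rank function is constant with value d^(2g). (The source
writes no hypothesis on d; d = 0 is excluded here since the constant map is not finite in positive
dimension.) -/
theorem result (K : Type u) [Field K] (A : Over (Spec (CommRingCat.of K))) [GrpObj A] [IsProper A.hom] [GeometricallyIntegral A.hom] (g : ℕ) (hg : topologicalKrullDim A.left = g) (d : ℤ) (hd : d ≠ 0) : IsFinite (𝟙 A ^ d).left ∧ Flat (𝟙 A ^ d).left ∧ ∀ a : A.left, Scheme.Hom.finrank (𝟙 A ^ d).left a = d.natAbs ^ (2 * g) := by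
  haveI : IsCommMonObj A := isCommMonObj_of_isProper_of_geometricallyIntegral A
  obtain ⟨n, hn, hd'⟩ : ∃ n : ℕ, n = d.natAbs ∧ (d = (n : ℤ) ∨ d = -(n : ℤ)) := ⟨_, rfl, d.natAbs_eq⟩
  have hn0 : 0 < n := by omega
  subst hn
  haveI := H25AbCube.isFinite_pow (A := A) hn0
  haveI := H25AbCube.flat_pow (A := A) hn0
  have hr := H25AbCube.finrank_pow (A := A) hn0 g hg
  obtain h | h := hd'
  · rw [show (𝟙 A ^ d : A ⟶ A) = (𝟙 A) ^ d.natAbs by rw [← zpow_natCast, ← h]]
    exact ⟨inferInstance, inferInstance, hr⟩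
  · have hinv : ((𝟙 A)⁻¹ : A ⟶ A) ≫ (𝟙 A)⁻¹ = 𝟙 A := by rw [GrpObj.comp_inv, Category.comp_id, _root_.inv_inv]
    haveI : IsIso ((𝟙 A)⁻¹ : A ⟶ A) := ⟨(𝟙 A)⁻¹, hinv, hinv⟩
    haveI : IsIso ((𝟙 A)⁻¹ : A ⟶ A).left := inferInstanceAs (IsIso ((Over.forget _).map ((𝟙 A)⁻¹ : A ⟶ A)))
    have e : (𝟙 A ^ d : A ⟶ A).left = ((𝟙 A)⁻¹ : A ⟶ A).left ≫ ((𝟙 A) ^ d.natAbs : A ⟶ A).left := by
      rw [← Over.comp_left, MonObj.comp_pow, Category.comp_id, inv_pow, ← zpow_natCast, ← zpow_neg, ← h]
    rw [e]
    exact ⟨inferInstance, inferInstance, fun a => by rw [Scheme.Hom.finrank_comp_left_of_isIso, hr]⟩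

end Groth.Agent.S1842
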