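import Groth.Statements.S18420
import Groth.Agent.H27DPow.Free

set_option autoImplicit false
universe u v
open DPow

namespace Groth.Agent.S18420

/-- Let R be a commutative ring and P = R⟨X_1, …, X_N⟩ the divided power polynomial algebra over R,
presented concretely as an R-algebra P with elements x i n = X_i^[n] (i < N, n ≥ 0) such that
X_i^[0] = 1, X_i^[n] · X_i^[m] = C(n+m, n) X_i^[n+m], and the monomials ∏_i X_i^[e_i] (e ranging
over exponent vectors) form an R-basis of P. Let P_+ be the ideal generated by the X_i^[n] with n ≥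
1 (the augmentation ideal). Then there is exactly one divided power structure γ on P_+ with
γ_n(X_i^[1]) = X_i^[n] for all i and all n. (The universal property that the source states alongside
is not restated here.) -/
theorem result (R : Type u) [CommRing R] (N : ℕ)
    (P : Type v) [CommRing P] [Algebra R P] (x : Fin N → ℕ → P)
    (hx0 : ∀ i, x i 0 = 1)
    (hxmul : ∀ i n m, x i n * x i m = ((n + m).choose n : P) * x i (n + m))
    (b : Module.Basis (Fin N →₀ ℕ) R P) (hb : ∀ e : Fin N →₀ ℕ, b e = e.prod (fun i k => x i k)) :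
    ∃! γ : DividedPowers (Ideal.span {y : P | ∃ (i : Fin N) (n : ℕ), 1 ≤ n ∧ y = x i n}),
      ∀ (i : Fin N) (n : ℕ), γ.dpow n (x i 1) = x i n := by
  obtain ⟨γ, hγ⟩ := Groth.Agent.H27DPow.exists_dividedPowers_augI hx0 hxmul b hb
  exact ⟨γ, hγ, fun γ' h' => Groth.Agent.H27DPow.augI_unique γ' γ h' hγ⟩

end Groth.Agent.S18420
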