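import Groth.Statements.S2195
import Groth.Agent.H06Unram.TraceForm
import Mathlib

set_option autoImplicit false
universe u v
open Disc

open Groth.Agent.H06Unram
namespace Groth.Agent.S2195

/-- Ring form of the statement: let B be an A-algebra which is finite free as an A-module with basis b.
Then A -> B is etale if and only if the discriminant of b (the determinant of the matrix of traces
Tr(b_i b_j)) is a unit of A, i.e. the discriminant locus is empty. -/
theorem result {A : Type u} {B : Type v} [CommRing A] [CommRing B]
    [Algebra A B] {ι : Type} [Fintype ι] [DecidableEq ι] (b : Module.Basis ι A B) :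
    Algebra.Etale A B ↔ IsUnit (Algebra.discr A b) := by
  haveI : Module.Finite A B := Module.Finite.of_basis b
  haveI : Small.{u} B := small_map b.equivFun.toEquiv
  let B' := Shrink.{u} B
  let e : B' ≃ₐ[A] B := Shrink.algEquiv A B
  let b' : Module.Basis ι A B' := b.map e.symm.toLinearEquiv
  haveI : Module.Finite A B' := Module.Finite.of_basis b'
  haveI : Module.Free A B' := Module.Free.of_basis b'
  have hd : Algebra.discr A b = Algebra.discr A b' := by
    rw [Algebra.discr_eq_discr_of_algEquiv (⇑b) e.symm]
    rfl
  have hB : Algebra.Etale A B ↔ Algebra.Etale A B' :=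
    ⟨fun _ => Algebra.Etale.of_equiv e.symm, fun _ => Algebra.Etale.of_equiv e⟩
  rw [hd, hB, etale_iff_bijective_traceForm, Algebra.discr_def]
  have hM : Algebra.traceMatrix A b' = LinearMap.toMatrix b' b'.dualBasis (Algebra.traceForm A B') := by
    ext i j
    rw [LinearMap.toMatrix_apply, Module.Basis.dualBasis_repr]
    show Algebra.traceForm A B' (b' i) (b' j) = Algebra.traceForm A B' (b' j) (b' i)
    simp only [Algebra.traceForm_apply, mul_comm]
  rw [hM]
  exact ⟨fun h => LinearEquiv.isUnit_det (LinearEquiv.ofBijective _ h) b' b'.dualBasis,
    fun h => (LinearEquiv.ofIsUnitDet h).bijective⟩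

end Groth.Agent.S2195
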