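import Groth.Statements.S18423
import Groth.Agent.S2195
import Mathlib.RingTheory.Ideal.KrullsHeightTheorem
import Mathlib.RingTheory.Etale.Locus
import Mathlib.RingTheory.TensorProduct.Free
import Mathlib.RingTheory.LocalRing.Module

set_option autoImplicit false
universe u v
open Pi1

namespace Groth.Agent.S18423

/-- Let A be a Noetherian local ring of Krull dimension at least 2 and B a finite flat commutative
A-algebra. If B is etale over A at every prime of B lying over a non-maximal prime of A (that is,
Spec B is etale over the punctured spectrum of A), then B is etale over A. -/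
theorem result (A : Type u) (B : Type v) [CommRing A] [CommRing B]
    [Algebra A B] [IsNoetherianRing A] [IsLocalRing A] (hdim : (2 : WithBot ℕ∞) ≤ ringKrullDim A)
    [Module.Finite A B] [Module.Flat A B]
    (h : ∀ q : PrimeSpectrum B, q.asIdeal.comap (algebraMap A B) ≠ IsLocalRing.maximalIdeal A →
      Algebra.IsEtaleAt A q.asIdeal) :
    Algebra.Etale A B := by
  haveI : Module.Free A B := Module.free_of_flat_of_isLocalRing
  let b := Module.finBasis A B
  rw [Groth.Agent.S2195.result b]
  by_contra hd
  obtain ⟨p, hp⟩ := Ideal.nonempty_minimalPrimes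
    (show Ideal.span {Algebra.discr A b} ≠ ⊤ by rwa [Ne, Ideal.span_singleton_eq_top])
  haveI := hp.1.1
  have hpd : Algebra.discr A b ∈ p := hp.1.2 (Ideal.mem_span_singleton_self _)
  have hh : p.height ≤ 1 := Ideal.height_le_one_of_isPrincipal_of_mem_minimalPrimes _ p hp
  have hpm : p ≠ IsLocalRing.maximalIdeal A := by
    rintro rfl
    rw [← IsLocalRing.maximalIdeal_height_eq_ringKrullDim] at hdim
    exact absurd ((WithBot.coe_le_coe.1 hdim).trans hh) (by decide)
  obtain ⟨s, hsm, hsp⟩ : ∃ s, s ∈ IsLocalRing.maximalIdeal A ∧ s ∉ p := by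
    by_contra hc
    push Not at hc
    exact hpm (le_antisymm (IsLocalRing.le_maximalIdeal (Ideal.IsPrime.ne_top inferInstance)) hc)
  haveI : Algebra.FiniteType A B := inferInstance
  haveI : Algebra.FinitePresentation A B := Algebra.FinitePresentation.of_finiteType.mp inferInstance
  haveI hE : Algebra.Etale A (Localization.Away (algebraMap A B s)) :=
    Algebra.basicOpen_subset_etaleLocus_iff_etale.1 fun q hq => h q fun hc => hq (by
      change s ∈ q.asIdeal.comap (algebraMap A B)
      rw [hc]
      exact hsm)
  -- the residue field at `p`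
  let K := p.ResidueField
  have hs0 : algebraMap A K s ≠ 0 := fun hc => hsp (Ideal.algebraMap_residueField_eq_zero.1 hc)
  let Bs := Localization.Away (algebraMap A B s)
  let e : TensorProduct A K B →ₐ[K] TensorProduct A K Bs :=
    Algebra.TensorProduct.map (AlgHom.id K K) (IsScalarTower.toAlgHom A B Bs)
  have hu : IsUnit ((Algebra.TensorProduct.includeRight : B →ₐ[A] TensorProduct A K B)
      (algebraMap A B s)) := by
    rw [AlgHom.commutes, IsScalarTower.algebraMap_apply A K]
    exact (isUnit_iff_ne_zero.2 hs0).map _
  let g : Bs →ₐ[A] TensorProduct A K B :=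
    IsLocalization.liftAlgHom (M := Submonoid.powers (algebraMap A B s)) (S := Bs)
      (f := (Algebra.TensorProduct.includeRight : B →ₐ[A] TensorProduct A K B)) (by
        rintro ⟨_, n, rfl⟩
        rw [map_pow]
        exact hu.pow n)
  have hg : ∀ x : B, g (algebraMap B Bs x) = 1 ⊗ₜ[A] x := fun x =>
    IsLocalization.lift_eq _ x
  let e' : TensorProduct A K Bs →ₐ[K] TensorProduct A K B :=
    Algebra.TensorProduct.lift (Algebra.ofId K _) g (fun _ _ => Commute.all _ _)
  have he : e'.comp e = AlgHom.id K _ := by
    refine Algebra.TensorProduct.ext (by ext) (AlgHom.ext fun x => ?_)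
    simp [e, e', hg]
  have he' : e.comp e' = AlgHom.id K _ := by
    refine Algebra.TensorProduct.ext (by ext)
      (IsLocalization.algHom_ext (Submonoid.powers (algebraMap A B s)) (AlgHom.ext fun x => ?_))
    change e (e' (1 ⊗ₜ[A] algebraMap B Bs x)) = 1 ⊗ₜ[A] algebraMap B Bs x
    simp only [e', Algebra.TensorProduct.lift_tmul, map_one, one_mul, hg]
    simp [e]
  haveI : Algebra.Etale K (TensorProduct A K B) :=
    Algebra.Etale.of_equiv (AlgEquiv.ofAlgHom e' e he he')
  let bK := Algebra.TensorProduct.basis K b
  have hdK : Algebra.discr K bK = algebraMap A K (Algebra.discr A b) := by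
    rw [Algebra.discr_def, Algebra.discr_def, RingHom.map_det]
    congr 1
    ext i j
    simp only [RingHom.mapMatrix_apply, Matrix.map_apply, Algebra.traceMatrix_apply,
      Algebra.traceForm_apply, bK, Algebra.TensorProduct.basis_apply,
      Algebra.TensorProduct.tmul_mul_tmul, mul_one, Algebra.trace_apply]
    rw [← LinearMap.trace_baseChange]
    congr 1
    refine TensorProduct.AlgebraTensorModule.ext fun c x => ?_
    simp
  have hK := (Groth.Agent.S2195.result bK).1 inferInstance
  rw [hdK, isUnit_iff_ne_zero] at hK
  exact hK (Ideal.algebraMap_residueField_eq_zero.2 hpd)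

end Groth.Agent.S18423
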