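import Groth.Statements.S18425
import Groth.Agent.H18Gal.AutForget

set_option autoImplicit false
universe u
open Pi1

namespace Groth.Agent.S18425

open CategoryTheory in
/-- In the case of a discrete group G, let F be the forgetful functor from the category of finite G-sets
to finite sets. Then the canonical homomorphism from G to Aut(F), letting g act on every finite
G-set, extends to an isomorphism of topological groups from the profinite completion of G (the limit
of the finite quotients G/U over normal subgroups U of finite index) onto Aut(F) with its profinite
topology. (The published statement is for an arbitrary topological group G, with finite G-sets
carrying a continuous action and the completion taken over open normal subgroups of finite index;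
this row is the case of a discrete group.) -/
theorem result (G : Type u) [Group G] :
    ∃ φ : (ProfiniteGrp.ProfiniteCompletion.completion (GrpCat.of G)) ≃ₜ* Aut (Action.forget FintypeCat.{u} G),
      ∀ (g : G) (X : Action FintypeCat.{u} G) (x : X.V),
        (φ (ProfiniteGrp.ProfiniteCompletion.etaFn (GrpCat.of G) g)).hom.app X x = (X.ρ g).hom x := by
  exact ⟨H18Gal.AutForget.complEquivAutForget, fun g X x => rfl⟩

end Groth.Agent.S18425
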