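import Groth.Statements.S18426
import Groth.Agent.S9821
import Mathlib.RingTheory.DedekindDomain.IntegralClosure

set_option autoImplicit false
universe u
open Pi1

namespace Groth.Agent.S18426

open AlgebraicGeometry CategoryTheory CategoryTheory.Limits in
/-- Suppose X is an integral scheme that is Noetherian and normal, write K for its function field, and
take L to be a finite separable extension of K. Then the normalization of X in L, namely the
relative normalization of the morphism Spec L → Spec K → X, is finite over X. (That this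
normalization is a normal integral scheme with function field L is not restated.) -/
theorem result {X : Scheme.{u}} [IsIntegral X] [IsNoetherian X]
    (hX : Pi1.IsNormalScheme X) (L : Type u) [Field L] [Algebra X.functionField L] [FiniteDimensional X.functionField L]
    [Algebra.IsSeparable X.functionField L]
    [QuasiCompact (Spec.map (CommRingCat.ofHom (algebraMap X.functionField L)) ≫ X.fromSpecStalk (genericPoint X))]
    [QuasiSeparated (Spec.map (CommRingCat.ofHom (algebraMap X.functionField L)) ≫ X.fromSpecStalk (genericPoint X))] :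
    IsFinite (Spec.map (CommRingCat.ofHom (algebraMap X.functionField L)) ≫ X.fromSpecStalk (genericPoint X)).fromNormalization := by
  let K := X.functionField
  let ξ := genericPoint X
  let a : Spec (CommRingCat.of L) ⟶ Spec (X.presheaf.stalk ξ) :=
    Spec.map (CommRingCat.ofHom (algebraMap X.functionField L))
  let f := a ≫ X.fromSpecStalk ξ
  haveI : QuasiCompact f := ‹_›
  haveI : QuasiSeparated f := ‹_›
  change IsFinite f.fromNormalization
  rw [isFinite_iff]
  refine ⟨inferInstance, fun U hU => ?_⟩
  letI := (f.app U).hom.toAlgebra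
  rw [f.fromNormalization_app hU, CommRingCat.hom_comp]
  refine RingHom.Finite.comp (RingHom.Finite.of_surjective _
    (ConcreteCategory.bijective_of_isIso (f.normalizationObjIso hU).inv).2) ?_
  show (algebraMap Γ(X, U) (integralClosure Γ(X, U) Γ(Spec (CommRingCat.of L), f ⁻¹ᵁ U))).Finite
  rw [RingHom.finite_algebraMap]
  by_cases hne : ξ ∈ U
  · haveI : Nonempty U := ⟨⟨ξ, hne⟩⟩
    haveI : IsFractionRing Γ(X, U) X.functionField := functionField_isFractionRing_of_isAffineOpen X U hU
    haveI : IsIntegrallyClosed Γ(X, U) := (Groth.Agent.S9821.result X).1 hX U hU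
    haveI : IsNoetherianRing Γ(X, U) := IsLocallyNoetherian.component_noetherian ⟨U, hU⟩
    have htop : f ⁻¹ᵁ U = ⊤ := by
      refine top_le_iff.1 fun z _ => ?_
      have : (X.fromSpecStalk ξ) (a z) = ξ := by
        have hs : (X.fromSpecStalk ξ) (a z) ⤳ ξ := by
          rw [← Set.mem_setOf (p := fun y => y ⤳ ξ), ← Scheme.range_fromSpecStalk]
          exact ⟨_, rfl⟩
        exact (hs.antisymm (genericPoint_specializes _)).eq
      change f z ∈ U
      exact this.symm ▸ hne
    let ψ : Γ(Spec (CommRingCat.of L), f ⁻¹ᵁ U) ⟶ CommRingCat.of L :=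
      (Spec (CommRingCat.of L)).presheaf.map (eqToHom htop.symm).op ≫ (Scheme.ΓSpecIso _).hom
    haveI : IsIso ψ := by dsimp only [ψ]; infer_instance
    have hψ : f.app U ≫ ψ = X.germToFunctionField U ≫ CommRingCat.ofHom (algebraMap X.functionField L) := by
      dsimp only [f, ψ]
      rw [Scheme.Hom.comp_app, Scheme.fromSpecStalk_app hne]
      simp only [Category.assoc]
      refine (Category.assoc _ _ _).trans (congrArg (X.presheaf.germ U ξ hne ≫ ·) ?_)
      refine ((Category.assoc _ _ _).trans (congrArg (_ ≫ ·) (Category.assoc _ _ _))).trans ?_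
      erw [Scheme.Hom.naturality_assoc a]
      erw [← Functor.map_comp_assoc]
      rw [Iso.inv_comp_eq]
      have hid : ∀ (p : Opposite.op (⊤ : (Spec (CommRingCat.of L)).Opens) ⟶ Opposite.op ⊤),
          (Spec (CommRingCat.of L)).presheaf.map p = 𝟙 _ := fun p => by
        rw [Subsingleton.elim p (𝟙 _), CategoryTheory.Functor.map_id]
      erw [hid, Category.id_comp]
      exact Scheme.ΓSpecIso_naturality _
    letI : Algebra Γ(X, U) L :=
      ((algebraMap X.functionField L).comp (algebraMap Γ(X, U) X.functionField)).toAlgebra
    haveI : IsScalarTower Γ(X, U) X.functionField L := IsScalarTower.of_algebraMap_eq fun _ => rfl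
    haveI : Module.Finite Γ(X, U) (integralClosure Γ(X, U) L) :=
      IsIntegralClosure.finite Γ(X, U) X.functionField L _
    let eψ : Γ(Spec (CommRingCat.of L), f ⁻¹ᵁ U) ≃ₐ[Γ(X, U)] L :=
      AlgEquiv.ofRingEquiv (f := (asIso ψ).commRingCatIsoToRingEquiv) fun r =>
        congrArg (fun g => g r) (congrArg CommRingCat.Hom.hom hψ)
    exact Module.Finite.equiv eψ.mapIntegralClosure.symm.toLinearEquiv
  · have hU0 : U = ⊥ := eq_bot_iff.2 fun x hx => hne ((genericPoint_specializes x).mem_open U.2 hx)
    subst hU0
    haveI : Subsingleton Γ(X, ⊥) := CommRingCat.subsingleton_of_isTerminal X.sheaf.isTerminalOfEmpty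
    haveI : Subsingleton (integralClosure Γ(X, ⊥) Γ(Spec (CommRingCat.of L), f ⁻¹ᵁ ⊥)) :=
      Module.subsingleton Γ(X, ⊥) _
    exact inferInstance

end Groth.Agent.S18426
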