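import Groth.Statements.S18427
import Groth.Agent.H28NT.ConnectedDVR
import Groth.Agent.H28Neron.Extend

set_option autoImplicit false
set_option linter.style.haveILetI false
universe u
open Models

namespace Groth.Agent.S18427

open CategoryTheory AlgebraicGeometry in
/-- Let R be a discrete valuation ring with fraction field K, C a smooth proper geometrically connected
curve over K, and X a regular proper model of C over R (flat and proper over R, regular, with
generic fibre C). Then the structure morphism X → Spec R has geometrically connected fibres; in
particular the special fibre of X is geometrically connected over the residue field of R. -/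
theorem result (R : Type u) [CommRing R] [IsDomain R]
    [IsDiscreteValuationRing R] (C X : Scheme.{u})
    (f : C ⟶ Spec (CommRingCat.of (FractionRing R))) (p : X ⟶ Spec (CommRingCat.of R))
    (hC : Curve.IsSmoothProperCurve (FractionRing R) C f) [GeometricallyConnected f]
    (hX : Models.IsRegularProperModel R X p C f) :
    GeometricallyConnected p := by
  obtain ⟨⟨hflat, -, -, g, hg⟩, hproper, -⟩ := hX
  obtain ⟨hfp, hfs, hint, -⟩ := hC
  haveI := hflat
  haveI := hproper
  haveI := hfp
  haveI := hfs
  haveI := hint
  haveI : IsRegularRing (FractionRing R) := Groth.Agent.H05EGA4.isRegularRing_of_isRegularLocalRing _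
  let q := Limits.pullback.snd p (Neron.genPt R)
  have hqf : IsPullback hg.isoPullback.inv q f (𝟙 _) :=
    IsPullback.of_horiz_isIso ⟨by rw [hg.isoPullback_inv_snd, Category.comp_id]⟩
  haveI : Smooth q := MorphismProperty.of_isPullback hqf hfs
  haveI : GeometricallyConnected q := MorphismProperty.of_isPullback hqf ‹_›
  haveI : GeometricallyReduced q := by
    refine ⟨fun L _ y P fst snd hP => ?_⟩
    haveI : Smooth snd := MorphismProperty.of_isPullback hP ‹Smooth q›
    haveI : IsRegularRing L := Groth.Agent.H05EGA4.isRegularRing_of_isRegularLocalRing _
    exact Groth.Agent.H28Neron.isReduced_of_smooth snd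
  haveI : Nonempty X := let ⟨c⟩ := (inferInstance : Nonempty C); ⟨g.base c⟩
  refine ⟨fun L _ y P fst snd hP => ?_⟩
  haveI := Groth.Agent.H28NT.connectedSpace_of_range p y inferInstance
    (Groth.Agent.H28NT.geometricallyConnected_closedFibre p)
  exact hP.isoPullback.hom.homeomorph.connectedSpace_iff.mpr inferInstance

end Groth.Agent.S18427
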