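import Groth.Statements.S18429
import Mathlib.Tactic.Ring
import Mathlib.Tactic.Linarith
import Mathlib.Data.Int.ModEq

set_option autoImplicit false
universe u
open SpinCurv

namespace Groth.Agent.S18429

/-- Let n ≥ 1 and r ≥ 2 be integers and let e_0, …, e_{nr} be integers with e_0 = e_{nr} = 0 (the
coefficients of a chain of nr - 1 exceptional curves joining two non-exceptional components with
coefficient zero) such that at every interior index 1 ≤ j ≤ nr - 1 the second difference e_{j-1} - 2
e_j + e_{j+1} (the degree of the divisor Σ e_i E_i on the j-th curve of the chain) is divisible by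
r. Then there are integers e'_0, …, e'_{nr}, with e'_j ≡ e_j modulo r for every interior j, with
e'_0 = e'_{nr} = 0 and every e'_j ≤ 0, whose second differences at the interior indices are each 0
or r, and are nonzero at no two distinct interior indices. -/
theorem result (n r : ℕ) (hn : 1 ≤ n) (hr : 2 ≤ r)
    (e : ℕ → ℤ) (he0 : e 0 = 0) (henr : e (n * r) = 0)
    (hdiv : ∀ j : ℕ, 1 ≤ j → j < n * r → (r : ℤ) ∣ e (j - 1) - 2 * e j + e (j + 1)) :
    ∃ e' : ℕ → ℤ, e' 0 = 0 ∧ e' (n * r) = 0 ∧
      (∀ j : ℕ, 1 ≤ j → j < n * r → (r : ℤ) ∣ e' j - e j) ∧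
      (∀ j : ℕ, j ≤ n * r → e' j ≤ 0) ∧
      (∀ j : ℕ, 1 ≤ j → j < n * r →
        (e' (j - 1) - 2 * e' j + e' (j + 1) = 0 ∨ e' (j - 1) - 2 * e' j + e' (j + 1) = r)) ∧
      (∀ j j' : ℕ, 1 ≤ j → j < n * r → 1 ≤ j' → j' < n * r →
        e' (j - 1) - 2 * e' j + e' (j + 1) ≠ 0 → e' (j' - 1) - 2 * e' j' + e' (j' + 1) ≠ 0 → j = j') := by
  set c : ℤ := e 1 % r with hc
  have hr0 : (r : ℤ) ≠ 0 := by positivity
  have hc0 : 0 ≤ c := Int.emod_nonneg _ hr0
  have hc1 : c < r := Int.emod_lt_of_pos _ (by positivity)
  have hlin : ∀ j : ℕ, j ≤ n * r → (r : ℤ) ∣ c * j - e j := by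
    intro j
    induction j using Nat.strong_induction_on with
    | _ j ih =>
      intro hj
      match j with
      | 0 => simp [he0]
      | 1 => exact ⟨-(e 1 / r), by rw [hc, Int.emod_def]; push_cast; ring⟩
      | j + 2 =>
        obtain ⟨a, ha⟩ := ih j (by omega) (by omega)
        obtain ⟨b, hb⟩ := ih (j + 1) (by omega) (by omega)
        obtain ⟨d, hd⟩ := hdiv (j + 1) (by omega) (by omega)
        simp only [Nat.add_sub_cancel] at hd
        push_cast at hb ⊢
        exact ⟨2 * b - a - d, by linear_combination 2 * hb - ha - hd⟩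
  let f : ℕ → ℤ := fun j => if (j : ℤ) ≤ n * c then (c - r) * j else c * (j - n * r)
  refine ⟨f, by simp [f, mul_nonneg, hc0], ?_, ?_, ?_, ?_, ?_⟩
  · simp only [f]
    split_ifs with h
    · push_cast at h ⊢
      have : (n : ℤ) * r ≤ n * c := h
      nlinarith
    · push_cast; ring
  · intro j _ hj
    obtain ⟨a, ha⟩ := hlin j hj.le
    simp only [f]
    split_ifs
    · exact ⟨a - j, by linear_combination ha⟩
    · exact ⟨a - c * n, by linear_combination ha⟩
  · intro j hj
    have hj' : (j : ℤ) ≤ n * r := by exact_mod_cast hj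
    simp only [f]
    split_ifs <;> nlinarith
  · intro j hj1 hj
    simp only [f, Nat.cast_sub hj1, Nat.cast_add, Nat.cast_one]
    rcases lt_trichotomy (j : ℤ) (n * c) with h | h | h
    · left
      rw [if_pos (by linarith), if_pos (by linarith), if_pos (by linarith)]; ring
    · right
      rw [if_pos (by linarith), if_pos (by linarith), if_neg (by linarith)]
      linear_combination (r : ℤ) * h
    · left
      have h' : (n : ℤ) * c + 1 ≤ j := h
      rcases eq_or_lt_of_le h' with h'' | h''
      · rw [if_pos (by linarith), if_neg (by linarith), if_neg (by linarith)]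
        linear_combination (r : ℤ) * h''
      · rw [if_neg (by linarith), if_neg (by linarith), if_neg (by linarith)]; ring
  · intro j j' hj1 hj hj'1 hj' hn0 hn0'
    have key : ∀ i : ℕ, 1 ≤ i → f (i - 1) - 2 * f i + f (i + 1) ≠ 0 → (i : ℤ) = n * c := by
      intro i hi h
      by_contra hne
      refine h ?_
      simp only [f, Nat.cast_sub hi, Nat.cast_add, Nat.cast_one]
      rcases lt_or_gt_of_ne hne with hlt | hgt
      · rw [if_pos (by linarith), if_pos (by linarith), if_pos (by linarith)]; ring
      · have h' : (n : ℤ) * c + 1 ≤ i := hgt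
        rcases eq_or_lt_of_le h' with h'' | h''
        · rw [if_pos (by linarith), if_neg (by linarith), if_neg (by linarith)]
          linear_combination (r : ℤ) * h''
        · rw [if_neg (by linarith), if_neg (by linarith), if_neg (by linarith)]; ring
    exact_mod_cast (key j hj1 hn0).trans (key j' hj'1 hn0').symm

end Groth.Agent.S18429
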