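import Groth.Statements.S1843
import Groth.Agent.H25AbCube.PRank
import Groth.Agent.H25AbCube.GeomTate
import Groth.Agent.H19Grp.FibreLoci

set_option autoImplicit false
set_option maxHeartbeats 1000000
set_option synthInstance.maxHeartbeats 100000
set_option linter.style.haveILetI false
set_option backward.isDefEq.respectTransparency false
universe u v
open CategoryTheory MonoidalCategory CartesianMonoidalCategory MonObj GrpObj AlgebraicGeometry
open GrpSch

namespace Groth.Agent.S1843

/-- Let A be an abelian variety of dimension g over a field of characteristic p > 0. The set of points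
of A mapped to the identity point by multiplication by p has at most p^g elements. -/
theorem result (K : Type u) [Field K] (p : ℕ) [Fact p.Prime] [CharP K p] (A : Over (Spec (CommRingCat.of K))) [GrpObj A] [IsProper A.hom] [GeometricallyIntegral A.hom] (g : ℕ) (hg : topologicalKrullDim A.left = g) : Set.encard {a : A.left | (𝟙 A ^ p).left a = η[A].left (IsLocalRing.closedPoint K)} ≤ (p ^ g : ℕ) := by
  classical
  let Ω := AlgebraicClosure K
  let F := H25AbCube.GeomTate.bc K Ω
  let A' := F.obj A
  letI : GrpObj A' := Functor.grpObjObj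
  haveI : CharP Ω p := charP_of_injective_algebraMap (algebraMap K Ω).injective p
  haveI : IsCommMonObj A' := isCommMonObj_of_isProper_of_geometricallyIntegral A'
  haveI : IsCommMonObj A := isCommMonObj_of_isProper_of_geometricallyIntegral A
  have hp : 0 < p := (Fact.out : p.Prime).pos
  have hmap : F.map ((𝟙 A) ^ p) = (𝟙 A') ^ p := by
    have := map_pow (Functor.homMonoidHom F (X := A) (M := A)) (𝟙 A) p
    simpa using this
  let σ := H25AbCube.GeomTate.σ K Ω
  let π : A'.left ⟶ A.left := Limits.pullback.fst A.hom σ
  haveI : Surjective π := MorphismProperty.pullback_fst (P := @Surjective) _ _ (H25AbCube.GeomTate.surjective_σ K Ω)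
  have hη : IsPullback (Limits.pullback.fst (𝟙_ (Over (Spec (CommRingCat.of K)))).hom σ) (F.map η[A]).left η[A].left π :=
    H19Grp.isPullback_map σ η[A]
  haveI : Subsingleton (F.obj (𝟙_ (Over (Spec (CommRingCat.of K))))).left := by
    haveI : IsIso (Limits.pullback.snd (𝟙_ (Over (Spec (CommRingCat.of K)))).hom σ) :=
      MorphismProperty.pullback_snd (P := MorphismProperty.isomorphisms Scheme.{u}) _ _
        (inferInstanceAs (IsIso (𝟙 (Spec (CommRingCat.of K)))))
    haveI : Subsingleton (Spec (CommRingCat.of Ω)) := inferInstanceAs (Subsingleton (PrimeSpectrum Ω))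
    exact (Scheme.Hom.homeomorph (Limits.pullback.snd (𝟙_ (Over (Spec (CommRingCat.of K)))).hom σ)).injective.subsingleton
  have hfib : ∀ z : A'.left, π z = η[A].left (IsLocalRing.closedPoint K) → z = η[A'].left (IsLocalRing.closedPoint Ω) := by
    intro z hz
    obtain ⟨w, -, hw⟩ := Scheme.Pullback.exists_preimage_pullback _ z hz.symm
    have e1 : (F.map η[A]).left (hη.isoPullback.inv w) = z :=
      (congr(($(hη.isoPullback_inv_snd)).base w)).trans hw
    have e2 : η[A'].left (IsLocalRing.closedPoint Ω) ∈ Set.range (F.map η[A]).left :=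
      ⟨(Functor.LaxMonoidal.ε F).left (IsLocalRing.closedPoint Ω), rfl⟩
    obtain ⟨v, hv⟩ := e2
    rw [← e1, ← hv, Subsingleton.elim v (hη.isoPullback.inv w)]
  have hle : {a : A.left | (𝟙 A ^ p).left a = η[A].left (IsLocalRing.closedPoint K)} ⊆
      Set.range (Limits.pullback.fst ((𝟙 A') ^ p).left η[A'].left ≫ π) := by
    intro a ha
    obtain ⟨a', ha'⟩ := π.surjective a
    have h1 := congr(($((H19Grp.isPullback_map σ ((𝟙 A) ^ p)).w)).base a')
    simp only [Scheme.Hom.comp_apply] at h1
    have h2 : ((𝟙 A') ^ p).left a' = η[A'].left (IsLocalRing.closedPoint Ω) := by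
      refine hfib _ ?_
      rw [← hmap, ← show ((𝟙 A) ^ p).left a = _ from ha, ← ha']
      exact h1.symm
    obtain ⟨w, hw, -⟩ := Scheme.Pullback.exists_preimage_pullback _ _ h2
    exact ⟨w, by rw [Scheme.Hom.comp_apply, hw, ha']⟩
  haveI := H25AbCube.isFinite_pow (A := A') hp
  have hg' := H25AbCube.GeomTate.dim_bc (k := K) (Ω := Ω) A hg
  have hcard := H25AbCube.PRank.card_torsPts_le_pow p (k := Ω) (A := A') g hg'
  rw [H25AbCube.card_torsPts_eq_card hp] at hcard
  haveI : Finite (Limits.pullback ((𝟙 A') ^ p).left η[A'].left : Scheme.{u}) := by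
    haveI := H25AbCube.finite_torsPts (A := A') hp
    let q := Limits.pullback.snd ((𝟙 A') ^ p).left η[A'].left
    haveI : IsFinite q := inferInstance
    have := q.finite_preimage_singleton (IsLocalRing.closedPoint Ω)
    refine Set.finite_univ_iff.1 (this.subset fun z _ => ?_)
    exact Subsingleton.elim (α := PrimeSpectrum Ω) _ _
  refine (Set.encard_le_encard hle).trans ?_
  rw [← Set.image_univ]
  refine (Set.encard_image_le _ _).trans ?_
  rw [Set.encard_univ, ENat.card_eq_coe_natCard]
  exact_mod_cast hcard

end Groth.Agent.S1843
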