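import Groth.Statements.S18430
import Mathlib.Tactic

set_option autoImplicit false
universe u
open SpinCurv

namespace Groth.Agent.S18430

/-- Let n ≥ 1 and r ≥ 2 be integers and let e_0, …, e_{nr} be integers, thought of as the coefficients
of two non-exceptional components C = E_0 and D = E_{nr} of the special fibre and of the chain of nr
- 1 exceptional curves joining them. If at every interior index 1 ≤ j ≤ nr - 1 the second difference
e_{j-1} - 2 e_j + e_{j+1} is divisible by r (the degree of the divisor on each exceptional curve of
the chain is a multiple of r), then e_0 ≡ e_{nr} modulo r. (The published statement deduces from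
this step, using that the special fibre is connected, that all non-exceptional components are joined
by such chains and that one non-exceptional coefficient may be taken to be 0, that every
non-exceptional coefficient can be assumed divisible by r; only the chain step is stated here.) -/
theorem result (n r : ℕ) (hn : 1 ≤ n) (hr : 2 ≤ r)
    (e : ℕ → ℤ)
    (hdiv : ∀ j : ℕ, 1 ≤ j → j < n * r → (r : ℤ) ∣ e (j - 1) - 2 * e j + e (j + 1)) :
    (r : ℤ) ∣ e (n * r) - e 0 := by
  have key : ∀ j : ℕ, j + 1 ≤ n * r → (r : ℤ) ∣ e j - e 0 - j * (e 1 - e 0) ∧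
      (r : ℤ) ∣ e (j + 1) - e 0 - (j + 1) * (e 1 - e 0) := by
    intro j
    induction j with
    | zero => intro _; simp
    | succ i ih =>
      intro hi
      obtain ⟨h1, h2⟩ := ih (by omega)
      refine ⟨by push_cast; exact h2, ?_⟩
      have h3 := hdiv (i + 1) (by omega) (by omega)
      simp only [Nat.add_sub_cancel] at h3
      have := (h3.add (h2.mul_left 2)).sub h1
      refine Eq.subst (motive := fun z : ℤ => (r : ℤ) ∣ z) ?_ this
      push_cast; ring
  have hpos : 1 ≤ n * r := Nat.one_le_iff_ne_zero.mpr (by positivity)
  obtain ⟨j, hj⟩ := Nat.exists_eq_add_of_le hpos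
  obtain ⟨-, h2⟩ := key j (by omega)
  rw [hj, Nat.add_comm]
  have hr' : (r : ℤ) ∣ ((j : ℤ) + 1) * (e 1 - e 0) := by
    apply Dvd.dvd.mul_right
    have : ((j : ℤ) + 1) = (n : ℤ) * r := by exact_mod_cast (by omega : j + 1 = n * r)
    rw [this]; exact dvd_mul_left _ _
  simpa using h2.add hr'

end Groth.Agent.S18430
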