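import Groth.Statements.S18431
import Mathlib.RingTheory.LocalRing.ResidueField.Basic
import Mathlib.Algebra.Ring.GeomSum
import Mathlib.Tactic

set_option autoImplicit false
universe u
open SpinCurv

namespace Groth.Agent.S18431

/-- Let R be a Noetherian local ring in which the natural number r is invertible and let ξ, ζ ∈ R
satisfy ξ^r = 1 and ζ^r = 1. Then either ξ = ζ, or ξ - ζ is a unit of R. (Consequently an element of
R annihilated by ξ - ζ is zero unless ξ = ζ. In the published setting R is moreover complete; the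
step does not use completeness.) -/
theorem result (R : Type u) [CommRing R] [IsNoetherianRing R] [IsLocalRing R]
    (r : ℕ) (hr : IsUnit (r : R)) (ξ ζ : R) (hξ : ξ ^ r = 1) (hζ : ζ ^ r = 1) :
    ξ = ζ ∨ IsUnit (ξ - ζ) := by
  rw [or_iff_not_imp_right]
  intro h
  have hr0 : r ≠ 0 := by rintro rfl; simp at hr
  have hζu : IsUnit ζ := IsUnit.of_pow_eq_one hζ hr0
  have hres : IsLocalRing.residue R ξ = IsLocalRing.residue R ζ := by
    rw [← sub_eq_zero, ← map_sub, IsLocalRing.residue_eq_zero_iff]
    exact h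
  have hs : IsUnit (∑ i ∈ Finset.range r, ξ ^ i * ζ ^ (r - 1 - i)) := by
    by_contra hn
    have hn' : IsLocalRing.residue R (∑ i ∈ Finset.range r, ξ ^ i * ζ ^ (r - 1 - i)) = 0 :=
      (IsLocalRing.residue_eq_zero_iff _).mpr hn
    have hu : IsUnit ((r : R) * ζ ^ (r - 1)) := hr.mul (hζu.pow _)
    apply (IsLocalRing.residue_ne_zero_iff_isUnit _).mpr hu
    rw [← hn']
    simp only [map_sum, map_mul, map_pow, map_natCast, hres, ← pow_add]
    rw [Finset.sum_congr rfl (fun i hi => by
      rw [Nat.add_sub_cancel' (by have := Finset.mem_range.mp hi; omega : i ≤ r - 1)])]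
    simp
  have h0 := geom_sum₂_mul ξ ζ r
  rw [hξ, hζ, sub_self, hs.mul_right_eq_zero] at h0
  exact sub_eq_zero.mp h0

end Groth.Agent.S18431
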