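import Groth.Statements.S18432
import Groth.Agent.H02CA.NodeCoord
import Mathlib.LinearAlgebra.Matrix.ToLin
import Mathlib.Data.Fin.VecNotation

set_option autoImplicit false
universe u
open SpinCurv

namespace Groth.Agent.S18432

open Groth.Agent.H02CA.NodeCoord

section
variable {R : Type u} [CommRing R] {p q : R}

theorem mulVec_eq (a b : SpinCurv.NodeRing R (p * q)) :
    Matrix.mulVec (SpinCurv.nodeAlpha R p q) ![a, b] =
      ![SpinCurv.NodeRing.x R (p * q) * a + algebraMap R _ p * b,
        algebraMap R _ q * a + SpinCurv.NodeRing.y R (p * q) * b] := by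
  funext i
  fin_cases i <;> simp [SpinCurv.nodeAlpha, Matrix.mulVec, dotProduct, Fin.sum_univ_two]

theorem vec_eq (v : Fin 2 → SpinCurv.NodeRing R (p * q)) : v = ![v 0, v 1] := by
  funext i; fin_cases i <;> rfl

end


/-- Let R be a complete Noetherian local ring, p, q elements of its maximal ideal, A = R[[x, y]]/(xy -
pq), and α(p, q) the A-linear endomorphism of A² with matrix (x p; q y), sending a column (a, b) to
(x a + p b, q a + y b). Then the kernel of α(p, q) is the submodule of A² generated by the columns
(p, -x) and (y, -q); equivalently the image of α(p, q) (the standard rank-one torsion-free module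
E(p, q)) is presented by two generators ξ, v with the relations p ξ = x v and y ξ = q v. -/
theorem result (R : Type u) [CommRing R] [IsNoetherianRing R] [IsLocalRing R]
    [IsAdicComplete (IsLocalRing.maximalIdeal R) R]
    (p q : R) (hp : p ∈ IsLocalRing.maximalIdeal R) (hq : q ∈ IsLocalRing.maximalIdeal R) :
    LinearMap.ker (Matrix.mulVecLin (SpinCurv.nodeAlpha R p q)) =
      Submodule.span (SpinCurv.NodeRing R (p * q))
        {![algebraMap R (SpinCurv.NodeRing R (p * q)) p, -SpinCurv.NodeRing.x R (p * q)],
         ![SpinCurv.NodeRing.y R (p * q), -algebraMap R (SpinCurv.NodeRing R (p * q)) q]} := by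
  classical
  have hπ : p * q ∈ IsLocalRing.maximalIdeal R := Ideal.mul_mem_right q _ hp
  refine le_antisymm (fun v hv => ?_) (Submodule.span_le.mpr ?_)
  · rw [LinearMap.mem_ker, Matrix.mulVecLin_apply] at hv
    rw [vec_eq v] at hv ⊢
    generalize v 0 = a at hv ⊢
    generalize v 1 = b at hv ⊢
    rw [mulVec_eq] at hv
    have h1 : SpinCurv.NodeRing.x R (p * q) * a + algebraMap R _ p * b = 0 := congrFun hv 0
    have h2 : algebraMap R _ q * a + SpinCurv.NodeRing.y R (p * q) * b = 0 := congrFun hv 1
    let s := SpinCurv.NodeRing.ofX R (p * q) (PowerSeries.mk fun n => -κ hπ ((n : ℤ) + 1) b)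
    let t := SpinCurv.NodeRing.ofY R (p * q) (PowerSeries.mk fun n => κ hπ (-(n : ℤ) - 1) a)
    have hs : ∀ i, κ hπ i s = if 0 ≤ i then -κ hπ (i + 1) b else 0 := fun i => by
      rw [κ_ofX, PowerSeries.coeff_mk]
      split_ifs with h
      · rw [Int.toNat_of_nonneg h]
      · rfl
    have ht : ∀ i, κ hπ i t = if i ≤ 0 then κ hπ (i - 1) a else 0 := fun i => by
      rw [κ_ofY, PowerSeries.coeff_mk]
      split_ifs with h
      · rw [Int.toNat_of_nonneg (by omega), neg_neg]
      · rfl
    have e1 : ∀ i, κ hπ i (SpinCurv.NodeRing.x R (p * q) * a) + p * κ hπ i b = 0 := fun i => by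
      rw [← κ_algebraMap_mul hπ, ← map_add, h1, map_zero]
    have e2 : ∀ i, q * κ hπ i a + κ hπ i (SpinCurv.NodeRing.y R (p * q) * b) = 0 := fun i => by
      rw [← κ_algebraMap_mul hπ, ← map_add, h2, map_zero]
    refine Submodule.mem_span_pair.mpr ⟨s, t, ?_⟩
    have ea : s * algebraMap R _ p + t * SpinCurv.NodeRing.y R (p * q) = a := κ_ext hπ fun i => by
      rw [map_add, mul_comm s, mul_comm t, κ_algebraMap_mul, hs]
      rcases le_or_gt 0 i with h | h
      · rw [κ_y_mul_nonneg hπ i h, ht, if_pos h, if_neg (by omega)]
        have := e1 (i + 1)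
        rw [κ_x_mul_pos hπ _ (by omega), add_sub_cancel_right] at this
        linear_combination -this
      · rw [κ_y_mul_neg hπ i (by omega), ht, if_neg (by omega), if_pos (by omega), add_sub_cancel_right]
        ring
    have eb : s * -SpinCurv.NodeRing.x R (p * q) + t * -algebraMap R _ q = b := κ_ext hπ fun i => by
      rw [map_add, show s * -SpinCurv.NodeRing.x R (p * q) = -(SpinCurv.NodeRing.x R (p * q) * s) by ring,
        show t * -algebraMap R (SpinCurv.NodeRing R (p * q)) q = -(algebraMap R _ q * t) by ring, map_neg, map_neg,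
        κ_algebraMap_mul, ht]
      rcases le_or_gt 1 i with h | h
      · rw [κ_x_mul_pos hπ i h, hs, if_pos (by omega), if_neg (by omega), sub_add_cancel]
        ring
      · rw [κ_x_mul_nonpos hπ i (by omega), hs, if_neg (by omega), if_pos (by omega)]
        have := e2 (i - 1)
        rw [κ_y_mul_neg hπ _ (by omega), sub_add_cancel] at this
        linear_combination -this
    funext i
    fin_cases i
    · simpa using ea
    · simpa using eb
  · have hxy : SpinCurv.NodeRing.x R (p * q) * SpinCurv.NodeRing.y R (p * q) = algebraMap R _ (p * q) := by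
      rw [← map_mul, IsScalarTower.algebraMap_apply R (MvPowerSeries (Fin 2) R) (SpinCurv.NodeRing R (p * q)),
        Ideal.Quotient.algebraMap_eq, Ideal.Quotient.eq]
      exact Ideal.subset_span rfl
    have hxy' := hxy.trans (map_mul (algebraMap R (SpinCurv.NodeRing R (p * q))) p q)
    rintro v (rfl | rfl) <;> rw [SetLike.mem_coe, LinearMap.mem_ker, Matrix.mulVecLin_apply, mulVec_eq] <;>
      funext i <;> fin_cases i
    · show _ + _ = (0 : SpinCurv.NodeRing R (p * q))
      ring
    · show _ + _ = (0 : SpinCurv.NodeRing R (p * q))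
      linear_combination -hxy'
    · show _ + _ = (0 : SpinCurv.NodeRing R (p * q))
      linear_combination hxy'
    · show _ + _ = (0 : SpinCurv.NodeRing R (p * q))
      ring

end Groth.Agent.S18432
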