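import Groth.Statements.S18433
import Groth.Agent.H02CA.NodeCoord
import Mathlib.LinearAlgebra.Matrix.ToLin
import Mathlib.Data.Fin.VecNotation

set_option autoImplicit false
universe u
open SpinCurv

namespace Groth.Agent.S18433

open Groth.Agent.H02CA.NodeCoord

section
variable {R : Type u} [CommRing R] {p q : R}

theorem mulVec_eq (a b : SpinCurv.NodeRing R (p * q)) :
    Matrix.mulVec (SpinCurv.nodeAlpha R p q) ![a, b] =
      ![SpinCurv.NodeRing.x R (p * q) * a + algebraMap R _ p * b,
        algebraMap R _ q * a + SpinCurv.NodeRing.y R (p * q) * b] := by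
  funext i
  fin_cases i <;> simp [SpinCurv.nodeAlpha, Matrix.mulVec, dotProduct, Fin.sum_univ_two]

theorem vec_eq (v : Fin 2 → SpinCurv.NodeRing R (p * q)) : v = ![v 0, v 1] := by
  funext i; fin_cases i <;> rfl

end


/-- Let R be a complete Noetherian local ring, p, q elements of its maximal ideal, A = R[[x, y]]/(xy -
pq), and α(p, q) the endomorphism (a, b) ↦ (x a + p b, q a + y b) of A². Restrict α(p, q) to pairs
(f, g) with f a power series in x alone and g a power series in y alone: the resulting map R[[x]] ×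
R[[y]] → A², (f, g) ↦ (x f + p g, q f + y g), is injective and has the same image as α(p, q). Thus
the image E(p, q) of α(p, q) is identified, R-linearly, with R[[x]] ⊕ R[[y]]. -/
theorem result (R : Type u) [CommRing R] [IsNoetherianRing R] [IsLocalRing R]
    [IsAdicComplete (IsLocalRing.maximalIdeal R) R]
    (p q : R) (hp : p ∈ IsLocalRing.maximalIdeal R) (hq : q ∈ IsLocalRing.maximalIdeal R) :
    Function.Injective (fun fg : PowerSeries R × PowerSeries R =>
        Matrix.mulVec (SpinCurv.nodeAlpha R p q)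
          ![SpinCurv.NodeRing.ofX R (p * q) fg.1, SpinCurv.NodeRing.ofY R (p * q) fg.2]) ∧
    Set.range (fun fg : PowerSeries R × PowerSeries R =>
        Matrix.mulVec (SpinCurv.nodeAlpha R p q)
          ![SpinCurv.NodeRing.ofX R (p * q) fg.1, SpinCurv.NodeRing.ofY R (p * q) fg.2]) =
      Set.range (Matrix.mulVec (SpinCurv.nodeAlpha R p q)) := by
  classical
  have hπ : p * q ∈ IsLocalRing.maximalIdeal R := Ideal.mul_mem_right q _ hp
  let X₀ := fun f : PowerSeries R => SpinCurv.NodeRing.ofX R (p * q) f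
  let Y₀ := fun g : PowerSeries R => SpinCurv.NodeRing.ofY R (p * q) g
  -- coordinates of the image
  have c1 : ∀ (a b : SpinCurv.NodeRing R (p * q)) (i : ℤ),
      κ hπ i (SpinCurv.NodeRing.x R (p * q) * a + algebraMap R _ p * b) =
        (if 1 ≤ i then κ hπ (i - 1) a else p * q * κ hπ (i - 1) a) + p * κ hπ i b := fun a b i => by
    rw [map_add, κ_algebraMap_mul]
    congr 1
    split_ifs with h
    · exact κ_x_mul_pos hπ i h a
    · exact κ_x_mul_nonpos hπ i (by omega) a
  have c2 : ∀ (a b : SpinCurv.NodeRing R (p * q)) (i : ℤ),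
      κ hπ i (algebraMap R _ q * a + SpinCurv.NodeRing.y R (p * q) * b) =
        q * κ hπ i a + (if 0 ≤ i then p * q * κ hπ (i + 1) b else κ hπ (i + 1) b) := fun a b i => by
    rw [map_add, κ_algebraMap_mul]
    congr 1
    split_ifs with h
    · exact κ_y_mul_nonneg hπ i h b
    · exact κ_y_mul_neg hπ i (by omega) b
  constructor
  · rintro ⟨f, g⟩ ⟨f', g'⟩ h
    simp only [mulVec_eq] at h
    have h1 := congrFun h 0
    have h2 := congrFun h 1
    simp only [Matrix.cons_val_zero] at h1
    simp only [Matrix.cons_val_one, Matrix.cons_val_fin_one] at h2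
    refine Prod.ext (PowerSeries.ext fun n => ?_) (PowerSeries.ext fun n => ?_)
    · have := congrArg (κ hπ ((n : ℤ) + 1)) h1
      rw [c1, c1, if_pos (by omega), if_pos (by omega), κ_ofY, κ_ofY, if_neg (by omega), if_neg (by omega),
        κ_ofX, κ_ofX, add_sub_cancel_right, if_pos (by omega), if_pos (by omega)] at this
      simpa using this
    · have := congrArg (κ hπ (-(n : ℤ) - 1)) h2
      rw [c2, c2, if_neg (by omega), if_neg (by omega), κ_ofX, κ_ofX, if_neg (by omega), if_neg (by omega),
        sub_add_cancel, κ_ofY, κ_ofY, if_pos (by omega), if_pos (by omega)] at this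
      simpa using this
  · refine Set.Subset.antisymm (Set.range_subset_iff.mpr fun fg => ⟨_, rfl⟩) (Set.range_subset_iff.mpr fun v => ?_)
    rw [vec_eq v]
    generalize v 0 = a
    generalize v 1 = b
    let A₁ := SpinCurv.NodeRing.x R (p * q) * a + algebraMap R _ p * b
    let A₂ := algebraMap R _ q * a + SpinCurv.NodeRing.y R (p * q) * b
    refine ⟨(PowerSeries.mk fun n => κ hπ ((n : ℤ) + 1) A₁, PowerSeries.mk fun n => κ hπ (-(n : ℤ) - 1) A₂), ?_⟩
    have hf : ∀ i, κ hπ i (X₀ (PowerSeries.mk fun n => κ hπ ((n : ℤ) + 1) A₁)) =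
        if 0 ≤ i then κ hπ (i + 1) A₁ else 0 := fun i => by
      rw [κ_ofX, PowerSeries.coeff_mk]
      split_ifs with h
      · rw [Int.toNat_of_nonneg h]
      · rfl
    have hg : ∀ i, κ hπ i (Y₀ (PowerSeries.mk fun n => κ hπ (-(n : ℤ) - 1) A₂)) =
        if i ≤ 0 then κ hπ (i - 1) A₂ else 0 := fun i => by
      rw [κ_ofY, PowerSeries.coeff_mk]
      split_ifs with h
      · rw [Int.toNat_of_nonneg (by omega), neg_neg]
      · rfl
    simp only [mulVec_eq]
    have e1 : SpinCurv.NodeRing.x R (p * q) * X₀ (PowerSeries.mk fun n => κ hπ ((n : ℤ) + 1) A₁) +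
        algebraMap R _ p * Y₀ (PowerSeries.mk fun n => κ hπ (-(n : ℤ) - 1) A₂) = A₁ := κ_ext hπ fun i => by
      rw [c1, hf, hg]
      simp only [A₁, A₂, c1, c2]
      rcases le_or_gt 1 i with h | h
      · simp only [if_pos h, if_pos (show (0 : ℤ) ≤ i - 1 by omega), if_neg (show ¬ i ≤ 0 by omega), sub_add_cancel]
        ring
      · simp only [if_neg (show ¬ (1 : ℤ) ≤ i by omega), if_neg (show ¬ (0 : ℤ) ≤ i - 1 by omega),
          if_pos (show i ≤ 0 by omega), sub_add_cancel]
        ring
    have e2 : algebraMap R _ q * X₀ (PowerSeries.mk fun n => κ hπ ((n : ℤ) + 1) A₁) +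
        SpinCurv.NodeRing.y R (p * q) * Y₀ (PowerSeries.mk fun n => κ hπ (-(n : ℤ) - 1) A₂) = A₂ := κ_ext hπ fun i => by
      rw [c2, hf, hg]
      simp only [A₁, A₂, c1, c2]
      rcases le_or_gt 0 i with h | h
      · simp only [if_pos h, if_pos (show (1 : ℤ) ≤ i + 1 by omega), if_neg (show ¬ i + 1 ≤ 0 by omega),
          add_sub_cancel_right]
        ring
      · simp only [if_neg (show ¬ (0 : ℤ) ≤ i by omega), if_pos (show i + 1 ≤ 0 by omega), add_sub_cancel_right]
        ring
    exact congrArg₂ (fun u w => ![u, w]) e1 e2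

end Groth.Agent.S18433
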