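import Groth.Statements.S18434
import Mathlib.RingTheory.MvPowerSeries.Basic
import Mathlib.LinearAlgebra.Dimension.Constructions

set_option autoImplicit false
universe u
open SpinCurv

namespace Groth.Agent.S18434

open MvPowerSeries

variable {k : Type u} [Field k]

noncomputable def xExp (i : ℕ) : Fin 2 →₀ ℕ := Finsupp.single 0 i
noncomputable def yExp (i : ℕ) : Fin 2 →₀ ℕ := Finsupp.single 1 i

noncomputable def Φ (u v : ℕ) : MvPowerSeries (Fin 2) k →ₗ[k] (Fin u ⊕ Fin (v - 1) → k) :=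
  LinearMap.pi (Sum.elim (fun i : Fin u => coeff (xExp i)) (fun j : Fin (v - 1) => coeff (yExp (j + 1))))

theorem Φ_eq_zero {u v : ℕ} (hu : 1 ≤ u) (f : MvPowerSeries (Fin 2) k) :
    Φ u v f = 0 ↔ ∀ d : Fin 2 →₀ ℕ, (d 1 = 0 ∧ d 0 < u) ∨ (d 0 = 0 ∧ d 1 < v) → coeff d f = 0 := by
  have hd : ∀ d : Fin 2 →₀ ℕ, d = Finsupp.single 0 (d 0) + Finsupp.single 1 (d 1) := fun d => by
    ext i; fin_cases i <;> simp
  constructor
  · intro h d hd'
    have hx : ∀ i < u, coeff (xExp i) f = 0 := fun i hi => congrFun h (Sum.inl ⟨i, hi⟩)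
    rcases hd' with ⟨h1, h2⟩ | ⟨h1, h2⟩
    · have := hx _ h2
      rwa [hd d, h1, Finsupp.single_zero, add_zero]
    · rw [hd d, h1, Finsupp.single_zero, zero_add]
      rcases Nat.eq_zero_or_pos (d 1) with h3 | h3
      · have := hx 0 (by omega)
        simpa [h3, xExp] using this
      · have h4 : coeff (yExp (d 1 - 1 + 1)) f = 0 := congrFun h (Sum.inr ⟨d 1 - 1, by omega⟩)
        rwa [Nat.sub_add_cancel h3] at h4
  · intro h
    ext (i | j)
    · exact h _ (Or.inl ⟨by simp [xExp], by simp [xExp]⟩)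
    · exact h _ (Or.inr ⟨by simp [yExp], by have := j.2; simp [yExp]; omega⟩)

theorem ker_eq {u v : ℕ} (hu : 1 ≤ u) (hv : 1 ≤ v) (f : MvPowerSeries (Fin 2) k) :
    Φ u v f = 0 ↔ f ∈ Ideal.span ({X 0 * X 1, X 0 ^ u, X 1 ^ v} : Set (MvPowerSeries (Fin 2) k)) := by
  classical
  rw [Φ_eq_zero hu]
  constructor
  · intro h
    let f₁ : MvPowerSeries (Fin 2) k := fun d => if u ≤ d 0 then coeff d f else 0
    let f₂ : MvPowerSeries (Fin 2) k := fun d => if ¬ u ≤ d 0 ∧ v ≤ d 1 then coeff d f else 0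
    let f₃ : MvPowerSeries (Fin 2) k := fun d => if ¬ u ≤ d 0 ∧ ¬ v ≤ d 1 then coeff d f else 0
    have hf : f = f₁ + f₂ + f₃ := MvPowerSeries.ext fun d => by
      simp only [map_add, MvPowerSeries.coeff_apply, f₁, f₂, f₃]
      split_ifs <;> simp_all
    obtain ⟨a, ha⟩ : X 0 ^ u ∣ f₁ := X_pow_dvd_iff.2 fun d hd => if_neg (by omega)
    obtain ⟨b, hb⟩ : X 1 ^ v ∣ f₂ := X_pow_dvd_iff.2 fun d hd => if_neg (by omega)
    have h3 : ∀ d : Fin 2 →₀ ℕ, d 0 = 0 ∨ d 1 = 0 → coeff d f₃ = 0 := fun d hd => by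
      show (if _ then _ else _) = _
      split_ifs with h'
      · exact h d (by omega)
      · rfl
    obtain ⟨c, hc⟩ : X 0 ∣ f₃ := X_dvd_iff.2 fun d hd => h3 d (Or.inl hd)
    obtain ⟨e, he⟩ : X 1 ∣ c := X_dvd_iff.2 fun d hd => by
      have := h3 (Finsupp.single 0 1 + d) (Or.inr (by simp [hd]))
      rw [hc, X_def, coeff_add_monomial_mul, one_mul] at this
      exact this
    rw [hf, ha, hb, hc, he]
    refine add_mem (add_mem ?_ ?_) ?_
    · exact Ideal.mul_mem_right _ _ (Ideal.subset_span (by simp))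
    · exact Ideal.mul_mem_right _ _ (Ideal.subset_span (by simp))
    · rw [← mul_assoc]
      exact Ideal.mul_mem_right _ _ (Ideal.subset_span (by simp))
  · intro h d hd
    obtain ⟨a, r, hr, rfl⟩ := Ideal.mem_span_insert.1 h
    obtain ⟨b, s, hs, rfl⟩ := Ideal.mem_span_insert.1 hr
    obtain ⟨c, rfl⟩ := Ideal.mem_span_singleton'.1 hs
    rw [X_pow_eq, X_pow_eq]
    simp only [map_add, X_def, monomial_mul_monomial, coeff_mul_monomial, mul_one]
    have e0 : ∀ i j : ℕ, (Finsupp.single (0 : Fin 2) i + Finsupp.single 1 j ≤ d ↔ i ≤ d 0 ∧ j ≤ d 1) := fun i j => by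
      constructor
      · intro hle
        exact ⟨by simpa using hle 0, by simpa using hle 1⟩
      · rintro ⟨h1, h2⟩ l
        fin_cases l <;> simpa
    rw [if_neg, if_neg, if_neg, add_zero, add_zero]
    · intro hle; have := hle 1; simp at this; omega
    · intro hle; have := hle 0; simp at this; omega
    · rw [e0]; omega

/-- Let k be a field, u, v ≥ 1 integers and w ∈ k nonzero. In the ring A = k[[x, y]]/(xy), the quotient
A/(x^u, w y^v) has dimension u + v - 1 over k (a basis is 1, x, …, x^{u-1}, y, …, y^{v-1}); this is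
the length of the cokernel at the node of a map whose image is generated by x^u and w y^v. -/
theorem result (k : Type u) [Field k] (u v : ℕ) (hu : 1 ≤ u) (hv : 1 ≤ v)
    (w : k) (hw : w ≠ 0) :
    Module.finrank k (SpinCurv.NodeRing k 0 ⧸
      Ideal.span {SpinCurv.NodeRing.x k 0 ^ u, algebraMap k (SpinCurv.NodeRing k 0) w * SpinCurv.NodeRing.y k 0 ^ v}) =
      u + v - 1 := by
  set q := Ideal.Quotient.mk (Ideal.span {(MvPowerSeries.X 0 * MvPowerSeries.X 1 - MvPowerSeries.C 0 : MvPowerSeries (Fin 2) k)})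
  set I := Ideal.span {SpinCurv.NodeRing.x k 0 ^ u, algebraMap k (SpinCurv.NodeRing k 0) w * SpinCurv.NodeRing.y k 0 ^ v}
  have hI : I.comap q = Ideal.span ({MvPowerSeries.X 0 * MvPowerSeries.X 1, MvPowerSeries.X 0 ^ u, MvPowerSeries.X 1 ^ v} : Set (MvPowerSeries (Fin 2) k)) := by
    have hI' : I = Ideal.map q (Ideal.span ({MvPowerSeries.X 0 ^ u, MvPowerSeries.X 1 ^ v} : Set (MvPowerSeries (Fin 2) k))) := by
      rw [Ideal.map_span, Set.image_pair, map_pow, map_pow, Ideal.span_insert]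
      refine (Ideal.span_insert _ _).trans ?_
      rw [Ideal.span_singleton_mul_left_unit ((Ne.isUnit hw).map (algebraMap k (SpinCurv.NodeRing k 0)))]
    rw [hI', Ideal.comap_map_of_surjective _ Ideal.Quotient.mk_surjective, ← RingHom.ker_eq_comap_bot, Ideal.mk_ker,
      map_zero, sub_zero, Ideal.span_insert (MvPowerSeries.X 0 * MvPowerSeries.X 1), sup_comm]
  let π : MvPowerSeries (Fin 2) k →ₗ[k] (SpinCurv.NodeRing k 0 ⧸ I) :=
    ((Ideal.Quotient.mkₐ k I).comp (Ideal.Quotient.mkₐ k _)).toLinearMap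
  have hπ : Function.Surjective π := (Ideal.Quotient.mkₐ_surjective k I).comp (Ideal.Quotient.mkₐ_surjective k _)
  have hker : LinearMap.ker π = LinearMap.ker (Φ (k := k) u v) := by
    ext f
    rw [LinearMap.mem_ker, LinearMap.mem_ker, ker_eq hu hv, ← hI]
    exact Ideal.Quotient.eq_zero_iff_mem
  have hΦ : Function.Surjective (Φ (k := k) u v) := by
    classical
    intro g
    refine ⟨∑ i : Fin u, monomial (xExp i) (g (Sum.inl i)) + ∑ j : Fin (v - 1), monomial (yExp (j + 1)) (g (Sum.inr j)), ?_⟩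
    have h01 : ∀ (i : Fin u) (j : Fin (v - 1)), xExp i ≠ yExp ((j : ℕ) + 1) := fun i j h => by
      have := congrArg (fun d : Fin 2 →₀ ℕ => d 1) h
      simp [xExp, yExp] at this
    have hxi : Function.Injective fun i : Fin u => xExp i := fun a b h =>
      Fin.ext (Finsupp.single_injective (0 : Fin 2) h)
    have hyi : Function.Injective fun j : Fin (v - 1) => yExp ((j : ℕ) + 1) := fun a b h =>
      Fin.ext (by simpa using Finsupp.single_injective (1 : Fin 2) h)
    ext (i | j)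
    · simp [Φ, coeff_monomial, hxi.eq_iff, h01]
    · simp [Φ, coeff_monomial, hyi.eq_iff, fun i j => (h01 i j).symm]
  rw [← (π.quotKerEquivOfSurjective hπ).finrank_eq, hker, ((Φ (k := k) u v).quotKerEquivOfSurjective hΦ).finrank_eq,
    Module.finrank_fintype_fun_eq_card, Fintype.card_sum, Fintype.card_fin, Fintype.card_fin]
  omega

end Groth.Agent.S18434
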