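import Groth.Statements.S18435
import Groth.Agent.H02CA.PolyNode

set_option autoImplicit false
universe u
open SpinCurv

namespace Groth.Agent.S18435

/-- Let k be a field and A = k[x, y]/(xy) the node, with the two affine charts U = Spec k[s, y]/(sy) and
V = Spec k[t, x]/(tx) of the curve obtained by the (p, q)-construction with p = q = 0, glued along
k[s, s⁻¹] by t = s⁻¹ (y ↦ 0 from U, x ↦ 0 from V), and with A → O(U) given by x ↦ 0, y ↦ y and A →
O(V) by x ↦ x, y ↦ 0. A global section of O(1) is a pair (g, f) with g = s f on U ∩ V. If such a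
pair is annihilated by both x and y (acting through the two restriction maps), then g = 0 and f = 0;
so the module of global sections of O(1) has no nonzero element killed by the maximal ideal (x, y),
i.e. its direct image on the node is torsion-free there. All three coordinate rings are written as
the quotient of the polynomial ring in two variables by the product of the variables, and the four
restriction homomorphisms are k-algebra maps pinned by their values on generators. (The published
proof reduces the torsion-freeness of the direct image of O(1), for general R, p, q, to exactly this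
case of a field with p = q = 0.) -/
theorem result (k : Type u) [Field k]
    (rU : SpinCurv.PolyNodeRing k 0 →ₐ[k] SpinCurv.PolyNodeRing k 0)
    (hrUx : rU (SpinCurv.PolyNodeRing.x k 0) = 0)
    (hrUy : rU (SpinCurv.PolyNodeRing.y k 0) = SpinCurv.PolyNodeRing.y k 0)
    (rV : SpinCurv.PolyNodeRing k 0 →ₐ[k] SpinCurv.PolyNodeRing k 0)
    (hrVx : rV (SpinCurv.PolyNodeRing.x k 0) = SpinCurv.PolyNodeRing.y k 0)
    (hrVy : rV (SpinCurv.PolyNodeRing.y k 0) = 0)
    (gU : SpinCurv.PolyNodeRing k 0 →ₐ[k] LaurentPolynomial k)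
    (hgUs : gU (SpinCurv.PolyNodeRing.x k 0) = LaurentPolynomial.T 1)
    (hgUy : gU (SpinCurv.PolyNodeRing.y k 0) = 0)
    (gV : SpinCurv.PolyNodeRing k 0 →ₐ[k] LaurentPolynomial k)
    (hgVt : gV (SpinCurv.PolyNodeRing.x k 0) = LaurentPolynomial.T (-1))
    (hgVx : gV (SpinCurv.PolyNodeRing.y k 0) = 0)
    (g f : SpinCurv.PolyNodeRing k 0) (hsec : gU g = LaurentPolynomial.T 1 * gV f)
    (hx : rU (SpinCurv.PolyNodeRing.x k 0) * g = 0 ∧ rV (SpinCurv.PolyNodeRing.x k 0) * f = 0)
    (hy : rU (SpinCurv.PolyNodeRing.y k 0) * g = 0 ∧ rV (SpinCurv.PolyNodeRing.y k 0) * f = 0) :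
    g = 0 ∧ f = 0 := by
  have hUy : gU (SpinCurv.PolyNodeRing.y k 0) = LaurentPolynomial.C 0 * LaurentPolynomial.T (-1) := by
    simp [hgUy]
  have hVx : gV (SpinCurv.PolyNodeRing.y k 0) = LaurentPolynomial.C 0 * LaurentPolynomial.T 1 := by
    simp [hgVx]
  have h := (Groth.Agent.H02CA.PolyNode.mem_sections_iff (0 : k) 0 1 gU hgUs hUy gV hgVt hVx g f).1 hsec
  have hg : ∀ i : ℤ, i ≤ 0 → Groth.Agent.H02CA.PolyNode.coord (0 : k) g i = 0 := fun i hi => by
    have := Groth.Agent.H02CA.PolyNode.coord_y_mul (0 : k) g i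
    rw [← hrUy, hy.1, if_pos hi, one_mul] at this
    simpa using this.symm
  have hf : ∀ i : ℤ, i ≤ 0 → Groth.Agent.H02CA.PolyNode.coord (0 : k) f i = 0 := fun i hi => by
    have := Groth.Agent.H02CA.PolyNode.coord_y_mul (0 : k) f i
    rw [← hrVx, hx.2, if_pos hi, one_mul] at this
    simpa using this.symm
  constructor
  · refine (Groth.Agent.H02CA.PolyNode.bas (0 : k)).symm.injective (Eq.trans ?_ (map_zero _).symm)
    ext m
    show Groth.Agent.H02CA.PolyNode.coord (0 : k) g m = 0
    rcases le_or_gt m 0 with hm | hm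
    · exact hg m hm
    · have := h m
      rw [hf (1 - m) (by omega), mul_zero, Groth.Agent.H02CA.PolyNode.γ_of_nonneg _ hm.le, one_mul] at this
      exact this
  · refine (Groth.Agent.H02CA.PolyNode.bas (0 : k)).symm.injective (Eq.trans ?_ (map_zero _).symm)
    ext j
    show Groth.Agent.H02CA.PolyNode.coord (0 : k) f j = 0
    rcases le_or_gt j 0 with hj | hj
    · exact hf j hj
    · have := h (1 - j)
      rw [hg (1 - j) (by omega), mul_zero, show (1 : ℤ) - (1 - j) = j by ring,
        Groth.Agent.H02CA.PolyNode.γ_of_nonneg _ hj.le, one_mul] at this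
      exact this.symm

end Groth.Agent.S18435
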