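import Groth.Statements.S18437
import Groth.Agent.H02CA.PolyNodeSec

set_option autoImplicit false
universe u
open SpinCurv

namespace Groth.Agent.S18437

/-- Let R be a commutative ring and p, q ∈ R; put A = R[x, y]/(xy - pq) and consider the two affine
charts U = Spec R[s, y]/(sy - q) and V = Spec R[t, x]/(xt - p) of the curve obtained from Spec A by
blowing up as in the (p, q)-construction, glued along R[s, s⁻¹] by t = s⁻¹ (so y = q s⁻¹ on U and x
= p s on V), with the projection to Spec A given by x ↦ p s, y ↦ y on U and x ↦ x, y ↦ q t on V. For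
n ≥ 0 the twisting sheaf O(n) is vⁿ O on U and ξⁿ O on V with ξ = s v, so its global sections are
the pairs (g, f) of functions on U and V with g = sⁿ f on U ∩ V. Then the map A^{n+1} → O(U) × O(V)
sending (F_0, …, F_n), i.e. the section Σ F_i ξ^{n-i} v^i, to (Σ F_i|_U s^{n-i}, Σ F_i|_V t^i) has
image exactly the set of such pairs, and F is sent to zero exactly when it lies in the A-submodule
of A^{n+1} generated by the vectors p e_i - x e_{i+1} and y e_i - q e_{i+1} for 0 ≤ i < n (e_0, …,
e_n the standard basis). So the global sections of O(n) form the degree-n piece of A[ξ, v]/(p ξ - x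
v, q v - y ξ). For n = 0 this says that a ↦ (a|_U, a|_V) is injective on A with image the pairs of
functions that agree on U ∩ V, so that the functions on the blown-up curve are exactly the functions
on Spec A (the direct image of its structure sheaf is the structure sheaf of Spec A); for n = 1 it
presents the global sections of O(1) as A ξ ⊕ A v modulo the relations p ξ = x v and y ξ = q v. Here
R[s, y]/(sy - q) and R[t, x]/(xt - p) are both written as the quotient of the polynomial ring in two
variables by (first variable)·(second variable) - constant, the homomorphisms rU, rV are the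
restriction maps from A to the two charts and gU, gV the restriction maps from the charts to their
intersection R[s, s⁻¹] (Laurent polynomials), each pinned by its values on the two generators. (The
published setting has R complete local and p, q in the maximal ideal, and reduces to this polynomial
computation, which uses neither.) -/
theorem result (R : Type u) [CommRing R] (p q : R)
    (rU : SpinCurv.PolyNodeRing R (p * q) →ₐ[R] SpinCurv.PolyNodeRing R q)
    (hrUx : rU (SpinCurv.PolyNodeRing.x R (p * q)) = algebraMap R _ p * SpinCurv.PolyNodeRing.x R q)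
    (hrUy : rU (SpinCurv.PolyNodeRing.y R (p * q)) = SpinCurv.PolyNodeRing.y R q)
    (rV : SpinCurv.PolyNodeRing R (p * q) →ₐ[R] SpinCurv.PolyNodeRing R p)
    (hrVx : rV (SpinCurv.PolyNodeRing.x R (p * q)) = SpinCurv.PolyNodeRing.y R p)
    (hrVy : rV (SpinCurv.PolyNodeRing.y R (p * q)) = algebraMap R _ q * SpinCurv.PolyNodeRing.x R p)
    (gU : SpinCurv.PolyNodeRing R q →ₐ[R] LaurentPolynomial R)
    (hgUs : gU (SpinCurv.PolyNodeRing.x R q) = LaurentPolynomial.T 1)
    (hgUy : gU (SpinCurv.PolyNodeRing.y R q) = LaurentPolynomial.C q * LaurentPolynomial.T (-1))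
    (gV : SpinCurv.PolyNodeRing R p →ₐ[R] LaurentPolynomial R)
    (hgVt : gV (SpinCurv.PolyNodeRing.x R p) = LaurentPolynomial.T (-1))
    (hgVx : gV (SpinCurv.PolyNodeRing.y R p) = LaurentPolynomial.C p * LaurentPolynomial.T 1) (n : ℕ) :
    Set.range (fun F : Fin (n + 1) → SpinCurv.PolyNodeRing R (p * q) =>
        (∑ i : Fin (n + 1), rU (F i) * SpinCurv.PolyNodeRing.x R q ^ (n - (i : ℕ)),
         ∑ i : Fin (n + 1), rV (F i) * SpinCurv.PolyNodeRing.x R p ^ (i : ℕ))) =
      {gf : SpinCurv.PolyNodeRing R q × SpinCurv.PolyNodeRing R p |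
        gU gf.1 = LaurentPolynomial.T (n : ℤ) * gV gf.2} ∧
    {F : Fin (n + 1) → SpinCurv.PolyNodeRing R (p * q) |
        (∑ i : Fin (n + 1), rU (F i) * SpinCurv.PolyNodeRing.x R q ^ (n - (i : ℕ)),
         ∑ i : Fin (n + 1), rV (F i) * SpinCurv.PolyNodeRing.x R p ^ (i : ℕ)) = 0} =
      (Submodule.span (SpinCurv.PolyNodeRing R (p * q))
        (Set.range (fun i : Fin n =>
            (Pi.single (Fin.castSucc i) (algebraMap R (SpinCurv.PolyNodeRing R (p * q)) p) -
              Pi.single (Fin.succ i) (SpinCurv.PolyNodeRing.x R (p * q)) : Fin (n + 1) → SpinCurv.PolyNodeRing R (p * q))) ∪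
         Set.range (fun i : Fin n =>
            (Pi.single (Fin.castSucc i) (SpinCurv.PolyNodeRing.y R (p * q)) -
              Pi.single (Fin.succ i) (algebraMap R (SpinCurv.PolyNodeRing R (p * q)) q) : Fin (n + 1) → SpinCurv.PolyNodeRing R (p * q)))) :
        Set (Fin (n + 1) → SpinCurv.PolyNodeRing R (p * q))) := by
  exact Groth.Agent.H02CA.PolyNode.range_and_ker p q rU hrUx hrUy rV hrVx hrVy n gU hgUs hgUy gV hgVt hgVx

end Groth.Agent.S18437
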