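import Groth.Statements.S18438
import Groth.Agent.H28RR.Cor

set_option autoImplicit false
universe u
open CategoryTheory CategoryTheory.Limits AlgebraicGeometry TopologicalSpace
open Groth.Agent
open Surf

namespace Groth.Agent.S18438

/-- Let k be an algebraically closed field and X a smooth projective surface over k whose anticanonical
module is ample: X is an integral scheme, proper and smooth over k of dimension 2, W is a canonical
module (a second exterior power of Ω_{X/k}) and D a tensor inverse of W which is ample. Intersection
numbers of invertible modules are (L·M) = χ(O_X) − χ(L) − χ(M) + χ(L ⊗ M), so that for a closed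
subscheme C with ideal I_C one has C·C = (I_C·I_C) and K·C = −(I_C·W). If C ⊆ X is an integral
closed one-dimensional subscheme with C·C < 0, then C is an exceptional curve of the first kind: C·C
= −1, K·C = −1 and H¹(C, O_C) = 0. (The published statement concerns del Pezzo surfaces of degree d
embedded in projective d-space; its argument uses only the ampleness of the anticanonical module,
which is the hypothesis taken here.) -/
theorem result (k : Type u) [Field k] [IsAlgClosed k] (X : Scheme.{u})
    [X.Over (Spec (CommRingCat.of k))] [IsIntegral X] [IsProper (X ↘ (Spec (CommRingCat.of k)))] [Smooth (X ↘ (Spec (CommRingCat.of k)))]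
    (hdim : topologicalKrullDim X = 2)
    (W : X.Modules) (hW : ExtPow.IsExtPow 2 (Omega.sheaf (X ↘ (Spec (CommRingCat.of k)))) W)
    (D : X.Modules) (hD : ClSub.IsInverseOf D W) (hample : CohB1.IsAmple D)
    (C : X.IdealSheafData) (hC : IsIntegral C.subscheme) (hC1 : topologicalKrullDim (C.support : Set X) = 1)
    (hneg : FGA.intNum k X 2 ![ClSub.idealMod C, ClSub.idealMod C] (Coh.structureModule X) < 0) :
    FGA.intNum k X 2 ![ClSub.idealMod C, ClSub.idealMod C] (Coh.structureModule X) = -1 ∧
      FGA.intNum k X 2 ![ClSub.idealMod C, W] (Coh.structureModule X) = 1 ∧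
      Subsingleton (Coh.HH C.subscheme (Coh.structureModule C.subscheme) 1) := by
  have hCu : H28Surf.IsCurve C := ⟨hC, hC1⟩
  have hCe := H28Surf.isEffCartier_curve k hdim hCu
  have hI := H28Surf.isInvertible_ideal k hCe
  have hWi := H28RR.isInvertible_canonical k hdim hW
  have hDi := (H11Ample.isAmple_iff.1 hample).1
  have h1 := H28RR.euler_quot k hdim hW hCe
  have h2 := (H28Surf.euler_le_one k hdim hCu).1
  have h3 := H28RR.ample_deg_pos k hdim hample hCu
  rw [H28RR.degOn_eq_pr k hdim hCu hDi] at h3
  obtain ⟨e⟩ := hD
  have h4 := H28Surf.pr_inv_left k hdim hWi hDi hI (H10Coh.Tw.commIso W D ≪≫ e)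
  rw [H28Surf.pr_symm k D, H28Surf.pr_symm k W] at h4
  rw [H28Surf.intNum_eq_pr k hdim hI hI] at hneg ⊢
  rw [H28Surf.intNum_eq_pr k hdim hI hWi, H28RR.subsingleton_h1_iff k hdim hCu]
  omega

end Groth.Agent.S18438
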