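import Groth.Statements.S1844
import Groth.Agent.H25AbCube.Formula
import Groth.Agent.H25AbCube.Degree

set_option autoImplicit false
set_option maxHeartbeats 1000000
set_option synthInstance.maxHeartbeats 100000
set_option linter.style.haveILetI false
set_option backward.isDefEq.respectTransparency false
universe u v
open CategoryTheory MonoidalCategory CartesianMonoidalCategory MonObj GrpObj AlgebraicGeometry
open GrpSch

namespace Groth.Agent.S1844

/-- Let A be an abelian variety over a field, L an invertible O_A-module and n ≥ 1. Then [n]^*L is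
isomorphic to L^{⊗ n(n+1)/2} ⊗ ([-1]^*L)^{⊗ n(n-1)/2}, where [n] is multiplication by n and [-1] the
inversion of A. -/
theorem result (K : Type u) [Field K] (A : Over (Spec (CommRingCat.of K))) [GrpObj A] [IsProper A.hom] [GeometricallyIntegral A.hom] (L : A.left.Modules) (hL : PicF.IsInvertible L) (n : ℕ) (hn : 1 ≤ n) : Nonempty ((Scheme.Modules.pullback (𝟙 A ^ n).left).obj L ≅ CohB1.tensorMod (CohB1.tensorPow L (n * (n + 1) / 2)) (CohB1.tensorPow ((Scheme.Modules.pullback ((𝟙 A)⁻¹).left).obj L) (n * (n - 1) / 2))) := by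
  haveI := hL
  have hi := H11Ample.isInvertible_pullback ((𝟙 A)⁻¹ : A ⟶ A).left hL
  obtain ⟨h1, e1⟩ := H25AbCube.exists_pc_tensorPow hL (n * (n + 1) / 2)
  obtain ⟨h2, e2⟩ := H25AbCube.exists_pc_tensorPow hi (n * (n - 1) / 2)
  refine (H25AbCube.pc_eq_iff (H11Ample.isInvertible_pullback _ hL) (H11Ample.isInvertible_tensor h1 h2)).1 ?_
  rw [H25AbCube.pullP_pc _ L hL, H25AbCube.pc_tensor h1 h2, e1, e2, H25AbCube.pullP_pc _ L hL hi]
  refine (H25AbCube.ev_pow (H25AbCube.pc L hL) n).trans ?_
  have hc1 : n * (n + 1) / 2 = n + n.choose 2 := by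
    obtain ⟨m, rfl⟩ : ∃ m, n = m + 1 := ⟨n - 1, by omega⟩
    rw [Nat.choose_two_right, Nat.add_sub_cancel,
      show (m + 1) * (m + 1 + 1) = (m + 1) * m + (m + 1) * 2 by ring, Nat.add_mul_div_right _ _ (by norm_num)]
    omega
  rw [hc1, ← Nat.choose_two_right, add_smul, smul_add, add_assoc]
  rfl

end Groth.Agent.S1844
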