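import Groth.Statements.S18440
import Groth.Agent.H28RR.Sect

set_option autoImplicit false
universe u
open CategoryTheory CategoryTheory.Limits AlgebraicGeometry TopologicalSpace
open Groth.Agent
open Surf

namespace Groth.Agent.S18440

/-- Let k be an algebraically closed field and X a smooth projective surface over k (an integral scheme,
proper and smooth over k of dimension 2) with H¹(X, O_X) = 0, and W a canonical module of X (a
second exterior power of Ω_{X/k}). Let C ⊆ X be an integral closed one-dimensional subscheme, smooth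
over k, of arithmetic genus one, written χ(O_C) = 0 with the Euler characteristic of O_C computed on
X through the closed immersion (k being algebraically closed and C integral, H⁰(C, O_C) = k, so this
says dim_k H¹(C, O_C) = 1), whose module O_X(C) — a tensor inverse N of the ideal I_C — is ample.
Then W ≅ I_C, that is ω_X ≅ O_X(−C) (existence of an isomorphism of invertible modules). (The
published statement is that a smooth del Pezzo surface of degree d embedded in projective d-space
has canonical module O_X(−1); its argument takes C a general hyperplane section and uses about the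
embedding only that C is a smooth curve of genus one and that H¹(X, O_X) vanishes, facts it draws
from results quoted without proof; those two properties are the hypotheses here.) -/
theorem result (k : Type u) [Field k] [IsAlgClosed k] (X : Scheme.{u})
    [X.Over (Spec (CommRingCat.of k))] [IsIntegral X] [IsProper (X ↘ (Spec (CommRingCat.of k)))] [Smooth (X ↘ (Spec (CommRingCat.of k)))]
    (hdim : topologicalKrullDim X = 2)
    (W : X.Modules) (hW : ExtPow.IsExtPow 2 (Omega.sheaf (X ↘ (Spec (CommRingCat.of k)))) W)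
    (hq : Subsingleton (Coh.HH X (Coh.structureModule X) 1))
    (C : X.IdealSheafData) (hC : IsIntegral C.subscheme) (hC1 : topologicalKrullDim (C.support : Set X) = 1)
    (hCs : Smooth (C.subschemeι ≫ (X ↘ (Spec (CommRingCat.of k)))))
    (hg : Curv2.euler k X (ClSub.quotMod C) = 0)
    (N : X.Modules) (hN : ClSub.IsInverseOf N (ClSub.idealMod C)) (hNample : CohB1.IsAmple N) :
    Nonempty (W ≅ ClSub.idealMod C) := by
  let f := X ↘ Spec (CommRingCat.of k)
  haveI := hCs
  haveI := hC
  letI : C.subscheme.Over (Spec (CommRingCat.of k)) := ⟨C.subschemeι ≫ f⟩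
  haveI : IsProper (C.subscheme ↘ Spec (CommRingCat.of k)) := show IsProper (C.subschemeι ≫ _) from inferInstance
  haveI : Smooth (C.subscheme ↘ Spec (CommRingCat.of k)) := hCs
  haveI := H28Int.isNoetherian k (X := X)
  haveI := H28Int.isNoetherian k (X := C.subscheme)
  have hCu : H28Surf.IsCurve C := ⟨hC, hC1⟩
  have hCd : topologicalKrullDim C.subscheme = 1 := (H28Surf.dim_subscheme C).trans hC1
  have hCe := H28Surf.isEffCartier_curve k hdim hCu
  have hWi := H28RR.isInvertible_canonical k hdim hW
  have hI := H28Surf.isInvertible_ideal k hCe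
  have hO := H28Int.isInvertible_structureModule X
  obtain ⟨eN⟩ := hN
  have hNi : PicF.IsInvertible N := (H11Ample.isAmple_iff.1 hNample).1
  let I := ClSub.idealMod C
  let P := CohB1.tensorMod W N
  have hP : PicF.IsInvertible P := H11Ample.isInvertible_tensor hWi hNi
  let i := C.subschemeι
  let pb := Scheme.Modules.pullback i
  -- `h¹(W) = h¹(O) = 0`
  obtain ⟨W', hW', ⟨eW₀⟩⟩ := H11Sym.exists_inverse hWi
  let eW := H10Coh.Tw.commIso W W' ≪≫ eW₀
  have hrr := H28RR.riemann_roch' k hdim hW hWi
  rw [sub_self, zero_add, H28RR.euler_eq_three k hdim (H11Ample.isCoh_of_isInvertible hWi),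
    H28RR.euler_eq_three k hdim (H10Coh.isCoh_structureModule' X),
    H28RR.finrank_h2 k hdim hW hWi hW' eW, H22Alg.CurveAmple.finrank_HH_congr (k := k) eW 0,
    H28RR.finrank_h2 k hdim hW hO hO (H10Coh.Tw.leftUnitIso _),
    H22Alg.CurveAmple.finrank_HH_congr (k := k) (H10Coh.Tw.rightUnitIso W) 0,
    Module.finrank_zero_of_subsingleton (R := k) (M := Coh.HH X (Coh.structureModule X) 1)] at hrr
  haveI := H10Coh.finite_HH_proper k X W (H11Ample.isCoh_of_isInvertible hWi) 1
  have hW1 : Subsingleton (Coh.HH X W 1) := (Module.finrank_zero_iff (R := k)).1 (by omega)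
  haveI := H10Coh.epi_toSubscheme C
  let S := H10Coh.Tw.seq (ShortComplex.mk _ (ClSub.toSubscheme C) (kernel.condition _)) hP
  have hS : S.ShortExact := H10Coh.Tw.shortExact_seq (H10Coh.shortExact_kernel (ClSub.toSubscheme C)) hP
  let e₁ : S.X₁ ≅ W :=
    H10Coh.Tw.commIso _ P ≪≫ H10Coh.Tw.assoc W N I ≪≫ PicGrp.tensorModIso (Iso.refl W) eN ≪≫ H10Coh.Tw.rightUnitIso W
  let e₂ : S.X₂ ≅ P := H10Coh.Tw.leftUnitIso P
  have hsur : Function.Surjective (Canon.HHlin k S.g 0) :=
    H29Serre.surjective_lin hS ((H29RR.hhIso (k := k) e₁ 1).toEquiv.subsingleton)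
  haveI : Module.Finite k (Coh.HH X S.X₂ 0) := by
    haveI := H10Coh.finite_HH_proper k X P (H11Ample.isCoh_of_isInvertible hP) 0
    exact Module.Finite.equiv (H29RR.hhIso (k := k) e₂ 0).symm
  have hle := LinearMap.finrank_range_le (Canon.HHlin k S.g 0)
  rw [LinearMap.range_eq_top.2 hsur, finrank_top, H22Alg.CurveAmple.finrank_HH_congr (k := k) e₂ 0] at hle
  obtain ⟨adj⟩ := H28RR.nonempty_omega_curve k hdim hW i hCd
  let eC : pb.obj P ≅ Omega.sheaf (i ≫ f) :=
    (H16Derived.KFlat.Stalk.pullTensorLIso i N).app W ≪≫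
      PicGrp.tensorModIso (adj ≪≫ H10Coh.Tw.commIso _ _) (Iso.refl _) ≪≫ H10Coh.Tw.assoc _ _ _ ≪≫
      PicGrp.tensorModIso (Iso.refl _) (PicGrp.tensorModIso (eqToIso (show Omega.conormal i = pb.obj I by
          show pb.obj (ClSub.idealMod i.ker) = _
          rw [C.ker_subschemeι])) (Iso.refl _) ≪≫
        H10Coh.Tw.commIso _ _ ≪≫ ((H16Derived.KFlat.Stalk.pullTensorLIso i I).app N).symm ≪≫ pb.mapIso eN ≪≫
        H16Derived.KFlat.Stalk.structurePullbackIso i) ≪≫ H10Coh.Tw.rightUnitIso _
  have hgen : Curv2.genus k C.subscheme = 1 := by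
    haveI : (Coh.structureModule C.subscheme).IsQuasicoherent := H10Coh.isQuasicoherent_unit
    rw [show ClSub.quotMod C = (Coh.push i).obj (Coh.structureModule C.subscheme) from rfl,
      H28Int.Push.euler_push k i rfl, H29RR.euler_eq_sub (k := k) (X := C.subscheme) hCd.le,
      S19352.finrank_structure k C.subscheme] at hg
    show Module.finrank k _ = 1
    omega
  have hX₃ : Module.finrank k (Coh.HH X S.X₃ 0) = 1 := by
    show Module.finrank k (Coh.HH X (CohB1.tensorMod (ClSub.quotMod C) P) 0) = 1
    rw [H28Surf.finrank_quot_tensor k hCu hP 0, H22Alg.CurveAmple.finrank_HH_congr (k := k) eC 0, ← hgen]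
    exact H29CurveDual.finrank_h1_structure (k := k) (X := C.subscheme) hCd
  rcases H28RR.iso_structure_or_pos k hdim hNample hP
      (Module.nontrivial_of_finrank_pos (R := k) (by omega)) with ⟨⟨eP⟩⟩ | hpos
  · exact ⟨(H10Coh.Tw.rightUnitIso W).symm ≪≫ PicGrp.tensorModIso (Iso.refl W) eN.symm ≪≫
      (H10Coh.Tw.assoc W N I).symm ≪≫ PicGrp.tensorModIso eP (Iso.refl I) ≪≫ H10Coh.Tw.leftUnitIso I⟩
  · exfalso
    have h1 := H28RR.euler_quot k hdim hW hCe
    rw [hg] at h1
    have eN' : CohB1.tensorMod I N ≅ Coh.structureModule X := H10Coh.Tw.commIso I N ≪≫ eN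
    rw [H28Surf.pr_tensor_left k hdim hWi hNi hNi, H28Surf.pr_symm k W N,
      H28Surf.pr_inv_left k hdim hI hNi hWi eN', H28Surf.pr_inv_left k hdim hI hNi hNi eN', H28Surf.pr_symm k I N,
      H28Surf.pr_inv_left k hdim hI hNi hI eN', neg_neg] at hpos
    omega

end Groth.Agent.S18440
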