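import Groth.Statements.S18442
import Groth.Agent.H17.ConormalSum.CI
import Groth.Agent.H17.FLI.Adjunction
import Groth.Agent.H17.FLI.ProjTop
import Groth.Agent.H17.Canon.Indep
import Groth.Agent.H27CurveDiv.RelDim
import Groth.Agent.H13CI.ExcSmooth
-- import your own Groth.Agent.* helpers here

set_option autoImplicit false
universe u
open CategoryTheory CategoryTheory.Limits AlgebraicGeometry TopologicalSpace
open Surf

namespace Groth.Agent.S18442

/-- Let k be an algebraically closed field and X ⊆ P⁴_k a smooth surface which is the complete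
intersection of two quadrics: X is an integral scheme, smooth over k of dimension 2, with a closed
immersion ι : X → P⁴_k over k whose kernel ideal sheaf is the ideal sheaf generated by two quadratic
forms G_0, G_1. Then a canonical module W of X (a second exterior power of Ω_{X/k}) is isomorphic to
ι^*O(−1) (existence of an isomorphism), so its tensor inverse ι^*O(1) is ample and X is a del Pezzo
surface. -/
theorem result (k : Type u) [Field k] [IsAlgClosed k] (X : Scheme.{u})
    [X.Over (Spec (CommRingCat.of k))] [IsIntegral X] [Smooth (X ↘ (Spec (CommRingCat.of k)))] (hdim : topologicalKrullDim X = 2)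
    (ι : X ⟶ CohB1.ProjSpace 4 k) [IsClosedImmersion ι] (hι : ι ≫ CohB1.ProjSpace.toSpec 4 k = X ↘ (Spec (CommRingCat.of k)))
    (G : Fin 2 → LefPen.Form 4 k 2) (hker : ι.ker = LefPen.ciIdeal G)
    (W : X.Modules) (hW : ExtPow.IsExtPow 2 (Omega.sheaf (X ↘ (Spec (CommRingCat.of k)))) W) :
    Nonempty (W ≅ (Scheme.Modules.pullback ι).obj (Twist.twistProjSpace 4 k (-1))) := by
  let g := CohB1.ProjSpace.toSpec 4 k
  let f := X ↘ Spec (CommRingCat.of k)
  haveI : IsIntegral (CohB1.ProjSpace 4 k) := LeadPic.PnRel.isIntegral_projSpace (n := 4) k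
  haveI : SmoothOfRelativeDimension 4 g := H3CAlg.DiagRegular.smoothOfRelativeDimension _ 4 (S10829.result k 4)
  haveI : SmoothOfRelativeDimension 2 f := H27CurveDiv.smoothOfRelativeDimension_of_dim f 2 hdim
  haveI : QuasiSeparated g := inferInstance
  haveI : QuasiSeparated f := by rw [show f = ι ≫ g from hι.symm]; infer_instance
  obtain ⟨ε, hε⟩ := H13CI.ExcSmooth.exists_iso_of_ker_eq ι (LefPen.ciIdeal G).subschemeι
    (by rw [hker, Scheme.IdealSheafData.ker_subschemeι])
  have hd : topologicalKrullDim ↥(LefPen.ciIdeal G).subscheme ≤ ((4 - 2 : ℕ) : WithBot ℕ∞) := by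
    rw [← IsHomeomorph.topologicalKrullDim_eq _ (Scheme.homeoOfIso ε).isHomeomorph, hdim]
    exact le_rfl
  obtain ⟨e⟩ := H17.ConormalSum.nonempty_conormal_ci (k := k) (n := 4) (by norm_num) (fun _ => by norm_num) G hd
  obtain ⟨ΩP, hΩP⟩ := H22Alg.ExtPowSheaf.exists_isExtPow 4 (H29Omega.isQCoh_sheaf g)
  obtain ⟨L, hL⟩ := H22Alg.ExtPowSheaf.exists_isExtPow (4 - 2) (H17.CanonSm.isQCoh_conormal' ι)
  obtain ⟨hreg, hrk, -⟩ := H17.FLI.regImm_of_smooth g f ι hι 4 2
  obtain ⟨a⟩ := H17.FLI.nonempty_adjunction_iso g f ι hι 4 2 hΩP hW hL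
  obtain ⟨t⟩ := H17.FLI.nonempty_topForms_projSpace_iso (k := k) 4 hΩP
  -- the conormal sheaf of `ι`
  let T := Twist.twistProjSpace 4 k (-2)
  let P := (Scheme.Modules.pullback ι).obj T
  have hT : PicF.IsInvertible T := H22Alg.RegSheaf.isInvertible_twistProjSpace 4 k _
  have hC : Nonempty (Omega.conormal ι ≅ ∐ fun _ : Fin 2 => P) := by
    let π := Scheme.Modules.pullback ε.hom
    let c : Omega.conormal ι ≅ π.obj (Omega.conormal (LefPen.ciIdeal G).subschemeι) :=
      (Scheme.Modules.pullback ι).mapIso (eqToIso (congrArg ClSub.idealMod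
        (hker.trans (Scheme.IdealSheafData.ker_subschemeι (LefPen.ciIdeal G)).symm))) ≪≫
        ((Scheme.Modules.pullbackComp ε.hom (LefPen.ciIdeal G).subschemeι).app _ ≪≫
          (Scheme.Modules.pullbackCongr hε).app _).symm
    exact ⟨c ≪≫ π.mapIso e ≪≫ PreservesCoproduct.iso π _ ≪≫ Sigma.mapIso fun _ =>
      (Scheme.Modules.pullbackComp ε.hom (LefPen.ciIdeal G).subschemeι).app _ ≪≫
        (Scheme.Modules.pullbackCongr hε).app _⟩
  obtain ⟨eC⟩ := hC
  have hP : PicF.IsInvertible P := H11Ample.isInvertible_pullback ι hT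
  obtain ⟨d⟩ := H17.FLI.nonempty_det_copies hP 2 (H22Alg.ExtPowSES.isExtPow_of_iso eC hL)
  -- bookkeeping of twists
  obtain ⟨t22⟩ := H11Tilde.nonempty_twist_tensor_iso (CohB1.polyGrading 4 k) (H17.PnExt.degOne 4 k) (-2) (-2) (-4) (by norm_num)
  obtain ⟨t41⟩ := H11Tilde.nonempty_twist_tensor_iso (CohB1.polyGrading 4 k) (H17.PnExt.degOne 4 k) (-4) (-1) (-5) (by norm_num)
  let F := Scheme.Modules.pullback ι
  let eL : L ≅ F.obj (Twist.twistProjSpace 4 k (-4)) := d ≪≫ PicGrp.tensorModIso (H10Coh.Tw.leftUnitIso P) (Iso.refl P) ≪≫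
    (H25Theta.pT ι T T).symm ≪≫ F.mapIso t22
  let eA : CohB1.tensorMod (F.obj (Twist.twistProjSpace 4 k (-4))) W ≅
      CohB1.tensorMod (F.obj (Twist.twistProjSpace 4 k (-4))) (F.obj (Twist.twistProjSpace 4 k (-1))) :=
    PicGrp.tensorModIso eL.symm (Iso.refl W) ≪≫ a ≪≫ F.mapIso t ≪≫
      F.mapIso (eqToIso (show Twist.twistProjSpace 4 k (-((4 : ℕ) + 1 : ℤ)) = Twist.twistProjSpace 4 k (-5) by norm_num)) ≪≫
      F.mapIso t41.symm ≪≫ H25Theta.pT ι _ _
  exact H17.CanonSm.nonempty_iso_of_tensor_iso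
    (H11Ample.isInvertible_pullback ι (H22Alg.RegSheaf.isInvertible_twistProjSpace 4 k (-4)))
    (H10Coh.Tw.commIso _ _ ≪≫ eA ≪≫ H10Coh.Tw.commIso _ _)

end Groth.Agent.S18442
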