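import Groth.Statements.S18449
import Groth.Agent.H28Surf.Artin

set_option autoImplicit false
universe u
open CategoryTheory CategoryTheory.Limits AlgebraicGeometry TopologicalSpace
open Surf

namespace Groth.Agent.S18449

/-- Let k be an algebraically closed field of characteristic zero and X a smooth projective surface over
k (an integral scheme, proper and smooth over k, of dimension 2). Let Z be a nonzero effective
Cartier divisor on X, given by its ideal sheaf I_Z ≠ O_X, and consider the nonzero effective Cartier
divisors Z' ≤ Z, i.e. those with I_Z = I_{Z'} · J for some effective Cartier ideal J. Then H¹(Z',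
O_{Z'}) = 0 for every such Z' if and only if χ(O_{Z'}) ≥ 1, i.e. the arithmetic genus 1 − χ(O_{Z'})
is at most 0, for every such Z'; here cohomology and Euler characteristics are computed on X through
the direct image of O_{Z'}. The published statement is about the cycles supported on the exceptional
curves of a resolution of a normal surface singularity over the complex numbers, where the first
condition is rationality of the singularity; this row states the equivalence, which the printed
induction proves using only adjunction and the sub-divisors of the given cycle, for the sub-divisors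
of one effective divisor. -/
theorem result (k : Type u) [Field k] [IsAlgClosed k] [CharZero k]
    (X : Scheme.{u}) [X.Over (Spec (CommRingCat.of k))] [IsProper (X ↘ (Spec (CommRingCat.of k)))]
    [Smooth (X ↘ (Spec (CommRingCat.of k)))] [IsIntegral X] (hdim : topologicalKrullDim X = 2)
    (Z : X.IdealSheafData) (hZ : FGA.IsEffCartier Z) (hZ0 : Z ≠ ⊤) :
    (∀ Z' J : X.IdealSheafData, FGA.IsEffCartier Z' → FGA.IsEffCartier J → Z' ≠ ⊤ → Z = Z' * J →
        Subsingleton (Coh.HH X (ClSub.quotMod Z') 1)) ↔
      (∀ Z' J : X.IdealSheafData, FGA.IsEffCartier Z' → FGA.IsEffCartier J → Z' ≠ ⊤ → Z = Z' * J →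
        1 ≤ Curv2.euler k X (ClSub.quotMod Z')) := by
  have h0 : ∀ Z' : X.IdealSheafData, FGA.IsEffCartier Z' → Z' ≠ ⊤ →
      Curv2.euler k X (ClSub.quotMod Z') = (Module.finrank k (Coh.HH X (ClSub.quotMod Z') 0) : ℤ) -
        Module.finrank k (Coh.HH X (ClSub.quotMod Z') 1) ∧ 1 ≤ Module.finrank k (Coh.HH X (ClSub.quotMod Z') 0) := by
    intro Z' hZ' hne
    obtain ⟨M, hM, rfl⟩ := H28Surf.exists_multiset k hdim Z' hZ'
    obtain ⟨C, hC⟩ := Multiset.exists_mem_of_ne_zero (H28Surf.ne_zero_of_ne_top k hne)
    obtain ⟨x, hx⟩ := H28Surf.IsCurve.nonempty k (hM C hC)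
    exact ⟨H28Surf.euler_eq_sub' k hdim hZ' (H28Surf.isCoh_quot k _) (H28Surf.support_quot k _).subset,
      H28Surf.one_le_finrank_zero k hdim ⟨x, (H28Surf.mem_support_prod k).2 ⟨C, hC, hx⟩⟩⟩
  haveI := H28Int.isNoetherian k (X := X)
  constructor
  · intro h Z' J hZ' hJ hne hZJ
    obtain ⟨he, h1⟩ := h0 Z' hZ' hne
    have := @Module.finrank_zero_of_subsingleton k _ _ _ _ _ (h Z' J hZ' hJ hne hZJ)
    omega
  · intro h Z' J hZ' hJ hne hZJ
    classical
    obtain ⟨M, hM, rfl⟩ := H28Surf.exists_multiset k hdim Z' hZ'
    refine H28Surf.subsingleton_one_of_euler k hdim _ M rfl hM fun N hN hN0 => ?_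
    have hNc : ∀ C ∈ N, H28Surf.IsCurve C := fun C hC => hM C (Multiset.mem_of_le hN hC)
    have hR : ∀ C ∈ M - N, H28Surf.IsCurve C := fun C hC => hM C (Multiset.mem_of_le (Multiset.sub_le_self _ _) hC)
    refine h N.prod ((M - N).prod * J) (H28Surf.isEffCartier_prod k hdim N hNc)
      (H28Vert.isEffCartierIdeal_mul (H28Surf.isEffCartier_prod k hdim _ hR) hJ) (H28Surf.prod_ne_top k hNc hN0) ?_
    rw [hZJ, ← mul_assoc, ← Multiset.prod_add, add_tsub_cancel_of_le hN]

end Groth.Agent.S18449
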