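import Groth.Statements.S18451
import Groth.Agent.H28Surf.CurveInter

set_option autoImplicit false
universe u
open CategoryTheory CategoryTheory.Limits AlgebraicGeometry TopologicalSpace
open Surf

namespace Groth.Agent.S18451

/-- Let k be an algebraically closed field of characteristic zero and X a smooth projective surface over
k (integral, proper and smooth over k, of dimension 2, carrying an ample invertible module). Let
C_1, …, C_r be pairwise distinct integral curves on X (integral closed one-dimensional subschemes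
with ideal sheaves I_1, …, I_r) and write G_{ij} = (I_i·I_j) = χ(O_X) − χ(I_i) − χ(I_j) + χ(I_i ⊗
I_j) for their intersection matrix. Suppose the classes of the C_i span a negative definite
sublattice modulo numerical equivalence: for every integer vector a such that Σ_i a_i [C_i] is
numerically nontrivial, meaning that Σ_i a_i (I_i·M) ≠ 0 for some invertible O_X-module M, one has
Σ_{i,j} a_i a_j G_{ij} < 0. Then the classes are linearly independent, i.e. G itself is negative
definite: Σ_{i,j} a_i a_j G_{ij} < 0 for every nonzero integer vector a. -/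
theorem result (k : Type u) [Field k] [IsAlgClosed k] [CharZero k]
    (X : Scheme.{u}) [X.Over (Spec (CommRingCat.of k))] [IsProper (X ↘ (Spec (CommRingCat.of k)))]
    [Smooth (X ↘ (Spec (CommRingCat.of k)))] [IsIntegral X] (hdim : topologicalKrullDim X = 2)
    (hproj : ∃ H : X.Modules, CohB1.IsAmple H)
    (r : ℕ) (C : Fin r → X.IdealSheafData) (hC : Function.Injective C)
    (hCi : ∀ i, IsIntegral (C i).subscheme) (hCd : ∀ i, topologicalKrullDim ((C i).support : Set X) = 1)
    (hneg : ∀ a : Fin r → ℤ,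
      (∃ M : X.Modules, PicF.IsInvertible M ∧
        ∑ i, a i * FGA.intNum k X 2 ![(ClSub.idealMod (C i)), M] (Coh.structureModule X) ≠ 0) →
      ∑ i, ∑ j, a i * a j * FGA.intNum k X 2 ![(ClSub.idealMod (C i)), (ClSub.idealMod (C j))] (Coh.structureModule X) < 0) :
    ∀ a : Fin r → ℤ, a ≠ 0 →
      ∑ i, ∑ j, a i * a j * FGA.intNum k X 2 ![(ClSub.idealMod (C i)), (ClSub.idealMod (C j))] (Coh.structureModule X) < 0 := by
  classical
  obtain ⟨H, hH⟩ := hproj
  obtain ⟨H', -, ⟨e'⟩⟩ := H11Sym.exists_inverse hH.1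
  let eH := H10Coh.Tw.commIso H H' ≪≫ e'
  have hH' : PicF.IsInvertible H' := H17.InvertibleTensor.isInvertible_of_tensor_iso H' H e'
  have hd2 : topologicalKrullDim X ≤ ((2 : ℕ) : WithBot ℕ∞) := hdim.le
  haveI := hCi
  have hCinv : ∀ i, PicF.IsInvertible (ClSub.idealMod (C i)) := fun i =>
    H28Surf.isInvertible_idealMod k hdim (C i) (hCd i)
  let M : Fin r → Fin r → ℤ := fun i j =>
    FGA.intNum k X 2 ![(ClSub.idealMod (C i)), (ClSub.idealMod (C j))] (Coh.structureModule X)
  have hoff : ∀ i j, i ≠ j → 0 ≤ M i j := fun i j hij => by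
    show 0 ≤ FGA.intNum k X 2 _ _
    rw [H28Surf.intNum_idealMod k hd2 (C i) (hCinv i) (hCinv j)]
    exact H28Surf.D_idealMod_nonneg k (C i).subschemeι ((H28Surf.dim_subscheme (C i)).trans (hCd i)).le (C j) (hCinv j)
      (H28Surf.genericPoint_notMem_support (hCd i) (hCd j) fun h => hij (hC h))
  have hpos : ∀ i, 0 < FGA.intNum k X 2 ![(ClSub.idealMod (C i)), H'] (Coh.structureModule X) := fun i => by
    rw [H28Surf.intNum_idealMod k hd2 (C i) (hCinv i) hH']
    haveI := H28Int.isNoetherian k (X := X)
    have hQ : Coh.IsCoh (ClSub.quotMod (C i)) := LeadDev.isCoh_push_structure (C i).subschemeι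
    have hsupp : CohB1.support (ClSub.quotMod (C i)) = Set.range (C i).subschemeι :=
      H28Int.support_push_structure_eq (C i).subschemeι
    have hdS : topologicalKrullDim (Set.range (C i).subschemeι) = 1 := by
      rw [Scheme.IdealSheafData.range_subschemeι]; exact hCd i
    refine (H28Surf.D_ample_pos k hH eH _ hQ (by rw [hsupp]; exact hdS.le)).2
      ⟨(C i).subschemeι (genericPoint (C i).subscheme), hsupp ▸ ⟨_, rfl⟩, ?_⟩
    rw [H8Props.FieldDim.cdim, ← LeadDev.range_eq_closure (C i).subschemeι rfl, hdS]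
    rfl
  intro a ha
  by_cases hnum : ∃ N : X.Modules, PicF.IsInvertible N ∧
      ∑ i, a i * FGA.intNum k X 2 ![(ClSub.idealMod (C i)), N] (Coh.structureModule X) ≠ 0
  · exact hneg a hnum
  exfalso
  push Not at hnum
  let P : Fin r → ℤ := fun i => a i ⊔ 0
  let N : Fin r → ℤ := fun i => -a i ⊔ 0
  have hPN : ∀ i, P i - N i = a i := fun i => by
    show (a i ⊔ 0) - (-a i ⊔ 0) = a i
    rcases le_total (a i) 0 with h | h
    · rw [max_eq_right h, max_eq_left (neg_nonneg.2 h)]; omega
    · rw [max_eq_left h, max_eq_right (neg_nonpos.2 h)]; omega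
  have hzero : ∑ i, P i * FGA.intNum k X 2 ![(ClSub.idealMod (C i)), H'] (Coh.structureModule X) =
      ∑ i, N i * FGA.intNum k X 2 ![(ClSub.idealMod (C i)), H'] (Coh.structureModule X) := by
    rw [← sub_eq_zero, ← Finset.sum_sub_distrib]
    simp only [← sub_mul, hPN]
    exact hnum H' hH'
  have hN0 : 0 ≤ ∑ i, N i * FGA.intNum k X 2 ![(ClSub.idealMod (C i)), H'] (Coh.structureModule X) :=
    Finset.sum_nonneg fun i _ => mul_nonneg (le_max_right _ _) (hpos i).le
  by_cases hP : ∀ i, P i = 0
  · have hN : ∀ i, N i = 0 := fun i => by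
      have h0 : ∑ i, N i * FGA.intNum k X 2 ![(ClSub.idealMod (C i)), H'] (Coh.structureModule X) = 0 := by
        rw [← hzero]; simp [hP]
      have := (Finset.sum_eq_zero_iff_of_nonneg fun i _ => mul_nonneg (le_max_right _ _) (hpos i).le).1 h0 i
        (Finset.mem_univ _)
      exact (mul_eq_zero.1 this).resolve_right (hpos i).ne'
    exact ha (funext fun i => by rw [← hPN i, hP i, hN i]; rfl)
  push Not at hP
  obtain ⟨i₀, hi₀⟩ := hP
  have hPneg := hneg P ⟨H', hH', ?_⟩
  · have hsp := H28Surf.quad_split M a P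
    have hoff' := (H28Surf.pos_part_cases M hoff a).2
    have h0 : ∑ j, P j * ∑ i, a i * M i j = 0 := Finset.sum_eq_zero fun j _ => by
      rw [show ∑ i, a i * M i j = 0 from hnum _ (hCinv j), mul_zero]
    rw [h0] at hsp
    change 0 = (∑ i, ∑ j, P i * P j * M i j) - (∑ i, ∑ j, N i * P j * M i j) at hsp
    change ∑ i, ∑ j, P i * P j * M i j < 0 at hPneg
    change 0 ≤ ∑ i, ∑ j, N i * P j * M i j at hoff'
    omega
  · refine ne_of_gt (Finset.sum_pos' (fun i _ => mul_nonneg (le_max_right _ _) (hpos i).le)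
      ⟨i₀, Finset.mem_univ _, mul_pos ?_ (hpos i₀)⟩)
    exact lt_of_le_of_ne (le_max_right _ _) (Ne.symm hi₀)

end Groth.Agent.S18451
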