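import Groth.Statements.S18454
import Groth.Agent.H28Surf.Laufer
import Groth.Agent.H28Vert.PicVert

set_option autoImplicit false
universe u
open CategoryTheory CategoryTheory.Limits AlgebraicGeometry TopologicalSpace
open Surf

namespace Groth.Agent.S18454

/-- Let k be an algebraically closed field of characteristic zero and X a smooth projective surface over
k (integral, proper and smooth over k, of dimension 2). Let C_1, …, C_r (r ≥ 1) be pairwise distinct
integral curves on X, with ideal sheaves I_i, forming a connected configuration whose intersection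
matrix is negative definite: writing (A·B) = χ(O_X) − χ(A) − χ(B) + χ(A ⊗ B), there is no partition
of the indices into two nonempty sets with (I_i·I_j) = 0 for all i, j on opposite sides, and Σ_{i,j}
a_i a_j (I_i·I_j) < 0 for every nonzero integer vector a. Let Z₀ be a fundamental cycle of the
configuration: a nonzero effective Cartier divisor supported on ⋃ C_i such that Z₀·C_i ≤ 0 for every
i, stated as deg(I_{Z₀}|_{C_i}) = χ(O_{C_i} ⊗ I_{Z₀}) − χ(O_{C_i}) ≥ 0, and such that every nonzero
effective Cartier divisor Z supported on ⋃ C_i with the same property satisfies Z ≥ Z₀ (I_Z ⊆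
I_{Z₀}). Then H¹(Z, O_Z) = 0 for every nonzero effective Cartier divisor Z supported on ⋃ C_i if and
only if χ(O_{Z₀}) = 1, i.e. the arithmetic genus of Z₀ is 0; cohomology and Euler characteristics
are computed on X through direct images. The published statement characterises rationality of the
normal surface singularity obtained by contracting the configuration over the complex numbers; this
row uses the equivalent condition that H¹(O_Z) = 0 for every nonzero effective divisor Z supported
on the configuration, which is what the printed algebraic argument establishes. -/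
theorem result (k : Type u) [Field k] [IsAlgClosed k] [CharZero k]
    (X : Scheme.{u}) [X.Over (Spec (CommRingCat.of k))] [IsProper (X ↘ (Spec (CommRingCat.of k)))]
    [Smooth (X ↘ (Spec (CommRingCat.of k)))] [IsIntegral X] (hdim : topologicalKrullDim X = 2)
    (r : ℕ) (hr : 0 < r) (C : Fin r → X.IdealSheafData) (hC : Function.Injective C)
    (hCi : ∀ i, IsIntegral (C i).subscheme) (hCd : ∀ i, topologicalKrullDim ((C i).support : Set X) = 1)
    (hconn : ∀ S : Finset (Fin r), S.Nonempty → Sᶜ.Nonempty →
      ∃ i ∈ S, ∃ j ∈ Sᶜ, FGA.intNum k X 2 ![(ClSub.idealMod (C i)), (ClSub.idealMod (C j))] (Coh.structureModule X) ≠ 0)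
    (hneg : ∀ a : Fin r → ℤ, a ≠ 0 →
      ∑ i, ∑ j, a i * a j * FGA.intNum k X 2 ![(ClSub.idealMod (C i)), (ClSub.idealMod (C j))] (Coh.structureModule X) < 0)
    (Z₀ : X.IdealSheafData) (hZ₀ : FGA.IsEffCartier Z₀) (hZ₀0 : Z₀ ≠ ⊤)
    (hZ₀s : (Z₀.support : Set X) ⊆ ⋃ i, ((C i).support : Set X))
    (hZ₀C : ∀ i, 0 ≤ Curv2.euler k X (CohB1.tensorMod (ClSub.quotMod (C i)) (ClSub.idealMod Z₀)) -
      Curv2.euler k X (ClSub.quotMod (C i)))
    (hZ₀min : ∀ Z : X.IdealSheafData, FGA.IsEffCartier Z → Z ≠ ⊤ → (Z.support : Set X) ⊆ ⋃ i, ((C i).support : Set X) →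
      (∀ i, 0 ≤ Curv2.euler k X (CohB1.tensorMod (ClSub.quotMod (C i)) (ClSub.idealMod Z)) -
        Curv2.euler k X (ClSub.quotMod (C i))) → Z ≤ Z₀) :
    (∀ Z : X.IdealSheafData, FGA.IsEffCartier Z → Z ≠ ⊤ → (Z.support : Set X) ⊆ ⋃ i, ((C i).support : Set X) →
        Subsingleton (Coh.HH X (ClSub.quotMod Z) 1)) ↔
      Curv2.euler k X (ClSub.quotMod Z₀) = 1 := by
  classical
  obtain ⟨M, hM, rfl⟩ := H28Surf.exists_multiset k hdim Z₀ hZ₀
  have hCc : ∀ i, H28Surf.IsCurve (C i) := fun i => ⟨hCi i, hCd i⟩
  have hM0 := H28Surf.ne_zero_of_ne_top k hZ₀0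
  have hle : ∀ i, H28Surf.dot k M.prod (C i) ≤ 0 := fun i => by
    have h := H28Surf.degOn_ideal k hdim hZ₀ (H28Surf.isEffCartier_curve k hdim (hCc i))
    have h' : 0 ≤ H28Surf.degOn k (C i) (ClSub.idealMod M.prod) := hZ₀C i
    omega
  have hall := H28Surf.mem_fundamental k hdim hCc hC hM hM0 hZ₀s hle hconn
  have hsteps := H28Surf.hasSteps_fundamental k hdim hCc hM hZ₀s hle hZ₀min hall
  constructor
  · intro h
    rw [H28Surf.euler_eq_sub' k hdim hZ₀ (H28Surf.isCoh_quot k _) (H28Surf.support_quot k _).subset,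
      H28Surf.finrank_zero_eq_one k hdim hM hM0 hsteps,
      @Module.finrank_zero_of_subsingleton k _ _ _ _ _ (h _ hZ₀ hZ₀0 hZ₀s)]
    rfl
  · intro hχ Z hZ hZ0 hZs
    obtain ⟨N, hN, rfl⟩ := H28Surf.exists_multiset k hdim Z hZ
    have hle' : ∀ D ∈ M, H28Surf.dot k M.prod D ≤ 0 := fun D hD => by
      obtain ⟨i, rfl⟩ := H28Surf.mem_range_of_support_subset k hCc hM hZ₀s hD
      exact hle i
    have hsub : N ≤ N.card • M := Multiset.le_iff_count.2 fun D => by
      rw [Multiset.count_nsmul]
      by_cases hD : D ∈ N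
      · obtain ⟨i, rfl⟩ := H28Surf.mem_range_of_support_subset k hCc hN hZs hD
        exact (Multiset.count_le_card _ _).trans (Nat.le_mul_of_pos_right _ (Multiset.count_pos.2 (hall i)))
      · rw [Multiset.count_eq_zero.2 hD]; exact Nat.zero_le _
    have hR : ∀ D ∈ N.card • M - N, H28Surf.IsCurve D := fun D hD =>
      hM D (Multiset.mem_of_mem_nsmul (Multiset.mem_of_le (Multiset.sub_le_self _ _) hD))
    refine H28Surf.subsingleton_one_of_mul k hdim hZ (H28Surf.isEffCartier_prod k hdim _ hR) ?_
    rw [← Multiset.prod_add, add_tsub_cancel_of_le hsub]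
    exact H28Surf.subsingleton_one_pow k hdim hM hM0 hsteps hχ hle' N.card

end Groth.Agent.S18454
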