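import Groth.Statements.S18455
import Groth.Agent.H28RR.BlowCanon
import Groth.Agent.H28Surf.Twist
import Groth.Agent.H28Reg.Basic

set_option autoImplicit false
universe u
open CategoryTheory CategoryTheory.Limits AlgebraicGeometry TopologicalSpace
open Groth.Agent
open Surf

namespace Groth.Agent.S18455

/-- Let k be an algebraically closed field of characteristic zero and X a smooth projective surface over
k (integral, proper and smooth over k, of dimension 2) with canonical module W, a second exterior
power of Ω_{X/k}. Let x be a closed point of X and π : X' → X a blowing up of X in the ideal of x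
(characterised by its universal property), with X' again an integral scheme of dimension 2, proper
and smooth over k through π, W' a canonical module of X' and I_E the exceptional ideal (the inverse
image of the ideal of x). Let C be an integral curve on X with ideal I_C and C' an integral curve on
X' with ideal I_{C'}, such that the inverse image ideal of C on X' equals I_{C'} · I_E^m for some
natural number m; thus C' is the proper transform of C and m the multiplicity of C at x. Writing
(A·B) = χ(O) − χ(A) − χ(B) + χ(A ⊗ B) for intersection numbers on X and on X', one has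
(I_{C'}·I_{C'}) − (I_{C'}·W') = (I_C·I_C) − (I_C·W) − m(m − 1); in terms of arithmetic genera
2p_a(C') − 2 = K'·C' + C'² = K·C + C² − m(m−1) = 2p_a(C) − 2 − m(m−1), so p_a drops by m(m−1)/2. -/
theorem result (k : Type u) [Field k] [IsAlgClosed k] [CharZero k]
    (X : Scheme.{u}) [X.Over (Spec (CommRingCat.of k))] [IsProper (X ↘ (Spec (CommRingCat.of k)))]
    [Smooth (X ↘ (Spec (CommRingCat.of k)))] [IsIntegral X] (hdim : topologicalKrullDim X = 2)
    (W : X.Modules) (hW : ExtPow.IsExtPow 2 (Omega.sheaf (X ↘ (Spec (CommRingCat.of k)))) W)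
    (x : X) (hx : IsClosed ({x} : Set X))
    (X' : Scheme.{u}) (π : X' ⟶ X) (hπ : BlowUp.IsBlowUp π (Scheme.IdealSheafData.vanishingIdeal ⟨{x}, hx⟩))
    [IsIntegral X'] (hdim' : topologicalKrullDim X' = 2)
    [IsProper (π ≫ (X ↘ (Spec (CommRingCat.of k))))] [Smooth (π ≫ (X ↘ (Spec (CommRingCat.of k))))]
    (W' : X'.Modules) (hW' : ExtPow.IsExtPow 2 (Omega.sheaf (π ≫ (X ↘ (Spec (CommRingCat.of k))))) W')
    (C : X.IdealSheafData) (hCi : IsIntegral C.subscheme) (hCd : topologicalKrullDim (C.support : Set X) = 1)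
    (C' : X'.IdealSheafData) (hC'i : IsIntegral C'.subscheme) (hC'd : topologicalKrullDim (C'.support : Set X') = 1)
    (m : ℕ) (hm : C.comap π = C' * (BlowUp.exceptional π (Scheme.IdealSheafData.vanishingIdeal ⟨{x}, hx⟩)) ^ m) :
    letI : X'.Over (Spec (CommRingCat.of k)) := ⟨π ≫ (X ↘ (Spec (CommRingCat.of k)))⟩
    FGA.intNum k X' 2 ![(ClSub.idealMod C'), (ClSub.idealMod C')] (Coh.structureModule X') -
        FGA.intNum k X' 2 ![(ClSub.idealMod C'), W'] (Coh.structureModule X') =
      FGA.intNum k X 2 ![(ClSub.idealMod C), (ClSub.idealMod C)] (Coh.structureModule X) -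
        FGA.intNum k X 2 ![(ClSub.idealMod C), W] (Coh.structureModule X) - (m : ℤ) * ((m : ℤ) - 1) := by
  letI : X'.Over (Spec (CommRingCat.of k)) := ⟨π ≫ (X ↘ (Spec (CommRingCat.of k)))⟩
  haveI : IsProper (X' ↘ Spec (CommRingCat.of k)) := inferInstanceAs (IsProper (π ≫ _))
  haveI : Smooth (X' ↘ Spec (CommRingCat.of k)) := inferInstanceAs (Smooth (π ≫ _))
  obtain ⟨φ⟩ := H28RR.canonical_blowup k hdim hdim' rfl hπ hW hW'
  have hC : H28Surf.IsCurve C := ⟨hCi, hCd⟩
  have hC' : H28Surf.IsCurve C' := ⟨hC'i, hC'd⟩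
  have hE := H28RR.exc_isCurve k hdim hπ
  have hee := H28RR.pr_exc_self k hdim hdim' hπ
  have hle := fun (L : X.Modules) (hL : PicF.IsInvertible L) => H28RR.pr_pullback_exc k hdim hdim' rfl hπ hL
  have hll := fun (L M : X.Modules) (hL : PicF.IsInvertible L) (hM : PicF.IsInvertible M) =>
    H28RR.pr_pullback k hdim hdim' rfl hπ hL hM
  have hWi := H28RR.isInvertible_canonical k hdim hW
  have hWi' := H28RR.isInvertible_canonical k hdim' hW'
  generalize BlowUp.exceptional π (Scheme.IdealSheafData.vanishingIdeal ⟨{x}, hx⟩) = E at hm φ hE hee hle ⊢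
  have hCe := H28Surf.isEffCartier_curve k hdim hC
  have hCe' := H28Surf.isEffCartier_curve k hdim' hC'
  have hEm := H28Surf.isEffCartier_pow k hdim' hE m
  have hI := H28Surf.isInvertible_ideal k (H28Surf.isEffCartier_curve k hdim' hE)
  have hc := H28Surf.isInvertible_ideal k hCe
  have hc' := H28Surf.isInvertible_ideal k hCe'
  have hP := H28Vert.isEffCartierIdeal_mul hCe' hEm
  obtain ⟨ψ⟩ := H12Pic.CurveFam.nonempty_pullback_idealMod_comap π hCe (hm ▸ hP)
  have ψ' := ψ ≪≫ eqToIso (congrArg ClSub.idealMod hm)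
  have hreg' : ∀ z : X', IsRegularLocalRing (X'.presheaf.stalk z) := fun z =>
    H19Grp.isRegularLocalRing_stalk_of_smooth (X' ↘ Spec (CommRingCat.of k)) z
  -- expansion of the total transform
  have key : ∀ M : X'.Modules, PicF.IsInvertible M → H28Surf.pr k ((Scheme.Modules.pullback π).obj (ClSub.idealMod C)) M =
      H28Surf.pr k (ClSub.idealMod C') M + (m : ℤ) * H28Surf.pr k (ClSub.idealMod E) M := fun M hM => by
    rw [H28Surf.pr_congr_left k hM ψ', H28Reg.pr_mul_left k hdim' hCe' hEm hM, ← Multiset.prod_replicate,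
      H28Reg.pr_prod_left k hreg' hdim' _ (fun D hD => (Multiset.eq_of_mem_replicate hD).symm ▸ hE) hM,
      Multiset.map_replicate, Multiset.sum_replicate, nsmul_eq_mul]
  have hpc := H11Ample.isInvertible_pullback π hc
  have hpw := H11Ample.isInvertible_pullback π hWi
  have keyW : ∀ M : X'.Modules, PicF.IsInvertible M → H28Surf.pr k ((Scheme.Modules.pullback π).obj W) M =
      H28Surf.pr k W' M + H28Surf.pr k (ClSub.idealMod E) M := fun M hM => by
    rw [← H28Surf.pr_congr_left k hM φ, H28Surf.pr_tensor_left k hdim' hWi' hI hM]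
  rw [H28Surf.intNum_eq_pr k hdim' hc' hc', H28Surf.intNum_eq_pr k hdim' hc' hWi', H28Surf.intNum_eq_pr k hdim hc hc,
    H28Surf.intNum_eq_pr k hdim hc hWi, ← hll _ _ hc hc, ← hll _ _ hc hWi]
  have a1 := key _ hpc
  have a2 := key _ hI
  have a3 := key _ hc'
  have a4 := key _ hpw
  have a5 := keyW _ hc'
  have a6 := keyW _ hI
  rw [H28Surf.pr_symm k (ClSub.idealMod C') ((Scheme.Modules.pullback π).obj (ClSub.idealMod C)), a3,
    H28Surf.pr_symm k (ClSub.idealMod E) ((Scheme.Modules.pullback π).obj (ClSub.idealMod C))] at a1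
  rw [hle _ hc, hee] at a2
  rw [H28Surf.pr_symm k (ClSub.idealMod C') ((Scheme.Modules.pullback π).obj W), a5,
    H28Surf.pr_symm k (ClSub.idealMod E) ((Scheme.Modules.pullback π).obj W), hle _ hWi] at a4
  rw [hle _ hWi, hee] at a6
  rw [a1, a4, hle _ hc, H28Surf.pr_symm k W' (ClSub.idealMod C'), H28Surf.pr_symm k (ClSub.idealMod E) (ClSub.idealMod C')]
  have a7 : H28Surf.pr k (ClSub.idealMod C') (ClSub.idealMod E) = (m : ℤ) := by linarith
  rw [a7]
  ring

end Groth.Agent.S18455
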