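import Groth.Statements.S18456
import Groth.Agent.H28Surf.Artin

set_option autoImplicit false
universe u
open CategoryTheory CategoryTheory.Limits AlgebraicGeometry TopologicalSpace
open Surf

namespace Groth.Agent.S18456

/-- Let k be an algebraically closed field of characteristic zero and X a smooth projective surface over
k (integral, proper and smooth over k, of dimension 2). Let C_1, …, C_r be pairwise distinct
integral curves on X with ideal sheaves I_i, each with H¹(C_i, O_{C_i}) = 0 (so C_i ≅ P¹) and
self-intersection (I_i·I_i) = −2, and with negative definite intersection matrix: Σ_{i,j} a_i a_j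
(I_i·I_j) < 0 for every nonzero integer vector a, where (A·B) = χ(O_X) − χ(A) − χ(B) + χ(A ⊗ B).
Then H¹(Z, O_Z) = 0 for every nonzero effective Cartier divisor Z on X supported on ⋃ C_i,
cohomology computed on X through the direct image of O_Z. The published statement concludes that the
singularity obtained by contracting the configuration over the complex numbers is rational; the
vanishing for all supported nonzero effective divisors is the form of rationality the printed
argument establishes, and this row states that form. -/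
theorem result (k : Type u) [Field k] [IsAlgClosed k] [CharZero k]
    (X : Scheme.{u}) [X.Over (Spec (CommRingCat.of k))] [IsProper (X ↘ (Spec (CommRingCat.of k)))]
    [Smooth (X ↘ (Spec (CommRingCat.of k)))] [IsIntegral X] (hdim : topologicalKrullDim X = 2)
    (r : ℕ) (C : Fin r → X.IdealSheafData) (hC : Function.Injective C)
    (hCi : ∀ i, IsIntegral (C i).subscheme) (hCd : ∀ i, topologicalKrullDim ((C i).support : Set X) = 1)
    (hCrat : ∀ i, Subsingleton (Coh.HH X (ClSub.quotMod (C i)) 1))
    (hC2 : ∀ i, FGA.intNum k X 2 ![(ClSub.idealMod (C i)), (ClSub.idealMod (C i))] (Coh.structureModule X) = -2)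
    (hneg : ∀ a : Fin r → ℤ, a ≠ 0 →
      ∑ i, ∑ j, a i * a j * FGA.intNum k X 2 ![(ClSub.idealMod (C i)), (ClSub.idealMod (C j))] (Coh.structureModule X) < 0)
    (Z : X.IdealSheafData) (hZ : FGA.IsEffCartier Z) (hZ0 : Z ≠ ⊤)
    (hZs : (Z.support : Set X) ⊆ ⋃ i, ((C i).support : Set X)) :
    Subsingleton (Coh.HH X (ClSub.quotMod Z) 1) := by
  classical
  obtain ⟨M, hM, rfl⟩ := H28Surf.exists_multiset k hdim Z hZ
  have hCc : ∀ i, H28Surf.IsCurve (C i) := fun i => ⟨hCi i, hCd i⟩
  have hone : ∀ i, Curv2.euler k X (ClSub.quotMod (C i)) = 1 := fun i =>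
    (H28Surf.euler_le_one k hdim (hCc i)).2.2 (hCrat i)
  refine H28Surf.subsingleton_one_of_euler k hdim _ M rfl hM fun N hN hN0 => ?_
  have hNc : ∀ D ∈ N, H28Surf.IsCurve D := fun D hD => hM D (Multiset.mem_of_le hN hD)
  have hmem : ∀ D ∈ N, ∃ i, D = C i := fun D hD =>
    H28Surf.mem_range_of_support_subset k hCc hM hZs (Multiset.mem_of_le hN hD)
  let a : Fin r → ℤ := fun i => (N.count (C i) : ℤ)
  let Mt : Fin r → Fin r → ℤ := fun i j => H28Surf.dot k (C i) (C j)
  have hsum : ∀ f : X.IdealSheafData → ℤ, (N.map f).sum = ∑ i, a i * f (C i) := fun f => by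
    have hsub : N.toFinset ⊆ Finset.univ.image C := fun D hD => by
      obtain ⟨i, rfl⟩ := hmem D (Multiset.mem_toFinset.1 hD)
      exact Finset.mem_image_of_mem _ (Finset.mem_univ i)
    rw [Finset.sum_multiset_map_count, Finset.sum_subset hsub fun D _ hD => by
      rw [Multiset.count_eq_zero.2 fun h => hD (Multiset.mem_toFinset.2 h), zero_nsmul],
      Finset.sum_image fun i _ j _ h => hC h]
    exact Finset.sum_congr rfl fun i _ => by rw [nsmul_eq_mul]
  have hq : H28Surf.dot k N.prod N.prod = ∑ i, ∑ j, a i * a j * Mt i j := by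
    rw [H28Surf.dot_prod_left k hdim hNc (H28Surf.isEffCartier_prod k hdim N hNc), hsum]
    refine Finset.sum_congr rfl fun i _ => ?_
    rw [H28Surf.dot_prod_right k hdim hNc (H28Surf.isEffCartier_curve k hdim (hCc i)), hsum, Finset.mul_sum]
    exact Finset.sum_congr rfl fun j _ => (mul_assoc _ _ _).symm
  have ha : a ≠ 0 := fun h => by
    obtain ⟨D, hD⟩ := Multiset.exists_mem_of_ne_zero hN0
    obtain ⟨i, rfl⟩ := hmem D hD
    have h2 : (N.count (C i) : ℤ) = 0 := congrFun h i
    exact Multiset.count_ne_zero.2 hD (by exact_mod_cast h2)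
  have hlt : ∑ i, ∑ j, a i * a j * Mt i j < 0 := hneg a ha
  have h2 := H28Surf.two_mul_euler_prod k hdim hNc
  rw [hsum, Finset.sum_eq_zero (fun i _ => by rw [hone i, show H28Surf.dot k (C i) (C i) = -2 from hC2 i]; ring), hq] at h2
  omega

end Groth.Agent.S18456
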