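import Groth.Statements.S18457
import Groth.Agent.H28Alg.Tactics

set_option autoImplicit false
open Finset
open Surf

namespace Groth.Agent.S18457

/-- In the Picard lattice of the plane blown up at n ≤ 8 points, with basis h, e_1, …, e_n, form h² = 1,
e_i² = −1, all other products 0, and anticanonical class D = 3h − Σ e_i, let d·h − Σ a_i e_i be a
class with all a_i ≥ 0 (the class of the strict transform of a degree-d plane curve having
multiplicity a_i at the i-th point) which is a (−2)-class orthogonal to D, that is d² − Σ a_i² = −2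
and 3d = Σ a_i. Then one of the following holds: d = 1 and every a_i is 0 or 1 with exactly three
equal to 1; d = 2 and every a_i is 0 or 1 with exactly six equal to 1; d = 3, n = 8, and one a_i
equals 2 while the remaining seven equal 1. The published statement is geometric: under the
general-position hypotheses on the points, no smooth rational curve on the blown-up plane is
orthogonal to D; this row is the lattice enumeration its proof carries out (a line through three of
the points, a conic through six, a cubic through all eight and singular at one). -/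
theorem result (n : ℕ) (hn : n ≤ 8)
    (d : ℤ) (a : Fin n → ℤ) (ha : ∀ i, 0 ≤ a i)
    (hsq : d ^ 2 - ∑ i, (a i) ^ 2 = -2) (hK : 3 * d = ∑ i, a i) :
    (d = 1 ∧ (∀ i, a i = 0 ∨ a i = 1) ∧ (Finset.univ.filter (fun i => a i = 1)).card = 3) ∨
      (d = 2 ∧ (∀ i, a i = 0 ∨ a i = 1) ∧ (Finset.univ.filter (fun i => a i = 1)).card = 6) ∨
      (d = 3 ∧ n = 8 ∧ ∃ j, a j = 2 ∧ ∀ i, i ≠ j → a i = 1) := by
  have hcs := sq_sum_le_card_mul_sum_sq (s := (Finset.univ : Finset (Fin n))) (f := a)
  simp only [Finset.card_univ, Fintype.card_fin] at hcs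
  have hsq' : ∑ i, a i ^ 2 = d ^ 2 + 2 := by linarith
  rw [← hK, hsq'] at hcs
  have hn' : (n : ℤ) ≤ 8 := by exact_mod_cast hn
  have hd0 : 0 ≤ d := by
    have := Finset.sum_nonneg (fun i (_ : i ∈ (Finset.univ : Finset (Fin n))) => ha i)
    linarith
  have hd4 : d ≤ 4 := by nlinarith
  have h2 : ∀ i, 0 ≤ a i ^ 2 - a i := fun i => by
    rcases le_or_gt (a i) 0 with h | h <;> nlinarith [ha i]
  have hs : ∑ i, (a i ^ 2 - a i) = d ^ 2 + 2 - 3 * d := by
    rw [Finset.sum_sub_distrib, hsq', hK]
  have h01 : d ^ 2 + 2 - 3 * d = 0 → (∀ i, a i = 0 ∨ a i = 1) ∧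
      ((Finset.univ.filter (fun i => a i = 1)).card : ℤ) = 3 * d := by
    intro h0
    have hall : ∀ i, a i = 0 ∨ a i = 1 := fun i => by
      have := (Finset.sum_eq_zero_iff_of_nonneg fun i _ => h2 i).mp (hs.trans h0) i (Finset.mem_univ i)
      rcases mul_eq_zero.mp (show a i * (a i - 1) = 0 by linarith) with h | h <;> omega
    refine ⟨hall, ?_⟩
    rw [hK, Finset.card_filter]
    push_cast
    exact Finset.sum_congr rfl fun i _ => by rcases hall i with h | h <;> simp [h]
  interval_cases d
  · exfalso
    have hz := (Finset.sum_eq_zero_iff_of_nonneg fun i _ => ha i).mp (by linarith : ∑ i, a i = 0)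
    simp only [fun i => hz i (Finset.mem_univ i)] at hsq'
    norm_num at hsq'
  · obtain ⟨h1, h3⟩ := h01 (by norm_num)
    exact .inl ⟨rfl, h1, by exact_mod_cast h3⟩
  · obtain ⟨h1, h3⟩ := h01 (by norm_num)
    exact .inr (.inl ⟨rfl, h1, by exact_mod_cast h3⟩)
  · refine .inr (.inr ⟨rfl, ?_⟩)
    obtain ⟨j, hj⟩ : ∃ j, 2 ≤ a j := by
      by_contra h
      push Not at h
      have h' : ∀ i, a i ^ 2 - a i = 0 := fun i => by
        have := h i; have := ha i
        rcases (by omega : a i = 0 ∨ a i = 1) with e | e <;> simp [e]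
      simp [h'] at hs
    rw [← Finset.add_sum_erase _ _ (Finset.mem_univ j)] at hs
    have hrest := Finset.sum_nonneg (fun i (_ : i ∈ Finset.univ.erase j) => h2 i)
    have hj2 : a j = 2 := by nlinarith
    rw [hj2] at hs
    have hall : ∀ i, i ≠ j → a i = 0 ∨ a i = 1 := fun i hi => by
      have := (Finset.sum_eq_zero_iff_of_nonneg fun i _ => h2 i).mp (by linarith : ∑ i ∈ Finset.univ.erase j, (a i ^ 2 - a i) = 0) i (Finset.mem_erase.mpr ⟨hi, Finset.mem_univ i⟩)
      rcases mul_eq_zero.mp (show a i * (a i - 1) = 0 by linarith) with h | h <;> omega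
    have hK' := hK
    rw [← Finset.add_sum_erase _ _ (Finset.mem_univ j), hj2] at hK'
    have hle : ∑ i ∈ Finset.univ.erase j, a i ≤ ∑ i ∈ Finset.univ.erase j, (1 : ℤ) := Finset.sum_le_sum fun i hi => by
      rcases hall i (Finset.mem_erase.mp hi).1 with h | h <;> omega
    simp only [Finset.sum_const, Finset.card_erase_of_mem (Finset.mem_univ j), Finset.card_univ, Fintype.card_fin, nsmul_eq_mul, mul_one] at hle
    have hn8 : n = 8 := by omega
    refine ⟨hn8, j, hj2, fun i hi => ?_⟩
    by_contra hne
    have hi0 : a i = 0 := (hall i hi).resolve_right hne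
    have hlt : ∑ i ∈ Finset.univ.erase j, a i < ∑ i ∈ Finset.univ.erase j, (1 : ℤ) := Finset.sum_lt_sum
      (fun k hk => by rcases hall k (Finset.mem_erase.mp hk).1 with h | h <;> omega)
      ⟨i, Finset.mem_erase.mpr ⟨hi, Finset.mem_univ i⟩, by omega⟩
    simp only [Finset.sum_const, Finset.card_erase_of_mem (Finset.mem_univ j), Finset.card_univ, Fintype.card_fin, nsmul_eq_mul, mul_one] at hlt
    omega
  · exfalso
    have hn8 : (n : ℤ) = 8 := by linarith
    have hzero : ∑ i, (2 * a i - 3) ^ 2 = 0 := by
      have : ∀ i, (2 * a i - 3) ^ 2 = 4 * a i ^ 2 - 12 * a i + 9 := fun i => by ring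
      simp only [this, Finset.sum_add_distrib, Finset.sum_sub_distrib, ← Finset.mul_sum, hsq', ← hK,
        Finset.sum_const, Finset.card_univ, Fintype.card_fin, nsmul_eq_mul, hn8]
      norm_num
    have h0 : n ≠ 0 := by omega
    have := pow_eq_zero_iff (two_ne_zero) |>.mp ((Finset.sum_eq_zero_iff_of_nonneg fun i _ => sq_nonneg _).mp hzero ⟨0, by omega⟩ (Finset.mem_univ _))
    omega

end Groth.Agent.S18457
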