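import Groth.Statements.S18458
import Groth.Agent.H28RR.Nakai
import Groth.Agent.H28Reg.Basic

set_option autoImplicit false
universe u
open CategoryTheory CategoryTheory.Limits AlgebraicGeometry TopologicalSpace
open Groth.Agent
open Surf

namespace Groth.Agent.S18458

/-- Let k be an algebraically closed field of characteristic zero and X a smooth projective surface over
k (integral, proper and smooth over k, of dimension 2, carrying an ample invertible module). Let
C_1, …, C_r be pairwise distinct integral curves on X with ideal sheaves I_i whose intersection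
matrix is negative definite: Σ_{i,j} a_i a_j (I_i·I_j) < 0 for every nonzero integer vector a, where
(A·B) = χ(O_X) − χ(A) − χ(B) + χ(A ⊗ B). Then there is an invertible O_X-module L (the sheaf of a
divisor H) which is nef and big and is orthogonal to exactly the curves C_i: writing (L·C) = χ(O_C ⊗
L) − χ(O_C) for the degree of L on an integral curve C, one has (L·C) ≥ 0 for every integral curve
C, (L·L) > 0, and (L·C) = 0 if and only if C is one of the C_i. -/
theorem result (k : Type u) [Field k] [IsAlgClosed k] [CharZero k]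
    (X : Scheme.{u}) [X.Over (Spec (CommRingCat.of k))] [IsProper (X ↘ (Spec (CommRingCat.of k)))]
    [Smooth (X ↘ (Spec (CommRingCat.of k)))] [IsIntegral X] (hdim : topologicalKrullDim X = 2)
    (hproj : ∃ H : X.Modules, CohB1.IsAmple H)
    (r : ℕ) (C : Fin r → X.IdealSheafData) (hC : Function.Injective C)
    (hCi : ∀ i, IsIntegral (C i).subscheme) (hCd : ∀ i, topologicalKrullDim ((C i).support : Set X) = 1)
    (hneg : ∀ a : Fin r → ℤ, a ≠ 0 →
      ∑ i, ∑ j, a i * a j * FGA.intNum k X 2 ![(ClSub.idealMod (C i)), (ClSub.idealMod (C j))] (Coh.structureModule X) < 0) :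
    ∃ L : X.Modules, PicF.IsInvertible L ∧
      (∀ D : X.IdealSheafData, IsIntegral D.subscheme → topologicalKrullDim (D.support : Set X) = 1 →
        0 ≤ Curv2.euler k X (CohB1.tensorMod (ClSub.quotMod D) L) - Curv2.euler k X (ClSub.quotMod D)) ∧
      0 < FGA.intNum k X 2 ![L, L] (Coh.structureModule X) ∧
      (∀ D : X.IdealSheafData, IsIntegral D.subscheme → topologicalKrullDim (D.support : Set X) = 1 →
        (Curv2.euler k X (CohB1.tensorMod (ClSub.quotMod D) L) - Curv2.euler k X (ClSub.quotMod D) = 0 ↔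
          ∃ i, D = C i)) := by
  classical
  obtain ⟨H, hH⟩ := hproj
  have hHi := (H11Ample.isAmple_iff.1 hH).1
  have hcu : ∀ i, H28Surf.IsCurve (C i) := fun i => ⟨hCi i, hCd i⟩
  have hE : ∀ i, PicF.IsInvertible (ClSub.idealMod (C i)) := fun i =>
    H28Surf.isInvertible_ideal k (H28Surf.isEffCartier_curve k hdim (hcu i))
  -- the intersection matrix
  let M : Matrix (Fin r) (Fin r) ℤ := fun i j => H28Surf.pr k (ClSub.idealMod (C i)) (ClSub.idealMod (C j))
  have hsym : ∀ i j, M i j = M j i := fun i j => H28Surf.pr_symm k _ _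
  have hneg' : ∀ a : Fin r → ℤ, a ≠ 0 → ∑ i, ∑ j, a i * a j * M i j < 0 := by
    intro a ha
    refine lt_of_eq_of_lt (Finset.sum_congr rfl fun i _ => Finset.sum_congr rfl fun j _ => ?_) (hneg a ha)
    rw [H28Surf.intNum_eq_pr k hdim (hE i) (hE j)]
  have hdet : M.det ≠ 0 := by
    intro h
    obtain ⟨z, hz, hMz⟩ := Matrix.exists_mulVec_eq_zero_iff.2 h
    refine (hneg' z hz).ne (Finset.sum_eq_zero fun i _ => ?_)
    rw [show ∑ j, z i * z j * M i j = z i * (Matrix.mulVec M z) i by
      rw [Matrix.mulVec, dotProduct, Finset.mul_sum]; exact Finset.sum_congr rfl fun j _ => by ring]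
    simp [hMz]
  let h : Fin r → ℤ := fun i => - H28Surf.pr k (ClSub.idealMod (C i)) H
  have hh : ∀ i, 0 < h i := fun i => by
    have := H28RR.ample_deg_pos k hdim hH (hcu i)
    rwa [H28RR.degOn_eq_pr k hdim (hcu i) hHi] at this
  let N : ℤ := M.det * M.det
  have hN : 0 < N := mul_self_pos.2 hdet
  let b : Fin r → ℤ := Matrix.mulVec M.adjugate (-(M.det) • h)
  have hb : ∀ i, ∑ j, b j * M i j = - (N * h i) := by
    intro i
    have h1 : Matrix.mulVec M b = M.det • (-(M.det) • h) := by
      rw [Matrix.mulVec_mulVec, Matrix.mul_adjugate, Matrix.smul_mulVec, Matrix.one_mulVec]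
    have h2 := congrFun h1 i
    rw [Matrix.mulVec, dotProduct] at h2
    rw [Finset.sum_congr rfl fun j _ => mul_comm (b j) (M i j), h2]
    simp only [Pi.smul_apply, smul_eq_mul, N]
    ring
  have hoff : ∀ i j, i ≠ j → 0 ≤ M i j := fun i j hij =>
    (H28Reg.pr_curves_nonneg k hdim (hcu i) (hcu j) (hE i) (hE j) fun e => hij (hC e)).1
  have hb0 : ∀ i, 0 ≤ b i := by
    let u : Fin r → ℤ := fun i => max (-b i) 0
    have hu : ∀ i, 0 ≤ u i := fun i => le_max_right _ _
    have h1 : ∑ i, ∑ j, u i * b j * M i j ≤ 0 := Finset.sum_nonpos fun i _ => by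
      rw [Finset.sum_congr rfl fun j _ => mul_assoc (u i) (b j) (M i j), ← Finset.mul_sum, hb i]
      nlinarith [mul_nonneg (hu i) (mul_nonneg hN.le (hh i).le)]
    have h2 : 0 ≤ ∑ i, ∑ j, u i * (b j + u j) * M i j := by
      refine Finset.sum_nonneg fun i _ => Finset.sum_nonneg fun j _ => ?_
      have hj : 0 ≤ b j + u j := by have := le_max_left (-b j) 0; simp only [u]; omega
      rcases eq_or_ne i j with rfl | hij
      · rcases le_total (b i) 0 with h' | h' <;> simp [u, h']
      · exact mul_nonneg (mul_nonneg (hu i) hj) (hoff i j hij)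
    have hu0 : u = 0 := by
      by_contra hne
      have h3 := hneg' u hne
      simp only [mul_add, add_mul, Finset.sum_add_distrib] at h2
      omega
    intro i
    have := congrFun hu0 i
    simp only [u, Pi.zero_apply] at this
    omega
  -- the divisor supported on the curves
  obtain ⟨P, hP, hPB⟩ : ∃ P : X.Modules, PicF.IsInvertible P ∧ ∀ B : X.Modules, PicF.IsInvertible B →
      H28Surf.pr k P B = - ∑ j, b j * H28Surf.pr k (ClSub.idealMod (C j)) B := by
    suffices ∀ s : Finset (Fin r), ∃ P : X.Modules, PicF.IsInvertible P ∧ ∀ B : X.Modules, PicF.IsInvertible B →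
        H28Surf.pr k P B = - ∑ j ∈ s, b j * H28Surf.pr k (ClSub.idealMod (C j)) B from this Finset.univ
    intro s
    induction s using Finset.induction with
    | empty =>
      exact ⟨_, H28Int.isInvertible_structureModule X, fun B hB => by
        rw [H28Surf.pr_structure_left k hB, Finset.sum_empty, neg_zero]⟩
    | insert i s hi ih =>
      obtain ⟨P, hP, hPB⟩ := ih
      obtain ⟨J, hJ, ⟨e⟩⟩ := H11Sym.exists_inverse (hE i)
      have hJp := H11Ample.isInvertible_tensorPow hJ (b i).toNat
      refine ⟨_, H11Ample.isInvertible_tensor hP hJp, fun B hB => ?_⟩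
      rw [H28Surf.pr_tensor_left k hdim hP hJp hB, hPB B hB, H28Surf.pr_pow_left k hdim hJ hB,
        H28Surf.pr_inv_left k hdim (hE i) hJ hB (H10Coh.Tw.commIso _ _ ≪≫ e), Finset.sum_insert hi,
        Int.toNat_of_nonneg (hb0 i)]
      ring
  have hHN := H11Ample.isInvertible_tensorPow hHi N.toNat
  have hL := H11Ample.isInvertible_tensor hHN hP
  have hLB : ∀ B : X.Modules, PicF.IsInvertible B →
      H28Surf.pr k (CohB1.tensorMod (CohB1.tensorPow H N.toNat) P) B =
        N * H28Surf.pr k H B - ∑ j, b j * H28Surf.pr k (ClSub.idealMod (C j)) B := fun B hB => by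
    rw [H28Surf.pr_tensor_left k hdim hHN hP hB, H28Surf.pr_pow_left k hdim hHi hB, hPB B hB,
      Int.toNat_of_nonneg hN.le]
    ring
  have horth : ∀ i, H28Surf.pr k (CohB1.tensorMod (CohB1.tensorPow H N.toNat) P) (ClSub.idealMod (C i)) = 0 := by
    intro i
    rw [hLB _ (hE i), H28Surf.pr_symm k H]
    rw [Finset.sum_congr rfl fun j _ => show b j * H28Surf.pr k (ClSub.idealMod (C j)) (ClSub.idealMod (C i)) =
      b j * M i j by rw [hsym i j], hb i]
    simp only [h]
    ring
  refine ⟨_, hL, ?_⟩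
  have hD : ∀ D : X.IdealSheafData, H28Surf.IsCurve D → (∀ i, D ≠ C i) →
      0 < H28Surf.degOn k D (CohB1.tensorMod (CohB1.tensorPow H N.toNat) P) := by
    intro D hD hne
    have hDi := H28Surf.isInvertible_ideal k (H28Surf.isEffCartier_curve k hdim hD)
    rw [H28RR.degOn_eq_pr k hdim hD hL, H28Surf.pr_symm k, hLB _ hDi]
    have h1 := H28RR.ample_deg_pos k hdim hH hD
    rw [H28RR.degOn_eq_pr k hdim hD hHi, H28Surf.pr_symm k] at h1
    have h2 : 0 ≤ ∑ j, b j * H28Surf.pr k (ClSub.idealMod (C j)) (ClSub.idealMod D) :=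
      Finset.sum_nonneg fun j _ => mul_nonneg (hb0 j)
        (H28Reg.pr_curves_nonneg k hdim (hcu j) hD (hE j) hDi (hne j).symm).1
    nlinarith
  refine ⟨fun D hDi hDd => ?_, ?_, fun D hDi hDd => ⟨fun h0 => ?_, ?_⟩⟩
  · show 0 ≤ H28Surf.degOn k D _
    by_cases hin : ∃ i, D = C i
    · obtain ⟨i, rfl⟩ := hin
      rw [H28RR.degOn_eq_pr k hdim (hcu i) hL, H28Surf.pr_symm k, horth i]
      rfl
    · push Not at hin
      exact (hD D ⟨hDi, hDd⟩ hin).le
  · rw [H28Surf.intNum_eq_pr k hdim hL hL]
    have hHH : 0 < H28Surf.pr k H H :=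
      (H28RR.pr_nonneg_of_nef k hdim hH hHi fun D hD => (H28RR.ample_deg_pos k hdim hH hD).le).2
        fun D hD => H28RR.ample_deg_pos k hdim hH hD
    rw [hLB _ hL, H28Surf.pr_symm k H, hLB _ hHi, Finset.sum_eq_zero (s := Finset.univ)
      (f := fun j => b j * H28Surf.pr k (ClSub.idealMod (C j)) (CohB1.tensorMod (CohB1.tensorPow H N.toNat) P))
      fun j _ => by rw [H28Surf.pr_symm k, horth j, mul_zero]]
    have h2 : ∑ j, b j * H28Surf.pr k (ClSub.idealMod (C j)) H ≤ 0 :=
      Finset.sum_nonpos fun j _ => mul_nonpos_of_nonneg_of_nonpos (hb0 j) (by have := hh j; simp only [h] at this; omega)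
    nlinarith [mul_pos hN hHH]
  · by_contra hno
    push Not at hno
    exact (hD D ⟨hDi, hDd⟩ hno).ne' h0
  · rintro ⟨i, rfl⟩
    show H28Surf.degOn k (C i) _ = 0
    rw [H28RR.degOn_eq_pr k hdim (hcu i) hL, H28Surf.pr_symm k, horth i]
    rfl

end Groth.Agent.S18458
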