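import Groth.Statements.S18459
import Groth.Agent.H28RR.RuledLine

set_option autoImplicit false
set_option linter.style.haveILetI false
set_option backward.isDefEq.respectTransparency.types false
set_option maxHeartbeats 1000000
universe u
open CategoryTheory CategoryTheory.Limits AlgebraicGeometry TopologicalSpace
open Groth.Agent Groth.Agent.H28RR.PicNum Groth.Agent.H28RR.ZariskiVol
open Groth.Agent.H28Surf hiding dot dot_mul_left dot_mul_right dot_pow_left
open Surf

namespace Groth.Agent.S18459

/-- Fix an algebraically closed field k of characteristic zero, and suppose X is a smooth projective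
surface over k (integral, proper and smooth over k, of dimension 2). Assume given a surjective
k-morphism π : X → P¹_k each of whose fibres over a closed point is isomorphic to P¹_k, together
with an integral curve σ ⊂ X having ideal sheaf I_σ, such that π^*O(1) restricts to a degree-1 sheaf
on σ (σ·f = 1 for the fibre class f, so σ is a section) and (I_σ·I_σ) = −n for some natural number n
(σ² = −n); in other words X is the rational ruled surface F_n and σ its negative section. Take N to
be a tensor inverse of I_σ (the sheaf O_X(σ)), fix integers a ≥ 0 and b, and set L = N^{⊗a} ⊗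
π^*O_{P¹}(b), the sheaf attached to aσ + bf. The conclusions: (i) L is nef, meaning χ(O_C ⊗ L) −
χ(O_C) ≥ 0 for each integral curve C ⊂ X, exactly when na ≤ b; (ii) L is globally generated exactly
when na ≤ b; (iii) L admits a nonzero global section (equivalently, some effective divisor lies in
the linear class of aσ + bf) exactly when 0 ≤ b. Intersection numbers are computed as (A·B) = χ(O_X)
− χ(A) − χ(B) + χ(A ⊗ B). In the published version a may be any integer, with a ≥ 0 included in the
numerical condition; when a < 0 none of the three properties holds, and here a ≥ 0 is imposed.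
Neither the published second condition (|aσ + bf| non-empty with no fixed curve) nor the ampleness
criterion a > 0, b > na is restated. -/
theorem result (k : Type u) [Field k] [IsAlgClosed k] [CharZero k]
    (X : Scheme.{u}) [X.Over (Spec (CommRingCat.of k))] [IsProper (X ↘ (Spec (CommRingCat.of k)))]
    [Smooth (X ↘ (Spec (CommRingCat.of k)))] [IsIntegral X] (hdim : topologicalKrullDim X = 2)
    (π : X ⟶ CohB1.ProjSpace 1 k) (hπ : π ≫ CohB1.ProjSpace.toSpec 1 k = (X ↘ (Spec (CommRingCat.of k))))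
    (hsurj : Function.Surjective π)
    (hfib : ∀ y : CohB1.ProjSpace 1 k, IsClosed ({y} : Set (CohB1.ProjSpace 1 k)) →
      Nonempty (pullback π ((CohB1.ProjSpace 1 k).fromSpecResidueField y) ≅ CohB1.ProjSpace 1 k))
    (σ : X.IdealSheafData) (hσi : IsIntegral σ.subscheme) (hσd : topologicalKrullDim (σ.support : Set X) = 1)
    (hσf : Curv2.euler k X (CohB1.tensorMod (ClSub.quotMod σ) ((Scheme.Modules.pullback π).obj (Twist.twistProjSpace 1 k 1))) -
      Curv2.euler k X (ClSub.quotMod σ) = 1)
    (n : ℕ) (hσσ : FGA.intNum k X 2 ![(ClSub.idealMod σ), (ClSub.idealMod σ)] (Coh.structureModule X) = -(n : ℤ))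
    (N : X.Modules) (hN : ClSub.IsInverseOf N (ClSub.idealMod σ)) (a : ℕ) (b : ℤ) :
    ((∀ C : X.IdealSheafData, IsIntegral C.subscheme → topologicalKrullDim (C.support : Set X) = 1 →
        0 ≤ Curv2.euler k X (CohB1.tensorMod (ClSub.quotMod C)
          (CohB1.tensorMod (CohB1.tensorPow N a) ((Scheme.Modules.pullback π).obj (Twist.twistProjSpace 1 k b)))) -
          Curv2.euler k X (ClSub.quotMod C)) ↔ (n : ℤ) * a ≤ b) ∧
      (Curv2.IsGloballyGenerated (CohB1.tensorMod (CohB1.tensorPow N a) ((Scheme.Modules.pullback π).obj (Twist.twistProjSpace 1 k b))) ↔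
        (n : ℤ) * a ≤ b) ∧
      (Nontrivial (Coh.HH X (CohB1.tensorMod (CohB1.tensorPow N a) ((Scheme.Modules.pullback π).obj (Twist.twistProjSpace 1 k b))) 0) ↔
        0 ≤ b) := by
  letI := H28Vert.picLaw X
  have hσ : IsCurve σ := ⟨hσi, hσd⟩
  have hI := isInvertible_ideal k (isEffCartier_curve k hdim hσ)
  haveI := H28Int.isNoetherian k (X := X)
  let δ := curveCls k hdim hσ
  let f := H28RR.Ruled.fc k π
  -- the class of N
  obtain ⟨eN⟩ := hN
  have hNi : PicF.IsInvertible N := by
    obtain ⟨J, hJ, ⟨e⟩⟩ := H11Sym.exists_inverse hI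
    exact H11Tilde.isInvertible_of_iso ((SecTwist.unitorR J).symm ≪≫
      PicGrp.tensorModIso (Iso.refl J) (H10Coh.Tw.commIso (ClSub.idealMod σ) N ≪≫ eN).symm ≪≫
      (H10Coh.Tw.assoc J (ClSub.idealMod σ) N).symm ≪≫
      PicGrp.tensorModIso e (Iso.refl N) ≪≫ H10Coh.Tw.leftUnitIso N) hJ
  have hclN : PicGrp.cls N hNi = δ := by
    refine eq_inv_of_mul_eq_one_left (Subtype.ext ?_)
    rw [PicGrp.cls_mul_cls_val hNi hI]
    exact ((PicGrp.cl_eq_cl_iff _ _).2 ⟨eN⟩).trans (congrArg Subtype.val (PicGrp.cls_structureModule_eq_one (Y := X)))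
  have hff : dot k f δ = 1 := by
    obtain ⟨e⟩ := H28RR.Ruled.nonempty_rep_fc k π 1
    rw [zpow_one] at e
    rw [← degOn_eq_dot k hdim hσ, degOn_congr k σ e]
    exact hσf
  have hdd : dot k δ δ = -(n : ℤ) := by
    simp only [δ, curveCls]
    rw [dot_inv_left k hdim, dot_inv_right k hdim, neg_neg, H28RR.PicNum.dot_cls k hdim hI hI,
      ← intNum_eq_pr k hdim hI hI]
    exact hσσ
  -- the class of L
  set L := CohB1.tensorMod (CohB1.tensorPow N a) ((Scheme.Modules.pullback π).obj (Twist.twistProjSpace 1 k b)) with hLdef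
  let c := δ ^ a * f ^ b
  have hPi := H28RR.Ruled.isInvertible_pull k π b
  have hNa := H28Vert.isInvertible_tensorPow hNi a
  have hLi : PicF.IsInvertible L := H11Ample.isInvertible_tensor hNa hPi
  have hclL : PicGrp.cls L hLi = c := by
    refine Subtype.ext ?_
    show _ = (δ ^ a * f ^ b).val
    rw [← hclN, ← H28Vert.cls_tensorPow hNi a, show f ^ b = _ from (H28RR.Ruled.cls_pull k π b).symm,
      PicGrp.cls_mul_cls_val]
    rfl
  obtain ⟨eL⟩ : Nonempty (rep c ≅ L) := hclL ▸ nonempty_rep_iso hLi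
  have dotc : ∀ γ, dot k c γ = (a : ℤ) * dot k δ γ + b * dot k f γ := fun γ => by
    have h := map_zpow (dotHom k hdim γ) f b
    have h' : dot k (f ^ b) γ = b * dot k f γ := by simpa [dotHom] using congrArg Multiplicative.toAdd h
    rw [H28RR.PicNum.dot_mul_left k hdim, H28RR.PicNum.dot_pow_left k hdim, h']
  have hcδ : dot k c δ = b - (n : ℤ) * a := by rw [dotc, hdd, hff]; ring
  have hnef : (n : ℤ) * a ≤ b → ∀ (C : X.IdealSheafData) (hC : IsCurve C), 0 ≤ dot k c (curveCls k hdim hC) := by
    intro hb C hC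
    by_cases hne : C = σ
    · subst hne
      show 0 ≤ dot k c δ
      omega
    have hb0 : 0 ≤ b := le_trans (mul_nonneg (Int.natCast_nonneg n) (Int.natCast_nonneg a)) hb
    have h1 : 0 ≤ dot k δ (curveCls k hdim hC) := by
      have hCi := isInvertible_ideal k (isEffCartier_curve k hdim hC)
      simp only [δ, curveCls]
      rw [dot_inv_left k hdim, dot_inv_right k hdim, neg_neg, H28RR.PicNum.dot_cls k hdim hI hCi]
      exact (H28Reg.pr_curves_nonneg k hdim hσ hC hI hCi (Ne.symm hne)).1
    have h2 : 0 ≤ dot k f (curveCls k hdim hC) := H28RR.Ruled.dot_nonneg_of_spans k hdim hC fun x => by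
      have := H28RR.Ruled.spansAt_fc k π 1 x
      rwa [Nat.cast_one, zpow_one] at this
    rw [dotc]
    positivity
  refine ⟨⟨fun h => ?_, fun hb C hCi hCd => ?_⟩, ⟨fun hg => ?_, fun hb => ?_⟩, ⟨fun hnt => ?_, fun hb => ?_⟩⟩
  · have h' := h σ hσi hσd
    rw [show Curv2.euler k X (CohB1.tensorMod (ClSub.quotMod σ) L) - Curv2.euler k X (ClSub.quotMod σ) =
      degOn k σ (rep c) from (degOn_congr k σ eL).symm, degOn_eq_dot k hdim hσ] at h'
    change 0 ≤ dot k c δ at h'
    omega
  · show 0 ≤ degOn k C L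
    rw [← degOn_congr k C eL, degOn_eq_dot k hdim ⟨hCi, hCd⟩]
    exact hnef hb C ⟨hCi, hCd⟩
  · have h' : 0 ≤ dot k c δ := H28RR.Ruled.dot_nonneg_of_spans k hdim hσ fun x =>
      H29RR.spansAt_of_surjective eL.inv (H29RR.spansAt_of_globallyGenerated hg x)
        (H06Mod.surjective_stalk_of_epi eL.inv x)
    omega
  · obtain ⟨m, hm⟩ : ∃ m : ℕ, b = (n : ℤ) * a + m := ⟨(b - (n : ℤ) * a).toNat, by omega⟩
    have key : ∀ j : ℕ, ∀ x, H29RR.SpansAt (rep ((f ^ (n : ℤ) * δ) ^ j * f ^ (m : ℤ))) x := fun j x => by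
      induction j with
      | zero => rw [pow_zero, one_mul]; exact H28RR.Ruled.spansAt_fc k π m x
      | succ j ih =>
        obtain ⟨e⟩ := nonempty_rep_mul ((f ^ (n : ℤ) * δ) ^ j * f ^ (m : ℤ)) (f ^ (n : ℤ) * δ)
        rw [show (f ^ (n : ℤ) * δ) ^ (j + 1) * f ^ (m : ℤ) = (f ^ (n : ℤ) * δ) ^ j * f ^ (m : ℤ) * (f ^ (n : ℤ) * δ) by
          rw [pow_succ, mul_right_comm]]
        exact H29RR.spansAt_of_surjective e.inv (H28RR.Ruled.spansAt_tensor (rep_inv _) (rep_inv _) ih
          (H28RR.Ruled.spansAt_sec k π hdim hπ hsurj hfib hσ hff hdd x)) (H06Mod.surjective_stalk_of_epi e.inv x)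
    have hc' : (f ^ (n : ℤ) * δ) ^ a * f ^ (m : ℤ) = c := by
      show _ = δ ^ a * f ^ b
      rw [hm, mul_pow, zpow_add, zpow_mul, zpow_natCast (f ^ (n : ℤ)) a, ← mul_assoc, mul_comm ((f ^ (n : ℤ)) ^ a)]
    refine H10Inj.GGOn.isGloballyGenerated_of_spansAt L fun x => ?_
    have := key a x
    rw [hc'] at this
    exact H29RR.spansAt_of_surjective eL.hom this (H06Mod.surjective_stalk_of_epi eL.hom x)
  · by_contra hb
    push Not at hb
    have key : ∀ j : ℕ, hc k 0 (f ^ b * δ ^ j) = 0 := fun j => by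
      induction j with
      | zero => rw [pow_zero, mul_one]; exact H28RR.Ruled.hc_zero_fc k π hdim hπ hsurj hfib hb
      | succ j ih =>
        rw [pow_succ, ← mul_assoc]
        refine (h0_fixed k hdim hσ (f ^ b * δ ^ j) ?_).trans ih
        have h := map_zpow (dotHom k hdim δ) f b
        have h' : dot k (f ^ b) δ = b * dot k f δ := by simpa [dotHom] using congrArg Multiplicative.toAdd h
        show dot k (f ^ b * δ ^ j * δ) δ < 0
        rw [H28RR.PicNum.dot_mul_left k hdim, H28RR.PicNum.dot_mul_left k hdim, H28RR.PicNum.dot_pow_left k hdim, h', hdd, hff]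
        have h1 : 0 ≤ ((j : ℤ) + 1) * n := mul_nonneg (by omega) (by omega)
        linarith
    have h0 := key a
    rw [mul_comm] at h0
    haveI := hnt
    haveI := H10Coh.finite_HH_proper k X _ (H11Ample.isCoh_of_isInvertible hLi) 0
    have hpos : 0 < Module.finrank k (Coh.HH X L 0) := Module.finrank_pos
    rw [← (H29RR.hhIso (k := k) eL 0).finrank_eq] at hpos
    change 0 < hc k 0 c at hpos
    rw [show c = δ ^ a * f ^ b from rfl, h0] at hpos
    exact lt_irrefl _ hpos
  · obtain ⟨m, rfl⟩ := Int.eq_ofNat_of_zero_le hb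
    have h1 := h0_mul_pow k hdim hσ (f ^ (m : ℤ)) a
    have hpos : 0 < hc k 0 (f ^ (m : ℤ)) := by
      let x : X := genericPoint X
      obtain ⟨g, hg⟩ := H28RR.Ruled.exists_gen_of_spansAt (rep_inv _) (H28RR.Ruled.spansAt_fc k π m x)
      haveI := H10Coh.finite_HH_proper k X _ (H11Ample.isCoh_of_isInvertible (rep_inv (f ^ (m : ℤ)))) 0
      refine Module.finrank_pos_iff_exists_ne_zero.2 ⟨(H29RR.sec _).symm g, fun h => ?_⟩
      have hz : g = 0 := by simpa using congrArg (H29RR.sec (rep (f ^ (m : ℤ)))) h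
      have hb' := ((H11Ample.mem_gen_iff (rep_inv _) g x).1 hg).1
      refine one_ne_zero (α := X.presheaf.stalk x) (hb' ?_)
      simp only [hz, map_zero, smul_zero]
    haveI := H10Coh.finite_HH_proper k X _ (H11Ample.isCoh_of_isInvertible hLi) 0
    refine Module.nontrivial_of_finrank_pos (R := k) ?_
    rw [← (H29RR.hhIso (k := k) eL 0).finrank_eq]
    show 0 < hc k 0 c
    rw [show c = δ ^ a * f ^ (m : ℤ) from rfl, mul_comm]
    exact hpos.trans_le h1

end Groth.Agent.S18459
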