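import Groth.Statements.S18460
import Groth.Agent.H28RR.MumfordNeg

set_option autoImplicit false
universe u
open CategoryTheory CategoryTheory.Limits AlgebraicGeometry TopologicalSpace
open Groth.Agent
open Surf

namespace Groth.Agent.S18460

/-- Let k be an algebraically closed field of characteristic zero and X a smooth projective surface over
k (integral, proper and smooth over k, of dimension 2). Let Y be an integral normal scheme of
dimension 2, locally of finite type over k, y a closed point of Y, and π : X → Y a proper k-morphism
which restricts to an isomorphism over Y ∖ {y} and whose fibre over y is, as a set, the union of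
pairwise distinct integral curves C_1, …, C_r on X (r ≥ 1, ideal sheaves I_i), this union being
connected; so π contracts the connected curve C = ⋃ C_i to the normal point y. Then the intersection
matrix of the C_i is negative definite: Σ_{i,j} a_i a_j (I_i·I_j) < 0 for every nonzero integer
vector a, where (A·B) = χ(O_X) − χ(A) − χ(B) + χ(A ⊗ B). The published statement is about a
holomorphic contraction of a compact connected curve in a complex surface to a point of a normal
analytic surface; this row is the algebraic case, with Y locally of finite type so that the local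
ring at y is a two-dimensional Noetherian normal domain and a nonzero function vanishing at y cuts
out a curve through y, which is what the printed argument (pull back such a function and apply the
formal negativity lemma proved there) uses. -/
theorem result (k : Type u) [Field k] [IsAlgClosed k] [CharZero k]
    (X : Scheme.{u}) [X.Over (Spec (CommRingCat.of k))] [IsProper (X ↘ (Spec (CommRingCat.of k)))]
    [Smooth (X ↘ (Spec (CommRingCat.of k)))] [IsIntegral X] (hdim : topologicalKrullDim X = 2)
    (Y : Scheme.{u}) [Y.Over (Spec (CommRingCat.of k))] [IsIntegral Y] (hYn : Pi1.IsNormalScheme Y)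
    (hYd : topologicalKrullDim Y = 2)
    [LocallyOfFiniteType (Y ↘ (Spec (CommRingCat.of k)))]
    (π : X ⟶ Y) (hπk : π ≫ (Y ↘ (Spec (CommRingCat.of k))) = (X ↘ (Spec (CommRingCat.of k)))) [IsProper π]
    (y : Y) (hy : IsClosed ({y} : Set Y)) (hiso : IsIso (π ∣_ (⟨({y} : Set Y)ᶜ, hy.isOpen_compl⟩ : Y.Opens)))
    (r : ℕ) (hr : 0 < r) (C : Fin r → X.IdealSheafData) (hC : Function.Injective C)
    (hCi : ∀ i, IsIntegral (C i).subscheme) (hCd : ∀ i, topologicalKrullDim ((C i).support : Set X) = 1)
    (hfib : (π.base : X → Y) ⁻¹' {y} = ⋃ i, ((C i).support : Set X))
    (hconn : _root_.IsConnected (⋃ i, ((C i).support : Set X))) :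
    ∀ a : Fin r → ℤ, a ≠ 0 →
      ∑ i, ∑ j, a i * a j * FGA.intNum k X 2 ![(ClSub.idealMod (C i)), (ClSub.idealMod (C j))] (Coh.structureModule X) < 0 := by
  intro a ha
  exact H28RR.MumfordNeg.negDef k hdim (Y ↘ Spec (CommRingCat.of k)) hYd π hy hiso C hC
    (fun i => ⟨hCi i, hCd i⟩) hfib hconn a ha

end Groth.Agent.S18460
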