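import Groth.Statements.S18461
import Groth.Agent.H28Surf.Laufer
import Groth.Agent.H28Vert.PicVert

set_option autoImplicit false
universe u
open CategoryTheory CategoryTheory.Limits AlgebraicGeometry TopologicalSpace
open Surf

namespace Groth.Agent.S18461

/-- Let k be an algebraically closed field of characteristic zero and X a smooth projective surface over
k (integral, proper and smooth over k, of dimension 2). Let C_1, …, C_r (r ≥ 1) be pairwise distinct
integral curves on X, with ideal sheaves I_i, forming a connected configuration with negative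
definite intersection matrix (no partition of the indices into two nonempty sets with (I_i·I_j) = 0
across; Σ a_i a_j (I_i·I_j) < 0 for every nonzero integer vector a; (A·B) = χ(O_X) − χ(A) − χ(B) +
χ(A ⊗ B)), and let Z₀ be a fundamental cycle: a nonzero effective Cartier divisor supported on ⋃ C_i
with deg(I_{Z₀}|_{C_i}) = χ(O_{C_i} ⊗ I_{Z₀}) − χ(O_{C_i}) ≥ 0 for all i, every other such divisor Z
satisfying Z ≥ Z₀ (I_Z ⊆ I_{Z₀}). Suppose the configuration is rational in the sense that H¹(Z, O_Z)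
= 0 for every nonzero effective Cartier divisor Z supported on ⋃ C_i. Then for every natural number
N, writing O_{Z₀}(−NZ₀) = O_{Z₀} ⊗ I_{Z₀}^{⊗N}: H¹(Z₀, O_{Z₀}(−NZ₀)) = 0 and dim_k H⁰(Z₀,
O_{Z₀}(−NZ₀)) = −N·(I_{Z₀}·I_{Z₀}) + 1, that is −N·Z₀² + 1; cohomology is computed on X through the
direct image of O_{Z₀}. The published statement assumes the singularity obtained by contracting the
configuration over the complex numbers rational, which is equivalent to the vanishing assumed here,
and also asserts R¹π_*O_X(−NZ₀) = 0 for the contraction π and two facts on the maximal ideal of that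
singularity; those are not restated. -/
theorem result (k : Type u) [Field k] [IsAlgClosed k] [CharZero k]
    (X : Scheme.{u}) [X.Over (Spec (CommRingCat.of k))] [IsProper (X ↘ (Spec (CommRingCat.of k)))]
    [Smooth (X ↘ (Spec (CommRingCat.of k)))] [IsIntegral X] (hdim : topologicalKrullDim X = 2)
    (r : ℕ) (hr : 0 < r) (C : Fin r → X.IdealSheafData) (hC : Function.Injective C)
    (hCi : ∀ i, IsIntegral (C i).subscheme) (hCd : ∀ i, topologicalKrullDim ((C i).support : Set X) = 1)
    (hconn : ∀ S : Finset (Fin r), S.Nonempty → Sᶜ.Nonempty →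
      ∃ i ∈ S, ∃ j ∈ Sᶜ, FGA.intNum k X 2 ![(ClSub.idealMod (C i)), (ClSub.idealMod (C j))] (Coh.structureModule X) ≠ 0)
    (hneg : ∀ a : Fin r → ℤ, a ≠ 0 →
      ∑ i, ∑ j, a i * a j * FGA.intNum k X 2 ![(ClSub.idealMod (C i)), (ClSub.idealMod (C j))] (Coh.structureModule X) < 0)
    (Z₀ : X.IdealSheafData) (hZ₀ : FGA.IsEffCartier Z₀) (hZ₀0 : Z₀ ≠ ⊤)
    (hZ₀s : (Z₀.support : Set X) ⊆ ⋃ i, ((C i).support : Set X))
    (hZ₀C : ∀ i, 0 ≤ Curv2.euler k X (CohB1.tensorMod (ClSub.quotMod (C i)) (ClSub.idealMod Z₀)) -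
      Curv2.euler k X (ClSub.quotMod (C i)))
    (hZ₀min : ∀ Z : X.IdealSheafData, FGA.IsEffCartier Z → Z ≠ ⊤ → (Z.support : Set X) ⊆ ⋃ i, ((C i).support : Set X) →
      (∀ i, 0 ≤ Curv2.euler k X (CohB1.tensorMod (ClSub.quotMod (C i)) (ClSub.idealMod Z)) -
        Curv2.euler k X (ClSub.quotMod (C i))) → Z ≤ Z₀)
    (hrat : ∀ Z : X.IdealSheafData, FGA.IsEffCartier Z → Z ≠ ⊤ → (Z.support : Set X) ⊆ ⋃ i, ((C i).support : Set X) →
      Subsingleton (Coh.HH X (ClSub.quotMod Z) 1))
    (N : ℕ) :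
    Subsingleton (Coh.HH X (CohB1.tensorMod (ClSub.quotMod Z₀) (CohB1.tensorPow (ClSub.idealMod Z₀) N)) 1) ∧
      (Module.finrank k (Coh.HH X (CohB1.tensorMod (ClSub.quotMod Z₀) (CohB1.tensorPow (ClSub.idealMod Z₀) N)) 0) : ℤ) =
        -(N : ℤ) * FGA.intNum k X 2 ![(ClSub.idealMod Z₀), (ClSub.idealMod Z₀)] (Coh.structureModule X) + 1 := by
  classical
  obtain ⟨M, hM, rfl⟩ := H28Surf.exists_multiset k hdim Z₀ hZ₀
  have hCc : ∀ i, H28Surf.IsCurve (C i) := fun i => ⟨hCi i, hCd i⟩
  have hM0 := H28Surf.ne_zero_of_ne_top k hZ₀0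
  have hle : ∀ i, H28Surf.dot k M.prod (C i) ≤ 0 := fun i => by
    have h := H28Surf.degOn_ideal k hdim hZ₀ (H28Surf.isEffCartier_curve k hdim (hCc i))
    have h' : 0 ≤ H28Surf.degOn k (C i) (ClSub.idealMod M.prod) := hZ₀C i
    omega
  have hall := H28Surf.mem_fundamental k hdim hCc hC hM hM0 hZ₀s hle hconn
  have hsteps := H28Surf.hasSteps_fundamental k hdim hCc hM hZ₀s hle hZ₀min hall
  have hχ : Curv2.euler k X (ClSub.quotMod M.prod) = 1 := by
    rw [H28Surf.euler_eq_sub' k hdim hZ₀ (H28Surf.isCoh_quot k _) (H28Surf.support_quot k _).subset,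
      H28Surf.finrank_zero_eq_one k hdim hM hM0 hsteps,
      @Module.finrank_zero_of_subsingleton k _ _ _ _ _ (hrat _ hZ₀ hZ₀0 hZ₀s)]
    rfl
  let I := ClSub.idealMod M.prod
  have hI : PicF.IsInvertible I := H28Surf.isInvertible_ideal k hZ₀
  have hpow : ∀ n, PicF.IsInvertible (CohB1.tensorPow I n) := fun n => H28Vert.isInvertible_tensorPow hI n
  have hdeg : ∀ (D : X.IdealSheafData), FGA.IsEffCartier D → ∀ n : ℕ,
      H28Surf.degOn k D (CohB1.tensorPow I n) = -(n : ℤ) * H28Surf.dot k M.prod D := fun D hD n => by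
    induction n with
    | zero =>
      rw [Nat.cast_zero, neg_zero, zero_mul]
      exact H28Surf.degOn_structure k D
    | succ n ih =>
      rw [show CohB1.tensorPow I (n + 1) = CohB1.tensorMod (CohB1.tensorPow I n) I from rfl,
        H28Surf.degOn_tensor k hdim hD (hpow n) hI, ih, H28Surf.degOn_ideal k hdim hZ₀ hD, Nat.cast_succ]
      ring
  have h1 : Subsingleton (Coh.HH X (CohB1.tensorMod (ClSub.quotMod M.prod) (CohB1.tensorPow I N)) 1) :=
    H28Surf.subsingleton_one_of_chain k hdim hM hM0 hsteps hχ (hpow N) fun D hD => by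
      obtain ⟨i, rfl⟩ := H28Surf.mem_range_of_support_subset k hCc hM hZ₀s hD
      rw [hdeg _ (H28Surf.isEffCartier_curve k hdim (hCc i)) N, neg_mul]
      exact neg_nonneg.2 (mul_nonpos_of_nonneg_of_nonpos (Nat.cast_nonneg N) (hle i))
  refine ⟨h1, ?_⟩
  haveI := H28Int.isNoetherian k (X := X)
  have he := H28Surf.euler_eq_sub' k hdim hZ₀ (H11Ample.isCoh_tensor (H28Surf.isCoh_quot k M.prod) (hpow N))
    (fun x hx => (H28Surf.support_quot k M.prod).subset (H25Euler.support_tensor_subset _ _ hx))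
  rw [@Module.finrank_zero_of_subsingleton k _ _ _ _ _ h1] at he
  have hd := hdeg M.prod hZ₀ N
  change Curv2.euler k X _ - Curv2.euler k X _ = _ at hd
  change _ = -(N : ℤ) * H28Surf.dot k M.prod M.prod + 1
  change (Module.finrank k (Coh.HH X (CohB1.tensorMod (ClSub.quotMod M.prod) (CohB1.tensorPow I N)) 0) : ℤ) = _
  omega

end Groth.Agent.S18461
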