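import Groth.Statements.S18462
import Groth.Agent.H28Surf.CurveInter

set_option autoImplicit false
universe u
open CategoryTheory CategoryTheory.Limits AlgebraicGeometry TopologicalSpace
open Surf

namespace Groth.Agent.S18462

/-- Let k be an algebraically closed field of characteristic zero and X a smooth projective surface over
k (integral, proper and smooth over k, of dimension 2, carrying an ample invertible module). Let
C_1, …, C_r be pairwise distinct integral curves on X with ideal sheaves I_i and negative definite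
intersection matrix (Σ_{i,j} a_i a_j (I_i·I_j) < 0 for every nonzero integer vector a, where (A·B) =
χ(O_X) − χ(A) − χ(B) + χ(A ⊗ B)), let F be an effective Cartier divisor on X, with ideal I_F, none
of whose components is a C_i, and let s_1, …, s_r be integers such that the divisor class F + Σ_i
s_i C_i is orthogonal to every C_j, that is (F·C_j) + Σ_i s_i (C_i·C_j) = 0, written here as
deg(I_F|_{C_j}) = χ(O_{C_j} ⊗ I_F) − χ(O_{C_j}) = Σ_i s_i (I_i·I_j) for every j. Then all the s_i
are nonnegative. The published statement allows real coefficients s_i; this row takes integer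
coefficients. Its second assertion, that s_i > 0 on every connected group of the C_i one of which
meets F positively, is not restated. -/
theorem result (k : Type u) [Field k] [IsAlgClosed k] [CharZero k]
    (X : Scheme.{u}) [X.Over (Spec (CommRingCat.of k))] [IsProper (X ↘ (Spec (CommRingCat.of k)))]
    [Smooth (X ↘ (Spec (CommRingCat.of k)))] [IsIntegral X] (hdim : topologicalKrullDim X = 2)
    (hproj : ∃ H : X.Modules, CohB1.IsAmple H)
    (r : ℕ) (C : Fin r → X.IdealSheafData) (hC : Function.Injective C)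
    (hCi : ∀ i, IsIntegral (C i).subscheme) (hCd : ∀ i, topologicalKrullDim ((C i).support : Set X) = 1)
    (hneg : ∀ a : Fin r → ℤ, a ≠ 0 →
      ∑ i, ∑ j, a i * a j * FGA.intNum k X 2 ![(ClSub.idealMod (C i)), (ClSub.idealMod (C j))] (Coh.structureModule X) < 0)
    (F : X.IdealSheafData) (hF : FGA.IsEffCartier F) (hFC : ∀ i, ¬ ((C i).support : Set X) ⊆ (F.support : Set X))
    (s : Fin r → ℤ)
    (horth : ∀ j, Curv2.euler k X (CohB1.tensorMod (ClSub.quotMod (C j)) (ClSub.idealMod F)) - Curv2.euler k X (ClSub.quotMod (C j)) =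
      ∑ i, s i * FGA.intNum k X 2 ![(ClSub.idealMod (C i)), (ClSub.idealMod (C j))] (Coh.structureModule X)) :
    ∀ i, 0 ≤ s i := by
  classical
  obtain ⟨H, hH⟩ := hproj
  obtain ⟨H', -, ⟨e'⟩⟩ := H11Sym.exists_inverse hH.1
  let eH := H10Coh.Tw.commIso H H' ≪≫ e'
  have hH' : PicF.IsInvertible H' := H17.InvertibleTensor.isInvertible_of_tensor_iso H' H e'
  have hd2 : topologicalKrullDim X ≤ ((2 : ℕ) : WithBot ℕ∞) := hdim.le
  haveI := hCi
  have hCinv : ∀ i, PicF.IsInvertible (ClSub.idealMod (C i)) := fun i =>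
    H28Surf.isInvertible_idealMod k hdim (C i) (hCd i)
  let M : Fin r → Fin r → ℤ := fun i j =>
    FGA.intNum k X 2 ![(ClSub.idealMod (C i)), (ClSub.idealMod (C j))] (Coh.structureModule X)
  have hoff : ∀ i j, i ≠ j → 0 ≤ M i j := fun i j hij => by
    show 0 ≤ FGA.intNum k X 2 _ _
    rw [H28Surf.intNum_idealMod k hd2 (C i) (hCinv i) (hCinv j)]
    exact H28Surf.D_idealMod_nonneg k (C i).subschemeι ((H28Surf.dim_subscheme (C i)).trans (hCd i)).le (C j) (hCinv j)
      (H28Surf.genericPoint_notMem_support (hCd i) (hCd j) fun h => hij (hC h))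
  have hFinv : PicF.IsInvertible (ClSub.idealMod F) := H29Blow.isInvertible_of_isEffCartierIdeal F hF
  have hle : ∀ j, ∑ i, s i * M i j ≤ 0 := fun j => by
    rw [show ∑ i, s i * M i j = _ from (horth j).symm]
    have h : 0 ≤ H28Int.D k [ClSub.idealMod F] (ClSub.quotMod (C j)) :=
      H28Surf.D_idealMod_nonneg k (C j).subschemeι ((H28Surf.dim_subscheme (C j)).trans (hCd j)).le F hFinv (fun h =>
        hFC j (by
          rw [← (C j).range_subschemeι, LeadDev.range_eq_closure (C j).subschemeι rfl]
          exact closure_minimal (Set.singleton_subset_iff.2 h) F.support.2))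
    change 0 ≤ Curv2.euler k X _ - Curv2.euler k X (CohB1.tensorMod (ClSub.idealMod F) (ClSub.quotMod (C j))) at h
    rw [H25Euler.euler_congr (H10Coh.Tw.commIso (ClSub.idealMod F) (ClSub.quotMod (C j)))] at h
    omega
  let N : Fin r → ℤ := fun i => -s i ⊔ 0
  by_contra hcon
  push Not at hcon
  obtain ⟨i₀, hi₀⟩ := hcon
  have hN : N ≠ 0 := fun h => by
    have : -s i₀ ⊔ 0 = 0 := congrFun h i₀
    omega
  have hsp := H28Surf.quad_split M s N
  have hsum : ∑ j, N j * ∑ i, s i * M i j ≤ 0 := Finset.sum_nonpos fun j _ =>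
    mul_nonpos_of_nonneg_of_nonpos (le_max_right _ _) (hle j)
  have hneg' := hneg N hN
  have hoff' : 0 ≤ ∑ i, ∑ j, (s i ⊔ 0) * N j * M i j := by
    refine Finset.sum_nonneg fun i _ => Finset.sum_nonneg fun j _ => ?_
    rcases eq_or_ne i j with rfl | hij
    · show 0 ≤ (s i ⊔ 0) * (-s i ⊔ 0) * M i i
      rcases le_total (s i) 0 with h | h
      · simp [max_eq_right h]
      · simp [max_eq_right (neg_nonpos.2 h)]
    · exact mul_nonneg (mul_nonneg (le_max_right _ _) (le_max_right _ _)) (hoff i j hij)
  change ∑ i, ∑ j, N i * N j * M i j < 0 at hneg'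
  change ∑ j, N j * ∑ i, s i * M i j = (∑ i, ∑ j, (s i ⊔ 0) * N j * M i j) - (∑ i, ∑ j, N i * N j * M i j) at hsp
  omega

end Groth.Agent.S18462
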