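import Groth.Statements.S18463
import Groth.Agent.H28Surf.CurveInter
import Groth.Agent.H28Int.Num

set_option autoImplicit false
universe u
open CategoryTheory CategoryTheory.Limits AlgebraicGeometry TopologicalSpace
open Surf

namespace Groth.Agent.S18463

/-- Let k be an algebraically closed field of characteristic zero and X a smooth projective surface over
k (integral, proper and smooth over k, of dimension 2, carrying an ample invertible module). Let
C_1, …, C_r be pairwise distinct integral curves on X with ideal sheaves I_i and negative definite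
intersection matrix (Σ_{i,j} a_i a_j (I_i·I_j) < 0 for every nonzero integer vector a, where (A·B) =
χ(O_X) − χ(A) − χ(B) + χ(A ⊗ B)), let F be an effective Cartier divisor on X, with ideal I_F, none
of whose components is a C_i, and let s_1, …, s_r be integers such that F is numerically equivalent
to Σ_i s_i C_i: (I_F·M) = Σ_i s_i (I_i·M) for every invertible O_X-module M (equivalently (F·D) = Σ
s_i (C_i·D) for every divisor D). Then F = 0, i.e. I_F = O_X, and every s_i is 0. The published
statement writes the hypothesis as [F] + Σ s_i[C_i] = 0 with real s_i; this row writes F ≡ Σ s_i C_i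
with integer s_i, which is the same after changing the signs of the s_i. -/
theorem result (k : Type u) [Field k] [IsAlgClosed k] [CharZero k]
    (X : Scheme.{u}) [X.Over (Spec (CommRingCat.of k))] [IsProper (X ↘ (Spec (CommRingCat.of k)))]
    [Smooth (X ↘ (Spec (CommRingCat.of k)))] [IsIntegral X] (hdim : topologicalKrullDim X = 2)
    (hproj : ∃ H : X.Modules, CohB1.IsAmple H)
    (r : ℕ) (C : Fin r → X.IdealSheafData) (hC : Function.Injective C)
    (hCi : ∀ i, IsIntegral (C i).subscheme) (hCd : ∀ i, topologicalKrullDim ((C i).support : Set X) = 1)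
    (hneg : ∀ a : Fin r → ℤ, a ≠ 0 →
      ∑ i, ∑ j, a i * a j * FGA.intNum k X 2 ![(ClSub.idealMod (C i)), (ClSub.idealMod (C j))] (Coh.structureModule X) < 0)
    (F : X.IdealSheafData) (hF : FGA.IsEffCartier F) (hFC : ∀ i, ¬ ((C i).support : Set X) ⊆ (F.support : Set X))
    (s : Fin r → ℤ)
    (hnum : ∀ M : X.Modules, PicF.IsInvertible M →
      FGA.intNum k X 2 ![(ClSub.idealMod F), M] (Coh.structureModule X) =
        ∑ i, s i * FGA.intNum k X 2 ![(ClSub.idealMod (C i)), M] (Coh.structureModule X)) :
    F = ⊤ ∧ ∀ i, s i = 0 := by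
  classical
  obtain ⟨H, hH⟩ := hproj
  obtain ⟨H', -, ⟨e'⟩⟩ := H11Sym.exists_inverse hH.1
  let eH := H10Coh.Tw.commIso H H' ≪≫ e'
  have hH' : PicF.IsInvertible H' := H17.InvertibleTensor.isInvertible_of_tensor_iso H' H e'
  have hd2 : topologicalKrullDim X ≤ ((2 : ℕ) : WithBot ℕ∞) := hdim.le
  haveI := hCi
  have hCinv : ∀ i, PicF.IsInvertible (ClSub.idealMod (C i)) := fun i =>
    H28Surf.isInvertible_idealMod k hdim (C i) (hCd i)
  let M : Fin r → Fin r → ℤ := fun i j =>
    FGA.intNum k X 2 ![(ClSub.idealMod (C i)), (ClSub.idealMod (C j))] (Coh.structureModule X)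
  have hoff : ∀ i j, i ≠ j → 0 ≤ M i j := fun i j hij => by
    show 0 ≤ FGA.intNum k X 2 _ _
    rw [H28Surf.intNum_idealMod k hd2 (C i) (hCinv i) (hCinv j)]
    exact H28Surf.D_idealMod_nonneg k (C i).subschemeι ((H28Surf.dim_subscheme (C i)).trans (hCd i)).le (C j) (hCinv j)
      (H28Surf.genericPoint_notMem_support (hCd i) (hCd j) fun h => hij (hC h))
  have hFinv : PicF.IsInvertible (ClSub.idealMod F) := H29Blow.isInvertible_of_isEffCartierIdeal F hF
  haveI := H28Int.isNoetherian k (X := X)
  let P : Fin r → ℤ := fun i => s i ⊔ 0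
  have hge : ∀ j, 0 ≤ ∑ i, s i * M i j := fun j => by
    have h := hnum (ClSub.idealMod (C j)) (hCinv j)
    rw [show ∑ i, s i * M i j = _ from h.symm]
    have hswap : FGA.intNum k X 2 ![ClSub.idealMod F, ClSub.idealMod (C j)] (Coh.structureModule X) =
        FGA.intNum k X 2 ![ClSub.idealMod (C j), ClSub.idealMod F] (Coh.structureModule X) := by
      rw [H28Int.intNum_eq k hd2 _ (fun t => by fin_cases t <;> [exact hFinv; exact hCinv j])
          (H10Coh.isCoh_structureModule' X),
        H28Int.intNum_eq k hd2 _ (fun t => by fin_cases t <;> [exact hCinv j; exact hFinv])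
          (H10Coh.isCoh_structureModule' X)]
      exact H28Int.Num.D_swap k (l := []) (by simp) _
    rw [hswap, H28Surf.intNum_idealMod k hd2 (C j) (hCinv j) hFinv]
    exact H28Surf.D_idealMod_nonneg k (C j).subschemeι ((H28Surf.dim_subscheme (C j)).trans (hCd j)).le F hFinv
      (fun h => hFC j (by
        rw [← (C j).range_subschemeι, LeadDev.range_eq_closure (C j).subschemeι rfl]
        exact closure_minimal (Set.singleton_subset_iff.2 h) F.support.2))
  have hs : ∀ i, s i ≤ 0 := by
    by_contra hcon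
    push Not at hcon
    obtain ⟨i₀, hi₀⟩ := hcon
    have hP : P ≠ 0 := fun h => by
      have : s i₀ ⊔ 0 = 0 := congrFun h i₀
      omega
    have hsp := H28Surf.quad_split M s P
    have hsum : 0 ≤ ∑ j, P j * ∑ i, s i * M i j := Finset.sum_nonneg fun j _ =>
      mul_nonneg (le_max_right _ _) (hge j)
    have hoff' := (H28Surf.pos_part_cases M hoff s).2
    have hneg' := hneg P hP
    change ∑ i, ∑ j, P i * P j * M i j < 0 at hneg'
    change ∑ j, P j * ∑ i, s i * M i j = (∑ i, ∑ j, P i * P j * M i j) - _ at hsp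
    change 0 ≤ ∑ i, ∑ j, (-s i ⊔ 0) * P j * M i j at hoff'
    omega
  have hpos : ∀ i, 0 < FGA.intNum k X 2 ![(ClSub.idealMod (C i)), H'] (Coh.structureModule X) := fun i => by
    rw [H28Surf.intNum_idealMod k hd2 (C i) (hCinv i) hH']
    have hQ : Coh.IsCoh (ClSub.quotMod (C i)) := LeadDev.isCoh_push_structure (C i).subschemeι
    have hsupp : CohB1.support (ClSub.quotMod (C i)) = Set.range (C i).subschemeι :=
      H28Int.support_push_structure_eq (C i).subschemeι
    have hdS : topologicalKrullDim (Set.range (C i).subschemeι) = 1 := by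
      rw [Scheme.IdealSheafData.range_subschemeι]; exact hCd i
    refine (H28Surf.D_ample_pos k hH eH _ hQ (by rw [hsupp]; exact hdS.le)).2
      ⟨(C i).subschemeι (genericPoint (C i).subscheme), hsupp ▸ ⟨_, rfl⟩, ?_⟩
    rw [H8Props.FieldDim.cdim, ← LeadDev.range_eq_closure (C i).subschemeι rfl, hdS]
    rfl
  have hFQ : Coh.IsCoh (ClSub.quotMod F) := H10Coh.isCoh_of_iso (H28Vert.cokernelIdealModιIso F)
    (H10Coh.isCoh_cokernel _ (H11Ample.isCoh_of_isInvertible hFinv).1 (H10Coh.isCoh_structureModule' X))
  have hsuppF : CohB1.support (ClSub.quotMod F) = (F.support : Set X) := by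
    rw [← H28Vert.support_cokernel_idealModι F]
    exact Set.Subset.antisymm (LeadDev.support_subset_of_iso (H28Vert.cokernelIdealModιIso F).symm)
      (LeadDev.support_subset_of_iso (H28Vert.cokernelIdealModιIso F))
  have hgenX : genericPoint X ∉ (F.support : Set X) := fun h => by
    obtain ⟨U, hxU, a, ha, haU⟩ := hF (genericPoint X)
    have h2 := (Scheme.IdealSheafData.mem_support_iff_of_mem (I := F) hxU).1 h
    haveI : Nonempty ↥U.1 := ⟨⟨_, hxU⟩⟩
    rw [haU, Scheme.zeroLocus_span, Scheme.zeroLocus_singleton] at h2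
    have hbot : X.basicOpen a = ⊥ := eq_bot_iff.2 fun z hz => h2 ((genericPoint_specializes z).mem_open (X.basicOpen a).2 hz)
    have := (basicOpen_eq_bot_iff _).1 hbot
    exact zero_notMem_nonZeroDivisors (this ▸ ha)
  have hdF : topologicalKrullDim (CohB1.support (ClSub.quotMod F)) ≤ ((1 : ℕ) : WithBot ℕ∞) := by
    rw [hsuppF]
    have h : topologicalKrullDim (F.support : Set X) < ((2 : ℕ) : WithBot ℕ∞) := H28Int.dim_lt_of_notMem (genericPoint_spec X).def (n := 2)
      (Topology.IsInducing.subtypeVal.topologicalKrullDim_le.trans hd2) F.support.2 (fun _ _ => trivial) hgenX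
    rcases hdim' : topologicalKrullDim (F.support : Set X) with _ | n
    · exact bot_le
    · rw [hdim'] at h
      have : n < ((1 + 1 : ℕ) : ℕ∞) := WithBot.coe_lt_coe.1 h
      exact WithBot.coe_le_coe.2 (ENat.lt_natCast_add_one_iff.1 (by exact_mod_cast this))
  obtain ⟨hF0, hF1⟩ := H28Surf.D_ample_pos k hH eH _ hFQ hdF
  have hval : H28Int.D k [H'] (ClSub.quotMod F) =
      ∑ i, s i * FGA.intNum k X 2 ![(ClSub.idealMod (C i)), H'] (Coh.structureModule X) := by
    rw [← H28Surf.intNum_idealMod k hd2 F hFinv hH']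
    exact hnum H' hH'
  have hterm : ∀ i ∈ (Finset.univ : Finset (Fin r)),
      s i * FGA.intNum k X 2 ![(ClSub.idealMod (C i)), H'] (Coh.structureModule X) ≤ 0 :=
    fun i _ => mul_nonpos_of_nonpos_of_nonneg (hs i) (hpos i).le
  have hzero : ∀ i, s i = 0 := fun i => by
    have h0 := le_antisymm (Finset.sum_nonpos hterm) (hval ▸ hF0)
    exact (mul_eq_zero.1 ((Finset.sum_eq_zero_iff_of_nonpos hterm).1 h0 i (Finset.mem_univ _))).resolve_right (hpos i).ne'
  refine ⟨?_, hzero⟩
  rw [← Scheme.IdealSheafData.support_eq_bot_iff]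
  by_contra hne
  obtain ⟨x, hx⟩ : ((F.support : Set X)).Nonempty := by
    rw [Set.nonempty_iff_ne_empty]
    exact fun h => hne (TopologicalSpace.Closeds.ext h)
  obtain ⟨w, hw, hwd⟩ := H28Surf.exists_point_of_isEffCartier k hdim F hF hx
  have := hF1 ⟨w, hsuppF.ge hw, hwd.ge⟩
  rw [hval] at this
  simp [hzero] at this

end Groth.Agent.S18463
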