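import Groth.Statements.S18464
import Mathlib

set_option autoImplicit false
universe u
open CategoryTheory CategoryTheory.Limits AlgebraicGeometry
open LefPen

namespace Groth.Agent.S18464

theorem helper_finrank_form (k : Type*) [Field k] (r d : ℕ) :
    Module.finrank k (MvPolynomial.homogeneousSubmodule (Fin (r + 1)) k d) = Nat.choose (r + d) d := by
  classical
  have e : {x : Fin (r + 1) →₀ ℕ | x.degree = d} ≃ Sym (Fin (r + 1)) d :=
    ((Sym.equivNatSum (Fin (r + 1)) d).trans (Equiv.subtypeEquivRight (fun x => by
      simp [Finsupp.degree, Finsupp.sum]))).symm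
  haveI : Fintype {x : Fin (r + 1) →₀ ℕ | x.degree = d} := Fintype.ofEquiv _ e.symm
  rw [MvPolynomial.homogeneousSubmodule_eq_finsupp_supported,
    (AddMonoidAlgebra.supportedEquivFinsupp _).finrank_eq, Module.finrank_finsupp_self,
    Fintype.card_congr e, Sym.card_sym_eq_multichoose, Fintype.card_fin, Nat.multichoose_eq]
  congr 1
  omega


/-- Let k be an infinite field, r a natural number, d ≥ 1 an integer, and m ≥ C(r+d, d), the number of
monomials of degree d in r+1 variables. In the space of m-tuples of vectors of k^(r+1) (homogeneous
coordinate vectors of m points of projective r-space; a zero vector is allowed and imposes no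
condition), the tuples such that the only form of degree d vanishing at all of them is the zero form
make up a Zariski-open subset which contains the non-vanishing locus of a not identically zero
polynomial function, so a dense open subset. (The published statement is the openness and density of
the corresponding locus in the m-fold product of projective r-space over the ground field; here the
ground field is any infinite field and the statement is made on coordinate vectors.) -/
theorem result (k : Type u) [Field k] [Infinite k]
    (r d m : ℕ) (hd : 1 ≤ d) (hm : Nat.choose (r + d) d ≤ m) :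
    LefPen.IsZOpen k {x : Fin m → (Fin (r + 1) → k) |
      ∀ G : LefPen.Form r k d, (∀ i : Fin m, MvPolynomial.aeval (x i) G.1 = 0) → G = 0} ∧
    LefPen.IsGeneric k {x : Fin m → (Fin (r + 1) → k) |
      ∀ G : LefPen.Form r k d, (∀ i : Fin m, MvPolynomial.aeval (x i) G.1 = 0) → G = 0} := by
  classical
  open MvPolynomial in
  haveI hfin : Module.Finite k (LefPen.Form r k d) :=
    Module.Finite.iff_fg.mpr (homogeneousSubmodule_fg (σ := Fin (r + 1)) (R := k) d)
  let F := LefPen.Form r k d
  let bF := Module.finBasis k F
  let N := Module.finrank k F
  have hN : N ≤ m := (le_of_eq (helper_finrank_form k r d)).trans hm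
  let Mx : (Fin m → (Fin (r + 1) → k)) → Matrix (Fin m) (Fin N) k :=
    fun x => Matrix.of fun i j => aeval (x i) (bF j).1
  let D : (Fin N → Fin m) → (Fin m → (Fin (r + 1) → k)) → k :=
    fun e x => ((Mx x).submatrix e id).det
  have hlin : ∀ (x : Fin m → (Fin (r + 1) → k)) (G : F) (i : Fin m),
      aeval (x i) G.1 = ∑ j, Mx x i j * bF.repr G j := by
    intro x G i
    let φ : F →ₗ[k] k := (aeval (x i)).toLinearMap ∘ₗ (CohB1.polyGrading r k d).subtype
    show φ G = _
    conv_lhs => rw [← bF.sum_repr G]
    rw [map_sum]
    refine Finset.sum_congr rfl fun j _ => ?_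
    rw [map_smul, smul_eq_mul, mul_comm]
    rfl
  have hDS : ∀ e x, D e x ≠ 0 → ∀ G : F, (∀ i, aeval (x i) G.1 = 0) → G = 0 := by
    intro e x he G hG
    have h1 : ((Mx x).submatrix e id).mulVec (fun j => bF.repr G j) = 0 := by
      funext i
      simp only [Matrix.mulVec, dotProduct, Matrix.submatrix_apply, id]
      exact ((hlin x G (e i)).symm.trans (hG (e i)))
    have := Matrix.eq_zero_of_mulVec_eq_zero he h1
    apply bF.repr.injective
    ext j
    simpa using congrFun this j
  have hSD : ∀ x, (∀ G : F, (∀ i, aeval (x i) G.1 = 0) → G = 0) → ∃ e, D e x ≠ 0 := by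
    intro x hx
    have hinj : Function.Injective (Mx x).mulVecLin := by
      rw [injective_iff_map_eq_zero]
      intro c hc
      have hG : bF.equivFun.symm c = 0 := hx _ fun i => by
        rw [hlin]
        have := congrFun hc i
        simp only [Matrix.mulVecLin_apply, Matrix.mulVec, dotProduct, Pi.zero_apply] at this
        rw [← this]
        exact Finset.sum_congr rfl fun j _ => by
          congr 1
          exact congrFun (bF.equivFun.apply_symm_apply c) j
      have := congrArg bF.equivFun hG
      rwa [LinearEquiv.apply_symm_apply, map_zero] at this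
    have hrank : Module.finrank k (Submodule.span k (Set.range (Mx x).row)) = N := by
      rw [← Matrix.rank_eq_finrank_span_row, Matrix.rank,
        LinearMap.finrank_range_of_inj hinj, Module.finrank_fin_fun]
    obtain ⟨f, hf, -, hfi⟩ := Submodule.exists_fun_fin_finrank_span_eq k (Set.range (Mx x).row)
    choose e he using hf
    refine ⟨fun j => e (Fin.cast hrank.symm j), ?_⟩
    have hli : LinearIndependent k ((Mx x).submatrix (fun j => e (Fin.cast hrank.symm j)) id).row := by
      have h2 := hfi.comp _ (Fin.cast_injective hrank.symm)
      have h3 : ((Mx x).submatrix (fun j => e (Fin.cast hrank.symm j)) id).row =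
          f ∘ Fin.cast hrank.symm := by
        funext j
        show (fun b => Mx x (e (Fin.cast hrank.symm j)) b) = f (Fin.cast hrank.symm j)
        rw [← he (Fin.cast hrank.symm j)]
        rfl
      rw [h3]
      exact h2
    exact ((Matrix.isUnit_iff_isUnit_det _).mp
      (Matrix.linearIndependent_rows_iff_isUnit.mp hli)).ne_zero
  let A := Algebra.adjoin k (Set.range
    (fun l : Module.Dual k (Fin m → (Fin (r + 1) → k)) => ((l : (Fin m → (Fin (r + 1) → k)) → k))))
  have hpoly : ∀ (g : MvPolynomial (Fin m × Fin (r + 1)) k),
      LefPen.IsPolyFun k (fun x : Fin m → (Fin (r + 1) → k) => eval (fun p => x p.1 p.2) g) := by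
    intro g
    show _ ∈ A
    induction g using MvPolynomial.induction_on with
    | C c =>
      convert A.algebraMap_mem c using 1
      funext x
      simp
    | add p q hp hq =>
      convert A.add_mem hp hq using 1
      funext x
      simp
    | mul_X p j hp =>
      convert A.mul_mem hp (Algebra.subset_adjoin
        ⟨(LinearMap.proj (R := k) (φ := fun _ : Fin (r + 1) => k) j.2).comp
          (LinearMap.proj (R := k) (φ := fun _ : Fin m => Fin (r + 1) → k) j.1), rfl⟩) using 1
      funext x
      simp
  have hDpoly : ∀ e, LefPen.IsPolyFun k (D e) := by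
    intro e
    let Q : Matrix (Fin N) (Fin N) (MvPolynomial (Fin m × Fin (r + 1)) k) :=
      Matrix.of fun a b => rename (fun c => (e a, c)) (bF b).1
    convert hpoly Q.det using 1
    funext x
    rw [RingHom.map_det]
    show ((Mx x).submatrix e id).det = _
    congr 1
    ext a b
    simp [Q, Mx, eval_rename, Function.comp_def, aeval_eq_eval]
  constructor
  · intro x hx
    obtain ⟨e, he⟩ := hSD x hx
    exact ⟨D e, hDpoly e, he, fun y hy => hDS e y hy⟩
  · -- existence of a good configuration
    have hsep : ∀ G : F, (∀ x : Fin (r + 1) → k, aeval x G.1 = 0) → G = 0 := fun G hG =>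
      Subtype.ext (MvPolynomial.funext fun x => by simpa [aeval_eq_eval] using hG x)
    let ev : (Fin (r + 1) → k) → Module.Dual k F := fun x =>
      (aeval x).toLinearMap ∘ₗ (CohB1.polyGrading r k d).subtype
    have hspan : Submodule.span k (Set.range ev) = ⊤ := by
      by_contra hne
      obtain ⟨φ, hφ0, hφ⟩ := Submodule.exists_dual_map_eq_bot_of_lt_top
        (lt_top_iff_ne_top.mpr hne) inferInstance
      obtain ⟨G, rfl⟩ := (Module.evalEquiv k F).surjective φ
      apply hφ0
      have : G = 0 := hsep G fun x => by
        have h3 := Submodule.mem_map_of_mem (f := Module.evalEquiv k F G)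
          (Submodule.subset_span ⟨x, rfl⟩ : ev x ∈ Submodule.span k (Set.range ev))
        rw [hφ, Submodule.mem_bot] at h3
        exact h3
      rw [this, map_zero]
    obtain ⟨f, hf, hfspan, -⟩ := Submodule.exists_fun_fin_finrank_span_eq k (Set.range ev)
    choose P hP using hf
    have hdimle : Module.finrank k (Submodule.span k (Set.range ev)) ≤ m := by
      refine le_trans (Submodule.finrank_le _) ?_
      rw [Subspace.dual_finrank_eq]
      exact hN
    let x : Fin m → (Fin (r + 1) → k) := fun i =>
      if h : (i : ℕ) < Module.finrank k (Submodule.span k (Set.range ev)) then P ⟨i, h⟩ else 0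
    have hx : ∀ G : F, (∀ i, aeval (x i) G.1 = 0) → G = 0 := by
      intro G hG
      apply hsep
      have hmem : ∀ φ ∈ Submodule.span k (Set.range f), φ G = 0 := by
        intro φ hφ
        induction hφ using Submodule.span_induction with
        | mem φ hφ =>
          obtain ⟨j, rfl⟩ := hφ
          rw [← hP j]
          have := hG ⟨j, lt_of_lt_of_le j.2 hdimle⟩
          simp only [x, Fin.is_lt, dif_pos] at this
          exact this
        | zero => rfl
        | add a b _ _ ha hb => simp [ha, hb]
        | smul c a _ ha => simp [ha]
      intro y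
      exact hmem (ev y) (by rw [hfspan, hspan]; exact Submodule.mem_top)
    obtain ⟨e, he⟩ := hSD x hx
    exact ⟨D e, hDpoly e, ⟨x, he⟩, fun y hy => hDS e y hy⟩

end Groth.Agent.S18464
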