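import Groth.Statements.S18465
import Mathlib.Algebra.MonoidAlgebra.Basic
import Mathlib.Tactic

set_option autoImplicit false
universe u v w x
open WildLef

namespace Groth.Agent.S18465

/-- Let f : G₁ → G₂ be a homomorphism of groups, ρ : G₂ → Γ a homomorphism with finite image G, and A a
nontrivial commutative ring. Let G₂ act on the group algebra A[G] through ρ followed by the left
regular representation, and G₁ through f. If the elements of A[G] fixed by G₁ coincide with those
fixed by G₂, then ρ ∘ f and ρ have the same image. (The published statement has Γ a general linear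
group GL_r(A); over the zero ring that group is trivial, so requiring A nontrivial and allowing any
target group loses nothing.) -/
theorem result
    {G₁ : Type u} {G₂ : Type v} {Γ : Type w} [Group G₁] [Group G₂] [Group Γ]
    (f : G₁ →* G₂) (ρ : G₂ →* Γ) [Finite ρ.range] (A : Type x) [CommRing A] [Nontrivial A]
    (h : {x : MonoidAlgebra A ρ.range | ∀ g : G₁, MonoidAlgebra.of A ρ.range (ρ.rangeRestrict (f g)) * x = x} =
      {x : MonoidAlgebra A ρ.range | ∀ g : G₂, MonoidAlgebra.of A ρ.range (ρ.rangeRestrict g) * x = x}) :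
    (ρ.comp f).range = ρ.range := by
  classical
  have hfin : Fintype ρ.range := Fintype.ofFinite _
  refine le_antisymm (fun y hy => by obtain ⟨g, rfl⟩ := hy; exact ⟨f g, rfl⟩) ?_
  rintro _ ⟨g, rfl⟩
  let H : Subgroup ρ.range := (ρ.rangeRestrict.comp f).range
  let x : MonoidAlgebra A ρ.range := ∑ t ∈ Finset.univ.filter (· ∈ H), MonoidAlgebra.of A ρ.range t
  have hx : x ∈ {x : MonoidAlgebra A ρ.range | ∀ g : G₁, MonoidAlgebra.of A ρ.range (ρ.rangeRestrict (f g)) * x = x} := by
    intro g₁
    simp only [x, Finset.mul_sum, ← map_mul]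
    refine Finset.sum_equiv (Equiv.mulLeft (ρ.rangeRestrict (f g₁))) ?_ (fun _ _ => rfl)
    intro t
    simp only [Finset.mem_filter, Finset.mem_univ, true_and, Equiv.coe_mulLeft]
    exact (H.mul_mem_cancel_left ⟨g₁, rfl⟩).symm
  rw [h] at hx
  have h1 := congrArg (fun q : MonoidAlgebra A ρ.range => q.coeff (ρ.rangeRestrict g)) (hx g)
  simp only [x, Finset.mul_sum, ← map_mul, MonoidAlgebra.of_apply, MonoidAlgebra.single_mul_single, one_mul, MonoidAlgebra.coeff_sum, Finsupp.coe_finsetSum, Finset.sum_apply, MonoidAlgebra.coeff_single, Finsupp.single_apply, Finset.sum_ite_eq', Finset.mem_filter, Finset.mem_univ, true_and] at h1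
  rw [Finset.sum_eq_single 1 (fun b _ hb => if_neg fun e => hb (mul_left_cancel (e.trans (mul_one _).symm))) (fun hn => absurd (Finset.mem_filter.mpr ⟨Finset.mem_univ _, H.one_mem⟩) hn)] at h1
  simp only [mul_one, if_true] at h1
  by_contra hg
  have : ρ.rangeRestrict g ∉ H := by
    rintro ⟨g₁, hg₁⟩
    exact hg ⟨g₁, congrArg Subtype.val hg₁⟩
  rw [if_neg this] at h1
  exact one_ne_zero h1

end Groth.Agent.S18465
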