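import Groth.Statements.S18466
import Groth.Agent.H20OT.OrderP
import Mathlib.RingTheory.RootsOfUnity.PrimitiveRoots
import Mathlib.LinearAlgebra.LinearIndependent.Basic

set_option autoImplicit false
universe u
open Hopf

namespace Groth.Agent.S18466
open Coalgebra TensorProduct

/-- Let k be a field and n ≥ 1. The constant group scheme ℤ/n over k is self-dual, that is, isomorphic
to its Cartier dual μ_n — equivalently the Hopf algebra of k-valued functions on the cyclic group of
order n and the group algebra of that group over k (group elements group-like) are isomorphic as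
bialgebras — precisely when the field k has a primitive n-th root of unity, i.e. k contains n
distinct n-th roots of unity in k. (The published statement assumes that the characteristic of k
does not divide n; both directions hold without that assumption by the same argument, since a
primitive n-th root of unity forces n to be nonzero in k, so it is omitted here.) -/
theorem result
    (k : Type u) [Field k] (n : ℕ) [NeZero n] :
    Nonempty (ConstGrp.F k (Multiplicative (ZMod n)) ≃ₐc[k] MonoidAlgebra k (Multiplicative (ZMod n))) ↔
      ∃ ζ : k, IsPrimitiveRoot ζ n := by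
  classical
  let G := Multiplicative (ZMod n)
  have hcard : Fintype.card G = n := by simp [G]
  have hGn : ∀ g : G, g ^ n = 1 := fun g => by
    refine Multiplicative.toAdd.injective ?_
    rw [toAdd_pow, toAdd_one, nsmul_eq_mul, ZMod.natCast_self, zero_mul]
  constructor
  · rintro ⟨e⟩
    -- characters attached to the group-like basis of the group algebra
    let c : G → ConstGrp.F k G := fun g => e.symm (MonoidAlgebra.single g 1)
    have hc1 : ∀ g, c g 1 = 1 := fun g => by
      have := CoalgHomClass.counit_comp_apply e.symm (MonoidAlgebra.single g (1 : k))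
      show counit (R := k) (c g) = 1
      rw [show c g = e.symm (MonoidAlgebra.single g (1 : k)) from rfl, this, MonoidAlgebra.counit_single]
      simp
    have hcm : ∀ g a b, c g (a * b) = c g a * c g b := by
      intro g a b
      have h := CoalgHomClass.map_comp_comul_apply e.symm (MonoidAlgebra.single g (1 : k))
      simp only [MonoidAlgebra.comul_single, CommSemiring.comul_apply, TensorProduct.map_tmul,
        MonoidAlgebra.lsingle_apply] at h
      change c g ⊗ₜ[k] c g = comul (R := k) (c g) at h
      have h' := congrArg (LinearMap.mul' k k ∘ₗ
        TensorProduct.map (ConstGrp.ev k a).toLinearMap (ConstGrp.ev k b).toLinearMap) h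
      rw [ConstGrp.comul_eq_sum] at h'
      simp only [map_sum, map_smul, LinearMap.coe_comp, Function.comp_apply, TensorProduct.map_tmul,
        LinearMap.mul'_apply, AlgHom.toLinearMap_apply, ConstGrp.ev_apply, smul_eq_mul] at h'
      rw [h', Finset.sum_eq_single a (fun x _ hx => Finset.sum_eq_zero fun y _ => by
          rw [ConstGrp.e_apply_of_ne (Ne.symm hx), zero_mul, mul_zero]) (by simp),
        Finset.sum_eq_single b (fun y _ hy => by
          rw [ConstGrp.e_apply_of_ne (Ne.symm hy), mul_zero, mul_zero]) (by simp)]
      simp
    let q : G → k := fun g => c g (Multiplicative.ofAdd 1)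
    have hq : ∀ g, q g ^ n = 1 := by
      intro g
      let φ : G →* k := { toFun := c g, map_one' := hc1 g, map_mul' := hcm g }
      show φ (Multiplicative.ofAdd 1) ^ n = 1
      rw [← map_pow, hGn, map_one]
    have hqi : Function.Injective q := by
      intro g h hgh
      have hcc : c g = c h := by
        ext a
        let φ : G →* k := { toFun := c g, map_one' := hc1 g, map_mul' := hcm g }
        let ψ : G →* k := { toFun := c h, map_one' := hc1 h, map_mul' := hcm h }
        show φ a = ψ a
        have ha : a = (Multiplicative.ofAdd (1 : ZMod n)) ^ (Multiplicative.toAdd a).val := by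
          refine Multiplicative.toAdd.injective ?_
          simp
        rw [ha, map_pow, map_pow]
        exact congrArg (· ^ _) hgh
      have := MonoidAlgebra.single_left_injective (one_ne_zero (α := k)) (EquivLike.injective e.symm hcc)
      exact this
    have hu : ∀ g, IsUnit (q g) := fun g => IsUnit.of_pow_eq_one (hq g) (NeZero.ne n)
    let r : G → rootsOfUnity n k := fun g => ⟨(hu g).unit, by
      rw [mem_rootsOfUnity]; ext; simpa using hq g⟩
    have hri : Function.Injective r := fun g h hgh => hqi (by
      have := congrArg (fun u : rootsOfUnity n k => ((u : kˣ) : k)) hgh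
      simpa [r] using this)
    have hge : Nat.card (rootsOfUnity n k) = n := by
      refine le_antisymm (card_rootsOfUnity k n) ?_
      have := Nat.card_le_card_of_injective r hri
      rwa [Nat.card_eq_fintype_card, hcard] at this
    obtain ⟨z, hz⟩ := IsCyclic.exists_ofOrder_eq_natCard (α := rootsOfUnity n k)
    rw [hge] at hz
    refine ⟨((z : kˣ) : k), ?_⟩
    rw [IsPrimitiveRoot.iff_orderOf, orderOf_units, Subgroup.orderOf_coe, hz]
  · rintro ⟨ζ, hζ⟩
    let χ : G → G →* k := fun g =>
      { toFun := fun h => ζ ^ ((Multiplicative.toAdd g).val * (Multiplicative.toAdd h).val)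
        map_one' := by simp
        map_mul' := fun a b => by
          rw [toAdd_mul, ZMod.val_add, pow_mul, ← pow_eq_pow_mod _ (by
            rw [← pow_mul, mul_comm, pow_mul, hζ.pow_eq_one, one_pow]), pow_add, ← pow_mul, ← pow_mul] }
    have hχm : ∀ g g' h, χ (g * g') h = χ g h * χ g' h := fun g g' h => by
      show ζ ^ _ = ζ ^ _ * ζ ^ _
      rw [toAdd_mul, ZMod.val_add, mul_comm, pow_mul, ← pow_eq_pow_mod _ (by
        rw [← pow_mul, mul_comm, pow_mul, hζ.pow_eq_one, one_pow]), pow_add, ← pow_mul, ← pow_mul,
        mul_comm (Multiplicative.toAdd h).val, mul_comm (Multiplicative.toAdd h).val]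
    have hχi : Function.Injective χ := by
      intro g g' h
      have h1 := DFunLike.congr_fun h (Multiplicative.ofAdd (1 : ZMod n))
      change ζ ^ _ = ζ ^ _ at h1
      refine Multiplicative.toAdd.injective (ZMod.val_injective n ?_)
      rcases eq_or_ne n 1 with rfl | hn
      · exact congrArg ZMod.val (Subsingleton.elim _ _)
      · haveI : Fact (1 < n) := ⟨by have := NeZero.ne n; omega⟩
        simp only [toAdd_ofAdd, ZMod.val_one, mul_one] at h1
        exact hζ.pow_inj (ZMod.val_lt _) (ZMod.val_lt _) h1
    let μ : G →* ConstGrp.F k G :=
      { toFun := fun g => fun h => χ g h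
        map_one' := by ext h; show ζ ^ _ = 1; simp
        map_mul' := fun g g' => by ext h; exact hχm g g' h }
    let Φ : MonoidAlgebra k G →ₐ[k] ConstGrp.F k G := MonoidAlgebra.lift k _ G μ
    have hΦ : ∀ g, Φ (MonoidAlgebra.single g 1) = μ g := fun g => by simp [Φ, MonoidAlgebra.lift_single]
    let ψ : MonoidAlgebra k G →ₐc[k] ConstGrp.F k G := BialgHom.ofAlgHom Φ (by
        refine MonoidAlgebra.algHom_ext (fun g => ?_) (Subsingleton.elim _ _)
        simp only [AlgHom.comp_apply, Bialgebra.counitAlgHom_apply, hΦ, MonoidAlgebra.counit_single,
          ConstGrp.counit_apply]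
        exact (χ g).map_one.trans (by simp)) (by
        refine MonoidAlgebra.algHom_ext (fun g => ?_) (Subsingleton.elim _ _)
        simp only [AlgHom.comp_apply, Bialgebra.comulAlgHom_apply, hΦ, MonoidAlgebra.comul_single,
          CommSemiring.comul_apply, TensorProduct.map_tmul, MonoidAlgebra.lsingle_apply,
          Algebra.TensorProduct.map_tmul]
        rw [ConstGrp.comul_eq_sum]
        conv_lhs => rw [ConstGrp.eq_sum_smul_e (μ g), TensorProduct.sum_tmul]
        simp only [TensorProduct.tmul_sum, smul_tmul_smul]
        refine Finset.sum_congr rfl fun a _ => Finset.sum_congr rfl fun b _ => ?_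
        exact congrArg (· • _) ((χ g).map_mul a b).symm)
    have hli : LinearIndependent k (fun g => (μ g : G → k)) :=
      (linearIndependent_monoidHom G k).comp χ hχi
    have hsurj : Function.Surjective ψ := by
      show Function.Surjective ψ.toLinearMap
      rw [← LinearMap.range_eq_top, eq_top_iff]
      have hspan : Submodule.span k (Set.range fun g => (μ g : ConstGrp.F k G)) = ⊤ :=
        LinearIndependent.span_eq_top_of_card_eq_finrank (K := k) (V := ConstGrp.F k G) hli
          (Module.finrank_fintype_fun_eq_card k).symm
      rw [← hspan, Submodule.span_le]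
      rintro _ ⟨g, rfl⟩
      exact ⟨MonoidAlgebra.single g 1, hΦ g⟩
    haveI : Module.Finite k (MonoidAlgebra k G) := Module.Finite.of_basis (MonoidAlgebra.basis G k)
    refine ⟨(BialgEquiv.ofBijective ψ ⟨?_, hsurj⟩).symm⟩
    refine (LinearMap.injective_iff_surjective_of_finrank_eq_finrank (f := ψ.toLinearMap) ?_).mpr hsurj
    rw [Module.finrank_eq_card_basis (MonoidAlgebra.basis G k)]
    exact (Module.finrank_fintype_fun_eq_card k).symm

end Groth.Agent.S18466
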