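import Groth.Statements.S18467
import Mathlib.RingTheory.Idempotents
import Mathlib.FieldTheory.Finite.Basic

set_option autoImplicit false
universe u
open Hopf

namespace Groth.Agent.S18467

/-- Let p be a prime and R a commutative ring containing an element u with u(p − 1) = 1, and let χ be a
homomorphism from the group of units of ℤ/p to the group of units of R such that χ(m) − 1 is a unit
of R for every m ≠ 1. For 0 ≤ i < p − 1 put e_i = u · Σ_m χ(m)^{−i} [m] in the group algebra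
R[(ℤ/p)ˣ]. Then the e_i are idempotents, e_i e_j = 0 for i ≠ j, and Σ_i e_i = 1. (The published
statement is for algebras over the subring of the p-adic integers generated over ℤ by the values of
the Teichmüller character χ and by 1/(p(p − 1)); the hypotheses on R and χ here are the properties
of that situation which the computation uses, so the row is stated for every such pair.) -/
theorem result
    (p : ℕ) [Fact p.Prime] (R : Type u) [CommRing R] (u : R) (hu : u * ((p - 1 : ℕ) : R) = 1)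
    (χ : (ZMod p)ˣ →* Rˣ) (hχ : ∀ m : (ZMod p)ˣ, m ≠ 1 → IsUnit ((χ m : R) - 1)) :
    CompleteOrthogonalIdempotents (fun i : Fin (p - 1) =>
      u • ∑ m : (ZMod p)ˣ, ((χ m⁻¹ : Rˣ) : R) ^ (i : ℕ) • MonoidAlgebra.of R (ZMod p)ˣ m) := by
  classical
  have hp : p.Prime := Fact.out
  have hcard : Fintype.card (ZMod p)ˣ = p - 1 := ZMod.card_units p
  let E : Fin (p - 1) → MonoidAlgebra R (ZMod p)ˣ := fun i =>
    u • ∑ m : (ZMod p)ˣ, ((χ m⁻¹ : Rˣ) : R) ^ (i : ℕ) • MonoidAlgebra.of R (ZMod p)ˣ m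
  have hinv : ∀ (m : (ZMod p)ˣ) (i : ℕ), ((χ m : Rˣ) : R) ^ i * ((χ m⁻¹ : Rˣ) : R) ^ i = 1 := fun m i => by
    rw [← mul_pow, ← Units.val_mul, ← map_mul, mul_inv_cancel, map_one, Units.val_one, one_pow]
  have hmul : ∀ (s : (ZMod p)ˣ) (i : Fin (p - 1)),
      MonoidAlgebra.of R (ZMod p)ˣ s * E i = ((χ s : Rˣ) : R) ^ (i : ℕ) • E i := by
    intro s i
    simp only [E, mul_smul_comm, smul_smul, Finset.mul_sum, Finset.smul_sum, ← map_mul]
    refine Fintype.sum_equiv (Equiv.mulLeft s) _ _ fun m => ?_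
    rw [Equiv.coe_mulLeft]
    congr 1
    rw [mul_inv_rev, map_mul, Units.val_mul, mul_pow]
    linear_combination -(u * ((χ m⁻¹ : Rˣ) : R) ^ (i : ℕ)) * hinv s i
  have hmulE : ∀ i j : Fin (p - 1), E i * E j =
      (u * ∑ m : (ZMod p)ˣ, ((χ m⁻¹ : Rˣ) : R) ^ (i : ℕ) * ((χ m : Rˣ) : R) ^ (j : ℕ)) • E j := by
    intro i j
    show (u • ∑ m : (ZMod p)ˣ, ((χ m⁻¹ : Rˣ) : R) ^ (i : ℕ) • MonoidAlgebra.of R (ZMod p)ˣ m) * E j = _
    simp only [smul_mul_assoc, Finset.sum_mul, hmul, smul_smul, Finset.smul_sum, Finset.mul_sum, Finset.sum_smul]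
    simp only [mul_assoc]
  refine ⟨⟨fun i => ?_, fun i j hij => ?_⟩, ?_⟩
  · show E i * E i = E i
    rw [hmulE]
    simp only [mul_comm (((χ _⁻¹ : Rˣ) : R) ^ (i : ℕ)), hinv, Finset.sum_const, Finset.card_univ, hcard, nsmul_eq_mul,
      mul_one, hu, one_smul]
  · show E i * E j = 0
    haveI : IsCyclic (ZMod p)ˣ := inferInstance
    obtain ⟨s, hs⟩ := IsCyclic.exists_ofOrder_eq_natCard (α := (ZMod p)ˣ)
    rw [Nat.card_eq_fintype_card, hcard] at hs
    have hne : s ^ (i : ℕ) * (s ^ (j : ℕ))⁻¹ ≠ 1 := fun h => hij (Fin.ext (pow_injOn_Iio_orderOf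
      (by rw [Set.mem_Iio, hs]; exact i.2) (by rw [Set.mem_Iio, hs]; exact j.2) (mul_inv_eq_one.1 h)))
    obtain ⟨v, hv⟩ := hχ _ hne
    have h1 : ((χ s : Rˣ) : R) ^ (i : ℕ) • (E i * E j) = ((χ s : Rˣ) : R) ^ (j : ℕ) • (E i * E j) := by
      rw [← smul_mul_assoc, ← hmul, mul_assoc, mul_left_comm, hmul, mul_smul_comm]
    have h2 : (v : R) • (E i * E j) = 0 := by
      rw [hv, sub_smul, one_smul, sub_eq_zero]
      simp only [map_mul, map_inv, map_pow, Units.val_mul, Units.val_pow_eq_pow_val]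
      rw [mul_comm, mul_smul, h1, smul_smul, ← Units.val_pow_eq_pow_val, Units.inv_mul, one_smul]
    calc E i * E j = ((v⁻¹ : Rˣ) : R) • (v : R) • (E i * E j) := by rw [smul_smul, Units.inv_mul, one_smul]
      _ = 0 := by rw [h2, smul_zero]
  · show ∑ i, E i = 1
    simp only [E, ← Finset.smul_sum]
    rw [Finset.sum_comm, Finset.sum_eq_single (1 : (ZMod p)ˣ)]
    · simp only [inv_one, map_one, Units.val_one, one_pow, one_smul, Finset.sum_const, Finset.card_univ, Fintype.card_fin,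
        ← Nat.cast_smul_eq_nsmul R, smul_smul, hu]
    · intro m _ hm
      rw [← Finset.sum_smul]
      have h0 : ∑ i : Fin (p - 1), ((χ m⁻¹ : Rˣ) : R) ^ (i : ℕ) = 0 := by
        obtain ⟨v, hv⟩ := hχ m⁻¹ (inv_ne_one.2 hm)
        have hg := geom_sum_mul ((χ m⁻¹ : Rˣ) : R) (p - 1)
        rw [← hv, ← Units.val_pow_eq_pow_val, ← map_pow, ZMod.units_pow_card_sub_one_eq_one, map_one, Units.val_one,
          sub_self, ← Fin.sum_univ_eq_sum_range (fun i => ((χ m⁻¹ : Rˣ) : R) ^ i)] at hg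
        exact v.isUnit.mul_left_eq_zero.1 hg
      rw [h0, zero_smul]
    · simp

end Groth.Agent.S18467
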