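import Groth.Statements.S18470
import Groth.Prelude.Def_CartDual
import Mathlib.LinearAlgebra.Dual.Lemmas

set_option autoImplicit false
universe u v
open OortTate

namespace Groth.Agent.S18470

/-- Let R be a commutative ring and A a commutative Hopf algebra over R which is finitely generated and
projective as an R-module (a finite locally free group scheme G = Spec A, not assumed commutative),
and let A^D = Hom_R(A, R) be the dual algebra with its Hopf structure (the Cartier dual when A is
cocommutative), whose counit is evaluation at 1. Then restriction of linear forms to the
augmentation ideal I = ker ε_A of A is a bijection from the augmentation ideal of A^D onto the dual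
module Hom_R(I, R): the dual of the augmentation ideal of G is the augmentation ideal of the dual.
The published statement is for a group scheme of order p over a Λ_p-algebra; the argument uses only
the splitting A = R·1 ⊕ ker ε. -/
theorem result
    (R : Type u) [CommRing R] (A : Type v) [CommRing A] [HopfAlgebra R A]
    [Module.Finite R A] [Module.Projective R A] :
    Function.Bijective (fun f : LinearMap.ker (Bialgebra.counitAlgHom R (CartDual.D R A)).toLinearMap =>
      ((CartDual.toDual R A) (f : CartDual.D R A)).comp
        (LinearMap.ker (Bialgebra.counitAlgHom R A).toLinearMap).subtype) := by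
  refine ⟨fun f g h => Subtype.ext (WithConv.ofConv_injective (LinearMap.ext fun a => ?_)), fun g => ?_⟩
  · have hf : (f : CartDual.D R A).ofConv 1 = 0 := f.2
    have hg : (g : CartDual.D R A).ofConv 1 = 0 := g.2
    have h' := LinearMap.congr_fun h ⟨a - algebraMap R A (Bialgebra.counitAlgHom R A a), by simp⟩
    change (f : CartDual.D R A).ofConv (a - algebraMap R A (Bialgebra.counitAlgHom R A a)) =
      (g : CartDual.D R A).ofConv (a - algebraMap R A (Bialgebra.counitAlgHom R A a)) at h'
    rw [Algebra.algebraMap_eq_smul_one, map_sub, map_sub, map_smul, map_smul, hf, hg, smul_zero, sub_zero,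
      sub_zero] at h'
    exact h'
  · let π : A →ₗ[R] LinearMap.ker (Bialgebra.counitAlgHom R A).toLinearMap :=
      (LinearMap.id - (Algebra.linearMap R A) ∘ₗ (Bialgebra.counitAlgHom R A).toLinearMap).codRestrict _
        fun a => by simp
    refine ⟨⟨WithConv.toConv (g ∘ₗ π), ?_⟩, LinearMap.ext fun x => ?_⟩
    · show g (π 1) = 0
      rw [show π (1 : A) = 0 from Subtype.ext (by
        show (1 : A) - algebraMap R A (Bialgebra.counitAlgHom R A 1) = 0
        rw [map_one, map_one, sub_self]), map_zero]
    · show g (π (x : A)) = g x
      congr 1
      refine Subtype.ext ?_
      show (x : A) - algebraMap R A (Bialgebra.counitAlgHom R A (x : A)) = x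
      rw [show Bialgebra.counitAlgHom R A (x : A) = 0 from x.2, map_zero, sub_zero]

end Groth.Agent.S18470
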