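import Groth.Statements.S18473
import Groth.Agent.H20OT.Present

set_option autoImplicit false
universe u
open OortTate

namespace Groth.Agent.S18473
set_option maxHeartbeats 1000000

/-- With the preceding computation: let p be a prime, R a commutative ring containing u with u(p − 1) =
1, and χ a homomorphism from the units of ℤ/p to the units of R such that χ(m) − 1 is a unit for
every m ≠ 1 (the situation of an algebra over the subring Λ_p of the p-adic integers generated by
the Teichmüller values and 1/(p(p − 1)), with χ the Teichmüller character, which is the published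
setting); assume moreover χ(m) ≡ m modulo pR for every m. In the group algebra over R of the cyclic
group of order p, written R[T]/(T^p − 1) with T group-like (the Hopf algebra of μ_p, on which the
power map [m] sends T to T^m), put y_i = u Σ_m χ(m)^{−i}(T^m − 1), the average of T − 1 for the
character χ^i. Then the elements y_0, …, y_{p−2} are a basis of the augmentation ideal (they are
linearly independent and span the kernel of the counit), the R-algebra is generated by y_1 alone,
and y_1^p = w·y_1 for a unique w ∈ R (the constant w_p of the classification). -/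
theorem result
    (p : ℕ) [Fact p.Prime] (R : Type u) [CommRing R] (u : R) (hu : u * ((p - 1 : ℕ) : R) = 1)
    (χ : (ZMod p)ˣ →* Rˣ) (hχ : ∀ m : (ZMod p)ˣ, m ≠ 1 → IsUnit ((χ m : R) - 1))
    (hχp : ∀ m : (ZMod p)ˣ, ((χ m : Rˣ) : R) - (((m : ZMod p).val : ℕ) : R) ∈ Ideal.span ({(p : R)} : Set R)) :
    LinearIndependent R (fun i : Fin (p - 1) => OortTate.ygen R p u χ (i : ℕ)) ∧
      Submodule.span R (Set.range (fun i : Fin (p - 1) => OortTate.ygen R p u χ (i : ℕ))) =
        LinearMap.ker (Bialgebra.counitAlgHom R (MonoidAlgebra R (Multiplicative (ZMod p)))).toLinearMap ∧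
      Algebra.adjoin R ({OortTate.ygen R p u χ 1} : Set (MonoidAlgebra R (Multiplicative (ZMod p)))) = ⊤ ∧
      ∃! w : R, OortTate.ygen R p u χ 1 ^ p = w • OortTate.ygen R p u χ 1 := by
  haveI : Module.Free R (MonoidAlgebra R (Multiplicative (ZMod p))) :=
    Module.Free.of_basis (MonoidAlgebra.basis (Multiplicative (ZMod p)) R)
  haveI : Module.Finite R (MonoidAlgebra R (Multiplicative (ZMod p))) :=
    Module.Finite.of_basis (MonoidAlgebra.basis (Multiplicative (ZMod p)) R)
  have hrk := Groth.Agent.H20OT.muP_rank (R := R) (p := p)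
  have hp := Groth.Agent.H20OT.convPow_id_eq_one hrk
  have hy : ∀ i, OortTate.ygen R p u χ i ∈ OortTate.eigenAug R _ p χ i := fun i => by
    refine Groth.Agent.H20OT.proj_mem hp i ?_
    rw [map_sub, (show IsGroupLikeElem R (OortTate.muT R p) from MonoidAlgebra.isGroupLikeElem_single_one _).counit_eq_one,
      Bialgebra.counit_one, sub_self]
  have hgen : ∀ i, ∀ x ∈ OortTate.eigenAug R _ p χ i, ∃ c : R, x = c • OortTate.ygen R p u χ i := fun i x hx => by
    obtain ⟨c, hc⟩ := Groth.Agent.H20OT.proj_augProj_muP hu hχ i x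
    rw [Groth.Agent.H20OT.augProj_of_mem (Groth.Agent.H20OT.mem_eigenAug.mp hx).1,
      Groth.Agent.H20OT.proj_of_mem hu hχ hx, if_pos rfl] at hc
    exact ⟨c, hc⟩
  have hfree : ∀ i (r : R), r • OortTate.ygen R p u χ i = 0 → r = 0 := fun i r hr => by
    haveI := Groth.Agent.H20OT.eigenAug_finite (A := MonoidAlgebra R (Multiplicative (ZMod p))) hp hu hχ i
    haveI := Groth.Agent.H20OT.eigenAug_projective (A := MonoidAlgebra R (Multiplicative (ZMod p))) hp hu hχ i
    refine Groth.Agent.H20OT.eq_zero_of_smul_eq_zero (Groth.Agent.H20OT.rank_eigenAug hrk hu hχ hχp i) fun x => ?_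
    obtain ⟨c, hc⟩ := hgen i x.1 x.2
    refine Subtype.ext ?_
    show r • (x : MonoidAlgebra R (Multiplicative (ZMod p))) = 0
    rw [hc, smul_comm, hr, smul_zero]
  refine ⟨Fintype.linearIndependent_iff.mpr fun g hg j => hfree (j : ℕ) _ ?_, ?_, ?_, ?_⟩
  · have h := congrArg (OortTate.proj R _ p u χ (j : ℕ)) hg
    rw [map_sum, map_zero, Finset.sum_eq_single j (fun i _ hi => by
      rw [map_smul, Groth.Agent.H20OT.proj_of_mem hu hχ (hy _), if_neg, smul_zero]
      rw [Nat.mod_eq_of_lt j.2, Nat.mod_eq_of_lt i.2]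
      exact fun h => hi (Fin.ext h.symm)) (by simp),
      map_smul, Groth.Agent.H20OT.proj_of_mem hu hχ (hy _), if_pos rfl] at h
    exact h
  · rw [← Groth.Agent.H20OT.iSup_eigenAug hp hu hχ]
    refine le_antisymm (Submodule.span_le.mpr ?_) (iSup_le fun i x hx => ?_)
    · rintro _ ⟨i, rfl⟩
      exact Submodule.mem_iSup_of_mem i (hy _)
    · obtain ⟨c, rfl⟩ := hgen _ x hx
      exact Submodule.smul_mem _ c (Submodule.subset_span ⟨i, rfl⟩)
  · rw [eq_top_iff, ← Groth.Agent.H20OT.adjoin_eigenAug_one hrk hu hχ hχp]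
    refine Algebra.adjoin_le fun x hx => ?_
    obtain ⟨c, rfl⟩ := hgen 1 x hx
    exact Subalgebra.smul_mem _ (Algebra.self_mem_adjoin_singleton R (OortTate.ygen R p u χ 1)) c
  · obtain ⟨w, hw⟩ := Groth.Agent.H20OT.exists_ygen_pow (p := p) hu hχ (Fact.out : p.Prime).one_le
    have hpe : OortTate.eigenAug R (MonoidAlgebra R (Multiplicative (ZMod p))) p χ p =
        OortTate.eigenAug R _ p χ 1 :=
      Groth.Agent.H20OT.eigenAug_congr (Groth.Agent.H20OT.prime_one_mod (p := p))
    obtain ⟨c, hc⟩ := hgen 1 _ (hpe ▸ hy p)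
    refine ⟨w * c, by show _ = (w * c) • _; rw [hw, hc, smul_smul], fun w' hw' => ?_⟩
    refine sub_eq_zero.mp (hfree 1 _ ?_)
    rw [sub_smul, ← hw', hw, hc, smul_smul, sub_self]

end Groth.Agent.S18473
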