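import Groth.Statements.S18475
import Groth.Agent.H20OT.Classify

set_option autoImplicit false
universe u
open OortTate

namespace Groth.Agent.S18475
theorem prod_smul_line {R : Type u} [CommRing R] {B : Type u} [CommRing B] [Algebra R B] {n : ℕ} {x : B} {γ : R}
    (hγ : x ^ n = γ • x) (r : Fin n → R) : ∏ i, r i • x = ((∏ i, r i) * γ) • x := by
  rw [Finset.prod_smul, Finset.prod_const, Finset.card_univ, Fintype.card_fin, hγ, smul_smul]


/-- Let p be a prime, R a commutative ring containing u with u(p − 1) = 1, and χ a homomorphism from the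
units of ℤ/p to the units of R such that χ(m) − 1 is a unit for every m ≠ 1 (the situation of an
algebra over the subring Λ_p of the p-adic integers generated by the Teichmüller values and 1/(p(p −
1)), with χ the Teichmüller character, which is the published setting); assume moreover χ(m) ≡ m
modulo pR for every m. Let A and A' be commutative and cocommutative Hopf algebras over R, finitely
generated and projective as R-modules of rank p at every prime (group schemes G, G' of order p over
Spec R), with dual Hopf algebras A^D = Hom_R(A, R) and A'^D (the Cartier duals; for a unit m of ℤ/p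
the power map [m] acts on all four algebras). Suppose the χ-eigenspaces of the augmentation ideals
are free of rank one with chosen generators: I_1(A) = R·x and I_1(A^D) = R·ξ with ξ(x) = 1, and
similarly I_1(A') = R·x', I_1(A'^D) = R·ξ' with ξ'(x') = 1 (this is the case of a local base R);
write x^p = α x, ξ^p = β ξ, x'^p = α' x', ξ'^p = β' ξ' with α, β, α', β' ∈ R. If there is a unit v
of R with α' = v^{p−1} α and β' = v^{−(p−1)} β, then A and A' are isomorphic as bialgebras over R,
i.e. G ≅ G'. (This is the injectivity of the classification map G ↦ (I_1, a, b) in the case where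
the invertible module I_1 is free, the case the copy spells out; the general statement compares
triples consisting of an invertible module with two maps.) The published argument obtains
commutativity and p-torsion of G over a locally Noetherian base; this row allows any commutative
ring R, over which both still hold. -/
theorem result
    (p : ℕ) [Fact p.Prime] (R : Type u) [CommRing R] (u : R) (hu : u * ((p - 1 : ℕ) : R) = 1)
    (χ : (ZMod p)ˣ →* Rˣ) (hχ : ∀ m : (ZMod p)ˣ, m ≠ 1 → IsUnit ((χ m : R) - 1))
    (hχp : ∀ m : (ZMod p)ˣ, ((χ m : Rˣ) : R) - (((m : ZMod p).val : ℕ) : R) ∈ Ideal.span ({(p : R)} : Set R))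
    (A : Type u) [CommRing A] [HopfAlgebra R A] [Coalgebra.IsCocomm R A] [Module.Finite R A]
    [Module.Projective R A] (hrk : ∀ q : PrimeSpectrum R, Module.rankAtStalk A q = p)
    (A' : Type u) [CommRing A'] [HopfAlgebra R A'] [Coalgebra.IsCocomm R A'] [Module.Finite R A']
    [Module.Projective R A'] (hrk' : ∀ q : PrimeSpectrum R, Module.rankAtStalk A' q = p)
    (x : A) (hx : Submodule.span R {x} = OortTate.eigenAug R A p χ 1)
    (ξ : CartDual.D R A) (hξ : Submodule.span R {ξ} = OortTate.eigenAug R (CartDual.D R A) p χ 1)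
    (hxξ : CartDual.toDual R A ξ x = 1)
    (x' : A') (hx' : Submodule.span R {x'} = OortTate.eigenAug R A' p χ 1)
    (ξ' : CartDual.D R A') (hξ' : Submodule.span R {ξ'} = OortTate.eigenAug R (CartDual.D R A') p χ 1)
    (hxξ' : CartDual.toDual R A' ξ' x' = 1)
    (α β α' β' : R) (hα : x ^ p = α • x) (hβ : ξ ^ p = β • ξ) (hα' : x' ^ p = α' • x')
    (hβ' : ξ' ^ p = β' • ξ')
    (v : Rˣ) (hαv : α' = ((v ^ (p - 1) : Rˣ) : R) * α) (hβv : β' = ((v⁻¹ ^ (p - 1) : Rˣ) : R) * β) :
    Nonempty (A ≃ₐc[R] A') := by
  have hfree : ∀ r s : R, r • x = s • x → r = s := fun r s h => by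
    have := congrArg (CartDual.toDual R A ξ) h
    rw [map_smul, map_smul, hxξ] at this
    simpa using this
  have hfree' : ∀ r s : R, r • x' = s • x' → r = s := fun r s h => by
    have := congrArg (CartDual.toDual R A' ξ') h
    rw [map_smul, map_smul, hxξ'] at this
    simpa using this
  have hxm : ∀ z ∈ OortTate.eigenAug R A p χ 1, ∃ r : R, z = r • x := fun z hz => by
    rw [← hx] at hz
    obtain ⟨r, hr⟩ := Submodule.mem_span_singleton.mp hz
    exact ⟨r, hr.symm⟩
  have hxm' : ∀ z ∈ OortTate.eigenAug R A' p χ 1, ∃ r : R, z = r • x' := fun z hz => by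
    rw [← hx'] at hz
    obtain ⟨r, hr⟩ := Submodule.mem_span_singleton.mp hz
    exact ⟨r, hr.symm⟩
  have hmx : ∀ r : R, r • x ∈ OortTate.eigenAug R A p χ 1 := fun r =>
    hx ▸ Submodule.smul_mem _ r (Submodule.mem_span_singleton_self x)
  have hmx' : ∀ r : R, r • x' ∈ OortTate.eigenAug R A' p χ 1 := fun r =>
    hx' ▸ Submodule.smul_mem _ r (Submodule.mem_span_singleton_self x')
  let s : R := ((v⁻¹ : Rˣ) : R)
  let c : OortTate.eigenAug R A p χ 1 → R := fun z => CartDual.toDual R A ξ (z : A)
  have hc : ∀ z : OortTate.eigenAug R A p χ 1, (z : A) = c z • x := fun z => by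
    obtain ⟨r, hr⟩ := hxm z.1 z.2
    rw [hr]; congr 1; simp only [c]; rw [hr, map_smul, hxξ, smul_eq_mul, mul_one]
  let c' : OortTate.eigenAug R A' p χ 1 → R := fun z => CartDual.toDual R A' ξ' (z : A')
  have hc' : ∀ z : OortTate.eigenAug R A' p χ 1, (z : A') = c' z • x' := fun z => by
    obtain ⟨r, hr⟩ := hxm' z.1 z.2
    rw [hr]; congr 1; simp only [c']; rw [hr, map_smul, hxξ', smul_eq_mul, mul_one]
  let θ : OortTate.eigenAug R A p χ 1 ≃ₗ[R] OortTate.eigenAug R A' p χ 1 :=
    { toFun := fun z => ⟨(c z * s) • x', hmx' _⟩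
      map_add' := fun a b => Subtype.ext (by simp [c, add_mul, add_smul])
      map_smul' := fun r a => Subtype.ext (by simp [c, smul_smul, mul_assoc])
      invFun := fun z => ⟨(c' z * (v : R)) • x, hmx _⟩
      left_inv := fun z => Subtype.ext (by
        show (CartDual.toDual R A' ξ' ((c z * s) • x') * (v : R)) • x = z
        rw [map_smul, hxξ', smul_eq_mul, mul_one, mul_assoc]
        conv_rhs => rw [hc z]
        simp [s])
      right_inv := fun z => Subtype.ext (by
        show (CartDual.toDual R A ξ ((c' z * (v : R)) • x) * s) • x' = z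
        rw [map_smul, hxξ, smul_eq_mul, mul_one, mul_assoc]
        conv_rhs => rw [hc' z]
        simp [s]) }
  have hθval : ∀ z, ((θ z : OortTate.eigenAug R A' p χ 1) : A') = (c z * s) • x' := fun z => rfl
  have hvs : s ^ (p - 1) * ((v ^ (p - 1) : Rˣ) : R) = 1 := by simp [s, ← mul_pow]
  have hsp : s ^ p = s ^ (p - 1) * s := by
    rw [← pow_succ, Nat.sub_add_cancel (Fact.out : p.Prime).one_le]
  refine Groth.Agent.H20OT.nonempty_bialgEquiv hu hχ hχp hrk hrk' θ (fun f g hfg => ?_) ?_
  · have hg : c g = (∏ i, c (f i)) * α := hfree _ _ (by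
      rw [← hc g, hfg, Finset.prod_congr rfl fun i _ => hc (f i), prod_smul_line hα])
    rw [Finset.prod_congr rfl fun i _ => hθval (f i), prod_smul_line hα', hθval, hg]
    congr 1
    rw [Finset.prod_mul_distrib, Finset.prod_const, Finset.card_univ, Fintype.card_fin, hsp, hαv]
    linear_combination (-(α * (∏ i, c (f i)) * s)) * hvs
  · intro φ φ' ψ ψ' hrel hψ hψ' z
    have hd : ∀ w ∈ OortTate.eigenAug R (CartDual.D R A) p χ 1, w = CartDual.toDual R A w x • ξ := fun w hw => by
      rw [← hξ] at hw
      obtain ⟨r, rfl⟩ := Submodule.mem_span_singleton.mp hw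
      rw [map_smul, LinearMap.smul_apply, hxξ, smul_eq_mul, mul_one]
    have hd' : ∀ w ∈ OortTate.eigenAug R (CartDual.D R A') p χ 1, w = CartDual.toDual R A' w x' • ξ' := fun w hw => by
      rw [← hξ'] at hw
      obtain ⟨r, rfl⟩ := Submodule.mem_span_singleton.mp hw
      rw [map_smul, LinearMap.smul_apply, hxξ', smul_eq_mul, mul_one]
    have hxx : c ⟨x, by simpa using hmx 1⟩ = 1 := hxξ
    have hcoef : ∀ i, CartDual.toDual R A (φ i : CartDual.D R A) x = s * CartDual.toDual R A' (φ' i : CartDual.D R A') x' := fun i => by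
      have h := hrel i ⟨x, by simpa using hmx 1⟩
      rw [hθval, hxx, one_mul, map_smul, smul_eq_mul] at h
      exact h
    rw [hψ, hψ', Finset.prod_congr rfl fun i _ => hd _ (φ i).2, Finset.prod_congr rfl fun i _ => hd' _ (φ' i).2,
      prod_smul_line hβ, prod_smul_line hβ', hθval, hc z]
    simp only [map_smul, LinearMap.smul_apply, hxξ, hxξ', smul_eq_mul, mul_one]
    rw [Finset.prod_congr rfl fun i _ => hcoef i, Finset.prod_mul_distrib, Finset.prod_const, Finset.card_univ,
      Fintype.card_fin, hsp, hβv]
    have : ((v⁻¹ ^ (p - 1) : Rˣ) : R) = s ^ (p - 1) := by simp [s]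
    rw [this]
    ring

end Groth.Agent.S18475
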