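import Groth.Statements.S18476
import Mathlib.RingTheory.PowerSeries.WeierstrassPreparation
import Mathlib.RingTheory.PowerSeries.Substitution
import Mathlib.LinearAlgebra.Dimension.Constructions
import Mathlib.LinearAlgebra.Dimension.Finite

set_option autoImplicit false
universe u
open FmlGrp

namespace Groth.Agent.S18476

open PowerSeries IsLocalRing

section

variable {O : Type u} [CommRing O] [IsDomain O]

theorem constantCoeff_eq_zero_of_hasSubst {f : MvPowerSeries Unit O}
    (hf : PowerSeries.HasSubst f) : PowerSeries.constantCoeff (f : O⟦X⟧) = 0 :=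
  IsNilpotent.eq_zero (show IsNilpotent (MvPowerSeries.constantCoeff f) from hf)

/-- substitution of `f` as an algebra endomorphism -/
noncomputable def phi (f : O⟦X⟧) (hf : constantCoeff f = 0) : O⟦X⟧ →ₐ[O] O⟦X⟧ :=
  PowerSeries.substAlgHom (HasSubst.of_constantCoeff_zero' hf)

theorem phi_apply (f : O⟦X⟧) (hf : constantCoeff f = 0) (c : O⟦X⟧) :
    phi f hf c = PowerSeries.subst f c := by
  rw [phi, PowerSeries.coe_substAlgHom]

theorem phi_X (f : O⟦X⟧) (hf : constantCoeff f = 0) : phi f hf X = f := by
  rw [phi_apply]
  exact PowerSeries.subst_X (HasSubst.of_constantCoeff_zero' hf)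

theorem phi_C (f : O⟦X⟧) (hf : constantCoeff f = 0) (a : O) : phi f hf (C a) = C a :=
  (phi f hf).commutes a

theorem phi_decomp (f : O⟦X⟧) (hf : constantCoeff f = 0) (c : O⟦X⟧) :
    phi f hf c = C (constantCoeff c) + f * phi f hf (mk fun p => coeff (p + 1) c) := by
  conv_lhs => rw [eq_X_mul_shift_add_const c]
  rw [map_add, map_mul, phi_X, phi_C, add_comm]

variable [IsLocalRing O]

theorem not_free (f : O⟦X⟧) (hf : constantCoeff f = 0)
    (hm : ∀ k, coeff k f ∈ maximalIdeal O) (n : ℕ) (b : Fin n → O⟦X⟧) :
    ¬ ∀ g : O⟦X⟧, ∃ c : Fin n → O⟦X⟧, g = ∑ i, phi f hf (c i) * b i := by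
  intro h
  set π := PowerSeries.map (residue O) with hπ
  have hπf : π f = 0 := by
    ext k
    rw [hπ, coeff_map, map_zero]
    exact Ideal.Quotient.eq_zero_iff_mem.2 (hm k)
  set L : (ResidueField O)⟦X⟧ →ₗ[ResidueField O] (Fin (n + 1) → ResidueField O) :=
    LinearMap.pi fun i => coeff (i : ℕ) with hL
  set v : Fin n → (Fin (n + 1) → ResidueField O) := fun i => L (π (b i)) with hv
  have htop : Submodule.span (ResidueField O) (Set.range v) = ⊤ := by
    rw [eq_top_iff]
    intro y _
    obtain ⟨z, hz⟩ : ∃ z : O⟦X⟧, L (π z) = y := by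
      choose s hs using fun i => residue_surjective (R := O) (y i)
      refine ⟨mk fun k => if hk : k < n + 1 then s ⟨k, hk⟩ else 0, ?_⟩
      funext i
      simp [hL, hπ, hs, Fin.is_le i]
    obtain ⟨c, hc⟩ := h z
    rw [← hz, hc, map_sum, map_sum]
    refine Submodule.sum_mem _ fun i _ => ?_
    rw [map_mul π, phi_decomp, map_add π, map_mul π, hπf, zero_mul, add_zero, hπ, map_C,
      ← smul_eq_C_mul, map_smul]
    exact Submodule.smul_mem _ _ (Submodule.subset_span ⟨i, rfl⟩)
  have h1 := finrank_range_le_card (R := ResidueField O) v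
  rw [Set.finrank, htop, finrank_top, Module.finrank_fin_fun, Fintype.card_fin] at h1
  omega

end

section

variable {O : Type u} [CommRing O] [IsDomain O] [IsLocalRing O]
  [IsAdicComplete (maximalIdeal O) O]

/-- the digits of `g` in base `f` -/
noncomputable def digit (f g : O⟦X⟧) (i : ℕ) : O⟦X⟧ :=
  mk fun k => (((fun h : O⟦X⟧ => h /ʷ f)^[k] g) %ʷ f).coeff i

theorem digit_eq (f g : O⟦X⟧) (i : ℕ) :
    digit f g i = C ((g %ʷ f).coeff i) + X * digit f (g /ʷ f) i := by
  ext (_ | k)
  · simp [digit]
  · simp [digit, coeff_succ_X_mul, coeff_C]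

theorem polynomial_eq_sum {n : ℕ} {r : Polynomial O} (hr : r.degree < (n : WithBot ℕ)) :
    (r : O⟦X⟧) = ∑ i : Fin n, C (r.coeff i) * X ^ (i : ℕ) := by
  ext k
  simp only [Polynomial.coeff_coe, map_sum, coeff_C_mul, coeff_X_pow, mul_ite, mul_one, mul_zero]
  by_cases hk : k < n
  · rw [Finset.sum_eq_single (⟨k, hk⟩ : Fin n)]
    · simp
    · intro i _ hi
      rw [if_neg]
      exact fun h => hi (Fin.ext h.symm)
    · simp
  · rw [Finset.sum_eq_zero]
    · exact Polynomial.coeff_eq_zero_of_degree_lt (hr.trans_le (by exact_mod_cast not_lt.1 hk))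
    · intro i _
      rw [if_neg]
      exact fun h => hk (h ▸ i.isLt)

theorem exists_digits (f : O⟦X⟧) (hf : constantCoeff f = 0) (hne : f.map (residue O) ≠ 0)
    (g : O⟦X⟧) :
    g = ∑ i : Fin (f.map (residue O)).order.toNat, phi f hf (digit f g i) * X ^ (i : ℕ) := by
  have key : ∀ (K : ℕ) (g : O⟦X⟧), X ^ K ∣
      g - ∑ i : Fin (f.map (residue O)).order.toNat, phi f hf (digit f g i) * X ^ (i : ℕ) := by
    intro K
    induction K with
    | zero => simp
    | succ K ih =>
      intro g
      have e : g - ∑ i : Fin (f.map (residue O)).order.toNat,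
          phi f hf (digit f g i) * X ^ (i : ℕ) =
          f * (g /ʷ f - ∑ i : Fin (f.map (residue O)).order.toNat,
            phi f hf (digit f (g /ʷ f) i) * X ^ (i : ℕ)) := by
        have e1 : ∑ i : Fin (f.map (residue O)).order.toNat,
            phi f hf (digit f g i) * X ^ (i : ℕ) =
            ((g %ʷ f : Polynomial O) : O⟦X⟧) + f * ∑ i : Fin (f.map (residue O)).order.toNat,
              phi f hf (digit f (g /ʷ f) i) * X ^ (i : ℕ) := by
          rw [polynomial_eq_sum (degree_weierstrassMod_lt g f), Finset.mul_sum,
            ← Finset.sum_add_distrib]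
          refine Finset.sum_congr rfl fun i _ => ?_
          rw [digit_eq f g i, map_add, map_mul, phi_C, phi_X]
          ring
        rw [e1]
        conv_lhs => arg 1; rw [eq_mul_weierstrassDiv_add_weierstrassMod g hne]
        ring
      rw [e, pow_succ']
      exact mul_dvd_mul (X_dvd_iff.2 hf) (ih _)
  rw [← sub_eq_zero]
  ext k
  rw [map_zero]
  exact X_pow_dvd_iff.1 (key (k + 1) g) k k.lt_succ_self

theorem digits_unique (f : O⟦X⟧) (hf : constantCoeff f = 0) (hne : f.map (residue O) ≠ 0)
    (c : Fin (f.map (residue O)).order.toNat → O⟦X⟧)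
    (hc : ∑ i, phi f hf (c i) * X ^ (i : ℕ) = 0) : c = 0 := by
  have key : ∀ (k : ℕ) (c : Fin (f.map (residue O)).order.toNat → O⟦X⟧),
      ∑ i, phi f hf (c i) * X ^ (i : ℕ) = 0 → ∀ i, coeff k (c i) = 0 := by
    intro k
    induction k with
    | zero =>
      intro c hc i
      have hd : IsWeierstrassDivision 0 f
          (∑ i, phi f hf (mk fun p => coeff (p + 1) (c i)) * X ^ (i : ℕ))
          (∑ i : Fin (f.map (residue O)).order.toNat,
            Polynomial.monomial (i : ℕ) (constantCoeff (c i))) := by
        constructor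
        · refine (Polynomial.degree_sum_le _ _).trans_lt
            ((Finset.sup_lt_iff (WithBot.bot_lt_coe _)).2 fun i _ => ?_)
          exact (Polynomial.degree_monomial_le _ _).trans_lt (WithBot.coe_lt_coe.2 i.isLt)
        · rw [← hc, Finset.mul_sum, ← Polynomial.coeToPowerSeries.ringHom_apply, map_sum,
            ← Finset.sum_add_distrib]
          refine Finset.sum_congr rfl fun i _ => ?_
          rw [Polynomial.coeToPowerSeries.ringHom_apply, Polynomial.coe_monomial,
            monomial_eq_C_mul_X_pow, phi_decomp f hf (c i)]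
          ring
      have hr := congrArg (Polynomial.coeff · (i : ℕ)) (hd.eq_zero hne).2
      simpa [Polynomial.finsetSum_coeff, Polynomial.coeff_monomial, Fin.val_inj] using hr
    | succ k ih =>
      intro c hc i
      have h0 : ∀ i, constantCoeff (c i) = 0 := fun i => by
        have hd : IsWeierstrassDivision 0 f
            (∑ i, phi f hf (mk fun p => coeff (p + 1) (c i)) * X ^ (i : ℕ))
            (∑ i : Fin (f.map (residue O)).order.toNat,
              Polynomial.monomial (i : ℕ) (constantCoeff (c i))) := by
          constructor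
          · refine (Polynomial.degree_sum_le _ _).trans_lt
              ((Finset.sup_lt_iff (WithBot.bot_lt_coe _)).2 fun i _ => ?_)
            exact (Polynomial.degree_monomial_le _ _).trans_lt (WithBot.coe_lt_coe.2 i.isLt)
          · rw [← hc, Finset.mul_sum, ← Polynomial.coeToPowerSeries.ringHom_apply, map_sum,
              ← Finset.sum_add_distrib]
            refine Finset.sum_congr rfl fun i _ => ?_
            rw [Polynomial.coeToPowerSeries.ringHom_apply, Polynomial.coe_monomial,
              monomial_eq_C_mul_X_pow, phi_decomp f hf (c i)]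
            ring
        have hr := congrArg (Polynomial.coeff · (i : ℕ)) (hd.eq_zero hne).2
        simpa [Polynomial.finsetSum_coeff, Polynomial.coeff_monomial, Fin.val_inj] using hr
      have hq : f * ∑ i, phi f hf (mk fun p => coeff (p + 1) (c i)) * X ^ (i : ℕ) = 0 := by
        rw [← hc, Finset.mul_sum]
        refine Finset.sum_congr rfl fun i _ => ?_
        rw [phi_decomp f hf (c i), h0 i, map_zero]
        ring
      have hf0 : f ≠ 0 := fun h => hne (by rw [h, map_zero])
      have := ih _ ((mul_eq_zero.1 hq).resolve_left hf0) i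
      simpa using this
  funext i
  ext k
  simpa using key k c hc i

theorem main (f : O⟦X⟧) (hf : constantCoeff f = 0) :
    (∃ n : ℕ, coeff n f ∉ maximalIdeal O) ↔
      ∃ (n : ℕ) (b : Fin n → O⟦X⟧), ∀ g : O⟦X⟧, ∃! c : Fin n → O⟦X⟧,
        g = ∑ i, PowerSeries.subst f (c i) * b i := by
  simp only [← phi_apply f hf]
  constructor
  · rintro ⟨m, hm⟩
    have hne : f.map (residue O) ≠ 0 := fun h => hm (by
      have := congrArg (coeff m) h
      rw [coeff_map, map_zero] at this
      exact Ideal.Quotient.eq_zero_iff_mem.1 this)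
    refine ⟨_, fun i => X ^ (i : ℕ), fun g => ⟨fun i => digit f g i, exists_digits f hf hne g, ?_⟩⟩
    intro c hc
    have := digits_unique f hf hne (c - fun i : Fin _ => digit f g i) (by
      simp only [Pi.sub_apply, map_sub, sub_mul, Finset.sum_sub_distrib]
      rw [← hc, ← exists_digits f hf hne g, sub_self])
    exact sub_eq_zero.1 this
  · rintro ⟨n, b, hb⟩
    by_contra h
    push Not at h
    exact not_free f hf h n b fun g => (hb g).exists

end


/-- Let O be a complete discrete valuation ring whose maximal ideal m contains the prime number p, and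
let F be a one-dimensional formal group law over O, with multiplication-by-p series f = [p]_F(X) = X
+_F ⋯ +_F X ∈ O[[X]]. Then f has a coefficient outside m (f is not ≡ 0 mod m) if and only if F is
p-divisible in the sense that O[[X]] is free of finite rank over itself through the substitution
endomorphism X ↦ f: there are finitely many power series b_1, …, b_n such that every power series g
can be written uniquely as Σ_i c_i(f(X))·b_i. (The published statement asserts instead that F is
p-divisible iff F does not reduce to X + Y modulo m; that is false — over the p-adic integers the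
law φ⁻¹(φ(X) + φ(Y)) with φ = X + X^{p+1} is not congruent to X + Y modulo p, yet its
multiplication-by-p series φ⁻¹(pφ(X)) vanishes modulo p — and the printed proof establishes exactly
the criterion on f stated here.) The published setting is the valuation ring of a finite extension
of ℚ_p; the argument uses only that O is a complete discrete valuation ring with p in its maximal
ideal. -/
theorem result
    (O : Type u) [CommRing O] [IsDomain O] [IsDiscreteValuationRing O]
    [IsAdicComplete (IsLocalRing.maximalIdeal O) O]
    (p : ℕ) [Fact p.Prime] (hp : (p : O) ∈ IsLocalRing.maximalIdeal O)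
    (F : FormalGroup O) :
    (∃ n : ℕ, PowerSeries.coeff n
        ((p • (show F.Point Unit from ⟨PowerSeries.X, PowerSeries.HasSubst.X'⟩)).val) ∉
          IsLocalRing.maximalIdeal O) ↔
      ∃ (n : ℕ) (b : Fin n → PowerSeries O), ∀ g : PowerSeries O, ∃! c : Fin n → PowerSeries O,
        g = ∑ i, PowerSeries.subst
          ((p • (show F.Point Unit from ⟨PowerSeries.X, PowerSeries.HasSubst.X'⟩)).val) (c i) * b i := by
  exact main _ (constantCoeff_eq_zero_of_hasSubst
    (p • (show F.Point Unit from ⟨PowerSeries.X, PowerSeries.HasSubst.X'⟩)).property)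

end Groth.Agent.S18476
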