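import Groth.Statements.S18477
import Groth.Agent.H20OT.Present

set_option autoImplicit false
universe u
open scoped TensorProduct
open OortTate

namespace Groth.Agent.S18477
open Groth.Agent.H20OT in
theorem aux {R : Type u} [CommRing R] {A : Type u} [CommRing A] [HopfAlgebra R A] [Coalgebra.IsCocomm R A]
    [Module.Finite R A] [Module.Projective R A] {p : ℕ} [Fact p.Prime] {u : R} {χ : (ZMod p)ˣ →* Rˣ}
    (hrk : ∀ q : PrimeSpectrum R, Module.rankAtStalk A q = p)
    (hu : u * ((p - 1 : ℕ) : R) = 1) (hχ : ∀ m : (ZMod p)ˣ, m ≠ 1 → IsUnit ((χ m : R) - 1))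
    (hχp : ∀ m : (ZMod p)ˣ, ((χ m : Rˣ) : R) - (((m : ZMod p).val : ℕ) : R) ∈ Ideal.span ({(p : R)} : Set R))
    (e : A ⊗[R] CartDual.D R A) (he : ∀ b, (toEnd R A e).ofConv b = proj R A p u χ 1 (augProj R A b)) :
    Submodule.span R {e} = LinearMap.range (TensorProduct.map (OortTate.eigenAug R A p χ 1).subtype
        (OortTate.eigenAug R (CartDual.D R A) p χ 1).subtype) ∧ ∀ r : R, r • e = 0 → r = 0 := by
  have hp := convPow_id_eq_one hrk
  haveI := eigenAug_finite (A := A) hp hu hχ 1
  haveI := eigenAug_projective (A := A) hp hu hχ 1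
  have hr1 := rank_eigenAug hrk hu hχ hχp (A := A) 1
  have hsmul : ∀ (c : R) (t : A ⊗[R] CartDual.D R A) b, (toEnd R A (c • t)).ofConv b = c • (toEnd R A t).ofConv b :=
    fun c t b => congrArg (fun f : WithConv (A →ₗ[R] A) => f.ofConv b) (map_smul (toEnd R A).toLinearMap c t)
  refine ⟨le_antisymm ?_ ?_, fun r hr => eq_zero_of_smul_eq_zero hr1 fun x => Subtype.ext ?_⟩
  · rw [Submodule.span_singleton_le_iff_mem]
    obtain ⟨n, a, φ, hb⟩ := exists_dual_basis (R := R) (A := A)
    refine ⟨∑ i, retract R A hp (χ := χ) u 1 (a i) ⊗ₜ[R] ⟨extDual (χ := χ) hp u 1 ((φ i) ∘ₗ (OortTate.eigenAug R A p χ 1).subtype),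
      extDual_mem hp 1 _⟩, toEnd_injective (WithConv.ofConv_injective (LinearMap.ext fun b => ?_))⟩
    rw [he]
    set g := retract R A hp (χ := χ) u 1 b with hg
    have hval : ∀ i, (toEnd R A ((retract R A hp (χ := χ) u 1 (a i) : A) ⊗ₜ[R]
        extDual (χ := χ) hp u 1 ((φ i) ∘ₗ (OortTate.eigenAug R A p χ 1).subtype))).ofConv b =
          φ i (g : A) • (retract R A hp (χ := χ) u 1 (a i) : A) := fun i => toEnd_tmul_apply _ _ b
    rw [map_sum]
    simp only [TensorProduct.map_tmul, Submodule.coe_subtype]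
    rw [show toEnd R A (∑ i, (retract R A hp (χ := χ) u 1 (a i) : A) ⊗ₜ[R]
        extDual (χ := χ) hp u 1 ((φ i) ∘ₗ (OortTate.eigenAug R A p χ 1).subtype)) = _ from
      map_sum (toEnd R A).toLinearMap _ _, WithConv.ofConv_sum, LinearMap.sum_apply]
    refine (Finset.sum_congr rfl fun i _ => hval i).trans ?_
    rw [← Submodule.coe_subtype, ← Finset.sum_congr rfl fun i _ => map_smul (OortTate.eigenAug R A p χ 1).subtype _ _,
      ← map_sum, ← Finset.sum_congr rfl fun i _ => map_smul (retract R A hp (χ := χ) u 1) _ _, ← map_sum, hb, hg]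
    show ((retract R A hp (χ := χ) u 1 ((retract R A hp (χ := χ) u 1 b : OortTate.eigenAug R A p χ 1) : A) : OortTate.eigenAug R A p χ 1) : A) = _
    rw [retract_coe hp hu hχ]
    rfl
  · rintro _ ⟨t, rfl⟩
    induction t using TensorProduct.induction_on with
    | zero => simp
    | add a b ha hb => rw [map_add]; exact add_mem ha hb
    | tmul a f =>
      refine Submodule.mem_span_singleton.mpr ⟨(f : CartDual.D R A).ofConv (a : A),
        toEnd_injective (WithConv.ofConv_injective (LinearMap.ext fun b => ?_))⟩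
      rw [TensorProduct.map_tmul, hsmul, he, Submodule.coe_subtype, Submodule.coe_subtype, toEnd_tmul_apply,
        ← dual_apply_proj hu hχ f.2 b]
      exact (congrArg Subtype.val (rankOne_swap hr1
        ((CartDual.toDual R A (f : CartDual.D R A)).comp (OortTate.eigenAug R A p χ 1).subtype)
        ⟨_, proj_mem hp 1 (counit_augProj b)⟩ a)).symm
  · have h := hsmul r e (x : A)
    rw [hr, he, augProj_of_mem (mem_eigenAug.mp x.2).1, proj_of_mem hu hχ x.2, if_pos rfl] at h
    refine h.symm.trans ?_
    exact congrArg (fun f : WithConv (A →ₗ[R] A) => f.ofConv (x : A)) (map_zero (toEnd R A).toLinearMap)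


/-- Let p be a prime, R a commutative ring containing u with u(p − 1) = 1, and χ a homomorphism from the
units of ℤ/p to the units of R such that χ(m) − 1 is a unit for every m ≠ 1 (the situation of an
algebra over the subring Λ_p of the p-adic integers generated by the Teichmüller values and 1/(p(p −
1)), with χ the Teichmüller character, which is the published setting); assume moreover χ(m) ≡ m
modulo pR for every m. Let A be a commutative and cocommutative Hopf algebra over R, finitely
generated and projective as an R-module of rank p at every prime (a group scheme G of order p), A^D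
= Hom_R(A, R) its dual Hopf algebra (Cartier dual), δ ∈ A ⊗ A^D the canonical element — the one with
(id ⊗ ev_a)(δ) = a for every a ∈ A, corresponding to the identity of A — and ϕ the R-algebra map
from the group algebra of ℤ/p (the Hopf algebra R[T]/(T^p − 1) of μ_p, T group-like) to A ⊗ A^D with
ϕ(T) = δ; ϕ is the comorphism of the Cartier pairing G × G^D → μ_p. Let I_1(A) ⊆ A and I_1(A^D) ⊆
A^D be the χ-eigenspaces of the augmentation ideals under the power maps [m], and y_1 = u Σ_m
χ(m)^{−1}(T^m − 1). Then ϕ(y_1) generates the image of I_1(A) ⊗ I_1(A^D) in A ⊗ A^D as an R-module,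
and r·ϕ(y_1) = 0 only for r = 0 (so that image is free of rank one on ϕ(y_1)). The published
argument obtains commutativity and p-torsion of G over a locally Noetherian base; this row allows
any commutative ring R, over which both still hold. -/
theorem result
    (p : ℕ) [Fact p.Prime] (R : Type u) [CommRing R] (u : R) (hu : u * ((p - 1 : ℕ) : R) = 1)
    (χ : (ZMod p)ˣ →* Rˣ) (hχ : ∀ m : (ZMod p)ˣ, m ≠ 1 → IsUnit ((χ m : R) - 1))
    (hχp : ∀ m : (ZMod p)ˣ, ((χ m : Rˣ) : R) - (((m : ZMod p).val : ℕ) : R) ∈ Ideal.span ({(p : R)} : Set R))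
    (A : Type u) [CommRing A] [HopfAlgebra R A] [Coalgebra.IsCocomm R A] [Module.Finite R A]
    [Module.Projective R A] (hrk : ∀ q : PrimeSpectrum R, Module.rankAtStalk A q = p)
    (δ : A ⊗[R] CartDual.D R A)
    (hδ : ∀ a : A, TensorProduct.rid R A
      (LinearMap.lTensor A ((Module.Dual.eval R A a) ∘ₗ (CartDual.toDual R A).toLinearMap) δ) = a)
    (ϕ : MonoidAlgebra R (Multiplicative (ZMod p)) →ₐ[R] A ⊗[R] CartDual.D R A)
    (hϕ : ϕ (OortTate.muT R p) = δ) :
    Submodule.span R {ϕ (OortTate.ygen R p u χ 1)} =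
        LinearMap.range (TensorProduct.map (OortTate.eigenAug R A p χ 1).subtype
          (OortTate.eigenAug R (CartDual.D R A) p χ 1).subtype) ∧
      ∀ r : R, r • ϕ (OortTate.ygen R p u χ 1) = 0 → r = 0 := by
  exact aux hrk hu hχ hχp _ (Groth.Agent.H20OT.toEnd_pairing_ygen hδ hϕ 1)

end Groth.Agent.S18477
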