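import Groth.Statements.S18479
import Mathlib.RingTheory.HopfAlgebra.Basic
import Mathlib.Tactic.Module
import Mathlib.Tactic.LinearCombination

set_option autoImplicit false
universe u v
open scoped TensorProduct
open OortTate

namespace Groth.Agent.S18479

/-- Let R be a commutative ring and A a commutative Hopf algebra over R whose augmentation ideal ker ε
is a free R-module of rank one with generator x (this is the situation of a group scheme of order 2
over a local ring: A free of rank 2, so ker ε is free of rank 1). Then there are a, b ∈ R with x² =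
a·x, Δ(x) = x ⊗ 1 + 1 ⊗ x + b·(x ⊗ x), and ab = −2; thus A is the Hopf algebra R[T]/(T² − aT) with
comultiplication T ↦ T ⊗ 1 + 1 ⊗ T + b T ⊗ T. (The copy works over a Noetherian local ring to get
freeness; the computation uses only that ker ε is free on x.) -/
theorem result
    (R : Type u) [CommRing R] (A : Type v) [CommRing A] [HopfAlgebra R A]
    (x : A) (hx : Bialgebra.counitAlgHom R A x = 0)
    (hgen : ∀ f : A, Bialgebra.counitAlgHom R A f = 0 → ∃ r : R, f = r • x)
    (hfree : ∀ r : R, r • x = 0 → r = 0) :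
    ∃ a b : R, x * x = a • x ∧
      Bialgebra.comulAlgHom R A x = x ⊗ₜ[R] 1 + 1 ⊗ₜ[R] x + b • (x ⊗ₜ[R] x) ∧ a * b = -2 := by
  have hdec : ∀ f : A, ∃ r : R, f - algebraMap R A (Bialgebra.counitAlgHom R A f) = r • x := fun f =>
    hgen _ (by simp)
  choose φ hφ using hdec
  have hadd : ∀ f g, φ (f + g) = φ f + φ g := fun f g => by
    refine sub_eq_zero.1 (hfree _ ?_)
    rw [sub_smul, add_smul, ← hφ, ← hφ, ← hφ]
    simp only [map_add]
    abel
  have hsmul : ∀ (c : R) f, φ (c • f) = c * φ f := fun c f => by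
    refine sub_eq_zero.1 (hfree _ ?_)
    rw [sub_smul, mul_smul, ← hφ, ← hφ]
    simp only [map_smul, smul_eq_mul, map_mul, Algebra.smul_def]
    simp only [← Algebra.smul_def]
    rw [smul_sub, Algebra.smul_def c (algebraMap R A _)]
    simp [← Algebra.smul_def]
  let Φ : A →ₗ[R] R := { toFun := φ, map_add' := hadd, map_smul' := hsmul }
  have hx1 : Φ x = 1 := by
    refine sub_eq_zero.1 (hfree _ ?_)
    rw [sub_smul, one_smul]
    show φ x • x - x = 0
    rw [← hφ, hx, map_zero, sub_zero, sub_self]
  have h1 : Φ 1 = 0 := hfree _ (by show φ 1 • x = 0; rw [← hφ]; simp)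
  have hf : ∀ f : A, f = Bialgebra.counitAlgHom R A f • (1 : A) + Φ f • x := fun f => by
    show f = _ + φ f • x
    rw [← hφ, Algebra.algebraMap_eq_smul_one]; abel
  have hform : ∀ z : A ⊗[R] A, ∃ c0 c1 c2 b : R,
      z = c0 • ((1 : A) ⊗ₜ[R] (1 : A)) + c1 • (x ⊗ₜ[R] (1 : A)) + c2 • ((1 : A) ⊗ₜ[R] x) + b • (x ⊗ₜ[R] x) := by
    intro z
    induction z using TensorProduct.induction_on with
    | zero => exact ⟨0, 0, 0, 0, by simp⟩
    | tmul f g =>
      refine ⟨Bialgebra.counitAlgHom R A f * Bialgebra.counitAlgHom R A g, Φ f * Bialgebra.counitAlgHom R A g,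
        Bialgebra.counitAlgHom R A f * Φ g, Φ f * Φ g, ?_⟩
      conv_lhs => rw [hf f, hf g]
      simp only [TensorProduct.add_tmul, TensorProduct.tmul_add, ← TensorProduct.smul_tmul', TensorProduct.tmul_smul,
        smul_smul]
      module
    | add u v hu hv =>
      obtain ⟨a0, a1, a2, a3, rfl⟩ := hu
      obtain ⟨b0, b1, b2, b3, rfl⟩ := hv
      exact ⟨a0 + b0, a1 + b1, a2 + b2, a3 + b3, by module⟩
  obtain ⟨c0, c1, c2, b, hΔ⟩ := hform (Bialgebra.comulAlgHom R A x)
  have hε : CoalgebraStruct.counit (R := R) x = 0 := hx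
  have hε1 : CoalgebraStruct.counit (R := R) (1 : A) = 1 := Bialgebra.counit_one
  have hl := congrArg (TensorProduct.rid R A) (Coalgebra.lTensor_counit_comul (R := R) x)
  rw [show CoalgebraStruct.comul (R := R) x = Bialgebra.comulAlgHom R A x from rfl, hΔ] at hl
  simp only [map_add, map_smul, LinearMap.lTensor_tmul, hε, hε1, TensorProduct.rid_tmul, one_smul, zero_smul,
    smul_zero, add_zero] at hl
  have hc0 : c0 = 0 := by simpa [hx, hε, hε1] using congrArg (Bialgebra.counitAlgHom R A) hl
  have hc1 : c1 = 1 := by simpa [hx1, h1, hc0] using congrArg Φ hl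
  have hr := congrArg (TensorProduct.lid R A) (Coalgebra.rTensor_counit_comul (R := R) x)
  rw [show CoalgebraStruct.comul (R := R) x = Bialgebra.comulAlgHom R A x from rfl, hΔ] at hr
  simp only [map_add, map_smul, LinearMap.rTensor_tmul, hε, hε1, TensorProduct.lid_tmul, one_smul, zero_smul,
    smul_zero, add_zero, hc0, zero_add] at hr
  have hc2 : c2 = 1 := by simpa [hx1, h1] using congrArg Φ hr
  rw [hc0, hc1, hc2, zero_smul, one_smul, one_smul, zero_add] at hΔ
  obtain ⟨a, ha⟩ := hgen (x * x) (by rw [map_mul, hx, zero_mul])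
  refine ⟨a, b, ha, hΔ, ?_⟩
  let ΦΦ : A ⊗[R] A →ₗ[R] R := LinearMap.mul' R R ∘ₗ TensorProduct.map Φ Φ
  have hΔxx : Bialgebra.comulAlgHom R A (x * x) = a • Bialgebra.comulAlgHom R A x := by rw [ha, map_smul]
  rw [map_mul, hΔ] at hΔxx
  have heq := congrArg ΦΦ hΔxx
  simp only [mul_add, add_mul, smul_mul_assoc, mul_smul_comm, Algebra.TensorProduct.tmul_mul_tmul, one_mul,
    mul_one, ha, ← TensorProduct.smul_tmul', TensorProduct.tmul_smul, smul_add, smul_smul, map_add, map_smul,
    ΦΦ, LinearMap.coe_comp, Function.comp_apply, TensorProduct.map_tmul, LinearMap.mul'_apply, hx1, h1,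
    smul_eq_mul, mul_zero, zero_mul, mul_one, add_zero, zero_add] at heq
  have hS : Φ (HopfAlgebra.antipode R x) * (1 + a * b) = -1 := by
    have hSx : HopfAlgebra.antipode R x = Φ (HopfAlgebra.antipode R x) • x := by
      conv_lhs => rw [hf (HopfAlgebra.antipode R x)]
      simp [hε]
    have h3 := HopfAlgebra.mul_antipode_rTensor_comul_apply (R := R) x
    rw [show CoalgebraStruct.comul (R := R) x = Bialgebra.comulAlgHom R A x from rfl, hΔ, hε, map_zero] at h3
    simp only [map_add, map_smul, LinearMap.rTensor_tmul, LinearMap.mul'_apply, HopfAlgebra.antipode_one,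
      one_mul, mul_one] at h3
    rw [hSx, smul_mul_assoc, ha] at h3
    have := congrArg Φ h3
    simp only [map_add, map_smul, map_zero, hx1, smul_eq_mul, mul_one] at this
    linear_combination this
  have h0 : (1 + a * b) * (a * b + 2) = 0 := by linear_combination heq
  linear_combination (-(Φ (HopfAlgebra.antipode R x))) * h0 + (a * b + 2) * hS

end Groth.Agent.S18479
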