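import Groth.Statements.S18480
import Groth.Agent.H20OT.CartBasic

set_option autoImplicit false
universe u v
open scoped TensorProduct
open OortTate

namespace Groth.Agent.S18480
open TensorProduct

/-- Let R be a commutative ring and let A and A' be commutative Hopf algebras over R whose augmentation
ideals are free of rank one with generators x and x', with constants a, b and a', b' ∈ R such that
x² = a x, Δ(x) = x ⊗ 1 + 1 ⊗ x + b x ⊗ x and x'² = a' x', Δ(x') = x' ⊗ 1 + 1 ⊗ x' + b' x' ⊗ x' (the
group schemes of order two G_{a,b} and G_{a',b'}). Then A and A' are isomorphic as bialgebras over R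
(G_{a,b} ≅ G_{a',b'} as group schemes) if and only if there is a unit s of R with a = a'·s and b' =
b·s. -/
theorem result
    (R : Type u) [CommRing R] (A : Type v) [CommRing A] [HopfAlgebra R A]
    (x : A) (hx : Bialgebra.counitAlgHom R A x = 0)
    (hgen : ∀ f : A, Bialgebra.counitAlgHom R A f = 0 → ∃ r : R, f = r • x)
    (hfree : ∀ r : R, r • x = 0 → r = 0)
    (a b : R) (hxa : x * x = a • x)
    (hxb : Bialgebra.comulAlgHom R A x = x ⊗ₜ[R] 1 + 1 ⊗ₜ[R] x + b • (x ⊗ₜ[R] x))
    (A' : Type v) [CommRing A'] [HopfAlgebra R A']
    (x' : A') (hx' : Bialgebra.counitAlgHom R A' x' = 0)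
    (hgen' : ∀ f : A', Bialgebra.counitAlgHom R A' f = 0 → ∃ r : R, f = r • x')
    (hfree' : ∀ r : R, r • x' = 0 → r = 0)
    (a' b' : R) (hxa' : x' * x' = a' • x')
    (hxb' : Bialgebra.comulAlgHom R A' x' = x' ⊗ₜ[R] 1 + 1 ⊗ₜ[R] x' + b' • (x' ⊗ₜ[R] x')) :
    Nonempty (A ≃ₐc[R] A') ↔ ∃ s : Rˣ, a = a' * (s : R) ∧ b' = b * (s : R) := by
  classical
  choose r hr using fun f : A => hgen (f - algebraMap R A (Bialgebra.counitAlgHom R A f)) (by
    rw [map_sub, AlgHom.commutes, Algebra.algebraMap_self, RingHom.id_apply, sub_self])
  choose r' hr' using fun f : A' => hgen' (f - algebraMap R A' (Bialgebra.counitAlgHom R A' f)) (by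
    rw [map_sub, AlgHom.commutes, Algebra.algebraMap_self, RingHom.id_apply, sub_self])
  have hu : ∀ {c d : R}, c • x = d • x → c = d := fun h => sub_eq_zero.mp (hfree _ (by rw [sub_smul, h, sub_self]))
  have hu' : ∀ {c d : R}, c • x' = d • x' → c = d := fun h => sub_eq_zero.mp (hfree' _ (by rw [sub_smul, h, sub_self]))
  have hdec : ∀ f : A, f = algebraMap R A (Bialgebra.counitAlgHom R A f) + r f • x := fun f => by
    rw [← hr]; ring
  have hdec' : ∀ f : A', f = algebraMap R A' (Bialgebra.counitAlgHom R A' f) + r' f • x' := fun f => by
    rw [← hr']; ring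
  have hrv : ∀ c d : R, r (algebraMap R A c + d • x) = d := fun c d => by
    refine hu ?_
    rw [← hr, map_add, map_smul, AlgHom.commutes, hx, smul_zero, add_zero, Algebra.algebraMap_self, RingHom.id_apply]
    ring
  have hrv' : ∀ c d : R, r' (algebraMap R A' c + d • x') = d := fun c d => by
    refine hu' ?_
    rw [← hr', map_add, map_smul, AlgHom.commutes, hx', smul_zero, add_zero, Algebra.algebraMap_self, RingHom.id_apply]
    ring
  constructor
  · rintro ⟨e⟩
    have he : Bialgebra.counitAlgHom R A' (e x) = 0 := (CoalgHomClass.counit_comp_apply e x).trans hx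
    have he' : Bialgebra.counitAlgHom R A (e.symm x') = 0 := (CoalgHomClass.counit_comp_apply e.symm x').trans hx'
    obtain ⟨s, hs⟩ := hgen' _ he
    obtain ⟨t, ht⟩ := hgen _ he'
    have hts : t * s = 1 := hu' (by
      rw [mul_smul, ← hs, ← map_smul, ← ht, one_smul]
      exact e.apply_symm_apply x')
    have hst : s * t = 1 := by rw [mul_comm, hts]
    refine ⟨⟨s, t, hst, hts⟩, ?_, ?_⟩
    · have h := congrArg e hxa
      rw [map_mul, map_smul, hs, smul_mul_smul_comm, hxa', smul_smul, smul_smul] at h
      have h1 := hu' h
      show a = a' * s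
      calc a = (a * s) * t := by rw [mul_assoc, hst, mul_one]
        _ = (s * s * a') * t := by rw [h1]
        _ = a' * s := by linear_combination (s * a') * hst
    · show b' = b * s
      have h := (CoalgHomClass.map_comp_comul_apply e x).symm
      rw [show Coalgebra.comul (R := R) x = _ from hxb, hs, map_smul,
        show Coalgebra.comul (R := R) x' = _ from hxb'] at h
      simp only [map_add, map_smul, TensorProduct.map_tmul, LinearMap.coe_coe, hs] at h
      simp only [map_one] at h
      let ρ : A' →ₗ[R] R :=
        { toFun := r'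
          map_add' := fun f g => hu' (by rw [add_smul, ← hr', ← hr', ← hr', map_add, map_add]; ring)
          map_smul' := fun q f => hu' (by
            rw [RingHom.id_apply, smul_eq_mul, mul_smul, ← hr', ← hr', map_smul, smul_eq_mul, map_mul, smul_sub,
              Algebra.smul_def q (algebraMap R A' _)]) }
      have L : ∀ c : R, (LinearMap.mul' R R ∘ₗ TensorProduct.map ρ ρ)
          (c • (x' ⊗ₜ[R] x')) = c := fun c => by
        have h1 : r' x' = 1 := by
          have := hrv' 0 1
          rwa [map_zero, zero_add, one_smul] at this
        simp [ρ, h1]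
      have h' : (s * b') • (x' ⊗ₜ[R] x') = (b * (s * s)) • (x' ⊗ₜ[R] x') := by
        simp only [smul_add, smul_smul, smul_tmul', tmul_smul, mul_comm] at h ⊢
        exact add_left_cancel h
      have h2 := congrArg (LinearMap.mul' R R ∘ₗ TensorProduct.map ρ ρ) h'
      rw [L, L] at h2
      calc b' = (s * b') * t := by linear_combination (-b') * hst
        _ = (b * (s * s)) * t := by rw [h2]
        _ = b * s := by linear_combination (b * s) * hst
  · rintro ⟨s, ha, hb⟩
    have hlin : ∀ f g : A, r (f + g) = r f + r g := fun f g => hu (by rw [add_smul, ← hr, ← hr, ← hr, map_add, map_add]; ring)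
    let Φ : A →ₐ[R] A' :=
      { toFun := fun f => algebraMap R A' (Bialgebra.counitAlgHom R A f) + (r f * (s : R)) • x'
        map_one' := by
          have : r 1 = 0 := hu (by rw [← hr, map_one, map_one, sub_self, zero_smul])
          simp [this]
        map_zero' := by
          have : r 0 = 0 := hu (by rw [← hr, map_zero, map_zero, sub_self, zero_smul])
          simp [this]
        map_add' := fun f g => by rw [hlin, map_add, map_add, add_mul, add_smul]; ring
        map_mul' := fun f g => by
          have hm : r (f * g) = Bialgebra.counitAlgHom R A f * r g + Bialgebra.counitAlgHom R A g * r f +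
              r f * r g * a := by
            refine hu ?_
            rw [← hr, map_mul, map_mul]
            conv_lhs => arg 1; rw [hdec f, hdec g]
            have : x * x = algebraMap R A a * x := by rw [hxa, Algebra.smul_def]
            simp only [Algebra.smul_def, map_add, map_mul]
            linear_combination (algebraMap R A (r f) * algebraMap R A (r g)) * this
          have : x' * x' = algebraMap R A' a' * x' := by rw [hxa', Algebra.smul_def]
          rw [hm, ha]
          simp only [Algebra.smul_def, map_add, map_mul]
          linear_combination (-(algebraMap R A' (r f) * algebraMap R A' (r g) * algebraMap R A' (s : R) ^ 2)) * this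
        commutes' := fun c => by
          have : r (algebraMap R A c) = 0 := by simpa using hrv c 0
          simp [this] }
    have hΦ : ∀ f, Φ f = algebraMap R A' (Bialgebra.counitAlgHom R A f) + (r f * (s : R)) • x' := fun f => rfl
    have hΦx : Φ x = (s : R) • x' := by
      have : r x = 1 := by simpa using hrv 0 1
      rw [hΦ, hx, map_zero, zero_add, this, one_mul]
    have hext : ∀ {B : Type v} [Semiring B] [Algebra R B] (F G : A →ₐ[R] B), F x = G x → F = G := by
      intro B _ _ F G h
      refine AlgHom.ext fun f => ?_
      rw [hdec f, map_add, map_add, map_smul, map_smul, AlgHom.commutes, AlgHom.commutes, h]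
    let ψ : A →ₐc[R] A' := BialgHom.ofAlgHom Φ (AlgHom.ext fun f => by
        rw [AlgHom.comp_apply, hΦ, map_add, map_smul, AlgHom.commutes, hx', smul_zero, add_zero,
          Algebra.algebraMap_self, RingHom.id_apply]) (hext _ _ (by
        simp only [AlgHom.comp_apply, hxb, hΦx, map_add, map_smul, hxb', Algebra.TensorProduct.map_tmul, map_one, hb]
        simp only [smul_add, smul_smul, smul_tmul', tmul_smul]
        congr 2
        ring))
    refine ⟨BialgEquiv.ofBijective ψ ⟨fun f g hfg => ?_, fun f => ?_⟩⟩
    · have hc : Bialgebra.counitAlgHom R A f = Bialgebra.counitAlgHom R A g :=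
        (CoalgHomClass.counit_comp_apply ψ f).symm.trans ((congrArg _ hfg).trans (CoalgHomClass.counit_comp_apply ψ g))
      have h : (r f * (s : R)) • x' = (r g * (s : R)) • x' := by
        have := hfg
        change Φ f = Φ g at this
        rw [hΦ, hΦ, hc] at this
        exact add_left_cancel this
      rw [hdec f, hdec g, hc, s.isUnit.mul_left_injective (hu' h)]
    · refine ⟨algebraMap R A (Bialgebra.counitAlgHom R A' f) + (r' f * ↑s⁻¹) • x, ?_⟩
      show Φ _ = f
      rw [map_add, map_smul, AlgHom.commutes, hΦx, smul_smul, mul_assoc, Units.inv_mul, mul_one, ← hdec']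

end Groth.Agent.S18480
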