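import Groth.Statements.S18484
import Groth.Agent.H28Neron.Ext

set_option autoImplicit false
universe u
open CategoryTheory CategoryTheory.Limits AlgebraicGeometry MonObj
open Neron

namespace Groth.Agent.S18484

/-- Let R be a Dedekind domain with fraction field K, X a Spec R-scheme which is a Néron model of its
generic fibre X_K, and i : G → X a closed immersion with G smooth over Spec R. Then G is a Néron
model of its generic fibre G_K: smooth, separated, of finite type, and for every smooth Spec
R-scheme Y restriction to generic fibres is a bijection from R-morphisms Y → G onto K-morphisms Y_K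
→ G_K. (The source states this for a closed subgroup scheme of a Néron model; the group laws play no
part and are not assumed. The converse direction of the source, that a Néron model is a closed
subgroup of a Néron model, is immediate and not stated.) -/
theorem result (R : Type u) [CommRing R] [IsDedekindDomain R]
    (X G : Over (Spec (CommRingCat.of R))) (hX : Neron.IsNeronModelOf R X ((Neron.genericFibre R).obj X) (Iso.refl _))
    (i : G ⟶ X) [IsClosedImmersion i.left] [Smooth G.hom] :
    Neron.IsNeronModelOf R G ((Neron.genericFibre R).obj G) (Iso.refl _) := by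
  obtain ⟨-, hXs, hXf, hXq, hXb⟩ := hX
  haveI : IsSeparated G.hom := by rw [← Over.w i]; infer_instance
  haveI : QuasiCompact G.hom := by rw [← Over.w i]; infer_instance
  refine ⟨‹_›, inferInstance, inferInstance, inferInstance, fun Y hY => ⟨fun a b hab => ?_, fun h => ?_⟩⟩
  · exact Groth.Agent.H28Neron.hom_ext_genericFibre R Y G a b (by simpa using hab)
  · obtain ⟨g, hg⟩ := (hXb Y hY).2 (h ≫ (Neron.genericFibre R).map i)
    simp only [Iso.refl_hom, Category.comp_id] at hg ⊢
    have hg' : CategoryTheory.Limits.pullback.fst Y.hom (Neron.genPt R) ≫ g.left =
        (h.left ≫ CategoryTheory.Limits.pullback.fst G.hom (Neron.genPt R)) ≫ i.left := by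
      have := congrArg (fun m => m.left ≫ CategoryTheory.Limits.pullback.fst X.hom (Neron.genPt R)) hg
      dsimp at this
      erw [CategoryTheory.Limits.pullback.lift_fst] at this
      rw [this]
      erw [Category.assoc, CategoryTheory.Limits.pullback.lift_fst]
      rw [Category.assoc]
    let e := CategoryTheory.Limits.pullback.fst g.left i.left
    let w : CategoryTheory.Limits.pullback Y.hom (Neron.genPt R) ⟶ CategoryTheory.Limits.pullback g.left i.left :=
      CategoryTheory.Limits.pullback.lift (CategoryTheory.Limits.pullback.fst _ _)
        (h.left ≫ CategoryTheory.Limits.pullback.fst G.hom (Neron.genPt R)) hg'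
    have hwe : w ≫ e = CategoryTheory.Limits.pullback.fst Y.hom (Neron.genPt R) :=
      CategoryTheory.Limits.pullback.lift_fst _ _ _
    have hker : e.ker = ⊥ := le_bot_iff.1 (by
      calc e.ker ≤ (w ≫ e).ker := Scheme.Hom.le_ker_comp w e
        _ = _ := by rw [hwe]
        _ = ⊥ := (CategoryTheory.Limits.pullback.fst Y.hom (Neron.genPt R)).ker_eq_bot)
    haveI : IsClosedImmersion e := MorphismProperty.of_isPullback (IsPullback.of_hasPullback g.left i.left).flip ‹_›
    haveI : IsIso e := IsClosedImmersion.isIso_iff_ker_eq_bot.2 hker
    let l : Y.left ⟶ G.left := inv e ≫ CategoryTheory.Limits.pullback.snd g.left i.left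
    have hl : l ≫ i.left = g.left := by
      rw [Category.assoc, ← CategoryTheory.Limits.pullback.condition, IsIso.inv_hom_id_assoc]
    refine ⟨Over.homMk l (by rw [← Over.w i, reassoc_of% hl, Over.w g]), ?_⟩
    ext1
    apply CategoryTheory.Limits.pullback.hom_ext
    · erw [CategoryTheory.Limits.pullback.lift_fst]
      show _ ≫ l = _
      rw [← hwe, Category.assoc, IsIso.hom_inv_id_assoc]
      exact CategoryTheory.Limits.pullback.lift_snd _ _ _
    · erw [CategoryTheory.Limits.pullback.lift_snd]
      exact (Over.w h).symm

end Groth.Agent.S18484
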