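import Groth.Statements.S18485
import Groth.Agent.H28Neron.QuasiFinite

set_option autoImplicit false
universe u
open CategoryTheory CategoryTheory.Limits AlgebraicGeometry MonObj
open Neron

namespace Groth.Agent.S18485

/-- Let R be a Dedekind domain with fraction field K and H a Spec R-scheme which is flat and locally of
finite type over Spec R. If the generic fibre H_K is locally quasi-finite over K, then H is locally
quasi-finite over Spec R. (The published statement is about the schematic closure, in an S-group
algebraic space of finite type over a connected Dedekind scheme S, of a finite subgroup of the
generic fibre, which it asserts to be a quasi-finite S-group; this row is the statement about flat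
schemes locally of finite type over an affine Dedekind base on which that rests. Locally
quasi-finite is meant here without a finite type clause, which is assumed separately.) -/
theorem result (R : Type u) [CommRing R]
    [IsDedekindDomain R] (H : Over (Spec (CommRingCat.of R))) [Flat H.hom] [LocallyOfFiniteType H.hom]
    [LocallyQuasiFinite ((Neron.genericFibre R).obj H).hom] : LocallyQuasiFinite H.hom := by
  exact H28Neron.locallyQuasiFinite_of_generic R H inferInstance

end Groth.Agent.S18485
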