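import Groth.Statements.S18486
import Groth.Agent.H28Neron.TorsorDescent

set_option autoImplicit false
universe u
open CategoryTheory CategoryTheory.Limits AlgebraicGeometry MonObj
open Neron

namespace Groth.Agent.S18486

/-- Let R be a Dedekind domain with fraction field K, X a group scheme over Spec R which is a Néron
model of its generic fibre, and P a Spec R-scheme with an action of X making it an X-torsor for the
fppf topology (a pseudo-torsor which acquires sections on the members of some fppf covering family
of Spec R). Then P is smooth, separated and of finite type over Spec R and has the Néron mapping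
property: for every smooth Spec R-scheme Y restriction to generic fibres is a bijection from
R-morphisms Y → P onto K-morphisms Y_K → P_K; that is, P is a Néron model of P_K. (The source treats
Néron lft models, torsors that are algebraic spaces and the mapping property towards smooth
algebraic spaces; the case of a Néron model of finite type and a torsor which is a scheme is
stated.) -/
theorem result (R : Type u) [CommRing R] [IsDedekindDomain R]
    (X : Over (Spec (CommRingCat.of R))) [GrpObj X] (hX : Neron.IsNeronModelOf R X ((Neron.genericFibre R).obj X) (Iso.refl _))
    (P : NonAbH1.TorsorSch X Scheme.fppfPrecoverage) :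
    Neron.IsNeronModelOf R P.X ((Neron.genericFibre R).obj P.X) (Iso.refl _) := by
  obtain ⟨hsm, hsep, hlft, hqc, hbij⟩ := hX
  obtain ⟨Q, act, hpt, hloc⟩ := P
  haveI : IsIso (CartesianMonoidalCategory.lift act.act (CartesianMonoidalCategory.snd X Q)) := hpt
  obtain ⟨h1, h2, h3, h4⟩ := H28Neron.Torsor.properties_of_locallyTrivial act hloc
  haveI : Mono (Neron.genPt R) := inferInstanceAs (Mono (Scheme.Spec.map (CommRingCat.ofHom (algebraMap R (FractionRing R))).op))
  refine ⟨h1, h2, inferInstance, h3, fun Y hY => ?_⟩
  have key := H28Neron.Torsor.neron_torsor_of_group (Neron.genPt R) act
    (fun Z hZ => by simpa using hbij Z hZ) Y hY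
  simpa using key

end Groth.Agent.S18486
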