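import Groth.Statements.S18487
import Groth.Agent.H28Neron.Spread
import Groth.Agent.H18Torsor.Basic
import Groth.Agent.H18Descent.Basic
import Mathlib.AlgebraicGeometry.Morphisms.LocalFlatDescent

set_option autoImplicit false
universe u
open CategoryTheory CategoryTheory.Limits AlgebraicGeometry MonObj
open NonAbH1

namespace Groth.Agent.S18487

/-- Let R be a Dedekind domain with fraction field K, G a proper flat group scheme over Spec R, and P a
Spec R-scheme with an action of G making it a G-torsor for the fppf topology (a pseudo-torsor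
acquiring sections on the members of an fppf covering family). If P acquires a section over the
generic point Spec K → Spec R, then P has a section over Spec R: a generically trivial torsor is
trivial. (The source allows any connected Dedekind scheme as base and torsors that are fppf sheaves,
shown there to be schemes; the affine base and scheme torsors are stated.) -/
theorem result (R : Type u) [CommRing R] [IsDedekindDomain R]
    (G : Over (Spec (CommRingCat.of R))) [GrpObj G] [IsProper G.hom] [Flat G.hom]
    (P : NonAbH1.TorsorSch G Scheme.fppfPrecoverage) (h : NonAbH1.HasSectionOver P.X (Neron.genPt R)) :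
    NonAbH1.HasSectionOver P.X (𝟙 (Spec (CommRingCat.of R))) := by
  haveI : IsProper P.X.hom := H18Torsor.property_of_isTorsorFor P.act @IsProper
    ⟨P.isTorsor.1, P.isTorsor.2.choose, Scheme.fppfPrecoverage_le_fpqcPrecoverage _ P.isTorsor.2.choose_spec.1,
      P.isTorsor.2.choose_spec.2⟩ inferInstance
  obtain ⟨s₀, hs₀⟩ := h
  let pX := 𝟙 (Spec (CommRingCat.of R))
  obtain ⟨U, hUr, f, hUd, hf, -⟩ := Groth.Agent.H28Neron.exists_spread_generic pX P.X.hom
    (pullback.snd pX (Neron.genPt R) ≫ s₀) (by rw [Category.assoc, hs₀, pullback.condition])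
  obtain ⟨V, -, g, hg, -, hV⟩ := Groth.Agent.H28Neron.exists_extension_off_codim_two pX P.X.hom U hUd f hf
  have htop : V = ⊤ := by
    refine eq_top_iff.2 fun x _ => ?_
    by_contra hx
    have h2 := hV x hx
    let e : Localization.AtPrime x.asIdeal ≃+* (Spec (CommRingCat.of R)).presheaf.stalk x :=
      (StructureSheaf.stalkIso R x).toRingEquiv
    rw [← ringKrullDim_eq_of_ringEquiv e,
      IsLocalization.AtPrime.ringKrullDim_eq_height x.asIdeal (Localization.AtPrime x.asIdeal)] at h2
    have h0 : ringKrullDim R ≤ (1 : ℕ) := Ring.krullDimLE_iff.1 inferInstance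
    have h1 : x.asIdeal.height ≤ (1 : ℕ∞) :=
      WithBot.coe_le_coe.1 ((Ideal.height_le_ringKrullDim_of_ne_top x.isPrime.ne_top).trans (h0.trans (by norm_num)))
    have h3 : (2 : ℕ∞) ≤ x.asIdeal.height := WithBot.coe_le_coe.1 (le_trans (le_of_eq (by norm_num)) h2)
    exact absurd (h3.trans h1) (by decide)
  subst htop
  exact ⟨(Spec (CommRingCat.of R)).topIso.inv ≫ g, by
    show ((Spec (CommRingCat.of R)).topIso.inv ≫ g) ≫ P.X.hom = _
    rw [Category.assoc, hg, Category.comp_id]; exact (Spec (CommRingCat.of R)).topIso.inv_hom_id⟩

end Groth.Agent.S18487
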