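import Groth.Statements.S1849
import Groth.Agent.H3CAlg.Tame.Local
import Mathlib

set_option autoImplicit false
universe u
open CycAlg

namespace Groth.Agent.S1849

/-- Let A be a Noetherian local ring of dimension 1 and A ⊆ B a finite extension with B/A killed by a
power of the maximal ideal 𝔪 and 𝔪 not an associated prime of the A-module B. For nonzerodivisors a,
b of A, ∂_A(a, b) is the product over the maximal ideals 𝔪_j of B of the norms from κ(𝔪_j) to κ of
∂_{B_{𝔪_j}}(a, b). -/
theorem result (A : Type u) [CommRing A] [IsNoetherianRing A] [IsLocalRing A] (hA : ringKrullDim A = 1) (B : Type u) [CommRing B] [Algebra A B] (hB : CycAlg.IsFinExt A B (IsLocalRing.maximalIdeal A)) (hass : IsLocalRing.maximalIdeal A ∉ associatedPrimes A B) [hloc : ∀ q : MaximalSpectrum B, IsLocalHom (algebraMap A (Localization.AtPrime q.asIdeal))] (a b : A) (ha : a ∈ nonZeroDivisors A) (hb : b ∈ nonZeroDivisors A) : CycAlg.tameSymbol A a b = ∏ᶠ q : MaximalSpectrum B, Algebra.norm (IsLocalRing.ResidueField A) (CycAlg.tameSymbol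 (Localization.AtPrime q.asIdeal) (algebraMap A (Localization.AtPrime q.asIdeal) a) (algebraMap A (Localization.AtPrime q.asIdeal) b)) := by
  classical
  haveI : Module.Finite A B := hB.2.1
  haveI := H22Alg.finite_maximalSpectrum_of_finite A B
  haveI := Fintype.ofFinite (MaximalSpectrum B)
  rw [finprod_eq_prod_of_fintype]
  by_cases hu : IsUnit a ∧ IsUnit b
  · rw [H3CAlg.Tame.tameSymbol_of_isUnit hu.1 hu.2, eq_comm]
    refine Finset.prod_eq_one fun q _ => ?_
    haveI := IsNoetherianRing.of_finite A B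
    rw [H3CAlg.Tame.tameSymbol_of_isUnit (hu.1.map _) (hu.2.map _), map_one]
  obtain ⟨c, hcm, hc⟩ : ∃ c, c ∈ IsLocalRing.maximalIdeal A ∧ c ∈ nonZeroDivisors A := by
    rcases not_and_or.mp hu with h | h
    exacts [⟨a, (IsLocalRing.mem_maximalIdeal _).mpr h, ha⟩, ⟨b, (IsLocalRing.mem_maximalIdeal _).mpr h, hb⟩]
  -- nonzerodivisors of `A` act injectively on `B`
  have hregB : ∀ z ∈ nonZeroDivisors A, algebraMap A B z ∈ nonZeroDivisors B := by
    intro z hz
    rw [mem_nonZeroDivisors_iff_right]
    intro x hx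
    by_contra hne
    obtain ⟨hinj, -, N, hN⟩ := hB
    have hkill : ∀ r ∈ IsLocalRing.maximalIdeal A ^ N, r • x = 0 := by
      intro r hr
      obtain ⟨w, hw⟩ := hN r hr x
      rw [← hw]
      have : algebraMap A B (w * z) = 0 := by rw [map_mul, hw, Algebra.smul_def, mul_assoc, hx, mul_zero]
      rw [mem_nonZeroDivisors_iff_right.mp hz w ((map_eq_zero_iff _ hinj).mp this), map_zero]
    let X := Submodule.span A {x}
    haveI : Nontrivial X := ⟨⟨⟨x, Submodule.mem_span_singleton_self x⟩, 0, fun h => hne (congrArg Subtype.val h)⟩⟩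
    obtain ⟨P, hP⟩ := associatedPrimes.nonempty A X
    obtain ⟨hPprime, y, hy⟩ := Submodule.isAssociatedPrime_iff.mp hP
    have hle : IsLocalRing.maximalIdeal A ^ N ≤ P := fun r hr => by
      rw [hy, Submodule.mem_colon_singleton, Submodule.mem_bot]
      obtain ⟨t, ht⟩ := Submodule.mem_span_singleton.mp y.2
      exact Subtype.ext (by rw [Submodule.coe_smul, ← ht, smul_comm, hkill r hr, smul_zero]; rfl)
    have hPm : P = IsLocalRing.maximalIdeal A :=
      le_antisymm (IsLocalRing.le_maximalIdeal hPprime.ne_top) (hPprime.le_of_pow_le hle)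
    exact hass (hPm ▸ associatedPrimes.subset_of_injective (f := X.subtype) X.subtype_injective hP)
  obtain ⟨φ, hφ⟩ := H3CAlg.Tame.exists_embedding hB hc hcm (fun x y h => by
    have h1 : (x - y) * algebraMap A B c = 0 := by rw [sub_mul, mul_comm x, mul_comm y, sub_eq_zero]; exact h
    exact sub_eq_zero.mp (mem_nonZeroDivisors_iff_right.mp (hregB c hc) _ h1))
  haveI : Module.Finite A φ.range := Module.Finite.of_surjective φ.rangeRestrict.toLinearMap φ.rangeRestrict_surjective
  obtain ⟨C, hle, hC, π, hπ, hfac⟩ := H3CAlg.Tame.exists_common_fac hA φ.range (a ::ₘ b ::ₘ 0) (by simp [ha, hb])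
  haveI := hC
  obtain ⟨v, e, hv⟩ := hfac a (by simp)
  obtain ⟨w, f, hw⟩ := hfac b (by simp)
  have hext := H3CAlg.Tame.isFinExt_subalgebra hA C
  letI : Algebra B C := (φ.codRestrict C fun x => hle ⟨x, rfl⟩).toRingHom.toAlgebra
  haveI : IsScalarTower A B C := .of_algebraMap_eq fun r => Subtype.ext (φ.commutes r).symm
  haveI : Module.Finite B C := Module.Finite.of_restrictScalars_finite A B C
  haveI := H22Alg.finite_maximalSpectrum_of_finite A C
  haveI := Fintype.ofFinite (MaximalSpectrum C)
  haveI hlocC : ∀ Q : MaximalSpectrum C, IsLocalHom (algebraMap A (Localization.AtPrime Q.asIdeal)) :=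
    H3CAlg.Tame.isLocalHom_ext hext
  rw [H3CAlg.Tame.tameSymbol_eq_prod hA hext hπ ha hb hv hw]
  let under : MaximalSpectrum C → MaximalSpectrum B := fun Q =>
    ⟨Q.asIdeal.comap (algebraMap B C), haveI := Q.isMaximal; Ideal.isMaximal_comap_of_isIntegral_of_isMaximal Q.asIdeal⟩
  rw [← Finset.prod_fiberwise Finset.univ under]
  refine Finset.prod_congr rfl fun q _ => ?_
  haveI := Fintype.ofFinite (H3CAlg.Tame.Over (C := C) q.asIdeal)
  let eq : H3CAlg.Tame.Over (C := C) q.asIdeal ≃ {Q : MaximalSpectrum C // under Q = q} :=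
    Equiv.subtypeEquivRight fun Q => ⟨fun h => MaximalSpectrum.ext h, fun h => congrArg MaximalSpectrum.asIdeal h⟩
  rw [Finset.prod_subtype (Finset.univ.filter fun Q => under Q = q) (p := fun Q => under Q = q) (by simp), ← eq.prod_comp,
    H3CAlg.Tame.norm_tameSymbol_atPrime hA (fun x y h => hφ (congrArg Subtype.val h)) hext hcm hc hregB
      (fun z hz => H3CAlg.Tame.algebraMap_mem_nonZeroDivisors C hz) ha hb hπ hv hw q]
  rfl

end Groth.Agent.S1849
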