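import Groth.Statements.S18490
import Mathlib.AlgebraicGeometry.Morphisms.Immersion

set_option autoImplicit false
universe u
open CategoryTheory CategoryTheory.Limits AlgebraicGeometry
open FlatMor

namespace Groth.Agent.S18490
open CategoryTheory Limits

/-- A retract of a flat ring map is flat. -/
theorem flat_of_retract {A B C D : Type*} [CommRing A] [CommRing B] [CommRing C] [CommRing D]
    (φ : A →+* C) (i : C →+* B) (r : B →+* D) (hri : Function.Bijective (r.comp i))
    (h : (i.comp φ).Flat) : φ.Flat := by
  algebraize [φ, i.comp φ]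
  let ia : C →ₐ[A] B := { i with commutes' := fun _ ↦ rfl }
  let e := RingEquiv.ofBijective (r.comp i) hri
  let ra : B →ₐ[A] C :=
    { e.symm.toRingHom.comp r with
      commutes' := fun a ↦ e.symm_apply_apply (φ a) }
  exact Module.Flat.of_retract ia.toLinearMap ra.toLinearMap
    (LinearMap.ext fun c ↦ e.symm_apply_apply c)


/-- Let f : X → S and g : Y → S be morphisms of schemes and suppose that g has a section y : S → Y. If
the structure morphism X ×_S Y → S (first projection followed by f) is quasi-compact, then so is f;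
likewise for locally of finite type, for separated, and for flat. (Finite type, also listed in the
source, is the conjunction of the first two.) -/
theorem result {X Y S : Scheme.{u}} (f : X ⟶ S) (g : Y ⟶ S)
    (y : S ⟶ Y) (hy : y ≫ g = 𝟙 S) :
    (QuasiCompact (pullback.fst f g ≫ f) → QuasiCompact f) ∧
    (LocallyOfFiniteType (pullback.fst f g ≫ f) → LocallyOfFiniteType f) ∧
    (IsSeparated (pullback.fst f g ≫ f) → IsSeparated f) ∧
    (Flat (pullback.fst f g ≫ f) → Flat f) := by
  let s : X ⟶ pullback f g := pullback.lift (𝟙 X) (f ≫ y) (by simp [hy])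
  have hs : s ≫ pullback.fst f g = 𝟙 X := pullback.lift_fst _ _ _
  have hf : s ≫ (pullback.fst f g ≫ f) = f := by rw [← Category.assoc, hs, Category.id_comp]
  have : IsImmersion (s ≫ pullback.fst f g) := by rw [hs]; infer_instance
  have : IsImmersion s := IsImmersion.of_comp s (pullback.fst f g)
  refine ⟨fun h ↦ ?_, fun h ↦ ?_, fun h ↦ ?_, fun h ↦ ?_⟩
  · refine ⟨fun U hU hUc ↦ ?_⟩
    have := (h.isCompact_preimage U hU hUc).image (pullback.fst f g).continuous
    convert this
    ext x
    refine ⟨fun hx ↦ ⟨s x, ?_, ?_⟩, ?_⟩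
    · show (pullback.fst f g ≫ f) (s x) ∈ U
      rw [← Scheme.Hom.comp_apply, hf]; exact hx
    · rw [← Scheme.Hom.comp_apply, hs]; rfl
    · rintro ⟨p, hp, rfl⟩; exact hp
  · rw [← hf]; infer_instance
  · rw [← hf]; infer_instance
  · rw [Flat.iff_flat_stalkMap]
    intro x
    have hx : pullback.fst f g (s x) = x := by rw [← Scheme.Hom.comp_apply, hs]; rfl
    suffices (f.stalkMap (pullback.fst f g (s x))).hom.Flat by rwa [hx] at this
    have h1 : (f.stalkMap (pullback.fst f g (s x)) ≫ (pullback.fst f g).stalkMap (s x)).hom.Flat := by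
      rw [← Scheme.Hom.stalkMap_comp]; exact Flat.stalkMap (pullback.fst f g ≫ f) (s x)
    refine flat_of_retract _ _ (s.stalkMap x).hom ?_ h1
    have hb : IsIso ((pullback.fst f g).stalkMap (s x) ≫ s.stalkMap x) := by
      have hi : IsIso ((s ≫ pullback.fst f g).stalkMap x) := by
        rw [Scheme.Hom.stalkMap_congr_hom (s ≫ pullback.fst f g) (𝟙 X) hs x]
        infer_instance
      rwa [Scheme.Hom.stalkMap_comp] at hi
    exact ConcreteCategory.bijective_of_isIso ((pullback.fst f g).stalkMap (s x) ≫ s.stalkMap x)

end Groth.Agent.S18490
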