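import Groth.Statements.S18493
import Groth.Agent.S18489
import Groth.Agent.S1607
import Groth.Agent.H7Lim.QuasiFiniteFactor
import Groth.Agent.H12AlgSp.LqfDim


set_option autoImplicit false
universe u
open CategoryTheory CategoryTheory.Limits AlgebraicGeometry MonObj
open Neron

namespace Groth.Agent.S18493

/-- Let R be a Dedekind domain with fraction field K, let A and B be group schemes over Spec R which are
Néron models of their generic fibres, both abelian varieties over K (proper and geometrically
integral), let φ : A → B be a homomorphism whose generic fibre is an isogeny (surjective with finite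
kernel), and let i : N → A be a kernel of φ (cartesian square against the unit section of B). If φ
is flat, then N → Spec R is locally quasi-finite, of finite type, flat and affine; if moreover A is
proper over Spec R then N → Spec R is finite. -/
theorem result (R : Type u) [CommRing R]
    [IsDedekindDomain R] (A B : Over (Spec (CommRingCat.of R))) [GrpObj A] [GrpObj B]
    (hA : Neron.IsNeronModelOf R A ((Neron.genericFibre R).obj A) (Iso.refl _))
    (hB : Neron.IsNeronModelOf R B ((Neron.genericFibre R).obj B) (Iso.refl _))
    [IsProper ((Neron.genericFibre R).obj A).hom] [GeometricallyIntegral ((Neron.genericFibre R).obj A).hom]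
    [IsProper ((Neron.genericFibre R).obj B).hom] [GeometricallyIntegral ((Neron.genericFibre R).obj B).hom]
    (φ : A ⟶ B) [IsMonHom φ] (hφ : SGA7.IsIsogenyOver ((Neron.genericFibre R).map φ)) [Flat φ.left]
    (N : Over (Spec (CommRingCat.of R))) (i : N ⟶ A) (hN : AlgGrp.IsKernel i φ) :
    (LocallyQuasiFinite N.hom ∧ QuasiCompact N.hom ∧ Flat N.hom ∧ IsAffineHom N.hom) ∧
    (IsProper A.hom → IsFinite N.hom) := by
  haveI : LocallyQuasiFinite φ.left := (Groth.Agent.S18489.result R A B hA hB φ hφ).2 ‹_›
  obtain ⟨_, _, _, _, -⟩ := hA
  obtain ⟨_, _, _, _, -⟩ := hB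
  haveI : LocallyOfFiniteType (φ.left ≫ B.hom) := by rw [Over.w φ]; infer_instance
  haveI : LocallyOfFiniteType φ.left := locallyOfFiniteType_of_comp φ.left B.hom
  haveI : QuasiCompact (φ.left ≫ B.hom) := by rw [Over.w φ]; infer_instance
  haveI : QuasiCompact φ.left := QuasiCompact.of_comp φ.left B.hom
  haveI : IsSeparated (φ.left ≫ B.hom) := by rw [Over.w φ]; infer_instance
  haveI : IsSeparated φ.left := IsSeparated.of_comp φ.left B.hom
  have hsq := hN.map (Over.forget (Spec (CommRingCat.of R)))
  have hnat : N.hom = (CartesianMonoidalCategory.toUnit N).left :=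
    (Over.w (CartesianMonoidalCategory.toUnit N)).symm.trans (Category.comp_id _)
  have hlft : LocallyOfFiniteType N.hom :=
    hnat ▸ MorphismProperty.of_isPullback (P := @LocallyOfFiniteType) hsq (inferInstanceAs (LocallyOfFiniteType φ.left))
  have hlqf : LocallyQuasiFinite N.hom :=
    hnat ▸ MorphismProperty.of_isPullback (P := @LocallyQuasiFinite) hsq (inferInstanceAs (LocallyQuasiFinite φ.left))
  have hflat : Flat N.hom :=
    hnat ▸ MorphismProperty.of_isPullback (P := @Flat) hsq (inferInstanceAs (Flat φ.left))
  have hqc : QuasiCompact N.hom :=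
    hnat ▸ MorphismProperty.of_isPullback (P := @QuasiCompact) hsq (inferInstanceAs (QuasiCompact φ.left))
  have hsep : IsSeparated N.hom :=
    hnat ▸ MorphismProperty.of_isPullback (P := @IsSeparated) hsq (inferInstanceAs (IsSeparated φ.left))
  refine ⟨⟨hlqf, hqc, hflat, ?_⟩, fun hA' => ?_⟩
  · obtain ⟨Z, j, g, hj, hjq, hg, hjg⟩ := H7Lim.exists_openImmersion_finite N.hom
    haveI : IsAffine Z := isAffine_of_isAffineHom g
    haveI : CompactSpace N.left := QuasiCompact.compactSpace_of_compactSpace N.hom
    haveI : IsLocallyNoetherian Z := LocallyOfFiniteType.isLocallyNoetherian g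
    have hO : IsAffineOpen j.opensRange := by
      refine Groth.Agent.S1607.result Z (fun z => ⟨inferInstance, ?_⟩) _ (by
        rw [Scheme.Hom.coe_opensRange]
        exact isCompact_range j.continuous)
      refine (H12AlgSp.ringKrullDim_stalk_le_of_lqf g z).trans ?_
      let w : PrimeSpectrum R := g z
      letI : Algebra R ((Spec (CommRingCat.of R)).presheaf.stalk w) := StructureSheaf.stalkAlgebra R w
      haveI : IsLocalization.AtPrime ((Spec (CommRingCat.of R)).presheaf.stalk w) w.asIdeal :=
        StructureSheaf.IsLocalization.to_stalk R w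
      show ringKrullDim ((Spec (CommRingCat.of R)).presheaf.stalk w) ≤ 1
      calc ringKrullDim ((Spec (CommRingCat.of R)).presheaf.stalk w)
          = (w.asIdeal.height : WithBot ℕ∞) :=
            IsLocalization.AtPrime.ringKrullDim_eq_height w.asIdeal ((Spec (CommRingCat.of R)).presheaf.stalk w)
        _ ≤ ringKrullDim R := Ideal.height_le_ringKrullDim_of_ne_top w.2.ne_top
        _ ≤ 1 := Order.KrullDimLE.krullDim_le (n := 1)
    haveI : IsAffine N.left := @IsAffine.of_isIso _ _ j.isoOpensRange.hom _ hO
    infer_instance
  · haveI : IsProper (φ.left ≫ B.hom) := by rw [Over.w φ]; exact hA'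
    haveI : IsProper φ.left := IsProper.of_comp φ.left B.hom
    exact hnat ▸ MorphismProperty.of_isPullback (P := @IsFinite) hsq
      (IsFinite.of_isProper_of_locallyQuasiFinite φ.left : IsFinite φ.left)

end Groth.Agent.S18493
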