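import Groth.Statements.S18494
import Groth.Agent.S18489
import Groth.Agent.H19Grp.Kernel
import Groth.Agent.H19Grp.CommOrder
import Groth.Agent.H19Grp.HomFlat
import Groth.Agent.H28Neron.ClosureSubgroup
import Groth.Agent.H28Neron.ComponentTorsion
import Mathlib.AlgebraicGeometry.Sites.Fpqc

set_option autoImplicit false
universe u
open CategoryTheory CategoryTheory.Limits AlgebraicGeometry MonObj
open Neron

namespace Groth.Agent.S18494

theorem lqf_of_etale {X Y : Scheme.{u}} (g : X ⟶ Y) [Etale g] : LocallyQuasiFinite g := by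
  rw [HasRingHomProperty.iff_appLE (P := @LocallyQuasiFinite)]
  intro W O e
  have h := HasRingHomProperty.appLE @Etale g ‹_› W O e
  algebraize [(g.appLE W.1 O.1 e).hom]
  exact (inferInstance : Algebra.QuasiFinite Γ(Y, W.1) Γ(X, O.1))

attribute [local instance] Functor.grpObjObj

/-- The order of the kernel of an isogeny factors through the isogeny. -/
theorem exists_factor {k : Type u} [Field k] {A B : Over (Spec (CommRingCat.of k))} [GrpObj A] [GrpObj B]
    [IsCommMonObj A] [IsProper A.hom] [Smooth B.hom] [IsSeparated B.hom]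
    (φ : A ⟶ B) [IsMonHom φ] (hφ : SGA7.IsIsogenyOver φ)
    (N : Over (Spec (CommRingCat.of k))) (i : N ⟶ A) (hN : AlgGrp.IsKernel i φ) (n : ℕ)
    (hn : ∀ s, N.hom.finrank s = n) : ∃ ψ : B ⟶ A, φ ≫ ψ = (𝟙 A) ^ n := by
  haveI := H19Grp.kernel_mono hN
  haveI : IsFinite N.hom := hφ.2 N i hN
  haveI : IsLocallyNoetherian (Spec (CommRingCat.of k)) := inferInstance
  haveI : IsReduced (Spec (CommRingCat.of k)) := inferInstance
  obtain ⟨e, he⟩ := H19Grp.kernel_lift hN η[A] (by rw [IsMonHom.one_hom, Hom.one_def,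
    CartesianMonoidalCategory.toUnit_unique (CartesianMonoidalCategory.toUnit (MonoidalCategoryStruct.tensorUnit _)) (𝟙 _),
    Category.id_comp])
  obtain ⟨m, hm⟩ := H19Grp.kernel_lift hN
    ((CartesianMonoidalCategory.fst N N ≫ i) * (CartesianMonoidalCategory.snd N N ≫ i)) (by
    rw [MonObj.mul_comp, Category.assoc, Category.assoc, H19Grp.kernel_comp_eq_one hN, MonObj.comp_one,
      MonObj.comp_one, _root_.one_mul])
  obtain ⟨v, hv⟩ := H19Grp.kernel_lift hN i⁻¹ (by
    rw [GrpObj.inv_comp, H19Grp.kernel_comp_eq_one hN, inv_one])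
  obtain ⟨instN, hmi⟩ := H28Neron.Closure.exists_grpObj i ⟨e, he⟩ ⟨m, hm⟩ ⟨v, hv⟩
  haveI := hmi
  haveI : IsCommMonObj N := ⟨by
    rw [← cancel_mono i, Category.assoc, IsMonHom.mul_hom i, ← Category.assoc,
      ← BraidedCategory.braiding_naturality, Category.assoc, IsCommMonObj.mul_comm A]⟩
  haveI : Flat N.hom := inferInstance
  haveI : LocallyOfFinitePresentation N.hom := inferInstance
  have hkill := H19Grp.CommOrder.id_pow_eq_one N n hn
  have hi : i ^ n = 1 := by
    have h1 : ((𝟙 N) ^ n) ≫ i = i ^ n := by rw [MonObj.pow_comp, Category.id_comp]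
    rw [← h1, hkill, MonObj.one_comp]
  haveI : IsProper (φ.left ≫ B.hom) := by rw [Over.w]; infer_instance
  haveI : IsProper φ.left := IsProper.of_comp φ.left B.hom
  haveI := hφ.1
  haveI : Flat φ.left := H19Grp.flat_of_surjective φ
  let P : A ⟶ A := (𝟙 A) ^ n
  have hh : ∀ {Z : Scheme.{u}} (g₁ g₂ : Z ⟶ A.left), g₁ ≫ φ.left = g₂ ≫ φ.left → g₁ ≫ P.left = g₂ ≫ P.left := by
    intro Z g₁ g₂ h
    let T : Over (Spec (CommRingCat.of k)) := Over.mk (g₁ ≫ A.hom)
    let a : T ⟶ A := Over.homMk g₁ rfl
    let b : T ⟶ A := Over.homMk g₂ (by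
      show g₂ ≫ A.hom = g₁ ≫ A.hom
      rw [← Over.w φ, reassoc_of% h])
    have hab : (a⁻¹ * b) ≫ φ = 1 := by
      rw [MonObj.mul_comp, GrpObj.inv_comp, show a ≫ φ = b ≫ φ from Over.OverMorphism.ext h, inv_mul_cancel]
    obtain ⟨c, hc⟩ := H19Grp.kernel_lift hN _ hab
    have : (a⁻¹ * b) ^ n = 1 := by
      rw [← hc, ← MonObj.comp_pow, hi, MonObj.comp_one]
    rw [mul_pow, inv_pow, inv_mul_eq_one] at this
    have e2 : a ≫ P = b ≫ P := by
      simp only [P, MonObj.comp_pow, Category.comp_id]
      exact this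
    exact congrArg (fun q : T ⟶ A => q.left) e2
  let ψ := EffectiveEpi.desc φ.left P.left hh
  have hψ : φ.left ≫ ψ = P.left := EffectiveEpi.fac φ.left P.left hh
  refine ⟨Over.homMk ψ ?_, Over.OverMorphism.ext hψ⟩
  rw [← cancel_epi φ.left, reassoc_of% hψ, Over.w P, Over.w φ]

/-- Let R be a Dedekind domain with fraction field K, let A and B be group schemes over Spec R which are
Néron models of their generic fibres, both abelian varieties over K (proper and geometrically
integral), let φ : A → B be a homomorphism whose generic fibre φ_K is an isogeny (surjective with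
finite kernel), and let i : N → A be a kernel of φ. If the degree of φ_K, that is the order of the
finite K-group scheme N_K (its rank over Spec K), is a unit in R, then N is a Néron model of its
generic fibre N_K (smooth, separated, of finite type, with the Néron mapping property for smooth
Spec R-schemes) and N → Spec R is étale. -/
theorem result (R : Type u) [CommRing R]
    [IsDedekindDomain R] (A B : Over (Spec (CommRingCat.of R))) [GrpObj A] [GrpObj B]
    (hA : Neron.IsNeronModelOf R A ((Neron.genericFibre R).obj A) (Iso.refl _))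
    (hB : Neron.IsNeronModelOf R B ((Neron.genericFibre R).obj B) (Iso.refl _))
    [IsProper ((Neron.genericFibre R).obj A).hom] [GeometricallyIntegral ((Neron.genericFibre R).obj A).hom]
    [IsProper ((Neron.genericFibre R).obj B).hom] [GeometricallyIntegral ((Neron.genericFibre R).obj B).hom]
    (φ : A ⟶ B) [IsMonHom φ] (hφ : SGA7.IsIsogenyOver ((Neron.genericFibre R).map φ))
    (N : Over (Spec (CommRingCat.of R))) (i : N ⟶ A) (hN : AlgGrp.IsKernel i φ)
    (hdeg : ∀ x : ↥(Spec (CommRingCat.of (FractionRing R))),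
      IsUnit ((((Neron.genericFibre R).obj N).hom.finrank x : ℕ) : R)) :
    Neron.IsNeronModelOf R N ((Neron.genericFibre R).obj N) (Iso.refl _) ∧ Etale N.hom := by
  have hflat := (Groth.Agent.S18489.result R A B hA hB φ hφ)
  obtain ⟨_, _, _, _, hAbij⟩ := hA
  obtain ⟨_, _, _, _, hBbij⟩ := hB
  let F := Neron.genericFibre R
  haveI hAK : IsCommMonObj (F.obj A) := isCommMonObj_of_isProper_of_geometricallyIntegral (F.obj A)
  haveI : IsCommMonObj A := H28Neron.ComponentTorsion.isCommMonObj_of_genericFibre R (FractionRing R) A hAK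
  haveI : Smooth (F.obj B).hom := inferInstanceAs (Smooth (pullback.snd B.hom _))
  haveI : IsMonHom (F.map φ) := inferInstance
  have injA : ∀ {Y : Over (Spec (CommRingCat.of R))}, Smooth Y.hom → ∀ a b : Y ⟶ A, F.map a = F.map b → a = b :=
    fun {Y} hY a b h => (hAbij Y hY).1 (by simpa using h)
  have injB : ∀ {Y : Over (Spec (CommRingCat.of R))}, Smooth Y.hom → ∀ a b : Y ⟶ B, F.map a = F.map b → a = b :=
    fun {Y} hY a b h => (hBbij Y hY).1 (by simpa using h)
  have mono_i := H19Grp.kernel_mono hN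
  have hNK : AlgGrp.IsKernel (F.map i) (F.map φ) := by
    have hP : IsPullback (F.map i) (F.map (CartesianMonoidalCategory.toUnit N)) (F.map φ) (F.map η[B]) :=
      hN.map F
    refine H19Grp.isKernel_of ?_ (fun T a b h => hP.hom_ext h ?_) (fun T x hx => ?_)
    · rw [← Functor.map_comp, H19Grp.kernel_comp_eq_one hN, Functor.map_one]
    · exact (cancel_mono (Functor.OplaxMonoidal.η F)).1 (CartesianMonoidalCategory.toUnit_unique _ _)
    · refine ⟨hP.lift x (CartesianMonoidalCategory.toUnit T ≫ Functor.LaxMonoidal.ε F) ?_, hP.lift_fst _ _ _⟩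
      rw [hx, Category.assoc]
      rfl
  obtain ⟨z⟩ : Nonempty ↥(Spec (CommRingCat.of (FractionRing R))) := inferInstance
  let n := (F.obj N).hom.finrank z
  haveI : IsSeparated (F.obj B).hom := inferInstanceAs (IsSeparated (pullback.snd B.hom _))
  obtain ⟨ψK, hψK⟩ := exists_factor (F.map φ) hφ (F.obj N) (F.map i) hNK n fun s => by
    rw [Subsingleton.elim (α := PrimeSpectrum (FractionRing R)) s z]
  obtain ⟨ψ, hψ⟩ := (hAbij B ‹Smooth B.hom›).2 (ψK ≫ 𝟙 _)
  have hψ' : F.map ψ = ψK := by simpa using hψ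
  have hfac : φ ≫ ψ = (𝟙 A) ^ n := injA ‹Smooth A.hom› _ _ (by
    rw [Functor.map_comp, hψ', hψK]
    refine Eq.symm ((map_pow (Functor.homMonoidHom F (X := A) (M := A)) (𝟙 A) n).trans ?_)
    show (F.map (𝟙 A)) ^ n = _
    rw [F.map_id])
  haveI : Etale (φ.left ≫ ψ.left) := by
    rw [← Over.comp_left, hfac]
    exact H28Neron.ComponentTorsion.etale_pow A n (hdeg z)
  haveI : LocallyOfFiniteType (φ.left ≫ B.hom) := by rw [Over.w φ]; infer_instance
  haveI : LocallyOfFiniteType φ.left := locallyOfFiniteType_of_comp φ.left B.hom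
  haveI : LocallyQuasiFinite (φ.left ≫ ψ.left) := lqf_of_etale _
  haveI : LocallyQuasiFinite φ.left := LocallyQuasiFinite.of_comp φ.left ψ.left
  haveI : Flat φ.left := hflat.1 ‹_›
  haveI : FormallyUnramified φ.left := FormallyUnramified.of_comp φ.left ψ.left
  haveI : IsLocallyNoetherian B.left := LocallyOfFiniteType.isLocallyNoetherian B.hom
  haveI : Etale φ.left := Etale.of_formallyUnramified_of_flat φ.left
  haveI : QuasiCompact (φ.left ≫ B.hom) := by rw [Over.w φ]; infer_instance
  haveI : QuasiCompact φ.left := QuasiCompact.of_comp φ.left B.hom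
  haveI : IsSeparated (φ.left ≫ B.hom) := by rw [Over.w φ]; infer_instance
  haveI : IsSeparated φ.left := IsSeparated.of_comp φ.left B.hom
  have hsq := hN.map (Over.forget (Spec (CommRingCat.of R)))
  have hnat : N.hom = (CartesianMonoidalCategory.toUnit N).left :=
    (Over.w (CartesianMonoidalCategory.toUnit N)).symm.trans (Category.comp_id _)
  have het : Etale N.hom :=
    hnat ▸ MorphismProperty.of_isPullback (P := @Etale) hsq (inferInstanceAs (Etale φ.left))
  have hqc : QuasiCompact N.hom :=
    hnat ▸ MorphismProperty.of_isPullback (P := @QuasiCompact) hsq (inferInstanceAs (QuasiCompact φ.left))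
  have hsep : IsSeparated N.hom :=
    hnat ▸ MorphismProperty.of_isPullback (P := @IsSeparated) hsq (inferInstanceAs (IsSeparated φ.left))
  refine ⟨⟨inferInstance, hsep, inferInstance, hqc, fun Y hY => ⟨fun g g' h => ?_, fun h => ?_⟩⟩, het⟩
  · simp only [Iso.refl_hom, Category.comp_id] at h
    refine (cancel_mono i).1 (injA hY _ _ ?_)
    rw [Functor.map_comp, Functor.map_comp, h]
  · obtain ⟨a, ha⟩ := (hAbij Y hY).2 (h ≫ F.map i)
    have ha' : F.map a = h ≫ F.map i := by simpa using ha
    obtain ⟨g, hg⟩ := H19Grp.kernel_lift hN a (injB hY _ _ (by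
      rw [Functor.map_comp, ha', Category.assoc, H19Grp.kernel_comp_eq_one hNK, MonObj.comp_one, Functor.map_one]))
    refine ⟨g, ?_⟩
    simp only [Iso.refl_hom, Category.comp_id]
    haveI := H19Grp.kernel_mono hNK
    rw [← cancel_mono (F.map i), ← Functor.map_comp, hg, ha']

end Groth.Agent.S18494
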