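import Groth.Statements.S4077
import Groth.Agent.H28SemiAb.NeronModel

set_option autoImplicit false
set_option linter.style.haveILetI false
set_option backward.isDefEq.respectTransparency false
set_option backward.isDefEq.respectTransparency.types false
set_option maxHeartbeats 1600000
universe u
open CategoryTheory CategoryTheory.Limits AlgebraicGeometry MonObj
open SGA7

namespace Groth.Agent.S4077

/-- Let R be a Dedekind domain with fraction field K and N a group scheme over Spec R which is a Néron
model of its generic fibre A = N_K, an abelian variety (proper and geometrically integral over K).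
Then A has semistable reduction over R (it extends to a smooth separated group scheme of finite type
over Spec R whose geometric fibres contain no copy of the additive group) if and only if the
geometric fibres of N contain no copy of the additive group (that is, the identity components of the
fibres of N are extensions of abelian varieties by tori). -/
theorem result (R K : Type u) [CommRing R] [IsDedekindDomain R] [Field K] [Algebra R K] [IsFractionRing R K]
    (N : Over (Spec (CommRingCat.of R))) [GrpObj N] (hN : SGA7.IsNeron R K N)
    [IsProper ((SGA7.genFib R K).obj N).hom] [GeometricallyIntegral ((SGA7.genFib R K).obj N).hom] :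
    SGA7.HasSemistableReduction R K ((SGA7.genFib R K).obj N) ↔ SGA7.FibresUnipotentRankZero N := by
  obtain ⟨hsm, hsep, hqc, hbij⟩ := hN
  haveI := hsm; haveI := hsep; haveI := hqc
  haveI : IsCommMonObj ((SGA7.genFib R K).obj N) :=
    isCommMonObj_of_isProper_of_geometricallyIntegral ((SGA7.genFib R K).obj N)
  constructor
  · rintro ⟨G, gG, e, he, hGs, hGsep, hGqc, hG⟩
    haveI := he; haveI := hGs; haveI := hGsep; haveI := hGqc
    obtain ⟨u, hu⟩ := (hbij G hGs).2 e.hom
    simp only at hu
    haveI : IsMonHom ((Over.pullback (Spec.map (CommRingCat.ofHom (algebraMap R K)))).map u) := hu ▸ he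
    haveI : IsMonHom u := Groth.Agent.H28SemiAb.isMonHom_of_map _ (fun Y hY => (hbij Y hY).1) u
    haveI : IsIso ((SGA7.genFib R K).map u) := hu ▸ inferInstance
    haveI : IsMonHom ((SGA7.genFib R K).map u) := inferInstance
    haveI : IsCommMonObj G := Groth.Agent.H28Neron.ComponentTorsion.isCommMonObj_of_genericFibre R K G
      (Groth.Agent.H28SemiAb.isCommMonObj_of_mono ((SGA7.genFib R K).map u))
    haveI : IsOpenImmersion u.left := Groth.Agent.H28SemiAb.isOpenImmersion_of_genFib (R := R) (K := K) hG u
    exact Groth.Agent.H28SemiAb.fibresUnipotentRankZero_of_open u hG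
  · intro h
    exact ⟨N, inferInstance, Iso.refl _, inferInstanceAs (IsMonHom (𝟙 _)), hsm, hsep, hqc, h⟩

end Groth.Agent.S4077
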