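import Groth.Statements.S18495
import Groth.Agent.H28SemiAb.PowLqf
import Groth.Agent.S4077
import Groth.Agent.S1842
import Groth.Agent.S18489
import Groth.Agent.H25Grp.Isogeny

set_option autoImplicit false
set_option linter.style.haveILetI false
set_option backward.isDefEq.respectTransparency false
set_option backward.isDefEq.respectTransparency.types false
set_option maxHeartbeats 1600000
universe u
open CategoryTheory CategoryTheory.Limits AlgebraicGeometry MonObj
open Neron
open Groth.Agent MonoidalCategory CartesianMonoidalCategory

attribute [local instance] Functor.grpObjObj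
attribute [local instance 2000] Hom.group Hom.monoid

namespace Groth.Agent.S18495

/-- The case of multiplication by n over a discrete valuation ring. Let R be a discrete valuation ring
with fraction field K and residue field of characteristic p (p = 0 allowed), let A be a commutative
group scheme over Spec R which is a Néron model of its generic fibre A_K, an abelian variety over K
(proper and geometrically integral), and let n ≥ 1. Then the n-th power endomorphism of A is flat if
and only if: whenever p divides n, A_K has semistable reduction over R (A_K extends to a smooth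
separated group scheme of finite type over Spec R all of whose geometric fibres contain no closed
subgroup isomorphic to the additive group). (The published lemma is over a connected Dedekind
scheme, with the reduction condition at every nongeneric point whose residue characteristic divides
n; the case of a discrete valuation ring is stated.) -/
theorem result (R : Type u) [CommRing R] [IsDomain R]
    [IsDiscreteValuationRing R] (A : Over (Spec (CommRingCat.of R))) [GrpObj A] [IsCommMonObj A]
    (hA : Neron.IsNeronModelOf R A ((Neron.genericFibre R).obj A) (Iso.refl _))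
    [IsProper ((Neron.genericFibre R).obj A).hom] [GeometricallyIntegral ((Neron.genericFibre R).obj A).hom]
    (n : ℕ) (hn : 1 ≤ n) :
    Flat (((𝟙 A) ^ n : A ⟶ A)).left ↔
      (ringChar (IsLocalRing.ResidueField R) ∣ n →
        SGA7.HasSemistableReduction R (FractionRing R) ((Neron.genericFibre R).obj A)) := by
  have hA' := hA
  obtain ⟨_, _, _, _, hbA⟩ := hA
  let K := FractionRing R
  let A' : Over (Spec (CommRingCat.of K)) := (Neron.genericFibre R).obj A
  haveI : IsMonHom ((𝟙 A) ^ n : A ⟶ A) := H28SemiAb.isMonHom_pow' n
  have hmapK : (Neron.genericFibre R).map ((𝟙 A) ^ n : A ⟶ A) = ((𝟙 A') ^ n : A' ⟶ A') :=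
    (map_pow (Functor.homMonoidHom (Neron.genericFibre R)) _ n).trans
      (congrArg (fun y : A' ⟶ A' => y ^ n) ((Neron.genericFibre R).map_id A))
  haveI : IsIntegral A'.left := GeometricallyIntegral.isIntegral_of_subsingleton A'.hom
  obtain ⟨d, hd⟩ := H25Grp.exists_nat_dim A'.hom
  have hiso : SGA7.IsIsogenyOver ((Neron.genericFibre R).map ((𝟙 A) ^ n : A ⟶ A)) := by
    obtain ⟨h1, h2, h3⟩ := S1842.result K A' d hd (n : ℤ) (by omega)
    rw [zpow_natCast] at h1 h2 h3
    rw [hmapK]
    haveI := h1
    haveI := h2
    refine ⟨(Scheme.Hom.one_le_finrank_iff_surjective _).1 fun a => (Nat.one_le_pow _ _ (by simp; omega)).trans_eq (h3 a).symm, fun M i hM => ?_⟩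
    rw [show M.hom = (toUnit M).left from (Over.w (toUnit M)).symm.trans (Category.comp_id _)]
    exact MorphismProperty.of_isPullback (P := @IsFinite) (hM.map (Over.forget _)) h1
  have hN : SGA7.IsNeron R K A := ⟨inferInstance, inferInstance, inferInstance, fun Y hY => by
    simpa using hbA Y hY⟩
  rw [← S18489.result R A A hA' hA' _ hiso]
  constructor
  · intro hlqf hp
    refine (S4077.result R K A hN).2 fun s j hj hjc => ?_
    let Ω := AlgebraicClosure ((Spec (CommRingCat.of R)).residueField s)
    let G : Over (Spec (CommRingCat.of Ω)) := (Over.pullback (Red.geomPt s)).obj A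
    haveI : QuasiCompact G.hom := inferInstanceAs (QuasiCompact (pullback.snd A.hom (Red.geomPt s)))
    haveI : IsSeparated G.hom := inferInstanceAs (IsSeparated (pullback.snd A.hom (Red.geomPt s)))
    by_cases hns : (n : (Spec (CommRingCat.of R)).residueField s) = 0
    · haveI : LocallyQuasiFinite ((𝟙 G) ^ n : G ⟶ G).left := by
        rw [← show (Over.pullback (Red.geomPt s)).map ((𝟙 A) ^ n : A ⟶ A) = ((𝟙 G) ^ n : G ⟶ G) from
          (map_pow (Functor.homMonoidHom (Over.pullback (Red.geomPt s))) _ n).trans
            (congrArg (fun y : G ⟶ G => y ^ n) ((Over.pullback (Red.geomPt s)).map_id A))]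
        exact MorphismProperty.of_isPullback (P := @LocallyQuasiFinite)
          (H19Grp.isPullback_map (Red.geomPt s) ((𝟙 A) ^ n : A ⟶ A)) hlqf
      exact H28SemiAb.noGa_of_lqf_pow G (m := n) (by
        rw [← map_natCast (algebraMap ((Spec (CommRingCat.of R)).residueField s) Ω) n, hns, map_zero]) j hj hjc
    · obtain ⟨l, hl⟩ : ∃ l : Spec (CommRingCat.of Ω) ⟶ Spec (CommRingCat.of K),
          l ≫ Spec.map (CommRingCat.ofHom (algebraMap R K)) = Red.geomPt s := by
        obtain ⟨φ, hφ⟩ := Spec.map_surjective (Red.geomPt s)
        have hinj : Function.Injective φ.hom := (injective_iff_map_eq_zero φ.hom).2 fun x hx => by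
          by_contra hx0
          obtain ⟨ϖ, hϖ⟩ := IsDiscreteValuationRing.exists_irreducible R
          obtain ⟨m, u, rfl⟩ := IsDiscreteValuationRing.eq_unit_mul_pow_irreducible hx0 hϖ
          have h0 : φ.hom ϖ = 0 := by
            rw [map_mul, map_pow, mul_eq_zero] at hx
            exact eq_zero_of_pow_eq_zero (hx.resolve_left (u.isUnit.map φ.hom).ne_zero)
          have hn0 : (n : R) ∈ IsLocalRing.maximalIdeal R := by
            rw [← IsLocalRing.residue_eq_zero_iff, map_natCast]
            obtain ⟨c, hc⟩ := hp
            rw [hc, Nat.cast_mul, ringChar.Nat.cast_ringChar, zero_mul]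
          rw [hϖ.maximalIdeal_eq, Ideal.mem_span_singleton] at hn0
          obtain ⟨c, hc⟩ := hn0
          refine hns ((algebraMap ((Spec (CommRingCat.of R)).residueField s) Ω).injective ?_)
          rw [map_natCast, map_zero]
          have := congrArg φ.hom hc
          rw [map_natCast, map_mul, h0, zero_mul] at this
          exact this
        refine ⟨Spec.map (CommRingCat.ofHom (IsFractionRing.lift (K := K) hinj)), ?_⟩
        rw [← Spec.map_comp, ← hφ]
        exact congrArg Spec.map (CommRingCat.hom_ext (IsLocalization.lift_comp _))
      have sq : IsPullback (pullback.lift (pullback.fst A.hom (Red.geomPt s)) (pullback.snd A.hom (Red.geomPt s) ≫ l)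
          (by rw [pullback.condition, Category.assoc, hl])) (pullback.snd A.hom (Red.geomPt s))
          (pullback.snd A.hom (Spec.map (CommRingCat.ofHom (algebraMap R K)))) l := by
        refine IsPullback.of_right ?_ (pullback.lift_snd _ _ _) (IsPullback.of_hasPullback A.hom _)
        erw [pullback.lift_fst, hl]
        exact IsPullback.of_hasPullback A.hom (Red.geomPt s)
      haveI : IsProper G.hom := MorphismProperty.of_isPullback (P := @IsProper) sq
        (inferInstanceAs (IsProper A'.hom))
      exact H28SemiAb.noGa_of_isProper G j hj hjc
  · intro h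
    refine H28SemiAb.lqf_pow A (by omega) fun s hns => ?_
    by_cases hp : ringChar (IsLocalRing.ResidueField R) ∣ n
    · exact (S4077.result R K A hN).1 (h hp) s
    · exact absurd hns (H28SemiAb.natCast_ne_zero_of_dvr s hp)

end Groth.Agent.S18495
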