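import Groth.Statements.S18497
import Groth.Agent.H28Neron.EtaleNeron

set_option autoImplicit false
universe u
open CategoryTheory CategoryTheory.Limits AlgebraicGeometry MonObj
open Neron

namespace Groth.Agent.S18497

/-- Let R be a Dedekind domain with fraction field K and G a finite étale group scheme over K. Then G
has a Néron model over Spec R which is separated, quasi-finite and étale: there are a Spec R-scheme
N and an isomorphism e of its generic fibre N_K with G such that N is smooth, separated and of
finite type over Spec R with the Néron mapping property (for every smooth Spec R-scheme Y, g ↦ e ∘
g_K is a bijection from R-morphisms Y → N onto K-morphisms Y_K → G), and N → Spec R is étale and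
locally quasi-finite. -/
theorem result (R : Type u) [CommRing R] [IsDedekindDomain R]
    (G : Over (Spec (CommRingCat.of (FractionRing R)))) [GrpObj G] [IsFinite G.hom] [Etale G.hom] :
    ∃ (N : Over (Spec (CommRingCat.of R))) (e : (Neron.genericFibre R).obj N ≅ G),
      Neron.IsNeronModelOf R N G e ∧ Etale N.hom ∧ LocallyQuasiFinite N.hom := by
  exact H28Neron.EtaleNeron.exists_neronModel R G

end Groth.Agent.S18497
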