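import Groth.Statements.S18499
import Groth.Agent.H28SemiAb.PowLqf
import Groth.Agent.S4077
import Groth.Agent.S7790
import Groth.Agent.S18489
import Groth.Agent.H19Grp.HomFlat

set_option autoImplicit false
set_option linter.style.haveILetI false
set_option backward.isDefEq.respectTransparency false
set_option backward.isDefEq.respectTransparency.types false
set_option maxHeartbeats 1600000
universe u
open CategoryTheory CategoryTheory.Limits AlgebraicGeometry MonObj
open Neron
open Groth.Agent MonoidalCategory CartesianMonoidalCategory

attribute [local instance] Functor.grpObjObj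
attribute [local instance 2000] Hom.group Hom.monoid

namespace Groth.Agent.S18499

theorem geometricallyConnected_of_integral {X Y : Scheme.{u}} (f : X ⟶ Y) [GeometricallyIntegral f] :
    GeometricallyConnected f := by
  refine ⟨fun K _ y Z fst snd h => ?_⟩
  haveI := GeometricallyIntegral.geometrically_isIntegral (f := f) y fst snd h
  infer_instance

/-- Let R be a discrete valuation ring with fraction field K and residue field of characteristic p (p =
0 allowed), let A and B be group schemes over Spec R which are Néron models of their generic fibres,
both abelian varieties over K (proper and geometrically integral), let φ : A → B be a homomorphism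
whose generic fibre φ_K is an isogeny (surjective with finite kernel), and let i : N → A be a kernel
of φ, so that N_K is a finite K-group scheme whose order (rank over Spec K) is the degree of φ_K.
If, whenever p divides that degree, A_K has semistable reduction over R (it extends to a smooth
separated group scheme of finite type over Spec R whose geometric fibres contain no closed subgroup
isomorphic to the additive group), then φ is flat. (The converse fails in general. The published
lemma is over a connected Dedekind scheme, with the reduction condition at every nongeneric point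
whose residue characteristic divides the degree; the case of a discrete valuation ring is stated.) -/
theorem result (R : Type u) [CommRing R]
    [IsDomain R] [IsDiscreteValuationRing R] (A B : Over (Spec (CommRingCat.of R))) [GrpObj A] [GrpObj B]
    (hA : Neron.IsNeronModelOf R A ((Neron.genericFibre R).obj A) (Iso.refl _))
    (hB : Neron.IsNeronModelOf R B ((Neron.genericFibre R).obj B) (Iso.refl _))
    [IsProper ((Neron.genericFibre R).obj A).hom] [GeometricallyIntegral ((Neron.genericFibre R).obj A).hom]
    [IsProper ((Neron.genericFibre R).obj B).hom] [GeometricallyIntegral ((Neron.genericFibre R).obj B).hom]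
    (φ : A ⟶ B) [IsMonHom φ] (hφ : SGA7.IsIsogenyOver ((Neron.genericFibre R).map φ))
    (N : Over (Spec (CommRingCat.of R))) (i : N ⟶ A) (hN : AlgGrp.IsKernel i φ)
    (h : ∀ x : ↥(Spec (CommRingCat.of (FractionRing R))),
      ringChar (IsLocalRing.ResidueField R) ∣ ((Neron.genericFibre R).obj N).hom.finrank x →
        SGA7.HasSemistableReduction R (FractionRing R) ((Neron.genericFibre R).obj A)) :
    Flat φ.left := by
  have hA' := hA
  have hB' := hB
  obtain ⟨_, _, _, _, hbA⟩ := hA
  obtain ⟨_, _, _, _, hbB⟩ := hB
  let K := FractionRing R
  let A' : Over (Spec (CommRingCat.of K)) := (Neron.genericFibre R).obj A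
  let B' : Over (Spec (CommRingCat.of K)) := (Neron.genericFibre R).obj B
  haveI : IsCommMonObj A := H28Neron.ComponentTorsion.isCommMonObj_of_genericFibre R K A
    (isCommMonObj_of_isProper_of_geometricallyIntegral A')
  haveI : Smooth B'.hom := inferInstanceAs (Smooth (pullback.snd B.hom _))
  haveI : Smooth A'.hom := inferInstanceAs (Smooth (pullback.snd A.hom _))
  let f : A' ⟶ B' := (Neron.genericFibre R).map φ
  haveI : IsMonHom f := inferInstanceAs (IsMonHom ((Neron.genericFibre R).map φ))
  haveI : IsFinite f.left := H28Neron.IsogenyFinite.isFinite f hφ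
  haveI : Surjective f.left := hφ.1
  haveI : Flat f.left := H19Grp.flat_of_surjective f
  let x₀ : ↥(Spec (CommRingCat.of K)) := IsLocalRing.closedPoint K
  let n := Scheme.Hom.finrank f.left (η[B'].left x₀)
  obtain ⟨a, ha⟩ := f.left.surjective (η[B'].left x₀)
  have hn : 1 ≤ n := (Scheme.Hom.one_le_finrank_map f.left a).trans_eq (congrArg (Scheme.Hom.finrank f.left) ha)
  haveI : GeometricallyReduced A'.hom := inferInstance
  haveI : GeometricallyConnected A'.hom := geometricallyConnected_of_integral _
  haveI : GeometricallyReduced B'.hom := inferInstance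
  haveI : GeometricallyConnected B'.hom := geometricallyConnected_of_integral _
  obtain ⟨⟨ψ', ⟨-, hψ'⟩, -⟩, -⟩ := S7790.result A' B' f n hn fun s => by
    rw [Subsingleton.elim (α := PrimeSpectrum K) s x₀]
  obtain ⟨ψ, hψ⟩ := (hbA B inferInstance).2 ψ'
  have hψK : (Neron.genericFibre R).map ψ = ψ' := by simpa using hψ
  have hcomp : φ ≫ ψ = ((𝟙 A) ^ n : A ⟶ A) := by
    refine (hbA A inferInstance).1 ?_
    show (Neron.genericFibre R).map (φ ≫ ψ) ≫ (Iso.refl _).hom =
      (Neron.genericFibre R).map ((𝟙 A) ^ n : A ⟶ A) ≫ (Iso.refl _).hom
    rw [Functor.map_comp, hψK]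
    refine congrArg (· ≫ (Iso.refl A').hom) (hψ'.trans ?_)
    exact ((map_pow (Functor.homMonoidHom (Neron.genericFibre R)) _ n).trans
      (congrArg (fun y : A' ⟶ A' => y ^ n) ((Neron.genericFibre R).map_id A))).symm
  have hNx : ((Neron.genericFibre R).obj N).hom.finrank x₀ = n := by
    let F := Neron.genericFibre R
    have hK : IsPullback (F.map i) (toUnit (F.obj N)) f η[B'] := by
      refine (IsPullback.map F hN).of_iso (Iso.refl _) (Iso.refl _) (Functor.Monoidal.εIso F).symm (Iso.refl _)
        (by simp [F]) (toUnit_unique _ _) (by simp [F, f]) ?_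
      show F.map η[B] ≫ 𝟙 _ = (Functor.Monoidal.εIso F).symm.hom ≫ Functor.LaxMonoidal.ε F ≫ F.map η[B]
      simp
    have h1 := Scheme.Hom.finrank_of_isPullback (F.map i).left (toUnit (F.obj N)).left f.left η[B'].left (hK.map (Over.forget _)) x₀
    rw [show (toUnit (F.obj N)).left = (F.obj N).hom from
      (Category.comp_id _).symm.trans (Over.w (toUnit (F.obj N)))] at h1
    exact h1
  have hlqf : LocallyQuasiFinite ((𝟙 A) ^ n : A ⟶ A).left := by
    refine H28SemiAb.lqf_pow A hn fun s hns => ?_
    by_cases hp : ringChar (IsLocalRing.ResidueField R) ∣ n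
    · exact ((S4077.result R K A ⟨inferInstance, inferInstance, inferInstance, fun Y hY => by
        simpa using hbA Y hY⟩).1 (h x₀ (hNx.symm ▸ hp))) s
    · exact absurd hns (H28SemiAb.natCast_ne_zero_of_dvr s hp)
  haveI : LocallyQuasiFinite (φ.left ≫ ψ.left) := by rw [← Over.comp_left, hcomp]; exact hlqf
  exact (S18489.result R A B hA' hB' φ hφ).1 (LocallyQuasiFinite.of_comp φ.left ψ.left)

end Groth.Agent.S18499
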