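import Groth.Statements.S18501
import Groth.Agent.S18489
import Groth.Agent.H28Neron.SpecialFibreImage


set_option autoImplicit false
universe u
open CategoryTheory CategoryTheory.Limits AlgebraicGeometry MonObj
open Neron

namespace Groth.Agent.S18501

/-- Cartesian square of a base change map. -/
theorem isPullback_map {S T : Scheme.{u}} (χ : T ⟶ S) {A B : Over S} (φ : A ⟶ B) :
    IsPullback ((Over.pullback χ).map φ).left (pullback.fst A.hom χ) (pullback.fst B.hom χ) φ.left := by
  refine (IsPullback.of_bot (v₂₁ := pullback.snd B.hom χ) (v₂₂ := B.hom) (h₃₁ := χ) ?_ ?_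
    (IsPullback.of_hasPullback B.hom χ)).flip
  · rw [show ((Over.pullback χ).map φ).left ≫ pullback.snd B.hom χ = pullback.snd A.hom χ from
      Over.w ((Over.pullback χ).map φ), Over.w φ]
    exact IsPullback.of_hasPullback A.hom χ
  · exact (pullback.lift_fst _ _ _).symm

theorem fst_unit {S : Scheme.{u}} {L : Type u} [Field L] (χ : Spec (CommRingCat.of L) ⟶ S) (G : Over S)
    [GrpObj G] :
    pullback.fst G.hom χ (η[Red.bc χ G].left (IsLocalRing.closedPoint L)) =
      η[G].left (χ (IsLocalRing.closedPoint L)) :=
  ((Scheme.Hom.comp_apply _ _ _).symm.trans (congrArg (fun ψ => ψ.base (IsLocalRing.closedPoint L))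
    (H28Neron.HomQuasiFinite.η_left_fst χ G))).trans (Scheme.Hom.comp_apply χ η[G].left _)

/-- Let R be a discrete valuation ring with fraction field K and residue field k, let A and B be group
schemes over Spec R which are Néron models of their generic fibres, both abelian varieties over K
(proper and geometrically integral), and let φ : A → B be a homomorphism whose generic fibre is an
isogeny (surjective with finite kernel). Then φ is flat if and only if the special fibre φ_k : A_k →
B_k maps the connected component of the identity point of A_k onto the connected component of the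
identity point of B_k, i.e. the image of the former subset is the latter (φ induces a surjection of
identity components; on the generic fibre this is automatic). (The published lemma is over a
connected Dedekind scheme, with this condition at every point, and includes a further equivalent
condition, quasi-finiteness of φ; the case of a discrete valuation ring is stated here, where only
the closed point matters.) -/
theorem result (R : Type u) [CommRing R]
    [IsDomain R] [IsDiscreteValuationRing R] (A B : Over (Spec (CommRingCat.of R))) [GrpObj A] [GrpObj B]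
    (hA : Neron.IsNeronModelOf R A ((Neron.genericFibre R).obj A) (Iso.refl _))
    (hB : Neron.IsNeronModelOf R B ((Neron.genericFibre R).obj B) (Iso.refl _))
    [IsProper ((Neron.genericFibre R).obj A).hom] [GeometricallyIntegral ((Neron.genericFibre R).obj A).hom]
    [IsProper ((Neron.genericFibre R).obj B).hom] [GeometricallyIntegral ((Neron.genericFibre R).obj B).hom]
    (φ : A ⟶ B) [IsMonHom φ] (hφ : SGA7.IsIsogenyOver ((Neron.genericFibre R).map φ)) :
    Flat φ.left ↔
      ((Over.pullback (Spec.map (CommRingCat.ofHom (IsLocalRing.residue R)))).map φ).left.base ''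
          connectedComponent ((η[Red.bc (Spec.map (CommRingCat.ofHom (IsLocalRing.residue R))) A]).left.base (IsLocalRing.closedPoint (IsLocalRing.ResidueField R))) =
        connectedComponent ((η[Red.bc (Spec.map (CommRingCat.ofHom (IsLocalRing.residue R))) B]).left.base (IsLocalRing.closedPoint (IsLocalRing.ResidueField R))) := by
  have hAB := Groth.Agent.S18489.result R A B hA hB φ hφ
  obtain ⟨_, _, _, _, -⟩ := hA
  obtain ⟨_, _, _, _, -⟩ := hB
  haveI : LocallyOfFiniteType (φ.left ≫ B.hom) := by rw [Over.w φ]; infer_instance
  haveI : LocallyOfFiniteType φ.left := locallyOfFiniteType_of_comp φ.left B.hom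
  haveI : IsMonHom ((Neron.genericFibre R).map φ) := inferInstance
  let r := Spec.map (CommRingCat.ofHom (IsLocalRing.residue R))
  haveI : Smooth (Red.bc r A).hom := inferInstanceAs (Smooth (pullback.snd A.hom r))
  haveI : Smooth (Red.bc r B).hom := inferInstanceAs (Smooth (pullback.snd B.hom r))
  haveI : QuasiCompact (Red.bc r A).hom := inferInstanceAs (QuasiCompact (pullback.snd A.hom r))
  haveI : IsSeparated (Red.bc r B).hom := inferInstanceAs (IsSeparated (pullback.snd B.hom r))
  let ψ : Red.bc r A ⟶ Red.bc r B := (Over.pullback r).map φ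
  haveI : IsMonHom ψ := inferInstanceAs (IsMonHom ((Over.pullback r).map φ))
  have hp : IsPullback ψ.left (pullback.fst A.hom r) (pullback.fst B.hom r) φ.left := isPullback_map r φ
  haveI : LocallyOfFiniteType ψ.left :=
    MorphismProperty.of_isPullback (P := @LocallyOfFiniteType) hp.flip ‹LocallyOfFiniteType φ.left›
  refine ⟨fun _ => ?_, fun h => ?_⟩
  · haveI : Flat ψ.left := MorphismProperty.of_isPullback (P := @Flat) hp.flip ‹Flat φ.left›
    exact H28Neron.SpecialFibreImage.image_eq_of_flat ψ
  obtain ⟨d, hdA, hdB⟩ := H28Neron.IsogenyFinite.exists_dim _ hφ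
  haveI : IrreducibleSpace ↥(pullback A.hom (Spec.map (CommRingCat.ofHom (algebraMap R (FractionRing R))))) :=
    haveI : IsIntegral ((Neron.genericFibre R).obj A).left :=
      GeometricallyIntegral.isIntegral_of_subsingleton ((Neron.genericFibre R).obj A).hom
    inferInstanceAs (IrreducibleSpace ↥((Neron.genericFibre R).obj A).left)
  haveI : IrreducibleSpace ↥(pullback B.hom (Spec.map (CommRingCat.ofHom (algebraMap R (FractionRing R))))) :=
    haveI : IsIntegral ((Neron.genericFibre R).obj B).left :=
      GeometricallyIntegral.isIntegral_of_subsingleton ((Neron.genericFibre R).obj B).hom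
    inferInstanceAs (IrreducibleSpace ↥((Neron.genericFibre R).obj B).left)
  have hunit : FlatMor.fibreDimAt φ.left (η[A].left (IsLocalRing.closedPoint R)) = 0 := by
    have h0 := H28Neron.SpecialFibreImage.fibreDimAt_eq_zero_of_image_eq ψ d
      (fun x => by
        refine (H8Props.FieldDim.fibreDimAt_baseChange A.hom (IsPullback.of_hasPullback A.hom r) x).trans ?_
        rw [H28Neron.SmoothDim.fibreDimAt_eq_generic (K := FractionRing R) A.hom]
        exact hdA)
      (fun y => by
        refine (H8Props.FieldDim.fibreDimAt_baseChange B.hom (IsPullback.of_hasPullback B.hom r) y).trans ?_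
        rw [H28Neron.SmoothDim.fibreDimAt_eq_generic (K := FractionRing R) B.hom]
        exact hdB) h
    rw [H8Props.FieldDim.fibreDimAt_baseChange φ.left hp.flip, fst_unit r A] at h0
    exact (show r (IsLocalRing.closedPoint (IsLocalRing.ResidueField R)) = IsLocalRing.closedPoint R from
      IsLocalRing.comap_closedPoint (IsLocalRing.residue R)) ▸ h0
  refine hAB.1 ?_
  rw [← Scheme.Hom.quasiFiniteLocus_eq_top_iff]
  refine top_le_iff.1 fun x _ => H22Alg.quasiFiniteAt_of_fibreDimAt_le_zero φ.left x (le_of_eq ?_)
  by_cases hx : A.hom x = IsLocalRing.closedPoint R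
  · let L := AlgebraicClosure (IsLocalRing.ResidueField R)
    let ρ := Spec.map (CommRingCat.ofHom (algebraMap (IsLocalRing.ResidueField R) L))
    let χ := ρ ≫ r
    have hχ : ∀ z, χ z = IsLocalRing.closedPoint R := fun z => by
      rw [Scheme.Hom.comp_apply, Subsingleton.elim (α := PrimeSpectrum (IsLocalRing.ResidueField R)) (ρ z)
        (IsLocalRing.closedPoint _)]
      exact IsLocalRing.comap_closedPoint (IsLocalRing.residue R)
    haveI : Smooth (Red.bc χ A).hom := inferInstanceAs (Smooth (pullback.snd A.hom χ))
    let ψ' : Red.bc χ A ⟶ Red.bc χ B := (Over.pullback χ).map φ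
    haveI : IsMonHom ψ' := inferInstanceAs (IsMonHom ((Over.pullback χ).map φ))
    have hp' : IsPullback ψ'.left (pullback.fst A.hom χ) (pullback.fst B.hom χ) φ.left := isPullback_map χ φ
    haveI : LocallyOfFiniteType ψ'.left :=
      MorphismProperty.of_isPullback (P := @LocallyOfFiniteType) hp'.flip ‹LocallyOfFiniteType φ.left›
    haveI : LocallyQuasiFinite ψ'.left := by
      refine H28Neron.HomQuasiFinite.quasiFiniteAt_all_of_isAlgClosed ψ'
        (H22Alg.quasiFiniteAt_of_fibreDimAt_le_zero _ _ (le_of_eq ?_))
      rw [H8Props.FieldDim.fibreDimAt_baseChange φ.left hp'.flip, fst_unit χ A]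
      exact (hχ (IsLocalRing.closedPoint L)).symm ▸ hunit
    obtain ⟨z, hz⟩ : x ∈ Set.range (pullback.fst A.hom χ) := by
      rw [Scheme.Pullback.range_fst]
      exact ⟨IsLocalRing.closedPoint L, (hχ _).trans hx.symm⟩
    rw [← hz, ← H8Props.FieldDim.fibreDimAt_baseChange φ.left hp'.flip z]
    exact H8Props.FieldDim.fibreDimAt_eq_zero_of_lqf _ _
  · let j := Spec.map (CommRingCat.ofHom (algebraMap R (FractionRing R)))
    haveI : IsProper ((Neron.genericFibre R).obj A).hom := ‹_›
    haveI := H28Neron.IsogenyFinite.isFinite _ hφ
    have hp' := isPullback_map j φ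
    obtain ⟨z, hz⟩ : x ∈ Set.range (pullback.fst A.hom j) := by
      rw [Scheme.Pullback.range_fst]
      refine ⟨IsLocalRing.closedPoint (FractionRing R), ?_⟩
      refine PrimeSpectrum.ext ?_
      have h1 : (A.hom x).asIdeal = ⊥ := by
        by_contra hne
        exact hx (PrimeSpectrum.ext (IsLocalRing.eq_maximalIdeal ((A.hom x).2.isMaximal hne)))
      rw [h1]
      refine eq_bot_iff.2 fun a ha => ?_
      change algebraMap R (FractionRing R) a ∈ IsLocalRing.maximalIdeal (FractionRing R) at ha
      rw [IsLocalRing.maximalIdeal_eq_bot, Ideal.mem_bot, IsFractionRing.to_map_eq_zero_iff] at ha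
      exact ha
    rw [← hz, ← H8Props.FieldDim.fibreDimAt_baseChange φ.left hp'.flip z]
    exact H8Props.FieldDim.fibreDimAt_eq_zero_of_lqf _ _

end Groth.Agent.S18501
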