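import Groth.Statements.S18502
import Groth.Agent.H20GQ.Torsor

set_option autoImplicit false
universe u
open CategoryTheory MonoidalCategory CartesianMonoidalCategory MonObj GrpObj AlgebraicGeometry Topology
open EqInt

namespace Groth.Agent.S18502

/-- Over a field k, let an affine group scheme G of finite type act on X, let X and Y be separated and
of finite type over k, and let φ : X → Y be G-invariant, flat and surjective with (σ, p₂) : G × X →
X ×_Y X an isomorphism (X is a principal G-bundle over Y). Conclusion: the pair (Y, φ) realizes Y as
a geometric quotient of X under G, and G acts freely, meaning (σ, p₂) : G × X → X × X is a closed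
immersion. (The source takes X and Y integral; integrality plays no role. A geometric quotient is
taken here with φ universally submersive.) -/
theorem result (k : Type u) [Field k]
    (G X Y : Over (Spec (CommRingCat.of k))) [GrpObj G] [IsAffine G.left] [LocallyOfFiniteType G.hom]
    [LocallyOfFiniteType X.hom] [QuasiCompact X.hom] [IsSeparated X.hom]
    [LocallyOfFiniteType Y.hom] [QuasiCompact Y.hom] [IsSeparated Y.hom]
    (a : AlgGrp.Action G X) (φ : X ⟶ Y) (hinv : GIT.IsInvariant a φ) [Flat φ.left] [Surjective φ.left]
    (hcart : IsIso (GIT.PsiY a φ hinv)) :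
    GIT.IsGeomQuot a φ ∧ IsClosedImmersion (GIT.psi a (𝟙 X)).left := by
  haveI : IsLocallyNoetherian Y.left := LocallyOfFiniteType.isLocallyNoetherian Y.hom
  haveI : LocallyOfFiniteType φ.left := by
    haveI : LocallyOfFiniteType (φ.left ≫ Y.hom) := by rw [Over.w φ]; infer_instance
    exact locallyOfFiniteType_of_comp φ.left Y.hom
  haveI : LocallyOfFinitePresentation φ.left := inferInstance
  exact ⟨Groth.Agent.H20GQ.isGeomQuot_of_fppf_cover (Groth.Agent.H20GQ.isPullback_of_isIso_PsiY hinv hcart),
    Groth.Agent.H20GQ.isClosedImmersion_psi hinv hcart⟩

end Groth.Agent.S18502
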