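import Groth.Statements.S18503
import Groth.Agent.H8Props.ClosedImmersionNhd
import Mathlib.AlgebraicGeometry.ZariskisMainTheorem
-- import your own Groth.Agent.* helpers here

set_option autoImplicit false
set_option backward.isDefEq.respectTransparency false
universe u
open CategoryTheory MonoidalCategory CartesianMonoidalCategory MonObj GrpObj AlgebraicGeometry Topology
open EqInt

namespace Groth.Agent.S18503

section Act
variable {C : Type*} [Category C]
variable {k : Type u} [Field k] {G X : Over (Spec (CommRingCat.of k))} [GrpObj G]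

open MonoidalCategory CartesianMonoidalCategory MonObj in
theorem H20GQ_act_one (a : AlgGrp.Action G X) {T : Over (Spec (CommRingCat.of k))} (x : T ⟶ X) :
    lift (1 : T ⟶ G) x ≫ a.act = x := by
  calc lift (1 : T ⟶ G) x ≫ a.act = lift (toUnit T) x ≫ (η[G] ▷ X) ≫ a.act := by
        rw [lift_whiskerRight_assoc, ← Hom.one_def]
    _ = _ := by rw [a.one_act, leftUnitor_hom, lift_snd]

open MonoidalCategory CartesianMonoidalCategory MonObj in
theorem H20GQ_act_mul (a : AlgGrp.Action G X) {T : Over (Spec (CommRingCat.of k))} (g h : T ⟶ G) (x : T ⟶ X) :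
    lift (g * h) x ≫ a.act = lift g (lift h x ≫ a.act) ≫ a.act := by
  calc lift (g * h) x ≫ a.act = lift (lift g h) x ≫ (μ[G] ▷ X) ≫ a.act := by
        rw [lift_whiskerRight_assoc, Hom.mul_def]
    _ = _ := by rw [a.mul_act, lift_lift_associator_hom_assoc, lift_whiskerLeft_assoc]

end Act

/-- Over a field k, let an affine group scheme G of finite type act on a quasi-separated scheme X of
finite type over k. If the action is proper (the morphism (σ, p₂) : G × X → X × X is proper) and the
stabilizer of every point is trivial (for each point x of X the fibre over x of the stabilizer group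
scheme (G × X) ×_{X × X} X → X, the pullback of (σ, p₂) along the diagonal, is Spec κ(x) through its
structure map), then the action is free: (σ, p₂) is a closed immersion. (Stated for X a scheme; the
source allows an algebraic space.) -/
theorem result (k : Type u) [Field k]
    (G X : Over (Spec (CommRingCat.of k))) [GrpObj G] [IsAffine G.left] [LocallyOfFiniteType G.hom]
    [LocallyOfFiniteType X.hom] [QuasiCompact X.hom] [QuasiSeparated X.hom]
    (a : AlgGrp.Action G X) (hp : IsProper (GIT.psi a (𝟙 X)).left)
    (htriv : ∀ x : ↥X.left, IsIso ((Limits.pullback.snd (GIT.psi a (𝟙 X)).left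
      (CartesianMonoidalCategory.lift (𝟙 X) (𝟙 X)).left).fiberToSpecResidueField x)) :
    IsClosedImmersion (GIT.psi a (𝟙 X)).left := by
  let ψ := GIT.psi a (𝟙 X)
  let Δ : X ⟶ X ⊗ X := lift (𝟙 X) (𝟙 X)
  let p := Limits.pullback.snd ψ.left Δ.left
  haveI : IsProper ψ.left := hp
  haveI : IsProper p := inferInstance
  haveI : LocallyOfFiniteType p := inferInstance
  have hpc : IsClosedImmersion p := by
    have := fun y => (Groth.Agent.H8Props.ClosedImmersionNhd.closedImmersion_nhd_iff p y).2
      ⟨Or.inr (htriv y), ⊤, trivial, inferInstance⟩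
    choose U hU hUc using this
    refine IsZariskiLocalAtTarget.of_iSup_eq_top (P := @IsClosedImmersion) U ?_ hUc
    exact top_unique fun y _ => TopologicalSpace.Opens.mem_iSup.2 ⟨y, hU y⟩
  have h1 : lift (toUnit X ≫ η[G]) (𝟙 X) ≫ ψ = Δ := by
    simp only [ψ, Δ, GIT.psi]
    apply hom_ext
    · simp only [Category.assoc, lift_fst, id_whiskerRight, whiskerLeft_id, Category.id_comp]
      rw [← Hom.one_def]; exact H20GQ_act_one a (𝟙 X)
    · simp
  let σ := Limits.pullback.lift (lift (toUnit X ≫ η[G]) (𝟙 X)).left (𝟙 X.left)
    (by rw [← Over.comp_left, h1, Category.id_comp])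
  have hσ : σ ≫ p = 𝟙 _ := Limits.pullback.lift_snd _ _ _
  have hp' : p ≫ σ = 𝟙 _ := by
    rw [← cancel_mono p, Category.assoc, hσ, Category.comp_id, Category.id_comp]
  haveI : Mono ψ := ⟨fun {T} u v huv => by
    have hx : u ≫ snd G X = v ≫ snd G X := by
      have := congrArg (· ≫ snd X X) huv
      simpa [ψ, GIT.psi] using this
    have hg : lift (u ≫ fst G X) (u ≫ snd G X) ≫ a.act = lift (v ≫ fst G X) (v ≫ snd G X) ≫ a.act := by
      have := congrArg (· ≫ fst X X) huv
      simp only [ψ, GIT.psi, Category.assoc, lift_fst, whiskerLeft_id, Category.id_comp] at this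
      rw [show lift (u ≫ fst G X) (u ≫ snd G X) = u by simp [← comp_lift],
        show lift (v ≫ fst G X) (v ≫ snd G X) = v by simp [← comp_lift]]
      exact this
    set g := u ≫ fst G X
    set g' := v ≫ fst G X
    set x := u ≫ snd G X
    rw [← hx] at hg
    have hh : lift (g'⁻¹ * g) x ≫ a.act = x := by
      rw [H20GQ_act_mul a, hg, ← H20GQ_act_mul a, inv_mul_cancel]
      exact H20GQ_act_one a x
    let c : T ⟶ G ⊗ X := lift (g'⁻¹ * g) x
    have hc : c ≫ ψ = x ≫ Δ := by
      simp only [c, ψ, Δ, GIT.psi]
      apply hom_ext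
      · simpa using hh
      · simp
    have hcl : c.left = x.left ≫ (lift (toUnit X ≫ η[G]) (𝟙 X)).left := by
      let l := Limits.pullback.lift (f := ψ.left) (g := Δ.left) c.left x.left
        (by rw [← Over.comp_left, hc, Over.comp_left])
      have : l = x.left ≫ σ := by
        rw [← cancel_mono p, Category.assoc, hσ, Category.comp_id, Limits.pullback.lift_snd]
      calc c.left = l ≫ Limits.pullback.fst _ _ := (Limits.pullback.lift_fst _ _ _).symm
        _ = _ := by rw [this, Category.assoc, Limits.pullback.lift_fst]
    have hc1 : c = x ≫ lift (toUnit X ≫ η[G]) (𝟙 X) := Over.OverMorphism.ext hcl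
    have h2 : g'⁻¹ * g = 1 := by
      have := congrArg (· ≫ fst G X) hc1
      simp only [c, lift_fst, Category.assoc, comp_toUnit_assoc] at this
      rw [this]; rfl
    apply hom_ext
    · exact (inv_mul_eq_one.1 h2).symm
    · exact hx⟩
  haveI : Mono ψ.left := inferInstance
  exact (IsClosedImmersion.iff_isProper_and_mono ψ.left).2 ⟨hp, inferInstance⟩

end Groth.Agent.S18503
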