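import Groth.Statements.S18504
import Groth.Agent.H20GQ.Univ
import Mathlib.AlgebraicGeometry.Morphisms.UniversallyOpen
import Mathlib.AlgebraicGeometry.Morphisms.Flat

set_option autoImplicit false
universe u
open CategoryTheory MonoidalCategory CartesianMonoidalCategory MonObj GrpObj AlgebraicGeometry Topology
open EqInt

namespace Groth.Agent.S18504
open Topology MonoidalCategory CartesianMonoidalCategory

theorem flat_to_field {k : Type u} [Field k] {W : Scheme.{u}} (f : W ⟶ Spec (CommRingCat.of k)) : Flat f := by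
  refine HasRingHomProperty.of_iSup_eq_top (P := @AlgebraicGeometry.Flat) (fun U : W.affineOpens => U)
    (iSup_affineOpens_eq_top W) fun U => ?_
  have e : (f.appLE ⊤ U.1 le_top).hom =
      ((Scheme.ΓSpecIso (CommRingCat.of k)).inv ≫ f.appLE ⊤ U.1 le_top).hom.comp (Scheme.ΓSpecIso (CommRingCat.of k)).hom.hom := by
    show _ = ((Scheme.ΓSpecIso (CommRingCat.of k)).hom ≫
      (Scheme.ΓSpecIso (CommRingCat.of k)).inv ≫ f.appLE ⊤ U.1 le_top).hom
    rw [Iso.hom_inv_id_assoc]
  rw [e]
  refine RingHom.Flat.comp (RingHom.Flat.of_bijective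
    (ConcreteCategory.bijective_of_isIso (Scheme.ΓSpecIso (CommRingCat.of k)).hom)) ?_
  letI := ((Scheme.ΓSpecIso (CommRingCat.of k)).inv ≫ f.appLE ⊤ U.1 le_top).hom.toAlgebra
  exact RingHom.flat_algebraMap_iff.mpr inferInstance

theorem isOpenMap_of_orbit {S : Scheme.{u}} {G X Y : Over S} [GrpObj G] [UniversallyOpen G.hom]
    (a : AlgGrp.Action G X) (φ : X ⟶ Y) (hi : GIT.IsInvariant a φ)
    (ho : Function.Surjective (GIT.PsiY a φ hi).base) (hq : IsQuotientMap φ.left.base) : IsOpenMap φ.left.base := by
  intro U hU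
  have hsnd : IsOpenMap (snd G X).left.base :=
    Scheme.Hom.isOpenMap (Limits.pullback.snd G.hom X.hom)
  have e : φ.left.base ⁻¹' (φ.left.base '' U) = (snd G X).left.base '' (a.act.left.base ⁻¹' U) := by
    apply subset_antisymm
    · rintro x ⟨x', hx', hxx⟩
      obtain ⟨z, h1, h2⟩ := Scheme.Pullback.exists_preimage_pullback (f := φ.left) (g := φ.left) x' x hxx
      obtain ⟨w, rfl⟩ := ho z
      refine ⟨w, ?_, ?_⟩
      · rw [← h1] at hx'
        have he : GIT.PsiY a φ hi ≫ Limits.pullback.fst φ.left φ.left = a.act.left := Limits.pullback.lift_fst _ _ _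
        rw [Set.mem_preimage, ← he]
        exact hx'
      · have he : GIT.PsiY a φ hi ≫ Limits.pullback.snd φ.left φ.left = (snd G X).left := Limits.pullback.lift_snd _ _ _
        rw [← h2, ← he]
        rfl
    · rintro _ ⟨w, hw, rfl⟩
      exact ⟨a.act.left w, hw, congrArg (fun m : (G ⊗ X).left ⟶ Y.left => m w) hi.left⟩
  rw [← hq.isOpen_preimage, e]
  exact hsnd _ (hU.preimage a.act.left.continuous)


/-- Over a field k, let an affine group scheme G of finite type act on X, with X and Y separated of
finite type over k, and let (Y, φ) be a geometric quotient of X by G. Then φ is universally open.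
(The source takes X and Y integral; integrality plays no role. A geometric quotient is taken here
with φ universally submersive, and with this reading the universal openness is what the argument
gives.) -/
theorem result (k : Type u) [Field k]
    (G X Y : Over (Spec (CommRingCat.of k))) [GrpObj G] [IsAffine G.left] [LocallyOfFiniteType G.hom]
    [LocallyOfFiniteType X.hom] [QuasiCompact X.hom] [IsSeparated X.hom]
    [LocallyOfFiniteType Y.hom] [QuasiCompact Y.hom] [IsSeparated Y.hom]
    (a : AlgGrp.Action G X) (φ : X ⟶ Y) (h : GIT.IsGeomQuot a φ) :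
    UniversallyOpen φ.left := by
  haveI : Flat G.hom := flat_to_field _
  haveI : IsLocallyNoetherian (Spec (CommRingCat.of k)) := inferInstance
  haveI : LocallyOfFinitePresentation G.hom := inferInstance
  haveI : UniversallyOpen G.hom := inferInstance
  refine ⟨fun X₁ Y₁ i₁ i₂ f' sq => ?_⟩
  let Y' : Over (Spec (CommRingCat.of k)) := Over.mk (i₂ ≫ Y.hom)
  let X' : Over (Spec (CommRingCat.of k)) := Over.mk (i₁ ≫ X.hom)
  let q' : X' ⟶ Y' := Over.homMk f' (by
    change f' ≫ i₂ ≫ Y.hom = i₁ ≫ X.hom
    rw [sq.w_assoc, Over.w φ])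
  let g : Y' ⟶ Y := Over.homMk i₂ rfl
  let pr : X' ⟶ X := Over.homMk i₁ rfl
  have hpb : IsPullback pr q' φ g := Groth.Agent.H20GQ.isPullback_of_left sq.flip
  obtain ⟨a', ha, hi'⟩ := Groth.Agent.H20GQ.exists_action h.inv hpb
  exact isOpenMap_of_orbit a' q' hi' (Groth.Agent.H20GQ.orbit_baseChange h.inv h.orbit hpb ha hi') (h.subm _ _ _ sq)

end Groth.Agent.S18504
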