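import Groth.Statements.S18505
import Groth.Agent.H20GQ.Univ
import Groth.Agent.H7Lim.NormalizationNormal
import Mathlib.RingTheory.Flat.TorsionFree
import Mathlib.AlgebraicGeometry.Morphisms.UniversallyOpen

set_option autoImplicit false
universe u
open CategoryTheory MonoidalCategory CartesianMonoidalCategory MonObj GrpObj AlgebraicGeometry Topology
open EqInt

namespace Groth.Agent.S18505
open Topology MonoidalCategory CartesianMonoidalCategory

theorem flat_to_field {k : Type u} [Field k] {W : Scheme.{u}} (f : W ⟶ Spec (CommRingCat.of k)) : Flat f := by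
  refine HasRingHomProperty.of_iSup_eq_top (P := @AlgebraicGeometry.Flat) (fun U : W.affineOpens => U)
    (iSup_affineOpens_eq_top W) fun U => ?_
  have e : (f.appLE ⊤ U.1 le_top).hom =
      ((Scheme.ΓSpecIso (CommRingCat.of k)).inv ≫ f.appLE ⊤ U.1 le_top).hom.comp (Scheme.ΓSpecIso (CommRingCat.of k)).hom.hom := by
    show _ = ((Scheme.ΓSpecIso (CommRingCat.of k)).hom ≫
      (Scheme.ΓSpecIso (CommRingCat.of k)).inv ≫ f.appLE ⊤ U.1 le_top).hom
    rw [Iso.hom_inv_id_assoc]
  rw [e]
  refine RingHom.Flat.comp (RingHom.Flat.of_bijective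
    (ConcreteCategory.bijective_of_isIso (Scheme.ΓSpecIso (CommRingCat.of k)).hom)) ?_
  letI := ((Scheme.ΓSpecIso (CommRingCat.of k)).inv ≫ f.appLE ⊤ U.1 le_top).hom.toAlgebra
  exact RingHom.flat_algebraMap_iff.mpr inferInstance

/-- the pullback of a nonzero function along a flat morphism to an integral scheme is regular -/
theorem mul_eq_zero_of_flat {P X : Scheme.{u}} [IsIntegral X] (p : P ⟶ X) [Flat p] {O : X.Opens} {W : P.Opens}
    (hW : W ≤ p ⁻¹ᵁ O) {b : Γ(X, O)} (hb : b ≠ 0) {d : Γ(P, W)} (hd : p.appLE O W hW b * d = 0) : d = 0 := by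
  have hloc : ∀ w : W, ∃ (V : P.Opens) (O' : X.Opens) (_ : V ≤ W) (_ : O' ≤ O) (_ : V ≤ p ⁻¹ᵁ O'),
      IsAffineOpen V ∧ IsAffineOpen O' ∧ w.1 ∈ V := by
    intro w
    obtain ⟨O', hO', hwO, hO'O⟩ := exists_isAffineOpen_mem_and_subset (U := O) (x := p w.1) (hW w.2)
    obtain ⟨V, hV, hwV, hVs⟩ := exists_isAffineOpen_mem_and_subset (U := W ⊓ p ⁻¹ᵁ O') (x := w.1) ⟨w.2, hwO⟩
    exact ⟨V, O', fun x hx => (hVs hx).1, hO'O, fun x hx => (hVs hx).2, hV, hO', hwV⟩
  choose V O' hVW hOO hVO hV hO hwV using hloc
  refine TopCat.Sheaf.eq_of_locally_eq' P.sheaf V W (fun w => homOfLE (hVW w))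
    (fun x hx => TopologicalSpace.Opens.mem_iSup.2 ⟨⟨x, hx⟩, hwV _⟩) d 0 fun w => ?_
  rw [map_zero]
  change P.presheaf.map (homOfLE (hVW w)).op d = 0
  let b' := X.presheaf.map (homOfLE (hOO w)).op b
  have hne : Nonempty (O' w : X.Opens) := ⟨⟨p w.1, hVO w (hwV w)⟩⟩
  have hη : genericPoint X ∈ O' w :=
    (genericPoint_spec X).specializes trivial |>.mem_open (O' w).2 (hVO w (hwV w))
  have hb' : b' ≠ 0 := by
    intro h0
    apply hb
    apply germ_injective_of_isIntegral X (genericPoint X) (hOO w hη)
    rw [← TopCat.Presheaf.germ_res_apply X.presheaf (homOfLE (hOO w)) (genericPoint X) hη b]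
    change X.presheaf.germ _ _ hη b' = _
    rw [h0, map_zero, map_zero]
  letI := (p.appLE (O' w) (V w) (hVO w)).hom.toAlgebra
  haveI : Module.Flat Γ(X, O' w) Γ(P, V w) := p.flat_appLE (hO w) (hV w) (hVO w)
  have hreg : IsSMulRegular Γ(P, V w) b' := Module.Flat.isSMulRegular_of_isRegular (IsRegular.of_ne_zero hb')
  apply hreg
  simp only [smul_zero]
  rw [Algebra.smul_def]
  change p.appLE (O' w) (V w) (hVO w) b' * P.presheaf.map (homOfLE (hVW w)).op d = 0
  have e : p.appLE (O' w) (V w) (hVO w) b' = P.presheaf.map (homOfLE (hVW w)).op (p.appLE O W hW b) := by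
    simp only [b']
    rw [← CommRingCat.comp_apply, ← CommRingCat.comp_apply, Scheme.Hom.map_appLE, Scheme.Hom.appLE_map]
  rw [e, ← map_mul, hd, map_zero]

theorem normal_of_geomQuot {S : Scheme.{u}} {G X Y : Over S} [GrpObj G] [Flat G.hom] [IsIntegral X.left]
    (hX : ∀ x : X.left, IsIntegrallyClosed (X.left.presheaf.stalk x)) (a : AlgGrp.Action G X) (φ : X ⟶ Y)
    (h : GIT.IsGeomQuot a φ) : Pi1.IsNormalScheme Y.left := by
  haveI hirr : IrreducibleSpace Y.left :=
    { isPreirreducible_univ := by
        rw [← h.surj.range_eq, ← Set.image_univ]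
        exact (IrreducibleSpace.isIrreducible_univ X.left).2.image _ φ.left.continuous.continuousOn
      toNonempty := Nonempty.map φ.left inferInstance }
  haveI : AlgebraicGeometry.IsReduced Y.left := ⟨fun U => isReduced_of_injective (φ.left.app U).hom (h.sections U).1⟩
  haveI : IsIntegral Y.left := isIntegral_of_irreducibleSpace_of_isReduced Y.left
  haveI : Flat (snd G X).left := inferInstanceAs (Flat (Limits.pullback.snd G.hom X.hom))
  intro y
  refine ⟨inferInstance, ?_⟩
  obtain ⟨U, hU, hyU, -⟩ := exists_isAffineOpen_mem_and_subset (Set.mem_univ y) (U := (⊤ : Y.left.Opens))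
  let O := φ.left ⁻¹ᵁ U
  haveI hUne : Nonempty (U : Y.left.Opens) := ⟨⟨y, hyU⟩⟩
  obtain ⟨x₀, hx₀⟩ := h.surj y
  have hη : genericPoint X.left ∈ O :=
    (genericPoint_spec X.left).specializes trivial |>.mem_open O.2 (show φ.left x₀ ∈ U from hx₀ ▸ hyU)
  haveI : Nonempty (O : X.left.Opens) := ⟨⟨_, hη⟩⟩
  let σ : Γ(Y.left, U) →+* X.left.functionField := ((φ.left.app U) ≫ X.left.presheaf.germ O _ hη).hom
  have hσ : Function.Injective σ := (germ_injective_of_isIntegral X.left _ hη).comp (h.sections U).1
  haveI : IsIntegrallyClosed Γ(Y.left, U) := by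
    refine (isIntegrallyClosed_iff (FractionRing Γ(Y.left, U))).2 fun {z} hz => ?_
    let σ' : FractionRing Γ(Y.left, U) →+* X.left.functionField := IsFractionRing.lift hσ
    have hσ' : ∀ r, σ' (algebraMap _ _ r) = σ r := IsFractionRing.lift_algebraMap hσ
    obtain ⟨a', b, hb, hab⟩ := IsFractionRing.div_surjective Γ(Y.left, U) z
    have hzi : (X.left.presheaf.germ O _ hη).hom.IsIntegralElem (σ' z) := by
      obtain ⟨p, hp, hp0⟩ := hz
      refine ⟨p.map (φ.left.app U).hom, hp.map _, ?_⟩
      rw [Polynomial.eval₂_map]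
      have : (X.left.presheaf.germ O _ hη).hom.comp (φ.left.app U).hom = σ'.comp (algebraMap _ _) :=
        RingHom.ext fun r => (hσ' r).symm
      rw [this, ← Polynomial.hom_eval₂, hp0, map_zero]
    obtain ⟨s, hs⟩ := H7Lim.exists_germ_eq_of_isIntegralElem hX hη hzi
    have hb0 : b ≠ 0 := nonZeroDivisors.ne_zero hb
    have hsb : s * φ.left.app U b = φ.left.app U a' := by
      apply germ_injective_of_isIntegral X.left (genericPoint X.left) hη
      rw [map_mul, hs, ← hab, map_div₀, hσ', hσ']
      exact div_mul_cancel₀ _ ((map_ne_zero_iff σ hσ).2 hb0)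
    have hinv : GIT.IsInvSection a φ U s := by
      have hb' : GIT.IsInvSection a φ U (φ.left.app U b) := (h.sections U).2.le ⟨b, rfl⟩
      have ha' : GIT.IsInvSection a φ U (φ.left.app U a') := (h.sections U).2.le ⟨a', rfl⟩
      unfold GIT.IsInvSection at hb' ha' ⊢
      rw [← hsb, map_mul, map_mul, hb'] at ha'
      refine sub_eq_zero.1 (mul_eq_zero_of_flat (snd G X).left inf_le_right
        ((map_ne_zero_iff _ (h.sections U).1).2 hb0) ?_)
      rw [mul_sub, sub_eq_zero, mul_comm, ha', mul_comm]
    obtain ⟨t, rfl⟩ : s ∈ Set.range (φ.left.app U) := (h.sections U).2.ge hinv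
    refine ⟨t, ?_⟩
    rw [← hab, eq_div_iff (IsFractionRing.to_map_ne_zero_of_mem_nonZeroDivisors hb), ← map_mul]
    congr 1
    exact (h.sections U).1 (by rw [map_mul]; exact hsb)
  letI := TopCat.Presheaf.algebra_section_stalk Y.left.presheaf (⟨y, hyU⟩ : (U : Y.left.Opens))
  haveI := hU.isLocalization_stalk ⟨y, hyU⟩
  exact isIntegrallyClosed_of_isLocalization (R := Γ(Y.left, U)) (Y.left.presheaf.stalk y)
    (hU.primeIdealOf ⟨y, hyU⟩).asIdeal.primeCompl
    (Ideal.primeCompl_le_nonZeroDivisors _)


/-- Over an algebraically closed field k of characteristic zero, let an affine group scheme G of finite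
type act on a normal variety X (integral, separated, of finite type over k, with integrally closed
local rings) and let (Y, φ) be a geometric quotient of X by G with Y separated of finite type over
k. Then Y is normal. (The other two conditions of the published criterion are immediate from the
definition of a geometric quotient, and its converse rests on a result quoted there without proof;
only this implication is stated. A geometric quotient is taken here with φ universally submersive.) -/
theorem result (k : Type u) [Field k] [IsAlgClosed k] [CharZero k]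
    (G X Y : Over (Spec (CommRingCat.of k))) [GrpObj G] [IsAffine G.left] [LocallyOfFiniteType G.hom]
    [LocallyOfFiniteType X.hom] [QuasiCompact X.hom] [IsSeparated X.hom] [IsIntegral X.left]
    (hX : Pi1.IsNormalScheme X.left)
    [LocallyOfFiniteType Y.hom] [QuasiCompact Y.hom] [IsSeparated Y.hom]
    (a : AlgGrp.Action G X) (φ : X ⟶ Y) (h : GIT.IsGeomQuot a φ) :
    Pi1.IsNormalScheme Y.left := by
  haveI : Flat G.hom := flat_to_field _
  exact normal_of_geomQuot (fun x => (hX x).2) a φ h

end Groth.Agent.S18505
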