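import Groth.Statements.S18510
import Groth.Agent.H20GQ.Torsor
import Groth.Agent.H19Grp.Blanchard
import Groth.Agent.H18Torsor.Basic
import Mathlib.AlgebraicGeometry.Morphisms.LocalFlatDescent

set_option autoImplicit false
set_option maxHeartbeats 1000000
set_option synthInstance.maxHeartbeats 100000
set_option linter.style.haveILetI false
set_option backward.isDefEq.respectTransparency false
set_option maxHeartbeats 1000000
set_option synthInstance.maxHeartbeats 100000
set_option linter.style.haveILetI false
set_option backward.isDefEq.respectTransparency false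
set_option maxHeartbeats 1000000
set_option synthInstance.maxHeartbeats 100000
set_option linter.style.haveILetI false
set_option backward.isDefEq.respectTransparency false
set_option maxHeartbeats 1000000
set_option synthInstance.maxHeartbeats 100000
set_option linter.style.haveILetI false
set_option backward.isDefEq.respectTransparency false
set_option maxHeartbeats 1000000
set_option synthInstance.maxHeartbeats 100000
set_option linter.style.haveILetI false
set_option backward.isDefEq.respectTransparency false
universe u
open CategoryTheory MonoidalCategory CartesianMonoidalCategory MonObj GrpObj AlgebraicGeometry Topology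
open EqInt

namespace Groth.Agent.S18510

open Limits in
/-- A morphism of torsors lies over a cartesian square. -/
theorem isPullback_of_torsors {E X' E' Y' GE : Scheme.{u}} {act snd₁ : GE ⟶ E}
    {q : E ⟶ X'} {q' : E' ⟶ Y'} {g : X' ⟶ Y'} {f' : E ⟶ E'} (hX : IsPullback act snd₁ q q)
    (hbig : IsPullback (act ≫ f') snd₁ q' (q ≫ g)) (w : f' ≫ q' = q ≫ g)
    [Flat q] [Surjective q] [QuasiCompact q] : IsPullback f' q q' g := by
  let h : E ⟶ pullback q' g := pullback.lift f' q w
  have hj : IsPullback (act ≫ h) snd₁ (pullback.snd q' g) q := by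
    refine IsPullback.of_right (h₁₂ := pullback.fst q' g) ?_ ?_ (IsPullback.of_hasPullback q' g)
    · rw [Category.assoc, pullback.lift_fst]; exact hbig
    · rw [Category.assoc, pullback.lift_snd]; exact hX.w
  have hfl : IsPullback act (𝟙 GE) h (act ≫ h) := by
    refine IsPullback.of_bot (v₂₁ := snd₁) (v₂₂ := pullback.snd q' g) (h₃₁ := q) ?_ ?_ hj
    · rw [Category.id_comp, pullback.lift_snd]; exact hX
    · exact (Category.id_comp _).symm
  haveI : QuasiCompact (act ≫ h) := MorphismProperty.of_isPullback hj.flip inferInstance
  haveI : Flat (act ≫ h) := MorphismProperty.of_isPullback hj.flip inferInstance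
  haveI : Surjective (act ≫ h) := MorphismProperty.of_isPullback hj.flip inferInstance
  haveI : IsIso h := MorphismProperty.of_isPullback_of_descendsAlong
    (P := MorphismProperty.isomorphisms Scheme.{u})
    (Q := (@Surjective ⊓ @Flat ⊓ @QuasiCompact : MorphismProperty Scheme.{u}))
    hfl.flip ⟨⟨inferInstance, inferInstance⟩, inferInstance⟩ (inferInstanceAs (IsIso (𝟙 GE)))
  exact IsPullback.of_iso_pullback ⟨w⟩ (asIso h) (pullback.lift_fst _ _ _) (pullback.lift_snd _ _ _)


/-- Over a field k, let an affine group scheme G of finite type act on X, on Y and on U (quasi-separated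
schemes of finite type over k), let f : X → Y be G-equivariant, and let q_X : X × U → X_G and q_Y :
Y × U → Y_G be principal bundle quotients for the diagonal actions (each is invariant, flat and
surjective, and (σ, p₂) into the fibre square over the quotient is an isomorphism), X_G and Y_G
being quasi-separated of finite type over k. Let f_G : X_G → Y_G satisfy f_G ∘ q_X = q_Y ∘ (f ×
id_U) as maps X × U → Y_G. If f is proper, resp. flat, resp. smooth, then so is f_G. (Stated for
schemes; the source allows algebraic spaces and also treats regular embeddings and local complete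
intersection morphisms, which are not stated here.) -/
theorem result (k : Type u) [Field k]
    (G X Y U XG YG : Over (Spec (CommRingCat.of k))) [GrpObj G] [IsAffine G.left] [LocallyOfFiniteType G.hom]
    [LocallyOfFiniteType X.hom] [QuasiCompact X.hom] [QuasiSeparated X.hom]
    [LocallyOfFiniteType Y.hom] [QuasiCompact Y.hom] [QuasiSeparated Y.hom]
    [LocallyOfFiniteType U.hom] [QuasiCompact U.hom] [QuasiSeparated U.hom]
    [LocallyOfFiniteType XG.hom] [QuasiCompact XG.hom] [QuasiSeparated XG.hom]
    [LocallyOfFiniteType YG.hom] [QuasiCompact YG.hom] [QuasiSeparated YG.hom]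
    (a : AlgGrp.Action G X) (aY : AlgGrp.Action G Y) (b : AlgGrp.Action G U)
    (f : X ⟶ Y) (hf : AlgGrp.Action.IsEquivariant a aY f)
    (qX : X ⊗ U ⟶ XG) (hqX : GIT.IsInvariant (a.prod b) qX) [Flat qX.left] [Surjective qX.left]
    (hcX : IsIso (GIT.PsiY (a.prod b) qX hqX))
    (qY : Y ⊗ U ⟶ YG) (hqY : GIT.IsInvariant (aY.prod b) qY) [Flat qY.left] [Surjective qY.left]
    (hcY : IsIso (GIT.PsiY (aY.prod b) qY hqY))
    (fG : XG ⟶ YG) (hfG : qX ≫ fG = (f ▷ U) ≫ qY) :
    (IsProper f.left → IsProper fG.left) ∧ (Flat f.left → Flat fG.left) ∧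
      (Smooth f.left → Smooth fG.left) := by
  haveI : QuasiCompact (X ⊗ U).hom := inferInstanceAs (QuasiCompact (Limits.pullback.fst X.hom U.hom ≫ X.hom))
  haveI : QuasiCompact (Y ⊗ U).hom := inferInstanceAs (QuasiCompact (Limits.pullback.fst Y.hom U.hom ≫ Y.hom))
  haveI : QuasiCompact qX.left := by
    haveI : QuasiCompact (qX.left ≫ XG.hom) := by rw [Over.w qX]; infer_instance
    exact QuasiCompact.of_comp qX.left XG.hom
  haveI : QuasiCompact qY.left := by
    haveI : QuasiCompact (qY.left ≫ YG.hom) := by rw [Over.w qY]; infer_instance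
    exact QuasiCompact.of_comp qY.left YG.hom
  have sX := (Groth.Agent.H20GQ.isPullback_of_isIso_PsiY hqX hcX).map (Over.forget _)
  have sY := (Groth.Agent.H20GQ.isPullback_of_isIso_PsiY hqY hcY).map (Over.forget _)
  have heq : (a.prod b).act ≫ (f ▷ U) = (G ◁ (f ▷ U)) ≫ (aY.prod b).act := by
    apply CartesianMonoidalCategory.hom_ext
    · show (lift _ _ ≫ (f ▷ U)) ≫ fst Y U = ((G ◁ (f ▷ U)) ≫ lift _ _) ≫ fst Y U
      rw [Category.assoc, whiskerRight_fst, lift_fst_assoc, Category.assoc, Category.assoc, hf, lift_fst,
        ← MonoidalCategory.whiskerLeft_comp_assoc, ← MonoidalCategory.whiskerLeft_comp_assoc, whiskerRight_fst]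
    · show (lift _ _ ≫ (f ▷ U)) ≫ snd Y U = ((G ◁ (f ▷ U)) ≫ lift _ _) ≫ snd Y U
      rw [Category.assoc, whiskerRight_snd, lift_snd, Category.assoc, lift_snd,
        ← MonoidalCategory.whiskerLeft_comp_assoc, whiskerRight_snd]
  have hbig : IsPullback ((a.prod b).act.left ≫ (f ▷ U).left) (snd G (X ⊗ U)).left qY.left
      (qX.left ≫ fG.left) := by
    rw [← Over.comp_left, ← Over.comp_left, heq, hfG, Over.comp_left, Over.comp_left]
    exact (Groth.Agent.H19Grp.Blanchard.isPullback_whisker (f ▷ U) G).flip.paste_horiz sY
  have sq : IsPullback (f ▷ U).left qX.left qY.left fG.left :=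
    isPullback_of_torsors sX hbig (congrArg CommaMorphism.left hfG.symm)
  have sf : IsPullback (fst X U).left (f ▷ U).left f.left (fst Y U).left := by
    refine IsPullback.of_bot (v₂₁ := (snd Y U).left) (v₂₂ := Y.hom) (h₃₁ := U.hom) ?_ ?_
      (IsPullback.of_hasPullback Y.hom U.hom)
    · rw [← Over.comp_left, whiskerRight_snd, Over.w f]
      exact IsPullback.of_hasPullback X.hom U.hom
    · exact (congrArg CommaMorphism.left (whiskerRight_fst f U)).symm
  have hQ : (@Surjective ⊓ @Flat ⊓ @QuasiCompact : MorphismProperty Scheme.{u}) qY.left :=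
    ⟨⟨inferInstance, inferInstance⟩, inferInstance⟩
  refine ⟨fun h => ?_, fun h => ?_, fun h => ?_⟩
  · haveI : MorphismProperty.DescendsAlong @IsProper
        (@Surjective ⊓ @Flat ⊓ @QuasiCompact : MorphismProperty Scheme.{u}) :=
      Groth.Agent.H18Descent.isProper_descends_fpqc
    exact MorphismProperty.of_isPullback_of_descendsAlong (P := @IsProper) sq hQ
      (MorphismProperty.of_isPullback sf h)
  · haveI : MorphismProperty.DescendsAlong @Flat
        (@Surjective ⊓ @Flat ⊓ @QuasiCompact : MorphismProperty Scheme.{u}) :=
      H18Torsor.flat_descends_fpqc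
    exact MorphismProperty.of_isPullback_of_descendsAlong (P := @Flat) sq hQ
      (MorphismProperty.of_isPullback sf h)
  · exact MorphismProperty.of_isPullback_of_descendsAlong (P := @Smooth)
      (Q := (@Surjective ⊓ @Flat ⊓ @QuasiCompact : MorphismProperty Scheme.{u})) sq hQ
      (MorphismProperty.of_isPullback sf h)

end Groth.Agent.S18510
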