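import Groth.Statements.S18515
import Groth.Agent.H18ActBC.Basic
import Mathlib.AlgebraicGeometry.ValuativeCriterion

set_option autoImplicit false
open CategoryTheory CategoryTheory.Limits MonoidalCategory CartesianMonoidalCategory MonObj GrpObj AlgebraicGeometry
universe u
open NonAbH1

namespace Groth.Agent.S18515

/-- A class represented by a torsor over a complete variety is unramified at every discrete valuation
ring of the function field. The published lemma assumes G finite, k algebraically closed of
characteristic zero and K finitely generated over k; this row allows any field k, any field K and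
any affine k-group scheme of finite type: let k be a field, X a proper k-scheme, G an affine k-group
scheme of finite type and P a torsor over X, locally trivial for the etale topology, under the base
change of G. For every field K with a k-morphism e : Spec K ⟶ X (for instance the generic point of
an integral X) and every discrete valuation ring R with fraction field K containing k compatibly,
there is a torsor Q over Spec R under the base change of G whose restriction to Spec K is
equivariantly isomorphic to the pullback of P along e, both regarded as actions of the base change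
of G to Spec K through the canonical identifications of iterated base changes. -/
theorem result
    (k K R : Type u) [Field k] [Field K] [Algebra k K]
    [CommRing R] [IsDomain R] [IsDiscreteValuationRing R] [Algebra k R] [Algebra R K] [IsFractionRing R K]
    (hc : Spec.map (CommRingCat.ofHom (algebraMap R K)) ≫ Spec.map (CommRingCat.ofHom (algebraMap k R)) =
      Spec.map (CommRingCat.ofHom (algebraMap k K)))
    (X : Scheme.{u}) (x : X ⟶ Spec (CommRingCat.of k)) [IsProper x]
    (G : Over (Spec (CommRingCat.of k))) [GrpObj G] [IsAffine G.left] [LocallyOfFiniteType G.hom]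
    (P : NonAbH1.TorsorSch (Red.bc x G) Scheme.etalePrecoverage)
    (e : Spec (CommRingCat.of K) ⟶ X) (he : e ≫ x = Spec.map (CommRingCat.ofHom (algebraMap k K))) :
    ∃ Q : NonAbH1.TorsorSch (Red.bc (Spec.map (CommRingCat.ofHom (algebraMap k R))) G) Scheme.etalePrecoverage,
      Nonempty (NonAbH1.EquivIso
        ((Q.act.bc (Spec.map (CommRingCat.ofHom (algebraMap R K)))).restrict
          (ActBC.bcCompIso (Spec.map (CommRingCat.ofHom (algebraMap R K)))
            (Spec.map (CommRingCat.ofHom (algebraMap k R))) G hc).inv)
        ((P.act.bc e).restrict (ActBC.bcCompIso e x G he).inv)) := by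
  let j := Spec.map (CommRingCat.ofHom (algebraMap R K))
  let xR := Spec.map (CommRingCat.ofHom (algebraMap k R))
  let S : AlgebraicGeometry.ValuativeCommSq x :=
    { R := R
      K := K
      i₁ := e
      i₂ := xR
      commSq := ⟨he.trans hc.symm⟩ }
  have hex : (AlgebraicGeometry.ValuativeCriterion.Existence ⊓ @AlgebraicGeometry.QuasiCompact) x := by
    rw [← AlgebraicGeometry.UniversallyClosed.eq_valuativeCriterion]
    exact inferInstanceAs (UniversallyClosed x)
  obtain ⟨⟨e', h₁, h₂⟩⟩ := (hex.1 S).exists_lift
  change j ≫ e' = e at h₁
  change e' ≫ x = xR at h₂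
  refine ⟨Groth.Agent.H18ActBC.changeGroup e' x h₂ G (P.bc e'), ⟨?_⟩⟩
  -- the composite group homomorphism
  let α := (ActBC.bcCompIso e' x G h₂).inv
  let β := (ActBC.bcCompIso j xR G hc).inv
  let γ := (ActBC.bcCompIso j e' (Red.bc x G) h₁).hom
  let tgt := (ActBC.bcCompIso e x G he).inv
  have key : (β ≫ (Over.pullback j).map α) ≫ γ = tgt := by
    rw [Category.assoc, Iso.inv_comp_eq, Iso.eq_comp_inv]
    exact ((cancel_epi ((Over.pullback j).map (ActBC.bcCompIso e' x G h₂).hom)).1 (by
      rw [Groth.Agent.H18ActBC.bcCompIso_cocycle j e' x h₂ h₁ hc he G]
      simp only [α, γ, Category.assoc, ← Functor.map_comp_assoc, Iso.hom_inv_id,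
        CategoryTheory.Functor.map_id, Category.id_comp]))
  haveI : IsMonHom ((Over.pullback j).map α) := inferInstance
  haveI : IsMonHom (β ≫ (Over.pullback j).map α) := inferInstance
  have E := Groth.Agent.H18ActBC.restrictIso (β ≫ (Over.pullback j).map α)
    (ActBC.equivIsoBcComp j e' h₁ P.act)
  rw [Groth.Agent.H18ActBC.restrict_restrict (β ≫ (Over.pullback j).map α) γ tgt key] at E
  refine ⟨E.iso, ?_⟩
  have e2 : ((P.act.bc e').restrict α).bc j = ((P.act.bc e').bc j).restrict ((Over.pullback j).map α) :=
    AlgGrp.Action.bc_restrict ..
  have e3 : (((P.act.bc e').restrict α).bc j).restrict β =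
      ((P.act.bc e').bc j).restrict (β ≫ (Over.pullback j).map α) := by
    rw [e2]; exact Groth.Agent.H18ActBC.restrict_restrict β _ _ rfl _
  exact (congrArg (fun a => a.act ≫ E.iso.hom) e3).trans E.comm

end Groth.Agent.S18515
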