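import Groth.Statements.S18519
import Groth.Agent.H29CSA.Subfield
import Groth.Agent.H29CSA.Split
import Mathlib.FieldTheory.IntermediateField.Adjoin.Basic
import Mathlib.FieldTheory.IsAlgClosed.AlgebraicClosure

set_option autoImplicit false
universe u
open scoped TensorProduct
open Brauer

namespace Groth.Agent.S18519

section

variable {E F' L : Type u} [Field E] [Field F'] [Field L] [Algebra E F'] [Algebra E L] [Algebra F' L]
  [IsScalarTower E F' L] {D : Type u} [Ring D] [Algebra E D]

theorem splits_baseChange_iff : Curves.Splits F' (F' ⊗[E] D) L ↔ Curves.Splits E D L := by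
  let g : L ⊗[E] D →ₐ[L] L ⊗[F'] (F' ⊗[E] D) := Algebra.TensorProduct.lift (Algebra.ofId L _)
    ((Algebra.TensorProduct.includeRight.restrictScalars E).comp Algebra.TensorProduct.includeRight)
    (fun c x => Algebra.commutes c _)
  let c := TensorProduct.AlgebraTensorModule.cancelBaseChange E F' L L D
  have hg : g.toLinearMap = c.symm.toLinearMap := by
    refine TensorProduct.AlgebraTensorModule.ext fun l d => ?_
    show g (l ⊗ₜ[E] d) = c.symm (l ⊗ₜ[E] d)
    rw [show g (l ⊗ₜ[E] d) = algebraMap L (L ⊗[F'] (F' ⊗[E] D)) l * ((1 : L) ⊗ₜ[F'] ((1 : F') ⊗ₜ[E] d)) from rfl,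
      Algebra.TensorProduct.algebraMap_apply, Algebra.TensorProduct.tmul_mul_tmul, mul_one, one_mul,
      Algebra.algebraMap_self_apply]
    exact (TensorProduct.AlgebraTensorModule.cancelBaseChange_symm_tmul E F' L l d).symm
  have hbij : Function.Bijective g := by
    have h : Function.Bijective g.toLinearMap := by rw [hg]; exact c.symm.bijective
    exact h
  exact exists_congr fun n => and_congr_right fun _ =>
    ⟨fun ⟨e⟩ => ⟨(AlgEquiv.ofBijective g hbij).trans e⟩,
      fun ⟨e⟩ => ⟨(AlgEquiv.ofBijective g hbij).symm.trans e⟩⟩

end

theorem splits_of_all_trivial {E F' : Type u} [Field E] [Field F'] [Algebra E F'] (D : Type u) [DivisionRing D]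
    [Algebra E D] [Algebra.IsCentral E D] [FiniteDimensional E D]
    (h : ∀ (D' : Type u) [DivisionRing D'] [Algebra F' D'] [Algebra.IsCentral F' D'] [FiniteDimensional F' D'],
      Module.finrank F' D' = 1) : Curves.Splits E D F' := by
  classical
  have hL : Curves.Splits E D (AlgebraicClosure F') :=
    Groth.Agent.H29CSA.exists_splits_of_isAlgClosed D (AlgebraicClosure F')
  obtain ⟨hc, hs, hfd⟩ := Groth.Agent.H29CSA.csa_of_splits (k := F') (F' ⊗[E] D) (AlgebraicClosure F')
    (splits_baseChange_iff.mpr hL)
  obtain ⟨r, hr, D', _, _, hc', hf', ⟨e⟩⟩ := Groth.Agent.H29CSA.exists_divisionRing_matrix (k := F') (F' ⊗[E] D)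
  have hbij : Function.Bijective (Algebra.ofId F' D') := by
    refine ⟨(algebraMap F' D').injective, fun d => ?_⟩
    obtain ⟨c, hc⟩ := exists_smul_eq_of_finrank_eq_one (h D') (one_ne_zero (α := D')) d
    exact ⟨c, by rw [Algebra.ofId_apply, Algebra.algebraMap_eq_smul_one, hc]⟩
  let e' : F' ⊗[E] D ≃ₐ[F'] Matrix (Fin r) (Fin r) F' := e.trans (AlgEquiv.ofBijective (Algebra.ofId F' D') hbij).symm.mapMatrix
  exact ⟨r, hr.ne, ⟨e'⟩⟩


/-- For a field K with maximal abelian extension K_ab, cd(K_ab) ≤ 1 if and only if for every etale
K-algebra E the restriction map Br(E) ⟶ Br(E ⊗_K K_ab) is trivial; the same holds with the maximal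
solvable extension. Stated here for an arbitrary separable algebraic extension F of K in place of
K_ab (the published lemma takes for F the maximal abelian or the maximal solvable extension of K;
this row allows any separable algebraic extension), with cd(F) ≤ 1 unfolded by the Brauer-group
criterion (every finite separable extension of F has trivial Brauer group) and with etale algebras
replaced by their field factors: (a) every finite-dimensional central division algebra over a finite
separable extension F′ of F is F′ itself; if and only if (b) for every finite separable extension E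
of K, every finite-dimensional central division algebra D over E and every field M containing E and
F compatibly over K, the base change M ⊗_E D is isomorphic over M to a matrix algebra over M. -/
theorem result
    (K F : Type u) [Field K] [Field F] [Algebra K F] [Algebra.IsSeparable K F] :
    (∀ (F' : Type u) [Field F'] [Algebra F F'] [FiniteDimensional F F'] [Algebra.IsSeparable F F']
        (D : Type u) [DivisionRing D] [Algebra F' D] [Algebra.IsCentral F' D] [FiniteDimensional F' D],
        Module.finrank F' D = 1) ↔
    (∀ (E : Type u) [Field E] [Algebra K E] [FiniteDimensional K E] [Algebra.IsSeparable K E]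
        (D : Type u) [DivisionRing D] [Algebra E D] [Algebra.IsCentral E D] [FiniteDimensional E D]
        (M : Type u) [Field M] [Algebra K M] [Algebra E M] [Algebra F M] [IsScalarTower K E M]
        [IsScalarTower K F M],
        ∃ n : ℕ, Nonempty ((M ⊗[E] D) ≃ₐ[M] Matrix (Fin n) (Fin n) M)) := by
  classical
  constructor
  · intro ha E _ _ _ _ D _ _ _ _ M _ _ _ _ _ _
    let F' : IntermediateField F M := IntermediateField.adjoin F (Set.range (algebraMap E M))
    letI : Algebra E F' := ((algebraMap E M).codRestrict F'.toSubfield.toSubring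
      fun x => IntermediateField.subset_adjoin F _ ⟨x, rfl⟩).toAlgebra
    haveI : IsScalarTower E F' M := IsScalarTower.of_algebraMap_eq fun _ => rfl
    let b := Module.finBasis K E
    have hgen : F' = IntermediateField.adjoin F (Set.range fun i => algebraMap E M (b i)) := by
      refine le_antisymm ?_ (IntermediateField.adjoin.mono F _ _ (by rintro _ ⟨i, rfl⟩; exact ⟨b i, rfl⟩))
      rw [IntermediateField.adjoin_le_iff]
      rintro _ ⟨x, rfl⟩
      rw [← b.sum_repr x, map_sum]
      refine sum_mem fun i _ => ?_
      rw [Algebra.smul_def, map_mul, ← IsScalarTower.algebraMap_apply, IsScalarTower.algebraMap_apply K F M]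
      exact mul_mem (IntermediateField.algebraMap_mem _ _) (IntermediateField.subset_adjoin F _ ⟨i, rfl⟩)
    have hsepx : ∀ x : E, IsSeparable F (algebraMap E M x) := fun x => by
      have h : IsSeparable K (algebraMap E M x) := by
        exact (Algebra.IsSeparable.isSeparable K x).map (f := IsScalarTower.toAlgHom K E M)
          (IsScalarTower.toAlgHom K E M).injective
      exact h.tower_top F
    haveI : Algebra.IsSeparable F F' :=
      (IntermediateField.isSeparable_adjoin_iff_isSeparable (F := F) (E := M)).mpr (by rintro _ ⟨x, rfl⟩; exact hsepx x)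
    haveI : FiniteDimensional F F' := by
      rw [hgen]
      exact IntermediateField.finiteDimensional_adjoin (by rintro _ ⟨i, rfl⟩; exact (hsepx (b i)).isIntegral)
    have hsp : Curves.Splits E D F' := splits_of_all_trivial D fun D' => ha F' D'
    obtain ⟨n, -, hn⟩ := Groth.Agent.H29CSA.splits_mono (L := M) hsp
    exact ⟨n, hn⟩
  · intro hb F' _ _ _ _ D _ _ _ _
    letI : Algebra K F' := ((algebraMap F F').comp (algebraMap K F)).toAlgebra
    haveI : IsScalarTower K F F' := IsScalarTower.of_algebraMap_eq fun _ => rfl
    haveI : Algebra.IsSeparable K F' := Algebra.IsSeparable.trans K F F'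
    let b := Module.finBasis F' D
    let T : Finset F' := (Finset.univ.image fun t : Fin _ × Fin _ × Fin _ => b.repr (b t.1 * b t.2.1) t.2.2) ∪
      Finset.univ.image fun l => b.repr 1 l
    let E : IntermediateField K F' := IntermediateField.adjoin K (T : Set F')
    have hT : ∀ t ∈ T, t ∈ E := fun t ht => IntermediateField.subset_adjoin K _ ht
    have hmul' : ∀ i j l, b.repr (b i * b j) l ∈ E := fun i j l =>
      hT _ (Finset.mem_union_left _ (Finset.mem_image.mpr ⟨(i, j, l), Finset.mem_univ _, rfl⟩))
    have hone' : ∀ l, b.repr 1 l ∈ E := fun l =>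
      hT _ (Finset.mem_union_right _ (Finset.mem_image.mpr ⟨l, Finset.mem_univ _, rfl⟩))
    haveI : FiniteDimensional K E :=
      IntermediateField.finiteDimensional_adjoin fun x _ => (Algebra.IsSeparable.isSeparable K x).isIntegral
    haveI : Algebra.IsSeparable K E := Algebra.isSeparable_tower_bot_of_isSeparable K E F'
    let DE : Subalgebra E D :=
      { carrier := {x | ∀ l, b.repr x l ∈ E}
        add_mem' := fun {x y} hx hy l => by rw [map_add]; exact add_mem (hx l) (hy l)
        zero_mem' := fun l => by simp
        one_mem' := hone'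
        mul_mem' := fun {x y} hx hy l => by
          rw [← b.sum_repr x, ← b.sum_repr y, Finset.sum_mul_sum, map_sum, Finsupp.finsetSum_apply]
          refine sum_mem fun i _ => ?_
          rw [map_sum, Finsupp.finsetSum_apply]
          refine sum_mem fun j _ => ?_
          rw [smul_mul_smul_comm, map_smul, Finsupp.smul_apply, smul_eq_mul]
          exact mul_mem (mul_mem (hx i) (hy j)) (hmul' i j l)
        algebraMap_mem' := fun c l => by
          rw [IsScalarTower.algebraMap_apply E F' D, Algebra.algebraMap_eq_smul_one, map_smul, Finsupp.smul_apply,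
            smul_eq_mul]
          exact mul_mem c.2 (hone' l) }
    have hbmem : ∀ i, b i ∈ DE := fun i l => by
      rw [b.repr_self, Finsupp.single_apply]
      split
      · exact one_mem E
      · exact zero_mem E
    let φ : DE →ₗ[E] (Fin (Module.finrank F' D) → E) :=
      { toFun := fun x l => ⟨b.repr (x : D) l, x.2 l⟩
        map_add' := fun x y => by funext l; apply Subtype.ext; simp
        map_smul' := fun c x => by
          funext l
          apply Subtype.ext
          show b.repr (c • (x : D)) l = (c : F') * b.repr (x : D) l
          rw [← algebraMap_smul F' c (x : D), map_smul]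
          rfl }
    have hφ : Function.Bijective φ := by
      constructor
      · intro x y hxy
        exact Subtype.ext (b.repr.injective (Finsupp.ext fun l => congrArg Subtype.val (congrFun hxy l)))
      · intro c
        refine ⟨⟨∑ i, (c i : F') • b i, fun l => by rw [b.repr_sum_self]; exact (c l).2⟩, ?_⟩
        funext l
        exact Subtype.ext (congrFun (b.repr_sum_self fun i => (c i : F')) l)
    let eφ := LinearEquiv.ofBijective φ hφ
    haveI : FiniteDimensional E DE := LinearEquiv.finiteDimensional eφ.symm
    haveI : IsDomain DE := Subalgebra.isDomain DE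
    letI : DivisionRing DE := divisionRingOfFiniteDimensional E DE
    haveI : Algebra.IsCentral E DE := ⟨fun z hz => by
      have hzD : (z : D) ∈ Subalgebra.center F' D := Subalgebra.mem_center_iff.mpr fun y => by
        rw [← b.sum_repr y, Finset.sum_mul, Finset.mul_sum]
        refine Finset.sum_congr rfl fun i _ => ?_
        have := congrArg (Subtype.val : DE → D) (Subalgebra.mem_center_iff.mp hz ⟨b i, hbmem i⟩)
        rw [smul_mul_assoc, mul_smul_comm]
        exact congrArg _ this
      rw [Algebra.IsCentral.center_eq_bot, Algebra.mem_bot] at hzD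
      obtain ⟨f, hf⟩ := hzD
      obtain ⟨l, hl⟩ : ∃ l, b.repr 1 l ≠ 0 := by
        by_contra! h
        exact one_ne_zero (b.repr.injective (Finsupp.ext fun l => by rw [h l, map_zero]; rfl) : (1 : D) = 0)
      have h2 : b.repr (z : D) l = f * b.repr 1 l := by
        rw [← hf, Algebra.algebraMap_eq_smul_one, map_smul, Finsupp.smul_apply, smul_eq_mul]
      have hfE : f ∈ E := by
        have : f = b.repr (z : D) l * (b.repr 1 l)⁻¹ := by rw [h2, mul_assoc, mul_inv_cancel₀ hl, mul_one]
        rw [this]
        exact mul_mem (z.2 l) (inv_mem (hone' l))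
      exact Algebra.mem_bot.mpr ⟨⟨f, hfE⟩, Subtype.ext (by rw [← hf]; rfl)⟩⟩
    obtain ⟨n, ⟨e⟩⟩ := hb E DE F'
    let ψ : F' ⊗[E] DE →ₐ[F'] D :=
      Algebra.TensorProduct.lift (Algebra.ofId F' D) DE.val (fun c x => Algebra.commutes c _)
    have hψ : Function.Surjective ψ := fun y => by
      refine ⟨∑ i, b.repr y i ⊗ₜ[E] (⟨b i, hbmem i⟩ : DE), ?_⟩
      rw [map_sum]
      conv_rhs => rw [← b.sum_repr y]
      refine Finset.sum_congr rfl fun i _ => ?_
      exact (Algebra.smul_def (b.repr y i) (b i)).symm
    haveI : Module.Free E DE := Module.Free.of_divisionRing E DE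
    have hdim : Module.finrank F' D = n ^ 2 := by
      have h := e.toLinearEquiv.finrank_eq
      rw [Module.finrank_baseChange, Module.finrank_matrix, Fintype.card_fin, Module.finrank_self, mul_one,
        eφ.finrank_eq, Module.finrank_fin_fun] at h
      rw [h, pow_two]
    haveI : FiniteDimensional F' (F' ⊗[E] DE) := Module.Finite.equiv e.toLinearEquiv.symm
    have hψi : Function.Injective ψ :=
      (LinearMap.injective_iff_surjective_of_finrank_eq_finrank (by
        rw [e.toLinearEquiv.finrank_eq, hdim, Module.finrank_matrix, Fintype.card_fin, Module.finrank_self, mul_one,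
          pow_two]) (f := ψ.toLinearMap)).mpr hψ
    let eD : D ≃ₐ[F'] Matrix (Fin n) (Fin n) F' := (AlgEquiv.ofBijective ψ ⟨hψi, hψ⟩).symm.trans e
    rw [hdim]
    rcases Nat.lt_or_ge n 2 with hn | hn
    · have : 0 < Module.finrank F' D := Module.finrank_pos
      rw [hdim] at this
      obtain rfl : n = 1 := by
        rcases Nat.eq_zero_or_pos n with rfl | h
        · simp at this
        · omega
      rfl
    · exfalso
      let i0 : Fin n := ⟨0, by omega⟩
      let i1 : Fin n := ⟨1, by omega⟩
      let x := eD.symm (Matrix.single i0 i1 (1 : F'))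
      have hx : x ≠ 0 := fun h => by
        have := congrFun (congrFun (congrArg eD h) i0) i1
        simp [x] at this
      have hxx : x * x = 0 := by
        have h01 : i1 ≠ i0 := fun h => by simp [i0, i1] at h
        rw [← map_mul, Matrix.single_mul_single_of_ne (h := h01), map_zero]
      exact hx ((mul_eq_zero.mp hxx).elim id id)
end Groth.Agent.S18519
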