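import Groth.Statements.S1852
import Groth.Agent.H22Alg.FiniteLength
import Mathlib

set_option autoImplicit false
universe u
open CycAlg

namespace Groth.Agent.S1852

section aux

variable {R : Type u} [CommRing R] (q : Ideal R) [q.IsPrime] {M : Type u} [AddCommGroup M] [Module R M]

noncomputable def len (N : Type u) [AddCommGroup N] [Module R N] : ℕ∞ :=
  Module.length (Localization.AtPrime q) (LocalizedModule q.primeCompl N)

theorem len_exact {A B C : Type u} [AddCommGroup A] [Module R A] [AddCommGroup B] [Module R B]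
    [AddCommGroup C] [Module R C] (a : A →ₗ[R] B) (b : B →ₗ[R] C) (ha : Function.Injective a)
    (hb : Function.Surjective b) (hex : Function.Exact a b) : len q B = len q A + len q C :=
  Module.length_eq_add_of_exact (LocalizedModule.map q.primeCompl a) (LocalizedModule.map q.primeCompl b)
      (LocalizedModule.map_injective _ a ha) (LocalizedModule.map_surjective _ b hb)
      (LocalizedModule.map_exact _ a b hex)

theorem len_congr {A B : Type u} [AddCommGroup A] [Module R A] [AddCommGroup B] [Module R B]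
    (e : A ≃ₗ[R] B) : len q A = len q B :=
  (LinearEquiv.ofBijective (LocalizedModule.map q.primeCompl e.toLinearMap)
    ⟨LocalizedModule.map_injective _ _ e.injective, LocalizedModule.map_surjective _ _ e.surjective⟩).length_eq

theorem len_quot : len q (R ⧸ q) = 1 := by
  let Rm := Localization.AtPrime q
  let x : LocalizedModule q.primeCompl (R ⧸ q) := LocalizedModule.mk (1 : R ⧸ q) 1
  have hsurj : Function.Surjective (LinearMap.toSpanSingleton Rm _ x) := by
    intro z
    induction z using LocalizedModule.induction_on with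
    | h m s =>
      obtain ⟨r, rfl⟩ := Ideal.Quotient.mk_surjective m
      refine ⟨IsLocalization.mk' Rm r s, ?_⟩
      show IsLocalization.mk' Rm r s • LocalizedModule.mk (1 : R ⧸ q) (1 : q.primeCompl) = _
      rw [← Localization.mk_eq_mk', LocalizedModule.mk_smul_mk, mul_one, show r • (1 : R ⧸ q) = Ideal.Quotient.mk q r from (Algebra.smul_def r (1 : R ⧸ q)).trans (mul_one _)]
  have hker : LinearMap.ker (LinearMap.toSpanSingleton Rm _ x) = IsLocalRing.maximalIdeal Rm := by
    have hne : LinearMap.ker (LinearMap.toSpanSingleton Rm _ x) ≠ ⊤ := by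
      intro h
      have h1 : x = 0 := by
        have : (1 : Rm) • x = 0 := (Submodule.eq_top_iff'.mp h 1 : _)
        simpa using this
      obtain ⟨⟨s, hs⟩, h2⟩ := LocalizedModule.mk_eq.mp (h1.trans (LocalizedModule.zero_mk 1).symm)
      simp only [one_smul, smul_zero, Submonoid.smul_def] at h2
      refine hs (Ideal.Quotient.eq_zero_iff_mem.mp ?_)
      rw [← h2]
      exact (mul_one _).symm.trans (Algebra.smul_def s (1 : R ⧸ q)).symm
    refine le_antisymm (IsLocalRing.le_maximalIdeal hne) ?_
    intro z hz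
    obtain ⟨r, s, rfl⟩ := IsLocalization.exists_mk'_eq q.primeCompl z
    rw [IsLocalization.AtPrime.mk'_mem_maximal_iff _ q] at hz
    show IsLocalization.mk' Rm r s • LocalizedModule.mk (1 : R ⧸ q) (1 : q.primeCompl) = 0
    rw [← Localization.mk_eq_mk', LocalizedModule.mk_smul_mk, show r • (1 : R ⧸ q) = 0 from
      (Algebra.smul_def r (1 : R ⧸ q)).trans ((mul_one _).trans (Ideal.Quotient.eq_zero_iff_mem.mpr hz)),
      LocalizedModule.zero_mk]
  haveI : IsSimpleModule Rm (Rm ⧸ IsLocalRing.maximalIdeal Rm) :=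
    isSimpleModule_iff_isCoatom.mpr (Ideal.isMaximal_def.mp inferInstance)
  refine (((Submodule.quotEquivOfEq _ _ hker.symm).trans
    (LinearMap.quotKerEquivOfSurjective _ hsurj)).length_eq).symm.trans ?_
  exact Module.length_eq_one _ _

theorem len_step (N N' : Submodule R M) (hle : N ≤ N') (e : (↥N' ⧸ N.submoduleOf N') ≃ₗ[R] (R ⧸ q)) :
    len q N' = len q N + 1 := by
  rw [len_exact q (Submodule.inclusion hle) (N.submoduleOf N').mkQ (Submodule.inclusion_injective hle)
    (Submodule.mkQ_surjective _) ?_, len_congr q e, len_quot]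
  intro x
  show (N.submoduleOf N').mkQ x = 0 ↔ _
  rw [Submodule.mkQ_apply, Submodule.Quotient.mk_eq_zero]
  exact ⟨fun hx => ⟨⟨x.1, hx⟩, rfl⟩, fun ⟨y, hy⟩ => hy ▸ y.2⟩

theorem quot_equiv (N N' : Submodule R M) (a : M) (hN' : N' = N ⊔ Submodule.span R {a})
    (ha : ∀ r : R, r • a ∈ N ↔ r ∈ q) : Nonempty ((↥N' ⧸ N.submoduleOf N') ≃ₗ[R] (R ⧸ q)) := by
  subst hN'
  let a' : ↥(N ⊔ Submodule.span R {a}) := ⟨a, Submodule.mem_sup_right (Submodule.mem_span_singleton_self a)⟩
  let φ : R →ₗ[R] ↥(N ⊔ Submodule.span R {a}) ⧸ N.submoduleOf (N ⊔ Submodule.span R {a}) :=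
    LinearMap.toSpanSingleton R _ (Submodule.Quotient.mk a')
  have hs : Function.Surjective φ := by
    intro z
    obtain ⟨⟨z, hz⟩, rfl⟩ := Submodule.Quotient.mk_surjective _ z
    obtain ⟨n, hn, w, hw, rfl⟩ := Submodule.mem_sup.mp hz
    obtain ⟨r, rfl⟩ := Submodule.mem_span_singleton.mp hw
    refine ⟨r, (Submodule.Quotient.eq _).mpr ?_⟩
    show r • a - (n + r • a) ∈ N
    simpa using hn
  have hk : LinearMap.ker φ = q := by
    ext r
    rw [← ha r, LinearMap.mem_ker]
    exact Submodule.Quotient.mk_eq_zero _ (x := r • a')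
  exact ⟨((Submodule.quotEquivOfEq _ _ hk.symm).trans (φ.quotKerEquivOfSurjective hs)).symm⟩

theorem quot_congr {A B A' B' : Submodule R M} (h1 : A = A') (h2 : B = B')
    (h : Nonempty ((↥B ⧸ A.submoduleOf B) ≃ₗ[R] (R ⧸ q))) :
    Nonempty ((↥B' ⧸ A'.submoduleOf B') ≃ₗ[R] (R ⧸ q)) := by
  subst h1 h2
  exact h

end aux


/-- Let R be a Noetherian local ring, M a finite R-module and 𝔮 a minimal prime of the support of M.
There are x₁, …, x_l in M such that 𝔮 is not in the support of M/⟨x₁, …, x_l⟩ and each ⟨x₁, …,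
x_i⟩/⟨x₁, …, x_{i−1}⟩ is isomorphic to R/𝔮; and for any such sequence l equals the length of M_𝔮
over R_𝔮. -/
theorem result (R : Type u) [CommRing R] [IsNoetherianRing R] [IsLocalRing R] (M : Type u) [AddCommGroup M] [Module R M] [Module.Finite R M] (q : PrimeSpectrum R) (hq : Minimal (fun p : PrimeSpectrum R => p ∈ Module.support R M) q) : (∃ (l : ℕ) (x : Fin l → M), q ∉ Module.support R (M ⧸ Submodule.span R (Set.range x)) ∧ ∀ i : Fin l, Nonempty ((↥(CycDet.spanBefore R M x (i + 1)) ⧸ (CycDet.spanBefore R M x i).submoduleOf (CycDet.spanBefore R M x (i + 1))) ≃ₗ[R] (R ⧸ q.asIdeal))) ∧ ∀ (l : ℕ) (x : Fin l → M), q ∉ Module.support R (M ⧸ Submodule.span R (Set.range x)) → (∀ i : Fin l, Nonempty ((↥(CycDet.spanBefore R M x (i + 1)) ⧸ (CycDet.spanBefore R M x i).submoduleOf (CycDet.spanBefore R M x (i + 1))) ≃ₗ[R] (R ⧸ q.asIdeal))) → (l : ℕ∞) = Module.length (Localization.AtPrime q.asIdeal) (LocalizedModule q.asIdeal.primeCompl M) := by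
  classical
  set Λ := Module.length (Localization.AtPrime q.asIdeal) (LocalizedModule q.asIdeal.primeCompl M) with hΛ
  have hne : Λ ≠ ⊤ := H22Alg.length_localized_ne_top q fun p hp hpq => le_antisymm hpq (hq.2 hp hpq)
  let Good : (l : ℕ) → (Fin l → M) → Prop := fun l x => ∀ i : Fin l,
    Nonempty ((↥(CycDet.spanBefore R M x (i + 1)) ⧸ (CycDet.spanBefore R M x i).submoduleOf (CycDet.spanBefore R M x (i + 1))) ≃ₗ[R] (R ⧸ q.asIdeal))
  have hlen : ∀ (l : ℕ) (x : Fin l → M), Good l x →
      len q.asIdeal ↥(Submodule.span R (Set.range x)) = (l : ℕ∞) := by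
    intro l x hx
    have key : ∀ i, i ≤ l → len q.asIdeal ↥(CycDet.spanBefore R M x i) = (i : ℕ∞) := by
      intro i hi
      induction i with
      | zero =>
        have h0 : CycDet.spanBefore R M x 0 = ⊥ := by simp [CycDet.spanBefore]
        rw [len_congr q.asIdeal (LinearEquiv.ofEq _ _ h0), Nat.cast_zero]
        exact Module.length_eq_zero
      | succ i ih =>
        obtain ⟨e⟩ := hx ⟨i, hi⟩
        have hle : CycDet.spanBefore R M x i ≤ CycDet.spanBefore R M x (i + 1) :=
          Submodule.span_mono (Set.image_mono fun j (hj : (j : ℕ) < i) => Nat.lt_succ_of_lt hj)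
        rw [len_step q.asIdeal (CycDet.spanBefore R M x i) (CycDet.spanBefore R M x (i + 1)) hle e,
          ih (by omega), Nat.cast_succ]
    rw [← key l le_rfl]
    refine len_congr q.asIdeal (LinearEquiv.ofEq _ _ ?_)
    simp [CycDet.spanBefore]
  have hsub : ∀ N : Submodule R M, Λ = len q.asIdeal N + len q.asIdeal (M ⧸ N) := fun N =>
    len_exact q.asIdeal N.subtype N.mkQ N.subtype_injective (Submodule.mkQ_surjective N) (LinearMap.exact_subtype_mkQ N)
  refine ⟨?_, fun l x hx hgood => ?_⟩
  · have hbd : ∀ l x, Good l x → l ≤ Λ.toNat := fun l x h => by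
      have h1 : (l : ℕ∞) ≤ Λ := by rw [hsub (Submodule.span R (Set.range x)), hlen l x h]; exact le_self_add
      rw [← ENat.coe_toNat hne] at h1
      exact_mod_cast h1
    let P : ℕ → Prop := fun l => ∃ x : Fin l → M, Good l x
    have hP0 : P 0 := ⟨Fin.elim0, fun i => i.elim0⟩
    obtain ⟨l, hl⟩ : ∃ l, l = Nat.findGreatest P Λ.toNat := ⟨_, rfl⟩
    obtain ⟨x, hx⟩ : P l := by rw [hl]; exact Nat.findGreatest_spec (Nat.zero_le _) hP0
    refine ⟨l, x, fun hmem => ?_, hx⟩
    obtain ⟨N, hN⟩ : ∃ N, N = Submodule.span R (Set.range x) := ⟨_, rfl⟩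
    rw [← hN] at hmem
    have hsupp : ∀ p ∈ Module.support R (M ⧸ N), p ∈ Module.support R M := fun p hp =>
      Module.support_subset_of_surjective N.mkQ (Submodule.mkQ_surjective N) hp
    have hmin : q.asIdeal ∈ (Module.annihilator R (M ⧸ N)).minimalPrimes := by
      refine ⟨⟨q.isPrime, ?_⟩, fun J hJ hle => ?_⟩
      · rw [Module.support_eq_zeroLocus, PrimeSpectrum.mem_zeroLocus] at hmem
        exact fun z hz => hmem hz
      · refine hq.2 (hsupp ⟨J, hJ.1⟩ ?_) hle
        rw [Module.support_eq_zeroLocus, PrimeSpectrum.mem_zeroLocus]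
        exact hJ.2
    obtain ⟨-, z, hz⟩ := Submodule.isAssociatedPrime_iff.mp
      (Module.associatedPrimes.minimalPrimes_annihilator_subset_associatedPrimes R (M ⧸ N) hmin)
    obtain ⟨a, rfl⟩ := Submodule.Quotient.mk_surjective N z
    have ha : ∀ r : R, r • a ∈ N ↔ r ∈ q.asIdeal := by
      intro r
      rw [hz, Submodule.mem_colon_singleton, Submodule.mem_bot, ← Submodule.Quotient.mk_smul,
        Submodule.Quotient.mk_eq_zero]
    have hpre : ∀ i, i ≤ l → CycDet.spanBefore R M (Fin.snoc x a) i = CycDet.spanBefore R M x i := by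
      intro i hi
      refine congrArg _ (Set.ext fun m => ⟨?_, ?_⟩)
      · rintro ⟨j, hj, rfl⟩
        induction j using Fin.lastCases with
        | last => exact absurd hj (not_lt.mpr hi)
        | cast j => exact ⟨j, hj, by simp⟩
      · rintro ⟨j, hj, rfl⟩
        exact ⟨j.castSucc, hj, by simp⟩
    have hlast : CycDet.spanBefore R M (Fin.snoc x a) (l + 1) = N ⊔ Submodule.span R {a} := by
      rw [hN, ← Submodule.span_union, CycDet.spanBefore]
      congr 1
      rw [show {j : Fin (l + 1) | (j : ℕ) < l + 1} = Set.univ from Set.eq_univ_of_forall fun j => j.2,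
        Set.image_univ, Fin.range_snoc, Set.union_singleton]
    have hfull : CycDet.spanBefore R M x l = N := by simp [CycDet.spanBefore, hN]
    have hP : P (l + 1) := by
      refine ⟨Fin.snoc x a, fun i => ?_⟩
      induction i using Fin.lastCases with
      | last =>
        refine quot_equiv q.asIdeal _ _ a ?_ ?_
        · simp only [Fin.val_last]; rw [hlast, hpre l le_rfl, hfull]
        · simp only [Fin.val_last]; rw [hpre l le_rfl, hfull]; exact ha
      | cast i =>
        simp only [Fin.val_castSucc]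
        exact quot_congr q.asIdeal (hpre _ (by omega)).symm (hpre _ (by omega)).symm (hx i)
    obtain ⟨y, hy⟩ := hP
    have h2 : l + 1 ≤ Nat.findGreatest P Λ.toNat := Nat.le_findGreatest (hbd _ y hy) ⟨y, hy⟩
    rw [← hl] at h2
    omega
  · rw [hsub (Submodule.span R (Set.range x)), hlen l x hgood]
    haveI : Subsingleton (LocalizedModule q.asIdeal.primeCompl (M ⧸ Submodule.span R (Set.range x))) :=
      Module.notMem_support_iff.mp hx
    rw [show len q.asIdeal (M ⧸ Submodule.span R (Set.range x)) = 0 from Module.length_eq_zero, add_zero]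

end Groth.Agent.S1852
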