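import Groth.Statements.S18521
import Groth.Agent.H23Brauer.HilbertThirteen

set_option autoImplicit false
open CategoryTheory CategoryTheory.Limits MonoidalCategory CartesianMonoidalCategory MonObj GrpObj AlgebraicGeometry
universe u
open scoped TensorProduct
open Brauer

namespace Groth.Agent.S18521

/-- Let k be an algebraically closed field of characteristic zero and K a field extension of k. If the
strong form of the algebraic Hilbert 13th problem has an affirmative answer over K — for every
finite group S and every α ∈ H¹(K, S) there is an abelian extension L of K such that α_L has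
essential dimension at most 1, i.e. comes from H¹(L₀, S) for a subfield k ⊆ L₀ ⊆ L of transcendence
degree at most 1 over k — then the maximal abelian extension K_ab has cohomological dimension at
most 1. The published conclusion is that K_ab has cohomological dimension at most 1; this row states
the equivalent Brauer-group form, namely that for every etale K-algebra E the restriction Br(E) ⟶
Br(E ⊗_K K_ab) is trivial, unfolded without naming K_ab: for every finite separable extension E of K
and every finite-dimensional central division algebra D over E there is a Galois extension L of K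
with commutative Galois group such that M ⊗_E D is a matrix algebra over M for every field M
containing E and L compatibly over K. H¹(K, S) is rendered by torsor schemes over Spec K under
finite k-group schemes S (constant groups, k being algebraically closed), locally trivial for the
etale topology, and the hypothesis compares the base changes of α and of the torsor over L₀ to Spec
L as actions of the base change of S through the canonical identifications of iterated base changes. -/
theorem result
    (k K : Type u) [Field k] [IsAlgClosed k] [CharZero k] [Field K] [Algebra k K]
    (h13 : ∀ (S : Over (Spec (CommRingCat.of k))) [GrpObj S] [IsFinite S.hom]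
      (β : NonAbH1.TorsorSch (Red.bc (Spec.map (CommRingCat.ofHom (algebraMap k K))) S) Scheme.etalePrecoverage),
      ∃ (L : Type u) (_ : Field L) (_ : Algebra K L) (_ : IsGalois K L),
        (∀ σ τ : L ≃ₐ[K] L, σ * τ = τ * σ) ∧
        ∃ (L₀ : Type u) (_ : Field L₀) (_ : Algebra k L₀) (_ : Algebra L₀ L)
          (hc : Spec.map (CommRingCat.ofHom (algebraMap L₀ L)) ≫ Spec.map (CommRingCat.ofHom (algebraMap k L₀)) = Spec.map (CommRingCat.ofHom (algebraMap K L)) ≫ Spec.map (CommRingCat.ofHom (algebraMap k K)))
          (c₀ : NonAbH1.TorsorSch (Red.bc (Spec.map (CommRingCat.ofHom (algebraMap k L₀))) S) Scheme.etalePrecoverage),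
          Algebra.trdeg k L₀ ≤ 1 ∧
          Nonempty (NonAbH1.EquivIso
            ((c₀.act.bc (Spec.map (CommRingCat.ofHom (algebraMap L₀ L)))).restrict
              (ActBC.bcCompIso (Spec.map (CommRingCat.ofHom (algebraMap L₀ L))) (Spec.map (CommRingCat.ofHom (algebraMap k L₀))) S hc).inv)
            ((β.act.bc (Spec.map (CommRingCat.ofHom (algebraMap K L)))).restrict
              (ActBC.bcCompIso (Spec.map (CommRingCat.ofHom (algebraMap K L))) (Spec.map (CommRingCat.ofHom (algebraMap k K))) S rfl).inv)))
    (E : Type u) [Field E] [Algebra K E] [FiniteDimensional K E] [Algebra.IsSeparable K E]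
    (D : Type u) [DivisionRing D] [Algebra E D] [Algebra.IsCentral E D] [FiniteDimensional E D] :
    ∃ (L : Type u) (_ : Field L) (_ : Algebra K L) (_ : IsGalois K L),
      (∀ σ τ : L ≃ₐ[K] L, σ * τ = τ * σ) ∧
      ∀ (M : Type u) [Field M] [Algebra K M] [Algebra E M] [Algebra L M] [IsScalarTower K E M]
        [IsScalarTower K L M],
        ∃ n : ℕ, Nonempty ((M ⊗[E] D) ≃ₐ[M] Matrix (Fin n) (Fin n) M) := by
  exact Groth.Agent.H23Brauer.exists_splitting k K (fun L _ _ => ∀ σ τ : L ≃ₐ[K] L, σ * τ = τ * σ) h13 E D

end Groth.Agent.S18521
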