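import Groth.Statements.S18523
import Groth.Agent.H25Par.ParHom
import Groth.Agent.S7862

set_option autoImplicit false
universe u
open CategoryTheory CategoryTheory.Limits AlgebraicGeometry
open ParSh

namespace Groth.Agent.S18523

/-- Let k be an algebraically closed field of characteristic zero, X a smooth proper geometrically
connected curve over k (topological dimension one) of genus g ≥ 2, and I the ideal of a reduced
effective Cartier divisor on X. Let F be a finite locally free O_X-module of rank r with a parabolic
structure 𝓕 along I which is parabolic stable: for every finite locally free sub-module F₁ → F of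
rank r₁ with 0 < r₁ < r, the structure induced on F₁ has r·par-deg(F₁) < r₁·par-deg(F). Let 0 → F' →
F → F'' → 0 be a parabolic extension (a short exact sequence in which F' carries the structure
induced from 𝓕 as a sub-module and F'' the structure induced as a quotient) with F' and F'' finite
locally free. Then every parabolic homomorphism F'' → F' is zero. The published statement tests
stability on quotient bundles; on a smooth proper curve this singles out the same parabolic bundles
as the test on sub-modules used here. -/
theorem result (k : Type u) [Field k] [IsAlgClosed k] [CharZero k]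
    (X : Scheme.{u}) [X.Over (Spec (CommRingCat.of k))]
    [IsProper (X ↘ Spec (CommRingCat.of k))] [Smooth (X ↘ Spec (CommRingCat.of k))]
    [GeometricallyConnected (X ↘ Spec (CommRingCat.of k))] (hdim : topologicalKrullDim ↥X = 1)
    (g : ℕ) (hg : Curv2.genus k X = g) (hg2 : 2 ≤ g)
    (I : X.IdealSheafData) (hD : FGA.IsEffCartier I) [AlgebraicGeometry.IsReduced I.subscheme]
    {F F' F'' : X.Modules} (r : ℕ) (hF : FlatMod.IsFinLocFreeOfRank r F)
    (𝓕 : ParSh.Str F) (h𝓕 : 𝓕.Along I) (hst : ParSh.IsParStable k X 𝓕 r)
    (i : F' ⟶ F) (p : F ⟶ F'') [Epi p] (𝓕' : ParSh.Str F') (𝓕'' : ParSh.Str F'')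
    (hext : ParSh.IsParExt i p 𝓕' 𝓕 𝓕'') (hF' : FlatMod.IsFinLocFree F') (hF'' : FlatMod.IsFinLocFree F'')
    (φ : F'' ⟶ F') (hφ : ParSh.IsParHom 𝓕'' 𝓕' φ) : φ = 0 := by
  haveI : IsLocallyNoetherian X := LocallyOfFiniteType.isLocallyNoetherian (X ↘ Spec (CommRingCat.of k))
  haveI : CompactSpace X := QuasiCompact.compactSpace_of_compactSpace (X ↘ Spec (CommRingCat.of k))
  haveI : IsNoetherian X := ⟨⟩
  haveI : ConnectedSpace X := GeometricallyConnected.connectedSpace_of_subsingleton (X ↘ Spec (CommRingCat.of k))
  haveI : AlgebraicGeometry.IsIntegral X := Groth.Agent.S7862.isIntegral_of_connected X fun t => by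
    haveI := Groth.Agent.H19Grp.isRegularLocalRing_stalk_of_smooth (X ↘ Spec (CommRingCat.of k)) t
    exact Groth.Agent.H4Depth.isDomain_of_isRegularLocalRing _
  obtain ⟨w, hses, rfl, rfl⟩ := hext
  haveI : Mono i := hses.mono_f
  have hψ := Groth.Agent.H25Par.eq_zero_of_stable (k := k) (le_of_eq hdim) I hD hF 𝓕 h𝓕 hst (p ≫ φ ≫ i)
    (Groth.Agent.H25Par.isParHom_comp 𝓕 i p φ hφ) (by simp only [Category.assoc, reassoc_of% w, zero_comp, comp_zero])
  exact (cancel_mono i).1 (((cancel_epi p).1 (hψ.trans comp_zero.symm)).trans zero_comp.symm)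

end Groth.Agent.S18523
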