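import Groth.Statements.S18524
import Groth.Agent.H25Par.ParAdd

set_option autoImplicit false
universe u
open CategoryTheory CategoryTheory.Limits AlgebraicGeometry
open ParSh

namespace Groth.Agent.S18524

/-- Let X be a scheme proper over a field k with an ample invertible sheaf L, and 0 → F → E → G → 0 a
short exact sequence of coherent O_X-modules. Let 𝓔 be a finite weighted filtration of E by coherent
sub-modules E = E₀ ⊇ E₁ ⊇ ⋯ ⊇ E_l ⊇ B with B coherent and weights 0 ≤ w₀ < ⋯ < w_l < 1, and give F
the filtration pulled back along F → E and G the image filtration along E → G, so that the sequence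
is a parabolic extension. Then for every natural number m the parabolic Hilbert functions are
additive: par-χ(F, m) + par-χ(G, m) = par-χ(E, m), where par-χ(E, m) = χ(B ⊗ L^m) + Σ_j w_j (χ(E_j ⊗
L^m) − χ(E_{j+1} ⊗ L^m)) with E_{l+1} = B. The published statement is for parabolic sheaves along
effective Cartier divisors D on a projective scheme over an algebraically closed field, with B =
E(−D) and the functions averaged over several divisors; the identity holds for each weighted
filtration separately, over any field and for any coherent bottom piece. -/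
theorem result (k : Type u) [Field k] (X : Scheme.{u})
    [X.Over (Spec (CommRingCat.of k))] [IsProper (X ↘ Spec (CommRingCat.of k))]
    (L : X.Modules) (hL : CohB1.IsAmple L) {F E G : X.Modules}
    (hF : Coh.IsCoh F) (hE : Coh.IsCoh E) (hG : Coh.IsCoh G)
    (i : F ⟶ E) (p : E ⟶ G) [Epi p] (𝓕 : ParSh.Str F) (𝓔 : ParSh.Str E) (𝓖 : ParSh.Str G)
    (hext : ParSh.IsParExt i p 𝓕 𝓔 𝓖)
    (hcoh : ∀ j, Coh.IsCoh ((𝓔.piece j : Subobject E) : X.Modules))
    (hbot : Coh.IsCoh ((𝓔.bot : Subobject E) : X.Modules)) (m : ℕ) :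
    𝓕.parHilb k X L m + 𝓖.parHilb k X L m = 𝓔.parHilb k X L m := by
  obtain ⟨w, hses, rfl, rfl⟩ := hext
  haveI : IsLocallyNoetherian X := LocallyOfFiniteType.isLocallyNoetherian (X ↘ Spec (CommRingCat.of k))
  have hcX : ∀ j, Coh.IsCoh ((𝓔.pieceX j : Subobject E) : X.Modules) := fun j => by
    induction j using Fin.lastCases with
    | last => rw [ParSh.Str.pieceX_last]; exact hbot
    | cast j => rw [ParSh.Str.pieceX_castSucc]; exact hcoh j
  have key : ∀ j, (Curv2.euler k X (ShStab.twist X L (((𝓔.induced i).pieceX j : Subobject F) : X.Modules) m) : ℝ) +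
      (Curv2.euler k X (ShStab.twist X L (((𝓔.coinduced p).pieceX j : Subobject G) : X.Modules) m) : ℝ) =
      (Curv2.euler k X (ShStab.twist X L ((𝓔.pieceX j : Subobject E) : X.Modules) m) : ℝ) := by
    intro j
    erw [Groth.Agent.H25Euler.induced_pieceX, Groth.Agent.H25Euler.coinduced_pieceX]
    obtain ⟨T, hT, h1, h2, h3⟩ := Groth.Agent.H25Par.shortExact_piece hses (𝓔.pieceX j)
    have hA : Coh.IsCoh T.X₁ := by rw [h1]; exact Groth.Agent.H25Euler.isCoh_pullback_sub k hL hE hF _ (hcX j) i
    have hB : Coh.IsCoh T.X₂ := by rw [h2]; exact hcX j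
    haveI := hT.mono_f
    have hC : Coh.IsCoh T.X₃ :=
      Groth.Agent.H10Coh.isCoh_of_iso ((cokernelIsCokernel T.f).coconePointUniqueUpToIso hT.gIsCokernel)
        (Groth.Agent.H10Coh.isCoh_cokernel T.f hA.1 hB)
    have hadd := Groth.Agent.H25Euler.chi_add (k := k) hL.1 hT hA hB hC m
    simp only [Groth.Agent.H25Euler.chi] at hadd
    rw [h1, h2, h3] at hadd
    exact_mod_cast hadd.symm
  have hb := key (Fin.last _)
  have hp := fun j : Fin (𝓔.l + 1) => key j.castSucc
  simp only [ParSh.Str.parHilb, ParSh.Str.parSum]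
  erw [ParSh.Str.pieceX_last (𝓔.induced i), ParSh.Str.pieceX_last (𝓔.coinduced p), ParSh.Str.pieceX_last 𝓔] at hb
  have hp' : ∀ j : Fin (𝓔.l + 1),
      (Curv2.euler k X (ShStab.twist X L (((𝓔.induced i).piece j : Subobject F) : X.Modules) m) : ℝ) +
      (Curv2.euler k X (ShStab.twist X L (((𝓔.coinduced p).piece j : Subobject G) : X.Modules) m) : ℝ) =
      (Curv2.euler k X (ShStab.twist X L ((𝓔.piece j : Subobject E) : X.Modules) m) : ℝ) := fun j => by
    have := key j.castSucc
    erw [ParSh.Str.pieceX_castSucc (𝓔.induced i), ParSh.Str.pieceX_castSucc (𝓔.coinduced p),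
      ParSh.Str.pieceX_castSucc 𝓔] at this
    exact this
  rw [add_add_add_comm, hb]
  congr 1
  refine (Finset.sum_add_distrib (s := (Finset.univ : Finset (Fin (𝓔.l + 1))))).symm.trans ?_
  refine Finset.sum_congr rfl fun j _ => ?_
  show 𝓔.wt j * _ + 𝓔.wt j * _ = _
  rw [← hp' j, ← key j.succ]
  simp only [ParSh.Str.induced, ParSh.Str.coinduced]
  ring

end Groth.Agent.S18524
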