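import Groth.Statements.S18526
import Groth.Agent.H25Euler.Additive
import Groth.Agent.H11Ample.Twist
import Groth.Agent.H11Ample.Basic
import Groth.Agent.H16Derived.KFlat.SheafTensor
import Groth.Agent.H16Derived.KFlat.FinLocFree
import Groth.Agent.H28Pinch.DirectImageTrivial

set_option autoImplicit false
universe u
open CategoryTheory CategoryTheory.Limits AlgebraicGeometry Polynomial
open ParSh

namespace Groth.Agent.S18526

open CategoryTheory CategoryTheory.Limits AlgebraicGeometry Groth.Agent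

theorem tensorBi_flip_obj {X : Scheme.{u}} (F M : X.Modules) :
    ((DCoh.tensorBi (X := X)).flip.obj M).obj F = CohB1.tensorMod F M := rfl

theorem twist_def {X : Scheme.{u}} (L F : X.Modules) (m : ℕ) :
    ShStab.twist X L F m = CohB1.tensorMod F (CohB1.tensorPow L m) := rfl

theorem euler_map {k : Type u} [Field k] {X : Scheme.{u}} [X.Over (Spec (CommRingCat.of k))]
    [IsProper (X ↘ Spec (CommRingCat.of k))] (F : X.Modules ⥤ X.Modules) [F.PreservesZeroMorphisms]
    {S : ShortComplex X.Modules} (hS : (S.map F).ShortExact) (h₁ : Coh.IsCoh (F.obj S.X₁))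
    (h₂ : Coh.IsCoh (F.obj S.X₂)) (h₃ : Coh.IsCoh (F.obj S.X₃)) :
    Curv2.euler k X (F.obj S.X₂) = Curv2.euler k X (F.obj S.X₁) + Curv2.euler k X (F.obj S.X₃) :=
  H25Euler.euler_add (k := k) (X := X) (S := S.map F) hS h₁ h₂ h₃

theorem euler_twist_sub {k : Type u} [Field k] {X : Scheme.{u}} [X.Over (Spec (CommRingCat.of k))]
    [IsProper (X ↘ Spec (CommRingCat.of k))] {L : X.Modules} (hL : PicF.IsInvertible L) (m : ℕ)
    {S : ShortComplex X.Modules} (hS : S.ShortExact) (h₁ : Coh.IsCoh S.X₁) (h₂ : Coh.IsCoh S.X₂)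
    (h₃ : Coh.IsCoh S.X₃) :
    Curv2.euler k X (ShStab.twist X L S.X₂ m) =
      Curv2.euler k X (ShStab.twist X L S.X₁ m) + Curv2.euler k X (ShStab.twist X L S.X₃ m) := by
  have hP := H11Ample.isInvertible_tensorPow hL m
  have hflat : FlatMod.IsFlat (CohB1.tensorPow L m) :=
    H16Derived.KFlat.Stalk.isFlat_of_isFinLocFree (H28Pinch.isFinLocFree_of_isInvertible hP)
  have h := H16Derived.KFlat.Stalk.isFlatObj_of_isFlat hflat
  have h' := euler_map (k := k) ((DCoh.tensorBi (X := X)).flip.obj (CohB1.tensorPow L m)) (S := S)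
    ?_ ((tensorBi_flip_obj _ _).symm ▸ H11Ample.isCoh_tensor h₁ hP)
    ((tensorBi_flip_obj _ _).symm ▸ H11Ample.isCoh_tensor h₂ hP)
    ((tensorBi_flip_obj _ _).symm ▸ H11Ample.isCoh_tensor h₃ hP)
  · simpa only [tensorBi_flip_obj, ← twist_def] using h'
  · exact h S hS

/-- Let X be a scheme proper over a field k with an ample invertible sheaf L, and E a coherent
O_X-module with a finite weighted filtration 𝓔 by coherent sub-modules E = E₀ ⊇ E₁ ⊇ ⋯ ⊇ E_l ⊇
E_{l+1} = B, B coherent, with weights 0 ≤ w₀ < ⋯ < w_l < 1 and w_{l+1} := 1. Let P be the Hilbert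
polynomial of E with respect to L and, for 1 ≤ j ≤ l+1, H_j the Hilbert polynomial of the quotient
E/E_j. Then for every natural number m the parabolic Hilbert function χ(B(m)) + Σ_{j ≤ l} w_j
(χ(E_j(m)) − χ(E_{j+1}(m))) equals P(m) − Σ_{j=1}^{l+1} (w_j − w_{j−1}) H_j(m). The published
statement is for a parabolic sheaf along effective Cartier divisors on a projective scheme over an
algebraically closed field (B = E(−D)), averaged over several divisors; the identity holds for each
weighted filtration separately. -/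
theorem result (k : Type u) [Field k] (X : Scheme.{u})
    [X.Over (Spec (CommRingCat.of k))] [IsProper (X ↘ Spec (CommRingCat.of k))]
    (L : X.Modules) (hL : CohB1.IsAmple L) (E : X.Modules) (hE : Coh.IsCoh E) (𝓔 : ParSh.Str E)
    (hcoh : ∀ j, Coh.IsCoh ((𝓔.pieceX j : Subobject E) : X.Modules))
    (P : ℚ[X]) (hP : ShStab.IsHilbPoly k X L E P) (H : Fin (𝓔.l + 2) → ℚ[X])
    (hH : ∀ j, ShStab.IsHilbPoly k X L (cokernel (𝓔.pieceX j).arrow) (H j)) (m : ℕ) :
    𝓔.parHilb k X L m =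
      ((P.eval (m : ℚ) : ℚ) : ℝ) -
        ∑ j : Fin (𝓔.l + 1), (𝓔.wtX j.succ - 𝓔.wtX j.castSucc) * (((H j.succ).eval (m : ℚ) : ℚ) : ℝ) := by
  let χ : X.Modules → ℚ := fun G => (Curv2.euler k X (ShStab.twist X L G m) : ℚ)
  let h : Fin (𝓔.l + 2) → ℝ := fun i => (((H i).eval (m : ℚ) : ℚ) : ℝ)
  let p : ℝ := ((P.eval (m : ℚ) : ℚ) : ℝ)
  have hsub : ∀ i, (Curv2.euler k X (ShStab.twist X L ((𝓔.pieceX i : Subobject E) : X.Modules) m) : ℝ) =
      p - h i := fun i => by
    have hS : (ShortComplex.mk (𝓔.pieceX i).arrow (cokernel.π _) (cokernel.condition _)).ShortExact :=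
      { exact := ShortComplex.exact_cokernel _ }
    have h1 := congrArg (fun z : ℤ => ((z : ℚ) : ℝ)) (euler_twist_sub (k := k) hL.1 m hS (hcoh i) hE
      (H10Coh.isCoh_cokernel _ (hcoh i).1 hE))
    simp only [Int.cast_add, Rat.cast_add, hP m, hH i m] at h1
    rw [Rat.cast_intCast] at h1
    simp only [p, h]
    linarith
  have hzero : h 0 = 0 := by
    have h0 : 𝓔.pieceX 0 = ⊤ := (𝓔.pieceX_castSucc 0).trans 𝓔.piece_zero
    haveI : IsIso (𝓔.pieceX 0).arrow := by rw [h0]; infer_instance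
    have hS : (ShortComplex.mk (𝓔.pieceX 0).arrow (cokernel.π _) (cokernel.condition _)).ShortExact :=
      { exact := ShortComplex.exact_cokernel _ }
    have h2 := hsub 0
    have hP' : Coh.IsCoh E := hE
    have hE0 : (Curv2.euler k X (ShStab.twist X L ((𝓔.pieceX 0 : Subobject E) : X.Modules) m) : ℝ) = p := by
      have he : Curv2.euler k X (ShStab.twist X L ((𝓔.pieceX 0 : Subobject E) : X.Modules) m) =
          Curv2.euler k X (ShStab.twist X L E m) :=
        H25Euler.euler_congr (((DCoh.tensorBi (X := X)).flip.obj (CohB1.tensorPow L m)).mapIso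
          (asIso (𝓔.pieceX 0).arrow))
      rw [he]
      simp only [p, ← hP m, Rat.cast_intCast]
    linarith
  show (Curv2.euler k X (ShStab.twist X L (𝓔.bot : X.Modules) m) : ℝ) + ∑ j : Fin (𝓔.l + 1), 𝓔.wt j *
      ((Curv2.euler k X (ShStab.twist X L (𝓔.piece j : X.Modules) m) : ℝ) -
        (Curv2.euler k X (ShStab.twist X L (𝓔.pieceX j.succ : X.Modules) m) : ℝ)) =
      p - ∑ j : Fin (𝓔.l + 1), (𝓔.wtX j.succ - 𝓔.wtX j.castSucc) * h j.succ
  have hl : h (Fin.last (𝓔.l + 1)) + ∑ j : Fin (𝓔.l + 1), 𝓔.wt j * h j.castSucc =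
      ∑ j : Fin (𝓔.l + 1), 𝓔.wtX j.succ * h j.succ := by
    have e1 := Fin.sum_univ_succ (fun i => 𝓔.wtX i * h i)
    have e2 := Fin.sum_univ_castSucc (fun i => 𝓔.wtX i * h i)
    simp only [hzero, mul_zero, zero_add] at e1
    simp only [ParSh.Str.wtX_castSucc, ParSh.Str.wtX_last, one_mul] at e2
    linarith
  have hb : (Curv2.euler k X (ShStab.twist X L (𝓔.bot : X.Modules) m) : ℝ) =
      p - h (Fin.last (𝓔.l + 1)) := by
    rw [← hsub, ParSh.Str.pieceX_last]
  have hj : ∀ j : Fin (𝓔.l + 1), (Curv2.euler k X (ShStab.twist X L (𝓔.piece j : X.Modules) m) : ℝ) =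
      p - h j.castSucc := fun j => by
    rw [← hsub, ParSh.Str.pieceX_castSucc]
  simp only [hb, hsub, hj, ParSh.Str.wtX_castSucc]
  have e3 : ∀ j : Fin (𝓔.l + 1), 𝓔.wt j * ((p - h j.castSucc) - (p - h j.succ)) =
      𝓔.wt j * h j.succ - 𝓔.wt j * h j.castSucc := fun j => by ring
  simp only [e3, sub_mul, Finset.sum_sub_distrib]
  linarith

end Groth.Agent.S18526
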