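import Groth.Statements.S18528
import Groth.Agent.H25Euler.ParPoly

set_option autoImplicit false
universe u
open CategoryTheory CategoryTheory.Limits AlgebraicGeometry Polynomial
open ParSh

namespace Groth.Agent.S18528

/-- Reduced parabolic Hilbert polynomials versus parabolic slopes, for one test subsheaf. Let X be a
scheme proper over a field k with an ample invertible sheaf L, I the ideal of an effective Cartier
divisor D on X, and E a nonzero coherent O_X-module, pure of dimension d ≥ 1, with Supp E ∩ Supp D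
of topological Krull dimension less than d, carrying a finite weighted filtration 𝓔 along I by
coherent pieces E = E₀ ⊇ ⋯ ⊇ E_{l+1} = I·E with weights 0 ≤ w₀ < ⋯ < w_l < 1. Let P be the Hilbert
polynomial of E and P_j that of E_j. Let ι : W → E be a monomorphism from a coherent module W, give
W the induced filtration (pieces the preimages of the E_j, same weights) with Hilbert polynomials Q
of W and Q_j of its pieces, and write Par_E = P_{l+1} + Σ_j w_j (P_j − P_{j+1}), Par_W = Q_{l+1} +
Σ_j w_j (Q_j − Q_{j+1}), α_d for d! times the coefficient of degree d. Then: (i) if Par_W(m)·α_d(P)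
≤ Par_E(m)·α_d(Q) for all large natural numbers m, the coefficients of degree d − 1 satisfy
coeff(Par_W)·α_d(P) ≤ coeff(Par_E)·α_d(Q); (ii) if this coefficient inequality is strict, then
Par_W(m)·α_d(P) < Par_E(m)·α_d(Q) for all large m. With W running over the saturated nonzero proper
subsheaves this is the published implication: parabolic semistability for the reduced parabolic
Hilbert polynomial implies parabolic slope-semistability, and parabolic slope-stability implies
stability for the reduced parabolic Hilbert polynomial. -/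
theorem result (k : Type u) [Field k] (X : Scheme.{u})
    [X.Over (Spec (CommRingCat.of k))] [IsProper (X ↘ Spec (CommRingCat.of k))]
    (L : X.Modules) (hL : CohB1.IsAmple L) (I : X.IdealSheafData) (hD : FGA.IsEffCartier I)
    (E : X.Modules) (hE : Coh.IsCoh E) (h0 : ¬ IsZero E) (d : ℕ) (hd : 1 ≤ d)
    (hpure : ShStab.IsPure X E d) (𝓔 : ParSh.Str E) (h𝓔 : 𝓔.Along I)
    (hcoh : ∀ j, Coh.IsCoh ((𝓔.pieceX j : Subobject E) : X.Modules))
    (hsupp : topologicalKrullDim ↥(CohB1.support E ∩ (I.support : Set X)) < (d : WithBot ℕ∞))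
    (P : ℚ[X]) (hP : ShStab.IsHilbPoly k X L E P) (PX : Fin (𝓔.l + 2) → ℚ[X])
    (hPX : ∀ j, ShStab.IsHilbPoly k X L ((𝓔.pieceX j : Subobject E) : X.Modules) (PX j))
    {W : X.Modules} (ι : W ⟶ E) [Mono ι] (hW : Coh.IsCoh W)
    (Q : ℚ[X]) (hQ : ShStab.IsHilbPoly k X L W Q) (QX : Fin (𝓔.l + 2) → ℚ[X])
    (hQX : ∀ j, ShStab.IsHilbPoly k X L (((𝓔.induced ι).pieceX j : Subobject W) : X.Modules) (QX j)) :
    ((∃ M : ℕ, ∀ m : ℕ, M ≤ m →
        (W4swparbununimod.parPoly (𝓔.induced ι) QX).eval (m : ℝ) * (StabCat.alpha d P : ℝ) ≤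
          (W4swparbununimod.parPoly 𝓔 PX).eval (m : ℝ) * (StabCat.alpha d Q : ℝ)) →
      (W4swparbununimod.parPoly (𝓔.induced ι) QX).coeff (d - 1) * (StabCat.alpha d P : ℝ) ≤
        (W4swparbununimod.parPoly 𝓔 PX).coeff (d - 1) * (StabCat.alpha d Q : ℝ)) ∧
    ((W4swparbununimod.parPoly (𝓔.induced ι) QX).coeff (d - 1) * (StabCat.alpha d P : ℝ) <
        (W4swparbununimod.parPoly 𝓔 PX).coeff (d - 1) * (StabCat.alpha d Q : ℝ) →
      ∃ M : ℕ, ∀ m : ℕ, M ≤ m →
        (W4swparbununimod.parPoly (𝓔.induced ι) QX).eval (m : ℝ) * (StabCat.alpha d P : ℝ) <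
          (W4swparbununimod.parPoly 𝓔 PX).eval (m : ℝ) * (StabCat.alpha d Q : ℝ)) := by
  have hdim : topologicalKrullDim (CohB1.support E) = (d : WithBot ℕ∞) := hpure E (𝟙 E) inferInstance hE h0
  have hlt : topologicalKrullDim (CohB1.support E) < ((d + 1 : ℕ) : WithBot ℕ∞) := by
    rw [hdim]; exact_mod_cast Nat.lt_succ_self d
  obtain ⟨h0P, hdP, -⟩ := Groth.Agent.H25Euler.hilb_pieces (k := k) hL hE h𝓔 hcoh hsupp hP hPX
  obtain ⟨h0Q, hdQ, -⟩ := Groth.Agent.H25Euler.hilb_induced (k := k) hL hE h𝓔 hcoh hsupp ι hW hQ hQX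
  have hPc : ∀ n, d ≤ n → (W4swparbununimod.parPoly 𝓔 PX).coeff n = (P.coeff n : ℝ) := fun n hn => by
    rw [Groth.Agent.H25Euler.parPoly_coeff 𝓔 PX P h0P n]
    simp only [hdP _ n hn, Rat.cast_zero, mul_zero, Finset.sum_const_zero, sub_zero]
  have hQc : ∀ n, d ≤ n → (W4swparbununimod.parPoly (𝓔.induced ι) QX).coeff n = (Q.coeff n : ℝ) := fun n hn => by
    rw [Groth.Agent.H25Euler.parPoly_coeff (𝓔.induced ι) QX Q h0Q n]
    exact sub_eq_self.2 (Finset.sum_eq_zero fun j _ =>
      (mul_eq_zero_of_right _ ((congrArg (fun q : ℚ => (q : ℝ)) (hdQ _ n hn)).trans Rat.cast_zero)))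
  let D : ℝ[X] := W4swparbununimod.parPoly (𝓔.induced ι) QX * Polynomial.C (StabCat.alpha d P : ℝ) -
    W4swparbununimod.parPoly 𝓔 PX * Polynomial.C (StabCat.alpha d Q : ℝ)
  have hD : ∀ n, d - 1 < n → D.coeff n = 0 := by
    intro n hn
    simp only [D, Polynomial.coeff_sub, Polynomial.coeff_mul_C, hPc n (by omega), hQc n (by omega), StabCat.alpha]
    rcases eq_or_lt_of_le (show d ≤ n by omega) with h | h
    · subst h; push_cast; ring
    · rw [Groth.Agent.H25Euler.coeff_hilbPoly_eq_zero (k := k) hL hE hP hlt (show d + 1 ≤ n from h),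
        Groth.Agent.H25Euler.coeff_hilbPoly_eq_zero (k := k) hL hW hQ
          (lt_of_le_of_lt (Topology.IsInducing.topologicalKrullDim_le
            (f := Set.inclusion (Groth.Agent.H25Euler.support_subset_of_mono ι))
            (Topology.IsEmbedding.inclusion _).isInducing) hlt) (show d + 1 ≤ n from h)]
      simp
  have hev : ∀ x : ℝ, D.eval x = (W4swparbununimod.parPoly (𝓔.induced ι) QX).eval x * (StabCat.alpha d P : ℝ) -
      (W4swparbununimod.parPoly 𝓔 PX).eval x * (StabCat.alpha d Q : ℝ) := fun x => by simp [D]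
  constructor
  · rintro ⟨M, hM⟩
    have h := Groth.Agent.H25Euler.coeff_nonpos_of_eventually D (d - 1) hD
      ⟨M, fun m hm => by rw [hev]; exact sub_nonpos.2 (hM m hm)⟩
    simpa [D, Polynomial.coeff_sub, Polynomial.coeff_mul_C] using h
  · intro h
    obtain ⟨M, hM⟩ := Groth.Agent.H25Euler.eventually_neg D (d - 1) hD (by
      simpa [D, Polynomial.coeff_sub, Polynomial.coeff_mul_C] using h)
    exact ⟨M, fun m hm => by have := hM m hm; rw [hev] at this; linarith⟩

end Groth.Agent.S18528
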