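import Groth.Statements.S18529
import Groth.Agent.H25Euler.ParAb

set_option autoImplicit false
universe u
open CategoryTheory CategoryTheory.Limits AlgebraicGeometry Polynomial
open ParSh

namespace Groth.Agent.S18529

/-- Kernel and image of a parabolic homomorphism between semistable parabolic sheaves with the same
reduced parabolic Hilbert polynomial, for one divisor. Let X be a scheme proper over a field k with
an ample invertible sheaf L, I the ideal of an effective Cartier divisor D on X, and d ≥ 1. Let E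
and F be nonzero coherent O_X-modules, pure of dimension d, with Supp E ∩ Supp D and Supp F ∩ Supp D
of topological Krull dimension less than d, carrying finite weighted filtrations 𝓔 and 𝓕 along I by
coherent pieces, with the same set of weights and with smallest weight positive. Let P and R be the
Hilbert polynomials of E and F, P_j and R_j those of the pieces, and Par_E = P_{l+1} + Σ_j w_j (P_j
− P_{j+1}), Par_F likewise; α_d denotes d! times the coefficient of degree d. Assume both filtered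
sheaves are semistable for the reduced parabolic Hilbert polynomial: for every nonzero coherent
sub-module W → E whose cokernel is pure of dimension d or zero, with its induced filtration and any
Hilbert polynomials Q of W and Q_j of its pieces, Par_W(m)·α_d(P) ≤ Par_E(m)·α_d(Q) for all large
natural m (and the same for F); and assume Par_E·α_d(R) = Par_F·α_d(P). Let f : E → F be a parabolic
homomorphism, j : K → E a monomorphism with 0 → K → E → F exact at E, and f = q ≫ u with q : E → V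
an epimorphism and u : V → F a monomorphism. Then: (1) for all Hilbert polynomials Q_K of K and
Q_{K,j} of the pieces of the filtration induced on K, Par_K·α_d(P) = Par_E·α_d(Q_K) (the kernel has
the same reduced parabolic Hilbert polynomial); (2) the cokernel of u is pure of dimension d or zero
(the image of f is saturated in F); (3) for every real a with 0 ≤ a ≤ 1, the a-th piece of the
filtration induced on V as a quotient of E equals the a-th piece of the filtration induced on V as a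
sub-module of F. The published statement is phrased for parabolic sheaves along several divisors on
the fibres of a projective X → S over an algebraically closed field and concludes that such sheaves
form an abelian category; this row is the absolute one-divisor case of the kernel and image steps of
its proof, with semistability tested on saturated sub-modules carrying the induced filtration. -/
theorem result (k : Type u) [Field k] (X : Scheme.{u})
    [X.Over (Spec (CommRingCat.of k))] [IsProper (X ↘ Spec (CommRingCat.of k))]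
    (L : X.Modules) (hL : CohB1.IsAmple L) (I : X.IdealSheafData) (hD : FGA.IsEffCartier I) (d : ℕ) (hd : 1 ≤ d)
    {E F : X.Modules} (hE : Coh.IsCoh E) (hF : Coh.IsCoh F) (hE0 : ¬ IsZero E) (hF0 : ¬ IsZero F)
    (hEp : ShStab.IsPure X E d) (hFp : ShStab.IsPure X F d)
    (hEs : topologicalKrullDim ↥(CohB1.support E ∩ (I.support : Set X)) < (d : WithBot ℕ∞))
    (hFs : topologicalKrullDim ↥(CohB1.support F ∩ (I.support : Set X)) < (d : WithBot ℕ∞))
    (𝓔 : ParSh.Str E) (h𝓔 : 𝓔.Along I) (𝓕 : ParSh.Str F) (h𝓕 : 𝓕.Along I)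
    (hcE : ∀ j, Coh.IsCoh ((𝓔.pieceX j : Subobject E) : X.Modules))
    (hcF : ∀ j, Coh.IsCoh ((𝓕.pieceX j : Subobject F) : X.Modules))
    (hw : Set.range 𝓕.wt = Set.range 𝓔.wt) (hw0 : 0 < 𝓔.wt 0)
    (P R : ℚ[X]) (hP : ShStab.IsHilbPoly k X L E P) (hR : ShStab.IsHilbPoly k X L F R)
    (PX : Fin (𝓔.l + 2) → ℚ[X]) (hPX : ∀ j, ShStab.IsHilbPoly k X L ((𝓔.pieceX j : Subobject E) : X.Modules) (PX j))
    (RX : Fin (𝓕.l + 2) → ℚ[X]) (hRX : ∀ j, ShStab.IsHilbPoly k X L ((𝓕.pieceX j : Subobject F) : X.Modules) (RX j))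
    (hssE : (∀ (W : X.Modules) (ι : W ⟶ E), Mono ι → Coh.IsCoh W → ¬ IsZero W → ShStab.IsPure X (cokernel ι) d →
        ∀ (Q : ℚ[X]) (QX : Fin (𝓔.l + 2) → ℚ[X]), ShStab.IsHilbPoly k X L W Q →
          (∀ j, ShStab.IsHilbPoly k X L (((𝓔.induced ι).pieceX j : Subobject W) : X.Modules) (QX j)) →
          ∃ M : ℕ, ∀ m : ℕ, M ≤ m →
            (W4swparbununimod.parPoly (𝓔.induced ι) QX).eval (m : ℝ) * (StabCat.alpha d P : ℝ) ≤
              (W4swparbununimod.parPoly 𝓔 PX).eval (m : ℝ) * (StabCat.alpha d Q : ℝ)))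
    (hssF : (∀ (W : X.Modules) (ι : W ⟶ F), Mono ι → Coh.IsCoh W → ¬ IsZero W → ShStab.IsPure X (cokernel ι) d →
        ∀ (Q : ℚ[X]) (QX : Fin (𝓕.l + 2) → ℚ[X]), ShStab.IsHilbPoly k X L W Q →
          (∀ j, ShStab.IsHilbPoly k X L (((𝓕.induced ι).pieceX j : Subobject W) : X.Modules) (QX j)) →
          ∃ M : ℕ, ∀ m : ℕ, M ≤ m →
            (W4swparbununimod.parPoly (𝓕.induced ι) QX).eval (m : ℝ) * (StabCat.alpha d R : ℝ) ≤
              (W4swparbununimod.parPoly 𝓕 RX).eval (m : ℝ) * (StabCat.alpha d Q : ℝ)))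
    (hred : W4swparbununimod.parPoly 𝓔 PX * Polynomial.C (StabCat.alpha d R : ℝ) =
      W4swparbununimod.parPoly 𝓕 RX * Polynomial.C (StabCat.alpha d P : ℝ))
    (f : E ⟶ F) (hf : ParSh.IsParHom 𝓔 𝓕 f)
    {K V : X.Modules} (j : K ⟶ E) [Mono j] (w : j ≫ f = 0) (hex : (ShortComplex.mk j f w).Exact)
    (q : E ⟶ V) [Epi q] (u : V ⟶ F) [Mono u] (hqu : q ≫ u = f) :
    (∀ (QK : ℚ[X]) (QKX : Fin (𝓔.l + 2) → ℚ[X]), ShStab.IsHilbPoly k X L K QK →
        (∀ j', ShStab.IsHilbPoly k X L (((𝓔.induced j).pieceX j' : Subobject K) : X.Modules) (QKX j')) →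
        W4swparbununimod.parPoly (𝓔.induced j) QKX * Polynomial.C (StabCat.alpha d P : ℝ) =
          W4swparbununimod.parPoly 𝓔 PX * Polynomial.C (StabCat.alpha d QK : ℝ)) ∧
    ShStab.IsPure X (cokernel u) d ∧
    (∀ a : ℝ, 0 ≤ a → a ≤ 1 → (𝓔.coinduced q).at a = (𝓕.induced u).at a) := by
  haveI : CompactSpace X := hL.2.1
  haveI : IsLocallyNoetherian X := LocallyOfFiniteType.isLocallyNoetherian (X ↘ Spec (CommRingCat.of k))
  have hdimE : topologicalKrullDim (CohB1.support E) = (d : WithBot ℕ∞) := hEp E (𝟙 E) inferInstance hE hE0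
  have hdimF : topologicalKrullDim (CohB1.support F) = (d : WithBot ℕ∞) := hFp F (𝟙 F) inferInstance hF hF0
  have hsucc : (d : WithBot ℕ∞) < ((d + 1 : ℕ) : WithBot ℕ∞) := by exact_mod_cast Nat.lt_succ_self d
  have hex' : ∀ (G W : X.Modules) (ι : G ⟶ W), Mono ι → Coh.IsCoh G →
      topologicalKrullDim (CohB1.support W) = (d : WithBot ℕ∞) → ∃ T : ℚ[X], ShStab.IsHilbPoly k X L G T :=
    fun G W ι hι hG hW => by
      haveI := hι
      exact Groth.Agent.H25Euler.exists_hilbPoly (k := k) hL hG (d := d + 1)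
        (Groth.Agent.H25Euler.dim_lt_of_subset (Groth.Agent.H25Euler.support_subset_of_mono ι) (hW.trans_lt hsucc))
  obtain ⟨hl, hwt⟩ := Groth.Agent.H25Euler.exists_cast 𝓔 𝓕 hw
  let c : Fin (𝓔.l + 2) → Fin (𝓕.l + 2) := Fin.cast (by rw [hl])
  -- `K` and `V` are coherent and saturated
  have hK : Coh.IsCoh K := by
    haveI : Mono (ShortComplex.mk j f w).f := ‹Mono j›
    exact Groth.Agent.H10Coh.isCoh_of_iso ((kernelIsKernel f).conePointUniqueUpToIso hex.fIsKernel)
      (Groth.Agent.H10Coh.isCoh_kernel f hE hF.1)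
  have hjq : j ≫ q = 0 := by rw [← cancel_mono u, Category.assoc, hqu, w, Limits.zero_comp]
  have hKV : (ShortComplex.mk j q hjq).ShortExact :=
    { exact := ShortComplex.exact_of_f_is_kernel _ (KernelFork.IsLimit.ofι' _ _ fun {A} t ht => by
        haveI : Mono (ShortComplex.mk j f w).f := ‹Mono j›
        have ht' : t ≫ q = 0 := ht
        have h1 : t ≫ f = 0 := by rw [← hqu, ← Category.assoc, ht', Limits.zero_comp]
        exact ⟨hex.lift t h1, hex.lift_f t h1⟩) }
  let eV : cokernel j ≅ V := (cokernelIsCokernel j).coconePointUniqueUpToIso hKV.gIsCokernel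
  have hV : Coh.IsCoh V := Groth.Agent.H10Coh.isCoh_of_iso eV (Groth.Agent.H10Coh.isCoh_cokernel j hK.1 hE)
  have hKp : ShStab.IsPure X (cokernel j) d := fun G g hg => by
    haveI := hg
    exact hFp G (g ≫ eV.hom ≫ u) inferInstance
  obtain ⟨V', ι', φ, hι', hφι, hV', hdimφ, hV'p⟩ :=
    Groth.Agent.H25Euler.exists_saturation k hL hF hV u hFp hF0
  haveI := hι'
  haveI : Mono φ := by
    haveI : Mono (φ ≫ ι') := by rw [hφι]; infer_instance
    exact mono_of_mono φ ι'
  -- semistability including the zero submodule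
  have hzero : ∀ {E₁ : X.Modules} (𝓐 : ParSh.Str E₁) {W : X.Modules} (ι : W ⟶ E₁), IsZero W →
      ∀ (Q : ℚ[X]) (QX : Fin (𝓐.l + 2) → ℚ[X]), ShStab.IsHilbPoly k X L W Q →
      (∀ j', ShStab.IsHilbPoly k X L (((𝓐.induced ι).pieceX j' : Subobject W) : X.Modules) (QX j')) →
      Q = 0 ∧ ∀ j', QX j' = 0 := fun {E₁} 𝓐 {W} ι hz Q QX hQ hQX =>
    ⟨Groth.Agent.H25Euler.hilbPoly_unique (k := k) hQ (Groth.Agent.H25Euler.hilbPoly_zero hz), fun j' =>
      Groth.Agent.H25Euler.hilbPoly_unique (k := k) (hQX j')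
        (Groth.Agent.H25Euler.hilbPoly_zero (IsZero.of_mono ((𝓐.induced ι).pieceX j').arrow hz))⟩
  have hcK : ∀ j', Coh.IsCoh (((𝓔.induced j).pieceX j' : Subobject K) : X.Modules) := fun j' => by
    erw [Groth.Agent.H25Euler.induced_pieceX]
    exact Groth.Agent.H25Euler.isCoh_pullback_sub k hL hE hK _ (hcE j') j
  have hcV : ∀ {W : X.Modules} (g : W ⟶ F), Coh.IsCoh W → ∀ j',
      Coh.IsCoh (((𝓕.induced g).pieceX j' : Subobject W) : X.Modules) := fun g hW j' => by
    erw [Groth.Agent.H25Euler.induced_pieceX]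
    exact Groth.Agent.H25Euler.isCoh_pullback_sub k hL hF hW _ (hcF j') g
  obtain ⟨QK, hQK⟩ := hex' K E j inferInstance hK hdimE
  choose QKX hQKX using fun j' => hex' _ E (((𝓔.induced j).pieceX j').arrow ≫ j)
    (mono_comp' inferInstance inferInstance) (hcK j') hdimE
  obtain ⟨QV', hQV'⟩ := hex' V' F ι' inferInstance hV' hdimF
  choose DX hDX using fun j' => hex' _ F (((𝓕.induced u).pieceX j').arrow ≫ u)
    (mono_comp' inferInstance inferInstance) (hcV u hV j') hdimF
  choose DX' hDX' using fun j' => hex' _ F (((𝓕.induced ι').pieceX j').arrow ≫ ι')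
    (mono_comp' inferInstance inferInstance) (hcV ι' hV' j') hdimF
  let QV : ℚ[X] := P - QK
  have hQV : ShStab.IsHilbPoly k X L V QV :=
    Groth.Agent.H25Euler.hilbPoly_congr eV (Groth.Agent.H25Euler.polyLE_of_mono hL hK hE j hQK hP).2
  have hC : ∀ j', Coh.IsCoh ((((𝓔.coinduced q).pieceX j' : Subobject V)) : X.Modules) ∧
      ShStab.IsHilbPoly k X L (((𝓔.coinduced q).pieceX j' : Subobject V) : X.Modules) (PX j' - QKX j') := fun j' => by
    erw [Groth.Agent.H25Euler.coinduced_pieceX]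
    exact Groth.Agent.H25Euler.image_piece k hL hE j f w hex q u hqu hK _ (hcE j') (hPX j')
      (by have h := hQKX j'; erw [Groth.Agent.H25Euler.induced_pieceX] at h; exact h)
  -- the parabolic homomorphism
  have hle : ∀ j', (𝓔.coinduced q).pieceX j' ≤ (𝓕.induced u).pieceX (c j') := fun j' => by
    have hfac : (𝓕.pieceX (c j')).Factors ((𝓔.pieceX j').arrow ≫ f) := by
      have h := hf (𝓔.wtX j') (Groth.Agent.H25Euler.wtX_nonneg 𝓔 j') (Groth.Agent.H25Euler.wtX_le_one 𝓔 j')
      rw [Groth.Agent.H25Euler.at_wtX] at h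
      rwa [← Groth.Agent.H25Euler.wtX_cast 𝓔 𝓕 hl hwt j', Groth.Agent.H25Euler.at_wtX] at h
    erw [Groth.Agent.H25Euler.coinduced_pieceX, Groth.Agent.H25Euler.induced_pieceX]
    have sq := Subobject.isPullback u (𝓕.pieceX (c j'))
    refine imageSubobject_le _ (sq.lift ((𝓕.pieceX (c j')).factorThru _ hfac) ((𝓔.pieceX j').arrow ≫ q) ?_)
      (sq.lift_snd _ _ _)
    rw [Subobject.factorThru_arrow, Category.assoc, hqu]
  have hCD : ∀ j', ∃ N : ℕ, ∀ m, N ≤ m → (PX j' - QKX j').eval (m : ℚ) ≤ (DX (c j')).eval (m : ℚ) := fun j' =>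
    (Groth.Agent.H25Euler.polyLE_of_mono (k := k) hL (hC j').1 (hcV u hV (c j')) (Subobject.ofLE _ _ (hle j'))
      (hC j').2 (hDX (c j'))).1
  have hDD : ∀ j', ∃ N : ℕ, ∀ m, N ≤ m → (DX j').eval (m : ℚ) ≤ (DX' j').eval (m : ℚ) := fun j' => by
    have hu : ∃ v : (((𝓕.induced u).pieceX j' : Subobject V) : X.Modules) ⟶
        (((𝓕.induced ι').pieceX j' : Subobject V') : X.Modules), Mono v := by
      erw [Groth.Agent.H25Euler.induced_pieceX, Groth.Agent.H25Euler.induced_pieceX]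
      have sq := Subobject.isPullback u (𝓕.pieceX j')
      have sq' := Subobject.isPullback ι' (𝓕.pieceX j')
      have hcomm : Subobject.pullbackπ u (𝓕.pieceX j') ≫ (𝓕.pieceX j').arrow =
          (((Subobject.pullback u).obj (𝓕.pieceX j')).arrow ≫ φ) ≫ ι' :=
        sq.w.trans (by rw [Category.assoc, hφι])
      have h : sq'.lift _ _ hcomm ≫ ((Subobject.pullback ι').obj (𝓕.pieceX j')).arrow =
          ((Subobject.pullback u).obj (𝓕.pieceX j')).arrow ≫ φ := sq'.lift_snd _ _ _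
      exact ⟨_, @mono_of_mono _ _ _ _ _ _ ((Subobject.pullback ι').obj (𝓕.pieceX j')).arrow (by rw [h]; infer_instance)⟩
    obtain ⟨v, hv⟩ := hu
    haveI := hv
    exact (Groth.Agent.H25Euler.polyLE_of_mono (k := k) hL (hcV u hV j') (hcV ι' hV' j') v (hDX j') (hDX' j')).1
  -- multiplicities
  have hαP : (0 : ℝ) < (StabCat.alpha d P : ℝ) :=
    Rat.cast_pos.2 (Groth.Agent.H25Euler.alpha_pos k hL hE hE0 hEp hP)
  have hαR : (0 : ℝ) < (StabCat.alpha d R : ℝ) :=
    Rat.cast_pos.2 (Groth.Agent.H25Euler.alpha_pos k hL hF hF0 hFp hR)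
  have hαV : (StabCat.alpha d QV' : ℝ) = (StabCat.alpha d P : ℝ) - (StabCat.alpha d QK : ℝ) := by
    have hcok := (Groth.Agent.H25Euler.polyLE_of_mono (k := k) hL hV hV' φ hQV hQV').2
    have h := Groth.Agent.H25Euler.coeff_hilbPoly_eq_zero (k := k) hL
      (Groth.Agent.H10Coh.isCoh_cokernel φ hV.1 hV') hcok hdimφ (le_refl d)
    rw [Polynomial.coeff_sub, sub_eq_zero] at h
    simp only [StabCat.alpha, h, QV, Polynomial.coeff_sub, mul_sub, Rat.cast_sub]
  -- the chain of inequalities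
  let PE := W4swparbununimod.parPoly 𝓔 PX
  let PK := W4swparbununimod.parPoly 𝓔 QKX
  let PC := W4swparbununimod.parPoly 𝓔 (fun j' => PX j' - QKX j')
  let PD := W4swparbununimod.parPoly 𝓔 (fun j' => DX (c j'))
  let PD' := W4swparbununimod.parPoly 𝓔 (fun j' => DX' (c j'))
  have hPE : PE = PK + PC := by
    show _ = W4swparbununimod.parPoly 𝓔 QKX + W4swparbununimod.parPoly 𝓔 (fun j' => PX j' - QKX j')
    rw [← Groth.Agent.H25Euler.parPoly_add]
    exact congrArg (W4swparbununimod.parPoly 𝓔) (_root_.funext fun j' => (add_sub_cancel (QKX j') (PX j')).symm)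
  obtain ⟨M₁, h₁⟩ : ∃ M : ℕ, ∀ m : ℕ, M ≤ m →
      PK.eval (m : ℝ) * (StabCat.alpha d P : ℝ) ≤ PE.eval (m : ℝ) * (StabCat.alpha d QK : ℝ) := by
    by_cases hz : IsZero K
    · obtain ⟨h0, hX0⟩ := hzero 𝓔 j hz QK QKX hQK hQKX
      refine ⟨0, fun m _ => le_of_eq ?_⟩
      simp [PK, Groth.Agent.H25Euler.parPoly_eval_nat, hX0, h0, StabCat.alpha]
    · exact hssE K j inferInstance hK hz hKp QK QKX hQK hQKX
  obtain ⟨M₂, h₂⟩ : ∃ M : ℕ, ∀ m : ℕ, M ≤ m → PD'.eval (m : ℝ) * (StabCat.alpha d R : ℝ) ≤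
      (W4swparbununimod.parPoly 𝓕 RX).eval (m : ℝ) * (StabCat.alpha d QV' : ℝ) := by
    have he : PD' = W4swparbununimod.parPoly (𝓕.induced ι') DX' :=
      (Groth.Agent.H25Euler.parPoly_cast 𝓔 (𝓕.induced ι') hl hwt DX').symm
    rw [he]
    by_cases hz : IsZero V'
    · obtain ⟨h0, hX0⟩ := hzero 𝓕 ι' hz QV' DX' hQV' hDX'
      refine ⟨0, fun m _ => le_of_eq ?_⟩
      simp [Groth.Agent.H25Euler.parPoly_eval_nat, hX0, h0, StabCat.alpha]
    · exact hssF V' ι' inferInstance hV' hz hV'p QV' DX' hQV' hDX'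
  obtain ⟨M₃, h₃⟩ := Groth.Agent.H25Euler.parPoly_mono 𝓔 _ _ hCD
  obtain ⟨M₄, h₄⟩ := Groth.Agent.H25Euler.parPoly_mono 𝓔 _ _ fun j' => hDD (c j')
  have hchain : ∀ m, max (max M₁ M₂) (max M₃ M₄) ≤ m → PC.eval (m : ℝ) = PD.eval (m : ℝ) ∧
      PD.eval (m : ℝ) = PD'.eval (m : ℝ) ∧
      PK.eval (m : ℝ) * (StabCat.alpha d P : ℝ) = PE.eval (m : ℝ) * (StabCat.alpha d QK : ℝ) := by
    intro m hm
    simp only [max_le_iff] at hm
    have a1 := h₁ m hm.1.1
    have a2 := h₂ m hm.1.2
    have a3 : PC.eval (m : ℝ) ≤ PD.eval (m : ℝ) := h₃ m hm.2.1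
    have a4 : PD.eval (m : ℝ) ≤ PD'.eval (m : ℝ) := h₄ m hm.2.2
    have a5 : PE.eval (m : ℝ) * (StabCat.alpha d R : ℝ) =
        (W4swparbununimod.parPoly 𝓕 RX).eval (m : ℝ) * (StabCat.alpha d P : ℝ) := by
      have h := congrArg (fun p : Polynomial ℝ => p.eval (m : ℝ)) hred
      simpa using h
    have a6 : PE.eval (m : ℝ) = PK.eval (m : ℝ) + PC.eval (m : ℝ) := by rw [hPE, Polynomial.eval_add]
    rw [hαV] at a2
    -- everything is squeezed
    have b1 := mul_le_mul_of_nonneg_left a2 hαP.le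
    have b2 := mul_le_mul_of_nonneg_left a1 hαR.le
    have hpos := mul_pos hαP hαR
    have b5 : PE.eval (m : ℝ) * (StabCat.alpha d R : ℝ) *
        ((StabCat.alpha d P : ℝ) - (StabCat.alpha d QK : ℝ)) =
        (W4swparbununimod.parPoly 𝓕 RX).eval (m : ℝ) * (StabCat.alpha d P : ℝ) *
        ((StabCat.alpha d P : ℝ) - (StabCat.alpha d QK : ℝ)) := by rw [a5]
    have b6 : PE.eval (m : ℝ) * ((StabCat.alpha d P : ℝ) * (StabCat.alpha d R : ℝ)) =
        PK.eval (m : ℝ) * ((StabCat.alpha d P : ℝ) * (StabCat.alpha d R : ℝ)) +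
        PC.eval (m : ℝ) * ((StabCat.alpha d P : ℝ) * (StabCat.alpha d R : ℝ)) := by rw [a6]; ring
    have b3 := mul_le_mul_of_nonneg_right a3 hpos.le
    have b4 := mul_le_mul_of_nonneg_right a4 hpos.le
    refine ⟨mul_right_cancel₀ hpos.ne' (by linarith), mul_right_cancel₀ hpos.ne' (by linarith),
      mul_right_cancel₀ hαR.ne' (by linarith)⟩
  have heq : ∀ A B : Polynomial ℝ, (∀ m, max (max M₁ M₂) (max M₃ M₄) ≤ m → A.eval (m : ℝ) = B.eval (m : ℝ)) → A = B :=
    fun A B h => Polynomial.eq_of_infinite_eval_eq _ _ (Set.Infinite.mono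
      (by rintro _ ⟨m, hm, rfl⟩; exact h m hm)
      ((Set.Ici_infinite (max (max M₁ M₂) (max M₃ M₄))).image fun a _ b _ hab => Nat.cast_injective (R := ℝ) hab))
  have hCD' := Groth.Agent.H25Euler.eq_of_parPoly_eq 𝓔 hw0 _ _ hCD (heq _ _ fun m hm => (hchain m hm).1)
  have hDD' := Groth.Agent.H25Euler.eq_of_parPoly_eq 𝓔 hw0 _ _ (fun j' => hDD (c j'))
    (heq _ _ fun m hm => (hchain m hm).2.1)
  have hc0 : c 0 = 0 := Fin.ext rfl
  refine ⟨fun QK₁ QKX₁ hQK₁ hQKX₁ => ?_, ?_, fun a _ _ => ?_⟩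
  · obtain rfl := Groth.Agent.H25Euler.hilbPoly_unique (k := k) hQK₁ hQK
    obtain rfl : QKX₁ = QKX := _root_.funext fun j' => Groth.Agent.H25Euler.hilbPoly_unique (k := k) (hQKX₁ j') (hQKX j')
    exact heq _ _ fun m hm => by
      rw [Polynomial.eval_mul, Polynomial.eval_mul, Polynomial.eval_C, Polynomial.eval_C]
      exact (hchain m hm).2.2
  · have h0 := hDD' 0
    rw [hc0] at h0
    have hd0 : DX 0 = QV := (Groth.Agent.H25Euler.hilb_induced (k := k) hL hF h𝓕 hcF hFs u hV hQV hDX).1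
    have hd0' : DX' 0 = QV' := (Groth.Agent.H25Euler.hilb_induced (k := k) hL hF h𝓕 hcF hFs ι' hV' hQV' hDX').1
    replace h0 : QV = QV' := (hd0.symm.trans h0).trans hd0'
    haveI := Groth.Agent.H25Euler.isIso_of_hilbPoly_eq k hL hV hV' φ hQV (h0 ▸ hQV')
    exact Groth.Agent.H25Euler.isPure_of_iso (eqToIso (by subst hφι; rfl) ≪≫ cokernelEpiComp φ ι') hV'p
  · exact Groth.Agent.H25Euler.at_congr (𝓔.coinduced q) (𝓕.induced u) hl hwt (fun j' =>
      (Groth.Agent.H25Euler.le_of_hilbPoly_eq k hL (hle j') (hC j').1 (hcV u hV (c j')) (hC j').2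
        (by rw [hCD' j']; exact hDX (c j'))).symm) a

end Groth.Agent.S18529
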