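import Groth.Statements.S1853
import Groth.Agent.H11CycDet.Psi
import Groth.Agent.S1852

set_option autoImplicit false
set_option linter.unusedSectionVars false
set_option linter.style.haveILetI false
universe u
open CycDet

namespace Groth.Agent.S1853


section aux

open H11CycDet H1CAlg.CycSym

variable {R : Type u} [CommRing R] [IsLocalRing R] (q : Ideal R) [q.IsPrime] {M : Type u} [AddCommGroup M] [Module R M]

/-- The successive quotient condition. -/
abbrev Good {l : ℕ} (x : Fin l → M) : Prop :=
  ∀ i : Fin l, Nonempty ((↥(CycDet.spanBefore R M x (i + 1)) ⧸ (CycDet.spanBefore R M x i).submoduleOf (CycDet.spanBefore R M x (i + 1))) ≃ₗ[R] (R ⧸ q))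

theorem saturated {l : ℕ} (x : Fin l → M) (hx : Good q x) :
    ∀ k, ∀ s ∉ q, ∀ m ∈ CycDet.spanBefore R M x l, s • m ∈ CycDet.spanBefore R M x k →
      m ∈ CycDet.spanBefore R M x k := by
  intro k s hs m hm hsm
  have key : ∀ d j, j + d = l → k ≤ j → m ∈ CycDet.spanBefore R M x j := by
    intro d
    induction d with
    | zero => intro j hj _; rwa [show j = l by omega]
    | succ d ih =>
      intro j hj hkj
      have h1 := ih (j + 1) (by omega) (by omega)
      obtain ⟨e⟩ := hx ⟨j, by omega⟩
      have h2 : s • e (Submodule.Quotient.mk ⟨m, h1⟩) = 0 := by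
        rw [← map_smul, ← Submodule.Quotient.mk_smul]
        refine (congrArg e ((Submodule.Quotient.mk_eq_zero _).mpr ?_)).trans (map_zero e)
        exact spanBefore_mono x hkj hsm
      obtain ⟨z, hz⟩ := Ideal.Quotient.mk_surjective (e (Submodule.Quotient.mk ⟨m, h1⟩))
      rw [← hz] at h2
      have h3 : s * z ∈ q := Ideal.Quotient.eq_zero_iff_mem.mp h2
      have h4 : Ideal.Quotient.mk q z = 0 :=
        Ideal.Quotient.eq_zero_iff_mem.mpr ((‹q.IsPrime›.mem_or_mem h3).resolve_left hs)
      rw [hz, LinearEquiv.map_eq_zero_iff] at h4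
      exact (Submodule.Quotient.mk_eq_zero ((CycDet.spanBefore R M x j).submoduleOf (CycDet.spanBefore R M x (j + 1))) (x := ⟨m, h1⟩)).mp h4
  by_cases hkl : k ≤ l
  · exact key (l - k) k (by omega) le_rfl
  · exact spanBefore_mono x (by omega) hm

theorem torsionFree {l : ℕ} (x : Fin l → M) (htop : Submodule.span R (Set.range x) = ⊤) (hx : Good q x) :
    ∀ s ∉ q, ∀ m : M, s • m = 0 → m = 0 := by
  intro s hs m hm
  have h := saturated q x hx 0 s hs m (by rw [spanBefore_of_le x le_rfl, htop]; trivial)
    (by rw [hm]; exact zero_mem _)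
  simpa [CycDet.spanBefore] using h

theorem len_good {l : ℕ} (x : Fin l → M) (htop : Submodule.span R (Set.range x) = ⊤) (hx : Good q x) :
    Module.length (Localization.AtPrime q) (LocalizedModule q.primeCompl M) = (l : ℕ∞) := by
  have key : ∀ k ≤ l, S1852.len q ↥(CycDet.spanBefore R M x k) = (k : ℕ∞) := by
    intro k hk
    induction k with
    | zero =>
      rw [S1852.len_congr q (LinearEquiv.ofEq _ _ (show CycDet.spanBefore R M x 0 = ⊥ by simp [CycDet.spanBefore])),
        Nat.cast_zero]
      exact Module.length_eq_zero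
    | succ k ih =>
      obtain ⟨e⟩ := hx ⟨k, hk⟩
      rw [S1852.len_step q _ _ (spanBefore_mono x (Nat.le_succ k)) e, ih (by omega), Nat.cast_succ]
  rw [← key l le_rfl]
  exact (S1852.len_congr q ((LinearEquiv.ofEq _ _ (by rw [spanBefore_of_le x le_rfl, htop])).trans Submodule.topEquiv)).symm

theorem mk_injective (htf : ∀ s ∉ q, ∀ m : M, s • m = 0 → m = 0) :
    Function.Injective (LocalizedModule.mkLinearMap q.primeCompl M) := by
  intro a b hab
  obtain ⟨s, hs⟩ := (IsLocalizedModule.eq_iff_exists q.primeCompl (LocalizedModule.mkLinearMap q.primeCompl M)).mp hab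
  refine sub_eq_zero.mp (htf s.1 s.2 _ ?_)
  rw [smul_sub, sub_eq_zero]
  exact hs

theorem injective_iff {N : Type u} [AddCommGroup N] [Module R N] (φ : M →ₗ[R] N)
    (htf : ∀ s ∉ q, ∀ m : M, s • m = 0 → m = 0)
    (hlen : Module.length (Localization.AtPrime q) (LocalizedModule q.primeCompl M) =
      Module.length (Localization.AtPrime q) (LocalizedModule q.primeCompl N))
    (hfin : Module.length (Localization.AtPrime q) (LocalizedModule q.primeCompl N) ≠ ⊤) :
    Function.Injective φ ↔ Function.Bijective (LocalizedModule.map q.primeCompl φ) := by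
  constructor
  · intro h
    refine ⟨LocalizedModule.map_injective _ φ h, ?_⟩
    have h1 := Module.length_eq_add_of_exact (LocalizedModule.map q.primeCompl φ)
      (LinearMap.range (LocalizedModule.map q.primeCompl φ)).mkQ (LocalizedModule.map_injective _ φ h)
      (Submodule.mkQ_surjective _) (LinearMap.exact_iff.mpr (Submodule.ker_mkQ _))
    rw [hlen] at h1
    have h2 : Module.length (Localization.AtPrime q)
        (LocalizedModule q.primeCompl N ⧸ LinearMap.range (LocalizedModule.map q.primeCompl φ)) = 0 := by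
      obtain ⟨n, hn⟩ := ENat.ne_top_iff_exists.mp hfin
      rw [← hn] at h1
      generalize hZ : Module.length (Localization.AtPrime q)
        (LocalizedModule q.primeCompl N ⧸ LinearMap.range (LocalizedModule.map q.primeCompl φ)) = Z at h1
      cases Z with
      | top => simp at h1
      | coe z =>
        norm_cast at h1
        exact_mod_cast (by omega : z = 0)
    rw [Module.length_eq_zero_iff, Submodule.Quotient.subsingleton_iff] at h2
    exact LinearMap.range_eq_top.mp h2
  · intro h a b hab
    refine mk_injective q htf (h.1 ?_)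
    show LocalizedModule.map q.primeCompl φ (LocalizedModule.mk a 1) =
      LocalizedModule.map q.primeCompl φ (LocalizedModule.mk b 1)
    rw [LocalizedModule.map_mk, LocalizedModule.map_mk, hab]

theorem length_coker [IsNoetherianRing R] (hq : ringKrullDim (R ⧸ q) = 1) {N : Type u}
    [AddCommGroup N] [Module R N] [Module.Finite R N] (φ : M →ₗ[R] N) (hinj : Function.Injective φ)
    (hbij : Function.Bijective (LocalizedModule.map q.primeCompl φ)) {l : ℕ} (x : Fin l → M) (y : Fin l → N)
    (hx : Submodule.span R (Set.range x) = ⊤) (hy : Submodule.span R (Set.range y) = ⊤)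
    (hxq : Good q x) (hyq : Good q y)
    (hl : (l : ℕ∞) = Module.length (Localization.AtPrime q) (LocalizedModule q.primeCompl N))
    (ex ey : CycDet.Adm (Localization.AtPrime q) (LocalizedModule q.primeCompl N) l)
    (hex : ex.1 = fun i => LocalizedModule.mkLinearMap q.primeCompl N (φ (x i)))
    (hey : ey.1 = fun i => LocalizedModule.mkLinearMap q.primeCompl N (y i))
    (f : q.ResidueField) (h : cls ex = f • cls ey) :
    ∃ n : ℕ, Module.length R (N ⧸ LinearMap.range φ) = n ∧ (n : ℤ) = CycAlg.ordFrac (R ⧸ q) q.ResidueField f := by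
  classical
  let ι := LocalizedModule.mkLinearMap q.primeCompl N
  have htfN := torsionFree q y hy hyq
  have hι : Function.Injective ι := mk_injective q htfN
  haveI : IsFiniteLength (Localization.AtPrime q) (LocalizedModule q.primeCompl N) :=
    Module.length_ne_top_iff.mp (by rw [← hl]; exact ENat.coe_ne_top l)
  obtain ⟨hN1, hN2⟩ := isFiniteLength_iff_isNoetherian_isArtinian.mp
    (this : IsFiniteLength (Localization.AtPrime q) (LocalizedModule q.primeCompl N))
  have hspanA : ∀ (z : Fin l → N), (∀ v : N, ∃ s ∉ q, s • v ∈ Submodule.span R (Set.range z)) →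
      Submodule.span (Localization.AtPrime q) (Set.range fun i => ι (z i)) = ⊤ := by
    intro z hz
    rw [eq_top_iff]
    intro v _
    obtain ⟨⟨m, s⟩, hms⟩ := IsLocalizedModule.surj q.primeCompl ι v
    obtain ⟨s', hs', hm⟩ := hz m
    have h1 : ι (s' • m) ∈ Submodule.span (Localization.AtPrime q) (Set.range fun i => ι (z i)) := by
      have h2 : ι (s' • m) ∈ (Submodule.span R (Set.range z)).map ι := ⟨_, hm, rfl⟩
      rw [Submodule.map_span, ← Set.range_comp] at h2
      exact Submodule.span_le_restrictScalars R (Localization.AtPrime q) _ h2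
    rw [map_smul, ← hms, Submonoid.smul_def, smul_smul, ← algebraMap_smul (Localization.AtPrime q)] at h1
    exact (Submodule.smul_mem_iff_of_isUnit _ (isUnit_algebraMap q
      (fun hh => (‹q.IsPrime›.mem_or_mem hh).elim hs' s.2))).mp h1
  have hspX : ∀ v : N, ∃ s ∉ q, s • v ∈ Submodule.span R (Set.range fun i => φ (x i)) := by
    intro v
    obtain ⟨w, hw⟩ := hbij.2 (LocalizedModule.mk v 1)
    induction w using LocalizedModule.induction_on with
    | h m s =>
      rw [LocalizedModule.map_mk, LocalizedModule.mk_eq] at hw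
      obtain ⟨u, hu⟩ := hw
      refine ⟨(u : R) * (s : R), fun hh => (‹q.IsPrime›.mem_or_mem hh).elim u.2 s.2, ?_⟩
      have h1 : ((u : R) * (s : R)) • v = φ ((u : R) • m) := by
        rw [map_smul, mul_smul]
        simpa [Submonoid.smul_def] using hu.symm
      rw [h1, Set.range_comp' φ x, ← Submodule.map_span, hx]
      exact ⟨_, trivial, rfl⟩
  have hndx : NonDeg (R := Localization.AtPrime q) ex.1 :=
    nonDeg_of_span_eq_top hl ex (by rw [hex]; exact hspanA _ hspX)
  have hndy : NonDeg (R := Localization.AtPrime q) ey.1 :=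
    nonDeg_of_span_eq_top hl ey (by rw [hey]; exact hspanA _ fun v =>
      ⟨1, (Ideal.ne_top_iff_one q).mp (Ideal.IsPrime.ne_top ‹_›), by rw [hy]; trivial⟩)
  obtain ⟨n, hn⟩ : ∃ n : ℕ, IsLocalRing.maximalIdeal (Localization.AtPrime q) ^ n ≤
      Module.annihilator (Localization.AtPrime q) (LocalizedModule q.primeCompl N) := by
    refine ⟨l, ?_⟩
    have key : ∀ k ≤ l, ∀ r ∈ IsLocalRing.maximalIdeal (Localization.AtPrime q) ^ k,
        ∀ v ∈ CycDet.spanBefore (Localization.AtPrime q) _ ey.1 k, r • v = 0 := by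
      intro k hk
      induction k with
      | zero =>
        intro r _ v hv
        have : v = 0 := by simpa [CycDet.spanBefore] using hv
        rw [this, smul_zero]
      | succ k ih =>
        intro r hr v hv
        rw [pow_succ] at hr
        refine Submodule.mul_induction_on hr (fun a ha b hb => ?_) fun a b ha hb => by rw [add_smul, ha, hb, add_zero]
        rw [mul_smul]
        refine ih (by omega) a ha _ ?_
        rw [show k + 1 = ((⟨k, hk⟩ : Fin l) : ℕ) + 1 from rfl, spanBefore_succ, Submodule.mem_sup] at hv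
        obtain ⟨p, hp, w, hw, rfl⟩ := hv
        obtain ⟨c, rfl⟩ := Submodule.mem_span_singleton.mp hw
        rw [smul_add]
        exact add_mem (Submodule.smul_mem _ b hp) (by rw [smul_comm]; exact Submodule.smul_mem _ c (ey.2 ⟨k, hk⟩ b hb))
    intro r hr
    exact Module.mem_annihilator.mpr fun v => key l le_rfl r hr v
      (by rw [span_eq_top_of_nonDeg hl ey hndy]; trivial)
  have hΛ : IsLattice q (LinearMap.range ι) := by
    refine ⟨Module.Finite.iff_fg.mp inferInstance, fun v => ?_, n, fun r hr v => ?_⟩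
    · obtain ⟨⟨m, s⟩, hms⟩ := IsLocalizedModule.surj q.primeCompl ι v
      exact ⟨s.1, s.2, m, hms.symm⟩
    · rw [← algebraMap_smul (Localization.AtPrime q) r]
      refine Module.mem_annihilator.mp (hn ?_) v
      rw [← Localization.AtPrime.map_eq_maximalIdeal, ← Ideal.map_pow]
      exact Ideal.mem_map_of_mem _ hr
  let Λ' : Submodule R (LocalizedModule q.primeCompl N) := (LinearMap.range φ).map ι
  have hle : Λ' ≤ LinearMap.range ι := by rintro _ ⟨z, -, rfl⟩; exact ⟨z, rfl⟩
  have step : ∀ {P : Type u} [AddCommGroup P] [Module R P] (ψ : P →ₗ[R] N) (z : Fin l → P),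
      Function.Injective ψ → Submodule.span R (Set.range z) = ⊤ → Good q z → ∀ i : Fin l,
      stdStep q (fun j => ι (ψ (z j))) i =
        ((LinearMap.range ψ).map ι ⊓ vb q (fun j => ι (ψ (z j))) ((i : ℕ) + 1)) ⊔ vb q (fun j => ι (ψ (z j))) i := by
    intro P _ _ ψ z hψ hz hzq i
    apply le_antisymm
    · refine sup_le le_sup_right ((Submodule.span_singleton_le_iff_mem _ _).mpr ?_)
      exact Submodule.mem_sup_left ⟨⟨_, ⟨z i, rfl⟩, rfl⟩, self_mem_vb q _ i⟩
    · refine sup_le ?_ le_sup_left
      rintro _ ⟨⟨_, ⟨m, rfl⟩, rfl⟩, hv⟩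
      have hclear : ∀ v ∈ vb q (fun j => ι (ψ (z j))) ((i : ℕ) + 1), ∃ s ∉ q,
          s • v ∈ (CycDet.spanBefore R P z ((i : ℕ) + 1)).map (ι ∘ₗ ψ) := by
        intro v hv
        change v ∈ Submodule.span _ _ at hv
        induction hv using Submodule.span_induction with
        | mem w hw =>
          obtain ⟨j, hj, rfl⟩ := hw
          exact ⟨1, (Ideal.ne_top_iff_one q).mp (Ideal.IsPrime.ne_top ‹_›), by
            rw [one_smul]; exact ⟨z j, mem_spanBefore z hj, rfl⟩⟩
        | zero => exact ⟨1, (Ideal.ne_top_iff_one q).mp (Ideal.IsPrime.ne_top ‹_›), by rw [smul_zero]; exact zero_mem _⟩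
        | add a b _ _ ha hb =>
          obtain ⟨s, hs, hsa⟩ := ha
          obtain ⟨t, ht, htb⟩ := hb
          refine ⟨s * t, fun hh => (‹q.IsPrime›.mem_or_mem hh).elim hs ht, ?_⟩
          rw [smul_add, mul_comm s t, mul_smul t s a, mul_comm t s, mul_smul s t b]
          exact add_mem (Submodule.smul_mem _ t hsa) (Submodule.smul_mem _ s htb)
        | smul c a _ ha =>
          obtain ⟨s, hs, hsa⟩ := ha
          obtain ⟨r, t, ht, hrt⟩ := exists_num q (V := LocalizedModule q.primeCompl N) c
          refine ⟨s * t, fun hh => (‹q.IsPrime›.mem_or_mem hh).elim hs ht, ?_⟩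
          rw [mul_smul, hrt, smul_comm]
          exact Submodule.smul_mem _ r hsa
      obtain ⟨s, hs, p, hp, hpe⟩ := hclear _ hv
      have hpm : p = s • m := hψ (hι (by rw [map_smul, map_smul]; exact hpe))
      have hm := saturated q z hzq _ s hs m (by rw [spanBefore_of_le z le_rfl, hz]; trivial) (hpm ▸ hp)
      rw [spanBefore_succ, Submodule.mem_sup] at hm
      obtain ⟨a, ha, b, hb, rfl⟩ := hm
      obtain ⟨c, rfl⟩ := Submodule.mem_span_singleton.mp hb
      rw [map_add, map_add]
      refine add_mem (Submodule.mem_sup_left ?_) (Submodule.mem_sup_right ?_)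
      · have h2 : ι (ψ a) ∈ (CycDet.spanBefore R P z i).map (ι ∘ₗ ψ) := ⟨a, ha, rfl⟩
        rw [CycDet.spanBefore, Submodule.map_span, ← Set.image_comp] at h2
        exact Submodule.span_le_restrictScalars R (Localization.AtPrime q) _ h2
      · rw [map_smul, map_smul]
        exact Submodule.smul_mem _ c (Submodule.mem_span_singleton_self _)
  have hfin : dl Λ' (LinearMap.range ι) ≠ ⊤ := by
    obtain ⟨m, hm⟩ := hΛ.nil
    refine dl_ne_top q hq hΛ.fg m hm ?_
    rintro _ ⟨v, rfl⟩
    obtain ⟨s, hs, hsv⟩ := hspX v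
    refine ⟨s, hs, s • v, ?_, map_smul ι s v⟩
    exact Submodule.span_le.mpr (by rintro _ ⟨i, rfl⟩; exact ⟨x i, rfl⟩) hsv
  have htopA : ∀ e : CycDet.Adm (Localization.AtPrime q) (LocalizedModule q.primeCompl N) l,
      NonDeg (R := Localization.AtPrime q) e.1 → vb q e.1 l = ⊤ := fun e he => by
    rw [vb, span_eq_top_of_nonDeg hl e he, Submodule.restrictScalars_top]
  have hbot : ∀ (e : Fin l → LocalizedModule q.primeCompl N) (W : Submodule R (LocalizedModule q.primeCompl N)),
      LinearMap.range ι ⊓ vb q e 0 ≤ W := by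
    rintro e W v ⟨-, hv⟩
    have : v = 0 := by simpa [vb, CycDet.spanBefore] using hv
    rw [this]; exact zero_mem _
  have p1 : psi q (LinearMap.range ι) ex.1 = ((dl Λ' (LinearMap.range ι)).toNat : ℤ) :=
    psi_eq_dl q hle ex.1 (hbot _ _) (htopA ex hndx) (by rw [hex]; exact step φ x hinj hx hxq) hfin
  have p2 : psi q (LinearMap.range ι) ey.1 = 0 := by
    have h1 := psi_eq_dl q (le_refl (LinearMap.range ι)) ey.1 (hbot _ _) (htopA ey hndy) (by
      rw [hey]
      intro i
      have := step LinearMap.id y Function.injective_id hy hyq i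
      rwa [LinearMap.range_id, Submodule.map_top] at this) (by simp [dl_self])
    simpa [dl_self] using h1
  have hord := psi_sub_eq q hq hΛ hl ex ey hndx hndy f h
  rw [p1, p2, sub_zero] at hord
  refine ⟨(dl Λ' (LinearMap.range ι)).toNat, ?_, hord⟩
  rw [ENat.coe_toNat hfin]
  let E : N ≃ₗ[R] ↥(LinearMap.range ι) := LinearEquiv.ofInjective ι hι
  refine (Submodule.Quotient.equiv _ _ E ?_).length_eq
  ext v
  constructor
  · rintro ⟨z, hz, rfl⟩
    exact ⟨z, hz, rfl⟩
  · rintro ⟨z, hz, hzv⟩
    exact ⟨z, hz, Subtype.ext hzv⟩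

end aux

/-- Let R be Noetherian local, 𝔮 a prime with dim R/𝔮 = 1, and φ : M → N a map of finite modules
generated by x₁, …, x_l and y₁, …, y_l respectively, with all successive quotients
⟨x₁..x_i⟩/⟨x₁..x_{i−1}⟩ and ⟨y₁..y_i⟩/⟨y₁..y_{i−1}⟩ isomorphic to R/𝔮. Then φ is injective iff φ_𝔮
is bijective; and in that case, if the symbols of (φ(x_i)) and (y_i) in det_{κ(𝔮)}(N_𝔮) differ by
the scalar f, the length of coker φ equals ord_{R/𝔮}(f). -/
theorem result (R : Type u) [CommRing R] [IsNoetherianRing R] [IsLocalRing R] (q : PrimeSpectrum R) (hq : ringKrullDim (R ⧸ q.asIdeal) = 1) (M N : Type u) [AddCommGroup M] [Module R M] [AddCommGroup N] [Module R N] [Module.Finite R M] [Module.Finite R N] (φ : M →ₗ[R] N) (l : ℕ) (x : Fin l → M) (y : Fin l → N) (hx : Submodule.span R (Set.range x) = ⊤) (hy : Submodule.span R (Set.range y) = ⊤) (hxq : ∀ i : Fin l, Nonempty ((↥(CycDet.spanBefore R M x (i + 1)) ⧸ (CycDet.spanBefore R M x i).submoduleOf (CycDet.spanBefore R M x (i + 1))) ≃ₗ[R] (R ⧸ q.asIdeal))) (hyq : ∀ i : Fin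 l, Nonempty ((↥(CycDet.spanBefore R N y (i + 1)) ⧸ (CycDet.spanBefore R N y i).submoduleOf (CycDet.spanBefore R N y (i + 1))) ≃ₗ[R] (R ⧸ q.asIdeal))) : (Function.Injective φ ↔ Function.Bijective (LocalizedModule.map q.asIdeal.primeCompl φ)) ∧ (Function.Injective φ → ∀ (hl : (Module.length (Localization.AtPrime q.asIdeal) (LocalizedModule q.asIdeal.primeCompl N)).toNat = l) (ex ey : CycDet.Adm (Localization.AtPrime q.asIdeal) (LocalizedModule q.asIdeal.primeCompl N) (Module.length (Localization.AtPrime q.asIdeal) (LocalizedModule q.asIdeal.primeCompl N)).toNat) (f : q.asIdeal.ResidueField), (ex.1 = fun i => LocalizedModule.mkLinearMap q.asIdeal.primeCompl N (φ (x (Fin.cast hl i)))) → (ey.1 = fun i => LocalizedModule.mkLinearMap q.asIdeal.primeCompl N (y (Fin.cast hl i))) → CycDet.symbol (Localization.AtPrime q.asIdeal) (LocalizedModule q.asIdeal.primeCompl N) ex = f • CycDet.symbol (Localization.AtPrime q.asIdeal) (LocalizedModule q.asIdeal.primeCompl N) ey → ∃ n : ℕ, Module.length R (N ⧸ LinearMap.range φ) = n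 ∧ (n : ℤ) = CycAlg.ordFrac (R ⧸ q.asIdeal) q.asIdeal.ResidueField f) := by
  classical
  haveI hfr : q.asIdeal.IsPrime := q.isPrime
  have satM := saturated q.asIdeal x hxq
  have satN := saturated q.asIdeal y hyq
  have lenM : Module.length (Localization.AtPrime q.asIdeal) (LocalizedModule q.asIdeal.primeCompl M) = (l : ℕ∞) :=
    len_good q.asIdeal x hx hxq
  have lenN : Module.length (Localization.AtPrime q.asIdeal) (LocalizedModule q.asIdeal.primeCompl N) = (l : ℕ∞) :=
    len_good q.asIdeal y hy hyq
  have hiff : Function.Injective φ ↔ Function.Bijective (LocalizedModule.map q.asIdeal.primeCompl φ) :=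
    injective_iff q.asIdeal φ (torsionFree q.asIdeal x hx hxq) (lenM.trans lenN.symm) (by rw [lenN]; exact ENat.coe_ne_top l)
  refine ⟨hiff, fun hinj hl ex ey f hex hey hsym => ?_⟩
  subst hl
  simp only [Fin.cast_eq_self] at hex hey
  exact length_coker q.asIdeal hq φ hinj (hiff.mp hinj) x y hx hy hxq hyq lenN.symm ex ey hex hey f hsym

end Groth.Agent.S1853
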