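import Groth.Statements.S18531
import Groth.Agent.H25Euler.ParOne
import Groth.Agent.H25Euler.Saturate

set_option autoImplicit false
universe u
open CategoryTheory CategoryTheory.Limits AlgebraicGeometry Polynomial
open ParSh

namespace Groth.Agent.S18531

open CategoryTheory CategoryTheory.Limits AlgebraicGeometry

/-- The parabolic polynomial as a positive combination of the polynomials of the pieces. -/
theorem parPoly_eval {C : Type*} [Category C] {E : C} (𝓔 : ParSh.Str E)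
    (PX : Fin (𝓔.l + 2) → Polynomial ℚ) (P : Polynomial ℚ) (h0 : PX 0 = P) (x : ℝ) :
    (W4swparbununimod.parPoly 𝓔 PX).eval x = 𝓔.wtX 0 * (W4swparbununimod.rpoly P).eval x +
      ∑ j : Fin (𝓔.l + 1), (𝓔.wtX j.succ - 𝓔.wtX j.castSucc) * (W4swparbununimod.rpoly (PX j.succ)).eval x := by
  have hpoly : W4swparbununimod.parPoly 𝓔 PX = W4swparbununimod.rpoly P -
      ∑ j : Fin (𝓔.l + 1), Polynomial.C (𝓔.wtX j.succ - 𝓔.wtX j.castSucc) *
        W4swparbununimod.rpoly (P - PX j.succ) := by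
    ext n
    refine (Groth.Agent.H25Euler.parPoly_coeff 𝓔 PX P h0 n).trans ?_
    simp only [Polynomial.coeff_sub, Polynomial.finsetSum_coeff, Polynomial.coeff_C_mul, Polynomial.coeff_map,
      eq_ratCast]
  have hsum : ∑ j : Fin (𝓔.l + 1), (𝓔.wtX j.succ - 𝓔.wtX j.castSucc) = 1 - 𝓔.wtX 0 := by
    have e1 := Fin.sum_univ_succ 𝓔.wtX
    have e2 := Fin.sum_univ_castSucc 𝓔.wtX
    rw [ParSh.Str.wtX_last] at e2
    rw [Finset.sum_sub_distrib]
    linarith
  rw [hpoly, Polynomial.eval_sub, Polynomial.eval_finsetSum]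
  simp only [Polynomial.eval_mul, Polynomial.eval_C, W4swparbununimod.rpoly, Polynomial.map_sub, Polynomial.eval_sub,
    mul_sub, Finset.sum_sub_distrib, ← Finset.sum_mul]
  rw [Finset.sum_sub_distrib] at hsum
  rw [hsum]
  ring


/-- Semistability for the reduced parabolic Hilbert polynomial together with semistable flag quotients
gives semistability for the first modified polynomial. Let X be a scheme proper over a field k with
an ample invertible sheaf L, I the ideal of an effective Cartier divisor D on X, d ≥ 1, and E a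
nonzero coherent O_X-module, pure of dimension d, with Supp E ∩ Supp D of topological Krull
dimension less than d, carrying a finite weighted filtration 𝓔 along I by coherent pieces E = E₀ ⊇ ⋯
⊇ E_{l+1} = I·E, weights 0 ≤ w₀ < ⋯ < w_l < 1, w_{l+1} := 1. Let P be the Hilbert polynomial of E,
P_j that of E_j, H_j that of E/E_j with α_{d−1}(H_j) ≠ 0 for 1 ≤ j ≤ l+1, and Par_E = P_{l+1} + Σ_j
w_j (P_j − P_{j+1}); α_i(H) = i!·coefficient of degree i. Assume: (i) for every nonzero coherent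
sub-module W → E whose cokernel is pure of dimension d or zero, with its induced filtration and
Hilbert polynomials Q of W and Q_j of the pieces, Par_W(m)·α_d(P) ≤ Par_E(m)·α_d(Q) for all large
natural m; (ii) for 1 ≤ j ≤ l+1 the quotient E/E_j is semistable of dimension d − 1 with respect to
L (coherent, nonzero, pure, and for each nonzero proper coherent sub-module the cross-multiplied
comparison of Hilbert polynomials holds for large m). Then for every nonzero coherent sub-module ι :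
W → E, with induced filtration W_j = W ∩ E_j and Hilbert polynomials Q of W, Q_j of W_j and K_j of
W/W_j, one has par-P₁(W ⊂ E)(m)·α_d(P) ≤ Par_E(m)·α_d(Q) for all large natural m, where par-P₁(W ⊂
E) = Q − Σ_{j=1}^{l+1} (w_j − w_{j−1})·(α_{d−1}(K_j)/α_{d−1}(H_j))·H_j. Semistability in (i) is
tested on saturated sub-modules with the induced filtration, the class to which the general test
reduces. -/
theorem result (k : Type u) [Field k] (X : Scheme.{u})
    [X.Over (Spec (CommRingCat.of k))] [IsProper (X ↘ Spec (CommRingCat.of k))]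
    (L : X.Modules) (hL : CohB1.IsAmple L) (I : X.IdealSheafData) (hD : FGA.IsEffCartier I)
    (E : X.Modules) (hE : Coh.IsCoh E) (𝓔 : ParSh.Str E) (h𝓔 : 𝓔.Along I)
    (hcoh : ∀ j, Coh.IsCoh ((𝓔.pieceX j : Subobject E) : X.Modules)) (d : ℕ) (hd : 1 ≤ d)
    (hsupp : topologicalKrullDim ↥(CohB1.support E ∩ (I.support : Set X)) < (d : WithBot ℕ∞))
    (h0 : ¬ IsZero E) (hpure : ShStab.IsPure X E d)
    (P : ℚ[X]) (hP : ShStab.IsHilbPoly k X L E P) (PX : Fin (𝓔.l + 2) → ℚ[X])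
    (hPX : ∀ j, ShStab.IsHilbPoly k X L ((𝓔.pieceX j : Subobject E) : X.Modules) (PX j))
    (H : Fin (𝓔.l + 2) → ℚ[X]) (hH : ∀ j, ShStab.IsHilbPoly k X L (cokernel (𝓔.pieceX j).arrow) (H j))
    (hHa : ∀ j : Fin (𝓔.l + 1), StabCat.alpha (d - 1) (H j.succ) ≠ 0)
    (hss : (∀ (W : X.Modules) (ι : W ⟶ E), Mono ι → Coh.IsCoh W → ¬ IsZero W → ShStab.IsPure X (cokernel ι) d →
        ∀ (Q : ℚ[X]) (QX : Fin (𝓔.l + 2) → ℚ[X]), ShStab.IsHilbPoly k X L W Q →
          (∀ j, ShStab.IsHilbPoly k X L (((𝓔.induced ι).pieceX j : Subobject W) : X.Modules) (QX j)) →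
          ∃ M : ℕ, ∀ m : ℕ, M ≤ m →
            (W4swparbununimod.parPoly (𝓔.induced ι) QX).eval (m : ℝ) * (StabCat.alpha d P : ℝ) ≤
              (W4swparbununimod.parPoly 𝓔 PX).eval (m : ℝ) * (StabCat.alpha d Q : ℝ)))
    (hq : ∀ j : Fin (𝓔.l + 1), ShStab.IsSemistable k X L (cokernel (𝓔.pieceX j.succ).arrow) (d - 1))
    {W : X.Modules} (ι : W ⟶ E) [Mono ι] (hW : Coh.IsCoh W)
    (Q : ℚ[X]) (hQ : ShStab.IsHilbPoly k X L W Q) (QH : Fin (𝓔.l + 2) → ℚ[X])
    (hQH : ∀ j, ShStab.IsHilbPoly k X L (cokernel ((𝓔.induced ι).pieceX j).arrow) (QH j)) (hW0 : ¬ IsZero W) :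
    ∃ M : ℕ, ∀ m : ℕ, M ≤ m →
      (W4swparbununimod.parPolyOne 𝓔 d Q QH H).eval (m : ℝ) * (StabCat.alpha d P : ℝ) ≤
        (W4swparbununimod.parPoly 𝓔 PX).eval (m : ℝ) * (StabCat.alpha d Q : ℝ) := by
  have hdim : topologicalKrullDim (CohB1.support E) = (d : WithBot ℕ∞) := hpure E (𝟙 E) inferInstance hE h0
  have hlt : topologicalKrullDim (CohB1.support E) < ((d + 1 : ℕ) : WithBot ℕ∞) := by
    rw [hdim]; exact_mod_cast Nat.lt_succ_self d
  have hcast : ∀ (G : ℚ[X]) (m : ℕ), (W4swparbununimod.rpoly G).eval (m : ℝ) = ((G.eval (m : ℚ) : ℚ) : ℝ) :=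
    fun G m => by
      rw [show ((m : ℝ)) = (Rat.castHom ℝ) (m : ℚ) by simp, Polynomial.eval_map_apply]
      rfl
  obtain ⟨W', ι', φ, hι', hφι, hW', hdimφ, hpureq⟩ :=
    Groth.Agent.H25Euler.exists_saturation k hL hE hW ι hpure h0
  haveI := hι'
  haveI : Mono φ := by
    haveI : Mono (φ ≫ ι') := by rw [hφι]; infer_instance
    exact mono_of_mono φ ι'
  have hW'0 : ¬ IsZero W' := fun hz => hW0 (IsZero.of_mono φ hz)
  have hc : ∀ {V : X.Modules} (u : V ⟶ E), Coh.IsCoh V → ∀ j,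
      Coh.IsCoh (((𝓔.induced u).pieceX j : Subobject V) : X.Modules) := fun u hV j => by
    erw [Groth.Agent.H25Euler.induced_pieceX]
    exact Groth.Agent.H25Euler.isCoh_pullback_sub k hL hE hV _ (hcoh j) u
  have hex : ∀ V : X.Modules, Coh.IsCoh V → CohB1.support V ⊆ CohB1.support E →
      ∃ R : ℚ[X], ShStab.IsHilbPoly k X L V R := fun V hV hsub =>
    Groth.Agent.H25Euler.exists_hilbPoly (k := k) hL hV (Groth.Agent.H25Euler.dim_lt_of_subset hsub hlt)
  obtain ⟨Q', hQ'⟩ := hex W' hW' (Groth.Agent.H25Euler.support_subset_of_mono ι')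
  choose QX' hQX' using fun j => hex _ (hc ι' hW' j)
    ((Groth.Agent.H25Euler.support_subset_of_mono ((𝓔.induced ι').pieceX j).arrow).trans
      (Groth.Agent.H25Euler.support_subset_of_mono ι'))
  let QX : Fin (𝓔.l + 2) → ℚ[X] := fun j => Q - QH j
  have hQX := Groth.Agent.H25Euler.hilb_induced_of_quot (k := k) hL hE hW hcoh ι hQ hQH
  have hq' : ∀ j : Fin (𝓔.l + 1),
      StabCat.IsSS Coh.IsCoh (ShStab.IsHilbPoly k X L) (d - 1) (cokernel (𝓔.pieceX j.succ).arrow) :=
    fun j => (hq j).2.2.2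
  obtain ⟨M₁, hM₁⟩ := Groth.Agent.H25Euler.parPolyOne_le (k := k) hL hE h𝓔 hcoh hd hsupp hH hHa hq' ι hW hQ hQH hQX
  obtain ⟨M₂, hM₂⟩ := hss W' ι' hι' hW' hW'0 hpureq Q' QX' hQ' hQX'
  -- monotonicity of the pieces
  have hpiece : ∀ j, ∃ N : ℕ, ∀ m, N ≤ m → (QX j).eval (m : ℚ) ≤ (QX' j).eval (m : ℚ) := fun j => by
    have hu : ∃ u : (((𝓔.induced ι).pieceX j : Subobject W) : X.Modules) ⟶
        (((𝓔.induced ι').pieceX j : Subobject W') : X.Modules), Mono u := by
      erw [Groth.Agent.H25Euler.induced_pieceX, Groth.Agent.H25Euler.induced_pieceX]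
      have sq := Subobject.isPullback ι (𝓔.pieceX j)
      have sq' := Subobject.isPullback ι' (𝓔.pieceX j)
      refine ⟨sq'.lift (Subobject.pullbackπ ι _) (((Subobject.pullback ι).obj (𝓔.pieceX j)).arrow ≫ φ)
        (sq.w.trans (by rw [Category.assoc, hφι])), ?_⟩
      have h : sq'.lift (Subobject.pullbackπ ι _) (((Subobject.pullback ι).obj (𝓔.pieceX j)).arrow ≫ φ)
        (sq.w.trans (by rw [Category.assoc, hφι])) ≫ ((Subobject.pullback ι').obj (𝓔.pieceX j)).arrow =
          ((Subobject.pullback ι).obj (𝓔.pieceX j)).arrow ≫ φ := sq'.lift_snd _ _ _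
      exact @mono_of_mono _ _ _ _ _ _ ((Subobject.pullback ι').obj (𝓔.pieceX j)).arrow (by rw [h]; infer_instance)
    obtain ⟨u, hu⟩ := hu
    haveI := hu
    exact (Groth.Agent.H25Euler.polyLE_of_mono (k := k) hL (hc ι hW j) (hc ι' hW' j) u (hQX j) (hQX' j)).1
  obtain ⟨hWle, hcok⟩ := Groth.Agent.H25Euler.polyLE_of_mono (k := k) hL hW hW' φ hQ hQ'
  obtain ⟨M₃, hM₃⟩ := hWle
  have hα : StabCat.alpha d Q = StabCat.alpha d Q' := by
    have h := Groth.Agent.H25Euler.coeff_hilbPoly_eq_zero (k := k) hL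
      (Groth.Agent.H10Coh.isCoh_cokernel φ hW.1 hW') hcok hdimφ (le_refl d)
    rw [Polynomial.coeff_sub, sub_eq_zero] at h
    simp only [StabCat.alpha, h]
  choose M₄ hM₄ using hpiece
  have h0Q := (Groth.Agent.H25Euler.hilb_induced (k := k) hL hE h𝓔 hcoh hsupp ι hW hQ hQX).1
  have h0Q' := (Groth.Agent.H25Euler.hilb_induced (k := k) hL hE h𝓔 hcoh hsupp ι' hW' hQ' hQX').1
  have hP0 : (0 : ℝ) ≤ (StabCat.alpha d P : ℝ) := by
    refine Rat.cast_nonneg.2 (mul_nonneg (Nat.cast_nonneg _) (Groth.Agent.H25Euler.coeff_nonneg_of_eventually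
      (fun n hn => ?_) (Groth.Agent.H25Euler.eval_nonneg (k := k) hL hE hP)))
    exact Groth.Agent.H25Euler.coeff_hilbPoly_eq_zero (k := k) hL hE hP hlt (show d + 1 ≤ n from hn)
  refine ⟨max (max M₁ M₂) (max M₃ (Finset.univ.sup M₄)), fun m hm => ?_⟩
  have h1 := hM₁ m (by omega)
  have h2 := hM₂ m (by omega)
  have h3 : (W4swparbununimod.parPoly (𝓔.induced ι) QX).eval (m : ℝ) ≤
      (W4swparbununimod.parPoly (𝓔.induced ι') QX').eval (m : ℝ) := by
    rw [parPoly_eval (𝓔.induced ι) QX Q h0Q, parPoly_eval (𝓔.induced ι') QX' Q' h0Q']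
    refine add_le_add (mul_le_mul_of_nonneg_left ?_ ?_) (Finset.sum_le_sum fun j _ =>
      mul_le_mul_of_nonneg_left ?_ (Groth.Agent.H25Euler.weights_nonneg 𝓔 j))
    · rw [hcast, hcast]; exact Rat.cast_le.2 (hM₃ m (by omega))
    · exact 𝓔.wt_nonneg.trans_eq (𝓔.wtX_castSucc 0).symm
    · rw [hcast, hcast]
      exact Rat.cast_le.2 (hM₄ j.succ m ((Finset.le_sup (Finset.mem_univ j.succ)).trans ((le_max_right _ _).trans ((le_max_right _ _).trans hm))))
  rw [hα]
  exact (mul_le_mul_of_nonneg_right (h1.trans h3) hP0).trans h2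

end Groth.Agent.S18531
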