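import Groth.Statements.S18532
import Groth.Agent.H25Euler.ParPoly

set_option autoImplicit false
universe u
open CategoryTheory CategoryTheory.Limits AlgebraicGeometry Polynomial
open ParSh

namespace Groth.Agent.S18532

/-- The comparison of the second and first modified parabolic Hilbert polynomials for one test subsheaf.
Let X be a scheme proper over a field k with an ample invertible sheaf L, I the ideal of an
effective Cartier divisor D on X, d ≥ 1, and E a nonzero coherent O_X-module, pure of dimension d,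
with Supp E ∩ Supp D of topological Krull dimension less than d, carrying a finite weighted
filtration 𝓔 along I by coherent pieces E = E₀ ⊇ ⋯ ⊇ E_{l+1} = I·E, weights 0 ≤ w₀ < ⋯ < w_l < 1,
w_{l+1} := 1. Let P be the Hilbert polynomial of E, P_j of E_j, H_j of E/E_j with α_{d−1}(H_j) ≠ 0
for 1 ≤ j ≤ l+1, and Par_E = P_{l+1} + Σ_j w_j (P_j − P_{j+1}). Let ι : W → E be a monomorphism from
a coherent module W with induced filtration W_j = W ∩ E_j, Q the Hilbert polynomial of W and K_j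
that of W/W_j; put par-P₁(W ⊂ E) = Q − Σ_{j=1}^{l+1} (w_j − w_{j−1})·(α_{d−1}(K_j)/α_{d−1}(H_j))·H_j
and par-P₂(W ⊂ E)(x, y) = Q(x) − Σ_{j=1}^{l+1} (w_j − w_{j−1})·(K_j(y)/H_j(y))·H_j(x). Then: (i) if
there is M such that for every m ≥ M there is N with par-P₂(W ⊂ E)(m, n)·P(n) ≤ Par_E(m)·Q(n) for
all n ≥ N, then par-P₁(W ⊂ E)(m)·α_d(P) ≤ Par_E(m)·α_d(Q) for all large m; (ii) if par-P₁(W ⊂
E)(m)·α_d(P) < Par_E(m)·α_d(Q) for all large m, then there is M such that for every m ≥ M there is N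
with par-P₂(W ⊂ E)(m, n)·P(n) < Par_E(m)·Q(n) for all n ≥ N. With W running over the nonzero
saturated (proper) sub-modules this is the published implication p₂-semistable ⇒ p₁-semistable,
p₁-stable ⇒ p₂-stable; the further implications to and from parabolic slope-(semi)stability in the
published statement are not part of this row. -/
theorem result (k : Type u) [Field k] (X : Scheme.{u})
    [X.Over (Spec (CommRingCat.of k))] [IsProper (X ↘ Spec (CommRingCat.of k))]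
    (L : X.Modules) (hL : CohB1.IsAmple L) (I : X.IdealSheafData) (hD : FGA.IsEffCartier I)
    (E : X.Modules) (hE : Coh.IsCoh E) (𝓔 : ParSh.Str E) (h𝓔 : 𝓔.Along I)
    (hcoh : ∀ j, Coh.IsCoh ((𝓔.pieceX j : Subobject E) : X.Modules)) (d : ℕ) (hd : 1 ≤ d)
    (hsupp : topologicalKrullDim ↥(CohB1.support E ∩ (I.support : Set X)) < (d : WithBot ℕ∞))
    (h0 : ¬ IsZero E) (hpure : ShStab.IsPure X E d)
    (P : ℚ[X]) (hP : ShStab.IsHilbPoly k X L E P) (PX : Fin (𝓔.l + 2) → ℚ[X])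
    (hPX : ∀ j, ShStab.IsHilbPoly k X L ((𝓔.pieceX j : Subobject E) : X.Modules) (PX j))
    (H : Fin (𝓔.l + 2) → ℚ[X]) (hH : ∀ j, ShStab.IsHilbPoly k X L (cokernel (𝓔.pieceX j).arrow) (H j))
    (hHa : ∀ j : Fin (𝓔.l + 1), StabCat.alpha (d - 1) (H j.succ) ≠ 0)
    {W : X.Modules} (ι : W ⟶ E) [Mono ι] (hW : Coh.IsCoh W)
    (Q : ℚ[X]) (hQ : ShStab.IsHilbPoly k X L W Q) (QH : Fin (𝓔.l + 2) → ℚ[X])
    (hQH : ∀ j, ShStab.IsHilbPoly k X L (cokernel ((𝓔.induced ι).pieceX j).arrow) (QH j)) :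
    ((∃ M : ℕ, ∀ m : ℕ, M ≤ m → ∃ N : ℕ, ∀ n : ℕ, N ≤ n →
        (((Q.eval (m : ℚ) : ℚ) : ℝ) -
            ∑ j : Fin (𝓔.l + 1), (𝓔.wtX j.succ - 𝓔.wtX j.castSucc) *
              ((((QH j.succ).eval (n : ℚ) / (H j.succ).eval (n : ℚ) : ℚ) : ℝ) * (((H j.succ).eval (m : ℚ) : ℚ) : ℝ))) *
          ((P.eval (n : ℚ) : ℚ) : ℝ) ≤
        (W4swparbununimod.parPoly 𝓔 PX).eval (m : ℝ) * ((Q.eval (n : ℚ) : ℚ) : ℝ)) →
      ∃ M : ℕ, ∀ m : ℕ, M ≤ m →
        (W4swparbununimod.parPolyOne 𝓔 d Q QH H).eval (m : ℝ) * (StabCat.alpha d P : ℝ) ≤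
          (W4swparbununimod.parPoly 𝓔 PX).eval (m : ℝ) * (StabCat.alpha d Q : ℝ)) ∧
    ((∃ M : ℕ, ∀ m : ℕ, M ≤ m →
        (W4swparbununimod.parPolyOne 𝓔 d Q QH H).eval (m : ℝ) * (StabCat.alpha d P : ℝ) <
          (W4swparbununimod.parPoly 𝓔 PX).eval (m : ℝ) * (StabCat.alpha d Q : ℝ)) →
      ∃ M : ℕ, ∀ m : ℕ, M ≤ m → ∃ N : ℕ, ∀ n : ℕ, N ≤ n →
        (((Q.eval (m : ℚ) : ℚ) : ℝ) -
            ∑ j : Fin (𝓔.l + 1), (𝓔.wtX j.succ - 𝓔.wtX j.castSucc) *
              ((((QH j.succ).eval (n : ℚ) / (H j.succ).eval (n : ℚ) : ℚ) : ℝ) * (((H j.succ).eval (m : ℚ) : ℚ) : ℝ))) *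
          ((P.eval (n : ℚ) : ℚ) : ℝ) <
        (W4swparbununimod.parPoly 𝓔 PX).eval (m : ℝ) * ((Q.eval (n : ℚ) : ℚ) : ℝ)) := by
  classical
  have hi : ∀ (F : X.Modules) (G : ℚ[X]), Coh.IsCoh F → ShStab.IsHilbPoly k X L F G →
      CohB1.support F ⊆ CohB1.support E ∩ (I.support : Set X) → ∀ n, d - 1 < n → ((W4swparbununimod.rpoly G).coeff n) = 0 := by
    intro F G hF hG hsub n hn
    rw [Polynomial.coeff_map, Groth.Agent.H25Euler.coeff_hilbPoly_eq_zero (k := k) hL hF hG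
      (lt_of_le_of_lt (Topology.IsInducing.topologicalKrullDim_le
        (f := Set.inclusion hsub) (Topology.IsEmbedding.inclusion _).isInducing) hsupp) (by omega), map_zero]
  have hH' := fun j => hi _ (H j) (Groth.Agent.H10Coh.isCoh_cokernel _ (hcoh j).1 hE) (hH j)
    (Groth.Agent.H25Euler.support_cokernel_piece h𝓔 j)
  have hcW : ∀ j, Coh.IsCoh (((𝓔.induced ι).pieceX j : Subobject W) : X.Modules) := fun j => by
    erw [Groth.Agent.H25Euler.induced_pieceX]
    exact Groth.Agent.H25Euler.isCoh_pullback_sub k hL hE hW _ (hcoh j) ι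
  have hK' := fun j => hi _ (QH j) (Groth.Agent.H10Coh.isCoh_cokernel _ (hcW j).1 hW) (hQH j)
    (Groth.Agent.H25Euler.support_cokernel_induced h𝓔 ι j)
  -- the support of `E` has dimension `d`
  have hdim : topologicalKrullDim (CohB1.support E) = (d : WithBot ℕ∞) := hpure E (𝟙 E) inferInstance hE h0
  have hlt : topologicalKrullDim (CohB1.support E) < ((d + 1 : ℕ) : WithBot ℕ∞) := by
    rw [hdim]; exact_mod_cast Nat.lt_succ_self d
  have hP' : ∀ n, d < n → (W4swparbununimod.rpoly P).coeff n = 0 := fun n hn => by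
    rw [Polynomial.coeff_map, Groth.Agent.H25Euler.coeff_hilbPoly_eq_zero (k := k) hL hE hP hlt hn, map_zero]
  have hQ' : ∀ n, d < n → (W4swparbununimod.rpoly Q).coeff n = 0 := fun n hn => by
    rw [Polynomial.coeff_map, Groth.Agent.H25Euler.coeff_hilbPoly_eq_zero (k := k) hL hW hQ
      (lt_of_le_of_lt (Topology.IsInducing.topologicalKrullDim_le
        (f := Set.inclusion (Groth.Agent.H25Euler.support_subset_of_mono ι))
        (Topology.IsEmbedding.inclusion _).isInducing) hlt) hn, map_zero]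
  have hcast : ∀ (G : ℚ[X]) (m : ℕ), ((G.eval (m : ℚ) : ℚ) : ℝ) = (W4swparbununimod.rpoly G).eval (m : ℝ) := fun G m => by
    rw [show ((m : ℝ)) = (Rat.castHom ℝ) (m : ℚ) by simp, Polynomial.eval_map_apply]
    rfl
  -- the limit in `n`
  let A : ℕ → ℕ → ℝ := fun m n => (((Q.eval (m : ℚ) : ℚ) : ℝ) -
      ∑ j : Fin (𝓔.l + 1), (𝓔.wtX j.succ - 𝓔.wtX j.castSucc) *
        ((((QH j.succ).eval (n : ℚ) / (H j.succ).eval (n : ℚ) : ℚ) : ℝ) * (((H j.succ).eval (m : ℚ) : ℚ) : ℝ)))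
  have hlim : ∀ m : ℕ, Filter.Tendsto (fun n : ℕ =>
      (A m n * ((P.eval (n : ℚ) : ℚ) : ℝ) -
        (W4swparbununimod.parPoly 𝓔 PX).eval (m : ℝ) * ((Q.eval (n : ℚ) : ℚ) : ℝ)) / (n : ℝ) ^ d) Filter.atTop
      (nhds ((W4swparbununimod.parPolyOne 𝓔 d Q QH H).eval (m : ℝ) * (W4swparbununimod.rpoly P).coeff d -
        (W4swparbununimod.parPoly 𝓔 PX).eval (m : ℝ) * (W4swparbununimod.rpoly Q).coeff d)) := by
    intro m
    have hA : Filter.Tendsto (fun n : ℕ => A m n) Filter.atTop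
        (nhds ((W4swparbununimod.parPolyOne 𝓔 d Q QH H).eval (m : ℝ))) := by
      have he : (W4swparbununimod.parPolyOne 𝓔 d Q QH H).eval (m : ℝ) = ((Q.eval (m : ℚ) : ℚ) : ℝ) -
          ∑ j : Fin (𝓔.l + 1), (𝓔.wtX j.succ - 𝓔.wtX j.castSucc) *
            ((((StabCat.alpha (d - 1) (QH j.succ) / StabCat.alpha (d - 1) (H j.succ) : ℚ)) : ℝ) *
              (((H j.succ).eval (m : ℚ) : ℚ) : ℝ)) := by
        simp only [W4swparbununimod.parPolyOne, Polynomial.eval_sub, Polynomial.eval_finsetSum,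
          Polynomial.eval_mul, Polynomial.eval_C, hcast, mul_assoc]
      rw [he]
      refine tendsto_const_nhds.sub (tendsto_finsetSum _ fun j _ => (Filter.Tendsto.mul_const _ ?_).const_mul _)
      have hne := hHa j
      simp only [StabCat.alpha, mul_ne_zero_iff] at hne
      have ht := (Groth.Agent.H25Euler.tendsto_eval_div _ (d - 1) (hK' j.succ)).div
        (Groth.Agent.H25Euler.tendsto_eval_div _ (d - 1) (hH' j.succ))
        (by rw [Polynomial.coeff_map]; simpa using hne.2)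
      have hval : ((StabCat.alpha (d - 1) (QH j.succ) / StabCat.alpha (d - 1) (H j.succ) : ℚ) : ℝ) =
          (W4swparbununimod.rpoly (QH j.succ)).coeff (d - 1) / (W4swparbununimod.rpoly (H j.succ)).coeff (d - 1) := by
        simp only [StabCat.alpha, Polynomial.coeff_map, eq_ratCast]
        rw [mul_div_mul_left _ _ hne.1]; push_cast; rfl
      rw [hval]
      refine ht.congr' ?_
      filter_upwards [Filter.eventually_gt_atTop 0] with n hn
      simp only [Pi.div_apply, Rat.cast_div, hcast]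
      rw [div_div_div_cancel_right₀ (pow_ne_zero _ (Nat.cast_ne_zero.2 hn.ne'))]
    have h1 := (hA.mul (Groth.Agent.H25Euler.tendsto_eval_div _ d hP')).sub
      ((Groth.Agent.H25Euler.tendsto_eval_div _ d hQ').const_mul ((W4swparbununimod.parPoly 𝓔 PX).eval (m : ℝ)))
    refine h1.congr' (Filter.Eventually.of_forall fun n => ?_)
    simp only [← hcast]
    rw [sub_div, mul_div_assoc, mul_div_assoc]
  have hα : ∀ G : ℚ[X], ((StabCat.alpha d G : ℚ) : ℝ) = (d.factorial : ℝ) * (W4swparbununimod.rpoly G).coeff d := fun G => by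
    simp [StabCat.alpha]
  have hfac : (0 : ℝ) < (d.factorial : ℝ) := Nat.cast_pos.2 d.factorial_pos
  constructor
  · rintro ⟨M, hM⟩
    refine ⟨M, fun m hm => ?_⟩
    obtain ⟨N, hN⟩ := hM m hm
    have h1 := le_of_tendsto (hlim m) (Filter.eventually_atTop.2 ⟨N, fun n hn =>
      div_nonpos_of_nonpos_of_nonneg (sub_nonpos.2 (hN n hn)) (by positivity)⟩)
    rw [hα, hα]
    nlinarith [mul_le_mul_of_nonneg_left h1 hfac.le]
  · rintro ⟨M, hM⟩
    refine ⟨M, fun m hm => ?_⟩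
    have h1 := hM m hm
    rw [hα, hα] at h1
    have h2 : (W4swparbununimod.parPolyOne 𝓔 d Q QH H).eval (m : ℝ) * (W4swparbununimod.rpoly P).coeff d -
        (W4swparbununimod.parPoly 𝓔 PX).eval (m : ℝ) * (W4swparbununimod.rpoly Q).coeff d < 0 := by
      nlinarith
    obtain ⟨N, hN⟩ := Filter.eventually_atTop.1
      (((hlim m).eventually (Iio_mem_nhds h2)).and (Filter.eventually_gt_atTop 0))
    refine ⟨N, fun n hn => ?_⟩
    obtain ⟨h3, h4⟩ := hN n hn
    have h5 := (div_lt_iff₀ (pow_pos (Nat.cast_pos.2 h4) d)).1 h3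
    rw [zero_mul, sub_neg] at h5
    exact h5

end Groth.Agent.S18532
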