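import Groth.Statements.S18534
import Groth.Agent.H24Adic.CompletionMap
import Groth.Agent.H05EGA4.DepthMisc
import Mathlib
-- import your own Groth.Agent.* helpers here

set_option autoImplicit false
set_option linter.style.haveILetI false
set_option backward.isDefEq.respectTransparency false
set_option maxHeartbeats 1000000
set_option synthInstance.maxHeartbeats 200000
universe u
open scoped Pointwise
open EtAlg

open IsLocalRing

namespace Groth.Agent.S18534

section Core

variable {A B : Type u} [CommRing A] [IsLocalRing A] [IsNoetherianRing A] [CommRing B] [Algebra A B]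
  [Module.Finite A B]

/-- An automorphism carrying one ideal to another carries powers to powers. -/
theorem mem_pow_iff (e : B ≃ₐ[A] B) {Q Q' : Ideal B} (h : ∀ b, e b ∈ Q' ↔ b ∈ Q) (n : ℕ) (b : B) :
    e b ∈ Q' ^ n ↔ b ∈ Q ^ n := by
  have hQ : Q'.comap (e : B ≃+* B) = Q := by ext z; exact h z
  have hQ' : Q.map (e : B ≃+* B) = Q' := by
    rw [← hQ, Ideal.map_comap_of_surjective _ (e : B ≃+* B).surjective]
  rw [← hQ', ← Ideal.map_pow]
  constructor
  · intro hb
    obtain ⟨z, hz, he⟩ := (Ideal.mem_map_iff_of_surjective _ (e : B ≃+* B).surjective).1 hb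
    rwa [(e : B ≃+* B).injective (he.trans rfl : (e : B ≃+* B) z = (e : B ≃+* B) b)] at hz
  · exact fun hb => Ideal.mem_map_of_mem _ hb

/-- Maximal ideals of a finite algebra over a local ring, finitely many, control the adic topology. -/
theorem exists_inf_pow_le [Finite (MaximalSpectrum B)] (m : ℕ) :
    ∃ k, ∀ b : B, (∀ Q : Ideal B, Q.IsMaximal → b ∈ Q ^ k) → b ∈ ((maximalIdeal A).map (algebraMap A B)) ^ m := by
  classical
  haveI : IsNoetherianRing B := IsNoetherianRing.of_finite A B
  haveI := Fintype.ofFinite (MaximalSpectrum B)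
  let P := (maximalIdeal A).map (algebraMap A B)
  let J : Ideal B := ⨅ Q ∈ (Finset.univ : Finset (MaximalSpectrum B)), Q.asIdeal
  have hJ : J ≤ P.radical := by
    rw [Ideal.radical_eq_sInf]
    refine le_sInf fun p ⟨hp, hpp⟩ => ?_
    haveI := hpp
    haveI : p.IsMaximal := by
      refine Ideal.isMaximal_of_isIntegral_of_isMaximal_comap (R := A) p ?_
      rw [← le_antisymm (Ideal.map_le_iff_le_comap.1 hp) (le_maximalIdeal (Ideal.IsPrime.comap _).ne_top)]
      exact maximalIdeal.isMaximal A
    exact iInf₂_le (⟨p, inferInstance⟩ : MaximalSpectrum B) (Finset.mem_univ _)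
  obtain ⟨N, hN⟩ := Ideal.exists_pow_le_of_le_radical_of_fg hJ (IsNoetherian.noetherian J)
  refine ⟨N * m, fun b hb => ?_⟩
  have hpair : ∀ n : ℕ, (↑(Finset.univ : Finset (MaximalSpectrum B)) : Set (MaximalSpectrum B)).Pairwise
      (Function.onFun IsCoprime fun Q : MaximalSpectrum B => Q.asIdeal ^ n) := fun n Q _ Q' _ hne =>
    (Ideal.isCoprime_of_isMaximal (fun e => hne (MaximalSpectrum.ext e))).pow
  have hbJ : b ∈ J ^ (N * m) := by
    have h1 : J = ∏ Q : MaximalSpectrum B, Q.asIdeal := by
      have := hpair 1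
      simp only [pow_one] at this
      exact (Ideal.prod_eq_iInf_of_pairwise_isCoprime this).symm
    rw [h1, ← Finset.prod_pow, Ideal.prod_eq_iInf_of_pairwise_isCoprime (hpair _)]
    simp only [Submodule.mem_iInf]
    exact fun Q _ => hb _ Q.isMaximal
  rw [pow_mul] at hbJ
  exact Ideal.pow_right_mono hN m hbJ

/-- Elements of a finite free submodule `L` divisible by `m ^ n` are divisible in `L` up to a shift. -/
theorem exists_artinRees {M N : Type u} [AddCommGroup M] [Module A M] [Module.Finite A M] [AddCommGroup N] [Module A N]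
    (ψ : N →ₗ[A] M) : ∃ c, ∀ n z, ψ z ∈ (maximalIdeal A ^ (n + c)) • (⊤ : Submodule A M) →
      ∃ z' ∈ (maximalIdeal A ^ n) • (⊤ : Submodule A N), ψ z' = ψ z := by
  obtain ⟨c, hc⟩ := Ideal.exists_pow_inf_eq_pow_smul (maximalIdeal A) (LinearMap.range ψ)
  refine ⟨c, fun n z hz => ?_⟩
  have h1 : ψ z ∈ maximalIdeal A ^ (n + c) • (⊤ : Submodule A M) ⊓ LinearMap.range ψ := ⟨hz, z, rfl⟩
  rw [hc (n + c) (by omega), Nat.add_sub_cancel] at h1
  have h2 : maximalIdeal A ^ n • (maximalIdeal A ^ c • (⊤ : Submodule A M) ⊓ LinearMap.range ψ) ≤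
      (maximalIdeal A ^ n • (⊤ : Submodule A N)).map ψ := by
    rw [Submodule.map_smul'', Submodule.map_top]
    exact Submodule.smul_mono le_rfl inf_le_right
  exact h2 h1

variable {C : Type u} [CommRing C] [IsLocalRing C] {G : Type u} [Group G] [Finite G]
  (σ : G →* (B ≃ₐ[A] B)) (ι : B →+* C) (Q : Ideal B) [Q.IsMaximal]
  (hpow : ∀ n b, ι b ∈ maximalIdeal C ^ n ↔ b ∈ Q ^ n)
  (htr : ∀ Q' : Ideal B, Q'.IsMaximal → ∃ g, ∀ b, σ g b ∈ Q' ↔ b ∈ Q)

include htr in
theorem finite_maximalSpectrum : Finite (MaximalSpectrum B) := by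
  choose g hg using fun Q' : MaximalSpectrum B => htr Q'.asIdeal Q'.isMaximal
  refine Finite.of_injective g fun Q₁ Q₂ h => MaximalSpectrum.ext (Ideal.ext fun z => ?_)
  obtain ⟨b, rfl⟩ := (σ (g Q₁)).surjective z
  rw [hg Q₁ b, ← hg Q₂ b, h]

omit [IsNoetherianRing A] in
theorem map_pow_le (hpow : ∀ n b, ι b ∈ maximalIdeal C ^ n ↔ b ∈ Q ^ n) (n : ℕ) {z : B}
    (hz : z ∈ ((maximalIdeal A).map (algebraMap A B)) ^ n) : ι z ∈ maximalIdeal C ^ n := by
  refine (hpow n z).2 (Ideal.pow_right_mono ?_ n hz)
  have hm : (Q.comap (algebraMap A B)).IsMaximal := Ideal.isMaximal_comap_of_isIntegral_of_isMaximal Q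
  rw [Ideal.map_le_iff_le_comap, eq_maximalIdeal hm]

include hpow htr in
/-- Invariant elements of the completion are approximated by the base ring. -/
theorem exists_approx (hinv : ∀ b : B, (∀ g, σ g b = b) → b ∈ Set.range (algebraMap A B))
    (x : C) (hdense : ∀ n, ∃ b, x - ι b ∈ maximalIdeal C ^ n)
    (hfix : ∀ h, (∀ b, σ h b ∈ Q ↔ b ∈ Q) → ∀ n b, x - ι b ∈ maximalIdeal C ^ n → x - ι (σ h b) ∈ maximalIdeal C ^ n)
    (m : ℕ) : ∃ r : A, x - ι (algebraMap A B r) ∈ maximalIdeal C ^ m := by
  classical
  haveI := finite_maximalSpectrum σ Q htr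
  haveI := Fintype.ofFinite (MaximalSpectrum B)
  haveI := Fintype.ofFinite G
  choose g hg using fun Q' : MaximalSpectrum B => htr Q'.asIdeal Q'.isMaximal
  let ψ : B →ₗ[A] (G → B) := LinearMap.pi fun h => (σ h).toLinearMap - LinearMap.id
  obtain ⟨c, hc⟩ := exists_artinRees ψ
  obtain ⟨k₀, hk₀⟩ := exists_inf_pow_le (A := A) (B := B) (m + c)
  let k := max k₀ m
  obtain ⟨b, hb⟩ := hdense k
  let qs : MaximalSpectrum B := ⟨Q, inferInstance⟩
  obtain ⟨s, hs⟩ := Ideal.exists_forall_sub_mem_ideal (I := fun Q' : MaximalSpectrum B => Q'.asIdeal ^ k)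
    (fun Q₁ Q₂ hne => (Ideal.isCoprime_of_isMaximal (fun e => hne (MaximalSpectrum.ext e))).pow)
    (fun Q' => if Q' = qs then b else 0)
  have hsQ : s - b ∈ Q ^ k := by simpa [qs] using hs qs
  have hs0 : ∀ Q' : MaximalSpectrum B, Q' ≠ qs → s ∈ Q'.asIdeal ^ k := fun Q' h => by simpa [h] using hs Q'
  have hxs : x - ι s ∈ maximalIdeal C ^ k := by
    rw [show x - ι s = (x - ι b) - ι (s - b) by rw [map_sub]; ring]
    exact Ideal.sub_mem _ hb ((hpow k _).2 hsQ)
  let u : B := ∑ Q' : MaximalSpectrum B, σ (g Q') s
  -- the ideal comap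
  have hmax : ∀ e : G, ∀ Q' : Ideal B, Q'.IsMaximal → (Q'.comap (σ e).toRingEquiv).IsMaximal := fun e Q' hQ' => by
    haveI := hQ'
    exact Ideal.comap_isMaximal_of_surjective _ (σ e).surjective
  have hu : ∀ Q' : MaximalSpectrum B, u - σ (g Q') s ∈ Q'.asIdeal ^ k := fun Q' => by
    show (∑ Q₁ : MaximalSpectrum B, σ (g Q₁) s) - _ ∈ _
    rw [← Finset.sum_erase_eq_sub (Finset.mem_univ Q')]
    refine Ideal.sum_mem _ fun Q₁ hQ₁ => ?_
    let R₁ : MaximalSpectrum B := ⟨Q'.asIdeal.comap (σ (g Q₁)).toRingEquiv, hmax _ _ Q'.isMaximal⟩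
    have h1 : R₁ ≠ qs := fun h => by
      refine (Finset.ne_of_mem_erase hQ₁) (MaximalSpectrum.ext (Ideal.ext fun z => ?_))
      obtain ⟨z, rfl⟩ := (σ (g Q₁)).surjective z
      rw [hg Q₁ z]
      exact (SetLike.ext_iff.1 (congrArg MaximalSpectrum.asIdeal h) z).symm
    exact (mem_pow_iff (σ (g Q₁)) (Q := R₁.asIdeal) (fun z => Iff.rfl) k s).2 (hs0 R₁ h1)
  have hψ : ∀ h : G, σ h u - u ∈ ((maximalIdeal A).map (algebraMap A B)) ^ (m + c) := fun h => by
    refine hk₀ _ fun Q' hQ' => Ideal.pow_le_pow_right (le_max_left k₀ m) ?_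
    let q' : MaximalSpectrum B := ⟨Q', hQ'⟩
    let q₁ : MaximalSpectrum B := ⟨Q'.comap (σ h).toRingEquiv, hmax _ _ hQ'⟩
    have e1 : σ h (u - σ (g q₁) s) ∈ Q' ^ k :=
      (mem_pow_iff (σ h) (Q := q₁.asIdeal) (fun z => Iff.rfl) k _).2 (hu q₁)
    let d : G := (g q')⁻¹ * (h * g q₁)
    have hd : ∀ z, σ (g q') (σ d z) = σ h (σ (g q₁) z) := fun z => by
      show (σ (g q') * σ d) z = (σ h * σ (g q₁)) z
      rw [← map_mul, ← map_mul, mul_inv_cancel_left]
    have hdQ : ∀ z, σ d z ∈ Q ↔ z ∈ Q := fun z => by
      rw [← hg q' (σ d z), hd, ← hg q₁ z]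
      rfl
    have e2 : σ d s - s ∈ Q ^ k := by
      refine (hpow k _).1 ?_
      rw [map_sub, show ι (σ d s) - ι s = (x - ι s) - (x - ι (σ d s)) by ring]
      exact Ideal.sub_mem _ hxs (hfix d hdQ k s hxs)
    have e3 : σ (g q') (σ d s - s) ∈ Q' ^ k := (mem_pow_iff (σ (g q')) (hg q') k _).2 e2
    rw [map_sub, hd] at e3
    rw [map_sub] at e1
    have := Ideal.sub_mem _ (Ideal.add_mem _ e1 e3) (hu q')
    convert this using 1
    ring
  have hψu : ψ u ∈ maximalIdeal A ^ (m + c) • (⊤ : Submodule A (G → B)) := by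
    have : ψ u = ∑ h : G, LinearMap.single A (fun _ : G => B) h (σ h u - u) := by
      funext h'
      rw [Finset.sum_apply, Finset.sum_eq_single h']
      · simp [ψ]
      · intro h _ hne; simp [Ne.symm hne]
      · simp
    rw [this]
    refine Submodule.sum_mem _ fun h _ => ?_
    have h1 : σ h u - u ∈ maximalIdeal A ^ (m + c) • (⊤ : Submodule A B) := by
      rw [Ideal.smul_top_eq_map, Submodule.restrictScalars_mem, Ideal.map_pow]
      exact hψ h
    have h2 : (maximalIdeal A ^ (m + c) • (⊤ : Submodule A B)).map (LinearMap.single A (fun _ : G => B) h) ≤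
        maximalIdeal A ^ (m + c) • (⊤ : Submodule A (G → B)) := by
      rw [Submodule.map_smul'']
      exact Submodule.smul_mono le_rfl le_top
    exact h2 (Submodule.mem_map_of_mem h1)
  obtain ⟨z, hz, hzu⟩ := hc m u hψu
  obtain ⟨r, hr⟩ := hinv (u - z) fun h => by
    have := congrFun hzu h
    simp only [ψ, LinearMap.pi_apply, LinearMap.sub_apply, AlgEquiv.toLinearMap_apply, LinearMap.id_apply] at this
    rw [map_sub]
    linear_combination -this
  refine ⟨r, ?_⟩
  rw [hr, map_sub]
  rw [Ideal.smul_top_eq_map, Submodule.restrictScalars_mem, Ideal.map_pow] at hz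
  have hqs : u - s ∈ Q ^ k := by
    have h0 := hu qs
    let q := g qs
    have hqQ : ∀ b', σ q b' ∈ Q ↔ b' ∈ Q := hg qs
    have e2 : σ q s - s ∈ Q ^ k := by
      refine (hpow k _).1 ?_
      rw [map_sub, show ι (σ q s) - ι s = (x - ι s) - (x - ι (σ q s)) by ring]
      exact Ideal.sub_mem _ hxs (hfix q hqQ k s hxs)
    have := Ideal.add_mem _ h0 e2
    simpa [qs, q] using this
  rw [show x - (ι u - ι z) = (x - ι s) - ι (u - s) + ι z by rw [map_sub]; ring]
  exact Ideal.add_mem _ (Ideal.pow_le_pow_right (le_max_right k₀ m)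
    (Ideal.sub_mem _ hxs ((hpow k _).2 hqs))) (map_pow_le ι Q hpow m hz)

include hpow htr in
/-- The topology of the completion induces the adic topology of the base. -/
theorem exists_reflect [FaithfulSMul A B] (m : ℕ) :
    ∃ k, ∀ r : A, ι (algebraMap A B r) ∈ maximalIdeal C ^ k → r ∈ maximalIdeal A ^ m := by
  haveI := finite_maximalSpectrum σ Q htr
  obtain ⟨c, hc⟩ := exists_artinRees (Algebra.linearMap A B)
  obtain ⟨k, hk⟩ := exists_inf_pow_le (A := A) (B := B) (m + c)
  refine ⟨k, fun r hr => ?_⟩
  have hQ := (hpow k _).1 hr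
  have h1 : algebraMap A B r ∈ ((maximalIdeal A).map (algebraMap A B)) ^ (m + c) := hk _ fun Q' hQ' => by
    obtain ⟨g, hg⟩ := htr Q' hQ'
    have := (mem_pow_iff (σ g) hg k _).2 hQ
    rwa [AlgEquiv.commutes] at this
  obtain ⟨r', hr', he⟩ := hc m r (by
    rw [Ideal.smul_top_eq_map, Submodule.restrictScalars_mem, Ideal.map_pow]
    exact h1)
  rw [smul_eq_mul, Ideal.mul_top] at hr'
  rwa [← FaithfulSMul.algebraMap_injective A B he]

end Core

/-- Elements outside a maximal ideal are invertible modulo its powers. -/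
theorem exists_inv_mod {B : Type u} [CommRing B] (Q : Ideal B) [hQ : Q.IsMaximal] {t : B} (ht : t ∉ Q) (n : ℕ) :
    ∃ w, t * w - 1 ∈ Q ^ n := by
  have hco : IsCoprime (Ideal.span {t}) Q := by
    rw [Ideal.isCoprime_iff_sup_eq]
    refine hQ.1.2 _ (lt_of_le_of_ne le_sup_right fun e => ht ?_)
    rw [e]
    exact Ideal.mem_sup_left (Ideal.mem_span_singleton_self _)
  obtain ⟨u, hu, v, hv, huv⟩ := Ideal.isCoprime_iff_exists.1 (hco.pow_right (n := n))
  obtain ⟨w, rfl⟩ := Ideal.mem_span_singleton.1 hu
  exact ⟨w, by rw [show t * w - 1 = -v by rw [← huv]; ring]; exact neg_mem hv⟩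

/-- Invariants in a complete target are in the image of a complete base. -/
theorem mem_range_of_approx {A Ac Cc : Type u} [CommRing A] [IsLocalRing A] [IsNoetherianRing A]
    [CommRing Ac] [IsLocalRing Ac] [IsAdicComplete (maximalIdeal Ac) Ac]
    [CommRing Cc] [IsLocalRing Cc] [IsHausdorff (maximalIdeal Cc) Cc] (j : A →+* Ac)
    (hj : ∀ n, (maximalIdeal A ^ n).map j ≤ maximalIdeal Ac ^ n) (f : Ac →+* Cc)
    (hf : (maximalIdeal Ac).map f ≤ maximalIdeal Cc) (x : Cc)
    (happ : ∀ m, ∃ r, x - f (j r) ∈ maximalIdeal Cc ^ m)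
    (href : ∀ m, ∃ k, ∀ r, f (j r) ∈ maximalIdeal Cc ^ k → r ∈ maximalIdeal A ^ m) :
    ∃ y, f y = x := by
  classical
  choose r hr using happ
  choose k hk using href
  -- a monotone sequence of indices
  let K : ℕ → ℕ := fun m => m + (Finset.range (m + 1)).sup k
  have hK : ∀ a b, a ≤ b → k a ≤ K b := fun a b h =>
    le_add_left (Finset.le_sup (f := k) (Finset.mem_range.2 (Nat.lt_succ_of_le h)))
  let y : ℕ → Ac := fun m => j (r (K m))
  have hy : ∀ {a b}, a ≤ b → y a ≡ y b [SMOD (maximalIdeal Ac ^ a • ⊤ : Submodule Ac Ac)] := fun {a b} hab => by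
    rw [SModEq.sub_mem, smul_eq_mul, Ideal.mul_top, ← map_sub]
    refine hj a (Ideal.mem_map_of_mem _ (hk a _ ?_))
    rw [map_sub, map_sub, show f (j (r (K a))) - f (j (r (K b))) = (x - f (j (r (K b)))) - (x - f (j (r (K a)))) by ring]
    exact Ideal.sub_mem _ (Ideal.pow_le_pow_right (hK a b hab) (hr _)) (Ideal.pow_le_pow_right (hK a a le_rfl) (hr _))
  obtain ⟨L, hL⟩ := IsPrecomplete.prec inferInstance hy
  refine ⟨L, sub_eq_zero.1 (IsHausdorff.haus (inferInstance : IsHausdorff (maximalIdeal Cc) Cc) _ fun m => ?_)⟩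
  rw [SModEq.zero, smul_eq_mul, Ideal.mul_top, show f L - x = -(x - f (y m)) - f (y m - L) by rw [map_sub]; ring]
  refine Ideal.sub_mem _ (neg_mem (Ideal.pow_le_pow_right (Nat.le_add_right _ _) (hr _))) ?_
  have h2 := SModEq.sub_mem.1 (hL m)
  rw [smul_eq_mul, Ideal.mul_top] at h2
  refine Ideal.pow_right_mono hf m ?_
  rw [← Ideal.map_pow]
  exact Ideal.mem_map_of_mem _ h2

/-- Maps out of a completion agreeing on the ring agree. -/
theorem eq_of_eq_algebraMap {A Cc : Type u} [CommRing A] [IsLocalRing A] [IsNoetherianRing A]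
    [CommRing Cc] [IsLocalRing Cc] [IsHausdorff (maximalIdeal Cc) Cc]
    (f g : EGA4.Cpl A →+* Cc) (h : ∀ a, f (algebraMap A _ a) = g (algebraMap A _ a))
    (hf : (maximalIdeal A).map (f.comp (algebraMap A (EGA4.Cpl A))) ≤ maximalIdeal Cc) : f = g := by
  refine RingHom.ext fun z => sub_eq_zero.1 (IsHausdorff.haus (inferInstance : IsHausdorff (maximalIdeal Cc) Cc) _ fun m => ?_)
  rw [SModEq.zero, smul_eq_mul, Ideal.mul_top]
  obtain ⟨a, ha⟩ := H24Adic.exists_sub_of_mem (J := maximalIdeal A) (IsNoetherian.noetherian _) m z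
  rw [show f z - g z = f (z - algebraMap A _ a) - g (z - algebraMap A _ a) by simp [h]]
  have e : g.comp (algebraMap A (EGA4.Cpl A)) = f.comp (algebraMap A (EGA4.Cpl A)) := RingHom.ext fun a => (h a).symm
  refine Ideal.sub_mem _ (Ideal.pow_right_mono hf m ?_) (Ideal.pow_right_mono hf m ?_)
  · rw [← Ideal.map_pow, ← Ideal.map_map]
    exact Ideal.mem_map_of_mem _ ha
  · rw [← e, ← Ideal.map_pow, ← Ideal.map_map]
    exact Ideal.mem_map_of_mem _ ha

end Groth.Agent.S18534

namespace Groth.Agent.S18534

open IsLocalRing in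
open scoped Pointwise in
/-- Let R be a normal domain which is excellent and S a normal domain containing R on which a finite
group G acts by R-algebra automorphisms, faithfully and with ring of invariants exactly R (so S is
the integral closure of R in a finite Galois extension of Frac R with group G), Q a prime of S lying
over the prime P of R, and D the decomposition group of Q (the stabilizer of Q in G). Equip the
completion of the local ring S_Q with an action of D by ring automorphisms extending the action of D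
on S, and with an algebra structure over the completion of R_P compatible with R → S (both exist and
are unique, by density and continuity). Then D is a Galois group for the completed extension: it
acts faithfully, linearly over the completion of R_P, and its ring of invariants is exactly the
image of the completion of R_P; equivalently the extension of fraction fields of the completed local
rings is Galois with group D. (Only the completions of the local rings R_P and S_Q are treated. For
the P-adic completion of R itself and the Q-adic completion of S the analogous finiteness fails: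
with R = k[x,y], S = k[y,t], t² = x + y², char k ≠ 2 and Q = (t − y) over P = (x), the Q-adic
completion k[y][[t − y]] is not finite over the (x)-adic completion k[y][[x]] and their fraction
fields form an extension of infinite degree.) -/
theorem result
    (R S G : Type u) [CommRing R] [CommRing S] [IsDomain R] [IsDomain S]
    [IsIntegrallyClosed R] [IsIntegrallyClosed S] (hR : EGA4.IsExcellent R)
    [Algebra R S] [FaithfulSMul R S]
    [Group G] [Finite G] [MulSemiringAction G S] [SMulCommClass G R S] [IsGaloisGroup G R S]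
    (P : Ideal R) [P.IsPrime] (Q : Ideal S) [Q.IsPrime] [Q.LiesOver P]
    [MulSemiringAction (MulAction.stabilizer G Q) (EGA4.Cpl (Localization.AtPrime Q))]
    (hact : ∀ (g : MulAction.stabilizer G Q) (s : S),
      g • algebraMap (Localization.AtPrime Q) (EGA4.Cpl (Localization.AtPrime Q)) (algebraMap S (Localization.AtPrime Q) s) =
        algebraMap (Localization.AtPrime Q) (EGA4.Cpl (Localization.AtPrime Q)) (algebraMap S (Localization.AtPrime Q) (g • s)))
    [Algebra (EGA4.Cpl (Localization.AtPrime P)) (EGA4.Cpl (Localization.AtPrime Q))]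
    (halg : ∀ r : R,
      algebraMap (EGA4.Cpl (Localization.AtPrime P)) (EGA4.Cpl (Localization.AtPrime Q)) (algebraMap (Localization.AtPrime P) (EGA4.Cpl (Localization.AtPrime P)) (algebraMap R (Localization.AtPrime P) r)) =
        algebraMap (Localization.AtPrime Q) (EGA4.Cpl (Localization.AtPrime Q)) (algebraMap S (Localization.AtPrime Q) (algebraMap R S r))) :
    IsGaloisGroup (MulAction.stabilizer G Q) (EGA4.Cpl (Localization.AtPrime P)) (EGA4.Cpl (Localization.AtPrime Q)) := by
  classical
  haveI : IsNoetherianRing R := hR.1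
  haveI := Fintype.ofFinite G
  haveI : Algebra.IsIntegral R S := Algebra.IsInvariant.isIntegral R S G
  haveI : Module.Finite R S := by
    letI : Algebra (FractionRing R) (FractionRing S) := FractionRing.liftAlgebra _ _
    letI := IsFractionRing.mulSemiringAction G S (FractionRing S)
    haveI : IsGaloisGroup G (FractionRing R) (FractionRing S) := IsGaloisGroup.to_isFractionRing G R S _ _
    haveI : FiniteDimensional (FractionRing R) (FractionRing S) := IsGaloisGroup.finiteDimensional G _ _
    haveI : IsGalois (FractionRing R) (FractionRing S) := IsGaloisGroup.isGalois G _ _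
    haveI : IsIntegralClosure S R (FractionRing S) := IsIntegralClosure.of_isIntegrallyClosed S R (FractionRing S)
    exact IsIntegralClosure.finite R (FractionRing R) (FractionRing S) S
  haveI : IsNoetherianRing S := IsNoetherianRing.of_finite R S
  let A := Localization.AtPrime P
  let MS : Submonoid S := Algebra.algebraMapSubmonoid S P.primeCompl
  let B := Localization MS
  have hMS : MS ≤ nonZeroDivisors S := by
    rintro _ ⟨r, hr, rfl⟩
    refine mem_nonZeroDivisors_of_ne_zero fun h0 => hr ?_
    rw [(map_eq_zero_iff _ (FaithfulSMul.algebraMap_injective R S)).1 h0]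
    exact P.zero_mem
  letI : Algebra A B := inferInstanceAs
    (Algebra (Localization P.primeCompl) (Localization (Algebra.algebraMapSubmonoid S P.primeCompl)))
  haveI : IsScalarTower R A B := inferInstanceAs
    (IsScalarTower R (Localization P.primeCompl) (Localization (Algebra.algebraMapSubmonoid S P.primeCompl)))
  haveI : Module.Finite A B := Module.Finite.of_isLocalization R S P.primeCompl
  haveI : FaithfulSMul A B := (faithfulSMul_iff_algebraMap_injective A B).2
    (IsLocalization.map_injective_of_injective' (f := algebraMap R S) P.primeCompl S B (N := MS) (fun x hx => ⟨x, hx, rfl⟩)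
      (fun h0 => zero_notMem_nonZeroDivisors (hMS h0)) (FaithfulSMul.algebraMap_injective R S))
  -- the action on the semilocal ring
  have hfixR : ∀ (g : G) (r : R), g • algebraMap R S r = algebraMap R S r := fun g r => by
    haveI := IsGaloisGroup.commutes (G := G) (A := R) (B := S)
    exact smul_algebraMap g r
  have hmap : ∀ g : G, MS.map (MulSemiringAction.toRingEquiv G S g : S ≃+* S).toMonoidHom = MS := fun g => by
    ext z
    constructor
    · rintro ⟨_, ⟨r, hr, rfl⟩, rfl⟩
      exact ⟨r, hr, (hfixR g r).symm⟩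
    · rintro ⟨r, hr, rfl⟩
      exact ⟨_, ⟨r, hr, rfl⟩, hfixR g r⟩
  let τ : G → (B ≃+* B) := fun g =>
    IsLocalization.ringEquivOfRingEquiv B B (MulSemiringAction.toRingEquiv G S g) (hmap g)
  have hτ : ∀ g s, τ g (algebraMap S B s) = algebraMap S B (g • s) := fun g s =>
    IsLocalization.ringEquivOfRingEquiv_eq _ _
  have hτA : ∀ g a, τ g (algebraMap A B a) = algebraMap A B a := fun g a => by
    have : ((τ g).toRingHom.comp (algebraMap A B)) = algebraMap A B := by
      refine IsLocalization.ringHom_ext P.primeCompl (RingHom.ext fun r => ?_)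
      show τ g (algebraMap A B (algebraMap R A r)) = algebraMap A B (algebraMap R A r)
      rw [← IsScalarTower.algebraMap_apply, IsScalarTower.algebraMap_apply R S B, hτ, hfixR]
    exact RingHom.congr_fun this a
  let τA : G → (B ≃ₐ[A] B) := fun g => AlgEquiv.ofRingEquiv (f := τ g) (hτA g)
  have hτmul : ∀ g h, τA (g * h) = τA g * τA h := fun g h => AlgEquiv.ext fun b => by
    obtain ⟨s, t, rfl⟩ := IsLocalization.exists_mk'_eq MS b
    have : ((τ (g * h)).toRingHom) = (τ g).toRingHom.comp (τ h).toRingHom := by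
      refine IsLocalization.ringHom_ext MS (RingHom.ext fun s => ?_)
      show τ (g * h) (algebraMap S B s) = τ g (τ h (algebraMap S B s))
      rw [hτ, hτ, hτ, mul_smul]
    exact RingHom.congr_fun this _
  let σ : G →* (B ≃ₐ[A] B) := MonoidHom.mk' τA hτmul
  have hσ : ∀ g s, σ g (algebraMap S B s) = algebraMap S B (g • s) := hτ
  -- the map to the completion
  let C := EGA4.Cpl (Localization.AtPrime Q)
  have hle : ∀ y : MS, IsUnit (algebraMap S (Localization.AtPrime Q) y) := by
    rintro ⟨_, r, hr, rfl⟩
    refine IsLocalization.map_units (Localization.AtPrime Q) (⟨algebraMap R S r, fun h => hr ?_⟩ : Q.primeCompl)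
    exact (Ideal.mem_of_liesOver Q P r).2 h
  let j : B →+* Localization.AtPrime Q := IsLocalization.lift hle
  let ι : B →+* C := (algebraMap (Localization.AtPrime Q) C).comp j
  have hιs : ∀ s, ι (algebraMap S B s) = algebraMap (Localization.AtPrime Q) C (algebraMap S _ s) := fun s => by
    show algebraMap (Localization.AtPrime Q) C (j _) = _
    rw [IsLocalization.lift_eq]
  let QB : Ideal B := Q.map (algebraMap S B)
  have hdisj : Disjoint (MS : Set S) Q := by
    rw [Set.disjoint_left]
    rintro _ ⟨r, hr, rfl⟩ hQ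
    exact hr ((Ideal.mem_of_liesOver Q P r).2 hQ)
  haveI hQBp : QB.IsPrime := IsLocalization.isPrime_of_isPrime_disjoint MS B Q inferInstance hdisj
  have hQBc : QB.comap (algebraMap S B) = Q := IsLocalization.comap_map_of_isPrime_disjoint MS B inferInstance hdisj
  have hQBA : ∀ Q' : Ideal B, Q'.IsMaximal → (Q'.comap (algebraMap S B)).comap (algebraMap R S) = P := fun Q' hQ' => by
    haveI := hQ'
    have hm : (Q'.comap (algebraMap A B)).IsMaximal := Ideal.isMaximal_comap_of_isIntegral_of_isMaximal Q'
    rw [Ideal.comap_comap, ← IsScalarTower.algebraMap_eq R S B, IsScalarTower.algebraMap_eq R A B, ← Ideal.comap_comap,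
      eq_maximalIdeal hm]
    exact IsLocalization.AtPrime.comap_maximalIdeal A P
  haveI hQBm : QB.IsMaximal := by
    refine Ideal.isMaximal_of_isIntegral_of_isMaximal_comap (R := A) QB ?_
    have h1 : QB.comap (algebraMap A B) = maximalIdeal A := by
      refine le_antisymm (le_maximalIdeal (Ideal.IsPrime.comap _).ne_top) ?_
      rw [← Localization.AtPrime.map_eq_maximalIdeal, Ideal.map_le_iff_le_comap, Ideal.comap_comap,
        ← IsScalarTower.algebraMap_eq, IsScalarTower.algebraMap_eq R S B, ← Ideal.comap_comap, hQBc]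
      exact (Ideal.LiesOver.over (P := Q) (p := P)).le
    rw [h1]
    exact maximalIdeal.isMaximal A
  have hCmap : maximalIdeal C = (maximalIdeal (Localization.AtPrime Q)).map (algebraMap (Localization.AtPrime Q) C) :=
    AdicCompletion.maximalIdeal_eq_map
  have hjQB : QB.map j = maximalIdeal (Localization.AtPrime Q) := by
    rw [Ideal.map_map, show j.comp (algebraMap S B) = algebraMap S (Localization.AtPrime Q) from
      RingHom.ext fun s => IsLocalization.lift_eq _ s, Localization.AtPrime.map_eq_maximalIdeal]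
  have hpow : ∀ n b, ι b ∈ maximalIdeal C ^ n ↔ b ∈ QB ^ n := fun n b => by
    constructor
    · intro h
      have h1 : j b ∈ maximalIdeal (Localization.AtPrime Q) ^ n := by
        rw [hCmap, ← Ideal.map_pow, ← Submodule.restrictScalars_mem (Localization.AtPrime Q),
          ← Ideal.smul_top_eq_map, AdicCompletion.pow_smul_top_eq_ker_eval (IsNoetherian.noetherian _),
          LinearMap.mem_ker] at h
        have h2 : AdicCompletion.eval (maximalIdeal (Localization.AtPrime Q)) (Localization.AtPrime Q) n (ι b) =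
            Submodule.Quotient.mk (j b) := by
          show AdicCompletion.eval _ _ n (algebraMap (Localization.AtPrime Q) C (j b)) = _
          rw [AdicCompletion.eval_apply]
          rfl
        rw [h2, Submodule.Quotient.mk_eq_zero, smul_eq_mul, Ideal.mul_top] at h
        exact h
      obtain ⟨s, t, rfl⟩ := IsLocalization.exists_mk'_eq MS b
      rw [← Localization.AtPrime.map_eq_maximalIdeal, ← Ideal.map_pow] at h1
      have h3 : algebraMap S (Localization.AtPrime Q) s ∈ (Q ^ n).map (algebraMap S (Localization.AtPrime Q)) := by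
        have := Ideal.mul_mem_right (algebraMap S (Localization.AtPrime Q) t) _ h1
        rwa [← (show j (algebraMap S B t) = _ from IsLocalization.lift_eq hle (t : S)), ← map_mul,
          IsLocalization.mk'_spec, (show j (algebraMap S B s) = _ from IsLocalization.lift_eq hle s)] at this
      rw [IsLocalization.algebraMap_mem_map_algebraMap_iff Q.primeCompl] at h3
      obtain ⟨u, hu, hus⟩ := h3
      have h4 : algebraMap S B u * algebraMap S B s ∈ QB ^ n := by
        rw [← map_mul, ← Ideal.map_pow]; exact Ideal.mem_map_of_mem _ hus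
      have hu' : algebraMap S B u ∉ QB := fun h => hu (hQBc.le h)
      obtain ⟨w, hw⟩ := Groth.Agent.S18534.exists_inv_mod QB hu' n
      have h5 : algebraMap S B s ∈ QB ^ n := by
        rw [show algebraMap S B s = w * (algebraMap S B u * algebraMap S B s) -
          algebraMap S B s * (algebraMap S B u * w - 1) by ring]
        exact Ideal.sub_mem _ (Ideal.mul_mem_left _ _ h4) (Ideal.mul_mem_left _ _ hw)
      rw [IsLocalization.mk'_eq_mul_mk'_one]
      exact Ideal.mul_mem_right _ _ h5
    · intro h
      have h1 : ι b ∈ (QB ^ n).map ι := Ideal.mem_map_of_mem _ h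
      rw [← Ideal.map_map, Ideal.map_pow, hjQB, Ideal.map_pow, ← hCmap] at h1
      exact h1
  have htr : ∀ Q' : Ideal B, Q'.IsMaximal → ∃ g, ∀ b, σ g b ∈ Q' ↔ b ∈ QB := fun Q' hQ' => by
    haveI := hQ'
    obtain ⟨g, hg⟩ := Algebra.IsInvariant.exists_smul_of_under_eq R S G Q (Q'.comap (algebraMap S B)) (by
      rw [Ideal.under_def, Ideal.under_def, hQBA Q' hQ']
      exact (Ideal.LiesOver.over (P := Q) (p := P)).symm)
    refine ⟨g, fun b => ?_⟩
    obtain ⟨s, t, rfl⟩ := IsLocalization.exists_mk'_eq MS b
    have hu : IsUnit (σ g (algebraMap S B t)) := (IsLocalization.map_units B t).map (σ g)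
    rw [← Ideal.unit_mul_mem_iff_mem Q' hu, ← map_mul, mul_comm, IsLocalization.mk'_spec,
      ← Ideal.unit_mul_mem_iff_mem QB (IsLocalization.map_units B t), mul_comm, IsLocalization.mk'_spec, hσ]
    show g • s ∈ Q'.comap (algebraMap S B) ↔ s ∈ QB.comap (algebraMap S B)
    rw [hQBc, hg, Ideal.smul_mem_pointwise_smul_iff]
  have hinvB : ∀ b : B, (∀ g, σ g b = b) → b ∈ Set.range (algebraMap A B) := fun b hb => by
    obtain ⟨s, ⟨_, r, hr, rfl⟩, rfl⟩ := IsLocalization.exists_mk'_eq MS b
    obtain ⟨a, ha⟩ := Algebra.IsInvariant.isInvariant (A := R) (G := G) s fun g => by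
      have h1 := hb g
      apply IsLocalization.injective B hMS
      rw [← hσ]
      have h2 := IsLocalization.mk'_spec B s (⟨_, r, hr, rfl⟩ : MS)
      rw [← h2, map_mul, h1, hσ, hfixR]
    refine ⟨IsLocalization.mk' A a ⟨r, hr⟩, ?_⟩
    rw [IsLocalization.eq_mk'_iff_mul_eq]
    show algebraMap A B _ * algebraMap S B (algebraMap R S r) = _
    rw [← ha, ← IsScalarTower.algebraMap_apply, ← IsScalarTower.algebraMap_apply, IsScalarTower.algebraMap_apply R A B,
      IsScalarTower.algebraMap_apply R A B a, ← map_mul, IsLocalization.mk'_spec]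
  haveI : IsNoetherianRing (Localization.AtPrime Q) := IsLocalization.isNoetherianRing Q.primeCompl _ inferInstance
  haveI : IsNoetherianRing A := IsLocalization.isNoetherianRing P.primeCompl _ inferInstance
  haveI : IsHausdorff (maximalIdeal C) C := IsAdicComplete.toIsHausdorff
  let f : EGA4.Cpl A →+* C := algebraMap (EGA4.Cpl (Localization.AtPrime P)) (EGA4.Cpl (Localization.AtPrime Q))
  have hfA : ∀ a, f (algebraMap A (EGA4.Cpl A) a) = ι (algebraMap A B a) := fun a => by
    have : (f.comp (algebraMap A (EGA4.Cpl A))) = ι.comp (algebraMap A B) := by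
      refine IsLocalization.ringHom_ext P.primeCompl (RingHom.ext fun r => ?_)
      show f (algebraMap A (EGA4.Cpl A) (algebraMap R A r)) = ι (algebraMap A B (algebraMap R A r))
      rw [← IsScalarTower.algebraMap_apply R A B, IsScalarTower.algebraMap_apply R S B, hιs]
      exact halg r
    exact RingHom.congr_fun this a
  have hfA' : (maximalIdeal A).map (f.comp (algebraMap A (EGA4.Cpl A))) ≤ maximalIdeal C := by
    rw [Ideal.map_le_iff_le_comap]
    intro a ha
    rw [Ideal.mem_comap, RingHom.comp_apply, hfA, ← pow_one (maximalIdeal C)]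
    refine Groth.Agent.S18534.map_pow_le (A := A) ι QB hpow 1 ?_
    rw [pow_one]
    exact Ideal.mem_map_of_mem _ ha
  have hstab : ∀ (g : MulAction.stabilizer G Q) (n : ℕ) (z : C), z ∈ maximalIdeal C ^ n → g • z ∈ maximalIdeal C ^ n := by
    intro g n z hz
    let e : C ≃+* C := MulSemiringAction.toRingEquiv _ C g
    have he : (maximalIdeal C).map e = maximalIdeal C := IsLocalRing.map_ringEquiv_maximalIdeal e
    rw [← he, ← Ideal.map_pow]
    exact Ideal.mem_map_of_mem (e : C ≃+* C) hz
  refine ⟨⟨fun {g h} hgh => ?_⟩, ⟨fun g a z => ?_⟩, ⟨fun x hx => ?_⟩⟩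
  · -- faithful
    apply Subtype.ext
    haveI := IsGaloisGroup.faithful (G := G) R (B := S)
    refine eq_of_smul_eq_smul fun s : S => ?_
    have h1 := hgh (algebraMap (Localization.AtPrime Q) C (algebraMap S (Localization.AtPrime Q) s))
    rw [hact, hact] at h1
    have hinj : Function.Injective (algebraMap (Localization.AtPrime Q) C) := by
      haveI : IsHausdorff (maximalIdeal (Localization.AtPrime Q)) (Localization.AtPrime Q) := inferInstance
      exact AdicCompletion.of_injective (maximalIdeal (Localization.AtPrime Q)) (Localization.AtPrime Q)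
    exact IsLocalization.injective (Localization.AtPrime Q) Q.primeCompl_le_nonZeroDivisors (hinj h1)
  · -- commutes
    show g • (a • z) = a • (g • z)
    rw [Algebra.smul_def, Algebra.smul_def, smul_mul']
    congr 1
    have := Groth.Agent.S18534.eq_of_eq_algebraMap ((MulSemiringAction.toRingEquiv _ C g).toRingHom.comp f) f
      (fun a' => by
        show g • f (algebraMap A _ a') = f (algebraMap A _ a')
        rw [hfA]
        have : ((MulSemiringAction.toRingEquiv _ C g).toRingHom.comp (ι.comp (algebraMap A B))) = ι.comp (algebraMap A B) := by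
          refine IsLocalization.ringHom_ext P.primeCompl (RingHom.ext fun r => ?_)
          show g • ι (algebraMap A B (algebraMap R A r)) = ι (algebraMap A B (algebraMap R A r))
          rw [← IsScalarTower.algebraMap_apply R A B, IsScalarTower.algebraMap_apply R S B, hιs, hact]
          congr 2
          exact hfixR g.1 r
        exact RingHom.congr_fun this a')
      (by
        rw [Ideal.map_le_iff_le_comap]
        intro a' ha'
        have h1 : f (algebraMap A (EGA4.Cpl A) a') ∈ maximalIdeal C ^ 1 := by
          rw [pow_one]; exact hfA' (Ideal.mem_map_of_mem _ ha')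
        have h2 := hstab g 1 _ h1
        rwa [pow_one] at h2)
    exact RingHom.congr_fun this a
  · -- invariants
    refine Groth.Agent.S18534.mem_range_of_approx (algebraMap A (EGA4.Cpl A))
      (fun n => by rw [Ideal.map_pow, ← AdicCompletion.maximalIdeal_eq_map]) f ?_ x ?_ ?_
    · rw [AdicCompletion.maximalIdeal_eq_map, Ideal.map_map]; exact hfA'
    · intro m
      obtain ⟨a, ha⟩ := Groth.Agent.S18534.exists_approx σ ι QB hpow htr hinvB x (fun n => by
        obtain ⟨z, hz⟩ := Groth.Agent.H24Adic.exists_sub_of_mem (J := maximalIdeal (Localization.AtPrime Q))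
          (IsNoetherian.noetherian _) n x
        obtain ⟨s, t, rfl⟩ := IsLocalization.exists_mk'_eq Q.primeCompl z
        -- invert `t` modulo `QB ^ n`
        have ht : algebraMap S B t.1 ∉ QB := fun h => t.2 (hQBc.le h)
        obtain ⟨w, hw⟩ := Groth.Agent.S18534.exists_inv_mod QB ht n
        refine ⟨algebraMap S B s * w, ?_⟩
        have h2 := (hpow n _).2 (Ideal.mul_mem_left _ (algebraMap S B s) hw)
        have hz' : x - algebraMap (Localization.AtPrime Q) C (IsLocalization.mk' (Localization.AtPrime Q) s t) ∈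
            maximalIdeal C ^ n := by
          rw [hCmap, ← Ideal.map_pow]; exact hz
        have h3 : algebraMap (Localization.AtPrime Q) C (IsLocalization.mk' (Localization.AtPrime Q) s t) *
            ι (algebraMap S B t.1) = ι (algebraMap S B s) := by
          rw [hιs, hιs, ← map_mul, IsLocalization.mk'_spec]
        rw [show x - ι (algebraMap S B s * w) =
          (x - algebraMap (Localization.AtPrime Q) C (IsLocalization.mk' (Localization.AtPrime Q) s t)) -
            algebraMap (Localization.AtPrime Q) C (IsLocalization.mk' (Localization.AtPrime Q) s t) *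
              ι (algebraMap S B t.1 * w - 1) by
            rw [map_mul, map_sub, map_mul, map_one, ← h3]; ring]
        exact Ideal.sub_mem _ hz' (Ideal.mul_mem_left _ _ ((hpow n _).2 hw)))
        (fun h hh n b hb => by
          have hmem : h ∈ MulAction.stabilizer G Q := by
            rw [MulAction.mem_stabilizer_iff]
            ext s
            rw [Ideal.mem_pointwise_smul_iff_inv_smul_mem, ← hQBc, Ideal.mem_comap, Ideal.mem_comap,
              ← hh (algebraMap S B (h⁻¹ • s)), hσ, smul_inv_smul]
          let g : MulAction.stabilizer G Q := ⟨h, hmem⟩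
          have heq : ((MulSemiringAction.toRingEquiv _ C g).toRingHom.comp ι) = ι.comp (σ h : B →+* B) := by
            refine IsLocalization.ringHom_ext MS (RingHom.ext fun s => ?_)
            show g • ι (algebraMap S B s) = ι (σ h (algebraMap S B s))
            rw [hσ, hιs, hιs, hact]
            rfl
          have h1 := hstab g n _ hb
          rw [smul_sub, hx g, show g • ι b = ι (σ h b) from RingHom.congr_fun heq b] at h1
          exact h1) m
      exact ⟨a, by rw [hfA]; exact ha⟩
    · intro m
      obtain ⟨k, hk⟩ := Groth.Agent.S18534.exists_reflect σ ι QB hpow htr m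
      exact ⟨k, fun r hr => hk r (by rwa [← hfA])⟩

end Groth.Agent.S18534
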