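import Groth.Statements.S18535
import Mathlib
import Groth.Agent.H9Ram.InertiaEtale
import Groth.Agent.H9Hens.Local
-- import your own Groth.Agent.* helpers here

set_option autoImplicit false
universe u
open EtAlg
open scoped Pointwise

namespace Groth.Agent.S18535

/-- Let R be a complete Noetherian local normal domain with maximal ideal m, let S be a normal domain
containing R on which a finite group G acts by R-algebra automorphisms, faithfully and with ring of
invariants exactly R (so that S is the integral closure of R in some finite Galois extension, with
group G, of Frac R), and let n be a maximal ideal of S over m. Then the inertia subgroup of n in G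
(the elements g with g s - s ∈ n for all s ∈ S) is trivial if and only if mS = n and the residue
field S/n is finite and separable over R/m. -/
theorem result
    (R S G : Type u) [CommRing R] [CommRing S] [IsDomain R] [IsDomain S]
    [IsNoetherianRing R] [IsLocalRing R] [IsIntegrallyClosed R]
    [IsAdicComplete (IsLocalRing.maximalIdeal R) R]
    [Algebra R S] [FaithfulSMul R S] [IsIntegrallyClosed S]
    [Group G] [Finite G] [MulSemiringAction G S] [SMulCommClass G R S] [IsGaloisGroup G R S]
    (n : Ideal S) [n.IsMaximal] [n.LiesOver (IsLocalRing.maximalIdeal R)] :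
    n.toAddSubgroup.inertia G = ⊥ ↔
      ((IsLocalRing.maximalIdeal R).map (algebraMap R S) = n ∧
        Module.Finite (R ⧸ IsLocalRing.maximalIdeal R) (S ⧸ n) ∧
        Algebra.IsSeparable (R ⧸ IsLocalRing.maximalIdeal R) (S ⧸ n)) := by
  have hS : Algebra.IsInvariant R S G := inferInstance
  have : FaithfulSMul G S := IsGaloisGroup.faithful R
  have : Algebra.IsIntegral R S := Algebra.IsInvariant.isIntegral R S G
  have : HenselianLocalRing R := H9Hens.henselianLocalRing_of_henselianRing
  have hover : ∀ n' : Ideal S, n'.IsMaximal → n'.LiesOver (IsLocalRing.maximalIdeal R) := fun n' h =>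
    ⟨(IsLocalRing.eq_maximalIdeal (Ideal.isMaximal_comap_of_isIntegral_of_isMaximal n')).symm⟩
  letI := Ideal.Quotient.field (IsLocalRing.maximalIdeal R)
  constructor
  · intro hI
    have hI' : n.inertia G = ⊥ := hI
    obtain ⟨hfin, -, het⟩ := H9Ram.finite_etale_of_inertia_eq_bot (R := R) (S := S) (G := G)
      fun m hm => by
        have := hover m hm
        obtain ⟨g, rfl⟩ := Algebra.IsInvariant.exists_smul_of_under_eq R S G n m
          ((Ideal.over_def n (IsLocalRing.maximalIdeal R)).symm.trans
            (Ideal.over_def m (IsLocalRing.maximalIdeal R)))
        exact H9Ram.inertia_smul_eq_bot hI' g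
    have : IsLocalRing S := H9Ram.isLocalRing_of_finite_of_henselian (R := R)
    obtain rfl : n = IsLocalRing.maximalIdeal S := IsLocalRing.eq_maximalIdeal ‹_›
    have : IsLocalHom (algebraMap R S) := inferInstance
    refine ⟨Algebra.FormallyUnramified.map_maximalIdeal,
      Module.Finite.of_restrictScalars_finite R _ _, ?_⟩
    have h : Algebra.IsSeparable (IsLocalRing.ResidueField R) (IsLocalRing.ResidueField S) :=
      inferInstance
    refine ⟨fun x => ?_⟩
    exact h.isSeparable' x
  · rintro ⟨hmap, -, hsep⟩
    have hnoeth : IsNoetherianRing S := by
      have : IsDomain S := inferInstance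
      let := FractionRing.liftAlgebra R (FractionRing S)
      let := IsFractionRing.mulSemiringAction G S (FractionRing S)
      have := IsGaloisGroup.to_isFractionRing_of_isIntegral G R S (FractionRing R) (FractionRing S)
      have := IsGaloisGroup.isGalois G (FractionRing R) (FractionRing S)
      have := IsGaloisGroup.finiteDimensional G (FractionRing R) (FractionRing S)
      have : IsIntegralClosure S R (FractionRing S) := inferInstance
      have : Module.Finite R S :=
        IsIntegralClosure.finite R (FractionRing R) (FractionRing S) S
      exact IsNoetherianRing.of_finite R S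
    rw [eq_bot_iff]
    intro σ hσ
    refine Subgroup.mem_bot.mpr (eq_of_smul_eq_smul (α := S) fun x => ?_)
    rw [one_smul, ← sub_eq_zero, ← Ideal.mem_bot,
      ← Ideal.iInf_pow_eq_bot_of_isDomain n Ideal.IsPrime.ne_top', Submodule.mem_iInf]
    intro i
    exact Ideal.pow_le_pow_right (Nat.le_succ i)
      (H9Ram.moves_pow_of_map_eq (IsLocalRing.maximalIdeal R) n hmap hσ i x)

end Groth.Agent.S18535
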