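import Groth.Statements.S18536
import Groth.Agent.H9Cpl.Main
-- import your own Groth.Agent.* helpers here

set_option autoImplicit false
universe u
open EtAlg

namespace Groth.Agent.S18536

/-- Let R be an excellent normal local domain with fraction field K, let L, M ⊇ K be two finite
separable field extensions, both contained in a field Ω that they generate, let A ⊆ Ω be the
localization of the integral closure of R in Ω at one of its maximal ideals, and put S = A ∩ L, T =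
A ∩ M (local rings dominated by A); the completions at the maximal ideals give maps Ŝ → Â ← T̂ (the
algebra structures below are these inclusions and completed inclusions, pinned by the stated
compatibilities). If the residue field of A is generated, over the residue field of S, by the image
of the residue field of T, then the fraction field of Â is the compositum of the fraction fields of
Ŝ and T̂ inside it: every element of Â is a quotient of two elements of the subring of Â generated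
by the images of Ŝ and T̂. -/
theorem result
    (R K L M Ω : Type u) [CommRing R] [IsDomain R] [IsLocalRing R] [IsIntegrallyClosed R]
    (hR : EGA4.IsExcellent R)
    [Field K] [Field L] [Field M] [Field Ω]
    [Algebra R K] [IsFractionRing R K]
    [Algebra K L] [Algebra K M] [Algebra K Ω] [Algebra L Ω] [Algebra M Ω]
    [IsScalarTower K L Ω] [IsScalarTower K M Ω]
    [FiniteDimensional K L] [FiniteDimensional K M] [Algebra.IsSeparable K L] [Algebra.IsSeparable K M]
    (hΩ : IntermediateField.adjoin K (Set.range (algebraMap L Ω) ∪ Set.range (algebraMap M Ω)) = ⊤)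
    [Algebra R L] [Algebra R M] [Algebra R Ω] [IsScalarTower R K L] [IsScalarTower R K M] [IsScalarTower R K Ω]
    [IsScalarTower R L Ω] [IsScalarTower R M Ω]
    (𝔪 : Ideal ↥(integralClosure R Ω)) [𝔪.IsMaximal]
    (A : Subalgebra R Ω)
    (hA : ∀ z : Ω, z ∈ A ↔ ∃ a b : ↥(integralClosure R Ω), b ∉ 𝔪 ∧ z * (b : Ω) = (a : Ω))
    [IsLocalRing ↥A] [IsLocalRing ↥(Subalgebra.comap (IsScalarTower.toAlgHom R L Ω) A)] [IsLocalRing ↥(Subalgebra.comap (IsScalarTower.toAlgHom R M Ω) A)]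
    [Algebra ↥(Subalgebra.comap (IsScalarTower.toAlgHom R L Ω) A) ↥A]
    (hSA : ∀ s : ↥(Subalgebra.comap (IsScalarTower.toAlgHom R L Ω) A), ((algebraMap ↥(Subalgebra.comap (IsScalarTower.toAlgHom R L Ω) A) ↥A s : ↥A) : Ω) = algebraMap L Ω (s : L))
    [Algebra ↥(Subalgebra.comap (IsScalarTower.toAlgHom R M Ω) A) ↥A]
    (hTA : ∀ t : ↥(Subalgebra.comap (IsScalarTower.toAlgHom R M Ω) A), ((algebraMap ↥(Subalgebra.comap (IsScalarTower.toAlgHom R M Ω) A) ↥A t : ↥A) : Ω) = algebraMap M Ω (t : M))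
    [Algebra (EGA4.Cpl ↥(Subalgebra.comap (IsScalarTower.toAlgHom R L Ω) A)) (EGA4.Cpl ↥A)]
    (hcS : ∀ s : ↥(Subalgebra.comap (IsScalarTower.toAlgHom R L Ω) A), algebraMap (EGA4.Cpl ↥(Subalgebra.comap (IsScalarTower.toAlgHom R L Ω) A)) (EGA4.Cpl ↥A) (algebraMap ↥(Subalgebra.comap (IsScalarTower.toAlgHom R L Ω) A) (EGA4.Cpl ↥(Subalgebra.comap (IsScalarTower.toAlgHom R L Ω) A)) s) =
      algebraMap ↥A (EGA4.Cpl ↥A) (algebraMap ↥(Subalgebra.comap (IsScalarTower.toAlgHom R L Ω) A) ↥A s))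
    [Algebra (EGA4.Cpl ↥(Subalgebra.comap (IsScalarTower.toAlgHom R M Ω) A)) (EGA4.Cpl ↥A)]
    (hcT : ∀ t : ↥(Subalgebra.comap (IsScalarTower.toAlgHom R M Ω) A), algebraMap (EGA4.Cpl ↥(Subalgebra.comap (IsScalarTower.toAlgHom R M Ω) A)) (EGA4.Cpl ↥A) (algebraMap ↥(Subalgebra.comap (IsScalarTower.toAlgHom R M Ω) A) (EGA4.Cpl ↥(Subalgebra.comap (IsScalarTower.toAlgHom R M Ω) A)) t) =
      algebraMap ↥A (EGA4.Cpl ↥A) (algebraMap ↥(Subalgebra.comap (IsScalarTower.toAlgHom R M Ω) A) ↥A t))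
    [(IsLocalRing.maximalIdeal ↥A).LiesOver (IsLocalRing.maximalIdeal ↥(Subalgebra.comap (IsScalarTower.toAlgHom R M Ω) A))]
    [(IsLocalRing.maximalIdeal ↥A).LiesOver (IsLocalRing.maximalIdeal ↥(Subalgebra.comap (IsScalarTower.toAlgHom R L Ω) A))]
    (hres : Algebra.adjoin (↥(Subalgebra.comap (IsScalarTower.toAlgHom R L Ω) A) ⧸ IsLocalRing.maximalIdeal ↥(Subalgebra.comap (IsScalarTower.toAlgHom R L Ω) A))
      (Set.range (algebraMap (↥(Subalgebra.comap (IsScalarTower.toAlgHom R M Ω) A) ⧸ IsLocalRing.maximalIdeal ↥(Subalgebra.comap (IsScalarTower.toAlgHom R M Ω) A)) (↥A ⧸ IsLocalRing.maximalIdeal ↥A))) = ⊤) :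
    ∀ x : (EGA4.Cpl ↥A), ∃ a b : (EGA4.Cpl ↥A), a ∈ Algebra.adjoin (EGA4.Cpl ↥(Subalgebra.comap (IsScalarTower.toAlgHom R L Ω) A)) (Set.range (algebraMap (EGA4.Cpl ↥(Subalgebra.comap (IsScalarTower.toAlgHom R M Ω) A)) (EGA4.Cpl ↥A))) ∧ b ∈ Algebra.adjoin (EGA4.Cpl ↥(Subalgebra.comap (IsScalarTower.toAlgHom R L Ω) A)) (Set.range (algebraMap (EGA4.Cpl ↥(Subalgebra.comap (IsScalarTower.toAlgHom R M Ω) A)) (EGA4.Cpl ↥A))) ∧ b ≠ 0 ∧ x * b = a := by
  exact Groth.Agent.H9Cpl.fractions_compositum hR hΩ 𝔪 A hA hSA hTA (algebraMap (EGA4.Cpl ↥(Subalgebra.comap (IsScalarTower.toAlgHom R L Ω) A)) (EGA4.Cpl ↥A)) hcS (algebraMap (EGA4.Cpl ↥(Subalgebra.comap (IsScalarTower.toAlgHom R M Ω) A)) (EGA4.Cpl ↥A)) hcT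
    (Algebra.adjoin (EGA4.Cpl ↥(Subalgebra.comap (IsScalarTower.toAlgHom R L Ω) A)) (Set.range (algebraMap (EGA4.Cpl ↥(Subalgebra.comap (IsScalarTower.toAlgHom R M Ω) A)) (EGA4.Cpl ↥A)))).toSubring
    (fun s => Subalgebra.algebraMap_mem _ s) (fun c => Algebra.subset_adjoin ⟨c, rfl⟩)

end Groth.Agent.S18536
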