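import Groth.Statements.S18537
import Groth.Agent.H9Cpl.Main
-- import your own Groth.Agent.* helpers here

set_option autoImplicit false
universe u
open EtAlg

namespace Groth.Agent.S18537

/-- Let R be an excellent normal local domain with fraction field K, let L, M ⊇ K be two finite
separable field extensions, both contained in a field Ω that they generate, let A ⊆ Ω be the
localization of the integral closure of R in Ω at one of its maximal ideals, and put S = A ∩ L, T =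
A ∩ M; these are local rings, T ⊆ A, and the completions at the maximal ideals give maps Ŝ → Â ← T̂
(the algebra structures below are these inclusions and completed inclusions, pinned by the stated
compatibilities). If, inside the fraction field of Â, the ring Ŝ lies in the fraction field of T̂
(every element of Ŝ becomes a quotient of two elements of T̂), then A is unramified over T: m_T A =
m_A and A/m_A is a finite separable extension of T/m_T. -/
theorem result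
    (R K L M Ω : Type u) [CommRing R] [IsDomain R] [IsLocalRing R] [IsIntegrallyClosed R]
    (hR : EGA4.IsExcellent R)
    [Field K] [Field L] [Field M] [Field Ω]
    [Algebra R K] [IsFractionRing R K]
    [Algebra K L] [Algebra K M] [Algebra K Ω] [Algebra L Ω] [Algebra M Ω]
    [IsScalarTower K L Ω] [IsScalarTower K M Ω]
    [FiniteDimensional K L] [FiniteDimensional K M] [Algebra.IsSeparable K L] [Algebra.IsSeparable K M]
    (hΩ : IntermediateField.adjoin K (Set.range (algebraMap L Ω) ∪ Set.range (algebraMap M Ω)) = ⊤)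
    [Algebra R L] [Algebra R M] [Algebra R Ω] [IsScalarTower R K L] [IsScalarTower R K M] [IsScalarTower R K Ω]
    [IsScalarTower R L Ω] [IsScalarTower R M Ω]
    (𝔪 : Ideal ↥(integralClosure R Ω)) [𝔪.IsMaximal]
    (A : Subalgebra R Ω)
    (hA : ∀ z : Ω, z ∈ A ↔ ∃ a b : ↥(integralClosure R Ω), b ∉ 𝔪 ∧ z * (b : Ω) = (a : Ω))
    [IsLocalRing ↥A] [IsLocalRing ↥(Subalgebra.comap (IsScalarTower.toAlgHom R L Ω) A)] [IsLocalRing ↥(Subalgebra.comap (IsScalarTower.toAlgHom R M Ω) A)]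
    [Algebra ↥(Subalgebra.comap (IsScalarTower.toAlgHom R L Ω) A) ↥A]
    (hSA : ∀ s : ↥(Subalgebra.comap (IsScalarTower.toAlgHom R L Ω) A), ((algebraMap ↥(Subalgebra.comap (IsScalarTower.toAlgHom R L Ω) A) ↥A s : ↥A) : Ω) = algebraMap L Ω (s : L))
    [Algebra ↥(Subalgebra.comap (IsScalarTower.toAlgHom R M Ω) A) ↥A]
    (hTA : ∀ t : ↥(Subalgebra.comap (IsScalarTower.toAlgHom R M Ω) A), ((algebraMap ↥(Subalgebra.comap (IsScalarTower.toAlgHom R M Ω) A) ↥A t : ↥A) : Ω) = algebraMap M Ω (t : M))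
    [Algebra (EGA4.Cpl ↥(Subalgebra.comap (IsScalarTower.toAlgHom R L Ω) A)) (EGA4.Cpl ↥A)]
    (hcS : ∀ s : ↥(Subalgebra.comap (IsScalarTower.toAlgHom R L Ω) A), algebraMap (EGA4.Cpl ↥(Subalgebra.comap (IsScalarTower.toAlgHom R L Ω) A)) (EGA4.Cpl ↥A) (algebraMap ↥(Subalgebra.comap (IsScalarTower.toAlgHom R L Ω) A) (EGA4.Cpl ↥(Subalgebra.comap (IsScalarTower.toAlgHom R L Ω) A)) s) =
      algebraMap ↥A (EGA4.Cpl ↥A) (algebraMap ↥(Subalgebra.comap (IsScalarTower.toAlgHom R L Ω) A) ↥A s))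
    [Algebra (EGA4.Cpl ↥(Subalgebra.comap (IsScalarTower.toAlgHom R M Ω) A)) (EGA4.Cpl ↥A)]
    (hcT : ∀ t : ↥(Subalgebra.comap (IsScalarTower.toAlgHom R M Ω) A), algebraMap (EGA4.Cpl ↥(Subalgebra.comap (IsScalarTower.toAlgHom R M Ω) A)) (EGA4.Cpl ↥A) (algebraMap ↥(Subalgebra.comap (IsScalarTower.toAlgHom R M Ω) A) (EGA4.Cpl ↥(Subalgebra.comap (IsScalarTower.toAlgHom R M Ω) A)) t) =
      algebraMap ↥A (EGA4.Cpl ↥A) (algebraMap ↥(Subalgebra.comap (IsScalarTower.toAlgHom R M Ω) A) ↥A t))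
    [(IsLocalRing.maximalIdeal ↥A).LiesOver (IsLocalRing.maximalIdeal ↥(Subalgebra.comap (IsScalarTower.toAlgHom R M Ω) A))]
    (hLM : ∀ x : (EGA4.Cpl ↥(Subalgebra.comap (IsScalarTower.toAlgHom R L Ω) A)), ∃ a b : (EGA4.Cpl ↥(Subalgebra.comap (IsScalarTower.toAlgHom R M Ω) A)), algebraMap (EGA4.Cpl ↥(Subalgebra.comap (IsScalarTower.toAlgHom R M Ω) A)) (EGA4.Cpl ↥A) b ≠ 0 ∧
      algebraMap (EGA4.Cpl ↥(Subalgebra.comap (IsScalarTower.toAlgHom R L Ω) A)) (EGA4.Cpl ↥A) x * algebraMap (EGA4.Cpl ↥(Subalgebra.comap (IsScalarTower.toAlgHom R M Ω) A)) (EGA4.Cpl ↥A) b = algebraMap (EGA4.Cpl ↥(Subalgebra.comap (IsScalarTower.toAlgHom R M Ω) A)) (EGA4.Cpl ↥A) a) :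
    (IsLocalRing.maximalIdeal ↥(Subalgebra.comap (IsScalarTower.toAlgHom R M Ω) A)).map (algebraMap ↥(Subalgebra.comap (IsScalarTower.toAlgHom R M Ω) A) ↥A) = IsLocalRing.maximalIdeal ↥A ∧
      Module.Finite (↥(Subalgebra.comap (IsScalarTower.toAlgHom R M Ω) A) ⧸ IsLocalRing.maximalIdeal ↥(Subalgebra.comap (IsScalarTower.toAlgHom R M Ω) A)) (↥A ⧸ IsLocalRing.maximalIdeal ↥A) ∧
      Algebra.IsSeparable (↥(Subalgebra.comap (IsScalarTower.toAlgHom R M Ω) A) ⧸ IsLocalRing.maximalIdeal ↥(Subalgebra.comap (IsScalarTower.toAlgHom R M Ω) A)) (↥A ⧸ IsLocalRing.maximalIdeal ↥A) := by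
  obtain ⟨h1, h2⟩ := Groth.Agent.H9Cpl.unramified_of_le hR hΩ 𝔪 A hA hSA hTA (algebraMap (EGA4.Cpl ↥(Subalgebra.comap (IsScalarTower.toAlgHom R L Ω) A)) (EGA4.Cpl ↥A)) hcS (algebraMap (EGA4.Cpl ↥(Subalgebra.comap (IsScalarTower.toAlgHom R M Ω) A)) (EGA4.Cpl ↥A)) hcT hLM
  exact ⟨h1, Groth.Agent.H9Cpl.residue_finite_separable h2⟩

end Groth.Agent.S18537
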