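import Groth.Statements.S18539
import Mathlib.RingTheory.Derivation.Basic
import Mathlib.RingTheory.Flat.Equalizer
import Mathlib.RingTheory.Henselian
import Mathlib.RingTheory.Regular.RegularSequence
import Mathlib.RingTheory.RegularLocalRing.Defs
import Mathlib.RingTheory.SimpleRing.Principal

set_option autoImplicit false
universe u v w
open CAlg

namespace Groth.Agent.S18539

/-- For a commutative ring R, R-modules M and N and elements r₁, r₂ of R such that r₁ is a
non-zero-divisor on N and r₂ is a non-zero-divisor on N/r₁N, the element r₁ is a non-zero-divisor on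
the module Hom_R(M, N) and r₂ is a non-zero-divisor on Hom_R(M, N)/r₁Hom_R(M, N). (Weak regularity
on both sides: no condition that the quotient by (r₁, r₂) is nonzero, which would fail for M = 0.) -/
theorem result
    (R : Type u) [CommRing R] (M : Type v) (N : Type w)
    [AddCommGroup M] [Module R M] [AddCommGroup N] [Module R N]
    (r₁ r₂ : R) (h : RingTheory.Sequence.IsWeaklyRegular N [r₁, r₂]) :
    RingTheory.Sequence.IsWeaklyRegular (M →ₗ[R] N) [r₁, r₂] := by
  rw [RingTheory.Sequence.isWeaklyRegular_cons_iff, RingTheory.Sequence.isWeaklyRegular_cons_iff] at h ⊢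
  obtain ⟨h1, h2, -⟩ := h
  refine ⟨fun f g hfg => LinearMap.ext fun m => h1 (LinearMap.congr_fun hfg m), ?_, RingTheory.Sequence.IsWeaklyRegular.nil R _⟩
  rw [isSMulRegular_iff_right_eq_zero_of_smul]
  intro x hx
  obtain ⟨f, rfl⟩ := Submodule.Quotient.mk_surjective _ x
  rw [← Submodule.Quotient.mk_smul, Submodule.Quotient.mk_eq_zero, Submodule.mem_smul_pointwise_iff_exists] at hx
  obtain ⟨g, -, hg⟩ := hx
  have key : ∀ m, ∃ n : N, f m = r₁ • n := fun m => by
    have h3 : r₂ • (Submodule.Quotient.mk (f m) : QuotSMulTop r₁ N) = 0 := by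
      rw [← Submodule.Quotient.mk_smul, Submodule.Quotient.mk_eq_zero, Submodule.mem_smul_pointwise_iff_exists]
      exact ⟨g m, trivial, LinearMap.congr_fun hg m⟩
    have h4 : (Submodule.Quotient.mk (f m) : QuotSMulTop r₁ N) = 0 := h2 (by simpa using h3)
    rw [Submodule.Quotient.mk_eq_zero, Submodule.mem_smul_pointwise_iff_exists] at h4
    obtain ⟨n, -, hn⟩ := h4
    exact ⟨n, hn.symm⟩
  choose q hq using key
  let q' : M →ₗ[R] N :=
    { toFun := q
      map_add' := fun a b => h1 (by simp [smul_add, ← hq])
      map_smul' := fun c a => h1 (by simp [smul_comm r₁ c, ← hq]) }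
  rw [Submodule.Quotient.mk_eq_zero, Submodule.mem_smul_pointwise_iff_exists]
  exact ⟨q', trivial, LinearMap.ext fun m => (hq m).symm⟩

end Groth.Agent.S18539
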