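import Groth.Statements.S1854
import Groth.Agent.H1CAlg.CycDetNonzero

set_option autoImplicit false
universe u
open TensorProduct
open CycDet

namespace Groth.Agent.S1854

open CycDet Groth.Agent.H1CAlg.CycSym IsLocalRing

theorem exists_nonDeg {R : Type u} [CommRing R] [IsLocalRing R] {M : Type u} [AddCommGroup M] [Module R M]
    [IsArtinian R M] [IsNoetherian R M] {l : ℕ} (hl : (l : ℕ∞) = Module.length R M) :
    ∃ e : Adm R M l, NonDeg (R := R) e.1 := by
  classical
  suffices H : ∀ i, i ≤ l → ∃ e : Adm R M i, NonDeg (R := R) e.1 from H l le_rfl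
  intro i hi
  induction i with
  | zero => exact ⟨⟨fun a => a.elim0, fun a => a.elim0⟩, fun a => a.elim0⟩
  | succ i ih =>
    obtain ⟨e, he⟩ := ih (Nat.le_of_succ_le hi)
    let P := spanBefore R M e.1 i
    have hP : P ≠ ⊤ := by
      intro htop
      have h := (length_spanBefore_le e i le_rfl).1
      rw [show spanBefore R M e.1 i = ⊤ from htop, Module.length_top, ← hl] at h
      exact absurd (ENat.coe_le_coe.1 h) (by omega)
    haveI : Nontrivial (M ⧸ P) := Submodule.Quotient.nontrivial_iff.2 hP
    obtain ⟨S, hS⟩ : ∃ S : Submodule R (M ⧸ P), IsAtom S ∧ S ≤ ⊤ :=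
      (IsAtomic.eq_bot_or_exists_atom_le (⊤ : Submodule R (M ⧸ P))).resolve_left top_ne_bot
    obtain ⟨y, hyS, hy0⟩ := Submodule.exists_mem_ne_zero_of_ne_bot hS.1.1
    obtain ⟨x, rfl⟩ := Submodule.mkQ_surjective P y
    have hx : ∀ r ∈ maximalIdeal R, r • x ∈ P := fun r hr => by
      haveI : IsSimpleModule R S := isSimpleModule_iff_isAtom.2 hS.1
      rw [← Submodule.Quotient.mk_eq_zero, ← Submodule.mkQ_apply, map_smul]
      rcases hS.1.le_iff.1 (show Submodule.span R {r • P.mkQ x} ≤ S from
        (Submodule.span_singleton_le_iff_mem _ _).2 (S.smul_mem r hyS)) with h | h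
      · exact (Submodule.span_singleton_eq_bot.1 h)
      · exfalso
        obtain ⟨c, hc⟩ := Submodule.mem_span_singleton.1 (h.ge hyS)
        have hu : IsUnit (1 - c * r) := by
          rcases IsLocalRing.isUnit_or_isUnit_one_sub_self (c * r) with hh | hh
          · exact absurd (isUnit_of_mul_isUnit_right hh) ((mem_maximalIdeal r).1 hr)
          · exact hh
        refine hy0 ((hu.smul_eq_zero).1 ?_)
        rw [sub_smul, one_smul, mul_smul, hc, sub_self]
    have hxP : x ∉ P := fun h => hy0 ((Submodule.Quotient.mk_eq_zero P).2 h)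
    have hc : ∀ a : Fin (i + 1), (a : ℕ) ≤ i →
        spanBefore R M (Fin.snoc e.1 x : Fin (i + 1) → M) a = spanBefore R M e.1 a := by
      intro a ha
      rw [spanBefore, spanBefore]
      refine congrArg _ (Set.ext fun z => ⟨?_, ?_⟩)
      · rintro ⟨j, hj, rfl⟩
        have hji : (j : ℕ) < i := lt_of_lt_of_le hj ha
        exact ⟨⟨j, hji⟩, hj, by simp [Fin.snoc, hji]; rfl⟩
      · rintro ⟨j, hj, rfl⟩
        exact ⟨j.castSucc, hj, by simp⟩
    refine ⟨⟨Fin.snoc e.1 x, ?_⟩, ?_⟩
    · intro a r hr
      rw [hc a (Nat.lt_succ_iff.1 a.2)]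
      induction a using Fin.lastCases with
      | last => simpa using hx r hr
      | cast a => simpa using e.2 a r hr
    · intro a
      rw [hc a (Nat.lt_succ_iff.1 a.2)]
      induction a using Fin.lastCases with
      | last => simpa using hxP
      | cast a => simpa using he a

section

variable {R : Type u} [CommRing R] [IsLocalRing R] {K L M : Type u} [AddCommGroup K] [Module R K]
  [AddCommGroup L] [Module R L] [AddCommGroup M] [Module R M] {f : K →ₗ[R] L} {g : L →ₗ[R] M}
  (hfg : LinearMap.range f = LinearMap.ker g) {p q : ℕ}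

theorem map_spanBefore_le (a : Fin p → K) (c : Fin q → L) (i : Fin p) :
    (spanBefore R K a i).map f ≤ spanBefore R L (Fin.append (f ∘ a) c) (Fin.castAdd q i) := by
  rw [spanBefore, Submodule.map_span, Submodule.span_le]
  rintro _ ⟨_, ⟨j, hj, rfl⟩, rfl⟩
  exact Submodule.subset_span ⟨Fin.castAdd q j, hj, by simp⟩

include hfg in
theorem mem_of_map_mem {a : Fin p → K} (ha : Submodule.span R (Set.range a) = ⊤) {c : Fin q → L} {j : ℕ}
    {x : L} (hx : g x ∈ spanBefore R M (g ∘ c) j) :
    x ∈ spanBefore R L (Fin.append (f ∘ a) c) (p + j) := by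
  rw [spanBefore, Set.image_comp, ← Submodule.map_span, Submodule.mem_map] at hx
  obtain ⟨y, hy, hgy⟩ := hx
  have h1 : x - y ∈ LinearMap.range f := by
    rw [hfg, LinearMap.mem_ker, map_sub, hgy, sub_self]
  obtain ⟨k, hk⟩ := h1
  rw [show x = f k + y by rw [hk, sub_add_cancel]]
  refine add_mem ?_ ?_
  · have hk' : f k ∈ (Submodule.span R (Set.range a)).map f := ⟨k, ha ▸ Submodule.mem_top, rfl⟩
    rw [Submodule.map_span] at hk'
    refine Submodule.span_le.2 ?_ hk'
    rintro _ ⟨_, ⟨i, rfl⟩, rfl⟩
    exact Submodule.subset_span ⟨Fin.castAdd q i, by simp; omega, by simp⟩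
  · refine Submodule.span_le.2 ?_ hy
    rintro _ ⟨i, hi, rfl⟩
    exact Submodule.subset_span ⟨Fin.natAdd p i, by simpa using hi, by simp⟩

include hfg in
theorem admissible_append {a : Adm R K p} (ha : Submodule.span R (Set.range a.1) = ⊤) (c : Fin q → L)
    (hc : IsAdmissible R M (g ∘ c)) : IsAdmissible R L (Fin.append (f ∘ a.1) c) := by
  intro i r hr
  induction i using Fin.addCases with
  | left i =>
    rw [Fin.append_left, Function.comp_apply, ← map_smul]
    exact map_spanBefore_le a.1 c i ⟨_, a.2 i r hr, rfl⟩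
  | right j =>
    rw [Fin.append_right, Fin.val_natAdd]
    exact mem_of_map_mem hfg ha (by rw [map_smul]; exact hc j r hr)

include hfg in
theorem span_append_eq_top {a : Fin p → K} (ha : Submodule.span R (Set.range a) = ⊤) (c : Fin q → L)
    (hc : Submodule.span R (Set.range (g ∘ c)) = ⊤) :
    Submodule.span R (Set.range (Fin.append (f ∘ a) c)) = ⊤ := by
  rw [eq_top_iff, ← spanBefore_of_le (R := R) (Fin.append (f ∘ a) c) (le_refl (p + q))]
  intro x _
  exact mem_of_map_mem hfg ha (by rw [spanBefore_of_le (R := R) (g ∘ c) le_rfl, hc]; exact Submodule.mem_top)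

/-- The tuple of `L` obtained from tuples of `K` and lifts of a tuple of `M`. -/
def glue (a : Adm R K p) (ha : Submodule.span R (Set.range a.1) = ⊤) (c : Fin q → L)
    (hc : IsAdmissible R M (g ∘ c)) : Adm R L (p + q) :=
  ⟨Fin.append (f ∘ a.1) c, admissible_append hfg ha c hc⟩

theorem cls_glue_lift (a : Adm R K p) (ha : Submodule.span R (Set.range a.1) = ⊤) {c c' : Fin q → L}
    (hc : IsAdmissible R M (g ∘ c)) (hc' : IsAdmissible R M (g ∘ c')) (h : g ∘ c = g ∘ c') :
    cls (glue hfg a ha c hc) = cls (glue hfg a ha c' hc') := by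
  classical
  suffices H : ∀ (T : Finset (Fin q)) (d : Fin q → L) (hd : IsAdmissible R M (g ∘ d)), g ∘ d = g ∘ c' →
      (∀ j, j ∉ T → d j = c' j) → cls (glue hfg a ha d hd) = cls (glue hfg a ha c' hc') from
    H Finset.univ c hc h fun j hj => absurd (Finset.mem_univ j) hj
  intro T
  induction T using Finset.induction with
  | empty =>
    intro d hd _ hT
    obtain rfl : d = c' := funext fun j => hT j (Finset.notMem_empty j)
    rfl
  | @insert j T hjT ih =>
    intro d hd hgd hT
    let d' := Function.update d j (c' j)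
    have hgd' : g ∘ d' = g ∘ d := funext fun k => by
      by_cases hk : k = j
      · subst hk
        show g (Function.update d k (c' k) k) = g (d k)
        rw [Function.update_self]
        exact (congrFun hgd k).symm
      · simp [d', Function.update_of_ne hk]
    rw [← ih d' (hgd' ▸ hd) (hgd'.trans hgd) (fun k hk => by
      by_cases hkj : k = j
      · subst hkj; simp [d']
      · simp only [d', Function.update_of_ne hkj]
        exact hT k (by simp [hkj, hk]))]
    refine (cls_change (e' := glue hfg a ha d' (hgd' ▸ hd)) (a := Fin.natAdd p j) (c := 1) (fun k hk => ?_) ?_).trans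
      (by rw [Units.val_one, map_one, one_smul])
    · induction k using Fin.addCases with
      | left k => simp [glue]
      | right k =>
        have : k ≠ j := fun hh => hk (hh ▸ rfl)
        simp [glue, d', Function.update_of_ne this]
    · show Fin.append (f ∘ a.1) d (Fin.natAdd p j) - ((1 : Rˣ) : R) • Fin.append (f ∘ a.1) d' (Fin.natAdd p j) ∈
        spanBefore R L (Fin.append (f ∘ a.1) d) (Fin.natAdd p j : ℕ)
      rw [Fin.append_right, Fin.append_right, Units.val_one, one_smul, Fin.val_natAdd]
      refine mem_of_map_mem hfg ha ?_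
      rw [map_sub, show g (d' j) = g (d j) from congrFun hgd' j, sub_self]
      exact zero_mem _

include hfg in
theorem exists_left [IsArtinian R K] [IsNoetherian R K] (hp : (p : ℕ∞) = Module.length R K) (c : Fin q → L)
    (hc : IsAdmissible R M (g ∘ c)) :
    ∃ A : DetOfLen R K p →ₗ[ResidueField R] DetOfLen R L (p + q),
      ∀ (a : Adm R K p) (ha : Submodule.span R (Set.range a.1) = ⊤), A (cls a) = cls (glue hfg a ha c hc) := by
  classical
  have htop : ∀ a : Adm R K p, NonDeg (R := R) a.1 → Submodule.span R (Set.range a.1) = ⊤ := fun a ha => by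
    rw [← spanBefore_of_le (R := R) a.1 le_rfl]; exact span_eq_top_of_nonDeg hp a ha
  let F : Adm R K p → DetOfLen R L (p + q) := fun a =>
    if h : NonDeg (R := R) a.1 then cls (glue hfg a (htop a h) c hc) else 0
  let A₀ : Free R K p →ₗ[ResidueField R] DetOfLen R L (p + q) := Finsupp.linearCombination _ F
  have hA₀ : ∀ a, A₀ (sym R K a) = F a := fun a => by simp [A₀, sym]
  have hrel : Submodule.span (ResidueField R) (relSet R K p) ≤ LinearMap.ker A₀ := by
    rw [Submodule.span_le]
    rintro x ((⟨e, a, ha, rfl⟩ | ⟨e, e', a, u, h, h', rfl⟩) | ⟨e, e', a, b, hab, h, hsw, rfl⟩)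
    · rw [SetLike.mem_coe, LinearMap.mem_ker, hA₀]
      exact dif_neg fun hh => hh a ha
    · rw [SetLike.mem_coe, LinearMap.mem_ker, map_sub, map_smul, hA₀, hA₀, sub_eq_zero]
      by_cases he : NonDeg (R := R) e.1
      · simp only [F, dif_pos he, dif_pos ((nonDeg_change h h').1 he)]
        refine cls_change (a := Fin.castAdd q a) (fun k hk => ?_) ?_
        · induction k using Fin.addCases with
          | left k =>
            have : k ≠ a := fun hh => hk (hh ▸ rfl)
            simp [glue, h k this]
          | right k => simp [glue]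
        · show Fin.append (f ∘ e.1) c (Fin.castAdd q a) - (u : R) • Fin.append (f ∘ e'.1) c (Fin.castAdd q a) ∈ _
          rw [Fin.append_left, Fin.append_left, Function.comp_apply, Function.comp_apply, ← map_smul, ← map_sub]
          exact map_spanBefore_le e.1 c a ⟨_, h', rfl⟩
      · simp only [F, dif_neg he, dif_neg fun hh => he ((nonDeg_change h h').2 hh), smul_zero]
    · obtain ⟨e', he''⟩ := e'
      simp only at hsw
      subst hsw
      rw [SetLike.mem_coe, LinearMap.mem_ker, map_add, hA₀, hA₀]
      by_cases he : NonDeg (R := R) e.1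
      · simp only [F, dif_pos he, dif_pos (nonDeg_swap e.1 hab h he)]
        rw [cls_swap (a := Fin.castAdd q a) (b := Fin.castAdd q b)
          (e' := glue hfg ⟨_, he''⟩ (htop _ (nonDeg_swap e.1 hab h he)) c hc) (by simpa using hab) ?_ ?_,
          neg_add_cancel]
        · intro r hr
          show r • Fin.append (f ∘ e.1) c (Fin.castAdd q a) ∈ _
          rw [Fin.append_left, Function.comp_apply, ← map_smul]
          exact map_spanBefore_le e.1 c b ⟨_, h r hr, rfl⟩
        · funext k
          induction k using Fin.addCases with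
          | left k =>
            show Fin.append _ c (Fin.castAdd q k) = Fin.append _ c (Equiv.swap _ _ (Fin.castAdd q k))
            rw [(Fin.castAdd_injective p q).swap_apply, Fin.append_left, Fin.append_left]
            rfl
          | right k =>
            show Fin.append _ c (Fin.natAdd p k) = Fin.append _ c (Equiv.swap _ _ (Fin.natAdd p k))
            rw [Equiv.swap_apply_of_ne_of_ne (fun hh => ?_) (fun hh => ?_), Fin.append_right, Fin.append_right] <;>
              (have := congrArg Fin.val hh; simp at this; omega)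
      · have he' : ¬ NonDeg (R := R) (e.1 ∘ Equiv.swap a b) := fun hh => he (by
          have := nonDeg_swap _ hab (admissible_congr_swap e hab) hh
          rwa [swap_swap_comp] at this)
        simp only [F, dif_neg he, dif_neg he', add_zero]
  refine ⟨Submodule.liftQ _ A₀ hrel, fun a ha => ?_⟩
  show A₀ (sym R K a) = _
  rw [hA₀]
  exact dif_pos (nonDeg_of_span_eq_top hp a ha)

include hfg in
theorem exists_right [IsArtinian R M] [IsNoetherian R M] (hq : (q : ℕ∞) = Module.length R M)
    (hg : Function.Surjective g) (a : Adm R K p) (ha : Submodule.span R (Set.range a.1) = ⊤) :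
    ∃ B : DetOfLen R M q →ₗ[ResidueField R] DetOfLen R L (p + q),
      ∀ (c : Fin q → L) (e : Adm R M q) (h : g ∘ c = e.1), NonDeg (R := R) e.1 →
        B (cls e) = cls (glue hfg a ha c (h ▸ e.2)) := by
  classical
  let σ := Function.surjInv hg
  have hσ : ∀ e : Fin q → M, g ∘ (σ ∘ e) = e := fun e => funext fun j => Function.surjInv_eq hg _
  let G : Adm R M q → DetOfLen R L (p + q) := fun e =>
    if NonDeg (R := R) e.1 then cls (glue hfg a ha (σ ∘ e.1) ((hσ e.1).symm ▸ e.2)) else 0
  let B₀ : Free R M q →ₗ[ResidueField R] DetOfLen R L (p + q) := Finsupp.linearCombination _ G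
  have hB₀ : ∀ e, B₀ (sym R M e) = G e := fun e => by simp [B₀, sym]
  have hrel : Submodule.span (ResidueField R) (relSet R M q) ≤ LinearMap.ker B₀ := by
    rw [Submodule.span_le]
    rintro x ((⟨e, i, hi, rfl⟩ | ⟨e, e', i, u, h, h', rfl⟩) | ⟨e, e', i, j, hij, h, hsw, rfl⟩)
    · rw [SetLike.mem_coe, LinearMap.mem_ker, hB₀]
      exact if_neg fun hh => hh i hi
    · rw [SetLike.mem_coe, LinearMap.mem_ker, map_sub, map_smul, hB₀, hB₀, sub_eq_zero]
      by_cases he : NonDeg (R := R) e.1
      · simp only [G, if_pos he, if_pos ((nonDeg_change h h').1 he)]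
        refine cls_change (a := Fin.natAdd p i) (fun k hk => ?_) ?_
        · induction k using Fin.addCases with
          | left k => simp [glue]
          | right k =>
            have : k ≠ i := fun hh => hk (hh ▸ rfl)
            simp [glue, h k this]
        · show Fin.append (f ∘ a.1) (σ ∘ e.1) (Fin.natAdd p i) -
            (u : R) • Fin.append (f ∘ a.1) (σ ∘ e'.1) (Fin.natAdd p i) ∈
            spanBefore R L (Fin.append (f ∘ a.1) (σ ∘ e.1)) (Fin.natAdd p i : ℕ)
          rw [Fin.append_right, Fin.append_right, Fin.val_natAdd]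
          refine mem_of_map_mem hfg ha ?_
          rw [hσ, map_sub, map_smul, show g ((σ ∘ e.1) i) = e.1 i from congrFun (hσ e.1) i,
            show g ((σ ∘ e'.1) i) = e'.1 i from congrFun (hσ e'.1) i]
          exact h'
      · simp only [G, if_neg he, if_neg fun hh => he ((nonDeg_change h h').2 hh), smul_zero]
    · obtain ⟨e', he''⟩ := e'
      simp only at hsw
      subst hsw
      rw [SetLike.mem_coe, LinearMap.mem_ker, map_add, hB₀, hB₀]
      by_cases he : NonDeg (R := R) e.1
      · simp only [G, if_pos he, if_pos (nonDeg_swap e.1 hij h he)]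
        rw [cls_swap (a := Fin.natAdd p i) (b := Fin.natAdd p j)
          (e' := glue hfg a ha (σ ∘ (e.1 ∘ Equiv.swap i j)) ((hσ _).symm ▸ he'')) (by simp; omega) ?_ ?_,
          neg_add_cancel]
        · intro r hr
          show r • Fin.append (f ∘ a.1) (σ ∘ e.1) (Fin.natAdd p i) ∈
            spanBefore R L (Fin.append (f ∘ a.1) (σ ∘ e.1)) (Fin.natAdd p j : ℕ)
          rw [Fin.append_right, Fin.val_natAdd]
          refine mem_of_map_mem hfg ha ?_
          rw [hσ, map_smul, show g ((σ ∘ e.1) i) = e.1 i from congrFun (hσ e.1) i]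
          exact h r hr
        · funext k
          induction k using Fin.addCases with
          | left k =>
            show Fin.append _ _ (Fin.castAdd q k) = Fin.append _ _ (Equiv.swap _ _ (Fin.castAdd q k))
            rw [Equiv.swap_apply_of_ne_of_ne (fun hh => ?_) (fun hh => ?_), Fin.append_left, Fin.append_left] <;>
              (have := congrArg Fin.val hh; simp at this; omega)
          | right k =>
            show Fin.append _ _ (Fin.natAdd p k) = Fin.append _ _ (Equiv.swap _ _ (Fin.natAdd p k))
            rw [(Fin.natAdd_injective q p).swap_apply, Fin.append_right, Fin.append_right]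
            rfl
      · have he' : ¬ NonDeg (R := R) (e.1 ∘ Equiv.swap i j) := fun hh => he (by
          have := nonDeg_swap _ hij (admissible_congr_swap e hij) hh
          rwa [swap_swap_comp] at this)
        simp only [G, if_neg he, if_neg he', add_zero]
  refine ⟨Submodule.liftQ _ B₀ hrel, fun c e h he => ?_⟩
  show B₀ (sym R M e) = _
  rw [hB₀]
  simp only [G, if_pos he]
  exact cls_glue_lift hfg a ha _ _ ((hσ e.1).trans h.symm)

include hfg in
theorem exists_gamma [IsArtinian R K] [IsNoetherian R K] [IsArtinian R M] [IsNoetherian R M]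
    [IsArtinian R L] [IsNoetherian R L] (hg : Function.Surjective g)
    (hp : (p : ℕ∞) = Module.length R K) (hq : (q : ℕ∞) = Module.length R M) {n : ℕ} (hpq : p + q = n)
    (hn : (n : ℕ∞) = Module.length R L) :
    ∃ γ : DetOfLen R K p ⊗[ResidueField R] DetOfLen R M q ≃ₗ[ResidueField R] DetOfLen R L n,
      ∀ (a : Adm R K p) (e : Adm R M q) (d : Adm R L n), cls a ≠ 0 →
        (∀ i : Fin p, d.1 (Fin.cast hpq (Fin.castAdd q i)) = f (a.1 i)) →
        (∀ j : Fin q, g (d.1 (Fin.cast hpq (Fin.natAdd p j))) = e.1 j) →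
        γ (cls a ⊗ₜ cls e) = cls d := by
  classical
  subst hpq
  simp only [Fin.cast_refl, id_eq]
  let κ := ResidueField R
  have top : ∀ {N : Type u} [AddCommGroup N] [Module R N] [IsArtinian R N] [IsNoetherian R N] {l : ℕ},
      (l : ℕ∞) = Module.length R N → ∀ a : Adm R N l, NonDeg (R := R) a.1 →
        Submodule.span R (Set.range a.1) = ⊤ := fun hl a ha => by
    rw [← spanBefore_of_le (R := R) a.1 le_rfl]; exact span_eq_top_of_nonDeg hl a ha
  have equiv : ∀ {N : Type u} [AddCommGroup N] [Module R N] [IsArtinian R N] [IsNoetherian R N] {l : ℕ},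
      (l : ℕ∞) = Module.length R N → ∀ a : Adm R N l, NonDeg (R := R) a.1 →
        Function.Bijective (LinearMap.toSpanSingleton κ (DetOfLen R N l) (cls a)) := by
    intro N _ _ _ _ l hl a ha
    refine ⟨smul_left_injective κ (cls_ne_zero hl ha), fun y => ?_⟩
    obtain ⟨v₀, hv⟩ := exists_generator (R := R) (M := N) hl
    obtain ⟨c, hc⟩ : ∃ c : κ, c • v₀ = cls a := Submodule.mem_span_singleton.1 (hv ▸ Submodule.mem_top)
    obtain ⟨d, hd⟩ : ∃ d : κ, d • v₀ = y := Submodule.mem_span_singleton.1 (hv ▸ Submodule.mem_top)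
    have hc0 : c ≠ 0 := fun h => cls_ne_zero hl ha (by rw [← hc, h, zero_smul])
    exact ⟨d * c⁻¹, by
      rw [LinearMap.toSpanSingleton_apply, ← hc, smul_smul, mul_assoc, inv_mul_cancel₀ hc0, mul_one, hd]⟩
  obtain ⟨a₀, ha₀⟩ := exists_nonDeg hp
  obtain ⟨e₀, he₀⟩ := exists_nonDeg hq
  let c₀ : Fin q → L := fun j => Function.surjInv hg (e₀.1 j)
  have hc₀ : g ∘ c₀ = e₀.1 := funext fun j => Function.surjInv_eq hg _
  let d₀ := glue hfg a₀ (top hp a₀ ha₀) c₀ (hc₀ ▸ e₀.2)
  have hd₀ : NonDeg (R := R) d₀.1 := nonDeg_of_span_eq_top hn d₀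
    (span_append_eq_top hfg (top hp a₀ ha₀) c₀ (hc₀ ▸ top hq e₀ he₀))
  let EK := LinearEquiv.ofBijective _ (equiv hp a₀ ha₀)
  let EM := LinearEquiv.ofBijective _ (equiv hq e₀ he₀)
  let EL := LinearEquiv.ofBijective _ (equiv hn d₀ hd₀)
  let γ := (TensorProduct.congr EK.symm EM.symm).trans ((TensorProduct.lid κ κ).trans EL)
  refine ⟨γ, fun a e d hne hd1 hd2 => ?_⟩
  have ha : NonDeg (R := R) a.1 := by
    by_contra h; exact hne (cls_eq_zero h)
  let c : Fin q → L := fun j => d.1 (Fin.natAdd p j)
  have hgc : g ∘ c = e.1 := funext hd2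
  have hd : d = glue hfg a (top hp a ha) c (hgc ▸ e.2) := Subtype.ext (funext fun k => by
    induction k using Fin.addCases with
    | left k => simpa [glue] using hd1 k
    | right k => simp [glue, c])
  by_cases he : NonDeg (R := R) e.1
  swap
  · rw [cls_eq_zero he, TensorProduct.tmul_zero, map_zero, eq_comm]
    refine cls_eq_zero fun hh => he fun j hj => hh (Fin.natAdd p j) ?_
    rw [hd]
    show Fin.append (f ∘ a.1) c (Fin.natAdd p j) ∈
      spanBefore R L (Fin.append (f ∘ a.1) c) (Fin.natAdd p j : ℕ)
    rw [Fin.append_right, Fin.val_natAdd]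
    refine mem_of_map_mem hfg (top hp a ha) ?_
    rw [hgc, show g (c j) = e.1 j from congrFun hgc j]
    exact hj
  obtain ⟨A, hA⟩ := exists_left hfg hp c (hgc ▸ e.2)
  obtain ⟨B, hB⟩ := exists_right hfg hq hg a₀ (top hp a₀ ha₀)
  obtain ⟨s, hs⟩ : ∃ s : κ, s • cls a₀ = cls a := (equiv hp a₀ ha₀).2 (cls a)
  obtain ⟨t, ht⟩ : ∃ t : κ, t • cls e₀ = cls e := (equiv hq e₀ he₀).2 (cls e)
  have h1 : cls d = (s * t) • cls d₀ := by
    rw [hd, ← hA a (top hp a ha), ← hs, map_smul, hA a₀ (top hp a₀ ha₀), ← hB c e hgc he, ← ht, map_smul,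
      hB c₀ e₀ hc₀ he₀, smul_smul]
  have hK : EK.symm (cls a) = s := EK.symm_apply_eq.2 hs.symm
  have hM : EM.symm (cls e) = t := EM.symm_apply_eq.2 ht.symm
  show EL (TensorProduct.lid κ κ (EK.symm (cls a) ⊗ₜ EM.symm (cls e))) = cls d
  rw [hK, hM, TensorProduct.lid_tmul, smul_eq_mul, h1]
  rfl

end

/-- Existence and the defining rule; the compatibilities (1)–(3) of the source are not restated: let 0 →
K → L → M → 0 be a short exact sequence of finite length modules over a local ring with residue
field κ. There is a κ-linear isomorphism γ : det_κ(K) ⊗ det_κ(M) → det_κ(L) such that whenever (e_i)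
is an admissible tuple of K with nonzero symbol, (f̄_j) an admissible tuple of M, and (g) the
admissible tuple of L consisting of the images of the e_i followed by lifts of the f̄_j, one has
γ([e] ⊗ [f̄]) = [g]. -/
theorem result (R : Type u) [CommRing R] [IsLocalRing R] (K L M : Type u) [AddCommGroup K] [Module R K] [AddCommGroup L] [Module R L] [AddCommGroup M] [Module R M] (hK : IsFiniteLength R K) (hM : IsFiniteLength R M) (f : K →ₗ[R] L) (g : L →ₗ[R] M) (hf : Function.Injective f) (hg : Function.Surjective g) (hfg : LinearMap.range f = LinearMap.ker g) (hlen : (Module.length R K).toNat + (Module.length R M).toNat = (Module.length R L).toNat) : ∃ γ : (CycDet.Det R K ⊗[IsLocalRing.ResidueField R] CycDet.Det R M) ≃ₗ[IsLocalRing.ResidueField R] CycDet.Det R L, ∀ (eK : CycDet.Adm R K (Module.length R K).toNat) (eM : CycDet.Adm R M (Module.length R M).toNat) (eL : CycDet.Adm R L (Module.length R L).toNat), CycDet.symbol R K eK ≠ 0 → (∀ i : Fin (Module.length R K).toNat, eL.1 (Fin.cast hlen (Fin.castAdd (Module.length R M).toNat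 i)) = f (eK.1 i)) → (∀ j : Fin (Module.length R M).toNat, g (eL.1 (Fin.cast hlen (Fin.natAdd (Module.length R K).toNat j))) = eM.1 j) → γ (CycDet.symbol R K eK ⊗ₜ CycDet.symbol R M eM) = CycDet.symbol R L eL := by
  obtain ⟨_, _⟩ := isFiniteLength_iff_isNoetherian_isArtinian.1 hK
  obtain ⟨_, _⟩ := isFiniteLength_iff_isNoetherian_isArtinian.1 hM
  haveI : IsNoetherian R L := isNoetherian_of_range_eq_ker f g hfg
  haveI : IsArtinian R L := isArtinian_of_range_eq_ker f g hfg
  exact exists_gamma hfg hg (ENat.natCast_toNat Module.length_ne_top) (ENat.natCast_toNat Module.length_ne_top)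
    hlen (ENat.natCast_toNat Module.length_ne_top)

end Groth.Agent.S1854
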