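import Groth.Statements.S18541
import Groth.Agent.H25Dual.Mumford
import Groth.Agent.H25AbCube.FrobPoly
import Groth.Agent.H25AbCube.TorsionStr


set_option autoImplicit false
set_option linter.style.haveILetI false
set_option backward.isDefEq.respectTransparency false
set_option synthInstance.maxHeartbeats 200000
universe u
open CategoryTheory MonoidalCategory CartesianMonoidalCategory MonObj GrpObj AlgebraicGeometry
open AbVar

namespace Groth.Agent.S18541

/-- Let k be a finite field with q elements and A an abelian variety over k (a commutative group scheme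
over k which is smooth and proper with geometrically connected fibres), given with a dual (A^t, φ)
for the fppf topology. Let π : A → A be the q-power Frobenius endomorphism of A (the identity on the
underlying space and the q-th power map on sections; a homomorphism) and π^t : A^t → A^t a transpose
of π. Let L be an invertible module on A and λ_L : A → A^t the homomorphism Λ(L) attached to L
through φ. Then π followed by λ_L followed by π^t is q·λ_L, the q-th power of λ_L in the group of
morphisms A → A^t. (The published statement fixes L ample and reads π^‡ ∘ π = [q] for the Rosati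
involution ‡ of L; its proof rewrites this as the displayed identity, which uses only that L is
invertible.) -/
theorem result (k : Type u) [Field k] [Finite k]
    (A At : Over (Spec (CommRingCat.of k)))
    [GrpObj A] [IsCommMonObj A] [Smooth A.hom] [IsProper A.hom] [GeometricallyConnected A.hom]
    [GrpObj At] [IsCommMonObj At]
    (φ : AgPol.DualMap A At) (hdual : AbDual.IsDualAV Scheme.fppfPrecoverage A At φ)
    (π : A ⟶ A) [IsMonHom π] (hπb : π.left.base = 𝟙 _) (hπle : ∀ U : A.left.Opens, U ≤ π.left ⁻¹ᵁ U)
    (hπapp : ∀ (U : A.left.Opens) (s : Γ(A.left, U)), (π.left.appLE U U (hπle U)).hom s = s ^ Nat.card k)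
    (πt : At ⟶ At) [IsMonHom πt] (hπt : AbDual.IsTranspose π φ φ πt)
    (L : A.left.Modules) (hL : PicF.IsInvertible L) (lam : A ⟶ At) (hlam : AgPol.IsLambda A At φ L lam) :
    π ≫ lam ≫ πt = lam ^ Nat.card k := by
  haveI : GeometricallyIntegral A.hom := Groth.Agent.H25AbCube.geometricallyIntegral_of_smooth A
  obtain ⟨p, N0, _, _, hN0, hq, hN⟩ := Groth.Agent.H25AbCube.FrobPoly.exists_char k
  have hπ := Groth.Agent.H25AbCube.FrobPoly.eq_F π hπb hπle hπapp p N0 hq hN
  obtain ⟨N, hNi, hN1, hlamN⟩ := hlam
  have hN0' := Groth.Agent.H25Dual.picZero_mumford hL hNi hN1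
  obtain ⟨e⟩ : Nonempty ((Scheme.Modules.pullback π.left).obj L ≅ CohB1.tensorPow L (Nat.card k)) := by
    rw [hπ, Groth.Agent.H25AbCube.FrobPoints.F_left, hq, show p ^ N0 = p ^ (N0 * 1) by rw [Nat.mul_one]]
    exact Groth.Agent.H27Perf.Tower.exists_iso_fr (p := p) hL (N0 * 1)
  obtain ⟨i⟩ := Groth.Agent.H25Dual.mumford_unique
    (Groth.Agent.H11Ample.isInvertible_pullback π.left hL) e (Groth.Agent.H25Dual.mumford_hom hN1 π)
    (Groth.Agent.H25Dual.mumford_pow hN1 (Nat.card k))
  let c := PicF.pullCl (PicF.XTmap A.hom π) (PicF.cl N)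
  have hc : AbDual.IsPicZeroCl A.hom A c := Groth.Agent.H25Dual.picZero_XTmap π hN0'
  have h1 : φ A (PicF.pullCl (AbDual.bcMap π A) c) = π ≫ lam ≫ πt := by
    rw [hπt A c hc, hdual.relPic.natural A A π _ hN0', hlamN, Category.assoc]
  have h2 : PicF.pullCl (AbDual.bcMap π A) c = PicF.cl (CohB1.tensorPow N (Nat.card k)) := by
    refine Quot.sound ⟨(Scheme.Modules.pullbackComp _ _).app N ≪≫ (Scheme.Modules.pullbackCongr ?_).app N ≪≫ i⟩
    rw [Groth.Agent.H25Dual.bcMap_eq, Groth.Agent.H25Dual.XTmap_eq, ← Over.comp_left]
    congr 1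
    apply CartesianMonoidalCategory.hom_ext <;> simp
  rw [← h1, h2, (Groth.Agent.H25Dual.phi_tensorPow hdual A hN0' _).2, hlamN]

end Groth.Agent.S18541
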