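import Groth.Statements.S18543
import Groth.Agent.H20OT.FrobDual
import Groth.Agent.H27Frob.Etale
import Groth.Agent.H20Comod.Deligne

set_option autoImplicit false
universe u
open Hopf

namespace Groth.Agent.S18543
open WithConv

/-- Let p be a prime number, k a field of characteristic p and A a finite-dimensional commutative,
cocommutative Hopf algebra over k — the coordinate ring of a finite commutative group scheme G over
k — such that A is étale over k and dim_k A = p^n for some n (G is an étale group scheme of p-power
order). Then the Cartier dual A^∨ = Hom_k(A, k), with its convolution ring structure, is a local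
ring; that is, the Cartier dual group scheme G^∨ = Spec A^∨ is infinitesimal (its underlying space
is a single point). -/
theorem result (p : ℕ) [Fact p.Prime]
    (k : Type u) [Field k] [CharP k p] (A : Type u) [CommRing A] [HopfAlgebra k A] [Coalgebra.IsCocomm k A]
    [Module.Finite k A] [Algebra.Etale k A] (n : ℕ) (hA : Module.finrank k A = p ^ n) :
    IsLocalRing (CartDual.D k A) := by
  classical
  haveI : Nontrivial A := (Bialgebra.algebraMap_injective (R := k) A).nontrivial
  haveI : CharP A p := charP_of_injective_algebraMap (Bialgebra.algebraMap_injective (R := k) A) p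
  let b := Module.finBasis k A
  have hsurj := ((Groth.Agent.H27Frob.etale_iff_bijective_relFrob p k A).mp inferInstance).2
  have h1 := Groth.Agent.H20OT.span_pow_of_surjective_relFrob p hsurj b
  have hN := Groth.Agent.H20OT.span_pow_iterate p (fun i => b i) b.span_eq h1 n
  have hq : toConv (AlgHom.id k A) ^ p ^ n = 1 := by
    refine Groth.Agent.H20Comod.Deligne.convPow_id_eq_one k A _ fun P => ?_
    rw [Module.rankAtStalk_eq_finrank_of_free, hA]
    rfl
  have hy : ∀ i, ∃ r : k, (toConv (b.coord i) : CartDual.D k A) ^ p ^ n = algebraMap k _ r := by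
    intro i
    obtain ⟨f, hf⟩ := Groth.Agent.H20OT.exists_dual_family rfl _ hN i
    refine ⟨f 1, WithConv.ofConv_injective (LinearMap.ext fun a => ?_)⟩
    have h := congrArg f ((Groth.Agent.H20OT.powConv_pow_char p (fun i => b i) (fun i => b.coord i)
      (fun y => b.sum_repr y) n a).symm.trans
      (show SGA3b.powConv k A (p ^ n) a = algebraMap k A (Coalgebra.counit (R := k) a) by
        rw [SGA3b.powConv, hq]; rfl))
    rw [map_sum, Algebra.algebraMap_eq_smul_one (A := A), map_smul f, smul_eq_mul] at h
    simp only [map_smul, hf, smul_eq_mul, mul_ite, mul_one, mul_zero, Finset.sum_ite_eq', Finset.mem_univ,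
      if_true] at h
    rw [h, Algebra.algebraMap_eq_smul_one (A := CartDual.D k A), WithConv.ofConv_smul, LinearMap.smul_apply,
      LinearMap.convOne_apply, Algebra.algebraMap_self, RingHom.id_apply, smul_eq_mul, mul_comm]
  choose r hr using hy
  have hpow : ∀ x : CartDual.D k A, x ^ p ^ n = algebraMap k _ (x.ofConv 1 ^ p ^ n) := by
    intro x
    obtain ⟨s, hs⟩ : ∃ s : k, x ^ p ^ n = algebraMap k _ s := by
      refine ⟨∑ i, x.ofConv (b i) ^ p ^ n * r i, ?_⟩
      rw [Groth.Agent.H20OT.dual_pow_char p (fun i => b i) (fun i => b.coord i) (fun y => b.sum_repr y) x n, map_sum]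
      exact Finset.sum_congr rfl fun i _ => by rw [hr, map_mul, Algebra.smul_def]
    have he : x.ofConv 1 ^ p ^ n = s := by
      have := congrArg (Bialgebra.counitAlgHom k (CartDual.D k A)) hs
      rw [map_pow, AlgHom.commutes] at this
      exact this
    rw [hs, he]
  have hq0 : p ^ n ≠ 0 := pow_ne_zero _ (Fact.out : p.Prime).ne_zero
  have hunit : ∀ x : CartDual.D k A, x.ofConv 1 ≠ 0 → IsUnit x := fun x hx => by
    refine (isUnit_pow_iff hq0).mp ?_
    rw [hpow]
    exact (IsUnit.mk0 _ (pow_ne_zero _ hx)).map _
  haveI : Nontrivial (CartDual.D k A) :=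
    (Bialgebra.algebraMap_injective (R := k) (CartDual.D k A)).nontrivial
  refine IsLocalRing.of_nonunits_add fun x y hx hy => ?_
  intro hu
  have hx0 : x.ofConv 1 = 0 := by_contra fun h => hx (hunit x h)
  have hy0 : y.ofConv 1 = 0 := by_contra fun h => hy (hunit y h)
  have := (hu.map (Bialgebra.counitAlgHom k (CartDual.D k A)))
  rw [map_add] at this
  change IsUnit (x.ofConv 1 + y.ofConv 1) at this
  rw [hx0, hy0, add_zero] at this
  exact not_isUnit_zero this

end Groth.Agent.S18543
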