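import Groth.Statements.S18544
import Mathlib.Algebra.MvPolynomial.Funext
import Mathlib.FieldTheory.IsAlgClosed.Basic
import Mathlib.LinearAlgebra.Matrix.Permutation
import Mathlib.RingTheory.Flat.EquationalCriterion
import Mathlib.RingTheory.Flat.FaithfullyFlat.Algebra
import Mathlib.RingTheory.IntegralClosure.IntegrallyClosed
import Mathlib.RingTheory.SimpleRing.Principal

set_option autoImplicit false
universe u
open CAlg

namespace Groth.Agent.S18544

/-- Let F be an algebraically closed field of characteristic zero, n a natural number, and N a nonzero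
polynomial over F in the n² matrix entries whose evaluation on n × n matrices is multiplicative,
N(xy) = N(x)·N(y) for all x, y (a norm form on the matrix algebra M_n(F) over F). Then N is a
natural power of the determinant: for some m, N(x) = det(x)^m for every matrix x. The published
statement concerns norm forms of any central simple algebra over a subfield; this row is the case of
the full matrix algebra over an algebraically closed field, which is the case its proof treats. -/
theorem result (F : Type u) [Field F] [IsAlgClosed F]
    [CharZero F] (n : ℕ) (N : MvPolynomial (Fin n × Fin n) F) (hN : N ≠ 0)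
    (hmul : ∀ x y : Matrix (Fin n) (Fin n) F,
      MvPolynomial.eval (fun ij : Fin n × Fin n => (x * y) ij.1 ij.2) N =
        MvPolynomial.eval (fun ij : Fin n × Fin n => x ij.1 ij.2) N * MvPolynomial.eval (fun ij : Fin n × Fin n => y ij.1 ij.2) N) :
    ∃ m : ℕ, ∀ x : Matrix (Fin n) (Fin n) F,
      MvPolynomial.eval (fun ij : Fin n × Fin n => x ij.1 ij.2) N = x.det ^ m := by
  classical
  let χ : Matrix (Fin n) (Fin n) F → F := fun x => MvPolynomial.eval (fun ij : Fin n × Fin n => x ij.1 ij.2) N
  have hχ : ∀ x y, χ (x * y) = χ x * χ y := hmul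
  have hχ1 : χ 1 = 1 := by
    obtain ⟨v, hv⟩ : ∃ v, MvPolynomial.eval v N ≠ 0 := by
      by_contra h
      push Not at h
      exact hN (MvPolynomial.funext fun v => by rw [h v, map_zero])
    have h1 := hχ (Matrix.of fun i j => v (i, j)) 1
    rw [mul_one] at h1
    have h2 : χ (Matrix.of fun i j => v (i, j)) ≠ 0 := hv
    exact mul_left_cancel₀ h2 (h1.symm.trans (mul_one _).symm)
  have key : ∀ (M : Fin n → Fin n → Polynomial F), ∃ q : Polynomial F, ∀ s : F,
      q.eval s = χ (Matrix.of fun i j => (M i j).eval s) := by
    intro M
    refine ⟨MvPolynomial.aeval (fun ij : Fin n × Fin n => M ij.1 ij.2) N, fun s => ?_⟩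
    have h := MvPolynomial.map_aeval (fun ij : Fin n × Fin n => M ij.1 ij.2) (Polynomial.evalRingHom s) N
    rw [Polynomial.coe_evalRingHom] at h
    rw [h]
    show MvPolynomial.eval₂Hom _ _ N = MvPolynomial.eval₂Hom (RingHom.id F) _ N
    congr 2
    ext r; simp
  have htr : ∀ i j, i ≠ j → ∀ c : F, χ (Matrix.transvection i j c) = 1 := by
    intro i j hij c
    obtain ⟨q, hq⟩ := key (fun a b => Polynomial.C ((1 : Matrix (Fin n) (Fin n) F) a b) + Polynomial.C (Matrix.single i j (1 : F) a b) * Polynomial.X)
    have hq' : ∀ s, q.eval s = χ (Matrix.transvection i j s) := fun s => by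
      rw [hq]; congr 1
      ext a b
      by_cases h : i = a ∧ j = b <;> simp [Matrix.transvection, Matrix.add_apply, Matrix.single_apply, h]
    have hinv : q * q.comp (-Polynomial.X) = 1 := by
      refine Polynomial.funext fun s => ?_
      rw [Polynomial.eval_mul, Polynomial.eval_comp, Polynomial.eval_neg, Polynomial.eval_X, hq', hq', ← hχ,
        Matrix.transvection_mul_transvection_same _ _ hij, add_neg_cancel, Matrix.transvection_zero, hχ1, Polynomial.eval_one]
    have hu : IsUnit q := IsUnit.of_mul_eq_one _ hinv
    obtain ⟨r, -, hr⟩ := Polynomial.isUnit_iff.mp hu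
    rw [← hq' c, ← hr, Polynomial.eval_C]
    have : q.eval 0 = 1 := by rw [hq', Matrix.transvection_zero, hχ1]
    rw [← hr, Polynomial.eval_C] at this
    exact this
  have hsingle : ∀ i : Fin n, ∃ m : ℕ, ∀ s : F, χ (Matrix.diagonal (Function.update 1 i s)) = s ^ m := by
    intro i
    obtain ⟨q, hq⟩ := key (fun a b => if a = b then (if a = i then Polynomial.X else 1) else 0)
    have hq' : ∀ s, q.eval s = χ (Matrix.diagonal (Function.update 1 i s)) := fun s => by
      rw [hq]; congr 1
      ext a b
      by_cases hab : a = b
      · subst hab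
        by_cases hai : a = i
        · subst hai; simp
        · simp [hai]
      · simp [hab]
    have hq1 : q.eval 1 = 1 := by rw [hq', show Function.update (1 : Fin n → F) i 1 = 1 from Function.update_eq_self i 1, Matrix.diagonal_one', hχ1]
    obtain ⟨j, hj⟩ : ∃ j, q.coeff j ≠ 0 := by
      by_contra h
      push Not at h
      rw [show q = 0 from Polynomial.ext (fun j => by simpa using h j)] at hq1
      simp at hq1
    refine ⟨j, fun s => ?_⟩
    have hcomp : q.comp (Polynomial.C s * Polynomial.X) = Polynomial.C (q.eval s) * q := by
      refine Polynomial.funext fun t => ?_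
      simp only [Polynomial.eval_comp, Polynomial.eval_mul, Polynomial.eval_C, Polynomial.eval_X, hq']
      rw [← hχ, Matrix.diagonal_mul_diagonal]
      congr 2
      ext a
      by_cases hai : a = i
      · subst hai; simp
      · simp [hai]
    have h2 := congrArg (fun z => Polynomial.coeff z j) hcomp
    simp only [Polynomial.comp_C_mul_X_coeff, Polynomial.coeff_C_mul] at h2
    rw [← hq']
    exact mul_right_cancel₀ hj (h2.symm.trans (mul_comm _ _))
  choose m hm using hsingle
  have hdiag : ∀ d : Fin n → F, χ (Matrix.diagonal d) = ∏ i, d i ^ m i := by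
    intro d
    have : ∀ S : Finset (Fin n), χ (Matrix.diagonal (fun i => if i ∈ S then d i else 1)) = ∏ i ∈ S, d i ^ m i := by
      intro S
      induction S using Finset.induction_on with
      | empty => simpa [Matrix.diagonal_one] using hχ1
      | insert a S ha ih =>
        rw [Finset.prod_insert ha, ← ih, ← hm a (d a), ← hχ, Matrix.diagonal_mul_diagonal]
        congr 2
        ext b
        by_cases hb : b = a
        · subst hb; simp [ha]
        · simp [hb]
    simpa using this Finset.univ
  have hperm : ∀ i j : Fin n, m i = m j := by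
    intro i j
    let σ : Equiv.Perm (Fin n) := Equiv.swap i j
    have hPP : σ.permMatrix F * σ.permMatrix F = 1 := by
      rw [← Matrix.permMatrix_mul, Equiv.swap_mul_self, Matrix.permMatrix_one]
    have hu : χ (σ.permMatrix F) ≠ 0 := fun h => by
      have := hχ (σ.permMatrix F) (σ.permMatrix F)
      rw [hPP, hχ1, h, zero_mul] at this
      exact one_ne_zero this
    have hconj : ∀ d : Fin n → F, σ.permMatrix F * Matrix.diagonal d = Matrix.diagonal (d ∘ σ) * σ.permMatrix F := by
      intro d
      ext a b
      simp only [Equiv.Perm.permMatrix, Matrix.diagonal_mul, Matrix.mul_diagonal, PEquiv.toMatrix_apply,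
        Equiv.toPEquiv_apply, Option.mem_some_iff, Function.comp_apply]
      split_ifs with h
      · subst h; ring
      · ring
    have hd : ∀ d : Fin n → F, χ (Matrix.diagonal (d ∘ σ)) = χ (Matrix.diagonal d) := fun d => by
      have := congrArg χ (hconj d)
      rw [hχ, hχ, mul_comm] at this
      exact (mul_right_cancel₀ hu this).symm
    have h2 := hd (Function.update 1 i (2 : F))
    rw [show (Function.update (1 : Fin n → F) i (2 : F)) ∘ σ = Function.update (1 : Fin n → F) j (2 : F) by
      funext a
      simp only [σ, Function.comp_apply]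
      by_cases haj : a = j
      · subst haj; simp
      · by_cases hai : a = i
        · subst hai; simp [Ne.symm haj, haj]
        · simp [Equiv.swap_apply_of_ne_of_ne hai haj, haj, hai], hm, hm] at h2
    have h3 : ((2 ^ m j : ℕ) : F) = ((2 ^ m i : ℕ) : F) := by push_cast; exact h2
    exact (Nat.pow_right_injective le_rfl (Nat.cast_injective h3)).symm
  rcases Nat.eq_zero_or_pos n with hn | hn
  · refine ⟨0, fun x => ?_⟩
    subst hn
    rw [pow_zero]
    show χ x = 1
    rw [Subsingleton.elim x 1, hχ1]
  refine ⟨m ⟨0, hn⟩, fun x => ?_⟩
  show χ x = x.det ^ m ⟨0, hn⟩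
  induction x using Matrix.diagonal_transvection_induction with
  | hdiag D _ =>
    rw [hdiag, Matrix.det_diagonal, ← Finset.prod_pow]
    exact Finset.prod_congr rfl fun i _ => by rw [hperm i ⟨0, hn⟩]
  | htransvec t =>
    obtain ⟨i, j, hij, c⟩ := t
    rw [Matrix.TransvectionStruct.toMatrix_mk, htr i j hij, Matrix.det_transvection_of_ne _ _ hij, one_pow]
  | hmul A B hA hB => rw [hχ, hA, hB, Matrix.det_mul, mul_pow]

end Groth.Agent.S18544
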