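import Groth.Statements.S18545
import Mathlib

set_option autoImplicit false
universe u
open AbVar

namespace Groth.Agent.S18545

lemma exists_maximal_avoid {K : Type u} [Field K] {V : Type u} [AddCommGroup V] [Module K V]
    [FiniteDimensional K V] (g : ℕ) (hV : Module.finrank K V = 2 * g)
    (e : LinearMap.BilinForm K V) (he : e.IsAlt) (hnd : e.Nondegenerate)
    (F : Subalgebra K (Module.End K V)) (r : ℕ) (φ : F ≃ₐ[K] (Fin r → K))
    (S : Set (Module.End K V)) (hS : Submodule.span K S = Subalgebra.toSubmodule F)
    (hsim : ∀ s ∈ S, ∃ c : K, c ≠ 0 ∧ ∀ x y : V, e (s x) (s y) = c * e x y) :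
    ∀ (k : ℕ) (W : Submodule K V), Module.finrank K W + k = g → (∀ f ∈ F, ∀ w ∈ W, f w ∈ W) →
      (∀ x ∈ W, ∀ y ∈ W, e x y = 0) → ∀ v ∉ W, ∃ W' : Submodule K V, W ≤ W' ∧ v ∉ W' ∧
        (∀ f ∈ F, ∀ w ∈ W', f w ∈ W') ∧ (∀ x ∈ W', ∀ y ∈ W', e x y = 0) ∧ Module.finrank K W' = g := by
  intro k
  induction k with
  | zero => exact fun W h hF hW v hv => ⟨W, le_rfl, hv, hF, hW, by omega⟩
  | succ k ih =>
    intro W h hF hW v hv
    have hperp : ∀ f ∈ F, ∀ x ∈ e.orthogonal W, f x ∈ e.orthogonal W := by
      intro f hf x hx
      have hf' : f ∈ Submodule.span K S := hS.symm ▸ hf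
      induction hf' using Submodule.span_induction with
      | mem s hs =>
        obtain ⟨c, hc, hs'⟩ := hsim s hs
        have hsF : s ∈ F := (hS ▸ Submodule.subset_span hs : s ∈ Subalgebra.toSubmodule F)
        let sW : W →ₗ[K] W := s.restrict (hF s hsF)
        have hinj : Function.Injective sW := by
          rw [injective_iff_map_eq_zero]
          intro w hw
          refine Subtype.ext (hnd.1 (w : V) fun y => ?_)
          have hw' : s (w : V) = 0 := congrArg Subtype.val hw
          have := hs' w y
          rw [hw', map_zero, LinearMap.zero_apply] at this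
          exact (mul_eq_zero.1 this.symm).resolve_left hc
        intro w hw
        obtain ⟨w', hw'⟩ := (LinearMap.injective_iff_surjective.1 hinj) ⟨w, hw⟩
        have hw'' : s (w' : V) = w := congrArg Subtype.val hw'
        rw [← hw'', hs', hx w' w'.2, mul_zero]
      | zero => simp
      | add a b ha hb iha ihb =>
        have haF : a ∈ F := (hS ▸ ha : a ∈ Subalgebra.toSubmodule F)
        have hbF : b ∈ F := (hS ▸ hb : b ∈ Subalgebra.toSubmodule F)
        exact Submodule.add_mem _ (iha haF) (ihb hbF)
      | smul c a ha iha =>
        exact Submodule.smul_mem _ c (iha (hS ▸ ha : a ∈ Subalgebra.toSubmodule F))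
    let ε : Fin r → F := fun i => φ.symm (Pi.single i 1)
    have hεsum : ∀ x : V, ∑ i, (ε i : Module.End K V) x = x := by
      intro x
      have h1 : ∑ i, ε i = 1 := by
        rw [← map_sum, Finset.univ_sum_single (fun _ : Fin r => (1 : K))]
        exact map_one φ.symm
      have := congrArg (fun f : F => (f : Module.End K V) x) h1
      simpa using this
    have hεmul : ∀ (f : F) (i : Fin r) (x : V),
        (f : Module.End K V) ((ε i : Module.End K V) x) = φ f i • (ε i : Module.End K V) x := by
      intro f i x
      have h1 : f * ε i = φ f i • ε i := φ.injective (by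
        rw [map_mul, map_smul, AlgEquiv.apply_symm_apply]
        ext j
        by_cases hj : j = i
        · subst hj; simp
        · simp [hj])
      exact congrArg (fun f : F => (f : Module.End K V) x) h1
    obtain ⟨i, x, hx, hu, hvu⟩ : ∃ (i : Fin r) (x : V), x ∈ e.orthogonal W ∧
        (ε i : Module.End K V) x ∉ W ∧ v ∉ W ⊔ (K ∙ (ε i : Module.End K V) x) := by
      by_contra! hbad
      have hle : e.orthogonal W ≤ W ⊔ (K ∙ v) := by
        intro x hx
        rw [← hεsum x]
        refine Submodule.sum_mem _ fun i _ => ?_
        by_cases hu : (ε i : Module.End K V) x ∈ W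
        · exact Submodule.mem_sup_left hu
        · obtain ⟨w, hw, y, hy, hwy⟩ := Submodule.mem_sup.1 (hbad i x hx hu)
          obtain ⟨a, rfl⟩ := Submodule.mem_span_singleton.1 hy
          have ha : a ≠ 0 := fun h0 => hv (by rw [← hwy, h0, zero_smul, add_zero]; exact hw)
          have : (ε i : Module.End K V) x = a⁻¹ • (v - w) := by
            rw [← hwy, add_sub_cancel_left, smul_smul, inv_mul_cancel₀ ha, one_smul]
          rw [this]
          exact Submodule.smul_mem _ _ (Submodule.sub_mem _ (Submodule.mem_sup_right (Submodule.mem_span_singleton_self v))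
            (Submodule.mem_sup_left hw))
      have h1 := Submodule.finrank_mono hle
      have h2 := LinearMap.BilinForm.finrank_orthogonal hnd W
      have h3 := Submodule.finrank_add_le_finrank_add_finrank W (K ∙ v)
      have h4 : Module.finrank K (K ∙ v) ≤ 1 := by
        simpa using (finrank_span_le_card ({v} : Set V))
      omega
    set u := (ε i : Module.End K V) x with hu_def
    have huperp : u ∈ e.orthogonal W := hperp _ (ε i).2 x hx
    have hu0 : u ≠ 0 := fun h0 => hu (h0 ▸ W.zero_mem)
    obtain ⟨W', hle, hv', h'⟩ := ih (W ⊔ (K ∙ u)) (by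
        have h1 := Submodule.finrank_sup_add_finrank_inf_eq W (K ∙ u)
        rw [finrank_span_singleton hu0, show W ⊓ (K ∙ u) = ⊥ from disjoint_iff.1
          ((Submodule.disjoint_span_singleton' hu0).2 hu), finrank_bot] at h1
        omega)
      (by
        intro f hf w hw
        obtain ⟨a, ha, b, hb, rfl⟩ := Submodule.mem_sup.1 hw
        obtain ⟨c, rfl⟩ := Submodule.mem_span_singleton.1 hb
        rw [map_add, map_smul, hεmul ⟨f, hf⟩ i x]
        exact Submodule.add_mem_sup (hF f hf a ha)
          (Submodule.smul_mem _ _ (Submodule.smul_mem _ _ (Submodule.mem_span_singleton_self u))))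
      (by
        intro p hp q hq
        obtain ⟨a, ha, b, hb, rfl⟩ := Submodule.mem_sup.1 hp
        obtain ⟨c, rfl⟩ := Submodule.mem_span_singleton.1 hb
        obtain ⟨a', ha', b', hb', rfl⟩ := Submodule.mem_sup.1 hq
        obtain ⟨c', rfl⟩ := Submodule.mem_span_singleton.1 hb'
        have h1 : e a u = 0 := huperp a ha
        have h2 : e u a' = 0 := by rw [← he.neg_eq, huperp a' ha', neg_zero]
        simp [hW a ha a' ha', h1, h2, he u])
      v hvu
    exact ⟨W', le_sup_left.trans hle, hv', h'⟩

/-- A step in the proof of Tate's isogeny result over finite fields, in linear-algebra form. Let K be a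
field and V a K-vector space of finite dimension 2g carrying a nondegenerate alternating bilinear
form e. Let F be a K-subalgebra of End(V) which is isomorphic as a K-algebra to a finite product K ×
⋯ × K and which is spanned over K by a set S of similitudes of e (for each s in S there is a nonzero
scalar c with e(s x, s y) = c·e(x, y) for all x, y). Let D be a set of endomorphisms of V such that
every F-stable isotropic subspace W of dimension g (a maximal isotropic subspace) is D-stable. Then
every F-stable isotropic subspace of V is D-stable. (In the application V is the rational ℓ-adic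
Tate module of an abelian variety over a finite field with the Riemann form of a polarisation, F the
algebra generated by the Galois group, split for the chosen ℓ, and D the commutant of the image of
the endomorphism algebra; the hypothesis on maximal isotropic subspaces is the step obtained from
the finiteness of isomorphism classes.) -/
theorem result (K : Type u) [Field K]
    (V : Type u) [AddCommGroup V] [Module K V] [FiniteDimensional K V] (g : ℕ) (hV : Module.finrank K V = 2 * g)
    (e : LinearMap.BilinForm K V) (he : e.IsAlt) (hnd : e.Nondegenerate)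
    (F : Subalgebra K (Module.End K V)) (r : ℕ) (hF : Nonempty (F ≃ₐ[K] (Fin r → K)))
    (S : Set (Module.End K V)) (hS : Submodule.span K S = Subalgebra.toSubmodule F)
    (hsim : ∀ s ∈ S, ∃ c : K, c ≠ 0 ∧ ∀ x y : V, e (s x) (s y) = c * e x y)
    (D : Set (Module.End K V))
    (hmax : ∀ W : Submodule K V, (∀ f ∈ F, ∀ w ∈ W, f w ∈ W) → (∀ x ∈ W, ∀ y ∈ W, e x y = 0) →
      Module.finrank K W = g → ∀ d ∈ D, ∀ w ∈ W, d w ∈ W)
    (W : Submodule K V) (hWF : ∀ f ∈ F, ∀ w ∈ W, f w ∈ W) (hWiso : ∀ x ∈ W, ∀ y ∈ W, e x y = 0) :
    ∀ d ∈ D, ∀ w ∈ W, d w ∈ W := by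
  intro d hd w hw
  by_contra hv
  obtain ⟨φ⟩ := hF
  have hle : Module.finrank K W ≤ g := by
    have h1 : W ≤ e.orthogonal W := fun x hx y hy => hWiso y hy x hx
    have h2 := Submodule.finrank_mono h1
    have h3 := LinearMap.BilinForm.finrank_orthogonal hnd W
    omega
  obtain ⟨W', hWW', hv', hF', hiso', hdim'⟩ := exists_maximal_avoid g hV e he hnd F r φ S hS hsim
    (g - Module.finrank K W) W (by omega) hWF hWiso (d w) hv
  exact hv' (hmax W' hF' hiso' hdim' d hd w (hWW' hw))

end Groth.Agent.S18545
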