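import Groth.Statements.S18547
import Groth.Agent.H18Sym2.Basic

set_option autoImplicit false
open scoped TensorProduct
universe u v
open GalCoh

namespace Groth.Agent.S18547

/-- Let G be a group acting linearly on a vector space V of dimension 3 over the field 𝔽₂ with two
elements. Then the connecting map (Λ²V)^G → H¹(G, V) of the short exact sequence of G-modules 0 → V
→ S²V → Λ²V → 0 (v ↦ v·v, x·y ↦ x ∧ y) is zero; equivalently, every G-invariant element of Λ²V is
the image of a G-invariant element of S²V. Here N_a ⊆ V ⊗ V is the span of the tensors v ⊗ v and N_s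
⊆ N_a the span of the tensors x ⊗ y + y ⊗ x, so that S²V = (V ⊗ V)/N_s and Λ²V = (V ⊗ V)/N_a with
the diagonal action of G, and the statement reads: a tensor t whose class modulo N_a is G-invariant
is congruent modulo N_a to a tensor whose class modulo N_s is G-invariant. (The source writes the
rank hypothesis on the lattice M with V = M/2M, which has the same rank, and has the absolute Galois
group of a field acting; any group is allowed here.) -/
theorem result (G : Type u) [Group G] (V : Type v)
    [AddCommGroup V] [Module (ZMod 2) V] (hV : Module.finrank (ZMod 2) V = 3)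
    (ρ : Representation (ZMod 2) G V) (t : V ⊗[ZMod 2] V)
    (ht : ∀ g : G, ρ.tprod ρ g t - t ∈ Submodule.span (ZMod 2) (Set.range fun v : V => v ⊗ₜ[ZMod 2] v)) :
    ∃ t' : V ⊗[ZMod 2] V, t' - t ∈ Submodule.span (ZMod 2) (Set.range fun v : V => v ⊗ₜ[ZMod 2] v) ∧
      ∀ g : G, ρ.tprod ρ g t' - t' ∈
        Submodule.span (ZMod 2) (Set.range fun p : V × V => p.1 ⊗ₜ[ZMod 2] p.2 + p.2 ⊗ₜ[ZMod 2] p.1) := by
  exact H18Sym2.exists_invariant_lift hV ρ t ht

end Groth.Agent.S18547
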