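import Groth.Statements.S18548
import Mathlib.LinearAlgebra.TensorProduct.Basis
import Mathlib.RepresentationTheory.Basic
import Mathlib.LinearAlgebra.Finsupp.LinearCombination
import Mathlib.Algebra.CharP.Two

set_option autoImplicit false
open scoped TensorProduct
universe u v w
open GalCoh

namespace Groth.Agent.S18548

/-- Let G be a group acting linearly on a vector space V over the field 𝔽₂ with two elements, and
suppose V is a permutation module: G permutes the vectors of some basis of V. Then the short exact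
sequence of G-modules 0 → V → S²V → Λ²V → 0 (v ↦ v·v, x·y ↦ x ∧ y) splits G-equivariantly. Here, for
a vector space V over the field with two elements carrying a linear action ρ of a group G, write N_a
⊆ V ⊗ V for the span of the tensors v ⊗ v and N_s ⊆ N_a for the span of the tensors x ⊗ y + y ⊗ x,
so that S²V = (V ⊗ V)/N_s, Λ²V = (V ⊗ V)/N_a and the surjection S²V → Λ²V, x·y ↦ x ∧ y, is
G-equivariant for the diagonal action; a G-equivariant linear section of this surjection is the same
thing as a G-stable subspace W of V ⊗ V with W ∩ N_a = N_s and W + N_a = V ⊗ V, which is how the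
splitting is stated. (The source has the absolute Galois group of a field acting continuously; any
group and any basis index set are allowed here.) -/
theorem result (G : Type u) [Group G] (V : Type v)
    [AddCommGroup V] [Module (ZMod 2) V] (ρ : Representation (ZMod 2) G V)
    (ι : Type w) (b : Module.Basis ι (ZMod 2) V) (hb : ∀ g : G, ∀ i : ι, ∃ j : ι, ρ g (b i) = b j) :
    ∃ W : Submodule (ZMod 2) (V ⊗[ZMod 2] V),
      (∀ g : G, ∀ w ∈ W, ρ.tprod ρ g w ∈ W) ∧
      W ⊓ Submodule.span (ZMod 2) (Set.range fun v : V => v ⊗ₜ[ZMod 2] v) =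
        Submodule.span (ZMod 2) (Set.range fun p : V × V => p.1 ⊗ₜ[ZMod 2] p.2 + p.2 ⊗ₜ[ZMod 2] p.1) ∧
      W ⊔ Submodule.span (ZMod 2) (Set.range fun v : V => v ⊗ₜ[ZMod 2] v) = ⊤ := by
  classical
  let Na := Submodule.span (ZMod 2) (Set.range fun v : V => v ⊗ₜ[ZMod 2] v)
  let Ns := Submodule.span (ZMod 2) (Set.range fun p : V × V => p.1 ⊗ₜ[ZMod 2] p.2 + p.2 ⊗ₜ[ZMod 2] p.1)
  let B := b.tensorProduct b
  have hB : ∀ i j, B (i, j) = b i ⊗ₜ b j := fun i j => Module.Basis.tensorProduct_apply b b i j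
  let W := Submodule.span (ZMod 2) (B '' {q : ι × ι | q.1 ≠ q.2})
  let D := Submodule.span (ZMod 2) (B '' {q : ι × ι | q.1 = q.2})
  have h2 : ∀ t : V ⊗[ZMod 2] V, t + t = 0 := fun t => by
    rw [← two_smul (ZMod 2) t, show (2 : ZMod 2) = 0 from rfl, zero_smul]
  have hoff : ∀ i j, i ≠ j → b i ⊗ₜ[ZMod 2] b j ∈ W := fun i j h =>
    hB i j ▸ Submodule.subset_span ⟨(i, j), h, rfl⟩
  have hWD : Disjoint W D := B.linearIndependent.disjoint_span_image
    (Set.disjoint_left.2 fun q h h' => h h')
  have hcompl : W ⊔ D = ⊤ := by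
    rw [← Submodule.span_union, ← Set.image_union]
    refine eq_top_iff.2 (B.span_eq.ge.trans (Submodule.span_mono ?_))
    rintro _ ⟨q, rfl⟩
    exact ⟨q, (em (q.1 = q.2)).symm, rfl⟩
  have hNsW : Ns ≤ W := by
    rw [Submodule.span_le]
    rintro _ ⟨⟨x, y⟩, rfl⟩
    show x ⊗ₜ[ZMod 2] y + y ⊗ₜ[ZMod 2] x ∈ W
    induction b.mem_span x using Submodule.span_induction with
    | zero => simp
    | smul c x _ hx => rw [← TensorProduct.smul_tmul', TensorProduct.tmul_smul, ← smul_add]; exact W.smul_mem c hx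
    | add x x' _ _ hx hx' =>
      rw [TensorProduct.add_tmul, TensorProduct.tmul_add, add_add_add_comm]; exact add_mem hx hx'
    | mem x hx =>
      obtain ⟨i, rfl⟩ := hx
      induction b.mem_span y using Submodule.span_induction with
      | zero => simp
      | smul c y _ hy => rw [TensorProduct.tmul_smul, ← TensorProduct.smul_tmul', ← smul_add]; exact W.smul_mem c hy
      | add y y' _ _ hy hy' =>
        rw [TensorProduct.tmul_add, TensorProduct.add_tmul, add_add_add_comm]; exact add_mem hy hy'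
      | mem y hy =>
        obtain ⟨j, rfl⟩ := hy
        rcases eq_or_ne i j with rfl | hij
        · rw [h2]; exact zero_mem _
        · exact add_mem (hoff i j hij) (hoff j i hij.symm)
  have hNaD : Na ≤ D ⊔ Ns := by
    rw [Submodule.span_le]
    rintro _ ⟨v, rfl⟩
    show v ⊗ₜ[ZMod 2] v ∈ D ⊔ Ns
    induction b.mem_span v using Submodule.span_induction with
    | zero => simp
    | smul c v _ hv =>
      rw [TensorProduct.tmul_smul, ← TensorProduct.smul_tmul']
      exact Submodule.smul_mem _ _ (Submodule.smul_mem _ _ hv)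
    | add x y _ _ hx hy =>
      have : (x + y) ⊗ₜ[ZMod 2] (x + y) = (x ⊗ₜ x + y ⊗ₜ y) + (x ⊗ₜ y + y ⊗ₜ x) := by
        rw [TensorProduct.add_tmul, TensorProduct.tmul_add, TensorProduct.tmul_add]; abel
      rw [this]
      exact add_mem (add_mem hx hy) (Submodule.mem_sup_right (Submodule.subset_span ⟨(x, y), rfl⟩))
    | mem x hx =>
      obtain ⟨i, rfl⟩ := hx
      exact Submodule.mem_sup_left (hB i i ▸ Submodule.subset_span ⟨(i, i), rfl, rfl⟩)
  refine ⟨W, ?_, le_antisymm ?_ ?_, ?_⟩
  · intro g w hw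
    have : W ≤ W.comap (ρ.tprod ρ g) := by
      rw [Submodule.span_le]
      rintro _ ⟨⟨i, j⟩, hij, rfl⟩
      obtain ⟨i', hi⟩ := hb g i
      obtain ⟨j', hj⟩ := hb g j
      show ρ.tprod ρ g (B (i, j)) ∈ W
      rw [hB, Representation.tprod_apply, TensorProduct.map_tmul, hi, hj]
      refine hoff i' j' fun h => hij (b.injective ?_)
      have := congrArg (ρ g⁻¹) (show ρ g (b i) = ρ g (b j) by rw [hi, hj, h])
      simpa using this
    exact this hw
  · rintro t ⟨htW, htN⟩
    obtain ⟨d, hd, s, hs, rfl⟩ := Submodule.mem_sup.1 (hNaD htN)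
    have hdW : d ∈ W := by simpa using W.sub_mem htW (hNsW hs)
    rw [(Submodule.disjoint_def.1 hWD) d hdW hd, zero_add]
    exact hs
  · refine le_inf hNsW (Submodule.span_le.2 ?_)
    rintro _ ⟨⟨x, y⟩, rfl⟩
    have : x ⊗ₜ[ZMod 2] y + y ⊗ₜ[ZMod 2] x = (x + y) ⊗ₜ (x + y) - x ⊗ₜ x - y ⊗ₜ y := by
      rw [TensorProduct.add_tmul, TensorProduct.tmul_add, TensorProduct.tmul_add]; abel
    show x ⊗ₜ[ZMod 2] y + y ⊗ₜ[ZMod 2] x ∈ Na
    rw [this]
    exact sub_mem (sub_mem (Submodule.subset_span ⟨x + y, rfl⟩) (Submodule.subset_span ⟨x, rfl⟩))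
      (Submodule.subset_span ⟨y, rfl⟩)
  · refine eq_top_iff.2 (hcompl.ge.trans (sup_le_sup_left (Submodule.span_le.2 ?_) W))
    rintro _ ⟨⟨i, j⟩, hij, rfl⟩
    obtain rfl : i = j := hij
    exact Submodule.subset_span ⟨b i, (hB i i).symm⟩

end Groth.Agent.S18548
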