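import Groth.Statements.S18550
import Groth.Agent.H16Derived.DTrunc
import Mathlib.CategoryTheory.Functor.OfSequence

set_option autoImplicit false
open CategoryTheory Limits
universe w v u
open CohDer

namespace Groth.Agent.S18550

open CategoryTheory CategoryTheory.Limits DerivedCategory.TStructure

/-- Let A be an abelian category, X an object of its derived category whose cohomology objects H^i(X)
are zero for all integers i outside the interval [a, a + n], and f : X → X an endomorphism in the
derived category such that H^i(f) = 0 for every i. Then f^(n+1) = 0. (The source works in the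
bounded derived category; the statement in D(A) for an object with cohomology bounded in this way is
the same assertion, the bounded derived category being a full subcategory.) -/
theorem result (A : Type u) [Category.{v} A] [Abelian A]
    [HasDerivedCategory.{w} A] (X : DerivedCategory A) (a : ℤ) (n : ℕ)
    (hX : ∀ i : ℤ, i < a ∨ a + n < i → IsZero ((DerivedCategory.homologyFunctor A i).obj X))
    (f : CategoryTheory.End X) (hf : ∀ i : ℤ, (DerivedCategory.homologyFunctor A i).map f = 0) :
    f ^ (n + 1) = 0 := by
  have hGE : X.IsGE a := (DerivedCategory.isGE_iff _ _).2 fun i hi => hX i (Or.inl hi)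
  have hLE : X.IsLE (a + n) := (DerivedCategory.isLE_iff _ _).2 fun i hi => hX i (Or.inr hi)
  let K : ℕ ⥤ DerivedCategory A := Functor.ofSequence (X := fun _ => X) (fun _ => f)
  have hK : ∀ k : ℕ, K.map (homOfLE (Nat.zero_le k)) = f ^ k := by
    intro k
    induction k with
    | zero => exact K.map_id 0
    | succ k ih =>
      rw [← homOfLE_comp (Nat.zero_le k) (Nat.le_succ k), Functor.map_comp, ih, pow_succ']
      erw [Functor.ofSequence_map_homOfLE_succ]
      rfl
  have : (K.obj 0).IsLE (a + n) := hLE
  obtain ⟨φ, hφ⟩ := Groth.Agent.H16Derived.DTrunc.exists_factor_of_chain K (a + n) (n + 1)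
    (fun j _ => by erw [Functor.ofSequence_map_homOfLE_succ]; exact hf _) (n + 1) le_rfl
  have : DerivedCategory.TStructure.t.IsGE (K.obj (n + 1)) (a + (n : ℤ) + 1 - ((n + 1 : ℕ) : ℤ)) := by
    rw [show a + (n : ℤ) + 1 - ((n + 1 : ℕ) : ℤ) = a by lia]
    exact hGE
  have hz := t.isZero_truncLT_obj_of_isGE (a + (n : ℤ) + 1 - ((n + 1 : ℕ) : ℤ)) (K.obj (n + 1))
  rw [← hK, ← hφ, hz.eq_of_tgt φ 0, zero_comp]
  rfl

end Groth.Agent.S18550
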