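import Groth.Statements.S18555
import Groth.Agent.H27ArtSch.Nilpotent
import Groth.Agent.S0002

set_option autoImplicit false
universe u
open FrobSch

namespace Groth.Agent.S18555

open AlgebraicGeometry CategoryTheory in
/-- Let k be an algebraically closed field of characteristic p > 0 and X a connected proper k-scheme
with trivial étale fundamental group, in the sense that every finite étale cover of X is a finite
disjoint union of copies of X. Then the pull-back by the absolute Frobenius, i.e. the additive
endomorphism of H^1(X, O_X) induced by the p-th power map of the structure sheaf, is nilpotent: some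
positive power of it vanishes. (The published setting has X smooth and projective over k; the
argument given uses only that X is proper and connected.) -/
theorem result
    (p : ℕ) [Fact p.Prime] (k : Type u) [Field k] [IsAlgClosed k] [CharP k p]
    (X : Scheme.{u}) [X.Over (Spec (CommRingCat.of k))] [IsProper (X ↘ Spec (CommRingCat.of k))]
    [ConnectedSpace X] [FrobSch.IsCharP X p]
    (hπ : ∀ Y : FEt.Cat X, Pi1.IsSplit Y) :
    ∃ b : ℕ, 0 < b ∧ ∀ x : Coh.HH X (Coh.structureModule X) 1,
      (W4c5isocrystsimpconn.frobH X p 1)^[b] x = 0 := by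
  let g : k →+* Coh.Γtop X := Coh.toGlobal (X ↘ Spec (CommRingCat.of k))
  haveI : IsLocallyNoetherian X :=
    LocallyOfFiniteType.isLocallyNoetherian (X ↘ Spec (CommRingCat.of k))
  haveI : Module.Finite k (Coh.HH X (Coh.structureModule X) 1) :=
    Groth.Agent.S0002.result k X _ (Groth.Agent.H10Coh.isCoh_structureModule' X) 1
  let T : Coh.HH X (Coh.structureModule X) 1 →ₛₗ[frobenius k p] Coh.HH X (Coh.structureModule X) 1 :=
    { toFun := W4c5isocrystsimpconn.frobH X p 1
      map_add' := map_add _
      map_smul' := fun c x => by
        change Sheaf.H.map (W4c5isocrystsimpconn.frobAb X p) 1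
            (Sheaf.H.map (Coh.smulAb _ (g c)) 1 x) =
          Sheaf.H.map (Coh.smulAb _ (g (c ^ p))) 1 (Sheaf.H.map (W4c5isocrystsimpconn.frobAb X p) 1 x)
        rw [← Sheaf.H.map_comp_apply, ← Sheaf.H.map_comp_apply, Groth.Agent.H27ArtSch.frobAb_smulAb, map_pow] }
  obtain ⟨r, hr⟩ := Groth.Agent.H27ArtSch.exists_iterate_eq_zero p k T
    (fun v hv => Groth.Agent.H27ArtSch.eq_zero_of_fixed p hπ v hv)
  refine ⟨r + 1, Nat.succ_pos r, fun x => ?_⟩
  rw [Function.iterate_succ_apply]
  exact hr _

end Groth.Agent.S18555
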