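import Groth.Statements.S1856
import Groth.Agent.H3Cyc.FlatRat
-- import your own Groth.Agent.* helpers here

set_option autoImplicit false
universe u
open CategoryTheory AlgebraicGeometry
open Cyc

namespace Groth.Agent.S1856

/-- Let f : X → Y be flat, locally of finite type, of relative dimension r, and α, β rationally
equivalent k-cycles on Y. Then the flat pullbacks f^*α, f^*β (any cycles on X whose coefficients are
given by the flat-pullback formula) are rationally equivalent (k + r)-cycles on X. Here a pair (X,
δ) with Cyc.IsSetup plays the role of a scheme locally of finite type over a fixed base with a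
dimension function (X locally Noetherian with universally catenary local rings, δ a dimension
function), and Cyc.DeltaCompat records that the dimension function upstairs is the induced one. -/
theorem result (X Y : Scheme.{u}) (δX : X → ℤ) (δY : Y → ℤ) (hX : Cyc.IsSetup X δX) (hY : Cyc.IsSetup Y δY) (f : X ⟶ Y) [Flat f] [LocallyOfFiniteType f] (r : ℕ) (hr : Cyc.HasRelDim f r) (hδ : Cyc.DeltaCompat f δX δY) (k : ℤ) (α β : AlgebraicCycle Y ℤ) (hα : α ∈ Cyc.Zk Y δY k) (hβ : β ∈ Cyc.Zk Y δY k) (h : Cyc.RatEquiv δY k α β) (α' β' : AlgebraicCycle X ℤ) (hα' : ⇑α' = Cyc.pullFun f δX δY r ⇑α) (hβ' : ⇑β' = Cyc.pullFun f δX δY r ⇑β) : Cyc.RatEquiv δX (k + r) α' β' := by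
  haveI := hX.1
  haveI := hY.1
  exact Groth.Agent.H3Cyc.FlatRat.ratEquiv_pullFun f hX hY (Groth.Agent.H3Cyc.FlatRat.maxDim_of_hasRelDim f hr hδ) k α β h α' β' hα' hβ'

end Groth.Agent.S1856
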