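import Groth.Statements.S18566
import Groth.Agent.H25Par.GPSlope

set_option autoImplicit false
universe u
open CategoryTheory CategoryTheory.Limits AlgebraicGeometry
open ParSh

namespace Groth.Agent.S18566

/-- Let Y be a smooth proper integral curve (integral, smooth and proper over k, of dimension one) over
an algebraically closed field k, D an effective Cartier divisor on Y with ideal I, and α a real
weight with 0 ≤ α < 1. A generalised parabolic structure on a finite locally free O_Y-module E is a
k-linear subspace F₁ of H⁰(Y, E ⊗ O_D); its parabolic degree in rank n is deg E + α·dim_k F₁ (deg E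
= χ(E) − n·χ(O_Y)); a homomorphism f : E → E' is parabolic when the induced k-linear map H⁰(E ⊗ O_D)
→ H⁰(E' ⊗ O_D) carries F₁ into F₁'; a submodule G → E gets the preimage structure and (E, F₁) is
semistable (stable) when deg(G, preimage) · n ≤ (<) deg(E, F₁) · r for every finite locally free
submodule G of rank r ≥ 1 (with r < n for stability). Let (E, F₁) and (F, F₁') be semistable and
stable of ranks n ≥ 1 and m ≥ 1 with the same parabolic slope, pardeg(E, F₁)·m = pardeg(F, F₁')·n,
and let f : E → F be a parabolic homomorphism. Then either f = 0 or f is an isomorphism of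
O_Y-modules which, when α > 0, maps F₁ onto F₁'. The published statement concludes an isomorphism of
generalised parabolic bundles (an isomorphism of modules mapping F₁ onto F₁') at every weight 0 ≤ α
< 1; at α = 0 this fails, since the identity of O_Y, from the zero structure to all of H⁰(O_D) with
D a single point, is a nonzero parabolic map between stable rank-one objects of equal slope that is
not one; so the condition on F₁ is asked here only for α > 0. The published statement is also set on
the normalisation of a singular curve with D lying over its singular points; neither is used. -/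
theorem result (k : Type u) [Field k] [IsAlgClosed k] (X : Scheme.{u}) [X.Over (Spec (CommRingCat.of k))]
    [AlgebraicGeometry.IsIntegral X] [IsProper (X ↘ Spec (CommRingCat.of k))] [Smooth (X ↘ Spec (CommRingCat.of k))]
    (hdim : topologicalKrullDim X = 1)
    (I : X.IdealSheafData) (hD : FGA.IsEffCartier I) (α : ℝ) (hα0 : 0 ≤ α) (hα1 : α < 1)
    {E F : X.Modules} (n m : ℕ) (hn : 0 < n) (hm : 0 < m)
    (hE : FlatMod.IsFinLocFreeOfRank n E) (hF : FlatMod.IsFinLocFreeOfRank m F)
    (F₁ : Submodule k (ParSh.fibD X I E)) (F₁' : Submodule k (ParSh.fibD X I F))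
    (hEss : ParSh.IsGPSemistable k X I α F₁ n) (hEst : ParSh.IsGPStable k X I α F₁ n)
    (hFss : ParSh.IsGPSemistable k X I α F₁' m) (hFst : ParSh.IsGPStable k X I α F₁' m)
    (hμ : ParSh.gpDeg k X α E F₁ n * (m : ℝ) = ParSh.gpDeg k X α F F₁' m * (n : ℝ))
    (f : E ⟶ F) (hf : ParSh.IsGPHom k X I F₁ F₁' f) :
    f = 0 ∨ (IsIso f ∧ (0 < α → Submodule.map (ParSh.fibDMap k X I f) F₁ = F₁')) := by
  refine or_iff_not_imp_left.2 fun hf0 => ?_
  haveI : IsLocallyNoetherian X := LocallyOfFiniteType.isLocallyNoetherian (X ↘ Spec (CommRingCat.of k))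
  haveI := (Groth.Agent.H25Par.main (k := k) (le_of_eq hdim) I hD α hα0 hα1 hn hm hE hF F₁ F₁' hEss hFss hμ f hf).2
    hf0 hEst
  haveI := Groth.Agent.H25Par.finite_fibD (k := k) I hE
  have hle := Groth.Agent.H25Par.rank_le_of_mono (genericPoint X) hE hF f
  obtain rfl : n = m := by
    rcases hle.lt_or_eq with h | h
    · have h1 := hFst E n f inferInstance hn h hE
      have h2 : (Module.finrank k F₁ : ℝ) ≤ (Module.finrank k (ParSh.gpInduced k X I f F₁') : ℝ) := by
        exact_mod_cast Submodule.finrank_mono (Submodule.map_le_iff_le_comap.1 hf)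
      have h3 : ParSh.gpDeg k X α E F₁ n ≤ ParSh.gpDeg k X α E (ParSh.gpInduced k X I f F₁') n := by
        simp only [ParSh.gpDeg, ParSh.gpWt]
        linarith [mul_le_mul_of_nonneg_left h2 hα0]
      have h4 := mul_le_mul_of_nonneg_right h3 (Nat.cast_nonneg (α := ℝ) m)
      linarith
    · exact h
  exact ((Groth.Agent.H25Par.gpDeg_le_and_eq_iff (k := k) (le_of_eq hdim) I hD α hα0 hα1 hE hF F₁ F₁' f hf).2).1
    (mul_right_cancel₀ (Nat.cast_ne_zero.2 hn.ne') hμ)

end Groth.Agent.S18566
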