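import Groth.Statements.S18567
import Groth.Agent.H25Par.GPSimple

set_option autoImplicit false
universe u
open CategoryTheory CategoryTheory.Limits AlgebraicGeometry
open ParSh

namespace Groth.Agent.S18567

/-- Let Y be a smooth proper integral curve (integral, smooth and proper over k, of dimension one) over
an algebraically closed field k, D an effective Cartier divisor on Y with ideal I, and α a real
weight with 0 ≤ α < 1. A generalised parabolic structure on a finite locally free O_Y-module E is a
k-linear subspace F₁ of H⁰(Y, E ⊗ O_D); its parabolic degree in rank n is deg E + α·dim_k F₁ (deg E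
= χ(E) − n·χ(O_Y)); a homomorphism f : E → E' is parabolic when the induced k-linear map H⁰(E ⊗ O_D)
→ H⁰(E' ⊗ O_D) carries F₁ into F₁'; a submodule G → E gets the preimage structure and (E, F₁) is
semistable (stable) when deg(G, preimage) · n ≤ (<) deg(E, F₁) · r for every finite locally free
submodule G of rank r ≥ 1 (with r < n for stability). Let (E, F₁) be semistable and stable of rank n
≥ 1. Then (E, F₁) is simple: every parabolic endomorphism f : E → E acts on the underlying abelian
sheaf as multiplication by some scalar c ∈ k. The published statement is set on the normalisation of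
a singular curve with D lying over its singular points; neither is used. -/
theorem result (k : Type u) [Field k] [IsAlgClosed k] (X : Scheme.{u}) [X.Over (Spec (CommRingCat.of k))]
    [AlgebraicGeometry.IsIntegral X] [IsProper (X ↘ Spec (CommRingCat.of k))] [Smooth (X ↘ Spec (CommRingCat.of k))]
    (hdim : topologicalKrullDim X = 1)
    (I : X.IdealSheafData) (hD : FGA.IsEffCartier I) (α : ℝ) (hα0 : 0 ≤ α) (hα1 : α < 1)
    {E : X.Modules} (n : ℕ) (hn : 0 < n) (hE : FlatMod.IsFinLocFreeOfRank n E)
    (F₁ : Submodule k (ParSh.fibD X I E))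
    (hEss : ParSh.IsGPSemistable k X I α F₁ n) (hEst : ParSh.IsGPStable k X I α F₁ n)
    (f : E ⟶ E) (hf : ParSh.IsGPHom k X I F₁ F₁ f) :
    ∃ c : k, (SheafOfModules.toSheaf X.ringCatSheaf).map f =
      Coh.smulAb E (Coh.toGlobal (X ↘ Spec (CommRingCat.of k)) c) := by
  haveI : IsLocallyNoetherian X := LocallyOfFiniteType.isLocallyNoetherian (X ↘ Spec (CommRingCat.of k))
  have hEc : Coh.IsCoh E := Groth.Agent.H16Derived.KFlat.Stalk.isCoh_of_isFinLocFree fun y => let ⟨U, hU⟩ := hE y; ⟨U, n, hU⟩
  have h0 : ¬ IsZero E := fun h => by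
    obtain ⟨hf, hfin, hr⟩ := Groth.Agent.H25Par.finrank_stalk hE (genericPoint X)
    haveI : Subsingleton (E.presheaf.stalk (genericPoint X)) :=
      ModuleCat.subsingleton_of_isZero ((DerSch.stalkFunctor X (genericPoint X)).map_isZero h)
    rw [Module.finrank_zero_of_subsingleton] at hr
    omega
  obtain ⟨c, hc⟩ := Groth.Agent.H10Coh.Stab.exists_scalar_not_isIso k hEc h0 f
  refine ⟨c, ?_⟩
  have hg : ParSh.IsGPHom k X I F₁ F₁ (f - Formal.smulMod k E c) := by
    rintro _ ⟨x, hx, rfl⟩
    rw [Groth.Agent.H25Par.fibDMap_sub_smul]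
    exact F₁.sub_mem (hf ⟨x, hx, rfl⟩) (F₁.smul_mem c hx)
  rw [show f = Formal.smulMod k E c from sub_eq_zero.1 (by_contra fun hne => hc ?_)]
  · rfl
  haveI := (Groth.Agent.H25Par.main (k := k) (le_of_eq hdim) I hD α hα0 hα1 hn hn hE hE F₁ F₁ hEss hEss rfl _ hg).2
    hne hEst
  exact ((Groth.Agent.H25Par.gpDeg_le_and_eq_iff (k := k) (le_of_eq hdim) I hD α hα0 hα1 hE hE F₁ F₁
    (f - Formal.smulMod k E c) hg).2.1 rfl).1

end Groth.Agent.S18567
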