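import Groth.Statements.S18569

set_option autoImplicit false
universe u
open CategoryTheory CategoryTheory.Limits AlgebraicGeometry
open ParSh

namespace Groth.Agent.S18569

theorem arith {n d r a b : ℕ} {A B : ℤ} (α : ℝ) (hn : 2 ≤ n) (hd : 0 < d) (hr : r < n) (hb : b ≤ n * d)
    (hα1 : α < 1) (hα : 1 - 1 / ((d : ℝ) * (n : ℝ) * ((n : ℝ) - 1)) < α)
    (h : ((A : ℝ) + 1 * a) * n < ((B : ℝ) + 1 * b) * r) :
    ((A : ℝ) + α * a) * n < ((B : ℝ) + α * b) * r := by
  have hn' : (2 : ℝ) ≤ n := by exact_mod_cast hn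
  have hd' : (1 : ℝ) ≤ d := by exact_mod_cast hd
  have hP : (0 : ℝ) < (d : ℝ) * n * ((n : ℝ) - 1) :=
    mul_pos (mul_pos (by linarith) (by linarith)) (by linarith)
  have hε : (1 - α) * ((d : ℝ) * n * ((n : ℝ) - 1)) < 1 := by
    have h1 : 1 - α < 1 / ((d : ℝ) * n * ((n : ℝ) - 1)) := by linarith
    have := mul_lt_mul_of_pos_right h1 hP
    rwa [div_mul_cancel₀ _ hP.ne'] at this
  have hb' : (b : ℝ) ≤ (n : ℝ) * d := by exact_mod_cast hb
  have hr' : (r : ℝ) + 1 ≤ n := by exact_mod_cast hr
  have e1 := mul_le_mul_of_nonneg_right hb' (Nat.cast_nonneg r : (0 : ℝ) ≤ r)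
  have e2 := mul_le_mul_of_nonneg_left (show (r : ℝ) ≤ n - 1 by linarith)
    (show (0 : ℝ) ≤ (d : ℝ) * n by positivity)
  have e3 : (0 : ℝ) ≤ (a : ℝ) * n := by positivity
  have h2 : (b : ℝ) * r - a * n ≤ (d : ℝ) * n * ((n : ℝ) - 1) := by linarith
  have hD : ((A + a) * n - (B + b) * r : ℤ) ≤ -1 := by
    have h0 : (((A + a) * n - (B + b) * r : ℤ) : ℝ) < 0 := by push_cast; linarith
    have : ((A + a) * n - (B + b) * r : ℤ) < 0 := by exact_mod_cast h0
    omega
  have hD' : (((A + a) * n - (B + b) * r : ℤ) : ℝ) ≤ -1 := by exact_mod_cast hD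
  push_cast at hD'
  have h3 : (1 - α) * ((b : ℝ) * r - a * n) < 1 :=
    lt_of_le_of_lt (mul_le_mul_of_nonneg_left h2 (by linarith)) hε
  linarith

/-- Let Y be a smooth proper integral curve (integral, smooth and proper over k, of dimension one) over
an algebraically closed field k and D an effective Cartier divisor on Y with ideal I, of degree d ≥
1 in the sense that H⁰(Y, G ⊗ O_D) has k-dimension r·d for every finite locally free G of rank r. A
generalised parabolic structure on a finite locally free E is a k-subspace F₁ of H⁰(E ⊗ O_D); with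
weight α its parabolic degree in rank n is deg E + α·dim_k F₁ (deg E = χ(E) − n·χ(O_Y)); a submodule
G → E carries the preimage structure under H⁰(G ⊗ O_D) → H⁰(E ⊗ O_D), and (E, F₁) is α-semistable
(α-stable) when deg_α(G)·n ≤ (<) deg_α(E)·r for every finite locally free submodule G of rank r ≥ 1
(with r < n for stability); weight α = 1 gives 1-semistability and 1-stability. Let E have rank n ≥
2 with structure F₁ and let 0 ≤ α < 1 satisfy 1 − 1/(d·n·(n−1)) < α. If (E, F₁) is 1-stable then it
is α-stable. The published statement is set on the normalisation of a singular curve, with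
structures over several disjoint divisors D_i lying over its singular points and d their total
degree; here Y is any smooth proper integral curve with one structure over one divisor, which
contains the several-divisor case (D the sum of the D_i, F₁ the direct sum of the F₁^i). -/
theorem result (k : Type u) [Field k] [IsAlgClosed k] (X : Scheme.{u}) [X.Over (Spec (CommRingCat.of k))]
    [AlgebraicGeometry.IsIntegral X] [IsProper (X ↘ Spec (CommRingCat.of k))] [Smooth (X ↘ Spec (CommRingCat.of k))]
    (hdim : topologicalKrullDim X = 1)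
    (I : X.IdealSheafData) (hD : FGA.IsEffCartier I) (d : ℕ) (hd : 0 < d)
    (hdegD : ∀ (G : X.Modules) (r : ℕ), FlatMod.IsFinLocFreeOfRank r G → Module.finrank k (ParSh.fibD X I G) = r * d)
    {E : X.Modules} (n : ℕ) (hn : 2 ≤ n) (hE : FlatMod.IsFinLocFreeOfRank n E)
    (F₁ : Submodule k (ParSh.fibD X I E))
    (α : ℝ) (hα0 : 0 ≤ α) (hα1 : α < 1) (hα : 1 - 1 / ((d : ℝ) * (n : ℝ) * ((n : ℝ) - 1)) < α)
    (hst : ParSh.IsGPStable k X I 1 F₁ n) :
    ParSh.IsGPStable k X I α F₁ n := by
  intro F r' i hi hr' hlt hF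
  have h0 := hst F r' i hi hr' hlt hF
  haveI : Module.Finite k (ParSh.fibD X I E) := Module.finite_of_finrank_pos (by
    rw [hdegD E n hE]
    exact Nat.mul_pos (by omega) hd)
  have hb : Module.finrank k F₁ ≤ n * d := by
    rw [← hdegD E n hE]
    exact Submodule.finrank_le _
  simp only [ParSh.gpDeg, ParSh.gpWt] at h0 ⊢
  exact arith α hn hd hlt hb hα1 hα h0

end Groth.Agent.S18569
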