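import Groth.Statements.S18570
import Groth.Agent.H25Par.FibKer
import Groth.Agent.S18568
import Groth.Agent.S18569

set_option autoImplicit false
universe u
open CategoryTheory CategoryTheory.Limits AlgebraicGeometry
open ParSh

namespace Groth.Agent.S18570

theorem strict {n r : ℕ} {A B a b : ℤ} (hr0 : 0 < r) (hr : r < n) (hcop : IsCoprime (n : ℤ) B)
    (h : (A + a) * n = (B + b * n) * r) : False := by
  have hdvd : (n : ℤ) ∣ B * r := ⟨A + a - b * r, by linarith⟩
  have h2 := Int.le_of_dvd (by exact_mod_cast hr0) (hcop.dvd_of_dvd_mul_left hdvd)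
  omega


/-- Let Y be a smooth proper integral curve (integral, smooth and proper over k, of dimension one) over
an algebraically closed field k and D an effective Cartier divisor on Y with ideal I, of degree d ≥
1 in the sense that H⁰(Y, G ⊗ O_D) has k-dimension r·d for every finite locally free G of rank r. A
generalised parabolic structure on a finite locally free E is a k-subspace F₁ of H⁰(E ⊗ O_D); with
weight α its parabolic degree in rank n is deg E + α·dim_k F₁ (deg E = χ(E) − n·χ(O_Y)); a submodule
G → E carries the preimage structure under H⁰(G ⊗ O_D) → H⁰(E ⊗ O_D), and (E, F₁) is α-semistable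
(α-stable) when deg_α(G)·n ≤ (<) deg_α(E)·r for every finite locally free submodule G of rank r ≥ 1
(with r < n for stability); weight α = 1 gives 1-semistability and 1-stability. Let E have rank n ≥
2 with structure F₁ and let 0 ≤ α < 1 satisfy 1 − 1/(d·n·(n−1)) < α. Suppose moreover that n and deg
E are coprime and that dim_k F₁ = a·n is a multiple of n. Then α-semistability, α-stability,
1-semistability and 1-stability of (E, F₁) are all equivalent. The published statement is set on the
normalisation of a singular curve, with structures over several disjoint divisors D_i lying over its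
singular points, d their total degree and each dim F₁^i a multiple of n; here Y is any smooth proper
integral curve with one structure over one divisor and only dim F₁ = a·n is assumed, which contains
the several-divisor case (D the sum of the D_i, F₁ the direct sum of the F₁^i). -/
theorem result (k : Type u) [Field k] [IsAlgClosed k] (X : Scheme.{u}) [X.Over (Spec (CommRingCat.of k))]
    [AlgebraicGeometry.IsIntegral X] [IsProper (X ↘ Spec (CommRingCat.of k))] [Smooth (X ↘ Spec (CommRingCat.of k))]
    (hdim : topologicalKrullDim X = 1)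
    (I : X.IdealSheafData) (hD : FGA.IsEffCartier I) (d : ℕ) (hd : 0 < d)
    (hdegD : ∀ (G : X.Modules) (r : ℕ), FlatMod.IsFinLocFreeOfRank r G → Module.finrank k (ParSh.fibD X I G) = r * d)
    {E : X.Modules} (n : ℕ) (hn : 2 ≤ n) (hE : FlatMod.IsFinLocFreeOfRank n E)
    (F₁ : Submodule k (ParSh.fibD X I E))
    (α : ℝ) (hα0 : 0 ≤ α) (hα1 : α < 1) (hα : 1 - 1 / ((d : ℝ) * (n : ℝ) * ((n : ℝ) - 1)) < α)
    (hcop : IsCoprime (n : ℤ) (Curv2.deg k X E n)) (a : ℕ) (ha : Module.finrank k F₁ = a * n) :
    (ParSh.IsGPSemistable k X I α F₁ n ↔ ParSh.IsGPSemistable k X I 1 F₁ n) ∧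
      (ParSh.IsGPStable k X I α F₁ n ↔ ParSh.IsGPSemistable k X I 1 F₁ n) ∧
      (ParSh.IsGPStable k X I 1 F₁ n ↔ ParSh.IsGPSemistable k X I 1 F₁ n) := by
  haveI : IsLocallyNoetherian X := LocallyOfFiniteType.isLocallyNoetherian (X ↘ Spec (CommRingCat.of k))
  obtain ⟨x⟩ := (inferInstance : Nonempty X)
  have ss1_of_ssα : ParSh.IsGPSemistable k X I α F₁ n → ParSh.IsGPSemistable k X I 1 F₁ n :=
    Groth.Agent.S18568.result k X hdim I hD d hd hdegD n hn hE F₁ α hα0 hα1 hα
  have stα_of_st1 : ParSh.IsGPStable k X I 1 F₁ n → ParSh.IsGPStable k X I α F₁ n :=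
    Groth.Agent.S18569.result k X hdim I hD d hd hdegD n hn hE F₁ α hα0 hα1 hα
  have st1_of_ss1 : ParSh.IsGPSemistable k X I 1 F₁ n → ParSh.IsGPStable k X I 1 F₁ n := by
    intro h F r' i hi hr' hlt hF
    refine lt_of_le_of_ne (h F r' i hi hr' hF) fun he => ?_
    simp only [ParSh.gpDeg, ParSh.gpWt, one_mul, ha] at he
    exact strict (A := Curv2.deg k X F r') (B := Curv2.deg k X E n) (a := (Module.finrank k (ParSh.gpInduced k X I i F₁) : ℤ))
      (b := (a : ℤ)) hr' hlt hcop (by exact_mod_cast he)
  have top : ∀ (F : X.Modules) (i : F ⟶ E), Mono i → FlatMod.IsFinLocFreeOfRank n F →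
      ParSh.gpDeg k X α F (ParSh.gpInduced k X I i F₁) n * (n : ℝ) ≤ ParSh.gpDeg k X α E F₁ n * (n : ℝ) := by
    intro F i hi hF
    haveI := hi
    haveI : Module.Finite k (ParSh.fibD X I F) := Module.finite_of_finrank_pos (by
      rw [hdegD F n hF]; exact Nat.mul_pos (by omega) hd)
    haveI : Module.Finite k (ParSh.fibD X I E) := Module.finite_of_finrank_pos (by
      rw [hdegD E n hE]; exact Nat.mul_pos (by omega) hd)
    exact mul_le_mul_of_nonneg_right (Groth.Agent.H25Par.gpDeg_induced_le hdim.le hF hE i I hD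
      (by rw [hdegD F n hF, hdegD E n hE]) F₁ α hα0 hα1.le) (Nat.cast_nonneg n)
  have ssα_of_ss1 : ParSh.IsGPSemistable k X I 1 F₁ n → ParSh.IsGPSemistable k X I α F₁ n := by
    intro h F r' i hi hr' hF
    haveI := hi
    rcases lt_or_eq_of_le (Groth.Agent.H25Par.rank_le_of_mono x hF hE i) with hlt | rfl
    · exact (stα_of_st1 (st1_of_ss1 h) F r' i hi hr' hlt hF).le
    · exact top F i hi hF
  have ss1_of_stα : ParSh.IsGPStable k X I α F₁ n → ParSh.IsGPSemistable k X I 1 F₁ n := by
    intro h
    refine ss1_of_ssα fun F r' i hi hr' hF => ?_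
    haveI := hi
    rcases lt_or_eq_of_le (Groth.Agent.H25Par.rank_le_of_mono x hF hE i) with hlt | rfl
    · exact (h F r' i hi hr' hlt hF).le
    · exact top F i hi hF
  exact ⟨⟨ss1_of_ssα, ssα_of_ss1⟩, ⟨ss1_of_stα, fun h => stα_of_st1 (st1_of_ss1 h)⟩,
    ⟨fun h => ss1_of_stα (stα_of_st1 h), st1_of_ss1⟩⟩

end Groth.Agent.S18570
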