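import Groth.Statements.S18572
import Groth.Agent.H25REq.Line
import Mathlib

set_option autoImplicit false
universe u
open CategoryTheory AlgebraicGeometry
open REq

namespace Groth.Agent.S18572

/-- Let k be an infinite field and X an integral separated scheme of finite type over k which is retract
rational over k. Then X is almost R-trivial over k: there is a dense open subscheme U of X such
that, for every field K containing k (in the universe of k), U has a K-point and any two K-points of
X lying in U are R-equivalent on X. -/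
theorem result (k : Type u) [Field k] [Infinite k] (X : Scheme.{u})
    (f : X ⟶ Spec (CommRingCat.of k)) [IsIntegral X] [LocallyOfFiniteType f] [QuasiCompact f]
    [IsSeparated f] (hX : REq.IsRetractRational f) :
    REq.IsAlmostRTrivial f := by
  obtain ⟨U, n, V, a, b, hU, hab, ha, hb⟩ := hX
  refine ⟨U, IsOpen.dense U.isOpen hU, fun K _ _ => ⟨?_, fun A B hA hB => ?_⟩⟩
  · obtain ⟨x, hx⟩ := hU
    obtain ⟨p, hp⟩ := Groth.Agent.H25REq.exists_point_of_infinite V ⟨_, (a ⟨x, hx⟩).2⟩
    refine ⟨⟨REq.specMap k K ≫ p ≫ b ≫ U.ι, ?_⟩, ?_⟩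
    · rw [Category.assoc, Category.assoc, Category.assoc, hb, hp, Category.comp_id]
    · rintro _ ⟨z, rfl⟩
      exact ((REq.specMap k K ≫ p ≫ b) z).2
  · have hr : ∀ A : REq.Pts f K, REq.InOpen f U A → Set.range A.1 ⊆ Set.range U.ι := fun A hA => by
      rw [Scheme.Opens.range_ι]; exact hA
    let A' : REq.Pts (U.ι ≫ f) K := ⟨IsOpenImmersion.lift U.ι A.1 (hr A hA), by
      rw [IsOpenImmersion.lift_fac_assoc]; exact A.2⟩
    let B' : REq.Pts (U.ι ≫ f) K := ⟨IsOpenImmersion.lift U.ι B.1 (hr B hB), by
      rw [IsOpenImmersion.lift_fac_assoc]; exact B.2⟩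
    obtain ⟨W, h, pa, pb, h1, h2, h3, h4, h5⟩ :=
      Groth.Agent.H25REq.elemLink_of_retract _ V a b hab ha hb K A' B'
    refine Relation.EqvGen.rel _ _ ⟨W, h ≫ U.ι, pa, pb, (Category.assoc _ _ _).trans h1, h2, h3, ?_, ?_⟩
    · rw [← Category.assoc, h4]; exact IsOpenImmersion.lift_fac _ _ _
    · rw [← Category.assoc, h5]; exact IsOpenImmersion.lift_fac _ _ _

end Groth.Agent.S18572
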