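import Groth.Statements.S18573
import Groth.Agent.H25REq.P1Irred
import Groth.Agent.LeadChow.Dense

set_option autoImplicit false
universe u
open CategoryTheory AlgebraicGeometry
open REq

namespace Groth.Agent.S18573

/-- Let Y be a scheme over a field k and K a field containing k. Let V and W be closed subsets of Y with
V ∪ W = Y such that no K-point of Y has its image in V ∩ W. If p is a K-point of Y lying in V and q
a K-point of Y lying in W, then p and q are not R-equivalent on Y. (The published step concerns
k-points of the special fibre of a proper flat scheme over a discrete valuation ring, that is K = k;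
this row is stated for any scheme Y over k and K-points for any field K containing k.) -/
theorem result (k : Type u) [Field k] (Y : Scheme.{u})
    (g : Y ⟶ Spec (CommRingCat.of k)) (K : Type u) [Field K] [Algebra k K]
    (V W : Set Y) (hV : IsClosed V) (hW : IsClosed W) (hVW : V ∪ W = Set.univ)
    (hT : ∀ z : REq.Pts g K, ¬ (Set.range z.1.base ⊆ V ∩ W))
    (p q : REq.Pts g K) (hp : Set.range p.1.base ⊆ V) (hq : Set.range q.1.base ⊆ W) :
    ¬ REq.REquiv g K p q := by
  have key : ∀ A B : REq.Pts g K, REq.ElemLink g K A B →
      (Set.range A.1.base ⊆ V ↔ Set.range B.1.base ⊆ V) := by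
    rintro A B ⟨U, h, a, b, -, -, -, hA, hB⟩
    haveI := Groth.Agent.H25REq.irreducibleSpace_P1K K
    have hne : (U : Set ↥(REq.P1K K)).Nonempty :=
      ⟨(a (IsLocalRing.closedPoint K)).1, (a (IsLocalRing.closedPoint K)).2⟩
    haveI : IrreducibleSpace ↥(U : Scheme.{u}) := Groth.Agent.LeadChow.irreducibleSpace_opens U hne
    have hrange : ∀ (c : Spec (CommRingCat.of K) ⟶ (U : Scheme.{u})) (C : REq.Pts g K), c ≫ h = C.1 →
        ∀ S : Set Y, h ⁻¹' S = Set.univ → Set.range C.1.base ⊆ S := by
      intro c C hC S hS
      rw [← hC]
      rintro _ ⟨x, rfl⟩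
      exact hS.ge (Set.mem_univ (c x))
    have hun : (Set.univ : Set ↥(U : Scheme.{u})) ⊆ h ⁻¹' V ∪ h ⁻¹' W := by
      rw [← Set.preimage_union, hVW, Set.preimage_univ]
    rcases isPreirreducible_iff_isClosed_union_isClosed.mp
      (PreirreducibleSpace.isPreirreducible_univ (X := ↥(U : Scheme.{u}))) _ _
      (hV.preimage h.continuous) (hW.preimage h.continuous) hun with h1 | h1
    · exact iff_of_true (hrange a A hA V (Set.univ_subset_iff.mp h1)) (hrange b B hB V (Set.univ_subset_iff.mp h1))
    · exact iff_of_false
        (fun hc => hT A (Set.subset_inter hc (hrange a A hA W (Set.univ_subset_iff.mp h1))))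
        (fun hc => hT B (Set.subset_inter hc (hrange b B hB W (Set.univ_subset_iff.mp h1))))
  intro h
  have h' : Set.range p.1.base ⊆ V ↔ Set.range q.1.base ⊆ V := by
    clear hp hq
    induction h with
    | rel A B hAB => exact key A B hAB
    | refl A => exact Iff.rfl
    | symm A B _ ih => exact ih.symm
    | trans A B C _ _ ih1 ih2 => exact ih1.trans ih2
  exact hT q (Set.subset_inter (h'.mp hp) hq)

end Groth.Agent.S18573
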