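import Groth.Statements.S18574
import Groth.Agent.H25REq.Spread

set_option autoImplicit false
universe u v
open CategoryTheory AlgebraicGeometry
open REq

namespace Groth.Agent.S18574

open CategoryTheory.Limits CohB1

/-- The projection to the absolute projective line. -/
noncomputable def pr1 (B : Scheme.{u}) : ProjSpaceOver 1 B ⟶ ProjSpace 1 (ULift.{u} ℤ) := pullback.fst _ _

theorem toP1_pr1 {A B : Scheme.{u}} (t : A ⟶ B) : P1.toP1 t ≫ pr1 B = pr1 A :=
  (pullback.lift_fst _ _ _).trans (Category.comp_id _)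

theorem toP1_toBase {A B : Scheme.{u}} (t : A ⟶ B) :
    P1.toP1 t ≫ ProjSpaceOver.toBase 1 B = ProjSpaceOver.toBase 1 A ≫ t := pullback.lift_snd _ _ _

theorem p1_ext {A B : Scheme.{u}} {r s : A ⟶ ProjSpaceOver 1 B} (h1 : r ≫ pr1 B = s ≫ pr1 B)
    (h2 : r ≫ ProjSpaceOver.toBase 1 B = s ≫ ProjSpaceOver.toBase 1 B) : r = s := pullback.hom_ext h1 h2

theorem exists_pair {A B : Scheme.{u}} (a : A ⟶ ProjSpace 1 (ULift.{u} ℤ)) (b : A ⟶ B) :
    ∃ s : A ⟶ ProjSpaceOver 1 B, s ≫ pr1 B = a ∧ s ≫ ProjSpaceOver.toBase 1 B = b :=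
  ⟨pullback.lift a b (specULiftZIsTerminal.hom_ext _ _), pullback.lift_fst _ _ _, pullback.lift_snd _ _ _⟩

/-- A morphism from the generic point is determined by any spread. -/
theorem spread_unique {k : Type u} [Field k] {X T : Scheme.{u}} (f : X ⟶ Spec (CommRingCat.of k)) [IsSeparated f]
    (sT : T ⟶ Spec (CommRingCat.of k)) [IsIntegral T] (W : T.Opens) (hW : genericPoint T ∈ W)
    (α β : (W : Scheme.{u}) ⟶ X) (hα : α ≫ f = W.ι ≫ sT) (hβ : β ≫ f = W.ι ≫ sT)
    (h : W.fromSpecStalkOfMem (genericPoint T) hW ≫ α = W.fromSpecStalkOfMem (genericPoint T) hW ≫ β) :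
    α = β := by
  have : IsDominant (W.fromSpecStalkOfMem (genericPoint T) hW) := by
    refine ⟨Dense.mono (s₁ := {(⟨genericPoint T, hW⟩ : W)}) ?_ ?_⟩
    · rintro _ rfl
      refine ⟨IsLocalRing.closedPoint _, ?_⟩
      apply W.ι.isOpenEmbedding.injective
      exact (Scheme.Hom.comp_apply _ _ _).symm.trans ((congrArg (fun t : Spec _ ⟶ T => t (IsLocalRing.closedPoint _))
        (Scheme.Opens.fromSpecStalkOfMem_ι W _ hW)).trans Scheme.fromSpecStalk_closedPoint)
    · refine dense_iff_closure_eq.2 (eq_top_iff.2 fun w _ => specializes_iff_mem_closure.1 ?_)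
      exact W.ι.isOpenEmbedding.isInducing.specializes_iff.1 ((genericPoint_spec T).specializes trivial)
  exact ext_of_isDominant_of_isSeparated f (hα.trans hβ.symm) _ h

theorem fromSpecStalkOfMem_homOfLE {T : Scheme.{u}} {W W' : T.Opens} (h : W' ≤ W) {x : T} (hx : x ∈ W') :
    W'.fromSpecStalkOfMem x hx ≫ T.homOfLE h = W.fromSpecStalkOfMem x (h hx) := by
  rw [← cancel_mono W.ι, Category.assoc, Scheme.homOfLE_ι, Scheme.Opens.fromSpecStalkOfMem_ι,
    Scheme.Opens.fromSpecStalkOfMem_ι]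


/-- Let k be a field and Φ a contravariant functor from the category of schemes over Spec k to sets.
Assume that for every integral scheme Y smooth, separated and quasi-compact over k, the map Φ(Y) →
Φ(P^1_Y) induced by the projection P^1_Y → Y is bijective. Let X be a proper integral scheme over k
having a non-empty open subscheme smooth over k, and assume X is almost R-trivial over k. Then there
is a non-empty open subscheme U of X, smooth over k, such that the image of Φ(X) → Φ(U) (restriction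
along the inclusion) equals the image of Φ(Spec k) → Φ(U) (along the structure morphism of U). The
functor takes values in an arbitrary universe. -/
theorem result (k : Type u) [Field k]
    (Φ : (Over (Spec (CommRingCat.of k)))ᵒᵖ ⥤ Type v)
    (hΦ : ∀ (Y : Scheme.{u}) (g : Y ⟶ Spec (CommRingCat.of k)) [IsIntegral Y] [Smooth g]
      [IsSeparated g] [QuasiCompact g],
      Function.Bijective (Φ.map (Over.homMk (CohB1.ProjSpaceOver.toBase 1 Y) rfl :
        Over.mk (CohB1.ProjSpaceOver.toBase 1 Y ≫ g) ⟶ Over.mk g).op))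
    (X : Scheme.{u}) (f : X ⟶ Spec (CommRingCat.of k)) [IsIntegral X] [IsProper f]
    (hsm : ∃ V : X.Opens, (V : Set X).Nonempty ∧ Smooth (V.ι ≫ f))
    (hR : REq.IsAlmostRTrivial f) :
    ∃ U : X.Opens, (U : Set X).Nonempty ∧ Smooth (U.ι ≫ f) ∧
      Set.range (Φ.map (Over.homMk U.ι rfl : Over.mk (U.ι ≫ f) ⟶ Over.mk f).op) =
        Set.range (Φ.map (Over.homMk (U.ι ≫ f) (Category.comp_id _) :
          Over.mk (U.ι ≫ f) ⟶ Over.mk (𝟙 (Spec (CommRingCat.of k)))).op) := by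
  obtain ⟨V, hV, hsmV⟩ := hsm
  obtain ⟨U₀, hU₀, hR⟩ := hR
  haveI : IsLocallyNoetherian X := LocallyOfFiniteType.isLocallyNoetherian f
  haveI : Nonempty V := hV.to_subtype
  let T : Scheme.{u} := V
  let sT : T ⟶ Spec (CommRingCat.of k) := V.ι ≫ f
  haveI : Smooth sT := hsmV
  haveI : IsIntegral T := inferInstanceAs (IsIntegral (V : Scheme.{u}))
  let σ := T.fromSpecStalk (genericPoint T)
  obtain ⟨φ, hφ⟩ := Spec.map_surjective (σ ≫ sT)
  letI alg : Algebra k T.functionField := φ.hom.toAlgebra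
  have hspec : REq.specMap k T.functionField = σ ≫ sT := hφ
  haveI := Groth.Agent.H25REq.irreducibleSpace_P1K T.functionField
  haveI : AlgebraicGeometry.IsReduced (ProjSpaceOver 1 (Spec T.functionField)) :=
    Groth.Agent.H28Neron.isReduced_of_smooth (R := T.functionField) (ProjSpaceOver.toBase 1 _)
  have qc : ∀ W : T.Opens, QuasiCompact (W.ι ≫ sT) := fun W => inferInstance
  -- functorial images
  let ov : ∀ (W : T.Opens) (α : (W : Scheme.{u}) ⟶ X), α ≫ f = W.ι ≫ sT → (Over.mk (W.ι ≫ sT) ⟶ Over.mk f) :=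
    fun W α h => Over.homMk α h
  let E : REq.Pts f T.functionField → REq.Pts f T.functionField → Prop := fun A B =>
    ∃ (W : T.Opens) (_ : genericPoint T ∈ W), ∀ (W' : T.Opens) (_ : W' ≤ W) (h' : genericPoint T ∈ W')
      (α β : (W' : Scheme.{u}) ⟶ X) (hα : α ≫ f = W'.ι ≫ sT) (hβ : β ≫ f = W'.ι ≫ sT),
        W'.fromSpecStalkOfMem (genericPoint T) h' ≫ α = A.1 →
        W'.fromSpecStalkOfMem (genericPoint T) h' ≫ β = B.1 →
        Φ.map (ov W' α hα).op = Φ.map (ov W' β hβ).op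
  have hspread : ∀ A : REq.Pts f T.functionField, ∃ (N : T.Opens) (hN : genericPoint T ∈ N)
      (g : (N : Scheme.{u}) ⟶ X), g ≫ f = N.ι ≫ sT ∧ N.fromSpecStalkOfMem (genericPoint T) hN ≫ g = A.1 := fun A => by
    obtain ⟨N, hN, g, h1, h2⟩ := spread_out_of_isGermInjective' (sX := sT) (sY := f) (x := genericPoint T) A.1
      (A.2.trans hspec)
    exact ⟨N, hN, g, h2, h1.symm⟩
  have hlink : ∀ A B, REq.ElemLink f T.functionField A B → E A B := by
    rintro A B ⟨U, h, a, b, hh, ha, hb, haA, hbB⟩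
    obtain ⟨h', hh', hh'U⟩ := Groth.Agent.H25REq.exists_extend_line f T.functionField U
      ⟨_, (a (IsLocalRing.closedPoint _)).2⟩ h hh
    obtain ⟨W, hW, g, hg, hgh⟩ := Groth.Agent.H25REq.exists_spread_line f sT h' (by rw [hh', hspec]; rfl)
    have hsec : ∀ c : Spec T.functionField ⟶ (U : Scheme.{u}), c ≫ U.ι ≫ REq.P1K.toSpec T.functionField = 𝟙 _ →
        ∃ (N : T.Opens) (hN : genericPoint T ∈ N), ∀ (W' : T.Opens) (hle : W' ≤ W) (_ : W' ≤ N) (h1 : genericPoint T ∈ W'),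
          ∃ s : (W' : Scheme.{u}) ⟶ ProjSpaceOver 1 (W' : Scheme.{u}), s ≫ ProjSpaceOver.toBase 1 _ = 𝟙 _ ∧
            W'.fromSpecStalkOfMem (genericPoint T) h1 ≫ s ≫ P1.toP1 (T.homOfLE hle) ≫ g = c ≫ h := by
      intro c hc
      let c0 : Spec T.functionField ⟶ ProjSpace 1 (ULift.{u} ℤ) := c ≫ U.ι ≫ pr1 _
      obtain ⟨N, hN, gc, hgc, -⟩ := spread_out_of_isGermInjective' (sX := specULiftZIsTerminal.from T)
        (sY := ProjSpace.toSpec 1 (ULift.{u} ℤ)) (x := genericPoint T) c0 (specULiftZIsTerminal.hom_ext _ _)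
      refine ⟨N, hN, fun W' hle hleN h1 => ?_⟩
      obtain ⟨s, hs1, hs2⟩ := exists_pair (T.homOfLE hleN ≫ gc) (𝟙 (W' : Scheme.{u}))
      refine ⟨s, hs2, ?_⟩
      have key : W'.fromSpecStalkOfMem (genericPoint T) h1 ≫ s ≫ P1.toP1 (T.homOfLE hle) =
          (c ≫ U.ι) ≫ P1.toP1 (W.fromSpecStalkOfMem (genericPoint T) hW) := by
        refine p1_ext ?_ ?_
        · simp only [Category.assoc]
          rw [toP1_pr1, toP1_pr1, hs1, ← Category.assoc, fromSpecStalkOfMem_homOfLE, ← hgc]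
        · simp only [Category.assoc]
          rw [toP1_toBase, toP1_toBase, reassoc_of% hs2, fromSpecStalkOfMem_homOfLE, reassoc_of% hc]
      rw [reassoc_of% key, hgh]
      show c ≫ U.ι ≫ h' = c ≫ h
      rw [hh'U]
    obtain ⟨Na, hNa, hsa⟩ := hsec a ha
    obtain ⟨Nb, hNb, hsb⟩ := hsec b hb
    refine ⟨W ⊓ Na ⊓ Nb, ⟨⟨hW, hNa⟩, hNb⟩, fun W' hle h1 α β hα hβ hαA hβB => ?_⟩
    have hle1 : W' ≤ W := hle.trans (inf_le_left.trans inf_le_left)
    obtain ⟨sa, hsa1, hsa2⟩ := hsa W' hle1 (hle.trans (inf_le_left.trans inf_le_right)) h1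
    obtain ⟨sb, hsb1, hsb2⟩ := hsb W' hle1 (hle.trans inf_le_right) h1
    let h'' : ProjSpaceOver 1 (W' : Scheme.{u}) ⟶ X := P1.toP1 (T.homOfLE hle1) ≫ g
    have hh'' : h'' ≫ f = ProjSpaceOver.toBase 1 _ ≫ W'.ι ≫ sT := by
      have e : P1.toP1 (T.homOfLE hle1) ≫ ProjSpaceOver.toBase 1 (W : Scheme.{u}) =
          ProjSpaceOver.toBase 1 _ ≫ T.homOfLE hle1 := pullback.lift_snd _ _ _
      simp only [h'', Category.assoc, hg]
      rw [reassoc_of% e, Scheme.homOfLE_ι_assoc]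
    have hα' : α = sa ≫ h'' := spread_unique f sT W' h1 α _ hα
      (by rw [Category.assoc, hh'', reassoc_of% hsa1]) (by rw [hαA, ← haA]; exact hsa2.symm)
    have hβ' : β = sb ≫ h'' := spread_unique f sT W' h1 β _ hβ
      (by rw [Category.assoc, hh'', reassoc_of% hsb1]) (by rw [hβB, ← hbB]; exact hsb2.symm)
    haveI : Nonempty W' := ⟨⟨_, h1⟩⟩
    haveI := qc W'
    let P := Over.mk (ProjSpaceOver.toBase 1 (W' : Scheme.{u}) ≫ W'.ι ≫ sT)
    let hb' : P ⟶ Over.mk f := Over.homMk h'' hh''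
    let sa' : Over.mk (W'.ι ≫ sT) ⟶ P := Over.homMk sa (by show sa ≫ _ ≫ _ = _; rw [reassoc_of% hsa1]; rfl)
    let sb' : Over.mk (W'.ι ≫ sT) ⟶ P := Over.homMk sb (by show sb ≫ _ ≫ _ = _; rw [reassoc_of% hsb1]; rfl)
    let p' : P ⟶ Over.mk (W'.ι ≫ sT) := Over.homMk (ProjSpaceOver.toBase 1 _) rfl
    have ea : ov W' α hα = sa' ≫ hb' := by ext; exact hα'
    have eb : ov W' β hβ = sb' ≫ hb' := by ext; exact hβ'
    have pa : sa' ≫ p' = 𝟙 _ := by ext; exact hsa1
    have pb : sb' ≫ p' = 𝟙 _ := by ext; exact hsb1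
    have hsurj := (hΦ (W' : Scheme.{u}) (W'.ι ≫ sT)).2
    ext x
    obtain ⟨y, hy⟩ := hsurj (Φ.map hb'.op x)
    rw [ea, eb, op_comp, op_comp, Functor.map_comp, Functor.map_comp]
    show Φ.map sa'.op (Φ.map hb'.op x) = Φ.map sb'.op (Φ.map hb'.op x)
    rw [← hy]
    show (Φ.map p'.op ≫ Φ.map sa'.op) y = (Φ.map p'.op ≫ Φ.map sb'.op) y
    rw [← Functor.map_comp, ← Functor.map_comp, ← op_comp, ← op_comp, pa, pb]
  have hrefl : ∀ A, E A A := fun A => by
    obtain ⟨N, hN, -, -, -⟩ := hspread A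
    refine ⟨N, hN, fun W' _ h1 α β hα hβ hαA hβA => ?_⟩
    obtain rfl := spread_unique f sT W' h1 α β hα hβ (hαA.trans hβA.symm)
    rfl
  have hequiv : ∀ A B, REq.REquiv f T.functionField A B → E A B := by
    intro A B h
    induction h with
    | rel A B h => exact hlink A B h
    | refl A => exact hrefl A
    | symm A B _ ih =>
      obtain ⟨W, hW, h⟩ := ih
      exact ⟨W, hW, fun W' hle h1 α β hα hβ hαA hβB => (h W' hle h1 β α hβ hα hβB hαA).symm⟩
    | trans A B C _ _ ih ih' =>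
      obtain ⟨W, hW, h⟩ := ih
      obtain ⟨Z, hZ, h2⟩ := ih'
      obtain ⟨N, hN, g, hg, hgB⟩ := hspread B
      refine ⟨W ⊓ Z ⊓ N, ⟨⟨hW, hZ⟩, hN⟩, fun W' hle h1 α γ hα hγ hαA hγC => ?_⟩
      have hβ : (T.homOfLE (hle.trans inf_le_right) ≫ g) ≫ f = W'.ι ≫ sT := by
        rw [Category.assoc, hg, Scheme.homOfLE_ι_assoc]
      have hβB : W'.fromSpecStalkOfMem (genericPoint T) h1 ≫ T.homOfLE (hle.trans inf_le_right) ≫ g = B.1 := by
        rw [← Category.assoc, fromSpecStalkOfMem_homOfLE, hgB]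
      exact (h W' (hle.trans (inf_le_left.trans inf_le_left)) h1 α _ hα hβ hαA hβB).trans
        (h2 W' (hle.trans (inf_le_left.trans inf_le_right)) h1 _ γ hβ hγ hβB hγC)
  -- the generic point and a constant point
  obtain ⟨⟨A₀, hA₀⟩, -⟩ := @hR k _ (Algebra.id k)
  have hA₀f : A₀.1 ≫ f = 𝟙 _ := by
    rw [A₀.2]
    show Spec.map (CommRingCat.ofHom (RingHom.id k)) = 𝟙 _
    exact Spec.map_id _
  let Aη : REq.Pts f T.functionField := ⟨σ ≫ V.ι, by rw [Category.assoc, hspec]⟩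
  let B₀ : REq.Pts f T.functionField := ⟨σ ≫ sT ≫ A₀.1, by
    rw [Category.assoc, Category.assoc, hA₀f, Category.comp_id, hspec]⟩
  have hAη : REq.InOpen f U₀ Aη := by
    rintro _ ⟨y, rfl⟩
    show V.ι (σ y) ∈ U₀
    have hy : σ y = genericPoint T := by
      have := (Scheme.range_fromSpecStalk (X := T) (x := genericPoint T)).le ⟨y, rfl⟩
      exact ((this : _ ⤳ _).antisymm ((genericPoint_spec T).specializes trivial)).eq
    have e := genericPoint_eq_of_isOpenImmersion V.ι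
    rw [hy, show (genericPoint T) = genericPoint (V : Scheme.{u}) from rfl, e]
    obtain ⟨z, hz⟩ := hU₀.nonempty
    exact ((genericPoint_spec X).mem_open_set_iff U₀.isOpen).mpr ⟨z, trivial, hz⟩
  have hB₀ : REq.InOpen f U₀ B₀ := by
    rintro _ ⟨y, rfl⟩
    exact hA₀ ⟨sT (σ y), rfl⟩
  obtain ⟨W, hW, hE⟩ := hequiv _ _ ((hR T.functionField).2 Aη B₀ hAη hB₀)
  have key := hE W le_rfl hW (W.ι ≫ V.ι) (W.ι ≫ sT ≫ A₀.1) (by rw [Category.assoc])
    (by rw [Category.assoc, Category.assoc, hA₀f, Category.comp_id])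
    (by rw [Scheme.Opens.fromSpecStalkOfMem_ι_assoc]) (by rw [Scheme.Opens.fromSpecStalkOfMem_ι_assoc])
  refine ⟨V.ι ''ᵁ W, ⟨V.ι (genericPoint T), _, hW, rfl⟩, ?_, ?_⟩
  · have e := V.ι.isoImage_hom_ι W
    have : (V.ι ''ᵁ W).ι ≫ f = (V.ι.isoImage W).inv ≫ W.ι ≫ sT := by
      rw [← cancel_epi (V.ι.isoImage W).hom, Iso.hom_inv_id_assoc, reassoc_of% e]
    rw [this]
    infer_instance
  · let U' := V.ι ''ᵁ W
    let i : Over.mk (U'.ι ≫ f) ⟶ Over.mk (W.ι ≫ sT) := Over.homMk (V.ι.isoImage W).inv (by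
      show (V.ι.isoImage W).inv ≫ W.ι ≫ V.ι ≫ f = U'.ι ≫ f
      rw [← cancel_epi (V.ι.isoImage W).hom, Iso.hom_inv_id_assoc, reassoc_of% (V.ι.isoImage_hom_ι W)])
    have hi : (V.ι.isoImage W).inv ≫ W.ι ≫ V.ι = U'.ι := by
      rw [← cancel_epi (V.ι.isoImage W).hom, Iso.hom_inv_id_assoc, V.ι.isoImage_hom_ι W]
    let res : Over.mk (U'.ι ≫ f) ⟶ Over.mk f := Over.homMk U'.ι rfl
    let str : Over.mk (U'.ι ≫ f) ⟶ Over.mk (𝟙 (Spec (CommRingCat.of k))) :=
      Over.homMk (U'.ι ≫ f) (Category.comp_id _)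
    let pt : Over.mk (𝟙 (Spec (CommRingCat.of k))) ⟶ Over.mk f := Over.homMk A₀.1 hA₀f
    let st : Over.mk f ⟶ Over.mk (𝟙 (Spec (CommRingCat.of k))) := Over.homMk f (Category.comp_id _)
    have h1 : res = i ≫ ov W (W.ι ≫ V.ι) (by rw [Category.assoc]) := by ext; exact hi.symm
    have h2 : i ≫ ov W (W.ι ≫ sT ≫ A₀.1) (by rw [Category.assoc, Category.assoc, hA₀f, Category.comp_id]) =
        str ≫ pt := by
      ext
      show (V.ι.isoImage W).inv ≫ W.ι ≫ (V.ι ≫ f) ≫ A₀.1 = (U'.ι ≫ f) ≫ A₀.1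
      rw [← hi]; simp only [Category.assoc]
    have h3 : str = res ≫ st := by ext; rfl
    have h4 : Φ.map res.op = Φ.map pt.op ≫ Φ.map str.op := by
      rw [h1, op_comp, Functor.map_comp, key, ← Functor.map_comp, ← op_comp, h2, op_comp, Functor.map_comp]
    show Set.range (Φ.map res.op) = Set.range (Φ.map str.op)
    refine Set.Subset.antisymm ?_ ?_
    · rintro _ ⟨x, rfl⟩
      exact ⟨Φ.map pt.op x, by rw [h4]; rfl⟩
    · rintro _ ⟨x, rfl⟩
      exact ⟨Φ.map st.op x, by rw [h3, op_comp, Functor.map_comp]; rfl⟩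

end Groth.Agent.S18574
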