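import Groth.Statements.S18577
import Groth.Agent.H25REq.LineLink
import Mathlib.RingTheory.TensorProduct.Maps
import Mathlib.AlgebraicGeometry.Pullbacks

set_option autoImplicit false
universe u
open CategoryTheory AlgebraicGeometry
open REq

namespace Groth.Agent.S18577

open CategoryTheory CategoryTheory.Limits AlgebraicGeometry CohB1 TopologicalSpace HomogeneousLocalization

private noncomputable abbrev RZ : Type u := ULift.{u} ℤ

private noncomputable abbrev baseHom (m : ℕ) (l : MvPolynomial (Fin (m + 1)) RZ.{u}) :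
    RZ.{u} →+* Away (polyGrading m RZ.{u}) l :=
  (fromZeroRingHom (polyGrading m RZ.{u}) _).comp (algebraMap RZ.{u} (polyGrading m RZ.{u} 0))

private theorem rz_hom_ext {S : Type u} [CommRing S] (f g : RZ.{u} →+* S) : f = g := by
  refine RingHom.ext fun x => ?_
  have h := RingHom.ext_int (f.comp (ULift.ringEquiv.symm : ℤ ≃+* RZ.{u}).toRingHom)
    (g.comp (ULift.ringEquiv.symm : ℤ ≃+* RZ.{u}).toRingHom)
  exact congr($h x.down)

private theorem exists_hom {m : ℕ} {K : Type u} [Field K] (l : MvPolynomial (Fin (m + 1)) RZ.{u})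
    (hl : l ∈ polyGrading m RZ.{u} 1) (x : Spec (CommRingCat.of K) ⟶ Proj (polyGrading m RZ.{u}))
    (hx : ∀ p, x.base p ∈ Proj.basicOpen (polyGrading m RZ.{u}) l) :
    ∃ α : Away (polyGrading m RZ.{u}) l →+* K,
      Spec.map (CommRingCat.ofHom α) ≫ Proj.awayι (polyGrading m RZ.{u}) l hl zero_lt_one = x := by
  have hr : Set.range x.base ⊆ Set.range (Proj.awayι (polyGrading m RZ.{u}) l hl zero_lt_one).base := by
    rintro _ ⟨p, rfl⟩
    show x.base p ∈ (Proj.awayι (polyGrading m RZ.{u}) l hl zero_lt_one).opensRange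
    rw [Proj.opensRange_awayι]
    exact hx p
  obtain ⟨α, hα⟩ := Spec.map_surjective (IsOpenImmersion.lift _ x hr)
  exact ⟨α.hom, by rw [CommRingCat.ofHom_hom, hα]; exact IsOpenImmersion.lift_fac _ _ _⟩

private theorem link {m : ℕ} {K : Type u} [Field K] (l : MvPolynomial (Fin (m + 1)) RZ.{u})
    (hl : l ∈ polyGrading m RZ.{u} 1) (α β : Away (polyGrading m RZ.{u}) l →+* K) :
    ∃ φ : Away (polyGrading m RZ.{u}) l →+* Polynomial K,
      (Polynomial.evalRingHom 0).comp φ = α ∧ (Polynomial.evalRingHom 1).comp φ = β := by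
  letI : Algebra RZ.{u} K := (α.comp (baseHom m l)).toAlgebra
  exact Groth.Agent.H25REq.exists_line hl α β rfl (rz_hom_ext _ _)

private theorem exists_affineLine' (R : Type u) [CommRing R] (K : Type u) [Field K] [Algebra R K]
    (hext : ∀ (S : Type u) [CommRing S] (f g : R →+* S), f = g) :
    ∃ (W : Scheme.{u}) (j : W ⟶ pullback (ProjSpace.toSpec 1 R) (Spec.map (CommRingCat.ofHom (algebraMap R K))))
      (g : W ⟶ Spec (CommRingCat.of (Polynomial K))),
      IsOpenImmersion j ∧ g ≫ Spec.map (CommRingCat.ofHom Polynomial.C) = j ≫ pullback.snd _ _ ∧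
        ∀ c : K, ∃ s : Spec (CommRingCat.of K) ⟶ W, s ≫ j ≫ pullback.snd _ _ = 𝟙 _ ∧
          s ≫ g = Spec.map (CommRingCat.ofHom (Polynomial.evalRingHom c)) := by
  let l : MvPolynomial (Fin 2) R := MvPolynomial.X 0
  have hl : l ∈ polyGrading 1 R 1 := MvPolynomial.isHomogeneous_X _ _
  letI : Algebra R (Away (polyGrading 1 R) l) :=
    ((fromZeroRingHom (polyGrading 1 R) _).comp (algebraMap R (polyGrading 1 R 0))).toAlgebra
  let t := Spec.map (CommRingCat.ofHom (algebraMap R K))
  let e : Spec (CommRingCat.of (Away (polyGrading 1 R) l)) ⟶ ProjSpace 1 R := Proj.awayι (polyGrading 1 R) l hl zero_lt_one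
  haveI hei : IsOpenImmersion e := inferInstanceAs (IsOpenImmersion (Proj.awayι (polyGrading 1 R) l hl zero_lt_one))
  have he : e ≫ ProjSpace.toSpec 1 R = Spec.map (CommRingCat.ofHom (algebraMap R (Away (polyGrading 1 R) l))) := by
    obtain ⟨ψ, hψ⟩ := Spec.map_surjective (e ≫ ProjSpace.toSpec 1 R)
    rw [← hψ]
    congr 1
    exact CommRingCat.hom_ext (hext _ _ _)
  let j₁ : pullback (e ≫ ProjSpace.toSpec 1 R) t ⟶ pullback (ProjSpace.toSpec 1 R) t :=
    pullback.map _ _ _ _ e (𝟙 _) (𝟙 _) (Category.comp_id _) (by simp)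
  haveI hj₁ : IsOpenImmersion j₁ :=
    MorphismProperty.pullback_map (P := @IsOpenImmersion) hei
      (inferInstance : IsOpenImmersion (𝟙 (Spec (CommRingCat.of K)))) rfl (Category.id_comp _).symm
  let i : pullback (e ≫ ProjSpace.toSpec 1 R) t ≅ Spec (CommRingCat.of (TensorProduct R (Away (polyGrading 1 R) l) K)) :=
    pullback.congrHom he rfl ≪≫ pullbackSpecIso R (Away (polyGrading 1 R) l) K
  let x : TensorProduct R (Away (polyGrading 1 R) l) K := Groth.Agent.H25REq.crd hl 1 ⊗ₜ (1 : K)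
  let ψ : Polynomial K →+* TensorProduct R (Away (polyGrading 1 R) l) K :=
    Polynomial.eval₂RingHom (Algebra.TensorProduct.includeRight : K →ₐ[R] _).toRingHom x
  have hsnd : i.inv ≫ pullback.snd (e ≫ ProjSpace.toSpec 1 R) t = Spec.map (CommRingCat.ofHom
      (Algebra.TensorProduct.includeRight : K →ₐ[R] TensorProduct R (Away (polyGrading 1 R) l) K).toRingHom) := by
    rw [Iso.inv_comp_eq]
    simp only [i, Iso.trans_hom, Category.assoc]
    rw [show (pullbackSpecIso R (Away (polyGrading 1 R) l) K).hom ≫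
      Spec.map (CommRingCat.ofHom (Algebra.TensorProduct.includeRight :
        K →ₐ[R] TensorProduct R (Away (polyGrading 1 R) l) K).toRingHom) = pullback.snd _ _ from
      pullbackSpecIso_hom_snd R (Away (polyGrading 1 R) l) K]
    exact ((pullback.lift_snd _ _ _).trans (Category.comp_id _)).symm
  have hj : j₁ ≫ pullback.snd (ProjSpace.toSpec 1 R) t = pullback.snd _ _ :=
    (pullback.lift_snd _ _ _).trans (Category.comp_id _)
  refine ⟨pullback (e ≫ ProjSpace.toSpec 1 R) t, j₁, i.hom ≫ Spec.map (CommRingCat.ofHom ψ), hj₁, ?_, fun c => ?_⟩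
  · rw [hj, Category.assoc, ← Spec.map_comp, ← CommRingCat.ofHom_comp,
      show ψ.comp Polynomial.C = (Algebra.TensorProduct.includeRight :
        K →ₐ[R] TensorProduct R (Away (polyGrading 1 R) l) K).toRingHom from
        RingHom.ext fun a => Polynomial.eval₂_C _ _, ← hsnd, Iso.hom_inv_id_assoc]
  · let v : Fin 2 → K := ![1, c]
    have hv : MvPolynomial.aeval v l = 1 := by simp [l, v]
    let γ : Away (polyGrading 1 R) l →ₐ[R] K :=
      { Groth.Agent.H25REq.evalHom v hv with
        commutes' := fun r => congr($(hext _ ((Groth.Agent.H25REq.evalHom v hv).comp (algebraMap R (Away (polyGrading 1 R) l)))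
          (algebraMap R K)) r) }
    let π : TensorProduct R (Away (polyGrading 1 R) l) K →+* K :=
      (Algebra.TensorProduct.productMap γ (AlgHom.id R K)).toRingHom
    refine ⟨Spec.map (CommRingCat.ofHom π) ≫ i.inv, ?_, ?_⟩
    · rw [hj, Category.assoc, hsnd, ← Spec.map_comp, ← CommRingCat.ofHom_comp,
        show π.comp (Algebra.TensorProduct.includeRight :
          K →ₐ[R] TensorProduct R (Away (polyGrading 1 R) l) K).toRingHom = RingHom.id K from
          RingHom.ext fun a => by simp [π]]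
      exact Spec.map_id _
    · rw [Category.assoc, Iso.inv_hom_id_assoc, ← Spec.map_comp, ← CommRingCat.ofHom_comp]
      congr 2
      refine Polynomial.ringHom_ext (fun a => ?_) ?_
      · simp [π, ψ]
      · have hx : γ (Groth.Agent.H25REq.crd hl 1) = c :=
          (Groth.Agent.H25REq.evalHom_mk v hv hl _).trans (by simp [v])
        simp [π, ψ, x, hx]

/-- The affine line in the projective line over `K`. -/
private theorem exists_affineLine (K : Type u) [Field K] :
    ∃ (W : Scheme.{u}) (j : W ⟶ REq.P1K K) (g : W ⟶ Spec (CommRingCat.of (Polynomial K))),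
      IsOpenImmersion j ∧ g ≫ Spec.map (CommRingCat.ofHom Polynomial.C) = j ≫ REq.P1K.toSpec K ∧
        ∀ c : K, ∃ s : Spec (CommRingCat.of K) ⟶ W, s ≫ j ≫ REq.P1K.toSpec K = 𝟙 _ ∧
          s ≫ g = Spec.map (CommRingCat.ofHom (Polynomial.evalRingHom c)) := by
  letI : Algebra RZ.{u} K := ((Int.castRingHom K).comp (ULift.ringEquiv : RZ.{u} ≃+* ℤ).toRingHom).toAlgebra
  obtain ⟨W, j, g, hj, hg, hs⟩ := exists_affineLine' RZ.{u} K (fun S _ f g => rz_hom_ext f g)
  let i : pullback (ProjSpace.toSpec 1 RZ.{u}) (Spec.map (CommRingCat.ofHom (algebraMap RZ.{u} K))) ≅ REq.P1K K :=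
    pullback.congrHom rfl (specULiftZIsTerminal.hom_ext _ _)
  have hi : i.hom ≫ REq.P1K.toSpec K = pullback.snd _ _ :=
    (pullback.lift_snd _ _ _).trans (Category.comp_id _)
  haveI := hj
  refine ⟨W, j ≫ i.hom, g, inferInstance, ?_, fun c => ?_⟩
  · rw [Category.assoc, hi, hg]
  · obtain ⟨s, h1, h2⟩ := hs c
    exact ⟨s, by rw [Category.assoc, hi]; exact h1, h2⟩


/-- Let k be a field, V an open subscheme of projective n-space over k and K a field containing k. Then
any two K-points of V are directly R-linked in V: there are an open subscheme of the projective line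
over K, a morphism from it to V over k, and two K-rational points of that open mapping to the given
points. (The published remark concerns k-points; this row is stated for K-points, K any field
containing k.) -/
theorem result (k : Type u) [Field k] (n : ℕ)
    (V : (CohB1.ProjSpaceOver n (Spec (CommRingCat.of k))).Opens) (K : Type u) [Field K] [Algebra k K]
    (A B : REq.Pts (V.ι ≫ CohB1.ProjSpaceOver.toBase n (Spec (CommRingCat.of k))) K) :
    REq.ElemLink (V.ι ≫ CohB1.ProjSpaceOver.toBase n (Spec (CommRingCat.of k))) K A B := by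
  obtain ⟨A, hA⟩ := A
  obtain ⟨B, hB⟩ := B
  let q := pullback.fst (ProjSpace.toSpec n RZ.{u}) (specULiftZIsTerminal.from (Spec (CommRingCat.of k)))
  let p : Spec (CommRingCat.of K) := Classical.arbitrary _
  obtain ⟨l, hl, hpa, hpb⟩ := Groth.Agent.H25REq.exists_form (R := RZ.{u}) (n := n) ((A ≫ V.ι ≫ q).base p) ((B ≫ V.ι ≫ q).base p)
  obtain ⟨α, hα⟩ := exists_hom l hl (A ≫ V.ι ≫ q) (fun p' => by rw [Subsingleton.elim (α := PrimeSpectrum K) p' p]; exact hpa)
  obtain ⟨β, hβ⟩ := exists_hom l hl (B ≫ V.ι ≫ q) (fun p' => by rw [Subsingleton.elim (α := PrimeSpectrum K) p' p]; exact hpb)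
  obtain ⟨φ, hφ0, hφ1⟩ := link l hl α β
  obtain ⟨W, j, g, hj, hg, hs⟩ := exists_affineLine K
  haveI := hj
  let h₀ : W ⟶ ProjSpaceOver n (Spec (CommRingCat.of k)) :=
    pullback.lift (g ≫ Spec.map (CommRingCat.ofHom φ) ≫ Proj.awayι (polyGrading n RZ.{u}) l hl zero_lt_one)
      (j ≫ REq.P1K.toSpec K ≫ REq.specMap k K) (specULiftZIsTerminal.hom_ext _ _)
  let W' : W.Opens := h₀ ⁻¹ᵁ V
  let j' : (W' : Scheme.{u}) ⟶ REq.P1K K := W'.ι ≫ j
  let h' : (W' : Scheme.{u}) ⟶ V := h₀ ∣_ V
  let e := j'.isoOpensRange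
  have he : e.hom ≫ j'.opensRange.ι = j' := j'.isoOpensRange_hom_ι
  have key : ∀ (c : K) (C : Spec (CommRingCat.of K) ⟶ V) (γ : Away (polyGrading n RZ.{u}) l →+* K),
      C ≫ V.ι ≫ ProjSpaceOver.toBase n (Spec (CommRingCat.of k)) = REq.specMap k K →
      Spec.map (CommRingCat.ofHom γ) ≫ Proj.awayι (polyGrading n RZ.{u}) l hl zero_lt_one = C ≫ V.ι ≫ q →
      (Polynomial.evalRingHom c).comp φ = γ →
      ∃ a : Spec (CommRingCat.of K) ⟶ (j'.opensRange : Scheme.{u}),
        a ≫ j'.opensRange.ι ≫ REq.P1K.toSpec K = 𝟙 _ ∧ a ≫ e.inv ≫ h' = C := by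
    intro c C γ hC hγ hc
    obtain ⟨s, hs1, hs2⟩ := hs c
    have hsC : s ≫ h₀ = C ≫ V.ι := by
      refine pullback.hom_ext ?_ ?_
      · refine (Category.assoc _ _ _).trans ((congrArg (s ≫ ·) (pullback.lift_fst _ _ _)).trans ?_)
        rw [← Category.assoc, hs2, ← Category.assoc, ← Spec.map_comp, ← CommRingCat.ofHom_comp, hc]
        exact hγ.trans (Category.assoc _ _ _).symm
      · refine (Category.assoc _ _ _).trans ((congrArg (s ≫ ·) (pullback.lift_snd _ _ _)).trans ?_)
        rw [reassoc_of% hs1]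
        exact hC.symm.trans (Category.assoc _ _ _).symm
    have hr : Set.range s.base ⊆ Set.range W'.ι.base := by
      rintro _ ⟨y, rfl⟩
      rw [Scheme.Opens.range_ι]
      show (s ≫ h₀).base y ∈ V
      rw [hsC]
      exact (C.base y).2
    refine ⟨IsOpenImmersion.lift W'.ι s hr ≫ e.hom, ?_, ?_⟩
    · rw [Category.assoc, reassoc_of% he, Category.assoc, IsOpenImmersion.lift_fac_assoc, hs1]
    · rw [Category.assoc, e.hom_inv_id_assoc, ← cancel_mono V.ι, Category.assoc, morphismRestrict_ι,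
        IsOpenImmersion.lift_fac_assoc, hsC]
  obtain ⟨a, ha1, ha2⟩ := key 0 A α hA hα hφ0
  obtain ⟨b, hb1, hb2⟩ := key 1 B β hB hβ hφ1
  refine ⟨j'.opensRange, e.inv ≫ h', a, b, ?_, ha1, hb1, ha2, hb2⟩
  rw [← cancel_epi e.hom, Category.assoc, e.hom_inv_id_assoc, reassoc_of% he]
  show (h₀ ∣_ V) ≫ V.ι ≫ ProjSpaceOver.toBase n (Spec (CommRingCat.of k)) = _
  rw [morphismRestrict_ι_assoc]
  show W'.ι ≫ h₀ ≫ pullback.snd _ _ = _
  exact ((congrArg (W'.ι ≫ ·) (pullback.lift_snd _ _ _))).trans (Category.assoc _ _ _).symm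

end Groth.Agent.S18577
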