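import Groth.Statements.S18579
import Mathlib

set_option autoImplicit false
universe u
open LogDiff

namespace Groth.Agent.S18579

/-- The exact sequence for units (first Milnor K-groups) when every component of the divisor is removed.
Let k be a field, B a smooth k-algebra, R the localization of B at a prime ideal, K the fraction
field of R and f_1, …, f_r pairwise non-associate prime elements of R. If w is a unit of K such that
w and w⁻¹ both lie in R[1/(f_1⋯f_r)], i.e. each becomes an element of R after multiplication by a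
power of f_1⋯f_r, then there is exactly one pair (v, b) consisting of a unit v of R and integers
b_1, …, b_r with w = v · ∏ f_i^{b_i} in K. (This is the exactness of 0 → Γ(Spec R, O^×) → Γ(Spec R ∖
V(f_1⋯f_r), O^×) → ℤ^r → 0, the last map being the orders along the f_i. The published statement
takes the f_i to be local equations of the components of a normal crossings divisor, over a field of
characteristic zero; this row allows arbitrary pairwise non-associate prime elements and any field.) -/
theorem result
    {k B R K : Type u} [Field k] [CommRing B] [Algebra k B] [Algebra.Smooth k B]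
    (p : Ideal B) [p.IsPrime] [CommRing R] [Algebra B R] [IsLocalization.AtPrime R p]
    [Field K] [Algebra R K] [IsFractionRing R K]
    {r : ℕ} (f : Fin r → R) (hf : ∀ i, Prime (f i)) (hfa : ∀ i j, Associated (f i) (f j) → i = j)
    (w : Kˣ)
    (hw : ∃ (a : R) (n : ℕ), (w : K) * algebraMap R K ((∏ i, f i) ^ n) = algebraMap R K a)
    (hw' : ∃ (a : R) (n : ℕ), (w⁻¹ : Kˣ) * algebraMap R K ((∏ i, f i) ^ n) = algebraMap R K a) :
    ∃! vb : Rˣ × (Fin r → ℤ),
      (w : K) = algebraMap R K (vb.1 : R) * ∏ i, (algebraMap R K (f i)) ^ (vb.2 i) := by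
  classical
  haveI : IsDomain R := (IsFractionRing.injective R K).isDomain (algebraMap R K)
  have hinj : Function.Injective (algebraMap R K) := IsFractionRing.injective R K
  obtain ⟨a, n, ha⟩ := hw
  obtain ⟨a', n', ha'⟩ := hw'
  have hP : ∀ i, algebraMap R K (f i) ≠ 0 := fun i e => (hf i).ne_zero (hinj (by rw [e, map_zero]))
  have hmul : a * a' = 1 * ∏ x ∈ Finset.univ ×ˢ Finset.range (n + n'), f x.1 := by
    rw [one_mul, Finset.prod_product]
    refine hinj ?_
    simp only [Finset.prod_const, Finset.card_range, map_mul, ← Finset.prod_pow, ← ha, ← ha',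
      pow_add, Finset.prod_mul_distrib, map_pow, map_prod, Units.val_inv_eq_inv_val]
    field_simp
  obtain ⟨s, s', b, b', -, -, hbb, hs, -⟩ := mul_eq_mul_prime_prod (fun x _ => hf x.1) hmul
  let e : Fin r → ℕ := fun i => {x ∈ s | x.1 = i}.card
  have hb : IsUnit b := .of_mul_eq_one b' hbb.symm
  have hea : a = b * ∏ i, f i ^ e i := by
    rw [hs]
    congr 1
    rw [← Finset.prod_fiberwise_of_maps_to (g := fun x => x.1) (t := Finset.univ) (fun x _ => Finset.mem_univ _)]
    refine Finset.prod_congr rfl fun i _ => ?_
    rw [Finset.prod_congr rfl (g := fun _ => f i) fun x hx => by rw [(Finset.mem_filter.mp hx).2],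
      Finset.prod_const]
  refine ⟨(hb.unit, fun i => (e i : ℤ) - n), ?_, ?_⟩
  · show (w : K) = algebraMap R K b * ∏ i, algebraMap R K (f i) ^ ((e i : ℤ) - n)
    have hne : algebraMap R K ((∏ i, f i) ^ n) ≠ 0 := by
      rw [map_pow, map_prod]; exact pow_ne_zero _ (Finset.prod_ne_zero_iff.mpr fun i _ => hP i)
    refine mul_right_cancel₀ hne ?_
    rw [ha, hea, map_mul, map_pow, map_prod, map_prod, ← Finset.prod_pow, mul_assoc, ← Finset.prod_mul_distrib]
    congr 1
    refine Finset.prod_congr rfl fun i _ => ?_
    rw [map_pow, ← zpow_natCast, ← zpow_natCast, ← zpow_add₀ (hP i), sub_add_cancel]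
  · rintro ⟨v', b'⟩ hv'
    have key : ∀ (u : Rˣ) (z : Fin r → ℤ),
        algebraMap R K u * ∏ i, algebraMap R K (f i) ^ z i = 1 → ∀ i, z i ≤ 0 := by
      intro u z hz i
      by_contra hzi
      have h2 : (u : R) * ∏ j, f j ^ (z j).toNat = ∏ j, f j ^ (-z j).toNat := by
        refine hinj ?_
        rw [map_mul, map_prod, map_prod, ← one_mul (∏ x, algebraMap R K (f x ^ (-z x).toNat)), ← hz, mul_assoc,
          ← Finset.prod_mul_distrib]
        congr 1
        refine Finset.prod_congr rfl fun j _ => ?_
        rw [map_pow, map_pow, ← zpow_natCast, ← zpow_natCast, ← zpow_add₀ (hP j)]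
        congr 1; omega
      have hd : f i ∣ ∏ j, f j ^ (-z j).toNat := by
        rw [← h2]
        have h3 : (z i).toNat ≠ 0 := by omega
        exact ((dvd_pow_self (f i) h3).trans
          (Finset.dvd_prod_of_mem (fun j => f j ^ (z j).toNat) (Finset.mem_univ i))).mul_left _
      obtain ⟨j, -, hj⟩ := (hf i).exists_mem_finset_dvd hd
      have hij := hfa i j ((hf i).irreducible.associated_of_dvd (hf j).irreducible ((hf i).dvd_of_dvd_pow hj))
      subst hij
      exact (hf i).not_unit (isUnit_of_dvd_one (by
        rwa [show (-z i).toNat = 0 by omega, pow_zero] at hj))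
    have hv : (w : K) = algebraMap R K b * ∏ i, algebraMap R K (f i) ^ ((e i : ℤ) - n) := by
      have hne : algebraMap R K ((∏ i, f i) ^ n) ≠ 0 := by
        rw [map_pow, map_prod]; exact pow_ne_zero _ (Finset.prod_ne_zero_iff.mpr fun i _ => hP i)
      refine mul_right_cancel₀ hne ?_
      rw [ha, hea, map_mul, map_pow, map_prod, map_prod, ← Finset.prod_pow, mul_assoc, ← Finset.prod_mul_distrib]
      congr 1
      refine Finset.prod_congr rfl fun i _ => ?_
      rw [map_pow, ← zpow_natCast, ← zpow_natCast, ← zpow_add₀ (hP i), sub_add_cancel]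
    simp only at hv'
    have hz : ∀ (u u' : Rˣ) (x y : Fin r → ℤ),
        (w : K) = algebraMap R K u * ∏ i, algebraMap R K (f i) ^ x i →
        (w : K) = algebraMap R K u' * ∏ i, algebraMap R K (f i) ^ y i → ∀ i, x i ≤ y i := by
      intro u u' x y hx hy i
      have hu : algebraMap R K (u' : R) ≠ 0 := fun e => u'.ne_zero (hinj (by rw [e, map_zero]))
      have hpy : (∏ i, algebraMap R K (f i) ^ y i) ≠ 0 :=
        Finset.prod_ne_zero_iff.mpr fun i _ => zpow_ne_zero _ (hP i)
      have h1 := key (u * u'⁻¹) (x - y) (by
        rw [Units.val_mul, map_mul, map_units_inv]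
        simp only [Pi.sub_apply, zpow_sub₀ (hP _), Finset.prod_div_distrib]
        field_simp
        rw [← hx, hy]) i
      simpa using h1
    have hb'e : b' = fun i => (e i : ℤ) - n := funext fun i =>
      le_antisymm (hz v' hb.unit _ _ hv' hv i) (hz hb.unit v' _ _ hv hv' i)
    refine Prod.ext (Units.ext (hinj ?_)) hb'e
    rw [hb'e] at hv'
    exact mul_right_cancel₀ (Finset.prod_ne_zero_iff.mpr fun i _ => zpow_ne_zero _ (hP i)) (hv'.symm.trans hv)

end Groth.Agent.S18579
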