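import Groth.Statements.S18580
import Mathlib.AlgebraicGeometry.Morphisms.Etale
import Mathlib.AlgebraicGeometry.Morphisms.FlatMono
-- import your own Groth.Agent.* helpers here

set_option autoImplicit false
universe u
open EtBase

namespace Groth.Agent.S18580

open AlgebraicGeometry CategoryTheory in
/-- Let Y be a connected scheme and f : X ⟶ Y a separated morphism that is unramified (locally of finite
type and formally unramified). Then the sections of f correspond bijectively to the connected
components of X mapping isomorphically onto Y: there is a bijection from the set of sections s of f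
to the set of open subschemes U of X whose underlying set is a connected component of X and for
which U ⟶ X ⟶ Y is an isomorphism, sending s to its image. In particular every section is an
isomorphism onto a connected component of X and is determined by its image. (A connected component
mapping isomorphically onto Y is the image of a section, hence open, so restricting to open
components loses nothing. The published statement also assumes Y Noetherian; that hypothesis plays
no role and is omitted.) -/
theorem result {X Y : Scheme.{u}} (f : X ⟶ Y)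
    [FormallyUnramified f] [LocallyOfFiniteType f] [IsSeparated f] [ConnectedSpace Y] :
    ∃ e : {s : Y ⟶ X // s ≫ f = 𝟙 Y} ≃
        {U : X.Opens // (∃ x : X, (U : Set X) = connectedComponent x) ∧ IsIso (U.ι ≫ f)},
      ∀ s : {s : Y ⟶ X // s ≫ f = 𝟙 Y}, ((e s).1 : Set X) = Set.range s.1 := by
  classical
  have hsec : ∀ (s : Y ⟶ X), s ≫ f = 𝟙 Y → IsClosedImmersion s ∧ IsOpenImmersion s := by
    intro s hs
    haveI : IsClosedImmersion (s ≫ f) := by rw [hs]; infer_instance
    haveI : Etale (s ≫ f) := by rw [hs]; infer_instance
    haveI hc : IsClosedImmersion s := IsClosedImmersion.of_comp s f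
    haveI : Etale s := Etale.of_comp s f
    exact ⟨hc, IsOpenImmersion.of_flat_of_mono s⟩
  have hcomp : ∀ (s : {s : Y ⟶ X // s ≫ f = 𝟙 Y}) (y : Y), Set.range s.1 = connectedComponent (s.1 y) := by
    intro s y
    obtain ⟨hc, ho⟩ := hsec s.1 s.2
    have hcl : IsClopen (Set.range s.1) :=
      ⟨s.1.isClosedEmbedding.isClosed_range, s.1.isOpenEmbedding.isOpen_range⟩
    exact le_antisymm ((isPreconnected_range s.1.continuous).subset_connectedComponent ⟨y, rfl⟩)
      (hcl.connectedComponent_subset ⟨y, rfl⟩)
  let toU : {s : Y ⟶ X // s ≫ f = 𝟙 Y} →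
      {U : X.Opens // (∃ x : X, (U : Set X) = connectedComponent x) ∧ IsIso (U.ι ≫ f)} := fun s =>
    haveI := (hsec s.1 s.2).2
    ⟨s.1.opensRange, ⟨s.1 (Classical.arbitrary Y), hcomp s _⟩, by
      have h1 : s.1.opensRange.ι ≫ f = s.1.isoOpensRange.inv := by
        rw [← Scheme.Hom.isoOpensRange_inv_comp, Category.assoc, s.2, Category.comp_id]
      rw [h1]
      infer_instance⟩
  let toS : {U : X.Opens // (∃ x : X, (U : Set X) = connectedComponent x) ∧ IsIso (U.ι ≫ f)} →
      {s : Y ⟶ X // s ≫ f = 𝟙 Y} := fun U =>
    haveI := U.2.2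
    ⟨inv (U.1.ι ≫ f) ≫ U.1.ι, by rw [Category.assoc, IsIso.inv_hom_id]⟩
  refine ⟨⟨toU, toS, fun s => ?_, fun U => ?_⟩, fun s => rfl⟩
  · haveI := (hsec s.1 s.2).2
    haveI := (toU s).2.2
    apply Subtype.ext
    show inv ((toU s).1.ι ≫ f) ≫ (toU s).1.ι = s.1
    rw [IsIso.inv_comp_eq, Category.assoc]
    show s.1.opensRange.ι = s.1.opensRange.ι ≫ f ≫ s.1
    rw [← Scheme.Hom.isoOpensRange_inv_comp, Category.assoc, reassoc_of% s.2]
  · haveI := U.2.2
    apply Subtype.ext
    apply TopologicalSpace.Opens.ext
    show Set.range (inv (U.1.ι ≫ f) ≫ U.1.ι : Y ⟶ X) = (U.1 : Set X)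
    rw [Scheme.Hom.comp_base, TopCat.coe_comp, Set.range_comp,
      Set.range_eq_univ.2 (inv (U.1.ι ≫ f)).surjective, Set.image_univ, Scheme.Opens.range_ι]

end Groth.Agent.S18580
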