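import Groth.Statements.S18587
import Groth.Agent.H3CAlg.WittKummer

set_option autoImplicit false
universe u
open CAlg

namespace Groth.Agent.S18587

/-- Affine form with D = 0: let p be a prime, ℓ ≥ 1 an integer not divisible by p and n ≥ 1. Let A → B
be an injective ring homomorphism of integral domains of characteristic p such that B is spanned as
an A-module by finitely many elements y with y ^ ℓ in the image of A (a weakly ℓ-cyclic extension).
Then for every p-typical Witt vector ζ over B in the image of the n-fold Verschiebung there is a
nonzero a in A such that the product of the Teichmüller representative of (the image of) a with ζ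
lies in the ideal of W(B) generated by the images of the n-fold Verschiebungs of Witt vectors over
A. (This is the case D = 0 of the published statement, written for the coordinate rings; the
published statement allows a twist by a real Weil divisor D and assumes the rings excellent and
normal, hypotheses which the case D = 0 does not use.) -/
theorem result
    (p : ℕ) [Fact p.Prime] (ℓ n : ℕ) (hℓ : 0 < ℓ) (hpℓ : ¬ p ∣ ℓ) (hn : 0 < n)
    (A B : Type u) [CommRing A] [CommRing B] [IsDomain A] [IsDomain B] [Algebra A B]
    [CharP A p] [CharP B p] (hinj : Function.Injective (algebraMap A B))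
    (y : Finset B) (hspan : Submodule.span A (y : Set B) = ⊤)
    (hpow : ∀ b ∈ y, b ^ ℓ ∈ Set.range (algebraMap A B))
    (ζ : WittVector p B)
    (hζ : ∃ η : WittVector p B, (⇑(WittVector.verschiebung : WittVector p B →+ WittVector p B))^[n] η = ζ) :
    ∃ a : A, a ≠ 0 ∧ WittVector.teichmuller p (algebraMap A B a) * ζ ∈
      Ideal.span (Set.range (fun x : WittVector p A =>
        WittVector.map (algebraMap A B) ((⇑(WittVector.verschiebung : WittVector p A →+ WittVector p A))^[n] x))) := by
  obtain ⟨D, hD, hmem⟩ := Groth.Agent.H3CAlg.WittKummer.exists_teichmuller_mul_mem (p := p) (n := n) hℓ hpℓ hinj y hspan hpow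
  obtain ⟨η, rfl⟩ := hζ
  refine ⟨D, hD, ?_⟩
  rw [← WittVector.map_teichmuller]
  exact hmem η

end Groth.Agent.S18587
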