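import Groth.Statements.S18588
import Groth.Agent.H3CAlg.WittKummer

set_option autoImplicit false
universe u v
open CAlg

namespace Groth.Agent.S18588

/-- Affine form with D = 0: let p be a prime, ℓ ≥ 1 an integer not divisible by p and n ≥ 1. Let A → B
be an injective ring homomorphism of integral domains of characteristic p such that B is spanned as
an A-module by finitely many elements y with y ^ ℓ in the image of A. Let M be a finitely generated
module over the ring W(A) of p-typical Witt vectors on which every n-fold Verschiebung of W(A) acts
by zero (so M is a module over the length-n truncation) and on which the Teichmüller representative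
of every nonzero element of A acts injectively. Then every additive map ψ from W(B) to M satisfying
ψ(W(f)(x) · w) = x · ψ(w), where f is the structure map, vanishes on the image of the n-fold
Verschiebung of W(B); equivalently, restriction along the truncation identifies the W(A)-linear maps
from W(B) to M with the maps from the length-n truncation of W(B) to M that are linear over the
truncation of W(A). (This is the case D = 0 of the published statement, written for the coordinate
rings; the published statement allows a twist by a real Weil divisor D, assumes the rings excellent
and normal (not used when D = 0), and phrases the injectivity hypothesis as injectivity of the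
sections of M over every non-empty open set into the stalk at the generic point, which for an affine
base amounts to the Teichmüller condition used here.) -/
theorem result
    (p : ℕ) [Fact p.Prime] (ℓ n : ℕ) (hℓ : 0 < ℓ) (hpℓ : ¬ p ∣ ℓ) (hn : 0 < n)
    (A B : Type u) [CommRing A] [CommRing B] [IsDomain A] [IsDomain B] [Algebra A B]
    [CharP A p] [CharP B p] (hinj : Function.Injective (algebraMap A B))
    (y : Finset B) (hspan : Submodule.span A (y : Set B) = ⊤)
    (hpow : ∀ b ∈ y, b ^ ℓ ∈ Set.range (algebraMap A B))
    (M : Type v) [AddCommGroup M] [Module (WittVector p A) M] [Module.Finite (WittVector p A) M]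
    (hMn : ∀ (x : WittVector p A) (m : M),
      ((⇑(WittVector.verschiebung : WittVector p A →+ WittVector p A))^[n] x) • m = 0)
    (htf : ∀ a : A, a ≠ 0 → ∀ m : M, WittVector.teichmuller p a • m = 0 → m = 0)
    (ψ : WittVector p B →+ M)
    (hψ : ∀ (x : WittVector p A) (w : WittVector p B),
      ψ (WittVector.map (algebraMap A B) x * w) = x • ψ w)
    (η : WittVector p B) :
    ψ ((⇑(WittVector.verschiebung : WittVector p B →+ WittVector p B))^[n] η) = 0 := by
  obtain ⟨D, hD, hmem⟩ := Groth.Agent.H3CAlg.WittKummer.exists_teichmuller_mul_mem (p := p) (n := n) hℓ hpℓ hinj y hspan hpow
  refine htf D hD _ ?_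
  rw [← hψ]
  have key : ∀ z ∈ Ideal.span (Set.range (fun x : WittVector p A =>
      WittVector.map (algebraMap A B) ((⇑(WittVector.verschiebung : WittVector p A →+ WittVector p A))^[n] x))),
      ∀ w : WittVector p B, ψ (z * w) = 0 := by
    intro z hz
    induction hz using Submodule.span_induction with
    | mem z hz =>
      obtain ⟨x, rfl⟩ := hz
      intro w
      rw [hψ, hMn]
    | zero => simp
    | add a b _ _ ha hb => intro w; rw [add_mul, map_add, ha, hb, add_zero]
    | smul r a _ ha => intro w; rw [smul_eq_mul, mul_comm r, mul_assoc]; exact ha _
  simpa using key _ (hmem η) 1

end Groth.Agent.S18588
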