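import Groth.Statements.S18590
import Groth.Agent.H3CAlg.WittHomog
import Groth.Agent.S14051
import Mathlib.RingTheory.WittVector.Frobenius

set_option autoImplicit false
universe u
open CAlg

namespace Groth.Agent.S18590

/-- Let p be a prime, A a commutative ring, K a commutative A-algebra of characteristic p and M_0, M_1,
M_2, … A-submodules of K with M_i · M_j ⊆ M_(i+j) for all i, j. Then the subset of the ring W(K) of
p-typical Witt vectors consisting of the vectors whose n-th coordinate lies in M_(p^n) for every n
is closed under addition and under multiplication by the image of W(A) under W of the structure map;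
in other words it is a W(A)-submodule of W(K). (The published statement is the case of an integral
normal noetherian scheme X of characteristic p with function field K, an affine open subset U with
coordinate ring A, and M_k the module of sections over U of the divisorial sheaf of k·D for a real
Weil divisor D on X; these form such a multiplicative family, and the subset is then the module of
sections over U of the Witt divisorial sheaf of D inside W(K). Only the two stated properties of
that family enter.) -/
theorem result
    (p : ℕ) [Fact p.Prime] (A K : Type u) [CommRing A] [CommRing K] [Algebra A K] [CharP K p]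
    (M : ℕ → Submodule A K)
    (hmul : ∀ (i j : ℕ) (a b : K), a ∈ M i → b ∈ M j → a * b ∈ M (i + j)) :
    (∀ φ ψ : WittVector p K, (∀ n : ℕ, φ.coeff n ∈ M (p ^ n)) → (∀ n : ℕ, ψ.coeff n ∈ M (p ^ n)) →
        ∀ n : ℕ, (φ + ψ).coeff n ∈ M (p ^ n)) ∧
      (∀ (x : WittVector p A) (φ : WittVector p K), (∀ n : ℕ, φ.coeff n ∈ M (p ^ n)) →
        ∀ n : ℕ, (WittVector.map (algebraMap A K) x * φ).coeff n ∈ M (p ^ n)) := by
  classical
  let P : ℕ → K → Prop := fun w z => if w = 0 then z ∈ Set.range (algebraMap A K) else z ∈ M w
  have hone : P 0 1 := by simp only [P, if_pos]; exact ⟨1, map_one _⟩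
  have hPmul : ∀ i j a b, P i a → P j b → P (i + j) (a * b) := by
    intro i j a b ha hb
    simp only [P] at ha hb ⊢
    by_cases hi : i = 0
    · subst hi
      rw [if_pos rfl] at ha
      obtain ⟨r, rfl⟩ := ha
      rw [zero_add]
      split_ifs with hj
      · rw [if_pos hj] at hb
        obtain ⟨s, rfl⟩ := hb
        exact ⟨r * s, map_mul _ _ _⟩
      · rw [if_neg hj] at hb
        rw [← Algebra.smul_def]
        exact Submodule.smul_mem _ _ hb
    · rw [if_neg hi] at ha
      rw [if_neg (by omega)]
      by_cases hj : j = 0
      · subst hj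
        rw [if_pos rfl] at hb
        obtain ⟨r, rfl⟩ := hb
        rw [mul_comm, ← Algebra.smul_def, add_zero]
        exact Submodule.smul_mem _ _ ha
      · rw [if_neg hj] at hb
        exact hmul _ _ _ _ ha hb
  have hPpow : ∀ i a, P i a → ∀ m : ℕ, P (m * i) (a ^ m) := by
    intro i a ha m
    induction m with
    | zero => simpa using hone
    | succ m ih => rw [add_mul, one_mul, pow_succ]; exact hPmul _ _ _ _ ih ha
  have key : ∀ (φ : MvPolynomial (Fin 2 × ℕ) ℤ) (wt : Fin 2 × ℕ → ℕ) (d : ℕ) (v : Fin 2 × ℕ → K),
      d ≠ 0 → MvPolynomial.IsWeightedHomogeneous wt φ d → (∀ x, P (wt x) (v x)) → MvPolynomial.aeval v φ ∈ M d := by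
    intro φ wt d v hd hφ hv
    rw [MvPolynomial.aeval_def, MvPolynomial.eval₂_eq]
    refine Submodule.sum_mem _ fun e he => ?_
    have hwt := hφ (MvPolynomial.mem_support_iff.mp he)
    have hprod : P (∑ x ∈ e.support, e x * wt x) (∏ x ∈ e.support, v x ^ e x) := by
      induction e.support using Finset.induction_on with
      | empty => simpa using hone
      | insert a s ha ih =>
        rw [Finset.sum_insert ha, Finset.prod_insert ha]
        exact hPmul _ _ _ _ (hPpow _ _ (hv a) _) ih
    rw [show (∑ x ∈ e.support, e x * wt x) = d by rw [← hwt, Finsupp.weight_apply]; rfl] at hprod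
    simp only [P, if_neg hd] at hprod
    simp only [eq_intCast, ← zsmul_eq_mul]
    exact zsmul_mem hprod _
  constructor
  · intro φ ψ hφ hψ n
    rw [WittVector.add_coeff]
    refine key _ _ _ _ (pow_ne_zero _ (Fact.out : p.Prime).ne_zero) (Groth.Agent.H3CAlg.isWeightedHomogeneous_wittAdd p n) ?_
    rintro ⟨i, k⟩
    simp only [P, if_neg (pow_ne_zero _ (Fact.out : p.Prime).ne_zero)]
    fin_cases i
    · simpa using hφ k
    · simpa using hψ k
  · intro x φ hφ n
    rw [WittVector.mul_coeff]
    refine key _ _ _ _ (pow_ne_zero _ (Fact.out : p.Prime).ne_zero) (Groth.Agent.H3CAlg.isWeightedHomogeneous_wittMul p n) ?_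
    rintro ⟨i, k⟩
    fin_cases i
    · simp [P, WittVector.map_coeff]
    · simp [P, (Fact.out : p.Prime).ne_zero, hφ k]

end Groth.Agent.S18590
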