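import Groth.Statements.S18595
import Groth.Agent.H3Cyc.CurveA1
import Groth.Agent.H3Cyc.CurvePole
import Groth.Agent.H3Cyc.PushDiv
import Groth.Agent.H3Cyc.KDet
import Groth.Agent.H22Alg.CycDiv
-- import your own Groth.Agent.* helpers here

set_option autoImplicit false
set_option linter.style.haveILetI false
set_option backward.isDefEq.respectTransparency.types false
universe u
open Cyc

namespace Groth.Agent.S18595

open AlgebraicGeometry CategoryTheory CategoryTheory.Limits Groth.Agent Groth.Agent.H3Cyc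

theorem exists_fun {k : Type u} [Field k] {X : Scheme.{u}} (f : X ⟶ Spec (CommRingCat.of k)) [IsIntegral X]
    [IsProper f] [Smooth f] (hdim : topologicalKrullDim X = 1) {η y : X} (hη : η = genericPoint X)
    (hgen : ∀ z : X, η ⤳ z) (hy : IsClosed ({y} : Set X)) :
    ∃ (π : X.presheaf.stalk y) (m : ℕ) (F : Fin 2 → X.residueField η),
      IsLocalRing.maximalIdeal (X.presheaf.stalk y) = Ideal.span {π} ∧ Cyc.specMap y η (hgen y) π ≠ 0 ∧
      (∀ i, ∃ u : X.presheaf.stalk y, IsUnit u ∧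
        F i * Cyc.specMap y η (hgen y) π ^ (m + (i : ℕ)) = Cyc.specMap y η (hgen y) u) ∧
      ∀ z : X, IsClosed ({z} : Set X) → z ≠ y → ∀ i, ∃ a, F i = Cyc.specMap z η (hgen z) a := by
  subst hη
  haveI := CurvePole.stalk_dvr f hdim hy
  obtain ⟨π, hirr⟩ := IsDiscreteValuationRing.exists_irreducible (X.presheaf.stalk y)
  obtain ⟨m, F, hF, hFz⟩ := CurvePole.exists_consecutive_poles f hdim hy π hirr.maximalIdeal_eq
  have e : ∀ (z : X) (a : X.presheaf.stalk z), Cyc.specMap z (genericPoint X) (hgen z) a =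
      (X.residue (genericPoint X)).hom (algebraMap (X.presheaf.stalk z) X.functionField a) := fun z a => rfl
  refine ⟨π, m, fun i => (X.residue (genericPoint X)).hom (F i), hirr.maximalIdeal_eq, ?_, fun i => ?_,
    fun z hz hzy i => ?_⟩
  · exact (map_ne_zero_iff _ (PushDiv.isFractionRing_specMap y (genericPoint X) (hgen y) rfl).1).2 hirr.ne_zero
  · obtain ⟨u, hu, hFu⟩ := hF i
    refine ⟨u, hu, ?_⟩
    rw [e, e, ← hFu, map_mul, map_pow]
  · obtain ⟨a, ha⟩ := hFz z hz hzy i
    exact ⟨a, by rw [e, ha]⟩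

variable {k : Type u} [Field k] {X P : Scheme.{u}} {f : X ⟶ Spec (CommRingCat.of k)}
  {p₁ : P ⟶ X} {p₂ : P ⟶ Spec (CommRingCat.of (Polynomial k))}

theorem exists_vertical_function [IsIntegral X] [IsProper f] [Smooth f] [IsLocallyNoetherian P]
    (hdim : topologicalKrullDim X = 1) {ξ : P} (hξ : p₁ ξ = genericPoint X) (hgen : ∀ z : P, ξ ⤳ z)
    {y : X} (D : CurveA1.FibreData p₁ p₂ y) (hy : IsClosed ({p₁ D.gen} : Set X)) :
    ∃ g : P.residueField ξ, g ≠ 0 ∧ ∀ (y' : X) (D' : CurveA1.FibreData p₁ p₂ y'), IsClosed ({p₁ D'.gen} : Set X) →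
      (D'.gen = D.gen → Cyc.ordAt D'.gen ξ (hgen _) g = 1) ∧
      (p₁ D'.gen ≠ p₁ D.gen → Cyc.ordAt D'.gen ξ (hgen _) g = 0) := by
  have hgX : ∀ z : X, p₁ ξ ⤳ z := fun z => by rw [hξ]; exact genericPoint_specializes z
  obtain ⟨π, m, F, hπ, hπ0, hF, hFz⟩ := exists_fun f hdim hξ hgX hy
  haveI : IsClosedImmersion (X.fromSpecResidueField y) := by
    rw [← isClosed_singleton_iff_isClosedImmersion]
    rwa [D.p₁_gen] at hy
  let L : Fin 2 → P.residueField ξ := fun i => p₁.residueFieldMap ξ (F i) * CurveA1.coordRes p₂ ξ + 1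
  have hL : ∀ i, L i ≠ 0 ∧ Cyc.ordAt D.gen ξ (hgen _) (L i) = -((m + (i : ℕ) : ℕ) : ℤ) := fun i => by
    obtain ⟨u, hu, hFu⟩ := hF i
    exact D.ordAt_linear_pole (hgen _) hπ hπ0 (F i) hu hFu
  refine ⟨L 0 * (L 1)⁻¹, mul_ne_zero (hL 0).1 (inv_ne_zero (hL 1).1), fun y' D' hy' => ⟨fun hDD => ?_, fun hne => ?_⟩⟩
  · have hord : Cyc.ordAt D.gen ξ (hgen _) (L 0 * (L 1)⁻¹) = 1 := by
      rw [C1Api.ordAt_mul D.gen ξ (hgen _) (hL 0).1 (inv_ne_zero (hL 1).1), C1Api.ordAt_inv D.gen ξ (hgen _) (hL 1).1,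
        (hL 0).2, (hL 1).2]
      simp
    revert hord
    have : ∀ (v : P) (_ : v = D.gen) (h1 : ξ ⤳ v), Cyc.ordAt D.gen ξ (hgen _) (L 0 * (L 1)⁻¹) = 1 →
        Cyc.ordAt v ξ h1 (L 0 * (L 1)⁻¹) = 1 := by rintro v rfl h1 h; exact h
    exact this _ hDD _
  · haveI : IsClosedImmersion (X.fromSpecResidueField y') := by
      rw [← isClosed_singleton_iff_isClosedImmersion]
      rwa [D'.p₁_gen] at hy'
    have hL' : ∀ i, L i ≠ 0 ∧ Cyc.ordAt D'.gen ξ (hgen _) (L i) = 0 := fun i => by
      obtain ⟨a, ha⟩ := hFz _ hy' hne i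
      show p₁.residueFieldMap ξ (F i) * _ + 1 ≠ 0 ∧ Cyc.ordAt D'.gen ξ (hgen _) (p₁.residueFieldMap ξ (F i) * _ + 1) = 0
      rw [ha]
      exact D'.ordAt_linear_regular (hgen _) a
    rw [C1Api.ordAt_mul D'.gen ξ (hgen _) (hL' 0).1 (inv_ne_zero (hL' 1).1), C1Api.ordAt_inv D'.gen ξ (hgen _) (hL' 1).1,
      (hL' 0).2, (hL' 1).2]
    simp

theorem finite_support [CompactSpace P] (α : AlgebraicCycle P ℤ) : (Function.support α).Finite := by
  choose T hT hTfin using fun z => α.supportLocallyFiniteWithinDomain' z trivial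
  obtain ⟨w, -, hw⟩ := isCompact_univ.elim_nhds_subcover T (fun z _ => hT z)
  refine (w.finite_toSet.biUnion fun z _ => hTfin z).subset fun y hy => ?_
  obtain ⟨z, hz, hyz⟩ := Set.mem_iUnion₂.1 (hw (Set.mem_univ y))
  exact Set.mem_iUnion₂.2 ⟨z, hz, hyz, hy⟩


open AlgebraicGeometry CategoryTheory CategoryTheory.Limits in
/-- Let k be a perfect field, X an integral smooth proper curve over k (proper standing for projective)
and P = X ×_k A¹_k, presented by a pullback square with projections p₁ : P ⟶ X and p₂ : P ⟶ Spec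
k[T]. Fix a dimension function δ on P (in the sense of Cyc.IsSetup) and the integer c with δ(z) + 1
= c at every closed point z of P, so that the c-cycles on P are its Weil divisors. Then every
c-cycle α on P is rationally equivalent, as a c-cycle, to a c-cycle β without vertical components:
every point z with β(z) ≠ 0 lies over the generic point of X, i.e. each prime component of β is
quasi-finite and dominant over X (equidimensional of relative dimension zero over X). (The published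
statement is for any smooth projective curve; its connected components are treated one at a time and
a smooth proper curve over a field is projective, so X is taken integral and proper here.) -/
theorem result
    (k : Type u) [Field k] [PerfectField k] {X P : Scheme.{u}} (f : X ⟶ Spec (CommRingCat.of k))
    [IsIntegral X] [IsProper f] [Smooth f] (hdim : topologicalKrullDim X = 1)
    (p₁ : P ⟶ X) (p₂ : P ⟶ Spec (CommRingCat.of (Polynomial k)))
    (hP : IsPullback p₁ p₂ f (Spec.map (CommRingCat.ofHom (Polynomial.C : k →+* Polynomial k))))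
    (δ : P → ℤ) (hδ : Cyc.IsSetup P δ) (c : ℤ)
    (hc : ∀ z : P, IsClosed ({z} : Set P) → δ z + 1 = c)
    (α : AlgebraicCycle P ℤ) (hα : α ∈ Cyc.Zk P δ c) :
    ∃ β ∈ Cyc.Zk P δ c, Cyc.RatEquiv δ c α β ∧ ∀ z : P, β z ≠ 0 → p₁ z = genericPoint X := by
  classical
  haveI := hδ.1
  haveI : Flat p₁ := MorphismProperty.of_isPullback hP.flip
    (show Flat (Spec.map (CommRingCat.ofHom (Polynomial.C : k →+* Polynomial k))) from
      Flat.SpecMap_iff.mpr (by
        show (algebraMap k (Polynomial k)).Flat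
        exact RingHom.flat_algebraMap_iff.mpr inferInstance))
  haveI : QuasiCompact p₁ := MorphismProperty.of_isPullback hP.flip
    (show QuasiCompact (Spec.map (CommRingCat.ofHom (Polynomial.C : k →+* Polynomial k))) from inferInstance)
  haveI : CompactSpace X := QuasiCompact.compactSpace_of_compactSpace f
  haveI : CompactSpace P := QuasiCompact.compactSpace_of_compactSpace p₁
  obtain ⟨D0⟩ := CurveA1.exists_fibreData hP (genericPoint X)
  let ξ := D0.gen
  have hξ : p₁ ξ = genericPoint X := D0.p₁_gen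
  have hgen : ∀ z : P, ξ ⤳ z := fun z => by
    obtain ⟨w, hw, hwη⟩ := Flat.generalizingMap p₁ (genericPoint_specializes (p₁ z))
    exact (D0.gen_specializes hwη).trans hw
  have hdata : ∀ z : P, p₁ z ≠ genericPoint X → δ z = c → ∃ D : CurveA1.FibreData p₁ p₂ (p₁ z),
      D.gen = z ∧ IsClosed ({p₁ D.gen} : Set X) ∧ IsClosedImmersion (X.fromSpecResidueField (p₁ z)) := by
    intro z hz hzc
    have hcl := H26CDiv.isClosed_singleton_of_ne_genericPoint (le_of_eq hdim) hz
    haveI := isClosed_singleton_iff_isClosedImmersion.1 hcl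
    obtain ⟨D⟩ := CurveA1.exists_fibreData hP (p₁ z)
    refine ⟨D, ?_, by rw [D.p₁_gen]; exact hcl, inferInstance⟩
    by_contra hne
    have := hc z (D.isClosed_of_ne rfl (Ne.symm hne))
    omega
  have huniq : ∀ v z : P, p₁ v ≠ genericPoint X → δ v = c → p₁ z ≠ genericPoint X → δ z = c → p₁ v = p₁ z → v = z := by
    intro v z hv hvc hz hzc h
    obtain ⟨D, hD, -, hi⟩ := hdata z hz hzc
    haveI := hi
    by_contra hne
    have := hc v (D.isClosed_of_ne h (by rw [hD]; exact hne))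
    omega
  let S : Finset P := (finite_support α).toFinset.filter fun z => p₁ z ≠ genericPoint X
  have hS : ∀ z ∈ S, p₁ z ≠ genericPoint X ∧ δ z = c := fun z hz => by
    obtain ⟨h1, h2⟩ := Finset.mem_filter.1 hz
    refine ⟨h2, ?_⟩
    by_contra h
    exact (Set.Finite.mem_toFinset _).1 h1 (hα z h)
  by_cases hne : S = ∅
  · refine ⟨α, hα, RatRel.refl α, fun z hz => ?_⟩
    by_contra hzη
    have : z ∈ S := Finset.mem_filter.2 ⟨(Set.Finite.mem_toFinset _).2 hz, hzη⟩
    rw [hne] at this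
    exact Finset.notMem_empty _ this
  have hgs : ∀ z : S, ∃ g : P.residueField ξ, g ≠ 0 ∧ ∀ v, p₁ v ≠ genericPoint X → δ v = c →
      Cyc.ordAt v ξ (hgen v) g = if v = z.1 then 1 else 0 := by
    intro z
    obtain ⟨D, hD, hcl, -⟩ := hdata z.1 (hS _ z.2).1 (hS _ z.2).2
    obtain ⟨g, hg0, hg⟩ := exists_vertical_function (f := f) hdim hξ hgen D hcl
    refine ⟨g, hg0, fun v hv hvc => ?_⟩
    obtain ⟨D', hD', hcl', -⟩ := hdata v hv hvc
    have htr : ∀ (w : P) (_ : w = v) (h1 : ξ ⤳ w), Cyc.ordAt v ξ (hgen v) g = Cyc.ordAt w ξ h1 g := by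
      rintro w rfl h1; rfl
    rw [htr _ hD' (hgen _)]
    by_cases hvz : v = z.1
    · rw [if_pos hvz]
      exact (hg _ D' hcl').1 (by rw [hD', hvz, hD])
    · rw [if_neg hvz]
      refine (hg _ D' hcl').2 ?_
      rw [hD', hD]
      exact fun h => hvz (huniq v z.1 hv hvc (hS _ z.2).1 (hS _ z.2).2 h)
  choose g hg0 hg using hgs
  have hδξ : ∀ v : P, p₁ v ≠ genericPoint X → δ v = c → δ ξ = c + 1 := by
    intro v hv hvc
    obtain ⟨D, hD, hcl, hi⟩ := hdata v hv hvc
    haveI := hi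
    haveI := CurvePole.stalk_dvr f hdim hcl
    obtain ⟨π, hirr⟩ := IsDiscreteValuationRing.exists_irreducible (X.presheaf.stalk (p₁ D.gen))
    have hdimv := D.stalk_dim_le_one hirr.maximalIdeal_eq
    rw [hD] at hdimv
    have := (hδ.2.2 ξ v (hgen v) fun e => hv (by rw [← e]; exact hξ)).2
      fun z h1 h2 => CurveA1.immediate_of_dim_le_one hdimv h1 h2
    omega
  obtain ⟨z₀, hz₀⟩ := Finset.nonempty_iff_ne_empty.2 hne
  have hξc := hδξ z₀ (hS _ hz₀).1 (hS _ hz₀).2
  let G : P.residueField ξ := ∏ z ∈ S.attach, g z ^ α z.1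
  have hG : G ≠ 0 := Finset.prod_ne_zero_iff.2 fun z _ => zpow_ne_zero _ (hg0 z)
  have hlf : ∀ x : P, ∃ U : Set P, IsOpen U ∧ x ∈ U ∧
      {i : PUnit.{u + 1} | (closure {(fun _ => ξ) i} ∩ U).Nonempty}.Finite :=
    fun _ => ⟨Set.univ, isOpen_univ, trivial, Set.toFinite _⟩
  obtain ⟨E, hE⟩ := H22Alg.CycDiv.exists_cycle_sum (ι := PUnit.{u + 1}) (f := fun _ => G) hδ.2.2 (fun _ => hG) hlf
  have hE' : ∀ x, E x = Cyc.divFun δ ξ G x := fun x => by rw [hE x, finsum_unique]
  refine ⟨α - E, fun x hx => ?_, ⟨PUnit.{u + 1}, fun _ => ξ, fun _ => G, fun _ => hξc, fun _ => hG, hlf,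
    fun x => ?_⟩, fun v hv => ?_⟩
  · show α x - E x = 0
    rw [hα x hx, hE', Cyc.divFun, dif_neg (fun h => hx (by have := h.2; omega)), sub_zero]
  · show (α - (α - E)) x = _
    rw [finsum_unique, sub_sub_cancel, hE']
  · by_contra hvη
    refine hv ?_
    show α v - E v = 0
    by_cases hvc : δ v = c
    · rw [hE', KDet.divFun_prod _ _ (fun z => zpow_ne_zero _ (hg0 z))]
      have h1 : ∀ z : S, Cyc.divFun δ ξ (g z ^ α z.1) v = if v = z.1 then α z.1 else 0 := fun z => by
        rw [C1Api.divFun_zpow δ ξ (hg0 z), Cyc.divFun, dif_pos ⟨hgen v, by omega⟩, hg z v hvη hvc]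
        split_ifs <;> simp
      rw [Finset.sum_congr rfl (fun z _ => h1 z)]
      by_cases hmem : v ∈ S
      · rw [Finset.sum_eq_single (⟨v, hmem⟩ : S) (fun z _ hzv => if_neg fun e => hzv (Subtype.ext e.symm))
          (fun h => absurd (Finset.mem_attach _ _) h), if_pos rfl, sub_self]
      · rw [Finset.sum_eq_zero fun z _ => if_neg fun (e : v = z.1) => hmem (e ▸ z.2), sub_zero]
        by_contra h0
        exact hmem (Finset.mem_filter.2 ⟨(Set.Finite.mem_toFinset _).2 h0, hvη⟩)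
    · rw [hα v hvc, hE', Cyc.divFun, dif_neg (fun h => hvc (by have := h.2; omega)), sub_zero]

end Groth.Agent.S18595
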