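import Groth.Statements.S18596
import Groth.Agent.H9Ram.TameScheme
import Mathlib.AlgebraicGeometry.ValuativeCriterion
-- import your own Groth.Agent.* helpers here

set_option autoImplicit false
universe u
open EtRam

namespace Groth.Agent.S18596

open AlgebraicGeometry CategoryTheory in
/-- Let k be a perfect field, X a k-scheme proper over k and f : Y ⟶ X finite étale. Curve-tameness of f
asks that the pullback of f to any regular k-curve mapping to X be tamely ramified at every place of
the curve's function field at infinity; proper targets make every finite étale cover curve-tame.
Stated here unfolded at a single place, in the form the argument yields: for every point y of Y with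
image x, and every discrete valuation ring A of the residue field κ(x) through which Spec κ(x) ⟶
Spec k factors, the finite separable extension κ(y) of κ(x) is tamely ramified with respect to A. -/
theorem result
    (k : Type u) [Field k] [PerfectField k] {X Y : Scheme.{u}} (s : X ⟶ Spec (CommRingCat.of k))
    [IsProper s] (f : Y ⟶ X) [IsFinite f] [Etale f] (y : Y)
    (A : ValuationSubring (X.residueField (f.base y))) [IsDiscreteValuationRing A]
    (a : Spec (CommRingCat.of A) ⟶ Spec (CommRingCat.of k))
    (ha : Spec.map (CommRingCat.ofHom A.subtype) ≫ a = X.fromSpecResidueField (f.base y) ≫ s) :
    EtRam.IsTamelyRamified A ((f.residueFieldMap y).hom.comp A.subtype) := by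
  have hv : ValuativeCriterion s := by
    have h : (@IsProper : MorphismProperty Scheme.{u}) s := inferInstance
    rw [IsProper.eq_valuativeCriterion] at h
    exact h.1.1.1
  let S : ValuativeCommSq s :=
    { R := A, K := X.residueField (f.base y), i₁ := X.fromSpecResidueField (f.base y), i₂ := a,
      commSq := ⟨ha.symm⟩ }
  have : S.commSq.HasLift := hv.existence S
  exact H9Ram.TameScheme.tame_of_lift f y A S.commSq.lift S.commSq.fac_left

end Groth.Agent.S18596
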