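import Groth.Statements.S18597
import Groth.Agent.H9Ram.GaloisCoverResidue
import Groth.Agent.H9Ram.TameGalois
-- import your own Groth.Agent.* helpers here

set_option autoImplicit false
universe u
open EtRam

namespace Groth.Agent.S18597

open AlgebraicGeometry CategoryTheory in
/-- Let k be a perfect field and X a k-scheme. A finite étale cover of X by a torsor under a finite
group of order prime to the characteristic of k is curve-tame, i.e. tamely ramified at every place
at infinity of every regular k-curve mapping to X. Stated here unfolded at a single place and for a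
connected Galois cover Z ⟶ X (the X-automorphisms of Z act transitively on geometric fibres) whose
automorphism group has order invertible in k: for every point z of Z with image x and every discrete
valuation ring A of the residue field κ(x) through which Spec κ(x) ⟶ Spec k factors (so A contains k
and has the residue characteristic of k), the finite separable extension κ(z) of κ(x) is tamely
ramified with respect to A. Without the factorisation through Spec A the claim fails already for X =
Spec ℚ, Z = Spec ℚ(√2) and A = ℤ localised at 2. (The published statement is for torsors under a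
finite abelian group of order prime to the characteristic; a connected component of such a torsor is
a Galois cover of this kind.) -/
theorem result
    (k : Type u) [Field k] [PerfectField k] {X : Scheme.{u}} (s : X ⟶ Spec (CommRingCat.of k))
    (Z : FEt.Cat X) (hZ : PiSp.IsGaloisCover Z) (hn : (Nat.card (Aut Z) : k) ≠ 0) (z : Z.left)
    (A : ValuationSubring (X.residueField (Z.hom.base z))) [IsDiscreteValuationRing A]
    (a : Spec (CommRingCat.of A) ⟶ Spec (CommRingCat.of k))
    (ha : Spec.map (CommRingCat.ofHom A.subtype) ≫ a = X.fromSpecResidueField (Z.hom.base z) ≫ s) :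
    EtRam.IsTamelyRamified A ((Z.hom.residueFieldMap z).hom.comp A.subtype) := by
  have : Etale Z.hom := Z.prop.2
  let : Algebra (X.residueField (Z.hom.base z)) (Z.left.residueField z) := (Z.hom.residueFieldMap z).hom.toAlgebra
  have htr : ∀ (Ω : Type u) [Field Ω] [IsAlgClosed Ω] (s t : Spec (CommRingCat.of Ω) ⟶ Z.left),
      s ≫ Z.hom = t ≫ Z.hom → ∃ σ : Aut Z, s ≫ σ.hom.left = t := fun Ω _ _ s t hst => by
    obtain ⟨σ, hσ⟩ := hZ.2 Ω (t ≫ Z.hom) ⟨s, hst⟩ ⟨t, rfl⟩
    exact ⟨σ, congrArg Subtype.val hσ⟩
  obtain ⟨hfin, hgal, hdvd⟩ := H9Ram.GaloisCoverResidue.galois_and_dvd (X := X) (Z := Z.left) (G := Aut Z) Z.hom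
    (fun σ => σ.hom.left) rfl (fun _ _ => rfl)
    (fun σ => MorphismProperty.Over.w σ.hom) htr z
  refine H9Ram.TameGalois.tame_of_galois (K := X.residueField (Z.hom.base z)) (L := Z.left.residueField z) ?_
  let g : k →+* IsLocalRing.ResidueField A := (IsLocalRing.residue A).comp (Spec.preimage a).hom
  obtain ⟨c, hc⟩ := hdvd
  intro h0
  apply hn
  apply g.injective
  rw [map_natCast, map_zero, hc, Nat.cast_mul, h0, zero_mul]

end Groth.Agent.S18597
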