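import Groth.Statements.S18598
import Mathlib

set_option autoImplicit false
universe u
open SSRed

namespace Groth.Agent.S18598

/-- Let O be a commutative integral domain of characteristic zero, n a positive integer such that no
prime number dividing n is a unit in O, and α an element of O of finite multiplicative order such
that (α − 1)² is divisible by n in O. Then α = 1 if n ≥ 5, α² = 1 if n = 4, α³ = 1 if n = 3, and α⁴
= 1 if n = 2. -/
theorem result (O : Type u) [CommRing O] [IsDomain O] [CharZero O]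
    (n : ℕ) (hn : 0 < n) (hO : ∀ p : ℕ, p.Prime → p ∣ n → ¬ IsUnit (p : O))
    (α : O) (hα : IsOfFinOrder α) (h : (n : O) ∣ (α - 1) ^ 2) :
    (5 ≤ n → α = 1) ∧ (n = 4 → α ^ 2 = 1) ∧ (n = 3 → α ^ 3 = 1) ∧ (n = 2 → α ^ 4 = 1) := by
  classical
  have hpow : ∀ (p r : ℕ) (β : O), p.Prime → IsPrimitiveRoot β (p ^ (r + 1)) → (n : O) ∣ (β - 1) ^ 2 →
      ∃ k, n = p ^ k ∧ k * (p ^ r * (p - 1)) ≤ 2 := by
    intro p r β hp hβ hdvd
    haveI : Fact p.Prime := ⟨hp⟩
    have hprod : (∏ μ ∈ primitiveRoots (p ^ (r + 1)) O, (1 - μ)) = (p : O) := by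
      rw [← Polynomial.eval_one_cyclotomic_prime_pow (R := O) r (p := p),
        Polynomial.cyclotomic_eq_prod_X_sub_primitiveRoots hβ, Polynomial.eval_prod]
      simp
    have hdvd' : ∀ μ ∈ primitiveRoots (p ^ (r + 1)) O, Associated (β - 1) (1 - μ) := by
      intro μ hμ
      rw [mem_primitiveRoots (pow_pos hp.pos _)] at hμ
      have hne : NeZero (p ^ (r + 1)) := ⟨(pow_pos hp.pos _).ne'⟩
      obtain ⟨i, _, hi, rfl⟩ := hβ.isPrimitiveRoot_iff.mp hμ
      rw [← neg_sub (β ^ i)]
      exact (hβ.associated_sub_one_pow_sub_one_of_coprime hi).trans (Associated.refl _).neg_right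
    have hassoc : Associated ((β - 1) ^ (p ^ r * (p - 1))) (p : O) := by
      rw [← hprod, ← Nat.totient_prime_pow_succ hp r, ← hβ.card_primitiveRoots, ← Finset.prod_const]
      exact Associated.prod _ _ _ hdvd'
    have hn0 : ((n : O)) ^ (p ^ r * (p - 1)) ∣ (p : O) ^ 2 :=
      (pow_dvd_pow_of_dvd hdvd _).trans (by
        rw [← pow_mul, mul_comm 2, pow_mul]
        exact (pow_dvd_pow_of_dvd hassoc.dvd 2))
    have honly : ∀ q : ℕ, q.Prime → q ∣ n → q = p := by
      intro q hq hqn
      by_contra hne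
      have hφ : p ^ r * (p - 1) ≠ 0 :=
        Nat.mul_ne_zero (pow_ne_zero _ hp.ne_zero) (by have := hp.two_le; omega)
      have h1 : (q : O) ∣ (p : O) ^ 2 :=
        ((Nat.cast_dvd_cast hqn).trans (dvd_pow_self _ hφ)).trans hn0
      have h2 : IsCoprime (q : O) ((p : O) ^ 2) := by
        refine IsCoprime.pow_right ?_
        have := Nat.isCoprime_iff_coprime.mpr ((Nat.coprime_primes hq hp).mpr hne)
        simpa using this.map (Int.castRingHom O)
      exact hO q hq hqn (h2.isUnit_of_dvd h1)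
    refine ⟨n.primeFactorsList.length, Nat.eq_prime_pow_of_unique_prime_dvd hn.ne' fun {q} hq hqn => honly q hq hqn, ?_⟩
    set k := n.primeFactorsList.length with hk
    have hnk : n = p ^ k := Nat.eq_prime_pow_of_unique_prime_dvd hn.ne' fun {q} hq hqn => honly q hq hqn
    rcases Nat.eq_zero_or_pos k with h0 | h0
    · simp [h0]
    · rw [hnk, Nat.cast_pow, ← pow_mul] at hn0
      exact (pow_dvd_pow_iff (Nat.cast_ne_zero.mpr hp.ne_zero)
        (hO p hp (hnk ▸ dvd_pow_self p h0.ne'))).mp hn0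
  -- reduce to prime-power order
  have hred : ∀ T : ℕ, 0 < T → (∀ (p r : ℕ), p.Prime →
      (∃ k, n = p ^ k ∧ k * (p ^ r * (p - 1)) ≤ 2) → p ^ (r + 1) ∣ T) → α ^ T = 1 := by
    intro T hT hall
    rw [← orderOf_dvd_iff_pow_eq_one, Nat.dvd_iff_prime_pow_dvd_dvd]
    intro p k hp hpk
    rcases k with _ | r
    · simp
    obtain ⟨c, hc⟩ := hpk
    have hord : 0 < orderOf α := hα.orderOf_pos
    have hβ : IsPrimitiveRoot (α ^ c) (p ^ (r + 1)) :=
      IsPrimitiveRoot.pow hord (IsPrimitiveRoot.orderOf α) (by rw [hc, mul_comm])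
    refine hall p r hp (hpow p r _ hp hβ (h.trans ?_))
    exact pow_dvd_pow_of_dvd (sub_one_dvd_pow_sub_one α c) 2
  refine ⟨fun h5 => ?_, fun h4 => hred 2 two_pos ?_, fun h3 => hred 3 (by omega) ?_, fun h2 => hred 4 (by omega) ?_⟩
  · rw [← pow_one α]
    refine hred 1 one_pos fun p r hp ⟨k, hk, hle⟩ => False.elim ?_
    have hb : 1 ≤ p ^ r := Nat.one_le_pow _ _ hp.pos
    have hk2 : k ≤ 2 := by
      have : 1 ≤ p ^ r * (p - 1) := Nat.one_le_iff_ne_zero.mpr
        (Nat.mul_ne_zero (pow_ne_zero _ hp.ne_zero) (by have := hp.two_le; omega))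
      calc k = k * 1 := (Nat.mul_one k).symm
        _ ≤ k * (p ^ r * (p - 1)) := Nat.mul_le_mul_left k this
        _ ≤ 2 := hle
    interval_cases k
    · simp at hk; omega
    · rw [pow_one] at hk
      have : 1 * (1 * (p - 1)) ≤ 2 := le_trans (by gcongr) hle
      omega
    · have : 2 * (1 * (p - 1)) ≤ 2 := le_trans (by gcongr) hle
      have : p = 2 := by have := hp.two_le; omega
      subst this; omega
  · intro p r hp ⟨k, hk, hle⟩
    subst h4
    have hk0 : k ≠ 0 := by rintro rfl; simp at hk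
    have hd : p ∣ 4 := hk ▸ dvd_pow_self p hk0
    have hp2 : p = 2 := by
      have := Nat.le_of_dvd (by norm_num) hd
      have := hp.two_le
      interval_cases p <;> first | rfl | omega | exact absurd hp (by decide)
    subst hp2
    have hk1 : k = 2 := Nat.pow_right_injective le_rfl (by simpa using hk.symm)
    subst hk1
    have : r = 0 := by
      by_contra hr
      have : 2 ^ 1 ≤ 2 ^ r := Nat.pow_le_pow_right (by omega) (Nat.one_le_iff_ne_zero.mpr hr)
      omega
    subst this; norm_num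
  · intro p r hp ⟨k, hk, hle⟩
    subst h3
    have hk0 : k ≠ 0 := by rintro rfl; simp at hk
    have hd : p ∣ 3 := hk ▸ dvd_pow_self p hk0
    have hp2 : p = 3 := (Nat.prime_dvd_prime_iff_eq hp Nat.prime_three).mp hd
    subst hp2
    have hk1 : k = 1 := Nat.pow_right_injective (by omega : 2 ≤ 3) (by simpa using hk.symm)
    subst hk1
    have : r = 0 := by
      by_contra hr
      have : 3 ^ 1 ≤ 3 ^ r := Nat.pow_le_pow_right (by omega) (Nat.one_le_iff_ne_zero.mpr hr)
      omega
    subst this; norm_num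
  · intro p r hp ⟨k, hk, hle⟩
    subst h2
    have hk0 : k ≠ 0 := by rintro rfl; simp at hk
    have hd : p ∣ 2 := hk ▸ dvd_pow_self p hk0
    have hp2 : p = 2 := (Nat.prime_dvd_prime_iff_eq hp Nat.prime_two).mp hd
    subst hp2
    have hk1 : k = 1 := Nat.pow_right_injective le_rfl (by simpa using hk.symm)
    subst hk1
    have : r ≤ 1 := by
      by_contra hr
      have : 2 ^ 2 ≤ 2 ^ r := Nat.pow_le_pow_right (by omega) (by omega)
      omega
    interval_cases r <;> norm_num

end Groth.Agent.S18598
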