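import Groth.Statements.S18599
import Mathlib

set_option autoImplicit false
universe u
open SSRed

namespace Groth.Agent.S18599

/-- Let ℓ be a prime number, M a free ℤ_ℓ-module of finite rank, A an automorphism of M with A^ℓ = 1,
and c the rank of M minus the rank of the submodule of A-invariants. Assume that ℓ = 2 and A − 1 ∈
2·End(M), or that ℓ = 2 and (A − 1)² ∈ 4·End(M), or that ℓ = 3 and (A − 1)² ∈ 3·End(M). Then the
torsion submodule of M/(A − 1)M is a vector space over ℤ/ℓℤ of dimension c/(ℓ − 1): it is killed by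
ℓ and has ℓ^r elements for some r with r(ℓ − 1) = c. -/
theorem result (ℓ : ℕ) [Fact ℓ.Prime]
    (M : Type u) [AddCommGroup M] [Module ℤ_[ℓ] M] [Module.Free ℤ_[ℓ] M] [Module.Finite ℤ_[ℓ] M]
    (A : M ≃ₗ[ℤ_[ℓ]] M) (hA : A ^ ℓ = 1) (f : Module.End ℤ_[ℓ] M) (hf : f = (A : M →ₗ[ℤ_[ℓ]] M) - 1)
    (hcase : (ℓ = 2 ∧ ∃ B : Module.End ℤ_[ℓ] M, f = (2 : ℤ_[ℓ]) • B) ∨
      (ℓ = 2 ∧ ∃ B : Module.End ℤ_[ℓ] M, f ^ 2 = (4 : ℤ_[ℓ]) • B) ∨
      (ℓ = 3 ∧ ∃ B : Module.End ℤ_[ℓ] M, f ^ 2 = (3 : ℤ_[ℓ]) • B))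
    (c : ℕ) (hc : c = Module.finrank ℤ_[ℓ] M - Module.finrank ℤ_[ℓ] (LinearMap.ker f)) :
    (∀ x ∈ Submodule.torsion ℤ_[ℓ] (M ⧸ LinearMap.range f), (ℓ : ℤ_[ℓ]) • x = 0) ∧
      ∃ r : ℕ, r * (ℓ - 1) = c ∧
        Nat.card (Submodule.torsion ℤ_[ℓ] (M ⧸ LinearMap.range f)) = ℓ ^ r := by
  classical
  have hℓ : Nat.Prime ℓ := Fact.out
  have hℓ0 : (ℓ : ℤ_[ℓ]) ≠ 0 := Nat.cast_ne_zero.mpr hℓ.ne_zero
  let g : Module.End ℤ_[ℓ] M := if ℓ = 2 then 1 else f + 3
  let N : Module.End ℤ_[ℓ] M := f * g + (ℓ : ℤ_[ℓ]) • 1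
  have hA1 : (f + 1) ^ ℓ = 1 := by
    have h1 : f + 1 = (A : Module.End ℤ_[ℓ] M) := by rw [hf]; exact sub_add_cancel _ _
    rw [h1]
    have h2 := congrArg (fun e : M ≃ₗ[ℤ_[ℓ]] M => (e : Module.End ℤ_[ℓ] M)) hA
    exact (map_pow (LinearEquiv.automorphismGroup.toLinearMapMonoidHom) A ℓ).symm.trans h2
  have hgN : ∀ m, f (g m) = g (f m) := by
    intro m
    by_cases h2 : ℓ = 2
    · simp [g, h2]
    · simp [g, h2, Module.End.ofNat_apply, map_ofNat]
  -- the basic identities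
  have hmain : f * N = 0 ∧ (∀ m, ∃ k, N k = 0 ∧ f k = f m) ∧
      (∀ k, N k = 0 → ∃ k', N k' = 0 ∧ (f ^ (ℓ - 1)) k' = (ℓ : ℤ_[ℓ]) • k) ∧
      (∀ k, N k = 0 → ∃ k', N k' = 0 ∧ (f ^ (ℓ - 1)) k = (ℓ : ℤ_[ℓ]) • k') := by
    have key : ℓ = 2 ∧ (∃ B : Module.End ℤ_[ℓ] M, f = (2 : ℤ_[ℓ]) • B) ∨
        ℓ = 3 ∧ ∃ B : Module.End ℤ_[ℓ] M, f ^ 2 = (3 : ℤ_[ℓ]) • B := by
      rcases hcase with h | ⟨h2, B, hB⟩ | h
      · exact Or.inl h
      · refine Or.inl ⟨h2, -B, ?_⟩
        have h20 : (2 : ℤ_[ℓ]) ≠ 0 := by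
          have e : (ℓ : ℤ_[ℓ]) = (2 : ℤ_[ℓ]) := by exact_mod_cast h2
          exact e ▸ hℓ0
        have h3 : f ^ 2 + (2 : ℤ_[ℓ]) • f = 0 := by
          have h4 : (f + 1) ^ 2 = 1 := h2 ▸ hA1
          have h5 : (f + 1) ^ 2 = f ^ 2 + (2 : ℤ_[ℓ]) • f + 1 := by
            rw [two_smul, sq, sq, add_mul, mul_add, mul_one, one_mul]; abel
          rw [h5] at h4
          simpa using h4
        rw [hB, show (4 : ℤ_[ℓ]) = 2 * 2 by norm_num, mul_smul, ← smul_add] at h3
        have h4 := (smul_eq_zero_iff_right h20).mp h3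
        rw [smul_neg]; exact eq_neg_of_add_eq_zero_right h4
      · exact Or.inr h
    rcases key with ⟨h2, B, hB⟩ | ⟨h3, B, hB⟩
    · have h20 : (2 : ℤ_[ℓ]) ≠ 0 := by
        have e : (ℓ : ℤ_[ℓ]) = (2 : ℤ_[ℓ]) := by exact_mod_cast h2
        exact e ▸ hℓ0
      have hℓ2 : (ℓ : ℤ_[ℓ]) = 2 := by
        exact_mod_cast h2
      have hg : g = 1 := if_pos h2
      have hN : ∀ m, N m = f m + (2 : ℤ_[ℓ]) • m := fun m => by simp [N, hg, hℓ2]
      have hfp : ∀ m, (f ^ (ℓ - 1)) m = f m := fun m => by simp [show ℓ - 1 = 1 by omega]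
      have hff : ∀ m, f (f m) + (2 : ℤ_[ℓ]) • f m = 0 := by
        intro m
        have h4 : (f + 1) ^ 2 = 1 := h2 ▸ hA1
        have h5 := LinearMap.congr_fun h4 m
        simp only [sq, Module.End.mul_apply, LinearMap.add_apply, Module.End.one_apply, map_add] at h5
        rw [two_smul]
        linear_combination (norm := abel) h5
      have hfm : ∀ m, f m = (2 : ℤ_[ℓ]) • B m := fun m => LinearMap.congr_fun hB m
      refine ⟨LinearMap.ext fun m => ?_, fun m => ⟨-B m, ?_, ?_⟩, fun k hk => ⟨-k, ?_, ?_⟩,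
        fun k hk => ⟨-k, ?_, ?_⟩⟩
      · simp [hN, hff]
      · have h6 : (2 : ℤ_[ℓ]) • (f (B m) + (2 : ℤ_[ℓ]) • B m) = 0 := by
          rw [smul_add, ← map_smul, ← hfm, hff]
        rw [map_neg, hN, (smul_eq_zero_iff_right h20).mp h6, neg_zero]
      · have h6 : (2 : ℤ_[ℓ]) • (f (-B m) - f m) = 0 := by
          rw [smul_sub, map_neg, smul_neg, ← map_smul, ← hfm, ← neg_add', hff, neg_zero]
        exact sub_eq_zero.mp ((smul_eq_zero_iff_right h20).mp h6)
      · rw [map_neg, hk, neg_zero]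
      · rw [hfp, map_neg, hℓ2]
        rw [hN] at hk
        exact neg_eq_of_add_eq_zero_right hk
      · rw [map_neg, hk, neg_zero]
      · rw [hfp, hℓ2, smul_neg]
        rw [hN] at hk
        exact eq_neg_of_add_eq_zero_left hk
    · have hℓ3 : (ℓ : ℤ_[ℓ]) = 3 := by
        exact_mod_cast h3
      have h30 : (3 : ℤ_[ℓ]) ≠ 0 := hℓ3 ▸ hℓ0
      have hg : g = f + 3 := if_neg (by omega)
      have hN : ∀ m, N m = f (f m) + (3 : ℤ_[ℓ]) • f m + (3 : ℤ_[ℓ]) • m := fun m => by
        simp [N, hg, hℓ3, Module.End.ofNat_apply, ← Nat.cast_smul_eq_nsmul ℤ_[ℓ]]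
      have hfp : ∀ m, (f ^ (ℓ - 1)) m = f (f m) := fun m => by
        simp [show ℓ - 1 = 2 by omega, pow_two]
      have hNf : ∀ m, f (N m) = 0 := by
        intro m
        have h4 : (f + 1) ^ 3 = 1 := h3 ▸ hA1
        have h5 := LinearMap.congr_fun h4 m
        simp only [pow_succ, pow_zero, one_mul, Module.End.mul_apply, LinearMap.add_apply,
          Module.End.one_apply, map_add] at h5
        rw [hN, map_add, map_add, map_smul, map_smul, show (3 : ℤ_[ℓ]) = 1 + 1 + 1 by norm_num]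
        simp only [add_smul, one_smul]
        linear_combination (norm := abel) h5
      have hB' : ∀ m, f (f m) = (3 : ℤ_[ℓ]) • B m := fun m => by
        simpa [pow_two] using LinearMap.congr_fun hB m
      have hNfm : ∀ m, N (f m) = 0 := fun m => by
        have := hNf m
        rw [hN, map_add, map_add, map_smul, map_smul] at this
        rw [hN]; exact this
      have hNB : ∀ m, N (B m) = 0 := fun m => by
        have h6 : (3 : ℤ_[ℓ]) • N (B m) = 0 := by rw [← map_smul, ← hB', hNfm]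
        exact (smul_eq_zero_iff_right h30).mp h6
      refine ⟨LinearMap.ext fun m => by simp [hNf], fun m => ⟨-B m - f m, ?_, ?_⟩,
        fun k hk => ?_, fun k hk => ?_⟩
      · rw [map_sub, map_neg, hNB, hNfm, neg_zero, sub_zero]
      · have h6 : (3 : ℤ_[ℓ]) • (f (-B m - f m) - f m) = 0 := by
          have h7 := hNf m
          rw [hN, map_add, map_add, map_smul, map_smul] at h7
          rw [smul_sub, map_sub, smul_sub, map_neg, smul_neg, ← map_smul, ← hB', ← neg_eq_zero, ← h7]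
          abel
        exact sub_eq_zero.mp ((smul_eq_zero_iff_right h30).mp h6)
      · -- `3 k = f² (k₁)` with `k₁ = -(1 + f)⁻¹ k = -(1 + f)² k`
        have hk' := hk
        rw [hN] at hk'
        refine ⟨-((f + 1) ^ 2 : Module.End ℤ_[ℓ] M) k, ?_, ?_⟩
        · rw [map_neg, neg_eq_zero]
          simp [pow_two, hNfm, hk]
        · have hAk : ∀ x : M, N x = 0 → f (f x) = -((3 : ℤ_[ℓ]) • (f x + x)) := by
            intro x hx
            rw [hN, add_assoc, ← smul_add] at hx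
            exact eq_neg_of_add_eq_zero_left hx
          rw [hfp, hℓ3, map_neg, map_neg]
          rw [hAk _ (by simp [pow_two, hNfm, hk]), neg_neg]
          congr 1
          have h4 : (f + 1) ^ 3 = 1 := h3 ▸ hA1
          have h5 := LinearMap.congr_fun h4 k
          rw [pow_succ'] at h5
          simpa using h5
      · refine ⟨-(f k + k), ?_, ?_⟩
        · rw [map_neg, map_add, hNfm, hk, add_zero, neg_zero]
        · rw [hfp, hℓ3, smul_neg]
          rw [hN, add_assoc, ← smul_add] at hk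
          exact eq_neg_of_add_eq_zero_left hk
  obtain ⟨hfN, hsurj, hpow1, hpow2⟩ := hmain
  have hfN' : ∀ m, f (N m) = 0 := fun m => LinearMap.congr_fun hfN m
  have hN' : ∀ m, N m = f (g m) + (ℓ : ℤ_[ℓ]) • m := fun m => by simp [N]
  have hNf : ∀ m, N (f m) = 0 := fun m => by
    rw [← hfN' m, hN' (f m), hN' m, map_add, map_smul, ← hgN]
  let K := LinearMap.ker N
  let fK : K →ₗ[ℤ_[ℓ]] K := f.restrict fun m _ => LinearMap.mem_ker.mpr (hNf m)
  have hfKval : ∀ k : K, (fK k : M) = f k := fun k => rfl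
  have hfKinj : Function.Injective fK := by
    rw [injective_iff_map_eq_zero]
    intro k hk
    have h1 : f k = 0 := congrArg Subtype.val hk
    have h2 := (hN' (k : M)).symm.trans k.2
    rw [hgN, h1, map_zero, zero_add] at h2
    exact Subtype.ext ((smul_eq_zero_iff_right hℓ0).mp h2)
  -- rank of `K`
  have hrank : Module.finrank ℤ_[ℓ] K = c := by
    have h1 := Submodule.finrank_quotient_add_finrank (LinearMap.ker N)
    rw [N.quotKerEquivRange.finrank_eq] at h1
    have h2 : Module.finrank ℤ_[ℓ] (LinearMap.range N) = Module.finrank ℤ_[ℓ] (LinearMap.ker f) := by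
      refine le_antisymm (Submodule.finrank_mono ?_) ?_
      · rintro _ ⟨m, rfl⟩
        exact hfN' m
      · let e : LinearMap.ker f →ₗ[ℤ_[ℓ]] LinearMap.range N :=
          LinearMap.codRestrict _ ((ℓ : ℤ_[ℓ]) • (LinearMap.ker f).subtype) fun x =>
            ⟨x, by rw [hN', hgN, LinearMap.mem_ker.mp x.2, map_zero, zero_add]; rfl⟩
        refine LinearMap.finrank_le_finrank_of_injective (f := e) fun x y hxy => ?_
        exact Subtype.ext (smul_right_injective M hℓ0 (congrArg Subtype.val hxy))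
    rw [hc, ← h2]
    exact (Nat.sub_eq_of_eq_add (by rw [← h1, add_comm])).symm
  have hidx : (LinearMap.range (fK ^ (ℓ - 1))).toAddSubgroup.index = ℓ ^ c := by
    let b := Module.finBasisOfFinrankEq ℤ_[ℓ] K hrank
    let φ : K →+ (Fin c → ZMod ℓ) :=
      { toFun := fun k i => PadicInt.toZMod (b.repr k i)
        map_zero' := by ext i; simp
        map_add' := fun x y => by ext i; simp }
    have hφ : Function.Surjective φ := fun v => by
      choose w hw using fun i => ZMod.ringHom_surjective (PadicInt.toZMod (p := ℓ)) (v i)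
      refine ⟨b.equivFun.symm w, funext fun i => Eq.trans ?_ (hw i)⟩
      show PadicInt.toZMod (b.equivFun (b.equivFun.symm w) i) = _
      rw [LinearEquiv.apply_symm_apply]
    have hker : φ.ker = (LinearMap.range (fK ^ (ℓ - 1))).toAddSubgroup := by
      have hpowval : ∀ (n : ℕ) (k : K), (((fK ^ n) k : K) : M) = (f ^ n) k := by
        intro n
        induction n with
        | zero => simp
        | succ n ih => intro k; simp [pow_succ', hfKval, ih]
      ext k
      rw [AddMonoidHom.mem_ker, Submodule.mem_toAddSubgroup, LinearMap.mem_range]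
      constructor
      · intro hk
        have hdiv : ∀ i, ∃ z, b.repr k i = (ℓ : ℤ_[ℓ]) * z := fun i => by
          have hmem : b.repr k i ∈ RingHom.ker (PadicInt.toZMod (p := ℓ)) := congrFun hk i
          rw [PadicInt.ker_toZMod, PadicInt.maximalIdeal_eq_span_p] at hmem
          exact Ideal.mem_span_singleton.mp hmem
        choose z hz using hdiv
        have hk0 : k = (ℓ : ℤ_[ℓ]) • b.equivFun.symm z := by
          refine b.equivFun.injective (funext fun i => ?_)
          simp [hz i, Finsupp.single_apply]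
        obtain ⟨k', hk', he⟩ := hpow1 _ (b.equivFun.symm z).2
        exact ⟨⟨k', hk'⟩, Subtype.ext (by rw [hpowval, he, hk0]; rfl)⟩
      · rintro ⟨k', rfl⟩
        obtain ⟨k'', hk'', he⟩ := hpow2 _ k'.2
        have hk0 : (fK ^ (ℓ - 1)) k' = (ℓ : ℤ_[ℓ]) • (⟨k'', hk''⟩ : K) :=
          Subtype.ext (by rw [hpowval, he]; rfl)
        ext i
        simp [φ, hk0]
    rw [← hker, AddSubgroup.index_ker, AddMonoidHom.range_eq_top.mpr hφ]
    simp
  have hpowidx : ∀ n, (LinearMap.range (fK ^ n)).toAddSubgroup.index =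
      (LinearMap.range fK).toAddSubgroup.index ^ n := by
    intro n
    induction n with
    | zero => simp [Module.End.one_eq_id]
    | succ n ih =>
      have hle : (LinearMap.range (fK ^ (n + 1))).toAddSubgroup ≤ (LinearMap.range fK).toAddSubgroup := by
        rintro _ ⟨k, rfl⟩
        exact ⟨(fK ^ n) k, by rw [pow_succ']; rfl⟩
      rw [← AddSubgroup.relIndex_mul_index hle, pow_succ (LinearMap.range fK).toAddSubgroup.index, ← ih]
      congr 1
      have h1 : (LinearMap.range (fK ^ (n + 1))).toAddSubgroup =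
          (LinearMap.range (fK ^ n)).toAddSubgroup.map fK.toAddMonoidHom := by
        ext k
        constructor
        · rintro ⟨a, rfl⟩
          exact ⟨(fK ^ n) a, ⟨a, rfl⟩, by rw [pow_succ']; rfl⟩
        · rintro ⟨_, ⟨a, rfl⟩, rfl⟩
          exact ⟨a, by rw [pow_succ']; rfl⟩
      have h2 : (LinearMap.range fK).toAddSubgroup = (⊤ : AddSubgroup K).map fK.toAddMonoidHom := by
        ext k; simp
      rw [h1, h2, AddSubgroup.relIndex_map_map_of_injective _ _ hfKinj, AddSubgroup.relIndex_top_right]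
  obtain ⟨r, -, hr⟩ := (Nat.dvd_prime_pow hℓ).mp (show (LinearMap.range fK).toAddSubgroup.index ∣ ℓ ^ c from
    hidx ▸ hpowidx (ℓ - 1) ▸ dvd_pow_self _ (by have := hℓ.two_le; omega))
  have hrc : r * (ℓ - 1) = c := by
    have h := (hpowidx (ℓ - 1)).symm.trans hidx
    rw [hr, ← pow_mul] at h
    exact Nat.pow_right_injective hℓ.two_le h
  -- the torsion
  let T := Submodule.torsion ℤ_[ℓ] (M ⧸ LinearMap.range f)
  have hkill : ∀ k : K, (ℓ : ℤ_[ℓ]) • Submodule.Quotient.mk (p := LinearMap.range f) (k : M) = 0 := by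
    intro k
    rw [← Submodule.Quotient.mk_smul, Submodule.Quotient.mk_eq_zero]
    have h2 := (hN' (k : M)).symm.trans k.2
    rw [← neg_eq_of_add_eq_zero_right h2]
    exact neg_mem ⟨g k, rfl⟩
  have hlift : ∀ x ∈ T, ∃ k : K, Submodule.Quotient.mk (k : M) = x := by
    intro x hx
    obtain ⟨m, rfl⟩ := Submodule.Quotient.mk_surjective _ x
    obtain ⟨⟨a, ha⟩, ham⟩ := (Submodule.mem_torsion_iff _).mp hx
    rw [Submonoid.mk_smul] at ham
    rw [← Submodule.Quotient.mk_smul, Submodule.Quotient.mk_eq_zero] at ham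
    obtain ⟨y, hy⟩ := ham
    have h1 : a • N m = 0 := by rw [← map_smul, ← hy, hNf]
    exact ⟨⟨m, (smul_eq_zero_iff_right (nonZeroDivisors.ne_zero ha)).mp h1⟩, rfl⟩
  have hmem : ∀ k : K, Submodule.Quotient.mk (p := LinearMap.range f) (k : M) ∈ T := fun k =>
    (Submodule.mem_torsion_iff _).mpr ⟨⟨(ℓ : ℤ_[ℓ]), mem_nonZeroDivisors_of_ne_zero hℓ0⟩, hkill k⟩
  refine ⟨fun x hx => by obtain ⟨k, rfl⟩ := hlift x hx; exact hkill k, r, hrc, ?_⟩
  let ψ : K →+ T :=
    { toFun := fun k => ⟨_, hmem k⟩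
      map_zero' := rfl
      map_add' := fun x y => rfl }
  have hψ : Function.Surjective ψ := fun x => by
    obtain ⟨k, hk⟩ := hlift x x.2
    exact ⟨k, Subtype.ext hk⟩
  have hψker : ψ.ker = (LinearMap.range fK).toAddSubgroup := by
    ext k
    rw [AddMonoidHom.mem_ker, Submodule.mem_toAddSubgroup, LinearMap.mem_range, Subtype.ext_iff]
    change Submodule.Quotient.mk (k : M) = 0 ↔ _
    rw [Submodule.Quotient.mk_eq_zero]
    constructor
    · rintro ⟨m, hm⟩
      obtain ⟨k', hk', he⟩ := hsurj m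
      exact ⟨⟨k', hk'⟩, Subtype.ext (he.trans hm)⟩
    · rintro ⟨k', rfl⟩
      exact ⟨k', rfl⟩
  rw [← hr, ← hψker, AddSubgroup.index_ker, AddMonoidHom.range_eq_top.mpr hψ, AddSubgroup.card_top]

end Groth.Agent.S18599
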