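import Groth.Statements.S18600
import Mathlib

set_option autoImplicit false
universe v
open SSRed

namespace Groth.Agent.S18600

set_option maxHeartbeats 800000 in
/-- Let n be a positive integer, g a natural number and f ∈ ℤ[x] a monic polynomial such that for every
prime ℓ dividing n there is a g × g matrix A_ℓ over ℤ_ℓ whose characteristic polynomial is f and
such that (A_ℓ − 1)² lies in n·M_g(ℤ_ℓ). Then for every root α of f in a field of characteristic
zero and every square root s of n in that field, (α − 1)/s is integral over ℤ. (The published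
statement is for matrices of size 2d and speaks of the eigenvalues of the A_ℓ, which are the roots
of their common characteristic polynomial f; the parity of the size plays no role.) -/
theorem result (n : ℕ) (hn : 0 < n) (g : ℕ) (f : Polynomial ℤ)
    (hf : f.Monic)
    (hA : ∀ (ℓ : ℕ) [Fact ℓ.Prime], ℓ ∣ n → ∃ A : Matrix (Fin g) (Fin g) ℤ_[ℓ],
      A.charpoly = f.map (Int.castRingHom ℤ_[ℓ]) ∧
        ∃ B : Matrix (Fin g) (Fin g) ℤ_[ℓ], (A - 1) ^ 2 = (n : ℤ_[ℓ]) • B)
    (K : Type v) [Field K] [CharZero K] (α s : K) (hα : Polynomial.aeval α f = 0) (hs : s ^ 2 = (n : K)) :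
    IsIntegral ℤ ((α - 1) / s) := by
  classical
  have hK : s ≠ 0 := by
    intro h0
    rw [h0, zero_pow two_ne_zero] at hs
    exact (Nat.cast_ne_zero (R := K)).mpr hn.ne' hs.symm
  rcases Nat.lt_or_ge n 2 with hn1 | hn1
  · obtain rfl : n = 1 := by omega
    have hα' : IsIntegral ℤ α := ⟨f, hf, hα⟩
    have : (α - 1) / s = (α - 1) * s := by
      rw [div_eq_iff hK, mul_assoc, ← sq, hs, Nat.cast_one, mul_one]
    rw [this]
    refine IsIntegral.mul (hα'.sub isIntegral_one) (IsIntegral.of_pow two_pos ?_)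
    rw [hs, Nat.cast_one]
    exact isIntegral_one
  let H : Polynomial ℤ := Polynomial.C ((-1) ^ g) *
    (f.comp (1 + Polynomial.X) * f.comp (1 - Polynomial.X))
  -- over each `ℤ_ℓ`, `H` is the characteristic polynomial of `(A - 1)²` in `X²`
  have hloc : ∀ (ℓ : ℕ) [Fact ℓ.Prime], ℓ ∣ n → ∃ B : Matrix (Fin g) (Fin g) ℤ_[ℓ],
      H.map (Int.castRingHom ℤ_[ℓ]) =
        Polynomial.expand ℤ_[ℓ] 2 ((n : ℤ_[ℓ]) • B).charpoly := by
    intro ℓ _ hℓ
    obtain ⟨A, hAf, B, hB⟩ := hA ℓ hℓ
    refine ⟨B, ?_⟩
    rw [← hB]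
    simp only [H, Polynomial.map_mul, Polynomial.map_comp, Polynomial.map_C, Polynomial.map_add,
      Polynomial.map_sub, Polynomial.map_one, Polynomial.map_X, ← hAf, map_pow, map_neg, map_one]
    set T : Matrix (Fin g) (Fin g) (Polynomial ℤ_[ℓ]) := A.map Polynomial.C with hT
    have hev : ∀ t : Polynomial ℤ_[ℓ],
        A.charpoly.comp t = (Matrix.scalar (Fin g) t - T).det := by
      intro t
      rw [hT, ← Matrix.eval_charpoly, Matrix.charpoly_map, Polynomial.eval_map]
      rfl
    rw [Polynomial.expand_eq_comp_X_pow, hev, hev,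
      show ∀ M : Matrix (Fin g) (Fin g) ℤ_[ℓ], M.charpoly.comp (Polynomial.X ^ 2) =
          (Matrix.scalar (Fin g) ((Polynomial.X : Polynomial ℤ_[ℓ]) ^ 2) - M.map Polynomial.C).det from
        fun M => by rw [← Matrix.eval_charpoly, Matrix.charpoly_map, Polynomial.eval_map]; rfl]
    have hmap : ((A - 1) ^ 2).map Polynomial.C = (T - 1) ^ 2 := by
      rw [hT]
      change Polynomial.C.mapMatrix ((A - 1) ^ 2) = (Polynomial.C.mapMatrix A - 1) ^ 2
      rw [map_pow, map_sub, map_one]
    set Xs := Matrix.scalar (Fin g) (Polynomial.X : Polynomial ℤ_[ℓ]) with hXs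
    have hcomm : Commute Xs (T - 1) := Matrix.scalar_commute _ (fun r => Commute.all _ r) _
    have h2 : Matrix.scalar (Fin g) ((Polynomial.X : Polynomial ℤ_[ℓ]) ^ 2) - (T - 1) ^ 2 =
        (Xs + (T - 1)) * (Xs - (T - 1)) := by
      have h3 : ∀ (S : Matrix (Fin g) (Fin g) (Polynomial ℤ_[ℓ])), Commute Xs S →
          Xs * Xs - S * S = (Xs + S) * (Xs - S) := fun S hS => by
        rw [add_mul, mul_sub, mul_sub, hS.eq]
        abel
      rw [map_pow, ← hXs, pow_two, pow_two]
      exact h3 _ hcomm
    rw [hmap, h2, Matrix.det_mul, map_add, map_sub, map_one, ← hXs]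
    have hneg : (Xs + (T - 1)).det = (-1 : Polynomial ℤ_[ℓ]) ^ g * (1 - Xs - T).det := by
      rw [show Xs + (T - 1) = -(1 - Xs - T) by abel, Matrix.det_neg, Fintype.card_fin]
    rw [hneg, show Xs - (T - 1) = 1 + Xs - T by abel, Polynomial.map_pow, Polynomial.map_neg, Polynomial.map_one]
    ring
  obtain ⟨ℓ₀, hℓ₀, hℓ₀n⟩ := Nat.exists_prime_and_dvd (show n ≠ 1 by omega)
  haveI := Fact.mk hℓ₀
  obtain ⟨B₀, hB₀⟩ := hloc ℓ₀ hℓ₀n
  have hinj : Function.Injective (Int.castRingHom ℤ_[ℓ₀]) := (Int.castRingHom ℤ_[ℓ₀]).injective_int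
  have hdeg : H.natDegree = 2 * g := by
    rw [← Polynomial.natDegree_map_eq_of_injective hinj, hB₀, Polynomial.natDegree_expand,
      Matrix.charpoly_natDegree_eq_dim, Fintype.card_fin, mul_comm]
  have hlead : H.coeff (2 * g) = 1 := by
    apply hinj
    rw [← Polynomial.coeff_map, hB₀, mul_comm, Polynomial.coeff_expand_mul two_pos, map_one]
    have := (Matrix.charpoly_monic ((n : ℤ_[ℓ₀]) • B₀)).coeff_natDegree
    rwa [Matrix.charpoly_natDegree_eq_dim, Fintype.card_fin] at this
  have hodd : ∀ j, ¬ 2 ∣ j → H.coeff j = 0 := by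
    intro j hj
    apply hinj
    rw [← Polynomial.coeff_map, hB₀, Polynomial.coeff_expand two_pos, if_neg hj, map_zero]
  have hdvd : ∀ k ≤ g, ((n : ℤ) ^ (g - k)) ∣ H.coeff (2 * k) := by
    intro k hk
    rw [← Int.natAbs_dvd_natAbs, Int.natAbs_pow, Int.natAbs_natCast, Nat.dvd_iff_prime_pow_dvd_dvd]
    intro q j hq hqj
    rcases Nat.eq_zero_or_pos j with rfl | hj
    · simp
    haveI := Fact.mk hq
    have hqn : q ∣ n := hq.dvd_of_dvd_pow ((dvd_pow_self q hj.ne').trans hqj)
    obtain ⟨B, hB⟩ := hloc q hqn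
    have h1 : (n : ℤ_[q]) ^ (g - k) ∣ (H.coeff (2 * k) : ℤ_[q]) := by
      rw [← eq_intCast (Int.castRingHom ℤ_[q]), ← Polynomial.coeff_map, hB, mul_comm,
        Polynomial.coeff_expand_mul two_pos]
      rcases Nat.lt_or_ge k g with hkg | hkg
      · have hscale : ((n : ℤ_[q]) • B).charpoly.coeff k = (n : ℤ_[q]) ^ (g - k) * B.charpoly.coeff k := by
          have hc : (n : ℤ_[q]) ≠ 0 := Nat.cast_ne_zero.mpr hn.ne'
          have e2 : ((n : ℤ_[q]) • B).charpoly.comp (Polynomial.C (n : ℤ_[q]) * Polynomial.X) =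
              Polynomial.C ((n : ℤ_[q]) ^ g) * B.charpoly := by
            rw [show ((n : ℤ_[q]) • B).charpoly.comp (Polynomial.C (n : ℤ_[q]) * Polynomial.X) =
              (Matrix.scalar (Fin g) (Polynomial.C (n : ℤ_[q]) * Polynomial.X) -
                ((n : ℤ_[q]) • B).map Polynomial.C).det by
              rw [← Matrix.eval_charpoly, Matrix.charpoly_map, Polynomial.eval_map]; rfl]
            have e3 : Matrix.scalar (Fin g) (Polynomial.C (n : ℤ_[q]) * Polynomial.X) -
                ((n : ℤ_[q]) • B).map Polynomial.C = Polynomial.C (n : ℤ_[q]) • B.charmatrix := by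
              ext i j
              rcases eq_or_ne i j with rfl | hij
              · simp [mul_sub]
              · simp [hij, mul_sub]
            rw [e3, Matrix.det_smul, Fintype.card_fin, map_pow]
            rfl
          have e4 := congrArg (fun p : Polynomial ℤ_[q] => p.coeff k) e2
          simp only [Polynomial.coeff_C_mul, Polynomial.comp_C_mul_X_coeff] at e4
          refine mul_right_cancel₀ (pow_ne_zero k hc) ?_
          rw [e4, mul_right_comm, ← pow_add, Nat.sub_add_cancel hkg.le]
        rw [hscale]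
        exact dvd_mul_right _ _
      · rw [show g - k = 0 by omega, pow_zero]
        exact one_dvd _
    have h2 : (q : ℤ_[q]) ^ j ∣ (H.coeff (2 * k) : ℤ_[q]) := by
      refine dvd_trans ?_ h1
      exact_mod_cast map_dvd (Nat.castRingHom ℤ_[q]) hqj
    rw [PadicInt.pow_p_dvd_int_iff] at h2
    have := Int.natAbs_dvd_natAbs.mpr h2
    simpa [Int.natAbs_pow] using this
  choose G hG using hdvd
  have hGg : G g le_rfl = 1 := by
    have := hG g le_rfl
    rw [Nat.sub_self, pow_zero, one_mul, hlead] at this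
    exact this.symm
  let P : Polynomial ℤ := Polynomial.X ^ g +
    ∑ k : Fin g, Polynomial.C (G k k.2.le) * Polynomial.X ^ (k : ℕ)
  set γ := (α - 1) / s with hγ
  have hHα : Polynomial.aeval (α - 1) H = 0 := by
    simp [H, Polynomial.aeval_comp, hα]
  have hP : Polynomial.aeval (γ ^ 2) P = 0 := by
    have h1 : Polynomial.aeval (α - 1) H = (n : K) ^ g * Polynomial.aeval (γ ^ 2) P := by
      have hs2 : ∀ k, (α - 1) ^ (2 * k) = (n : K) ^ k * (γ ^ 2) ^ k := by
        intro k
        rw [← mul_pow, ← hs, ← mul_pow, hγ, mul_div_cancel₀ _ hK, ← pow_mul]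
      have hsplit : H = ∑ k : Fin (g + 1), Polynomial.C (H.coeff (2 * k)) * Polynomial.X ^ (2 * (k : ℕ)) := by
        ext j
        simp only [Polynomial.finsetSum_coeff, Polynomial.coeff_C_mul, Polynomial.coeff_X_pow,
          mul_ite, mul_one, mul_zero]
        by_cases hj : 2 ∣ j
        · obtain ⟨k, rfl⟩ := hj
          rcases Nat.lt_or_ge k (g + 1) with hk | hk
          · rw [Finset.sum_eq_single (⟨k, hk⟩ : Fin (g + 1))]
            · simp
            · intro b _ hb
              rw [if_neg]
              intro h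
              exact hb (Fin.ext (show (b : ℕ) = k by omega))
            · simp
          · rw [Polynomial.coeff_eq_zero_of_natDegree_lt (by omega), Finset.sum_eq_zero]
            intro b _
            rw [if_neg]
            omega
        · rw [hodd j hj, Finset.sum_eq_zero]
          intro b _
          rw [if_neg]
          omega
      conv_lhs => rw [hsplit]
      rw [Fin.sum_univ_castSucc]
      simp only [P, map_add, map_sum, map_mul, map_pow, Polynomial.aeval_C, Polynomial.aeval_X,
        Fin.val_last, Fin.val_castSucc, mul_add, Finset.mul_sum]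
      rw [add_comm]
      congr 1
      · rw [hlead, map_one, one_mul, hs2]
      · refine Finset.sum_congr rfl fun k _ => ?_
        rw [hG k k.2.le, hs2, map_mul, map_pow, map_natCast,
          show (n : K) ^ g = (n : K) ^ (g - (k : ℕ)) * (n : K) ^ (k : ℕ) by
            rw [← pow_add, Nat.sub_add_cancel k.2.le]]
        ring
    rw [hHα] at h1
    exact (mul_eq_zero.mp h1.symm).resolve_left (pow_ne_zero _ ((Nat.cast_ne_zero (R := K)).mpr hn.ne'))
  exact IsIntegral.of_pow two_pos ⟨P, Polynomial.monic_X_pow_add (Polynomial.degree_sum_fin_lt _), hP⟩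

end Groth.Agent.S18600
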