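import Groth.Statements.S18615
import Mathlib.LinearAlgebra.Dual.Lemmas

set_option autoImplicit false
universe u v
open LinTop

namespace Groth.Agent.S18615

/-- Let k be a field carrying the discrete topology and M a separated topological k-module with a
k-linear topology (open k-submodules form a basis of neighbourhoods of zero, M a topological
additive group). For closed submodules M₁ ⊆ M₂ there is a short exact sequence 0 → M₂^⊥ → M₁^⊥ →
(M₂/M₁)^* → 0 of plain k-modules, where ⊥ denotes the annihilator in the continuous dual of M and *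
the continuous dual. Stated here as its one non-formal part, surjectivity on the right: every
continuous functional on M₂ (subspace topology) that vanishes on M₁ is the restriction of a
continuous functional on M vanishing on M₁ (continuous functionals on M₂/M₁ being the continuous
functionals on M₂ that kill M₁). -/
theorem result (k : Type u) (M : Type v) [Field k]
    [TopologicalSpace k] [DiscreteTopology k] [AddCommGroup M] [Module k M] [TopologicalSpace M]
    [IsTopologicalAddGroup M] [IsLinearTopology k M] [T2Space M]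
    (M₁ M₂ : Submodule k M) (h₁₂ : M₁ ≤ M₂) (hM₁ : IsClosed (M₁ : Set M))
    (hM₂ : IsClosed (M₂ : Set M)) (ψ : M₂ →L[k] k)
    (hψ : ∀ m : M₂, (m : M) ∈ M₁ → ψ m = 0) :
    ∃ φ : M →L[k] k, (∀ m ∈ M₁, φ m = 0) ∧ ∀ m : M₂, φ (m : M) = ψ m := by
  have hψ0 : {m : M₂ | ψ m = 0} ∈ nhds (0 : M₂) :=
    ((isOpen_discrete {(0 : k)}).preimage ψ.continuous).mem_nhds (map_zero ψ)
  rw [nhds_subtype, Filter.mem_comap] at hψ0
  obtain ⟨s, hs, hsub⟩ := hψ0
  obtain ⟨U, hUo, hUs⟩ := (IsLinearTopology.hasBasis_open_submodule k).mem_iff.mp hs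
  let q : M₂ →ₗ[k] M ⧸ (M₁ ⊔ U) := (M₁ ⊔ U).mkQ ∘ₗ M₂.subtype
  have hker : LinearMap.ker q ≤ LinearMap.ker (ψ : M₂ →ₗ[k] k) := by
    intro m hm
    simp only [q, LinearMap.mem_ker, LinearMap.comp_apply, Submodule.mkQ_apply,
      Submodule.Quotient.mk_eq_zero, Submodule.coe_subtype] at hm
    obtain ⟨a, ha, b, hb, hab⟩ := Submodule.mem_sup.mp hm
    have hb2 : b ∈ M₂ := by
      rw [eq_sub_of_add_eq' hab]
      exact M₂.sub_mem m.2 (h₁₂ ha)
    have : m = ⟨a, h₁₂ ha⟩ + ⟨b, hb2⟩ := Subtype.ext hab.symm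
    rw [LinearMap.mem_ker, this, map_add]
    have h1 : ψ ⟨a, h₁₂ ha⟩ = 0 := hψ _ ha
    have h2 : ψ ⟨b, hb2⟩ = 0 := hsub (a := ⟨b, hb2⟩) (hUs hb)
    simp [h1, h2]
  obtain ⟨g, hg⟩ := LinearMap.exists_extend
    ((Submodule.liftQ _ (ψ : M₂ →ₗ[k] k) hker) ∘ₗ q.quotKerEquivRange.symm.toLinearMap)
  let φ : M →ₗ[k] k := g ∘ₗ (M₁ ⊔ U).mkQ
  have hz : ∀ m ∈ M₁ ⊔ U, φ m = 0 := fun m hm => by
    simp [φ, (Submodule.Quotient.mk_eq_zero _).mpr hm]
  have hcont : Continuous φ := by
    apply continuous_of_continuousAt_zero φ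
    rw [ContinuousAt, map_zero, nhds_discrete k, Filter.tendsto_pure]
    exact Filter.mem_of_superset (hUo.mem_nhds U.zero_mem) fun m hm => hz m (Submodule.mem_sup_right hm)
  refine ⟨⟨φ, hcont⟩, fun m hm => hz m (Submodule.mem_sup_left hm), fun m => ?_⟩
  have h1 := LinearMap.congr_fun hg ⟨q m, ⟨m, rfl⟩⟩
  simp only [LinearMap.comp_apply, LinearEquiv.coe_coe] at h1
  erw [LinearMap.quotKerEquivRange_symm_apply_image] at h1
  exact h1

end Groth.Agent.S18615
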