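import Groth.Statements.S18622
import Groth.Agent.H02CA.BlowPts.Rows

set_option autoImplicit false
universe u
open VBPn

namespace Groth.Agent.S18622

open CategoryTheory CategoryTheory.Limits AlgebraicGeometry TopologicalSpace in
/-- Let k be an algebraically closed field of characteristic zero, n ≥ 3, Z = {p_1, …, p_s} distinct
closed points of P^n_k and π : X → P^n_k a blow-up of P^n_k in the ideal of the reduced set Z
(universal property). Write O_X(e₀) = π^*O(1), let e_t be the exceptional divisor over p_t, with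
ideal sheaf the inverse image of the ideal of p_t, and for c ∈ ℤ and integers d_t ≥ 0 put O_X(c e₀ −
Σ d_t e_t) = π^*O(c) ⊗ ⨂_t (ideal of e_t)^{⊗ d_t}. If c ≥ −n then H^n(X, O_X(c e₀ − Σ d_t e_t)) = 0
(stated for d_t ≥ 0). -/
theorem result (k : Type u) [Field k] [IsAlgClosed k] [CharZero k]
    (n : ℕ) (hn : 3 ≤ n) (s : ℕ) (P : Fin s → ↥(CohB1.ProjSpace n k)) (hP : Function.Injective P)
    (hPc : ∀ i, IsClosed ({P i} : Set ↥(CohB1.ProjSpace n k))) (hZ : IsClosed (Set.range P))
    (X : Scheme.{u}) (π : X ⟶ CohB1.ProjSpace n k)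
    (hπ : BlowUp.IsBlowUp π (Scheme.IdealSheafData.vanishingIdeal ⟨Set.range P, hZ⟩))
    (c : ℤ) (hc : -(n : ℤ) ≤ c) (d : Fin s → ℕ) :
    Subsingleton (Coh.HH X (CohB1.tensorMod ((Scheme.Modules.pullback π).obj (Twist.twistProjSpace n k c))
        (FGA.multiTwist (fun t : Fin s =>
          ClSub.idealMod ((Scheme.IdealSheafData.vanishingIdeal ⟨{P t}, hPc t⟩).comap π)) d)) n) := by
  obtain ⟨m, rfl⟩ : ∃ m, n = m + 1 := ⟨n - 1, by omega⟩
  haveI := H02CA.BlowPts.isLocallyNoetherian_blowUp hπ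
  exact H02CA.BlowPts.subsingleton_of_data hP hPc hπ c d fun D =>
    D.cvan_two (by omega) d (by omega) (by omega) (by omega)

end Groth.Agent.S18622
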