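import Groth.Statements.S18623
import Groth.Agent.H02CA.BlowPts.Rows2
import Groth.Agent.H16Derived.PBQCNeg
import Groth.Agent.H10Coh.TwistExact
import Groth.Agent.H10Coh.HHSeq

set_option autoImplicit false
universe u
open VBPn

namespace Groth.Agent.S18623

open CategoryTheory CategoryTheory.Limits AlgebraicGeometry TopologicalSpace in
/-- For one blown-up point; let k be an algebraically closed field of characteristic zero, n ≥ 3, p a
closed point of P^n_k and π : X → P^n_k a blow-up of P^n_k in the ideal of p (universal property),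
with exceptional divisor e₁ whose ideal sheaf is the inverse image ideal, and O_X(e₀) = π^*O(1); put
O_X(c e₀ − d e₁) = π^*O(c) ⊗ (ideal of e₁)^{⊗ d} for c ∈ ℤ, d ≥ 0. If d = 0, or if 0 < d ≤ c, then
H^1(X, O_X(c e₀ − d e₁)) = 0. (The published statement also covers no point blown up, where it is
the vanishing of H^1(P^n, O(c)).) -/
theorem result (k : Type u) [Field k] [IsAlgClosed k] [CharZero k]
    (n : ℕ) (hn : 3 ≤ n) (p : ↥(CohB1.ProjSpace n k)) (hp : IsClosed ({p} : Set ↥(CohB1.ProjSpace n k)))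
    (X : Scheme.{u}) (π : X ⟶ CohB1.ProjSpace n k)
    (hπ : BlowUp.IsBlowUp π (Scheme.IdealSheafData.vanishingIdeal ⟨{p}, hp⟩))
    (c : ℤ) (d : ℕ) (hcd : d = 0 ∨ (0 < d ∧ (d : ℤ) ≤ c)) :
    Subsingleton (Coh.HH X (CohB1.tensorMod ((Scheme.Modules.pullback π).obj (Twist.twistProjSpace n k c))
      (CohB1.tensorPow (ClSub.idealMod (BlowUp.exceptional π (Scheme.IdealSheafData.vanishingIdeal ⟨{p}, hp⟩))) d)) 1) := by
  obtain ⟨m, rfl⟩ : ∃ m, n = m + 1 := ⟨n - 1, by omega⟩
  letI := H28Vert.picLaw (Y := X)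
  have hset : Set.range (fun _ : Fin 1 => p) = {p} := Set.range_const
  have hP : Function.Injective (fun _ : Fin 1 => p) := fun a b _ => Subsingleton.elim a b
  have hI : (⟨Set.range (fun _ : Fin 1 => p), hset ▸ hp⟩ : TopologicalSpace.Closeds ↥(CohB1.ProjSpace (m + 1) k)) =
      ⟨{p}, hp⟩ := TopologicalSpace.Closeds.ext hset
  have hπ' : BlowUp.IsBlowUp π (H02CA.BlowPts.IZ (fun _ : Fin 1 => p) (hset ▸ hp)) := by
    rw [H02CA.BlowPts.IZ, hI]; exact hπ
  haveI := H02CA.BlowPts.isLocallyNoetherian_blowUp hπ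
  obtain ⟨D, hsec, hh', hu⟩ := H02CA.BlowPts.exists_single hP (fun _ => hp) hπ'
  obtain ⟨hi, he⟩ := H02CA.BlowPts.cls_pow_mod hP (fun _ => hp) hπ' D hh' hu c d
  have key : H02CA.BlowPts.CVan 1 (D.cl' c d) := by
    rcases hcd with rfl | ⟨-, hdc⟩
    · rw [D.cl'_eq, Nat.cast_zero, zpow_zero, mul_one]
      exact D.cvan_pow (by omega) Nat.one_pos (fun h => absurd h (by omega)) (Or.inl (by omega))
    · exact D.cvan_high (by omega) le_rfl hsec le_rfl (by omega) (by omega)
  have hres := (H02CA.BlowPts.cvan_iff hi).1 (he ▸ key)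
  rwa [H02CA.BlowPts.IZ, hI] at hres

end Groth.Agent.S18623
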