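import Groth.Statements.S18624
import Groth.Agent.H02CA.BlowPts.PtAcm
import Groth.Agent.H16Derived.PBQCNeg

set_option autoImplicit false
universe u
open VBPn

namespace Groth.Agent.S18624

open CategoryTheory CategoryTheory.Limits AlgebraicGeometry TopologicalSpace in
/-- The bundles are arithmetically Cohen–Macaulay: let k be an algebraically closed field of
characteristic zero, n ≥ 3, Z a set of s ≤ 1 closed points of P^n_k and π : X → P^n_k a blow-up of
P^n_k in the ideal of the reduced set Z (universal property; for s = 0 this is P^n_k itself). Write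
O_X(e₀) = π^*O(1), let I_E be the exceptional ideal (inverse image ideal of Z), and let H be the
anticanonical module, H ≅ π^*O(n+1) ⊗ I_E^{⊗(n−1)}, with a tensor inverse H′. Let g : Q → P be an
epimorphism of O_X-modules with Q ≅ O_X(e₀)^b and P ≅ O_X(2e₀)^a (a matrix of linear forms) whose
induced map on global sections H^0(X, Q) → H^0(X, P) is surjective, and let G = ker g. Then G has no
intermediate cohomology with respect to H: for 1 ≤ i ≤ n − 1 and every t ≥ 0, H^i(X, G ⊗ H^{⊗t}) = 0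
and H^i(X, G ⊗ H′^{⊗t}) = 0. (The published statement asserts this for the dual bundle E = G^∨ and
for a, b of a particular shape; since X is smooth and proper with canonical module H′ and G is
locally free, Serre duality exchanges the two families of vanishings, and the argument uses nothing
about a, b beyond the displayed presentation and the surjectivity on global sections.) -/
theorem result (k : Type u) [Field k] [IsAlgClosed k] [CharZero k]
    (n : ℕ) (hn : 3 ≤ n) (s : ℕ) (P : Fin s → ↥(CohB1.ProjSpace n k)) (hP : Function.Injective P)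
    (hPc : ∀ i, IsClosed ({P i} : Set ↥(CohB1.ProjSpace n k))) (hZ : IsClosed (Set.range P))
    (X : Scheme.{u}) (π : X ⟶ CohB1.ProjSpace n k)
    (hπ : BlowUp.IsBlowUp π (Scheme.IdealSheafData.vanishingIdeal ⟨Set.range P, hZ⟩)) (hs : s ≤ 1)
    (a b : ℕ) (Q₂ P₂ : X.Modules)
    (hQ₂ : Nonempty (Q₂ ≅ ∐ fun _ : Fin b => (Scheme.Modules.pullback π).obj (Twist.twistProjSpace n k 1)))
    (hP₂ : Nonempty (P₂ ≅ ∐ fun _ : Fin a => (Scheme.Modules.pullback π).obj (Twist.twistProjSpace n k 2)))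
    (g : Q₂ ⟶ P₂) [Epi g]
    (hg0 : Function.Surjective (Sheaf.H.map ((SheafOfModules.toSheaf X.ringCatSheaf).map g) 0))
    (Hm Hi : X.Modules)
    (hHm : Nonempty (Hm ≅ CohB1.tensorMod ((Scheme.Modules.pullback π).obj (Twist.twistProjSpace n k ((n : ℤ) + 1)))
      (CohB1.tensorPow (ClSub.idealMod (BlowUp.exceptional π (Scheme.IdealSheafData.vanishingIdeal ⟨Set.range P, hZ⟩))) (n - 1))))
    (hHi : ClSub.IsInverseOf Hi Hm) (i t : ℕ) (hi : 1 ≤ i) (hin : i + 1 ≤ n) :
    Subsingleton (Coh.HH X (CohB1.tensorMod (kernel g) (CohB1.tensorPow Hm t)) i) ∧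
      Subsingleton (Coh.HH X (CohB1.tensorMod (kernel g) (CohB1.tensorPow Hi t)) i) := by
  obtain ⟨m, rfl⟩ : ∃ m, n = m + 1 := ⟨n - 1, by omega⟩
  letI := H28Vert.picLaw (Y := X)
  haveI := H02CA.BlowPts.isLocallyNoetherian_blowUp hπ
  obtain ⟨D, hsec, hh', hu⟩ := H02CA.BlowPts.exists_single hP hPc hπ
  obtain ⟨hi', he⟩ := H02CA.BlowPts.cls_pow_mod hP hPc hπ D hh' hu (((m + 1 : ℕ) : ℤ) + 1) (m + 1 - 1)
  obtain ⟨φ⟩ := hHm
  have hH : PicF.IsInvertible Hm := H11Tilde.isInvertible_of_iso φ.symm hi'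
  have hHi' : PicF.IsInvertible Hi := H16Derived.PBQC.isInvertible_of_inverse hH
    ⟨H10Coh.Tw.commIso _ _ ≪≫ hHi.some⟩
  have hc : PicGrp.cls Hm hH = D.cl' ((m : ℤ) + 2) m := by
    rw [H02CA.BlowPts.cls_eq_of_iso hH hi' ⟨φ⟩, he]
    congr 1
  have hg : Function.Surjective (g.app ⊤) := fun y => by
    obtain ⟨x, hx⟩ := hg0 ((H10Coh.HH0Equiv P₂).symm y)
    refine ⟨H10Coh.HH0Equiv Q₂ x, ?_⟩
    rw [← H28NT.HH0Equiv_map, show LeadFF.Hm g 0 x = (H10Coh.HH0Equiv P₂).symm y from hx, AddEquiv.apply_symm_apply]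
  constructor
  · refine H02CA.BlowPts.kernel_acm D (by omega) hs hsec hh' hQ₂ hP₂ g hg t (H28Vert.isInvertible_tensorPow hH t) ?_ hi (by omega)
    rw [H28Vert.cls_tensorPow hH, hc, H02CA.BlowPts.cl'_pow]
  · refine H02CA.BlowPts.kernel_acm D (by omega) hs hsec hh' hQ₂ hP₂ g hg (-(t : ℤ)) (H28Vert.isInvertible_tensorPow hHi' t) ?_ hi (by omega)
    rw [H28Vert.cls_tensorPow hHi', H02CA.BlowPts.cls_inverse hHi' hH hHi, hc, H02CA.BlowPts.cl'_inv,
      H02CA.BlowPts.cl'_pow]
    congr 1 <;> ring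

end Groth.Agent.S18624
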