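import Groth.Statements.S18625
import Groth.Agent.H02CA.Quad.Coker

set_option autoImplicit false
universe u
open VBPn

namespace Groth.Agent.S18625

open CategoryTheory CategoryTheory.Limits AlgebraicGeometry TopologicalSpace in
/-- Let k be an algebraically closed field of characteristic zero and X = P¹_k ×_k P¹_k the smooth
quadric surface, O(a, b) = pr₁^*O(a) ⊗ pr₂^*O(b). Let r ≥ 2 and let f : P → Q₁ ⊞ Q₂ be a
monomorphism of O_X-modules with P ≅ O(−1,−1)^r, Q₁ ≅ O(−1,0)^r and Q₂ ≅ O(0,−1)^r (a 2r × r matrix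
of linear forms, the Q₁-block in the coordinates of one factor and the Q₂-block in those of the
other), whose cokernel E is finite locally free of rank r. Assume that the stabiliser of f in
Aut(Q₁) × Aut(Q₂) × Aut(P) is the scalars: whenever automorphisms β₁ of Q₁, β₂ of Q₂ and γ of P
satisfy γ ≫ f = f ≫ (β₁ ⊕ β₂), there is one c ∈ k with β₁, β₂ and γ all multiplication by c. Then E
is simple: every endomorphism of E is multiplication by a scalar of k. (The published statement
takes f the transpose of a general matrix and obtains a scalar stabiliser for each of the two r × r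
blocks separately from a result it quotes; for r ≥ 2 a square matrix of linear forms in two
variables never has scalar stabiliser, so that block-wise property holds for no f, and the printed
argument needs only the property of f as a whole, which is the hypothesis here.) -/
theorem result (k : Type u) [Field k] [IsAlgClosed k] [CharZero k]
    (r : ℕ) (P₁ Q₁ Q₂ : (pullback (CohB1.ProjSpace.toSpec 1 k) (CohB1.ProjSpace.toSpec 1 k)).Modules)
    (hP₁ : Nonempty (P₁ ≅ ∐ fun _ : Fin r => CohB1.tensorMod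
        ((Scheme.Modules.pullback (pullback.fst (CohB1.ProjSpace.toSpec 1 k) (CohB1.ProjSpace.toSpec 1 k))).obj
          (Twist.twistProjSpace 1 k (-1)))
        ((Scheme.Modules.pullback (pullback.snd (CohB1.ProjSpace.toSpec 1 k) (CohB1.ProjSpace.toSpec 1 k))).obj
          (Twist.twistProjSpace 1 k (-1)))))
    (hQ₁ : Nonempty (Q₁ ≅ ∐ fun _ : Fin r => CohB1.tensorMod
        ((Scheme.Modules.pullback (pullback.fst (CohB1.ProjSpace.toSpec 1 k) (CohB1.ProjSpace.toSpec 1 k))).obj
          (Twist.twistProjSpace 1 k (-1)))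
        ((Scheme.Modules.pullback (pullback.snd (CohB1.ProjSpace.toSpec 1 k) (CohB1.ProjSpace.toSpec 1 k))).obj
          (Twist.twistProjSpace 1 k (0)))))
    (hQ₂ : Nonempty (Q₂ ≅ ∐ fun _ : Fin r => CohB1.tensorMod
        ((Scheme.Modules.pullback (pullback.fst (CohB1.ProjSpace.toSpec 1 k) (CohB1.ProjSpace.toSpec 1 k))).obj
          (Twist.twistProjSpace 1 k (0)))
        ((Scheme.Modules.pullback (pullback.snd (CohB1.ProjSpace.toSpec 1 k) (CohB1.ProjSpace.toSpec 1 k))).obj
          (Twist.twistProjSpace 1 k (-1)))))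
    (f : P₁ ⟶ Q₁ ⊞ Q₂) [Mono f] (hE : FlatMod.IsFinLocFreeOfRank r (cokernel f))
    (hr : 2 ≤ r)
    (hstab : ∀ (β₁ : Q₁ ≅ Q₁) (β₂ : Q₂ ≅ Q₂) (γ : P₁ ≅ P₁), γ.hom ≫ f = f ≫ biprod.map β₁.hom β₂.hom →
      ∃ c : k, (SheafOfModules.toSheaf _).map β₁.hom = Coh.smulAb Q₁ (Coh.toGlobal (pullback.fst (CohB1.ProjSpace.toSpec 1 k) (CohB1.ProjSpace.toSpec 1 k) ≫ CohB1.ProjSpace.toSpec 1 k) c) ∧
        (SheafOfModules.toSheaf _).map β₂.hom = Coh.smulAb Q₂ (Coh.toGlobal (pullback.fst (CohB1.ProjSpace.toSpec 1 k) (CohB1.ProjSpace.toSpec 1 k) ≫ CohB1.ProjSpace.toSpec 1 k) c) ∧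
        (SheafOfModules.toSheaf _).map γ.hom = Coh.smulAb P₁ (Coh.toGlobal (pullback.fst (CohB1.ProjSpace.toSpec 1 k) (CohB1.ProjSpace.toSpec 1 k) ≫ CohB1.ProjSpace.toSpec 1 k) c)) :
    ∀ φ : cokernel f ⟶ cokernel f, ∃ c : k, (SheafOfModules.toSheaf _).map φ =
      Coh.smulAb (cokernel f) (Coh.toGlobal (pullback.fst (CohB1.ProjSpace.toSpec 1 k) (CohB1.ProjSpace.toSpec 1 k) ≫ CohB1.ProjSpace.toSpec 1 k) c) := by
  letI := H28Vert.picLaw (Y := pullback (CohB1.ProjSpace.toSpec 1 k) (CohB1.ProjSpace.toSpec 1 k))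
  obtain ⟨D, e₁, e₂, -, -⟩ := H02CA.Quad.exists_qdata (k := k)
  exact H02CA.Quad.coker_simple D e₁ e₂ hP₁ hQ₁ hQ₂ f hstab

end Groth.Agent.S18625
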