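import Groth.Statements.S18626
import Groth.Agent.H27ConeHilb.Main
import Groth.Agent.H27ConeHilb.Degree
import Groth.Agent.S2324

set_option backward.isDefEq.respectTransparency false
set_option backward.isDefEq.respectTransparency.types false
set_option linter.style.haveILetI false

set_option autoImplicit false
universe u
open HilbD

namespace Groth.Agent.S18626

open CategoryTheory CategoryTheory.Limits AlgebraicGeometry TopologicalSpace in
/-- Let k be an algebraically closed field of characteristic zero and X ⊆ P^N_k an n-dimensional cone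
with vertex p = [0 : … : 0 : 1] over a projective variety Y ⊆ P^{N−1} = {x_N = 0}: X is an integral
closed subscheme, ι : X → P^N_k a closed immersion over k whose ideal sheaf is generated by finitely
many homogeneous forms G_j in which the last variable x_N does not occur, of dimension n, and of
degree deg X = ∫ c_1(O_X(1))^n (the intersection number of n copies of O_X(1) = ι^*O(1), computed
with the tensor inverse ι^*O(−1)). For s ≥ 0 let Hilb^s(X) be a scheme H over k with a universal
family of closed subschemes of X ×_k T finite locally free of degree s over T (a representing pair;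
representability is assumed through this datum, not asserted). If n > 2 and deg X > 1, or n = 2 and
deg X > 4, then there is an s₀ such that Hilb^s(X) is reducible for every s ≥ s₀. -/
theorem result (k : Type u) [Field k] [IsAlgClosed k] [CharZero k]
    (N n : ℕ) {m : ℕ} {a : Fin m → ℕ} (G : ∀ j, LefPen.Form N k (a j))
    (hG : ∀ j, ∀ mono ∈ (G j).1.support, mono (Fin.last N) = 0)
    (X : Scheme.{u}) [X.Over (Spec (CommRingCat.of k))] [AlgebraicGeometry.IsIntegral X]
    (ι : X ⟶ CohB1.ProjSpace N k) [IsClosedImmersion ι]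
    (hιk : ι ≫ CohB1.ProjSpace.toSpec N k = X ↘ (Spec (CommRingCat.of k)))
    (hker : ι.ker = LefPen.ciIdeal G) (hdim : topologicalKrullDim X = n) (deg : ℤ)
    (hdeg : FGA.intNum k X n (fun _ : Fin n => (Scheme.Modules.pullback ι).obj (Twist.twistProjSpace N k (-1)))
      (Coh.structureModule X) = deg)
    (h : (2 < n ∧ 1 < deg) ∨ (n = 2 ∧ 4 < deg)) :
    ∃ s₀ : ℕ, ∀ s : ℕ, s₀ ≤ s → ∀ (H : Over (Spec (CommRingCat.of k))) (Z : HilbD.Obj (X ↘ (Spec (CommRingCat.of k))) s H),
      HilbD.IsUniversal (X ↘ (Spec (CommRingCat.of k))) s H Z → ¬ IrreducibleSpace ↥H.left := by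
  have hA : CohB1.IsAmple ((Scheme.Modules.pullback ι).obj (Twist.twistProjSpace N k 1)) :=
    H11Ample.isAmple_pullback_of_isAffineHom ι (H11Ample.isAmple_twistProjSpace N k)
  haveI : IsProper (X ↘ Spec (CommRingCat.of k)) := by rw [← hιk]; infer_instance
  haveI : CompactSpace X := QuasiCompact.compactSpace_of_compactSpace (X ↘ Spec (CommRingCat.of k))
  haveI : X.IsSeparated := ⟨by rw [← terminal.comp_from (X ↘ Spec (CommRingCat.of k))]; infer_instance⟩
  have haff : ∀ (d : ℕ) (x : Fin d → X), ∃ U : X.Opens, IsAffineOpen U ∧ ∀ i, x i ∈ U := fun d x => by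
    obtain ⟨m, t, ht, -, hU⟩ := Groth.Agent.S2324.result X _ hA (Set.range x) (Set.finite_range x) ⊤ (by simp)
    exact ⟨_, hU, fun i => ht ⟨i, rfl⟩⟩
  obtain ⟨_, _, _, π, hw, hπ, hB, hne, hπdh⟩ := H27ConeHilb.exists_chart G hG ι hιk hker hdim
  haveI := hne
  refine H27ConeHilb.exists_not_irreducible (X ↘ Spec (CommRingCat.of k)) haff
    (H27ConeHilb.isAffineOpen_vopen ι).fromSpec hw π hπ hB fun P hP hev => ?_
  rcases h with ⟨hn, -⟩ | ⟨hn, hdeg4⟩
  · exact Or.inl hn
  · subst hn
    obtain ⟨r₀, hr₀⟩ := hev
    have h4 := H27ConeHilb.deg_le ι π hιk hw hπdh hdim deg hdeg P hP r₀ hr₀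
    have : (4 : ℚ) < deg := by exact_mod_cast hdeg4
    exact Or.inr ⟨rfl, by linarith⟩

end Groth.Agent.S18626
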