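import Groth.Statements.S18627
import Groth.Agent.H02CA.Quad.Rows

set_option autoImplicit false
universe u
open VBPn

namespace Groth.Agent.S18627

open CategoryTheory CategoryTheory.Limits AlgebraicGeometry TopologicalSpace in
/-- Let k be an algebraically closed field of characteristic zero and X = P¹_k ×_k P¹_k the smooth
quadric surface, O(a, b) = pr₁^*O(a) ⊗ pr₂^*O(b), polarised by the anticanonical module H = O(2, 2)
(which embeds X in P⁸). Let r ≥ 2 and let m : Q₁ ⊞ Q₂ → P be an epimorphism of O_X-modules with Q₁ ≅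
O(1,0)^r, Q₂ ≅ O(0,1)^r and P ≅ O(1,1)^r whose induced map H^0(X, Q₁ ⊞ Q₂) → H^0(X, P) is
surjective, and F = ker m (a vector bundle of rank r). Then H^0(X, F) = 0, H^1(X, F) = 0, H^2(X, F ⊗
O(−2,−2)) = 0, and H^1(X, F ⊗ O(2t, 2t)) = 0 for every t ∈ ℤ. (The published statement says that
E(H) is an initialized Ulrich bundle for E = F^∨; by Serre duality on X, whose canonical module is
O(−2,−2), its vanishing part, that E has no intermediate cohomology in any twist by H, is equivalent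
to the H^1-vanishings stated here, and its statement that E is initialized, H^0(X, E) = 0, to the
H^2-vanishing; the argument establishes the vanishings for F and for E symmetrically; the count
h^0(E(H)) = 8r is not restated.) -/
theorem result (k : Type u) [Field k] [IsAlgClosed k] [CharZero k]
    (r : ℕ) (hr : 2 ≤ r) (Q₁ Q₂ P₂ : (pullback (CohB1.ProjSpace.toSpec 1 k) (CohB1.ProjSpace.toSpec 1 k)).Modules)
    (hQ₁ : Nonempty (Q₁ ≅ ∐ fun _ : Fin r => CohB1.tensorMod
        ((Scheme.Modules.pullback (pullback.fst (CohB1.ProjSpace.toSpec 1 k) (CohB1.ProjSpace.toSpec 1 k))).obj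
          (Twist.twistProjSpace 1 k (1)))
        ((Scheme.Modules.pullback (pullback.snd (CohB1.ProjSpace.toSpec 1 k) (CohB1.ProjSpace.toSpec 1 k))).obj
          (Twist.twistProjSpace 1 k (0)))))
    (hQ₂ : Nonempty (Q₂ ≅ ∐ fun _ : Fin r => CohB1.tensorMod
        ((Scheme.Modules.pullback (pullback.fst (CohB1.ProjSpace.toSpec 1 k) (CohB1.ProjSpace.toSpec 1 k))).obj
          (Twist.twistProjSpace 1 k (0)))
        ((Scheme.Modules.pullback (pullback.snd (CohB1.ProjSpace.toSpec 1 k) (CohB1.ProjSpace.toSpec 1 k))).obj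
          (Twist.twistProjSpace 1 k (1)))))
    (hP₂ : Nonempty (P₂ ≅ ∐ fun _ : Fin r => CohB1.tensorMod
        ((Scheme.Modules.pullback (pullback.fst (CohB1.ProjSpace.toSpec 1 k) (CohB1.ProjSpace.toSpec 1 k))).obj
          (Twist.twistProjSpace 1 k (1)))
        ((Scheme.Modules.pullback (pullback.snd (CohB1.ProjSpace.toSpec 1 k) (CohB1.ProjSpace.toSpec 1 k))).obj
          (Twist.twistProjSpace 1 k (1)))))
    (m : Q₁ ⊞ Q₂ ⟶ P₂) [Epi m]
    (hm0 : Function.Surjective (Sheaf.H.map ((SheafOfModules.toSheaf _).map m) 0)) :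
    Subsingleton (Coh.HH _ (kernel m) 0) ∧ Subsingleton (Coh.HH _ (kernel m) 1) ∧
      Subsingleton (Coh.HH _ (CohB1.tensorMod (kernel m) (CohB1.tensorMod
        ((Scheme.Modules.pullback (pullback.fst (CohB1.ProjSpace.toSpec 1 k) (CohB1.ProjSpace.toSpec 1 k))).obj
          (Twist.twistProjSpace 1 k (-2)))
        ((Scheme.Modules.pullback (pullback.snd (CohB1.ProjSpace.toSpec 1 k) (CohB1.ProjSpace.toSpec 1 k))).obj
          (Twist.twistProjSpace 1 k (-2))))) 2) ∧
      ∀ t : ℤ, Subsingleton (Coh.HH _ (CohB1.tensorMod (kernel m) (CohB1.tensorMod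
        ((Scheme.Modules.pullback (pullback.fst (CohB1.ProjSpace.toSpec 1 k) (CohB1.ProjSpace.toSpec 1 k))).obj
          (Twist.twistProjSpace 1 k (2 * t)))
        ((Scheme.Modules.pullback (pullback.snd (CohB1.ProjSpace.toSpec 1 k) (CohB1.ProjSpace.toSpec 1 k))).obj
          (Twist.twistProjSpace 1 k (2 * t))))) 1) := by
  letI := H28Vert.picLaw (Y := pullback (CohB1.ProjSpace.toSpec 1 k) (CohB1.ProjSpace.toSpec 1 k))
  obtain ⟨D, e₁, e₂, o₁, o₂⟩ := H02CA.Quad.exists_qdata (k := k)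
  have hg : Function.Surjective (m.app ⊤) := fun y => by
    obtain ⟨x, hx⟩ := hm0 ((H10Coh.HH0Equiv P₂).symm y)
    refine ⟨H10Coh.HH0Equiv _ x, ?_⟩
    rw [← H28NT.HH0Equiv_map]
    exact (congrArg (H10Coh.HH0Equiv P₂) hx).trans (AddEquiv.apply_symm_apply _ y)
  refine ⟨H02CA.Quad.kernel_h0 D e₁ e₂ o₁ o₂ hQ₁ hQ₂ hP₂ m hm0, ?_, ?_, fun t => ?_⟩
  · obtain ⟨hb, cb⟩ := H02CA.Quad.box_cls D e₁ e₂ 0 0
    obtain ⟨i⟩ : Nonempty (H02CA.Quad.box (k := k) 0 0 ≅ Coh.structureModule _) := by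
      rw [← PicGrp.cls_eq_one_iff hb, cb, H02CA.Quad.QData.cl, zpow_zero, zpow_zero, one_mul]
    exact H10Coh.subsingleton_HH_of_iso
      (PicGrp.tensorModIso (Iso.refl (kernel m)) i ≪≫ SecTwist.unitorR (kernel m)) 1
      (H02CA.Quad.kernel_van D e₁ e₂ hQ₁ hQ₂ hP₂ m hb cb 0 (D.cvan_one (by norm_num) (by norm_num))
        (D.cvan_one (by norm_num) (by norm_num)) (Or.inr ⟨rfl, hg, le_rfl⟩))
  · obtain ⟨hb, cb⟩ := H02CA.Quad.box_cls D e₁ e₂ (-2) (-2)
    exact H02CA.Quad.kernel_van D e₁ e₂ hQ₁ hQ₂ hP₂ m hb cb 1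
      (D.cvan_two' le_rfl (Or.inl (by norm_num))) (D.cvan_two' le_rfl (Or.inr (by norm_num)))
      (Or.inl (D.cvan_one (by norm_num) (by norm_num)))
  · obtain ⟨hb, cb⟩ := H02CA.Quad.box_cls D e₁ e₂ (2 * t) (2 * t)
    rcases le_or_gt 0 t with ht | ht
    · exact H02CA.Quad.kernel_van D e₁ e₂ hQ₁ hQ₂ hP₂ m hb cb 0 (D.cvan_one (by omega) (by omega))
        (D.cvan_one (by omega) (by omega)) (Or.inr ⟨rfl, hg, by omega⟩)
    · exact H02CA.Quad.kernel_van D e₁ e₂ hQ₁ hQ₂ hP₂ m hb cb 0 (D.cvan_one_neg (by omega) (by omega))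
        (D.cvan_one_neg (by omega) (by omega)) (Or.inl (D.cvan_zero' (Or.inl (by omega))))

end Groth.Agent.S18627
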