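import Groth.Statements.S18628
import Groth.Agent.H02CA.BlowPts.Rows2
import Groth.Agent.H16Derived.PBQCNeg
import Groth.Agent.H10Coh.TwistExact
import Groth.Agent.H10Coh.HHSeq

set_option autoImplicit false
universe u
open VBPn

namespace Groth.Agent.S18628

open CategoryTheory CategoryTheory.Limits AlgebraicGeometry TopologicalSpace in
/-- Let k be an algebraically closed field of characteristic zero, n ≥ 3, Z a set of s ≤ 1 closed points
of P^n_k and π : X → P^n_k a blow-up of P^n_k in the ideal of the reduced set Z (universal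
property), with O_X(e₀) = π^*O(1), exceptional ideal I_E (inverse image ideal of Z) and
anticanonical module H ≅ π^*O(n+1) ⊗ I_E^{⊗(n−1)}. Let f : P → Q be a monomorphism of O_X-modules
with P ≅ O_X(−2e₀)^a and Q ≅ O_X(−e₀)^b, and E = coker f. Then H^i(X, E ⊗ H^{⊗t}) = 0 for every 1 ≤
i ≤ n − 1 and every t ≥ 0. (This is the part of the published statement 'E is arithmetically
Cohen–Macaulay' that concerns non-negative twists; it needs no genericity of f.) -/
theorem result (k : Type u) [Field k] [IsAlgClosed k] [CharZero k]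
    (n : ℕ) (hn : 3 ≤ n) (s : ℕ) (P : Fin s → ↥(CohB1.ProjSpace n k)) (hP : Function.Injective P)
    (hPc : ∀ i, IsClosed ({P i} : Set ↥(CohB1.ProjSpace n k))) (hZ : IsClosed (Set.range P))
    (X : Scheme.{u}) (π : X ⟶ CohB1.ProjSpace n k)
    (hπ : BlowUp.IsBlowUp π (Scheme.IdealSheafData.vanishingIdeal ⟨Set.range P, hZ⟩)) (hs : s ≤ 1)
    (a b : ℕ) (P₁ Q₁ : X.Modules)
    (hP₁ : Nonempty (P₁ ≅ ∐ fun _ : Fin a => (Scheme.Modules.pullback π).obj (Twist.twistProjSpace n k (-2))))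
    (hQ₁ : Nonempty (Q₁ ≅ ∐ fun _ : Fin b => (Scheme.Modules.pullback π).obj (Twist.twistProjSpace n k (-1))))
    (f : P₁ ⟶ Q₁) [Mono f] (Hm : X.Modules)
    (hHm : Nonempty (Hm ≅ CohB1.tensorMod ((Scheme.Modules.pullback π).obj (Twist.twistProjSpace n k ((n : ℤ) + 1)))
      (CohB1.tensorPow (ClSub.idealMod (BlowUp.exceptional π (Scheme.IdealSheafData.vanishingIdeal ⟨Set.range P, hZ⟩))) (n - 1))))
    (i t : ℕ) (hi : 1 ≤ i) (hin : i + 1 ≤ n) :
    Subsingleton (Coh.HH X (CohB1.tensorMod (cokernel f) (CohB1.tensorPow Hm t)) i) := by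
  obtain ⟨m, rfl⟩ : ∃ m, n = m + 1 := ⟨n - 1, by omega⟩
  letI := H28Vert.picLaw (Y := X)
  haveI := H02CA.BlowPts.isLocallyNoetherian_blowUp hπ
  obtain ⟨D, hsec, hh', hu⟩ := H02CA.BlowPts.exists_single hP hPc hπ
  obtain ⟨hi', he⟩ := H02CA.BlowPts.cls_pow_mod hP hPc hπ D hh' hu (((m + 1 : ℕ) : ℤ) + 1) (m + 1 - 1)
  obtain ⟨φ⟩ := hHm
  have hH : PicF.IsInvertible Hm := H11Tilde.isInvertible_of_iso φ.symm hi'
  have hc : PicGrp.cls _ (H28Vert.isInvertible_tensorPow hH t) = D.cl' (((m : ℤ) + 2) * t) ((m : ℤ) * t) := by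
    rw [H28Vert.cls_tensorPow hH, H02CA.BlowPts.cls_eq_of_iso hH hi' ⟨φ⟩, he, H02CA.BlowPts.cl'_pow]
    congr 1 <;> push_cast <;> ring
  have key : ∀ (e : ℤ) (q : ℕ), -2 ≤ e → e ≤ 0 → 1 ≤ q →
      H02CA.BlowPts.CVan q (D.cl' (e + ((m : ℤ) + 2) * t) ((m : ℤ) * t)) := by
    intro e q he0 he1 hq
    rcases Nat.eq_zero_or_pos t with rfl | ht0
    · simp only [Nat.cast_zero, mul_zero, add_zero]
      rw [D.cl'_eq, zpow_zero, mul_one]
      exact D.cvan_pow (by omega) hq (fun _ => by omega) (Or.inr (by omega))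
    · have : (1 : ℤ) ≤ t := by exact_mod_cast ht0
      exact D.cvan_high (by omega) hs hsec hq (by nlinarith) (by nlinarith)
  have hS : (ShortComplex.mk f (cokernel.π f) (cokernel.condition f)).ShortExact :=
    { exact := ShortComplex.exact_cokernel _ }
  have hT := H10Coh.Tw.shortExact_seq hS (H28Vert.isInvertible_tensorPow hH t)
  obtain ⟨h2, e2⟩ := H02CA.BlowPts.cls_pullback_twist (k := k) π (-2)
  obtain ⟨h1, e1⟩ := H02CA.BlowPts.cls_pullback_twist (k := k) π (-1)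
  refine H10Coh.HHSeq.subsingleton₃ hT ?_ ?_
  · refine H02CA.BlowPts.sigma_tensor_van hQ₁ h1 (H28Vert.isInvertible_tensorPow hH t) ?_ (key (-1) i (by omega) (by omega) hi)
    rw [e1, hc, D.cl'_eq, D.cl'_eq, hh', H02CA.BlowPts.hh, zpow_add, mul_assoc]
  · refine H02CA.BlowPts.sigma_tensor_van hP₁ h2 (H28Vert.isInvertible_tensorPow hH t) ?_ (key (-2) (i + 1) (by omega) (by omega) (by omega))
    rw [e2, hc, D.cl'_eq, D.cl'_eq, hh', H02CA.BlowPts.hh, zpow_add, mul_assoc]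

end Groth.Agent.S18628
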