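import Groth.Statements.S18631
import Groth.Agent.H02CA.SurfStab.Main
import Groth.Agent.H02CA.BlowPts.CokerHom

set_option autoImplicit false
universe u
open VBPn

namespace Groth.Agent.S18631

open CategoryTheory CategoryTheory.Limits AlgebraicGeometry TopologicalSpace Opposite in
set_option maxHeartbeats 1000000 in
/-- Let k be an algebraically closed field of characteristic zero and X ⊆ P³_k a smooth integral surface
of degree d ≥ 4: ι : X → P³_k a closed immersion over k whose ideal is that of one form F of degree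
d, X proper and smooth over k of dimension 2, polarised by the ample L = ι^*O(1); assume Pic X is
generated by O_X(1), i.e. every invertible O_X-module is isomorphic to ι^*O(n) for some integer n.
Let Z ⊆ X be a closed subscheme with finite support such that H⁰(X, I_Z ⊗ ι^*O(d−2)) = 0, and let 0
→ O_X → E → I_Z ⊗ ι^*O(d−1) → 0 be a short exact sequence of O_X-modules with E finite locally free
of rank 2. Then E is slope-stable (of dimension 2, with respect to L). (The published statement is
for the rank-2 Ulrich bundles on a general degree-d surface, 4 ≤ d ≤ 15, which come with such a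
presentation and vanishing; its argument uses about generality only that Pic X is generated by
O_X(1), and about E only the displayed data; it concludes through the quoted criterion that a rank-2
bundle on such an X is slope-stable once its normalised twist has no sections.) -/
theorem result (k : Type u) [Field k] [IsAlgClosed k] [CharZero k]
    (X : Scheme.{u}) [X.Over (Spec (CommRingCat.of k))] [AlgebraicGeometry.IsIntegral X]
    [IsProper (X ↘ (Spec (CommRingCat.of k)))] [Smooth (X ↘ (Spec (CommRingCat.of k)))]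
    (hdim : topologicalKrullDim X = 2)
    (ι : X ⟶ CohB1.ProjSpace 3 k) [IsClosedImmersion ι] (hιk : ι ≫ CohB1.ProjSpace.toSpec 3 k = X ↘ (Spec (CommRingCat.of k)))
    (hL : CohB1.IsAmple ((Scheme.Modules.pullback ι).obj (Twist.twistProjSpace 3 k (1))))
    (d : ℕ) (hd : 4 ≤ d) (F : LefPen.Form 3 k d) (hF : ι.ker = LefPen.hypIdeal F)
    (hPic : ∀ M : X.Modules, PicF.IsInvertible M → ∃ n : ℤ, Nonempty (M ≅ ((Scheme.Modules.pullback ι).obj (Twist.twistProjSpace 3 k (n)))))
    (Z : X.IdealSheafData) (hZfin : (Z.support : Set X).Finite)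
    (hZ : Subsingleton (Coh.HH X (CohB1.tensorMod (ClSub.idealMod Z) ((Scheme.Modules.pullback ι).obj (Twist.twistProjSpace 3 k ((d : ℤ) - 2)))) 0))
    (S : ShortComplex X.Modules) (hS : S.ShortExact)
    (h₁ : Nonempty (S.X₁ ≅ Coh.structureModule X))
    (h₃ : Nonempty (S.X₃ ≅ CohB1.tensorMod (ClSub.idealMod Z) ((Scheme.Modules.pullback ι).obj (Twist.twistProjSpace 3 k ((d : ℤ) - 1)))))
    (hE : FlatMod.IsFinLocFreeOfRank 2 S.X₂) :
    ShStab.IsMuStable k X ((Scheme.Modules.pullback ι).obj (Twist.twistProjSpace 3 k (1))) S.X₂ 2 := by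
  letI := Groth.Agent.H28Vert.picLaw (Y := X)
  letI := Groth.Agent.H28Vert.picLaw (Y := CohB1.ProjSpace 3 k)
  let O : ℤ → X.Modules := fun n => (Scheme.Modules.pullback ι).obj (Twist.twistProjSpace 3 k n)
  have hP := H10Coh.Stab.isTwistFamily_projSpace 3 k
  have hO : H10Coh.Stab.IsTwistFamily O := hP.pullback ι
  refine H02CA.SurfStab.isMuStable hdim (O := O) hO hL (d := d) (by omega) (fun a => ?_) hPic Z hZfin ?_ S hS h₁ h₃ hE
  · obtain ⟨A, hA, s, hc, hs⟩ := H02CA.Quad.exists_gen_pow (ι (genericPoint X)) a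
    obtain ⟨i⟩ : Nonempty (A ≅ Twist.twistProjSpace 3 k (a : ℤ)) := by
      refine (PicGrp.cls_eq_cls_iff hA (hP.inv a)).1 ?_
      rw [hc, H02CA.BlowPts.cls_family hP a]; rfl
    refine ⟨((Scheme.Modules.pullback ι).mapIso i).hom.app ⊤ (H11Ample.pullTop ι s), fun h0 => ?_⟩
    have hη : genericPoint X ∈ H11Ample.gen ((Scheme.Modules.pullback ι).obj A) (H11Ample.pullTop ι s) :=
      (H11P1n.gen_pullTop ι hA s).ge hs
    have hs0 : H11Ample.pullTop ι s = 0 := by
      haveI := Scheme.Modules.Hom.isIso_iff_isIso_app.mp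
        (inferInstance : IsIso ((Scheme.Modules.pullback ι).mapIso i).hom) (⊤ : X.Opens)
      exact (ConcreteCategory.bijective_of_isIso (((Scheme.Modules.pullback ι).mapIso i).hom.app ⊤)).1
        (h0.trans (map_zero _).symm)
    have hb := (H11Ample.mem_gen_iff (PicLoc.isInvertible_pullback ι hA) _ _).1 hη
    rw [hs0, map_zero] at hb
    exact zero_ne_one (hb.1 (a₁ := (0 : X.presheaf.stalk (genericPoint X))) (a₂ := 1) (by simp))
  intro v
  obtain ⟨e⟩ : Nonempty (CohB1.tensorMod (O (-1)) (O 1) ≅ Coh.structureModule X) :=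
    let ⟨x⟩ := hO.add (-1) 1; let ⟨y⟩ := hO.zero; ⟨x ≪≫ y⟩
  obtain ⟨e'⟩ : Nonempty (CohB1.tensorMod (O (-1)) (CohB1.tensorMod (ClSub.idealMod Z) (O ((d : ℤ) - 1))) ≅
      CohB1.tensorMod (ClSub.idealMod Z) (O ((d : ℤ) - 2))) := by
    obtain ⟨x⟩ := hO.add ((d : ℤ) - 1) (-1)
    exact ⟨H10Coh.Tw.commIso _ _ ≪≫ H11Ample.tensorAssocIso _ _ _ ≪≫ ((DCoh.tensorBi (X := X)).obj
      (ClSub.idealMod Z)).mapIso (x ≪≫ eqToIso (congrArg O (by omega)))⟩
  let T := (DCoh.tensorBi (X := X)).obj (O (-1))
  haveI : T.IsEquivalence := H15Site.Invertible.isEquivalence_of_iso_unit (O := X.sheaf) e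
  haveI : T.PreservesZeroMorphisms := Functor.preservesZeroMorphisms_of_full T
  let φ : Coh.structureModule X ⟶ CohB1.tensorMod (ClSub.idealMod Z) (O ((d : ℤ) - 2)) := e.inv ≫ T.map v ≫ e'.hom
  haveI : Subsingleton Γ(CohB1.tensorMod (ClSub.idealMod Z) (O ((d : ℤ) - 2)), ⊤) :=
    haveI := hZ
    ((H10Coh.HHEquiv (CohB1.tensorMod (ClSub.idealMod Z) (O ((d : ℤ) - 2))) 0).trans (H10Coh.H0Equiv
      (H10Coh.sh (CohB1.tensorMod (ClSub.idealMod Z) (O ((d : ℤ) - 2)))) (⊤ : X.Opens))).symm.toEquiv.subsingleton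
  have hφ : φ = 0 := Scheme.Modules.hom_ext _ _ fun W => by
    ext r
    rw [H06Mod.app_unit φ W r, show φ.app ⊤ (1 : Γ(X, ⊤)) = 0 from Subsingleton.elim _ _, map_zero, smul_zero]
    rfl
  refine T.map_injective ?_
  have h1 : T.map v ≫ e'.hom = e.hom ≫ φ := (e.hom_inv_id_assoc _).symm
  rw [hφ, comp_zero] at h1
  rw [T.map_zero]
  exact (cancel_mono e'.hom).1 (h1.trans zero_comp.symm)

end Groth.Agent.S18631
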