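import Groth.Statements.S18632
import Groth.Agent.H02CA.BlowPts.Rows2
import Groth.Agent.H16Derived.PBQCNeg
import Groth.Agent.H10Coh.TwistExact
import Groth.Agent.H10Coh.HHSeq

set_option autoImplicit false
universe u
open VBPn

namespace Groth.Agent.S18632

open CategoryTheory CategoryTheory.Limits AlgebraicGeometry TopologicalSpace in
/-- Let k be an algebraically closed field of characteristic zero, n ≥ 3, Z a set of s ≤ 1 closed points
of P^n_k and π : X → P^n_k a blow-up of P^n_k in the ideal of the reduced set Z (universal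
property), with exceptional ideal I_E (inverse image ideal of Z) and anticanonical module H ≅
π^*O(n+1) ⊗ I_E^{⊗(n−1)}, with a tensor inverse H′. Then H^i(X, H^{⊗t}) = 0 and H^i(X, H′^{⊗t}) = 0
for every 1 ≤ i ≤ n − 1 and every t ≥ 0: O_X has no intermediate cohomology in any anticanonical
twist. (The published statement is that X, embedded by the very ample H, is arithmetically
Cohen–Macaulay; the part asserting that the ideal of the embedded X has no H¹ in any twist is not
restated.) -/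
theorem result (k : Type u) [Field k] [IsAlgClosed k] [CharZero k]
    (n : ℕ) (hn : 3 ≤ n) (s : ℕ) (P : Fin s → ↥(CohB1.ProjSpace n k)) (hP : Function.Injective P)
    (hPc : ∀ i, IsClosed ({P i} : Set ↥(CohB1.ProjSpace n k))) (hZ : IsClosed (Set.range P))
    (X : Scheme.{u}) (π : X ⟶ CohB1.ProjSpace n k)
    (hπ : BlowUp.IsBlowUp π (Scheme.IdealSheafData.vanishingIdeal ⟨Set.range P, hZ⟩)) (hs : s ≤ 1)
    (Hm Hi : X.Modules)
    (hHm : Nonempty (Hm ≅ CohB1.tensorMod ((Scheme.Modules.pullback π).obj (Twist.twistProjSpace n k ((n : ℤ) + 1)))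
      (CohB1.tensorPow (ClSub.idealMod (BlowUp.exceptional π (Scheme.IdealSheafData.vanishingIdeal ⟨Set.range P, hZ⟩))) (n - 1))))
    (hHi : ClSub.IsInverseOf Hi Hm) (i t : ℕ) (hi : 1 ≤ i) (hin : i + 1 ≤ n) :
    Subsingleton (Coh.HH X (CohB1.tensorPow Hm t) i) ∧ Subsingleton (Coh.HH X (CohB1.tensorPow Hi t) i) := by
  obtain ⟨m, rfl⟩ : ∃ m, n = m + 1 := ⟨n - 1, by omega⟩
  letI := H28Vert.picLaw (Y := X)
  haveI := H02CA.BlowPts.isLocallyNoetherian_blowUp hπ
  obtain ⟨D, hsec, hh', hu⟩ := H02CA.BlowPts.exists_single hP hPc hπ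
  obtain ⟨hi', he⟩ := H02CA.BlowPts.cls_pow_mod hP hPc hπ D hh' hu (((m + 1 : ℕ) : ℤ) + 1) (m + 1 - 1)
  obtain ⟨φ⟩ := hHm
  have hH : PicF.IsInvertible Hm := H11Tilde.isInvertible_of_iso φ.symm hi'
  have hHi' : PicF.IsInvertible Hi := H16Derived.PBQC.isInvertible_of_inverse hH
    ⟨H10Coh.Tw.commIso _ _ ≪≫ hHi.some⟩
  have hc : PicGrp.cls Hm hH = D.cl' ((m : ℤ) + 2) m := by
    rw [H02CA.BlowPts.cls_eq_of_iso hH hi' ⟨φ⟩, he]
    congr 1
  have hc' : PicGrp.cls Hi hHi' = D.cl' (-((m : ℤ) + 2)) (-(m : ℤ)) := by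
    rw [H02CA.BlowPts.cls_inverse hHi' hH hHi, hc, H02CA.BlowPts.cl'_inv]
  have ht : (0 : ℤ) ≤ t := Int.natCast_nonneg t
  have hmt : (0 : ℤ) ≤ (m : ℤ) * t := mul_nonneg (Int.natCast_nonneg m) ht
  constructor
  · rw [← H02CA.BlowPts.cvan_iff (H28Vert.isInvertible_tensorPow hH t), H28Vert.cls_tensorPow hH, hc,
      H02CA.BlowPts.cl'_pow]
    exact D.cvan_high (by omega) hs hsec hi (by linarith) (by nlinarith)
  · rw [← H02CA.BlowPts.cvan_iff (H28Vert.isInvertible_tensorPow hHi' t), H28Vert.cls_tensorPow hHi', hc',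
      H02CA.BlowPts.cl'_pow]
    rcases Nat.eq_zero_or_pos t with rfl | ht0
    · simp only [Nat.cast_zero, mul_zero]
      exact D.cvan_high (by omega) hs hsec hi (by omega) (by omega)
    · exact D.cvan_low (by omega) hs hsec hi (by omega) (by nlinarith) (by nlinarith)

end Groth.Agent.S18632
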