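import Groth.Statements.S18633
import Groth.Agent.H28RR.DelPezzo

set_option autoImplicit false
universe u
open CategoryTheory CategoryTheory.Limits AlgebraicGeometry TopologicalSpace
open Groth.Agent
open Surf

namespace Groth.Agent.S18633

/-- Let k be an algebraically closed field of characteristic zero and X a strong del Pezzo surface over
k: an integral scheme, proper and smooth over k of dimension 2, with canonical module W (a second
exterior power of Ω_{X/k}) and a tensor inverse D of W which is very ample relative to k — there is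
a closed immersion ι : X → P^N_k over k with ι^*O(1) ≅ D. Assume H¹(X, O_X) = 0. Then H¹(X, D^{⊗m})
= 0 and H¹(X, W^{⊗m}) = 0 for every m ≥ 0; that is, H¹(X, O_X(m)) = 0 for all m ∈ ℤ in the
anticanonical embedding X ⊆ P^d. (The published statement is that the anticanonically embedded X is
arithmetically Cohen–Macaulay; its argument obtains H¹(X, O_X) = 0 from the rationality of del Pezzo
surfaces, quoted, and that vanishing is the hypothesis here; the part about H¹ of the twisted ideal
sheaves of X is not restated.) -/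
theorem result (k : Type u) [Field k] [IsAlgClosed k] [CharZero k] (X : Scheme.{u})
    [X.Over (Spec (CommRingCat.of k))] [IsIntegral X] [IsProper (X ↘ (Spec (CommRingCat.of k)))] [Smooth (X ↘ (Spec (CommRingCat.of k)))]
    (hdim : topologicalKrullDim X = 2)
    (W : X.Modules) (hW : ExtPow.IsExtPow 2 (Omega.sheaf (X ↘ (Spec (CommRingCat.of k)))) W)
    (D : X.Modules) (hD : ClSub.IsInverseOf D W)
    (hva : ∃ (N : ℕ) (ι : X ⟶ CohB1.ProjSpace N k), IsClosedImmersion ι ∧
      ι ≫ CohB1.ProjSpace.toSpec N k = X ↘ (Spec (CommRingCat.of k)) ∧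
      Nonempty ((Scheme.Modules.pullback ι).obj (Twist.twistProjSpace N k 1) ≅ D))
    (hq : Subsingleton (Coh.HH X (Coh.structureModule X) 1)) (m : ℕ) :
    Subsingleton (Coh.HH X (CohB1.tensorPow D m) 1) ∧ Subsingleton (Coh.HH X (CohB1.tensorPow W m) 1) := by
  obtain ⟨N, ι, hι, -, ⟨eD⟩⟩ := hva
  haveI := hι
  letI := H28Vert.picLaw (Y := X)
  haveI := H28Int.isNoetherian k (X := X)
  have hDa : CohB1.IsAmple D := H11Ample.isAmple_of_iso eD
    (H11Ample.isAmple_pullback_of_isAffineHom ι (H11Ample.isAmple_twistProjSpace N k))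
  have hDi : PicF.IsInvertible D := (H11Ample.isAmple_iff.1 hDa).1
  have hWi := H28RR.isInvertible_canonical k hdim hW
  have hmul : PicGrp.cls D hDi * PicGrp.cls W hWi = (1 : PicLoc.PicSet X) :=
    Subtype.ext (by rw [PicGrp.cls_mul_cls_val, PicGrp.one_val]; exact Quot.sound hD)
  have hA : CohB1.IsAmple (H28RR.PicNum.rep (PicGrp.cls D hDi)) :=
    H11Ample.isAmple_of_iso (H28RR.PicNum.nonempty_rep_iso hDi).some.symm hDa
  have hq' : H28RR.PicNum.hc k 1 (1 : PicLoc.PicSet X) = 0 := by
    rw [← PicGrp.cls_structureModule_eq_one, H28RR.PicNum.hc_cls]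
    exact Module.finrank_zero_of_subsingleton
  obtain ⟨h1, h2⟩ := H28RR.DelPezzo.h1_pow k hdim hW hmul hA hq' m
  rw [← H28Vert.cls_tensorPow hDi, H28RR.PicNum.hc_cls] at h1
  rw [← H28Vert.cls_tensorPow hWi, H28RR.PicNum.hc_cls] at h2
  haveI := H10Coh.finite_HH_proper k X _
    (H11Ample.isCoh_of_isInvertible (H11Ample.isInvertible_tensorPow hDi m)) 1
  haveI := H10Coh.finite_HH_proper k X _
    (H11Ample.isCoh_of_isInvertible (H11Ample.isInvertible_tensorPow hWi m)) 1
  exact ⟨(Module.finrank_zero_iff (R := k)).1 h1, (Module.finrank_zero_iff (R := k)).1 h2⟩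

end Groth.Agent.S18633
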