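import Groth.Statements.S18634
import Groth.Agent.S18636
import Groth.Agent.H4Gr.InjDim

set_option autoImplicit false
universe u
open GrLC

namespace Groth.Agent.S18634

/-- Let R be a commutative Noetherian ℤ-graded ring and M a graded R-module which is *injective, that
is, an injective object of the category of graded R-modules with degree-preserving maps. Then the
injective dimension of M as an ordinary R-module is at most 1. (The published item compares the
graded and the ordinary injective dimensions of an arbitrary graded module; the published proof
reduces to and establishes exactly this *injective case, from which the ordinary injective dimension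
of any graded module is at most one more than its graded injective dimension.) -/
theorem result (R : Type u) [CommRing R] [IsNoetherianRing R] (𝒜 : ℤ → AddSubgroup R) [GradedRing 𝒜] (M : Type u) [AddCommGroup M] [Module R M] (ℳ : ℤ → AddSubgroup M) [DirectSum.Decomposition ℳ] [SetLike.GradedSMul 𝒜 ℳ] (hM : GrLC.IsStarInj 𝒜 ℳ) : CategoryTheory.HasInjectiveDimensionLT (ModuleCat.of R M) 2 := by
  refine H05EGA4.hasInjectiveDimensionLT_of_ext_quotient 1 (ModuleCat.of R M) fun J =>
    H4Gr.subsingleton_ext_of_bassNum M 2 (fun p _ => ?_) J
  by_cases hp : Ideal.IsHomogeneous 𝒜 p
  · exact H4Gr.bassNum_eq_zero_of_isStarInj hM hp 1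
  · haveI := H4Gr.isPrime_homogeneousCore 𝒜 p
    exact ((S18636.result R 𝒜 M ℳ p hp).2 1).trans
      (H4Gr.bassNum_eq_zero_of_isStarInj hM (Ideal.homogeneousCore 𝒜 p).isHomogeneous 0)

end Groth.Agent.S18634
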