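import Groth.Statements.S18635
import Groth.Agent.S18636
import Groth.Agent.H4Gr.InjDim

set_option autoImplicit false
universe u
open GrLC

namespace Groth.Agent.S18635

/-- Let R be a commutative Noetherian ℤ-graded ring and M a *injective graded R-module (an injective
object of the category of graded R-modules). Then M fails to be injective as an ordinary R-module —
equivalently, since a *injective graded module has ordinary injective dimension at most 1, its
ordinary injective dimension is exactly 1 — if and only if there is a prime ideal p of R which is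
not graded and whose graded core p* (the largest graded ideal contained in p, itself a prime) is an
associated prime of M. -/
theorem result (R : Type u) [CommRing R] [IsNoetherianRing R] (𝒜 : ℤ → AddSubgroup R) [GradedRing 𝒜] (M : Type u) [AddCommGroup M] [Module R M] (ℳ : ℤ → AddSubgroup M) [DirectSum.Decomposition ℳ] [SetLike.GradedSMul 𝒜 ℳ] (hM : GrLC.IsStarInj 𝒜 ℳ) : ¬ Module.Injective R M ↔ ∃ p : Ideal R, p.IsPrime ∧ ¬ Ideal.IsHomogeneous 𝒜 p ∧ (Ideal.homogeneousCore 𝒜 p).toIdeal ∈ associatedPrimes R M := by
  constructor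
  · intro h
    by_contra hc
    push Not at hc
    refine h (H4Gr.injective_of_bassNum_one M fun p hpp => ?_)
    by_cases hp : Ideal.IsHomogeneous 𝒜 p
    · exact H4Gr.bassNum_eq_zero_of_isStarInj hM hp 0
    · haveI := H4Gr.isPrime_homogeneousCore 𝒜 p
      refine ((S18636.result R 𝒜 M ℳ p hp).2 0).trans (not_not.1 fun h0 => hc p hpp hp ?_)
      exact (H4Gr.bassNum_zero_ne_zero_iff 𝒜 ℳ (Ideal.homogeneousCore 𝒜 p).isHomogeneous).1 h0
  · rintro ⟨p, hpp, hp, hass⟩ hinj
    haveI := hpp
    haveI := H4Gr.isPrime_homogeneousCore 𝒜 p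
    refine (H4Gr.bassNum_zero_ne_zero_iff 𝒜 ℳ (Ideal.homogeneousCore 𝒜 p).isHomogeneous).2 hass ?_
    exact ((S18636.result R 𝒜 M ℳ p hp).2 0).symm.trans (H4Gr.bassNum_eq_zero_of_injective p M hinj 0)

end Groth.Agent.S18635
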