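import Groth.Statements.S18637
import Groth.Agent.S18636
import Groth.Agent.H4Gr.InjDim

set_option autoImplicit false
universe u
open GrLC

namespace Groth.Agent.S18637

/-- Let R be a commutative Noetherian ℤ-graded ring and m a maximal ideal of R which is graded. If e :
R/m → E is a *injective envelope of R/m in the category of graded R-modules (E graded and
*injective, e degree-preserving and injective, every nonzero graded submodule of E meeting the
image), then e is an injective hull of R/m as an ordinary R-module: E is an injective R-module and e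
is an essential injection. -/
theorem result (R : Type u) [CommRing R] [IsNoetherianRing R] (𝒜 : ℤ → AddSubgroup R) [GradedRing 𝒜] (m : HomogeneousIdeal 𝒜) [m.toIdeal.IsMaximal] (E' : Type u) [AddCommGroup E'] [Module R E'] (𝓔 : ℤ → AddSubgroup E') [DirectSum.Decomposition 𝓔] [SetLike.GradedSMul 𝒜 𝓔] (e : (R ⧸ m.toIdeal) →ₗ[R] E') (he : GrLC.IsStarInjHull 𝒜 (GrLC.quotGr 𝒜 m) 𝓔 e) : InjHull.IsInjectiveHull e := by
  have hz := H4Gr.isStarEss_qPieces_zero he.toIsStarEss
  letI : DirectSum.Decomposition (H4Gr.qPieces m 0) := (H4Gr.isInternal_qPieces m 0).chooseDecomposition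
  refine ⟨H4Gr.isEssentialInj_of_isStarEss 𝒜 hz, H4Gr.injective_of_bassNum_one E' fun p hpp => ?_⟩
  by_cases hp : Ideal.IsHomogeneous 𝒜 p
  · exact H4Gr.bassNum_eq_zero_of_isStarInj he.starInj hp 0
  · haveI := H4Gr.isPrime_homogeneousCore 𝒜 p
    refine ((S18636.result R 𝒜 E' 𝓔 p hp).2 0).trans (not_not.1 fun h0 => hp ?_)
    have hq := H4Gr.eq_of_mem_associatedPrimes hz
      ((H4Gr.bassNum_zero_ne_zero_iff 𝒜 𝓔 (Ideal.homogeneousCore 𝒜 p).isHomogeneous).1 h0)
    have hle : m.toIdeal ≤ p := hq ▸ Ideal.toIdeal_homogeneousCore_le 𝒜 p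
    rw [← Ideal.IsMaximal.eq_of_le inferInstance hpp.ne_top hle]
    exact m.isHomogeneous

end Groth.Agent.S18637
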