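import Groth.Statements.S18638
import Groth.Agent.H4GD.GorCanon

set_option autoImplicit false
universe u
open GrLC

namespace Groth.Agent.S18638

/-- Let R be a graded ring defined over a field which is Cohen–Macaulay, and K_R its canonical module.
Then R is Gorenstein exactly when K_R is isomorphic to a degree shift R(a) of R for some integer a,
that is, there is a bijective R-linear map R → K_R homogeneous of some fixed degree. Here 'graded
ring defined over a field' means R = ⊕_{n ≥ 0} R_n is Noetherian with R_0 a field (so R is finitely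
generated over R_0), m = R_+ is its unique graded maximal ideal and n = dim R; the canonical module
K_R (the graded dual of H^n_m(R)) is represented by a finitely generated graded module C together
with a homogeneous isomorphism from Hom_R(C, E) onto H^n_m(R), where E is a *injective envelope of
R/m and H^n_m(R) is computed from a *injective resolution of R in the graded category; by graded
Matlis duality this says exactly that C ≅ K_R as graded modules. -/
theorem result (R : Type u) [CommRing R] [LocCoh.IsCohenMacaulayRing R] (𝒜 : ℤ → AddSubgroup R) [GradedRing 𝒜] (hpos : ∀ n : ℤ, n < 0 → 𝒜 n = ⊥) (h0 : IsField (GrLC.deg0 𝒜)) (m : HomogeneousIdeal 𝒜) (hm : GrLC.IsStarLocal 𝒜 m) (hmsp : m.toIdeal = Ideal.span (⋃ n ∈ Set.Ioi (0 : ℤ), (𝒜 n : Set R))) (n : ℕ) (hn : ringKrullDim R = n) (I : GrLC.StarInjRes 𝒜 𝒜) (E' : Type u) [AddCommGroup E'] [Module R E'] (𝓔 : ℤ → AddSubgroup E') [DirectSum.Decomposition 𝓔] [SetLike.GradedSMul 𝒜 𝓔] (e : (R ⧸ m.toIdeal) →ₗ[R] E') (he : GrLC.IsStarInjHull 𝒜 (GrLC.quotGr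 𝒜 m) 𝓔 e) (C : Type u) [AddCommGroup C] [Module R C] (𝒞 : ℤ → AddSubgroup C) [DirectSum.Decomposition 𝒞] [SetLike.GradedSMul 𝒜 𝒞] (hC : GrLC.IsStarCanonical 𝒜 𝒞 𝓔 m n I) : LocCoh.IsGorensteinRing R ↔ ∃ (a : ℤ) (f : R →ₗ[R] C), Function.Bijective f ∧ GrLC.IsGrHomDeg 𝒜 𝒞 f a := by
  letI := h0.toField
  exact H4GD.isGorensteinRing_iff_exists_shift (k := GrLC.deg0 𝒜) (fun c => c.2)
    (fun x hx => ⟨⟨x, hx⟩, rfl⟩) hpos hmsp hm hn I he hC

end Groth.Agent.S18638
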