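import Groth.Statements.S18639
import Groth.Agent.H4GD.CanonType
import Groth.Agent.H4GD.GorCanon

set_option autoImplicit false
universe u
open GrLC

namespace Groth.Agent.S18639

/-- Let R be a graded ring defined over a field which is Cohen–Macaulay, with graded maximal ideal m and
canonical module K_R. Then (i) K_R is a Cohen–Macaulay R-module — stated here at m: the localisation
of K_R at m is a Cohen–Macaulay module over R_m, which is what the published proof computes (the Ext
groups of the residue field into K_R vanish outside degree n = dim R) — and (ii) K_R has finite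
injective dimension as an R-module. Here 'graded ring defined over a field' means R = ⊕_{n ≥ 0} R_n
is Noetherian with R_0 a field (so R is finitely generated over R_0), m = R_+ is its unique graded
maximal ideal and n = dim R; the canonical module K_R (the graded dual of H^n_m(R)) is represented
by a finitely generated graded module C together with a homogeneous isomorphism from Hom_R(C, E)
onto H^n_m(R), where E is a *injective envelope of R/m and H^n_m(R) is computed from a *injective
resolution of R in the graded category; by graded Matlis duality this says exactly that C ≅ K_R as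
graded modules. -/
theorem result (R : Type u) [CommRing R] [LocCoh.IsCohenMacaulayRing R] (𝒜 : ℤ → AddSubgroup R) [GradedRing 𝒜] (hpos : ∀ n : ℤ, n < 0 → 𝒜 n = ⊥) (h0 : IsField (GrLC.deg0 𝒜)) (m : HomogeneousIdeal 𝒜) (hm : GrLC.IsStarLocal 𝒜 m) (hmsp : m.toIdeal = Ideal.span (⋃ n ∈ Set.Ioi (0 : ℤ), (𝒜 n : Set R))) [m.toIdeal.IsMaximal] (n : ℕ) (hn : ringKrullDim R = n) (I : GrLC.StarInjRes 𝒜 𝒜) (E' : Type u) [AddCommGroup E'] [Module R E'] (𝓔 : ℤ → AddSubgroup E') [DirectSum.Decomposition 𝓔] [SetLike.GradedSMul 𝒜 𝓔] (e : (R ⧸ m.toIdeal) →ₗ[R] E') (he : GrLC.IsStarInjHull 𝒜 (GrLC.quotGr 𝒜 m) 𝓔 e) (C : Type u) [AddCommGroup C] [Module R C] (𝒞 : ℤ → AddSubgroup C) [DirectSum.Decomposition 𝒞] [SetLike.GradedSMul 𝒜 𝒞] (hC : GrLC.IsStarCanonical 𝒜 𝒞 𝓔 m n I) : LocCoh.IsCohenMacaulayModule (Localization.AtPrime m.toIdeal) (LocalizedModule m.toIdeal.primeCompl C) ∧ ∃ N : ℕ, CategoryTheory.HasInjectiveDimensionLT (ModuleCat.of R C) N := by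
  open Groth.Agent in
  haveI : IsNoetherianRing R := inferInstance
  let A := Localization.AtPrime m.toIdeal
  haveI := LocCoh.IsCohenMacaulayRing.isCohenMacaulayLocalRing_localization (R := R) m.toIdeal
  have hd : ringKrullDim A = n := by
    rw [IsLocalization.AtPrime.ringKrullDim_eq_height m.toIdeal A, H4GD.height_eq hpos hm hn]; rfl
  obtain ⟨g, hg⟩ := H4GD.exists_hull_localized_star he
  obtain ⟨eK⟩ := H4GD.nonempty_localized_canonical he I hC hg
  haveI : Module.Finite R C := hC.1
  haveI : Module.Finite A (LocalizedModule m.toIdeal.primeCompl C) :=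
    Module.Finite.of_isLocalizedModule m.toIdeal.primeCompl (LocalizedModule.mkLinearMap _ C)
  exact ⟨(H4LC.depth_canon hg hd eK).2, n + 2, H4GD.hasInjectiveDimensionLT_of_localized (ℳ := 𝒞) hm n
    (H4Goren.hasInjectiveDimensionLT_of_eva (A := A) _ (H4LC.eva_canon hg hd eK))⟩

end Groth.Agent.S18639
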