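import Groth.Statements.S1864
import Groth.Agent.H19Grp.Components
import Groth.Agent.H19Grp.GrpToGrpd
import Groth.Agent.H17.Topology
import Mathlib

set_option autoImplicit false
set_option linter.style.haveILetI false
universe u v
open CategoryTheory MonoidalCategory CartesianMonoidalCategory MonObj GrpObj AlgebraicGeometry
open GrpSch

namespace Groth.Agent.S1864

open CategoryTheory CategoryTheory.Limits MonoidalCategory CartesianMonoidalCategory MonObj GrpObj in
theorem comp_mulRight {K : Type u} [Field K] {G : Over (Spec (CommRingCat.of K))} [GrpObj G]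
    (a b : 𝟙_ (Over (Spec (CommRingCat.of K))) ⟶ G) : a ≫ (GrpObj.mulRight b).hom = a * b := by
  rw [GrpObj.mulRight_hom, ← Hom.mul_def, MonObj.comp_mul, Category.comp_id, ← Category.assoc,
    toUnit_unique (a ≫ toUnit G) (𝟙 _), Category.id_comp]


/-- Let G be a group scheme locally of finite type over an algebraically closed field and g₁, …, g_n
finitely many closed points of G. Then some affine open of G contains all the g_i. -/
theorem result (K : Type u) [Field K] [IsAlgClosed K] (G : Over (Spec (CommRingCat.of K))) [GrpObj G] [LocallyOfFiniteType G.hom] (n : ℕ) (g : Fin n → G.left) (hg : ∀ i, IsClosed ({g i} : Set G.left)) : ∃ U : G.left.Opens, IsAffineOpen U ∧ ∀ i, g i ∈ U := by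
  classical
  haveI := LocallyOfFiniteType.jacobsonSpace G.hom
  haveI : IsLocallyNoetherian G.left := LocallyOfFiniteType.isLocallyNoetherian G.hom
  haveI : LocallyConnectedSpace G.left :=
    Groth.Agent.H17.locallyConnectedSpace_of_locallyNoetherian fun x => by
      obtain ⟨_, ⟨(V : G.left.Opens), (hV : IsAffineOpen V), rfl⟩, hxV, -⟩ :=
        G.left.isBasis_affineOpens.exists_subset_of_mem_open (Set.mem_univ x) isOpen_univ
      haveI : IsNoetherianRing Γ(G.left, V) := IsLocallyNoetherian.component_noetherian ⟨V, hV⟩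
      refine ⟨V, V.2.mem_nhds hxV, ?_⟩
      exact hV.isoSpec.hom.homeomorph.isEmbedding.noetherianSpace
  set e := Groth.Agent.H19Grp.ePt (Groth.Agent.H19Grp.grpToGrpd G) (Iso.refl _) with he
  have hirr : IsIrreducible (connectedComponent (α := G.left) e) :=
    (Groth.Agent.H19Grp.component_unit (Groth.Agent.H19Grp.grpToGrpd G) (Iso.refl _)).1
  have hU : ∀ C : Set.range (fun i => connectedComponent (g i)), ∃ U : G.left.Opens,
      IsAffineOpen U ∧ (U : Set G.left) ⊆ C.1 ∧ (U : Set G.left).Nonempty := by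
    rintro ⟨_, i, rfl⟩
    obtain ⟨_, ⟨(V : G.left.Opens), (hV : IsAffineOpen V), rfl⟩, hxV, hsub⟩ :=
      G.left.isBasis_affineOpens.exists_subset_of_mem_open (mem_connectedComponent (x := g i))
        isOpen_connectedComponent
    exact ⟨V, hV, hsub, g i, hxV⟩
  choose U hUa hUsub hUne using hU
  have hUtot : IsAffineOpen (iSup U) := by
    refine IsAffineOpen.iSup_of_disjoint hUa fun C C' hne => ?_
    refine TopologicalSpace.Opens.coe_disjoint.mp (Set.disjoint_of_subset (hUsub C) (hUsub C') ?_)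
    obtain ⟨i, hi⟩ := C.2
    obtain ⟨j, hj⟩ := C'.2
    rw [← hi, ← hj]
    refine connectedComponent_disjoint fun h => hne (Subtype.ext ?_)
    rw [← hi, ← hj]; exact h
  let p : Fin n → (𝟙_ (Over (Spec (CommRingCat.of K))) ⟶ G) := fun i =>
    Over.homMk (pointOfClosedPoint G.hom (g i) (hg i)) (pointOfClosedPoint_comp _ _ _)
  have hp : ∀ i a, (p i).left a = g i := fun i a => pointOfClosedPoint_apply _ _ _ _
  let φ : Fin n → (G ⟶ G) := fun i => ι[G] ≫ (GrpObj.mulRight (p i)).hom
  have hinv : ι[G] ≫ ι[G] = 𝟙 G := by simp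
  haveI : ∀ i, IsIso (φ i).left := fun i => by
    haveI : IsIso ι[G] := ⟨ι[G], hinv, hinv⟩
    haveI : IsIso (φ i) := inferInstance
    exact inferInstanceAs (IsIso ((Over.forget _).map (φ i)))
  have hφe : ∀ i, (φ i).left e = g i := fun i => by
    show (η[G] ≫ φ i).left _ = _
    have : η[G] ≫ φ i = p i := by
      rw [← Category.assoc, GrpObj.one_inv, comp_mulRight, MonObj.one_eq_one, _root_.one_mul]
    rw [this]
    exact hp i _
  obtain ⟨_, ⟨z₀, hz₀, hz₀'⟩⟩ : ∃ O : Set G.left,
      (connectedComponent (α := G.left) e ∩ ⋂₀ ↑(Finset.univ.image fun i =>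
        (φ i).left ⁻¹' (iSup U : G.left.Opens))).Nonempty := by
    refine ⟨∅, isIrreducible_iff_sInter.mp hirr _ (fun O hO => ?_) fun O hO => ?_⟩
    · obtain ⟨i, -, rfl⟩ := Finset.mem_image.mp hO
      exact (iSup U).2.preimage (φ i).left.continuous
    · obtain ⟨i, -, rfl⟩ := Finset.mem_image.mp hO
      obtain ⟨u, hu⟩ := hUne ⟨_, i, rfl⟩
      refine ⟨inv (φ i).left u, ?_, ?_⟩
      · have h1 := (inv (φ i).left).continuous.mapsTo_connectedComponent (g i)
          (hUsub ⟨_, i, rfl⟩ hu)
        have h2 : inv (φ i).left (g i) = e := by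
          rw [← hφe i, ← Scheme.Hom.comp_apply, IsIso.hom_inv_id]; rfl
        rwa [h2] at h1
      · show (φ i).left (inv (φ i).left u) ∈ (iSup U : G.left.Opens)
        rw [← Scheme.Hom.comp_apply, IsIso.inv_hom_id]
        exact TopologicalSpace.Opens.mem_iSup.mpr ⟨_, hu⟩
  have hz₀U : ∀ i, (φ i).left z₀ ∈ (iSup U : G.left.Opens) := fun i =>
    hz₀' _ (Finset.mem_image_of_mem _ (Finset.mem_univ i))
  obtain ⟨z, ⟨-, hzU⟩, hz⟩ := nonempty_inter_closedPoints (X := G.left)
    (Z := connectedComponent e ∩ ⋂ i, (φ i).left ⁻¹' (iSup U : G.left.Opens))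
    ⟨z₀, hz₀, Set.mem_iInter.mpr hz₀U⟩
    (isClosed_connectedComponent.isLocallyClosed.inter
      (isOpen_iInter_of_finite fun i => (iSup U).2.preimage (φ i).left.continuous).isLocallyClosed)
  let pz : 𝟙_ (Over (Spec (CommRingCat.of K))) ⟶ G :=
    Over.homMk (pointOfClosedPoint G.hom z hz) (pointOfClosedPoint_comp _ _ _)
  let T : G ⟶ G := ι[G] ≫ (GrpObj.mulRight pz).hom ≫ ι[G]
  haveI : IsIso T.left := by
    haveI : IsIso ι[G] := ⟨ι[G], hinv, hinv⟩
    haveI : IsIso T := inferInstance
    exact inferInstanceAs (IsIso ((Over.forget _).map T))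
  refine ⟨T.left ⁻¹ᵁ iSup U, hUtot.preimage T.left, fun i => ?_⟩
  have h : p i ≫ T = pz ≫ φ i := by
    simp only [T, φ, ← Category.assoc]
    rw [← Hom.inv_def, ← Hom.inv_def, comp_mulRight, comp_mulRight, ← Hom.inv_def]
    simp
  show T.left (g i) ∈ iSup U
  have h2 : T.left (g i) = (φ i).left z := by
    have h3 : T.left ((p i).left (IsLocalRing.closedPoint K)) =
        (φ i).left (pz.left (IsLocalRing.closedPoint K)) :=
      congrArg (fun q : 𝟙_ (Over (Spec (CommRingCat.of K))) ⟶ G =>
        q.left (IsLocalRing.closedPoint K)) h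
    exact (congrArg T.left (hp i _)).symm.trans
      (h3.trans (congrArg (φ i).left (pointOfClosedPoint_apply _ _ _ _)))
  rw [h2]
  exact Set.mem_iInter.mp hzU i

end Groth.Agent.S1864
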