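import Groth.Statements.S18642
import Groth.Agent.H4Ver.Extend
import Groth.Agent.H4Ver.Std

set_option autoImplicit false
universe u
open GrLC

namespace Groth.Agent.S18642

/-- Let R be a graded ring defined over a field which is Cohen–Macaulay and generated over R_0 by R_1,
with dim R ≥ 2, and let q ≥ 1. If the Veronese subring R^(q) is a Gorenstein ring, then R is a
Gorenstein ring and q divides the a-invariant a(R). Here 'graded ring defined over a field' means R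
= ⊕_{n ≥ 0} R_n is Noetherian with R_0 a field, and m = R_+ is its unique graded maximal ideal. The
a-invariant a(R) is the largest degree in which the graded local cohomology H^n_m(R) (n = dim R, m =
R_+), computed from a *injective resolution of R in the graded category, is nonzero. The Veronese
subring R^(q) = ⊕_j R_{jq}, regraded by (R^(q))_j = R_{jq}, is presented abstractly as a ℤ-graded
ring R' with an injective ring homomorphism φ : R' → R carrying R'_j onto R_{jq} for every j. -/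
theorem result (R : Type u) [CommRing R] [LocCoh.IsCohenMacaulayRing R] (𝒜 : ℤ → AddSubgroup R) [GradedRing 𝒜] (hpos : ∀ n : ℤ, n < 0 → 𝒜 n = ⊥) (h0 : IsField (GrLC.deg0 𝒜)) (m : HomogeneousIdeal 𝒜) (hm : GrLC.IsStarLocal 𝒜 m) (hmsp : m.toIdeal = Ideal.span (⋃ n ∈ Set.Ioi (0 : ℤ), (𝒜 n : Set R))) (hstd : Ideal.span (⋃ n ∈ Set.Ioi (0 : ℤ), (𝒜 n : Set R)) = Ideal.span ((𝒜 1 : AddSubgroup R) : Set R)) (n : ℕ) (hn : ringKrullDim R = n) (h2 : 2 ≤ n) (I : GrLC.StarInjRes 𝒜 𝒜) (q : ℕ) (hq : 0 < q) (R' : Type u) [CommRing R'] (𝒜' : ℤ → AddSubgroup R') [GradedRing 𝒜'] (φ : R' →+* R) (hφ : Function.Injective φ) (hdeg : ∀ j : ℤ, (𝒜' j).map (φ : R' →+ R) = 𝒜 (j * q)) [LocCoh.IsGorensteinRing R'] : LocCoh.IsGorensteinRing R ∧ ∃ a : ℤ, GrLC.endDeg (I.Hgr m n) = ((a : WithTop ℤ) : WithBot (WithTop ℤ)) ∧ (q : ℤ) ∣ a := by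
  open Groth.Agent in
  have hφ' : H4Ver.IsVerRing q φ 𝒜' 𝒜 := ⟨hq, hφ, hdeg⟩
  haveI : Nontrivial R := nontrivial_of_ne 1 0 fun h => hm.1.1 (HomogeneousIdeal.toIdeal_injective
    ((Ideal.eq_top_iff_one _).2 (h ▸ zero_mem _)))
  haveI : Nontrivial R' := φ.domain_nontrivial
  haveI := H4Ver.isNoetherianRing hφ'
  haveI := H4Ver.isCohenMacaulayRing_of_gorenstein R'
  haveI : m.toIdeal.IsMaximal := H4Gr.isMaximal_of_isStarLocal hpos hm
  haveI : m.toIdeal.IsPrime := Ideal.IsMaximal.isPrime inferInstance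
  letI := h0.toField
  obtain ⟨s, hs⟩ := H4Ver.exists_deg0Hom hφ'
  letI : Algebra (GrLC.deg0 𝒜) R' := s.toAlgebra
  have hk : ∀ c : GrLC.deg0 𝒜, algebraMap (GrLC.deg0 𝒜) R c ∈ 𝒜 0 := fun c => c.2
  have hsurj : ∀ x ∈ 𝒜 0, ∃ c : GrLC.deg0 𝒜, algebraMap (GrLC.deg0 𝒜) R c = x := fun x hx => ⟨⟨x, hx⟩, rfl⟩
  have hkk := H4Ver.hk' (k := GrLC.deg0 𝒜) hφ' (fun c => hs c) hk
  have hss := H4Ver.hsurj' (k := GrLC.deg0 𝒜) hφ' (fun c => hs c) hsurj
  have h0' := H4GD.isField_deg0 hkk hss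
  have hpos' := H4Ver.hpos' hφ' hpos
  let m' : HomogeneousIdeal 𝒜' := ⟨Ideal.span (⋃ j ∈ Set.Ioi (0 : ℤ), (𝒜' j : Set R')),
    Ideal.homogeneous_span _ _ fun x hx => by
      obtain ⟨j, -, hj⟩ := Set.mem_iUnion₂.1 hx
      exact ⟨j, hj⟩⟩
  have hloc' : GrLC.IsStarLocal 𝒜' m' := H4Ver.isStarLocal_of_span hpos' h0' rfl
  have hn' : ringKrullDim R' = n := (H4Ver.ringKrullDim_eq hφ').trans hn
  obtain ⟨I'⟩ := H4Gr.nonempty_starInjRes (𝒜 := 𝒜') (ℳ := 𝒜')
  obtain ⟨E, e, he⟩ := H4Ver.exists_hull (𝒜 := 𝒜) hm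
  obtain ⟨E', e', he'⟩ := H4Ver.exists_hull (𝒜 := 𝒜') hloc'
  obtain ⟨C, hC⟩ := H4GD.exists_canonical hk hsurj hpos hmsp hm n I he
  obtain ⟨C', hC'⟩ := H4GD.exists_canonical hkk hss hpos' (m := m') rfl hloc' n I' he'
  obtain ⟨g, hg⟩ := H4Ver.exists_canonical_ver hφ' (fun c => hs c) hk hsurj hpos hmsp (m' := m') rfl he hC he' hC'
  obtain ⟨b, f, hf, hfd⟩ := (H4GD.isGorensteinRing_iff_exists_shift hkk hss hpos' (m := m') rfl hloc' hn' I' he' hC').1
    inferInstance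
  let fe := LinearEquiv.ofBijective f hf
  have hfd' := H4GD.isGrHomDeg_symm (φ := fe) hfd
  have hz' : f 1 ∈ C'.gr b := by simpa using hfd 0 1 (SetLike.one_mem_graded 𝒜')
  let z := g (f 1)
  have hz : z ∈ C.gr (b * q) := H4Ver.ver_map_mem hφ' hg hz'
  -- the Veronese part of `C` is free on `z`
  have hfree : ∀ r' : R', φ r' • z = g (f r') := fun r' => by
    show φ r' • g (f 1) = g (f r')
    rw [← map_smulₛₗ, ← map_smul, smul_eq_mul, mul_one]
  have hfree0 : ∀ r' : R', φ r' • z = 0 → φ r' = 0 := fun r' h => by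
    rw [hfree] at h
    have : f r' = 0 := hg.inj (h.trans (map_zero g).symm)
    rw [hf.1 (this.trans (map_zero f).symm), map_zero]
  have hcover : ∀ (l : ℤ) (y : C.carrier), y ∈ C.gr (l * q) → ∃ r : R, y = r • z := fun l y hy => by
    obtain ⟨x, -, rfl⟩ := H4Ver.ver_exists_preimage hφ' hg hy
    exact ⟨φ (fe.symm x), by rw [hfree]; exact congrArg g (fe.apply_symm_apply x).symm⟩
  have hm1 : m.toIdeal = Ideal.span ((𝒜 1 : AddSubgroup R) : Set R) := hmsp.trans hstd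
  have hq0 : (q : ℤ) ≠ 0 := by exact_mod_cast hq.ne'
  have hpow : ∀ j : ℤ, ∃ t : ℕ, (q : ℤ) ∣ j + t := fun j => ⟨((-j) % (q : ℤ)).toNat, by
    rw [Int.toNat_of_nonneg (Int.emod_nonneg _ hq0), Int.emod_def]
    exact ⟨-((-j) / (q : ℤ)), by ring⟩⟩
  have hgam : ∀ x ∈ GrLC.gam m.toIdeal R, x = 0 := fun x hx => congrArg Subtype.val
    (H4Gr.toH₀_injective (a := m) I (show H4Gr.toH₀ m I ⟨x, hx⟩ = H4Gr.toH₀ m I 0 from
      (H4Gr.H_eq_zero_of_lt_dim hpos hm hn (show 0 < n by omega) I _).trans (map_zero _).symm))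
  have hinj0 : ∀ i, ∀ r ∈ 𝒜 i, r • z = 0 → r = 0 := fun i r hr h => by
    obtain ⟨t, l, hl⟩ := hpow i
    refine hgam r ⟨t, fun u hu => ?_⟩
    have hu' := H4Ver.span_pow_le (𝒜 := 𝒜) t (hm1 ▸ hu)
    clear hu
    induction hu' using Submodule.span_induction with
    | mem u hu =>
      obtain ⟨r', -, hr'⟩ := H4Ver.exists_preimage hφ' (j := l) (x := u * r) (by
        have := SetLike.mul_mem_graded (show u ∈ 𝒜 (t : ℤ) from hu) hr
        rwa [show l * (q : ℤ) = t + i by rw [mul_comm, ← hl]; ring])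
      rw [smul_eq_mul, ← hr']
      exact hfree0 r' (by rw [hr', mul_smul, h, smul_zero])
    | zero => exact zero_smul _ _
    | add a c _ _ ha hc => rw [add_smul, ha, hc, add_zero]
    | smul c a _ ha => rw [smul_eq_mul c a, mul_smul, ha, smul_zero]
  have hinj : ∀ r : R, r • z = 0 → r = 0 := fun r h => H4Gr.ext_proj 𝒜 fun i => by
    rw [map_zero]
    refine hinj0 i _ (H4Gr.proj_mem 𝒜 i r) ?_
    have h' := congrArg (H4Gr.proj C.gr (i + b * q)) h
    rw [map_zero] at h'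
    refine Eq.trans ?_ h'
    clear h h'
    induction r using H4Gr.induction 𝒜 with
    | zero => simp
    | add u v hu hv => rw [add_smul, map_add, map_add, add_smul, hu, hv]
    | hom j u hu =>
      by_cases e' : j = i
      · subst e'; rw [H4Gr.proj_same hu, H4Gr.proj_same (H4Gr.smul_mem 𝒜 hu hz)]
      · rw [H4Gr.proj_ne hu (by omega), zero_smul, H4Gr.proj_ne (H4Gr.smul_mem 𝒜 hu hz) (by omega)]
  let A := Localization.AtPrime m.toIdeal
  haveI := LocCoh.IsCohenMacaulayRing.isCohenMacaulayLocalRing_localization (R := R) m.toIdeal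
  have hd : ringKrullDim A = n := by
    rw [IsLocalization.AtPrime.ringKrullDim_eq_height m.toIdeal A, H4GD.height_eq hpos hm hn]; rfl
  obtain ⟨v, hv⟩ := H4GD.exists_hull_localized_star he
  obtain ⟨eK⟩ := H4GD.nonempty_localized_canonical he I hC hv
  haveI : Module.Finite R C.carrier := hC.1
  haveI : Module.Finite A (LocalizedModule m.toIdeal.primeCompl C.carrier) :=
    Module.Finite.of_isLocalizedModule m.toIdeal.primeCompl (LocalizedModule.mkLinearMap _ C.carrier)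
  obtain ⟨hs', hcm⟩ := H4LC.depth_canon hv hd eK
  have hdep : (1 : ℕ∞) ≤ LocCoh.depth A (LocalizedModule m.toIdeal.primeCompl C.carrier) := by
    have h : ((n : ℕ∞) : WithBot ℕ∞) = _ := hs'.symm.trans hcm
    rw [← WithBot.coe_inj.1 h]
    exact_mod_cast (show 1 ≤ n by omega)
  have hsurjz : ∀ y : C.carrier, ∃ r : R, y = r • z := fun y => by
    induction y using H4Gr.induction C.gr with
    | zero => exact ⟨0, (zero_smul _ _).symm⟩
    | add u v hu hv =>
      obtain ⟨a, rfl⟩ := hu; obtain ⟨c, rfl⟩ := hv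
      exact ⟨a + c, (add_smul a c z).symm⟩
    | hom j y hy =>
      obtain ⟨t, l, hl⟩ := hpow j
      refine H4Ver.exists_eq_smul_of_pow (I := m.toIdeal) (N := t) Ideal.IsPrime.ne_top'
        (by rw [H4GD.height_eq hpos hm hn]; exact_mod_cast h2)
        (fun w N hw => H4Ver.eq_zero_of_pow_smul_eq_zero hdep w N hw) hinj fun u hu => ?_
      have hu' := H4Ver.span_pow_le (𝒜 := 𝒜) t (hm1 ▸ hu)
      clear hu
      induction hu' using Submodule.span_induction with
      | mem u hu =>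
        refine hcover l _ ?_
        have := H4Gr.smul_mem 𝒜 (show u ∈ 𝒜 (t : ℤ) from hu) hy
        rwa [show l * (q : ℤ) = t + j by rw [mul_comm, ← hl]; ring]
      | zero => exact ⟨0, by rw [zero_smul, zero_smul]⟩
      | add a c _ _ ha hc =>
        obtain ⟨p, hp⟩ := ha; obtain ⟨p', hp'⟩ := hc
        exact ⟨p + p', by rw [add_smul, add_smul, hp, hp']⟩
      | smul c a _ ha =>
        obtain ⟨p, hp⟩ := ha
        exact ⟨c * p, by rw [smul_eq_mul, mul_smul, mul_smul, hp]⟩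
  let f₀ := LinearMap.toSpanSingleton R C.carrier z
  have hf₀ : Function.Bijective f₀ := ⟨(injective_iff_map_eq_zero f₀).2 hinj, fun y => by
    obtain ⟨r, rfl⟩ := hsurjz y
    exact ⟨r, rfl⟩⟩
  have hf₀d : GrLC.IsGrHomDeg 𝒜 C.gr f₀ (b * q) := H4GD.isGrHomDeg_toSpan hz
  refine ⟨(H4GD.isGorensteinRing_iff_exists_shift hk hsurj hpos hmsp hm hn I he hC).2 ⟨_, f₀, hf₀, hf₀d⟩,
    -(b * q), ?_, (dvd_mul_left (q : ℤ) b).neg_right⟩
  letI : Module (GrLC.deg0 𝒜) E.carrier := Module.compHom E.carrier (algebraMap (GrLC.deg0 𝒜) R)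
  haveI : IsScalarTower (GrLC.deg0 𝒜) R E.carrier := IsScalarTower.of_algebraMap_smul fun _ _ => rfl
  haveI : IsScalarTower (GrLC.deg0 𝒜) R C.carrier := IsScalarTower.of_algebraMap_smul fun _ _ => rfl
  haveI : IsScalarTower (GrLC.deg0 𝒜) R (I.H m n) := IsScalarTower.of_algebraMap_smul fun _ _ => rfl
  letI := (H4Gr.isInternal_Hgr m I n).chooseDecomposition
  haveI := H4Gr.gradedSMul_Hgr m I n
  obtain ⟨γ, hγ⟩ := H4GD.gdual_of_canonical hk hsurj hpos m hmsp n I he hC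
  have hne : z ≠ 0 := fun h => one_ne_zero (α := R) (hinj 1 (by rw [h, smul_zero]))
  refine le_antisymm ((H4Gr.endDeg_le_iff' _).2 fun j hj => ?_) (le_iSup₂_of_le (-(b * q)) (fun hbot => hne ?_) le_rfl)
  · refine (AddSubgroup.eq_bot_iff_forall _).2 fun x hx => ?_
    by_contra hx0
    obtain ⟨G, hG⟩ := Module.Projective.exists_dual_ne_zero (GrLC.deg0 𝒜) hx0
    obtain ⟨d, hd', hdx⟩ := hγ.exists_eq (-j) G
    refine hG ((hdx x (by rwa [neg_neg])).symm.trans ?_)
    obtain ⟨r, hr⟩ := hf₀.2 d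
    have hr' := H4GD.isGrHomDeg_symm (φ := LinearEquiv.ofBijective f₀ hf₀) hf₀d (-j) d hd'
    rw [show (LinearEquiv.ofBijective f₀ hf₀).symm.toLinearMap d = r from
      (LinearEquiv.symm_apply_eq _).2 hr.symm,
      hpos (-j + -(b * q)) (by omega), AddSubgroup.mem_bot] at hr'
    rw [← hr, hr', map_zero, map_zero, LinearMap.zero_apply]
  · exact hγ.eq_zero (b * q) z hz fun x hx => by
      rw [(AddSubgroup.eq_bot_iff_forall _).1 hbot x hx, map_zero]

end Groth.Agent.S18642
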