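import Groth.Statements.S18654
import Groth.Agent.H4Ver.Gor
import Groth.Agent.H4Gr.Devissage
import Groth.Agent.H4Gr.Dim
import Mathlib.Algebra.Polynomial.AlgebraMap

set_option autoImplicit false
universe u
open GrLC

namespace Groth.Agent.S18654

/-- Let R be a graded ring defined over a field k = R_0 which is Cohen–Macaulay and generated over k by
R_1, with dim R ≥ 1, and write H(n, R) = dim_k R_n. Then H(n + 1, R) ≥ H(n, R) for every integer n.
Here 'graded ring defined over a field' means R = ⊕_{n ≥ 0} R_n is Noetherian with R_0 a field, and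
m = R_+ is its unique graded maximal ideal. -/
theorem result (R : Type u) [CommRing R] [LocCoh.IsCohenMacaulayRing R] (𝒜 : ℤ → AddSubgroup R) [GradedRing 𝒜] (hpos : ∀ n : ℤ, n < 0 → 𝒜 n = ⊥) (h0 : IsField (GrLC.deg0 𝒜)) (hstd : Ideal.span (⋃ n ∈ Set.Ioi (0 : ℤ), (𝒜 n : Set R)) = Ideal.span ((𝒜 1 : AddSubgroup R) : Set R)) (h1 : 1 ≤ ringKrullDim R) (n : ℤ) : Module.finrank (GrLC.deg0 𝒜) (GrLC.comp 𝒜 𝒜 n) ≤ Module.finrank (GrLC.deg0 𝒜) (GrLC.comp 𝒜 𝒜 (n + 1)) := by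
  open Groth.Agent Polynomial in
  classical
  letI := h0.toField
  rcases lt_or_ge n 0 with hneg | hnn
  · haveI : Subsingleton (GrLC.comp 𝒜 𝒜 n) := ⟨fun x y => Subtype.ext (by
      have hx : (x : R) ∈ 𝒜 n := x.2
      have hy : (y : R) ∈ 𝒜 n := y.2
      rw [(AddSubgroup.eq_bot_iff_forall _).1 (hpos n hneg) _ hx, (AddSubgroup.eq_bot_iff_forall _).1 (hpos n hneg) _ hy])⟩
    rw [Module.finrank_zero_of_subsingleton]
    exact Nat.zero_le _
  let m : HomogeneousIdeal 𝒜 := ⟨Ideal.span (⋃ j ∈ Set.Ioi (0 : ℤ), (𝒜 j : Set R)),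
    Ideal.homogeneous_span _ _ fun x hx => by
      obtain ⟨j, -, hj⟩ := Set.mem_iUnion₂.1 hx
      exact ⟨j, hj⟩⟩
  have hloc : GrLC.IsStarLocal 𝒜 m := H4Ver.isStarLocal_of_span hpos h0 rfl
  obtain ⟨I⟩ := H4Gr.nonempty_starInjRes (𝒜 := 𝒜) (ℳ := 𝒜)
  haveI : m.toIdeal.IsPrime := H4Gr.isPrime_of_isStarLocal hloc
  obtain ⟨d, hd⟩ : ∃ d : ℕ, ringKrullDim R = d := by
    rw [H4Gr.ringKrullDim_eq_height hpos hloc]
    obtain ⟨d, hd⟩ := ENat.ne_top_iff_exists.1 (Ideal.height_ne_top (I := m.toIdeal) Ideal.IsPrime.ne_top')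
    exact ⟨d, by rw [← hd]; rfl⟩
  have hd1 : 0 < d := by
    rw [hd] at h1
    have : 1 ≤ d := by exact_mod_cast h1
    omega
  haveI : ∀ g, IsNoetherian (GrLC.deg0 𝒜) (GrLC.comp 𝒜 𝒜 g) := fun g => H4Gr.isNoetherian_comp g
  let v := Module.finBasis (GrLC.deg0 𝒜) (GrLC.comp 𝒜 𝒜 1)
  let L : R[X] := ∑ i : Fin (Module.finrank (GrLC.deg0 𝒜) (GrLC.comp 𝒜 𝒜 1)), monomial (i : ℕ) ((v i : GrLC.comp 𝒜 𝒜 1) : R)
  have hcoef : ∀ i : Fin (Module.finrank (GrLC.deg0 𝒜) (GrLC.comp 𝒜 𝒜 1)), L.coeff (i : ℕ) = ((v i : GrLC.comp 𝒜 𝒜 1) : R) := fun i => by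
    simp only [L, finsetSum_coeff, coeff_monomial]
    rw [Finset.sum_eq_single i (fun b _ hb => if_neg fun e => hb (Fin.ext e)) (fun h => absurd (Finset.mem_univ _) h), if_pos rfl]
  have hL : L ∈ nonZeroDivisors R[X] := by
    rw [Polynomial.mem_nonZeroDivisors_iff]
    intro a ha
    have hav : ∀ i : Fin (Module.finrank (GrLC.deg0 𝒜) (GrLC.comp 𝒜 𝒜 1)), a * ((v i : GrLC.comp 𝒜 𝒜 1) : R) = 0 := fun i => by
      have h := congrArg (fun p : R[X] => p.coeff (i : ℕ)) ha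
      rw [coeff_smul, hcoef, coeff_zero, smul_eq_mul] at h
      exact h
    have hm1 : ∀ y ∈ 𝒜 1, y * a = 0 := fun y hy => by
      have hy' : (⟨y, hy⟩ : GrLC.comp 𝒜 𝒜 1) ∈ Submodule.span (GrLC.deg0 𝒜) (Set.range v) := v.mem_span _
      have h := Submodule.mem_map_of_mem (f := (GrLC.comp 𝒜 𝒜 1).subtype) hy'
      rw [Submodule.map_span, ← Set.range_comp] at h
      suffices H : ∀ z ∈ Submodule.span (GrLC.deg0 𝒜) (Set.range fun i => ((v i : GrLC.comp 𝒜 𝒜 1) : R)), z * a = 0 from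
        H y h
      intro z hz
      induction hz using Submodule.span_induction with
      | mem z hz => obtain ⟨i, rfl⟩ := hz; rw [mul_comm]; exact hav i
      | zero => exact zero_mul a
      | add p q _ _ hp hq => rw [add_mul, hp, hq, add_zero]
      | smul c p _ hp => rw [smul_mul_assoc, hp, smul_zero]
    have hgam : a ∈ GrLC.gam m.toIdeal R := ⟨1, fun r hr => by
      rw [pow_one] at hr
      have hr' : r ∈ Ideal.span ((𝒜 1 : AddSubgroup R) : Set R) := hstd ▸ hr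
      clear hr
      induction hr' using Submodule.span_induction with
      | mem y hy => exact hm1 y hy
      | zero => exact zero_smul _ _
      | add p q _ _ hp hq => rw [add_smul, hp, hq, add_zero]
      | smul c p _ hp => rw [smul_eq_mul, smul_eq_mul, mul_assoc, ← smul_eq_mul, ← smul_eq_mul, hp, smul_zero]⟩
    exact congrArg Subtype.val (H4Gr.toH₀_injective (a := m) I
      ((H4Gr.H_eq_zero_of_lt_dim hpos hloc hd hd1 I (H4Gr.toH₀ m I ⟨a, hgam⟩)).trans (map_zero _).symm))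
  by_contra hlt
  push Not at hlt
  let b := Module.finBasis (GrLC.deg0 𝒜) (GrLC.comp 𝒜 𝒜 n)
  let c := Module.finBasis (GrLC.deg0 𝒜) (GrLC.comp 𝒜 𝒜 (n + 1))
  have hmul : ∀ α i, ((b α : GrLC.comp 𝒜 𝒜 n) : R) * ((v i : GrLC.comp 𝒜 𝒜 1) : R) ∈ GrLC.comp 𝒜 𝒜 (n + 1) :=
    fun α i => show _ ∈ 𝒜 (n + 1) from SetLike.mul_mem_graded (show _ ∈ 𝒜 n from (b α).2) (show _ ∈ 𝒜 1 from (v i).2)
  let K := (GrLC.deg0 𝒜)[X]
  let ι : K →+* R[X] := mapRingHom (GrLC.deg0 𝒜).subtype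
  let M : (Fin (Module.finrank (GrLC.deg0 𝒜) (GrLC.comp 𝒜 𝒜 n)) → K) →ₗ[K]
      (Fin (Module.finrank (GrLC.deg0 𝒜) (GrLC.comp 𝒜 𝒜 (n + 1))) → K) :=
    LinearMap.pi fun β => ∑ α, (∑ i : Fin _, monomial (i : ℕ) (c.repr ⟨_, hmul α i⟩ β)) • LinearMap.proj α
  have hM : ¬ Function.Injective M := fun h => absurd
    (LinearMap.finrank_le_finrank_of_injective h) (by rw [Module.finrank_fin_fun, Module.finrank_fin_fun]; omega)
  rw [injective_iff_map_eq_zero] at hM
  push Not at hM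
  obtain ⟨p, hp, hp0⟩ := hM
  let g : R[X] := ∑ α, ι (p α) * C ((b α : GrLC.comp 𝒜 𝒜 n) : R)
  have hgL : g * L = 0 := by
    have key : ∀ α, C ((b α : GrLC.comp 𝒜 𝒜 n) : R) * L =
        ∑ β, ι (∑ i : Fin _, monomial (i : ℕ) (c.repr ⟨_, hmul α i⟩ β)) * C ((c β : GrLC.comp 𝒜 𝒜 (n + 1)) : R) := by
      intro α
      simp only [L, Finset.mul_sum, C_mul_monomial, map_sum, Finset.sum_mul]
      rw [Finset.sum_comm]
      refine Finset.sum_congr rfl fun i _ => ?_
      have h := congrArg Subtype.val (c.sum_repr ⟨_, hmul α i⟩)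
      simp only [Submodule.coe_sum] at h
      conv_lhs => rw [← h]
      rw [map_sum]
      refine Finset.sum_congr rfl fun β _ => ?_
      show monomial (i : ℕ) (((c.repr ⟨_, hmul α i⟩ β) • c β : GrLC.comp 𝒜 𝒜 (n + 1)) : R) = _
      rw [show ι (monomial (i : ℕ) (c.repr ⟨_, hmul α i⟩ β)) = monomial (i : ℕ) ((c.repr ⟨_, hmul α i⟩ β : GrLC.deg0 𝒜) : R) from
        map_monomial (GrLC.deg0 𝒜).subtype, monomial_mul_C]
      rfl
    simp only [g, Finset.sum_mul, mul_assoc, key, Finset.mul_sum]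
    rw [Finset.sum_comm]
    refine Finset.sum_eq_zero fun β _ => ?_
    simp only [← mul_assoc, ← Finset.sum_mul, ← map_mul, ← map_sum]
    have hβ := congrFun hp β
    simp only [M, LinearMap.pi_apply, LinearMap.coe_sum, Finset.sum_apply, LinearMap.smul_apply, LinearMap.proj_apply,
      smul_eq_mul, Pi.zero_apply] at hβ
    simp only [mul_comm (p _)]
    rw [hβ, map_zero, zero_mul]
  have hg0 : g = 0 := hL.2 g hgL
  refine hp0 (funext fun α => Polynomial.ext fun j => ?_)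
  have hj : ∑ α, (p α).coeff j • b α = 0 := Subtype.ext (by
    have h := congrArg (fun q : R[X] => q.coeff j) hg0
    simp only [g, finsetSum_coeff, coeff_mul_C, coeff_zero, ι, coe_mapRingHom, coeff_map] at h
    rw [Submodule.coe_sum]
    refine (Finset.sum_congr rfl fun α _ => ?_).trans h
    rw [coe_mapRingHom, coeff_map]
    rfl)
  exact (Fintype.linearIndependent_iff.1 b.linearIndependent _ hj α).trans (coeff_zero j).symm

end Groth.Agent.S18654
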