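import Groth.Statements.S18643
import Groth.Agent.H4Ver.Std
import Groth.Agent.S18654

set_option autoImplicit false
universe u
open GrLC

namespace Groth.Agent.S18643

/-- Let R be a graded ring defined over a field k = R_0 which is Gorenstein and generated over k by R_1,
with dim R ≥ 1 and dim_k R_1 ≥ 2, and let q ≥ 1. Then the Veronese subring R^(q) is a Gorenstein
ring if and only if q divides the a-invariant a(R). Here 'graded ring defined over a field' means R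
= ⊕_{n ≥ 0} R_n is Noetherian with R_0 a field, and m = R_+ is its unique graded maximal ideal. The
a-invariant a(R) is the largest degree in which the graded local cohomology H^n_m(R) (n = dim R, m =
R_+), computed from a *injective resolution of R in the graded category, is nonzero. The Veronese
subring R^(q) = ⊕_j R_{jq}, regraded by (R^(q))_j = R_{jq}, is presented abstractly as a ℤ-graded
ring R' with an injective ring homomorphism φ : R' → R carrying R'_j onto R_{jq} for every j. -/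
theorem result (R : Type u) [CommRing R] [LocCoh.IsGorensteinRing R] (𝒜 : ℤ → AddSubgroup R) [GradedRing 𝒜] (hpos : ∀ n : ℤ, n < 0 → 𝒜 n = ⊥) (h0 : IsField (GrLC.deg0 𝒜)) (m : HomogeneousIdeal 𝒜) (hm : GrLC.IsStarLocal 𝒜 m) (hmsp : m.toIdeal = Ideal.span (⋃ n ∈ Set.Ioi (0 : ℤ), (𝒜 n : Set R))) (hstd : Ideal.span (⋃ n ∈ Set.Ioi (0 : ℤ), (𝒜 n : Set R)) = Ideal.span ((𝒜 1 : AddSubgroup R) : Set R)) (hR1 : 2 ≤ Module.finrank (GrLC.deg0 𝒜) (GrLC.comp 𝒜 𝒜 1)) (n : ℕ) (hn : ringKrullDim R = n) (h1 : 1 ≤ n) (I : GrLC.StarInjRes 𝒜 𝒜) (a : ℤ) (ha : GrLC.endDeg (I.Hgr m n) = ((a : WithTop ℤ) : WithBot (WithTop ℤ))) (q : ℕ) (hq : 0 < q) (R' : Type u) [CommRing R'] (𝒜' : ℤ → AddSubgroup R') [GradedRing 𝒜'] (φ : R' →+* R) (hφ : Function.Injective φ) (hdeg : ∀ j : ℤ, (𝒜' j).map (φ : R' →+ R) = 𝒜 (j * q)) : LocCoh.IsGorensteinRing R' ↔ (q : ℤ) ∣ a := by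
  open Groth.Agent in
  haveI := H4Ver.isCohenMacaulayRing_of_gorenstein R
  have hφ' : H4Ver.IsVerRing q φ 𝒜' 𝒜 := ⟨hq, hφ, hdeg⟩
  refine ⟨fun hG => ?_, fun hdvd => H4Ver.isGorensteinRing_ver hφ' hpos h0 hm hmsp hn I ha hdvd⟩
  by_contra hndvd
  haveI := hG
  haveI := H4Ver.isCohenMacaulayRing_of_gorenstein R'
  haveI : Nontrivial R := nontrivial_of_ne 1 0 fun h => hm.1.1 (HomogeneousIdeal.toIdeal_injective
    ((Ideal.eq_top_iff_one _).2 (h ▸ zero_mem _)))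
  haveI : Nontrivial R' := φ.domain_nontrivial
  haveI := H4Ver.isNoetherianRing hφ'
  letI := h0.toField
  obtain ⟨s, hs⟩ := H4Ver.exists_deg0Hom hφ'
  letI : Algebra (GrLC.deg0 𝒜) R' := s.toAlgebra
  have hkk := H4Ver.hk' (k := GrLC.deg0 𝒜) hφ' (fun c => hs c) fun c => c.2
  have hss := H4Ver.hsurj' (k := GrLC.deg0 𝒜) hφ' (fun c => hs c) fun x hx => ⟨⟨x, hx⟩, rfl⟩
  have h0' := H4GD.isField_deg0 hkk hss
  have hpos' := H4Ver.hpos' hφ' hpos
  let m' : HomogeneousIdeal 𝒜' := ⟨Ideal.span (⋃ j ∈ Set.Ioi (0 : ℤ), (𝒜' j : Set R')),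
    Ideal.homogeneous_span _ _ fun x hx => by
      obtain ⟨j, -, hj⟩ := Set.mem_iUnion₂.1 hx
      exact ⟨j, hj⟩⟩
  have hloc' : GrLC.IsStarLocal 𝒜' m' := H4Ver.isStarLocal_of_span hpos' h0' rfl
  haveI : m'.toIdeal.IsMaximal := H4Gr.isMaximal_of_isStarLocal hpos' hloc'
  have hn' : ringKrullDim R' = n := (H4Ver.ringKrullDim_eq hφ').trans hn
  obtain ⟨I'⟩ := H4Gr.nonempty_starInjRes (𝒜 := 𝒜') (ℳ := 𝒜')
  haveI : IsScalarTower (GrLC.deg0 𝒜) R (I.H m n) := IsScalarTower.of_algebraMap_smul fun _ _ => rfl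
  letI := (H4Gr.isInternal_Hgr m' I' n).chooseDecomposition
  haveI := H4Gr.gradedSMul_Hgr m' I' n
  letI := h0'.toField
  haveI : IsScalarTower (GrLC.deg0 𝒜') R' (I'.H m' n) := IsScalarTower.of_algebraMap_smul fun _ _ => rfl
  obtain ⟨a', -, ha', -⟩ := H4Ver.exists_gdual_gor (k := GrLC.deg0 𝒜') (fun c => c.2)
    (fun x hx => ⟨⟨x, hx⟩, rfl⟩) hpos' rfl hloc' hn' I'
  have hid : H4Ver.IsVerRing 1 (RingHom.id R') 𝒜' 𝒜' := ⟨one_pos, Function.injective_id, fun j => by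
    ext x
    simp⟩
  -- the type of `R'` is one
  have h1' := H4Ver.bassNum_ver hid hpos' h0' hloc' (rfl : m'.toIdeal = _) (H4Ver.std_ver hφ' hstd) hn' I' ha'
    (m' := m') rfl (j₀ := -a') (by omega) (by omega)
  rw [show a' + -a' * ((1 : ℕ) : ℤ) = 0 by push_cast; ring, H4Ver.finrank_deg0 h0'] at h1'
  -- the type of `R'` is the size of a piece of `R` of positive degree
  have hq0 : (q : ℤ) ≠ 0 := by exact_mod_cast hq.ne'
  have hlt := Int.emod_lt_of_pos a (Int.natCast_pos.2 hq)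
  have hge := Int.emod_nonneg a hq0
  have hne : a % (q : ℤ) ≠ 0 := fun h => hndvd (Int.dvd_of_emod_eq_zero h)
  have he : a + -(a / (q : ℤ)) * q = a % q := by
    rw [Int.emod_def]; ring
  have h2 := H4Ver.bassNum_ver hφ' hpos h0 hm hmsp hstd hn I ha (m' := m') rfl (j₀ := -(a / (q : ℤ)))
    (by omega) (by rw [sub_mul, one_mul]; omega)
  rw [h1', he] at h2
  have h3 : Module.finrank (GrLC.deg0 𝒜) (GrLC.comp 𝒜 𝒜 (a % (q : ℤ))) = 1 := by exact_mod_cast h2.symm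
  obtain ⟨t, ht⟩ : ∃ t : ℕ, a % (q : ℤ) = t := ⟨(a % (q : ℤ)).toNat, (Int.toNat_of_nonneg hge).symm⟩
  have hgam : ∀ x ∈ GrLC.gam m.toIdeal R, x = 0 := fun x hx => congrArg Subtype.val
    (H4Gr.toH₀_injective (a := m) I (show H4Gr.toH₀ m I ⟨x, hx⟩ = H4Gr.toH₀ m I 0 from
      (H4Gr.H_eq_zero_of_lt_dim hpos hm hn (show 0 < n by omega) I _).trans (map_zero _).symm))
  have h4 := H4Ver.two_le_finrank_piece h0 (hmsp.trans hstd) hmsp hgam hR1 (t := t) (by omega)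
  rw [← ht, h3] at h4
  omega

end Groth.Agent.S18643
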