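import Groth.Statements.S18651
import Groth.Agent.H02CA.GorFlat
import Groth.Agent.H4GD.GorCanon
import Groth.Agent.H4GD.Alg
import Groth.Agent.H4KS.Poly
import Groth.Agent.H4Gr.PolyRing
import Mathlib.RingTheory.RegularLocalRing.Polynomial

set_option autoImplicit false
universe u
attribute [local instance] MvPolynomial.weightedGradedAlgebra
open GrLC

namespace Groth.Agent.S18651

/-- Let k be a field and R = k[X_1, …, X_N] the polynomial ring with deg X_i = w_i > 0. Then the
canonical module of R is K_R = X_1 X_2 ⋯ X_N · R ≅ R(−d) with d = w_1 + ⋯ + w_N; stated here as: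
there is a bijective R-linear map R → K_R homogeneous of degree d. The canonical module is
represented by a finitely generated graded module C together with a homogeneous isomorphism from
Hom_R(C, E) onto H^N_m(R), where m = R_+, E is a *injective envelope of R/m and H^N_m(R) is computed
from a *injective resolution of R in the graded category; by graded Matlis duality this says exactly
that C ≅ K_R as graded modules. -/
theorem result (k : Type u) [Field k] (N : ℕ) (w : Fin N → ℤ) (hw : ∀ i, 0 < w i) (m : HomogeneousIdeal (MvPolynomial.weightedHomogeneousSubmodule k w)) (hm : GrLC.IsStarLocal (MvPolynomial.weightedHomogeneousSubmodule k w) m) (hmsp : m.toIdeal = Ideal.span (⋃ n ∈ Set.Ioi (0 : ℤ), (MvPolynomial.weightedHomogeneousSubmodule k w n : Set (MvPolynomial (Fin N) k)))) (I : GrLC.StarInjRes (MvPolynomial.weightedHomogeneousSubmodule k w) (MvPolynomial.weightedHomogeneousSubmodule k w)) (E' : Type u) [AddCommGroup E'] [Module (MvPolynomial (Fin N) k) E'] (𝓔 : ℤ → AddSubgroup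 E') [DirectSum.Decomposition 𝓔] [SetLike.GradedSMul (MvPolynomial.weightedHomogeneousSubmodule k w) 𝓔] (e : (MvPolynomial (Fin N) k ⧸ m.toIdeal) →ₗ[MvPolynomial (Fin N) k] E') (he : GrLC.IsStarInjHull (MvPolynomial.weightedHomogeneousSubmodule k w) (GrLC.quotGr (MvPolynomial.weightedHomogeneousSubmodule k w) m) 𝓔 e) (C : Type u) [AddCommGroup C] [Module (MvPolynomial (Fin N) k) C] (𝒞 : ℤ → AddSubgroup C) [DirectSum.Decomposition 𝒞] [SetLike.GradedSMul (MvPolynomial.weightedHomogeneousSubmodule k w) 𝒞] (hC : GrLC.IsStarCanonical (MvPolynomial.weightedHomogeneousSubmodule k w) 𝒞 𝓔 m N I) : ∃ f : MvPolynomial (Fin N) k →ₗ[MvPolynomial (Fin N) k] C, Function.Bijective f ∧ GrLC.IsGrHomDeg (MvPolynomial.weightedHomogeneousSubmodule k w) 𝒞 f ((Finset.univ : Finset (Fin N)).sum w) := by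
  open Groth.Agent.H4Gr Groth.Agent.H4GD in
  classical
  let R := MvPolynomial (Fin N) k
  let P := MvPolynomial.weightedHomogeneousSubmodule k w
  haveI : IsNoetherianRing R := Algebra.FiniteType.isNoetherianRing k R
  haveI : LocCoh.IsCohenMacaulayRing R := Groth.Agent.H4KS.poly_cm
  have hdim : ringKrullDim R = (N : WithBot ℕ∞) := Groth.Agent.H4KS.poly_dim
  have hwt : ∀ d : Fin N →₀ ℕ, 0 ≤ Finsupp.weight w d ∧ (Finsupp.weight w d = 0 → d = 0) := by
    intro d
    rw [Finsupp.weight_apply, Finsupp.sum_fintype d (fun i c => c • w i) (fun i => zero_nsmul _)]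
    refine ⟨Finset.sum_nonneg fun i _ => nsmul_nonneg (hw i).le _, fun h => Finsupp.ext fun i => ?_⟩
    have h' := (Finset.sum_eq_zero_iff_of_nonneg fun i _ => nsmul_nonneg (hw i).le (d i)).1 h i (Finset.mem_univ i)
    rw [nsmul_eq_mul, mul_eq_zero] at h'
    rcases h' with h' | h'
    · exact_mod_cast h'
    · exact absurd h' (hw i).ne'
  have hneg : ∀ n : ℤ, n < 0 → P n = ⊥ := fun n hn => by
    refine (Submodule.eq_bot_iff _).2 fun p hp => ?_
    rw [MvPolynomial.mem_weightedHomogeneousSubmodule] at hp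
    ext d
    rw [MvPolynomial.coeff_zero]
    by_contra h
    have := hp h
    have := (hwt d).1
    omega
  have hzero : P 0 = Submodule.span k {(1 : R)} := by
    refine le_antisymm (fun p hp => ?_) (Submodule.span_le.2 (Set.singleton_subset_iff.2 (SetLike.one_mem_graded _)))
    rw [MvPolynomial.mem_weightedHomogeneousSubmodule] at hp
    refine Submodule.mem_span_singleton.2 ⟨MvPolynomial.coeff 0 p, ?_⟩
    ext d
    by_cases hd : d = 0
    · subst hd; simp
    · rw [MvPolynomial.coeff_smul, MvPolynomial.coeff_one, if_neg (Ne.symm hd), smul_zero]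
      by_contra h
      exact hd ((hwt d).2 (hp (fun h' => h h'.symm)))
  let G : ℤ → AddSubgroup R := Groth.Agent.H4KS.addGr P
  let mG : HomogeneousIdeal G := Groth.Agent.H4KS.idealA P m
  let IG : GrLC.StarInjRes G G := Groth.Agent.H4KS.resA P G (Groth.Agent.H4KS.selfRes I)
  have hposG : ∀ n : ℤ, n < 0 → G n = ⊥ := addGr_hpos hneg
  have hlocG : GrLC.IsStarLocal G mG := Groth.Agent.H4KS.isStarLocal_irr hneg hzero m hmsp
  have he' : GrLC.IsStarInjHull G (GrLC.quotGr G mG) 𝓔 e :=
    { injective := he.injective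
      grHom := fun i x hx => he.grHom i x hx
      essential := he.essential
      starInj := (Groth.Agent.H4KS.starInj_iff P 𝓔).2 he.starInj }
  have hC' : GrLC.IsStarCanonical G 𝒞 𝓔 mG N IG := by
    obtain ⟨hfin, φ, hφ⟩ := hC
    exact ⟨hfin, φ, fun d x hx => hφ d x hx⟩
  obtain ⟨a, f, hf, hfa⟩ := (isGorensteinRing_iff_exists_shift addGr_hk (addGr_hsurj hzero) hposG hmsp hlocG hdim IG
    he' hC').1 (Groth.Agent.H02CA.GorFlat.isGorensteinRing_of_isRegularRing _)
  suffices ha : a = (Finset.univ : Finset (Fin N)).sum w from ⟨f, hf, fun j x hx => ha ▸ hfa j x hx⟩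
  let l : List (R × ℤ) := List.ofFn fun i => (MvPolynomial.X i, w i)
  have hfst : l.map Prod.fst = List.ofFn fun i => (MvPolynomial.X i : R) := List.map_ofFn
  have hX : ∀ i, (MvPolynomial.X i : R) ∈ G (w i) := fun i => MvPolynomial.isWeightedHomogeneous_X k w i
  have hXm : ∀ i, (MvPolynomial.X i : R) ∈ mG.toIdeal := fun i => by
    show _ ∈ m.toIdeal
    rw [hmsp]
    exact Ideal.subset_span (Set.mem_biUnion (hw i) (hX i))
  have hl : ∀ p ∈ l, p.1 ∈ G p.2 ∧ p.1 ∈ mG.toIdeal := fun p hp => by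
    obtain ⟨i, rfl⟩ := List.mem_ofFn.1 hp
    exact ⟨hX i, hXm i⟩
  let V : Ideal R := Ideal.span (Set.range fun i : Fin N => (MvPolynomial.X i : R))
  have hVm : mG.toIdeal = V := by
    refine le_antisymm ?_ (Ideal.span_le.2 fun _ ⟨i, hi⟩ => hi ▸ hXm i)
    show m.toIdeal ≤ V
    rw [hmsp]
    refine Ideal.span_le.2 fun p hp => ?_
    simp only [Set.mem_iUnion] at hp
    obtain ⟨n, hn, hp⟩ := hp
    have hp' : MvPolynomial.IsWeightedHomogeneous w p n := hp
    rw [SetLike.mem_coe, show V = Ideal.span (MvPolynomial.X '' (Set.univ : Set (Fin N))) by rw [Set.image_univ],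
      MvPolynomial.mem_ideal_span_X_image]
    intro d hd
    by_contra! h
    have h0 : d = 0 := Finsupp.ext fun i => h i trivial
    have := hp' (MvPolynomial.mem_support_iff.1 hd)
    rw [h0, map_zero] at this
    exact (ne_of_lt (show (0 : ℤ) < n from hn)) this
  have hV : Submodule.IsHomogeneous (V : Submodule R R) G := hVm ▸ mG.isHomogeneous
  let Y := quotMod G (ℳ := G) (V : Submodule R R) hV
  obtain ⟨F⟩ := nonempty_starInjRes (𝒜 := G) (ℳ := Y.gr)
  have hlist := endDeg_quot_list G hposG mG l hl (GrLC.GMod.of G R G)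
    (show RingTheory.Sequence.IsWeaklyRegular R (l.map Prod.fst) by rw [hfst]; exact isWeaklyRegular_vars k N) N
    (le_of_eq List.length_ofFn) IG (fun j hj => H_eq_zero_of_lt_dim hposG hlocG hdim hj IG) Y
    (quotProj G V hV) (isGrHom_quotProj V hV) (Submodule.mkQ_surjective V) (by
      show LinearMap.ker (Submodule.mkQ V) = Ideal.ofList (l.map Prod.fst) • (⊤ : Submodule R R)
      rw [Submodule.ker_mkQ, hfst, Ideal.smul_eq_mul, Ideal.mul_top]
      exact congrArg Ideal.span (by ext y; simp [List.mem_ofFn])) F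
  have hone : (1 : R) ∉ V := fun h => hlocG.1.1 (by
    have h' : (1 : R) ∈ mG.toIdeal := hVm.symm ▸ h
    exact HomogeneousIdeal.toIdeal_injective ((Ideal.eq_top_iff_one _).2 h'))
  have hY : GrLC.endDeg (F.Hgr mG 0) = ((0 : ℤ) : WithTop ℤ) := by
    have htor : ∀ y : Y.carrier, y ∈ GrLC.gam mG.toIdeal Y.carrier := fun y => ⟨1, fun x hx => by
      obtain ⟨z, rfl⟩ := Submodule.mkQ_surjective V y
      rw [pow_one, hVm] at hx
      exact (Submodule.Quotient.mk_eq_zero V).2 (V.mul_mem_right z hx)⟩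
    refine le_antisymm ((endDeg_le_iff' 0).2 fun n hn => (Hgr_eq_bot_iff mG).2 ?_) (le_iSup₂_of_le 0 ?_ le_rfl)
    · refine (Hcomp_zero_eq_bot_iff F n).2 fun y hy _ => ?_
      obtain ⟨z, hz, rfl⟩ := hy
      refine (Submodule.Quotient.mk_eq_zero V).2 (hVm ▸ ?_)
      show z ∈ m.toIdeal
      rw [hmsp]
      exact Ideal.subset_span (Set.mem_biUnion hn hz)
    · intro hbot
      have h := (Hcomp_zero_eq_bot_iff F 0).1 ((Hgr_eq_bot_iff mG).1 hbot) (quotProj G V hV 1)
        (isGrHom_quotProj V hV 0 1 (SetLike.one_mem_graded G)) (htor _)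
      exact hone ((Submodule.Quotient.mk_eq_zero V).1 h)
  have hsum : (l.map Prod.snd).sum = (Finset.univ : Finset (Fin N)).sum w := by
    rw [show l.map Prod.snd = List.ofFn w from List.map_ofFn, List.sum_ofFn]
  rw [show N - l.length = 0 by simp [l], hY, hsum] at hlist
  letI : Module k C := Module.compHom C (algebraMap k R)
  haveI : IsScalarTower k R C := IsScalarTower.of_algebraMap_smul fun _ _ => rfl
  letI : Module k (IG.H mG N) := Module.compHom (IG.H mG N) (algebraMap k R)
  haveI : IsScalarTower k R (IG.H mG N) := IsScalarTower.of_algebraMap_smul fun _ _ => rfl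
  letI : Module k E' := Module.compHom E' (algebraMap k R)
  haveI : IsScalarTower k R E' := IsScalarTower.of_algebraMap_smul fun _ _ => rfl
  letI := (isInternal_Hgr mG IG N).chooseDecomposition
  haveI := gradedSMul_Hgr mG IG N
  obtain ⟨γ, hγ⟩ := gdual_of_canonical addGr_hk (addGr_hsurj hzero) hposG mG hmsp N IG he' hC'
  have hdual : ∀ j : ℤ, 𝒞 j = ⊥ ↔ IG.Hgr mG N (-j) = ⊥ := fun j => by
    rw [AddSubgroup.eq_bot_iff_forall, AddSubgroup.eq_bot_iff_forall]
    refine ⟨fun h x hx => ?_, fun h d hd => hγ.eq_zero j d hd fun x hx => by rw [h x hx, map_zero]⟩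
    by_contra hne
    obtain ⟨g, hg⟩ := Module.Projective.exists_dual_ne_zero k hne
    obtain ⟨d, hd, hdx⟩ := hγ.exists_eq j g
    exact hg (by rw [← hdx x hx, h d hd, map_zero, LinearMap.zero_apply])
  let W : ℤ := (Finset.univ : Finset (Fin N)).sum w
  have hend : GrLC.endDeg (IG.Hgr mG N) = (((-a : ℤ) : WithTop ℤ) : WithBot (WithTop ℤ)) := by
    refine le_antisymm ((endDeg_le_iff' (-a)).2 fun g hg => ?_) (le_iSup₂_of_le (-a) (fun hbot => ?_) le_rfl)
    · have h : 𝒞 (-g) = ⊥ := (AddSubgroup.eq_bot_iff_forall _).2 fun x hx => by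
        obtain ⟨y, hy, rfl⟩ := exists_preimage_mem hfa (g := -g - a) (y := x) (by rwa [sub_add_cancel]) (hf.2 x)
        rw [(AddSubgroup.eq_bot_iff_forall _).1 (hposG (-g - a) (by omega)) y hy, map_zero]
      simpa using (hdual (-g)).1 h
    · have h1 : f 1 ∈ 𝒞 a := by simpa using hfa 0 1 (SetLike.one_mem_graded G)
      rw [(hdual a).2 hbot, AddSubgroup.mem_bot] at h1
      exact one_ne_zero (hf.1 (h1.trans (map_zero f).symm))
  have h2 : (((0 : ℤ) : WithTop ℤ) : WithBot (WithTop ℤ)) =
      (((-a : ℤ) : WithTop ℤ) : WithBot (WithTop ℤ)) + ((W : WithTop ℤ) : WithBot (WithTop ℤ)) :=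
    hlist.trans (congrArg (fun z => z + ((W : WithTop ℤ) : WithBot (WithTop ℤ))) hend)
  rw [← WithBot.coe_add, ← WithTop.coe_add, WithBot.coe_eq_coe, WithTop.coe_eq_coe] at h2
  omega

end Groth.Agent.S18651
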