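import Groth.Statements.S18653
import Groth.Agent.H4DimOne.Basic

set_option autoImplicit false
universe u
open GrLC

namespace Groth.Agent.S18653

/-- Let R be a graded ring defined over an algebraically closed field k which is an integral domain of
dimension one. Then R is isomorphic to a semigroup ring (the subring of k[T] spanned by the
monomials T^h, h in an additive submonoid H of ℕ); moreover, if R is generated over k by R_1, then R
is a polynomial ring k[T]. Here a graded ring defined over k is a commutative k-algebra of finite
type graded in nonnegative degrees by k-subspaces with degree-zero part k·1; the isomorphisms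
asserted are ring isomorphisms. -/
theorem result (k : Type u) [Field k] [IsAlgClosed k] (R : Type u) [CommRing R] [IsDomain R] [Algebra k R] (𝒜 : ℤ → Submodule k R) [GradedAlgebra 𝒜] (hpos : ∀ n : ℤ, n < 0 → 𝒜 n = ⊥) (h0 : 𝒜 0 = Submodule.span k {(1 : R)}) [Algebra.FiniteType k R] (h1 : ringKrullDim R = 1) : (∃ H : AddSubmonoid ℕ, Nonempty (R ≃+* AddMonoidAlgebra k H)) ∧ (Ideal.span (⋃ n ∈ Set.Ioi (0 : ℤ), (𝒜 n : Set R)) = Ideal.span ((𝒜 1 : Submodule k R) : Set R) → Nonempty (R ≃+* Polynomial k)) := by
  exact ⟨Groth.Agent.H4DimOne.exists_semigroup hpos h0 h1, Groth.Agent.H4DimOne.nonempty_polynomial hpos h0 h1⟩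

end Groth.Agent.S18653
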