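import Groth.Statements.S18656
import Groth.Agent.H4Gr.KoszulReg
import Groth.Agent.H4Gr.Dim

set_option autoImplicit false
universe u
open GrLC

namespace Groth.Agent.S18656

/-- Let R be a graded ring defined over a field k = R_0, generated over k by R_1, of dimension r ≥ 1,
and let a(R) be its a-invariant. Then the homogeneous piece H^r_m(R)_n is nonzero for every n ≤
a(R). Here 'graded ring defined over a field' means R = ⊕_{n ≥ 0} R_n is Noetherian with R_0 a
field, and m = R_+ is its unique graded maximal ideal. The a-invariant a(R) is the largest degree in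
which the graded local cohomology H^n_m(R) (n = dim R, m = R_+), computed from a *injective
resolution of R in the graded category, is nonzero. -/
theorem result (R : Type u) [CommRing R] [IsNoetherianRing R] (𝒜 : ℤ → AddSubgroup R) [GradedRing 𝒜] (hpos : ∀ n : ℤ, n < 0 → 𝒜 n = ⊥) (h0 : IsField (GrLC.deg0 𝒜)) (m : HomogeneousIdeal 𝒜) (hm : GrLC.IsStarLocal 𝒜 m) (hmsp : m.toIdeal = Ideal.span (⋃ n ∈ Set.Ioi (0 : ℤ), (𝒜 n : Set R))) (hstd : Ideal.span (⋃ n ∈ Set.Ioi (0 : ℤ), (𝒜 n : Set R)) = Ideal.span ((𝒜 1 : AddSubgroup R) : Set R)) (r : ℕ) (hr : ringKrullDim R = r) (h1 : 1 ≤ r) (I : GrLC.StarInjRes 𝒜 𝒜) (a : ℤ) (ha : GrLC.endDeg (I.Hgr m r) = ((a : WithTop ℤ) : WithBot (WithTop ℤ))) (n : ℤ) (hn : n ≤ a) : I.Hcomp m r n ≠ ⊥ := by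
  open Groth.Agent.H4Gr in
  intro hbot
  have key : ∀ k : ℕ, I.Hcomp m r (n + k) = ⊥ := by
    intro k
    induction k with
    | zero => simpa using hbot
    | succ k ih =>
      refine Hcomp_eq_bot_of_diag I (hmsp.trans hstd) h1 fun j => ?_
      cases j with
      | zero => rwa [show n + ((k + 1 : ℕ) : ℤ) - ((0 + 1 : ℕ) : ℤ) = n + (k : ℤ) by push_cast; ring]
      | succ j => exact (Hcomp_eq_bot_iff m).2 fun x _ => H_eq_zero_of_dim_lt m hr.le (by omega) I x
  have hle : GrLC.endDeg (I.Hgr m r) ≤ (((a - 1 : ℤ) : WithTop ℤ) : WithBot (WithTop ℤ)) := by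
    rw [endDeg_le_iff']
    intro g hg
    rw [Hgr_eq_bot_iff]
    have h := key (g - n).toNat
    rwa [show n + (((g - n).toNat : ℕ) : ℤ) = g by omega] at h
  rw [ha, WithBot.coe_le_coe, WithTop.coe_le_coe] at hle
  omega

end Groth.Agent.S18656
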