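import Groth.Statements.S18657
import Groth.Agent.H4Ver.TwoLe
import Groth.Agent.H4GD.GorCanon
import Groth.Agent.H4Gr.PosLocal

set_option autoImplicit false
universe u
open GrLC

namespace Groth.Agent.S18657

/-- Let R be a graded ring defined over a field k = R_0 which is Cohen–Macaulay and generated over k by
R_1, of dimension r ≥ 2, with canonical module K_R and a-invariant a(R). Then dim_k (K_R)_n ≥ 2 for
every n > −a(R). Here 'graded ring defined over a field' means R = ⊕_{n ≥ 0} R_n is Noetherian with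
R_0 a field (so R is finitely generated over R_0), m = R_+ is its unique graded maximal ideal and n
= dim R; the canonical module K_R (the graded dual of H^n_m(R)) is represented by a finitely
generated graded module C together with a homogeneous isomorphism from Hom_R(C, E) onto H^n_m(R),
where E is a *injective envelope of R/m and H^n_m(R) is computed from a *injective resolution of R
in the graded category; by graded Matlis duality this says exactly that C ≅ K_R as graded modules.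
The a-invariant a(R) is the largest degree in which the graded local cohomology H^n_m(R) (n = dim R,
m = R_+), computed from a *injective resolution of R in the graded category, is nonzero. -/
theorem result (R : Type u) [CommRing R] [LocCoh.IsCohenMacaulayRing R] (𝒜 : ℤ → AddSubgroup R) [GradedRing 𝒜] (hpos : ∀ n : ℤ, n < 0 → 𝒜 n = ⊥) (h0 : IsField (GrLC.deg0 𝒜)) (m : HomogeneousIdeal 𝒜) (hm : GrLC.IsStarLocal 𝒜 m) (hmsp : m.toIdeal = Ideal.span (⋃ n ∈ Set.Ioi (0 : ℤ), (𝒜 n : Set R))) (hstd : Ideal.span (⋃ n ∈ Set.Ioi (0 : ℤ), (𝒜 n : Set R)) = Ideal.span ((𝒜 1 : AddSubgroup R) : Set R)) (n : ℕ) (hn : ringKrullDim R = n) (h2 : 2 ≤ n) (I : GrLC.StarInjRes 𝒜 𝒜) (a : ℤ) (ha : GrLC.endDeg (I.Hgr m n) = ((a : WithTop ℤ) : WithBot (WithTop ℤ))) (E' : Type u) [AddCommGroup E'] [Module R E'] (𝓔 : ℤ → AddSubgroup E') [DirectSum.Decomposition 𝓔] [SetLike.GradedSMul 𝒜 𝓔] (e : (R ⧸ m.toIdeal) →ₗ[R] E') (he : GrLC.IsStarInjHull 𝒜 (GrLC.quotGr 𝒜 m) 𝓔 e) (C : Type u) [AddCommGroup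 C] [Module R C] (𝒞 : ℤ → AddSubgroup C) [DirectSum.Decomposition 𝒞] [SetLike.GradedSMul 𝒜 𝒞] (hC : GrLC.IsStarCanonical 𝒜 𝒞 𝓔 m n I) (j : ℤ) (hj : -a < j) : 2 ≤ Module.finrank (GrLC.deg0 𝒜) (GrLC.comp 𝒜 𝒞 j) := by
  open Groth.Agent in
  haveI : m.toIdeal.IsMaximal := H4Gr.isMaximal_of_isStarLocal hpos hm
  let A := Localization.AtPrime m.toIdeal
  haveI := LocCoh.IsCohenMacaulayRing.isCohenMacaulayLocalRing_localization (R := R) m.toIdeal
  have hd : ringKrullDim A = n := by
    rw [IsLocalization.AtPrime.ringKrullDim_eq_height m.toIdeal A, H4GD.height_eq hpos hm hn]; rfl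
  obtain ⟨v, hv⟩ := H4GD.exists_hull_localized_star he
  obtain ⟨eK⟩ := H4GD.nonempty_localized_canonical he I hC hv
  haveI : Module.Finite R C := hC.1
  haveI : Module.Finite A (LocalizedModule m.toIdeal.primeCompl C) :=
    Module.Finite.of_isLocalizedModule m.toIdeal.primeCompl (LocalizedModule.mkLinearMap _ C)
  obtain ⟨hs, hcm⟩ := H4LC.depth_canon hv hd eK
  have hdep : (2 : ℕ∞) ≤ LocCoh.depth A (LocalizedModule m.toIdeal.primeCompl C) := by
    have h : ((n : ℕ∞) : WithBot ℕ∞) = _ := hs.symm.trans hcm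
    rw [← WithBot.coe_inj.1 h]
    exact_mod_cast h2
  letI := h0.toField
  letI : Module (GrLC.deg0 𝒜) E' := Module.compHom E' (algebraMap (GrLC.deg0 𝒜) R)
  haveI : IsScalarTower (GrLC.deg0 𝒜) R E' := IsScalarTower.of_algebraMap_smul fun _ _ => rfl
  haveI : IsScalarTower (GrLC.deg0 𝒜) R C := IsScalarTower.of_algebraMap_smul fun _ _ => rfl
  haveI : IsScalarTower (GrLC.deg0 𝒜) R (I.H m n) := IsScalarTower.of_algebraMap_smul fun _ _ => rfl
  haveI : Nontrivial R := nontrivial_of_ne 1 0 fun h => hm.1.1 (HomogeneousIdeal.toIdeal_injective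
    ((Ideal.eq_top_iff_one _).2 (h ▸ zero_mem _)))
  letI := (H4Gr.isInternal_Hgr m I n).chooseDecomposition
  haveI := H4Gr.gradedSMul_Hgr m I n
  obtain ⟨γ, hγ⟩ := H4GD.gdual_of_canonical (k := GrLC.deg0 𝒜) (fun c => c.2) (fun x hx => ⟨⟨x, hx⟩, rfl⟩)
    hpos m hmsp n I he hC
  obtain ⟨z, hz, hz0⟩ : ∃ z ∈ 𝒞 (-a), z ≠ 0 := by
    by_contra hc
    push Not at hc
    have hbot : I.Hgr m n a = ⊥ := (AddSubgroup.eq_bot_iff_forall _).2 fun x hx => by
      by_contra hne
      obtain ⟨g, hg⟩ := Module.Projective.exists_dual_ne_zero (GrLC.deg0 𝒜) hne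
      obtain ⟨d, hd, hdx⟩ := hγ.exists_eq (-a) g
      exact hg (by rw [← hdx x (by rwa [neg_neg]), hc d hd, map_zero, LinearMap.zero_apply])
    have hle : GrLC.endDeg (I.Hgr m n) ≤ (((a - 1 : ℤ) : WithTop ℤ) : WithBot (WithTop ℤ)) :=
      (H4Gr.endDeg_le_iff' _).2 fun g hg => by
        rcases eq_or_ne g a with rfl | hga
        · exact hbot
        · exact (H4Gr.endDeg_le_iff' a).1 ha.le g (by omega)
    rw [ha, WithBot.coe_le_coe, WithTop.coe_le_coe] at hle
    omega
  obtain ⟨t, rfl⟩ : ∃ t : ℕ, j = -a + t := ⟨(j + a).toNat, by omega⟩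
  exact H4Ver.two_le_finrank h0 (hmsp.trans hstd) hm hdep hz hz0 (t := t) (by omega)

end Groth.Agent.S18657
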