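import Groth.Statements.S18659
import Groth.Agent.H4KS.SegGor

set_option autoImplicit false
universe u
open scoped TensorProduct
open GrSegre

namespace Groth.Agent.S18659

/-- Let R and S be graded rings defined over a field k which are Gorenstein, of dimensions r ≥ 2 and s ≥
2, with a(R) = a(S). If the Segre product T = R # S is a Cohen–Macaulay ring, then T is a Gorenstein
ring. (No generation in degree one is assumed here.) Here a graded ring defined over k is a
commutative k-algebra of finite type, graded in nonnegative degrees by k-subspaces with degree-zero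
part k·1; the a-invariant a(R) is the largest degree in which the graded local cohomology H^{dim
R}_{R_+}(R), computed from a *injective resolution of R in the graded category, is nonzero; the
Segre product T = ⊕_n R_n ⊗_k S_n is presented abstractly as a graded k-algebra T with an injective
k-algebra homomorphism ψ : T → R ⊗_k S carrying T_n onto the k-span of the elementary tensors a ⊗ b
with a ∈ R_n, b ∈ S_n. -/
theorem result (k : Type u) [Field k] (R : Type u) [CommRing R] [Algebra k R] (𝒜 : ℤ → Submodule k R) [GradedAlgebra 𝒜] (hposR : ∀ n : ℤ, n < 0 → 𝒜 n = ⊥) (h0R : 𝒜 0 = Submodule.span k {(1 : R)}) [Algebra.FiniteType k R] (S : Type u) [CommRing S] [Algebra k S] (ℬ : ℤ → Submodule k S) [GradedAlgebra ℬ] (hposS : ∀ n : ℤ, n < 0 → ℬ n = ⊥) (h0S : ℬ 0 = Submodule.span k {(1 : S)}) [Algebra.FiniteType k S] (T : Type u) [CommRing T] [Algebra k T] (𝒯 : ℤ → Submodule k T) [GradedAlgebra 𝒯] (ψ : T →ₐ[k] TensorProduct k R S) (hψ : Function.Injective ψ) (hdegT : ∀ n :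 ℤ, (𝒯 n).map ψ.toLinearMap = Submodule.span k {x : TensorProduct k R S | ∃ a ∈ 𝒜 n, ∃ b ∈ ℬ n, x = a ⊗ₜ[k] b}) [LocCoh.IsGorensteinRing R] [LocCoh.IsGorensteinRing S] (mR : HomogeneousIdeal 𝒜) (hmR : mR.toIdeal = Ideal.span (⋃ n ∈ Set.Ioi (0 : ℤ), (𝒜 n : Set R))) (I : GrLC.StarInjRes 𝒜 𝒜) (mS : HomogeneousIdeal ℬ) (hmS : mS.toIdeal = Ideal.span (⋃ n ∈ Set.Ioi (0 : ℤ), (ℬ n : Set S))) (J : GrLC.StarInjRes ℬ ℬ) (r s : ℕ) (hr : ringKrullDim R = r) (hs : ringKrullDim S = s) (h2r : 2 ≤ r) (h2s : 2 ≤ s) (haeq : GrLC.endDeg (I.Hgr mR r) = GrLC.endDeg (J.Hgr mS s)) [LocCoh.IsCohenMacaulayRing T] : LocCoh.IsGorensteinRing T := by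
  open Groth.Agent in
  obtain ⟨p, rfl⟩ : ∃ p, r = p + 2 := ⟨r - 2, by omega⟩
  obtain ⟨q, rfl⟩ : ∃ q, s = q + 2 := ⟨s - 2, by omega⟩
  haveI : Nontrivial R := by
    by_contra h
    rw [not_nontrivial_iff_subsingleton] at h
    rw [ringKrullDim_eq_bot_of_subsingleton] at hr
    exact WithBot.bot_ne_coe hr
  haveI : Nontrivial S := by
    by_contra h
    rw [not_nontrivial_iff_subsingleton] at h
    rw [ringKrullDim_eq_bot_of_subsingleton] at hs
    exact WithBot.bot_ne_coe hs
  exact H4KS.isGorensteinRing_segre hposR h0R hposS h0S (ψ := ψ) (𝒯 := 𝒯) ⟨hψ, hdegT⟩ mR hmR mS hmS I J hr hs haeq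

end Groth.Agent.S18659
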