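import Groth.Statements.S18660
import Groth.Agent.H4KS.SegOne

set_option autoImplicit false
universe u
open scoped TensorProduct
open GrSegre

namespace Groth.Agent.S18660

/-- Let R and S be standard graded rings defined over a field k which are Cohen–Macaulay of dimension 1,
and assume R is not a polynomial ring over k. If the Segre product T = R # S is a Gorenstein ring,
then S is a polynomial ring k[T] and R is a Gorenstein ring. Here a graded ring defined over k is a
commutative k-algebra of finite type, graded in nonnegative degrees by k-subspaces with degree-zero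
part k·1, standard graded when its irrelevant ideal is generated by the degree-one piece;
'polynomial ring' means k-algebra isomorphic to k[T]; the Segre product T = ⊕_n R_n ⊗_k S_n is
presented abstractly as a graded k-algebra T with an injective k-algebra homomorphism ψ : T → R ⊗_k
S carrying T_n onto the k-span of the elementary tensors a ⊗ b with a ∈ R_n, b ∈ S_n. -/
theorem result (k : Type u) [Field k] (R : Type u) [CommRing R] [Algebra k R] (𝒜 : ℤ → Submodule k R) [GradedAlgebra 𝒜] (hposR : ∀ n : ℤ, n < 0 → 𝒜 n = ⊥) (h0R : 𝒜 0 = Submodule.span k {(1 : R)}) [Algebra.FiniteType k R] (S : Type u) [CommRing S] [Algebra k S] (ℬ : ℤ → Submodule k S) [GradedAlgebra ℬ] (hposS : ∀ n : ℤ, n < 0 → ℬ n = ⊥) (h0S : ℬ 0 = Submodule.span k {(1 : S)}) [Algebra.FiniteType k S] (T : Type u) [CommRing T] [Algebra k T] (𝒯 : ℤ → Submodule k T) [GradedAlgebra 𝒯] (ψ : T →ₐ[k] TensorProduct k R S) (hψ : Function.Injective ψ) (hdegT : ∀ n : ℤ, (𝒯 n).map ψ.toLinearMap = Submodule.span k {x : TensorProduct k R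 S | ∃ a ∈ 𝒜 n, ∃ b ∈ ℬ n, x = a ⊗ₜ[k] b}) [LocCoh.IsCohenMacaulayRing R] [LocCoh.IsCohenMacaulayRing S] (hstdR : Ideal.span (⋃ n ∈ Set.Ioi (0 : ℤ), (𝒜 n : Set R)) = Ideal.span ((𝒜 1 : Submodule k R) : Set R)) (hstdS : Ideal.span (⋃ n ∈ Set.Ioi (0 : ℤ), (ℬ n : Set S)) = Ideal.span ((ℬ 1 : Submodule k S) : Set S)) (hr : ringKrullDim R = 1) (hs : ringKrullDim S = 1) (hR : IsEmpty (R ≃ₐ[k] Polynomial k)) [LocCoh.IsGorensteinRing T] : Nonempty (S ≃ₐ[k] Polynomial k) ∧ LocCoh.IsGorensteinRing R := by
  haveI : IsNoetherianRing R := Algebra.FiniteType.isNoetherianRing k R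
  haveI : Nontrivial R := by
    by_contra h
    haveI := not_nontrivial_iff_subsingleton.1 h
    rw [ringKrullDim_eq_bot_of_subsingleton] at hr
    exact WithBot.bot_ne_one hr
  haveI : Nontrivial S := by
    by_contra h
    haveI := not_nontrivial_iff_subsingleton.1 h
    rw [ringKrullDim_eq_bot_of_subsingleton] at hs
    exact WithBot.bot_ne_one hs
  obtain ⟨m, hm, h | h⟩ := Groth.Agent.H4KS.One.exists_line hposR h0R hposS h0S hstdR hstdS hr hs ⟨hψ, hdegT⟩
  · obtain ⟨y, -, hy⟩ := Groth.Agent.H4KS.One.exists_aeval_bijective hposR h0R hstdR hr hm h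
    exact (hR.false (AlgEquiv.ofBijective _ hy).symm).elim
  · obtain ⟨y, hy1, hy⟩ := Groth.Agent.H4KS.One.exists_aeval_bijective hposS h0S hstdS hs hm h
    exact ⟨⟨(AlgEquiv.ofBijective _ hy).symm⟩,
      Groth.Agent.H4KS.One.gorenstein_left_of_polynomial hposS ⟨hψ, hdegT⟩ hy1 hy hposR⟩

end Groth.Agent.S18660
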