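import Groth.Statements.S18661
import Groth.Agent.H4Gr.Acyclic
import Groth.Agent.H4LC.Torsion

set_option autoImplicit false
universe u
open GrLC

namespace Groth.Agent.S18661

/-- Let R be a graded ring defined over a field, m = R_+, and M a graded R-module satisfying condition
(*): for every nonzero x ∈ M the annihilator Ann_R(x) is an m-primary ideal. Then H^0_m(M) = M, i.e.
every element of M is killed by a power of m, and H^q_m(M) = 0 for every q ≠ 0 (graded local
cohomology, computed from any *injective resolution of M in the graded category). Here 'graded ring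
defined over a field' means R = ⊕_{n ≥ 0} R_n is Noetherian with R_0 a field, and m = R_+ is its
unique graded maximal ideal. -/
theorem result (R : Type u) [CommRing R] [IsNoetherianRing R] (𝒜 : ℤ → AddSubgroup R) [GradedRing 𝒜] (hpos : ∀ n : ℤ, n < 0 → 𝒜 n = ⊥) (h0 : IsField (GrLC.deg0 𝒜)) (m : HomogeneousIdeal 𝒜) (hm : GrLC.IsStarLocal 𝒜 m) (hmsp : m.toIdeal = Ideal.span (⋃ n ∈ Set.Ioi (0 : ℤ), (𝒜 n : Set R))) (M : Type u) [AddCommGroup M] [Module R M] (ℳ : ℤ → AddSubgroup M) [DirectSum.Decomposition ℳ] [SetLike.GradedSMul 𝒜 ℳ] (hstar : ∀ x : M, x ≠ 0 → ((Submodule.span R {x}).annihilator).IsPrimary ∧ ((Submodule.span R {x}).annihilator).radical = m.toIdeal) : GrLC.gam m.toIdeal M = ⊤ ∧ ∀ (E : GrLC.StarInjRes 𝒜 ℳ) (q : ℕ), 1 ≤ q → Subsingleton (E.H m q) := by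
  have htop : GrLC.gam m.toIdeal M = ⊤ := eq_top_iff.2 fun x _ => by
    by_cases hx : x = 0
    · rw [hx]; exact zero_mem _
    obtain ⟨n, hn⟩ := Ideal.exists_pow_le_of_le_radical_of_fg (hstar x hx).2.ge (IsNoetherian.noetherian _)
    exact ⟨n, fun r hr => (Submodule.mem_annihilator_span_singleton x r).1 (hn hr)⟩
  refine ⟨htop, fun E q hq => ?_⟩
  obtain ⟨e⟩ := H4Gr.nonempty_H_equiv m E q
  haveI := H4LC.subsingleton_H_of_isPowerTorsion m.toIdeal q M (fun x => by
    obtain ⟨n, hn⟩ : x ∈ GrLC.gam m.toIdeal M := htop ▸ Submodule.mem_top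
    exact ⟨n, hn⟩) hq
  exact e.toEquiv.subsingleton

end Groth.Agent.S18661
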