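import Groth.Statements.S18662
import Groth.Agent.H4Gr.Acyclic
import Groth.Agent.H4LC.Hiso

set_option autoImplicit false
universe u
open GrLC

namespace Groth.Agent.S18662

/-- Let R be a graded ring defined over a field, m = R_+, and M a graded R-module satisfying condition
(**): there is a homogeneous f ∈ R_d with d > 0 such that multiplication by f on M is bijective.
Then H^q_m(M) = 0 for every integer q (graded local cohomology, computed from any *injective
resolution of M in the graded category). Here 'graded ring defined over a field' means R = ⊕_{n ≥ 0}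
R_n is Noetherian with R_0 a field, and m = R_+ is its unique graded maximal ideal. -/
theorem result (R : Type u) [CommRing R] [IsNoetherianRing R] (𝒜 : ℤ → AddSubgroup R) [GradedRing 𝒜] (hpos : ∀ n : ℤ, n < 0 → 𝒜 n = ⊥) (h0 : IsField (GrLC.deg0 𝒜)) (m : HomogeneousIdeal 𝒜) (hm : GrLC.IsStarLocal 𝒜 m) (hmsp : m.toIdeal = Ideal.span (⋃ n ∈ Set.Ioi (0 : ℤ), (𝒜 n : Set R))) (M : Type u) [AddCommGroup M] [Module R M] (ℳ : ℤ → AddSubgroup M) [DirectSum.Decomposition ℳ] [SetLike.GradedSMul 𝒜 ℳ] (d : ℤ) (hd : 0 < d) (f : R) (hf : f ∈ 𝒜 d) (hbij : Function.Bijective (fun x : M => f • x)) (E : GrLC.StarInjRes 𝒜 ℳ) (q : ℕ) : Subsingleton (E.H m q) := by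
  obtain ⟨e⟩ := H4Gr.nonempty_H_equiv m E q
  suffices h : Subsingleton (LocCoh.H m.toIdeal q M) from e.toEquiv.subsingleton
  have hfm : f ∈ m.toIdeal := hmsp ▸ Ideal.subset_span (Set.mem_iUnion₂.2 ⟨d, hd, hf⟩)
  let μ : M ≃ₗ[R] M := LinearEquiv.ofBijective (f • LinearMap.id) hbij
  have hbijH : Function.Injective (fun z : LocCoh.H m.toIdeal q M => f • z) := by
    have := ((localCohomology m.toIdeal q).mapIso μ.toModuleIso).toLinearEquiv.injective
    intro a b hab
    refine this ?_
    have h1 : ∀ z, ((localCohomology m.toIdeal q).mapIso μ.toModuleIso).toLinearEquiv z = f • z := fun z =>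
      H4LC.Hmap_smul_id m.toIdeal M f q z
    rw [h1, h1]
    exact hab
  refine subsingleton_of_forall_eq 0 fun z => ?_
  obtain ⟨n, hn⟩ := H4LC.isPowerTorsion_H m.toIdeal q M z
  have h := hn (f ^ n) (Ideal.pow_mem_pow hfm n)
  induction n generalizing z with
  | zero => simpa using h
  | succ k ih =>
    rw [pow_succ', mul_smul] at h
    exact ih z (fun r hr => hbijH (by
      show f • r • z = f • (0 : LocCoh.H m.toIdeal q M)
      rw [smul_zero, ← mul_smul]
      exact hn _ (by rw [pow_succ']; exact Ideal.mul_mem_mul hfm hr))) (hbijH (h.trans (smul_zero f).symm))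

end Groth.Agent.S18662
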