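import Groth.Statements.S18664
import Groth.Agent.H4KS.RingCM

set_option autoImplicit false
universe u
open scoped TensorProduct
open GrSegre

namespace Groth.Agent.S18664

/-- Let R and S be standard graded rings defined over a field k which are Cohen–Macaulay, with dim R = 1
and dim S ≥ 2. Then the Segre product T = R # S is a Cohen–Macaulay ring if and only if R is a
polynomial ring over k (in one variable). Here a graded ring defined over k is a commutative
k-algebra of finite type, graded in nonnegative degrees by k-subspaces with degree-zero part k·1,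
standard graded when its irrelevant ideal is generated by the degree-one piece; the Segre product T
= ⊕_n R_n ⊗_k S_n is presented abstractly as a graded k-algebra T with an injective k-algebra
homomorphism ψ : T → R ⊗_k S carrying T_n onto the k-span of the elementary tensors a ⊗ b with a ∈
R_n, b ∈ S_n. -/
theorem result (k : Type u) [Field k] (R : Type u) [CommRing R] [Algebra k R] (𝒜 : ℤ → Submodule k R) [GradedAlgebra 𝒜] (hposR : ∀ n : ℤ, n < 0 → 𝒜 n = ⊥) (h0R : 𝒜 0 = Submodule.span k {(1 : R)}) [Algebra.FiniteType k R] (S : Type u) [CommRing S] [Algebra k S] (ℬ : ℤ → Submodule k S) [GradedAlgebra ℬ] (hposS : ∀ n : ℤ, n < 0 → ℬ n = ⊥) (h0S : ℬ 0 = Submodule.span k {(1 : S)}) [Algebra.FiniteType k S] (T : Type u) [CommRing T] [Algebra k T] (𝒯 : ℤ → Submodule k T) [GradedAlgebra 𝒯] (ψ : T →ₐ[k] TensorProduct k R S) (hψ : Function.Injective ψ) (hdegT : ∀ n : ℤ, (𝒯 n).map ψ.toLinearMap = Submodule.span k {x : TensorProduct k R S | ∃ a ∈ 𝒜 n, ∃ b ∈ ℬ n, x = a ⊗ₜ[k]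 b}) [LocCoh.IsCohenMacaulayRing R] [LocCoh.IsCohenMacaulayRing S] (hstdR : Ideal.span (⋃ n ∈ Set.Ioi (0 : ℤ), (𝒜 n : Set R)) = Ideal.span ((𝒜 1 : Submodule k R) : Set R)) (hstdS : Ideal.span (⋃ n ∈ Set.Ioi (0 : ℤ), (ℬ n : Set S)) = Ideal.span ((ℬ 1 : Submodule k S) : Set S)) (hr : ringKrullDim R = 1) (hs : 2 ≤ ringKrullDim S) : LocCoh.IsCohenMacaulayRing T ↔ Nonempty (R ≃ₐ[k] Polynomial k) := by
  haveI : Nontrivial R := by
    by_contra hn
    haveI := not_nontrivial_iff_subsingleton.1 hn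
    simp [ringKrullDim_eq_bot_of_subsingleton] at hr
  haveI : Nontrivial S := by
    by_contra hn
    haveI := not_nontrivial_iff_subsingleton.1 hn
    simp [ringKrullDim_eq_bot_of_subsingleton] at hs
  haveI : IsNoetherianRing S := Algebra.FiniteType.isNoetherianRing k S
  haveI := Groth.Agent.H4Segre.isMaximal_irr ℬ hposS h0S
  obtain ⟨n, hn⟩ := ENat.ne_top_iff_exists.1
    (Ideal.height_ne_top (I := Groth.Agent.H4Segre.irr ℬ) (Ideal.IsMaximal.ne_top inferInstance))
  have hle : ringKrullDim S ≤ (n : WithBot ℕ∞) := by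
    rw [← ringKrullDim_eq_of_ringEquiv (RingEquiv.quotientBot S)]
    exact Groth.Agent.H4Segre.ringKrullDim_quotient_le_hgt ℬ hposS h0S n ⊥ (Ideal.IsHomogeneous.bot ℬ) bot_ne_top
      (by rw [Groth.Agent.H4Gr.hgt_bot]; exact hn.ge)
  have hge : (n : WithBot ℕ∞) ≤ ringKrullDim S := by
    have h := Ideal.height_le_ringKrullDim_of_ne_top (I := Groth.Agent.H4Segre.irr ℬ) (Ideal.IsMaximal.ne_top inferInstance)
    rw [← hn] at h
    exact h
  have hsn : ringKrullDim S = (n : WithBot ℕ∞) := le_antisymm hle hge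
  have h2 : 2 ≤ n := by rw [hsn] at hs; exact_mod_cast hs
  let mR : HomogeneousIdeal 𝒜 := ⟨Groth.Agent.H4Segre.irr 𝒜, Groth.Agent.H4Segre.isHomogeneous_irr 𝒜⟩
  haveI : IsNoetherianRing R := Algebra.FiniteType.isNoetherianRing k R
  obtain ⟨E⟩ := Groth.Agent.H4KS.nonempty_starInjRes 𝒜 (Groth.Agent.H4KS.addGr 𝒜)
  rw [(Groth.Agent.H4KS.ring_CM_dim_one hposR h0R hposS h0S mR rfl ⟨hψ, hdegT⟩ E hr hsn (by omega)).1 h2,
    ← Groth.Agent.H4KS.nonempty_polynomial_iff hposR h0R hstdR hr mR rfl E]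
  refine ⟨fun h m hm => (h m).resolve_right (Groth.Agent.H4KS.piece_ne_bot hposS h0S hstdS hsn (by omega) hm), fun h m => ?_⟩
  rcases lt_or_ge m 0 with hm | hm
  · exact Or.inr (hposS m hm)
  · exact Or.inl (h m hm)

end Groth.Agent.S18664
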