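import Groth.Statements.S18665
import Groth.Agent.H4KS.SegShift
import Groth.Agent.H4KS.SegExists
import Groth.Agent.S18640

set_option autoImplicit false
universe u
open scoped TensorProduct
open GrSegre

namespace Groth.Agent.S18665

/-- Let R and S be standard graded rings defined over a field k which are Gorenstein, of dimensions r ≥
2 and s ≥ 2, put a = a(R), b = a(S) with a ≥ b, and assume that the Segre product T = R # S is a
Cohen–Macaulay ring. Then the type r(T) equals dim_k R_{a−b}. Here the type of T is the Bass number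
μ_{r+s−1}(T_+, T), the dimension over the residue field of Ext^{r+s−1} over the local ring of T at
its graded maximal ideal T_+ (T has dimension r + s − 1); a graded ring defined over k is a
commutative k-algebra of finite type, graded in nonnegative degrees by k-subspaces with degree-zero
part k·1, standard graded when its irrelevant ideal is generated by the degree-one piece; the
a-invariant is the largest nonzero degree of the top graded local cohomology with support in the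
irrelevant ideal, computed from a *injective resolution in the graded category; the Segre product T
= ⊕_n R_n ⊗_k S_n is presented abstractly as a graded k-algebra T with an injective k-algebra
homomorphism ψ : T → R ⊗_k S carrying T_n onto the k-span of the elementary tensors a ⊗ b with a ∈
R_n, b ∈ S_n. -/
theorem result (k : Type u) [Field k] (R : Type u) [CommRing R] [Algebra k R] (𝒜 : ℤ → Submodule k R) [GradedAlgebra 𝒜] (hposR : ∀ n : ℤ, n < 0 → 𝒜 n = ⊥) (h0R : 𝒜 0 = Submodule.span k {(1 : R)}) [Algebra.FiniteType k R] (S : Type u) [CommRing S] [Algebra k S] (ℬ : ℤ → Submodule k S) [GradedAlgebra ℬ] (hposS : ∀ n : ℤ, n < 0 → ℬ n = ⊥) (h0S : ℬ 0 = Submodule.span k {(1 : S)}) [Algebra.FiniteType k S] (T : Type u) [CommRing T] [Algebra k T] (𝒯 : ℤ → Submodule k T) [GradedAlgebra 𝒯] (ψ : T →ₐ[k] TensorProduct k R S) (hψ : Function.Injective ψ) (hdegT : ∀ n : ℤ, (𝒯 n).map ψ.toLinearMap = Submodule.span k {x : TensorProduct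 k R S | ∃ a ∈ 𝒜 n, ∃ b ∈ ℬ n, x = a ⊗ₜ[k] b}) [LocCoh.IsGorensteinRing R] [LocCoh.IsGorensteinRing S] (mR : HomogeneousIdeal 𝒜) (hmR : mR.toIdeal = Ideal.span (⋃ n ∈ Set.Ioi (0 : ℤ), (𝒜 n : Set R))) (hstdR : Ideal.span (⋃ n ∈ Set.Ioi (0 : ℤ), (𝒜 n : Set R)) = Ideal.span ((𝒜 1 : Submodule k R) : Set R)) (I : GrLC.StarInjRes 𝒜 𝒜) (mS : HomogeneousIdeal ℬ) (hmS : mS.toIdeal = Ideal.span (⋃ n ∈ Set.Ioi (0 : ℤ), (ℬ n : Set S))) (hstdS : Ideal.span (⋃ n ∈ Set.Ioi (0 : ℤ), (ℬ n : Set S)) = Ideal.span ((ℬ 1 : Submodule k S) : Set S)) (J : GrLC.StarInjRes ℬ ℬ) (r s : ℕ) (hr : ringKrullDim R = r) (hs : ringKrullDim S = s) (h2r : 2 ≤ r) (h2s : 2 ≤ s) (a b : ℤ) (ha : GrLC.endDeg (I.Hgr mR r) = ((a : WithTop ℤ) : WithBot (WithTop ℤ))) (hb : GrLC.endDeg (J.Hgr mS s) = ((b : WithTop ℤ) : WithBot (WithTop ℤ))) (hab : b ≤ a) [LocCoh.IsCohenMacaulayRing T] (mT : HomogeneousIdeal 𝒯) [mT.toIdeal.IsMaximal] (hmT : mT.toIdeal = Ideal.span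 (⋃ n ∈ Set.Ioi (0 : ℤ), (𝒯 n : Set T))) : GrLC.bassNum mT.toIdeal T (r + s - 1) = (Module.finrank k (𝒜 (a - b)) : ℕ∞) := by
  open Groth.Agent in
  obtain ⟨p, rfl⟩ : ∃ p, r = p + 2 := ⟨r - 2, by omega⟩
  obtain ⟨q, rfl⟩ : ∃ q, s = q + 2 := ⟨s - 2, by omega⟩
  haveI : Nontrivial R := by
    by_contra h
    rw [not_nontrivial_iff_subsingleton] at h
    rw [ringKrullDim_eq_bot_of_subsingleton] at hr
    exact WithBot.bot_ne_coe hr
  haveI : Nontrivial S := by
    by_contra h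
    rw [not_nontrivial_iff_subsingleton] at h
    rw [ringKrullDim_eq_bot_of_subsingleton] at hs
    exact WithBot.bot_ne_coe hs
  haveI : IsNoetherianRing R := Algebra.FiniteType.isNoetherianRing k R
  haveI : IsNoetherianRing S := Algebra.FiniteType.isNoetherianRing k S
  have hT : GrSeg.IsSegreRing 𝒜 ℬ 𝒯 ψ := ⟨hψ, hdegT⟩
  haveI : H4KS.SegreHom ψ 𝒜 ℬ 𝒯 := ⟨hT⟩
  haveI := H4KS.isNoetherianRing_T hT
  haveI := H4KS.nontrivial_T hT
  have hposT := H4KS.negT hT hposR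
  have h0T := H4KS.deg0_segre hT h0R h0S
  obtain ⟨a', ha', hCR⟩ := H4KS.exists_shift_canonical hposR h0R mR hmR hr I
  obtain ⟨b', hb', hCS⟩ := H4KS.exists_shift_canonical hposS h0S mS hmS hs J
  obtain rfl : a = a' := by exact_mod_cast WithTop.coe_eq_coe.1 (WithBot.coe_eq_coe.1 (ha.symm.trans ha'))
  obtain rfl : b = b' := by exact_mod_cast WithTop.coe_eq_coe.1 (WithBot.coe_eq_coe.1 (hb.symm.trans hb'))
  obtain ⟨IT₀⟩ := H4KS.nonempty_starInjRes 𝒯 (H4KS.addGr 𝒯)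
  let IT : GrLC.StarInjRes 𝒯 𝒯 := {
    X := IT₀.X, d := IT₀.d, ε := IT₀.ε, d_grHom := IT₀.d_grHom,
    ε_grHom := IT₀.ε_grHom, ε_injective := IT₀.ε_injective, exact_zero := IT₀.exact_zero,
    exact_succ := IT₀.exact_succ, starInj := IT₀.starInj }
  obtain ⟨ER, eR, heR⟩ := H4KS.exists_hull_alg hposR h0R mR hmR
  obtain ⟨ES, eS, heS⟩ := H4KS.exists_hull_alg hposS h0S mS hmS
  obtain ⟨ET, eT', heT⟩ := H4KS.exists_hull_alg hposT h0T mT hmT
  letI := (H4Gr.isInternal_shiftPieces (ℳ := H4KS.addGr 𝒜) a).chooseDecomposition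
  haveI := H4KS.gradedSMul_shA (𝒜 := 𝒜) a
  letI := (H4Gr.isInternal_shiftPieces (ℳ := H4KS.addGr ℬ) b).chooseDecomposition
  haveI := H4KS.gradedSMul_shA (𝒜 := ℬ) b
  haveI := H4Gr.gradedSMul_shiftPieces (𝒜 := H4KS.addGr 𝒜) (ℳ := H4KS.addGr 𝒜) a
  haveI := H4Gr.gradedSMul_shiftPieces (𝒜 := H4KS.addGr ℬ) (ℳ := H4KS.addGr ℬ) b
  obtain ⟨P, φ, hP⟩ := H4KS.exists_segreMod (𝒜 := 𝒜) (ℬ := ℬ) (𝒯 := 𝒯) ψ (H4KS.shA 𝒜 a) (H4KS.shA ℬ b)
  have hC := H4KS.isStarCanonical_segre hposR h0R hposS h0S hT mR hmR mS hmS mT hmT I J IT hr hs heR (hCR heR) heS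
    (hCS heS) heT hP
  have hn : ringKrullDim T = ((p + q + 3 : ℕ) : WithBot ℕ∞) := by
    rw [S18647.result k R 𝒜 hposR h0R S ℬ hposS h0S T 𝒯 ψ hψ hdegT (p + 2) (q + 2) hr hs (by omega) (by omega),
      show p + 2 + (q + 2) - 1 = p + q + 3 by omega]
  haveI : (H4KS.idealA 𝒯 mT).toIdeal.IsMaximal := ‹mT.toIdeal.IsMaximal›
  obtain ⟨-, h⟩ := S18640.result T (H4KS.addGr 𝒯) (H4GD.addGr_hpos hposT)
    (H4GD.isField_deg0 H4GD.addGr_hk (H4GD.addGr_hsurj h0T)) (H4KS.idealA 𝒯 mT)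
    (H4KS.isStarLocal_addGr hposT h0T mT hmT) hmT (p + q + 3) hn (H4KS.addRes IT) ET.carrier ET.gr eT'
    (H4KS.isStarInjHull_addGr mT heT) P.carrier P.gr ((H4KS.isStarCanonical_addGr_iff mT _ IT).2 hC)
  rw [show p + 2 + (q + 2) - 1 = p + q + 3 by omega]
  refine h.trans ?_
  exact congrArg Nat.cast (H4KS.finrank_generators_segShift hposR h0R hposS h0S hT hstdR hab hP mT hmT)

end Groth.Agent.S18665
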