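import Groth.Statements.S18666
import Groth.Agent.H11GorProj.Main

set_option autoImplicit false
universe u
open GrProj

namespace Groth.Agent.S18666

open AlgebraicGeometry Pointwise in
/-- Let A = ⊕_{n ≥ 0} A_n be a commutative Noetherian graded ring satisfying condition (#) — there is an
integer d_0 such that for every d ≥ d_0 the Veronese subring A^(d) is generated by A_d over A_0,
equivalently A_{(n+1)d} is additively generated by the products A_d A_{nd} for every n ≥ 1 — and
assume A is a Gorenstein ring. Then X = Proj A is a Gorenstein scheme: all of its local rings are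
Gorenstein local rings. (The Cohen–Macaulay case of the same lemma is stated separately.) -/
theorem result (A : Type u) [CommRing A] (𝒜 : ℕ → AddSubgroup A) [GradedRing 𝒜] [LocCoh.IsGorensteinRing A] (hsharp : ∃ d₀ : ℕ, ∀ d : ℕ, d₀ ≤ d → ∀ n : ℕ, 1 ≤ n → 𝒜 ((n + 1) * d) = AddSubgroup.closure ((𝒜 d : Set A) * (𝒜 (n * d) : Set A))) (x : Proj 𝒜) : LocCoh.IsGorensteinLocalRing ((Proj 𝒜).presheaf.stalk x) := by
  obtain ⟨d₀, hd⟩ := hsharp
  exact H11GorProj.isGorensteinLocalRing_stalk 𝒜 inferInstance d₀ hd x

end Groth.Agent.S18666
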