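import Groth.Statements.S18674
import Groth.Agent.H4KS.Canon
import Groth.Agent.S18647

set_option autoImplicit false
universe u
open scoped TensorProduct
open GrSegre

namespace Groth.Agent.S18674

/-- Let R and S be graded rings defined over a field k of dimensions r ≥ 2 and s ≥ 2, and T = R # S
their Segre product (of dimension r + s − 1). Then K_T ≅ K_R # K_S. Stated here degree by degree as
dim (K_T)_n = dim (K_R)_n · dim (K_S)_n for every n (the published statement is the isomorphism of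
graded T-modules). Here a graded ring defined over k is a commutative k-algebra of finite type,
graded in nonnegative degrees by k-subspaces with degree-zero part k·1; the canonical module of each
of R, S, T is represented by a finitely generated graded module together with a homogeneous
isomorphism from its Hom into a *injective envelope of the residue field onto the top graded local
cohomology of the ring with support in its irrelevant ideal (indices r, s, r + s − 1), computed from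
a *injective resolution in the graded category; dimensions of pieces are over the respective
degree-zero fields (all k); the Segre product T = ⊕_n R_n ⊗_k S_n is presented abstractly as a
graded k-algebra T with an injective k-algebra homomorphism ψ : T → R ⊗_k S carrying T_n onto the
k-span of the elementary tensors a ⊗ b with a ∈ R_n, b ∈ S_n. -/
theorem result (k : Type u) [Field k] (R : Type u) [CommRing R] [Algebra k R] (𝒜 : ℤ → Submodule k R) [GradedAlgebra 𝒜] (hposR : ∀ n : ℤ, n < 0 → 𝒜 n = ⊥) (h0R : 𝒜 0 = Submodule.span k {(1 : R)}) [Algebra.FiniteType k R] (S : Type u) [CommRing S] [Algebra k S] (ℬ : ℤ → Submodule k S) [GradedAlgebra ℬ] (hposS : ∀ n : ℤ, n < 0 → ℬ n = ⊥) (h0S : ℬ 0 = Submodule.span k {(1 : S)}) [Algebra.FiniteType k S] (T : Type u) [CommRing T] [Algebra k T] (𝒯 : ℤ → Submodule k T) [GradedAlgebra 𝒯] (ψ : T →ₐ[k] TensorProduct k R S) (hψ : Function.Injective ψ) (hdegT : ∀ n : ℤ, (𝒯 n).map ψ.toLinearMap = Submodule.span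 k {x : TensorProduct k R S | ∃ a ∈ 𝒜 n, ∃ b ∈ ℬ n, x = a ⊗ₜ[k] b}) (mR : HomogeneousIdeal 𝒜) (hmR : mR.toIdeal = Ideal.span (⋃ n ∈ Set.Ioi (0 : ℤ), (𝒜 n : Set R))) (I : GrLC.StarInjRes 𝒜 𝒜) (mS : HomogeneousIdeal ℬ) (hmS : mS.toIdeal = Ideal.span (⋃ n ∈ Set.Ioi (0 : ℤ), (ℬ n : Set S))) (J : GrLC.StarInjRes ℬ ℬ) (mT : HomogeneousIdeal 𝒯) (hmT : mT.toIdeal = Ideal.span (⋃ n ∈ Set.Ioi (0 : ℤ), (𝒯 n : Set T))) (IT : GrLC.StarInjRes 𝒯 𝒯) (r s : ℕ) (hr : ringKrullDim R = r) (hs : ringKrullDim S = s) (h2r : 2 ≤ r) (h2s : 2 ≤ s) (ER : Type u) [AddCommGroup ER] [Module R ER] (𝓔R : ℤ → AddSubgroup ER) [DirectSum.Decomposition 𝓔R] [SetLike.GradedSMul 𝒜 𝓔R] (eR : (R ⧸ mR.toIdeal) →ₗ[R] ER) (heR : GrLC.IsStarInjHull 𝒜 (GrLC.quotGr 𝒜 mR) 𝓔R eR) (CR : Type u) [AddCommGroup CR] [Module R CR] (𝒞R : ℤ → AddSubgroup CR) [DirectSum.Decomposition 𝒞R] [SetLike.GradedSMul 𝒜 𝒞R] (hCR : GrLC.IsStarCanonical 𝒜 𝒞R 𝓔R mR r I) (ES : Type u) [AddCommGroup ES]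 [Module S ES] (𝓔S : ℤ → AddSubgroup ES) [DirectSum.Decomposition 𝓔S] [SetLike.GradedSMul ℬ 𝓔S] (eS : (S ⧸ mS.toIdeal) →ₗ[S] ES) (heS : GrLC.IsStarInjHull ℬ (GrLC.quotGr ℬ mS) 𝓔S eS) (CS : Type u) [AddCommGroup CS] [Module S CS] (𝒞S : ℤ → AddSubgroup CS) [DirectSum.Decomposition 𝒞S] [SetLike.GradedSMul ℬ 𝒞S] (hCS : GrLC.IsStarCanonical ℬ 𝒞S 𝓔S mS s J) (ET : Type u) [AddCommGroup ET] [Module T ET] (𝓔T : ℤ → AddSubgroup ET) [DirectSum.Decomposition 𝓔T] [SetLike.GradedSMul 𝒯 𝓔T] (eT : (T ⧸ mT.toIdeal) →ₗ[T] ET) (heT : GrLC.IsStarInjHull 𝒯 (GrLC.quotGr 𝒯 mT) 𝓔T eT) (CT : Type u) [AddCommGroup CT] [Module T CT] (𝒞T : ℤ → AddSubgroup CT) [DirectSum.Decomposition 𝒞T] [SetLike.GradedSMul 𝒯 𝒞T] (hCT : GrLC.IsStarCanonical 𝒯 𝒞T 𝓔T mT (r + s - 1) IT) (n : ℤ) : Module.finrank (GrLC.deg0 𝒯) (GrLC.comp 𝒯 𝒞T n) = Module.finrank (GrLC.deg0 𝒜) (GrLC.comp 𝒜 𝒞R n) * Module.finrank (GrLC.deg0 ℬ) (GrLC.comp ℬ 𝒞S n) := by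
  open Groth.Agent.H4KS in
  haveI : Nontrivial R := by
    by_contra hn
    haveI := not_nontrivial_iff_subsingleton.1 hn
    simp [ringKrullDim_eq_bot_of_subsingleton] at hr
  haveI : Nontrivial S := by
    by_contra hn
    haveI := not_nontrivial_iff_subsingleton.1 hn
    simp [ringKrullDim_eq_bot_of_subsingleton] at hs
  have hT : GrSeg.IsSegreRing 𝒜 ℬ 𝒯 ψ := ⟨hψ, hdegT⟩
  haveI : IsNoetherianRing R := Algebra.FiniteType.isNoetherianRing k R
  haveI : IsNoetherianRing S := Algebra.FiniteType.isNoetherianRing k S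
  haveI := isNoetherianRing_T hT
  haveI := nontrivial_T hT
  have h0T := deg0_segre hT h0R h0S
  have hposT : ∀ i : ℤ, i < 0 → 𝒯 i = ⊥ := by
    intro i hi
    refine Submodule.map_injective_of_injective (f := ψ.toLinearMap) hT.1 ?_
    rw [hT.2 i, Submodule.map_bot, GrSeg.segrePiece, Submodule.span_eq_bot]
    rintro _ ⟨x, hx, y, -, rfl⟩
    rw [hposR i hi, Submodule.mem_bot] at hx
    rw [hx, TensorProduct.zero_tmul]
  haveI := finiteType_of_noetherian hposT h0T
  rw [finrank_canonical hposR h0R mR hmR I heR hCR, finrank_canonical hposS h0S mS hmS J heS hCS,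
    finrank_canonical hposT h0T mT hmT IT heT hCT]
  obtain ⟨cA, cB, hA, hB, hP⟩ := kunneth_high hposR h0R hposS h0S hT mR hmR mS hmS mT hmT (selfRes I) (selfRes J)
    (isSegreMod_self hT) (selfRes IT) (-n)
  obtain ⟨a, rfl⟩ : ∃ a, r = a + 2 := ⟨r - 2, by omega⟩
  obtain ⟨b, rfl⟩ : ∃ b, s = b + 2 := ⟨s - 2, by omega⟩
  have h := hP (a + b + 1)
  rw [show a + 2 + (b + 2) - 1 = a + b + 1 + 2 by omega]
  refine h.trans ?_
  rw [Finset.sum_eq_single (a + 1) (fun p hp hne => ?_)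
    (fun hne => absurd (Finset.mem_range.2 (by omega)) hne), hA, show a + b + 1 + 1 - (a + 1) = b + 1 by omega, hB]
  · rfl
  · rw [Finset.mem_range] at hp
    rcases lt_or_gt_of_ne hne with hlt | hgt
    · rw [show a + b + 1 + 1 - p = (a + b + 1 - p) + 1 by omega, hB]
      have h0 := finrank_Hcomp_self_eq_zero mS hmS hs (i := a + b + 1 - p + 2) (by omega) J (-n)
      exact mul_eq_zero_of_right _ h0
    · obtain ⟨p', rfl⟩ : ∃ p', p = p' + 1 := ⟨p - 1, by omega⟩
      rw [hA]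
      have h0 := finrank_Hcomp_self_eq_zero mR hmR hr (i := p' + 2) (by omega) I (-n)
      exact mul_eq_zero_of_left h0 _

end Groth.Agent.S18674
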