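import Groth.Statements.S1868
import Mathlib
import Groth.Agent.H22Alg.FiniteDegree

set_option autoImplicit false
universe u
open CategoryTheory AlgebraicGeometry
open Cyc

namespace Groth.Agent.S1868

/-- Let f : X → Y be finite locally free of constant degree d (finite, flat, rank function constantly
d). Then f has relative dimension 0 and for every k-cycle α on Y, f_*(f^*α) = d·α (for any cycle
f^*α on X with the flat-pullback coefficients). Here a pair (X, δ) with Cyc.IsSetup plays the role
of a scheme locally of finite type over a fixed base with a dimension function (X locally Noetherian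
with universally catenary local rings, δ a dimension function), and Cyc.DeltaCompat records that the
dimension function upstairs is the induced one. -/
theorem result (X Y : Scheme.{u}) (δX : X → ℤ) (δY : Y → ℤ) (hX : Cyc.IsSetup X δX) (hY : Cyc.IsSetup Y δY) (f : X ⟶ Y) [IsFinite f] [Flat f] (d : ℕ) (hd : ∀ y : Y, f.finrank y = d) (hδ : Cyc.DeltaCompat f δX δY) (k : ℤ) : Cyc.HasRelDim f 0 ∧ ∀ (α : AlgebraicCycle Y ℤ), α ∈ Cyc.Zk Y δY k → ∀ α' : AlgebraicCycle X ℤ, ⇑α' = Cyc.pullFun f δX δY 0 ⇑α → AlgebraicCycle.map f δX δY α' = d • α := by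
  haveI := hX.1
  refine ⟨Groth.Agent.H22Alg.FiniteDegree.hasRelDim_zero f, fun α _ α' hα' => ?_⟩
  have hδx : ∀ x, δX x = δY (f x) := fun x => by
    obtain ⟨n, hn, hn'⟩ := hδ x
    letI := (f.residueFieldMap x).hom.toAlgebra
    haveI : Module.Finite (Y.residueField (f x)) (X.residueField x) :=
      Groth.Agent.H17.finite_residueFieldMap f x (by
        haveI : IsFinite (f.fiberToSpecResidueField (f x)) := MorphismProperty.pullback_snd _ _ inferInstance
        exact isClosed_discrete _)
    have h0 : Algebra.trdeg (Y.residueField (f x)) (X.residueField x) = 0 := trdeg_eq_zero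
    have : n = 0 := by exact_mod_cast (hn.symm.trans h0)
    omega
  classical
  ext y
  simp only [AlgebraicCycle.map, Function.locallyFinsupp.map_apply, Function.locallyFinsuppWithin.coe_nsmul, Pi.smul_apply, nsmul_eq_mul]
  rw [← hd y, ← Groth.Agent.H22Alg.FiniteDegree.finsum_fibre_eq_finrank f y]
  have hfin : (f ⁻¹' {y}).Finite := f.finite_preimage_singleton y
  rw [finsum_mem_eq_finite_toFinset_sum _ hfin, finsum_mem_eq_finite_toFinset_sum _ hfin, Nat.cast_sum, Finset.sum_mul]
  refine Finset.sum_congr rfl fun x hx => ?_
  have hxy : f x = y := hfin.mem_toFinset.mp hx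
  subst hxy
  rw [show α' x = Cyc.pullFun f δX δY 0 α x from congrFun hα' x, Cyc.pullFun, if_pos (by rw [hδx x, add_zero]),
    AlgebraicCycle.mapCoeff, if_pos (hδx x)]
  simp only [Groth.Agent.H22Alg.FiniteDegree.mult]
  push_cast
  ring

end Groth.Agent.S1868
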