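import Groth.Statements.S18694
import Groth.Agent.H21Rank1.Coord

set_option autoImplicit false
open CategoryTheory MonoidalCategory CartesianMonoidalCategory MonObj GrpObj AlgebraicGeometry
universe u
open MultTori

namespace Groth.Agent.S18694

open CategoryTheory CategoryTheory.Limits AlgebraicGeometry
open scoped TensorProduct

variable {A B : Type u} [CommRing A] [CommRing B] [Algebra A B]

theorem exists_unit_lift [Finite (MaximalSpectrum A)] [Algebra.IsIntegral A B]
    (R : MaximalSpectrum A → Type u) [∀ m, CommRing (R m)] (φ : ∀ m, B →+* R m)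
    (hsurj : ∀ m, Function.Surjective (φ m))
    (hker : ∀ m, RingHom.ker (φ m) = m.asIdeal.map (algebraMap A B))
    (a : ∀ m, R m) (ha : ∀ m, IsUnit (a m)) : ∃ b : B, IsUnit b ∧ ∀ m, φ m b = a m := by
  classical
  choose b₀ hb₀ using fun m => hsurj m (a m)
  have hco : Pairwise (fun m m' : MaximalSpectrum A => IsCoprime (RingHom.ker (φ m)) (RingHom.ker (φ m'))) := by
    intro m m' hne
    have h : m.asIdeal ⊔ m'.asIdeal = ⊤ := by
      haveI := m.isMaximal
      haveI := m'.isMaximal
      exact Ideal.IsMaximal.coprime_of_ne m.isMaximal m'.isMaximal (fun e => hne (MaximalSpectrum.ext e))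
    rw [Ideal.isCoprime_iff_sup_eq, hker, hker, ← Ideal.map_sup, h, Ideal.map_top]
  obtain ⟨b, hb⟩ := Ideal.exists_forall_sub_mem_ideal hco b₀
  have hb' : ∀ m, φ m b = a m := fun m => by
    have := RingHom.mem_ker.1 (hb m)
    rw [map_sub, sub_eq_zero] at this
    rw [this, hb₀]
  refine ⟨b, ?_, hb'⟩
  by_contra hnu
  obtain ⟨n, hn, hbn⟩ := exists_max_ideal_of_mem_nonunits (a := b) hnu
  haveI := hn
  haveI : (n.comap (algebraMap A B)).IsMaximal := Ideal.isMaximal_comap_of_isIntegral_of_isMaximal n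
  let m : MaximalSpectrum A := ⟨n.comap (algebraMap A B), this⟩
  obtain ⟨c, hc⟩ := hsurj m ((ha m).unit⁻¹ : (R m)ˣ)
  have h1 : b * c - 1 ∈ RingHom.ker (φ m) := by
    rw [RingHom.mem_ker, map_sub, map_mul, hb', hc, map_one, IsUnit.mul_val_inv, sub_self]
  rw [hker] at h1
  have h2 : b * c - 1 ∈ n := Ideal.map_comap_le h1
  have h3 : (1 : B) ∈ n := by
    have := n.sub_mem (n.mul_mem_right c hbn) h2
    rwa [sub_sub_cancel] at this
  exact hn.ne_top ((Ideal.eq_top_iff_one n).2 h3)

theorem includeRight_surjective (m : Ideal A) :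
    Function.Surjective (Algebra.TensorProduct.includeRight : B →ₐ[A] (A ⧸ m) ⊗[A] B) := by
  intro z
  induction z with
  | zero => exact ⟨0, map_zero _⟩
  | tmul x b =>
    obtain ⟨a, rfl⟩ := Ideal.Quotient.mk_surjective x
    refine ⟨a • b, ?_⟩
    rw [Algebra.TensorProduct.includeRight_apply, ← TensorProduct.smul_tmul]
    congr 1
    rw [Algebra.smul_def, _root_.mul_one]
    rfl
  | add x y hx hy =>
    obtain ⟨p, rfl⟩ := hx
    obtain ⟨q, rfl⟩ := hy
    exact ⟨p + q, map_add _ _ _⟩

theorem ker_includeRight (m : Ideal A) :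
    RingHom.ker ((Algebra.TensorProduct.includeRight : B →ₐ[A] (A ⧸ m) ⊗[A] B).toRingHom) = m.map (algebraMap A B) := by
  refine le_antisymm (fun x hx => ?_) ?_
  · let g : (A ⧸ m) ⊗[A] B →ₐ[A] B ⧸ m.map (algebraMap A B) :=
      Algebra.TensorProduct.lift (Ideal.Quotient.liftₐ m (Algebra.ofId A _) (fun a ha =>
          (Ideal.Quotient.eq_zero_iff_mem).2 (Ideal.mem_map_of_mem _ ha)))
        (Ideal.Quotient.mkₐ A _) (fun _ _ => Commute.all _ _)
    have h1 : g (Algebra.TensorProduct.includeRight x) = 0 := by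
      rw [show (Algebra.TensorProduct.includeRight : B →ₐ[A] (A ⧸ m) ⊗[A] B) x = 0 from hx, map_zero]
    rw [Algebra.TensorProduct.includeRight_apply, Algebra.TensorProduct.lift_tmul, map_one, _root_.one_mul] at h1
    exact Ideal.Quotient.eq_zero_iff_mem.1 h1
  · rw [Ideal.map_le_iff_le_comap]
    intro a ha
    show (Algebra.TensorProduct.includeRight : B →ₐ[A] (A ⧸ m) ⊗[A] B) (algebraMap A B a) = 0
    rw [AlgHom.commutes, Algebra.TensorProduct.algebraMap_apply, Ideal.Quotient.algebraMap_eq,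
      Ideal.Quotient.eq_zero_iff_mem.2 ha, TensorProduct.zero_tmul]

/-- In the case of the quasitrivial torus R_{B/A}(G_m), let A be a semilocal ring (finitely many maximal
ideals m, residue fields κ_m = A/m), B a finite étale A-algebra, and (P, q) a Weil restriction along
Spec B → Spec A of the multiplicative group over B (P an A-scheme with q : P ×_A B → G_{m,B}
universal). Then the reduction map P(A) → ∏_m P(κ_m) is surjective: every family (u_m) of κ_m-points
of P over the closed points of Spec A is the family of restrictions of one section of P over A. (The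
source states this for every invertible A-torus and reduces it to this case; the
invertible/quasitrivial notions are not available here, so only this case is stated.) -/
theorem result
    (A : Type u) [CommRing A] [Finite (MaximalSpectrum A)]
    (B : Type u) [CommRing B] [Algebra A B] [Module.Finite A B] [Algebra.Etale A B]
    (P : Over (Spec (CommRingCat.of A))) (q : Red.bc (Spec.map (CommRingCat.ofHom (algebraMap A B))) P ⟶ Red.Gm (Spec (CommRingCat.of B)))
    (hP : WeilRes.IsWeilRes (Spec.map (CommRingCat.ofHom (algebraMap A B))) (Red.Gm (Spec (CommRingCat.of B))) P q)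
    (u : ∀ m : MaximalSpectrum A, Spec (CommRingCat.of (A ⧸ m.asIdeal)) ⟶ P.left)
    (hu : ∀ m : MaximalSpectrum A, u m ≫ P.hom = (Spec.map (CommRingCat.ofHom (Ideal.Quotient.mk m.asIdeal)))) :
    ∃ s : Spec (CommRingCat.of A) ⟶ P.left, s ≫ P.hom = 𝟙 (Spec (CommRingCat.of A)) ∧
      ∀ m : MaximalSpectrum A, (Spec.map (CommRingCat.ofHom (Ideal.Quotient.mk m.asIdeal))) ≫ s = u m := by
  haveI : Algebra.IsIntegral A B := inferInstance
  let f := Spec.map (CommRingCat.ofHom (algebraMap A B))
  let T : MaximalSpectrum A → Over (Spec (CommRingCat.of A)) := fun m =>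
    Over.mk (Spec.map (CommRingCat.ofHom (Ideal.Quotient.mk m.asIdeal)))
  let T1 : Over (Spec (CommRingCat.of A)) := Over.mk (𝟙 _)
  let c : ∀ m, T m ⟶ T1 := fun m =>
    Over.homMk (Spec.map (CommRingCat.ofHom (Ideal.Quotient.mk m.asIdeal))) (Category.comp_id _)
  let g : ∀ m, T m ⟶ P := fun m => Over.homMk (u m) (hu m)
  let e : ∀ m : MaximalSpectrum A, (Red.bc f (T m)).left ≅ Spec (CommRingCat.of ((A ⧸ m.asIdeal) ⊗[A] B)) :=
    fun m => pullbackSpecIso A (A ⧸ m.asIdeal) B
  let φ : ∀ m : MaximalSpectrum A, B →+* Γ((Red.bc f (T m)).left, ⊤) := fun m =>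
    ((Red.bc f (T m)).hom.appTop).hom.comp (Scheme.ΓSpecIso (CommRingCat.of B)).inv.hom
  have hφ : ∀ m (b : B), φ m b = (e m).hom.appTop ((Scheme.ΓSpecIso _).inv
      ((Algebra.TensorProduct.includeRight : B →ₐ[A] (A ⧸ m.asIdeal) ⊗[A] B) b)) := fun m b => by
    have h : (Red.bc f (T m)).hom = (e m).hom ≫ Spec.map (CommRingCat.ofHom
        ((Algebra.TensorProduct.includeRight : B →ₐ[A] (A ⧸ m.asIdeal) ⊗[A] B).toRingHom)) :=
      (pullbackSpecIso_hom_snd A (A ⧸ m.asIdeal) B).symm
    have h2 := congrArg (fun (ψ : (Red.bc f (T m)).left ⟶ Spec (CommRingCat.of B)) =>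
      ψ.appTop ((Scheme.ΓSpecIso (CommRingCat.of B)).inv b)) h
    refine h2.trans ?_
    simp only [Scheme.Hom.comp_appTop, CommRingCat.comp_apply]
    congr 1
    exact (congrArg (fun ψ => ψ.hom b) (Scheme.ΓSpecIso_inv_naturality (CommRingCat.ofHom
        ((Algebra.TensorProduct.includeRight : B →ₐ[A] (A ⧸ m.asIdeal) ⊗[A] B).toRingHom)))).symm
  have hbij : ∀ m, Function.Bijective (fun x : (A ⧸ m.asIdeal) ⊗[A] B =>
      (e m).hom.appTop ((Scheme.ΓSpecIso (CommRingCat.of ((A ⧸ m.asIdeal) ⊗[A] B))).inv x)) := fun m =>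
    haveI : IsIso (e m).hom.appTop := (Scheme.Γ.mapIso (e m).op).isIso_hom
    ConcreteCategory.bijective_of_isIso
      ((Scheme.ΓSpecIso (CommRingCat.of ((A ⧸ m.asIdeal) ⊗[A] B))).inv ≫ (e m).hom.appTop)
  have hsurj : ∀ m, Function.Surjective (φ m) := fun m y => by
    obtain ⟨z, hz⟩ := (hbij m).2 y
    obtain ⟨b, rfl⟩ := includeRight_surjective m.asIdeal z
    exact ⟨b, (hφ m b).trans hz⟩
  have hker : ∀ m, RingHom.ker (φ m) = m.asIdeal.map (algebraMap A B) := fun m => by
    rw [← ker_includeRight]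
    ext b
    rw [RingHom.mem_ker, RingHom.mem_ker, hφ]
    refine ⟨fun h => (hbij m).1 (h.trans (by simp)), fun h => ?_⟩
    rw [show (Algebra.TensorProduct.includeRight : B →ₐ[A] (A ⧸ m.asIdeal) ⊗[A] B) b = 0 from h, map_zero, map_zero]
  obtain ⟨b, hb, hbm⟩ := exists_unit_lift (fun m => Γ((Red.bc f (T m)).left, ⊤)) φ hsurj hker
    (fun m => Red.gmFn (WeilRes.restr f q (T m) (g m))) (fun m => H21Rank1.isUnit_gmFn _)
  obtain ⟨t, ht⟩ := H21Rank1.gmFn_surjective (X := Red.bc f T1)
    ((Red.bc f T1).hom.appTop ((Scheme.ΓSpecIso (CommRingCat.of B)).inv b)) ((hb.map _).map _)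
  obtain ⟨s, hs⟩ := (hP T1).2 t
  refine ⟨s.left, Over.w s, fun m => ?_⟩
  have hm : c m ≫ s = g m := by
    refine (hP (T m)).1 (H21Rank1.gmFn_injective ?_)
    rw [WeilRes.restr_comp, hs, H21Rank1.gmFn_comp, ht, ← hbm m]
    have h := congrArg (fun (ψ : (Red.bc f (T m)).left ⟶ Spec (CommRingCat.of B)) =>
      ψ.appTop ((Scheme.ΓSpecIso (CommRingCat.of B)).inv b)) (Over.w ((Over.pullback f).map (c m)))
    simp only [Scheme.Hom.comp_appTop, CommRingCat.comp_apply] at h
    exact h
  exact congrArg CommaMorphism.left hm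

end Groth.Agent.S18694
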