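import Groth.Statements.S1870
import Groth.Agent.H22Alg.Herbrand

set_option autoImplicit false
universe u v
open CycAlg

namespace Groth.Agent.S1870

/-- A morphism of (2,1)-periodic complexes, both with finite-length cohomology, whose kernel and
cokernel have finite length does not change the additive Herbrand quotient: e_R(M, φ, ψ) = e_R(M',
φ', ψ'). -/
theorem result {R : Type u} [CommRing R] {M M' : Type v} [AddCommGroup M] [Module R M] [AddCommGroup M'] [Module R M'] (φ ψ : M →ₗ[R] M) (φ' ψ' : M' →ₗ[R] M') (h : CycAlg.IsPeriodic φ ψ) (h' : CycAlg.IsPeriodic φ' ψ') (f : M →ₗ[R] M') (cφ : φ' ∘ₗ f = f ∘ₗ φ) (cψ : ψ' ∘ₗ f = f ∘ₗ ψ) (hfin : CycAlg.FinCoh R φ ψ) (hfin' : CycAlg.FinCoh R φ' ψ') (hker : Module.length R (LinearMap.ker f) < ⊤) (hcoker : Module.length R (M' ⧸ LinearMap.range f) < ⊤) : CycAlg.herbrand R φ ψ = CycAlg.herbrand R φ' ψ' := by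
  have hK : ∀ (g : M →ₗ[R] M) (g' : M' →ₗ[R] M'), g' ∘ₗ f = f ∘ₗ g →
      ∀ x ∈ LinearMap.ker f, g x ∈ LinearMap.ker f := by
    intro g g' c x hx
    have := LinearMap.congr_fun c x
    simp only [LinearMap.comp_apply] at this
    rw [LinearMap.mem_ker] at hx ⊢
    rw [← this, hx, map_zero]
  have hI : ∀ (g : M →ₗ[R] M) (g' : M' →ₗ[R] M'), g' ∘ₗ f = f ∘ₗ g →
      ∀ x ∈ LinearMap.range f, g' x ∈ LinearMap.range f := by
    rintro g g' c _ ⟨x, rfl⟩
    exact ⟨g x, (LinearMap.congr_fun c x).symm⟩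
  let φK := φ.restrict (hK φ φ' cφ)
  let ψK := ψ.restrict (hK ψ ψ' cψ)
  let φI := φ'.restrict (hI φ φ' cφ)
  let ψI := ψ'.restrict (hI ψ ψ' cψ)
  let φC := (LinearMap.range f).mapQ (LinearMap.range f) φ' (hI φ φ' cφ)
  let ψC := (LinearMap.range f).mapQ (LinearMap.range f) ψ' (hI ψ ψ' cψ)
  have perK : CycAlg.IsPeriodic φK ψK :=
    ⟨LinearMap.ext fun x => Subtype.ext (LinearMap.congr_fun h.1 x.1),
      LinearMap.ext fun x => Subtype.ext (LinearMap.congr_fun h.2 x.1)⟩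
  have perI : CycAlg.IsPeriodic φI ψI :=
    ⟨LinearMap.ext fun x => Subtype.ext (LinearMap.congr_fun h'.1 x.1),
      LinearMap.ext fun x => Subtype.ext (LinearMap.congr_fun h'.2 x.1)⟩
  have perC : CycAlg.IsPeriodic φC ψC :=
    ⟨Submodule.linearMap_qext _ (LinearMap.ext fun x => by
        show Submodule.Quotient.mk (φ' (ψ' x)) = 0
        rw [show φ' (ψ' x) = 0 from LinearMap.congr_fun h'.1 x, Submodule.Quotient.mk_zero]),
      Submodule.linearMap_qext _ (LinearMap.ext fun x => by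
        show Submodule.Quotient.mk (ψ' (φ' x)) = 0
        rw [show ψ' (φ' x) = 0 from LinearMap.congr_fun h'.2 x, Submodule.Quotient.mk_zero])⟩
  obtain ⟨hKf, hKe⟩ := Groth.Agent.H22Alg.finCoh_herbrand_of_length φK ψK perK hker hker
  obtain ⟨hCf, hCe⟩ := Groth.Agent.H22Alg.finCoh_herbrand_of_length φC ψC perC hcoker hcoker
  obtain ⟨-, -, hIf, e1⟩ := Groth.Agent.H22Alg.herbrand_shortExact (φ₁ := φK) (ψ₁ := ψK) (φ₂ := φ) (ψ₂ := ψ)
    (φ₃ := φI) (ψ₃ := ψI) h (f₁ := (LinearMap.ker f).subtype) (g₁ := (LinearMap.ker f).subtype)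
    (f₂ := f.rangeRestrict) (g₂ := f.rangeRestrict)
    (LinearMap.ext fun x => rfl) (LinearMap.ext fun x => rfl)
    (LinearMap.ext fun x => Subtype.ext (LinearMap.congr_fun cφ x))
    (LinearMap.ext fun x => Subtype.ext (LinearMap.congr_fun cψ x))
    (Submodule.subtype_injective _) (Submodule.subtype_injective _)
    f.surjective_rangeRestrict f.surjective_rangeRestrict
    (by rw [Submodule.range_subtype, LinearMap.ker_rangeRestrict])
    (by rw [Submodule.range_subtype, LinearMap.ker_rangeRestrict]) (Or.inl ⟨hKf, hfin⟩)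
  obtain ⟨-, -, -, e2⟩ := Groth.Agent.H22Alg.herbrand_shortExact (φ₁ := φI) (ψ₁ := ψI) (φ₂ := φ') (ψ₂ := ψ')
    (φ₃ := φC) (ψ₃ := ψC) h' (f₁ := (LinearMap.range f).subtype) (g₁ := (LinearMap.range f).subtype)
    (f₂ := (LinearMap.range f).mkQ) (g₂ := (LinearMap.range f).mkQ)
    (LinearMap.ext fun x => rfl) (LinearMap.ext fun x => rfl)
    (LinearMap.ext fun x => rfl) (LinearMap.ext fun x => rfl)
    (Submodule.subtype_injective _) (Submodule.subtype_injective _)
    (Submodule.mkQ_surjective _) (Submodule.mkQ_surjective _)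
    (by rw [Submodule.range_subtype, Submodule.ker_mkQ]) (by rw [Submodule.range_subtype, Submodule.ker_mkQ])
    (Or.inl ⟨hIf, hfin'⟩)
  rw [hKe, sub_self, zero_add] at e1
  rw [hCe, sub_self, add_zero] at e2
  rw [e1, e2]

end Groth.Agent.S1870
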