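import Groth.Statements.S18700
import Groth.Agent.H4Depth.DepthLemmas

set_option autoImplicit false
universe u
open QGor

namespace Groth.Agent.S18700

/-- Affine form. Let A be a Noetherian ring, I an ideal, and G the kernel of a linear map u : E⁰ → E¹ of
finite A-modules. If depth_I E⁰ ≥ 1 then depth_I G ≥ 1; if depth_I E⁰ ≥ 2 and depth_I E¹ ≥ 1 then
depth_I G ≥ 2. -/
theorem result (A : Type u) [CommRing A] [IsNoetherianRing A] (I : Ideal A)
    (E0 E1 : Type u) [AddCommGroup E0] [Module A E0] [Module.Finite A E0] [AddCommGroup E1] [Module A E1]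
    [Module.Finite A E1] (u : E0 →ₗ[A] E1) :
    (1 ≤ LocCoh.idealDepth I E0 → 1 ≤ LocCoh.idealDepth I (LinearMap.ker u)) ∧
    (2 ≤ LocCoh.idealDepth I E0 → 1 ≤ LocCoh.idealDepth I E1 → 2 ≤ LocCoh.idealDepth I (LinearMap.ker u)) := by
  have hex : Function.Exact (LinearMap.ker u).subtype u.rangeRestrict :=
    LinearMap.exact_iff.mpr (by simp)
  have hinj : Function.Injective (LinearMap.ker u).subtype := Subtype.val_injective
  have hsurj : Function.Surjective u.rangeRestrict := LinearMap.surjective_rangeRestrict u
  have h := H4Depth.min_le_idealDepth_left I hinj hsurj hex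
  refine ⟨fun h0 => le_trans (le_min h0 le_add_self) h, fun h0 h1 => ?_⟩
  have hr : 1 ≤ LocCoh.idealDepth I (LinearMap.range u) := by
    have hex' : Function.Exact (LinearMap.range u).subtype (LinearMap.range u).mkQ :=
      LinearMap.exact_iff.mpr (by simp)
    exact le_trans (le_min h1 le_add_self)
      (H4Depth.min_le_idealDepth_left I Subtype.val_injective (Submodule.mkQ_surjective _) hex')
  refine le_trans (le_min h0 ?_) h
  calc (2 : ℕ∞) = 1 + 1 := by norm_num
    _ ≤ _ := by gcongr

end Groth.Agent.S18700
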