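import Groth.Statements.S18704
import Groth.Agent.S18699
import Groth.Agent.S18702
import Groth.Agent.S18703
import Groth.Agent.H4Depth.SkFree

set_option autoImplicit false
universe u
open QGor

namespace Groth.Agent.S18704

/-- Affine form. Let A be a Noetherian ring with Serre's condition (S_2), I an ideal with ht I ≥ 2
(every prime containing I has height ≥ 2), and G a finite A-module with G_p reflexive for every
prime p not containing I. Then the following are equivalent: (i) G has (S_2) and dim Supp(G_p) ≥ 2
for every prime p ⊇ I in Supp G; (ii) depth_I G ≥ 2; (iii) G is reflexive. -/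
theorem result (A : Type u) [CommRing A] [IsNoetherianRing A]
    (hA : LocCoh.HasSk 2 A A) (I : Ideal A) (hI : 2 ≤ I.height)
    (G : Type u) [AddCommGroup G] [Module A G] [Module.Finite A G]
    (hU : ∀ p : PrimeSpectrum A, ¬ I ≤ p.asIdeal →
      Module.IsReflexive (Localization.AtPrime p.asIdeal) (LocalizedModule p.asIdeal.primeCompl G)) :
    ((LocCoh.HasSk 2 A G ∧ ∀ p : PrimeSpectrum A, I ≤ p.asIdeal → p ∈ Module.support A G →
        (2 : WithBot ℕ∞) ≤ Module.supportDim (Localization.AtPrime p.asIdeal) (LocalizedModule p.asIdeal.primeCompl G)) ↔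
      2 ≤ LocCoh.idealDepth I G) ∧
    (2 ≤ LocCoh.idealDepth I G ↔ Module.IsReflexive A G) := by
  have hA2 : (2 : ℕ∞) ≤ LocCoh.idealDepth I A := Groth.Agent.S18699.result 2 A A I hA fun p hp _ => by
    obtain ⟨e1⟩ := Groth.Agent.H4Depth.exists_localizedModule_self_equiv p.asIdeal
    rw [Module.supportDim_eq_of_equiv e1, Module.supportDim_self_eq_ringKrullDim,
      IsLocalization.AtPrime.ringKrullDim_eq_height p.asIdeal]
    exact WithBot.coe_le_coe.mpr (le_trans (by exact_mod_cast hI) (Ideal.height_mono hp))
  have hii : 2 ≤ LocCoh.idealDepth I G → Module.IsReflexive A G :=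
    Groth.Agent.S18703.result A I (le_trans one_le_two hA2) G hU
  refine ⟨⟨fun ⟨hS, hd⟩ => Groth.Agent.S18699.result 2 A G I hS fun p hp hs => by exact_mod_cast hd p hp hs,
    fun h => ?_⟩, hii, fun h => (Groth.Agent.S18702.result A I G).2.1 hA2⟩
  haveI := hii h
  refine ⟨(Groth.Agent.S18702.result A I G).2.2.2 hA, fun p hp hs => ?_⟩
  haveI : Nontrivial (LocalizedModule p.asIdeal.primeCompl G) := Module.mem_support_iff.mp hs
  refine le_trans ?_ Groth.Agent.H4Depth.depth_le_supportDim
  exact WithBot.coe_le_coe.mpr (h.trans (Groth.Agent.H4Depth.idealDepth_le_depth_localization _ hp))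

end Groth.Agent.S18704
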