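import Groth.Statements.S18710
import Groth.Agent.H4Depth.DepthLemmas
import Mathlib.RingTheory.Ideal.KrullsHeightTheorem
import Mathlib.RingTheory.Ideal.GoingDown
import Mathlib.RingTheory.Regular.Flat
import Mathlib.RingTheory.TensorProduct.Quotient
-- import your own Groth.Agent.* helpers here

set_option autoImplicit false
universe u
open QGor

namespace Groth.Agent.S18710

open scoped TensorProduct
open Groth.Agent.H4Depth

variable {A B : Type u} [CommRing A] [CommRing B] [IsNoetherianRing A] [IsNoetherianRing B] [Algebra A B]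

theorem exists_over {I : Ideal A}
    (hI : ∀ p : PrimeSpectrum A, I ≤ p.asIdeal → ∃ q : PrimeSpectrum B, q.asIdeal.comap (algebraMap A B) = p.asIdeal)
    (p : Ideal A) [p.IsPrime] (hp : I ≤ p) :
    ∃ q ∈ (p.map (algebraMap A B)).minimalPrimes, q.comap (algebraMap A B) = p := by
  obtain ⟨q₀, hq₀⟩ := hI ⟨p, ‹_›⟩ hp
  have hle : p.map (algebraMap A B) ≤ q₀.asIdeal := Ideal.map_le_iff_le_comap.2 hq₀.ge
  obtain ⟨q, hq, hqq⟩ := Ideal.exists_minimalPrimes_le hle
  exact ⟨q, hq, le_antisymm ((Ideal.comap_mono hqq).trans hq₀.le) (Ideal.map_le_iff_le_comap.1 hq.le)⟩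

theorem height_eq [Module.Flat A B] (I : Ideal A)
    (hI : ∀ p : PrimeSpectrum A, I ≤ p.asIdeal → ∃ q : PrimeSpectrum B, q.asIdeal.comap (algebraMap A B) = p.asIdeal) :
    (I.map (algebraMap A B)).height = I.height := by
  rw [Ideal.height_eq_inf_minimalPrimes, I.height_eq_inf_minimalPrimes]
  refine le_antisymm (le_iInf₂ fun p hp => ?_) (le_iInf₂ fun q hq => ?_)
  · haveI := hp.isPrime
    obtain ⟨q, hq, hqp⟩ := exists_over hI p hp.le
    haveI := hq.isPrime
    haveI : q.LiesOver p := ⟨hqp.symm⟩
    obtain ⟨r, hr, hrq⟩ := Ideal.exists_minimalPrimes_le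
      (show I.map (algebraMap A B) ≤ q from (Ideal.map_mono hp.le).trans hq.le)
    refine (iInf₂_le r hr).trans ((Ideal.height_mono hrq).trans ?_)
    refine (Ideal.height_le_height_add_of_liesOver p q).trans (le_of_eq ?_)
    haveI : (q.map (Ideal.Quotient.mk (p.map (algebraMap A B)))).IsPrime :=
      Ideal.map_isPrime_of_surjective Ideal.Quotient.mk_surjective (by rw [Ideal.mk_ker]; exact hq.le)
    rw [(Ideal.height_eq_zero_iff (I := q.map (Ideal.Quotient.mk (p.map (algebraMap A B))))).2 ?_, add_zero]
    refine ⟨⟨inferInstance, bot_le⟩, fun P ⟨hP, _⟩ hle => ?_⟩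
    haveI := hP
    have hc : (q.map (Ideal.Quotient.mk (p.map (algebraMap A B)))).comap (Ideal.Quotient.mk _) = q := by
      rw [Ideal.comap_map_of_surjective _ Ideal.Quotient.mk_surjective, ← RingHom.ker_eq_comap_bot, Ideal.mk_ker,
        sup_eq_left.2 hq.le]
    have h2 : q ≤ P.comap (Ideal.Quotient.mk _) := hq.2 ⟨hP.comap _, by
      conv_lhs => rw [← Ideal.mk_ker (I := p.map (algebraMap A B))]
      exact Ideal.ker_le_comap _⟩ ((Ideal.comap_mono hle).trans hc.le)
    exact (Ideal.map_mono h2).trans (Ideal.map_comap_le)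
  · haveI := hq.isPrime
    haveI : q.LiesOver (q.comap (algebraMap A B)) := ⟨rfl⟩
    obtain ⟨p, hp, hpq⟩ := Ideal.exists_minimalPrimes_le (Ideal.map_le_iff_le_comap.1 hq.le)
    refine (iInf₂_le p hp).trans ((Ideal.height_mono hpq).trans ?_)
    rw [Ideal.height_eq_height_add_of_liesOver_of_hasGoingDown (q.comap (algebraMap A B)) q]
    exact le_self_add

theorem depth_eq [Module.Flat A B] (I : Ideal A)
    (hI : ∀ p : PrimeSpectrum A, I ≤ p.asIdeal → ∃ q : PrimeSpectrum B, q.asIdeal.comap (algebraMap A B) = p.asIdeal)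
    (G : Type u) [AddCommGroup G] [Module A G] [Module.Finite A G] :
    LocCoh.idealDepth (I.map (algebraMap A B)) (B ⊗[A] G) = LocCoh.idealDepth I G := by
  by_cases hIM : I • (⊤ : Submodule A G) = ⊤
  · rw [idealDepth_eq_top hIM, idealDepth_eq_top (eq_top_iff.2 ?_)]
    rintro z -
    induction z using TensorProduct.induction_on with
    | zero => exact zero_mem _
    | add x y hx hy => exact add_mem hx hy
    | tmul b g =>
      have hg : g ∈ I • (⊤ : Submodule A G) := hIM.ge Submodule.mem_top
      refine Submodule.smul_induction_on hg (fun r hr x _ => ?_) (fun x y hx hy => ?_)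
      · rw [TensorProduct.tmul_smul, ← algebraMap_smul B r (b ⊗ₜ[A] x)]
        exact Submodule.smul_mem_smul (Ideal.mem_map_of_mem _ hr) Submodule.mem_top
      · rw [TensorProduct.tmul_add]; exact add_mem hx hy
  obtain ⟨rs, -, hreg, hmem, hmax⟩ := exists_maximal_extension hIM (RingTheory.Sequence.IsWeaklyRegular.nil A G) (by simp)
  obtain ⟨p, hp, hle⟩ := exists_associatedPrime_ge_of_no_regular
    (M := G ⧸ Ideal.ofList rs • (⊤ : Submodule A G)) (I := I) fun x hx hx' => hmax x hx (by
      rw [RingTheory.Sequence.isWeaklyRegular_append_iff]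
      exact ⟨hreg, (RingTheory.Sequence.isWeaklyRegular_cons_iff _ x []).mpr
        ⟨hx', RingTheory.Sequence.IsWeaklyRegular.nil A _⟩⟩)
  haveI := hp.isPrime
  obtain ⟨q, hq, hqp⟩ := exists_over hI p hle
  have hregB := RingTheory.Sequence.IsWeaklyRegular.of_flat_of_isBaseChange (TensorProduct.isBaseChange A G B) hreg
  set rsB := rs.map (algebraMap A B) with hrsB
  have hmemB : ∀ r ∈ rsB, r ∈ I.map (algebraMap A B) := by
    intro r hr
    obtain ⟨a, ha, rfl⟩ := List.mem_map.1 hr
    exact Ideal.mem_map_of_mem _ (hmem a ha)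
  let P := Ideal.ofList rs • (⊤ : Submodule A G)
  let Q := Ideal.ofList rsB • (⊤ : Submodule B (B ⊗[A] G))
  let π : B ⊗[A] G →ₗ[B] B ⊗[A] (G ⧸ P) := P.mkQ.baseChange B
  have hπs : Function.Surjective π := by
    rw [LinearMap.baseChange_eq_ltensor]
    exact LinearMap.lTensor_surjective B (Submodule.mkQ_surjective P)
  have hker : LinearMap.ker π = Q := by
    refine le_antisymm (fun z hz => ?_) (Submodule.smul_le.2 fun r hr z _ => ?_)
    · have hex := lTensor_exact B (LinearMap.exact_subtype_mkQ P) (Submodule.mkQ_surjective P)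
      rw [LinearMap.mem_ker, LinearMap.baseChange_eq_ltensor] at hz
      obtain ⟨w, rfl⟩ := (hex z).1 hz
      clear hz
      induction w using TensorProduct.induction_on with
      | zero => rw [map_zero]; exact zero_mem _
      | add x y hx hy => rw [map_add]; exact add_mem hx hy
      | tmul b g =>
        obtain ⟨g, hg⟩ := g
        rw [LinearMap.lTensor_tmul, Submodule.subtype_apply]
        dsimp only
        refine Submodule.smul_induction_on hg (fun r hr x _ => ?_) (fun x y hx hy => ?_)
        · rw [TensorProduct.tmul_smul, ← algebraMap_smul B r (b ⊗ₜ[A] x)]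
          refine Submodule.smul_mem_smul ?_ Submodule.mem_top
          rw [hrsB, ← Ideal.map_ofList]
          exact Ideal.mem_map_of_mem _ hr
        · rw [TensorProduct.tmul_add]; exact add_mem hx hy
    · rw [LinearMap.mem_ker, map_smul]
      rw [hrsB, ← Ideal.map_ofList] at hr
      induction hr using Submodule.span_induction generalizing z with
      | mem x hx =>
        obtain ⟨a, ha, rfl⟩ := hx
        rw [← map_smul, algebraMap_smul]
        induction z using TensorProduct.induction_on with
        | zero => simp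
        | add x y hx hy => rw [smul_add, map_add, hx trivial, hy trivial, add_zero]
        | tmul b g =>
          rw [← TensorProduct.tmul_smul, LinearMap.baseChange_tmul,
            show P.mkQ (a • g) = 0 from (Submodule.Quotient.mk_eq_zero _).2 (Submodule.smul_mem_smul ha Submodule.mem_top),
            TensorProduct.tmul_zero]
      | zero => exact zero_smul _ _
      | add x y _ _ hx hy => rw [add_smul, hx z trivial, hy z trivial, add_zero]
      | smul c x _ hx => rw [smul_eq_mul, mul_smul, hx z trivial, smul_zero]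
  let e : ((B ⊗[A] G) ⧸ Q) ≃ₗ[B] B ⊗[A] (G ⧸ P) :=
    (Submodule.quotEquivOfEq _ _ hker.symm).trans (π.quotKerEquivOfSurjective hπs)
  have hass : q ∈ associatedPrimes B ((B ⊗[A] G) ⧸ Q) := by
    obtain ⟨-, m, hm⟩ := isAssociatedPrime_iff.mp hp
    let ι : (A ⧸ p) →ₗ[A] (G ⧸ P) := Submodule.liftQ p (LinearMap.toSpanSingleton A _ m) (by
      intro a ha
      simpa [hm, Submodule.mem_colon_singleton] using ha)
    have hι : Function.Injective ι := by
      rw [← LinearMap.ker_eq_bot]
      apply Submodule.ker_liftQ_eq_bot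
      intro a ha
      simpa [hm, Submodule.mem_colon_singleton] using ha
    have hinj : Function.Injective (ι.baseChange B) := by
      rw [LinearMap.baseChange_eq_ltensor]
      exact Module.Flat.lTensor_preserves_injective_linearMap ι hι
    refine associatedPrimes.subset_of_injective (f := e.symm.toLinearMap ∘ₗ ι.baseChange B ∘ₗ
      (Algebra.TensorProduct.quotIdealMapEquivTensorQuot B p).toLinearEquiv.toLinearMap)
      (e.symm.injective.comp (hinj.comp (Algebra.TensorProduct.quotIdealMapEquivTensorQuot B p).injective)) ?_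
    refine Module.associatedPrimes.minimalPrimes_annihilator_subset_associatedPrimes B _ ?_
    rwa [Ideal.annihilator_quotient]
  have hIq : I.map (algebraMap A B) ≤ q := (Ideal.map_mono hle).trans hq.le
  have hne : I.map (algebraMap A B) • (⊤ : Submodule B (B ⊗[A] G)) ≠ ⊤ := by
    intro h
    obtain ⟨r, hr1, hr0⟩ := Submodule.exists_sub_one_mem_and_smul_eq_zero_of_fg_of_le_smul (I.map (algebraMap A B))
      (⊤ : Submodule B (B ⊗[A] G)) Module.Finite.fg_top h.ge
    obtain ⟨-, m, hm⟩ := isAssociatedPrime_iff.mp hass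
    have hrq : r ∈ q := by
      rw [hm, Submodule.mem_colon_singleton, Submodule.mem_bot]
      obtain ⟨m', rfl⟩ := Submodule.Quotient.mk_surjective _ m
      rw [← Submodule.Quotient.mk_smul, hr0 m' Submodule.mem_top, Submodule.Quotient.mk_zero]
    refine hass.isPrime.ne_top ((Ideal.eq_top_iff_one q).2 ?_)
    simpa using q.sub_mem hrq (hIq hr1)
  rw [← length_eq_idealDepth_of_maximal hne hregB hmemB fun r hr hr' => ?_,
    ← length_eq_idealDepth_of_maximal hIM hreg hmem hmax, List.length_map]
  rw [RingTheory.Sequence.isWeaklyRegular_append_iff, RingTheory.Sequence.isWeaklyRegular_cons_iff] at hr'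
  exact not_isSMulRegular_of_mem_associatedPrimes hass (hIq hr) hr'.2.1

/-- Affine form. Let A → B be a flat homomorphism of Noetherian rings and I an ideal of A with V(I)
contained in the image of Spec B → Spec A (every prime containing I is a contraction of a prime of
B). Then ht(IB) = ht(I) (codimension of the preimage equals codimension), and for every finite
A-module G one has depth_{IB} (B ⊗_A G) = depth_I G. -/
theorem result (A B : Type u) [CommRing A] [CommRing B]
    [IsNoetherianRing A] [IsNoetherianRing B] [Algebra A B] [Module.Flat A B] (I : Ideal A)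
    (hI : ∀ p : PrimeSpectrum A, I ≤ p.asIdeal → ∃ q : PrimeSpectrum B, q.asIdeal.comap (algebraMap A B) = p.asIdeal)
    (G : Type u) [AddCommGroup G] [Module A G] [Module.Finite A G] :
    (I.map (algebraMap A B)).height = I.height ∧
    LocCoh.idealDepth (I.map (algebraMap A B)) (B ⊗[A] G) = LocCoh.idealDepth I G := by
  exact ⟨height_eq I hI, depth_eq I hI G⟩

end Groth.Agent.S18710
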