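import Groth.Statements.S18711
import Groth.Agent.H4Depth.FlatProjective
import Groth.Agent.S18702
import Groth.Agent.S18722
import Groth.Agent.S18703

set_option autoImplicit false
universe u
open QGor

namespace Groth.Agent.S18711

open TensorProduct in
/-- Affine form. Let A → B be a flat homomorphism of Noetherian rings, J an ideal of B such that for
every prime q ⊇ J with contraction p the fibre local ring B_q/pB_q has depth ≥ 2, A → A′ a
homomorphism of Noetherian rings and B′ = A′ ⊗_A B the (Noetherian) pushout. Let 0 → F → E⁰ → E¹ → G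
→ 0 be an exact sequence of finite B-modules with E⁰, E¹ projective and F_q, G_q free for every
prime q not containing J. Then F is reflexive; the kernel K′ of B′ ⊗_B E⁰ → B′ ⊗_B E¹ is a reflexive
B′-module with depth_{JB′} K′ ≥ 2 (so it is the module of sections of the pull-back of F off
V(JB′)); and K′ is flat over A′ with depth ≥ 2 along JB′ on every fibre stalk K′_{q′}/p′K′_{q′} if
and only if B′ ⊗_B G is flat over A′. (The published statement phrases the last left-hand condition
as the relative S₂ condition of K′ over A′; the two agree when the fibres of Spec B′ → Spec A′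
satisfy S₂ off V(JB′), and without that the relative S₂ form fails already for A = A′ a field, J =
B, F = E⁰ = B not S₂ and E¹ = G = 0, so the fibrewise-depth form, which is what the proof
establishes, is stated.) -/
theorem result (A B : Type u) [CommRing A] [CommRing B] [IsNoetherianRing A] [IsNoetherianRing B] [Algebra A B]
    (A' B' : Type u) [CommRing A'] [CommRing B'] [IsNoetherianRing A'] [IsNoetherianRing B']
    [Algebra A A'] [Algebra B B'] [Algebra A' B'] [Algebra A B'] [IsScalarTower A B B'] [IsScalarTower A A' B']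
    [Algebra.IsPushout A B A' B'] [Module.Flat A B] (J : Ideal B)
    (hZ : ∀ q : PrimeSpectrum B, J ≤ q.asIdeal →
      2 ≤ LocCoh.idealDepth (q.asIdeal.map (algebraMap B (EGA4.FibLocRing A B q.asIdeal))) (EGA4.FibLocRing A B q.asIdeal))
    (F E0 E1 G : Type u) [AddCommGroup F] [Module B F] [Module.Finite B F]
    [AddCommGroup E0] [Module B E0] [Module.Finite B E0] [Module.Projective B E0]
    [AddCommGroup E1] [Module B E1] [Module.Finite B E1] [Module.Projective B E1]
    [AddCommGroup G] [Module B G] [Module.Finite B G]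
    (f : F →ₗ[B] E0) (u : E0 →ₗ[B] E1) (v : E1 →ₗ[B] G)
    (hf : Function.Injective f) (hfu : Function.Exact f u) (huv : Function.Exact u v) (hv : Function.Surjective v)
    (hFU : ∀ q : PrimeSpectrum B, ¬ J ≤ q.asIdeal → Module.Free (Localization.AtPrime q.asIdeal) (LocalizedModule q.asIdeal.primeCompl F))
    (hGU : ∀ q : PrimeSpectrum B, ¬ J ≤ q.asIdeal → Module.Free (Localization.AtPrime q.asIdeal) (LocalizedModule q.asIdeal.primeCompl G)) :
    Module.IsReflexive B F ∧
    Module.IsReflexive B' (LinearMap.ker (u.baseChange B')) ∧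
    2 ≤ LocCoh.idealDepth (J.map (algebraMap B B')) (LinearMap.ker (u.baseChange B')) ∧
    ((∀ q' : PrimeSpectrum B', FlatCA.FlatAt A' q'.asIdeal (LinearMap.ker (u.baseChange B')) ∧
        2 ≤ LocCoh.idealDepth ((J.map (algebraMap B B')).map (algebraMap B' (EGA4.FibLocRing A' B' q'.asIdeal)))
          (EGA4.FibLocMod A' B' q'.asIdeal (LinearMap.ker (u.baseChange B')))) ↔
      Module.Flat A' (B' ⊗[B] G)) := by
  haveI hsym : Algebra.IsPushout A A' B B' := Algebra.IsPushout.symm ‹_›
  haveI hflat : Module.Flat A' B' :=
    Module.Flat.isBaseChange A A' B B' (Algebra.IsPushout.out (R := A) (S := A') (R' := B) (S' := B'))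
  have hdB : 2 ≤ LocCoh.idealDepth J B := Groth.Agent.H4Depth.le_idealDepth_self_of_fibre J hZ
  have hE : ∀ (E : Type u) [AddCommGroup E] [Module B E] [Module.Finite B E] [Module.Projective B E],
      2 ≤ LocCoh.idealDepth J E := fun E _ _ _ _ => (Groth.Agent.S18702.result B J E).2.1 hdB
  have hF : Module.IsReflexive B F := (Groth.Agent.S18722.result A B J (fun q hq => le_trans one_le_two (hZ q hq)) F).1
    (fun q hq => by
      haveI := hFU q hq
      haveI : Module.Finite (Localization.AtPrime q.asIdeal) (LocalizedModule q.asIdeal.primeCompl F) :=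
        Module.Finite.of_isLocalizedModule q.asIdeal.primeCompl (LocalizedModule.mkLinearMap q.asIdeal.primeCompl F)
      infer_instance)
    (Groth.Agent.H4Depth.two_le_idealDepth_of_exact J hf hfu (hE E0) (le_trans one_le_two (hE E1)))
  let J' := J.map (algebraMap B B')
  let e : B ⊗[A] A' ≃ₗ[B] B' := (Algebra.IsPushout.equiv A B A' B').toLinearEquiv
  have hdB' : 2 ≤ LocCoh.idealDepth J' B' := Groth.Agent.H4Depth.le_idealDepth_of_forall J' B' fun r hr => by
    exact_mod_cast Groth.Agent.H4Depth.le_depth_of_fibre_baseChange (A := A) B B' e r.asIdeal 2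
      (Groth.Agent.H4Depth.le_depth_fibLocRing (by exact_mod_cast hZ ⟨_, r.2.comap _⟩ (Ideal.map_le_iff_le_comap.1 hr)))
  have hE' : ∀ (E : Type u) [AddCommGroup E] [Module B' E] [Module.Finite B' E] [Module.Projective B' E],
      2 ≤ LocCoh.idealDepth J' E := fun E _ _ _ _ => (Groth.Agent.S18702.result B' J' E).2.1 hdB'
  let u' := u.baseChange B'
  let v' := v.baseChange B'
  have huv' : Function.Exact u' v' := lTensor_exact B' huv hv
  have hv' : Function.Surjective v' := LinearMap.lTensor_surjective B' hv
  have hK : Function.Exact (LinearMap.ker u').subtype u' := LinearMap.exact_subtype_ker_map u'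
  have hKi : Function.Injective (LinearMap.ker u').subtype := Submodule.subtype_injective _
  have hd : 2 ≤ LocCoh.idealDepth J' (LinearMap.ker u') :=
    Groth.Agent.H4Depth.two_le_idealDepth_of_exact J' hKi hK (hE' _) (le_trans one_le_two (hE' _))
  have hfree : ∀ P : PrimeSpectrum B', ¬ J' ≤ P.asIdeal →
      Module.Free (Localization.AtPrime P.asIdeal) (LocalizedModule P.asIdeal.primeCompl (B' ⊗[B] G)) := fun P hP =>
    Groth.Agent.H4Depth.free_localized_baseChange G P.asIdeal
      (hGU ⟨_, P.2.comap _⟩ fun h => hP (Ideal.map_le_iff_le_comap.2 h))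
  have hfl : ∀ P : PrimeSpectrum B', ¬ J' ≤ P.asIdeal → FlatCA.FlatAt A' P.asIdeal (B' ⊗[B] G) := fun P hP => by
    haveI := hfree P hP
    haveI : Module.Flat B' (Localization.AtPrime P.asIdeal) := IsLocalization.flat _ P.asIdeal.primeCompl
    haveI : Module.Flat A' (Localization.AtPrime P.asIdeal) := Module.Flat.trans A' B' _
    exact Module.Flat.trans A' (Localization.AtPrime P.asIdeal) _
  refine ⟨hF, Groth.Agent.S18703.result B' J' (le_trans one_le_two hdB') _ (fun P hP => ?_) hd, hd, ?_⟩
  · haveI := Groth.Agent.H4Depth.free_localized_kernel (S := B') (K := LinearMap.ker u') (LinearMap.ker u').subtype u' v' hKi hK huv' hv' P.asIdeal (hfree P hP)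
    haveI : Module.Finite (Localization.AtPrime P.asIdeal) (LocalizedModule P.asIdeal.primeCompl (LinearMap.ker u')) :=
      Module.Finite.of_isLocalizedModule P.asIdeal.primeCompl (LocalizedModule.mkLinearMap P.asIdeal.primeCompl (LinearMap.ker u'))
    infer_instance
  have key := fun q' : PrimeSpectrum B' => Groth.Agent.H4Depth.flatAt_iff_depth (S := B') (A := A') (K := LinearMap.ker u') q'.asIdeal J'
    (LinearMap.ker u').subtype u' v' hKi hK huv' hv' hfl
    (Groth.Agent.H4Depth.two_le_quot_localization J hZ _ q'.asIdeal)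
  refine (forall_congr' key).trans ⟨fun h => ?_, fun _ q' => Groth.Agent.H4Depth.flatAt_of_flat q'⟩
  exact Module.flat_of_isLocalized_maximal B' (B' ⊗[B] G) (fun P _ => LocalizedModule P.primeCompl (B' ⊗[B] G))
    (fun P _ => LocalizedModule.mkLinearMap P.primeCompl (B' ⊗[B] G)) fun P _ => h ⟨P, inferInstance⟩

end Groth.Agent.S18711
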