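import Groth.Statements.S18712
import Groth.Agent.H3CAlg.QGorS2.BasePoint
import Groth.Agent.S18709
import Groth.Agent.H3CAlg.FlatAdic
-- import your own Groth.Agent.* helpers here

set_option autoImplicit false
universe u
open QGor

namespace Groth.Agent.S18712

set_option linter.style.haveILetI false

open IsLocalRing TensorProduct

attribute [local instance] Algebra.TensorProduct.rightAlgebra

theorem artinian_quot {A : Type*} [CommRing A] [IsLocalRing A] [IsNoetherianRing A] (k : ℕ) :
    IsArtinianRing (A ⧸ maximalIdeal A ^ (k + 1)) := by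
  refine IsLocalRing.quotient_artinian_of_mem_minimalPrimes_of_isLocalRing _ ?_
  exact ⟨⟨Ideal.IsMaximal.isPrime inferInstance, Ideal.pow_le_self (Nat.succ_ne_zero k)⟩, fun J hJ _ x hx =>
    hJ.1.mem_of_pow_mem (k + 1) (hJ.2 (Ideal.pow_mem_pow hx (k + 1)))⟩

/-- Localization at `n` of a base change by a quotient of the base. -/
theorem flat_tensor_localized {R C A' : Type u} [CommRing R] [CommRing C] [Algebra R C] [CommRing A'] [Algebra R A']
    (hA : Function.Surjective (algebraMap R A')) (n : Ideal C) [n.IsPrime]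
    (G : Type u) [AddCommGroup G] [Module C G] [Module R G] [IsScalarTower R C G]
    (q' : Ideal (C ⊗[R] A')) [q'.IsPrime] (hq' : q'.comap (algebraMap C (C ⊗[R] A')) = n)
    [SMulCommClass C A' (C ⊗[R] A')]
    (h : Module.Flat A' (LocalizedModule q'.primeCompl ((C ⊗[R] A') ⊗[C] G))) :
    Module.Flat A' (A' ⊗[R] LocalizedModule n.primeCompl G) := by
  have hsurj : Function.Surjective (algebraMap C (C ⊗[R] A')) := fun z => by
    induction z using TensorProduct.induction_on with
    | zero => exact ⟨0, map_zero _⟩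
    | add a b ha hb =>
      obtain ⟨x, rfl⟩ := ha
      obtain ⟨y, rfl⟩ := hb
      exact ⟨x + y, map_add _ _ _⟩
    | tmul c a =>
      obtain ⟨r, rfl⟩ := hA a
      refine ⟨r • c, ?_⟩
      show (r • c) ⊗ₜ[R] (1 : A') = c ⊗ₜ[R] algebraMap R A' r
      rw [TensorProduct.smul_tmul, Algebra.algebraMap_eq_smul_one]
  have hS : Algebra.algebraMapSubmonoid (C ⊗[R] A') n.primeCompl = q'.primeCompl := by
    refine le_antisymm ?_ fun z hz => ?_
    · rintro _ ⟨c, hc, rfl⟩ hcq
      exact hc (hq'.le hcq)
    · obtain ⟨c, rfl⟩ := hsurj z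
      exact ⟨c, fun hc => hz (hq'.ge hc), rfl⟩
  haveI : IsScalarTower C (C ⊗[R] A') (LocalizedModule q'.primeCompl ((C ⊗[R] A') ⊗[C] G)) := inferInstance
  haveI : IsLocalizedModule (Algebra.algebraMapSubmonoid (C ⊗[R] A') n.primeCompl)
      (LocalizedModule.mkLinearMap q'.primeCompl ((C ⊗[R] A') ⊗[C] G)) := by
    rw [hS]; infer_instance
  haveI := IsLocalizedModule.restrictScalars n.primeCompl (LocalizedModule.mkLinearMap q'.primeCompl ((C ⊗[R] A') ⊗[C] G))
  let e0 : G ⊗[R] A' ≃ₗ[C] (C ⊗[R] A') ⊗[C] G :=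
    (AlgebraTensorModule.cancelBaseChange R C C G A').symm ≪≫ₗ TensorProduct.comm C G (C ⊗[R] A')
  let g2 : G ⊗[R] A' →ₗ[C] LocalizedModule q'.primeCompl ((C ⊗[R] A') ⊗[C] G) :=
    (LocalizedModule.mkLinearMap q'.primeCompl ((C ⊗[R] A') ⊗[C] G)).restrictScalars C ∘ₗ e0.toLinearMap
  haveI : IsLocalizedModule n.primeCompl g2 := IsLocalizedModule.of_linearEquiv_right n.primeCompl _ e0
  let e : LocalizedModule n.primeCompl G ⊗[R] A' ≃ₗ[C] LocalizedModule q'.primeCompl ((C ⊗[R] A') ⊗[C] G) :=
    IsLocalizedModule.linearEquiv n.primeCompl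
      (AlgebraTensorModule.rTensor R A' (LocalizedModule.mkLinearMap n.primeCompl G)) g2
  haveI : IsScalarTower R C (LocalizedModule q'.primeCompl ((C ⊗[R] A') ⊗[C] G)) :=
    IsScalarTower.of_algebraMap_smul fun r x => by
      rw [← algebraMap_smul (C ⊗[R] A') (algebraMap R C r), ← IsScalarTower.algebraMap_apply, algebraMap_smul]
  haveI : IsScalarTower R A' (LocalizedModule q'.primeCompl ((C ⊗[R] A') ⊗[C] G)) :=
    IsScalarTower.of_algebraMap_smul fun r x => by
      rw [← algebraMap_smul (C ⊗[R] A') (algebraMap R A' r), ← IsScalarTower.algebraMap_apply, algebraMap_smul]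
  haveI := h
  exact Module.Flat.of_linearEquiv
    ((TensorProduct.comm R A' (LocalizedModule n.primeCompl G) ≪≫ₗ e.restrictScalars R).extendScalarsOfSurjective hA)

open TensorProduct in
/-- Infinitesimal criterion, affine-local form. Let R be a Noetherian local ring with maximal ideal m, C
a finitely generated flat R-algebra, y = n a prime of C over m at which the fibre C_n/mC_n satisfies
S₂ (the structure morphism satisfies relative S₂ at y), and F a finite reflexive C-module which is
free at every prime not containing an ideal J such that every fibre local ring C_q/pC_q at primes q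
⊇ J has dimension ≥ 2 (F is locally free in codimension one on each fibre). Suppose that for every
surjective homomorphism R → A′ onto an Artinian local ring and the Noetherian pushout C′ = A′ ⊗_R C,
at every prime q′ of C′ lying over n the double dual (C′ ⊗_C F)^∨∨ is flat over A′ at q′ and its
fibre stalk satisfies S₂. Then F is flat over R at n and the fibre stalk F_n/mF_n satisfies S₂ (F
satisfies relative S₂ at y). Test rings A′ range over the universe of R. -/
theorem result (R C : Type u) [CommRing R] [CommRing C] [IsNoetherianRing R] [IsLocalRing R] [IsNoetherianRing C]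
    [Algebra R C] [Module.Flat R C] (hft : Algebra.FiniteType R C)
    (n : PrimeSpectrum C) (hn : (IsLocalRing.maximalIdeal R).map (algebraMap R C) ≤ n.asIdeal)
    (hS2 : LocCoh.HasSk 2 (EGA4.FibLocRing R C n.asIdeal) (EGA4.FibLocRing R C n.asIdeal))
    (F : Type u) [AddCommGroup F] [Module C F] [Module R F] [IsScalarTower R C F] [Module.Finite C F]
    [Module.IsReflexive C F] (J : Ideal C)
    (hFU : ∀ q : PrimeSpectrum C, ¬ J ≤ q.asIdeal → Module.Free (Localization.AtPrime q.asIdeal) (LocalizedModule q.asIdeal.primeCompl F))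
    (hcodim : ∀ q : PrimeSpectrum C, J ≤ q.asIdeal → (2 : WithBot ℕ∞) ≤ ringKrullDim (EGA4.FibLocRing R C q.asIdeal))
    (hI : ∀ (A' : Type u) [CommRing A'] [IsArtinianRing A'] [IsLocalRing A'] [Algebra R A'],
      Function.Surjective (algebraMap R A') →
      ∀ (C' : Type u) [CommRing C'] [IsNoetherianRing C'] [Algebra C C'] [Algebra A' C'] [Algebra R C']
        [IsScalarTower R C C'] [IsScalarTower R A' C'], Algebra.IsPushout R C A' C' →
        ∀ q' : PrimeSpectrum C', q'.asIdeal.comap (algebraMap C C') = n.asIdeal →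
          FlatCA.FlatAt A' q'.asIdeal (Module.Dual C' (Module.Dual C' (C' ⊗[C] F))) ∧
          LocCoh.HasSk 2 (EGA4.FibLocRing A' C' q'.asIdeal)
            (EGA4.FibLocMod A' C' q'.asIdeal (Module.Dual C' (Module.Dual C' (C' ⊗[C] F))))) :
    FlatCA.FlatAt R n.asIdeal F ∧ LocCoh.HasSk 2 (EGA4.FibLocRing R C n.asIdeal) (EGA4.FibLocMod R C n.asIdeal F) := by
  haveI : Algebra.FiniteType R C := hft
  have hnm := Groth.Agent.H3CAlg.QGorS2.comap_eq_maximalIdeal hn
  obtain ⟨a, b, f, u, hf, hfu, hGU⟩ := Groth.Agent.S18709.result C J F hFU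
  let G := (Fin b → C) ⧸ LinearMap.range u
  let v : (Fin b → C) →ₗ[C] G := (LinearMap.range u).mkQ
  have huv : Function.Exact u v := LinearMap.exact_map_mkQ_range u
  have hv : Function.Surjective v := Submodule.mkQ_surjective _
  refine Groth.Agent.H3CAlg.QGorS2.at_base n.asIdeal hnm J hS2 hcodim f u v hf hfu huv hv hGU ?_
  haveI : IsScalarTower R (Localization.AtPrime n.asIdeal) (LocalizedModule n.asIdeal.primeCompl G) :=
    IsScalarTower.of_algebraMap_smul fun a x => by
      rw [IsScalarTower.algebraMap_apply R C (Localization.AtPrime n.asIdeal), algebraMap_smul, algebraMap_smul]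
  haveI : Module.Finite (Localization.AtPrime n.asIdeal) (LocalizedModule n.asIdeal.primeCompl G) :=
    Module.Finite.of_isLocalizedModule n.asIdeal.primeCompl (LocalizedModule.mkLinearMap n.asIdeal.primeCompl G)
  refine Groth.Agent.H3CAlg.flat_of_flat_quotient_pow (S := Localization.AtPrime n.asIdeal) (maximalIdeal R) ?_
    fun k hk => ?_
  · rw [IsLocalRing.jacobson_eq_maximalIdeal _ bot_ne_top, Ideal.map_le_iff_le_comap]
    intro r hr
    rw [Ideal.mem_comap, IsScalarTower.algebraMap_apply R C (Localization.AtPrime n.asIdeal),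
      IsLocalization.AtPrime.to_map_mem_maximal_iff _ n.asIdeal]
    exact hnm.ge hr
  obtain ⟨k, rfl⟩ := Nat.exists_eq_succ_of_ne_zero hk.ne'
  let A' := R ⧸ maximalIdeal R ^ (k + 1)
  have hne : maximalIdeal R ^ (k + 1) ≠ ⊤ := ne_top_of_le_ne_top (maximalIdeal.isMaximal R).ne_top
    (Ideal.pow_le_self (Nat.succ_ne_zero k))
  haveI : Nontrivial A' := Ideal.Quotient.nontrivial_iff.mpr hne
  haveI : IsLocalRing A' := IsLocalRing.of_surjective' (Ideal.Quotient.mk _) Ideal.Quotient.mk_surjective
  haveI : IsArtinianRing A' := artinian_quot k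
  have hA : Function.Surjective (algebraMap R A') := Ideal.Quotient.mk_surjective
  haveI : IsLocalHom (algebraMap R A') := IsLocalHom.of_surjective _ hA
  let C' := C ⊗[R] A'
  haveI : Algebra.IsPushout R C A' C' := inferInstance
  haveI : IsNoetherianRing C' := isNoetherianRing_of_surjective C C' (algebraMap C C') fun z => by
    induction z using TensorProduct.induction_on with
    | zero => exact ⟨0, map_zero _⟩
    | add a b ha hb =>
      obtain ⟨x, rfl⟩ := ha
      obtain ⟨y, rfl⟩ := hb
      exact ⟨x + y, map_add _ _ _⟩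
    | tmul c a =>
      obtain ⟨r, rfl⟩ := hA a
      refine ⟨r • c, ?_⟩
      show (r • c) ⊗ₜ[R] (1 : A') = c ⊗ₜ[R] algebraMap R A' r
      rw [TensorProduct.smul_tmul, Algebra.algebraMap_eq_smul_one]
  let π : C' →ₐ[R] C ⧸ n.asIdeal := Algebra.TensorProduct.lift (Ideal.Quotient.mkₐ R n.asIdeal)
    (Ideal.Quotient.liftₐ _ (Algebra.ofId R (C ⧸ n.asIdeal)) fun r hr => by
      show algebraMap R (C ⧸ n.asIdeal) r = 0
      rw [IsScalarTower.algebraMap_apply R C (C ⧸ n.asIdeal), Ideal.Quotient.algebraMap_eq,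
        Ideal.Quotient.eq_zero_iff_mem]
      exact hnm.ge (Ideal.pow_le_self (Nat.succ_ne_zero k) hr))
    fun _ _ => Commute.all _ _
  let q' : Ideal C' := RingHom.ker π.toRingHom
  haveI : q'.IsPrime := RingHom.ker_isPrime π.toRingHom
  have hq'n : q'.comap (algebraMap C C') = n.asIdeal := by
    ext c
    show π (c ⊗ₜ[R] (1 : A')) = 0 ↔ _
    rw [Algebra.TensorProduct.lift_tmul, map_one, mul_one]
    exact Ideal.Quotient.eq_zero_iff_mem
  have hq'm : q'.comap (algebraMap A' C') = maximalIdeal A' := eq_maximalIdeal inferInstance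
  haveI : Module.Flat A' C' :=
    Module.Flat.isBaseChange R A' C C' (Algebra.IsPushout.symm (inferInstanceAs (Algebra.IsPushout R C A' C'))).out
  haveI : SMulCommClass C A' C' := ⟨fun c a x => by
    rw [Algebra.smul_def (A := C') c, Algebra.smul_def (A := C') c, Algebra.smul_def (A := C') a, Algebra.smul_def (A := C') a]
    exact mul_left_comm (algebraMap C C' c) (algebraMap A' C' a) x⟩
  obtain ⟨hS2', hdim'⟩ := Groth.Agent.H3CAlg.QGorS2.fibre_baseChange (inferInstanceAs (Algebra.IsPushout R C A' C'))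
    n.asIdeal hnm q' hq'n hq'm J hS2 (Groth.Agent.H3CAlg.QGorS2.two_le_dim_fibre n.asIdeal hnm J hcodim)
  have hflat := (Groth.Agent.H3CAlg.QGorS2.at_point q' hq'm J hS2' hdim' f u v hf hfu huv hv hGU).1
    (hI A' hA C' inferInstance ⟨q', inferInstance⟩ hq'n)
  exact flat_tensor_localized hA n.asIdeal G q' hq'n hflat

end Groth.Agent.S18712
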