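import Groth.Statements.S18713
import Groth.Agent.H3CAlg.QGorS2.BasePoint
import Groth.Agent.H3CAlg.QGorS2.DvrTorsion
import Groth.Agent.S18709
-- import your own Groth.Agent.* helpers here

set_option autoImplicit false
universe u
open QGor

namespace Groth.Agent.S18713

set_option linter.style.haveILetI false

open IsLocalRing TensorProduct

attribute [local instance] Algebra.TensorProduct.rightAlgebra

open TensorProduct in
/-- Valuative criterion, affine-local form. Let R be a Noetherian local ring with maximal ideal m, C a
finitely generated flat R-algebra, y = n a prime of C over m at which the fibre C_n/mC_n satisfies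
S₂ (the structure morphism satisfies relative S₂ at y), and F a finite reflexive C-module which is
free at every prime not containing an ideal J such that every fibre local ring C_q/pC_q at primes q
⊇ J has dimension ≥ 2 (F is locally free in codimension one on each fibre). Assume R is reduced, and
that for every local homomorphism R → D to a discrete valuation ring and the Noetherian pushout C′ =
D ⊗_R C, at every prime q′ of C′ lying over n and over the closed point of D the double dual (C′ ⊗_C
F)^∨∨ is flat over D at q′ and its fibre stalk satisfies S₂. Then F is flat over R at n and F_n/mF_n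
satisfies S₂ (F satisfies relative S₂ at y). Test rings D range over the universe of R. -/
theorem result (R C : Type u) [CommRing R] [CommRing C] [IsNoetherianRing R] [IsLocalRing R] [IsNoetherianRing C]
    [Algebra R C] [Module.Flat R C] (hft : Algebra.FiniteType R C)
    (n : PrimeSpectrum C) (hn : (IsLocalRing.maximalIdeal R).map (algebraMap R C) ≤ n.asIdeal)
    (hS2 : LocCoh.HasSk 2 (EGA4.FibLocRing R C n.asIdeal) (EGA4.FibLocRing R C n.asIdeal))
    (F : Type u) [AddCommGroup F] [Module C F] [Module R F] [IsScalarTower R C F] [Module.Finite C F]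
    [Module.IsReflexive C F] (J : Ideal C)
    (hFU : ∀ q : PrimeSpectrum C, ¬ J ≤ q.asIdeal → Module.Free (Localization.AtPrime q.asIdeal) (LocalizedModule q.asIdeal.primeCompl F))
    (hcodim : ∀ q : PrimeSpectrum C, J ≤ q.asIdeal → (2 : WithBot ℕ∞) ≤ ringKrullDim (EGA4.FibLocRing R C q.asIdeal)) [IsReduced R]
    (hII : ∀ (D : Type u) [CommRing D] [IsDomain D] [IsDiscreteValuationRing D] [Algebra R D],
      IsLocalHom (algebraMap R D) →
      ∀ (C' : Type u) [CommRing C'] [IsNoetherianRing C'] [Algebra C C'] [Algebra D C'] [Algebra R C']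
        [IsScalarTower R C C'] [IsScalarTower R D C'], Algebra.IsPushout R C D C' →
        ∀ q' : PrimeSpectrum C', q'.asIdeal.comap (algebraMap C C') = n.asIdeal →
          (IsLocalRing.maximalIdeal D).map (algebraMap D C') ≤ q'.asIdeal →
          FlatCA.FlatAt D q'.asIdeal (Module.Dual C' (Module.Dual C' (C' ⊗[C] F))) ∧
          LocCoh.HasSk 2 (EGA4.FibLocRing D C' q'.asIdeal)
            (EGA4.FibLocMod D C' q'.asIdeal (Module.Dual C' (Module.Dual C' (C' ⊗[C] F))))) :
    FlatCA.FlatAt R n.asIdeal F ∧ LocCoh.HasSk 2 (EGA4.FibLocRing R C n.asIdeal) (EGA4.FibLocMod R C n.asIdeal F) := by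
  haveI : Algebra.FiniteType R C := hft
  have hnm := Groth.Agent.H3CAlg.QGorS2.comap_eq_maximalIdeal hn
  obtain ⟨a, b, f, u, hf, hfu, hGU⟩ := Groth.Agent.S18709.result C J F hFU
  let G := (Fin b → C) ⧸ LinearMap.range u
  let v : (Fin b → C) →ₗ[C] G := (LinearMap.range u).mkQ
  have huv : Function.Exact u v := LinearMap.exact_map_mkQ_range u
  have hv : Function.Surjective v := Submodule.mkQ_surjective _
  refine Groth.Agent.H3CAlg.QGorS2.at_base n.asIdeal hnm J hS2 hcodim f u v hf hfu huv hv hGU ?_
  let L := Localization.AtPrime n.asIdeal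
  haveI : IsScalarTower R L (LocalizedModule n.asIdeal.primeCompl G) :=
    IsScalarTower.of_algebraMap_smul fun a x => by
      rw [IsScalarTower.algebraMap_apply R C L, algebraMap_smul, algebraMap_smul]
  haveI : Module.Finite L (LocalizedModule n.asIdeal.primeCompl G) :=
    Module.Finite.of_isLocalizedModule n.asIdeal.primeCompl (LocalizedModule.mkLinearMap n.asIdeal.primeCompl G)
  haveI : IsLocalHom (algebraMap R L) := ⟨fun r hr => by
    by_contra hnu
    refine (?_ : algebraMap R L r ∈ maximalIdeal L) hr
    rw [IsScalarTower.algebraMap_apply R C L, IsLocalization.AtPrime.to_map_mem_maximal_iff L n.asIdeal]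
    exact hnm.ge hnu⟩
  haveI : Algebra.EssFiniteType C L := Algebra.EssFiniteType.of_isLocalization _ n.asIdeal.primeCompl
  haveI : Algebra.EssFiniteType R L := Algebra.EssFiniteType.comp R C L
  refine Groth.Agent.H06FlatVal.flat_of_forall_dvr (C := L) fun D _ _ _ _ _ halg k _ => ?_
  let C' := C ⊗[R] D
  haveI hpush : Algebra.IsPushout R C D C' := inferInstance
  haveI : SMulCommClass C D C' := ⟨fun c a x => by
    rw [Algebra.smul_def (A := C') c, Algebra.smul_def (A := C') c, Algebra.smul_def (A := C') a,
      Algebra.smul_def (A := C') a]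
    exact mul_left_comm (algebraMap C C' c) (algebraMap D C' a) x⟩
  haveI : IsNoetherianRing C' := by
    haveI : IsNoetherianRing (D ⊗[R] C) := Algebra.FiniteType.isNoetherianRing D (D ⊗[R] C)
    exact isNoetherianRing_of_ringEquiv _ (Algebra.TensorProduct.comm R D C).toRingEquiv
  haveI : Module.Flat D C' := Module.Flat.isBaseChange R D C C' (Algebra.IsPushout.symm hpush).out
  refine Groth.Agent.H3CAlg.QGorS2.flat_quotient_localized halg n.asIdeal G (fun q hq hqn hqm => ?_) k
  have hqm' : q.comap (algebraMap D C') = maximalIdeal D :=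
    ((maximalIdeal.isMaximal D).eq_of_le (Ideal.IsPrime.comap _).ne_top (Ideal.map_le_iff_le_comap.1 hqm)).symm
  obtain ⟨hS2', hdim'⟩ := Groth.Agent.H3CAlg.QGorS2.fibre_baseChange hpush n.asIdeal hnm q hqn hqm' J hS2
    (Groth.Agent.H3CAlg.QGorS2.two_le_dim_fibre n.asIdeal hnm J hcodim)
  exact (Groth.Agent.H3CAlg.QGorS2.at_point q hqm' J hS2' hdim' f u v hf hfu huv hv hGU).1
    (hII D inferInstance C' hpush ⟨q, hq⟩ hqn hqm)

end Groth.Agent.S18713
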