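import Groth.Statements.S18714
import Groth.Agent.H3CAlg.QGorS2.BasePoint
import Groth.Agent.S18709
import Groth.Agent.S1229
import Groth.Agent.H7Flat.FlatAtFinite
-- import your own Groth.Agent.* helpers here

set_option autoImplicit false
universe u
open QGor

namespace Groth.Agent.S18714

set_option linter.style.haveILetI false

open IsLocalRing TensorProduct

attribute [local instance] Algebra.TensorProduct.rightAlgebra

/-- The double dual has flat `(S₂)` fibres at all points over `n` iff the pulled back cokernel is flat there. -/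
theorem forall_iff {R C : Type u} [CommRing R] [CommRing C] [IsNoetherianRing R] [IsLocalRing R] [IsNoetherianRing C]
    [Algebra R C] [Module.Flat R C] [Algebra.FiniteType R C]
    (n : Ideal C) [n.IsPrime] (hn : n.comap (algebraMap R C) = maximalIdeal R) (J : Ideal C)
    (hS2 : LocCoh.HasSk 2 (EGA4.FibLocRing R C n) (EGA4.FibLocRing R C n))
    (hcodim : ∀ q : PrimeSpectrum C, J ≤ q.asIdeal → (2 : WithBot ℕ∞) ≤ ringKrullDim (EGA4.FibLocRing R C q.asIdeal))
    {F E0 E1 G : Type u} [AddCommGroup F] [Module C F] [Module.Finite C F]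
    [AddCommGroup E0] [Module C E0] [Module.Finite C E0] [Module.Projective C E0]
    [AddCommGroup E1] [Module C E1] [Module.Finite C E1] [Module.Projective C E1]
    [AddCommGroup G] [Module C G] [Module.Finite C G]
    (f : F →ₗ[C] E0) (u : E0 →ₗ[C] E1) (v : E1 →ₗ[C] G)
    (hf : Function.Injective f) (hfu : Function.Exact f u) (huv : Function.Exact u v) (hv : Function.Surjective v)
    (hGU : ∀ q : PrimeSpectrum C, ¬ J ≤ q.asIdeal →
      Module.Free (Localization.AtPrime q.asIdeal) (LocalizedModule q.asIdeal.primeCompl G))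
    {R' C' : Type u} [CommRing R'] [IsNoetherianRing R'] [IsLocalRing R'] [Algebra R R'] [IsLocalHom (algebraMap R R')]
    [CommRing C'] [IsNoetherianRing C'] [Algebra C C'] [Algebra R' C'] [Algebra R C']
    [IsScalarTower R C C'] [IsScalarTower R R' C'] [SMulCommClass C R' C'] (hpush : Algebra.IsPushout R C R' C') :
    (∀ q' : PrimeSpectrum C', q'.asIdeal.comap (algebraMap C C') = n →
      (maximalIdeal R').map (algebraMap R' C') ≤ q'.asIdeal →
      FlatCA.FlatAt R' q'.asIdeal (Module.Dual C' (Module.Dual C' (C' ⊗[C] F))) ∧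
      LocCoh.HasSk 2 (EGA4.FibLocRing R' C' q'.asIdeal)
        (EGA4.FibLocMod R' C' q'.asIdeal (Module.Dual C' (Module.Dual C' (C' ⊗[C] F))))) ↔
    (∀ q' : PrimeSpectrum C', q'.asIdeal.comap (algebraMap C C') = n →
      (maximalIdeal R').map (algebraMap R' C') ≤ q'.asIdeal →
      Module.Flat R' (LocalizedModule q'.asIdeal.primeCompl (C' ⊗[C] G))) := by
  haveI := hpush
  haveI : Module.Flat R' C' := Module.Flat.isBaseChange R R' C C' (Algebra.IsPushout.symm hpush).out
  refine forall_congr' fun q' => imp_congr_right fun hq'n => imp_congr_right fun hq'm => ?_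
  have hq'm' : q'.asIdeal.comap (algebraMap R' C') = maximalIdeal R' :=
    ((maximalIdeal.isMaximal R').eq_of_le (Ideal.IsPrime.comap _).ne_top (Ideal.map_le_iff_le_comap.1 hq'm)).symm
  obtain ⟨h1, h2⟩ := Groth.Agent.H3CAlg.QGorS2.fibre_baseChange hpush n hn q'.asIdeal hq'n hq'm' J hS2
    (Groth.Agent.H3CAlg.QGorS2.two_le_dim_fibre n hn J hcodim)
  exact Groth.Agent.H3CAlg.QGorS2.at_point q'.asIdeal hq'm' J h1 h2 f u v hf hfu huv hv hGU

/-- Flatness at the points over two closed points, seen through a localization. -/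
theorem transfer_localized {C L : Type u} [CommRing C] [CommRing L] [IsLocalRing L] [Algebra C L] (n : Ideal C) [n.IsPrime]
    [IsLocalization.AtPrime L n]
    {R' C' B' : Type u} [CommRing R'] [IsLocalRing R'] [CommRing C'] [CommRing B'] [Algebra C C'] [Algebra C' B']
    [Algebra C B'] [Algebra L B'] [Algebra R' C'] [Algebra R' B'] [IsScalarTower C C' B'] [IsScalarTower C L B']
    [IsScalarTower R' C' B'] [IsLocalization (Algebra.algebraMapSubmonoid C' n.primeCompl) B']
    {N M' : Type u} [AddCommGroup N] [Module C' N] [Module R' N] [IsScalarTower R' C' N]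
    [AddCommGroup M'] [Module B' M'] [Module C' M'] [IsScalarTower C' B' M'] [Module R' M'] [IsScalarTower R' B' M']
    [IsScalarTower R' C' M']
    (ψ : N →ₗ[C'] M') (hψ : IsBaseChange B' ψ) :
    (∀ q' : PrimeSpectrum C', q'.asIdeal.comap (algebraMap C C') = n →
      (maximalIdeal R').map (algebraMap R' C') ≤ q'.asIdeal →
      Module.Flat R' (LocalizedModule q'.asIdeal.primeCompl N)) ↔
    (∀ (q : Ideal B') [q.IsPrime], (maximalIdeal R').map (algebraMap R' B') ⊔
        (maximalIdeal L).map (algebraMap L B') ≤ q → FlatCA.FlatAt R' q M') := by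
  haveI : Module.Flat C' B' := IsLocalization.flat _ (Algebra.algebraMapSubmonoid C' n.primeCompl)
  constructor
  · intro h Q _ hQ
    let q : PrimeSpectrum C' := ⟨Q.comap (algebraMap C' B'), inferInstance⟩
    have hQL : Q.comap (algebraMap L B') = maximalIdeal L :=
      ((maximalIdeal.isMaximal L).eq_of_le (Ideal.IsPrime.comap _).ne_top
        (Ideal.map_le_iff_le_comap.1 (le_sup_right.trans hQ))).symm
    have hqn : q.asIdeal.comap (algebraMap C C') = n := by
      rw [Ideal.comap_comap, ← IsScalarTower.algebraMap_eq C C' B', IsScalarTower.algebraMap_eq C L B',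
        ← Ideal.comap_comap, hQL]
      exact IsLocalization.AtPrime.comap_maximalIdeal L n
    have hqm : (maximalIdeal R').map (algebraMap R' C') ≤ q.asIdeal := by
      rw [Ideal.map_le_iff_le_comap, Ideal.comap_comap, ← IsScalarTower.algebraMap_eq R' C' B',
        ← Ideal.map_le_iff_le_comap]
      exact le_sup_left.trans hQ
    exact (Groth.Agent.H7Flat.FlatAtFinite.flat_localizedModule_flat_iff (R := R') hψ Q).1 (h q hqn hqm)
  · intro h q hqn hqm
    have hdisj : Disjoint (Algebra.algebraMapSubmonoid C' n.primeCompl : Set C') (q.asIdeal : Set C') :=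
      Set.disjoint_left.2 fun x hx hxq => by
        obtain ⟨c, hc, rfl⟩ := hx
        exact hc (hqn.le hxq)
    let Q := q.asIdeal.map (algebraMap C' B')
    haveI : Q.IsPrime := IsLocalization.isPrime_of_isPrime_disjoint _ B' q.asIdeal q.2 hdisj
    have hQq : Q.comap (algebraMap C' B') = q.asIdeal := IsLocalization.comap_map_of_isPrime_disjoint _ B' q.2 hdisj
    have hQ : (maximalIdeal R').map (algebraMap R' B') ⊔ (maximalIdeal L).map (algebraMap L B') ≤ Q := by
      refine sup_le ?_ ?_
      · rw [IsScalarTower.algebraMap_eq R' C' B', ← Ideal.map_map]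
        exact Ideal.map_mono hqm
      · rw [← IsLocalization.AtPrime.map_eq_maximalIdeal n L, Ideal.map_map, ← IsScalarTower.algebraMap_eq C L B',
          IsScalarTower.algebraMap_eq C C' B', ← Ideal.map_map]
        exact Ideal.map_mono (Ideal.map_le_iff_le_comap.2 hqn.ge)
    have := (Groth.Agent.H7Flat.FlatAtFinite.flat_localizedModule_flat_iff (R := R') hψ Q).2 (h Q hQ)
    have key : ∀ (P : Ideal C') [P.IsPrime], P = q.asIdeal → Module.Flat R' (LocalizedModule P.primeCompl N) →
        Module.Flat R' (LocalizedModule q.asIdeal.primeCompl N) := by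
      rintro P _ rfl hP
      exact hP
    exact key _ hQq this

/-- The flat locus over the henselian base, seen on the pulled back algebra. -/
theorem transfer {R C : Type u} [CommRing R] [IsLocalRing R] [CommRing C] [Algebra R C] (n : Ideal C) [n.IsPrime]
    (G : Type u) [AddCommGroup G] [Module C G] [Module R G] [IsScalarTower R C G]
    (I : Ideal R)
    (hI : ∀ (A' B' M' : Type u) [CommRing A'] [IsLocalRing A'] [Algebra R A'] [IsLocalHom (algebraMap R A')]
        [CommRing B'] [Algebra (Localization.AtPrime n) B'] [Algebra A' B'] [Algebra R B']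
        [IsScalarTower R (Localization.AtPrime n) B'] [IsScalarTower R A' B']
        [Algebra.IsPushout R (Localization.AtPrime n) A' B']
        [AddCommGroup M'] [Module B' M'] [Module (Localization.AtPrime n) M']
        [IsScalarTower (Localization.AtPrime n) B' M'] [Module A' M'] [IsScalarTower A' B' M']
        (f : Localization.AtPrime n ⊗[C] G →ₗ[Localization.AtPrime n] M'), IsBaseChange B' f →
        ((∀ (q : Ideal B') [q.IsPrime], (maximalIdeal A').map (algebraMap A' B') ⊔
            (maximalIdeal (Localization.AtPrime n)).map (algebraMap (Localization.AtPrime n) B') ≤ q →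
            FlatCA.FlatAt A' q M') ↔ I.map (algebraMap R A') = ⊥))
    {R' C' : Type u} [CommRing R'] [IsLocalRing R'] [Algebra R R'] [IsLocalHom (algebraMap R R')]
    [CommRing C'] [Algebra C C'] [Algebra R' C'] [Algebra R C']
    [IsScalarTower R C C'] [IsScalarTower R R' C'] [SMulCommClass C R' C'] (hpush : Algebra.IsPushout R C R' C') :
    (∀ q' : PrimeSpectrum C', q'.asIdeal.comap (algebraMap C C') = n →
      (maximalIdeal R').map (algebraMap R' C') ≤ q'.asIdeal →
      Module.Flat R' (LocalizedModule q'.asIdeal.primeCompl (C' ⊗[C] G))) ↔ I.map (algebraMap R R') = ⊥ := by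
  haveI := hpush
  haveI : SMulCommClass R' C C' := SMulCommClass.symm C R' C'
  let L := Localization.AtPrime n
  let B' := C' ⊗[C] L
  let M' := B' ⊗[C] G
  haveI : IsScalarTower R C' B' := inferInstance
  haveI : IsScalarTower R L B' := IsScalarTower.of_algebraMap_eq fun r => by
    show algebraMap R C' r ⊗ₜ[C] (1 : L) = (1 : C') ⊗ₜ[C] algebraMap R L r
    rw [IsScalarTower.algebraMap_apply R C C', IsScalarTower.algebraMap_apply R C L,
      Algebra.algebraMap_eq_smul_one, TensorProduct.smul_tmul, ← Algebra.algebraMap_eq_smul_one]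
  haveI : IsScalarTower R R' B' := inferInstance
  haveI : IsScalarTower R' C' B' := inferInstance
  haveI hB : Algebra.IsPushout C L C' B' := Algebra.IsPushout.symm inferInstance
  haveI : Algebra.IsPushout R L R' B' :=
    (Algebra.IsPushout.comp_iff (R := R) (S := C) (R' := R') (S' := C') (T := L) (T' := B')).2 hB
  let φ : (L ⊗[C] G) →ₗ[L] M' := AlgebraTensorModule.map (Algebra.linearMap L B') LinearMap.id
  have hφ : IsBaseChange B' φ := IsBaseChange.of_comp (TensorProduct.isBaseChange C G L) (by
    have h : (φ.restrictScalars C) ∘ₗ (TensorProduct.mk C L G 1) = TensorProduct.mk C B' G 1 :=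
      LinearMap.ext fun x => by
        show AlgebraTensorModule.map (Algebra.linearMap L B') LinearMap.id ((1 : L) ⊗ₜ[C] x) = (1 : B') ⊗ₜ[C] x
        rw [AlgebraTensorModule.map_tmul, Algebra.linearMap_apply, map_one, LinearMap.id_apply]
    exact h ▸ TensorProduct.isBaseChange C G B')
  let ψ : (C' ⊗[C] G) →ₗ[C'] M' := AlgebraTensorModule.map (Algebra.linearMap C' B') LinearMap.id
  have hψ : IsBaseChange B' ψ := IsBaseChange.of_comp (TensorProduct.isBaseChange C G C') (by
    have h : (ψ.restrictScalars C) ∘ₗ (TensorProduct.mk C C' G 1) = TensorProduct.mk C B' G 1 :=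
      LinearMap.ext fun x => by
        show AlgebraTensorModule.map (Algebra.linearMap C' B') LinearMap.id ((1 : C') ⊗ₜ[C] x) = (1 : B') ⊗ₜ[C] x
        rw [AlgebraTensorModule.map_tmul, Algebra.linearMap_apply, map_one, LinearMap.id_apply]
    exact h ▸ TensorProduct.isBaseChange C G B')
  haveI : IsLocalization (Algebra.algebraMapSubmonoid C' n.primeCompl) B' :=
    (Algebra.isLocalization_iff_isPushout n.primeCompl L).2 (Algebra.IsPushout.symm hB)
  have h2 := hI R' B' M' φ hφ
  have h3 := transfer_localized (R' := R') (L := L) (C' := C') (B' := B') (N := C' ⊗[C] G) (M' := M') n ψ hψ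
  exact h3.trans h2

open TensorProduct in
/-- Affine form. Let R be a Henselian Noetherian local ring with maximal ideal m, C a finitely generated
flat R-algebra all of whose fibre local rings C_q/pC_q satisfy S₂ (an S₂-morphism), F a finite
reflexive C-module free at every prime not containing an ideal J such that every fibre local ring at
primes q ⊇ J has dimension ≥ 2 (locally free in codimension one on each fibre), and y = n a prime of
C over m. Then there is an ideal 𝔞 of R (a closed subscheme S of Spec R) with the universal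
property: for every local homomorphism R → R′ to a Noetherian local ring and the Noetherian pushout
C′ = R′ ⊗_R C, the double dual (C′ ⊗_C F)^∨∨ is flat over R′ with S₂ fibre stalk at every prime q′
of C′ lying over n and over the closed point of R′ (it satisfies relative S₂ there) if and only if
𝔞R′ = 0 (Spec R′ → Spec R factors through S). Test rings R′ range over the universe of R. -/
theorem result (R C : Type u) [CommRing R] [CommRing C]
    [IsNoetherianRing R] [HenselianLocalRing R] [IsNoetherianRing C] [Algebra R C] [Module.Flat R C]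
    (hft : Algebra.FiniteType R C)
    (hS2 : ∀ q : PrimeSpectrum C, LocCoh.HasSk 2 (EGA4.FibLocRing R C q.asIdeal) (EGA4.FibLocRing R C q.asIdeal))
    (F : Type u) [AddCommGroup F] [Module C F] [Module.Finite C F] [Module.IsReflexive C F] (J : Ideal C)
    (hFU : ∀ q : PrimeSpectrum C, ¬ J ≤ q.asIdeal → Module.Free (Localization.AtPrime q.asIdeal) (LocalizedModule q.asIdeal.primeCompl F))
    (hcodim : ∀ q : PrimeSpectrum C, J ≤ q.asIdeal → (2 : WithBot ℕ∞) ≤ ringKrullDim (EGA4.FibLocRing R C q.asIdeal))
    (n : PrimeSpectrum C) (hn : (IsLocalRing.maximalIdeal R).map (algebraMap R C) ≤ n.asIdeal) :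
    ∃ 𝔞 : Ideal R, ∀ (R' : Type u) [CommRing R'] [IsNoetherianRing R'] [IsLocalRing R'] [Algebra R R'],
      IsLocalHom (algebraMap R R') →
      ∀ (C' : Type u) [CommRing C'] [IsNoetherianRing C'] [Algebra C C'] [Algebra R' C'] [Algebra R C']
        [IsScalarTower R C C'] [IsScalarTower R R' C'], Algebra.IsPushout R C R' C' →
        ((∀ q' : PrimeSpectrum C', q'.asIdeal.comap (algebraMap C C') = n.asIdeal →
            (IsLocalRing.maximalIdeal R').map (algebraMap R' C') ≤ q'.asIdeal →
            FlatCA.FlatAt R' q'.asIdeal (Module.Dual C' (Module.Dual C' (C' ⊗[C] F))) ∧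
            LocCoh.HasSk 2 (EGA4.FibLocRing R' C' q'.asIdeal)
              (EGA4.FibLocMod R' C' q'.asIdeal (Module.Dual C' (Module.Dual C' (C' ⊗[C] F))))) ↔
          𝔞.map (algebraMap R R') = ⊥) := by
  haveI : Algebra.FiniteType R C := hft
  have hnm := Groth.Agent.H3CAlg.QGorS2.comap_eq_maximalIdeal hn
  obtain ⟨a, b, f, u, hf, hfu, hGU⟩ := Groth.Agent.S18709.result C J F hFU
  let G := (Fin b → C) ⧸ LinearMap.range u
  let v : (Fin b → C) →ₗ[C] G := (LinearMap.range u).mkQ
  have huv : Function.Exact u v := LinearMap.exact_map_mkQ_range u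
  have hv : Function.Surjective v := Submodule.mkQ_surjective _
  let L := Localization.AtPrime n.asIdeal
  haveI : IsLocalHom (algebraMap R L) := ⟨fun r hr => by
    by_contra hnu
    refine (?_ : algebraMap R L r ∈ maximalIdeal L) hr
    rw [IsScalarTower.algebraMap_apply R C L, IsLocalization.AtPrime.to_map_mem_maximal_iff L n.asIdeal]
    exact hnm.ge hnu⟩
  haveI : Algebra.EssFiniteType C L := Algebra.EssFiniteType.of_isLocalization _ n.asIdeal.primeCompl
  haveI : Algebra.EssFiniteType R L := Algebra.EssFiniteType.comp R C L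
  obtain ⟨I, hI, -⟩ := Groth.Agent.S1229.result (A := R) (B := L) (L ⊗[C] G)
  refine ⟨I, fun R' _ _ _ _ hloc C' _ _ _ _ _ _ _ hpush => ?_⟩
  haveI := hloc
  haveI := hpush
  haveI : SMulCommClass C R' C' := ⟨fun c a x => by
    rw [Algebra.smul_def c, Algebra.smul_def a, Algebra.smul_def a, Algebra.smul_def c]
    exact mul_left_comm _ _ _⟩
  haveI : SMulCommClass R' C C' := SMulCommClass.symm C R' C'
  rw [forall_iff n.asIdeal hnm J (hS2 n) hcodim f u v hf hfu huv hv hGU hpush]
  exact transfer n.asIdeal G I hI hpush

end Groth.Agent.S18714
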