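import Groth.Statements.S18718
import Groth.Agent.H4Depth.DualBaseChange
import Groth.Agent.S18722
import Groth.Agent.S18703

set_option autoImplicit false
universe u
open QGor

namespace Groth.Agent.S18718

open TensorProduct in
/-- Affine form. Let A → B be a flat homomorphism of Noetherian rings, J an ideal of B such that the
fibre local ring B_q/pB_q has depth ≥ 2 at every prime q ⊇ J (p its contraction), A → A′ a
homomorphism of Noetherian rings with Noetherian pushout B′ = A′ ⊗_A B, and F a finite B-module with
F_q free for every prime q not containing J. Then depth_J (F^∨∨) ≥ 2 (the double dual is the module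
of sections of F off V(J)); the natural map (B′ ⊗_B F)^∨∨ → (B′ ⊗_B F^∨∨)^∨∨ obtained by dualising
twice the base change of F → F^∨∨ is bijective; and if moreover F is flat over A and the fibre
stalks F_q/pF_q have depth ≥ 2 at all primes q ⊇ J, then F and B′ ⊗_B F are reflexive. -/
theorem result (A B : Type u) [CommRing A] [CommRing B] [IsNoetherianRing A] [IsNoetherianRing B] [Algebra A B]
    (A' B' : Type u) [CommRing A'] [CommRing B'] [IsNoetherianRing A'] [IsNoetherianRing B']
    [Algebra A A'] [Algebra B B'] [Algebra A' B'] [Algebra A B'] [IsScalarTower A B B'] [IsScalarTower A A' B']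
    [Algebra.IsPushout A B A' B'] [Module.Flat A B] (J : Ideal B)
    (hZ : ∀ q : PrimeSpectrum B, J ≤ q.asIdeal →
      2 ≤ LocCoh.idealDepth (q.asIdeal.map (algebraMap B (EGA4.FibLocRing A B q.asIdeal))) (EGA4.FibLocRing A B q.asIdeal))
    (F : Type u) [AddCommGroup F] [Module B F] [Module A F] [IsScalarTower A B F] [Module.Finite B F]
    (hFU : ∀ q : PrimeSpectrum B, ¬ J ≤ q.asIdeal → Module.Free (Localization.AtPrime q.asIdeal) (LocalizedModule q.asIdeal.primeCompl F)) :
    2 ≤ LocCoh.idealDepth J (Module.Dual B (Module.Dual B F)) ∧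
    Function.Bijective (((Module.Dual.eval B F).baseChange B').dualMap.dualMap) ∧
    (Module.Flat A F →
      (∀ q : PrimeSpectrum B, J ≤ q.asIdeal →
        2 ≤ LocCoh.idealDepth (q.asIdeal.map (algebraMap B (EGA4.FibLocRing A B q.asIdeal))) (EGA4.FibLocMod A B q.asIdeal F)) →
      Module.IsReflexive B F ∧ Module.IsReflexive B' (B' ⊗[B] F)) := by
  open Groth.Agent.H4Depth in
  have hB : 2 ≤ LocCoh.idealDepth J B := le_idealDepth_self_of_fibre J hZ
  let J' := J.map (algebraMap B B')
  have hB' : 2 ≤ LocCoh.idealDepth J' B' := le_idealDepth_of_forall J' B' fun q' hq' => by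
    exact_mod_cast le_depth_of_fibre_baseChange (A := A) B B'
      (Algebra.IsPushout.equiv A B A' B').toLinearEquiv q'.asIdeal 2
      (le_depth_fibLocRing (by exact_mod_cast hZ ⟨_, q'.2.comap _⟩ (Ideal.map_le_iff_le_comap.1 hq')))
  have hoff : ∀ p : PrimeSpectrum B', ¬ J' ≤ p.asIdeal → ¬ J ≤ p.asIdeal.comap (algebraMap B B') :=
    fun p hp h => hp (Ideal.map_le_iff_le_comap.2 h)
  obtain ⟨n₀, m₀, f₀, g₀, hf₀, -⟩ := exists_dual_presentation (R := B) F
  haveI : Module.Finite B (Module.Dual B F) := Module.Finite.of_injective f₀ hf₀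
  obtain ⟨n₁, m₁, f₁, g₁, hf₁, -⟩ := exists_dual_presentation (R := B) (Module.Dual B F)
  haveI : Module.Finite B (Module.Dual B (Module.Dual B F)) := Module.Finite.of_injective f₁ hf₁
  refine ⟨Groth.Agent.H1CAlg.two_le_idealDepth_hom J (Module.Dual B F) hB, ?_, fun hF hdep => ?_⟩
  · have hb := bijective_dualMap J' hB' ((Module.Dual.eval B F).baseChange B') fun p hp => by
      haveI := hFU ⟨_, p.2.comap (algebraMap B B')⟩ (hoff p hp)
      haveI : Module.Finite (Localization.AtPrime (p.asIdeal.comap (algebraMap B B')))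
          (LocalizedModule (p.asIdeal.comap (algebraMap B B')).primeCompl F) :=
        Module.Finite.of_isLocalizedModule (p.asIdeal.comap (algebraMap B B')).primeCompl
          (LocalizedModule.mkLinearMap (p.asIdeal.comap (algebraMap B B')).primeCompl F)
      obtain ⟨g, s, h1, h2⟩ := exists_inverse_up_to (Module.Dual.eval B F) (p.asIdeal.comap (algebraMap B B')).primeCompl
        ((Groth.Agent.H1CAlg.isReflexive_localizedModule_iff F _).1 (inferInstance))
      refine ⟨g.baseChange B', ⟨algebraMap B B' s, s.2⟩, ?_, ?_⟩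
      · rw [← LinearMap.baseChange_comp, h1, LinearMap.baseChange_smul, LinearMap.baseChange_id]
        exact LinearMap.ext fun x => (algebraMap_smul B' (s : B) x).symm
      · rw [← LinearMap.baseChange_comp, h2, LinearMap.baseChange_smul, LinearMap.baseChange_id]
        exact LinearMap.ext fun x => (algebraMap_smul B' (s : B) x).symm
    exact (LinearEquiv.ofBijective _ hb).dualMap.bijective
  · haveI := hF
    have hFd : 2 ≤ LocCoh.idealDepth J F := le_idealDepth_of_forall J F fun q hq =>
      le_depth_of_fibre (A := A) F q.asIdeal (hdep q hq)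
    refine ⟨Groth.Agent.S18703.result B J (le_trans one_le_two hB) F (fun q hq => ?_) hFd, ?_⟩
    · haveI := hFU q hq
      haveI : Module.Finite (Localization.AtPrime q.asIdeal) (LocalizedModule q.asIdeal.primeCompl F) :=
        Module.Finite.of_isLocalizedModule q.asIdeal.primeCompl (LocalizedModule.mkLinearMap q.asIdeal.primeCompl F)
      infer_instance
    refine Groth.Agent.S18703.result B' J' (le_trans one_le_two hB') (B' ⊗[B] F) (fun p hp => ?_)
      (le_idealDepth_of_forall J' _ fun q' hq' => ?_)
    · haveI := free_localized_baseChange F p.asIdeal (hFU ⟨_, p.2.comap (algebraMap B B')⟩ (hoff p hp))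
      haveI : Module.Finite (Localization.AtPrime p.asIdeal) (LocalizedModule p.asIdeal.primeCompl (B' ⊗[B] F)) :=
        Module.Finite.of_isLocalizedModule p.asIdeal.primeCompl (LocalizedModule.mkLinearMap p.asIdeal.primeCompl (B' ⊗[B] F))
      infer_instance
    · let e : F ⊗[A] A' ≃ₗ[B] B' ⊗[B] F :=
        (TensorProduct.AlgebraTensorModule.cancelBaseChange A B B F A').symm ≪≫ₗ
          TensorProduct.congr (LinearEquiv.refl B F) (Algebra.IsPushout.equiv A B A' B').toLinearEquiv ≪≫ₗ
          TensorProduct.comm B F B'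
      exact_mod_cast le_depth_of_fibre_baseChange (A := A) F (B' ⊗[B] F) e q'.asIdeal 2
        (le_depth_fibLocMod (by exact_mod_cast hdep ⟨_, q'.2.comap _⟩ (Ideal.map_le_iff_le_comap.1 hq')))

end Groth.Agent.S18718
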