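import Groth.Statements.S18719
import Groth.Agent.H4DR.Dualizing.CanonicalEnd

set_option autoImplicit false
universe u
open CategoryTheory
attribute [local instance] HasDerivedCategory.standard
open QGor

namespace Groth.Agent.S18719

/-- Affine-local form. Let A be a Noetherian local ring of Krull dimension n with a normalized dualizing
complex ω, and K = H^{-n}(ω) the dualizing module (for A satisfying S₂, ω[−n] is the ordinary
dualizing complex and K its dualizing sheaf). If A satisfies (S₂), then r ↦ r · id_K is a bijection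
A → Hom_A(K, K). If A satisfies (S₃), then Ext¹_A(K, K) = 0 (no nonzero morphisms K → K[1] in D(A)). -/
theorem result (A : Type u) [CommRing A] [IsNoetherianRing A]
    [IsLocalRing A] (ω : Dual.D A) (hω : Dual.IsDualizing A ω) (hn : Dual.IsNormalized A ω)
    (n : ℕ) (hd : ringKrullDim A = n) :
    (LocCoh.HasSk 2 A A →
      Function.Bijective (fun r : A => r • (LinearMap.id : Dual.HD A ω (-(n : ℤ)) →ₗ[A] Dual.HD A ω (-(n : ℤ))))) ∧
    (LocCoh.HasSk 3 A A →
      Subsingleton (Dual.inD A (Dual.HD A ω (-(n : ℤ))) ⟶ (Dual.inD A (Dual.HD A ω (-(n : ℤ))))⟦(1 : ℤ)⟧)) := by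
  exact ⟨fun hS => Groth.Agent.H4DR.Dualizing.bijective_smul_id hω hn hd hS,
    fun hS => Groth.Agent.H4DR.Dualizing.subsingleton_ext_one hω hn hd hS⟩

end Groth.Agent.S18719
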