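import Groth.Statements.S18720
import Groth.Agent.H4DR.Dualizing.Ordinary

set_option autoImplicit false
universe u
open CategoryTheory
attribute [local instance] HasDerivedCategory.standard
open QGor

namespace Groth.Agent.S18720

/-- Affine-local form. Let A be a Noetherian local ring of Krull dimension n with a dualizing complex ω,
L = H⁰(ω), and J an ideal with ht J ≥ 1 such that ω restricted off V(J) is L placed in degree 0,
i.e. H^i(ω)_p = 0 for every i ≠ 0 and every prime p not containing J. Then ω is ordinary (its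
codimension function is p ↦ ht p), which for the local ring means: A is equidimensional and ω[n] is
normalized; and L satisfies (S₂). If moreover ht J ≥ 2, then depth_J L ≥ 2 (L is the module of
sections of its restriction off V(J)). -/
theorem result (A : Type u) [CommRing A] [IsNoetherianRing A]
    [IsLocalRing A] (ω : Dual.D A) (hω : Dual.IsDualizing A ω) (n : ℕ) (hd : ringKrullDim A = n)
    (J : Ideal A) (hJ : 1 ≤ J.height)
    (hoff : ∀ p : PrimeSpectrum A, ¬ J ≤ p.asIdeal → ∀ i : ℤ, i ≠ 0 → p ∉ Module.support A (Dual.HD A ω i)) :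
    (EGA4.IsEquidim A ∧ Dual.IsNormalized A (ω⟦(n : ℤ)⟧) ∧ LocCoh.HasSk 2 A (Dual.HD A ω 0)) ∧
    (2 ≤ J.height → 2 ≤ LocCoh.idealDepth J (Dual.HD A ω 0)) := by
  open Groth.Agent.H4DR in
  have hmin : ∀ p : PrimeSpectrum A, p.asIdeal ∈ minimalPrimes A → ∀ i : ℤ, i ≠ 0 →
      p ∉ Module.support A (Dual.HD A ω i) := fun p hp => hoff p (fun hle => not_lt.2 ((hJ.trans (Ideal.height_mono hle)).trans (le_of_eq (Ideal.height_eq_zero_iff.2 hp))) zero_lt_one)
  obtain ⟨heq, hn⟩ := Groth.Agent.H4DR.Dualizing.exists_normalized_of_minimal hω hd hmin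
  let e : Dual.HD A (ω⟦(n : ℤ)⟧) (-(n : ℤ)) ≃ₗ[A] Dual.HD A ω 0 :=
    Groth.Agent.H4DR.PCoh.hShift ω n (-(n : ℤ)) 0 (add_neg_cancel _)
  haveI := hω.finite_cohomology 0
  have hdA : Module.supportDim A A = n := (Module.supportDim_self_eq_ringKrullDim (R := A)).trans hd
  have hS2 : LocCoh.HasSk 2 A (Dual.HD A ω 0) := Groth.Agent.H4DR.Dualizing.hasSk_two_top
    (Groth.Agent.H4DR.Dualizing.isDualizing_shift hω n) hn A hdA
    (e.symm.trans (Groth.Agent.H4DR.Ext.evalEquiv (ω⟦(n : ℤ)⟧) (-(n : ℤ))).symm)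
  have hsupp : Module.support A (Dual.HD A ω 0) = Set.univ := by
    rw [← e.support_eq]
    exact Groth.Agent.H4DR.Dualizing.support_top_eq_univ (Groth.Agent.H4DR.Dualizing.isDualizing_shift hω n) hn hd heq
  exact ⟨⟨heq, hn, hS2⟩, fun h2 => Groth.Agent.H4DR.Dualizing.two_le_idealDepth_of_hasSk_two hS2 hsupp J h2⟩

end Groth.Agent.S18720
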