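import Groth.Statements.S18721
import Groth.Agent.H4DR.Dualizing.SkGlobal

set_option autoImplicit false
universe u
open CategoryTheory
attribute [local instance] HasDerivedCategory.standard
open QGor

namespace Groth.Agent.S18721

/-- Affine form. Let k be a field and A a finitely generated k-algebra, equidimensional of Krull
dimension n, and let ω be a dualizing complex of A normalized at every maximal ideal m (no nonzero
morphisms A/m → ω[i] in D(A) for i ≠ 0 — the canonical dualizing complex of Spec A over k). Put Z_i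
= Supp H^{-i}(ω). Then H^{-i}(ω) = 0 for every i > n, and for every k′ ≥ 1: A satisfies (S_{k′}) if
and only if dim Z_i ≤ i − k′ for all i ≠ n, where for i < k′ this means H^{-i}(ω) = 0. -/
theorem result (k A : Type u) [Field k] [CommRing A]
    [Algebra k A] (hft : Algebra.FiniteType k A) [IsNoetherianRing A]
    (hEq : EGA4.IsEquidim A) (n : ℕ) (hd : ringKrullDim A = n)
    (ω : Dual.D A) (hω : Dual.IsDualizing A ω)
    (hnorm : ∀ (m : Ideal A) (_ : m.IsMaximal) (i : ℤ), i ≠ 0 → Subsingleton (Dual.inD A (A ⧸ m) ⟶ ω⟦i⟧)) :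
    (∀ i : ℕ, n < i → Subsingleton (Dual.HD A ω (-(i : ℤ)))) ∧
    ∀ k' : ℕ, 1 ≤ k' →
      (LocCoh.HasSk k' A A ↔
        ∀ i : ℕ, i ≠ n →
          (i < k' → Subsingleton (Dual.HD A ω (-(i : ℤ)))) ∧
          (k' ≤ i → Module.supportDim A (Dual.HD A ω (-(i : ℤ))) ≤ ((i - k' : ℕ) : WithBot ℕ∞))) := by
  haveI : Nontrivial A := by
    by_contra h
    rw [not_nontrivial_iff_subsingleton] at h
    haveI := h
    rw [ringKrullDim_eq_bot_of_subsingleton] at hd
    exact absurd hd (by simp)
  have hM : EGA4.IsEquidimModule A A := fun p hp => by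
    rw [Module.supportDim_self_eq_ringKrullDim]
    refine hEq p ?_
    rwa [Module.annihilator_eq_bot.2 inferInstance] at hp
  have hδ : Module.supportDim A A = n := by rw [Module.supportDim_self_eq_ringKrullDim]; exact hd
  have hdg := Groth.Agent.H4DR.Dualizing.Global.deg_eq_neg_dim hω hnorm
  have hb : ∀ j : ℤ, (j < -(n : ℤ) ∨ 0 < j) → Subsingleton (Dual.inD A A ⟶ ω⟦j⟧) := fun j hj =>
    not_nontrivial_iff_subsingleton.1 fun hne => by
      obtain ⟨q, hq⟩ := (Module.nonempty_support_iff (R := A)).2 hne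
      have hqM := Groth.Agent.H4DR.Dualizing.support_ex_subset hω A j hq
      obtain ⟨δq, D, hδq, hD, hle, -, -, hi⟩ := Groth.Agent.H4DR.Dualizing.exists_interval hω A q hqM
      obtain ⟨d, hd'⟩ := Groth.Agent.H4DR.Dualizing.Global.exists_dim_quotient hω q
      have hsum := Groth.Agent.H4DR.Dualizing.Global.dim_add_of_equidim hω A hM hdg hδ hqM hD hd'
      have hdeg := hdg q d hd'
      obtain ⟨h1, h2⟩ := hi j hq
      omega
  have e : ∀ j : ℤ, (Dual.inD A A ⟶ ω⟦j⟧) ≃ₗ[A] Dual.HD A ω j := Groth.Agent.H4DR.Ext.evalEquiv ω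
  have es : ∀ j : ℤ, Subsingleton (Dual.inD A A ⟶ ω⟦j⟧) ↔ Subsingleton (Dual.HD A ω j) := fun j =>
    ⟨fun h => (e j).symm.injective.subsingleton, fun h => (e j).injective.subsingleton⟩
  have ed : ∀ j : ℤ, Module.supportDim A (Dual.inD A A ⟶ ω⟦j⟧) = Module.supportDim A (Dual.HD A ω j) := fun j => by
    unfold Module.supportDim
    rw [show Module.support A (Dual.inD A A ⟶ ω⟦j⟧) = Module.support A (Dual.HD A ω j) from (e j).support_eq]
  refine ⟨fun i hi => (es _).1 (hb _ (Or.inl (by omega))), fun k' hk' => ?_⟩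
  rw [Groth.Agent.H4DR.Dualizing.Global.hasSk_iff_equidim hω A hM hdg n hδ k']
  constructor
  · intro h i hi
    obtain ⟨h1, h2⟩ := h (-(i : ℤ)) (by omega)
    refine ⟨fun hlt => (es _).1 (h1 (by omega)), fun hle => ?_⟩
    have h3 := h2 (by omega)
    rwa [ed, show (-(-(i : ℤ)) - (k' : ℤ)).toNat = i - k' by omega] at h3
  · intro h j hj
    by_cases hj0 : j ≤ 0
    · obtain ⟨i, rfl⟩ : ∃ i : ℕ, j = -(i : ℤ) := ⟨(-j).toNat, by omega⟩
      obtain ⟨h1, h2⟩ := h i (by omega)
      refine ⟨fun hlt => (es _).2 (h1 (by omega)), fun hle => ?_⟩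
      rw [ed, show (-(-(i : ℤ)) - (k' : ℤ)).toNat = i - k' by omega]
      exact h2 (by omega)
    · refine ⟨fun _ => hb j (Or.inr (by omega)), fun _ => ?_⟩
      haveI := hb j (Or.inr (by omega))
      rw [Module.supportDim_eq_bot_of_subsingleton]
      exact bot_le

end Groth.Agent.S18721
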