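import Groth.Statements.S18723
import Groth.Agent.H4DR.Dualizing.Ordinary
import Groth.Agent.S18703
import Groth.Agent.S18702
import Groth.Agent.H1CAlg.DepthHom

set_option autoImplicit false
universe u
open CategoryTheory
attribute [local instance] HasDerivedCategory.standard
open QGor

namespace Groth.Agent.S18723

/-- Affine-local form, with (2) for tensor powers m ≥ 0. Let A be a Noetherian local ring of Krull
dimension n with a dualizing complex ω, L = H⁰(ω), and J an ideal with ht J ≥ 2 (the closed set V(J)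
has codimension ≥ 2) such that off V(J) the complex ω is the invertible module L in degree 0: for
every prime p not containing J, H^i(ω)_p = 0 for i ≠ 0 and L_p is free of rank 1. (1) If A satisfies
(S₁), then ω is ordinary (A is equidimensional and ω[n] is normalized) and L is reflexive and
satisfies (S₂). (2) If A satisfies (S₂), then for every m ≥ 0 the double dual L^[m] of the m-th
tensor power of L satisfies (S₂) and depth_J L^[m] ≥ 2 (it is the module of sections of L^⊗m off
V(J)). -/
theorem result (A : Type u) [CommRing A] [IsNoetherianRing A]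
    [IsLocalRing A] (ω : Dual.D A) (hω : Dual.IsDualizing A ω) (n : ℕ) (hd : ringKrullDim A = n)
    (J : Ideal A) (hJ : 2 ≤ J.height)
    (hoff : ∀ p : PrimeSpectrum A, ¬ J ≤ p.asIdeal →
      (∀ i : ℤ, i ≠ 0 → p ∉ Module.support A (Dual.HD A ω i)) ∧
      Module.Free (Localization.AtPrime p.asIdeal) (LocalizedModule p.asIdeal.primeCompl (Dual.HD A ω 0)) ∧
      Module.finrank (Localization.AtPrime p.asIdeal) (LocalizedModule p.asIdeal.primeCompl (Dual.HD A ω 0)) = 1) :
    (LocCoh.HasSk 1 A A →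
      (EGA4.IsEquidim A ∧ Dual.IsNormalized A (ω⟦(n : ℤ)⟧)) ∧
      Module.IsReflexive A (Dual.HD A ω 0) ∧ LocCoh.HasSk 2 A (Dual.HD A ω 0)) ∧
    (LocCoh.HasSk 2 A A → ∀ m : ℕ,
      LocCoh.HasSk 2 A (Module.Dual A (Module.Dual A (TensorPower A m (Dual.HD A ω 0)))) ∧
      2 ≤ LocCoh.idealDepth J (Module.Dual A (Module.Dual A (TensorPower A m (Dual.HD A ω 0))))) := by
  have hJ1 : ∀ p : PrimeSpectrum A, J ≤ p.asIdeal → (2 : ℕ∞) ≤ p.asIdeal.height := fun p hp => hJ.trans (Ideal.height_mono hp)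
  open Groth.Agent.H4DR in
  have hmin : ∀ p : PrimeSpectrum A, p.asIdeal ∈ minimalPrimes A → ∀ i : ℤ, i ≠ 0 →
      p ∉ Module.support A (Dual.HD A ω i) := fun p hp => (hoff p (fun hle => not_lt.2 ((hJ.trans (Ideal.height_mono hle)).trans (le_of_eq (Ideal.height_eq_zero_iff.2 hp))) zero_lt_two)).1
  obtain ⟨heq, hn⟩ := Groth.Agent.H4DR.Dualizing.exists_normalized_of_minimal hω hd hmin
  let e : Dual.HD A (ω⟦(n : ℤ)⟧) (-(n : ℤ)) ≃ₗ[A] Dual.HD A ω 0 :=
    Groth.Agent.H4DR.PCoh.hShift ω n (-(n : ℤ)) 0 (add_neg_cancel _)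
  haveI := hω.finite_cohomology 0
  have hdA : Module.supportDim A A = n := (Module.supportDim_self_eq_ringKrullDim (R := A)).trans hd
  have hS2 : LocCoh.HasSk 2 A (Dual.HD A ω 0) := Groth.Agent.H4DR.Dualizing.hasSk_two_top
    (Groth.Agent.H4DR.Dualizing.isDualizing_shift hω n) hn A hdA
    (e.symm.trans (Groth.Agent.H4DR.Ext.evalEquiv (ω⟦(n : ℤ)⟧) (-(n : ℤ))).symm)
  have hsupp : Module.support A (Dual.HD A ω 0) = Set.univ := by
    rw [← e.support_eq]
    exact Groth.Agent.H4DR.Dualizing.support_top_eq_univ (Groth.Agent.H4DR.Dualizing.isDualizing_shift hω n) hn hd heq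
  have hdepth : ∀ k : ℕ, k ≤ 2 → LocCoh.HasSk k A A → (k : ℕ∞) ≤ LocCoh.idealDepth J A := fun k hk hS =>
    Groth.Agent.H4Depth.le_idealDepth_of_forall J A fun p hp => by
      have h1 := hS p.asIdeal
      rw [Module.supportDim_eq_of_equiv (Groth.Agent.H4DR.Dualizing.selfLocEquiv p), Module.supportDim_self_eq_ringKrullDim,
        IsLocalization.AtPrime.ringKrullDim_eq_height p.asIdeal (Localization.AtPrime p.asIdeal)] at h1
      refine WithBot.coe_le_coe.1 (le_trans (le_min ?_ ?_) h1)
      · exact_mod_cast le_rfl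
      · exact_mod_cast le_trans (Nat.cast_le.2 hk) (hJ1 p hp)
  refine ⟨fun hS => ⟨⟨heq, hn⟩, Groth.Agent.S18703.result A J (by exact_mod_cast hdepth 1 one_le_two hS) _
    (fun p hp => ?_) (Groth.Agent.H4DR.Dualizing.two_le_idealDepth_of_hasSk_two hS2 hsupp J hJ), hS2⟩, fun hS m => ?_⟩
  · haveI := (hoff p hp).2.1
    haveI : Module.Finite (Localization.AtPrime p.asIdeal) (LocalizedModule p.asIdeal.primeCompl (Dual.HD A ω 0)) :=
      Module.Finite.of_isLocalizedModule p.asIdeal.primeCompl (LocalizedModule.mkLinearMap p.asIdeal.primeCompl (Dual.HD A ω 0))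
    exact Module.IsReflexive.of_finite_of_free (R := Localization.AtPrime p.asIdeal) (M := LocalizedModule p.asIdeal.primeCompl (Dual.HD A ω 0))
  · haveI : Module.Finite A (TensorPower A m (Dual.HD A ω 0)) :=
      inferInstanceAs (Module.Finite A (PiTensorProduct A fun _ : Fin m => Dual.HD A ω 0))
    have hd2 : 2 ≤ LocCoh.idealDepth J A := by exact_mod_cast hdepth 2 le_rfl hS
    obtain ⟨a, b, f, g, hf, hfg⟩ := Groth.Agent.H4Depth.exists_dual_presentation (R := A) (TensorPower A m (Dual.HD A ω 0))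
    haveI : Module.Finite A (Module.Dual A (TensorPower A m (Dual.HD A ω 0))) := Module.Finite.of_injective f hf
    obtain ⟨a', b', f', g', hf', hfg'⟩ :=
      Groth.Agent.H4Depth.exists_dual_presentation (R := A) (Module.Dual A (TensorPower A m (Dual.HD A ω 0)))
    refine ⟨?_, Groth.Agent.H1CAlg.two_le_idealDepth_hom J _ hd2⟩
    rcases Nat.eq_zero_or_pos b' with hb | hb
    · subst hb
      exact Groth.Agent.H4Depth.hasSk_of_bijective (M := Fin a' → A) (f := f')
        ⟨hf', fun y => (hfg' y).mp (Subsingleton.elim _ _)⟩ (Groth.Agent.H4Depth.hasSk_pi hS a')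
    · exact Groth.Agent.H4Depth.hasSk_two_of_exact hf' hfg' (Groth.Agent.H4Depth.support_subset_pi _ hb)
        (Groth.Agent.H4Depth.hasSk_pi (Groth.Agent.H4Depth.hasSk_mono (by norm_num) hS) b') (Groth.Agent.H4Depth.hasSk_pi hS a')

end Groth.Agent.S18723
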