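import Groth.Statements.S18725
import Groth.Agent.H4Depth.FibLocal
import Groth.Agent.H06EGA11.Open
import Groth.Agent.S18708
import Groth.Agent.H7Flat.FlatAtFinite
import Groth.Agent.H4Depth.FlatProjective

set_option autoImplicit false
universe u
open QGor

namespace Groth.Agent.S18725

set_option linter.style.haveILetI false
set_option linter.unusedSectionVars false

open Groth.Agent Groth.Agent.H4Depth in
theorem flatAt_iff {A S : Type u} [CommRing A] [CommRing S] [IsNoetherianRing A] [IsNoetherianRing S] [Algebra A S]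
    (q : Ideal S) [q.IsPrime] (J : Ideal S)
    {K E0 E1 G : Type u} [AddCommGroup K] [Module S K] [Module A K] [IsScalarTower A S K] [Module.Finite S K]
    [AddCommGroup E0] [Module S E0] [Module A E0] [IsScalarTower A S E0] [Module.Finite S E0] [Module.Flat A E0]
    [AddCommGroup E1] [Module S E1] [Module A E1] [IsScalarTower A S E1] [Module.Finite S E1] [Module.Flat A E1]
    [AddCommGroup G] [Module S G] [Module A G] [IsScalarTower A S G] [Module.Finite S G]
    (f : K →ₗ[S] E0) (u : E0 →ₗ[S] E1) (v : E1 →ₗ[S] G)
    (hf : Function.Injective f) (hfu : Function.Exact f u) (huv : Function.Exact u v) (hv : Function.Surjective v)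
    (hGU : ∀ P : PrimeSpectrum S, ¬ J ≤ P.asIdeal → FlatCA.FlatAt A P.asIdeal G)
    (h0 : 2 ≤ LocCoh.idealDepth (J.map (algebraMap S (Localization.AtPrime q))) (EGA4.FibLocMod A S q E0))
    (h1 : 1 ≤ LocCoh.idealDepth (J.map (algebraMap S (Localization.AtPrime q))) (EGA4.FibLocMod A S q E1)) :
    (2 ≤ LocCoh.idealDepth (J.map (algebraMap S (Localization.AtPrime q))) (EGA4.FibLocMod A S q K) ↔
      FlatCA.FlatAt A q G) ∧ (FlatCA.FlatAt A q G → FlatCA.FlatAt A q K) := by
  set s := q.comap (algebraMap A S) with hs
  haveI : q.LiesOver s := ⟨rfl⟩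
  letI := Localization.AtPrime.algebraOfLiesOver s q
  haveI : IsLocalHom (algebraMap (Localization.AtPrime s) (Localization.AtPrime q)) := by
    rw [Localization.AtPrime.IsLiesOverAlgebra.algebraMap_eq]
    infer_instance
  let R := Localization.AtPrime s
  let L := Localization.AtPrime q
  letI : Module R (LocalizedModule q.primeCompl K) := Module.compHom _ (algebraMap R L)
  letI : Module R (LocalizedModule q.primeCompl E0) := Module.compHom _ (algebraMap R L)
  letI : Module R (LocalizedModule q.primeCompl E1) := Module.compHom _ (algebraMap R L)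
  letI : Module R (LocalizedModule q.primeCompl G) := Module.compHom _ (algebraMap R L)
  haveI : IsScalarTower R L (LocalizedModule q.primeCompl K) := IsScalarTower.of_algebraMap_smul fun _ _ => rfl
  haveI : IsScalarTower R L (LocalizedModule q.primeCompl E0) := IsScalarTower.of_algebraMap_smul fun _ _ => rfl
  haveI : IsScalarTower R L (LocalizedModule q.primeCompl E1) := IsScalarTower.of_algebraMap_smul fun _ _ => rfl
  haveI : IsScalarTower R L (LocalizedModule q.primeCompl G) := IsScalarTower.of_algebraMap_smul fun _ _ => rfl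
  have hiff : ∀ (N : Type u) [AddCommGroup N] [Module S N] [Module A N] [IsScalarTower A S N]
      [Module R (LocalizedModule q.primeCompl N)] [IsScalarTower R L (LocalizedModule q.primeCompl N)],
      Module.Flat R (LocalizedModule q.primeCompl N) ↔ FlatCA.FlatAt A q N := by
    intro N _ _ _ _ _ _
    haveI : IsScalarTower A R (LocalizedModule q.primeCompl N) := IsScalarTower.of_algebraMap_smul fun a x => by
      rw [← algebraMap_smul L (algebraMap A R a) x, ← IsScalarTower.algebraMap_apply,
        IsScalarTower.algebraMap_apply A S L, algebraMap_smul, algebraMap_smul]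
    exact Module.flat_iff_of_isLocalization R s.primeCompl _
  haveI : Module.Flat R (LocalizedModule q.primeCompl E0) := (hiff E0).2 (flatAt_of_flat (A := A) (M := E0) ⟨q, inferInstance⟩)
  haveI : Module.Flat R (LocalizedModule q.primeCompl E1) := (hiff E1).2 (flatAt_of_flat (A := A) (M := E1) ⟨q, inferInstance⟩)
  haveI : Module.Finite L (LocalizedModule q.primeCompl K) :=
    Module.Finite.of_isLocalizedModule q.primeCompl (LocalizedModule.mkLinearMap q.primeCompl K)
  haveI : Module.Finite L (LocalizedModule q.primeCompl E0) :=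
    Module.Finite.of_isLocalizedModule q.primeCompl (LocalizedModule.mkLinearMap q.primeCompl E0)
  haveI : Module.Finite L (LocalizedModule q.primeCompl E1) :=
    Module.Finite.of_isLocalizedModule q.primeCompl (LocalizedModule.mkLinearMap q.primeCompl E1)
  haveI : Module.Finite L (LocalizedModule q.primeCompl G) :=
    Module.Finite.of_isLocalizedModule q.primeCompl (LocalizedModule.mkLinearMap q.primeCompl G)
  have heq : EGA4.mB R L = s.map (algebraMap A L) := by
    rw [EGA4.mB, ← Localization.AtPrime.map_eq_maximalIdeal, Ideal.map_map, ← IsScalarTower.algebraMap_eq]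
  have hGU' : ∀ Q : PrimeSpectrum L, ¬ J.map (algebraMap S L) ≤ Q.asIdeal →
      FlatCA.FlatAt R Q.asIdeal (LocalizedModule q.primeCompl G) := fun Q hQ => by
    haveI : Module.Flat S L := IsLocalization.flat _ q.primeCompl
    haveI : IsScalarTower A R (LocalizedModule q.primeCompl G) := IsScalarTower.of_algebraMap_smul fun a x => by
      rw [← algebraMap_smul L (algebraMap A R a) x, ← IsScalarTower.algebraMap_apply,
        IsScalarTower.algebraMap_apply A S L, algebraMap_smul, algebraMap_smul]
    refine (Module.flat_iff_of_isLocalization R s.primeCompl _).2 ?_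
    exact (H7Flat.FlatAtFinite.flat_localizedModule_flat_iff (R := A)
      ((isLocalizedModule_iff_isBaseChange q.primeCompl L _).1
        (localizedModuleIsLocalizedModule (M := G) q.primeCompl)) Q.asIdeal).1
      (hGU ⟨_, Q.2.comap _⟩ fun h => hQ (Ideal.map_le_iff_le_comap.2 h))
  obtain ⟨hD, -, hFl⟩ := S18708.result R L (J.map (algebraMap S L)) (LocalizedModule q.primeCompl K)
    (LocalizedModule q.primeCompl E0) (LocalizedModule q.primeCompl E1) (LocalizedModule q.primeCompl G)
    (LocalizedModule.map q.primeCompl f) (LocalizedModule.map q.primeCompl u) (LocalizedModule.map q.primeCompl v)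
    (LocalizedModule.map_injective _ f hf) (LocalizedModule.map_exact _ f u hfu)
    (LocalizedModule.map_exact _ u v huv) (LocalizedModule.map_surjective _ v hv) hGU'
    (le_of_le_of_eq h0 (idealDepth_congr _ (Submodule.quotEquivOfEq _ _
      (congrArg (fun I => I • (⊤ : Submodule L (LocalizedModule q.primeCompl E0))) heq.symm))))
    (le_of_le_of_eq h1 (idealDepth_congr _ (Submodule.quotEquivOfEq _ _
      (congrArg (fun I => I • (⊤ : Submodule L (LocalizedModule q.primeCompl E1))) heq.symm))))
  have hfib : LocCoh.idealDepth (J.map (algebraMap S L)) (EGA4.FibLocMod A S q K) =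
      LocCoh.idealDepth (J.map (algebraMap S L)) (EGA4.FibMod R L (LocalizedModule q.primeCompl K)) :=
    idealDepth_congr _ (Submodule.quotEquivOfEq _ _
      (congrArg (fun I => I • (⊤ : Submodule L (LocalizedModule q.primeCompl K))) heq.symm))
  rw [hfib, hD, hiff G]
  exact ⟨Iff.rfl, fun h => (hiff K).1 (hFl ((hiff G).2 h))⟩

/-- Affine form of the equivalence (c) ⇔ (d). Let A → B be a homomorphism of finite type between
Noetherian rings, J an ideal of B and 0 → F → E⁰ → E¹ → G → 0 an exact sequence of finite B-modules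
such that E⁰, E¹ are flat over A, G_q is flat over A for every prime q not containing J, and for
every prime q ⊇ J with contraction p the fibre stalk E⁰_q/pE⁰_q has depth ≥ 2 and E¹_q/pE¹_q has
depth ≥ 1. Then for a prime n of B the following are equivalent: G is flat over A at n; there is a
basic open neighbourhood D(s) of n such that at every prime q ∈ D(s) the module F is flat over A at
q and, if q ⊇ J, the fibre stalk F_q/pF_q has depth ≥ 2 (the restriction maps of the fibres of F off
V(J) are bijective on D(s)). -/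
theorem result (A B : Type u) [CommRing A] [CommRing B]
    [IsNoetherianRing A] [IsNoetherianRing B] [Algebra A B] (hft : Algebra.FiniteType A B) (J : Ideal B)
    (F E0 E1 G : Type u) [AddCommGroup F] [Module B F] [Module A F] [IsScalarTower A B F] [Module.Finite B F]
    [AddCommGroup E0] [Module B E0] [Module A E0] [IsScalarTower A B E0] [Module.Finite B E0] [Module.Flat A E0]
    [AddCommGroup E1] [Module B E1] [Module A E1] [IsScalarTower A B E1] [Module.Finite B E1] [Module.Flat A E1]
    [AddCommGroup G] [Module B G] [Module A G] [IsScalarTower A B G] [Module.Finite B G]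
    (f : F →ₗ[B] E0) (u : E0 →ₗ[B] E1) (v : E1 →ₗ[B] G)
    (hf : Function.Injective f) (hfu : Function.Exact f u) (huv : Function.Exact u v) (hv : Function.Surjective v)
    (hGU : ∀ q : PrimeSpectrum B, ¬ J ≤ q.asIdeal → FlatCA.FlatAt A q.asIdeal G)
    (h0 : ∀ q : PrimeSpectrum B, J ≤ q.asIdeal →
      2 ≤ LocCoh.idealDepth (q.asIdeal.map (algebraMap B (EGA4.FibLocRing A B q.asIdeal))) (EGA4.FibLocMod A B q.asIdeal E0))
    (h1 : ∀ q : PrimeSpectrum B, J ≤ q.asIdeal →
      1 ≤ LocCoh.idealDepth (q.asIdeal.map (algebraMap B (EGA4.FibLocRing A B q.asIdeal))) (EGA4.FibLocMod A B q.asIdeal E1))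
    (n : PrimeSpectrum B) :
    FlatCA.FlatAt A n.asIdeal G ↔
      ∃ s : B, s ∉ n.asIdeal ∧ ∀ q : PrimeSpectrum B, s ∉ q.asIdeal →
        FlatCA.FlatAt A q.asIdeal F ∧
        (J ≤ q.asIdeal →
          2 ≤ LocCoh.idealDepth (q.asIdeal.map (algebraMap B (EGA4.FibLocRing A B q.asIdeal))) (EGA4.FibLocMod A B q.asIdeal F)) := by
  haveI := hft
  have key : ∀ q : PrimeSpectrum B,
      (2 ≤ LocCoh.idealDepth (J.map (algebraMap B (Localization.AtPrime q.asIdeal))) (EGA4.FibLocMod A B q.asIdeal F) ↔
        FlatCA.FlatAt A q.asIdeal G) ∧ (FlatCA.FlatAt A q.asIdeal G → FlatCA.FlatAt A q.asIdeal F) := fun q =>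
    Groth.Agent.S18725.flatAt_iff q.asIdeal J f u v hf hfu huv hv hGU
      (Groth.Agent.H4Depth.le_idealDepth_fibLocMod E0 q.asIdeal J 2 fun r _ hr =>
        Groth.Agent.H4Depth.le_depth_fibLocMod (by exact_mod_cast h0 r hr))
      (Groth.Agent.H4Depth.le_idealDepth_fibLocMod E1 q.asIdeal J 1 fun r _ hr =>
        Groth.Agent.H4Depth.le_depth_fibLocMod (by exact_mod_cast h1 r hr))
  refine ⟨fun hG => ?_, fun ⟨s, hs, h⟩ => (key n).1.1 ?_⟩
  · obtain ⟨_, ⟨s, rfl⟩, hns, hsub⟩ := PrimeSpectrum.isTopologicalBasis_basic_opens.exists_subset_of_mem_open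
      (show n ∈ Groth.Agent.H06EGA11.flatLocus A B G from hG) Groth.Agent.H06EGA11.isOpen_flatLocus_of_noetherian
    refine ⟨s, hns, fun q hq => ?_⟩
    have hGq : FlatCA.FlatAt A q.asIdeal G := hsub hq
    refine ⟨(key q).2 hGq, fun hJq => ?_⟩
    rw [Groth.Agent.H4Depth.map_map_eq_map_maximal,
      Groth.Agent.H8Props.FlatDepth.idealDepth_map_of_surjective Ideal.Quotient.mk_surjective]
    exact le_trans ((key q).1.2 hGq) (Groth.Agent.H4Depth.idealDepth_mono
      (Ideal.map_le_iff_le_comap.2 (hJq.trans (le_of_eq (IsLocalization.AtPrime.comap_maximalIdeal _ q.asIdeal).symm))))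
  · exact_mod_cast Groth.Agent.H4Depth.le_idealDepth_fibLocMod F n.asIdeal J 2 fun r hrn hr =>
      Groth.Agent.H4Depth.le_depth_fibLocMod (by exact_mod_cast (h r fun hsr => hs (hrn hsr)).2 hr)

end Groth.Agent.S18725
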