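import Groth.Statements.S18726
import Groth.Agent.H4Depth.FlatH2
import Groth.Agent.S18708

set_option autoImplicit false
universe u
open QGor

namespace Groth.Agent.S18726

/-- Affine-local form at a point. Let A → B be a local homomorphism of Noetherian local rings, m the
maximal ideal of A, J an ideal of B, and 0 → F → E⁰ → E¹ → G → 0 an exact sequence of finite
B-modules with E⁰, E¹ flat over A, G_q flat over A for every prime q not containing J, depth_J
(E⁰/mE⁰) ≥ 2 and depth_J (E¹/mE¹) ≥ 1. Assume H²_J(F/mF) = 0; since under these hypotheses the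
module of sections of F/mF off V(J) is finite and its J-depth is ≥ 3 exactly when H²_J(F/mF)
vanishes, this is the condition that that module of sections has J-depth ≥ 3. Then F and G are flat
over A, and depth_J (F/mF) ≥ 2 (the restriction map of the closed fibre of F off V(J) is bijective). -/
theorem result (A B : Type u) [CommRing A] [CommRing B]
    [IsNoetherianRing A] [IsNoetherianRing B] [IsLocalRing A] [IsLocalRing B] [Algebra A B]
    [IsLocalHom (algebraMap A B)] (J : Ideal B)
    (F E0 E1 G : Type u) [AddCommGroup F] [Module B F] [Module A F] [IsScalarTower A B F] [Module.Finite B F]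
    [AddCommGroup E0] [Module B E0] [Module A E0] [IsScalarTower A B E0] [Module.Finite B E0] [Module.Flat A E0]
    [AddCommGroup E1] [Module B E1] [Module A E1] [IsScalarTower A B E1] [Module.Finite B E1] [Module.Flat A E1]
    [AddCommGroup G] [Module B G] [Module A G] [IsScalarTower A B G] [Module.Finite B G]
    (f : F →ₗ[B] E0) (u : E0 →ₗ[B] E1) (v : E1 →ₗ[B] G)
    (hf : Function.Injective f) (hfu : Function.Exact f u) (huv : Function.Exact u v) (hv : Function.Surjective v)
    (hGU : ∀ q : PrimeSpectrum B, ¬ J ≤ q.asIdeal → FlatCA.FlatAt A q.asIdeal G)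
    (h0 : 2 ≤ LocCoh.idealDepth J (EGA4.FibMod A B E0)) (h1 : 1 ≤ LocCoh.idealDepth J (EGA4.FibMod A B E1))
    (hH2 : Subsingleton (LocCoh.H J 2 (EGA4.FibMod A B F))) :
    Module.Flat A F ∧ Module.Flat A G ∧ 2 ≤ LocCoh.idealDepth J (EGA4.FibMod A B F) := by
  open Groth.Agent.H4Depth TensorProduct IsLocalRing in
  let K := LinearMap.range u
  let u' : E0 →ₗ[B] K := u.rangeRestrict
  have hu' : Function.Surjective u' := u.surjective_rangeRestrict
  have hKv : Function.Exact K.subtype v := fun y => by
    rw [huv y]
    exact ⟨fun ⟨x, hx⟩ => ⟨⟨y, x, hx⟩, rfl⟩, fun ⟨⟨w, x, hx⟩, hw⟩ => ⟨x, hx.trans hw⟩⟩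
  let k0 := A ⧸ maximalIdeal A
  have hrk := range_eq_ker_residue f u v hf hfu huv hv hGU h0 h1 hH2
  have hinjK : Function.Injective ((K.subtype.restrictScalars A).rTensor k0) := by
    rw [injective_iff_map_eq_zero]
    intro w hw
    obtain ⟨z, rfl⟩ := LinearMap.rTensor_surjective (g := u'.restrictScalars A) k0 hu' w
    rw [← LinearMap.rTensor_comp_apply] at hw
    obtain ⟨y, hy⟩ := hrk.ge (show z ∈ kerT A u k0 from hw)
    rw [← hy]
    show (u'.restrictScalars A).rTensor k0 ((f.restrictScalars A).rTensor k0 y) = 0
    rw [← LinearMap.rTensor_comp_apply, show u'.restrictScalars A ∘ₗ f.restrictScalars A = 0 from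
      LinearMap.ext fun x => Subtype.ext (hfu.apply_apply_eq_zero x), LinearMap.rTensor_zero, LinearMap.zero_apply]
  have hres : Function.Injective ((K.subtype.restrictScalars A).lTensor (ResidueField A)) := by
    rw [← LinearMap.comm_comp_rTensor_comp_comm_eq (K.subtype.restrictScalars A)]
    exact (TensorProduct.comm A E1 (ResidueField A)).injective.comp
      (hinjK.comp (TensorProduct.comm A (ResidueField A) K).injective)
  haveI := (Groth.Agent.H7Flat.injective_and_flat_quotient (S := B) (K.subtype.restrictScalars A) hres).2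
  have hG : Module.Flat A G := by
    refine Module.Flat.of_linearEquiv ((Submodule.quotEquivOfEq (LinearMap.range (K.subtype.restrictScalars A))
      (LinearMap.ker (v.restrictScalars A)) ?_).trans ((v.restrictScalars A).quotKerEquivOfSurjective hv)).symm
    exact ((LinearMap.exact_iff (f := K.subtype.restrictScalars A) (g := v.restrictScalars A)).1 hKv).symm
  obtain ⟨h2, -, hF⟩ := Groth.Agent.S18708.result A B J F E0 E1 G f u v hf hfu huv hv hGU h0 h1
  exact ⟨hF hG, hG, h2.2 hG⟩

end Groth.Agent.S18726
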