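import Groth.Statements.S18733
import Groth.Agent.H29Blow.Basic
import Mathlib.RingTheory.Localization.Finiteness
import Mathlib.RingTheory.Ideal.Colon

set_option autoImplicit false
universe u
open CategoryTheory CategoryTheory.Limits AlgebraicGeometry TopologicalSpace
open ModPair

namespace Groth.Agent.S18733

open scoped nonZeroDivisors

theorem fg_ideal {X : Scheme.{u}} {E : X.IdealSheafData} (hE : BlowUp.IsEffCartierIdeal E)
    (U : X.affineOpens) : (E.ideal U).FG := by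
  let t : Set Γ(X, U.1) := {f | ∃ g : Γ(X, X.basicOpen f), E.ideal (X.affineBasicOpen f) = Ideal.span {g}}
  refine Ideal.fg_of_localizationSpan t (U.2.iSup_basicOpen_eq_self_iff.mp (le_antisymm ?_ ?_)) fun f => ?_
  · exact iSup_le fun f => X.basicOpen_le _
  · intro x hx
    obtain ⟨V, hxV, hVU, e, -, he⟩ := H29Blow.exists_gen hE (x := x) (W := U.1) hx
    obtain ⟨f, hf, hxf⟩ := U.2.exists_basicOpen_le ⟨x, hxV⟩ hx
    exact Opens.mem_iSup.2 ⟨⟨f, _, H29Blow.ideal_eq_span_res (W := X.affineBasicOpen f) hf he⟩, hxf⟩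
  · obtain ⟨f, g, hg⟩ := f
    haveI := U.2.isLocalization_basicOpen f
    let e : Γ(X, X.basicOpen f) ≃ₐ[Γ(X, U.1)] Localization.Away f :=
      IsLocalization.algEquiv (Submonoid.powers f) _ _
    have h1 : (E.ideal U).map (algebraMap Γ(X, U.1) Γ(X, X.basicOpen f)) = Ideal.span {g} :=
      (E.map_ideal_basicOpen U f).trans hg
    have h2 : algebraMap Γ(X, U.1) (Localization.Away f) =
        (e : Γ(X, X.basicOpen f) →+* Localization.Away f).comp (algebraMap Γ(X, U.1) Γ(X, X.basicOpen f)) :=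
      RingHom.ext fun z => (e.commutes z).symm
    show ((E.ideal U).map (algebraMap Γ(X, U.1) (Localization.Away f))).FG
    rw [h2, ← Ideal.map_map, h1, Ideal.map_span, Set.image_singleton]
    exact ⟨{e g}, by simp⟩

theorem map_colon {A B : Type u} [CommRing A] [CommRing B] [Algebra A B] (M : Submonoid A)
    [IsLocalization M B] (I J : Ideal A) (hJ : J.FG) :
    (I.colon (J : Set A)).map (algebraMap A B) =
      (I.map (algebraMap A B)).colon (J.map (algebraMap A B) : Set B) := by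
  classical
  refine le_antisymm ?_ fun x hx => ?_
  · refine Ideal.map_le_iff_le_comap.2 fun c hc => ?_
    have hc' : ∀ p ∈ J, c * p ∈ I := fun p hp => Submodule.mem_colon.1 hc p hp
    refine Submodule.mem_colon.2 fun p hp => ?_
    have : Ideal.span {algebraMap A B c} * J.map (algebraMap A B) ≤ I.map (algebraMap A B) := by
      rw [← Set.image_singleton, ← Ideal.map_span, ← Ideal.map_mul]
      exact Ideal.map_mono (Ideal.mul_le.2 fun a ha b hb => by
        obtain ⟨r, rfl⟩ := Ideal.mem_span_singleton'.1 ha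
        rw [mul_assoc]; exact I.mul_mem_left r (hc' b hb))
    exact this (Ideal.mul_mem_mul (Ideal.mem_span_singleton_self _) hp)
  · obtain ⟨s, rfl⟩ := hJ
    obtain ⟨⟨a, m⟩, ham⟩ := IsLocalization.surj M x
    have h : ∀ g ∈ s, ∃ n ∈ M, n * (a * g) ∈ I := fun g hg => by
      have h1 : algebraMap A B (a * g) ∈ I.map (algebraMap A B) := by
        rw [map_mul, ← ham, mul_right_comm]
        exact Ideal.mul_mem_right _ _ (Submodule.mem_colon.1 hx _
          (Ideal.mem_map_of_mem _ (Ideal.subset_span hg)))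
      exact (IsLocalization.algebraMap_mem_map_algebraMap_iff M B _ _).1 h1
    choose! n hnM hn using h
    have hc : (∏ g ∈ s, n g) * a ∈ I.colon ((Ideal.span (s : Set A) : Ideal A) : Set A) := by
      refine Submodule.mem_colon.2 fun p hp => ?_
      show _ * p ∈ I
      induction hp using Submodule.span_induction with
      | mem g hg =>
        rw [← Finset.prod_erase_mul s n hg, mul_assoc, mul_assoc]
        exact I.mul_mem_left _ (hn g hg)
      | zero => simp
      | add p q _ _ hp hq => rw [mul_add]; exact add_mem hp hq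
      | smul r p _ hp => rw [smul_eq_mul, mul_left_comm]; exact I.mul_mem_left r hp
    have h2 := Ideal.mem_map_of_mem (algebraMap A B) hc
    rw [map_mul, ← ham] at h2
    have hu : IsUnit (algebraMap A B (∏ g ∈ s, n g) * algebraMap A B m) :=
      (IsLocalization.map_units B ⟨_, M.prod_mem fun g hg => hnM g hg⟩).mul (IsLocalization.map_units B m)
    rwa [mul_comm x, ← mul_assoc, Ideal.unit_mul_mem_iff_mem _ hu] at h2

noncomputable def divIdeal {X : Scheme.{u}} (I : X.IdealSheafData) {E : X.IdealSheafData}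
    (hE : BlowUp.IsEffCartierIdeal E) : X.IdealSheafData where
  ideal U := (I.ideal U).colon (E.ideal U : Set Γ(X, U.1))
  map_ideal_basicOpen U f := by
    haveI := U.2.isLocalization_basicOpen f
    rw [← I.map_ideal_basicOpen U f, ← E.map_ideal_basicOpen U f]
    exact map_colon (Submonoid.powers f) _ _ (fg_ideal hE U)

theorem ideal_div_mul {X : Scheme.{u}} {I E : X.IdealSheafData}
    (hE : BlowUp.IsEffCartierIdeal E) (h : I ≤ E) : I = divIdeal I hE * E := by
  refine H29Blow.ext_of_forall_exists fun x => ?_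
  obtain ⟨V, hxV, -, e, -, he⟩ := H29Blow.exists_gen hE (x := x) (W := ⊤) trivial
  refine ⟨V, hxV, le_antisymm (fun y hy => ?_) (Ideal.mul_le.2 fun a ha b hb => Submodule.mem_colon.1 ha b hb)⟩
  have hy' : y ∈ Ideal.span {e} := he ▸ h V hy
  obtain ⟨b, rfl⟩ := Ideal.mem_span_singleton'.1 hy'
  refine Ideal.mul_mem_mul (Submodule.mem_colon.2 fun p hp => ?_) (he ▸ Ideal.mem_span_singleton_self e)
  obtain ⟨r, rfl⟩ := Ideal.mem_span_singleton'.1 (show p ∈ Ideal.span {e} from he ▸ hp)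
  show b * (r * e) ∈ _
  rw [mul_left_comm]
  exact Ideal.mul_mem_left _ r hy

theorem key_lemma {X : Scheme.{u}} {I₁ I₂ A₁ A₂ : X.IdealSheafData} (hE : BlowUp.IsEffCartierIdeal (I₁ ⊔ I₂))
    (e₁ : I₁ = A₁ * (I₁ ⊔ I₂)) (e₂ : I₂ = A₂ * (I₁ ⊔ I₂)) :
    ∀ x : X, ∃ V : X.affineOpens, x ∈ V.1 ∧ A₁.ideal V ⊔ A₂.ideal V = ⊤ ∧
      ∃ e ∈ nonZeroDivisors Γ(X, V.1), (I₁ ⊔ I₂).ideal V = Ideal.span {e} := by
  intro x
  obtain ⟨V, hxV, -, e, hne, he⟩ := H29Blow.exists_gen hE (x := x) (W := ⊤) trivial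
  refine ⟨V, hxV, ?_, e, hne, he⟩
  have h : (A₁.ideal V ⊔ A₂.ideal V) * Ideal.span {e} = Ideal.span {e} := by
    rw [Ideal.sup_mul, ← he]
    conv_rhs => rw [Scheme.IdealSheafData.ideal_sup, Pi.sup_apply]
    exact (congrArg₂ (fun (P Q : X.IdealSheafData) => P.ideal V ⊔ Q.ideal V) e₁ e₂).symm
  have h1 := h.ge (Ideal.mem_span_singleton_self e)
  obtain ⟨c, hc, hce⟩ := Ideal.mem_mul_span_singleton.1 h1
  rw [Ideal.eq_top_iff_one]
  rwa [show c = 1 from (mul_cancel_right_mem_nonZeroDivisors hne).1 (hce.trans (one_mul e).symm)] at hc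

/-- Let D₁, D₂ be effective Cartier divisors on a scheme X, with quasi-coherent ideal sheaves I₁, I₂,
such that the scheme-theoretic intersection E = D₁ ×_X D₂ (ideal sheaf I₁ ⊔ I₂) is again an
effective Cartier divisor. Then (1) the divisors D₁ − E and D₂ − E are effective and disjoint: there
are ideal sheaves I₁', I₂' of effective Cartier divisors with I₁ = I₁'·(I₁ ⊔ I₂), I₂ = I₂'·(I₁ ⊔ I₂)
and I₁' ⊔ I₂' = ⊤; and (2) the effective Cartier divisor D₁ + D₂ − E, with ideal sheaf I₁'·I₂'·(I₁ ⊔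
I₂), is contained in every effective Cartier divisor D of X containing D₁ and D₂: if the ideal sheaf
of D is ≤ I₁ and ≤ I₂ then it is ≤ I₁'·I₂'·(I₁ ⊔ I₂). -/
theorem result {X : Scheme.{u}} (I₁ I₂ : X.IdealSheafData)
    (h₁ : BlowUp.IsEffCartierIdeal I₁) (h₂ : BlowUp.IsEffCartierIdeal I₂)
    (hE : BlowUp.IsEffCartierIdeal (I₁ ⊔ I₂)) :
    ∃ I₁' I₂' : X.IdealSheafData, BlowUp.IsEffCartierIdeal I₁' ∧ BlowUp.IsEffCartierIdeal I₂' ∧
      I₁ = I₁' * (I₁ ⊔ I₂) ∧ I₂ = I₂' * (I₁ ⊔ I₂) ∧ I₁' ⊔ I₂' = ⊤ ∧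
      ∀ D : X.IdealSheafData, BlowUp.IsEffCartierIdeal D → D ≤ I₁ → D ≤ I₂ →
        D ≤ I₁' * I₂' * (I₁ ⊔ I₂) := by
  have e₁ := ideal_div_mul hE (le_sup_left : I₁ ≤ I₁ ⊔ I₂)
  have e₂ := ideal_div_mul hE (le_sup_right : I₂ ≤ I₁ ⊔ I₂)
  refine ⟨divIdeal I₁ hE, divIdeal I₂ hE, H29Blow.isEffCartierIdeal_left_of_mul (e₁ ▸ h₁),
    H29Blow.isEffCartierIdeal_left_of_mul (e₂ ▸ h₂), e₁, e₂, ?_⟩
  have key := key_lemma hE e₁ e₂
  generalize divIdeal I₁ hE = A₁, divIdeal I₂ hE = A₂ at key e₁ e₂ ⊢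
  refine ⟨?_, ?_⟩
  · refine H29Blow.ext_of_forall_exists fun x => ?_
    obtain ⟨V, hxV, hV, -⟩ := key x
    exact ⟨V, hxV, hV⟩
  · intro D _ hD₁ hD₂
    refine inf_eq_left.1 (H29Blow.ext_of_forall_exists fun x => ?_)
    obtain ⟨V, hxV, hV, e, hne, he⟩ := key x
    refine ⟨V, hxV, ?_⟩
    rw [Scheme.IdealSheafData.ideal_inf, Pi.inf_apply, inf_eq_left]
    intro y hy
    have m₁ : y ∈ A₁.ideal V * Ideal.span {e} := he ▸ (congrArg (fun P : X.IdealSheafData => P.ideal V) e₁).le (hD₁ V hy)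
    have m₂ : y ∈ A₂.ideal V * Ideal.span {e} := he ▸ (congrArg (fun P : X.IdealSheafData => P.ideal V) e₂).le (hD₂ V hy)
    obtain ⟨a, ha, rfl⟩ := Ideal.mem_mul_span_singleton.1 m₁
    obtain ⟨b, hb, hba⟩ := Ideal.mem_mul_span_singleton.1 m₂
    rw [(mul_cancel_right_mem_nonZeroDivisors hne).1 hba] at hb
    show a * e ∈ A₁.ideal V * A₂.ideal V * (I₁ ⊔ I₂).ideal V
    rw [he, Ideal.mul_eq_inf_of_isCoprime (Ideal.isCoprime_iff_sup_eq.2 hV)]
    exact Ideal.mul_mem_mul ⟨ha, hb⟩ (Ideal.mem_span_singleton_self e)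

end Groth.Agent.S18733
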