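import Groth.Statements.S18734
import Mathlib.AlgebraicGeometry.ZariskisMainTheorem
import Mathlib.RingTheory.Valuation.ValuationRing
import Mathlib.RingTheory.Localization.Module
import Mathlib.RingTheory.Flat.TorsionFree

set_option autoImplicit false
universe u
open CategoryTheory CategoryTheory.Limits AlgebraicGeometry TopologicalSpace
open ModPair

namespace Groth.Agent.S18734

open scoped TensorProduct

lemma exists_dvd_all {R : Type u} [CommRing R] [IsDomain R] [ValuationRing R] {ι : Type*} (s : Finset ι)
    (hs : s.Nonempty) (r : ι → R) : ∃ i₀ ∈ s, ∀ i ∈ s, r i₀ ∣ r i := by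
  induction hs using Finset.Nonempty.cons_induction with
  | singleton a => exact ⟨a, Finset.mem_singleton_self a, fun i hi => by rw [Finset.mem_singleton.1 hi]⟩
  | cons a t ha ht ih =>
    obtain ⟨i₀, hi₀, h⟩ := ih
    rcases ValuationRing.dvd_total (r a) (r i₀) with h' | h'
    · refine ⟨a, Finset.mem_cons_self a t, fun i hi => ?_⟩
      rcases Finset.mem_cons.1 hi with rfl | hi
      · exact dvd_rfl
      · exact h'.trans (h i hi)
    · refine ⟨i₀, Finset.mem_cons.2 (Or.inr hi₀), fun i hi => ?_⟩
      rcases Finset.mem_cons.1 hi with rfl | hi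
      · exact h'
      · exact h i hi

lemma linearIndependent_generic {R B : Type u} [CommRing R] [IsDomain R] [ValuationRing R] [CommRing B]
    [Algebra R B] [Module.Flat R B] (P : Ideal R) [P.IsPrime] {ι : Type*} (v : ι → B)
    (hv : LinearIndependent P.ResidueField fun i => (1 : P.ResidueField) ⊗ₜ[R] v i) :
    LinearIndependent (FractionRing R) fun i => (1 : FractionRing R) ⊗ₜ[R] v i := by
  refine LinearIndependent.of_isLocalizedModule (FractionRing R) (nonZeroDivisors R)
    (TensorProduct.mk R (FractionRing R) B 1) ?_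
  rw [linearIndependent_iff']
  intro s r hsum i hi
  by_contra hne
  obtain ⟨i₀, hi₀, hdvd⟩ := exists_dvd_all s ⟨i, hi⟩ r
  have h₀ : r i₀ ≠ 0 := fun h => hne (zero_dvd_iff.1 (h ▸ hdvd i hi))
  choose! c hc using hdvd
  have hc₀ : c i₀ = 1 := (mul_eq_left₀ h₀).1 (hc i₀ hi₀).symm
  have h1 : r i₀ • ∑ j ∈ s, c j • v j = 0 := by
    rw [Finset.smul_sum, ← hsum]
    exact Finset.sum_congr rfl fun j hj => by rw [smul_smul, ← hc j hj]
  have h2 : ∑ j ∈ s, c j • v j = 0 := (smul_eq_zero.1 h1).resolve_left h₀
  have h3 : ∑ j ∈ s, algebraMap R P.ResidueField (c j) • ((1 : P.ResidueField) ⊗ₜ[R] v j) = 0 := by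
    simp only [algebraMap_smul, ← TensorProduct.tmul_smul, ← TensorProduct.tmul_sum, h2, TensorProduct.tmul_zero]
  have h4 := linearIndependent_iff'.1 hv s _ h3 i₀ hi₀
  rw [hc₀, map_one] at h4
  exact one_ne_zero h4

lemma quasiFinite_of_generic {R B : Type u} [CommRing R] [IsDomain R] [ValuationRing R] [CommRing B]
    [Algebra R B] [Module.Flat R B] [Module.Finite (FractionRing R) (FractionRing R ⊗[R] B)] :
    Algebra.QuasiFinite R B := by
  refine ⟨fun P _ => ?_⟩
  obtain ⟨t, htsub, htspan, htind⟩ := exists_linearIndependent P.ResidueField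
    (Set.range fun b : B => (1 : P.ResidueField) ⊗ₜ[R] b)
  have hS : Submodule.span P.ResidueField (Set.range fun b : B => (1 : P.ResidueField) ⊗ₜ[R] b) = ⊤ := by
    refine eq_top_iff.2 fun x _ => ?_
    induction x using TensorProduct.induction_on with
    | zero => exact zero_mem _
    | tmul a b =>
      rw [← mul_one a, ← smul_eq_mul, ← TensorProduct.smul_tmul']
      exact Submodule.smul_mem _ _ (Submodule.subset_span ⟨b, rfl⟩)
    | add x y hx hy => exact add_mem (hx trivial) (hy trivial)
  choose b hb using fun x : t => show ∃ b : B, (1 : P.ResidueField) ⊗ₜ[R] b = (x : P.Fiber B) from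
    htsub x.2
  have h := linearIndependent_generic P b (by simpa only [hb] using htind)
  haveI : Finite t := h.finite
  exact Module.finite_def.2 ⟨(Set.toFinite t).toFinset, by rw [Set.Finite.coe_toFinset, htspan, hS]⟩

lemma locallyQuasiFinite_chart {R : Type u} [CommRing R] [IsDomain R] [ValuationRing R] {Y : Scheme.{u}}
    (f : Y ⟶ Spec (CommRingCat.of R)) [Flat f]
    (hgen : IsFinite (pullback.snd f (Spec.map (CommRingCat.ofHom (algebraMap R (FractionRing R))))))
    {B : CommRingCat.{u}} (k : Spec B ⟶ Y) (hk : IsOpenImmersion k) : LocallyQuasiFinite (k ≫ f) := by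
  haveI := hk
  obtain ⟨φ, hφ⟩ := Spec.map_surjective (k ≫ f)
  have hflat : φ.hom.Flat := (HasRingHomProperty.Spec_iff (P := @Flat)).1 (hφ ▸ (inferInstance : Flat (k ≫ f)))
  rw [← hφ, HasRingHomProperty.Spec_iff (P := @LocallyQuasiFinite)]
  letI : Algebra R B := φ.hom.toAlgebra
  haveI : Module.Flat R B := hflat
  let g := Spec.map (CommRingCat.ofHom (algebraMap R (FractionRing R)))
  let m : pullback g (Spec.map φ) ⟶ pullback f g :=
    (pullbackSymmetry _ _).hom ≫ pullback.map _ _ _ _ k (𝟙 _) (𝟙 _) (by rw [hφ, Category.comp_id]) (by simp)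
  haveI : LocallyQuasiFinite (pullback.snd f g) := by
    haveI := hgen
    infer_instance
  have e : pullback.fst g (Spec.map φ) = m ≫ pullback.snd f g := by
    simp only [m, Category.assoc]
    erw [pullback.lift_snd, Category.comp_id, pullbackSymmetry_hom_comp_snd]
  haveI : IsOpenImmersion m := IsOpenImmersion.comp _ _
  have hq : LocallyQuasiFinite (pullback.fst g (Spec.map φ)) := e ▸ inferInstance
  have hq' : LocallyQuasiFinite ((pullbackSpecIso R (FractionRing R) B).inv ≫ pullback.fst _ _) :=
    (MorphismProperty.cancel_left_of_respectsIso @LocallyQuasiFinite _ _).2 hq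
  rw [pullbackSpecIso_inv_fst'] at hq'
  haveI : Algebra.QuasiFinite (FractionRing R) (FractionRing R ⊗[R] B) :=
    RingHom.quasiFinite_algebraMap.1 ((HasRingHomProperty.Spec_iff (P := @LocallyQuasiFinite)).1 hq')
  haveI : Module.Finite (FractionRing R) (FractionRing R ⊗[R] B) := Module.Finite.of_quasiFinite
  exact RingHom.quasiFinite_algebraMap.2 (quasiFinite_of_generic (R := R) (B := B))

/-- Let R be a valuation ring with fraction field K and f : Y ⟶ Spec R a morphism of schemes which is
flat, proper and generically finite (the generic fibre Y ×_{Spec R} Spec K ⟶ Spec K is a finite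
morphism). Then f is finite. No finite-presentation hypothesis is assumed. -/
theorem result {R : Type u} [CommRing R]
    [IsDomain R] [ValuationRing R] {Y : Scheme.{u}} (f : Y ⟶ Spec (CommRingCat.of R)) [Flat f] [IsProper f]
    (hgen : IsFinite (pullback.snd f
      (Spec.map (CommRingCat.ofHom (algebraMap R (FractionRing R)))))) :
    IsFinite f := by
  suffices LocallyQuasiFinite f from IsFinite.of_isProper_of_locallyQuasiFinite f
  rw [IsZariskiLocalAtSource.iff_of_openCover (P := @LocallyQuasiFinite) Y.affineCover]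
  intro i
  exact locallyQuasiFinite_chart f hgen (Y.affineCover.f i) (Y.affineCover.map_prop i)

end Groth.Agent.S18734
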