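import Groth.Statements.S18735
import Groth.Agent.H26ModPair.AmbProd
import Groth.Agent.S18738

set_option autoImplicit false
universe u
open CategoryTheory CategoryTheory.Limits AlgebraicGeometry TopologicalSpace
open ModPair

namespace Groth.Agent.S18735

open Groth.Agent.H26ModPair

/-- Let (S, I_S), (T, I_T), (X, I_X) be schemes equipped with quasi-coherent ideal sheaves of effective
Cartier divisors, g : T ⟶ S a morphism satisfying the modulus condition I_T ≤ I_S.comap g, and s : X
⟶ S an abstract admissible blow-up (I_X = I_S.comap s, s proper and an isomorphism over the open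
complement of the support of I_S). Let Y be the scheme-theoretic image in X ×_S T of the open
pr₁⁻¹(X°) ∩ pr₂⁻¹(T°), where X°, T° are the open complements of the supports of I_X, I_T, with
projections q : Y ⟶ T and r : Y ⟶ X. Then I_T.comap q is the ideal sheaf of an effective Cartier
divisor on Y, q is an abstract admissible blow-up from (Y, I_T.comap q) to (T, I_T), and r satisfies
the modulus condition from (Y, I_T.comap q) to (X, I_X). -/
theorem result {S T X : Scheme.{u}} (IS : S.IdealSheafData)
    (IT : T.IdealSheafData) (IX : X.IdealSheafData) (hS : BlowUp.IsEffCartierIdeal IS)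
    (hT : BlowUp.IsEffCartierIdeal IT) (hX : BlowUp.IsEffCartierIdeal IX)
    (g : T ⟶ S) (hg : ModPair.IsAmbient IT IS g) (s : X ⟶ S) (hs : ModPair.IsAdmBlowup IX IS s) :
    BlowUp.IsEffCartierIdeal (IT.comap (ModPair.mprodι s g IX IT ≫ pullback.snd s g)) ∧
      ModPair.IsAdmBlowup (IT.comap (ModPair.mprodι s g IX IT ≫ pullback.snd s g)) IT
        (ModPair.mprodι s g IX IT ≫ pullback.snd s g) ∧
      ModPair.IsAmbient (IT.comap (ModPair.mprodι s g IX IT ≫ pullback.snd s g)) IX
        (ModPair.mprodι s g IX IT ≫ pullback.fst s g) := by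
  obtain ⟨hmin, hproper, hiso⟩ := hs
  refine ⟨isEff_mprod_snd s g IX IT hX hT, ⟨rfl, inferInstance, ?_⟩, ?_⟩
  · set U := ModPair.prodInterior s g IX IT
    have hU : pullback.snd s g ⁻¹ᵁ ModPair.interior IT = U := by
      refine le_antisymm (fun x hx => ⟨?_, hx⟩) (fun x hx => hx.2)
      have h1 : (pullback.snd s g ≫ g) x ∈ ModPair.interior IS := interior_le_of_ambient hg hx
      rw [← pullback.condition] at h1
      rw [show IX = IS.comap s from hmin, ← preimage_interior]
      exact h1
    haveI : IsIso (pullback.snd s g ∣_ ModPair.interior IT) := by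
      haveI : IsIso (s ∣_ ModPair.interior IS) := hiso
      haveI := S18738.isIso_pullback_fst_restrict g s (ModPair.interior IT) (ModPair.interior IS) (interior_le_of_ambient hg)
      rw [show pullback.snd s g = (pullbackSymmetry s g).hom ≫ pullback.fst g s from (pullbackSymmetry_hom_comp_fst s g).symm,
        morphismRestrict_comp]
      exact IsIso.comp_isIso' (IsZariskiLocalAtTarget.restrict (P := MorphismProperty.isomorphisms Scheme.{u}) (inferInstanceAs (IsIso (pullbackSymmetry s g).hom)) _) ‹_›
    rw [morphismRestrict_comp]
    have h1 : IsIso (ModPair.mprodι s g IX IT ∣_ (pullback.snd s g ⁻¹ᵁ ModPair.interior IT)) := by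
      rw [hU]; exact isIso_imageι_restrict _
    exact IsIso.comp_isIso' h1 ‹_›
  · show _ ≤ _
    let q := ModPair.mprodι s g IX IT ≫ pullback.snd s g
    let r := ModPair.mprodι s g IX IT ≫ pullback.fst s g
    have h : IT.comap q ≤ (IS.comap g).comap q := Scheme.IdealSheafData.comap_mono q hg
    have e : (IS.comap g).comap q = IX.comap r := by
      refine Eq.trans ?_ (congrArg (fun L => Scheme.IdealSheafData.comap L r) hmin).symm
      rw [← Scheme.IdealSheafData.comap_comp, ← Scheme.IdealSheafData.comap_comp,
        show q ≫ g = r ≫ s by simp only [r, q, Category.assoc, pullback.condition]]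
    exact h.trans (le_of_eq e)

end Groth.Agent.S18735
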