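import Groth.Statements.S18736
import Groth.Agent.H26ModPair.AmbProd

set_option autoImplicit false
universe u
open CategoryTheory CategoryTheory.Limits AlgebraicGeometry TopologicalSpace
open ModPair

namespace Groth.Agent.S18736

open Groth.Agent.H26ModPair

/-- With the minimal-case product: let (S, I_S), (T, I_T), (X, I_X) be schemes equipped with
quasi-coherent ideal sheaves of effective Cartier divisors, p : X ⟶ S a morphism satisfying the
modulus condition I_X ≤ I_S.comap p, and f : T ⟶ S a minimal morphism, I_T = I_S.comap f. Let Y be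
the scheme-theoretic image in X ×_S T of the open pr₁⁻¹(X°) ∩ pr₂⁻¹(T°) (X°, T° the open complements
of the supports of I_X, I_T), with projections r : Y ⟶ X and q : Y ⟶ T, and put I_Y := I_X.comap r.
Then I_Y is the ideal sheaf of an effective Cartier divisor, q satisfies the modulus condition I_Y ≤
I_T.comap q, and (Y, I_Y) with q and r is the fibre product of (T, I_T) and (X, I_X) over (S, I_S)
among modulus pairs and morphisms satisfying the modulus condition: for every scheme W with the
ideal sheaf I_W of an effective Cartier divisor and morphisms a : W ⟶ T, b : W ⟶ X with I_W ≤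
I_T.comap a, I_W ≤ I_X.comap b and a ≫ f = b ≫ p, there is a unique c : W ⟶ Y with c ≫ q = a, c ≫ r
= b and I_W ≤ I_Y.comap c. -/
theorem result {S T X : Scheme.{u}} (IS : S.IdealSheafData)
    (IT : T.IdealSheafData) (IX : X.IdealSheafData) (hS : BlowUp.IsEffCartierIdeal IS)
    (hT : BlowUp.IsEffCartierIdeal IT) (hX : BlowUp.IsEffCartierIdeal IX)
    (p : X ⟶ S) (hp : ModPair.IsAmbient IX IS p) (f : T ⟶ S) (hf : ModPair.IsMinimal IT IS f) :
    BlowUp.IsEffCartierIdeal (IX.comap (ModPair.mprodι p f IX IT ≫ pullback.fst p f)) ∧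
      ModPair.IsAmbient (IX.comap (ModPair.mprodι p f IX IT ≫ pullback.fst p f)) IT
        (ModPair.mprodι p f IX IT ≫ pullback.snd p f) ∧
      ∀ (W : Scheme.{u}) (IW : W.IdealSheafData), BlowUp.IsEffCartierIdeal IW →
        ∀ (a : W ⟶ T) (b : W ⟶ X), ModPair.IsAmbient IW IT a → ModPair.IsAmbient IW IX b →
          a ≫ f = b ≫ p →
          ∃! c : W ⟶ ModPair.mprod p f IX IT,
            c ≫ ModPair.mprodι p f IX IT ≫ pullback.snd p f = a ∧
              c ≫ ModPair.mprodι p f IX IT ≫ pullback.fst p f = b ∧
              ModPair.IsAmbient IW (IX.comap (ModPair.mprodι p f IX IT ≫ pullback.fst p f)) c := by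
  refine ⟨isEff_mprod_fst p f IX IT hX hT, ?_, fun W IW hW a b ha hb hab => ?_⟩
  · show _ ≤ _
    let r := ModPair.mprodι p f IX IT ≫ pullback.fst p f
    let q := ModPair.mprodι p f IX IT ≫ pullback.snd p f
    have h : IX.comap r ≤ (IS.comap p).comap r := Scheme.IdealSheafData.comap_mono r hp
    have e : (IS.comap p).comap r = IT.comap q := by
      refine Eq.trans ?_ (congrArg (fun L => Scheme.IdealSheafData.comap L q) hf).symm
      rw [← Scheme.IdealSheafData.comap_comp, ← Scheme.IdealSheafData.comap_comp,
        show r ≫ p = q ≫ f by simp only [r, q, Category.assoc, pullback.condition]]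
    exact h.trans (le_of_eq e)
  · obtain ⟨c, hc⟩ := exists_lift_mprod p f IX IT hW (pullback.lift b a hab.symm)
      (by rwa [pullback.lift_fst]) (by rwa [pullback.lift_snd])
    refine ⟨c, ⟨?_, ?_, ?_⟩, fun c' ⟨h₁, h₂, _⟩ => ?_⟩
    · rw [reassoc_of% hc, pullback.lift_snd]
    · rw [reassoc_of% hc, pullback.lift_fst]
    · show IW ≤ _
      rw [← Scheme.IdealSheafData.comap_comp, reassoc_of% hc, pullback.lift_fst]
      exact hb
    · rw [← cancel_mono (ModPair.mprodι p f IX IT), hc]
      apply pullback.hom_ext
      · rw [Category.assoc, h₂, pullback.lift_fst]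
      · rw [Category.assoc, h₁, pullback.lift_snd]

end Groth.Agent.S18736
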