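import Groth.Statements.S18737
import Groth.Agent.H26ModPair.Coprod
import Groth.Agent.H17.SchDense
import Mathlib.AlgebraicGeometry.Morphisms.Finite

set_option autoImplicit false
universe u
open CategoryTheory CategoryTheory.Limits AlgebraicGeometry TopologicalSpace
open ModPair

namespace Groth.Agent.S18737

open Groth.Agent.H26ModPair

variable {X : Scheme.{u}} {I : X.IdealSheafData}

theorem quasiCompact_piece (hI : BlowUp.IsEffCartierIdeal I) {U₀ U₁ : X.Opens}
    (hU : U₀ ⊔ U₁ = ModPair.interior I) (hd : Disjoint U₀ U₁) : QuasiCompact U₀.ι := by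
  haveI := quasiCompact_interior hI
  have hle : U₀ ≤ ModPair.interior I := hU ▸ le_sup_left
  haveI : IsClosedImmersion (X.homOfLE hle) := by
    refine IsClosedImmersion.of_isPreimmersion _ ?_
    have e : Set.range (X.homOfLE hle) = ((ModPair.interior I).ι ⁻¹' (U₁ : Set X))ᶜ := by
      ext ⟨x, hx⟩
      constructor
      · rintro ⟨⟨y, hy⟩, he⟩ h1
        have hy' : y = x := by
          have := congrArg (ModPair.interior I).ι he
          rwa [← Scheme.Hom.comp_apply, X.homOfLE_ι] at this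
        subst hy'
        exact hd.le_bot ⟨hy, h1⟩
      · intro h1
        have h0 : x ∈ U₀ := by
          rcases (hU.symm ▸ hx : x ∈ U₀ ⊔ U₁) with h | h
          · exact h
          · exact absurd h h1
        refine ⟨⟨x, h0⟩, (ModPair.interior I).ι.isEmbedding.injective ?_⟩
        rw [← Scheme.Hom.comp_apply, X.homOfLE_ι]
        rfl
    rw [e]
    exact (U₁.isOpen.preimage (ModPair.interior I).ι.continuous).isClosed_compl
  rw [← X.homOfLE_ι hle]
  infer_instance

theorem isEff_piece (hI : BlowUp.IsEffCartierIdeal I) {U₀ U₁ : X.Opens}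
    (hU : U₀ ⊔ U₁ = ModPair.interior I) (hd : Disjoint U₀ U₁) :
    BlowUp.IsEffCartierIdeal (I.comap U₀.ι.imageι) := by
  haveI := quasiCompact_piece hI hU hd
  haveI := isAffineHom_interior hI
  refine isEff_comap_of_dense hI _ ?_
  haveI : QuasiCompact (U₀.ι.imageι ⁻¹ᵁ ModPair.interior I).ι := by
    haveI : IsAffineHom (pullback.fst U₀.ι.imageι (ModPair.interior I).ι) :=
      MorphismProperty.pullback_fst _ _ inferInstance
    rw [← pullbackRestrictIsoRestrict_inv_fst U₀.ι.imageι (ModPair.interior I)]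
    infer_instance
  let f := U₀.ι.toImage
  have hr : Set.range f ⊆ Set.range (U₀.ι.imageι ⁻¹ᵁ ModPair.interior I).ι := by
    rw [Scheme.Opens.range_ι]
    rintro _ ⟨y, rfl⟩
    show U₀.ι.imageι (f y) ∈ ModPair.interior I
    rw [← Scheme.Hom.comp_apply, U₀.ι.toImage_imageι]
    exact hU ▸ (le_sup_left : U₀ ≤ U₀ ⊔ U₁) y.2
  haveI hdom : IsSchemeTheoreticallyDominant (U₀.ι.imageι ⁻¹ᵁ ModPair.interior I).ι := by
    refine ⟨le_bot_iff.1 ?_⟩
    have hf : f.ker = ⊥ := Groth.Agent.H17.ker_toImage _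
    rw [← hf, ← IsOpenImmersion.lift_fac _ f hr]
    exact Scheme.Hom.le_ker_comp _ _
  exact dense_of_dominant

theorem isIso_restrict_piece (hI : BlowUp.IsEffCartierIdeal I) {U₀ U₁ : X.Opens}
    (hU : U₀ ⊔ U₁ = ModPair.interior I) (hd : Disjoint U₀ U₁) : IsIso (U₀.ι.imageι ∣_ U₀) := by
  let f := U₀.ι.toImage
  have hr : Set.range f ⊆ Set.range (U₀.ι.imageι ⁻¹ᵁ U₀).ι := by
    rw [Scheme.Opens.range_ι]
    rintro _ ⟨y, rfl⟩
    show U₀.ι.imageι (f y) ∈ U₀
    rw [← Scheme.Hom.comp_apply, U₀.ι.toImage_imageι]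
    exact y.2
  haveI : IsSplitEpi (U₀.ι.imageι ∣_ U₀) := IsSplitEpi.mk' ⟨IsOpenImmersion.lift _ f hr, by
    rw [← cancel_mono U₀.ι, Category.assoc, morphismRestrict_ι, IsOpenImmersion.lift_fac_assoc,
      U₀.ι.toImage_imageι, Category.id_comp]⟩
  haveI : IsClosedImmersion (U₀.ι.imageι ∣_ U₀) := IsZariskiLocalAtTarget.restrict (P := @IsClosedImmersion) inferInstance U₀
  exact isIso_of_mono_of_isSplitEpi _

theorem notMem_range_piece (hI : BlowUp.IsEffCartierIdeal I) {U₀ U₁ : X.Opens}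
    (hU : U₀ ⊔ U₁ = ModPair.interior I) (hd : Disjoint U₀ U₁) (y : U₁.ι.image) :
    U₁.ι.imageι y ∉ U₀ := by
  haveI := quasiCompact_piece hI (sup_comm U₁ U₀ ▸ hU) hd.symm
  intro h
  have h1 : U₁.ι.imageι y ∈ closure (U₁ : Set X) := by
    have := U₁.ι.support_ker
    rw [Scheme.Opens.range_ι] at this
    rw [← this, ← Scheme.IdealSheafData.range_subschemeι]
    exact ⟨y, rfl⟩
  obtain ⟨z, hz, hz'⟩ := mem_closure_iff.1 h1 U₀ U₀.isOpen h
  exact hd.le_bot ⟨hz, hz'⟩

/-- Let X be a scheme and I the quasi-coherent ideal sheaf of an effective Cartier divisor on X, with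
open complement U, and suppose U is the disjoint union of two opens U₀, U₁ of X. Let X₀, X₁ ⊆ X be
the scheme-theoretic images of U₀ and U₁ in X and p : X₀ ⨿ X₁ ⟶ X the morphism induced by the two
closed immersions. Then the pulled-back ideal I.comap p is the ideal sheaf of an effective Cartier
divisor, and p is an abstract admissible blow-up from (X₀ ⨿ X₁, I.comap p) to (X, I): proper, with
the pulled-back modulus, and an isomorphism over U. -/
theorem result {X : Scheme.{u}}
    (I : X.IdealSheafData) (hI : BlowUp.IsEffCartierIdeal I) (U₀ U₁ : X.Opens)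
    (hU : U₀ ⊔ U₁ = ModPair.interior I) (hd : Disjoint U₀ U₁) :
    BlowUp.IsEffCartierIdeal (I.comap (coprod.desc U₀.ι.imageι U₁.ι.imageι)) ∧
      ModPair.IsAdmBlowup (I.comap (coprod.desc U₀.ι.imageι U₁.ι.imageι)) I
        (coprod.desc U₀.ι.imageι U₁.ι.imageι) := by
  have hd' := hd.symm
  have hU' : U₁ ⊔ U₀ = ModPair.interior I := sup_comm U₀ U₁ ▸ hU
  set j₀ := U₀.ι.imageι
  set j₁ := U₁.ι.imageι
  set p := coprod.desc j₀ j₁
  refine ⟨?_, rfl, inferInstance, ?_⟩
  · refine isEff_of_openCover (coprodOpenCover.{u, u} _ _) fun i => ?_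
    rcases i with ⟨⟨⟩⟩ | ⟨⟨⟩⟩
    · change BlowUp.IsEffCartierIdeal ((I.comap p).comap coprod.inl)
      rw [← Scheme.IdealSheafData.comap_comp, coprod.inl_desc]
      exact isEff_piece hI hU hd
    · change BlowUp.IsEffCartierIdeal ((I.comap p).comap coprod.inr)
      rw [← Scheme.IdealSheafData.comap_comp, coprod.inr_desc]
      exact isEff_piece hI hU' hd'
  have h₀ : IsIso (p ∣_ U₀) := by
    haveI h1 : IsIso ((coprod.inl ≫ p) ∣_ U₀) := by
      rw [coprod.inl_desc]; exact isIso_restrict_piece hI hU hd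
    rw [morphismRestrict_comp] at h1
    haveI := h1
    haveI : IsIso ((coprod.inl : U₀.ι.image ⟶ U₀.ι.image ⨿ U₁.ι.image) ∣_ (p ⁻¹ᵁ U₀)) := by
      refine (isIso_iff_isOpenImmersion_and_surjective _).2 ⟨inferInstance, ⟨?_⟩⟩
      rintro ⟨x, hx⟩
      obtain ⟨y | y, rfl⟩ := (coprodMk U₀.ι.image U₁.ι.image).surjective x
      · refine ⟨⟨y, ?_⟩, ?_⟩
        · rw [coprodMk_inl] at hx; exact hx
        · apply Subtype.ext
          rw [morphismRestrict_base]
          simp
      · refine absurd ?_ (notMem_range_piece hI hU hd y)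
        rw [coprodMk_inr] at hx
        change (coprod.inr ≫ p) y ∈ U₀ at hx
        rwa [coprod.inr_desc] at hx
    exact @IsIso.of_isIso_comp_left _ _ _ _ _ _ _ this h1
  have h₁ : IsIso (p ∣_ U₁) := by
    haveI h1 : IsIso ((coprod.inr ≫ p) ∣_ U₁) := by
      rw [coprod.inr_desc]; exact isIso_restrict_piece hI hU' hd'
    rw [morphismRestrict_comp] at h1
    haveI := h1
    haveI : IsIso ((coprod.inr : U₁.ι.image ⟶ U₀.ι.image ⨿ U₁.ι.image) ∣_ (p ⁻¹ᵁ U₁)) := by
      refine (isIso_iff_isOpenImmersion_and_surjective _).2 ⟨inferInstance, ⟨?_⟩⟩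
      rintro ⟨x, hx⟩
      obtain ⟨y | y, rfl⟩ := (coprodMk U₀.ι.image U₁.ι.image).surjective x
      · refine absurd ?_ (notMem_range_piece hI hU' hd' y)
        rw [coprodMk_inl] at hx
        change (coprod.inl ≫ p) y ∈ U₁ at hx
        rwa [coprod.inl_desc] at hx
      · refine ⟨⟨y, ?_⟩, ?_⟩
        · rw [coprodMk_inr] at hx; exact hx
        · apply Subtype.ext
          rw [morphismRestrict_base]
          simp
    exact @IsIso.of_isIso_comp_left _ _ _ _ _ _ _ this h1
  set W := ModPair.interior I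
  refine (IsZariskiLocalAtTarget.iff_of_iSup_eq_top (P := MorphismProperty.isomorphisms Scheme.{u})
    (fun b : Bool => W.ι ⁻¹ᵁ (if b then U₀ else U₁)) ?_).2 fun b => ?_
  · rw [eq_top_iff]
    rintro ⟨x, hx⟩ -
    rcases (hU.symm ▸ hx : x ∈ U₀ ⊔ U₁) with h | h
    · exact TopologicalSpace.Opens.mem_iSup.2 ⟨true, h⟩
    · exact TopologicalSpace.Opens.mem_iSup.2 ⟨false, h⟩
  · refine ((MorphismProperty.isomorphisms Scheme.{u}).arrow_mk_iso_iff (morphismRestrictRestrict p W _)).2 ?_
    have e : W.ι ''ᵁ (W.ι ⁻¹ᵁ (if b then U₀ else U₁)) = if b then U₀ else U₁ := by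
      rw [Scheme.Hom.image_preimage_eq_opensRange_inf, Scheme.Opens.opensRange_ι, inf_eq_right]
      cases b
      · exact hU ▸ le_sup_right
      · exact hU ▸ le_sup_left
    rw [e]
    cases b
    · exact h₁
    · exact h₀

end Groth.Agent.S18737
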