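import Groth.Statements.S18739
import Groth.Agent.H26ModPair.Pullback

set_option autoImplicit false
universe u
open CategoryTheory CategoryTheory.Limits AlgebraicGeometry TopologicalSpace
open ModPair

namespace Groth.Agent.S18739

/-- The localization of the category of modulus pairs and ambient morphisms at the class of abstract
admissible blow-ups has all finite limits. -/
theorem result :
    HasFiniteLimits (ModPair.Pair.admBlowup.{u}).Localization := by
  exact Groth.Agent.H26ModPair.hasFiniteLimits_localization

end Groth.Agent.S18739
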