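import Groth.Statements.S19332
import Groth.Agent.H26ModPair.Basic
import Groth.Agent.H7Flat.Flatten.Modif
import Groth.Agent.H26Blow.Proper

set_option autoImplicit false
universe u
open CategoryTheory CategoryTheory.Limits AlgebraicGeometry TopologicalSpace
open ModPair

namespace Groth.Agent.S19332

open Groth.Agent.H7Flat.Flatten HTop

/-- Let (S, I_S) and (X, I_X) be modulus pairs, i.e. schemes with quasi-coherent ideal sheaves of
effective Cartier divisors, with S and X quasi-compact and quasi-separated, and let f : X ⟶ S be a
minimal morphism (I_X = I_S.comap f) which is locally of finite type and whose restriction to the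
interiors f⁻¹(S°) ⟶ S° is flat and locally of finite presentation. Then there are abstract
admissible blow-ups t : T ⟶ S of (S, I_S) and y : Y ⟶ X of (X, I_X) (minimal, proper, and
isomorphisms over the interiors) and a morphism g : Y ⟶ T with y ≫ f = g ≫ t which is flat, locally
of finite presentation, quasi-compact and quasi-separated; g is then minimal for the pulled-back
moduli. The published statement assumes f only of finite type; this row also assumes X
quasi-separated. -/
theorem result {X S : Scheme.{u}}
    [CompactSpace S] [QuasiSeparatedSpace S] [CompactSpace X] [QuasiSeparatedSpace X]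
    (IS : S.IdealSheafData) (IX : X.IdealSheafData) (hS : BlowUp.IsEffCartierIdeal IS)
    (hX : BlowUp.IsEffCartierIdeal IX) (f : X ⟶ S) (hf : ModPair.IsMinimal IX IS f)
    [LocallyOfFiniteType f] [Flat (f ∣_ ModPair.interior IS)]
    [LocallyOfFinitePresentation (f ∣_ ModPair.interior IS)] :
    ∃ (T : Scheme.{u}) (t : T ⟶ S) (Y : Scheme.{u}) (y : Y ⟶ X) (g : Y ⟶ T),
      BlowUp.IsEffCartierIdeal (IS.comap t) ∧ ModPair.IsAdmBlowup (IS.comap t) IS t ∧
        BlowUp.IsEffCartierIdeal (IX.comap y) ∧ ModPair.IsAdmBlowup (IX.comap y) IX y ∧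
        y ≫ f = g ≫ t ∧ Flat g ∧ LocallyOfFinitePresentation g ∧ QuasiCompact g ∧
        QuasiSeparated g := by
    classical
    haveI := H26ModPair.quasiCompact_interior hS
    have hU : IsCompact (ModPair.interior IS : Set S) := by
      rw [← Scheme.Opens.range_ι (ModPair.interior IS)]
      haveI : CompactSpace (ModPair.interior IS : Scheme.{u}) := QuasiCompact.compactSpace_of_compactSpace (ModPair.interior IS).ι
      exact isCompact_range (ModPair.interior IS).ι.continuous
    haveI : QuasiCompact f := inferInstance
    obtain ⟨F, T, t, hb, hadm, hUF, hflat⟩ := exists_strict_flattening f (ModPair.interior IS) hU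
    have hc := IsPullback.of_hasPullback f t
    let E' := (F.comap f).comap (pullback.fst f t)
    let s := (supportedOn E').subschemeι
    obtain ⟨hfl, hfp, hqc, hqs⟩ := hflat _ _ _ hc
    have hT : BlowUp.IsEffCartierIdeal (IS.comap t) := by
      refine H26ModPair.isEff_comap_of_dense hS t ?_
      rw [← hUF, ← H18HTop.awayFrom_comap]
      exact H26ModPair.dense_interior hb.1
    haveI : IsProper t := H26Blow.isProper_of_isBlowUp hb fun x => by
      obtain ⟨U, hU, hxU, -⟩ := exists_isAffineOpen_mem_and_subset (x := x) (U := (⊤ : S.Opens)) trivial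
      exact ⟨⟨U, hU⟩, hxU, hadm.1 _⟩
    have hTadm : ModPair.IsAdmBlowup (IS.comap t) IS t :=
      ⟨rfl, inferInstance, H29Blow.isIso_morphismRestrict hb _ fun x hx => hUF.ge hx⟩
    let g := s ≫ pullback.snd f t
    let y := s ≫ pullback.fst f t
    have hy : y ≫ f = g ≫ t := by simp only [y, g, Category.assoc, hc.w]
    have hIX : IX.comap y = (IS.comap t).comap g := by
      rw [show IX = IS.comap f from hf, ← Scheme.IdealSheafData.comap_comp, hy, Scheme.IdealSheafData.comap_comp]
    haveI := hfl
    have hY : BlowUp.IsEffCartierIdeal (IX.comap y) := by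
      rw [hIX]; exact H29Blow.isEffCartierIdeal_comap_of_flat hT g
    have hYadm : ModPair.IsAdmBlowup (IX.comap y) IX y := by
      refine ⟨rfl, inferInstance, ?_⟩
      have hint : ModPair.interior IX = f ⁻¹ᵁ awayFrom F := by
        rw [hUF, H26ModPair.preimage_interior, show IX = IS.comap f from hf]
      rw [hint]
      show IsIso ((s ≫ pullback.fst f t) ∣_ _)
      rw [morphismRestrict_comp]
      haveI : IsIso (s ∣_ (pullback.fst f t ⁻¹ᵁ (f ⁻¹ᵁ awayFrom F))) := by
        rw [← H18HTop.awayFrom_comap, ← H18HTop.awayFrom_comap]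
        exact isIso_subschemeι_restrict _
      haveI : IsIso (pullback.fst f t ∣_ (f ⁻¹ᵁ awayFrom F)) := by
        have hiso : IsIso (t ∣_ awayFrom F) := H29Blow.isIso_morphismRestrict hb _ fun x hx => hx
        exact property_restrict_of_isPullback (P := MorphismProperty.isomorphisms Scheme) hc.flip _ hiso
      exact IsIso.comp_isIso' (f := s ∣_ _) ‹_› ‹_›
    exact ⟨T, t, _, y, g, hT, hTadm, hY, hYadm, hy, hfl, hfp, hqc, hqs⟩

end Groth.Agent.S19332
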