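import Groth.Statements.S18740
import Groth.Agent.S19332
import Groth.Agent.S18738

set_option autoImplicit false
universe u
open CategoryTheory CategoryTheory.Limits AlgebraicGeometry TopologicalSpace
open ModPair

namespace Groth.Agent.S18740

set_option backward.isDefEq.respectTransparency false

open Groth.Agent.H26ModPair

/-- Let (X, I_X) be a modulus pair (a scheme with the quasi-coherent ideal sheaf of an effective Cartier
divisor) with X quasi-compact and quasi-separated, u : Y ⟶ X a minimal morphism of modulus pairs
(I_Y = I_X.comap u) which is flat and of finite presentation (flat, locally of finite presentation,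
quasi-compact, quasi-separated), and b : Y' ⟶ Y an abstract admissible blow-up of modulus pairs.
Then there exist an abstract admissible blow-up a : X' ⟶ X of modulus pairs, a minimal morphism v :
V ⟶ X' of modulus pairs which is again flat and of finite presentation, and an abstract admissible
blow-up w : V ⟶ Y', such that w ≫ b ≫ u = v ≫ a. If u is in addition surjective (an fppf covering),
then v can be chosen surjective as well. -/
theorem result {X Y Y' : Scheme.{u}} [CompactSpace X]
    [QuasiSeparatedSpace X] (IX : X.IdealSheafData) (IY : Y.IdealSheafData) (IY' : Y'.IdealSheafData)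
    (hX : BlowUp.IsEffCartierIdeal IX) (hY : BlowUp.IsEffCartierIdeal IY)
    (hY' : BlowUp.IsEffCartierIdeal IY') (u : Y ⟶ X) (hu : ModPair.IsMinimal IY IX u) [Flat u]
    [LocallyOfFinitePresentation u] [QuasiCompact u] [QuasiSeparated u]
    (b : Y' ⟶ Y) (hb : ModPair.IsAdmBlowup IY' IY b) :
    ∃ (X' : Scheme.{u}) (IX' : X'.IdealSheafData) (a : X' ⟶ X) (V : Scheme.{u})
      (IV : V.IdealSheafData) (v : V ⟶ X') (w : V ⟶ Y'),
      BlowUp.IsEffCartierIdeal IX' ∧ ModPair.IsAdmBlowup IX' IX a ∧
        BlowUp.IsEffCartierIdeal IV ∧ ModPair.IsMinimal IV IX' v ∧ Flat v ∧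
        LocallyOfFinitePresentation v ∧ QuasiCompact v ∧ QuasiSeparated v ∧
        ModPair.IsAdmBlowup IV IY' w ∧ w ≫ b ≫ u = v ≫ a ∧
        (Surjective u → Surjective v) := by
  obtain ⟨hbm, hbp, hbi⟩ := hb
  haveI := hbp
  haveI : CompactSpace Y := QuasiCompact.compactSpace_of_compactSpace u
  haveI : QuasiSeparatedSpace Y := quasiSeparatedSpace_of_quasiSeparated u
  haveI : CompactSpace Y' := QuasiCompact.compactSpace_of_compactSpace b
  haveI : QuasiSeparatedSpace Y' := quasiSeparatedSpace_of_quasiSeparated b
  have hm : ModPair.IsMinimal IY' IX (b ≫ u) := by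
    show IY' = _
    rw [Scheme.IdealSheafData.comap_comp, ← (hu : IY = _)]
    exact hbm
  have hUY : u ⁻¹ᵁ ModPair.interior IX = ModPair.interior IY := by
    rw [preimage_interior, ← (hu : IY = _)]
  haveI : IsIso (b ∣_ (u ⁻¹ᵁ ModPair.interior IX)) := by rw [hUY]; exact hbi
  haveI : Flat (u ∣_ ModPair.interior IX) :=
    IsZariskiLocalAtTarget.restrict (show Flat u from inferInstance) _
  haveI : LocallyOfFinitePresentation (u ∣_ ModPair.interior IX) :=
    IsZariskiLocalAtTarget.restrict (show LocallyOfFinitePresentation u from inferInstance) _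
  haveI : Flat ((b ≫ u) ∣_ ModPair.interior IX) := by rw [morphismRestrict_comp]; infer_instance
  haveI : LocallyOfFinitePresentation ((b ≫ u) ∣_ ModPair.interior IX) := by
    rw [morphismRestrict_comp]; infer_instance
  obtain ⟨T, t, V, y, g, hT, hTadm, hV, hVadm, hy, hfl, hfp, hqc, hqs⟩ :=
    Groth.Agent.S19332.result IX IY' hX hY' (b ≫ u) hm
  refine ⟨T, IX.comap t, t, V, IY'.comap y, g, y, hT, hTadm, hV, ?_, hfl, hfp, hqc, hqs, hVadm, hy, fun hsurj => ?_⟩
  · show IY'.comap y = _
    rw [← Scheme.IdealSheafData.comap_comp, ← hy, Scheme.IdealSheafData.comap_comp]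
    exact congrArg (Scheme.IdealSheafData.comap · y) hm
  · obtain ⟨-, htp, hti⟩ := hTadm
    haveI := htp
    obtain ⟨hym, hyp, hyi⟩ := hVadm
    haveI := hyp
    let h : V ⟶ pullback u t := pullback.lift (y ≫ b) g (by rw [Category.assoc]; exact hy)
    haveI : IsProper (h ≫ pullback.fst u t) := by rw [pullback.lift_fst]; infer_instance
    haveI : IsProper h := IsProper.of_comp h (pullback.fst u t)
    let U := pullback.fst u t ⁻¹ᵁ ModPair.interior IY
    haveI h1 : IsIso (pullback.fst u t ∣_ ModPair.interior IY) :=
      haveI := hti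
      S18738.isIso_pullback_fst_restrict u t _ _ hUY.ge
    haveI : IsIso (h ∣_ U) := by
      have h2 : IsIso ((h ≫ pullback.fst u t) ∣_ ModPair.interior IY) := by
        rw [pullback.lift_fst, morphismRestrict_comp]
        haveI := hbi
        haveI : IsIso (y ∣_ b ⁻¹ᵁ ModPair.interior IY) := by
          rw [preimage_interior, ← (hbm : IY' = _)]; exact hyi
        infer_instance
      rw [morphismRestrict_comp] at h2
      exact IsIso.of_isIso_comp_right (h ∣_ U) (pullback.fst u t ∣_ ModPair.interior IY)
    haveI : Flat (pullback.snd u t) := inferInstance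
    have heff : BlowUp.IsEffCartierIdeal ((IX.comap t).comap (pullback.snd u t)) :=
      H29Blow.isEffCartierIdeal_comap_of_flat hT _
    have hU : ModPair.interior ((IX.comap t).comap (pullback.snd u t)) = U := by
      show _ = pullback.fst u t ⁻¹ᵁ ModPair.interior IY
      rw [preimage_interior (pullback.fst u t) IY, ← Scheme.IdealSheafData.comap_comp, ← pullback.condition,
        Scheme.IdealSheafData.comap_comp, ← (hu : IY = _)]
    haveI : IsSchemeTheoreticallyDominant U.ι := hU ▸ dominant_interior heff
    haveI : QuasiCompact U.ι := hU ▸ quasiCompact_interior heff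
    have hsub : (U : Set ↥(pullback u t)) ⊆ Set.range h := fun z hz => by
      obtain ⟨v, hv⟩ := (h ∣_ U).homeomorph.surjective ⟨z, hz⟩
      exact ⟨v.1, (morphismRestrict_base_coe h U v).symm.trans (congrArg Subtype.val hv)⟩
    have hdense : closure (U : Set ↥(pullback u t)) = Set.univ := by
      have := U.ι.support_ker
      rw [U.ι.ker_eq_bot, Scheme.IdealSheafData.support_bot, Scheme.Opens.range_ι] at this
      exact this.symm
    haveI : Surjective h := ⟨fun z => by
      have hcl : closure (U : Set ↥(pullback u t)) ⊆ Set.range h :=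
        closure_minimal hsub h.isClosedMap.isClosed_range
      exact hcl (hdense ▸ Set.mem_univ z)⟩
    haveI : Surjective (pullback.snd u t) := MorphismProperty.pullback_snd _ _ hsurj
    rw [← pullback.lift_snd (y ≫ b) g (by rw [Category.assoc]; exact hy)]
    exact (inferInstance : Surjective (h ≫ pullback.snd u t))

end Groth.Agent.S18740
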