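import Groth.Statements.S18741
import Mathlib.CategoryTheory.Localization.CalculusOfFractions
import Mathlib.CategoryTheory.Comma.Over.Basic

set_option autoImplicit false
universe v₁ v₂ v₃ u₁ u₂ u₃
open CategoryTheory
open ModPair

namespace Groth.Agent.S18741

/-- Let C be a category, W a class of morphisms of C admitting a calculus of right fractions, and S an
object of C; let W_S be the class of morphisms of the slice category over S whose underlying
morphism lies in W. Then the canonical functor from the localization of the slice category C/S at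
W_S to the slice category over S of the localization of C at W is an equivalence: for every
localization functor L : C ⥤ D at W, every localization functor L' : C/S ⥤ E at W_S, and every
functor Φ : E ⥤ D/L(S) through which the functor C/S ⥤ D/L(S) induced by L factors up to
isomorphism, Φ is an equivalence of categories. -/
theorem result {C : Type u₁}
    [Category.{v₁} C] (W : MorphismProperty C) [W.HasRightCalculusOfFractions] (S : C)
    {D : Type u₂} [Category.{v₂} D] (L : C ⥤ D) [L.IsLocalization W]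
    {E : Type u₃} [Category.{v₃} E] (L' : Over S ⥤ E)
    [L'.IsLocalization (W.inverseImage (Over.forget S))]
    (Φ : E ⥤ Over (L.obj S)) (e : L' ⋙ Φ ≅ Over.post L) : Φ.IsEquivalence := by
  classical
  let W' := W.inverseImage (Over.forget S)
  haveI : W'.HasRightCalculusOfFractions :=
    { id_mem := fun X => W.id_mem X.left
      comp_mem := fun f g hf hg => W.comp_mem _ _ hf hg
      exists_rightFraction := fun A B φ => by
        obtain ⟨ψ, hψ⟩ := (MorphismProperty.LeftFraction.mk φ.f.left φ.s.left φ.hs).exists_rightFraction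
        have hψ' : ψ.s ≫ φ.f.left = ψ.f ≫ φ.s.left := hψ
        let Z : Over S := Over.mk (ψ.s ≫ A.hom)
        refine ⟨MorphismProperty.RightFraction.mk (X' := Z) (Over.homMk ψ.s rfl) ψ.hs
          (Over.homMk ψ.f ?_), Over.OverMorphism.ext hψ'⟩
        show ψ.f ≫ B.hom = ψ.s ≫ A.hom
        rw [← Over.w φ.f, ← Over.w φ.s, reassoc_of% hψ']
      ext := fun A B B' f₁ f₂ s hs h => by
        obtain ⟨Z, t, ht, htf⟩ := MorphismProperty.HasRightCalculusOfFractions.ext f₁.left f₂.left s.left hs
          (congrArg CommaMorphism.left h)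
        let Z' : Over S := Over.mk (t ≫ A.hom)
        exact ⟨Z', Over.homMk t rfl, ht, Over.OverMorphism.ext htf⟩ }
  haveI : L'.EssSurj := Localization.essSurj L' W'
  -- the left components of `Φ` on maps from `C/S`
  let θ : ∀ A : Over S, (Φ.obj (L'.obj A)).left ≅ L.obj A.left := fun A =>
    (Over.forget _).mapIso (e.app A)
  have hθ : ∀ {A B : Over S} (g : A ⟶ B),
      (Φ.map (L'.map g)).left ≫ (θ B).hom = (θ A).hom ≫ L.map g.left := fun g =>
    congrArg CommaMorphism.left (e.hom.naturality g)
  have hθw : ∀ A : Over S, (θ A).hom ≫ L.map A.hom = (Φ.obj (L'.obj A)).hom := fun A =>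
    Over.w (e.app A).hom
  have full : Φ.Full := ⟨fun {a b} φ => by
    let ea := L'.objObjPreimageIso a
    let eb := L'.objObjPreimageIso b
    set A := L'.objPreimage a
    set B := L'.objPreimage b
    let φ' : Φ.obj (L'.obj A) ⟶ Φ.obj (L'.obj B) := Φ.map ea.hom ≫ φ ≫ Φ.map eb.inv
    obtain ⟨x, hx⟩ := Localization.exists_rightFraction L W ((θ A).inv ≫ φ'.left ≫ (θ B).hom)
    have hx' : L.map x.s ≫ (θ A).inv ≫ φ'.left ≫ (θ B).hom = L.map x.f := by
      rw [hx, MorphismProperty.RightFraction.map_s_comp_map]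
    have heq : L.map (x.f ≫ B.hom) = L.map (x.s ≫ A.hom) := by
      rw [L.map_comp, L.map_comp, ← hx', Category.assoc, Category.assoc, Category.assoc, hθw, Over.w φ',
        ← hθw A, Iso.inv_hom_id_assoc]
    obtain ⟨Z, t, ht, htf⟩ := (MorphismProperty.map_eq_iff_precomp L W _ _).1 heq
    let Z' : Over S := Over.mk ((t ≫ x.s) ≫ A.hom)
    let s' : Z' ⟶ A := Over.homMk (t ≫ x.s) rfl
    let g' : Z' ⟶ B := Over.homMk (t ≫ x.f) (by rw [Category.assoc, htf, ← Category.assoc]; rfl)
    have hs' : W' s' := W.comp_mem _ _ ht x.hs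
    haveI : IsIso (L'.map s') := Localization.inverts L' W' _ hs'
    refine ⟨ea.inv ≫ inv (L'.map s') ≫ L'.map g' ≫ eb.hom, ?_⟩
    suffices h : Φ.map (L'.map g') = Φ.map (L'.map s') ≫ φ' by
      simp only [Φ.map_comp, Functor.map_inv]
      rw [reassoc_of% h, IsIso.inv_hom_id_assoc]
      simp only [φ', Category.assoc, ← Φ.map_comp, ← Φ.map_comp_assoc, Iso.inv_hom_id, Φ.map_id,
        Category.id_comp, Category.comp_id]
    refine Over.OverMorphism.ext ((cancel_mono (θ B).hom).1 ?_)
    rw [hθ, Over.comp_left, Category.assoc, ← cancel_epi (θ Z').inv, Iso.inv_hom_id_assoc]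
    have h2 : (θ Z').inv ≫ (Φ.map (L'.map s')).left = L.map s'.left ≫ (θ A).inv := by
      rw [Iso.inv_comp_eq, ← Category.assoc, ← hθ s', Category.assoc, Iso.hom_inv_id, Category.comp_id]
    rw [reassoc_of% h2]
    show L.map (t ≫ x.f) = L.map (t ≫ x.s) ≫ _
    rw [L.map_comp, L.map_comp, Category.assoc, hx']⟩
  have faithful : Φ.Faithful := ⟨fun {a b} m₁ m₂ hm => by
    let ea := L'.objObjPreimageIso a
    let eb := L'.objObjPreimageIso b
    set A := L'.objPreimage a
    set B := L'.objPreimage b
    suffices h : ∀ n₁ n₂ : L'.obj A ⟶ L'.obj B, Φ.map n₁ = Φ.map n₂ → n₁ = n₂ by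
      have := h (ea.hom ≫ m₁ ≫ eb.inv) (ea.hom ≫ m₂ ≫ eb.inv) (by simp only [Φ.map_comp, hm])
      simpa using this
    intro n₁ n₂ hn
    obtain ⟨x, hx⟩ := Localization.exists_rightFraction L' W' n₁
    obtain ⟨y, hy⟩ := Localization.exists_rightFraction L' W' n₂
    obtain ⟨z, hz⟩ := (MorphismProperty.LeftFraction.mk x.s y.s y.hs).exists_rightFraction
    have hz' : z.s ≫ x.s = z.f ≫ y.s := hz
    have hzs : W' (z.s ≫ x.s) := W'.comp_mem _ _ z.hs x.hs
    have h1 : L'.map (z.s ≫ x.f) = L'.map (z.s ≫ x.s) ≫ n₁ := by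
      rw [hx, L'.map_comp, L'.map_comp, Category.assoc, MorphismProperty.RightFraction.map_s_comp_map]
    have h2 : L'.map (z.f ≫ y.f) = L'.map (z.s ≫ x.s) ≫ n₂ := by
      rw [hy, hz', L'.map_comp, L'.map_comp, Category.assoc, MorphismProperty.RightFraction.map_s_comp_map]
    have h3 : L.map (z.s ≫ x.f).left = L.map (z.f ≫ y.f).left := by
      rw [← cancel_epi (θ z.X').hom, ← hθ, ← hθ, h1, h2, Φ.map_comp, Φ.map_comp, hn]
    obtain ⟨Z, t, ht, htf⟩ := (MorphismProperty.map_eq_iff_precomp L W _ _).1 h3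
    let Z' : Over S := Over.mk (t ≫ z.X'.hom)
    let t' : Z' ⟶ z.X' := Over.homMk t rfl
    have heq : t' ≫ z.s ≫ x.f = t' ≫ z.f ≫ y.f := Over.OverMorphism.ext htf
    haveI : IsIso (L'.map t') := Localization.inverts L' W' _ ht
    haveI : IsIso (L'.map (z.s ≫ x.s)) := Localization.inverts L' W' _ hzs
    have h4 := congrArg L'.map heq
    rw [L'.map_comp t', L'.map_comp t', h1, h2, cancel_epi, cancel_epi] at h4
    exact h4⟩
  have ess : Φ.EssSurj := ⟨fun P => by
    haveI : L.EssSurj := Localization.essSurj L W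
    let eP := L.objObjPreimageIso P.left
    obtain ⟨x, hx⟩ := Localization.exists_rightFraction L W (eP.hom ≫ P.hom)
    haveI : IsIso (L.map x.s) := Localization.inverts L W _ x.hs
    let ex : L.obj x.X' ≅ P.left := asIso (L.map x.s) ≪≫ eP
    refine ⟨L'.obj (Over.mk x.f), ⟨e.app (Over.mk x.f) ≪≫ Over.isoMk ex ?_⟩⟩
    show (L.map x.s ≫ eP.hom) ≫ P.hom = L.map x.f
    rw [Category.assoc, hx, MorphismProperty.RightFraction.map_s_comp_map]⟩
  exact { }

end Groth.Agent.S18741
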