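import Groth.Statements.S18744
import Groth.Agent.H26ModPair.Basic

set_option autoImplicit false
universe u
open CategoryTheory CategoryTheory.Limits AlgebraicGeometry TopologicalSpace
open ModPair

namespace Groth.Agent.S18744

open Groth.Agent.H26ModPair

lemma gen_nzd {X : Scheme} {I : X.IdealSheafData} (hI : BlowUp.IsEffCartierIdeal I)
    {V : X.affineOpens} {a : Γ(X, V.1)} (h : I.ideal V = Ideal.span {a}) :
    a ∈ nonZeroDivisors Γ(X, V.1) := by
  rw [mem_nonZeroDivisors_iff_right]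
  intro s hs
  refine X.IsSheaf.section_ext fun x hx => ?_
  obtain ⟨W, hxW, hWV, e, he, hIe⟩ := H29Blow.exists_gen hI (x := x) (W := V.1) hx
  refine ⟨W.1, hWV, hxW, ?_⟩
  rw [H29Blow.ideal_eq_span_res hWV h] at hIe
  obtain ⟨b, hb⟩ := Ideal.mem_span_singleton.1 (hIe ▸ Ideal.mem_span_singleton_self e :
    e ∈ Ideal.span {(X.presheaf.map (homOfLE hWV).op).hom a})
  rw [hb] at he
  have h1 := mem_nonZeroDivisors_iff_right.1 (mul_mem_nonZeroDivisors.1 he).1
  rw [map_zero]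
  refine h1 _ ?_
  rw [← map_mul, hs, map_zero]

set_option backward.isDefEq.respectTransparency false in
theorem exists_stage_section {I : Type u} [SmallCategory I] [IsCofiltered I] (D : I ⥤ Scheme.{u})
    (c : Cone D) (hc : IsLimit c) [∀ {i j} (f : i ⟶ j), IsAffineHom (D.map f)] (i : I)
    (U : (D.obj i).Opens) (hU : IsAffineOpen U) (r : Γ(c.pt, c.π.app i ⁻¹ᵁ U)) :
    ∃ (j : I) (g : j ⟶ i) (h : c.π.app i ⁻¹ᵁ U ≤ c.π.app j ⁻¹ᵁ (D.map g ⁻¹ᵁ U))
      (t : Γ(D.obj j, D.map g ⁻¹ᵁ U)),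
      r = (c.π.app j).appLE (D.map g ⁻¹ᵁ U) (c.π.app i ⁻¹ᵁ U) h t := by
  have (j : _) : IsAffine ((opensDiagram D i U).op.obj j).unop := hU.preimage _
  have (j : _) : IsAffine ((opensDiagram D i U).obj j) := hU.preimage _
  obtain ⟨⟨j⟩, s, hs⟩ := (Types.jointly_surjective_of_isColimit (isColimitOfPreserves
    (Scheme.Γ ⋙ forget _) (isLimitOpensCone D c hc i U).op) ((c.π.app i ⁻¹ᵁ U).topIso.inv r))
  obtain ⟨s, rfl⟩ := (D.map j.hom ⁻¹ᵁ U).topIso.symm.commRingCatIsoToRingEquiv.surjective s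
  have h : c.π.app j.left ⁻¹ᵁ D.map j.hom ⁻¹ᵁ U = c.π.app i ⁻¹ᵁ U := congr($(c.w j.hom) ⁻¹ᵁ U)
  refine ⟨j.left, j.hom, h.ge, s, ?_⟩
  convert!
    show r = ((Scheme.Opens.topIso _).inv ≫ ((opensCone D c i U).π.app j).appTop ≫ (Scheme.Opens.topIso _).hom) s from
      (c.π.app i ⁻¹ᵁ U).topIso.commRingCatIsoToRingEquiv.symm_apply_eq.mp hs.symm using 3
  simp [Scheme.Hom.app_eq_appLE, Scheme.Hom.resLE_appLE]

/-- Let (X_i, I_i) be a cofiltered system of schemes equipped with quasi-coherent ideal sheaves of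
effective Cartier divisors, with affine and minimal transition morphisms (the modulus of X_i is the
pull-back of the modulus of X_j along each transition morphism X_i ⟶ X_j), and let X be its limit
with projections π_i. Then the pulled-back ideal I_i.comap π_i is the ideal sheaf of an effective
Cartier divisor on X for every i; with this modulus X is a modulus pair mapping minimally to each
(X_i, I_i). (The source allows the conditions on the transition morphisms to hold only beyond some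
index; here they are assumed throughout.) -/
theorem result {I : Type u}
    [SmallCategory I] [IsCofiltered I] (D : I ⥤ Scheme.{u}) (c : Cone D) (hc : IsLimit c)
    [∀ (i j : I) (t : i ⟶ j), IsAffineHom (D.map t)]
    (J : ∀ i, (D.obj i).IdealSheafData) (hJ : ∀ i, BlowUp.IsEffCartierIdeal (J i))
    (hmin : ∀ (i j : I) (t : i ⟶ j), ModPair.IsMinimal (J i) (J j) (D.map t)) (i : I) :
    BlowUp.IsEffCartierIdeal ((J i).comap (c.π.app i)) := by
  haveI inst : ∀ {i j} (f : i ⟶ j), IsAffineHom (D.map f) := fun {i j} f => inferInstance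
  haveI := isAffineHom_π_app D c hc i
  intro x
  obtain ⟨U, hxU, -, a, ha, hJU⟩ := H29Blow.exists_gen (hJ i) (x := c.π.app i x) (W := ⊤) trivial
  let V : c.pt.affineOpens := ⟨c.π.app i ⁻¹ᵁ U.1, U.2.preimage (c.π.app i)⟩
  refine ⟨V, hxU, (c.π.app i).appLE U.1 V.1 le_rfl a, ?_, by
    rw [H29Blow.ideal_comap (J i) _ U V le_rfl, hJU, Ideal.map_span, Set.image_singleton]; rfl⟩
  rw [mem_nonZeroDivisors_iff_right]
  intro s hs
  obtain ⟨j, g, h, t, rfl⟩ := exists_stage_section D c hc i U.1 U.2 s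
  have heq : c.π.app j ⁻¹ᵁ (D.map g ⁻¹ᵁ U.1) = c.π.app i ⁻¹ᵁ U.1 := congr($(c.w g) ⁻¹ᵁ U.1)
  set b := (D.map g).app U.1 a with hb
  have hab : (c.π.app i).appLE U.1 V.1 le_rfl a = (c.π.app j).appLE (D.map g ⁻¹ᵁ U.1) V.1 h b := by
    rw [hb, ← ConcreteCategory.comp_apply, Scheme.Hom.app_eq_appLE, Scheme.Hom.appLE_comp_appLE]
    simp only [Cone.w]
  rw [hab] at hs
  change _ * ((c.π.app j).appLE _ _ h).hom b = 0 at hs
  rw [← map_mul] at hs
  have hz : (c.π.app j).app (D.map g ⁻¹ᵁ U.1) (t * b) = 0 := by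
    have h1 : (c.π.app j).app (D.map g ⁻¹ᵁ U.1) (t * b) =
        c.pt.presheaf.map (homOfLE heq.le).op ((c.π.app j).appLE (D.map g ⁻¹ᵁ U.1) V.1 h (t * b)) := by
      rw [← ConcreteCategory.comp_apply, Scheme.Hom.app_eq_appLE]
      exact (ConcreteCategory.congr_hom (Scheme.Hom.appLE_map (c.π.app j) h (homOfLE heq.le).op) (t * b)).symm
    rw [h1, hs, map_zero]
  obtain ⟨k, f, hf⟩ := exists_app_map_eq_zero_of_isLimit D c hc ((U.2.preimage (D.map g)).isCompact) _ hz
  let W : (D.obj k).affineOpens :=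
    ⟨D.map f ⁻¹ᵁ (D.map g ⁻¹ᵁ U.1), (U.2.preimage (D.map g)).preimage (D.map f)⟩
  have hWle : W.1 ≤ D.map (f ≫ g) ⁻¹ᵁ U.1 := by rw [D.map_comp, Scheme.Hom.comp_preimage]
  have hgen : (J k).ideal W = Ideal.span {(D.map f).app (D.map g ⁻¹ᵁ U.1) b} := by
    rw [show J k = (J i).comap (D.map (f ≫ g)) from hmin k i (f ≫ g),
      H29Blow.ideal_comap (J i) _ U W hWle, hJU, Ideal.map_span, Set.image_singleton]
    congr 2
    rw [hb, ← ConcreteCategory.comp_apply, Scheme.Hom.app_eq_appLE, Scheme.Hom.app_eq_appLE,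
      Scheme.Hom.appLE_comp_appLE]
    simp only [D.map_comp]
    rfl
  have hnz := gen_nzd (hJ k) hgen
  rw [map_mul] at hf
  have ht := mem_nonZeroDivisors_iff_right.1 hnz _ hf
  have h2 : (c.π.app j).appLE (D.map g ⁻¹ᵁ U.1) V.1 h t =
      (c.π.app k).appLE W.1 V.1 (by rw [← Scheme.Hom.comp_preimage, Cone.w]; exact h)
        ((D.map f).app (D.map g ⁻¹ᵁ U.1) t) := by
    rw [← ConcreteCategory.comp_apply, Scheme.Hom.app_eq_appLE, Scheme.Hom.appLE_comp_appLE]
    simp only [Cone.w]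
  rw [h2, ht, map_zero]

end Groth.Agent.S18744
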