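import Groth.Statements.S18747
import Groth.Agent.H26ModPair.Coprod

set_option autoImplicit false
universe u
open CategoryTheory CategoryTheory.Limits AlgebraicGeometry TopologicalSpace
open ModPair

namespace Groth.Agent.S18747

open Groth.Agent.H26ModPair

noncomputable def sigmaPair {σ : Type u} (F : σ → ModPair.Pair.{u}) : ModPair.Pair.{u} where
  total := ∐ fun i => (F i).total
  mod := sigmaIdeal _ fun i => (F i).mod
  isEffCartier := isEff_sigmaIdeal _ _ fun i => (F i).isEffCartier

noncomputable def cofan {σ : Type u} (F : σ → ModPair.Pair.{u}) : Cofan F :=
  Cofan.mk (sigmaPair F) fun i => ⟨Sigma.ι (fun i => (F i).total) i,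
    (comap_sigmaIdeal (fun i => (F i).total) (fun i => (F i).mod) i).ge⟩

noncomputable def isColimitCofan {σ : Type u} (F : σ → ModPair.Pair.{u}) : IsColimit (cofan F) :=
  mkCofanColimit _
    (fun s => ⟨Sigma.desc fun i => (s.inj i).hom, le_of_comap_openCover (sigmaOpenCover _) fun i => by
      change (sigmaIdeal _ _).comap (Sigma.ι (fun i => (F i).total) i) ≤ ((s.pt.mod).comap _).comap (Sigma.ι (fun i => (F i).total) i)
      rw [comap_sigmaIdeal, ← Scheme.IdealSheafData.comap_comp, Sigma.ι_desc]
      exact (s.inj i).cond⟩)
    (fun s i => ModPair.Pair.Hom.ext (Sigma.ι_desc _ _))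
    (fun s m hm => ModPair.Pair.Hom.ext (Sigma.hom_ext _ _ fun i =>
      (congrArg ModPair.Pair.Hom.hom (hm i)).trans (Sigma.ι_desc (fun i => (s.inj i).hom) i).symm))

/-- The category of modulus pairs and ambient morphisms admits coproducts (indexed by any type in the
universe of the schemes involved), and the total-space functor to schemes preserves them: the
coproduct of a family (X_i, I_i) is the disjoint union of the X_i with the modulus restricting to
I_i on each summand. (The published statement adds that the total-space functor detects coproducts;
read as reflection of coproducts this fails, since the identity of a scheme X is an ambient morphism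
from (X, I) to (X, unit ideal) whose image is trivially a coproduct of the one-member family while
(X, unit ideal) is not the coproduct of (X, I) when I is not the unit ideal; only existence and
preservation are stated.) -/
theorem result (σ : Type u) :
    HasColimitsOfShape (Discrete σ) ModPair.Pair.{u} ∧
      PreservesColimitsOfShape (Discrete σ) ModPair.Pair.forget.{u} := by
  have hp : ∀ F : σ → ModPair.Pair.{u}, PreservesColimit (Discrete.functor F) ModPair.Pair.forget.{u} := fun F =>
    preservesColimit_of_preserves_colimit_cocone (isColimitCofan F)
      ((isColimitMapCoconeCofanMkEquiv _ _ _).symm (coproductIsCoproduct fun i => (F i).total))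
  exact ⟨⟨fun F => haveI := HasColimit.mk ⟨_, isColimitCofan (F.obj ∘ Discrete.mk)⟩
      hasColimit_of_iso Discrete.natIsoFunctor⟩,
    ⟨fun {F} => haveI := hp (F.obj ∘ Discrete.mk)
      preservesColimit_of_iso_diagram _ Discrete.natIsoFunctor.symm⟩⟩

end Groth.Agent.S18747
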