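import Groth.Statements.S18753
import Groth.Agent.H26Blow.Affine
import Groth.Agent.H7Lim.Descend
import Groth.Agent.S18734
import Mathlib.LinearAlgebra.TensorProduct.Quotient

set_option autoImplicit false
universe u
open CategoryTheory CategoryTheory.Limits AlgebraicGeometry TopologicalSpace
open ModPair

namespace Groth.Agent.S18753

open scoped TensorProduct

lemma nzd_of_isEff {X : Scheme.{u}} [IsAffine X] {L : X.IdealSheafData} (hL : BlowUp.IsEffCartierIdeal L)
    {a : Γ(X, ⊤)} (h : L.ideal ⟨⊤, isAffineOpen_top X⟩ = Ideal.span {a}) : a ∈ nonZeroDivisors Γ(X, ⊤) := by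
  rw [mem_nonZeroDivisors_iff_right]
  intro s hs
  refine X.IsSheaf.section_ext fun x _ => ?_
  obtain ⟨V, hxV, g, hg, hV⟩ := hL x
  have hle : V.1 ≤ (⊤ : X.Opens) := le_top
  have h2 := (H29Blow.ideal_eq_span_res (V := ⟨⊤, isAffineOpen_top X⟩) (W := V) hle h).symm.trans hV
  obtain ⟨v, hv⟩ := Ideal.mem_span_singleton'.1 (h2.ge (Ideal.mem_span_singleton_self g))
  refine ⟨V.1, hle, hxV, ?_⟩
  have h3 := congrArg (X.presheaf.map (homOfLE hle).op).hom hs
  rw [map_mul, map_zero] at h3
  show (X.presheaf.map (homOfLE hle).op).hom s = (X.presheaf.map (homOfLE hle).op).hom 0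
  rw [map_zero]
  refine (mem_nonZeroDivisors_iff_right.1 hg) _ ?_
  rw [← hv, mul_left_comm, h3, mul_zero]

lemma smul_regular_of_div {A B : Type u} [CommRing A] [CommRing B] [Algebra A B] {p : Ideal A} {f : A}
    (hdiv : ∀ x ∈ p, ∃ y ∈ p, x = f * y) (hf : algebraMap A B f ∈ nonZeroDivisors B) {b : B} (n : ℕ)
    (h : f ^ n • b ∈ p • (⊤ : Submodule A B)) : b ∈ p • (⊤ : Submodule A B) := by
  induction n with
  | zero => simpa using h
  | succ n ih =>
    refine ih ?_
    rw [pow_succ', mul_smul] at h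
    have key : ∀ z ∈ p • (⊤ : Submodule A B), ∃ z' ∈ p • (⊤ : Submodule A B), z = f • z' := by
      intro z hz
      refine Submodule.smul_induction_on hz (fun r hr w _ => ?_) (fun z₁ z₂ h₁ h₂ => ?_)
      · obtain ⟨y, hy, rfl⟩ := hdiv r hr
        exact ⟨y • w, Submodule.smul_mem_smul hy trivial, by rw [mul_smul]⟩
      · obtain ⟨a, ha, rfl⟩ := h₁
        obtain ⟨c, hc, rfl⟩ := h₂
        exact ⟨a + c, add_mem ha hc, (smul_add f a c).symm⟩
    obtain ⟨c, hc, e⟩ := key _ h
    rw [Algebra.smul_def, Algebra.smul_def f c] at e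
    rwa [(mul_cancel_left_mem_nonZeroDivisors hf).1 e]

lemma flat_quot {A B : Type u} [CommRing A] [CommRing B] [Algebra A B] (p : Ideal A) [p.IsPrime]
    [ValuationRing (A ⧸ p)] {f : A} (hdiv : ∀ x ∈ p, ∃ y ∈ p, x = f * y)
    (hunit : ∀ a, a ∉ p → ∃ (n : ℕ) (a' : A), a' * a = f ^ n)
    (hf : algebraMap A B f ∈ nonZeroDivisors B) : Module.Flat (A ⧸ p) ((A ⧸ p) ⊗[A] B) := by
  rw [Module.Flat.flat_iff_torsion_eq_bot_of_isBezout, eq_bot_iff]
  rintro z ⟨⟨r, hr⟩, hz⟩
  change r • z = 0 at hz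
  obtain ⟨a, rfl⟩ := Ideal.Quotient.mk_surjective r
  obtain ⟨b, rfl⟩ : ∃ b : B, z = (1 : A ⧸ p) ⊗ₜ[A] b := by
    clear hz
    induction z using TensorProduct.induction_on with
    | zero => exact ⟨0, by simp⟩
    | tmul r b =>
      obtain ⟨c, rfl⟩ := Ideal.Quotient.mk_surjective r
      exact ⟨c • b, by rw [TensorProduct.tmul_smul, TensorProduct.smul_tmul', Algebra.smul_def, mul_one]; rfl⟩
    | add x y hx hy =>
      obtain ⟨b₁, rfl⟩ := hx
      obtain ⟨b₂, rfl⟩ := hy
      exact ⟨b₁ + b₂, (TensorProduct.tmul_add _ _ _).symm⟩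
  have hmem : ∀ c : B, (1 : A ⧸ p) ⊗ₜ[A] c = 0 → c ∈ p • (⊤ : Submodule A B) := fun c hc => by
    have h := TensorProduct.quotTensorEquivQuotSMul_mk_tmul p (1 : A) c
    rw [map_one, hc, map_zero, one_smul] at h
    exact (Submodule.Quotient.mk_eq_zero _).1 h.symm
  have hap : a ∉ p := fun h => nonZeroDivisors.ne_zero hr (Ideal.Quotient.eq_zero_iff_mem.2 h)
  obtain ⟨n, a', ha'⟩ := hunit a hap
  have h1 : (1 : A ⧸ p) ⊗ₜ[A] (f ^ n • b) = 0 := by
    rw [← ha', mul_smul, TensorProduct.tmul_smul, TensorProduct.tmul_smul]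
    have : a • ((1 : A ⧸ p) ⊗ₜ[A] b) = 0 := by
      rw [← hz, TensorProduct.smul_tmul', TensorProduct.smul_tmul', Algebra.smul_def]
      rfl
    rw [this, smul_zero]
  have hb := smul_regular_of_div hdiv hf n (hmem _ h1)
  rw [Submodule.mem_bot]
  have : ∀ c ∈ p • (⊤ : Submodule A B), (1 : A ⧸ p) ⊗ₜ[A] c = 0 := fun c hc => by
    refine Submodule.smul_induction_on hc (fun r hr w _ => ?_) (fun x y hx hy => by rw [TensorProduct.tmul_add, hx, hy, add_zero])
    rw [TensorProduct.tmul_smul, TensorProduct.smul_tmul', Algebra.smul_def, mul_one,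
      show algebraMap A (A ⧸ p) r = 0 from Ideal.Quotient.eq_zero_iff_mem.2 hr, TensorProduct.zero_tmul]
  exact this b hb

lemma finite_preimage_of_pullback {X Y T : Scheme.{u}} (q : X ⟶ Y) (g : T ⟶ Y) [IsFinite (pullback.snd q g)]
    (t : T) : (q ⁻¹' {g t}).Finite := by
  refine (((pullback.snd q g).finite_preimage_singleton t).image (pullback.fst q g)).subset fun x hx => ?_
  obtain ⟨z, hz₁, hz₂⟩ := Scheme.Pullback.exists_preimage_pullback x t hx
  exact ⟨z, hz₂, hz₁⟩

open Groth.Agent in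
theorem isFinite_semiValuation {A : Type u} [CommRing A] (p : Ideal A) [p.IsPrime] [ValuationRing (A ⧸ p)]
    (f : A) (hfp : f ∉ p) (hdiv : ∀ x ∈ p, ∃ y ∈ p, x = f * y)
    (hunit : ∀ a, a ∉ p → ∃ (n : ℕ) (a' : A), a' * a = f ^ n)
    {Q : Scheme.{u}} (q : Q ⟶ Spec (CommRingCat.of A)) [IsProper q]
    (hQ : BlowUp.IsEffCartierIdeal ((H26Blow.centre (Ideal.span {f})).comap q))
    (U : (Spec (CommRingCat.of A)).Opens) (hU : ∀ x, x ∈ U ↔ f ∉ x.asIdeal) (hfin : IsFinite (q ∣_ U)) :
    IsFinite q := by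
  haveI hqU : IsFinite (pullback.snd q U.ι) :=
    (H7Lim.prop_iff_of_isPullback (P := @IsFinite) (isPullback_morphismRestrict q U).flip).1 hfin
  let gR : Spec (CommRingCat.of (A ⧸ p)) ⟶ Spec (CommRingCat.of A) :=
    Spec.map (CommRingCat.ofHom (algebraMap A (A ⧸ p)))
  let gK : Spec (CommRingCat.of (FractionRing (A ⧸ p))) ⟶ Spec (CommRingCat.of (A ⧸ p)) :=
    Spec.map (CommRingCat.ofHom (algebraMap (A ⧸ p) (FractionRing (A ⧸ p))))
  -- generic fibre
  have hrange : Set.range (gK ≫ gR) ⊆ Set.range U.ι := by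
    rintro _ ⟨w, rfl⟩
    rw [Scheme.Opens.range_ι, SetLike.mem_coe, hU]
    intro h
    refine w.isPrime.ne_top (Ideal.eq_top_of_isUnit_mem _ h ?_)
    exact (IsFractionRing.to_map_ne_zero_of_mem_nonZeroDivisors (K := FractionRing (A ⧸ p))
      (mem_nonZeroDivisors_of_ne_zero fun h0 => hfp (Ideal.Quotient.eq_zero_iff_mem.1 h0))).isUnit
  have hgen : IsFinite (pullback.snd q (gK ≫ gR)) :=
    H7Lim.prop_snd_of_fac (P := @IsFinite) (IsOpenImmersion.lift U.ι (gK ≫ gR) hrange)
      (IsOpenImmersion.lift_fac _ _ _) hqU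
  -- flatness
  haveI : Flat (pullback.snd q gR) := by
    rw [IsZariskiLocalAtSource.iff_of_openCover (P := @Flat) (Scheme.Pullback.openCoverOfLeft Q.affineCover q gR)]
    intro i
    have key : ∀ {B : CommRingCat.{u}} (k : Spec B ⟶ Q) (_ : IsOpenImmersion k),
        Flat (pullback.snd (k ≫ q) gR) := by
      intro B k hk
      obtain ⟨φ, hφ⟩ := Spec.map_surjective (k ≫ q)
      rw [← hφ]
      letI : Algebra A B := φ.hom.toAlgebra
      have he : BlowUp.IsEffCartierIdeal ((H26Blow.centre (Ideal.span {f})).comap (Spec.map φ)) := by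
        rw [hφ, Scheme.IdealSheafData.comap_comp]
        exact H29Blow.isEffCartierIdeal_comap_of_flat hQ k
      have hid := H26Blow.ideal_centre_comap (Ideal.span {f}) φ
      rw [Ideal.map_span, Set.image_singleton, Ideal.map_span, Set.image_singleton] at hid
      have hnzd : algebraMap A B f ∈ nonZeroDivisors B := by
        have h0 := nzd_of_isEff he hid
        rw [mem_nonZeroDivisors_iff_right] at h0 ⊢
        intro s hs
        refine (ConcreteCategory.bijective_of_isIso (Scheme.ΓSpecIso B).inv).1 ((h0 _ ?_).trans (map_zero _).symm)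
        show (Scheme.ΓSpecIso B).inv.hom s * (Scheme.ΓSpecIso B).inv.hom (φ.hom f) = 0
        rw [← map_mul]
        exact (congrArg _ hs).trans (map_zero _)
      haveI : Module.Flat (A ⧸ p) ((A ⧸ p) ⊗[A] B) := flat_quot p hdiv hunit hnzd
      have h1 : Flat ((pullbackSpecIso A (A ⧸ p) B).inv ≫ pullback.fst _ _) := by
        rw [pullbackSpecIso_inv_fst']
        exact (HasRingHomProperty.Spec_iff (P := @Flat)).2 (RingHom.flat_algebraMap_iff.2 inferInstance)
      rw [MorphismProperty.cancel_left_of_respectsIso @Flat] at h1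
      rw [← pullbackSymmetry_hom_comp_fst, MorphismProperty.cancel_left_of_respectsIso @Flat]
      exact h1
    have h := key (Q.affineCover.f i) (Q.affineCover.map_prop i)
    dsimp only [Scheme.Pullback.openCoverOfLeft]
    erw [pullback.lift_snd, Category.comp_id]
    exact h
  haveI : IsFinite (pullback.snd (pullback.snd q gR) gK) :=
    (H7Lim.prop_iff_of_isPullback (P := @IsFinite)
      ((IsPullback.of_hasPullback (pullback.snd q gR) gK).paste_horiz
        (IsPullback.of_hasPullback q gR))).2 hgen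
  haveI : IsFinite (pullback.snd q gR) := Groth.Agent.S18734.result (pullback.snd q gR) this
  haveI : LocallyQuasiFinite q := LocallyQuasiFinite.of_finite_preimage_singleton q fun x => by
    by_cases hx : f ∈ x.asIdeal
    · have hp : p ≤ x.asIdeal := fun r hr => by
        obtain ⟨y, -, rfl⟩ := hdiv r hr
        exact x.asIdeal.mul_mem_right y hx
      obtain ⟨t, ht⟩ : x ∈ Set.range gR := by
        show x ∈ Set.range (PrimeSpectrum.comap (algebraMap A (A ⧸ p)))
        rw [range_comap_of_surjective (A ⧸ p) (algebraMap A (A ⧸ p)) (Ideal.Quotient.mk_surjective (I := p))]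
        intro r hr
        exact hp (Ideal.Quotient.eq_zero_iff_mem.1 hr)
      rw [← ht]
      exact finite_preimage_of_pullback q gR t
    · obtain ⟨t, rfl⟩ : x ∈ Set.range U.ι := by rwa [Scheme.Opens.range_ι, SetLike.mem_coe, hU]
      exact finite_preimage_of_pullback q U.ι t
  exact IsFinite.of_isProper_of_locallyQuasiFinite q

lemma ker_quot_eq_centre {A : Type u} [CommRing A] (J : Ideal A) :
    (Spec.map (CommRingCat.ofHom (Ideal.Quotient.mk J))).ker = Groth.Agent.H26Blow.centre J := by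
  rw [Scheme.ker_of_isAffine]
  congr 1
  have e : (Spec.map (CommRingCat.ofHom (Ideal.Quotient.mk J))).appTop =
      (Scheme.ΓSpecIso (CommRingCat.of A)).hom ≫ CommRingCat.ofHom (Ideal.Quotient.mk J) ≫
        (Scheme.ΓSpecIso (CommRingCat.of (A ⧸ J))).inv := by
    rw [← Scheme.ΓSpecIso_naturality_assoc, Iso.hom_inv_id, Category.comp_id]
  ext z
  rw [RingHom.mem_ker, e]
  show (Scheme.ΓSpecIso (CommRingCat.of (A ⧸ J))).inv.hom (Ideal.Quotient.mk J ((Scheme.ΓSpecIso (CommRingCat.of A)).hom.hom z)) = 0 ↔ _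
  rw [map_eq_zero_iff _ (ConcreteCategory.bijective_of_isIso (Scheme.ΓSpecIso (CommRingCat.of (A ⧸ J))).inv).1,
    Ideal.Quotient.eq_zero_iff_mem, Ideal.mem_map_iff_of_surjective _
      (ConcreteCategory.bijective_of_isIso (Scheme.ΓSpecIso (CommRingCat.of A)).inv).2]
  constructor
  · exact fun h => ⟨_, h, by rw [← CommRingCat.comp_apply, Iso.hom_inv_id]; rfl⟩
  · rintro ⟨x, hx, rfl⟩
    rwa [← CommRingCat.comp_apply, Iso.inv_hom_id]

/-- Let O be a local ring with residue field κ, R a valuation ring of κ, A ⊆ O the subring of elements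
whose residue class lies in R (the fibre product ring R ×_κ O, a semi-valuation ring), and f an
element of A such that O is the localization of A obtained by inverting f. Equip P = Spec A with the
modulus V(f), the closed subscheme cut out by f (an effective Cartier divisor: f is a unit of O, so
a nonzerodivisor of A), whose interior is Spec O. Let q : Q ⟶ P be a proper, minimal morphism of
modulus pairs (the modulus of Q is the pull-back of V(f) and is an effective Cartier divisor) whose
restriction over the interior of P is a finite morphism. Then q is finite. -/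
theorem result {O : Type u} [CommRing O]
    [IsLocalRing O] (R : ValuationSubring (IsLocalRing.ResidueField O))
    (f : ↥((R.toSubring).comap (IsLocalRing.residue O)))
    [IsLocalization.Away f O] {Q : Scheme.{u}} (IQ : Q.IdealSheafData)
    (hQ : BlowUp.IsEffCartierIdeal IQ)
    (q : Q ⟶ Spec (CommRingCat.of ↥((R.toSubring).comap (IsLocalRing.residue O))))
    (hq : ModPair.IsMinimal IQ
      (Spec.map (CommRingCat.ofHom (Ideal.Quotient.mk (Ideal.span {f})))).ker q)
    [IsProper q]
    (hfin : IsFinite (q ∣_ ModPair.interior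
      (Spec.map (CommRingCat.ofHom (Ideal.Quotient.mk (Ideal.span {f})))).ker)) :
    IsFinite q := by
  let ρ : ↥((R.toSubring).comap (IsLocalRing.residue O)) →+* R.toSubring := ((IsLocalRing.residue O).comp ((R.toSubring).comap (IsLocalRing.residue O)).subtype).codRestrict R.toSubring fun a => a.2
  have hρ : Function.Surjective ρ := fun r => by
    obtain ⟨o, ho⟩ := IsLocalRing.residue_surjective (r : IsLocalRing.ResidueField O)
    exact ⟨⟨o, by show IsLocalRing.residue O o ∈ R.toSubring; rw [ho]; exact r.2⟩, Subtype.ext ho⟩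
  have hρ0 : ∀ a : ↥((R.toSubring).comap (IsLocalRing.residue O)), a ∈ RingHom.ker ρ ↔ IsLocalRing.residue O (a : O) = 0 := fun a =>
    ⟨fun h => congrArg Subtype.val h, fun h => Subtype.ext h⟩
  haveI : IsDomain R.toSubring := inferInstanceAs (IsDomain R)
  haveI : (RingHom.ker ρ).IsPrime := RingHom.ker_isPrime ρ
  haveI : ValuationRing (↥((R.toSubring).comap (IsLocalRing.residue O)) ⧸ RingHom.ker ρ) := by
    let e := RingHom.quotientKerEquivOfSurjective hρ
    haveI : ValuationRing R.toSubring := inferInstanceAs (ValuationRing R)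
    exact Function.Surjective.valuationRing e.symm.toRingHom e.symm.surjective
  have hfu : IsUnit (f : O) := IsLocalization.Away.algebraMap_isUnit (S := O) f
  have hfp : f ∉ RingHom.ker ρ := fun h =>
    (hfu.map (IsLocalRing.residue O)).ne_zero ((hρ0 f).1 h)
  have hdiv : ∀ x ∈ RingHom.ker ρ, ∃ y ∈ RingHom.ker ρ, x = f * y := fun x hx => by
    have h0 : IsLocalRing.residue O (↑hfu.unit⁻¹ * (x : O)) = 0 := by rw [map_mul, (hρ0 x).1 hx, mul_zero]
    refine ⟨⟨↑hfu.unit⁻¹ * (x : O), by show _ ∈ R.toSubring; rw [h0]; exact R.toSubring.zero_mem⟩, (hρ0 _).2 h0,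
      Subtype.ext ?_⟩
    show (x : O) = (f : O) * (↑hfu.unit⁻¹ * (x : O))
    rw [← mul_assoc, IsUnit.mul_val_inv, one_mul]
  have hunit : ∀ a, a ∉ RingHom.ker ρ → ∃ (n : ℕ) (a' : ↥((R.toSubring).comap (IsLocalRing.residue O))), a' * a = f ^ n := fun a ha => by
    have hau : IsUnit (a : O) := by
      by_contra hcon
      exact ha ((hρ0 a).2 ((IsLocalRing.residue_eq_zero_iff _).2 ((IsLocalRing.mem_maximalIdeal _).2 hcon)))
    obtain ⟨n, a', e⟩ := IsLocalization.Away.surj f (↑hau.unit⁻¹ : O)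
    refine ⟨n, a', Subtype.ext ?_⟩
    show (a' : O) * (a : O) = ((f ^ n : ↥((R.toSubring).comap (IsLocalRing.residue O))) : O)
    rw [show (a' : O) = algebraMap ↥((R.toSubring).comap (IsLocalRing.residue O)) O a' from rfl, ← e, mul_right_comm, IsUnit.val_inv_mul, one_mul]
    rfl
  rw [ker_quot_eq_centre] at hq hfin
  refine isFinite_semiValuation (RingHom.ker ρ) f hfp hdiv hunit q (by have e : IQ = _ := hq; rw [e] at hQ; exact hQ) _ (fun x => ?_) hfin
  rw [Groth.Agent.H26ModPair.mem_interior, ← ker_quot_eq_centre, not_iff_not]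
  rw [← SetLike.mem_coe, Scheme.Hom.support_ker]
  show x ∈ closure (Set.range (PrimeSpectrum.comap (Ideal.Quotient.mk (Ideal.span {f})))) ↔ _
  rw [PrimeSpectrum.closure_range_comap, Ideal.mk_ker]
  exact Ideal.span_singleton_le_iff_mem _

end Groth.Agent.S18753
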