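import Groth.Statements.S18754
import Groth.Agent.H7Lim.Approx.Eventually
import Groth.Agent.H26ModPair.Basic

set_option autoImplicit false
universe u
open CategoryTheory CategoryTheory.Limits AlgebraicGeometry TopologicalSpace
open ModPair

namespace Groth.Agent.S18754

/-- Let (Y, I_Y) be a modulus pair with Y quasi-compact and quasi-separated, and let (X_i ⟶ Y) be a
cofiltered system of Y-schemes with affine transition morphisms such that every X_i is quasi-compact
and quasi-separated, the pulled-back ideal I_Y.comap (X_i ⟶ Y) is the ideal of an effective Cartier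
divisor, and X_i ⟶ Y is an abstract admissible blow-up of modulus pairs which is locally of finite
presentation. Let X be the limit of the system over Y and suppose that X ⟶ Y, with the pulled-back
modulus (assumed effective Cartier), is also an abstract admissible blow-up. Then X ⟶ Y is locally
of finite presentation: an abstract admissible blow-up of quasi-compact quasi-separated modulus
pairs which is not of finite presentation is never a limit of finitely presented ones. -/
theorem result {Y : Scheme.{u}}
    [CompactSpace Y] [QuasiSeparatedSpace Y] (IY : Y.IdealSheafData) (hY : BlowUp.IsEffCartierIdeal IY)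
    {I : Type u} [SmallCategory I] [IsCofiltered I] (D : I ⥤ Over Y) (c : Cone D) (hc : IsLimit c)
    [∀ (i j : I) (t : i ⟶ j), IsAffineHom (D.map t).left]
    [∀ i, CompactSpace (D.obj i).left] [∀ i, QuasiSeparatedSpace (D.obj i).left]
    (hI : ∀ i, BlowUp.IsEffCartierIdeal (IY.comap (D.obj i).hom))
    (hadm : ∀ i, ModPair.IsAdmBlowup (IY.comap (D.obj i).hom) IY (D.obj i).hom)
    [∀ i, LocallyOfFinitePresentation (D.obj i).hom]
    (hX : BlowUp.IsEffCartierIdeal (IY.comap c.pt.hom))
    (hXadm : ModPair.IsAdmBlowup (IY.comap c.pt.hom) IY c.pt.hom) :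
    LocallyOfFinitePresentation c.pt.hom := by
    classical
    obtain ⟨i₀⟩ := IsCofiltered.nonempty (C := I)
    obtain ⟨-, hproper, hisoX⟩ := hXadm
    haveI := hproper
    haveI : LocallyOfFiniteType (𝟙 c.pt.left ≫ c.pt.hom) := by rw [Category.id_comp]; infer_instance
    obtain ⟨i, -, hi⟩ := H7Lim.Approx.exists_isClosedImmersion_stage hc (𝟙 c.pt.left) i₀
    rw [Category.id_comp] at hi
    let g := (c.π.app i).left
    haveI : IsClosedImmersion g := hi
    have hg : g ≫ (D.obj i).hom = c.pt.hom := Over.w (c.π.app i)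
    obtain ⟨-, -, hisoi⟩ := hadm i
    let O := (D.obj i).hom ⁻¹ᵁ ModPair.interior IY
    have hdom : IsSchemeTheoreticallyDominant O.ι := by
      show IsSchemeTheoreticallyDominant ((D.obj i).hom ⁻¹ᵁ ModPair.interior IY).ι
      rw [H26ModPair.preimage_interior]
      exact H26ModPair.dominant_interior (hI i)
    haveI : IsIso ((c.pt.hom) ∣_ ModPair.interior IY) := hisoX
    haveI : IsIso ((D.obj i).hom ∣_ ModPair.interior IY) := hisoi
    have hfac : ∃ l : (O : Scheme.{u}) ⟶ c.pt.left, l ≫ g = O.ι := by
      refine ⟨((D.obj i).hom ∣_ ModPair.interior IY) ≫ inv (c.pt.hom ∣_ ModPair.interior IY) ≫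
        (c.pt.hom ⁻¹ᵁ ModPair.interior IY).ι, ?_⟩
      let m := inv (c.pt.hom ∣_ ModPair.interior IY) ≫ (c.pt.hom ⁻¹ᵁ ModPair.interior IY).ι ≫ g
      have hm : m ≫ (D.obj i).hom = (ModPair.interior IY).ι := by
        simp only [m, Category.assoc, hg, ← morphismRestrict_ι, IsIso.inv_hom_id_assoc]
      have hle : Set.range m ⊆ Set.range O.ι := by
        rw [Scheme.Opens.range_ι]
        rintro _ ⟨z, rfl⟩
        show (D.obj i).hom (m z) ∈ ModPair.interior IY
        rw [← Scheme.Hom.comp_apply, hm]
        exact z.2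
      obtain ⟨m', hm'⟩ : ∃ m' : (ModPair.interior IY : Scheme.{u}) ⟶ O, m' ≫ O.ι = m :=
        ⟨IsOpenImmersion.lift O.ι m hle, IsOpenImmersion.lift_fac _ _ _⟩
      have h1 : m' ≫ ((D.obj i).hom ∣_ ModPair.interior IY) = 𝟙 _ := by
        rw [← cancel_mono (ModPair.interior IY).ι, Category.assoc, morphismRestrict_ι, ← Category.assoc, hm', hm,
          Category.id_comp]
      have h2 : m' = inv ((D.obj i).hom ∣_ ModPair.interior IY) := IsIso.eq_inv_of_inv_hom_id h1
      simp only [Category.assoc]
      rw [show inv (c.pt.hom ∣_ ModPair.interior IY) ≫ (c.pt.hom ⁻¹ᵁ ModPair.interior IY).ι ≫ g = m from rfl, ← hm', h2,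
        IsIso.hom_inv_id_assoc]
    obtain ⟨l, hl⟩ := hfac
    haveI : IsIso g := by
      rw [IsClosedImmersion.isIso_iff_ker_eq_bot, eq_bot_iff, ← O.ι.ker_eq_bot]
      conv_rhs => rw [← hl]
      exact Scheme.Hom.le_ker_comp _ _
    rw [← hg]
    exact MorphismProperty.comp_mem @LocallyOfFinitePresentation g (D.obj i).hom inferInstance inferInstance

end Groth.Agent.S18754
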