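import Groth.Statements.S18755
import Groth.Agent.H26ModPair.AmbProd

set_option autoImplicit false
universe u
open CategoryTheory CategoryTheory.Limits AlgebraicGeometry TopologicalSpace
open ModPair

namespace Groth.Agent.S18755

open Groth.Agent.H26ModPair

theorem mapDesc_fst {X T S₁ S₀ : Scheme.{u}} (f : X ⟶ S₁) (g : T ⟶ S₁) (σ : S₁ ⟶ S₀) :
    pullback.mapDesc f g σ ≫ pullback.fst (f ≫ σ) (g ≫ σ) = pullback.fst f g := by
  exact (pullback.lift_fst _ _ _).trans (Category.comp_id _)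

theorem mapDesc_snd {X T S₁ S₀ : Scheme.{u}} (f : X ⟶ S₁) (g : T ⟶ S₁) (σ : S₁ ⟶ S₀) :
    pullback.mapDesc f g σ ≫ pullback.snd (f ≫ σ) (g ≫ σ) = pullback.snd f g := by
  exact (pullback.lift_snd _ _ _).trans (Category.comp_id _)

/-- Let (S₀, I₀), (S₁, I₁), (T, J), (X, I) be schemes with quasi-coherent ideal sheaves of effective
Cartier divisors, f : X ⟶ S₁, g : T ⟶ S₁ and σ : S₁ ⟶ S₀ morphisms satisfying the modulus condition,
and let (Y₁, K₁) with π₁ and (Y₀, K₀) with π₀ be ambient products of (X, I) and (T, J) over S₁ and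
over S₀ (the latter for f ≫ σ and g ≫ σ): blow-ups of the scheme-theoretic image of the product of
the interiors inside X ×_{S₁} T, resp. X ×_{S₀} T, in the intersection of the pulled-back moduli,
with K·E = D_X·D_T. Then the ambient product is functorial in the base: there is a unique morphism φ
: Y₁ ⟶ Y₀ compatible with the maps to X ×_{S₀} T (through the canonical X ×_{S₁} T ⟶ X ×_{S₀} T),
and every such φ is minimal, K₁ = K₀.comap φ. -/
theorem result {S₀ S₁ T X Y₁ Y₀ : Scheme.{u}} (I₀ : S₀.IdealSheafData)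
    (I₁ : S₁.IdealSheafData) (J : T.IdealSheafData) (I : X.IdealSheafData)
    (h₀ : BlowUp.IsEffCartierIdeal I₀) (h₁ : BlowUp.IsEffCartierIdeal I₁)
    (hT : BlowUp.IsEffCartierIdeal J) (hX : BlowUp.IsEffCartierIdeal I)
    (f : X ⟶ S₁) (hf : ModPair.IsAmbient I I₁ f) (g : T ⟶ S₁) (hg : ModPair.IsAmbient J I₁ g)
    (σ : S₁ ⟶ S₀) (hσ : ModPair.IsAmbient I₁ I₀ σ)
    (π₁ : Y₁ ⟶ ModPair.mprod f g I J) (K₁ : Y₁.IdealSheafData) (hY₁ : ModPair.IsAmbProd f g I J π₁ K₁)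
    (π₀ : Y₀ ⟶ ModPair.mprod (f ≫ σ) (g ≫ σ) I J) (K₀ : Y₀.IdealSheafData)
    (hY₀ : ModPair.IsAmbProd (f ≫ σ) (g ≫ σ) I J π₀ K₀) :
    (∃! φ : Y₁ ⟶ Y₀, φ ≫ π₀ ≫ ModPair.mprodι (f ≫ σ) (g ≫ σ) I J =
        π₁ ≫ ModPair.mprodι f g I J ≫ pullback.mapDesc f g σ) ∧
      ∀ φ : Y₁ ⟶ Y₀, φ ≫ π₀ ≫ ModPair.mprodι (f ≫ σ) (g ≫ σ) I J =
          π₁ ≫ ModPair.mprodι f g I J ≫ pullback.mapDesc f g σ →
        ModPair.IsMinimal K₁ K₀ φ := by
  set θ := π₁ ≫ ModPair.mprodι f g I J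
  obtain ⟨c, hc⟩ := exists_lift_mprod (f ≫ σ) (g ≫ σ) I J (isEff_ambProd f g I J π₁ hX hT hY₁)
    (θ ≫ pullback.mapDesc f g σ)
    (by
      show _ ≤ _
      rw [ambProd_mod f g I J π₁ hY₁]
      exact inf_le_left.trans (le_of_eq (congrArg I.comap (by simp only [θ, Category.assoc, mapDesc_fst, mapDesc_snd]))))
    (by
      show _ ≤ _
      rw [ambProd_mod f g I J π₁ hY₁]
      exact inf_le_right.trans (le_of_eq (congrArg J.comap (by simp only [θ, Category.assoc, mapDesc_fst, mapDesc_snd]))))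
  have hcentre : (ModPair.prodCentre (f ≫ σ) (g ≫ σ) I J).comap c = (ModPair.prodCentre f g I J).comap π₁ := by
    rw [comap_prodCentre, comap_prodCentre, reassoc_of% hc, reassoc_of% hc]
    simp only [θ, Category.assoc, mapDesc_fst, mapDesc_snd]
  obtain ⟨φ, hφ, huniq⟩ := hY₀.1.2 _ c (hcentre ▸ hY₁.1.1)
  have key : ∀ ψ : Y₁ ⟶ Y₀, ψ ≫ π₀ ≫ ModPair.mprodι (f ≫ σ) (g ≫ σ) I J =
      π₁ ≫ ModPair.mprodι f g I J ≫ pullback.mapDesc f g σ → ψ ≫ π₀ = c := fun ψ hψ => by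
    rw [← cancel_mono (ModPair.mprodι (f ≫ σ) (g ≫ σ) I J), hc, Category.assoc, hψ, Category.assoc]
  refine ⟨⟨φ, ?_, fun ψ hψ => huniq ψ (key ψ hψ)⟩, fun ψ hψ => ?_⟩
  · show φ ≫ π₀ ≫ _ = _
    rw [reassoc_of% hφ, hc, Category.assoc]
  · show K₁ = K₀.comap ψ
    refine mul_right_cancel_eff hY₁.1.1 ?_
    have e := key ψ hψ
    have h0 := congrArg (fun L => L.comap ψ) hY₀.2
    simp only [H29Blow.comap_mul, ← Scheme.IdealSheafData.comap_comp, reassoc_of% e, e] at h0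
    rw [hcentre] at h0
    rw [h0, hY₁.2]
    simp only [← Scheme.IdealSheafData.comap_comp, reassoc_of% hc]
    simp only [θ, Category.assoc, mapDesc_fst, mapDesc_snd]

end Groth.Agent.S18755
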