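import Groth.Statements.S18758
import Groth.Agent.H26ModPair.Pullback

set_option autoImplicit false
universe w v u
open CategoryTheory CategoryTheory.Limits AlgebraicGeometry TopologicalSpace
open ModPair

namespace Groth.Agent.S18758

variable (S : ModPair.Pair.{u})

/-- Objects of finite type over `S`. -/
abbrev Ft : ObjectProperty (Over S) := fun X : Over S => LocallyOfFiniteType X.hom.hom ∧ QuasiCompact X.hom.hom

/-- Admissible blow-ups between them. -/
abbrev Adm : MorphismProperty (Ft S).FullSubcategory :=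
  ((ModPair.Pair.admBlowup.{u}).inverseImage (Over.forget S)).inverseImage (Ft S).ι

variable {S}

lemma ft_comp (X : (Ft S).FullSubcategory) {Z : ModPair.Pair.{u}} (σ : Z ⟶ X.obj.left)
    (hσ : ModPair.Pair.admBlowup σ) : Ft S (Over.mk (σ ≫ X.obj.hom)) := by
  haveI : IsProper σ.hom := hσ.2.1
  haveI := X.property.1
  haveI := X.property.2
  exact ⟨show LocallyOfFiniteType (σ.hom ≫ X.obj.hom.hom) from inferInstance,
    show QuasiCompact (σ.hom ≫ X.obj.hom.hom) from inferInstance⟩

/-- The source of an admissible blow-up of a finite type object. -/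
abbrev src (X : (Ft S).FullSubcategory) {Z : ModPair.Pair.{u}} (σ : Z ⟶ X.obj.left)
    (hσ : ModPair.Pair.admBlowup σ) : (Ft S).FullSubcategory :=
  ⟨Over.mk (σ ≫ X.obj.hom), ft_comp X σ hσ⟩

abbrev srcHom (X : (Ft S).FullSubcategory) {Z : ModPair.Pair.{u}} (σ : Z ⟶ X.obj.left)
    (hσ : ModPair.Pair.admBlowup σ) : src X σ hσ ⟶ X :=
  ObjectProperty.homMk (Over.homMk σ)

lemma calculus : (Adm S).HasRightCalculusOfFractions := by
  haveI := Groth.Agent.S18738.result.{u}
  haveI : (Adm S).IsMultiplicative :=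
    { id_mem := fun X => (ModPair.Pair.admBlowup.{u}).id_mem X.obj.left
      comp_mem := fun f g hf hg => (ModPair.Pair.admBlowup.{u}).comp_mem f.hom.left g.hom.left hf hg }
  refine { exists_rightFraction := ?_, ext := ?_ }
  · intro X Y φ
    obtain ⟨ψ, hψ⟩ := MorphismProperty.LeftFraction.exists_rightFraction
      (W := ModPair.Pair.admBlowup.{u}) ⟨φ.f.hom.left, φ.s.hom.left, φ.hs⟩
    dsimp at hψ
    refine ⟨.mk (X' := src X ψ.s ψ.hs) (srcHom X ψ.s ψ.hs) ψ.hs (ObjectProperty.homMk (Over.homMk ψ.f ?_)), ?_⟩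
    · show ψ.f ≫ Y.obj.hom = ψ.s ≫ X.obj.hom
      rw [← Over.w φ.f.hom, ← Over.w φ.s.hom]
      exact ((reassoc_of% hψ) _).symm
    · ext1
      ext1
      exact hψ
  · intro X Y Y' f₁ f₂ s hs he
    obtain ⟨Z, t, ht, hte⟩ := MorphismProperty.HasRightCalculusOfFractions.ext (W := ModPair.Pair.admBlowup.{u}) f₁.hom.left f₂.hom.left s.hom.left hs
      (congrArg (fun k => k.hom.left) he)
    exact ⟨src X t ht, srcHom X t ht, ht, by ext1; ext1; exact hte⟩

/-- Let S be a modulus pair and PSch_S the full subcategory of the slice category of modulus pairs over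
S on the objects whose structure morphism is of finite type (locally of finite type and
quasi-compact); let Σ_ft be the class of morphisms of PSch_S whose underlying morphism of modulus
pairs is an abstract admissible blow-up, and Q the localization functor of modulus pairs at all
abstract admissible blow-ups. Then the canonical functor from the localization of PSch_S at Σ_ft to
the slice category over Q S is fully faithful, so that it identifies the localization with the full
subcategory MSch_S of objects isomorphic to finite type ones: for every localization functor L' of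
PSch_S at Σ_ft and every functor Φ to the slice over Q S through which the inclusion followed by Q
on slices factors up to isomorphism, Φ is full and faithful. -/
theorem result (S : ModPair.Pair.{u})
    {E : Type v} [Category.{w} E]
    (L' : (ObjectProperty.FullSubcategory
        ((fun X : Over S => LocallyOfFiniteType X.hom.hom ∧ QuasiCompact X.hom.hom) :
          ObjectProperty (Over S))) ⥤ E)
    [L'.IsLocalization ((((ModPair.Pair.admBlowup.{u}).inverseImage (Over.forget S)).inverseImage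
      (ObjectProperty.ι ((fun X : Over S => LocallyOfFiniteType X.hom.hom ∧ QuasiCompact X.hom.hom) :
          ObjectProperty (Over S)))))]
    (Φ : E ⥤ Over ((ModPair.Pair.admBlowup.{u}).Q.obj S))
    (e : L' ⋙ Φ ≅ ObjectProperty.ι ((fun X : Over S => LocallyOfFiniteType X.hom.hom ∧ QuasiCompact X.hom.hom) :
          ObjectProperty (Over S)) ⋙ Over.post (ModPair.Pair.admBlowup.{u}).Q) :
    Φ.Full ∧ Φ.Faithful := by
  haveI := Groth.Agent.S18738.result.{u}
  haveI := calculus (S := S)
  haveI := Localization.essSurj L' (Adm S)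
  let Q := (ModPair.Pair.admBlowup.{u}).Q
  have hnat : ∀ {A B : (Ft S).FullSubcategory} (k : A ⟶ B),
      Φ.map (L'.map k) = e.hom.app A ≫ (Over.post Q).map k.hom ≫ e.inv.app B := fun {A B} k => by
    have h1 : Φ.map (L'.map k) ≫ e.hom.app B = e.hom.app A ≫ (Over.post Q).map k.hom := e.hom.naturality k
    rw [← reassoc_of% h1]
    erw [e.hom_inv_id_app, Category.comp_id]
  have hfull : ∀ (A B : (Ft S).FullSubcategory) (φ : Φ.obj (L'.obj A) ⟶ Φ.obj (L'.obj B)),
      ∃ m : L'.obj A ⟶ L'.obj B, Φ.map m = φ := by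
    intro A B φ
    let ψ : (Over.post Q).obj A.obj ⟶ (Over.post Q).obj B.obj := e.inv.app A ≫ φ ≫ e.hom.app B
    let l : Q.obj A.obj.left ⟶ Q.obj B.obj.left := ψ.left
    have hw : l ≫ Q.map B.obj.hom = Q.map A.obj.hom := Over.w ψ
    obtain ⟨χ, hχ⟩ := Localization.exists_rightFraction Q ModPair.Pair.admBlowup l
    have hs : Q.map χ.s ≫ l = Q.map χ.f := by
      rw [hχ]; exact χ.map_s_comp_map Q (Localization.inverts Q _)
    have h2 : Q.map (χ.s ≫ A.obj.hom) = Q.map (χ.f ≫ B.obj.hom) := by
      rw [Q.map_comp, Q.map_comp, ← hw, ← hs, Category.assoc]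
    obtain ⟨Z, t, ht, hte⟩ := (MorphismProperty.map_eq_iff_precomp Q ModPair.Pair.admBlowup _ _).1 h2
    have hσ : ModPair.Pair.admBlowup (t ≫ χ.s) := (ModPair.Pair.admBlowup.{u}).comp_mem _ _ ht χ.hs
    let f' : src A (t ≫ χ.s) hσ ⟶ B := ObjectProperty.homMk (Over.homMk (t ≫ χ.f)
      (show (t ≫ χ.f) ≫ B.obj.hom = (t ≫ χ.s) ≫ A.obj.hom by rw [Category.assoc, Category.assoc, hte]))
    haveI : IsIso (L'.map (srcHom A (t ≫ χ.s) hσ)) := Localization.inverts L' (Adm S) _ hσ
    refine ⟨inv (L'.map (srcHom A (t ≫ χ.s) hσ)) ≫ L'.map f', ?_⟩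
    have key : (Over.post Q).map f'.hom = (Over.post Q).map (srcHom A (t ≫ χ.s) hσ).hom ≫ ψ := by
      ext
      show Q.map (t ≫ χ.f) = Q.map (t ≫ χ.s) ≫ l
      rw [Q.map_comp, Q.map_comp, Category.assoc, hs]
    rw [Φ.map_comp, Functor.map_inv, IsIso.inv_comp_eq, hnat, hnat, key]
    simp only [ψ, Category.assoc]
    erw [e.hom_inv_id_app, Category.comp_id]
  have hfaith : ∀ (A B : (Ft S).FullSubcategory) (m₁ m₂ : L'.obj A ⟶ L'.obj B), Φ.map m₁ = Φ.map m₂ → m₁ = m₂ := by
    intro A B m₁ m₂ h
    obtain ⟨Z, σ, a, b, hσ, ha, hb⟩ := Groth.Agent.H26ModPair.exists_common_denominator L' (Adm S) m₁ m₂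
    haveI : IsIso (L'.map σ) := Localization.inverts L' (Adm S) _ hσ
    have h1 : Φ.map (L'.map a) = Φ.map (L'.map b) := by rw [← ha, ← hb, Φ.map_comp, Φ.map_comp, h]
    rw [hnat, hnat, cancel_epi, cancel_mono] at h1
    have h2 : Q.map a.hom.left = Q.map b.hom.left := congrArg CommaMorphism.left h1
    obtain ⟨Z', t, ht, hte⟩ := (MorphismProperty.map_eq_iff_precomp Q ModPair.Pair.admBlowup _ _).1 h2
    have h3 : L'.map a = L'.map b := (MorphismProperty.map_eq_iff_precomp L' (Adm S) a b).2
      ⟨_, srcHom Z t ht, ht, by ext1; ext1; exact hte⟩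
    rw [← cancel_epi (L'.map σ), ha, hb, h3]
  refine ⟨⟨fun {A B} φ => ?_⟩, ⟨fun {A B} m₁ m₂ h => ?_⟩⟩
  · let eA := L'.objObjPreimageIso A
    let eB := L'.objObjPreimageIso B
    obtain ⟨m, hm⟩ := hfull _ _ (Φ.map eA.hom ≫ φ ≫ Φ.map eB.inv)
    exact ⟨eA.inv ≫ m ≫ eB.hom, by simp [hm, ← Φ.map_comp]⟩
  · let eA := L'.objObjPreimageIso A
    let eB := L'.objObjPreimageIso B
    have := hfaith _ _ (eA.hom ≫ m₁ ≫ eB.inv) (eA.hom ≫ m₂ ≫ eB.inv) (by simp [h])
    rwa [cancel_epi, cancel_mono] at this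

end Groth.Agent.S18758
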