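import Groth.Statements.S18759
import Groth.Agent.H26MPA.Basic
import Groth.Agent.H26ModPair.Basic
import Groth.Agent.H7Lim.Proper.StructureMap

set_option autoImplicit false
universe u
open CategoryTheory CategoryTheory.Limits AlgebraicGeometry TopologicalSpace
open ModPair

namespace Groth.Agent.S18759

set_option backward.isDefEq.respectTransparency false
set_option backward.defeqAttrib.useBackward true

open Groth.Agent.H7Lim Groth.Agent.H26MPA

/-- The system of finite type ideals of a closed subscheme, over the base. -/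
noncomputable def isLimitMap {X' Y : Scheme.{u}} (f' : X' ⟶ Y) (J : X'.IdealSheafData)
    [CompactSpace X'] [QuasiSeparatedSpace X'] :
    IsLimit ((Over.map f').mapCone (ftConeOver J)) where
  lift s := Over.homMk ((isLimitFtCone J).lift
      { pt := s.pt.left
        π :=
          { app := fun K ↦ (s.π.app K).left
            naturality := fun K L a ↦ by
              have := congr(($(s.w a)).left)
              dsimp [ftSystemOver, ftSystem] at this ⊢
              rw [Category.id_comp]; exact this.symm } }) (by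
        let J₀ : (FTIdeal J)ᵒᵖ := Classical.arbitrary _
        show _ ≫ J.subschemeι ≫ f' = _
        rw [← show (s.π.app J₀).left ≫ ((ftSystemOver J ⋙ Over.map f').obj J₀).hom = s.pt.hom from
          Over.w (s.π.app J₀)]
        have h1 : J.subschemeι = (ftCone J).π.app J₀ ≫ J₀.unop.1.subschemeι :=
          (Scheme.IdealSheafData.inclusion_subschemeι J₀.unop.2.1).symm
        rw [h1, Category.assoc, (isLimitFtCone J).fac_assoc]
        rfl)
  fac s K := Over.OverMorphism.ext ((isLimitFtCone J).fac _ K)
  uniq s m hm := Over.OverMorphism.ext ((isLimitFtCone J).hom_ext fun K ↦ by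
      dsimp
      rw [(isLimitFtCone J).fac]
      exact congr(($(hm K)).left))

theorem isClosedImmersion_inclusion {X' : Scheme.{u}} {K L : X'.IdealSheafData} (h : K ≤ L) :
    IsClosedImmersion (Scheme.IdealSheafData.inclusion h) := by
  haveI : IsClosedImmersion (Scheme.IdealSheafData.inclusion h ≫ K.subschemeι) := by
    rw [Scheme.IdealSheafData.inclusion_subschemeι]; infer_instance
  exact IsClosedImmersion.of_comp_isClosedImmersion _ K.subschemeι

/-- Let (X, I_X) and (Y, I_Y) be modulus pairs with X, Y quasi-compact and quasi-separated, and f : X ⟶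
Y an ambient morphism (modulus condition I_X ≤ I_Y.comap f) which is locally of finite type. Then X
⟶ Y is a cofiltered limit of Y-schemes X_i such that: (1) every X_i ⟶ Y is of finite presentation
and all transition maps X_i ⟶ X_j and projections X ⟶ X_i are closed immersions; (2) every X_i
carries a locally principal quasi-coherent ideal sheaf J_i whose pull-back to X is I_X and whose
pull-back along each transition map X_i ⟶ X_j of J_j is J_i; (3) every X_i ⟶ Y satisfies the modulus
condition for J_i, and if f is minimal all X_i ⟶ Y are minimal; (4) if f is proper all X_i ⟶ Y are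
proper; (5) if f is minimal and an isomorphism over the interior of Y, every X_i ⟶ Y is an
isomorphism over the interior of Y. (Part (5) is given here in the minimal case, where the interior
of (X_i, J_i) is the preimage of the interior of Y.) -/
theorem result {X Y : Scheme.{u}}
    [CompactSpace X] [QuasiSeparatedSpace X] [CompactSpace Y] [QuasiSeparatedSpace Y]
    (IX : X.IdealSheafData) (IY : Y.IdealSheafData) (hX : BlowUp.IsEffCartierIdeal IX)
    (hY : BlowUp.IsEffCartierIdeal IY) (f : X ⟶ Y) (hf : ModPair.IsAmbient IX IY f)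
    [LocallyOfFiniteType f] :
    ∃ (I : Type u) (_ : SmallCategory I) (_ : IsCofiltered I) (D : I ⥤ Over Y) (c : Cone D)
      (_ : IsLimit c) (e : c.pt ≅ Over.mk f) (J : ∀ i, (D.obj i).left.IdealSheafData),
      (∀ i, LocallyOfFinitePresentation (D.obj i).hom ∧ QuasiCompact (D.obj i).hom ∧
          QuasiSeparated (D.obj i).hom) ∧
        (∀ (i j : I) (t : i ⟶ j), IsClosedImmersion (D.map t).left) ∧
        (∀ i, IsClosedImmersion (c.π.app i).left) ∧
        (∀ i, Curv2.IsLocPrincipal (J i)) ∧
        (∀ i, IX = (J i).comap (e.inv.left ≫ (c.π.app i).left)) ∧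
        (∀ (i j : I) (t : i ⟶ j), J i = (J j).comap (D.map t).left) ∧
        (∀ i, ModPair.IsAmbient (J i) IY (D.obj i).hom) ∧
        (ModPair.IsMinimal IX IY f → ∀ i, ModPair.IsMinimal (J i) IY (D.obj i).hom) ∧
        (IsProper f → ∀ i, IsProper (D.obj i).hom) ∧
        (ModPair.IsMinimal IX IY f → IsIso (f ∣_ ModPair.interior IY) →
          ∀ i, IsIso ((D.obj i).hom ∣_ ModPair.interior IY)) := by
  classical
    obtain ⟨X', f', j, hlfp, hqc, hqs, hX'c, hX'q, hj, hjf, -⟩ :=
      Approx.exists_isClosedImmersion_fp f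
    subst hjf
    obtain ⟨J, hJfg, hJ⟩ := exists_ft_extension j IX (fg_of_effCartier hX)
    have hM : ∀ V : X'.affineOpens, ((IY.comap f').ideal V).FG := fg_comap f' IY (fg_of_effCartier hY)
    have hcM : (IY.comap f').comap j = IY.comap (j ≫ f') := (Scheme.IdealSheafData.comap_comp _ _ _).symm
    obtain ⟨K₁, hK₁⟩ := exists_locPrincipal j IX hX J hJ hJfg
    obtain ⟨K₂, hK₂⟩ := exists_comap_le j J (IY.comap f') hJfg (by rw [hJ, hcM]; exact hf)
    obtain ⟨K₃, hK₃⟩ : ∃ K₃ : FTIdeal j.ker, ModPair.IsMinimal IX IY (j ≫ f') →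
        ∀ K : FTIdeal j.ker, K₃ ≤ K →
          (IY.comap f').comap K.1.subschemeι ≤ J.comap K.1.subschemeι := by
      by_cases h : ModPair.IsMinimal IX IY (j ≫ f')
      · obtain ⟨K₃, hK₃⟩ := exists_comap_le j (IY.comap f') J hM
          (by rw [hJ, hcM]; exact (le_of_eq h.symm))
        exact ⟨K₃, fun _ => hK₃⟩
      · exact ⟨Classical.arbitrary _, fun h' => absurd h' h⟩
    obtain ⟨K₄, hK₄⟩ : ∃ K₄ : FTIdeal j.ker, IsProper (j ≫ f') →
        ∀ K : FTIdeal j.ker, K₄ ≤ K → IsProper (K.1.subschemeι ≫ f') := by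
      by_cases h : IsProper (j ≫ f')
      · obtain ⟨hc'⟩ := Approx.nonempty_isLimit_forget (isLimitMap f' j.ker)
        let E := (ftSystemOver j.ker ⋙ Over.map f') ⋙ Over.forget Y
        haveI hE : ∀ (a b : (FTIdeal j.ker)ᵒᵖ) (g : a ⟶ b), IsClosedImmersion (E.map g) := fun a b g =>
          isClosedImmersion_ftSystem_map j.ker g
        haveI : ∀ (a b : (FTIdeal j.ker)ᵒᵖ) (g : a ⟶ b), IsAffineHom (E.map g) := fun a b g => by
          haveI := hE a b g; infer_instance
        haveI : ∀ a, CompactSpace (E.obj a) := fun a =>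
          QuasiCompact.compactSpace_of_compactSpace a.unop.1.subschemeι
        haveI : ∀ a, QuasiSeparatedSpace (E.obj a) := fun a =>
          quasiSeparatedSpace_of_quasiSeparated a.unop.1.subschemeι
        let t : ∀ a, E.obj a ⟶ Y := fun a => a.unop.1.subschemeι ≫ f'
        haveI : ∀ a, LocallyOfFiniteType (t a) := fun a =>
          inferInstanceAs (LocallyOfFiniteType (a.unop.1.subschemeι ≫ f'))
        let a₀ : (FTIdeal j.ker)ᵒᵖ := Classical.arbitrary _
        haveI : IsProper (((Over.forget Y).mapCone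
            ((Over.map f').mapCone (ftConeOver j.ker))).π.app a₀ ≫ t a₀) := by
          show IsProper (Scheme.IdealSheafData.inclusion a₀.unop.2.1 ≫ a₀.unop.1.subschemeι ≫ f')
          rw [Scheme.IdealSheafData.inclusion_subschemeι_assoc,
            ← MorphismProperty.cancel_left_of_respectsIso @IsProper j.toImage]
          rw [show j.toImage ≫ j.ker.subschemeι ≫ f' = j ≫ f' from j.toImage_imageι_assoc f']
          exact h
        obtain ⟨a₁, ha₁⟩ := exists_isProper_structureMap
          (c := (Over.forget Y).mapCone ((Over.map f').mapCone (ftConeOver j.ker))) t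
          (fun {a b} φ => Over.w ((ftSystemOver j.ker ⋙ Over.map f').map φ)) hc' a₀
        exact ⟨a₁.unop, fun _ K hK => ha₁ (Opposite.op K) (homOfLE hK).op⟩
      · exact ⟨Classical.arbitrary _, fun h' => absurd h' h⟩
    obtain ⟨K₅, hK₅⟩ : ∃ K₅ : FTIdeal j.ker, IsIso ((j ≫ f') ∣_ ModPair.interior IY) →
        ∀ K : FTIdeal j.ker, K₅ ≤ K →
          K.1.comap (f' ⁻¹ᵁ ModPair.interior IY).ι = j.ker.comap (f' ⁻¹ᵁ ModPair.interior IY).ι := by
      by_cases h : IsIso ((j ≫ f') ∣_ ModPair.interior IY)
      · haveI := H26ModPair.quasiCompact_interior hY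
        have hU : IsCompact (ModPair.interior IY : Set Y) := by
          haveI : CompactSpace (ModPair.interior IY) :=
            QuasiCompact.compactSpace_of_compactSpace (ModPair.interior IY).ι
          exact isCompact_iff_compactSpace.2 ‹_›
        obtain ⟨K₅, hK₅⟩ := exists_comap_ι_eq j.ker (f' ⁻¹ᵁ ModPair.interior IY)
          (QuasiCompact.isCompact_preimage _ (ModPair.interior IY).2 hU)
          (fun V hV => ker_fg_over j f' _ h V hV)
        exact ⟨K₅, fun _ => hK₅⟩
      · exact ⟨Classical.arbitrary _, fun h' => absurd h' h⟩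
    obtain ⟨K₀, hK₀⟩ := exists_upper ![K₁, K₂, K₃, K₄, K₅]
    let I := {K : FTIdeal j.ker // K₀ ≤ K}
    haveI : Nonempty I := ⟨⟨K₀, le_rfl⟩⟩
    haveI : IsDirected I (fun a b => a ≤ b) := ⟨fun a b => by
      obtain ⟨k, hk₁, hk₂⟩ := directed_of (fun a b : FTIdeal j.ker => a ≤ b) a.1 b.1
      exact ⟨⟨k, a.2.trans hk₁⟩, hk₁, hk₂⟩⟩
    have hmono : Monotone (Subtype.val : I → FTIdeal j.ker) := fun _ _ h => h
    haveI := Approx.initial_op_of_cofinal _ hmono fun k => by
      obtain ⟨l, hl₁, hl₂⟩ := directed_of (fun a b : FTIdeal j.ker => a ≤ b) K₀ k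
      exact ⟨⟨l, hl₁⟩, hl₂⟩
    refine ⟨Iᵒᵖ, inferInstance, inferInstance, hmono.functor.op ⋙ ftSystemOver j.ker ⋙ Over.map f',
      ((Over.map f').mapCone (ftConeOver j.ker)).whisker hmono.functor.op,
      (Functor.Initial.isLimitWhiskerEquiv hmono.functor.op _).symm (isLimitMap f' j.ker),
      (Over.isoMk (asIso j.toImage) (j.toImage_imageι_assoc f')).symm,
      fun i => J.comap i.unop.1.1.subschemeι, fun i => ?_, fun i k t => ?_, fun i => ?_, fun i => ?_,
      fun i => ?_, fun i k t => ?_, fun i => ?_, fun h i => ?_, fun h i => ?_, fun h h' i => ?_⟩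
    · haveI : LocallyOfFinitePresentation i.unop.1.1.subschemeι :=
        locallyOfFinitePresentation_of_ker_fg _ fun U => by
          rw [Scheme.IdealSheafData.ker_subschemeι]; exact i.unop.1.2.2 U
      exact ⟨inferInstanceAs (LocallyOfFinitePresentation (i.unop.1.1.subschemeι ≫ f')),
        inferInstanceAs (QuasiCompact (i.unop.1.1.subschemeι ≫ f')),
        inferInstanceAs (QuasiSeparated (i.unop.1.1.subschemeι ≫ f'))⟩
    · exact isClosedImmersion_ftSystem_map j.ker (hmono.functor.op.map t)
    · exact isClosedImmersion_inclusion _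
    · exact hK₁ _ ((hK₀ 0).trans i.unop.2)
    · rw [← Scheme.IdealSheafData.comap_comp]
      show IX = J.comap ((j.toImage ≫ Scheme.IdealSheafData.inclusion _) ≫ i.unop.1.1.subschemeι)
      rw [Category.assoc, Scheme.IdealSheafData.inclusion_subschemeι]
      exact hJ.symm.trans (congrArg (J.comap ·) j.toImage_imageι.symm)
    · rw [← Scheme.IdealSheafData.comap_comp]
      exact congrArg (J.comap ·) (Scheme.IdealSheafData.inclusion_subschemeι _).symm
    · show J.comap _ ≤ IY.comap (i.unop.1.1.subschemeι ≫ f')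
      rw [Scheme.IdealSheafData.comap_comp]
      exact hK₂ _ ((hK₀ 1).trans i.unop.2)
    · show J.comap _ = IY.comap (i.unop.1.1.subschemeι ≫ f')
      rw [Scheme.IdealSheafData.comap_comp]
      exact le_antisymm (hK₂ _ ((hK₀ 1).trans i.unop.2)) (hK₃ h _ ((hK₀ 2).trans i.unop.2))
    · exact hK₄ h _ ((hK₀ 3).trans i.unop.2)
    · have hi := isIso_inclusion_restrict (i.unop.1.2.1) (f' ⁻¹ᵁ ModPair.interior IY)
        (hK₅ h' _ ((hK₀ 4).trans i.unop.2))
      show IsIso ((i.unop.1.1.subschemeι ≫ f') ∣_ ModPair.interior IY)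
      have e : (j ≫ f') = (j.toImage ≫ Scheme.IdealSheafData.inclusion i.unop.1.2.1) ≫
          (i.unop.1.1.subschemeι ≫ f') := by
        rw [Category.assoc, Scheme.IdealSheafData.inclusion_subschemeι_assoc]
        exact (j.toImage_imageι_assoc f').symm
      rw [e, morphismRestrict_comp (j.toImage ≫ _) (i.unop.1.1.subschemeι ≫ f'),
        morphismRestrict_comp j.toImage] at h'
      haveI : IsIso (Scheme.IdealSheafData.inclusion i.unop.1.2.1 ∣_
          ((i.unop.1.1.subschemeι ≫ f') ⁻¹ᵁ ModPair.interior IY)) := hi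
      haveI : IsIso (j.toImage ∣_ (Scheme.IdealSheafData.inclusion i.unop.1.2.1 ⁻¹ᵁ
          ((i.unop.1.1.subschemeι ≫ f') ⁻¹ᵁ ModPair.interior IY))) := inferInstance
      exact IsIso.of_isIso_comp_left
        (j.toImage ∣_ _ ≫ Scheme.IdealSheafData.inclusion i.unop.1.2.1 ∣_ _) _

end Groth.Agent.S18759
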