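import Groth.Statements.S18763
import Mathlib
import Groth.Agent.H19Grp.ActionKernel

set_option autoImplicit false
set_option linter.style.haveILetI false
set_option backward.isDefEq.respectTransparency false
universe u
open CategoryTheory CategoryTheory.Limits MonoidalCategory CartesianMonoidalCategory MonObj GrpObj AlgebraicGeometry
open AlgGrp

namespace Groth.Agent.S18763

/-- Let G be a finite group scheme over a field k and H a closed subgroup scheme of G, and let (Q, q₀)
with its G-action be the homogeneous space G/H for the fppf topology (the orbit map of q₀ is an fppf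
H-torsor onto Q). Let N be a closed subgroup scheme of G which is the kernel of the action of G on
Q: a point g of G with values in a k-scheme T factors through N exactly when g acts as the identity
on all points of Q with values in T-schemes. Then N (the core of H in G) is normal in G, is
contained in H, and contains every closed normal subgroup scheme of G which is contained in H. (The
published definition takes the core to be the kernel of the linear representation of G on the
coordinate ring of G/H; this is the same subgroup as the kernel of the action on G/H used here.) -/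
theorem result
    (k : Type u) [Field k]
    (G : Over (Spec (CommRingCat.of k))) [GrpObj G] [IsFinite G.hom]
    (H : Over (Spec (CommRingCat.of k))) [GrpObj H] (i : H ⟶ G) [IsMonHom i] [IsClosedImmersion i.left]
    (Q : Over (Spec (CommRingCat.of k))) (aQ : AlgGrp.Action G Q) (q₀ : 𝟙_ (Over (Spec (CommRingCat.of k))) ⟶ Q)
    (hQ : ChGrp.IsHomog Scheme.fppfPrecoverage i aQ q₀)
    (N : Over (Spec (CommRingCat.of k))) [GrpObj N] (n : N ⟶ G) [IsMonHom n] [IsClosedImmersion n.left]
    (hN : ∀ (T : Over (Spec (CommRingCat.of k))) (g : T ⟶ G),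
      (∃ g' : T ⟶ N, g' ≫ n = g) ↔
        ∀ (T' : Over (Spec (CommRingCat.of k))) (v : T' ⟶ T) (q : T' ⟶ Q), lift (v ≫ g) q ≫ aQ.act = q) :
    AlgGrp.IsNormalHom n ∧ (∃ m : N ⟶ H, m ≫ i = n) ∧
      ∀ (N' : Over (Spec (CommRingCat.of k))) [GrpObj N'] (n' : N' ⟶ G) [IsMonHom n'] [IsClosedImmersion n'.left],
        AlgGrp.IsNormalHom n' → (∃ m' : N' ⟶ H, m' ≫ i = n') → ∃ r : N' ⟶ N, r ≫ n = n' := by
  refine ⟨H19Grp.ActionKernel.isNormal_kernel aQ n hN, H19Grp.ActionKernel.kernel_le aQ q₀ i hQ.2.1 n hN,
    fun N' _ n' _ _ hn' hle => ?_⟩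
  obtain ⟨f, hf⟩ := hle
  refine (hN N' n').2 fun T' s x => H19Grp.over_eq_of_fppf_points _ _ fun t => ?_
  obtain ⟨W, π, g, h1, h2, h3, hg⟩ := H19Grp.exists_lift_isHomog i aQ q₀ hQ x t
  refine ⟨W, π, h1, h2, h3, ?_⟩
  rw [← Category.assoc, comp_lift, ← hg, ← Category.assoc]
  exact H19Grp.ActionKernel.act_eq_of_normal_le aQ q₀ i hQ.2.1 n' hn' f hf (π ≫ s) g

end Groth.Agent.S18763
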