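import Groth.Statements.S1877
import Groth.Agent.H13Grpd.OfScheme

set_option autoImplicit false
universe u
open CategoryTheory CategoryTheory.Limits AlgebraicGeometry
open Grpd

namespace Groth.Agent.S1877

/-- Let (U, R, s, t, c) be a groupoid scheme over S with U and R affine, s and t finite locally free,
and j = (t, s) : R → U ×_S U a monomorphism (so an equivalence relation). Then U → M = Spec C is
finite locally free and (t, s) identifies R with U ×_M U. (The source's final clause, that M is the
fppf quotient sheaf U/R, is not restated.) (A groupoid scheme carries U, R, s, t, c, e, i over S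
with the groupoid axioms on T-points; 'finite locally free' is finite, flat and locally of finite
presentation; C ⊂ Γ(U) is the ring of functions a with s♯(a) = t♯(a) and M = Spec C.) -/
theorem result (S : Scheme.{u}) (G : Grpd.GroupoidScheme S) [IsAffine G.U] [IsAffine G.R] [IsFinite G.s] [Flat G.s] [LocallyOfFinitePresentation G.s] [IsFinite G.t] [Flat G.t] [LocallyOfFinitePresentation G.t] [Mono G.j] : (IsFinite G.toQuot ∧ Flat G.toQuot ∧ LocallyOfFinitePresentation G.toQuot) ∧ ∃ φ : G.R ≅ pullback G.toQuot G.toQuot, φ.hom ≫ pullback.fst G.toQuot G.toQuot = G.t ∧ φ.hom ≫ pullback.snd G.toQuot G.toQuot = G.s := by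
  obtain ⟨h1, -, sq⟩ := Groth.Agent.H13Grpd.finLocFree_and_isPullback_toQuot G
  exact ⟨h1, sq.isoPullback, sq.isoPullback_hom_fst, sq.isoPullback_hom_snd⟩

end Groth.Agent.S1877
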