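import Groth.Statements.S18775
import Groth.Agent.H29GenusOne.Vanishing
import Groth.Agent.H29GenusZero.Basic
import Groth.Agent.H29RR.Generation
import Groth.Agent.H29RR.Invert
import Groth.Agent.H29RR.EvalSub
import Groth.Agent.H16Derived.KFlat.SheafTensor

set_option autoImplicit false
universe u
open CategoryTheory CategoryTheory.Limits AlgebraicGeometry
open VBCurve

namespace Groth.Agent.S18775

/-- Let k be a finite field and C a smooth proper geometrically integral curve over k (proper, smooth
and geometrically integral over k, of dimension one) of genus one, i.e. dim_k H^1(C, O_C) = 1, with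
a k-rational point O (an elliptic curve over k). Let F be a finite locally free O_C-module of rank r
≥ 1 such that F is semistable in the sense that deg G · rk F ≤ deg F · rk G for every finite locally
free submodule G of F of positive rank (the degree of a rank-n locally free module being χ −
n·χ(O_C)), and let L be an invertible O_C-module with deg L ≥ ⌊μ(F)⌋ + 2, equivalently deg F < (deg
L − 1) · r. Then there are an integer M ≥ 1 and a monomorphism from F into the direct sum of M
copies of L. -/
theorem result (k : Type u) [Field k] [Finite k] (X : Scheme.{u}) [X.Over (Spec (CommRingCat.of k))]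
    [IsProper (X ↘ Spec (CommRingCat.of k))] [Smooth (X ↘ Spec (CommRingCat.of k))]
    [GeometricallyIntegral (X ↘ Spec (CommRingCat.of k))] (hdim : topologicalKrullDim ↥X = 1)
    (hg : Curv2.genus k X = 1) (O : Spec (CommRingCat.of k) ⟶ X) (hO : O ≫ (X ↘ Spec (CommRingCat.of k)) = 𝟙 _)
    (F : X.Modules) (r : ℕ) (hr : 0 < r) (hF : FlatMod.IsFinLocFreeOfRank r F)
    (hFss : (∀ (G : X.Modules) (r' : ℕ) (i : G ⟶ F), Mono i → 0 < r' → FlatMod.IsFinLocFreeOfRank r' G →
      Curv2.deg k X G r' * (r : ℤ) ≤ Curv2.deg k X F r * (r' : ℤ)))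
    (L : X.Modules) (hL : PicF.IsInvertible L)
    (hdeg : Curv2.deg k X F r < (Curv2.deg k X L 1 - 1) * (r : ℤ)) :
    ∃ (M : ℕ), 0 < M ∧ ∃ (j : F ⟶ ∐ fun _ : Fin M => L), Mono j := by
  haveI : IsIntegral X := GeometricallyIntegral.isIntegral_of_subsingleton (X ↘ Spec (CommRingCat.of k))
  haveI : GeometricallyConnected (X ↘ Spec (CommRingCat.of k)) := ⟨fun K _ y Y fst snd h => by
    haveI := GeometricallyIntegral.geometrically_isIntegral (f := X ↘ Spec (CommRingCat.of k)) y fst snd h
    infer_instance⟩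
  haveI := H29RR.isNoetherian_of_proper (k := k) (X := X)
  obtain ⟨x, hx, hres, -, -⟩ := H29GenusZero.section_point (k := k) O hO
  haveI : IsRegularLocalRing (X.presheaf.stalk x) :=
    H19Grp.isRegularLocalRing_stalk_of_smooth (X ↘ Spec (CommRingCat.of k)) x
  have hI := H29RR.isInvertible_pt_of_regular (k := k) hdim hx
  have hIc := H29RR.isCoh_idealMod_pt x hx
  obtain ⟨N, hN, ⟨eN⟩⟩ := H29RR.exists_inverse_comm hL
  obtain ⟨J, hJ, ⟨eJ⟩⟩ := H29RR.exists_inverse_comm hI
  have hNd : Curv2.deg k X N 1 = -Curv2.deg k X L 1 := by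
    have h := H29RR.deg_tensor (k := k) hdim.le hL hN
    rw [H29RR.deg_congr (k := k) eN, H29RR.deg_structureModule] at h
    omega
  have hId : Curv2.deg k X (ClSub.idealMod (H29RR.ptIdeal x)) 1 = -1 := by
    have h := (H29RR.twist_point (k := k) hx (H11Ample.isInvertible_structureModule (X := X)) hIc).2.2
    rw [H25Euler.euler_congr (H10Coh.Tw.rightUnitIso (ClSub.idealMod (H29RR.ptIdeal x))), hres] at h
    simp only [Curv2.deg]
    push_cast at h ⊢
    omega
  have hJd : Curv2.deg k X J 1 = 1 := by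
    have h := H29RR.deg_tensor (k := k) hdim.le hI hJ
    rw [H29RR.deg_congr (k := k) eJ, H29RR.deg_structureModule] at h
    omega
  have hT : ∀ (M : X.Modules), FlatMod.IsFinLocFree M → ∀ {A B : X.Modules} (f : A ⟶ B),
      (Mono f → Mono (((DCoh.tensorBi (X := X)).flip.obj M).map f)) ∧
      (Epi f → Epi (((DCoh.tensorBi (X := X)).flip.obj M).map f)) := by
    intro M hM A B f
    refine ⟨fun hf => ?_, fun hf => ?_⟩
    · have hS : (ShortComplex.mk f (cokernel.π f) (cokernel.condition f)).ShortExact :=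
        { exact := ShortComplex.exact_cokernel _ }
      exact (H16Derived.KFlat.Stalk.isFlatObj_of_isFlat
        (H16Derived.KFlat.Stalk.isFlat_of_isFinLocFree hM) _ hS).mono_f
    · have hS : (ShortComplex.mk (kernel.ι f) f (kernel.condition f)).ShortExact :=
        { exact := ShortComplex.exact_kernel _ }
      exact (H16Derived.KFlat.Stalk.isFlatObj_of_isFlat
        (H16Derived.KFlat.Stalk.isFlat_of_isFinLocFree hM) _ hS).epi_g
  have hE : FlatMod.IsFinLocFreeOfRank r (CohB1.tensorMod F N) := H29RR.rank_tensor hF hN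
  have hEss := H29RR.semistable_tensor (k := k) hdim.le hF hFss hN
  have hE' : FlatMod.IsFinLocFreeOfRank r (CohB1.tensorMod (CohB1.tensorMod F N) J) := H29RR.rank_tensor hE hJ
  have hE'ss := H29RR.semistable_tensor (k := k) hdim.le hE hEss hJ
  have hE'd : Curv2.deg k X (CohB1.tensorMod (CohB1.tensorMod F N) J) r =
      Curv2.deg k X (CohB1.tensorMod F N) r + r := by
    rw [H29RR.deg_tensor_bundle (k := k) hdim.le hE hJ, hJd, mul_one]
  have hneg : Curv2.deg k X (CohB1.tensorMod (CohB1.tensorMod F N) J) r < 0 := by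
    rw [hE'd, H29RR.deg_tensor_bundle (k := k) hdim.le hF hN, hNd]
    linarith
  have hO1 := H29RR.rank_one_of_isInvertible (H11Ample.isInvertible_structureModule (X := X))
  have hh0 : Module.finrank k (Coh.HH X (CohB1.tensorMod (CohB1.tensorMod F N) J) 0) = 0 := by
    by_contra hne
    haveI : Nontrivial (Coh.HH X (CohB1.tensorMod (CohB1.tensorMod F N) J) 0) :=
      Module.nontrivial_of_finrank_pos (R := k) (Nat.pos_of_ne_zero hne)
    obtain ⟨g, hg⟩ := H29RR.exists_global_ne_zero _ ‹_›
    let s : Coh.structureModule X ⟶ CohB1.tensorMod (CohB1.tensorMod F N) J := H11Tilde.homOfGlobal _ g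
    have hs : s ≠ 0 := fun h0 => hg (by
      have h := congrArg (fun φ : Coh.structureModule X ⟶ CohB1.tensorMod (CohB1.tensorMod F N) J =>
        φ.app ⊤ (1 : Γ(X, ⊤))) h0
      simpa [s, H11Tilde.homOfGlobal_app] using h)
    obtain ⟨a, b, -, -, hab, -, hb0, hmono, -⟩ := H29RR.exists_image_data (k := k) hdim.le hO1 hE' s
    have := hb0 hs
    have h := hE'ss (Coh.structureModule X) 1 s (hmono (by omega)) one_pos hO1
    rw [H29RR.deg_structureModule, zero_mul, Nat.cast_one, mul_one] at h
    omega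
  obtain ⟨hfin, hhom⟩ := H29GenusOne.finrank_hom_unit (k := k) hdim hg (H29RR.isCoh_of_rank hE)
  obtain ⟨hfin', hhom'⟩ := H29GenusOne.finrank_hom_unit (k := k) hdim hg (H29RR.isCoh_of_rank hE')
  haveI := hfin
  haveI := hfin'
  let b := Module.finBasis k (CohB1.tensorMod F N ⟶ Coh.structureModule X)
  set n := Module.finrank k (CohB1.tensorMod F N ⟶ Coh.structureModule X) with hn
  let j : CohB1.tensorMod F N ⟶ FlatMod.freeMod X n :=
    ∑ l, b l ≫ Sigma.ι (fun _ : Fin n => Coh.structureModule X) l
  have hj : ∀ l, j ≫ H29GenusOne.prj n l = b l := fun l => by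
    simp only [j, Preadditive.sum_comp, Category.assoc, H29GenusOne.ι_prj]
    rw [Finset.sum_eq_single l (fun m _ hm => by simp [hm]) (fun h => absurd (Finset.mem_univ l) h)]
    simp
  obtain ⟨a, c, hK, hQ, hac, -, -, hmono, hdeg⟩ := H29RR.exists_image_data (k := k) hdim.le hE
    (H28RR.LazMuk.rank_freeMod (X := X) n) j
  obtain ⟨hfQ, hhomQ⟩ := H29GenusOne.finrank_hom_unit (k := k) hdim hg (H29RR.isCoh_of_rank hQ)
  have hQ' := H29RR.rank_tensor hQ hJ
  obtain ⟨hfQ', hhomQ'⟩ := H29GenusOne.finrank_hom_unit (k := k) hdim hg (H29RR.isCoh_of_rank hQ')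
  haveI := hfQ
  haveI := hfQ'
  have h1 : n ≤ Module.finrank k (Abelian.image j ⟶ Coh.structureModule X) := by
    refine LinearMap.finrank_le_finrank_of_surjective (f := Linear.leftComp k _ (Abelian.factorThruImage j))
      fun φ => ⟨∑ l, b.repr φ l • (Abelian.image.ι j ≫ H29GenusOne.prj n l), ?_⟩
    rw [map_sum]
    simp only [map_smul, Linear.leftComp_apply, kernel.lift_ι_assoc, hj]
    exact b.sum_repr φ
  have hQc := H29RR.isCoh_of_rank hQ'
  have h2 : Module.finrank k (CohB1.tensorMod (Abelian.image j) J ⟶ Coh.structureModule X) ≤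
      Module.finrank k (CohB1.tensorMod (CohB1.tensorMod F N) J ⟶ Coh.structureModule X) := by
    let π' : CohB1.tensorMod (CohB1.tensorMod F N) J ⟶ CohB1.tensorMod (Abelian.image j) J :=
      ((DCoh.tensorBi (X := X)).flip.obj J).map (Abelian.factorThruImage j)
    haveI : Epi π' := (hT J (H28Pinch.isFinLocFree_of_isInvertible hJ) _).2 inferInstance
    exact LinearMap.finrank_le_finrank_of_injective
      (f := Linear.leftComp k (Coh.structureModule X) π') fun φ ψ h => (cancel_epi π').1 h
  have h3 : Module.finrank k (Coh.HH X (Abelian.image j) 0) ≤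
      Module.finrank k (Coh.HH X (CohB1.tensorMod (Abelian.image j) J) 0) := by
    haveI := H10Coh.finite_HH_proper k X _ hQc 0
    let d : Abelian.image j ≅
        CohB1.tensorMod (ClSub.idealMod (H29RR.ptIdeal x)) (CohB1.tensorMod (Abelian.image j) J) :=
      (H10Coh.Tw.commIso _ _ ≪≫ H10Coh.Tw.assoc (Abelian.image j) J _ ≪≫
        PicGrp.tensorModIso (Iso.refl _) (H10Coh.Tw.commIso _ _ ≪≫ eJ) ≪≫ H10Coh.Tw.rightUnitIso _).symm
    haveI := H29RR.mono_ptIncl (x := x) hQ'
    let i : Abelian.image j ⟶ CohB1.tensorMod (Abelian.image j) J :=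
      d.hom ≫ H29RR.ptIncl x (CohB1.tensorMod (Abelian.image j) J)
    haveI : Mono i := mono_comp _ _
    exact LinearMap.finrank_le_finrank_of_injective (H29RR.hhlin_zero_injective (k := k) i)
  have e1 := H29GenusOne.euler_eq_deg (k := k) hdim hg (CohB1.tensorMod F N) r
  have e2 := H29GenusOne.euler_eq_deg (k := k) hdim hg (CohB1.tensorMod (CohB1.tensorMod F N) J) r
  have e3 := H29GenusOne.euler_eq_deg (k := k) hdim hg (Abelian.image j) c
  have e4 := H29GenusOne.euler_eq_deg (k := k) hdim hg (CohB1.tensorMod (Abelian.image j) J) c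
  rw [H29RR.deg_tensor_bundle (k := k) hdim.le hQ hJ, hJd, mul_one] at e4
  obtain rfl : a = 0 := by omega
  have hn0 : 0 < n := by omega
  haveI := hmono rfl
  let T := (DCoh.tensorBi (X := X)).flip.obj L
  haveI : Mono (T.map j) := (hT L (H28Pinch.isFinLocFree_of_isInvertible hL) j).1 inferInstance
  let eF : F ≅ T.obj (CohB1.tensorMod F N) :=
    ((H10Coh.Tw.assoc F N L) ≪≫ PicGrp.tensorModIso (Iso.refl F) (H10Coh.Tw.commIso N L ≪≫ eN) ≪≫
      H10Coh.Tw.rightUnitIso F).symm
  let eC : T.obj (FlatMod.freeMod X n) ≅ ∐ fun _ : Fin n => L :=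
    PreservesCoproduct.iso T (fun _ : Fin n => Coh.structureModule X) ≪≫
      Sigma.mapIso fun _ => H10Coh.Tw.leftUnitIso L
  exact ⟨n, hn0, eF.hom ≫ T.map j ≫ eC.hom, inferInstance⟩

end Groth.Agent.S18775
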