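import Groth.Statements.S18779
import Groth.Agent.H29GenusOne.HomDual
import Groth.Agent.H29RR.SubBundle

set_option autoImplicit false
universe u
open CategoryTheory CategoryTheory.Limits AlgebraicGeometry
open VBCurve

namespace Groth.Agent.S18779

/-- Let k be a finite field and C a smooth proper geometrically integral curve over k (proper, smooth
and geometrically integral over k, of dimension one) of genus one, i.e. dim_k H^1(C, O_C) = 1, with
a k-rational point O (an elliptic curve over k). Let 0 → A → E → B → 0 be a short exact sequence of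
O_C-modules in which A and B are finite locally free of ranks a ≥ 1 and b ≥ 1, A is semistable in
the sense that deg G · rk A ≤ deg A · rk G for every finite locally free submodule G of A of
positive rank (the degree of a rank-n locally free module being χ − n·χ(O_C)), likewise for B, and
μ(A) > μ(B), that is deg B · a < deg A · b. Then the sequence splits: E → B is a split epimorphism,
so E ≅ A ⊕ B. (This is the case of a two-step filtration; the published statement, that a vector
bundle on an elliptic curve is the direct sum of the graded pieces of its Harder–Narasimhan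
filtration, follows by induction on the length and is not restated in that form.) (The published
setting takes k of characteristic at least 5; the argument does not use this and the row allows
every finite field.) -/
theorem result (k : Type u) [Field k] [Finite k] (X : Scheme.{u}) [X.Over (Spec (CommRingCat.of k))]
    [IsProper (X ↘ Spec (CommRingCat.of k))] [Smooth (X ↘ Spec (CommRingCat.of k))]
    [GeometricallyIntegral (X ↘ Spec (CommRingCat.of k))] (hdim : topologicalKrullDim ↥X = 1)
    (hg : Curv2.genus k X = 1) (O : Spec (CommRingCat.of k) ⟶ X) (hO : O ≫ (X ↘ Spec (CommRingCat.of k)) = 𝟙 _)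
    (T : ShortComplex X.Modules) (hT : T.ShortExact)
    (a b : ℕ) (ha : 0 < a) (hb : 0 < b)
    (hA : FlatMod.IsFinLocFreeOfRank a T.X₁) (hB : FlatMod.IsFinLocFreeOfRank b T.X₃)
    (hAss : (∀ (G : X.Modules) (r' : ℕ) (i : G ⟶ T.X₁), Mono i → 0 < r' → FlatMod.IsFinLocFreeOfRank r' G →
      Curv2.deg k X G r' * (a : ℤ) ≤ Curv2.deg k X T.X₁ a * (r' : ℤ)))
    (hBss : (∀ (G : X.Modules) (r' : ℕ) (i : G ⟶ T.X₃), Mono i → 0 < r' → FlatMod.IsFinLocFreeOfRank r' G →
      Curv2.deg k X G r' * (b : ℤ) ≤ Curv2.deg k X T.X₃ b * (r' : ℤ)))
    (hslope : Curv2.deg k X T.X₃ b * (a : ℤ) < Curv2.deg k X T.X₁ a * (b : ℤ)) :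
    IsSplitEpi T.g := by
  haveI : IsIntegral X := GeometricallyIntegral.isIntegral_of_subsingleton (X ↘ Spec (CommRingCat.of k))
  haveI : GeometricallyConnected (X ↘ Spec (CommRingCat.of k)) := ⟨fun K _ y Y fst snd h => by
    haveI := GeometricallyIntegral.geometrically_isIntegral (f := X ↘ Spec (CommRingCat.of k)) y fst snd h
    infer_instance⟩
  haveI := H29RR.isNoetherian_of_proper (k := k) (X := X)
  obtain ⟨s, hs⟩ := H29GenusOne.exists_section_of_hom_eq_zero (k := k) hdim hg hT (H29RR.isCoh_of_rank hA)
    (H29RR.locFree_of_rank hB) fun ψ => by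
      by_contra hne
      obtain ⟨c, r, -, hI, -, hr0, -, hge⟩ := H29RR.semistable_image_ge (k := k) hdim.le hA hB hAss ψ
      have hr := hr0 hne
      have hle := hBss (Abelian.image ψ) r (Abelian.image.ι ψ) inferInstance hr hI
      have hrZ : (0 : ℤ) < r := by exact_mod_cast hr
      have haZ : (0 : ℤ) < a := by exact_mod_cast ha
      have hbZ : (0 : ℤ) < b := by exact_mod_cast hb
      nlinarith [mul_le_mul_of_nonneg_right hge hbZ.le, mul_le_mul_of_nonneg_right hle haZ.le,
        mul_lt_mul_of_pos_right hslope hrZ]
  exact IsSplitEpi.mk' ⟨s, hs⟩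

end Groth.Agent.S18779
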