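import Groth.Statements.S1878
import Groth.Agent.H13Grpd.Coeq
import Groth.Agent.H13Grpd.CoeqAffine

set_option autoImplicit false
set_option maxHeartbeats 1000000
set_option synthInstance.maxHeartbeats 100000
set_option linter.style.haveILetI false
set_option backward.isDefEq.respectTransparency false
universe u
open CategoryTheory CategoryTheory.Limits AlgebraicGeometry
open Grpd

namespace Groth.Agent.S1878

open Groth.Agent.H13Grpd

/-- Points over an algebraically closed field lift along surjective integral morphisms. -/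
theorem exists_lift_point {k : Type u} [Field k] [IsAlgClosed k] {X Y : Scheme.{u}} (f : X ⟶ Y)
    [IsIntegralHom f] (hf : Function.Surjective f) (m : Spec (CommRingCat.of k) ⟶ Y) :
    ∃ x : Spec (CommRingCat.of k) ⟶ X, x ≫ f = m := by
  obtain ⟨r, hr⟩ : ∃ r, r = pullback.snd f m := ⟨_, rfl⟩
  haveI : IsIntegralHom r := hr ▸ MorphismProperty.pullback_snd (P := @IsIntegralHom) f m inferInstance
  haveI : IsAffine (pullback f m) := isAffine_of_isAffineHom r
  obtain ⟨v, hv⟩ := hf (m (IsLocalRing.closedPoint k))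
  obtain ⟨z, -, -⟩ := Scheme.Pullback.exists_preimage_pullback (f := f) (g := m) v (IsLocalRing.closedPoint k) hv
  obtain ⟨θ, hθ⟩ := Spec.map_surjective ((pullback f m).isoSpec.inv ≫ r)
  haveI : IsIntegralHom (Spec.map θ) := hθ ▸ inferInstance
  letI : Algebra k Γ(pullback f m, ⊤) := θ.hom.toAlgebra
  haveI : Algebra.IsIntegral k Γ(pullback f m, ⊤) := ⟨(IsIntegralHom.SpecMap_iff).1 ‹_›⟩
  haveI : Nontrivial Γ(pullback f m, ⊤) :=
    PrimeSpectrum.nonempty_iff_nontrivial.1 ⟨(pullback f m).isoSpec.hom z⟩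
  obtain ⟨p, hp⟩ := Ideal.exists_maximal Γ(pullback f m, ⊤)
  letI : Field (Γ(pullback f m, ⊤) ⧸ p) := Ideal.Quotient.field p
  let e : k ≃ₐ[k] Γ(pullback f m, ⊤) ⧸ p :=
    AlgEquiv.ofBijective (Algebra.ofId k _) IsAlgClosed.algebraMap_bijective_of_isIntegral
  let χ : Γ(pullback f m, ⊤) →ₐ[k] k := e.symm.toAlgHom.comp (Ideal.Quotient.mkₐ k p)
  refine ⟨(Spec.map (CommRingCat.ofHom χ.toRingHom) ≫ (pullback f m).isoSpec.inv) ≫ pullback.fst f m, ?_⟩
  rw [Category.assoc, pullback.condition, ← hr, Category.assoc, ← Category.assoc _ r m, ← hθ,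
    ← Category.assoc, ← Spec.map_comp]
  rw [show θ ≫ CommRingCat.ofHom χ.toRingHom = 𝟙 _ from CommRingCat.hom_ext (RingHom.ext fun z => χ.commutes z),
    Spec.map_id, Category.id_comp]


/-- Let (U, R, s, t, c) be a groupoid scheme over S with U, R affine and s, t finite locally free, and M
= Spec C. (1) U → M is surjective and two points of U have the same image iff some point of R has
them as target and source. (2) For every algebraically closed field k, M(k) = U(k)/R(k): every
k-point of M lifts to U, and two k-points of U agree in M iff they are the target and source of a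
k-point of R. (A groupoid scheme carries U, R, s, t, c, e, i over S with the groupoid axioms on
T-points; 'finite locally free' is finite, flat and locally of finite presentation; C ⊂ Γ(U) is the
ring of functions a with s♯(a) = t♯(a) and M = Spec C.) -/
theorem result (S : Scheme.{u}) (G : Grpd.GroupoidScheme S) [IsAffine G.U] [IsAffine G.R] [IsFinite G.s] [Flat G.s] [LocallyOfFinitePresentation G.s] [IsFinite G.t] [Flat G.t] [LocallyOfFinitePresentation G.t] : (Function.Surjective G.toQuot ∧ ∀ u₀ u₁ : G.U, G.toQuot u₀ = G.toQuot u₁ ↔ ∃ r : G.R, G.t r = u₀ ∧ G.s r = u₁) ∧ ∀ (k : Type u) [Field k] [IsAlgClosed k], (∀ m : Spec (CommRingCat.of k) ⟶ Spec (CommRingCat.of G.invariants), ∃ x : Spec (CommRingCat.of k) ⟶ G.U, x ≫ G.toQuot = m) ∧ ∀ x₀ x₁ : Spec (CommRingCat.of k) ⟶ G.U, x₀ ≫ G.toQuot = x₁ ≫ G.toQuot ↔ ∃ r : Spec (CommRingCat.of k) ⟶ G.R, r ≫ G.t = x₀ ∧ r ≫ G.s = x₁ := by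
  have hq := isInvMap_toQuot G
  haveI := isIntegralHom_toQuot G
  refine ⟨⟨hq.surjective, fun u₀ u₁ => ⟨hq.orbit u₀ u₁, ?_⟩⟩, fun k _ _ =>
    ⟨exists_lift_point G.toQuot hq.surjective, fun x₀ x₁ => ⟨fun h => ?_, ?_⟩⟩⟩
  · rintro ⟨r, rfl, rfl⟩
    rw [← Scheme.Hom.comp_apply, hq.w]
    rfl
  · haveI : IsIntegralHom (pullback.lift G.t G.s hq.w) := by
      haveI : IsIntegralHom (pullback.lift G.t G.s hq.w ≫ pullback.snd G.toQuot G.toQuot) := by
        rw [pullback.lift_snd]; infer_instance
      exact IsIntegralHom.of_comp _ (pullback.snd G.toQuot G.toQuot)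
    obtain ⟨r, hr⟩ := exists_lift_point (pullback.lift G.t G.s hq.w) (surjective_pair_toQuot G hq.w)
      (pullback.lift x₀ x₁ h)
    exact ⟨r, by simpa using congrArg (· ≫ pullback.fst G.toQuot G.toQuot) hr,
      by simpa using congrArg (· ≫ pullback.snd G.toQuot G.toQuot) hr⟩
  · rintro ⟨r, rfl, rfl⟩
    simp [hq.w]

end Groth.Agent.S1878
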