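import Groth.Statements.S18781
import Groth.Agent.H7VB.Split
-- import your own Groth.Agent.* helpers here

set_option autoImplicit false
universe u
open CategoryTheory CategoryTheory.Limits AlgebraicGeometry
open VBCurve

namespace Groth.Agent.S18781

/-- Let k be a finite field and C a smooth proper geometrically integral curve over k (proper, smooth
and geometrically integral over k, of dimension one) of genus one, i.e. dim_k H^1(C, O_C) = 1, with
a k-rational point O (an elliptic curve over k); here finiteness of k matters. Let E be a finite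
locally free O_C-module of rank 2 which is indecomposable (nonzero, and in any isomorphism E ≅ E₁ ⊕
E₂ one summand is zero) but not geometrically indecomposable: for some field extension K of k the
pull-back of E to C_K = C ×_k Spec K is isomorphic to a direct sum of two nonzero modules. Let k_2
be a degree-2 field extension of k and π : C_{k_2} → C the projection. Then π^*E is isomorphic to a
direct sum of 2 invertible modules on C_{k_2} that are pairwise non-isomorphic and none of which is
isomorphic to π^*L for an invertible O_C-module L. (Field extensions are taken in the universe of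
k.) (The published setting takes k of characteristic at least 5; the argument does not use this and
the row allows every finite field.) -/
theorem result (k : Type u) [Field k] [Finite k] (X : Scheme.{u}) [X.Over (Spec (CommRingCat.of k))]
    [IsProper (X ↘ Spec (CommRingCat.of k))] [Smooth (X ↘ Spec (CommRingCat.of k))]
    [GeometricallyIntegral (X ↘ Spec (CommRingCat.of k))] (hdim : topologicalKrullDim ↥X = 1)
    (hg : Curv2.genus k X = 1) (O : Spec (CommRingCat.of k) ⟶ X) (hO : O ≫ (X ↘ Spec (CommRingCat.of k)) = 𝟙 _)
    (E : X.Modules) (hE : FlatMod.IsFinLocFreeOfRank 2 E)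
    (hind : (¬ IsZero E ∧ ∀ (E₁ E₂ : X.Modules), Nonempty (E ≅ E₁ ⊞ E₂) → IsZero E₁ ∨ IsZero E₂))
    (K : Type u) [Field K] [Algebra k K] (E₁ E₂ : (Curv2.bc k X K).Modules) (hE₁ : ¬ IsZero E₁) (hE₂ : ¬ IsZero E₂)
    (e : (Scheme.Modules.pullback (Curv2.bcFst k X K)).obj E ≅ E₁ ⊞ E₂)
    (k₂ : Type u) [Field k₂] [Algebra k k₂] (hk₂ : Module.finrank k k₂ = 2) :
    ∃ (M : Fin 2 → (Curv2.bc k X k₂).Modules), (∀ i, PicF.IsInvertible (M i)) ∧
      Nonempty ((Scheme.Modules.pullback (Curv2.bcFst k X k₂)).obj E ≅ ∐ M) ∧
      (∀ i j, i ≠ j → ¬ Nonempty (M i ≅ M j)) ∧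
      (∀ (i : Fin 2) (L : X.Modules), PicF.IsInvertible L →
        ¬ Nonempty (M i ≅ (Scheme.Modules.pullback (Curv2.bcFst k X k₂)).obj L)) := by
  exact Groth.Agent.H7VB.splits O hO (n := 2) Nat.prime_two hE hind ⟨K, inferInstance, inferInstance, E₁, E₂, hE₁, hE₂, ⟨e⟩⟩ k₂ hk₂

end Groth.Agent.S18781
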