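import Groth.Statements.S18784
import Groth.Agent.H4RSH.LineSection
import Groth.Agent.H29Curve.FieldFibres
import Groth.Agent.H28Mero.Gen
import Groth.Agent.H10Coh.FibreLift.NearFibre

set_option autoImplicit false
set_option synthInstance.maxHeartbeats 400000
set_option maxHeartbeats 1000000
set_option linter.style.haveILetI false
universe u
open CategoryTheory CategoryTheory.Limits AlgebraicGeometry TopologicalSpace
attribute [local instance] HasDerivedCategory.standard
open Curves

namespace Groth.Agent.S18784

/-- Let k be a perfect field and X a proper scheme over k of dimension one which is geometrically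
connected and geometrically reduced over k, Gorenstein with trivial dualizing sheaf: its dualizing
module ω_X (the degree −1 cohomology sheaf of f^! O for the structure morphism f, assuming Rf_* on
D_QCoh and its right adjoint exist) is isomorphic to O_X. Let D be an effective Cartier divisor on X
of positive degree, given here as an invertible module L = O_X(D) with a monomorphism s : O_X → L
and deg L = χ(L) − χ(O_X) > 0. Then H^1(X, O_X(D)) = 0. (The first assertion of the lemma, H^0(X,
O_X) = k, is not restated.) -/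
theorem result (k : Type u) [Field k] [PerfectField k]
    (X : Scheme.{u}) [X.Over (Spec (CommRingCat.of k))] [IsProper (X ↘ Spec (CommRingCat.of k))]
    [GeometricallyConnected (X ↘ Spec (CommRingCat.of k))] [GeometricallyReduced (X ↘ Spec (CommRingCat.of k))]
    (hdim : topologicalKrullDim ↥X = 1)
    [DCoh.HasRpush (X ↘ Spec (CommRingCat.of k))] (h : DCoh.RpushPreservesQCoh (X ↘ Spec (CommRingCat.of k))) [DCoh.HasShriek (X ↘ Spec (CommRingCat.of k)) h]
    (OY : DCoh.DQCoh (Spec (CommRingCat.of k))) (hOY : Nonempty (OY.obj ≅ DCoh.inD (Spec (CommRingCat.of k)) (Coh.structureModule (Spec (CommRingCat.of k)))))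
    (hω : Nonempty (DCoh.dualizingMod (X ↘ Spec (CommRingCat.of k)) h OY 1 ≅ Coh.structureModule X))
    (L : X.Modules) (hL : PicF.IsInvertible L) (s : Coh.structureModule X ⟶ L) [Mono s]
    (hdeg : 0 < Curv2.deg k X L 1) :
    Subsingleton (Coh.HH X L 1) := by
  classical
  haveI := H4RepDual.hasExtModules X
  let fX := X ↘ Spec (CommRingCat.of k)
  have adj := DCoh.shriekAdj fX h
  haveI : ConnectedSpace X := GeometricallyConnected.connectedSpace_of_subsingleton fX
  haveI : IsReduced X := GeometricallyReduced.isReduced_of_flat_of_isLocallyNoetherian fX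
  have hF := H22Alg.GlobalFunctions.isField_of_universallyClosed fX
  have hX : topologicalKrullDim X ≤ ((1 : ℕ) : WithBot ℕ∞) := le_of_eq hdim
  obtain ⟨eω⟩ := hω
  by_contra hT
  haveI : Nontrivial (Coh.HH X L 1) := not_subsingleton_iff_nontrivial.1 hT
  haveI : Module.Projective k (Coh.HH X L 1) := Module.Projective.of_basis (Module.Basis.ofVectorSpace k _)
  obtain ⟨v, hv⟩ := exists_ne (0 : Coh.HH X L 1)
  obtain ⟨ψ, hψ⟩ : ∃ ψ : Module.Dual k (Coh.HH X L 1), ψ v ≠ 0 :=
    not_forall.1 (mt (Module.forall_dual_apply_eq_zero_iff k v).1 hv)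
  obtain ⟨t, ht⟩ := H4RSH.SerreDual.exists_trace adj OY hOY hX
  obtain ⟨φ, hφ, -⟩ := ht L (H28Mero.isQCoh_of_isInvertible hL) ψ
  have hφ0 : φ ≠ 0 := fun h0 => hψ (by
    rw [← hφ, h0]
    exact (congrArg t (H4RSH.LineSection.HHlin_zero 1 v)).trans (map_zero t))
  let φ' : L ⟶ Coh.structureModule X := φ ≫ eω.hom
  have hφ' : φ' ≠ 0 := fun h0 => hφ0 (by rw [← cancel_mono eω.hom]; exact h0.trans zero_comp.symm)
  rcases H4RSH.LineSection.isIso_or_eq_zero hF (s ≫ φ') with he | he
  · have hb : ∀ x : X, Function.Bijective (H06Mod.stalkLin φ' x) := fun x => by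
      obtain ⟨V, g, hxV, hg⟩ := H11Ample.exists_gen hL x
      let a : (Coh.structureModule X).presheaf.stalk x ≃ₗ[X.presheaf.stalk x] L.presheaf.stalk x :=
        (LinearEquiv.ofBijective (LinearMap.toSpanSingleton (X.presheaf.stalk x) _
          ((Coh.structureModule X).presheaf.germ ⊤ x (Opens.mem_top x) (H11Ample.one ⊤)))
          (H11Ample.isGen_one (X := X) ⊤ x (Opens.mem_top x))).symm ≪≫ₗ
        LinearEquiv.ofBijective (LinearMap.toSpanSingleton (X.presheaf.stalk x) _ (L.presheaf.germ V x hxV g))
          (hg x hxV)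
      haveI : Module.Finite (X.presheaf.stalk x) ((Coh.structureModule X).presheaf.stalk x) :=
        Module.Finite.of_surjective (LinearMap.toSpanSingleton (X.presheaf.stalk x) _
          ((Coh.structureModule X).presheaf.germ ⊤ x (Opens.mem_top x) (H11Ample.one ⊤)))
          (H11Ample.isGen_one (X := X) ⊤ x (Opens.mem_top x)).2
      have h' := H10Coh.FibreLift.bijective_stalkLin_of_isIso (s ≫ φ') x
      exact (H4RSH.LineSection.bijective_of_retraction a _ _ ((congrArg Function.Bijective
        (funext fun w => H29Omega.stalkLin_comp s φ' x w)).mp h' :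
          Function.Bijective (H06Mod.stalkLin φ' x ∘ₗ H06Mod.stalkLin s x))).2
    haveI := H4RSH.LineSection.isIso_of_stalkLin φ' hb
    unfold Curv2.deg at hdeg
    rw [H25Euler.euler_congr (k := k) (asIso φ')] at hdeg
    simp at hdeg
  · refine hφ' (H4RSH.LineSection.eq_zero_of_stalkLin φ' fun x w => ?_)
    obtain ⟨V, g, hxV, hg⟩ := H11Ample.exists_gen hL x
    let o := (Coh.structureModule X).presheaf.germ ⊤ x (Opens.mem_top x) (H11Ample.one ⊤)
    let ε := L.presheaf.germ V x hxV g
    obtain ⟨c, hc⟩ := (hg x hxV).2 (H06Mod.stalkLin s x o)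
    obtain ⟨r, hr⟩ := (H11Ample.isGen_one (X := X) ⊤ x (Opens.mem_top x)).2 (H06Mod.stalkLin φ' x ε)
    have h1 : (c * r) • o = 0 := by
      rw [mul_smul]
      have : r • o = H06Mod.stalkLin φ' x ε := hr
      rw [this, ← map_smul, show c • ε = H06Mod.stalkLin s x o from hc, ← H29Omega.stalkLin_comp, he]
      exact H4RSH.LineSection.stalkLin_zero_apply x o
    have h2 : c * r = 0 := (H11Ample.isGen_one (X := X) ⊤ x (Opens.mem_top x)).1 (h1.trans (zero_smul _ o).symm)
    have hr0 : r = 0 := by
      have h3 : H06Mod.stalkLin s x (r • o) = 0 := by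
        rw [map_smul, ← show c • ε = H06Mod.stalkLin s x o from hc, smul_smul, mul_comm, h2, zero_smul]
      have h4 : r • o = 0 := H10Coh.FibreLift.injective_stalkLin_of_mono s x (h3.trans (map_zero _).symm)
      exact (H11Ample.isGen_one (X := X) ⊤ x (Opens.mem_top x)).1 (h4.trans (zero_smul _ o).symm)
    obtain ⟨q, rfl⟩ := (hg x hxV).2 w
    show H06Mod.stalkLin φ' x (q • ε) = 0
    have hr' : r • o = H06Mod.stalkLin φ' x ε := hr
    rw [map_smul, ← hr', hr0, zero_smul, smul_zero]

end Groth.Agent.S18784
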