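import Groth.Statements.S18785
import Groth.Agent.H7VB.Split
-- import your own Groth.Agent.* helpers here

set_option autoImplicit false
universe u
open CategoryTheory CategoryTheory.Limits AlgebraicGeometry
open VBCurve

namespace Groth.Agent.S18785

/-- Let k be a finite field and C a smooth proper geometrically integral curve over k (proper, smooth
and geometrically integral over k, of dimension one) of genus one, i.e. dim_k H^1(C, O_C) = 1, with
a k-rational point O (an elliptic curve over k); finiteness of k matters. Let E be a finite locally
free O_C-module of rank 3 which is indecomposable (nonzero, no isomorphism with a direct sum of two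
nonzero modules) but not geometrically indecomposable (its pull-back to C_K splits into two nonzero
summands for some field extension K of k, taken in the universe of k), and let k₃ be a degree-3
field extension of k. Then the group of O_C-linear automorphisms of E is isomorphic to the unit
group k₃ˣ, the k-points of the Weil restriction of the multiplicative group from k₃ to k. (The
source states this for E semistable of slope 1; that restriction plays no role in the assertion or
its argument and is dropped here. The accompanying count of isomorphism classes is not restated.)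
(The published setting takes k of characteristic at least 5; the argument does not use this and the
row allows every finite field.) -/
theorem result (k : Type u) [Field k] [Finite k] (X : Scheme.{u}) [X.Over (Spec (CommRingCat.of k))]
    [IsProper (X ↘ Spec (CommRingCat.of k))] [Smooth (X ↘ Spec (CommRingCat.of k))]
    [GeometricallyIntegral (X ↘ Spec (CommRingCat.of k))] (hdim : topologicalKrullDim ↥X = 1)
    (hg : Curv2.genus k X = 1) (O : Spec (CommRingCat.of k) ⟶ X) (hO : O ≫ (X ↘ Spec (CommRingCat.of k)) = 𝟙 _)
    (E : X.Modules) (hE : FlatMod.IsFinLocFreeOfRank 3 E)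
    (hEi : (¬ IsZero E ∧ ∀ (E₁ E₂ : X.Modules), Nonempty (E ≅ E₁ ⊞ E₂) → IsZero E₁ ∨ IsZero E₂)) (hEng : (∃ (K : Type u) (_ : Field K) (_ : Algebra k K) (E₁ E₂ : (Curv2.bc k X K).Modules),
      ¬ IsZero E₁ ∧ ¬ IsZero E₂ ∧ Nonempty ((Scheme.Modules.pullback (Curv2.bcFst k X K)).obj E ≅ E₁ ⊞ E₂)))
    (k₃ : Type u) [Field k₃] [Algebra k k₃] (hk₃ : Module.finrank k k₃ = 3) :
    Nonempty (Aut E ≃* k₃ˣ) := by
  obtain ⟨e⟩ := Groth.Agent.H7VB.nonempty_end_equiv O hO (n := 3) Nat.prime_three hE hEi hEng k₃ hk₃
  exact ⟨(Aut.unitsEndEquivAut E).symm.trans (Units.mapEquiv e.toMulEquiv)⟩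

end Groth.Agent.S18785
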