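import Groth.Statements.S18787
import Groth.Agent.H7VB.GenusOne
-- import your own Groth.Agent.* helpers here

set_option autoImplicit false
universe u
open CategoryTheory CategoryTheory.Limits AlgebraicGeometry
open VBCurve

namespace Groth.Agent.S18787

/-- Let k be a finite field and C a smooth proper geometrically integral curve over k (proper, smooth
and geometrically integral over k, of dimension one) of genus one, i.e. dim_k H^1(C, O_C) = 1, with
a k-rational point O (an elliptic curve over k); k is finite with q elements. Let L₁ and L₂ be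
invertible O_C-modules of degree 0 (χ(L) − χ(O_C) = 0) and E = O_C ⊕ L₁ ⊕ L₂. Then the number of
automorphisms of E is: (q³ − 1)(q³ − q)(q³ − q²) if L₁ ≅ L₂ ≅ O_C; (q − 1)³ (q + 1) q if L₁ ≅ L₂ and
L₁ ≇ O_C; (q − 1)³ (q + 1) q if L₁ ≇ L₂ and L₂ ≅ O_C; and (q − 1)³ if O_C, L₁, L₂ are pairwise
non-isomorphic. (In the third case the published value is (q − 1)² q³, and the published computation
gives (q − 1)³ q²; but there E ≅ O_C ⊕ O_C ⊕ L₁ with L₁ of degree 0 and non-trivial, whose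
endomorphism ring is M₂(k) × k, so Aut(E) ≅ GL₂(k) × kˣ has (q − 1)³ (q + 1) q elements, the same
count as in the second case; the row states this corrected value.) (The published setting takes k of
characteristic at least 5; the argument does not use this and the row allows every finite field.) -/
theorem result (k : Type u) [Field k] [Finite k] (X : Scheme.{u}) [X.Over (Spec (CommRingCat.of k))]
    [IsProper (X ↘ Spec (CommRingCat.of k))] [Smooth (X ↘ Spec (CommRingCat.of k))]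
    [GeometricallyIntegral (X ↘ Spec (CommRingCat.of k))] (hdim : topologicalKrullDim ↥X = 1)
    (hg : Curv2.genus k X = 1) (O : Spec (CommRingCat.of k) ⟶ X) (hO : O ≫ (X ↘ Spec (CommRingCat.of k)) = 𝟙 _)
    (L₁ L₂ : X.Modules) (hL₁ : PicF.IsInvertible L₁) (hL₂ : PicF.IsInvertible L₂)
    (hd₁ : Curv2.deg k X L₁ 1 = 0) (hd₂ : Curv2.deg k X L₂ 1 = 0) :
    (Nonempty (L₁ ≅ Coh.structureModule X) → Nonempty (L₂ ≅ Coh.structureModule X) →
      Nat.card (Aut (Coh.structureModule X ⊞ L₁ ⊞ L₂)) =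
        (Nat.card k ^ 3 - 1) * (Nat.card k ^ 3 - Nat.card k) * (Nat.card k ^ 3 - Nat.card k ^ 2)) ∧
    (Nonempty (L₁ ≅ L₂) → ¬ Nonempty (L₁ ≅ Coh.structureModule X) →
      Nat.card (Aut (Coh.structureModule X ⊞ L₁ ⊞ L₂)) = (Nat.card k - 1) ^ 3 * (Nat.card k + 1) * Nat.card k) ∧
    (¬ Nonempty (L₁ ≅ L₂) → Nonempty (L₂ ≅ Coh.structureModule X) →
      Nat.card (Aut (Coh.structureModule X ⊞ L₁ ⊞ L₂)) = (Nat.card k - 1) ^ 3 * (Nat.card k + 1) * Nat.card k) ∧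
    (¬ Nonempty (L₁ ≅ Coh.structureModule X) → ¬ Nonempty (L₂ ≅ Coh.structureModule X) → ¬ Nonempty (L₁ ≅ L₂) →
      Nat.card (Aut (Coh.structureModule X ⊞ L₁ ⊞ L₂)) = (Nat.card k - 1) ^ 3) := by
  haveI : IsIntegral X := GeometricallyIntegral.isIntegral_of_subsingleton (X ↘ Spec (CommRingCat.of k))
  have hU := Groth.Agent.H11Ample.isInvertible_structureModule (X := X)
  have hd₀ : Curv2.deg k X (Coh.structureModule X) 1 = 0 := Groth.Agent.H7VB.deg_structureModule'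
  have z : ∀ {N L : X.Modules}, PicF.IsInvertible N → PicF.IsInvertible L → Curv2.deg k X N 1 = 0 →
      Curv2.deg k X L 1 = 0 → ¬ Nonempty (N ≅ L) → ∀ φ : N ⟶ L, φ = 0 := fun hN hL dN dL h φ =>
    Groth.Agent.H7VB.hom_eq_zero_of_deg hdim.le hN hL (dN.trans dL.symm) h φ
  have sc := fun {L : X.Modules} (hL : PicF.IsInvertible L) => Groth.Agent.H7VB.end_invertible_bijective (k := k) O hO hL
  have one : ∀ {L : X.Modules}, PicF.IsInvertible L → Nat.card (Aut L) = Nat.card k - 1 := fun hL =>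
    Groth.Agent.H7VB.card_aut_scalar (sc hL)
  have two : ∀ {L : X.Modules}, PicF.IsInvertible L →
      Nat.card (Aut (L ⊞ L)) = (Nat.card k ^ 2 - 1) * (Nat.card k ^ 2 - Nat.card k) := fun {L} hL => by
    rw [Groth.Agent.H7VB.card_aut_congr (Groth.Agent.H7VB.pairIso L), Groth.Agent.H7VB.card_aut_power (sc hL) 2,
      Fin.prod_univ_two]
    simp
  have arith : (Nat.card k - 1) * ((Nat.card k ^ 2 - 1) * (Nat.card k ^ 2 - Nat.card k)) =
      (Nat.card k - 1) ^ 3 * (Nat.card k + 1) * Nat.card k := by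
    obtain ⟨m, hm⟩ : ∃ m, Nat.card k = m + 1 := ⟨Nat.card k - 1, (Nat.succ_pred_eq_of_pos Nat.card_pos).symm⟩
    have e1 : (m + 1) ^ 2 - 1 = m * (m + 2) := by
      rw [show (m + 1) ^ 2 = m * (m + 2) + 1 by ring, Nat.add_sub_cancel]
    have e2 : (m + 1) ^ 2 - (m + 1) = m * (m + 1) := by
      rw [show (m + 1) ^ 2 = m * (m + 1) + (m + 1) by ring, Nat.add_sub_cancel]
    rw [hm, e1, e2, Nat.add_sub_cancel]
    ring
  have hz : ∀ {A B C : X.Modules}, (∀ φ : A ⟶ C, φ = 0) → (∀ φ : B ⟶ C, φ = 0) → ∀ φ : A ⊞ B ⟶ C, φ = 0 :=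
    fun hA hB φ => biprod.hom_ext' _ _ (by simpa using hA (biprod.inl ≫ φ)) (by simpa using hB (biprod.inr ≫ φ))
  have hz' : ∀ {A B C : X.Modules}, (∀ φ : C ⟶ A, φ = 0) → (∀ φ : C ⟶ B, φ = 0) → ∀ φ : C ⟶ A ⊞ B, φ = 0 :=
    fun hA hB φ => biprod.hom_ext _ _ (by simpa using hA (φ ≫ biprod.fst)) (by simpa using hB (φ ≫ biprod.snd))
  refine ⟨?_, ?_, ?_, ?_⟩
  · rintro ⟨a⟩ ⟨b⟩
    rw [Groth.Agent.H7VB.card_aut_congr (biprod.mapIso (Iso.refl _) (biprod.mapIso a b) ≪≫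
        (biprod.associator _ _ _).symm ≪≫ Groth.Agent.H7VB.tripleIso (Coh.structureModule X)), Groth.Agent.H7VB.card_aut_power (sc hU) 3,
      Fin.prod_univ_three]
    simp
  · rintro ⟨a⟩ h
    have h01 : ∀ φ : Coh.structureModule X ⟶ L₁, φ = 0 := z hU hL₁ hd₀ hd₁ fun ⟨c⟩ => h ⟨c.symm⟩
    have h10 : ∀ φ : L₁ ⟶ Coh.structureModule X, φ = 0 := z hL₁ hU hd₁ hd₀ h
    rw [Groth.Agent.H7VB.card_aut_congr (biprod.mapIso (Iso.refl (Coh.structureModule X)) (biprod.mapIso (Iso.refl L₁) a.symm)),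
      Groth.Agent.H7VB.card_aut_biprod (hz' h01 h01) (hz h10 h10), one hU, two hL₁, arith]
  · rintro h ⟨b⟩
    have h' : ¬ Nonempty (L₁ ≅ Coh.structureModule X) := fun ⟨c⟩ => h ⟨c ≪≫ b.symm⟩
    have h01 : ∀ φ : Coh.structureModule X ⟶ L₁, φ = 0 := z hU hL₁ hd₀ hd₁ fun ⟨c⟩ => h' ⟨c.symm⟩
    have h10 : ∀ φ : L₁ ⟶ Coh.structureModule X, φ = 0 := z hL₁ hU hd₁ hd₀ h'
    rw [Groth.Agent.H7VB.card_aut_congr (biprod.mapIso (Iso.refl (Coh.structureModule X)) (biprod.mapIso (Iso.refl L₁) b) ≪≫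
        (biprod.associator _ _ _).symm ≪≫ biprod.mapIso (biprod.braiding _ _) (Iso.refl _) ≪≫ biprod.associator L₁ (Coh.structureModule X) (Coh.structureModule X)),
      Groth.Agent.H7VB.card_aut_biprod (hz' h10 h10) (hz h01 h01), one hL₁, two hU, arith]
  · intro h1 h2 h12
    have a01 : ∀ φ : Coh.structureModule X ⟶ L₁, φ = 0 := z hU hL₁ hd₀ hd₁ fun ⟨c⟩ => h1 ⟨c.symm⟩
    have a10 : ∀ φ : L₁ ⟶ Coh.structureModule X, φ = 0 := z hL₁ hU hd₁ hd₀ h1
    have a02 : ∀ φ : Coh.structureModule X ⟶ L₂, φ = 0 := z hU hL₂ hd₀ hd₂ fun ⟨c⟩ => h2 ⟨c.symm⟩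
    have a20 : ∀ φ : L₂ ⟶ Coh.structureModule X, φ = 0 := z hL₂ hU hd₂ hd₀ h2
    have a12 : ∀ φ : L₁ ⟶ L₂, φ = 0 := z hL₁ hL₂ hd₁ hd₂ h12
    have a21 : ∀ φ : L₂ ⟶ L₁, φ = 0 := z hL₂ hL₁ hd₂ hd₁ fun ⟨c⟩ => h12 ⟨c.symm⟩
    rw [Groth.Agent.H7VB.card_aut_biprod (hz' a01 a02) (hz a10 a20), Groth.Agent.H7VB.card_aut_biprod a12 a21,
      one hU, one hL₁, one hL₂]
    ring

end Groth.Agent.S18787
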