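import Groth.Statements.S18788
import Groth.Agent.H7VB.GenusOne
-- import your own Groth.Agent.* helpers here

set_option autoImplicit false
universe u
open CategoryTheory CategoryTheory.Limits AlgebraicGeometry
open VBCurve

namespace Groth.Agent.S18788

/-- Let k be a finite field and C a smooth proper geometrically integral curve over k (proper, smooth
and geometrically integral over k, of dimension one) of genus one, i.e. dim_k H^1(C, O_C) = 1, with
a k-rational point O (an elliptic curve over k); k is finite with q elements. Let F be an O_C-module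
with a short exact sequence 0 → O_C → F → O_C → 0 that does not split, and L an invertible
O_C-module of degree 0 (χ(L) − χ(O_C) = 0). Then Aut(O_C ⊕ F) has (q − 1)² q³ elements, and if L ≇
O_C then Aut(O_C ⊕ (L ⊗ F)) has (q − 1)² q elements. (The source states this for E = O_C ⊕ G with G
a geometrically indecomposable rank-2 bundle of degree 0, which it writes as L ⊗ F with F the
non-split self-extension of O_C by a classification it quotes; the row takes G in that form
directly. The accompanying count of isomorphism classes is not restated.) (The published setting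
takes k of characteristic at least 5; the argument does not use this and the row allows every finite
field.) -/
theorem result (k : Type u) [Field k] [Finite k] (X : Scheme.{u}) [X.Over (Spec (CommRingCat.of k))]
    [IsProper (X ↘ Spec (CommRingCat.of k))] [Smooth (X ↘ Spec (CommRingCat.of k))]
    [GeometricallyIntegral (X ↘ Spec (CommRingCat.of k))] (hdim : topologicalKrullDim ↥X = 1)
    (hg : Curv2.genus k X = 1) (O : Spec (CommRingCat.of k) ⟶ X) (hO : O ≫ (X ↘ Spec (CommRingCat.of k)) = 𝟙 _)
    (T : ShortComplex X.Modules) (hT : T.ShortExact)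
    (e₁ : T.X₁ ≅ Coh.structureModule X) (e₃ : T.X₃ ≅ Coh.structureModule X) (hns : ¬ IsSplitEpi T.g)
    (L : X.Modules) (hL : PicF.IsInvertible L) (hdeg : Curv2.deg k X L 1 = 0) :
    Nat.card (Aut (Coh.structureModule X ⊞ T.X₂)) = (Nat.card k - 1) ^ 2 * Nat.card k ^ 3 ∧
    (¬ Nonempty (L ≅ Coh.structureModule X) →
      Nat.card (Aut (Coh.structureModule X ⊞ CohB1.tensorMod L T.X₂)) = (Nat.card k - 1) ^ 2 * Nat.card k) := by
  haveI : IsIntegral X := GeometricallyIntegral.isIntegral_of_subsingleton (X ↘ Spec (CommRingCat.of k))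
  have hU := Groth.Agent.H11Ample.isInvertible_structureModule (X := X)
  refine ⟨(Groth.Agent.H7VB.card_aut_biprod_ext O hO hU T hT e₁ e₃ hns).1, fun hne => ?_⟩
  obtain ⟨S, hS, ⟨a₁⟩, ⟨a₃⟩, ⟨a₂⟩, hns'⟩ := Groth.Agent.H7VB.exists_twist_ext O hO hL T hT e₁ e₃ hns
  have hd₀ : Curv2.deg k X (Coh.structureModule X) 1 = 0 := Groth.Agent.H7VB.deg_structureModule'
  have h01 := Groth.Agent.H7VB.hom_eq_zero_of_deg hdim.le hU hL (hd₀.trans hdeg.symm) fun ⟨c⟩ => hne ⟨c.symm⟩
  have h10 := Groth.Agent.H7VB.hom_eq_zero_of_deg hdim.le hL hU (hdeg.trans hd₀.symm) hne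
  haveI := hS.mono_f
  haveI := hS.epi_g
  have hA : ∀ φ : Coh.structureModule X ⟶ S.X₂, φ = 0 := fun φ => by
    have h1 : φ ≫ S.g = 0 := by rw [← cancel_mono a₃.hom, zero_comp]; exact h01 _
    have h2 := h01 (hS.exact.lift φ h1 ≫ a₁.hom)
    have h3 : hS.exact.lift φ h1 = 0 := by rw [← cancel_mono a₁.hom, zero_comp]; exact h2
    rw [← hS.exact.lift_f φ h1, h3, zero_comp]
  have hB : ∀ φ : S.X₂ ⟶ Coh.structureModule X, φ = 0 := fun φ => by
    have h1 : S.f ≫ φ = 0 := by rw [← cancel_epi a₁.inv, comp_zero]; exact h10 _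
    have h3 : hS.exact.desc φ h1 = 0 := by rw [← cancel_epi a₃.inv, comp_zero]; exact h10 _
    rw [← hS.exact.g_desc φ h1, h3, comp_zero]
  rw [Groth.Agent.H7VB.card_aut_congr (biprod.mapIso (Iso.refl (Coh.structureModule X)) a₂.symm),
    Groth.Agent.H7VB.card_aut_biprod hA hB, (Groth.Agent.H7VB.card_aut_biprod_ext O hO hL S hS a₁ a₃ hns').2,
    Groth.Agent.H7VB.card_aut_scalar (k := k) (Groth.Agent.H7VB.end_invertible_bijective O hO hU)]
  ring

end Groth.Agent.S18788
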