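import Groth.Statements.S18789
import Mathlib.RingTheory.GradedAlgebra.Basic
import Mathlib.RingTheory.Nakayama
import Mathlib.LinearAlgebra.Matrix.ToLin
import Mathlib.LinearAlgebra.Matrix.NonsingularInverse
import Mathlib.Algebra.Module.Projective
import Mathlib.RingTheory.Ideal.Quotient.Operations

set_option autoImplicit false
universe u v w x
open TorusGr

namespace Groth.Agent.S18789

open DirectSum in
/-- Let `A` be a commutative algebra over a field `k`, graded by an additive commutative group `M` (for
`M` the character group of a split torus `T` this is a `T`-action on `Spec A`, and an `M`-graded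
`A`-module is a `T`-equivariant quasi-coherent sheaf), let `P` be a finitely generated projective
`A`-module with a compatible `M`-grading (a locally free `T`-sheaf of finite rank), and let `m` be a
homogeneous maximal ideal with residue field `k` (a `T`-fixed rational point). If homogeneous
elements `f i` of `P` reduce to a basis of `P/mP`, then there is a homogeneous `s ∉ m` such that
after inverting `s` the `f i` generate `P` and every relation among them is killed by a power of
`s`: on the invariant open `D(s)` the module is free on the homogeneous sections `f i`, with the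
weights of the fibre `P/mP`. (The published statement has `M ≅ ℤ^r`, a split torus; here `M` is any
additive commutative group, i.e. any diagonalizable group.) -/
theorem result
    {k : Type u} [Field k] {M : Type v} [AddCommGroup M] [DecidableEq M]
    {A : Type w} [CommRing A] [Algebra k A] (𝒜 : M → Submodule k A) [GradedAlgebra 𝒜]
    {P : Type x} [AddCommGroup P] [Module A P] [Module k P] [IsScalarTower k A P]
    (ℳ : M → Submodule k P) [Decomposition ℳ] [SetLike.GradedSMul 𝒜 ℳ]
    [Module.Finite A P] [Module.Projective A P]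
    (m : Ideal A) [m.IsMaximal] (hm : m.IsHomogeneous 𝒜)
    (hrat : Function.Surjective (algebraMap k (A ⧸ m)))
    {n : ℕ} (wt : Fin n → M) (f : Fin n → P) (hf : ∀ i, f i ∈ ℳ (wt i))
    (hli : LinearIndependent (A ⧸ m)
      (fun i => (Submodule.Quotient.mk (f i) : P ⧸ (m • (⊤ : Submodule A P)))))
    (hsp : Submodule.span A (Set.range f) ⊔ m • (⊤ : Submodule A P) = ⊤) :
    ∃ s : A, SetLike.IsHomogeneousElem 𝒜 s ∧ s ∉ m ∧
      (∀ p : P, ∃ (N : ℕ) (c : Fin n → A), s ^ N • p = ∑ i, c i • f i) ∧
      (∀ c : Fin n → A, ∑ i, c i • f i = 0 → ∃ N : ℕ, ∀ i, s ^ N * c i = 0) := by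
  classical
  -- homogeneous components of a scalar multiple
  have hcomp : ∀ (a : A) (e d : M) (p : P), p ∈ ℳ e →
      ((decompose ℳ (a • p) (d + e) : ℳ (d + e)) : P) = ((decompose 𝒜 a d : 𝒜 d) : A) • p := by
    intro a e d p hp
    induction a using DirectSum.Decomposition.inductionOn 𝒜 with
    | zero => simp
    | @homogeneous i a =>
      have hmem : (a : A) • p ∈ ℳ (i + e) := SetLike.GradedSMul.smul_mem a.2 hp
      rcases eq_or_ne i d with rfl | h
      · rw [decompose_of_mem_same ℳ hmem, decompose_of_mem_same 𝒜 a.2]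
      · rw [decompose_of_mem_ne ℳ hmem (fun h' => h (add_right_cancel h')), decompose_of_mem_ne 𝒜 a.2 h,
          zero_smul]
    | add a b ha hb =>
      rw [add_smul, decompose_add, DirectSum.add_apply, Submodule.coe_add, ha, hb, decompose_add,
        DirectSum.add_apply, Submodule.coe_add, add_smul]
  have hnotmem : ∀ a : A, a ∉ m → ∃ d, ((decompose 𝒜 a d : 𝒜 d) : A) ∉ m := fun a ha => by
    by_contra h
    push Not at h
    exact ha (by rw [← sum_support_decompose 𝒜 a]; exact sum_mem fun d _ => h d)
  -- components of linear combinations of the `f i`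
  have hlin : ∀ (c : Fin n → A) (d : M), ((decompose ℳ (∑ i, c i • f i) d : ℳ d) : P) =
      ∑ i, ((decompose 𝒜 (c i) (d - wt i) : 𝒜 (d - wt i)) : A) • f i := by
    intro c d
    rw [decompose_sum, DFinsupp.finsetSum_apply, AddSubmonoidClass.coe_finsetSum]
    refine Finset.sum_congr rfl fun i _ => ?_
    have h := hcomp (c i) (wt i) (d - wt i) (f i) (hf i)
    rwa [sub_add_cancel] at h
  let F := Submodule.span A (Set.range f)
  -- generation
  have hFle : (⊤ : Submodule A (P ⧸ F)) ≤ m • ⊤ := by
    rintro x -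
    obtain ⟨x, rfl⟩ := F.mkQ_surjective x
    have hx : x ∈ F ⊔ m • (⊤ : Submodule A P) := by rw [hsp]; trivial
    obtain ⟨y, hy, z, hz, rfl⟩ := Submodule.mem_sup.1 hx
    rw [map_add, show F.mkQ y = 0 from (Submodule.Quotient.mk_eq_zero F).2 hy, zero_add]
    have := Submodule.mem_map_of_mem (f := F.mkQ) hz
    rw [Submodule.map_smul''] at this
    exact Submodule.smul_mono le_rfl le_top this
  obtain ⟨r, hr1, hr⟩ :=
    Submodule.exists_sub_one_mem_and_smul_eq_zero_of_fg_of_le_smul m _ Module.Finite.fg_top hFle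
  have hrm : r ∉ m := fun h => (Ideal.IsMaximal.ne_top ‹m.IsMaximal›)
    ((Ideal.eq_top_iff_one m).2 (by have := sub_mem h hr1; rwa [sub_sub_cancel] at this))
  have hrF : ∀ p, r • p ∈ F := fun p => by
    rw [← Submodule.Quotient.mk_eq_zero, Submodule.Quotient.mk_smul]
    exact hr _ trivial
  obtain ⟨d₁, hd₁⟩ := hnotmem r hrm
  have hs₁ : ∀ p, ((decompose 𝒜 r d₁ : 𝒜 d₁) : A) • p ∈ F := by
    intro p
    induction p using DirectSum.Decomposition.inductionOn ℳ with
    | zero => simp
    | @homogeneous e p =>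
      rw [← hcomp r e d₁ p p.2]
      obtain ⟨c, hc⟩ := (Submodule.mem_span_range_iff_exists_fun A).1 (hrF p)
      rw [← hc, hlin]
      exact sum_mem fun i _ => Submodule.smul_mem _ _ (Submodule.subset_span ⟨i, rfl⟩)
    | add p q hp hq => rw [smul_add]; exact add_mem hp hq
  -- relations
  let π : (Fin n → A) →ₗ[A] P := Fintype.linearCombination A f
  let s₁ : A := (decompose 𝒜 r d₁ : 𝒜 d₁)
  obtain ⟨σ, hσ⟩ := Module.projective_lifting_property π.rangeRestrict
    ((s₁ • LinearMap.id (R := A) (M := P)).codRestrict π.range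
      fun p => by rw [Fintype.range_linearCombination]; exact hs₁ p) π.surjective_rangeRestrict
  have hπσ : ∀ p, π (σ p) = s₁ • p := fun p => congrArg Subtype.val (LinearMap.congr_fun hσ p)
  have hrel : ∀ c : Fin n → A, π c = 0 → ∀ i, c i ∈ m := by
    intro c hc i
    have h := congrArg (Submodule.Quotient.mk (p := m • (⊤ : Submodule A P))) hc
    rw [Fintype.linearCombination_apply] at h
    simp only [← Submodule.mkQ_apply, map_sum, map_smul, map_zero] at h
    have := Fintype.linearIndependent_iff.1 hli (fun j => Ideal.Quotient.mk m (c j))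
      (by simpa [← algebraMap_smul (A ⧸ m), Ideal.Quotient.algebraMap_eq] using h) i
    exact Ideal.Quotient.eq_zero_iff_mem.1 this
  let B : Matrix (Fin n) (Fin n) A := LinearMap.toMatrix' (σ ∘ₗ π)
  have hdet : B.det ∉ m := by
    intro h
    have hmap : (Ideal.Quotient.mk m).mapMatrix B = Matrix.scalar _ (Ideal.Quotient.mk m s₁) := by
      ext i j
      have h1 := hrel (s₁ • Pi.single j 1 - σ (π (Pi.single j 1)))
        (by rw [map_sub, map_smul, hπσ, sub_self]) i
      rw [← Ideal.Quotient.eq_zero_iff_mem, Pi.sub_apply, map_sub, sub_eq_zero] at h1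
      rw [RingHom.mapMatrix_apply, Matrix.map_apply]
      have hB : B i j = σ (π (Pi.single j 1)) i := by
        simp [B, LinearMap.toMatrix'_apply]
      rw [hB, ← h1]
      by_cases hij : i = j <;> simp [Pi.single_apply, Matrix.scalar_apply, Matrix.diagonal, hij]
    have h2 := congrArg Matrix.det hmap
    rw [← RingHom.map_det, Ideal.Quotient.eq_zero_iff_mem.2 h, Matrix.scalar_apply, Matrix.det_diagonal,
      Finset.prod_const, ← map_pow] at h2
    exact hd₁ (Ideal.IsPrime.mem_of_pow_mem (Ideal.IsMaximal.isPrime ‹_›) _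
      (Ideal.Quotient.eq_zero_iff_mem.1 h2.symm))
  have hkill : ∀ c : Fin n → A, π c = 0 → ∀ i, B.det * c i = 0 := by
    intro c hc i
    have h1 : B.mulVec c = 0 := by
      rw [← Matrix.toLin'_apply, Matrix.toLin'_toMatrix', LinearMap.comp_apply, hc, map_zero]
    have h2 := congrFun (congrArg (B.adjugate.mulVec) h1) i
    rw [Matrix.mulVec_mulVec, Matrix.adjugate_mul, Matrix.smul_mulVec, Matrix.one_mulVec,
      Matrix.mulVec_zero] at h2
    simpa using h2
  obtain ⟨d₂, hd₂⟩ := hnotmem _ hdet
  let s₂ : A := (decompose 𝒜 B.det d₂ : 𝒜 d₂)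
  have hs₂ : ∀ c : Fin n → A, ∑ i, c i • f i = 0 → ∀ i, s₂ * c i = 0 := by
    intro c hc i
    rw [← sum_support_decompose 𝒜 (c i), Finset.mul_sum]
    refine Finset.sum_eq_zero fun e _ => ?_
    let c' : Fin n → A := fun j => (decompose 𝒜 (c j) (e + wt i - wt j) : 𝒜 (e + wt i - wt j))
    have hc' : π c' = 0 := by
      rw [Fintype.linearCombination_apply, ← hlin c (e + wt i), hc]
      simp
    have h := congrArg (fun x => ((decompose 𝒜 x (d₂ + (e + wt i - wt i)) : 𝒜 _) : A)) (hkill c' hc' i)
    simp only [decompose_zero, DirectSum.zero_apply, ZeroMemClass.coe_zero] at h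
    rw [coe_decompose_mul_add_of_right_mem 𝒜 (show c' i ∈ 𝒜 (e + wt i - wt i) from SetLike.coe_mem _)] at h
    refine Eq.trans (congrArg (fun x : M => s₂ * ((decompose 𝒜 (c i) x : 𝒜 x) : A))
      (add_sub_cancel_right e (wt i)).symm) ?_
    simpa [c', s₂] using h
  refine ⟨s₁ * s₂, ⟨d₁ + d₂, SetLike.mul_mem_graded (SetLike.coe_mem _) (SetLike.coe_mem _)⟩,
    fun h => ((Ideal.IsMaximal.isPrime ‹m.IsMaximal›).mem_or_mem h).elim hd₁ hd₂, fun p => ?_,
    fun c hc => ⟨1, fun i => by rw [pow_one, mul_assoc, hs₂ c hc i, mul_zero]⟩⟩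
  obtain ⟨c, hc⟩ := (Submodule.mem_span_range_iff_exists_fun A).1 (hs₁ p)
  refine ⟨1, fun i => s₂ * c i, ?_⟩
  rw [pow_one, mul_comm, mul_smul, ← hc, Finset.smul_sum]
  simp [mul_smul]

end Groth.Agent.S18789
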