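import Groth.Statements.S18790
import Mathlib

set_option autoImplicit false
universe u v w
open TorusGr

namespace Groth.Agent.S18790

/-- Let `A` be a commutative algebra over a field `k`, graded by an additive commutative group `M` (for
`M` the character group of a split torus `T`, a `T`-action on `Spec A`), let `J` be the ideal
generated by the homogeneous elements of non-zero degree (its zero locus is the fixed-point
subscheme) and let `m ⊇ J` be a maximal ideal with residue field `k` (a fixed rational point) at
which the fixed-point subscheme is the reduced point: `J` and `m` agree after localizing at `m`.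
Then the cotangent space `m/m²` has no part of weight zero: every degree-zero element of `m` lies in
`m²`. (The published statement has `M ≅ ℤ^r`, a split torus, and phrases the conclusion as the
non-vanishing of the weights of a semi-invariant basis of `m/m²`; here `M` is any additive
commutative group, i.e. any diagonalizable group.) -/
theorem result
    {k : Type u} [Field k] {M : Type v} [AddCommGroup M] [DecidableEq M]
    {A : Type w} [CommRing A] [Algebra k A] (𝒜 : M → Submodule k A) [GradedAlgebra 𝒜]
    (m : Ideal A) [m.IsMaximal] (hrat : Function.Surjective (algebraMap k (A ⧸ m)))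
    (hfix : ∀ i : M, i ≠ 0 → ∀ a ∈ 𝒜 i, a ∈ m)
    (hred : ∀ a ∈ m, ∃ s ∉ m, s * a ∈ Ideal.span {b : A | ∃ i : M, i ≠ 0 ∧ b ∈ 𝒜 i})
    {f : A} (hf0 : f ∈ 𝒜 0) (hfm : f ∈ m) : f ∈ m ^ 2 := by
  classical
  obtain ⟨s, hs, hsf⟩ := hred f hfm
  have hs0 : (DirectSum.decompose 𝒜 s 0 : A) ∉ m := by
    intro h
    apply hs
    rw [← DirectSum.sum_support_decompose 𝒜 s]
    refine sum_mem fun i _ => ?_
    by_cases hi : i = 0
    · exact hi ▸ h
    · exact hfix i hi _ (DirectSum.decompose 𝒜 s i).2
  have key : ∀ a ∈ Ideal.span {b : A | ∃ i : M, i ≠ 0 ∧ b ∈ 𝒜 i}, (DirectSum.decompose 𝒜 a 0 : A) ∈ m ^ 2 := by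
    intro a ha
    have : ∀ r : A, (DirectSum.decompose 𝒜 (r * a) 0 : A) ∈ m ^ 2 := by
      induction ha using Submodule.span_induction with
      | mem b hb =>
        intro r
        obtain ⟨i, hi, hb⟩ := hb
        rw [← neg_add_cancel i, DirectSum.coe_decompose_mul_add_of_right_mem 𝒜 hb, pow_two]
        exact Ideal.mul_mem_mul (hfix _ (neg_ne_zero.2 hi) _ (DirectSum.decompose 𝒜 r (-i)).2) (hfix i hi _ hb)
      | zero => intro r; simp
      | add x y _ _ hx hy =>
        intro r
        rw [mul_add, DirectSum.decompose_add, DirectSum.add_apply, Submodule.coe_add]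
        exact add_mem (hx r) (hy r)
      | smul c x _ hx =>
        intro r
        rw [smul_eq_mul, ← mul_assoc]
        exact hx _
    simpa using this 1
  have h := key _ hsf
  rw [← zero_add (0 : M), DirectSum.coe_decompose_mul_add_of_right_mem 𝒜 hf0] at h
  have htop : Ideal.span {(DirectSum.decompose 𝒜 s 0 : A)} ⊔ m = ⊤ := by
    by_contra hne
    have hm' := ‹m.IsMaximal›.eq_of_le hne le_sup_right
    exact hs0 (hm' ▸ Ideal.mem_sup_left (Ideal.mem_span_singleton_self _))
  obtain ⟨x, hx, y, hy, hxy⟩ := Submodule.mem_sup.1 (htop ▸ Submodule.mem_top : (1 : A) ∈ _)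
  obtain ⟨c, rfl⟩ := Ideal.mem_span_singleton'.1 hx
  have e : f = c * ((DirectSum.decompose 𝒜 s 0 : A) * f) + y * f := by
    rw [← mul_assoc, ← add_mul, hxy, one_mul]
  rw [e]
  refine add_mem (Ideal.mul_mem_left _ _ h) ?_
  rw [pow_two]
  exact Ideal.mul_mem_mul hy hfm

end Groth.Agent.S18790
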