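import Groth.Statements.S18791
import Mathlib

set_option autoImplicit false
universe u v w x
open TorusGr

namespace Groth.Agent.S18791

/-- Let `φ : B → A` be a degree-preserving homomorphism of commutative algebras over a field `k` graded
by an additive commutative group `M` (for `M` the character group of a split torus, an equivariant
morphism `Spec A → Spec B`), and let `m` be a maximal ideal of `A` containing all homogeneous
elements of non-zero degree (a fixed point). Then the ideal of those `b` whose image is zero in the
local ring `A_m` is homogeneous: the homogeneous (weight) components of such a `b` again die in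
`A_m`. Since `A_m` embeds in its completion when `A` is Noetherian, these are the elements of `B`
that die in the completed local ring. (The published lemma asserts moreover that, for `B = k[Y_1, …,
Y_d]` mapping the `Y_i` to semi-invariant lifts of a basis of `m/m²`, the kernel of the induced
surjection of completions `k[[Y]] → Â_m` is generated by semi-invariant polynomials; generation of
that kernel by polynomials can fail, so only the statement about polynomial elements of the kernel
is recorded here. The published statement has `M ≅ ℤ^r` (a split torus) and `B` the polynomial ring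
on the lifts; here `M` is any additive commutative group and `B` any `M`-graded `k`-algebra.) -/
theorem result
    {k : Type u} [Field k] {M : Type v} [AddCommGroup M] [DecidableEq M]
    {A : Type w} [CommRing A] [Algebra k A] (𝒜 : M → Submodule k A) [GradedAlgebra 𝒜]
    {B : Type x} [CommRing B] [Algebra k B] (ℬ : M → Submodule k B) [GradedAlgebra ℬ]
    (φ : B →ₐ[k] A) (hφ : ∀ i : M, ∀ b ∈ ℬ i, φ b ∈ 𝒜 i)
    (m : Ideal A) [m.IsMaximal] (hfix : ∀ i : M, i ≠ 0 → ∀ a ∈ 𝒜 i, a ∈ m) :
    (RingHom.ker ((algebraMap A (Localization.AtPrime m)).comp (φ : B →+* A))).IsHomogeneous ℬ := by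
  classical
  intro i b hb
  obtain ⟨⟨s, hs⟩, hsb⟩ := (IsLocalization.map_eq_zero_iff m.primeCompl (Localization.AtPrime m) (φ b)).1 hb
  change s * φ b = 0 at hsb
  have hs0 : (DirectSum.decompose 𝒜 s 0 : A) ∉ m := by
    intro h
    apply hs
    rw [← DirectSum.sum_support_decompose 𝒜 s]
    refine sum_mem fun j _ => ?_
    by_cases hj : j = 0
    · exact hj ▸ h
    · exact hfix j hj _ (DirectSum.decompose 𝒜 s j).2
  let F : Finset M := insert i (DirectSum.decompose ℬ b).support
  have hφb : ∀ j, φ (DirectSum.decompose ℬ b j : B) ∈ 𝒜 j := fun j => hφ j _ (DirectSum.decompose ℬ b j).2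
  have hsum : φ b = ∑ j : F, φ (DirectSum.decompose ℬ b j : B) := by
    rw [Finset.sum_coe_sort F (fun j => φ (DirectSum.decompose ℬ b j : B)), ← map_sum]
    congr 1
    conv_lhs => rw [← DirectSum.sum_support_decompose ℬ b]
    refine Finset.sum_subset (Finset.subset_insert _ _) fun j _ hj => ?_
    rw [DFinsupp.notMem_support_iff.1 hj]
    rfl
  let N : Matrix F F A := fun p q => (DirectSum.decompose 𝒜 s ((p : M) - q) : A)
  let v : F → A := fun q => φ (DirectSum.decompose ℬ b (q : M) : B)
  have hN : Matrix.mulVec N v = 0 := by
    funext p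
    change ∑ q : F, (DirectSum.decompose 𝒜 s ((p : M) - q) : A) * φ (DirectSum.decompose ℬ b (q : M) : B) = 0
    have h0 : (DirectSum.decompose 𝒜 (s * φ b) (p : M) : A) = 0 := by
      rw [hsb, DirectSum.decompose_zero]; rfl
    rw [hsum, Finset.mul_sum, DirectSum.decompose_sum, DFinsupp.finsetSum_apply,
      AddSubmonoidClass.coe_finsetSum] at h0
    refine Eq.trans (Finset.sum_congr rfl fun q _ => ?_) h0
    conv_rhs => rw [← sub_add_cancel (p : M) (q : M)]
    exact (DirectSum.coe_decompose_mul_add_of_right_mem 𝒜 (hφb q)).symm
  have hdet : N.det ∉ m := by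
    intro h
    have hmap : Ideal.Quotient.mk m N.det = 0 := Ideal.Quotient.eq_zero_iff_mem.2 h
    rw [RingHom.map_det] at hmap
    have hdiag : (Ideal.Quotient.mk m).mapMatrix N =
        Matrix.diagonal fun _ : F => Ideal.Quotient.mk m (DirectSum.decompose 𝒜 s 0 : A) := by
      ext p q
      simp only [RingHom.mapMatrix_apply, Matrix.map_apply, N]
      by_cases hpq : p = q
      · subst hpq
        rw [Matrix.diagonal_apply_eq, sub_self]
      · rw [Matrix.diagonal_apply_ne _ hpq, Ideal.Quotient.eq_zero_iff_mem]
        exact hfix _ (sub_ne_zero.2 fun e => hpq (Subtype.ext e)) _ (DirectSum.decompose 𝒜 s _).2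
    rw [hdiag, Matrix.det_diagonal, Finset.prod_const] at hmap
    have hz : Ideal.Quotient.mk m (DirectSum.decompose 𝒜 s 0 : A) = 0 := eq_zero_of_pow_eq_zero hmap
    exact hs0 (Ideal.Quotient.eq_zero_iff_mem.1 hz)
  refine (IsLocalization.map_eq_zero_iff m.primeCompl (Localization.AtPrime m) _).2 ⟨⟨N.det, hdet⟩, ?_⟩
  have h := congrArg (Matrix.mulVec N.adjugate) hN
  rw [Matrix.mulVec_mulVec, Matrix.adjugate_mul, Matrix.mulVec_zero, Matrix.smul_mulVec, Matrix.one_mulVec] at h
  exact congrFun h ⟨i, Finset.mem_insert_self _ _⟩

end Groth.Agent.S18791
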