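import Groth.Statements.S18792
import Mathlib.RingTheory.Nilpotent.Exp
import Mathlib.Tactic

set_option autoImplicit false
set_option linter.style.haveILetI false
universe u
open DefMod

namespace Groth.Agent.S18792

/-- Let A be an associative unital algebra over ℚ, let a ∈ A be nilpotent and let b ∈ A. Then the
commutator map x ↦ a x − x a is a nilpotent ℚ-linear endomorphism of A, and exp(a) b exp(−a) =
exp(ad a)(b), where exp is the finite exponential series of a nilpotent element and ad a is the
commutator map. (The published statement takes A an algebra over an arbitrary commutative ring; the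
factorials in the exponential series require the rationals to act, so A is taken to be a ℚ-algebra
here. The intermediate double-sum expansion printed between the two sides is not restated.) -/
theorem result {A : Type u} [Ring A] [Algebra ℚ A] (a b : A)
    (ha : IsNilpotent a) :
    IsNilpotent (LinearMap.mulLeft ℚ a - LinearMap.mulRight ℚ a) ∧
      IsNilpotent.exp a * b * IsNilpotent.exp (-a) =
        IsNilpotent.exp (LinearMap.mulLeft ℚ a - LinearMap.mulRight ℚ a) b := by
    obtain ⟨k, hk⟩ := ha
    have hL : IsNilpotent (LinearMap.mulLeft ℚ a) := ⟨k, by rw [LinearMap.pow_mulLeft, hk]; ext; simp⟩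
    have hk' : (-a) ^ k = 0 := by rw [neg_pow, hk, mul_zero]
    have hR : IsNilpotent (LinearMap.mulRight ℚ (-a)) := ⟨k, by rw [LinearMap.pow_mulRight, hk']; ext; simp⟩
    have hc : Commute (LinearMap.mulLeft ℚ a) (LinearMap.mulRight ℚ (-a)) := LinearMap.commute_mulLeft_right a (-a)
    have heq : LinearMap.mulLeft ℚ a - LinearMap.mulRight ℚ a = LinearMap.mulLeft ℚ a + LinearMap.mulRight ℚ (-a) := by
      ext x; simp [sub_eq_add_neg]
    rw [heq]
    refine ⟨hc.isNilpotent_add hL hR, ?_⟩
    rw [IsNilpotent.exp_add_of_commute hc hL hR, Module.End.mul_apply,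
      IsNilpotent.exp_eq_sum (k := k) (show LinearMap.mulLeft ℚ a ^ k = 0 by rw [LinearMap.pow_mulLeft, hk]; ext; simp),
      IsNilpotent.exp_eq_sum (k := k) (show LinearMap.mulRight ℚ (-a) ^ k = 0 by rw [LinearMap.pow_mulRight, hk']; ext; simp),
      IsNilpotent.exp_eq_sum hk, IsNilpotent.exp_eq_sum hk']
    simp only [LinearMap.pow_mulLeft, LinearMap.pow_mulRight, LinearMap.sum_apply, LinearMap.smul_apply,
      LinearMap.mulLeft_apply, LinearMap.mulRight_apply, Finset.sum_mul, Finset.mul_sum, smul_mul_assoc,
      mul_smul_comm, mul_assoc, Finset.smul_sum]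
    rw [Finset.sum_comm]
    exact Finset.sum_congr rfl fun i _ => Finset.sum_congr rfl fun j _ => smul_comm _ _ _

end Groth.Agent.S18792
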