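import Groth.Statements.S18794
import Mathlib.RingTheory.Flat.Basic
import Mathlib.LinearAlgebra.Basis.VectorSpace
import Mathlib.FieldTheory.IsAlgClosed.AlgebraicClosure
import Mathlib.FieldTheory.IntermediateField.Adjoin.Basic
import Mathlib.LinearAlgebra.TensorProduct.Finiteness

set_option autoImplicit false
universe u v w
open scoped TensorProduct
open DefMod

namespace Groth.Agent.S18794

/-- Let E be a left module over an associative algebra D over a field K of characteristic zero. For a
field extension L of K, the base change L ⊗_K E is a module over L ⊗_K D, i.e. an L-vector space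
with a commuting action of D; call it irreducible when it is nonzero and its only L-subspaces stable
under every element of D are 0 and the whole space. Then E is absolutely irreducible (its base
change to an algebraic closure of K is irreducible) if and only if L ⊗_K E is irreducible for every
finite extension L of K. (Finite extensions are taken in the universe of K.) -/
theorem result
    {K : Type u} [Field K] [CharZero K]
    {D : Type v} [Ring D] [Algebra K D]
    {E : Type w} [AddCommGroup E] [Module K E] [Module D E] [IsScalarTower K D E] :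
    (Nontrivial (AlgebraicClosure K ⊗[K] E) ∧ ∀ N : Submodule (AlgebraicClosure K) (AlgebraicClosure K ⊗[K] E), (∀ (d : D) (x : AlgebraicClosure K ⊗[K] E), x ∈ N → (DistribSMul.toLinearMap K E d).baseChange (AlgebraicClosure K) x ∈ N) → N = ⊥ ∨ N = ⊤) ↔
      ∀ (L : Type u) [Field L] [Algebra K L] [FiniteDimensional K L],
        (Nontrivial (L ⊗[K] E) ∧ ∀ N : Submodule (L) (L ⊗[K] E), (∀ (d : D) (x : L ⊗[K] E), x ∈ N → (DistribSMul.toLinearMap K E d).baseChange (L) x ∈ N) → N = ⊥ ∨ N = ⊤) := by
  classical
  have hj : ∀ (L : Type u) [Field L] [Algebra K L] (σ : L →ₐ[K] AlgebraicClosure K) (a : L) (z : L ⊗[K] E),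
      σ.toLinearMap.rTensor E (a • z) = σ a • σ.toLinearMap.rTensor E z := by
    intro L _ _ σ a z
    induction z using TensorProduct.induction_on with
    | zero => simp
    | tmul b y => simp [TensorProduct.smul_tmul']
    | add u v hu hv => simp only [smul_add, map_add, hu, hv]
  have hjd : ∀ (L : Type u) [Field L] [Algebra K L] (σ : L →ₐ[K] AlgebraicClosure K) (d : D) (z : L ⊗[K] E),
      σ.toLinearMap.rTensor E ((DistribSMul.toLinearMap K E d).baseChange L z) =
        (DistribSMul.toLinearMap K E d).baseChange (AlgebraicClosure K) (σ.toLinearMap.rTensor E z) := by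
    intro L _ _ σ d z
    induction z using TensorProduct.induction_on with
    | zero => simp
    | tmul b y => simp [LinearMap.baseChange_tmul]
    | add u v hu hv => simp only [map_add, hu, hv]
  have hnt : ∀ (L : Type u) [Field L] [Algebra K L], Nontrivial E → Nontrivial (L ⊗[K] E) := fun L _ _ hE =>
    (Module.Flat.tensorProduct_mk_injective K E L).nontrivial
  have hE : ∀ (L : Type u) [Field L] [Algebra K L], Nontrivial (L ⊗[K] E) → Nontrivial E := fun L _ _ hn => by
    by_contra hE
    rw [not_nontrivial_iff_subsingleton] at hE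
    exact not_subsingleton (L ⊗[K] E) inferInstance
  constructor
  · rintro ⟨hne, hsimp⟩ L _ _ _
    refine ⟨hnt L (hE _ hne), fun N hN => ?_⟩
    let σ : L →ₐ[K] AlgebraicClosure K := IsAlgClosed.lift
    let j : L ⊗[K] E →ₗ[K] AlgebraicClosure K ⊗[K] E := σ.toLinearMap.rTensor E
    have hjinj : Function.Injective j := Module.Flat.rTensor_preserves_injective_linearMap _ σ.injective
    let N' : Submodule (AlgebraicClosure K) (AlgebraicClosure K ⊗[K] E) := Submodule.span _ (j '' (N : Set (L ⊗[K] E)))
    have hN' : ∀ (d : D) (x : AlgebraicClosure K ⊗[K] E), x ∈ N' →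
        (DistribSMul.toLinearMap K E d).baseChange (AlgebraicClosure K) x ∈ N' := by
      intro d x hx
      have h := Submodule.mem_map_of_mem (f := (DistribSMul.toLinearMap K E d).baseChange (AlgebraicClosure K)) hx
      rw [Submodule.map_span] at h
      refine Submodule.span_mono ?_ h
      rintro _ ⟨_, ⟨z, hz, rfl⟩, rfl⟩
      exact ⟨_, hN d z hz, hjd L σ d z⟩
    rcases hsimp N' hN' with h | h
    · refine Or.inl (eq_bot_iff.mpr fun z hz => hjinj ?_)
      rw [map_zero]
      have : j z ∈ N' := Submodule.subset_span ⟨z, hz, rfl⟩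
      rwa [h] at this
    · refine Or.inr (by_contra fun hne' => ?_)
      obtain ⟨f, hf0, hfN⟩ := Submodule.exists_le_ker_of_lt_top N (lt_top_iff_ne_top.mpr hne')
      let f₀ : E →ₗ[K] AlgebraicClosure K :=
        σ.toLinearMap.comp ((f.restrictScalars K).comp (TensorProduct.mk K L E 1))
      let f' : AlgebraicClosure K ⊗[K] E →ₗ[AlgebraicClosure K] AlgebraicClosure K := f₀.liftBaseChange _
      have hcomp : ∀ z, f' (j z) = σ (f z) := fun z => by
        induction z using TensorProduct.induction_on with
        | zero => simp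
        | tmul b y =>
          rw [show b ⊗ₜ[K] y = b • ((1 : L) ⊗ₜ[K] y) by rw [TensorProduct.smul_tmul', smul_eq_mul, mul_one],
            show j (b • ((1 : L) ⊗ₜ[K] y)) = σ b • j ((1 : L) ⊗ₜ[K] y) from hj L σ b _,
            map_smul, map_smul, smul_eq_mul, smul_eq_mul, map_mul]
          simp [f', f₀, j]
        | add u v hu hv => simp only [map_add, hu, hv]
      have hker : N' ≤ LinearMap.ker f' := by
        rw [Submodule.span_le]
        rintro _ ⟨z, hz, rfl⟩
        rw [SetLike.mem_coe, LinearMap.mem_ker, hcomp, LinearMap.mem_ker.mp (hfN hz), map_zero]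
      refine hf0 (LinearMap.ext fun z => σ.injective ?_)
      change σ (f z) = σ ((0 : L ⊗[K] E →ₗ[L] L) z)
      rw [← hcomp, LinearMap.mem_ker.mp (hker (h ▸ Submodule.mem_top)), LinearMap.zero_apply, map_zero]
  · intro h
    refine ⟨hnt _ (hE K (h K).1), fun N hN => ?_⟩
    refine or_iff_not_imp_left.mpr fun hne => ?_
    obtain ⟨z, hz, hz0⟩ := Submodule.exists_mem_ne_zero_of_ne_bot hne
    obtain ⟨S, hS⟩ := TensorProduct.exists_finset z
    let L := IntermediateField.adjoin K ((Prod.fst '' (S : Set (AlgebraicClosure K × E))))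
    haveI : FiniteDimensional K L := IntermediateField.finiteDimensional_adjoin
      (fun x _ => Algebra.IsIntegral.isIntegral x)
    let σ : L →ₐ[K] AlgebraicClosure K := L.val
    let NL : Submodule L (L ⊗[K] E) :=
      { carrier := {w | σ.toLinearMap.rTensor E w ∈ N}
        add_mem' := fun ha hb => by simpa only [Set.mem_ofPred_eq, map_add] using N.add_mem ha hb
        zero_mem' := by simp
        smul_mem' := fun a w hw => by
          change σ.toLinearMap.rTensor E (a • w) ∈ N
          rw [hj]
          exact N.smul_mem _ hw }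
    have hinv : ∀ (d : D) (w : L ⊗[K] E), w ∈ NL → (DistribSMul.toLinearMap K E d).baseChange L w ∈ NL := by
      intro d w hw
      change σ.toLinearMap.rTensor E _ ∈ N
      rw [hjd]
      exact hN d _ hw
    rcases (h L).2 NL hinv with hb | ht
    · exfalso
      let w : L ⊗[K] E := ∑ p ∈ S.attach,
        (⟨p.1.1, IntermediateField.subset_adjoin K _ ⟨p.1, p.2, rfl⟩⟩ : L) ⊗ₜ[K] p.1.2
      have hw : σ.toLinearMap.rTensor E w = z := by
        rw [hS, map_sum]
        simp only [LinearMap.rTensor_tmul, AlgHom.toLinearMap_apply, σ, IntermediateField.coe_val]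
        exact S.sum_attach fun p => p.1 ⊗ₜ[K] p.2
      have hw' : w ∈ NL := show σ.toLinearMap.rTensor E w ∈ N from hw ▸ hz
      rw [hb, Submodule.mem_bot] at hw'
      exact hz0 (by rw [← hw, hw', map_zero])
    · rw [eq_top_iff]
      suffices ∀ x, x ∈ N from fun x _ => this x
      intro x
      induction x using TensorProduct.induction_on with
      | zero => exact N.zero_mem
      | tmul c y =>
        have h1 : σ.toLinearMap.rTensor E ((1 : L) ⊗ₜ[K] y) ∈ N := (ht ▸ Submodule.mem_top : (1 : L) ⊗ₜ[K] y ∈ NL)
        rw [LinearMap.rTensor_tmul, AlgHom.toLinearMap_apply, map_one] at h1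
        rw [show c ⊗ₜ[K] y = c • ((1 : AlgebraicClosure K) ⊗ₜ[K] y) by rw [TensorProduct.smul_tmul', smul_eq_mul, mul_one]]
        exact N.smul_mem c h1
      | add u v hu hv => exact N.add_mem hu hv

end Groth.Agent.S18794
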