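import Groth.Statements.S18795
import Mathlib.LinearAlgebra.TensorProduct.Basis
import Mathlib.FieldTheory.Minpoly.Field
import Mathlib.FieldTheory.IsAlgClosed.AlgebraicClosure
import Mathlib.RingTheory.Flat.Basic
import Mathlib.LinearAlgebra.Basis.VectorSpace

set_option autoImplicit false
universe u v w
open scoped TensorProduct
open DefMod

namespace Groth.Agent.S18795

/-- Let E be a left module over an associative algebra D over a field K of characteristic zero. Assume
that the D-linear endomorphisms of E form a finite-dimensional K-vector space, that E has a finite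
presentation over D, and that E is absolutely irreducible: its base change K̄ ⊗_K E to an algebraic
closure K̄ of K is nonzero and its only K̄-subspaces stable under every element of D are 0 and the
whole space. Then End_D(E) = K: every D-linear endomorphism of E is multiplication by a scalar from
K. -/
theorem result
    {K : Type u} [Field K] [CharZero K]
    {D : Type v} [Ring D] [Algebra K D]
    {E : Type w} [AddCommGroup E] [Module K E] [Module D E] [IsScalarTower K D E]
    [Module.Finite K (E →ₗ[D] E)] [Module.FinitePresentation D E]
    (habs : (Nontrivial (AlgebraicClosure K ⊗[K] E) ∧ ∀ N : Submodule (AlgebraicClosure K) (AlgebraicClosure K ⊗[K] E), (∀ (d : D) (x : AlgebraicClosure K ⊗[K] E), x ∈ N → (DistribSMul.toLinearMap K E d).baseChange (AlgebraicClosure K) x ∈ N) → N = ⊥ ∨ N = ⊤))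
    (φ : E →ₗ[D] E) : ∃ c : K, ∀ x : E, φ x = c • x := by
  obtain ⟨hne, hsimp⟩ := habs
  haveI := hne
  have hint : IsIntegral K φ := Algebra.IsIntegral.isIntegral φ
  let F : Module.End (AlgebraicClosure K) (AlgebraicClosure K ⊗[K] E) :=
    (φ.restrictScalars K).baseChange (AlgebraicClosure K)
  have hF : ∀ p : Polynomial K,
      Polynomial.aeval F p = ((Polynomial.aeval φ p).restrictScalars K).baseChange (AlgebraicClosure K) := by
    intro p
    induction p using Polynomial.induction_on' with
    | add p q hp hq =>
      rw [map_add, map_add, LinearMap.restrictScalars_add, LinearMap.baseChange_add, hp, hq]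
    | monomial n a =>
      refine TensorProduct.AlgebraTensorModule.ext fun c y => ?_
      rw [Polynomial.aeval_monomial, Polynomial.aeval_monomial]
      have hn : ∀ n : ℕ, ∀ c y, (F ^ n) (c ⊗ₜ[K] y) = c ⊗ₜ[K] (φ ^ n) y := by
        intro n
        induction n with
        | zero => intro c y; simp
        | succ n ih =>
          intro c y
          rw [pow_succ', pow_succ', Module.End.mul_apply, ih, Module.End.mul_apply]
          exact LinearMap.baseChange_tmul _ _ _
      rw [Module.End.mul_apply, Module.algebraMap_end_apply, hn, LinearMap.baseChange_tmul, LinearMap.restrictScalars_apply,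
        Module.End.mul_apply, Module.algebraMap_end_apply]
      exact (TensorProduct.tmul_smul a c _).symm
  let p := minpoly K φ
  have hp : Polynomial.aeval F (p.map (algebraMap K (AlgebraicClosure K))) = 0 := by
    rw [Polynomial.aeval_map_algebraMap, hF, minpoly.aeval, LinearMap.restrictScalars_zero, LinearMap.baseChange_zero]
  have hroot : ∃ c : AlgebraicClosure K, ¬ Function.Injective (F - algebraMap (AlgebraicClosure K) (Module.End (AlgebraicClosure K) (AlgebraicClosure K ⊗[K] E)) c) := by
    by_contra h
    push Not at h
    have hsplit := IsAlgClosed.splits (p.map (algebraMap K (AlgebraicClosure K)))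
    rw [hsplit.eq_prod_roots, map_mul, Polynomial.aeval_C] at hp
    have hinj : ∀ s : Multiset (AlgebraicClosure K),
        Function.Injective (Polynomial.aeval F (s.map fun a => Polynomial.X - Polynomial.C a).prod) := by
      intro s
      induction s using Multiset.induction_on with
      | empty => simp [Function.Injective]
      | cons a s ih =>
        rw [Multiset.map_cons, Multiset.prod_cons, map_mul, map_sub, Polynomial.aeval_X, Polynomial.aeval_C]
        exact (h a).comp ih
    obtain ⟨x, hx⟩ := exists_ne (0 : AlgebraicClosure K ⊗[K] E)
    have hlead : (p.map (algebraMap K (AlgebraicClosure K))).leadingCoeff = 1 :=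
      ((minpoly.monic hint).map _).leadingCoeff
    rw [hlead, map_one, one_mul] at hp
    exact hx (hinj _ (by rw [hp]; simp))
  obtain ⟨c, hc⟩ := hroot
  have htop : LinearMap.ker (F - algebraMap (AlgebraicClosure K) (Module.End (AlgebraicClosure K) (AlgebraicClosure K ⊗[K] E)) c) = ⊤ := by
    refine (hsimp _ fun d x hx => ?_).resolve_left fun hb => hc (LinearMap.ker_eq_bot.mp hb)
    have hcomm : ∀ z, F ((DistribSMul.toLinearMap K E d).baseChange (AlgebraicClosure K) z) =
        (DistribSMul.toLinearMap K E d).baseChange (AlgebraicClosure K) (F z) := fun z => by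
      induction z using TensorProduct.induction_on with
      | zero => simp
      | tmul a y => simp [F, LinearMap.baseChange_tmul, map_smul]
      | add u v hu hv => simp only [map_add, hu, hv]
    rw [LinearMap.mem_ker, LinearMap.sub_apply, Module.algebraMap_end_apply, sub_eq_zero] at hx ⊢
    rw [hcomm, hx, map_smul]
  have hall : ∀ y : E, (1 : AlgebraicClosure K) ⊗ₜ[K] φ y = c ⊗ₜ[K] y := fun y => by
    have : (1 : AlgebraicClosure K) ⊗ₜ[K] y ∈ LinearMap.ker (F - algebraMap (AlgebraicClosure K) (Module.End (AlgebraicClosure K) (AlgebraicClosure K ⊗[K] E)) c) := by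
      rw [htop]; trivial
    rw [LinearMap.mem_ker, LinearMap.sub_apply, Module.algebraMap_end_apply, sub_eq_zero,
      TensorProduct.smul_tmul', smul_eq_mul, mul_one] at this
    exact this
  haveI : Nontrivial E := by
    by_contra hE
    rw [not_nontrivial_iff_subsingleton] at hE
    exact not_subsingleton (AlgebraicClosure K ⊗[K] E) inferInstance
  obtain ⟨x, hx⟩ := exists_ne (0 : E)
  obtain ⟨f, hf⟩ := Module.Projective.exists_dual_ne_zero K hx
  let g : Module.Dual K E := (f x)⁻¹ • f
  have hg : g x = 1 := inv_mul_cancel₀ hf
  have hcK : algebraMap K (AlgebraicClosure K) (g (φ x)) = c := by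
    have := congrArg (fun z => TensorProduct.rid K (AlgebraicClosure K) (g.lTensor _ z)) (hall x)
    simpa [hg, Algebra.algebraMap_eq_smul_one] using this
  refine ⟨g (φ x), fun y => ?_⟩
  have h1 := hall y
  rw [← hcK, Algebra.algebraMap_eq_smul_one, TensorProduct.smul_tmul] at h1
  exact Module.Flat.tensorProduct_mk_injective K E (AlgebraicClosure K) h1

end Groth.Agent.S18795
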