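import Groth.Statements.S18796
import Mathlib.LinearAlgebra.TensorProduct.Basis
import Mathlib.Algebra.Module.FinitePresentation
import Mathlib.LinearAlgebra.FreeModule.Basic
import Mathlib.LinearAlgebra.Basis.VectorSpace

set_option autoImplicit false
universe u v w w' u'
open scoped TensorProduct
open DefMod

namespace Groth.Agent.S18796

/-- Let K be a field of characteristic zero, D an associative K-algebra, E a left D-module that is
finitely presented over D, F a left D-module and P a commutative K-algebra. The canonical P-linear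
map Φ : P ⊗_K Hom_D(E, F) → Hom_P(P ⊗_K E, P ⊗_K F), determined by p ⊗ f ↦ p · (1_P ⊗ f), is
injective, and its image consists exactly of the P-linear maps that commute with the action of every
element of D; in other words Φ identifies P ⊗_K Hom_D(E, F) with the module of homomorphisms P ⊗_K E
→ P ⊗_K F over P ⊗_K D. The map Φ is pinned here by its values on pure tensors. -/
theorem result
    {K : Type u} [Field K] [CharZero K]
    {D : Type v} [Ring D] [Algebra K D]
    {E : Type w} [AddCommGroup E] [Module K E] [Module D E] [IsScalarTower K D E]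
    [Module.FinitePresentation D E]
    {F : Type w'} [AddCommGroup F] [Module K F] [Module D F] [IsScalarTower K D F]
    (P : Type u') [CommRing P] [Algebra K P]
    (Φ : P ⊗[K] (E →ₗ[D] F) →ₗ[P] (P ⊗[K] E →ₗ[P] P ⊗[K] F))
    (hΦ : ∀ (p : P) (f : E →ₗ[D] F), Φ (p ⊗ₜ[K] f) = p • (f.restrictScalars K).baseChange P) :
    Function.Injective Φ ∧
      ∀ g : P ⊗[K] E →ₗ[P] P ⊗[K] F,
        g ∈ LinearMap.range Φ ↔
          ∀ d : D, g ∘ₗ (DistribSMul.toLinearMap K E d).baseChange P =
            (DistribSMul.toLinearMap K F d).baseChange P ∘ₗ g := by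
  classical
  let b := Module.Free.chooseBasis K P
  let ψ : Module.Free.ChooseBasisIndex K P → P ⊗[K] F →ₗ[K] F := fun i =>
    (Finsupp.lapply i).comp (TensorProduct.equivFinsuppOfBasisLeft b).toLinearMap
  have hψ : ∀ i p (y : F), ψ i (p ⊗ₜ[K] y) = b.repr p i • y := fun i p y => by simp [ψ]
  have hψd : ∀ i (d : D) (z : P ⊗[K] F),
      ψ i ((DistribSMul.toLinearMap K F d).baseChange P z) = d • ψ i z := fun i d z => by
    induction z using TensorProduct.induction_on with
    | zero => simp
    | tmul p y => rw [LinearMap.baseChange_tmul, hψ, hψ, DistribSMul.toLinearMap_apply, smul_comm]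
    | add x y hx hy => simp only [map_add, hx, hy, smul_add]
  have hc : ∀ (x : P ⊗[K] (E →ₗ[D] F)) (i) (y : E),
      TensorProduct.equivFinsuppOfBasisLeft b x i y = ψ i (Φ x (1 ⊗ₜ[K] y)) := fun x i y => by
    induction x using TensorProduct.induction_on with
    | zero => simp
    | tmul p f =>
      rw [hΦ, LinearMap.smul_apply, LinearMap.baseChange_tmul, TensorProduct.smul_tmul', smul_eq_mul, mul_one,
        hψ, TensorProduct.equivFinsuppOfBasisLeft_apply_tmul_apply, LinearMap.smul_apply]
      rfl
    | add x y hx hy =>
      simp only [map_add, Finsupp.add_apply, LinearMap.add_apply, hx, hy]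
  refine ⟨(injective_iff_map_eq_zero Φ).mpr fun x hx => ?_, fun g => ⟨?_, fun hg => ?_⟩⟩
  · apply (TensorProduct.equivFinsuppOfBasisLeft b).injective
    ext i y
    rw [hc, hx]
    simp
  · rintro ⟨x, rfl⟩ d
    induction x using TensorProduct.induction_on with
    | zero => simp
    | tmul p f =>
      refine TensorProduct.AlgebraTensorModule.ext fun q y => ?_
      simp [hΦ, LinearMap.baseChange_tmul, TensorProduct.smul_tmul']
    | add x y hx hy => rw [map_add, LinearMap.add_comp, LinearMap.comp_add, hx, hy]
  · let f : Module.Free.ChooseBasisIndex K P → E →ₗ[D] F := fun i =>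
      { toFun := fun y => ψ i (g (1 ⊗ₜ[K] y))
        map_add' := fun y z => by rw [TensorProduct.tmul_add, map_add, map_add]
        map_smul' := fun d y => by
          have h := LinearMap.congr_fun (hg d) (1 ⊗ₜ[K] y)
          rw [LinearMap.comp_apply, LinearMap.comp_apply, LinearMap.baseChange_tmul,
            DistribSMul.toLinearMap_apply] at h
          rw [RingHom.id_apply, h, hψd] }
    obtain ⟨S, hS⟩ := (Module.Finite.fg_top : (⊤ : Submodule D E).FG)
    let T := S.biUnion fun s => (TensorProduct.equivFinsuppOfBasisLeft b (g (1 ⊗ₜ[K] s))).support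
    have hT : ∀ i, i ∉ T → f i = 0 := fun i hi => by
      refine LinearMap.ext_on hS fun s hs => ?_
      by_contra h
      exact hi (Finset.mem_biUnion.mpr ⟨s, hs, Finsupp.mem_support_iff.mpr h⟩)
    let c : Module.Free.ChooseBasisIndex K P →₀ (E →ₗ[D] F) :=
      Finsupp.onFinset T f fun i hi => by by_contra h; exact hi (hT i h)
    refine ⟨(TensorProduct.equivFinsuppOfBasisLeft b).symm c, TensorProduct.AlgebraTensorModule.ext fun q y => ?_⟩
    have key : Φ ((TensorProduct.equivFinsuppOfBasisLeft b).symm c) (1 ⊗ₜ[K] y) = g (1 ⊗ₜ[K] y) := by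
      apply (TensorProduct.equivFinsuppOfBasisLeft b).injective
      ext i
      have := hc ((TensorProduct.equivFinsuppOfBasisLeft b).symm c) i y
      rw [LinearEquiv.apply_symm_apply] at this
      exact this.symm
    rw [show q ⊗ₜ[K] y = q • ((1 : P) ⊗ₜ[K] y) by rw [TensorProduct.smul_tmul', smul_eq_mul, mul_one],
      map_smul, map_smul, key]

end Groth.Agent.S18796
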