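import Groth.Statements.S18797
import Mathlib.LinearAlgebra.Trace
import Mathlib.Tactic

set_option autoImplicit false
set_option linter.style.haveILetI false
universe u v w
open DefMod

namespace Groth.Agent.S18797

/-- Let K be a field of characteristic zero, O a commutative K-algebra with a K-linear derivation ∂, and
E a finite free O-module equipped with a K-linear map ∂_E satisfying the Leibniz rule ∂_E(a e) =
∂(a) e + a ∂_E(e) (a differential module). The induced derivation on End_O(E) sends φ to ∂_E ∘ φ − φ
∘ ∂_E, which is again O-linear; the trace End_O(E) → O is compatible with the two derivations: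
tr(∂_E ∘ φ − φ ∘ ∂_E) = ∂(tr φ). Here the O-linear map ψ = ∂_E ∘ φ − φ ∘ ∂_E is given by its values.
(The published lemma also asserts that the trace is split surjective and that it respects commutator
brackets; the split surjectivity fails for E = 0 over a nonzero ring and holds only in positive
rank, and neither clause is restated.) -/
theorem result
    {K : Type u} [Field K] [CharZero K]
    {O : Type v} [CommRing O] [Algebra K O] (δ : Derivation K O O)
    {E : Type w} [AddCommGroup E] [Module O E] [Module K E] [IsScalarTower K O E]
    [Module.Free O E] [Module.Finite O E]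
    (δE : E →ₗ[K] E) (hδE : ∀ (a : O) (e : E), δE (a • e) = δ a • e + a • δE e)
    (φ ψ : E →ₗ[O] E) (hψ : ∀ e : E, ψ e = δE (φ e) - φ (δE e)) :
    LinearMap.trace O E ψ = δ (LinearMap.trace O E φ) := by
    classical
    let b := Module.Free.chooseBasis O E
    let Φ : Module.Free.ChooseBasisIndex O E → Module.Free.ChooseBasisIndex O E → O := fun i j => b.repr (φ (b j)) i
    let N : Module.Free.ChooseBasisIndex O E → Module.Free.ChooseBasisIndex O E → O := fun i j => b.repr (δE (b j)) i
    have h1 : ∀ j, b.repr (ψ (b j)) j = δ (Φ j j) + ∑ i, Φ i j * N j i - ∑ i, N i j * Φ j i := by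
      intro j
      rw [hψ, map_sub, Finsupp.sub_apply]
      congr 1
      · conv_lhs => rw [← b.sum_repr (φ (b j))]
        rw [map_sum, map_sum, Finsupp.finset_sum_apply]
        simp only [hδE, map_add, map_smul, Finsupp.add_apply, Finsupp.smul_apply, smul_eq_mul, b.repr_self,
          Finset.sum_add_distrib]
        rw [Finset.sum_eq_single j (fun i _ hi => by rw [Finsupp.single_eq_of_ne hi.symm, mul_zero])
          (fun h => absurd (Finset.mem_univ _) h), Finsupp.single_eq_same, mul_one]
      · conv_lhs => rw [← b.sum_repr (δE (b j))]
        rw [map_sum, map_sum, Finsupp.finset_sum_apply]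
        exact Finset.sum_congr rfl fun i _ => by simp [Φ, N]
    rw [LinearMap.trace_eq_matrix_trace O b, LinearMap.trace_eq_matrix_trace O b]
    simp only [Matrix.trace, Matrix.diag_apply, LinearMap.toMatrix_apply, h1, map_sum, Finset.sum_sub_distrib,
      Finset.sum_add_distrib, Φ]
    rw [add_sub_assoc, add_eq_left, sub_eq_zero, Finset.sum_comm]
    exact Finset.sum_congr rfl fun i _ => Finset.sum_congr rfl fun j _ => by simp only [N]; ring

end Groth.Agent.S18797
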