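import Groth.Statements.S1880
import Groth.Agent.H13Grpd.OfScheme

set_option autoImplicit false
universe u
open CategoryTheory CategoryTheory.Limits AlgebraicGeometry
open Grpd

namespace Groth.Agent.S1880

/-- Let (U, R, s, t, c) be a groupoid scheme with U, R affine and s, t finite locally free. For f ∈
Γ(U), the norm along s♯ of t♯(f) is an R-invariant function. (Mathlib's norm is the determinant when
Γ(R) is free over Γ(U) via s♯ and 1 otherwise; the content is the free case, e.g. after localizing
U.) (A groupoid scheme carries U, R, s, t, c, e, i over S with the groupoid axioms on T-points;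
'finite locally free' is finite, flat and locally of finite presentation; C ⊂ Γ(U) is the ring of
functions a with s♯(a) = t♯(a) and M = Spec C.) -/
theorem result (S : Scheme.{u}) (G : Grpd.GroupoidScheme S) [IsAffine G.U] [IsAffine G.R] [IsFinite G.s] [Flat G.s] [LocallyOfFinitePresentation G.s] [IsFinite G.t] [Flat G.t] [LocallyOfFinitePresentation G.t] (f : Γ(G.U, ⊤)) : G.normST f ∈ G.invariants := by
  letI : Algebra Γ(G.U, ⊤) Γ(G.R, ⊤) := G.s.appTop.hom.toAlgebra
  show Algebra.norm Γ(G.U, ⊤) (G.t.appTop.hom f) ∈ G.invariants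
  by_cases hb : ∃ s : Finset Γ(G.R, ⊤), Nonempty (Module.Basis s Γ(G.U, ⊤) Γ(G.R, ⊤))
  · obtain ⟨s, ⟨b⟩⟩ := hb
    have : Module.Free Γ(G.U, ⊤) Γ(G.R, ⊤) := Module.Free.of_basis b
    have h := (Groth.Agent.H13Grpd.affRel G).norm_mem f
    have : Module.Projective Γ(G.U, ⊤) Γ(G.R, ⊤) := (Groth.Agent.H13Grpd.affRel G).projective.1
    have : Module.Finite Γ(G.U, ⊤) Γ(G.R, ⊤) := (Groth.Agent.H13Grpd.affRel G).projective.2.1
    rwa [show (Groth.Agent.H13Grpd.affRel G).norm f =
      Groth.Agent.H13Grpd.nrm (LinearMap.mulLeft Γ(G.U, ⊤) (G.t.appTop.hom f)) from rfl,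
      Groth.Agent.H13Grpd.nrm_eq_det] at h
  · rw [Algebra.norm_eq_one_of_not_exists_basis _ hb]
    exact one_mem _

end Groth.Agent.S1880
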