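import Groth.Statements.S18802
import Mathlib.LinearAlgebra.Basis.VectorSpace
import Mathlib.Tactic

set_option autoImplicit false
set_option linter.style.haveILetI false
universe u v w w' w''
open DefMod

namespace Groth.Agent.S18802

/-- Let K be a field of characteristic zero, D an associative K-algebra and E, F left D-modules. A
K-linear map s : D → Hom_K(E, F) with s(ab)(e) = a s(b)(e) + s(a)(b e) (a derivation into the
bimodule Hom_K(E, F), i.e. a Hochschild 1-cocycle) defines the twisted sum F ⊕_s E = F × E with a ·
(f, e) = (a f + s(a) e, a e), an extension of E by F. Every extension of left D-modules 0 → F → Q →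
E → 0 arises this way: there are such an s and a D-linear isomorphism Q ≅ F ⊕_s E carrying the given
map F → Q to the inclusion f ↦ (f, 0) and compatible with the two projections onto E. (Together with
the splitting criterion this identifies derivations modulo principal derivations with Ext¹_D(E, F);
the compatibility of that identification with addition and scalars is not restated.) -/
theorem result
    {K : Type u} [Field K] [CharZero K]
    {D : Type v} [Ring D] [Algebra K D]
    {E : Type w} [AddCommGroup E] [Module K E] [Module D E] [IsScalarTower K D E]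
    {F : Type w'} [AddCommGroup F] [Module K F] [Module D F] [IsScalarTower K D F]
    {Q : Type w''} [AddCommGroup Q] [Module D Q]
    (i : F →ₗ[D] Q) (p : Q →ₗ[D] E) (hi : Function.Injective i) (hp : Function.Surjective p)
    (hex : Function.Exact i p) :
    ∃ (s : D →ₗ[K] E →ₗ[K] F) (hs : W4c6defoisocp1.IsHomDerivation s) (Φ : Q ≃ₗ[D] W4c6defoisocp1.TwistExt s hs),
      (∀ f : F, Φ (i f) = W4c6defoisocp1.TwistExt.inl f) ∧ ∀ q : Q, W4c6defoisocp1.TwistExt.snd (Φ q) = p q := by
    classical
    letI : Module K Q := Module.compHom Q (algebraMap K D)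
    have hQ : ∀ (c : K) (q : Q), c • q = algebraMap K D c • q := fun _ _ => rfl
    have hiK : ∀ (c : K) (f : F), i (c • f) = c • i f := fun c f => by rw [hQ, ← map_smul, algebraMap_smul]
    let pK : Q →ₗ[K] E := { toFun := p, map_add' := map_add p, map_smul' := fun c q => by rw [hQ, map_smul, algebraMap_smul]; rfl }
    obtain ⟨σ, hσ⟩ := LinearMap.exists_rightInverse_of_surjective pK (LinearMap.range_eq_top.mpr hp)
    have hpσ : ∀ e, p (σ e) = e := fun e => LinearMap.congr_fun hσ e
    have hg : ∀ (a : D) (e : E), ∃ f, i f = a • σ e - σ (a • e) := fun a e =>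
      (hex _).mp (by rw [map_sub, map_smul, hpσ, hpσ, sub_self])
    choose g hgi using hg
    have hcomm : ∀ (c : K) (a : D) (q : Q), c • a • q = a • c • q := fun c a q => by
      rw [hQ, hQ, ← mul_smul, ← mul_smul, Algebra.commutes]
    let s : D →ₗ[K] E →ₗ[K] F := LinearMap.mk₂ K g
      (fun a b e => hi (by rw [map_add, hgi, hgi, hgi, add_smul, add_smul, map_add]; abel))
      (fun c a e => hi (by rw [hiK, hgi, hgi, smul_assoc c a e, map_smul σ, smul_sub]; rw [hQ c (a • σ e), ← mul_smul, ← Algebra.smul_def]))
      (fun a e e' => hi (by rw [map_add, hgi, hgi, hgi, map_add, smul_add, smul_add, map_add]; abel))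
      (fun c a e => hi (by
        rw [hiK, hgi, hgi, map_smul, smul_sub, hcomm, ← map_smul σ]
        congr 2
        rw [← map_smul σ]; congr 1; rw [← algebraMap_smul D c e, ← algebraMap_smul D c (a • e), ← mul_smul, ← mul_smul, Algebra.commutes]))
    have hs : W4c6defoisocp1.IsHomDerivation s := fun a b e => hi (by
      simp only [s, LinearMap.mk₂_apply, map_add, map_smul, hgi, smul_sub, mul_smul]
      abel)
    have hΨ : ∀ q, ∃ f, i f = q - σ (p q) := fun q => (hex _).mp (by rw [map_sub, hpσ, sub_self])
    choose r hr using hΨ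
    let Φ : Q →ₗ[D] W4c6defoisocp1.TwistExt s hs :=
      { toFun := fun q => W4c6defoisocp1.TwistExt.mk (r q, p q)
        map_add' := fun q q' => W4c6defoisocp1.TwistExt.ext (hi (by
          simp only [W4c6defoisocp1.TwistExt.val_add, W4c6defoisocp1.TwistExt.val_mk, Prod.fst_add, map_add, hr]; abel))
          (by simp)
        map_smul' := fun a q => W4c6defoisocp1.TwistExt.ext (hi (by
          simp only [RingHom.id_apply, W4c6defoisocp1.TwistExt.val_smul, W4c6defoisocp1.TwistExt.val_mk, map_add, map_smul, hr, s, LinearMap.mk₂_apply, hgi, smul_sub]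
          abel)) (by simp) }
    have hΦ : Function.Bijective Φ := by
      refine ⟨fun q q' h => ?_, fun x => ⟨i (W4c6defoisocp1.TwistExt.val x).1 + σ (W4c6defoisocp1.TwistExt.val x).2, ?_⟩⟩
      · have h' := congrArg W4c6defoisocp1.TwistExt.val h
        simp only [Φ, LinearMap.coe_mk, AddHom.coe_mk, W4c6defoisocp1.TwistExt.val_mk, Prod.mk.injEq] at h'
        have := congrArg i h'.1
        rwa [hr, hr, h'.2, sub_left_inj] at this
      · refine W4c6defoisocp1.TwistExt.ext (hi ?_) ?_
        · simp [Φ, hr, map_add, hex.apply_apply_eq_zero, hpσ]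
        · simp [Φ, map_add, hex.apply_apply_eq_zero, hpσ]
    refine ⟨s, hs, LinearEquiv.ofBijective Φ hΦ, fun f => ?_, fun q => rfl⟩
    refine W4c6defoisocp1.TwistExt.ext (hi ?_) ?_
    · simp [Φ, hr, hex.apply_apply_eq_zero]
    · simp [Φ, hex.apply_apply_eq_zero]

end Groth.Agent.S18802
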