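import Groth.Statements.S18803
import Mathlib.Tactic
import Mathlib.Tactic

set_option autoImplicit false
set_option linter.style.haveILetI false
universe u v w w'
open DefMod

namespace Groth.Agent.S18803

/-- Let K be a field of characteristic zero, D an associative K-algebra, E and F left D-modules, and s :
D → Hom_K(E, F) a K-linear map with s(ab)(e) = a s(b)(e) + s(a)(b e). The twisted sum F ⊕_s E (that
is F × E with a · (f, e) = (a f + s(a) e, a e)) is a trivial extension of E by F — there is a
D-linear isomorphism F ⊕_s E ≅ F × E with the direct-sum module structure, carrying the inclusion f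
↦ (f, 0) to itself and compatible with the second projections — if and only if s is principal:
s(a)(e) = a σ(e) − σ(a e) for some K-linear σ : E → F (a Hochschild 1-coboundary). -/
theorem result
    {K : Type u} [Field K] [CharZero K]
    {D : Type v} [Ring D] [Algebra K D]
    {E : Type w} [AddCommGroup E] [Module K E] [Module D E] [IsScalarTower K D E]
    {F : Type w'} [AddCommGroup F] [Module K F] [Module D F] [IsScalarTower K D F]
    (s : D →ₗ[K] E →ₗ[K] F) (hs : W4c6defoisocp1.IsHomDerivation s) :
    (∃ Ψ : W4c6defoisocp1.TwistExt s hs ≃ₗ[D] F × E,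
        (∀ f : F, Ψ (W4c6defoisocp1.TwistExt.inl f) = (f, 0)) ∧ ∀ x : W4c6defoisocp1.TwistExt s hs, (Ψ x).2 = W4c6defoisocp1.TwistExt.snd x) ↔
      W4c6defoisocp1.IsPrincipal s := by
    classical
    constructor
    · rintro ⟨Ψ, hΨ, hΨ2⟩
      let emb : E →ₗ[K] F × E := LinearMap.inr K F E
      have hadd : ∀ x y : F × E, (Ψ (W4c6defoisocp1.TwistExt.mk (x + y))) = Ψ (W4c6defoisocp1.TwistExt.mk x) + Ψ (W4c6defoisocp1.TwistExt.mk y) :=
        fun x y => map_add Ψ _ _
      have hK : ∀ (c : K) (e : E), W4c6defoisocp1.TwistExt.mk (0, c • e) = algebraMap K D c • (W4c6defoisocp1.TwistExt.mk (0, e) : W4c6defoisocp1.TwistExt s hs) := fun c e => by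
        refine W4c6defoisocp1.TwistExt.ext ?_ ?_
        · simp [Algebra.algebraMap_eq_smul_one, W4c6defoisocp1.TwistExt.map_one_eq_zero hs]
        · simp [algebraMap_smul]
      let σ : E →ₗ[K] F :=
        { toFun := fun e => (Ψ (W4c6defoisocp1.TwistExt.mk (0, e))).1
          map_add' := fun e e' => by rw [← Prod.fst_add, ← hadd, Prod.mk_add_mk, add_zero]
          map_smul' := fun c e => by rw [hK, map_smul, Prod.smul_fst, algebraMap_smul]; rfl }
      refine ⟨σ, fun a e => ?_⟩
      have h1 := congrArg Prod.fst (map_smul Ψ a (W4c6defoisocp1.TwistExt.mk (0, e)))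
      have h2 : a • (W4c6defoisocp1.TwistExt.mk (0, e) : W4c6defoisocp1.TwistExt s hs) =
          W4c6defoisocp1.TwistExt.inl (s a e) + W4c6defoisocp1.TwistExt.mk (0, a • e) :=
        W4c6defoisocp1.TwistExt.ext (by simp) (by simp)
      rw [h2, map_add, hΨ, Prod.fst_add, Prod.smul_fst] at h1
      exact eq_sub_of_add_eq h1
    · rintro ⟨σ, hσ⟩
      let Ψ : W4c6defoisocp1.TwistExt s hs →ₗ[D] F × E :=
        { toFun := fun x => ((W4c6defoisocp1.TwistExt.val x).1 + σ (W4c6defoisocp1.TwistExt.val x).2, (W4c6defoisocp1.TwistExt.val x).2)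
          map_add' := fun x y => by
            simp only [W4c6defoisocp1.TwistExt.val_add, Prod.fst_add, Prod.snd_add, map_add, Prod.mk_add_mk]
            congr 1; abel
          map_smul' := fun a x => by
            simp only [W4c6defoisocp1.TwistExt.val_smul, hσ, RingHom.id_apply, Prod.smul_mk, smul_add]
            congr 1; abel }
      refine ⟨LinearEquiv.ofBijective Ψ ⟨fun x y h => ?_, fun z => ⟨W4c6defoisocp1.TwistExt.mk (z.1 - σ z.2, z.2), by simp [Ψ]⟩⟩,
        fun f => by change Ψ (W4c6defoisocp1.TwistExt.inl f) = (f, 0); simp [Ψ], fun x => rfl⟩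
      simp only [Ψ, LinearMap.coe_mk, AddHom.coe_mk, Prod.mk.injEq] at h
      refine W4c6defoisocp1.TwistExt.ext ?_ h.2
      have := h.1
      rwa [h.2, add_left_inj] at this

end Groth.Agent.S18803
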