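import Groth.Statements.S18804
import Groth.Agent.H29RR.IdealCurve
import Groth.Agent.H29RR.Clifford
import Groth.Agent.H29RR.Consts

set_option autoImplicit false
universe u
open CategoryTheory CategoryTheory.Limits AlgebraicGeometry
open Curves

namespace Groth.Agent.S18804

attribute [local instance 10000] H10Coh.hasSheafifyAb H10Coh.hasWeakSheafifyAb H10Coh.hasExtAb H10Coh.enoughInjAb


/-- Let k be an algebraically closed field of characteristic zero, X a smooth proper integral curve over
k (integral, proper and smooth over k, of dimension one) of genus g, and L an invertible O_X-module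
of degree deg L = χ(L) − χ(O_X) at least 2g + 3. Then L is 3-very ample: every closed subscheme Z of
X of length 4 imposes independent conditions on H^0(X, L), stated as dim_k H^0(X, L ⊗ I) + 4 = dim_k
H^0(X, L) for every quasi-coherent ideal I of O_X with dim_k H^0(X, O_X/I) = 4. -/
theorem result
    (k : Type u) [Field k] [IsAlgClosed k] [CharZero k]
    (X : Scheme.{u}) [X.Over (Spec (CommRingCat.of k))] [IsIntegral X]
    [IsProper (X ↘ Spec (CommRingCat.of k))] [Smooth (X ↘ Spec (CommRingCat.of k))]
    (hdim : topologicalKrullDim X = 1)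
    (L : X.Modules) (hL : PicF.IsInvertible L)
    (hdeg : 2 * (Curv2.genus k X : ℤ) + 3 ≤ Curv2.deg k X L 1)
    (I : X.IdealSheafData) (hI : Module.finrank k (Coh.HH X (ClSub.quotMod I) 0) = 4) :
    Module.finrank k (Coh.HH X (CohB1.tensorMod L (ClSub.idealMod I)) 0) + 4 =
      Module.finrank k (Coh.HH X L 0) := by
  haveI := H29RR.isNoetherian_of_proper (k := k) (X := X)
  have h00 := H29RR.finrank_h0_structure k X
  haveI := H10Coh.epi_toSubscheme I
  have hne : ¬ IsZero (ClSub.idealMod I) := fun h0 => by
    haveI : Mono (ClSub.toSubscheme I) := Preadditive.mono_of_kernel_zero (h0.eq_of_src _ _)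
    haveI : IsIso (ClSub.toSubscheme I) := isIso_of_mono_of_epi _
    have := (H29RR.hhIso (k := k) (asIso (ClSub.toSubscheme I)) 0).finrank_eq
    exact absurd (h00.symm.trans (this.trans hI)) (by norm_num)
  obtain ⟨hIi, hdI⟩ := H29RR.ideal_colength (k := k) hdim.le I hne
  have hT := H29RR.deg_tensor (k := k) hdim.le hL hIi
  have hTi := H11Ample.isInvertible_tensor hL hIi
  haveI := H29RR.h1_vanish_of_deg (k := k) hdim.le h00 hTi (by rw [hT, hdI, hI]; omega)
  haveI := H29RR.h1_vanish_of_deg (k := k) hdim.le h00 hL (by omega)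
  have h1 := H29RR.riemann_roch (k := k) hdim.le L
  have h2 := H29RR.riemann_roch (k := k) hdim.le (CohB1.tensorMod L (ClSub.idealMod I))
  rw [Module.finrank_zero_of_subsingleton (M := Coh.HH X L 1)] at h1
  rw [Module.finrank_zero_of_subsingleton (M := Coh.HH X (CohB1.tensorMod L (ClSub.idealMod I)) 1), hT, hdI, hI] at h2
  omega

end Groth.Agent.S18804
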