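import Groth.Statements.S18805
import Groth.Agent.H29Clifford.Basic
import Groth.Agent.H29RR.IdealCurve

set_option autoImplicit false
universe u
open CategoryTheory CategoryTheory.Limits AlgebraicGeometry
open Curves

namespace Groth.Agent.S18805

/-- Let k be an algebraically closed field of characteristic zero and X a smooth proper integral curve
over k (integral, proper and smooth over k, of dimension one), with sheaf of differentials ω =
Ω_(X/k). Then ω is 3-very ample, meaning dim_k H^0(X, ω ⊗ I) + 4 = dim_k H^0(X, ω) for every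
quasi-coherent ideal I of O_X with dim_k H^0(X, O_X/I) = 4, if and only if X carries no g^1_4,
meaning that for every such I (the ideal of an effective divisor D of degree 4) every module M with
I ⊗ M ≅ O_X (so M plays the role of O_X(D)) has dim_k H^0(X, M) = 1. -/
theorem result
    (k : Type u) [Field k] [IsAlgClosed k] [CharZero k]
    (X : Scheme.{u}) [X.Over (Spec (CommRingCat.of k))] [IsIntegral X]
    [IsProper (X ↘ Spec (CommRingCat.of k))] [Smooth (X ↘ Spec (CommRingCat.of k))]
    (hdim : topologicalKrullDim X = 1) :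
    (∀ (I : X.IdealSheafData), Module.finrank k (Coh.HH X (ClSub.quotMod I) 0) = 4 →
      Module.finrank k (Coh.HH X (CohB1.tensorMod (Omega.sheaf (X ↘ Spec (CommRingCat.of k))) (ClSub.idealMod I)) 0) + 4 =
        Module.finrank k (Coh.HH X (Omega.sheaf (X ↘ Spec (CommRingCat.of k))) 0)) ↔
    (∀ (I : X.IdealSheafData), Module.finrank k (Coh.HH X (ClSub.quotMod I) 0) = 4 →
      ∀ (M : X.Modules), ClSub.IsInverseOf (ClSub.idealMod I) M →
        Module.finrank k (Coh.HH X M 0) = 1) := by
  haveI := H29RR.isNoetherian_of_proper (k := k) (X := X)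
  have h00 := H29RR.finrank_h0_structure k X
  rw [H29CurveDual.finrank_h1_structure hdim]
  have key : ∀ (I : X.IdealSheafData), Module.finrank k (Coh.HH X (ClSub.quotMod I) 0) = 4 →
      PicF.IsInvertible (ClSub.idealMod I) ∧ ∀ (M : X.Modules), ClSub.IsInverseOf (ClSub.idealMod I) M →
        (Module.finrank k (Coh.HH X M 0) : ℤ) + Curv2.genus k X = 5 +
          Module.finrank k (Coh.HH X (CohB1.tensorMod (Omega.sheaf (X ↘ Spec (CommRingCat.of k))) (ClSub.idealMod I)) 0) := by
    intro I h4
    obtain ⟨hI, hd⟩ := H29RR.ideal_colength (k := k) hdim.le I fun hz => by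
      haveI : Epi (ClSub.toSubscheme I) := H10Coh.epi_toSubscheme I
      haveI : Mono (ClSub.toSubscheme I) := Preadditive.mono_of_kernel_zero (hz.eq_of_src _ _)
      haveI : IsIso (ClSub.toSubscheme I) := isIso_of_mono_of_epi _
      have := (H29CurveDual.finrank_h0_congr (k := k) (asIso (ClSub.toSubscheme I)) 0).trans h4
      exact absurd (h00.symm.trans this) (by decide)
    refine ⟨hI, fun M ⟨e⟩ => ?_⟩
    have hM := H29CurveDual.isInvertible_of_isInverseOf hI ⟨e⟩
    let e' := H10Coh.Tw.commIso M (ClSub.idealMod I) ≪≫ e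
    have hdM := H29RR.deg_tensor (k := k) hdim.le hI hM
    rw [H29RR.deg_congr (k := k) e, H29RR.deg_structureModule, hd, h4] at hdM
    have hrr := H29RR.riemann_roch (k := k) hdim.le M
    rw [h00, H29CurveDual.finrank_h1_invertible (k := k) hdim hM hI e'] at hrr
    omega
  refine ⟨fun h I h4 M hM => ?_, fun h I h4 => ?_⟩
  · have := (key I h4).2 M hM
    have := h I h4
    omega
  · obtain ⟨hI, hkey⟩ := key I h4
    obtain ⟨M, -, ⟨e⟩⟩ := H29RR.exists_inverse_comm hI
    have := hkey M ⟨e⟩
    have := h I h4 M ⟨e⟩
    omega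

end Groth.Agent.S18805
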