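import Groth.Statements.S18806
import Mathlib.RingTheory.Flat.Basic

set_option autoImplicit false
universe u v v' w w' x
open TensorProduct
open HopfRep

namespace Groth.Agent.S18806

/-- Let k be a field, i : C → D an injective morphism of k-coalgebras and V a right D-comodule with
coaction ρ : V → V ⊗ D. If ρ(v) lies in the image of V ⊗ C → V ⊗ D (induced by i) for every v, then
V comes from a C-comodule: there is a C-comodule structure on V whose coaction, followed by V ⊗ C →
V ⊗ D, is ρ. (The source states this for left comodules over the coordinate bialgebras of an affine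
monoid scheme over k and of its group of units, assumed open and schematically dense, and uses that
assumption only through the injectivity of the restriction map of coordinate rings; the row is the
right-comodule mirror image for any injective coalgebra map. The converse direction is immediate.) -/
theorem result (k : Type u) [Field k]
    (C : Type v) [AddCommGroup C] [Module k C] [Coalgebra k C]
    (D : Type v') [AddCommGroup D] [Module k D] [Coalgebra k D]
    (i : C →ₗc[k] D) (hi : Function.Injective i)
    (V : Type w) [AddCommGroup V] [Module k V] [HopfRep.Comod k D V]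
    (h : ∀ v : V, HopfRep.Comod.coact (k := k) (A := D) v ∈ LinearMap.range ((i : C →ₗ[k] D).lTensor V)) :
    ∃ c : HopfRep.Comod k C V,
      (i : C →ₗ[k] D).lTensor V ∘ₗ c.coact = HopfRep.Comod.coact (k := k) (A := D) := by
  have hinj : Function.Injective ((i : C →ₗ[k] D).lTensor V) :=
    Module.Flat.lTensor_preserves_injective_linearMap _ hi
  let c : V →ₗ[k] V ⊗[k] C := (LinearEquiv.ofInjective _ hinj).symm.toLinearMap ∘ₗ
    (HopfRep.Comod.coact (k := k) (A := D)).codRestrict _ h
  have hc : (i : C →ₗ[k] D).lTensor V ∘ₗ c = HopfRep.Comod.coact (k := k) (A := D) := by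
    refine LinearMap.ext fun v => ?_
    exact congrArg Subtype.val ((LinearEquiv.ofInjective _ hinj).apply_symm_apply ⟨_, h v⟩)
  have hcv : ∀ v, (i : C →ₗ[k] D).lTensor V (c v) = HopfRep.Comod.coact (k := k) (A := D) v :=
    fun v => LinearMap.congr_fun hc v
  refine ⟨⟨c, ?_, ?_⟩, hc⟩
  · have hL : Function.Injective
        ((TensorProduct.map (i : C →ₗ[k] D) (i : C →ₗ[k] D)).lTensor V) := by
      refine Module.Flat.lTensor_preserves_injective_linearMap _ ?_
      rw [← LinearMap.lTensor_comp_rTensor, LinearMap.coe_comp]
      exact (Module.Flat.lTensor_preserves_injective_linearMap _ hi).comp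
        (Module.Flat.rTensor_preserves_injective_linearMap _ hi)
    refine LinearMap.ext fun v => hL ?_
    have h1 : ∀ z : V ⊗[k] C, (TensorProduct.map (i : C →ₗ[k] D) (i : C →ₗ[k] D)).lTensor V
        (TensorProduct.assoc k V C C (c.rTensor C z)) = TensorProduct.assoc k V D D
          ((HopfRep.Comod.coact (k := k) (A := D)).rTensor D ((i : C →ₗ[k] D).lTensor V z)) := by
      intro z
      induction z using TensorProduct.induction_on with
      | zero => simp
      | tmul x a =>
        simp only [LinearMap.rTensor_tmul, LinearMap.lTensor_tmul, ← hcv x]
        generalize c x = y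
        induction y using TensorProduct.induction_on with
        | zero => simp
        | tmul p b => simp
        | add x y hx hy => simp only [TensorProduct.add_tmul, map_add, hx, hy]
      | add x y hx hy => simp only [map_add, hx, hy]
    simp only [LinearMap.coe_comp, Function.comp_apply, LinearEquiv.coe_coe]
    rw [h1, hcv, ← LinearMap.lTensor_comp_apply, CoalgHomClass.map_comp_comul, LinearMap.lTensor_comp_apply,
      hcv]
    exact LinearMap.congr_fun (HopfRep.Comod.coassoc (k := k) (A := D) (V := V)) v
  · refine LinearMap.ext fun v => ?_
    have := LinearMap.congr_fun (HopfRep.Comod.counit_comp (k := k) (A := D) (V := V)) v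
    simp only [LinearMap.coe_comp, Function.comp_apply] at this ⊢
    rw [← this, ← hcv, ← LinearMap.lTensor_comp_apply, CoalgHomClass.counit_comp]

end Groth.Agent.S18806
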