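import Groth.Statements.S18808
import Groth.Agent.H20Comod.Slices

set_option autoImplicit false
universe u v v' w w' x
open TensorProduct
open HopfRep

namespace Groth.Agent.S18808
open Groth.Agent.H20Comod

/-- Let k be a field, i : C → D an injective morphism of k-coalgebras and V a right D-comodule with
coaction ρ. Call a D-subcomodule K of V admissible when the induced coaction of V/K, namely ρ
followed by the projection V ⊗ D → (V/K) ⊗ D, takes all its values in the image of (V/K) ⊗ C → (V/K)
⊗ D (so that V/K comes from a C-comodule). Then there is a least admissible D-subcomodule of V: V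
has a largest quotient D-comodule coming from C, through which every D-comodule map from V to a
comodule coming from C factors. (The source states this for left comodules over the coordinate
bialgebras of an affine monoid scheme and its open schematically dense group of units, as the
existence of a universal map from a representation of the unit group to a representation of the
monoid; it uses that assumption only through the injectivity of the restriction map.) -/
theorem result (k : Type u) [Field k]
    (C : Type v) [AddCommGroup C] [Module k C] [Coalgebra k C]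
    (D : Type v') [AddCommGroup D] [Module k D] [Coalgebra k D]
    (i : C →ₗc[k] D) (hi : Function.Injective i)
    (V : Type w) [AddCommGroup V] [Module k V] [HopfRep.Comod k D V] :
    ∃ K : Submodule k V, HopfRep.IsSubcomod (k := k) (A := D) K ∧
      (∀ v : V, K.mkQ.rTensor D (HopfRep.Comod.coact (k := k) (A := D) v) ∈
        LinearMap.range ((i : C →ₗ[k] D).lTensor (V ⧸ K))) ∧
      ∀ K' : Submodule k V, HopfRep.IsSubcomod (k := k) (A := D) K' →
        (∀ v : V, K'.mkQ.rTensor D (HopfRep.Comod.coact (k := k) (A := D) v) ∈
          LinearMap.range ((i : C →ₗ[k] D).lTensor (V ⧸ K'))) → K ≤ K' := by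
  let s : Set V := {x | ∃ φ : D →ₗ[k] k, φ ∘ₗ (i : C →ₗ[k] D) = 0 ∧ ∃ v, actL φ v = x}
  have key : ∀ K : Submodule k V, (∀ v : V, K.mkQ.rTensor D (HopfRep.Comod.coact (k := k) (A := D) v) ∈
      LinearMap.range ((i : C →ₗ[k] D).lTensor (V ⧸ K))) ↔ s ⊆ K := by
    intro K
    constructor
    · rintro h _ ⟨φ, hφ, v, rfl⟩
      obtain ⟨y, hy⟩ := h v
      have h2 := congrArg (sliceR φ) hy
      rw [sliceR_rTensor, sliceR_lTensor, hφ, sliceR, LinearMap.lTensor_zero] at h2
      exact (Submodule.Quotient.mk_eq_zero K).1 (show K.mkQ (sliceR φ _) = 0 by simpa using h2.symm)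
    · intro h v
      have hex : Function.Exact ((i : C →ₗ[k] D).lTensor (V ⧸ K))
          ((LinearMap.range (i : C →ₗ[k] D)).mkQ.lTensor (V ⧸ K)) :=
        lTensor_exact _ (LinearMap.exact_map_mkQ_range _) (Submodule.mkQ_surjective _)
      refine (hex _).1 (eq_zero_of_forall_sliceR fun ψ => ?_)
      rw [sliceR_lTensor, sliceR_rTensor]
      refine (Submodule.Quotient.mk_eq_zero K).2 (h ⟨_, LinearMap.ext fun c => ?_, v, rfl⟩)
      show ψ ((LinearMap.range (i : C →ₗ[k] D)).mkQ ((i : C →ₗ[k] D) c)) = 0
      rw [Submodule.mkQ_apply, (Submodule.Quotient.mk_eq_zero _).2 (LinearMap.mem_range_self (i : C →ₗ[k] D) c),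
        map_zero]
  refine ⟨gen k D s, isSubcomod_gen _, (key _).2 (subset_gen _), fun K' h1 h2 => gen_le h1 ((key K').1 h2)⟩

end Groth.Agent.S18808
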