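import Groth.Statements.S18809
import Groth.Agent.H20Comod.DualMod

set_option autoImplicit false
universe u v v' w w' x
open TensorProduct
open HopfRep

namespace Groth.Agent.S18809
open TensorProduct
open Groth.Agent.H20Comod

theorem lift_comod {k : Type u} [Field k] {C : Type v} [AddCommGroup C] [Module k C] [Coalgebra k C]
    {D : Type v'} [AddCommGroup D] [Module k D] [Coalgebra k D] (i : C →ₗc[k] D)
    {V : Type w} [AddCommGroup V] [Module k V] [HopfRep.Comod k C V] :
    ∃ d : HopfRep.Comod k D V, d.coact = (i : C →ₗ[k] D).lTensor V ∘ₗ HopfRep.Comod.coact (k := k) (A := C) := by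
  refine ⟨⟨(i : C →ₗ[k] D).lTensor V ∘ₗ HopfRep.Comod.coact (k := k) (A := C), ?_, ?_⟩, rfl⟩
  · apply LinearMap.ext
    intro v
    have hco := LinearMap.congr_fun (HopfRep.Comod.coassoc (k := k) (A := C) (V := V)) v
    simp only [LinearMap.coe_comp, Function.comp_apply, LinearEquiv.coe_coe] at hco ⊢
    have h1 : ∀ z : V ⊗[k] C, TensorProduct.assoc k V D D
        (((i : C →ₗ[k] D).lTensor V ∘ₗ HopfRep.Comod.coact (k := k) (A := C)).rTensor D
          ((i : C →ₗ[k] D).lTensor V z)) =
        (TensorProduct.map (i : C →ₗ[k] D) (i : C →ₗ[k] D)).lTensor V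
          (TensorProduct.assoc k V C C ((HopfRep.Comod.coact (k := k) (A := C)).rTensor C z)) := by
      intro z
      induction z using TensorProduct.induction_on with
      | zero => simp
      | tmul x c =>
        simp only [LinearMap.lTensor_tmul, LinearMap.rTensor_tmul, LinearMap.coe_comp, Function.comp_apply]
        generalize HopfRep.Comod.coact (k := k) (A := C) x = y
        induction y using TensorProduct.induction_on with
        | zero => simp
        | tmul p b => simp
        | add x y hx hy => simp only [TensorProduct.add_tmul, map_add, hx, hy]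
      | add x y hx hy => simp only [map_add, hx, hy]
    rw [h1, hco, ← LinearMap.lTensor_comp_apply, ← LinearMap.lTensor_comp_apply, CoalgHomClass.map_comp_comul i]
  · rw [← LinearMap.comp_assoc, ← LinearMap.lTensor_comp, CoalgHomClass.counit_comp i]
    exact HopfRep.Comod.counit_comp


/-- Let k be a field and i : C → D an injective morphism of k-coalgebras. If every right D-comodule is
semisimple (every subcomodule has a complementary subcomodule), then every right C-comodule is
semisimple. (The source states this for the coordinate bialgebras of an affine monoid scheme over k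
and of its open schematically dense group of units, through the injectivity of the restriction map,
with semisimple meaning that every representation is a sum of irreducible subrepresentations;
D-comodules are quantified in the universe of the given C-comodule.) -/
theorem result (k : Type u) [Field k]
    (C : Type v) [AddCommGroup C] [Module k C] [Coalgebra k C]
    (D : Type v') [AddCommGroup D] [Module k D] [Coalgebra k D]
    (i : C →ₗc[k] D) (hi : Function.Injective i)
    (hD : ∀ (W : Type w) [AddCommGroup W] [Module k W] [HopfRep.Comod k D W], HopfRep.IsSemisimpleComod k D W)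
    (V : Type w) [AddCommGroup V] [Module k V] [HopfRep.Comod k C V] :
    HopfRep.IsSemisimpleComod k C V := by
  open Groth.Agent.H20Comod in
  obtain ⟨d, hd⟩ := lift_comod (V := V) i
  letI := d
  obtain hs := hD V
  intro W hW
  have hiff : ∀ U : Submodule k V, HopfRep.IsSubcomod (k := k) (A := C) U ↔ HopfRep.IsSubcomod (k := k) (A := D) U := by
    intro U
    have hact : ∀ (φ : D →ₗ[k] k) (v : V), actL φ v = actL (φ ∘ₗ (i : C →ₗ[k] D)) v := by
      intro φ v
      rw [actL_apply, actL_apply, ← sliceR_lTensor]
      exact congrArg (sliceR φ) (LinearMap.congr_fun hd v)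
    rw [isSubcomod_iff_forall_actL, isSubcomod_iff_forall_actL]
    refine ⟨fun h v hv φ => by rw [hact]; exact h v hv _, fun h v hv φ => ?_⟩
    obtain ⟨j, hj⟩ := LinearMap.exists_leftInverse_of_injective (i : C →ₗ[k] D) (LinearMap.ker_eq_bot.2 hi)
    have := h v hv (φ ∘ₗ j)
    rwa [hact, LinearMap.comp_assoc, hj, LinearMap.comp_id] at this
  obtain ⟨W', hW', hc⟩ := hs W ((hiff W).1 hW)
  exact ⟨W', (hiff W').2 hW', hc⟩

end Groth.Agent.S18809
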