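import Groth.Statements.S18811
import Mathlib

set_option autoImplicit false
universe u
open CategoryTheory CategoryTheory.Limits AlgebraicGeometry
open Variety

namespace Groth.Agent.S18811

/-- Let k be a field and X, Y quasi-compact k-schemes whose diagonal morphisms over k are affine
(semi-separated; for instance X and Y separated over k). Then the canonical map Γ(X, O_X) ⊗_k Γ(Y,
O_Y) → Γ(X ×_k Y, O) is an isomorphism: the commutative square of rings of global sections formed by
Spec k, X, Y and X ×_k Y with the pullback maps along the structure morphisms and the two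
projections is a pushout square of commutative rings. -/
theorem result (k : Type u) [Field k]
    (X : Scheme.{u}) [X.Over (Spec (CommRingCat.of k))] [CompactSpace ↥X]
    [IsAffineHom (pullback.diagonal (X ↘ (Spec (CommRingCat.of k))))]
    (Y : Scheme.{u}) [Y.Over (Spec (CommRingCat.of k))] [CompactSpace ↥Y]
    [IsAffineHom (pullback.diagonal (Y ↘ (Spec (CommRingCat.of k))))] :
    IsPushout (X ↘ (Spec (CommRingCat.of k))).appTop (Y ↘ (Spec (CommRingCat.of k))).appTop
      (pullback.fst (X ↘ (Spec (CommRingCat.of k))) (Y ↘ (Spec (CommRingCat.of k)))).appTop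
      (pullback.snd (X ↘ (Spec (CommRingCat.of k))) (Y ↘ (Spec (CommRingCat.of k)))).appTop := by
  set f := X ↘ Spec (CommRingCat.of k)
  set g := Y ↘ Spec (CommRingCat.of k)
  haveI : QuasiSeparated f := ⟨inferInstance⟩
  haveI : QuasiSeparated g := ⟨inferInstance⟩
  haveI : QuasiSeparatedSpace X := quasiSeparatedSpace_of_quasiSeparated f
  haveI : QuasiSeparatedSpace Y := quasiSeparatedSpace_of_quasiSeparated g
  letI e := (Scheme.ΓSpecIso (CommRingCat.of k)).commRingCatIsoToRingEquiv
  have hfld : IsField Γ(Spec (CommRingCat.of k), ⊤) := MulEquiv.isField (Field.toIsField k) e.toMulEquiv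
  letI := hfld.toField
  haveI : Flat g := by
    rw [HasRingHomProperty.iff_appLE (P := @Flat)]
    intro U V h
    obtain hU | hU : (U : (Spec (CommRingCat.of k)).Opens) = ⊥ ∨ (U : (Spec (CommRingCat.of k)).Opens) = ⊤ := by
      rcases Set.Subsingleton.eq_empty_or_singleton (Set.subsingleton_of_subsingleton (s := (U.1.carrier))) with h0 | ⟨p, hp⟩
      · exact .inl (TopologicalSpace.Opens.ext h0)
      · exact .inr (TopologicalSpace.Opens.ext (hp.trans (Set.eq_univ_of_forall fun x => Subsingleton.elim x p)))
    · obtain ⟨U, hUa⟩ := U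
      obtain rfl : U = ⊥ := hU
      algebraize [(g.appLE ⊥ V.1 h).hom]
      have : Subsingleton Γ(Spec (CommRingCat.of k), ⊥) := inferInstance
      haveI : Subsingleton Γ(Y, V.1) := Module.subsingleton Γ(Spec (CommRingCat.of k), ⊥) _
      exact Module.Flat.of_free
    · obtain ⟨U, hUa⟩ := U
      obtain rfl : U = ⊤ := hU
      algebraize [(g.appLE ⊤ V.1 h).hom]
      exact Module.Flat.of_free
  have key := (isIso_pushoutSection_iff (IsPullback.of_hasPullback f g) (US := ⊤) (UT := ⊤) (UX := ⊤) (UY := ⊤) le_top le_top (by simp)).mp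
    (isIso_pushoutSection_of_isCompact_of_flat_right_of_ringHomFlat (IsPullback.of_hasPullback f g) le_top le_top (by simp)
      (isAffineOpen_top _) isCompact_univ isQuasiSeparated_univ isCompact_univ isQuasiSeparated_univ (by
        algebraize [(f.appLE ⊤ ⊤ le_top).hom]
        exact Module.Flat.of_free))
  simpa [Scheme.Hom.appLE, Scheme.Hom.appTop] using key

end Groth.Agent.S18811
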