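import Groth.Statements.S18814
import Groth.Agent.H20Comod.DualMod

set_option autoImplicit false
universe u v v' w w'
open TensorProduct
open HopfRep

namespace Groth.Agent.S18814
open Groth.Agent.H20Comod

/-- Let k be a field, C and D commutative bialgebras over k (coordinate rings of affine monoid schemes M
and N) and V a k-vector space carrying a right C-comodule structure with coaction ρ_C : V → V ⊗ C
and a right D-comodule structure with coaction ρ_D : V → V ⊗ D which commute: (ρ_C ⊗ id_D) ∘ ρ_D and
(ρ_D ⊗ id_C) ∘ ρ_C agree in V ⊗ C ⊗ D after reassociating and swapping the last two factors (the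
actions of M and N on V commute). Assume V is semisimple as a D-comodule. Then for every simple
D-comodule S the isotypic component of V of type S, the sum of the images of all D-comodule maps S →
V, is a C-subcomodule of V. (The source works with left comodules; this is the right-comodule form.) -/
theorem result (k : Type u) [Field k]
    (C : Type v) [CommRing C] [Bialgebra k C] (D : Type v') [CommRing D] [Bialgebra k D]
    (V : Type w) [AddCommGroup V] [Module k V] [HopfRep.Comod k C V] [HopfRep.Comod k D V]
    (hcomm : (TensorProduct.assoc k V C D).toLinearMap ∘ₗ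
        (HopfRep.Comod.coact (k := k) (A := C) (V := V)).rTensor D ∘ₗ HopfRep.Comod.coact (k := k) (A := D) =
      (TensorProduct.comm k D C).toLinearMap.lTensor V ∘ₗ (TensorProduct.assoc k V D C).toLinearMap ∘ₗ
        (HopfRep.Comod.coact (k := k) (A := D) (V := V)).rTensor C ∘ₗ HopfRep.Comod.coact (k := k) (A := C))
    (hV : HopfRep.IsSemisimpleComod k D V)
    (S : Type w') [AddCommGroup S] [Module k S] [HopfRep.Comod k D S] (hS : HopfRep.IsSimpleComod k D S) :
    HopfRep.IsSubcomod (k := k) (A := C)
      (⨆ f : {f : S →ₗ[k] V // Hoch.IsComodHom D f}, LinearMap.range f.1) := by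
  have hc : ∀ (ψ : C →ₗ[k] k) (φ : D →ₗ[k] k) (v : V), actL ψ (actL φ v) = actL φ (actL ψ v) := by
    intro ψ φ v
    have h := LinearMap.congr_fun hcomm v
    simp only [LinearMap.coe_comp, Function.comp_apply, LinearEquiv.coe_coe] at h
    have hL : ∀ z : V ⊗[k] D, sliceR (LinearMap.mul' k k ∘ₗ TensorProduct.map ψ φ)
        (TensorProduct.assoc k V C D ((HopfRep.Comod.coact (k := k) (A := C) (V := V)).rTensor D z)) =
        actL ψ (sliceR φ z) := by
      intro z
      induction z using TensorProduct.induction_on with
      | zero => simp
      | tmul w a =>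
        simp only [LinearMap.rTensor_tmul, sliceR_tmul, map_smul, actL_apply]
        generalize HopfRep.Comod.coact (k := k) (A := C) w = y
        induction y using TensorProduct.induction_on with
        | zero => simp
        | tmul u b =>
          simp only [TensorProduct.assoc_tmul, sliceR_tmul, LinearMap.coe_comp, Function.comp_apply,
            TensorProduct.map_tmul, LinearMap.mul'_apply, smul_smul]
          rw [mul_comm]
        | add x y hx hy => simp only [TensorProduct.add_tmul, map_add, hx, hy, smul_add]
      | add x y hx hy => simp [hx, hy]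
    have hR : ∀ z : V ⊗[k] C, sliceR (LinearMap.mul' k k ∘ₗ TensorProduct.map ψ φ)
        ((TensorProduct.comm k D C).toLinearMap.lTensor V (TensorProduct.assoc k V D C
          ((HopfRep.Comod.coact (k := k) (A := D) (V := V)).rTensor C z))) =
        actL φ (sliceR ψ z) := by
      intro z
      induction z using TensorProduct.induction_on with
      | zero => simp
      | tmul w a =>
        simp only [LinearMap.rTensor_tmul, sliceR_tmul, map_smul, actL_apply]
        generalize HopfRep.Comod.coact (k := k) (A := D) w = y
        induction y using TensorProduct.induction_on with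
        | zero => simp
        | tmul u b =>
          simp only [TensorProduct.assoc_tmul, LinearMap.lTensor_tmul, LinearEquiv.coe_coe, TensorProduct.comm_tmul,
            sliceR_tmul, LinearMap.coe_comp, Function.comp_apply, TensorProduct.map_tmul, LinearMap.mul'_apply,
            smul_smul]
        | add x y hx hy => simp only [TensorProduct.add_tmul, map_add, hx, hy, smul_add]
      | add x y hx hy => simp [hx, hy]
    have h2 := congrArg (sliceR (LinearMap.mul' k k ∘ₗ TensorProduct.map ψ φ)) h
    rw [hL, hR] at h2
    exact h2
  rw [isSubcomod_iff_forall_actL]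
  intro v hv ψ
  have hle : (⨆ f : {f : S →ₗ[k] V // Hoch.IsComodHom D f}, LinearMap.range f.1) ≤
      Submodule.comap (actL ψ) (⨆ f : {f : S →ₗ[k] V // Hoch.IsComodHom D f}, LinearMap.range f.1) := by
    refine iSup_le fun f => ?_
    rintro _ ⟨s, rfl⟩
    have hg : Hoch.IsComodHom D (actL ψ ∘ₗ f.1) := (isComodHom_iff_forall_actL _).2 fun φ x => by
      show actL ψ (f.1 (actL φ x)) = actL φ (actL ψ (f.1 x))
      rw [actL_comm_of_isComodHom f.2, hc]
    exact le_iSup (fun f : {f : S →ₗ[k] V // Hoch.IsComodHom D f} => LinearMap.range f.1) ⟨_, hg⟩
      ⟨s, rfl⟩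
  exact hle hv

end Groth.Agent.S18814
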