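import Groth.Statements.S18817
import Groth.Agent.H19Grp.MonoEtale
import Groth.Agent.H19Grp.UnitGroup
import Groth.Agent.H19Grp.NilIso

set_option autoImplicit false
set_option maxHeartbeats 1000000
set_option synthInstance.maxHeartbeats 100000
set_option linter.style.haveILetI false
set_option backward.isDefEq.respectTransparency false
universe u
open CategoryTheory MonoidalCategory CartesianMonoidalCategory MonObj AlgebraicGeometry
open AlgGrp

namespace Groth.Agent.S18817

theorem isUnit_of_mul_eq_one' {N : Type*} [Monoid N] (a b : N) (ha : IsUnit a) (h : a * b = 1) : IsUnit b := by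
  obtain ⟨v, rfl⟩ := ha
  exact ⟨v⁻¹, by simpa [Units.mul_eq_one_iff_inv_eq] using h⟩

open MonoidalCategory CartesianMonoidalCategory in
theorem isUnit_of_thickening {k : Type u} [Field k] {M : Over (Spec (CommRingCat.of k))} [MonObj M]
    {A : Type u} [CommRing A] (I : Ideal A) (hI : IsNilpotent I)
    (t : Spec (CommRingCat.of A) ⟶ Spec (CommRingCat.of k)) (m : Over.mk t ⟶ M)
    (h : IsUnit ((Over.homMk (H19Grp.NilIso.thick I) rfl :
      Over.mk (H19Grp.NilIso.thick I ≫ t) ⟶ Over.mk t) ≫ m)) : IsUnit m := by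
  haveI : Flat M.hom := inferInstance
  suffices key : ∀ m : Over.mk t ⟶ M, IsUnit ((Over.homMk (H19Grp.NilIso.thick I) rfl :
      Over.mk (H19Grp.NilIso.thick I ≫ t) ⟶ Over.mk t) ≫ m) → ∃ n : Over.mk t ⟶ M, m * n = 1 by
    obtain ⟨n, hn⟩ := key m h
    let j : Over.mk (H19Grp.NilIso.thick I ≫ t) ⟶ Over.mk t := Over.homMk (H19Grp.NilIso.thick I) rfl
    have hn0 : (j ≫ m) * (j ≫ n) = 1 := by rw [← MonObj.comp_mul, hn, MonObj.comp_one]
    obtain ⟨p, hp⟩ := key n (isUnit_of_mul_eq_one' (j ≫ m) (j ≫ n) h hn0)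
    exact ⟨⟨m, n, hn, (left_inv_eq_right_inv hn hp).symm ▸ hp⟩, rfl⟩
  intro m h
  let j : Over.mk (H19Grp.NilIso.thick I ≫ t) ⟶ Over.mk t := Over.homMk (H19Grp.NilIso.thick I) rfl
  let T := Over.mk t
  let φ : T ⊗ M ⟶ T ⊗ M := lift (fst T M) ((fst T M ≫ m) * snd T M)
  let W : Over (Spec (CommRingCat.of A)) := Over.mk (fst T M).left
  have hφ : φ ≫ fst T M = fst T M := lift_fst _ _
  let f : W ⟶ W := Over.homMk φ.left (congr($(hφ).left))
  haveI : Flat W.hom := by
    change Flat (fst T M).left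
    rw [Over.fst_left]; infer_instance
  haveI : IsIso ((Over.pullback (H19Grp.NilIso.thick I)).map f) := by
    refine isIso_of_yoneda_map_bijective _ fun T' => ?_
    let e := (Over.mapPullbackAdj (H19Grp.NilIso.thick I)).homEquiv T' W
    suffices hb : Function.Bijective fun g : (Over.map (H19Grp.NilIso.thick I)).obj T' ⟶ W => g ≫ f by
      have hh : (fun g : T' ⟶ (Over.pullback (H19Grp.NilIso.thick I)).obj W =>
          g ≫ (Over.pullback (H19Grp.NilIso.thick I)).map f) = e ∘ (fun g => g ≫ f) ∘ e.symm := by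
        funext g
        simp [e, Adjunction.homEquiv_naturality_right]
      rw [hh]
      exact (e.bijective.comp hb).comp e.symm.bijective
    let T'' : Over (Spec (CommRingCat.of k)) := Over.mk (T'.hom ≫ H19Grp.NilIso.thick I ≫ t)
    let τ : T'' ⟶ T := Over.homMk (T'.hom ≫ H19Grp.NilIso.thick I) (by simp [T'', T])
    obtain ⟨u, hu⟩ : IsUnit (τ ≫ m) := by
      have hτ : τ = (Over.homMk T'.hom : T'' ⟶ Over.mk (H19Grp.NilIso.thick I ≫ t)) ≫ j := by
        ext : 1; rfl
      rw [hτ, Category.assoc]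
      exact h.map (⟨⟨fun x => (Over.homMk T'.hom : T'' ⟶ Over.mk (H19Grp.NilIso.thick I ≫ t)) ≫ x,
        MonObj.comp_one _⟩, fun x y => MonObj.comp_mul _ x y⟩ : (_ ⟶ M) →* (_ ⟶ M))
    let mkW (x : T'' ⟶ M) : (Over.map (H19Grp.NilIso.thick I)).obj T' ⟶ W :=
      Over.homMk (lift τ x).left (congr($(lift_fst τ x).left))
    let toX (g : (Over.map (H19Grp.NilIso.thick I)).obj T' ⟶ W) : T'' ⟶ T ⊗ M :=
      Over.homMk g.left (by
        have h1 : g.left ≫ (fst T M).left = T'.hom ≫ H19Grp.NilIso.thick I := Over.w g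
        rw [← Over.w (fst T M), ← Category.assoc, h1, Category.assoc]; rfl)
    have htoX : ∀ g, toX g ≫ fst T M = τ := fun g => by ext : 1; exact Over.w g
    have hcomp : ∀ g, toX g ≫ φ = lift τ ((u : T'' ⟶ M) * (toX g ≫ snd T M)) := fun g => by
      rw [comp_lift, MonObj.comp_mul, ← Category.assoc, htoX, hu]
    refine ⟨fun a b hab => ?_, fun b => ?_⟩
    · have h1 : toX a ≫ φ = toX b ≫ φ := Over.OverMorphism.ext congr(($hab).left)
      have h2 := congr($h1 ≫ snd T M)
      rw [hcomp, hcomp, lift_snd, lift_snd, Units.mul_right_inj] at h2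
      have h3 : toX a = toX b := CartesianMonoidalCategory.hom_ext _ _ (by rw [htoX, htoX]) h2
      ext : 1
      exact congr(($h3).left)
    · refine ⟨mkW ((↑u⁻¹ : T'' ⟶ M) * (toX b ≫ snd T M)), ?_⟩
      have h1 : toX (mkW ((↑u⁻¹ : T'' ⟶ M) * (toX b ≫ snd T M))) ≫ φ = toX b := by
        have h2 : toX (mkW ((↑u⁻¹ : T'' ⟶ M) * (toX b ≫ snd T M))) =
            lift τ ((↑u⁻¹ : T'' ⟶ M) * (toX b ≫ snd T M)) := Over.OverMorphism.ext rfl
        rw [hcomp, h2, lift_snd, Units.mul_inv_cancel_left]
        exact CartesianMonoidalCategory.hom_ext _ _ (by rw [lift_fst, htoX]) (lift_snd _ _)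
      ext : 1
      exact congr(($h1).left)
  haveI hfi : IsIso f := H19Grp.NilIso.isIso_of_isIso_mod I hI f
  haveI : IsIso ((Over.forget _).map φ) := inferInstanceAs (IsIso ((Over.forget _).map f))
  haveI : IsIso φ := isIso_of_reflects_iso φ (Over.forget _)
  refine ⟨lift (𝟙 T) 1 ≫ inv φ ≫ snd T M, ?_⟩
  have h1 : (lift (𝟙 T) 1 ≫ inv φ) ≫ φ = lift (𝟙 T) (1 : T ⟶ M) := by simp
  have h2 : (lift (𝟙 T) 1 ≫ inv φ) ≫ fst T M = 𝟙 T := by
    have := congr($h1 ≫ fst T M)
    rwa [Category.assoc, hφ, lift_fst] at this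
  have h3 := congr($h1 ≫ snd T M)
  rw [Category.assoc, lift_snd, lift_snd, MonObj.comp_mul, ← Category.assoc, h2, Category.id_comp,
    Category.assoc] at h3
  exact h3


/-- Let k be a field and M an algebraic monoid over k, i.e. a monoid object in k-schemes whose
underlying scheme is of finite type over k, and assume M is geometrically integral. Let i : G → M be
the group of units of M: a monomorphism of k-schemes such that, for every k-scheme T, a T-valued
point of M factors through i if and only if it is invertible in the monoid M(T). Then i is an open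
immersion. -/
theorem result (k : Type u) [Field k]
    (M G : Over (Spec (CommRingCat.of k))) [MonObj M] [LocallyOfFiniteType M.hom] [QuasiCompact M.hom]
    [GeometricallyIntegral M.hom] (i : G ⟶ M) [Mono i]
    (hi : ∀ (T : Over (Spec (CommRingCat.of k))) (m : T ⟶ M), (∃ g : T ⟶ G, g ≫ i = m) ↔ IsUnit m) :
    IsOpenImmersion i.left := by
  haveI := (inferInstance : IsLocallyNoetherian (Spec (CommRingCat.of k)))
  have hu : ∃ g : G ⟶ H19Grp.UnitGroup.units M, g ≫ H19Grp.UnitGroup.unitsι M = i :=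
    (H19Grp.UnitGroup.exists_iff M i).mpr ((hi G i).mp ⟨𝟙 G, Category.id_comp i⟩)
  obtain ⟨g, hg⟩ := hu
  obtain ⟨g', hg'⟩ := (hi _ (H19Grp.UnitGroup.unitsι M)).mpr
    ((H19Grp.UnitGroup.exists_iff M _).mp ⟨𝟙 _, Category.id_comp _⟩)
  haveI : IsIso g := ⟨g', by rw [← cancel_mono i, Category.assoc, hg', hg, Category.id_comp],
    by rw [← cancel_mono (H19Grp.UnitGroup.unitsι M), Category.assoc, hg, hg', Category.id_comp]⟩
  haveI : LocallyOfFiniteType (M ⊗ M).hom := by
    rw [Over.tensorObj_hom]; infer_instance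
  haveI : LocallyOfFiniteType G.hom := by
    have h1 : G.hom = g.left ≫ (Limits.pullback.fst (H19Grp.UnitGroup.prodMap M) (H19Grp.UnitGroup.onePt M)).left ≫
        (M ⊗ M).hom := by rw [Over.w, Over.w]
    haveI : IsIso g.left := inferInstanceAs (IsIso ((Over.forget _).map g))
    rw [h1]; infer_instance
  haveI : IsLocallyNoetherian G.left := LocallyOfFiniteType.isLocallyNoetherian G.hom
  haveI : IsLocallyNoetherian M.left := LocallyOfFiniteType.isLocallyNoetherian M.hom
  haveI : LocallyOfFiniteType (i.left ≫ M.hom) := by rw [Over.w]; infer_instance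
  haveI : LocallyOfFiniteType i.left := locallyOfFiniteType_of_comp i.left M.hom
  haveI : Mono i.left := inferInstanceAs (Mono ((Over.forget _).map i))
  refine H19Grp.MonoEtale.isOpenImmersion_of_lift i.left fun x n => ?_
  let A := M.left.presheaf.stalk (i.left.base x) ⧸
    IsLocalRing.maximalIdeal (M.left.presheaf.stalk (i.left.base x)) ^ (n + 1)
  let c : Spec (CommRingCat.of A) ⟶ M.left :=
    Spec.map (CommRingCat.ofHom (Ideal.Quotient.mk _)) ≫ M.left.fromSpecStalk (i.left.base x)
  let I := IsLocalRing.maximalIdeal A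
  have hI : IsNilpotent I := ⟨n + 1, H19Grp.MonoEtale.isNilpotent_maximalIdeal_quotient n⟩
  let m : Over.mk (c ≫ M.hom) ⟶ M := Over.homMk c rfl
  suffices hm : IsUnit m by
    obtain ⟨y, hy⟩ := (hi _ m).mpr hm
    exact ⟨y.left, congr(($hy).left)⟩
  apply isUnit_of_thickening I hI
  letI : Field (A ⧸ I) := Ideal.Quotient.field I
  haveI : IsIntegral (Spec (CommRingCat.of (A ⧸ I))) := inferInstance
  let q := H19Grp.NilIso.thick I ≫ c
  let P := Limits.pullback i.left q
  have hsurj : Surjective (Limits.pullback.snd i.left q) := ⟨fun z => by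
    haveI : IsLocalHom (Ideal.Quotient.mk I) := IsLocalHom.of_surjective _ Ideal.Quotient.mk_surjective
    haveI : IsLocalHom (Ideal.Quotient.mk (IsLocalRing.maximalIdeal (M.left.presheaf.stalk (i.left.base x)) ^ (n + 1))) :=
      IsLocalHom.of_surjective _ Ideal.Quotient.mk_surjective
    have hz : q.base z = i.left.base x := by
      have h1 : (H19Grp.NilIso.thick I).base z = IsLocalRing.closedPoint A := by
        rw [Subsingleton.elim (α := PrimeSpectrum (A ⧸ I)) z (IsLocalRing.closedPoint (A ⧸ I))]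
        exact IsLocalRing.comap_closedPoint (Ideal.Quotient.mk I)
      exact (congrArg c.base h1).trans ((congrArg _ (IsLocalRing.comap_closedPoint (Ideal.Quotient.mk
        (IsLocalRing.maximalIdeal (M.left.presheaf.stalk (i.left.base x)) ^ (n + 1))))).trans
        Scheme.fromSpecStalk_closedPoint)
    obtain ⟨w, -, hw⟩ := Scheme.Pullback.exists_preimage_pullback x z hz.symm
    exact ⟨w, hw⟩⟩
  haveI : IsLocallyNoetherian (Spec (CommRingCat.of (A ⧸ I))) := inferInstance
  haveI : IsOpenImmersion (Limits.pullback.snd i.left q) := IsOpenImmersion.of_flat_of_mono _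
  haveI : IsIso (Limits.pullback.snd i.left q) := (isIso_iff_isOpenImmersion_and_surjective _).mpr ⟨inferInstance, hsurj⟩
  refine (hi _ _).mp ⟨Over.homMk (inv (Limits.pullback.snd i.left q) ≫ Limits.pullback.fst i.left q) ?_, ?_⟩
  · change _ = H19Grp.NilIso.thick I ≫ c ≫ M.hom
    rw [← Over.w i, Category.assoc, Limits.pullback.condition_assoc, IsIso.inv_hom_id_assoc, Category.assoc]
  · ext : 1
    change (inv (Limits.pullback.snd i.left q) ≫ Limits.pullback.fst i.left q) ≫ i.left = _
    rw [Category.assoc, Limits.pullback.condition, IsIso.inv_hom_id_assoc]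
    rfl

end Groth.Agent.S18817
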