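import Groth.Statements.S18818
import Groth.Agent.H20Comod.DualMod

set_option autoImplicit false
universe u v w
open TensorProduct
open HopfRep

namespace Groth.Agent.S18818
open scoped Groth.Agent.H20Comod
open Groth.Agent.H20Comod

/-- Let k be a field, C a k-coalgebra and V a right C-comodule which is semisimple in the sense that
every subcomodule has a complementary subcomodule (equivalently every injective comodule map into V
splits). Then V is completely reducible: V is the sum of its simple subcomodules, the nonzero
subcomodules W whose only subcomodules are 0 and W. (The source states this for representations of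
an affine monoid scheme over k, i.e. left comodules over its coordinate bialgebra; the converse
implication and the stability of the class under subobjects and quotients are not part of this row.) -/
theorem result (k : Type u) [Field k]
    (C : Type v) [AddCommGroup C] [Module k C] [Coalgebra k C]
    (V : Type w) [AddCommGroup V] [Module k V] [HopfRep.Comod k C V] (hV : HopfRep.IsSemisimpleComod k C V) :
    (⨆ W : {W : Submodule k V // HopfRep.IsSubcomod (k := k) (A := C) W ∧ W ≠ ⊥ ∧
        ∀ W' : Submodule k V, HopfRep.IsSubcomod (k := k) (A := C) W' → W' ≤ W → W' = ⊥ ∨ W' = W},
      (W.1 : Submodule k V)) = ⊤ := by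
  haveI := (isSemisimpleComod_iff (k := k) (A := C)).1 hV
  rw [eq_top_iff]
  intro x _
  have hx : x ∈ sSup {m : Submodule (DualAlg k C) V | IsSimpleModule (DualAlg k C) m} := by
    rw [IsSemisimpleModule.sSup_simples_eq_top]; exact Submodule.mem_top
  rw [sSup_eq_iSup'] at hx
  induction hx using Submodule.iSup_induction' with
  | mem m y hy =>
    have hat := isSimpleModule_iff_isAtom.1 m.2
    refine Submodule.mem_iSup_of_mem ⟨(m : Submodule (DualAlg k C) V).restrictScalars k,
      isSubcomod_restrictScalars _, fun e => hat.1 (Submodule.restrictScalars_injective k (DualAlg k C) V (by rw [e]; rfl)),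
      fun W' hW' hle => ?_⟩ hy
    refine (hat.le_iff.1 (show toSub W' hW' ≤ m.1 from hle)).imp (fun e => ?_) (fun e => ?_)
    · rw [← restrictScalars_toSub W' hW', e]; rfl
    · rw [← restrictScalars_toSub W' hW', e]
  | zero => exact zero_mem _
  | add a b _ _ ha hb => exact add_mem (ha trivial) (hb trivial)

end Groth.Agent.S18818
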