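import Groth.Statements.S18819
import Groth.Agent.H20Comod.DualMod

set_option autoImplicit false
universe u v w w'
open TensorProduct
open HopfRep

namespace Groth.Agent.S18819
open scoped Groth.Agent.H20Comod
open Groth.Agent.H20Comod

/-- Let k be a field, C a k-coalgebra and V a right C-comodule which is the sum of finitely many simple
subcomodules, given as the images of comodule maps g_i : K_i → V (i < n) from simple comodules K_i.
If S is a simple comodule and f : S → V a nonzero comodule map (so that its image is a simple
subcomodule of V), then S is isomorphic as a comodule to some K_i: there is a k-linear isomorphism S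
≃ K_i commuting with the coactions. (The source states this for representations of an affine monoid
scheme over k with the subrepresentations given as subspaces; here the simple subcomodules are
presented as images of maps from simple comodules.) -/
theorem result (k : Type u) [Field k]
    (C : Type v) [AddCommGroup C] [Module k C] [Coalgebra k C]
    (V : Type w) [AddCommGroup V] [Module k V] [HopfRep.Comod k C V]
    {n : ℕ} (K : Fin n → Type w') [∀ i, AddCommGroup (K i)] [∀ i, Module k (K i)] [∀ i, HopfRep.Comod k C (K i)]
    (hK : ∀ i, HopfRep.IsSimpleComod k C (K i)) (g : ∀ i, K i →ₗ[k] V) (hg : ∀ i, Hoch.IsComodHom C (g i))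
    (hsum : (⨆ i, LinearMap.range (g i)) = ⊤)
    (S : Type w') [AddCommGroup S] [Module k S] [HopfRep.Comod k C S] (hS : HopfRep.IsSimpleComod k C S)
    (f : S →ₗ[k] V) (hf : Hoch.IsComodHom C f) (hf0 : f ≠ 0) :
    ∃ (i : Fin n) (e : S ≃ₗ[k] K i), Hoch.IsComodHom C (e : S →ₗ[k] K i) := by
  haveI := (isSimpleComod_iff (k := k) (A := C)).1 hS
  haveI := fun i => (isSimpleComod_iff (k := k) (A := C)).1 (hK i)
  let g' := fun i => homLin (g i) (hg i)
  let f' := homLin f hf
  have htop : (⨆ i, LinearMap.range (g' i)) = ⊤ := by
    rw [eq_top_iff]
    intro x _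
    have hx : x ∈ ⨆ i, LinearMap.range (g i) := hsum ▸ Submodule.mem_top
    induction hx using Submodule.iSup_induction' with
    | mem i y hy => exact Submodule.mem_iSup_of_mem i hy
    | zero => exact zero_mem _
    | add a b _ _ ha hb => exact add_mem (ha trivial) (hb trivial)
  haveI : IsSemisimpleModule (DualAlg k C) V :=
    isSemisimpleModule_of_isSemisimpleModule_submodule' (fun i => IsSemisimpleModule.range (g' i)) htop
  have hf'0 : f' ≠ 0 := fun e => hf0 (LinearMap.ext fun v => LinearMap.congr_fun e v)
  obtain ⟨r, hr⟩ := IsSemisimpleModule.extension_property f' (LinearMap.injective_of_ne_zero hf'0) LinearMap.id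
  obtain ⟨i, hi⟩ : ∃ i, r.comp (g' i) ≠ 0 := by
    by_contra hall
    push Not at hall
    have hker : (⊤ : Submodule (DualAlg k C) V) ≤ LinearMap.ker r := by
      rw [← htop]
      refine iSup_le fun i => ?_
      rintro _ ⟨y, rfl⟩
      exact LinearMap.congr_fun (hall i) y
    haveI := IsSimpleModule.nontrivial (DualAlg k C) S
    obtain ⟨s, hs⟩ := exists_ne (0 : S)
    exact hs ((LinearMap.congr_fun hr s).symm.trans (hker (Submodule.mem_top (x := f' s))))
  have hbij := LinearMap.bijective_of_ne_zero hi
  let e := (LinearEquiv.ofBijective _ hbij).symm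
  exact ⟨i, e.restrictScalars k, isComodHom_restrictScalars e.toLinearMap⟩

end Groth.Agent.S18819
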