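import Groth.Statements.S18823
import Groth.Agent.H20EssFree.Basic
import Groth.Agent.H12AlgSp.UnivInj
import Groth.Agent.H21Fix.EssFree

set_option autoImplicit false
universe u
open CategoryTheory MonoidalCategory CartesianMonoidalCategory AlgebraicGeometry
open AlgGrp

namespace Groth.Agent.S18823

/-- Let k be a field, X a separated k-scheme, M a k-scheme (in the source a monoid k-scheme) acting on X
through a : M ×_k X → X, and i : G → M a morphism of k-schemes which is a scheme-theoretically
dominant open immersion: no nonzero quasi-coherent ideal of O_M restricts to zero on G (for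
quasi-compact i this is the usual schematic density, O_M → i_*O_G injective; in the source G is the
group of units of M, open and schematically dense). For a k-scheme T and a T-valued point x of X, x
is fixed under M, i.e. a ∘ (id_M × x) = x ∘ pr_T on M ×_k T, if and only if x is fixed under G, i.e.
a ∘ (i × x) = x ∘ pr_T on G ×_k T. Thus the fixed-point subpresheaves X^M and X^G of X are equal.
(The published statement has no separatedness assumption on X and reduces to points landing in an
affine open; the step asserting that the equalizer of the two maps M ×_k T → X is closed uses that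
the target is separated, so X is taken separated here, the case the printed argument establishes.
The monoid structure and the action axioms play no role in that argument and are not assumed.) -/
theorem result (k : Type u) [Field k]
    (M G X : Over (Spec (CommRingCat.of k))) [IsSeparated X.hom] (a : M ⊗ X ⟶ X) (i : G ⟶ M)
    [IsOpenImmersion i.left] [IsSchemeTheoreticallyDominant i.left]
    (T : Over (Spec (CommRingCat.of k))) (x : T ⟶ X) :
    (M ◁ x) ≫ a = CartesianMonoidalCategory.snd M T ≫ x ↔
      (G ◁ x) ≫ (i ▷ X) ≫ a = CartesianMonoidalCategory.snd G T ≫ x := by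
  constructor
  · intro h
    have := congrArg ((i ▷ T) ≫ ·) h
    simpa [whisker_exchange_assoc] using this
  intro h
  haveI := Groth.Agent.H12AlgSp.flat_to_field T.hom
  have hf : SGA3x.IsEssentiallyFree (CategoryTheory.Limits.pullback.snd T.hom M.hom) :=
    Groth.Agent.H20EssFree.isEssentiallyFree_snd T.hom M.hom
      (Groth.Agent.H20EssFree.isEssentiallyFree_of_flat_artinian k T.hom)
  obtain ⟨Z, j, hj, hZ⟩ := Groth.Agent.H21Fix.exists_equalizer_of_essFree hf
    (lift (CartesianMonoidalCategory.snd T M) (CartesianMonoidalCategory.fst T M ≫ x) ≫ a)
    (CartesianMonoidalCategory.fst T M ≫ x)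
  obtain ⟨z, hz⟩ := (hZ G i).mpr fun X' p t => by
    have := congrArg (lift p t ≫ ·) h
    simpa [comp_lift_assoc] using this
  haveI := hj
  have hker : j.left.ker = ⊥ := by
    refine le_bot_iff.mp ?_
    rw [← Scheme.Hom.ker_eq_bot i.left, ← hz, Over.comp_left]
    exact Scheme.Hom.le_ker_comp _ _
  haveI : IsIso j.left := IsClosedImmersion.isIso_iff_ker_eq_bot.mpr hker
  have hfac : ∃ z : M ⟶ Z, z ≫ j = 𝟙 M :=
    ⟨Over.homMk (inv j.left) (by rw [IsIso.inv_comp_eq]; exact (Over.w j).symm),
      Over.OverMorphism.ext (by simp)⟩
  have := (hZ M (𝟙 M)).mp hfac (M ⊗ T) (CartesianMonoidalCategory.fst M T) (CartesianMonoidalCategory.snd M T)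
  refine Eq.trans ?_ (this.trans ?_)
  · rw [comp_lift_assoc, lift_snd, lift_fst_assoc, Category.comp_id]
    congr 1
    try (ext <;> simp)
  · rw [lift_fst_assoc]

end Groth.Agent.S18823
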