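import Groth.Statements.S18824
import Groth.Agent.H19Grp.Basic

set_option autoImplicit false
universe u
open CategoryTheory MonoidalCategory CartesianMonoidalCategory MonObj AlgebraicGeometry
open AlgGrp

namespace Groth.Agent.S18824

/-- Let k be a field, G a locally algebraic group over k (a group k-scheme locally of finite type)
acting on a k-scheme X through a : G ×_k X → X, and U an open subset of X. Let G·U ⊆ X be the image
under a of G ×_k U (the preimage of U under the projection). Then G·U is open in X, contains U, is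
G-stable in the sense that a maps G ×_k (G·U) into G·U, and is the smallest such set: every G-stable
open subset of X containing U contains G·U. -/
theorem result (k : Type u) [Field k]
    (G X : Over (Spec (CommRingCat.of k))) [GrpObj G] [LocallyOfFiniteType G.hom] (a : AlgGrp.Action G X)
    (U : Set ↥X.left) (hU : IsOpen U) :
    IsOpen (a.act.left.base '' ((CartesianMonoidalCategory.snd G X).left.base ⁻¹' U)) ∧
      U ⊆ a.act.left.base '' ((CartesianMonoidalCategory.snd G X).left.base ⁻¹' U) ∧
      a.act.left.base '' ((CartesianMonoidalCategory.snd G X).left.base ⁻¹'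
          (a.act.left.base '' ((CartesianMonoidalCategory.snd G X).left.base ⁻¹' U))) ⊆
        a.act.left.base '' ((CartesianMonoidalCategory.snd G X).left.base ⁻¹' U) ∧
      ∀ W : Set ↥X.left, IsOpen W → U ⊆ W →
        a.act.left.base '' ((CartesianMonoidalCategory.snd G X).left.base ⁻¹' W) ⊆ W →
          a.act.left.base '' ((CartesianMonoidalCategory.snd G X).left.base ⁻¹' U) ⊆ W := by
  have hopen : UniversallyOpen a.act.left :=
    Groth.Agent.H19Grp.act_left_of a @UniversallyOpen inferInstance
  refine ⟨a.act.left.isOpenMap _ (hU.preimage (snd G X).left.continuous), ?_, ?_, ?_⟩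
  · intro x hx
    refine ⟨(lift (1 : X ⟶ G) (𝟙 X)).left.base x, ?_, ?_⟩
    · have h : (lift (1 : X ⟶ G) (𝟙 X)).left ≫ (snd G X).left = 𝟙 X.left := by
        rw [← Over.comp_left, lift_snd]; rfl
      show (snd G X).left.base _ ∈ U
      rw [← Scheme.Hom.comp_apply, h]
      exact hx
    · have h : (lift (1 : X ⟶ G) (𝟙 X)).left ≫ a.act.left = 𝟙 X.left := by
        rw [← Over.comp_left]
        have := Groth.Agent.H19Grp.one_smulPt a (𝟙 X)
        rw [Groth.Agent.H19Grp.smulPt] at this
        rw [this]; rfl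
      rw [← Scheme.Hom.comp_apply, h]
      rfl
  · rintro y ⟨p, hp, rfl⟩
    let V : (G ⊗ X).left.Opens := ⟨_, hU.preimage (snd G X).left.continuous⟩
    let j : Over.mk (V.ι ≫ (G ⊗ X).hom) ⟶ G ⊗ X := Over.homMk V.ι rfl
    have hr : p ∈ Set.range (G ◁ (j ≫ a.act)).left.base := by
      obtain ⟨q, hq, hqp⟩ := hp
      rw [Over.whiskerLeft_left]
      erw [Scheme.Pullback.range_map]
      refine ⟨⟨_, rfl⟩, ⟨⟨q, hq⟩, ?_⟩⟩
      exact hqp
    obtain ⟨r, rfl⟩ := hr
    let W : G ⊗ Over.mk (V.ι ≫ (G ⊗ X).hom) ⟶ G ⊗ X :=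
      lift (fst _ _ * (snd _ _ ≫ j ≫ fst G X)) (snd _ _ ≫ j ≫ snd G X)
    have hW : (G ◁ (j ≫ a.act)) ≫ a.act = W ≫ a.act := by
      have : G ◁ (j ≫ a.act) = lift (fst _ _)
          (Groth.Agent.H19Grp.smulPt a (snd _ _ ≫ j ≫ fst G X) (snd _ _ ≫ j ≫ snd G X)) := by
        rw [← Groth.Agent.H19Grp.comp_smulPt, ← Groth.Agent.H19Grp.comp_smulPt,
          ← Groth.Agent.H19Grp.act_eq_smulPt]
        ext <;> simp
      rw [this]
      exact (Groth.Agent.H19Grp.mul_smulPt a _ _ _).symm
    refine ⟨W.left.base r, ?_, ?_⟩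
    · show (snd G X).left.base (W.left.base r) ∈ U
      rw [← Scheme.Hom.comp_apply, ← Over.comp_left, lift_snd, Over.comp_left,
        Scheme.Hom.comp_apply, Over.comp_left, Scheme.Hom.comp_apply]
      exact ((snd G (Over.mk (V.ι ≫ (G ⊗ X).hom))).left.base r).2
    · rw [← Scheme.Hom.comp_apply, ← Scheme.Hom.comp_apply, ← Over.comp_left, ← Over.comp_left, hW]
  · intro W _ hUW hW
    exact (Set.image_mono (Set.preimage_mono hUW)).trans hW

end Groth.Agent.S18824
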