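import Groth.Statements.S18825
import Groth.Agent.H19Grp.SchemImage
import Groth.Agent.H19Grp.DominantHom

set_option autoImplicit false
set_option linter.style.haveILetI false
set_option backward.isDefEq.respectTransparency false
universe u
open CategoryTheory MonoidalCategory CartesianMonoidalCategory MonObj AlgebraicGeometry
open AlgGrp

namespace Groth.Agent.S18825

/-- Let k be a field and f : H → G a homomorphism of locally algebraic groups over k (group k-schemes
locally of finite type) which is of finite type (equivalently quasi-compact). Let H → K → G be the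
factorization of f through its scheme-theoretic image: i : K → G a closed immersion and g : H → K
with g followed by i equal to f and O_K → g_*O_H injective. Then (1) K is a closed subgroup scheme
of G: the unit section of G factors through i and, for every k-scheme T and T-valued points k₁, k₂
of K, the T-valued point (i k₁)⁻¹ · (i k₂) of G factors through i; and (2) g : H → K is surjective.
(The source also records that g is a homomorphism for the group structure induced on K; this row
does not state it.) -/
theorem result (k : Type u) [Field k]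
    (H G K : Over (Spec (CommRingCat.of k))) [GrpObj H] [GrpObj G]
    [LocallyOfFiniteType H.hom] [LocallyOfFiniteType G.hom]
    (f : H ⟶ G) [IsMonHom f] [QuasiCompact f.left]
    (i : K ⟶ G) [IsClosedImmersion i.left] (g : H ⟶ K) (hgi : g ≫ i = f)
    [IsSchemeTheoreticallyDominant g.left] :
    ((∃ e : 𝟙_ (Over (Spec (CommRingCat.of k))) ⟶ K, e ≫ i = η[G]) ∧
      ∀ (T : Over (Spec (CommRingCat.of k))) (k₁ k₂ : T ⟶ K),
        ∃ k₃ : T ⟶ K, k₃ ≫ i = (k₁ ≫ i)⁻¹ * (k₂ ≫ i)) ∧
    Surjective g.left := by
  haveI : Flat H.hom := H12AlgSp.flat_to_field _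
  haveI : Flat (f.left.imageι ≫ G.hom) := H12AlgSp.flat_to_field _
  obtain ⟨H', _, i', f', hi', hf', hfac, _, _, _⟩ := H19Grp.exists_schemImage f
  obtain ⟨ψ, hψ⟩ := H19Grp.exists_factor_closed g i' i f' (hgi.trans hfac.symm)
  obtain ⟨φ, hφ⟩ := H19Grp.exists_factor_closed f' i i' g (hfac.trans hgi.symm)
  haveI : Mono i := (Over.forget _).mono_of_mono_map (show Mono i.left from inferInstance)
  haveI : Mono i' := (Over.forget _).mono_of_mono_map (show Mono i'.left from inferInstance)
  haveI := hi'
  haveI := hf'
  refine ⟨⟨⟨η[H'] ≫ φ, by rw [Category.assoc, hφ, IsMonHom.one_hom]⟩, fun T k₁ k₂ => ?_⟩, ?_⟩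
  · refine ⟨((k₁ ≫ ψ)⁻¹ * (k₂ ≫ ψ)) ≫ φ, ?_⟩
    rw [Category.assoc, hφ, MonObj.mul_comp, GrpObj.inv_comp, Category.assoc, Category.assoc, hψ]
  · haveI : IsIso φ := ⟨ψ, by rw [← cancel_mono i', Category.assoc, hψ, hφ, Category.id_comp],
      by rw [← cancel_mono i, Category.assoc, hφ, hψ, Category.id_comp]⟩
    haveI : IsIso φ.left := ((Over.forget _).mapIso (asIso φ)).isIso_hom
    haveI : Surjective f'.left := H19Grp.surjective_of_dense_hom f' (Scheme.Hom.denseRange _)
    have e : g = f' ≫ φ := by rw [← cancel_mono i, Category.assoc, hφ, hfac, hgi]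
    rw [e, Over.comp_left]
    infer_instance

end Groth.Agent.S18825
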