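import Groth.Statements.S18826
import Groth.Agent.H19Grp.Basic

set_option autoImplicit false
set_option maxHeartbeats 1000000
set_option synthInstance.maxHeartbeats 100000
set_option linter.style.haveILetI false
set_option backward.isDefEq.respectTransparency false
universe u
open CategoryTheory MonoidalCategory CartesianMonoidalCategory MonObj AlgebraicGeometry
open AlgGrp

namespace Groth.Agent.S18826

open CategoryTheory.Limits MonoidalCategory CartesianMonoidalCategory in
theorem isPullback_whisker {S : Scheme.{u}} (G : Over S) {X Y : Over S} (f : X ⟶ Y) :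
    IsPullback (snd G X) (G ◁ f) f (snd G Y) := by
  refine ⟨⟨(whiskerLeft_snd G f).symm⟩, ⟨PullbackCone.isLimitAux' _ fun s => ?_⟩⟩
  refine ⟨lift (s.snd ≫ fst G Y) s.fst, lift_snd _ _, ?_, fun {m} h1 h2 => ?_⟩
  · show lift (s.snd ≫ fst G Y) s.fst ≫ (G ◁ f) = s.snd
    apply CartesianMonoidalCategory.hom_ext
    · rw [Category.assoc, whiskerLeft_fst, lift_fst]
    · rw [Category.assoc, whiskerLeft_snd, lift_snd_assoc]; exact s.condition
  · have h1' : m ≫ snd G X = s.fst := h1
    have h2' : m ≫ (G ◁ f) = s.snd := h2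
    apply CartesianMonoidalCategory.hom_ext
    · rw [lift_fst, ← h2', Category.assoc, whiskerLeft_fst]
    · rw [lift_snd, h1']

open CategoryTheory.Limits MonoidalCategory CartesianMonoidalCategory in
theorem isPullback_act {S : Scheme.{u}} {G X Y : Over S} [GrpObj G]
    (aX : AlgGrp.Action G X) (aY : AlgGrp.Action G Y) (f : X ⟶ Y) (hf : (G ◁ f) ≫ aY.act = aX.act ≫ f) :
    IsPullback aX.act (G ◁ f) f aY.act := by
  refine (isPullback_whisker G f).of_iso (H19Grp.shearAlong aX (𝟙 G)).symm (Iso.refl _)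
    (H19Grp.shearAlong aY (𝟙 G)).symm (Iso.refl _) ?_ ?_ ?_ ?_
  · rw [Iso.refl_hom, Category.comp_id, Iso.symm_hom, Iso.eq_inv_comp, H19Grp.shearAlong_hom_snd,
      id_whiskerRight, Category.id_comp]
  · rw [Iso.symm_hom, Iso.symm_hom, Iso.eq_inv_comp, ← Category.assoc, Iso.comp_inv_eq]
    apply CartesianMonoidalCategory.hom_ext
    · simp [H19Grp.shearAlong_hom_fst, H19Grp.shearAlong_hom_fst_assoc]
    · rw [Category.assoc, Category.assoc, whiskerLeft_snd, H19Grp.shearAlong_hom_snd,
        H19Grp.shearAlong_hom_snd_assoc, id_whiskerRight, id_whiskerRight, Category.id_comp, Category.id_comp]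
      exact hf.symm
  · rw [Iso.refl_hom, Iso.refl_hom, Category.comp_id, Category.id_comp]
  · rw [Iso.refl_hom, Category.comp_id, Iso.symm_hom, Iso.eq_inv_comp, H19Grp.shearAlong_hom_snd,
      id_whiskerRight, Category.id_comp]

open CategoryTheory.Limits in
theorem restrict_isPullback {P A B C : Scheme.{u}} {a : P ⟶ A} {p : P ⟶ B} {h : A ⟶ C} {g : B ⟶ C}
    (H : IsPullback a p h g) (U : B.Opens) (V : C.Opens) (e : U ≤ g ⁻¹ᵁ V) :
    ∃ b, IsPullback b (p ∣_ U) (h ∣_ V) (g.resLE V U e) := by
  have h2 := (isPullback_morphismRestrict p U).flip.paste_horiz H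
  have h3 := (isPullback_morphismRestrict h V).flip
  have hw : g.resLE V U e ≫ V.ι = U.ι ≫ g := Scheme.Hom.resLE_comp_ι g e
  let b := h3.lift ((p ⁻¹ᵁ U).ι ≫ a) ((p ∣_ U) ≫ g.resLE V U e)
    (by rw [Category.assoc _ (g.resLE V U e), hw, ← Category.assoc (p ∣_ U), morphismRestrict_ι, Category.assoc, H.w, Category.assoc])
  refine ⟨b, IsPullback.of_right ?_ (h3.lift_snd _ _ _) h3⟩
  rw [h3.lift_fst, hw]
  exact h2


/-- Let k be a field, G a locally algebraic group over k (a group k-scheme locally of finite type)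
acting on k-schemes X and Y, and f : X → Y a G-equivariant k-morphism. Let P be a property of
morphisms of schemes which is local on the target for the Zariski topology, stable under base
change, and descends along flat surjective universally open morphisms (the published hypothesis is
descent along fpqc morphisms; the printed argument descends only along the restriction G ×_k U → G·U
of the action, which is flat, surjective and universally open). Then there is a largest open subset
V of Y such that the restriction f⁻¹(V) → V of f has P, and this V is G-stable: the action G ×_k Y →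
Y maps G ×_k V into V. -/
theorem result (k : Type u) [Field k]
    (G X Y : Over (Spec (CommRingCat.of k))) [GrpObj G] [LocallyOfFiniteType G.hom]
    (aX : AlgGrp.Action G X) (aY : AlgGrp.Action G Y) (f : X ⟶ Y) (hf : (G ◁ f) ≫ aY.act = aX.act ≫ f)
    (P : MorphismProperty Scheme.{u}) [IsZariskiLocalAtTarget P] [P.IsStableUnderBaseChange]
    [P.DescendsAlong (@Flat ⊓ @Surjective ⊓ @UniversallyOpen)] :
    ∃ V : Y.left.Opens, P (f.left ∣_ V) ∧ (∀ V' : Y.left.Opens, P (f.left ∣_ V') → V' ≤ V) ∧
      (CartesianMonoidalCategory.snd G Y).left ⁻¹ᵁ V ≤ aY.act.left ⁻¹ᵁ V := by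
  classical
  let V : Y.left.Opens := ⨆ V' : {V' : Y.left.Opens // P (f.left ∣_ V')}, V'.1
  have hle : ∀ V' : Y.left.Opens, P (f.left ∣_ V') → V' ≤ V := fun V' h =>
    le_iSup (fun V' : {V' : Y.left.Opens // P (f.left ∣_ V')} => V'.1) ⟨V', h⟩
  have hV : P (f.left ∣_ V) := by
    refine (IsZariskiLocalAtTarget.iff_of_iSup_eq_top (P := P)
      (fun V' : {V' : Y.left.Opens // P (f.left ∣_ V')} => V.ι ⁻¹ᵁ V'.1) ?_).2 fun V' => ?_
    · rw [← Scheme.Hom.preimage_iSup]; exact Scheme.Opens.ι_preimage_self V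
    · rw [P.arrow_mk_iso_iff (morphismRestrictRestrict f.left V _)]
      rw [Scheme.Hom.image_preimage_eq_opensRange_inf, Scheme.Opens.opensRange_ι, inf_eq_right.2 (hle _ V'.2)]
      exact V'.2
  refine ⟨V, hV, hle, ?_⟩
  let U := (CartesianMonoidalCategory.snd G Y).left ⁻¹ᵁ V
  haveI : LocallyOfFinitePresentation G.hom := inferInstance
  haveI : Flat G.hom := inferInstance
  haveI : Flat (CartesianMonoidalCategory.snd G Y).left := inferInstanceAs (Flat (Limits.pullback.snd G.hom Y.hom))
  haveI : UniversallyOpen (CartesianMonoidalCategory.snd G Y).left :=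
    inferInstanceAs (UniversallyOpen (Limits.pullback.snd G.hom Y.hom))
  have hact : aY.act.left = (H19Grp.shearAlong aY (𝟙 G)).hom.left ≫ (CartesianMonoidalCategory.snd G Y).left := by
    rw [← Over.comp_left, H19Grp.shearAlong_hom_snd, id_whiskerRight, Category.id_comp]
  haveI : IsIso (H19Grp.shearAlong aY (𝟙 G)).hom.left :=
    inferInstanceAs (IsIso ((Over.forget _).map (H19Grp.shearAlong aY (𝟙 G)).hom))
  haveI : Flat aY.act.left := by rw [hact]; infer_instance
  haveI : UniversallyOpen aY.act.left := by rw [hact]; infer_instance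
  let V₁ : Y.left.Opens := ⟨aY.act.left.base '' (U : Set (G ⊗ Y).left), aY.act.left.isOpenMap _ U.2⟩
  have e₁ : U ≤ aY.act.left ⁻¹ᵁ V₁ := fun z hz => ⟨z, hz, rfl⟩
  suffices h : P (f.left ∣_ V₁) from e₁.trans (aY.act.left.preimage_mono (hle _ h))
  obtain ⟨b, hb⟩ := restrict_isPullback ((isPullback_whisker G f).map (Over.forget _)) U V le_rfl
  have hres : P ((G ◁ f).left ∣_ U) := P.of_isPullback hb hV
  obtain ⟨b₁, hb₁⟩ := restrict_isPullback ((isPullback_act aX aY f hf).map (Over.forget _)) U V₁ e₁
  have hQ : (@Flat ⊓ @Surjective ⊓ @UniversallyOpen : MorphismProperty Scheme.{u}) (aY.act.left.resLE V₁ U e₁) := by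
    refine ⟨⟨inferInstance, ⟨?_⟩⟩, ?_⟩
    · intro y
      obtain ⟨y, z, hz, rfl⟩ := y
      refine ⟨⟨z, hz⟩, Subtype.ext ?_⟩
      exact congr(($(Scheme.Hom.resLE_comp_ι aY.act.left e₁)).base ⟨z, hz⟩)
    · haveI : UniversallyOpen (aY.act.left ∣_ V₁) := IsZariskiLocalAtTarget.restrict ‹_› V₁
      exact (inferInstance : UniversallyOpen ((G ⊗ Y).left.homOfLE e₁ ≫ (aY.act.left ∣_ V₁)))
  exact MorphismProperty.of_isPullback_of_descendsAlong hb₁.flip hQ hres

end Groth.Agent.S18826
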