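import Groth.Statements.S18827
import Groth.Agent.H20Comod.Semisimple

set_option autoImplicit false
universe u v w
open TensorProduct
open HopfRep

namespace Groth.Agent.S18827

/-- Let k be a field, C a k-coalgebra, V a right C-comodule which is semisimple (every subcomodule has a
complementary subcomodule, which over a field is the same as being the sum of its simple
subcomodules) and W a subcomodule of V. Then the subcomodule W with its induced structure and the
quotient comodule V/W are again semisimple. (The source states this for representations of an affine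
monoid scheme over k.) -/
theorem result (k : Type u) [Field k]
    (C : Type v) [AddCommGroup C] [Module k C] [Coalgebra k C]
    (V : Type w) [AddCommGroup V] [Module k V] [c : HopfRep.Comod k C V] (hV : HopfRep.IsSemisimpleComod k C V)
    (W : Submodule k V) (hW : HopfRep.IsSubcomod (k := k) (A := C) W) :
    @HopfRep.IsSemisimpleComod k C _ _ _ _ ↥W _ _ (ComodSub.Comod.restr c W hW) ∧
      @HopfRep.IsSemisimpleComod k C _ _ _ _ (V ⧸ W) _ _ (ComodSub.Comod.quot c W hW) := by
  constructor
  · letI d := ComodSub.Comod.restr c W hW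
    have hi := ComodSub.isComodHom_subtype c W hW
    intro U hU
    have hU' : HopfRep.IsSubcomod (k := k) (A := C) (U.map W.subtype) := by
      rw [H20Comod.isSubcomod_iff_forall_actL]
      rintro _ ⟨u, hu, rfl⟩ φ
      exact ⟨_, H20Comod.actL_mem_of_isSubcomod hU φ hu, H20Comod.actL_comm_of_isComodHom hi φ u⟩
    obtain ⟨U', hU'', hc⟩ := hV _ hU'
    refine ⟨U'.comap W.subtype, ?_, ?_⟩
    · rw [H20Comod.isSubcomod_iff_forall_actL]
      intro u hu φ
      show W.subtype (H20Comod.actL φ u) ∈ U'
      rw [H20Comod.actL_comm_of_isComodHom hi]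
      exact H20Comod.actL_mem_of_isSubcomod hU'' φ hu
    · refine ⟨disjoint_iff_inf_le.2 fun x hx => ?_, codisjoint_iff_le_sup.2 fun x _ => ?_⟩
      · exact Subtype.ext (hc.disjoint.le_bot (x := (x : V)) ⟨⟨x, hx.1, rfl⟩, hx.2⟩ : (x : V) = 0)
      · obtain ⟨a, ha, b, hb, hab⟩ := Submodule.mem_sup.1 (hc.sup_eq_top.ge (trivial : (x : V) ∈ ⊤))
        obtain ⟨a', ha', rfl⟩ := ha
        refine Submodule.mem_sup.2 ⟨a', ha', x - a', ?_, add_sub_cancel a' x⟩
        show (x : V) - (a' : V) ∈ U'
        rw [← hab]
        simpa using hb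
  · letI d := ComodSub.Comod.quot c W hW
    have hi := ComodSub.isComodHom_mkQ c W hW
    intro U hU
    have hU' : HopfRep.IsSubcomod (k := k) (A := C) (U.comap W.mkQ) := by
      rw [H20Comod.isSubcomod_iff_forall_actL]
      intro u hu φ
      show W.mkQ (H20Comod.actL φ u) ∈ U
      rw [H20Comod.actL_comm_of_isComodHom hi]
      exact H20Comod.actL_mem_of_isSubcomod hU φ hu
    obtain ⟨U', hU'', hc⟩ := hV _ hU'
    refine ⟨U'.map W.mkQ, ?_, ?_⟩
    · rw [H20Comod.isSubcomod_iff_forall_actL]
      rintro _ ⟨u, hu, rfl⟩ φ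
      exact ⟨_, H20Comod.actL_mem_of_isSubcomod hU'' φ hu, H20Comod.actL_comm_of_isComodHom hi φ u⟩
    · refine ⟨disjoint_iff_inf_le.2 ?_, codisjoint_iff_le_sup.2 fun x _ => ?_⟩
      · rintro _ ⟨hx, u, hu, rfl⟩
        have : u = 0 := hc.disjoint.le_bot (x := u) ⟨hx, hu⟩
        rw [this, map_zero]
        exact zero_mem _
      · obtain ⟨v, rfl⟩ := W.mkQ_surjective x
        obtain ⟨a, ha, b, hb, hab⟩ := Submodule.mem_sup.1 (hc.sup_eq_top.ge (trivial : v ∈ ⊤))
        rw [← hab, map_add]
        exact add_mem (Submodule.mem_sup_left ha) (Submodule.mem_sup_right ⟨b, hb, rfl⟩)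

end Groth.Agent.S18827
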