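import Groth.Statements.S18828
import Groth.Agent.H19Grp.PointPreds

set_option autoImplicit false
set_option maxHeartbeats 1000000
set_option synthInstance.maxHeartbeats 100000
set_option linter.style.haveILetI false
set_option backward.isDefEq.respectTransparency false
universe u
open CategoryTheory MonoidalCategory CartesianMonoidalCategory MonObj AlgebraicGeometry
open AlgGrp

namespace Groth.Agent.S18828

open IsLocalRing TensorProduct in
/-- a local homomorphism inducing isomorphisms modulo all powers of the maximal ideals is flat -/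
theorem flat_of_completion_iso {R S : Type u} [CommRing R] [IsLocalRing R] [IsNoetherianRing R]
    [CommRing S] [IsLocalRing S] [IsNoetherianRing S] (φ : R →+* S)
    (hsurj : ∀ n : ℕ, ∀ s : S, ∃ r : R, s - φ r ∈ maximalIdeal S ^ (n + 1))
    (hcomap : ∀ (n : ℕ) (a : R), φ a ∈ maximalIdeal S ^ (n + 1) ↔ a ∈ maximalIdeal R ^ (n + 1)) : φ.Flat := by
  letI := φ.toAlgebra
  change Module.Flat R S
  rw [Module.Flat.iff_rTensor_injective']
  intro I
  let L : S ⊗[R] I →ₗ[S] S := ((Algebra.linearMap R S).comp I.subtype).liftBaseChange S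
  have hLt : ∀ (s : S) (i : I), L (s ⊗ₜ i) = s * φ (i : R) := fun s i => by
    rw [LinearMap.liftBaseChange_tmul, smul_eq_mul]; rfl
  suffices hL : Function.Injective L by
    have e : ∀ z : I ⊗[R] S, TensorProduct.lid R S (I.subtype.rTensor S z) = L (TensorProduct.comm R I S z) := by
      intro z
      induction z using TensorProduct.induction_on with
      | zero => simp
      | tmul i s => rw [TensorProduct.comm_tmul, hLt]; simp [Algebra.smul_def, RingHom.algebraMap_toAlgebra, mul_comm]
      | add x y hx hy => simp only [map_add, hx, hy]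
    intro a b hab
    apply (TensorProduct.comm R I S).injective
    apply hL
    rw [← e, ← e, hab]
  rw [injective_iff_map_eq_zero]
  intro w hw
  have happrox : ∀ N : ℕ, ∀ v : S ⊗[R] I, ∃ i : I, v - (1 : S) ⊗ₜ i ∈ (maximalIdeal S ^ (N + 1)) • (⊤ : Submodule S (S ⊗[R] I)) := by
    intro N v
    induction v using TensorProduct.induction_on with
    | zero => exact ⟨0, by simp⟩
    | tmul s i =>
      obtain ⟨r, hr⟩ := hsurj N s
      refine ⟨r • i, ?_⟩
      have : s ⊗ₜ[R] i - (1 : S) ⊗ₜ[R] (r • i) = (s - φ r) • ((1 : S) ⊗ₜ[R] i) := by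
        rw [TensorProduct.smul_tmul', smul_eq_mul, _root_.mul_one, TensorProduct.sub_tmul, TensorProduct.tmul_smul,
          TensorProduct.smul_tmul', Algebra.smul_def, _root_.mul_one]
        rfl
      rw [this]
      exact Submodule.smul_mem_smul hr trivial
    | add x y hx hy =>
      obtain ⟨i, hi⟩ := hx
      obtain ⟨i', hi'⟩ := hy
      exact ⟨i + i', by rw [TensorProduct.tmul_add, add_sub_add_comm]; exact add_mem hi hi'⟩
  obtain ⟨c, hc⟩ := Ideal.exists_pow_inf_eq_pow_smul (maximalIdeal R) (M := R) (I : Submodule R R)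
  haveI : Module.Finite R I := Module.Finite.iff_fg.mpr (IsNoetherian.noetherian I)
  have hall : w ∈ ⨅ N : ℕ, (maximalIdeal S ^ N) • (⊤ : Submodule S (S ⊗[R] I)) := by
    rw [Submodule.mem_iInf]
    intro N
    obtain ⟨i, hi⟩ := happrox (N + c) w
    have hi1 : φ (i : R) ∈ maximalIdeal S ^ (N + c + 1) := by
      have h1 : L (w - (1 : S) ⊗ₜ i) ∈ (maximalIdeal S ^ (N + c + 1)) • (⊤ : Submodule S S) := by
        have h2 := Submodule.mem_map_of_mem (f := L) hi
        rw [Submodule.map_smul''] at h2
        exact Submodule.smul_mono le_rfl le_top h2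
      rw [map_sub, hw, hLt, _root_.one_mul, zero_sub, neg_mem_iff, smul_eq_mul, Ideal.mul_top] at h1
      exact h1
    have hi2 : (i : R) ∈ maximalIdeal R ^ (N + c + 1) := (hcomap _ _).mp hi1
    have hi3 : i ∈ (maximalIdeal R ^ N) • (⊤ : Submodule R I) := by
      have h3 : (i : R) ∈ (maximalIdeal R ^ (N + c + 1)) • (⊤ : Submodule R R) ⊓ I :=
        ⟨by rw [smul_eq_mul, Ideal.mul_top]; exact hi2, i.2⟩
      rw [hc _ (by omega)] at h3
      have h4 : (maximalIdeal R ^ (N + c + 1 - c)) • ((maximalIdeal R ^ c) • (⊤ : Submodule R R) ⊓ I) ≤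
          Submodule.map I.subtype ((maximalIdeal R ^ N) • (⊤ : Submodule R I)) := by
        rw [Submodule.map_smul'', Submodule.map_top, Submodule.range_subtype]
        exact Submodule.smul_mono (Ideal.pow_le_pow_right (by omega)) inf_le_right
      obtain ⟨i', hi', he⟩ := h4 h3
      exact Subtype.ext he ▸ hi'
    have hgen : ∀ x ∈ (maximalIdeal R ^ N) • (⊤ : Submodule R I),
        (1 : S) ⊗ₜ[R] x ∈ (maximalIdeal S ^ N) • (⊤ : Submodule S (S ⊗[R] I)) := by
      intro x hx
      induction hx using Submodule.smul_induction_on' with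
      | smul r hr y _ =>
        rw [TensorProduct.tmul_smul, ← algebraMap_smul S r]
        refine Submodule.smul_mem_smul ?_ trivial
        rcases N with _ | N
        · simp
        · exact (hcomap N r).mpr hr
      | add x _ y _ hx hy => rw [TensorProduct.tmul_add]; exact add_mem hx hy
    have h5 : w - (1 : S) ⊗ₜ i ∈ (maximalIdeal S ^ N) • (⊤ : Submodule S (S ⊗[R] I)) :=
      Submodule.smul_mono (Ideal.pow_le_pow_right (by omega)) le_rfl hi
    simpa using add_mem h5 (hgen i hi3)
  rwa [Ideal.iInf_pow_smul_eq_bot_of_isLocalRing _ (IsLocalRing.maximalIdeal.isMaximal S).ne_top,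
    Submodule.mem_bot] at hall


/-- Let k be a field and f : H → G a homomorphism of locally algebraic groups over k (group k-schemes
locally of finite type). Write e_H for the unit point of H (the image under the unit section of the
point pt of the base Spec k) and φ : O_{G,f(e_H)} → O_{H,e_H} for the induced local homomorphism of
local rings. Assume (1) φ induces an isomorphism of completed local rings, stated here as: for every
n, φ followed by reduction modulo the (n+1)-st power of the maximal ideal of O_{H,e_H} is
surjective, and an element of O_{G,f(e_H)} maps into that power exactly when it lies in the (n+1)-st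
power of the maximal ideal of O_{G,f(e_H)}; and (2) f is a monomorphism of schemes. Then f is an
open immersion. -/
theorem result (k : Type u) [Field k]
    (H G : Over (Spec (CommRingCat.of k))) [GrpObj H] [GrpObj G]
    [LocallyOfFiniteType H.hom] [LocallyOfFiniteType G.hom] (f : H ⟶ G) [IsMonHom f] [Mono f.left]
    (pt : ↥(𝟙_ (Over (Spec (CommRingCat.of k)))).left)
    (h : ∀ n : ℕ,
      Function.Surjective ((Ideal.Quotient.mk (IsLocalRing.maximalIdeal
          ↑(H.left.presheaf.stalk (η[H].left.base pt)) ^ (n + 1))).comp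
        (f.left.stalkMap (η[H].left.base pt)).hom) ∧
      ∀ a : ↑(G.left.presheaf.stalk (f.left.base (η[H].left.base pt))),
        (f.left.stalkMap (η[H].left.base pt)).hom a ∈
            IsLocalRing.maximalIdeal ↑(H.left.presheaf.stalk (η[H].left.base pt)) ^ (n + 1) ↔
          a ∈ IsLocalRing.maximalIdeal ↑(G.left.presheaf.stalk (f.left.base (η[H].left.base pt))) ^ (n + 1)) :
    IsOpenImmersion f.left := by
  haveI : IsLocallyNoetherian H.left := LocallyOfFiniteType.isLocallyNoetherian H.hom
  haveI : IsLocallyNoetherian G.left := LocallyOfFiniteType.isLocallyNoetherian G.hom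
  haveI : LocallyOfFiniteType (f.left ≫ G.hom) := by rw [Over.w f]; infer_instance
  haveI : LocallyOfFiniteType f.left := locallyOfFiniteType_of_comp f.left G.hom
  haveI : LocallyOfFinitePresentation f.left := inferInstance
  have hflat : (f.left.stalkMap (η[H].left.base pt)).hom.Flat := by
    refine flat_of_completion_iso _ (fun n s => ?_) (fun n a => (h n).2 a)
    obtain ⟨r, hr⟩ := (h n).1 (Ideal.Quotient.mk _ s)
    exact ⟨r, Ideal.Quotient.eq.mp hr.symm⟩
  haveI : Flat f.left := Flat.of_stalkMap _ fun x =>
    H19Grp.of_mem_fibre f H19Grp.ptBC_flatPt H19Grp.ptDesc_flatPt (inferInstance : Flat H.hom)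
      (Subsingleton.elim (α := PrimeSpectrum k) _ _) hflat
  exact IsOpenImmersion.of_flat_of_mono f.left

end Groth.Agent.S18828
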