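import Groth.Statements.S18829
import Groth.Agent.S18813

set_option autoImplicit false
universe u
open scoped TensorProduct
open HopfRep

namespace Groth.Agent.S18829

/-- Let k be a field and A a finitely generated commutative Hopf algebra over k, the coordinate ring of
an affine algebraic group T. Suppose T is a torus: for some algebraically closed field extension K
of k the base change K ⊗_k A is isomorphic as a K-bialgebra to the group algebra over K of a free
abelian group ℤ^n (T_K is a split torus of rank n). Then T is linearly reductive in the sense that
every finite-dimensional A-comodule is semisimple. (The source's definition of a torus asks for such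
an isomorphism over every algebraically closed extension; one suffices for the printed argument. The
source's notion of a linearly reductive algebraic group also includes smoothness of T over k, which
this row does not assert.) -/
theorem result (k K A : Type u) [Field k] [Field K]
    [Algebra k K] [IsAlgClosed K] [CommRing A] [HopfAlgebra k A] [Algebra.FiniteType k A] (n : ℕ)
    (e : (K ⊗[k] A) ≃ₐc[K] MonoidAlgebra K (Multiplicative (Fin n → ℤ))) :
    HopfRep.IsLinearlyReductive k A := by
  refine (Groth.Agent.S18813.result k K A).2 (H20Comod.isSemisimpleComod_of_span_groupLike ?_)
  rw [eq_top_iff]
  intro x _
  have hx : e x ∈ Submodule.span K {y : MonoidAlgebra K (Multiplicative (Fin n → ℤ)) | IsGroupLikeElem K y} :=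
    MonoidAlgebra.span_isGroupLikeElem.ge trivial
  have h2 : Submodule.span K {y : MonoidAlgebra K (Multiplicative (Fin n → ℤ)) | IsGroupLikeElem K y} ≤
      (Submodule.span K {y : K ⊗[k] A | IsGroupLikeElem K y}).comap e.symm.toLinearMap := by
    rw [Submodule.span_le]
    intro y hy
    exact Submodule.subset_span ((hy : IsGroupLikeElem K y).map e.symm)
  have h3 := h2 hx
  rw [← e.symm_apply_apply x]
  exact h3

end Groth.Agent.S18829
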