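import Groth.Statements.S18830
import Groth.Agent.H19Grp.UnitGroup

set_option autoImplicit false
universe u
open CategoryTheory MonoidalCategory CartesianMonoidalCategory MonObj AlgebraicGeometry
open AlgGrp

namespace Groth.Agent.S18830

/-- Let k be a field and M an algebraic monoid over k (a monoid k-scheme of finite type). Let i : G → M
be its group of units: a monomorphism of k-schemes through which a T-valued point of M factors if
and only if it is invertible in the monoid M(T). Then G is of finite type over k, i.e. the unit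
group is an algebraic group. -/
theorem result (k : Type u) [Field k]
    (M G : Over (Spec (CommRingCat.of k))) [MonObj M] [LocallyOfFiniteType M.hom] [QuasiCompact M.hom]
    (i : G ⟶ M) [Mono i]
    (hi : ∀ (T : Over (Spec (CommRingCat.of k))) (m : T ⟶ M), (∃ g : T ⟶ G, g ≫ i = m) ↔ IsUnit m) :
    LocallyOfFiniteType G.hom ∧ QuasiCompact G.hom := by
  open H19Grp.UnitGroup in
  obtain ⟨g, hg⟩ := (hi _ (unitsι M)).mpr ((exists_iff M (unitsι M)).mp ⟨𝟙 _, Category.id_comp _⟩)
  open H19Grp.UnitGroup in
  obtain ⟨h, hh⟩ := (exists_iff M i).mpr ((hi _ i).mp ⟨𝟙 _, Category.id_comp _⟩)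
  have h1 : h ≫ g = 𝟙 G := by rw [← cancel_mono i, Category.assoc, hg, hh, Category.id_comp]
  have h2 : g ≫ h = 𝟙 _ := by
    rw [← cancel_mono (H19Grp.UnitGroup.unitsι M), Category.assoc, hh, hg, Category.id_comp]
  haveI : IsIso h := ⟨g, h1, h2⟩
  haveI : IsIso h.left := inferInstanceAs (IsIso ((Over.forget _).map h))
  obtain ⟨_, _⟩ := H19Grp.UnitGroup.finiteType_units M
  rw [← Over.w h]
  exact ⟨inferInstance, inferInstance⟩

end Groth.Agent.S18830
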