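import Groth.Statements.S18831
import Groth.Agent.H29RR.Twist
import Groth.Agent.H29RR.Choice

set_option autoImplicit false
universe u
open CategoryTheory CategoryTheory.Limits AlgebraicGeometry
open VBCurve

namespace Groth.Agent.S18831

/-- Let X be a smooth projective integral curve over an algebraically closed field k of characteristic
zero, and G a finite locally free O_X-module of rank r ≥ 1 which is slope-semistable, of slope μ =
deg G / r (deg G = χ(G) − r χ(O_X)). Then dim_k H^0(X, G) ≤ r · max(⌊μ⌋ + 1, 0); in particular a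
slope-semistable bundle of negative slope has no nonzero global section. -/
theorem result (k : Type u) [Field k] [IsAlgClosed k] [CharZero k]
    (X : Scheme.{u}) [X.Over (Spec (CommRingCat.of k))]
    [IsIntegral X] [IsProper (X ↘ Spec (CommRingCat.of k))] [Smooth (X ↘ Spec (CommRingCat.of k))]
    (hdim : topologicalKrullDim X = 1)
    (r : ℕ) (hr : 0 < r) (G : X.Modules) (hG : FlatMod.IsFinLocFreeOfRank r G)
    (hss : ModFun.IsSlopeSemistable k X G r) :
    (Module.finrank k (Coh.HH X G 0) : ℤ) ≤
      (r : ℤ) * max (⌊(Curv2.deg k X G r : ℚ) / (r : ℚ)⌋ + 1) 0 := by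
  haveI := H29RR.isNoetherian_of_proper (k := k) (X := X)
  have key : ∀ (N : ℕ) (E : X.Modules), FlatMod.IsFinLocFreeOfRank r E → H29RR.SemistableBundle k X E r →
      Curv2.deg k X E r < (r : ℤ) * N → Module.finrank k (Coh.HH X E 0) ≤ r * N := by
    intro N
    induction N with
    | zero =>
      intro E hE hEss hd
      by_contra hne
      haveI : Nontrivial (Coh.HH X E 0) := Module.nontrivial_of_finrank_pos (R := k) (by omega)
      obtain ⟨g, hg⟩ := H29RR.exists_global_ne_zero E inferInstance
      let s : Coh.structureModule X ⟶ E := H11Tilde.homOfGlobal E g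
      have hs : s ≠ 0 := fun h0 => hg (by
        have h := congrArg (fun φ : Coh.structureModule X ⟶ E => φ.app ⊤ (1 : Γ(X, ⊤))) h0
        simpa [s, H11Tilde.homOfGlobal_app] using h)
      have hO := H29RR.rank_one_of_isInvertible (H11Ample.isInvertible_structureModule (X := X))
      obtain ⟨a, n, -, -, han, -, hn0, hmono, -⟩ := H29RR.exists_image_data (k := k) hdim.le hO hE s
      have hn := hn0 hs
      haveI := hmono (by omega)
      have h := hEss (Coh.structureModule X) 1 s inferInstance Nat.one_pos hO
      rw [H29RR.deg_structureModule] at h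
      simp at h hd
      omega
    | succ N ih =>
      intro E hE hEss hd
      obtain ⟨x, -, hx, hI⟩ := H29RR.exists_point (k := k) hdim ⊤ trivial
      have hIc := H16Derived.KFlat.Stalk.isCoh_of_isFinLocFree (H28Pinch.isFinLocFree_of_isInvertible hI)
      have h1 := H29RR.finrank_residue_eq_one (k := k) hx
      obtain ⟨-, -, he⟩ := H29RR.twist_point (k := k) hx (H11Ample.isInvertible_structureModule (X := X)) hIc
      rw [H25Euler.euler_congr (k := k) (H10Coh.Tw.rightUnitIso (ClSub.idealMod (H29RR.ptIdeal x))), h1] at he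
      have hdI : Curv2.deg k X (ClSub.idealMod (H29RR.ptIdeal x)) 1 = -1 := by
        rw [H29RR.deg_def]; omega
      let E' := CohB1.tensorMod E (ClSub.idealMod (H29RR.ptIdeal x))
      have hih := ih E' (H29RR.rank_tensor hE hI) (H29RR.semistable_tensor (k := k) hdim.le hE hEss hI) (by
        rw [H29RR.deg_tensor_bundle (k := k) hdim.le hE hI, hdI]
        push_cast at hd ⊢
        linarith)
      have hle := H29RR.h0_le_twist_point (k := k) hx hE hIc
      rw [h1, (H29RR.hhIso (k := k) (H10Coh.Tw.commIso (ClSub.idealMod (H29RR.ptIdeal x)) E) 0).finrank_eq,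
        mul_one] at hle
      change _ ≤ Module.finrank k (Coh.HH X E' 0) + r at hle
      rw [Nat.mul_succ]
      omega
  have hrq : (0 : ℚ) < r := by exact_mod_cast hr
  let z : ℤ := ⌊(Curv2.deg k X G r : ℚ) / (r : ℚ)⌋ + 1
  have hlt : (Curv2.deg k X G r : ℚ) < (r : ℚ) * (z : ℚ) := by
    have := Int.lt_floor_add_one ((Curv2.deg k X G r : ℚ) / (r : ℚ))
    rw [div_lt_iff₀ hrq] at this
    simp only [z]; push_cast
    linarith
  have hlt' : Curv2.deg k X G r < (r : ℤ) * z := by exact_mod_cast hlt
  have h := key (max z 0).toNat G hG hss (by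
    rw [Int.toNat_of_nonneg (le_max_right _ _)]
    exact lt_of_lt_of_le hlt' (mul_le_mul_of_nonneg_left (le_max_left _ _) (Nat.cast_nonneg _)))
  calc (Module.finrank k (Coh.HH X G 0) : ℤ) ≤ ((r * (max z 0).toNat : ℕ) : ℤ) := by exact_mod_cast h
    _ = (r : ℤ) * max z 0 := by push_cast; rw [Int.toNat_of_nonneg (le_max_right z 0)]

end Groth.Agent.S18831
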