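import Groth.Statements.S18832
import Groth.Agent.H24Obs.Jets

set_option autoImplicit false
set_option linter.style.haveILetI false
universe u
open Polynomial
open DefT

namespace Groth.Agent.S18832

/-- Let k be an algebraically closed field of characteristic zero, A a finitely generated k-algebra and
m a maximal ideal of A. Then A_m is a regular local ring (the pointed scheme (Spec A, m) is smooth
at m) if and only if, for every l ≥ 1, every k-algebra homomorphism φ : A → k[X]/(X^l) mapping m
into the nilpotent elements extends to a k-algebra homomorphism ψ : A → k[X]/(X^(l+1)) reducing to φ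
modulo X^l. Only jets along Spec k[X]/(X^l) are tested, not all local Artinian algebras. -/
theorem result (k : Type u) [Field k] [IsAlgClosed k] [CharZero k]
    (A : Type u) [CommRing A] [Algebra k A] [Algebra.FiniteType k A]
    (m : Ideal A) [m.IsMaximal] :
    IsRegularLocalRing (Localization.AtPrime m) ↔
      ∀ (l : ℕ), 1 ≤ l →
        ∀ (φ : A →ₐ[k] (k[X] ⧸ Ideal.span {(X : k[X]) ^ l})),
          (∀ a ∈ m, IsNilpotent (φ a)) →
          ∃ ψ : A →ₐ[k] (k[X] ⧸ Ideal.span {(X : k[X]) ^ (l + 1)}),
            (Ideal.Quotient.factorₐ k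
                (Ideal.span_singleton_le_span_singleton.mpr (pow_dvd_pow (X : k[X]) (Nat.le_succ l)))).comp ψ = φ := by
    classical
    haveI : Infinite k := Infinite.of_injective _ (Nat.cast_injective (R := k))
    haveI : Algebra.EssFiniteType A (Localization.AtPrime m) := Algebra.EssFiniteType.of_isLocalization _ m.primeCompl
    haveI : Algebra.EssFiniteType k (Localization.AtPrime m) := Algebra.EssFiniteType.comp k A _
    have hresA : ∀ a : A, ∃ c : k, a - algebraMap k A c ∈ m := by
      intro a
      letI := Ideal.Quotient.field m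
      haveI : Module.Finite k (A ⧸ m) := finite_of_finite_type_of_isJacobsonRing k (A ⧸ m)
      obtain ⟨c, hc⟩ := (IsAlgClosed.algebraMap_bijective_of_isIntegral (k := k) (K := A ⧸ m)).2 (Ideal.Quotient.mk m a)
      exact ⟨c, Ideal.Quotient.eq.mp hc.symm⟩
    have hmR : ∀ a ∈ m, algebraMap A (Localization.AtPrime m) a ∈ IsLocalRing.maximalIdeal (Localization.AtPrime m) :=
      fun a ha => (IsLocalization.AtPrime.to_map_mem_maximal_iff (Localization.AtPrime m) m a).mpr ha
    have hresR : ∀ x : Localization.AtPrime m, ∃ c : k,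
        x - algebraMap k _ c ∈ IsLocalRing.maximalIdeal (Localization.AtPrime m) := by
      intro x
      obtain ⟨⟨a, s⟩, hx⟩ := IsLocalization.surj m.primeCompl x
      obtain ⟨c1, hc1⟩ := hresA a
      obtain ⟨c2, hc2⟩ := hresA s
      have hc20 : c2 ≠ 0 := fun h => s.2 (by simpa [h] using hc2)
      refine ⟨c1 / c2, (Ideal.unit_mul_mem_iff_mem _ (IsLocalization.map_units (Localization.AtPrime m) s)).mp ?_⟩
      have key : (a : A) - algebraMap k A (c1 / c2) * (s : A) ∈ m := by
        have h1 := sub_mem hc1 (Ideal.mul_mem_left m (algebraMap k A (c1 / c2)) hc2)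
        rw [mul_sub, ← map_mul, div_mul_cancel₀ _ hc20, sub_sub_sub_cancel_right] at h1
        exact h1
      convert hmR _ key using 1
      rw [map_sub, map_mul, ← IsScalarTower.algebraMap_apply, ← hx]
      ring
    have hconst : ∀ (l : ℕ) (z : Groth.Agent.H24Obs.Jets.Jet k l), ∃ c b, z = algebraMap k _ c + Groth.Agent.H24Obs.Jets.T k l * b := by
      intro l z
      obtain ⟨p, rfl⟩ := Ideal.Quotient.mk_surjective z
      refine ⟨p.coeff 0, Ideal.Quotient.mk _ p.divX, ?_⟩
      conv_lhs => rw [← p.X_mul_divX_add, map_add, map_mul, add_comm]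
      rfl
    constructor
    · intro hreg l hl φ hφ
      have hs : Function.Surjective (algebraMap k (IsLocalRing.ResidueField (Localization.AtPrime m))) := fun z => by
        obtain ⟨x, rfl⟩ := IsLocalRing.residue_surjective z
        obtain ⟨c, hc⟩ := hresR x
        refine ⟨c, ?_⟩
        rw [IsScalarTower.algebraMap_apply k (Localization.AtPrime m), IsLocalRing.ResidueField.algebraMap_eq]
        exact (Ideal.Quotient.eq.mpr hc).symm
      have hu : ∀ s : m.primeCompl, IsUnit (φ s) := fun s => by
        obtain ⟨c, hc⟩ := hresA s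
        have hc0 : c ≠ 0 := fun h => s.2 (by simpa [h] using hc)
        have h1 := (hφ _ hc).isUnit_add_left_of_commute ((Ne.isUnit hc0).map (algebraMap k _)) (Commute.all _ _)
        rwa [map_sub, AlgHom.commutes, add_sub_cancel] at h1
      obtain ⟨ψ, hψ⟩ := Groth.Agent.H24Obs.Jets.exists_lift_jet hs hl
        (IsLocalization.liftAlgHom (S := Localization.AtPrime m) (f := φ) hu)
      refine ⟨ψ.comp (IsScalarTower.toAlgHom k A _), AlgHom.ext fun a => ?_⟩
      refine (AlgHom.congr_fun hψ (algebraMap A _ a)).trans ?_
      exact IsLocalization.lift_eq _ a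
    · intro H
      refine Groth.Agent.H24Obs.Jets.isRegularLocalRing_of_jets hresR fun l hl φ => ?_
      haveI := Groth.Agent.H24Obs.Jets.isLocalRing_jet (k := k) hl
      have hnil : ∀ a ∈ m, IsNilpotent (φ (algebraMap A _ a)) := fun a ha => by
        obtain ⟨c, b, hcb⟩ := hconst l (φ (algebraMap A _ a))
        have hTb : IsNilpotent (Groth.Agent.H24Obs.Jets.T k l * b) :=
          ⟨l, by rw [mul_pow, Groth.Agent.H24Obs.Jets.T_pow, zero_mul]⟩
        rw [hcb]
        by_cases hc : c = 0
        · rw [hc, map_zero, zero_add]; exact hTb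
        exfalso
        have hunit : IsUnit (algebraMap A (Localization.AtPrime m) a - algebraMap k _ c) := by
          by_contra hn
          have h1 := sub_mem (hmR a ha) ((IsLocalRing.mem_maximalIdeal _).mpr hn)
          rw [sub_sub_cancel] at h1
          exact (IsLocalRing.mem_maximalIdeal _).mp h1 ((Ne.isUnit hc).map _)
        have h2 := hunit.map φ
        rw [map_sub, AlgHom.commutes, hcb, add_sub_cancel_left] at h2
        exact hTb.not_isUnit h2
      obtain ⟨ψ, hψ⟩ := H l hl (φ.comp (IsScalarTower.toAlgHom k A _)) hnil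
      have hu : ∀ s : m.primeCompl, IsUnit (ψ s) := fun s => by
        obtain ⟨c, hc⟩ := hresA s
        have hc0 : c ≠ 0 := fun h => s.2 (by simpa [h] using hc)
        have hn : IsNilpotent (ψ ((s : A) - algebraMap k A c)) := by
          obtain ⟨N, hN⟩ := hnil _ hc
          refine ⟨N * 2, ?_⟩
          have hmem : ψ ((s : A) - algebraMap k A c) ^ N ∈ RingHom.ker (Groth.Agent.H24Obs.Jets.red k l) := by
            rw [RingHom.mem_ker, map_pow, ← hN]
            exact congrArg (· ^ N) (AlgHom.congr_fun hψ _)
          have h2 := Ideal.pow_mem_pow hmem 2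
          rw [Groth.Agent.H24Obs.Jets.ker_red_sq hl, Ideal.mem_bot, ← pow_mul] at h2
          exact h2
        have h1 := hn.isUnit_add_left_of_commute ((Ne.isUnit hc0).map (algebraMap k _)) (Commute.all _ _)
        rwa [map_sub, AlgHom.commutes, add_sub_cancel] at h1
      refine ⟨IsLocalization.liftAlgHom (S := Localization.AtPrime m) (f := ψ) hu, ?_⟩
      refine AlgHom.coe_ringHom_injective (IsLocalization.ringHom_ext m.primeCompl (RingHom.ext fun a => ?_))
      refine (congrArg (Groth.Agent.H24Obs.Jets.red k l) (IsLocalization.lift_eq _ a)).trans ?_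
      exact AlgHom.congr_fun hψ a

end Groth.Agent.S18832
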