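import Groth.Statements.S18833
import Groth.Agent.H10Coh.Stab.MuHN
-- import your own Groth.Agent.* helpers here

set_option autoImplicit false
open CategoryTheory CategoryTheory.Limits AlgebraicGeometry Polynomial
universe u
open ShStab

namespace Groth.Agent.S18833

/-- Let k be an algebraically closed field of characteristic zero, X a smooth projective integral
variety of dimension n ≥ 1 over k with an ample invertible sheaf L, and F a nonzero torsion-free
coherent O_X-module (pure of dimension n). Then F has exactly one increasing filtration by saturated
subsheaves 0 ⊂ F_0 ⊂ ⋯ ⊂ F_s = F whose graded pieces are torsion-free and slope-semistable with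
strictly decreasing slopes. Slopes are compared through the quantity α_(n−1)/α_n of the Hilbert
polynomials with respect to L, an increasing affine function of the slope det · L^(n−1)/rank used in
the source; the source takes L very ample, its argument using only that high twists of coherent
sheaves are globally generated, so L is taken ample here. -/
theorem result (k : Type u) [Field k] [IsAlgClosed k] [CharZero k]
    (X : Scheme.{u}) [X.Over (Spec (CommRingCat.of k))] [IsIntegral X]
    [IsProper (X ↘ Spec (CommRingCat.of k))] [Smooth (X ↘ Spec (CommRingCat.of k))]
    (n : ℕ) (hn : 1 ≤ n) (hX : topologicalKrullDim X = (n : WithBot ℕ∞))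
    (L : X.Modules) (hLi : PicF.IsInvertible L) (hL : CohB1.IsAmple L)
    (F : X.Modules) (hF : Coh.IsCoh F) (h0 : ¬ IsZero F) (htf : ShStab.IsPure X F n) :
    ∃! s : LTSeries (Subobject F),
      s.head = ⊥ ∧ s.last = ⊤ ∧
      (∀ i : Fin s.length,
        ShStab.IsPure X (StabCat.factor s i) n ∧ ShStab.IsMuSemistable k X L (StabCat.factor s i) n) ∧
      ∀ (i j : Fin s.length), i.val + 1 = j.val →
        ∀ (p q : ℚ[X]), ShStab.IsHilbPoly k X L (StabCat.factor s i) p →
          ShStab.IsHilbPoly k X L (StabCat.factor s j) q →
          StabCat.hatSlope n q < StabCat.hatSlope n p := by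
  exact Groth.Agent.H10Coh.Stab.existsUnique_muHN k hL hn hF h0 htf

end Groth.Agent.S18833
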