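import Groth.Statements.S18836
import Groth.Agent.H17.QuotSch.Saturate
import Groth.Agent.H22Alg.MumfordQuot

set_option autoImplicit false
set_option linter.style.haveILetI false
set_option backward.isDefEq.respectTransparency.types false
set_option maxHeartbeats 1600000
universe u
open CategoryTheory CategoryTheory.Limits AlgebraicGeometry
open FGA
open Groth.Agent

namespace Groth.Agent.S18836

/-- Let k be an algebraically closed field of characteristic zero, X a projective k-scheme (proper over
k, carrying an ample invertible sheaf), R a discrete valuation ring containing k with fraction field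
K, X_R = X ×_k Spec R and X_K = X_R ×_(Spec R) Spec K with j : X_K → X_R the canonical open
immersion. If F is a coherent module on X_K which is a quotient of O^N, then there is a coherent
module F' on X_R, flat over Spec R and again a quotient of O^N, whose restriction j^*F' to X_K is
isomorphic to F. (The Hilbert polynomial of the closed fibre of F' then equals that of F by
flatness; that clause is not restated.) The published statement is for a valuation ring R containing
k; its argument uses a uniformiser, and this row takes R a discrete valuation ring. The row asserts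
only the existence of an isomorphism j^*F' ≅ F, not its compatibility with the two quotient maps. -/
theorem result (k : Type u) [Field k] [IsAlgClosed k] [CharZero k]
    (X : Scheme.{u}) [X.Over (Spec (CommRingCat.of k))] [IsProper (X ↘ Spec (CommRingCat.of k))]
    (L : X.Modules) (hLi : PicF.IsInvertible L) (hL : CohB1.IsAmple L)
    (R : Type u) [CommRing R] [IsDomain R] [IsDiscreteValuationRing R] [Algebra k R]
    (N : ℕ)
    (F : (pullback (pullback.snd (X ↘ Spec (CommRingCat.of k))
              (Spec.map (CommRingCat.ofHom (algebraMap k R))))
            (Spec.map (CommRingCat.ofHom (algebraMap R (FractionRing R))))).Modules)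
    (hF : Coh.IsCoh F)
    (q : FlatMod.freeMod _ N ⟶ F) (hq : Epi q) :
    ∃ (F' : (pullback (X ↘ Spec (CommRingCat.of k)) (Spec.map (CommRingCat.ofHom (algebraMap k R)))).Modules)
      (q' : FlatMod.freeMod _ N ⟶ F'),
      Coh.IsCoh F' ∧ Epi q' ∧
      FlatMod.IsFlatOver (pullback.snd (X ↘ Spec (CommRingCat.of k))
          (Spec.map (CommRingCat.ofHom (algebraMap k R)))) F' ∧
      Nonempty ((Scheme.Modules.pullback
          (pullback.fst (pullback.snd (X ↘ Spec (CommRingCat.of k))
              (Spec.map (CommRingCat.ofHom (algebraMap k R))))
            (Spec.map (CommRingCat.ofHom (algebraMap R (FractionRing R)))))).obj F' ≅ F) := by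
  let f := pullback.snd (X ↘ Spec (CommRingCat.of k)) (Spec.map (CommRingCat.ofHom (algebraMap k R)))
  haveI : IsLocallyNoetherian (pullback (X ↘ Spec (CommRingCat.of k)) (Spec.map (CommRingCat.ofHom (algebraMap k R)))) :=
    LocallyOfFiniteType.isLocallyNoetherian f
  let j := pullback.fst f (Spec.map (CommRingCat.ofHom (algebraMap R (FractionRing R))))
  haveI : PreservesColimitsOfSize.{0, 0} (Scheme.Modules.pullback j) :=
    (Scheme.Modules.pullbackPushforwardAdjunction j).leftAdjoint_preservesColimits
  let e : (Scheme.Modules.pullback j).obj (FlatMod.freeMod _ N) ≅ FlatMod.freeMod _ N :=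
    PreservesCoproduct.iso (Scheme.Modules.pullback j) _ ≪≫
      Sigma.mapIso fun _ => H16Derived.KFlat.Stalk.structurePullbackIso j
  haveI : Epi q := hq
  obtain ⟨F₀, π, hπ, hF₀, hfl, e₀, -⟩ := H17.QuotSch.exists_extension (f := f)
    (IsPullback.of_hasPullback f _) (H22Alg.MumfordQuot.isCoh_free N) hF.1 (e.hom ≫ q)
  exact ⟨F₀, π, hF₀, hπ, hfl, ⟨e₀⟩⟩

end Groth.Agent.S18836
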