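import Groth.Statements.S18837
import Groth.Agent.H24Def.TruncFlat

set_option autoImplicit false
set_option linter.style.haveILetI false
universe u
open Polynomial TensorProduct
open Deform

namespace Groth.Agent.S18837

/-- Let k be an algebraically closed field of characteristic zero, n ≥ 1, D = k[X]/(X^(n+1)) (given with
a k-algebra isomorphism e identifying the class of X with τ ∈ D), and B a finitely generated
k-algebra which is a flat D-algebra such that B/tB is smooth over k, where t is the image of τ in B
(an affine open of a flat deformation of a smooth k-scheme over Spec D); put B' = B/t^nB. Then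
Ω_(B/D) is a projective B-module, B' ⊗_B Ω_(B/k) is a projective B'-module, and the sequence 0 → B'
→ B' ⊗_B Ω_(B/k) → B' ⊗_B Ω_(B/D) → 0 is exact, the first map being b ↦ b · (1 ⊗ dt) and the second
the base change of the canonical surjection Ω_(B/k) → Ω_(B/D). The source states this for a flat
proper family over Spec D with smooth central fibre; the statement is local and is given here on an
affine open. -/
theorem result (k : Type u) [Field k] [IsAlgClosed k] [CharZero k] (n : ℕ) (hn : 1 ≤ n)
    (D : Type u) [CommRing D] [Algebra k D] (τ : D)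
    (e : (k[X] ⧸ Ideal.span {(X : k[X]) ^ (n + 1)}) ≃ₐ[k] D)
    (he : e (Ideal.Quotient.mk (Ideal.span {(X : k[X]) ^ (n + 1)}) X) = τ)
    (B : Type u) [CommRing B] [Algebra k B] [Algebra D B] [IsScalarTower k D B]
    [Algebra.FiniteType k B] [Module.Flat D B]
    (t : B) (ht : t = algebraMap D B τ) (hsm : Algebra.Smooth k (B ⧸ Ideal.span {t})) :
    Module.Projective B (Ω[B⁄D]) ∧
    Module.Projective (B ⧸ Ideal.span {t ^ n}) ((B ⧸ Ideal.span {t ^ n}) ⊗[B] Ω[B⁄k]) ∧
    Function.Injective
      (LinearMap.toSpanSingleton (B ⧸ Ideal.span {t ^ n}) ((B ⧸ Ideal.span {t ^ n}) ⊗[B] Ω[B⁄k])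
        ((1 : (B ⧸ Ideal.span {t ^ n})) ⊗ₜ[B] KaehlerDifferential.D k B t)) ∧
    Function.Exact
      (LinearMap.toSpanSingleton (B ⧸ Ideal.span {t ^ n}) ((B ⧸ Ideal.span {t ^ n}) ⊗[B] Ω[B⁄k])
        ((1 : (B ⧸ Ideal.span {t ^ n})) ⊗ₜ[B] KaehlerDifferential.D k B t))
      (LinearMap.baseChange (B ⧸ Ideal.span {t ^ n}) (KaehlerDifferential.map k D B B)) ∧
    Function.Surjective (LinearMap.baseChange (B ⧸ Ideal.span {t ^ n}) (KaehlerDifferential.map k D B B)) := by
    classical
    haveI := Groth.Agent.H24Def.TruncFlat.smooth e he ht hsm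
    haveI : Module.Projective B (Ω[B⁄D]) := Algebra.FormallySmooth.projective_kaehlerDifferential
    obtain ⟨l, hl⟩ := Groth.Agent.H24Def.TruncFlat.exists_functional e he ht
    have hex := Groth.Agent.H24Def.TruncFlat.exact_toSpan_baseChange e he ht
    have hsurj : Function.Surjective (LinearMap.baseChange (B ⧸ Ideal.span {t ^ n}) (KaehlerDifferential.map k D B B)) :=
      LinearMap.lTensor_surjective _ (KaehlerDifferential.map_surjective k D B)
    refine ⟨inferInstance, ?_, fun a b hab => ?_, hex, hsurj⟩
    · set π := LinearMap.baseChange (B ⧸ Ideal.span {t ^ n}) (KaehlerDifferential.map k D B B)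
      set δ := LinearMap.toSpanSingleton (B ⧸ Ideal.span {t ^ n}) ((B ⧸ Ideal.span {t ^ n}) ⊗[B] Ω[B⁄k])
        ((1 : (B ⧸ Ideal.span {t ^ n})) ⊗ₜ[B] KaehlerDifferential.D k B t) with hδ
      obtain ⟨s, hs⟩ := Module.projective_lifting_property π LinearMap.id hsurj
      refine Module.Projective.of_split (l.prod π) (δ.coprod (s - δ ∘ₗ l ∘ₗ s)) (LinearMap.ext fun z => ?_)
      have hsπ := LinearMap.congr_fun hs (π z)
      rw [LinearMap.comp_apply, LinearMap.id_apply] at hsπ
      obtain ⟨c, hc⟩ := (hex (z - s (π z))).mp (by rw [map_sub, hsπ, sub_self])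
      have hlc := congrArg l hc
      rw [hδ, LinearMap.toSpanSingleton_apply, map_smul, hl, smul_eq_mul, mul_one, map_sub] at hlc
      simp only [LinearMap.comp_apply, LinearMap.prod_apply, Pi.prod, LinearMap.coprod_apply, LinearMap.sub_apply,
        LinearMap.id_apply]
      rw [← sub_eq_zero]
      calc δ (l z) + (s (π z) - δ (l (s (π z)))) - z
          = δ (l z - l (s (π z))) - (z - s (π z)) := by rw [map_sub]; abel
        _ = 0 := by rw [← hlc, hc, sub_self]
    · have := congrArg l hab
      rw [LinearMap.toSpanSingleton_apply, LinearMap.toSpanSingleton_apply, map_smul, map_smul, hl, smul_eq_mul, smul_eq_mul, mul_one, mul_one] at this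
      exact this

end Groth.Agent.S18837
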