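import Groth.Statements.S18838
import Groth.Agent.H24Def.TruncFlat

set_option autoImplicit false
set_option linter.style.haveILetI false
universe u
open Polynomial TensorProduct
open Deform

namespace Groth.Agent.S18838

/-- Let k be an algebraically closed field of characteristic zero, n ≥ 1, D = k[X]/(X^(n+1)) (given with
a k-algebra isomorphism e identifying the class of X with τ ∈ D), and B a finitely generated
k-algebra which is a flat D-algebra such that B/tB is smooth over k, where t is the image of τ in B
(an affine open of a flat deformation of a smooth k-scheme over Spec D); put B' = B/t^nB. The map μ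
: B → B' × (B' ⊗_B Ω_(B/k)) sending f to (f mod t^n, 1 ⊗ df) is injective, and its image consists
exactly of the pairs (g, α) with dg = r(α) in Ω_(B'/k), r being the canonical map B' ⊗_B Ω_(B/k) →
Ω_(B'/k). Injectivity uses that n is invertible in k. The source works with a flat proper family
over Spec D with smooth central fibre; the statement is local and is given here on an affine open. -/
theorem result (k : Type u) [Field k] [IsAlgClosed k] [CharZero k] (n : ℕ) (hn : 1 ≤ n)
    (D : Type u) [CommRing D] [Algebra k D] (τ : D)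
    (e : (k[X] ⧸ Ideal.span {(X : k[X]) ^ (n + 1)}) ≃ₐ[k] D)
    (he : e (Ideal.Quotient.mk (Ideal.span {(X : k[X]) ^ (n + 1)}) X) = τ)
    (B : Type u) [CommRing B] [Algebra k B] [Algebra D B] [IsScalarTower k D B]
    [Algebra.FiniteType k B] [Module.Flat D B]
    (t : B) (ht : t = algebraMap D B τ) (hsm : Algebra.Smooth k (B ⧸ Ideal.span {t})) :
    Function.Injective (fun f : B =>
      ((Ideal.Quotient.mk (Ideal.span {t ^ n}) f,
        (1 : (B ⧸ Ideal.span {t ^ n})) ⊗ₜ[B] KaehlerDifferential.D k B f) : (B ⧸ Ideal.span {t ^ n}) × ((B ⧸ Ideal.span {t ^ n}) ⊗[B] Ω[B⁄k]))) ∧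
    Set.range (fun f : B =>
      ((Ideal.Quotient.mk (Ideal.span {t ^ n}) f,
        (1 : (B ⧸ Ideal.span {t ^ n})) ⊗ₜ[B] KaehlerDifferential.D k B f) : (B ⧸ Ideal.span {t ^ n}) × ((B ⧸ Ideal.span {t ^ n}) ⊗[B] Ω[B⁄k]))) =
      {p | KaehlerDifferential.D k (B ⧸ Ideal.span {t ^ n}) p.1 = KaehlerDifferential.mapBaseChange k B (B ⧸ Ideal.span {t ^ n}) p.2} := by
    classical
    haveI := Groth.Agent.H24Def.TruncFlat.smooth e he ht hsm
    obtain ⟨l, hl⟩ := Groth.Agent.H24Def.TruncFlat.exists_functional e he ht
    have hn0 : (n : k) ≠ 0 := Nat.cast_ne_zero.mpr (by omega)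
    have htop : t ^ (n + 1) = 0 := by
      rw [ht, ← map_pow, Groth.Agent.H24Def.TruncFlat.tau_pow e he, map_zero]
    have hmk : Function.Surjective (algebraMap B (B ⧸ Ideal.span {t ^ n})) := Ideal.Quotient.mk_surjective
    refine ⟨fun f g hfg => ?_, ?_⟩
    · simp only [Prod.mk.injEq] at hfg
      obtain ⟨b, hb⟩ := Ideal.mem_span_singleton'.mp (Ideal.Quotient.eq.mp hfg.1)
      have h2 : (1 : B ⧸ Ideal.span {t ^ n}) ⊗ₜ[B] KaehlerDifferential.D k B (t ^ n * b) = 0 := by
        rw [mul_comm, hb, map_sub, TensorProduct.tmul_sub, hfg.2, sub_self]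
      rw [Groth.Agent.H24Def.TruncFlat.one_tmul_D_pow_mul] at h2
      have h3 := congrArg l h2
      rw [map_smul, hl, map_zero, smul_eq_mul, mul_one] at h3
      obtain ⟨c, hc⟩ := Ideal.mem_span_singleton'.mp (Ideal.Quotient.eq_zero_iff_mem.mp h3)
      have hu : IsUnit (n : B) := by
        rw [← map_natCast (algebraMap k B)]
        exact (Ne.isUnit hn0).map _
      have h4 : b * t ^ n * (n : B) = 0 := by
        have h5 : (b * ((n : B) * t ^ (n - 1))) * t = 0 := by rw [← hc, mul_assoc, ← pow_succ, htop, mul_zero]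
        rw [← h5]
        conv_lhs => rw [show n = n - 1 + 1 by omega, pow_succ]
        rw [show n - 1 + 1 = n by omega]
        ring
      rw [hu.mul_left_eq_zero] at h4
      exact sub_eq_zero.mp (hb ▸ h4)
    · ext ⟨g, α⟩
      simp only [Set.mem_range, Set.mem_setOf_eq, Prod.mk.injEq]
      constructor
      · rintro ⟨f, rfl, rfl⟩
        rw [KaehlerDifferential.mapBaseChange_tmul, one_smul, KaehlerDifferential.map_D]
        rfl
      · intro h
        obtain ⟨f, rfl⟩ := Ideal.Quotient.mk_surjective g
        have h0 : KaehlerDifferential.mapBaseChange k B (B ⧸ Ideal.span {t ^ n})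
            (α - 1 ⊗ₜ[B] KaehlerDifferential.D k B f) = 0 := by
          rw [map_sub, ← h, KaehlerDifferential.mapBaseChange_tmul, one_smul, KaehlerDifferential.map_D]
          exact sub_self _
        obtain ⟨w, hw⟩ := (KaehlerDifferential.exact_kerCotangentToTensor_mapBaseChange k B _ hmk _).mp h0
        obtain ⟨⟨x, hx⟩, rfl⟩ := Ideal.toCotangent_surjective _ w
        rw [KaehlerDifferential.kerCotangentToTensor_toCotangent] at hw
        rw [RingHom.mem_ker, Ideal.Quotient.algebraMap_eq] at hx
        refine ⟨f + x, ?_, ?_⟩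
        · rw [map_add, hx, add_zero]
        · rw [map_add, TensorProduct.tmul_add, hw, add_sub_cancel]

end Groth.Agent.S18838
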