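import Groth.Statements.S18839
import Groth.Agent.H24Def.TruncFlat

set_option autoImplicit false
set_option linter.style.haveILetI false
universe u
open Polynomial TensorProduct
open Deform

namespace Groth.Agent.S18839

/-- Let k be an algebraically closed field of characteristic zero, n ≥ 1, D = k[X]/(X^(n+1)) (given with
a k-algebra isomorphism e identifying the class of X with τ ∈ D), and B a finitely generated
k-algebra which is a flat D-algebra such that B/tB is smooth over k, where t is the image of τ in B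
(an affine open of a flat deformation of a smooth k-scheme over Spec D); put B' = B/t^nB. The map ν
: Ω_(B/k) → Ω_(B/D) × (B' ⊗_B Ω_(B/k)), η ↦ (η relative to D, 1 ⊗ η), is injective, and its image
consists exactly of the pairs (α, β) with the same image in Ω_(B'/D) under the canonical maps
Ω_(B/D) → Ω_(B'/D) and B' ⊗_B Ω_(B/k) → Ω_(B'/k) → Ω_(B'/D). Injectivity uses that n + 1 is
invertible in k (so that t^n dt = 0 in Ω_(B/k)). The source works with a flat proper family over
Spec D with smooth central fibre; the statement is local and is given here on an affine open. -/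
theorem result (k : Type u) [Field k] [IsAlgClosed k] [CharZero k] (n : ℕ) (hn : 1 ≤ n)
    (D : Type u) [CommRing D] [Algebra k D] (τ : D)
    (e : (k[X] ⧸ Ideal.span {(X : k[X]) ^ (n + 1)}) ≃ₐ[k] D)
    (he : e (Ideal.Quotient.mk (Ideal.span {(X : k[X]) ^ (n + 1)}) X) = τ)
    (B : Type u) [CommRing B] [Algebra k B] [Algebra D B] [IsScalarTower k D B]
    [Algebra.FiniteType k B] [Module.Flat D B]
    (t : B) (ht : t = algebraMap D B τ) (hsm : Algebra.Smooth k (B ⧸ Ideal.span {t})) :
    Function.Injective (fun η : Ω[B⁄k] =>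
      ((KaehlerDifferential.map k D B B η, (1 : (B ⧸ Ideal.span {t ^ n})) ⊗ₜ[B] η) : Ω[B⁄D] × ((B ⧸ Ideal.span {t ^ n}) ⊗[B] Ω[B⁄k]))) ∧
    Set.range (fun η : Ω[B⁄k] =>
      ((KaehlerDifferential.map k D B B η, (1 : (B ⧸ Ideal.span {t ^ n})) ⊗ₜ[B] η) : Ω[B⁄D] × ((B ⧸ Ideal.span {t ^ n}) ⊗[B] Ω[B⁄k]))) =
      {p | KaehlerDifferential.map D D B (B ⧸ Ideal.span {t ^ n}) p.1 =
        KaehlerDifferential.map k D (B ⧸ Ideal.span {t ^ n}) (B ⧸ Ideal.span {t ^ n}) (KaehlerDifferential.mapBaseChange k B (B ⧸ Ideal.span {t ^ n}) p.2)} := by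
    classical
    haveI := Groth.Agent.H24Def.TruncFlat.smooth e he ht hsm
    obtain ⟨l, hl⟩ := Groth.Agent.H24Def.TruncFlat.exists_functional e he ht
    have hn0 : ((n + 1 : ℕ) : k) ≠ 0 := Nat.cast_ne_zero.mpr (by omega)
    have hmk : Function.Surjective (algebraMap B (B ⧸ Ideal.span {t ^ n})) := Ideal.Quotient.mk_surjective
    have htdt : t ^ n • KaehlerDifferential.D k B t = 0 := by
      have htop : t ^ (n + 1) = 0 := by
        rw [ht, ← map_pow, Groth.Agent.H24Def.TruncFlat.tau_pow e he, map_zero]
      have h := congrArg (KaehlerDifferential.D k B) htop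
      rw [map_zero, Derivation.leibniz_pow, Nat.add_sub_cancel, ← Nat.cast_smul_eq_nsmul k] at h
      have := congrArg (((n + 1 : ℕ) : k)⁻¹ • ·) h
      simpa [show (n : k) + 1 ≠ 0 by exact_mod_cast hn0] using this
    refine ⟨fun η η' hηη => ?_, ?_⟩
    · simp only [Prod.mk.injEq] at hηη
      rw [← sub_eq_zero]
      obtain ⟨b, hb⟩ := Groth.Agent.H24Def.TruncFlat.exists_smul_of_map_eq_zero e he ht (η - η')
        (by rw [map_sub, hηη.1, sub_self])
      have h2 : (1 : B ⧸ Ideal.span {t ^ n}) ⊗ₜ[B] (b • KaehlerDifferential.D k B t) = 0 := by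
        rw [← hb, TensorProduct.tmul_sub, hηη.2, sub_self]
      rw [← TensorProduct.smul_tmul, Algebra.smul_def, Ideal.Quotient.algebraMap_eq, ← smul_eq_mul,
        ← TensorProduct.smul_tmul'] at h2
      have h3 := congrArg l h2
      rw [map_smul, hl, map_zero, smul_eq_mul, mul_one] at h3
      obtain ⟨c, hc⟩ := Ideal.mem_span_singleton'.mp (Ideal.Quotient.eq_zero_iff_mem.mp h3)
      rw [hb, ← hc, mul_smul, htdt, smul_zero]
    · ext ⟨α, β⟩
      simp only [Set.mem_range, Set.mem_setOf_eq, Prod.mk.injEq]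
      constructor
      · rintro ⟨η, rfl, rfl⟩
        rw [KaehlerDifferential.mapBaseChange_tmul, one_smul]
        exact Groth.Agent.H24Def.TruncFlat.map_map (D := D) _ η
      · intro h
        obtain ⟨η, rfl⟩ := KaehlerDifferential.map_surjective k D B α
        set γ := β - (1 : B ⧸ Ideal.span {t ^ n}) ⊗ₜ[B] η with hγ
        have h1 : KaehlerDifferential.mapBaseChange D B (B ⧸ Ideal.span {t ^ n})
            (LinearMap.baseChange (B ⧸ Ideal.span {t ^ n}) (KaehlerDifferential.map k D B B) γ) = 0 := by
          rw [Groth.Agent.H24Def.TruncFlat.mapBaseChange_baseChange, hγ, map_sub, map_sub, ← h,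
            KaehlerDifferential.mapBaseChange_tmul, one_smul, ← Groth.Agent.H24Def.TruncFlat.map_map (D := D) _ η, sub_self]
        obtain ⟨w, hw⟩ := (KaehlerDifferential.exact_kerCotangentToTensor_mapBaseChange D B _ hmk _).mp h1
        obtain ⟨⟨x, hx⟩, rfl⟩ := Ideal.toCotangent_surjective _ w
        rw [KaehlerDifferential.kerCotangentToTensor_toCotangent] at hw
        rw [RingHom.mem_ker, Ideal.Quotient.algebraMap_eq, Ideal.Quotient.eq_zero_iff_mem,
          Ideal.mem_span_singleton'] at hx
        obtain ⟨b, rfl⟩ := hx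
        have hzero : (1 : B ⧸ Ideal.span {t ^ n}) ⊗ₜ[B] KaehlerDifferential.D D B (b * t ^ n) = 0 := by
          have hDt : KaehlerDifferential.D D B (t ^ n) = 0 := by
            rw [ht, ← map_pow]; exact Derivation.map_algebraMap _ _
          rw [Derivation.leibniz, hDt, smul_zero, zero_add, ← TensorProduct.smul_tmul, Algebra.smul_def, mul_one,
            Ideal.Quotient.algebraMap_eq, Ideal.Quotient.eq_zero_iff_mem.mpr (Ideal.mem_span_singleton_self _),
            TensorProduct.zero_tmul]
        obtain ⟨c, hc⟩ := (Groth.Agent.H24Def.TruncFlat.exact_toSpan_baseChange e he ht γ).mp (hw.symm.trans hzero)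
        obtain ⟨c, rfl⟩ := Ideal.Quotient.mk_surjective c
        refine ⟨η + c • KaehlerDifferential.D k B t, ?_, ?_⟩
        · rw [map_add, map_smul, Groth.Agent.H24Def.TruncFlat.map_D_t ht, smul_zero, add_zero]
        · rw [TensorProduct.tmul_add, ← TensorProduct.smul_tmul, Algebra.smul_def, Ideal.Quotient.algebraMap_eq,
            ← smul_eq_mul, ← TensorProduct.smul_tmul', ← LinearMap.toSpanSingleton_apply, hc, hγ, add_sub_cancel]

end Groth.Agent.S18839
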