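import Groth.Statements.S1884
import Groth.Agent.H13Grpd.InvariantAffine
import Groth.Agent.H8Props.FlatLocus.Scheme
import Groth.Agent.H12AlgSp.Residual
import Groth.Agent.H17.Reduced
import Groth.Agent.S0217
import Groth.Agent.S7464

set_option autoImplicit false
set_option maxHeartbeats 1000000
set_option synthInstance.maxHeartbeats 100000
set_option linter.style.haveILetI false
set_option backward.isDefEq.respectTransparency false
universe u
open CategoryTheory CategoryTheory.Limits AlgebraicGeometry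
open Grpd

namespace Groth.Agent.S1884

open Groth.Agent.H13Grpd TopologicalSpace

variable {S : Scheme.{u}} (G : Grpd.GroupoidScheme S) [IsFinite G.s]

/-- Coset prime avoidance. -/
theorem exists_add_avoiding {A : Type u} [CommRing A] (J : Ideal A) (x : A) (s : Finset (Ideal A))
    (hp : ∀ P ∈ s, P.IsPrime) (h : ∀ P ∈ s, x ∉ P ∨ ¬ J ≤ P) : ∃ y ∈ J, ∀ P ∈ s, x + y ∉ P := by
  classical
  induction s using Finset.strongInduction with
  | _ s ih =>
    rcases s.eq_empty_or_nonempty with rfl | hne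
    · exact ⟨0, J.zero_mem, by simp⟩
    obtain ⟨P, hP, hmin⟩ := s.exists_minimal hne
    obtain ⟨y, hy, hys⟩ := ih (s.erase P) (Finset.erase_ssubset hP)
      (fun Q hQ => hp Q (Finset.mem_of_mem_erase hQ)) (fun Q hQ => h Q (Finset.mem_of_mem_erase hQ))
    by_cases hyP : x + y ∈ P
    · have hJ : ¬ J ≤ P := fun hle => (h P hP).elim
        (fun hx => hx (by simpa using P.sub_mem hyP (hle hy))) (fun h' => h' hle)
      haveI := hp P hP
      have hnle : ¬ J ⊓ (s.erase P).inf id ≤ P := fun hle => by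
        rcases (Ideal.IsPrime.inf_le ‹_›).1 hle with h' | h'
        · exact hJ h'
        · obtain ⟨Q, hQ, hQP⟩ := (Ideal.IsPrime.inf_le' ‹_›).1 h'
          exact Finset.ne_of_mem_erase hQ
            (le_antisymm hQP (hmin (Finset.mem_of_mem_erase hQ) hQP))
      obtain ⟨d, hd, hdP⟩ := SetLike.not_le_iff_exists.1 hnle
      refine ⟨y + d, J.add_mem hy hd.1, fun Q hQ hmem => ?_⟩
      by_cases e : Q = P
      · subst e
        exact hdP (by simpa [← add_assoc] using Q.sub_mem hmem hyP)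
      · have hQ' : Q ∈ s.erase P := Finset.mem_erase.2 ⟨e, hQ⟩
        exact hys Q hQ' (by
          simpa [← add_assoc] using Q.sub_mem hmem ((Finset.inf_le (f := id) hQ') hd.2))
    · exact ⟨y, hy, fun Q hQ => if e : Q = P then e ▸ hyP else hys Q (Finset.mem_erase.2 ⟨e, hQ⟩)⟩

theorem isOpen_orbit_subset' {O : Set G.U} (hO : IsOpen O) : IsOpen {v | orbit G v ⊆ O} := by
  have : {v | orbit G v ⊆ O} = (G.s '' (G.t ⁻¹' Oᶜ))ᶜ := by
    ext v
    simp only [orbit, Set.mem_setOf_eq, Set.image_subset_iff, Set.mem_compl_iff, Set.mem_image, Set.mem_preimage]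
    exact ⟨fun h ⟨r, hr, hrv⟩ => hr (h hrv), fun h r hrv => by_contra fun hn => h ⟨r, hn, hrv⟩⟩
  rw [this]
  exact (G.s.isClosedMap _ (hO.isClosed_compl.preimage G.t.continuous)).isOpen_compl

/-- The source is flat over the complement of a nowhere dense closed subset of a reduced closed subscheme. -/
theorem exists_nonflat {U R : Scheme.{u}} (s : R ⟶ U) [IsFinite s] [LocallyOfFinitePresentation s]
    {U' : Scheme.{u}} (k : U' ⟶ U) [IsClosedImmersion k] [IsReduced U'] :
    ∃ C : Set U, IsClosed C ∧ C ⊆ Set.range k ∧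
      (∀ x ∈ Set.range k, (∀ y ∈ Set.range k, y ⤳ x → y = x) → x ∉ C) ∧
      ∀ p : ↥(pullback s k), k (pullback.snd s k p) ∉ C → ((pullback.snd s k).stalkMap p).hom.Flat := by
  haveI : IsFinite (pullback.snd s k) := MorphismProperty.pullback_snd (P := @IsFinite) s k inferInstance
  haveI : LocallyOfFinitePresentation (pullback.snd s k) :=
    MorphismProperty.pullback_snd (P := @LocallyOfFinitePresentation) s k inferInstance
  let B : Set ↥(pullback s k) := {p | ((pullback.snd s k).stalkMap p).hom.Flat}ᶜ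
  refine ⟨k '' (pullback.snd s k '' B), k.isClosedMap _ ((pullback.snd s k).isClosedMap _
    (Groth.Agent.H8Props.FlatLocus.isOpen_setOf_flat_stalkMap _).isClosed_compl),
    Set.image_subset_range _ _, fun x _ hx => ?_, fun p hp => ?_⟩
  · rintro ⟨y, ⟨p, hp, rfl⟩, rfl⟩
    have hf : IsField (U'.presheaf.stalk (pullback.snd s k p)) :=
      Groth.Agent.H12AlgSp.Residual.isField_stalk_of_reduced _ fun y hy =>
        k.isEmbedding.injective (hx _ ⟨y, rfl⟩ (hy.map k.continuous))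
    exact hp (by
      letI := hf.toField
      letI := ((pullback.snd s k).stalkMap p).hom.toAlgebra
      exact (inferInstance : Module.Flat (U'.presheaf.stalk (pullback.snd s k p)) ((pullback s k).presheaf.stalk p)))
  · by_contra h
    exact hp ⟨_, ⟨p, h, rfl⟩, rfl⟩

theorem mem_basicOpen_iff {X : Scheme.{u}} {U : X.Opens} (hU : IsAffineOpen U) (x : U) (r : Γ(X, U)) :
    (x : X) ∈ X.basicOpen r ↔ r ∉ (hU.primeIdealOf x).asIdeal := by
  conv_lhs => rw [← hU.fromSpec_primeIdealOf x]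
  exact SetLike.ext_iff.1 (hU.fromSpec_preimage_basicOpen r) _

theorem mem_zeroLocus_iff {X : Scheme.{u}} {U : X.Opens} (hU : IsAffineOpen U) (x : U) (I : Ideal Γ(X, U)) :
    (x : X) ∈ X.zeroLocus (U := U) (I : Set Γ(X, U)) ↔ I ≤ (hU.primeIdealOf x).asIdeal := by
  rw [Scheme.mem_zeroLocus_iff]
  exact ⟨fun h a ha => by_contra fun hn => h a ha ((mem_basicOpen_iff hU x a).2 hn),
    fun h a ha hx => (mem_basicOpen_iff hU x a).1 hx (h ha)⟩

variable [LocallyOfFinitePresentation G.s]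

/-- On an affine open over which the source is flat, staying inside a basic open is a basic open condition. -/
theorem exists_lift_norm {U' : Scheme.{u}} (k : U' ⟶ G.U) [IsClosedImmersion k] {C : Set G.U}
    (hflat : ∀ p : ↥(pullback G.s k), k (pullback.snd G.s k p) ∉ C → ((pullback.snd G.s k).stalkMap p).hom.Flat)
    {V : G.U.Opens} (f : Γ(G.U, V)) {M : G.U.Opens} (hM : IsAffineOpen M) (hMC : ∀ x ∈ M, x ∉ C)
    (hMV : ∀ x ∈ M, x ∈ Set.range k → orbit G x ⊆ V) :
    ∃ b : Γ(G.U, M), ∀ v : U', k v ∈ M → (k v ∈ G.U.basicOpen b ↔ orbit G (k v) ⊆ G.U.basicOpen f) := by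
  let q := pullback.snd G.s k
  let D' : U'.Opens := k ⁻¹ᵁ M
  have hD' : IsAffineOpen D' := hM.preimage k
  haveI : IsFinite q := MorphismProperty.pullback_snd (P := @IsFinite) G.s k inferInstance
  haveI : LocallyOfFinitePresentation q :=
    MorphismProperty.pullback_snd (P := @LocallyOfFinitePresentation) G.s k inferInstance
  haveI : Flat (q ∣_ D') := Flat.of_stalkMap (q ∣_ D') fun x =>
    (RingHom.Flat.respectsIso.arrow_mk_iso_iff (morphismRestrictStalkMap q D' x)).2 (hflat x.1 (hMC _ x.2))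
  haveI : IsAffine D'.toScheme := hD'
  haveI : IsAffine (q ⁻¹ᵁ D').toScheme := hD'.preimage q
  let τ : (q ⁻¹ᵁ D').toScheme ⟶ G.U := (q ⁻¹ᵁ D').ι ≫ pullback.fst G.s k ≫ G.t
  have hτ : ∀ r : (q ⁻¹ᵁ D').toScheme, τ r ∈ V := fun r => by
    refine hMV (k (q r.1)) r.2 ⟨_, rfl⟩ ⟨pullback.fst G.s k r.1, ?_, rfl⟩
    show G.s (pullback.fst G.s k r.1) = k (q r.1)
    rw [← Scheme.Hom.comp_apply, pullback.condition]
    rfl
  let g : Γ((q ⁻¹ᵁ D').toScheme, ⊤) := τ.appLE V ⊤ (fun r _ => hτ r) f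
  have hg : ∀ r, r ∈ (q ⁻¹ᵁ D').toScheme.basicOpen g ↔ τ r ∈ G.U.basicOpen f := fun r => by
    rw [show g = τ.appLE V ⊤ (fun r _ => hτ r) f from rfl, Scheme.basicOpen_appLE]
    exact ⟨fun h => h.2, fun h => ⟨trivial, h⟩⟩
  obtain ⟨a, ha⟩ := exists_basicOpen_forall_fibre (q ∣_ D') g
  haveI : IsAffine M.toScheme := hM
  haveI : IsClosedImmersion (k ∣_ M) := inferInstance
  obtain ⟨b₀, hb₀⟩ := (k ∣_ M).app_surjective ⊤ (isAffineOpen_top _) a
  refine ⟨M.topIso.hom b₀, fun v hv => ?_⟩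
  have h1 : (k ∣_ M) ⁻¹ᵁ M.toScheme.basicOpen b₀ = D'.toScheme.basicOpen a := by
    rw [← hb₀]; exact Scheme.preimage_basicOpen_top _ _
  have h2 : M.ι ''ᵁ M.toScheme.basicOpen b₀ = G.U.basicOpen (M.topIso.hom b₀) := by
    refine Eq.trans ?_ (Scheme.Opens.ι_image_basicOpen_topIso_inv (U := M) (M.topIso.hom b₀))
    rw [show M.topIso.inv (M.topIso.hom b₀) = b₀ from ConcreteCategory.congr_hom M.topIso.hom_inv_id b₀]
  have h3 : k v ∈ G.U.basicOpen (M.topIso.hom b₀) ↔ (⟨v, hv⟩ : D'.toScheme) ∈ D'.toScheme.basicOpen a := by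
    rw [← h1, ← h2]
    refine ⟨fun ⟨w, hw, e⟩ => ?_, fun h => ⟨_, h, morphismRestrict_base_coe k M ⟨v, hv⟩⟩⟩
    show (k ∣_ M) ⟨v, hv⟩ ∈ M.toScheme.basicOpen b₀
    rw [show (k ∣_ M) ⟨v, hv⟩ = w from Subtype.ext ((morphismRestrict_base_coe k M _).trans e.symm)]
    exact hw
  rw [h3, ha]
  constructor
  · rintro h _ ⟨r, hr, rfl⟩
    obtain ⟨p, hp₁, hp₂⟩ := Scheme.Pullback.exists_preimage_pullback (f := G.s) (g := k) r v hr
    have hp : p ∈ q ⁻¹ᵁ D' := by show q p ∈ D'; rw [show q p = v from hp₂]; exact hv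
    have := (hg ⟨p, hp⟩).1 (h ⟨p, hp⟩ (Subtype.ext ((morphismRestrict_base_coe q D' _).trans hp₂)))
    rwa [← hp₁]
  · intro h r hr
    refine (hg r).2 (h ⟨pullback.fst G.s k r.1, ?_, rfl⟩)
    show G.s (pullback.fst G.s k r.1) = k v
    rw [show v = q r.1 from (congrArg Subtype.val hr).symm.trans (morphismRestrict_base_coe q D' r),
      ← Scheme.Hom.comp_apply, pullback.condition]
    rfl

/-- A finite saturated set of points with local rings of dimension at most one in an affine open has an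
invariant affine neighbourhood. -/
theorem exists_invariant_affine_of_dim_le_one [IsFinite G.t] (O : Set G.U) (hO : O.Finite)
    (horb : ∀ x ∈ O, orbit G x ⊆ O) (hdim : ∀ x ∈ O, ∀ y z : G.U, z ⤳ y → y ⤳ x → y = x ∨ z = y)
    (V : G.U.Opens) (hV : IsAffineOpen V) (hOV : O ⊆ V) :
    ∃ W : G.U.Opens, IsAffineOpen W ∧ O ⊆ W ∧ G.s ⁻¹ᵁ W = G.t ⁻¹ᵁ W := by
  classical
  -- flatness over the reduction
  obtain ⟨k₀, hk₀⟩ : ∃ k₀ : G.U.nilradical.subscheme ⟶ G.U, k₀ = G.U.nilradical.subschemeι := ⟨_, rfl⟩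
  haveI : IsClosedImmersion k₀ := hk₀ ▸ inferInstance
  haveI : IsReduced G.U.nilradical.subscheme :=
    (Groth.Agent.H17.isReduced_subscheme_iff _).mpr fun W => Ideal.radical_isRadical _
  have hk₀r : ∀ x, x ∈ Set.range k₀ := fun x => by
    rw [hk₀, Scheme.IdealSheafData.range_subschemeι, Scheme.support_nilradical]; trivial
  obtain ⟨C₀, hC₀, -, hC₀max, hflat₀⟩ := exists_nonflat G.s k₀
  -- the saturation of the bad set
  let T : Closeds G.U := ⟨G.t '' (G.s ⁻¹' C₀), G.t.isClosedMap _ (hC₀.preimage G.s.continuous)⟩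
  have hCT : C₀ ⊆ T := fun x hx => ⟨G.e x, by
    show G.s (G.e x) ∈ C₀
    rwa [← Scheme.Hom.comp_apply, G.e_s], by rw [← Scheme.Hom.comp_apply, G.e_t]; rfl⟩
  have hTorb : ∀ x ∈ (T : Set G.U), orbit G x ⊆ T := by
    rintro _ ⟨r, hr, rfl⟩ y hy
    rw [orbit_eq] at hy
    obtain ⟨r', hr', rfl⟩ := hy
    exact ⟨r', by show G.s r' ∈ C₀; rw [show G.s r' = G.s r from hr']; exact hr, rfl⟩
  -- orbit points are maximal in the bad set
  have hTmax : ∀ x ∈ O, x ∈ (T : Set G.U) → ∀ y ∈ (T : Set G.U), y ⤳ x → y = x := by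
    intro x hx _ y hy hyx
    by_contra hne
    obtain ⟨r, hr, rfl⟩ := hy
    obtain ⟨r', hrr', hr'⟩ := G.t.isClosedMap.specializingMap (a := r) hyx
    obtain ⟨r'', hr''⟩ : ∃ r'', r'' = G.s r' := ⟨_, rfl⟩
    have hz' : G.s r' ∈ O := by
      have : G.s r' ∈ orbit G (G.t r') := by rw [orbit_eq]; exact self_mem_orbit G _
      rw [hr'] at this
      exact horb x hx this
    have hmaxy : ∀ z, z ⤳ G.t r → z = G.t r := fun z hz =>
      (hdim x hx _ z hz hyx).resolve_left hne
    rcases eq_or_ne (G.s r) (G.s r') with he | hne'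
    · have : r = r' := Groth.Agent.S7464.eq_of_specializes_fibre G.s hrr' he
      exact hne (by rw [this, hr'])
    · refine hC₀max (G.s r) (hk₀r _) (fun z _ hz => ?_) hr
      exact (hdim _ hz' (G.s r) z hz (hrr'.map G.s.continuous)).resolve_left hne'
  let kT := (Scheme.IdealSheafData.vanishingIdeal T).subschemeι
  haveI : IsReduced (Scheme.IdealSheafData.vanishingIdeal T).subscheme :=
    Groth.Agent.H17.isReduced_vanishingIdeal_subscheme T
  have hkT : Set.range kT = T := Groth.Agent.H17.range_vanishingIdeal_subschemeι T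
  obtain ⟨C₁, hC₁, hC₁T, hC₁max, hflat₁⟩ := exists_nonflat G.s kT
  -- first shrinking
  let WV : G.U.Opens := ⟨{v | orbit G v ⊆ V} ∩ C₁ᶜ, (isOpen_orbit_subset' G V.2).inter hC₁.isOpen_compl⟩
  have hOWV : O ⊆ WV := fun x hx => ⟨(horb x hx).trans hOV, fun hxC => hC₁max x (hC₁T hxC)
    (fun y hy hyx => hTmax x hx (hkT ▸ hC₁T hxC) y (hkT ▸ hy) hyx) hxC⟩
  obtain ⟨f₁, hf₁O, hf₁W⟩ := exists_basicOpen_finite hV hO hOWV (fun v hv => hv.1 (self_mem_orbit G v))
  let M : G.U.Opens := G.U.basicOpen f₁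
  have hM : IsAffineOpen M := hV.basicOpen f₁
  obtain ⟨b₁, hb₁⟩ := exists_lift_norm G kT hflat₁ f₁ hM (fun x hx => (hf₁W hx).2) (fun x hx _ => (hf₁W hx).1)
  -- move the lift away from the orbit points
  let P₀ : {x : G.U // x ∈ hO.toFinset} → Ideal Γ(G.U, M) := fun x =>
    (hM.primeIdealOf ⟨x.1, hf₁O (hO.mem_toFinset.1 x.2)⟩).asIdeal
  obtain ⟨y, hy, hyO⟩ := exists_add_avoiding ((Scheme.IdealSheafData.vanishingIdeal T).ideal ⟨M, hM⟩) b₁
    ((hO.toFinset.attach).image P₀)
    (fun P hP => by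
      obtain ⟨x, -, rfl⟩ := Finset.mem_image.1 hP
      exact PrimeSpectrum.isPrime _)
    (fun P hP => by
      obtain ⟨⟨x, hx⟩, -, rfl⟩ := Finset.mem_image.1 hP
      rw [hO.mem_toFinset] at hx
      by_cases hxT : x ∈ (T : Set G.U)
      · refine Or.inl ((mem_basicOpen_iff hM ⟨x, hf₁O hx⟩ b₁).1 ?_)
        obtain ⟨v, rfl⟩ : x ∈ Set.range kT := hkT.symm ▸ hxT
        exact (hb₁ v (hf₁O hx)).2 ((horb _ hx).trans hf₁O)
      · refine Or.inr fun hle => hxT ?_
        rw [← hkT, Scheme.IdealSheafData.range_subschemeι]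
        rw [SetLike.mem_coe, Scheme.IdealSheafData.mem_support_iff_of_mem (U := ⟨M, hM⟩) (hf₁O hx)]
        exact (mem_zeroLocus_iff hM ⟨x, hf₁O hx⟩ _).2 hle)
  let b := b₁ + y
  let D : G.U.Opens := G.U.basicOpen b
  have hD : IsAffineOpen D := hM.basicOpen b
  have hDM : D ≤ M := G.U.basicOpen_le b
  have hOD : O ⊆ D := fun x hx => (mem_basicOpen_iff hM ⟨x, hf₁O hx⟩ b).2
    (hyO _ (Finset.mem_image.2 ⟨⟨x, hO.mem_toFinset.2 hx⟩, Finset.mem_attach _ _, rfl⟩))
  have hbT : ∀ x ∈ M, x ∈ (T : Set G.U) → (x ∈ D ↔ orbit G x ⊆ M) := by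
    intro x hx hxT
    obtain ⟨v, rfl⟩ : x ∈ Set.range kT := hkT.symm ▸ hxT
    rw [← hb₁ v hx]
    have hy0 : y ∈ (hM.primeIdealOf ⟨kT v, hx⟩).asIdeal := by
      have h := (Scheme.IdealSheafData.mem_support_iff_of_mem (I := Scheme.IdealSheafData.vanishingIdeal T)
        (U := ⟨M, hM⟩) hx).1 (by
          rw [← SetLike.mem_coe, ← Scheme.IdealSheafData.range_subschemeι]; exact ⟨v, rfl⟩)
      exact (mem_zeroLocus_iff hM ⟨kT v, hx⟩ _).1 h hy
    rw [show kT v ∈ D ↔ _ from mem_basicOpen_iff hM ⟨kT v, hx⟩ b, mem_basicOpen_iff hM ⟨kT v, hx⟩ b₁]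
    exact not_congr ⟨fun h => by simpa [b] using Ideal.sub_mem _ h hy0, fun h => Ideal.add_mem _ h hy0⟩
  -- the invariant open
  let W : G.U.Opens := ⟨{v | orbit G v ⊆ D}, isOpen_orbit_subset' G D.2⟩
  have hWD : W ≤ D := fun v hv => hv (self_mem_orbit G v)
  have hTW : ∀ x ∈ D, x ∈ (T : Set G.U) → x ∈ W := by
    intro x hx hxT w hw
    have h := (hbT x (hDM hx) hxT).1 hx
    refine (hbT w (h hw) (hTorb x hxT hw)).2 ?_
    rwa [orbit_eq_of_mem G hw]
  obtain ⟨f, hf⟩ := hV.basicOpen_basicOpen_is_basicOpen f₁ b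
  refine ⟨W, ?_, fun x hx => (horb x hx).trans hOD, ?_⟩
  · have hcov : ∀ x : G.U, x ∈ D → ∃ c : Γ(G.U, D), x ∈ G.U.basicOpen c ∧
        IsAffineOpen (W ⊓ G.U.basicOpen c) := by
      intro x hx
      by_cases hxW : x ∈ W
      · obtain ⟨c, hc, hxc⟩ := hD.exists_basicOpen_le (V := W) ⟨x, hxW⟩ hx
        refine ⟨c, hxc, ?_⟩
        rw [inf_eq_right.2 hc]
        exact hD.basicOpen c
      · let N : G.U.Opens := ⟨(T : Set G.U)ᶜ, T.isClosed.isOpen_compl⟩
        obtain ⟨c, hc, hxc⟩ := hD.exists_basicOpen_le (V := N) ⟨x, fun hxT => hxW (hTW x hx hxT)⟩ hx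
        refine ⟨c, hxc, ?_⟩
        have hM' : IsAffineOpen (G.U.basicOpen c) := hD.basicOpen c
        obtain ⟨d, hd⟩ := exists_lift_norm G k₀ hflat₀ f hM'
          (fun w hw hwC => hc hw (hCT hwC))
          (fun w hw _ => (hf₁W (hDM (G.U.basicOpen_le c hw))).1)
        have : W ⊓ G.U.basicOpen c = G.U.basicOpen d := by
          ext w
          obtain ⟨v, rfl⟩ := hk₀r w
          constructor
          · rintro ⟨hw, hwc⟩
            exact (hd v hwc).2 (by rw [hf]; exact hw)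
          · intro hw
            have hwc := G.U.basicOpen_le d hw
            refine ⟨?_, hwc⟩
            have := (hd v hwc).1 hw
            rw [hf] at this
            exact this
        rw [this]
        exact hM'.basicOpen d
    choose c hxc hca using hcov
    refine isAffineOpen_of_isAffineOpen_basicOpen W
      ((fun c => G.U.presheaf.map (homOfLE hWD).op c) '' Set.range (fun x : D => c x.1 x.2)) ?_ ?_
    · rw [← Ideal.map_span (G.U.presheaf.map (homOfLE hWD).op).hom]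
      rw [show Ideal.span (Set.range fun x : D => c x.1 x.2) = ⊤ from ?_, Ideal.map_top]
      refine hD.self_le_iSup_basicOpen_iff.1 ?_
      exact fun x hx => Opens.mem_iSup.2 ⟨⟨_, ⟨⟨x, hx⟩, rfl⟩⟩, hxc x hx⟩
    · rintro _ ⟨_, ⟨x, rfl⟩, rfl⟩
      rw [Scheme.basicOpen_res]
      exact hca x.1 x.2
  · ext r
    show orbit G (G.s r) ⊆ D ↔ orbit G (G.t r) ⊆ D
    rw [orbit_eq]


/-- Let (U, R, s, t, c) be a groupoid scheme with s, t finite, U separated and locally Noetherian, and u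
a point such that every point u' in the orbit of u (u' = t(r) with s(r) = u) has local ring of
dimension at most 1. Then u lies in an R-invariant affine open of U. (A groupoid scheme carries U,
R, s, t, c, e, i over S with the groupoid axioms on T-points; 'finite locally free' is finite, flat
and locally of finite presentation; C ⊂ Γ(U) is the ring of functions a with s♯(a) = t♯(a) and M =
Spec C.) -/
theorem result (S : Scheme.{u}) (G : Grpd.GroupoidScheme S) [IsFinite G.s] [IsFinite G.t] [G.U.IsSeparated] [IsLocallyNoetherian G.U] (u : G.U) (hdim : ∀ r : G.R, G.s r = u → ringKrullDim (G.U.presheaf.stalk (G.t r)) ≤ 1) : ∃ W : G.U.Opens, IsAffineOpen W ∧ u ∈ W ∧ G.s ⁻¹ᵁ W = G.t ⁻¹ᵁ W := by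
  classical
  let O := Groth.Agent.H13Grpd.orbit G u
  have hO : O.Finite := (G.s.finite_preimage_singleton _).image _
  haveI : LocallyOfFinitePresentation G.s := inferInstance
  obtain ⟨V, hV, hOV⟩ := Groth.Agent.S0217.result G.U (fun U hU => by
      haveI : NoetherianSpace (U : Set G.U) := by
        haveI : CompactSpace U.toScheme := isCompact_iff_compactSpace.1 hU
        haveI : IsNoetherian U.toScheme := {}
        exact inferInstanceAs (NoetherianSpace U.toScheme)
      exact NoetherianSpace.finite_irreducibleComponents)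
    hO.toFinset (fun x hx => by
      rw [hO.mem_toFinset] at hx
      obtain ⟨r, hr, rfl⟩ := hx
      exact ⟨inferInstance, hdim r hr⟩)
  obtain ⟨W, hW, hOW, h⟩ := exists_invariant_affine_of_dim_le_one G O hO
    (fun x hx => (Groth.Agent.H13Grpd.orbit_eq_of_mem G hx).le)
    (fun x hx y z hzy hyx => by
      obtain ⟨r, hr, rfl⟩ := hx
      by_contra! hne
      have h1 : G.t r < y := lt_iff_le_not_ge.2 ⟨hyx, fun h => hne.1 (hyx.antisymm h).eq⟩
      have h2 : y < z := lt_iff_le_not_ge.2 ⟨hzy, fun h => hne.2 (hzy.antisymm h).eq⟩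
      have hd := (AlgebraicGeometry.ringKrullDim_stalk_eq_coheight (G.t r)).symm.trans_le (hdim r hr)
      have h3 : (2 : ℕ∞) ≤ Order.coheight (G.t r) :=
        le_trans (le_of_eq_of_le one_add_one_eq_two.symm
          (add_le_add (le_trans le_add_self (Order.coheight_add_one_le h2)) le_rfl))
          (Order.coheight_add_one_le h1)
      have h4 : Order.coheight (G.t r) ≤ (1 : ℕ∞) := by exact_mod_cast hd
      exact absurd (h3.trans h4) (by decide))
    V hV (fun x hx => hOV x (hO.mem_toFinset.2 hx))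
  exact ⟨W, hW, hOW (Groth.Agent.H13Grpd.self_mem_orbit G u), h⟩

end Groth.Agent.S1884
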