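import Groth.Statements.S18840
import Groth.Agent.H29RR.LineBound
import Groth.Agent.H29CurveVan.GloballyGen
import Groth.Agent.H22Alg.CurveAmple
import Groth.Agent.H19Grp.AlgClosedGeom
import Groth.Agent.H29CurveDual.SingularVanish
import Groth.Agent.H29RR.SubBundle
import Groth.Agent.H29CurveDual.CanonAux
import Groth.Agent.H28RR.LazMukEuler
import Groth.Agent.H16Derived.KFlat.SheafTensor

set_option autoImplicit false
universe u
open CategoryTheory CategoryTheory.Limits AlgebraicGeometry Polynomial
open VBCurve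

namespace Groth.Agent.S18840

/-- Let k be an algebraically closed field of characteristic zero, X a smooth projective integral curve
over k with an ample invertible sheaf L, N ≥ 0 and P a rational polynomial. There is an integer l,
depending only on X, L, N and P, such that for every vector bundle F of rank r ≥ 1 on X which is a
quotient of O_X^N with Hilbert polynomial P (with respect to L), F is slope-semistable if and only
if dim H^0(X, F'(l)) / r' ≤ dim H^0(X, F(l)) / r for every sub-bundle (finite locally free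
submodule) F' ⊂ F of rank r' ≥ 1; here G(l) = G ⊗ L^(⊗l). The source polarises X by a very ample
O_X(1); only the positivity of its degree enters, so an ample L is taken. -/
theorem result (k : Type u) [Field k] [IsAlgClosed k] [CharZero k]
    (X : Scheme.{u}) [X.Over (Spec (CommRingCat.of k))]
    [IsIntegral X] [IsProper (X ↘ Spec (CommRingCat.of k))] [Smooth (X ↘ Spec (CommRingCat.of k))]
    (hdim : topologicalKrullDim X = 1)
    (L : X.Modules) (hLi : PicF.IsInvertible L) (hL : CohB1.IsAmple L)
    (N : ℕ) (P : ℚ[X]) :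
    ∃ l : ℕ, ∀ (r : ℕ) (F : X.Modules) (q : FlatMod.freeMod X N ⟶ F),
      0 < r → FlatMod.IsFinLocFreeOfRank r F → Epi q → ShStab.IsHilbPoly k X L F P →
        (ModFun.IsSlopeSemistable k X F r ↔
          ∀ (F' : X.Modules) (r' : ℕ) (i : F' ⟶ F), Mono i → 0 < r' → FlatMod.IsFinLocFreeOfRank r' F' →
            (Module.finrank k (Coh.HH X (ShStab.twist X L F' l) 0) : ℚ) / (r' : ℚ) ≤
              (Module.finrank k (Coh.HH X (ShStab.twist X L F l) 0) : ℚ) / (r : ℚ)) := by
  haveI : GeometricallyConnected (X ↘ Spec (CommRingCat.of k)) :=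
    H19Grp.geometricallyConnected_of_connectedSpace _
  haveI := H29RR.isNoetherian_of_proper (k := k) (X := X)
  have hδ := H22Alg.CurveAmple.deg_pos_of_ample (k := k) hdim hL
  have h00 := H29CurveDual.finrank_h0_structure_smooth (k := k) (X := X)
  obtain ⟨g, hg⟩ : ∃ g, Curv2.genus k X = g := ⟨_, rfl⟩
  obtain ⟨e, he⟩ : ∃ e, Curv2.euler k X (Coh.structureModule X) = e := ⟨_, rfl⟩
  have heg : e = 1 - (g : ℤ) := by
    rw [← he, ← hg, H29RR.euler_eq_sub (k := k) hdim.le, h00, Curv2.genus]
    simp
  obtain ⟨C, hC⟩ : ∃ C : ℕ, |P.eval 0| ≤ (C : ℚ) := ⟨⌈|P.eval 0|⌉₊, Nat.le_ceil _⟩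
  refine ⟨C + N * (1 + g) + 3 * g + 2, fun r F q hr hF hq hP => ?_⟩
  set l := C + N * (1 + g) + 3 * g + 2 with hl
  have hA : PicF.IsInvertible (CohB1.tensorPow L l) := H11Ample.isInvertible_tensorPow hLi l
  have hAd := H22Alg.CurveAmple.deg_tensorPow (k := k) hdim.le hLi l
  have hrN : r ≤ N := by
    have hN := H28RR.LazMuk.rank_freeMod (X := X) N
    obtain ⟨a, ha⟩ := H25Par.exists_rank k hdim.le
      (H10Coh.isCoh_kernel q (H29RR.isCoh_of_rank hN) (H29RR.isCoh_of_rank hF).1)
      (H25Euler.isTorsionFree_of_mono (kernel.ι q) (H25Par.isTorsionFree_of_locFree (H29RR.locFree_of_rank hN)))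
    have := (H29RR.deg_add_of_shortExact (k := k) (S := ShortComplex.mk (kernel.ι q) q (kernel.condition q))
      { exact := ShortComplex.exact_kernel q } ha hN hF).1
    omega
  have hFl := H29RR.rank_tensor hF hA
  have hD := H29RR.deg_tensor_bundle (k := k) hdim.le hF hA
  rw [hAd] at hD
  have h10 : Subsingleton (Coh.HH X (CohB1.tensorMod F (CohB1.tensorPow L l)) 1) := by
    let T := (DCoh.tensorBi (X := X)).flip.obj (CohB1.tensorPow L l)
    have h1A : Subsingleton (Coh.HH X (T.obj (Coh.structureModule X)) 1) := by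
      haveI := H29CurveDual.subsingleton_h1_of_deg_ge (k := k) hdim.le h00 hA (by
        rw [hAd, hg]
        have : (l : ℤ) ≤ (l : ℤ) * Curv2.deg k X L 1 :=
          le_mul_of_one_le_right (Nat.cast_nonneg _) (by omega)
        have : (3 : ℤ) * g + 2 ≤ l := by
          rw [hl]; push_cast
          nlinarith [Int.natCast_nonneg N, Int.natCast_nonneg g, Int.natCast_nonneg C]
        omega)
      exact (H29RR.hhIso (k := k) (H10Coh.Tw.leftUnitIso (CohB1.tensorPow L l)) 1).toEquiv.subsingleton
    obtain ⟨ι, π, htot⟩ := H29CurveVan.exists_decomposition_free (X := X) N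
    have hT : Subsingleton (Coh.HH X (T.obj (FlatMod.freeMod X N)) 1) := by
      haveI : PreservesColimitsOfSize.{0, 0} T :=
        haveI := preservesColimitsOfSize_shrink.{0, u, 0, u} T
        inferInstance
      refine H29CurveVan.subsingleton_of_decomposition (k := k) (fun i => T.map (ι i)) (fun i => T.map (π i)) ?_ h1A
      simp only [← T.map_comp, ← T.map_sum, htot, T.map_id]
    haveI : Epi (T.map q) := by
      have hS : (ShortComplex.mk (kernel.ι q) q (kernel.condition q)).ShortExact :=
        { exact := ShortComplex.exact_kernel _ }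
      exact (H16Derived.KFlat.Stalk.isFlatObj_of_isFlat
        (H16Derived.KFlat.Stalk.isFlat_of_isFinLocFree (H28Pinch.isFinLocFree_of_isInvertible hA)) _ hS).epi_g
    exact (H29CurveVan.surjective_one_of_epi (k := k) hdim.le (T.map q)).subsingleton
  have hχ : (Module.finrank k (Coh.HH X (ShStab.twist X L F l) 0) : ℤ) =
      Curv2.deg k X (CohB1.tensorMod F (CohB1.tensorPow L l)) r + (r : ℤ) * e := by
    haveI := h10
    have h := H29RR.euler_eq_sub (k := k) hdim.le (CohB1.tensorMod F (CohB1.tensorPow L l))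
    rw [Module.finrank_zero_of_subsingleton (R := k) (M := Coh.HH X (CohB1.tensorMod F (CohB1.tensorPow L l)) 1),
      Nat.cast_zero, sub_zero] at h
    show (Module.finrank k (Coh.HH X (CohB1.tensorMod F (CohB1.tensorPow L l)) 0) : ℤ) = _
    simp only [Curv2.deg, he]
    rw [h]
    ring
  have hd0 : -(C : ℤ) ≤ Curv2.deg k X F r + (r : ℤ) * e := by
    have h := hP 0
    rw [Nat.cast_zero, show Curv2.euler k X (ShStab.twist X L F 0) = Curv2.euler k X F from
      H25Euler.euler_congr (k := k) (H10Coh.Tw.rightUnitIso F)] at h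
    have h2 : -(C : ℚ) ≤ (Curv2.euler k X F : ℚ) := by
      rw [h]
      exact (abs_le.1 hC).1
    have h3 : -(C : ℤ) ≤ Curv2.euler k X F := by exact_mod_cast h2
    simp only [Curv2.deg, he]
    linarith
  obtain ⟨d, hd⟩ : ∃ d, Curv2.deg k X F r = d := ⟨_, rfl⟩
  obtain ⟨δ, hδ'⟩ : ∃ δ, Curv2.deg k X L 1 = δ := ⟨_, rfl⟩
  rw [hd, hδ'] at hD
  rw [hd] at hd0
  rw [hδ'] at hδ
  rw [hD] at hχ
  have hrZ : (1 : ℤ) ≤ r := by exact_mod_cast hr
  have hrNZ : (r : ℤ) ≤ N := by exact_mod_cast hrN
  have hlZ : (l : ℤ) = C + N * (1 + g) + 3 * g + 2 := by rw [hl]; push_cast; rfl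
  have hrQ : (0 : ℚ) < r := by exact_mod_cast hr
  have hrl : (r : ℤ) * l ≤ (r : ℤ) * (l * δ) :=
    mul_le_mul_of_nonneg_left (le_mul_of_one_le_right (Nat.cast_nonneg _) (by omega)) (Nat.cast_nonneg _)
  constructor
  · intro hss G s i hi hs hG
    haveI := hi
    rw [div_le_div_iff₀ (by exact_mod_cast hs) hrQ]
    have hsr := H25Par.rank_le_of_mono (genericPoint X) hG hF i
    have hsrZ : (s : ℤ) ≤ r := by exact_mod_cast hsr
    have hsZ : (1 : ℤ) ≤ s := by exact_mod_cast hs
    have hss' := H29RR.semistable_tensor (k := k) hdim.le hF hss hA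
    haveI : Mono (((DCoh.tensorBi (X := X)).flip.obj (CohB1.tensorPow L l)).map i) := by
      have hS : (ShortComplex.mk i (cokernel.π i) (cokernel.condition i)).ShortExact :=
        { exact := ShortComplex.exact_cokernel _ }
      exact (H16Derived.KFlat.Stalk.isFlatObj_of_isFlat
        (H16Derived.KFlat.Stalk.isFlat_of_isFinLocFree (H28Pinch.isFinLocFree_of_isInvertible hA)) _ hS).mono_f
    let iA : CohB1.tensorMod G (CohB1.tensorPow L l) ⟶ CohB1.tensorMod F (CohB1.tensorPow L l) :=
      ((DCoh.tensorBi (X := X)).flip.obj (CohB1.tensorPow L l)).map i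
    haveI : Mono iA := ‹_›
    have hGl := H29RR.rank_tensor hG hA
    have hdl : (0 : ℤ) ≤ d + (r : ℤ) * (l * δ) := by
      rw [heg] at hd0
      nlinarith [le_mul_of_one_le_left (Int.natCast_nonneg C) hrZ,
        mul_nonneg (Int.natCast_nonneg r) (mul_nonneg (Int.natCast_nonneg N) (Int.natCast_nonneg g))]
    obtain ⟨Q, hQ⟩ := Int.eq_ofNat_of_zero_le (Int.ediv_nonneg hdl (Int.natCast_nonneg r))
    have hb : ∀ (M : X.Modules) (φ : M ⟶ CohB1.tensorMod G (CohB1.tensorPow L l)),
        PicF.IsInvertible M → φ ≠ 0 → Curv2.deg k X M 1 < ((Q + 1 : ℕ) : ℤ) := by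
      intro M φ hM hφ
      haveI := H29RR.mono_of_invertible (k := k) hdim.le hM hGl hφ
      have h := hss' M 1 (φ ≫ iA) (mono_comp _ _) one_pos (H29RR.rank_one_of_isInvertible hM)
      rw [hD, Nat.cast_one, mul_one] at h
      rw [Nat.cast_succ, ← hQ]
      exact Int.lt_add_one_iff.2 ((Int.le_ediv_iff_mul_le (by omega)).2 h)
    have hQr : (r : ℤ) * Q ≤ d + (r : ℤ) * (l * δ) := by
      rw [← hQ]; exact Int.mul_ediv_self_le (by omega)
    have key : (Module.finrank k (Coh.HH X (ShStab.twist X L G l) 0) : ℤ) * r ≤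
        (Module.finrank k (Coh.HH X (ShStab.twist X L F l) 0) : ℤ) * s := by
      rw [hχ]
      rcases H29RR.LineBound.h0_le_or (k := k) hdim (Q + 1) _ s hGl hb with h | h
      · obtain ⟨s', rfl⟩ : ∃ s', s = s' + 1 := ⟨s - 1, by omega⟩
        rw [Nat.add_sub_cancel, hg] at h
        have h' : (Module.finrank k (Coh.HH X (ShStab.twist X L G l) 0) : ℤ) ≤ s' * (Q + 1) + g := by
          exact_mod_cast h
        have h1 := mul_le_mul_of_nonneg_right h' (Int.natCast_nonneg r)
        have h2 := mul_le_mul_of_nonneg_left hQr (Int.natCast_nonneg s')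
        rw [heg] at hd0 ⊢
        push_cast at hsZ hsrZ ⊢
        have h4 : (s' : ℤ) * g ≤ N * g := mul_le_mul_of_nonneg_right (by linarith) (Int.natCast_nonneg g)
        nlinarith
      · have h' : (Module.finrank k (Coh.HH X (ShStab.twist X L G l) 0) : ℤ) =
            Curv2.deg k X (CohB1.tensorMod G (CohB1.tensorPow L l)) s + (s : ℤ) * e := by
          show (Module.finrank k (Coh.HH X (CohB1.tensorMod G (CohB1.tensorPow L l)) 0) : ℤ) = _
          simp only [Curv2.deg, he]
          rw [h]; ring
        have h2 := hss' _ s iA inferInstance hs hGl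
        rw [hD] at h2
        rw [h']
        nlinarith
    exact_mod_cast key
  · intro h G s i hi hs hG
    haveI := hi
    have h' := h G s i hi hs hG
    rw [div_le_div_iff₀ (by exact_mod_cast hs) hrQ] at h'
    have hz : (Module.finrank k (Coh.HH X (ShStab.twist X L G l) 0) : ℤ) * r ≤
        (Module.finrank k (Coh.HH X (ShStab.twist X L F l) 0) : ℤ) * s := by exact_mod_cast h'
    have hG' := H29RR.deg_tensor_bundle (k := k) hdim.le hG hA
    rw [hAd, hδ'] at hG'
    have hlow : Curv2.deg k X (CohB1.tensorMod G (CohB1.tensorPow L l)) s + (s : ℤ) * e ≤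
        (Module.finrank k (Coh.HH X (ShStab.twist X L G l) 0) : ℤ) := by
      have := H29RR.euler_eq_sub (k := k) hdim.le (CohB1.tensorMod G (CohB1.tensorPow L l))
      show _ ≤ (Module.finrank k (Coh.HH X (CohB1.tensorMod G (CohB1.tensorPow L l)) 0) : ℤ)
      simp only [Curv2.deg, he]
      linarith [Int.natCast_nonneg (Module.finrank k (Coh.HH X (CohB1.tensorMod G (CohB1.tensorPow L l)) 1))]
    rw [hG'] at hlow
    rw [hχ] at hz
    have := mul_le_mul_of_nonneg_right hlow (Int.natCast_nonneg r)
    rw [hd]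
    nlinarith

end Groth.Agent.S18840
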