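import Groth.Statements.S18842
import Groth.Agent.H26TF1.Basic
import Groth.Agent.LeadDev.Basic

set_option autoImplicit false
universe u
open CategoryTheory AlgebraicGeometry
open TFOne

namespace Groth.Agent.S18842

open CategoryTheory.Limits
open Groth.Agent.H06Mod Groth.Agent.H29Omega Groth.Agent.H17.KoszTwist Groth.Agent.H26TF1

/-- Let X be a proper reduced scheme of pure dimension one over a field k and M a torsion-free rank-1
sheaf on X. For closed subcurves Y and Z of X (non-empty unions of irreducible components) let W be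
the union of the irreducible components of X contained in Y ∩ Z (W may be empty). Writing M_T for
the torsion-free quotient of M on a closed subset T (pinned by its defining property; M_W = 0 when W
is empty), one has χ(M_{Y ∪ Z}) + χ(M_W) ≤ χ(M_Y) + χ(M_Z). (The source states this for curves that
are moreover geometrically reduced with geometrically integral components and notes the equivalent
form with β in place of χ; neither is needed for the inequality as stated.) -/
theorem result (k : Type u) [Field k] (X : Scheme.{u}) [X.Over (Spec (CommRingCat.of k))] [IsProper (X ↘ Spec (CommRingCat.of k))] [IsReduced X] (hpure : ∀ C ∈ irreducibleComponents (X : Type u), topologicalKrullDim C = 1) (M : X.Modules) (hM : TFOne.IsTF1 X M) (Y Z W : Set X) (hY : IsClosed Y) (hZ : IsClosed Z) (hYs : VecSt.IsSubcurve X Y) (hZs : VecSt.IsSubcurve X Z) (hW : W = ⋃₀ {C | C ∈ irreducibleComponents (X : Type u) ∧ C ⊆ Y ∩ Z}) (GY GZ GU GW : X.Modules) (πY : M ⟶ GY) (πZ : M ⟶ GZ) (πU : M ⟶ GU) (πW : M ⟶ GW) (hGY : TFOne.IsQuotOn X M Y GY πY) (hGZ : TFOne.IsQuotOn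 X M Z GZ πZ) (hGU : TFOne.IsQuotOn X M (Y ∪ Z) GU πU) (hGW : TFOne.IsQuotOn X M W GW πW) : Curv2.euler k X GU + Curv2.euler k X GW ≤ Curv2.euler k X GY + Curv2.euler k X GZ := by
    haveI : IsLocallyNoetherian X := LocallyOfFiniteType.isLocallyNoetherian (X ↘ Spec (CommRingCat.of k))
    haveI : CompactSpace X := QuasiCompact.compactSpace_of_compactSpace (X ↘ Spec (CommRingCat.of k))
    haveI : IsNoetherian X := ⟨⟩
    obtain ⟨eY, cY, tY, sY⟩ := hGY
    obtain ⟨eZ, cZ, tZ, sZ⟩ := hGZ
    obtain ⟨eU, cU, tU, sU⟩ := hGU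
    obtain ⟨eW, cW, tW, sW⟩ := hGW
    have hWsub : W ⊆ Y ∩ Z := hW ▸ Set.sUnion_subset fun C hC => hC.2
    obtain ⟨dY, hdY⟩ := exists_desc_of_support hM πU cY tY πY (by rw [sY, sU]; exact Set.subset_union_left)
    obtain ⟨dZ, hdZ⟩ := exists_desc_of_support hM πU cZ tZ πZ (by rw [sZ, sU]; exact Set.subset_union_right)
    obtain ⟨e, he⟩ := exists_desc_of_support hM πY cW tW πW
      (by rw [sY, sW]; exact hWsub.trans Set.inter_subset_left)
    obtain ⟨f, hf⟩ := exists_desc_of_support hM πZ cW tW πW
      (by rw [sZ, sW]; exact hWsub.trans Set.inter_subset_right)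
    let g : GY ⊞ GZ ⟶ GW := biprod.desc e (-f)
    haveI : Epi g := by
      haveI : Epi (πY ≫ e) := he.symm ▸ eW
      haveI : Epi e := epi_of_epi πY e
      haveI : Epi (biprod.inl ≫ g) := by rw [biprod.inl_desc]; infer_instance
      exact epi_of_epi biprod.inl g
    have hd0 : biprod.lift dY dZ ≫ g = 0 := by
      rw [← cancel_epi πU, biprod.lift_desc, Preadditive.comp_add, Preadditive.comp_neg, Preadditive.comp_neg,
        ← Category.assoc, ← Category.assoc, hdY, hdZ, he, hf, comp_zero]
      exact add_neg_cancel _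
    have hK : Coh.IsCoh (kernel g) := H10Coh.isCoh_kernel g (LeadDev.isCoh_biprod cY cZ) cW.1
    let d := kernel.lift g (biprod.lift dY dZ) hd0
    have hdfst : d ≫ kernel.ι g ≫ biprod.fst = dY := by simp [d]
    have hdsnd : d ≫ kernel.ι g ≫ biprod.snd = dZ := by simp [d]
    -- the pieces at the generic points
    have bY : ∀ η ∈ genericPoints X, η ∈ Y → Function.Bijective (stalkLin dY η) := fun η hη hy => by
      have h1 := bijective_at_generic hM hη πY (sY ▸ hy)
      have h2 := bijective_at_generic hM hη πU (sU ▸ Or.inl hy)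
      refine (Function.Bijective.of_comp_iff (stalkLin dY η) h2).1 ?_
      convert h1 using 1
      funext a; rw [Function.comp_apply, ← stalkLin_comp, hdY]
    have bZ : ∀ η ∈ genericPoints X, η ∈ Z → Function.Bijective (stalkLin dZ η) := fun η hη hz => by
      have h1 := bijective_at_generic hM hη πZ (sZ ▸ hz)
      have h2 := bijective_at_generic hM hη πU (sU ▸ Or.inr hz)
      refine (Function.Bijective.of_comp_iff (stalkLin dZ η) h2).1 ?_
      convert h1 using 1
      funext a; rw [Function.comp_apply, ← stalkLin_comp, hdZ]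
    haveI : Mono d := by
      refine Preadditive.mono_of_kernel_zero (eq_zero_of_generic cU tU _ fun η hη a => ?_)
      by_cases hy : η ∈ Y
      · refine (bY η hη hy).1 ?_
        rw [map_zero, ← stalkLin_comp, ← hdfst, ← Category.assoc (kernel.ι d), kernel.condition, zero_comp]
        exact stalkLin_zero _ _
      by_cases hz : η ∈ Z
      · refine (bZ η hη hz).1 ?_
        rw [map_zero, ← stalkLin_comp, ← hdsnd, ← Category.assoc (kernel.ι d), kernel.condition, zero_comp]
        exact stalkLin_zero _ _
      exact (subsingleton_of_notMem (G := GU) (by rw [sU]; exact fun h => h.elim hy hz)).elim _ _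
    have hC : Coh.IsCoh (cokernel d) := H10Coh.isCoh_cokernel d cU.1 hK
    have hgen : ∀ η ∈ genericPoints X, η ∉ CohB1.support (cokernel d) := fun η hη hs => by
      refine hs (subsingleton_of_forall_eq 0 fun q => ?_)
      obtain ⟨κ, rfl⟩ := surjective_stalk_of_epi (cokernel.π d) η q
      suffices hu : ∃ a, stalkLin d η a = κ by
        obtain ⟨a, rfl⟩ := hu
        show stalkLin (cokernel.π d) η (stalkLin d η a) = 0
        rw [← stalkLin_comp, cokernel.condition]
        exact stalkLin_zero _ _
      have joint : ∀ a, stalkLin dY η a = stalkLin (kernel.ι g ≫ biprod.fst) η κ →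
          stalkLin dZ η a = stalkLin (kernel.ι g ≫ biprod.snd) η κ → stalkLin d η a = κ := by
        intro a h1 h2
        refine stalk_injective_of_mono (kernel.ι g) η ?_
        rw [← hdfst, stalkLin_comp d, stalkLin_comp, stalkLin_comp] at h1
        rw [← hdsnd, stalkLin_comp d, stalkLin_comp, stalkLin_comp] at h2
        have split : ∀ x, stalkLin (𝟙 (GY ⊞ GZ)) η x = stalkLin biprod.inl η (stalkLin biprod.fst η x) +
            stalkLin biprod.inr η (stalkLin biprod.snd η x) := fun x => by
          rw [← biprod.total, H26TF1.stalkLin_add, stalkLin_comp, stalkLin_comp]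
        have idl : ∀ x, stalkLin (𝟙 (GY ⊞ GZ)) η x = x := fun x => by
          obtain ⟨U, hx, s, rfl⟩ := (GY ⊞ GZ).presheaf.exists_germ_eq x
          rw [stalkLin_germ]; rfl
        rw [← idl (stalkLin (kernel.ι g) η (stalkLin d η a)), ← idl (stalkLin (kernel.ι g) η κ), split, split,
          h1, h2]
      have hY0 : η ∉ Y → ∀ u v : GY.presheaf.stalk η, u = v := fun h u v =>
        (subsingleton_of_notMem (G := GY) (by rw [sY]; exact h)).elim u v
      have hZ0 : η ∉ Z → ∀ u v : GZ.presheaf.stalk η, u = v := fun h u v =>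
        (subsingleton_of_notMem (G := GZ) (by rw [sZ]; exact h)).elim u v
      by_cases hy : η ∈ Y
      · obtain ⟨a, ha⟩ := (bY η hη hy).2 (stalkLin (kernel.ι g ≫ biprod.fst) η κ)
        refine ⟨a, joint a ha ?_⟩
        by_cases hz : η ∈ Z
        · have hw : η ∈ W := (generic_mem_sUnion_iff hη hY hZ hW).2 ⟨hy, hz⟩
          have hfinj : Function.Injective (stalkLin f η) := by
            intro u v huv
            obtain ⟨u', rfl⟩ := (bijective_at_generic hM hη πZ (sZ ▸ hz)).2 u
            obtain ⟨v', rfl⟩ := (bijective_at_generic hM hη πZ (sZ ▸ hz)).2 v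
            rw [← stalkLin_comp, ← stalkLin_comp, hf] at huv
            rw [(bijective_at_generic hM hη πW (sW ▸ hw)).1 huv]
          refine hfinj ?_
          have hzero : stalkLin (kernel.ι g ≫ biprod.fst ≫ e - kernel.ι g ≫ biprod.snd ≫ f) η κ = 0 := by
            have : kernel.ι g ≫ biprod.fst ≫ e - kernel.ι g ≫ biprod.snd ≫ f = 0 := by
              rw [← kernel.condition g]
              simp [g, biprod.desc_eq, sub_eq_add_neg]
            rw [this]; exact stalkLin_zero _ _
          rw [H26TF1.stalkLin_sub, sub_eq_zero] at hzero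
          have hdd : dY ≫ e = dZ ≫ f := by
            rw [← cancel_epi πU, ← Category.assoc, ← Category.assoc, hdY, hdZ, he, hf]
          rw [← stalkLin_comp, ← stalkLin_comp, ← hdd, stalkLin_comp dY, ha, ← stalkLin_comp, Category.assoc,
            Category.assoc]
          exact hzero
        · exact hZ0 hz _ _
      by_cases hz : η ∈ Z
      · obtain ⟨a, ha⟩ := (bZ η hη hz).2 (stalkLin (kernel.ι g ≫ biprod.snd) η κ)
        exact ⟨a, joint a (hY0 hy _ _) ha⟩
      exact ⟨0, joint 0 (hY0 hy _ _) (hZ0 hz _ _)⟩
    obtain ⟨hfin, hcl⟩ := finite_of_isClosed_of_forall_notMem (dim_le_one hpure)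
      (H10Coh.isClosed_support _ hC.2) hgen
    have h1 := euler_le_of_finite_coker (k := k) cU hK d hC hfin hcl
    have h2 := H25Euler.euler_add (k := k) (S := ShortComplex.mk (kernel.ι g) g (kernel.condition g))
      { exact := ShortComplex.exact_kernel g } hK (LeadDev.isCoh_biprod cY cZ) cW
    have h3 := H25Euler.euler_add (k := k)
      (S := ShortComplex.mk (biprod.inl : GY ⟶ GY ⊞ GZ) biprod.snd biprod.inl_snd)
      (ShortComplex.Splitting.shortExact
        { r := biprod.fst, s := biprod.inr, f_r := biprod.inl_fst, s_g := biprod.inr_snd, id := biprod.total })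
      cY (LeadDev.isCoh_biprod cY cZ) cZ
    dsimp only at h2 h3
    omega

end Groth.Agent.S18842
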