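import Groth.Statements.S18843
import Groth.Agent.H26TF1.Basic

set_option autoImplicit false
universe u
open CategoryTheory AlgebraicGeometry
open TFOne

namespace Groth.Agent.S18843

open CategoryTheory.Limits
open Groth.Agent.H06Mod Groth.Agent.H29Omega Groth.Agent.H17.KoszTwist Groth.Agent.H26TF1

/-- Let X be a proper, geometrically reduced scheme of pure dimension one over a field k whose
irreducible components (with their reduced structure) are geometrically integral over k, and let M
be a torsion-free rank-1 sheaf on X. Let Y and Z be closed subcurves (non-empty unions of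
irreducible components) with Y ∪ Z = X which have an irreducible component in common. If the
torsion-free quotients M_Y and M_Z of M on Y and on Z (pinned by their defining property) are both
simple over k, then M is simple over k. -/
theorem result (k : Type u) [Field k] (X : Scheme.{u}) [X.Over (Spec (CommRingCat.of k))] [IsProper (X ↘ Spec (CommRingCat.of k))] [IsReduced X] [GeometricallyReduced (X ↘ Spec (CommRingCat.of k))] (hpure : ∀ C ∈ irreducibleComponents (X : Type u), topologicalKrullDim C = 1) (hgi : ∀ (C : Set X) (hC : C ∈ irreducibleComponents (X : Type u)), GeometricallyIntegral (VecSt.subschι X C (isClosed_of_mem_irreducibleComponents C hC) ≫ (X ↘ Spec (CommRingCat.of k)))) (M : X.Modules) (hM : TFOne.IsTF1 X M) (Y Z : Set X) (hY : IsClosed Y) (hZ : IsClosed Z) (hYs : VecSt.IsSubcurve X Y) (hZs : VecSt.IsSubcurve X Z) (hcov : Y ∪ Z = Set.univ) (hmeet : ∃ C ∈ irreducibleComponents (X : Type u), C ⊆ Y ∩ Z) (GY GZ : X.Modules) (πY : M ⟶ GY) (πZ : M ⟶ GZ) (hGY : TFOne.IsQuotOn X M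 Y GY πY) (hGZ : TFOne.IsQuotOn X M Z GZ πZ) (hsY : TFOne.IsSimple X k (X ↘ Spec (CommRingCat.of k)) GY) (hsZ : TFOne.IsSimple X k (X ↘ Spec (CommRingCat.of k)) GZ) : TFOne.IsSimple X k (X ↘ Spec (CommRingCat.of k)) M := by
    haveI : IsLocallyNoetherian X := LocallyOfFiniteType.isLocallyNoetherian (X ↘ Spec (CommRingCat.of k))
    obtain ⟨eY, cY, tY, sY⟩ := hGY
    obtain ⟨eZ, cZ, tZ, sZ⟩ := hGZ
    obtain ⟨C, hC, hCYZ⟩ := hmeet
    obtain ⟨η₀, hη₀⟩ := QuasiSober.sober hC.1 (isClosed_of_mem_irreducibleComponents C hC)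
    have hg₀ : η₀ ∈ genericPoints X := show closure {η₀} ∈ irreducibleComponents X by rwa [hη₀.def]
    have hmem : η₀ ∈ Y ∩ Z := hCYZ hη₀.mem
    refine ⟨fun h0 => ?_, fun φ => ?_⟩
    · haveI : Epi πY := eY
      refine hsY.1 ((IsZero.iff_id_eq_zero _).2 ?_)
      rw [← cancel_epi πY, comp_zero, Category.comp_id, h0.eq_of_src πY 0]
    obtain ⟨ψY, hψY⟩ := exists_desc_of_support hM πY cY tY (φ ≫ πY) subset_rfl
    obtain ⟨ψZ, hψZ⟩ := exists_desc_of_support hM πZ cZ tZ (φ ≫ πZ) subset_rfl
    obtain ⟨cy, rfl⟩ := hsY.2 ψY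
    obtain ⟨cz, rfl⟩ := hsZ.2 ψZ
    have key : ∀ η ∈ genericPoints X, (η ∈ Y → ∀ a, stalkLin (φ - Formal.smulMod k M cy) η a = 0) ∧
        (η ∈ Z → ∀ a, stalkLin (φ - Formal.smulMod k M cz) η a = 0) := fun η hη => by
      constructor
      · intro hy a
        refine (bijective_at_generic hM hη πY (sY ▸ hy)).1 ?_
        rw [map_zero, ← stalkLin_comp, Preadditive.sub_comp, ← hψY, smulMod_comp, H26TF1.stalkLin_sub]
        exact sub_self _
      · intro hz a
        refine (bijective_at_generic hM hη πZ (sZ ▸ hz)).1 ?_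
        rw [map_zero, ← stalkLin_comp, Preadditive.sub_comp, ← hψZ, smulMod_comp, H26TF1.stalkLin_sub]
        exact sub_self _
    obtain rfl : cy = cz := by
      haveI : Nontrivial (M.presheaf.stalk η₀) := by
        haveI := (mem_support_iff (G := GY) η₀).1 (sY ▸ hmem.1)
        exact (bijective_at_generic hM hg₀ πY (sY ▸ hmem.1)).2.nontrivial
      refine smulMod_eq_iff_of_nontrivial (k := k) (F := M) (x := η₀) fun v => ?_
      rw [show Formal.smulMod k M cy - Formal.smulMod k M cz =
        (φ - Formal.smulMod k M cz) - (φ - Formal.smulMod k M cy) by abel, H26TF1.stalkLin_sub,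
        (key η₀ hg₀).1 hmem.1 v, (key η₀ hg₀).2 hmem.2 v, sub_zero]
    refine ⟨cy, sub_eq_zero.1 (eq_zero_of_generic hM.1 hM.2.1 _ fun η hη a => ?_)⟩
    rcases (hcov ▸ Set.mem_univ η : η ∈ Y ∪ Z) with h | h
    exacts [(key η hη).1 h a, (key η hη).2 h a]

end Groth.Agent.S18843
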