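import Groth.Statements.S18844
import Groth.Agent.H26TF1.Sub
import Groth.Agent.H26TF1.AlgClosedIn
import Groth.Agent.H29RR.Indecomposable

set_option autoImplicit false
universe u
open CategoryTheory CategoryTheory.Limits AlgebraicGeometry
open TFOne

namespace Groth.Agent.S18844

open CategoryTheory.Limits TopologicalSpace Polynomial
open Groth.Agent.H06Mod Groth.Agent.H29Omega Groth.Agent.H17.KoszTwist Groth.Agent.H26TF1

theorem isTorsionFree_of_mono {X : Scheme.{u}} {A B : X.Modules} (m : A ⟶ B) [Mono m]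
    (h : TorSh.IsTorsionFree B) : TorSh.IsTorsionFree A := fun x =>
  haveI := h x
  Function.Injective.moduleIsTorsionFree (stalkLin m x) (stalk_injective_of_mono m x) fun r v => map_smul _ r v

theorem finite_genericPoints {X : Scheme.{u}} [IsNoetherian X] : (genericPoints X).Finite :=
  Set.Finite.of_finite_image (f := fun η => closure ({η} : Set X))
    (NoetherianSpace.finite_irreducibleComponents.subset (by rintro _ ⟨η, hη, rfl⟩; exact hη))
    fun a _ b _ (hab : closure ({a} : Set X) = closure {b}) =>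
      ((specializes_iff_closure_subset.2 hab.ge).antisymm (specializes_iff_closure_subset.2 hab.le)).eq

theorem support_eq_sUnion {X : Scheme.{u}} [IsNoetherian X] [AlgebraicGeometry.IsReduced X] {G : X.Modules}
    (hG : Coh.IsCoh G) (ht : TorSh.IsTorsionFree G) :
    CohB1.support G = ⋃₀ ((fun η => closure ({η} : Set X)) '' {η | η ∈ genericPoints X ∧ η ∈ CohB1.support G}) := by
  have hcl : IsClosed (CohB1.support G) := H10Coh.isClosed_support G hG.2
  refine Set.Subset.antisymm (fun x hx => ?_) ?_
  · by_contra hc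
    have hfin : {η | η ∈ genericPoints X ∧ η ∈ CohB1.support G}.Finite :=
      (finite_genericPoints (X := X)).subset fun η h => h.1
    have hclS : IsClosed (⋃₀ ((fun η => closure ({η} : Set X)) '' {η | η ∈ genericPoints X ∧ η ∈ CohB1.support G})) := by
      rw [Set.sUnion_eq_biUnion]
      exact (hfin.image _).isClosed_biUnion (f := id) (by rintro _ ⟨η, -, rfl⟩; exact isClosed_closure)
    let V : X.Opens := ⟨_, hclS.isOpen_compl⟩
    refine hx (subsingleton_of_forall_eq 0 fun v => ?_)
    obtain ⟨U, hU, s, rfl⟩ := G.presheaf.exists_germ_eq v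
    have hle : U ⊓ V ≤ U := inf_le_left
    have : G.presheaf.map (homOfLE hle).op s = 0 :=
      H25Tors.eq_zero_of_forall_generic G hG.1 ht (U ⊓ V) _ fun η hη hηV =>
        (subsingleton_of_notMem fun hs => hηV.2 (Set.mem_sUnion.2 ⟨closure {η}, ⟨η, ⟨hη, hs⟩, rfl⟩, subset_closure rfl⟩)).elim _ _
    rw [← TopCat.Presheaf.germ_res_apply G.presheaf (homOfLE hle) x ⟨hU, hc⟩ s, this, map_zero]
  · rintro x ⟨_, ⟨η, hη, rfl⟩, hx⟩
    exact closure_minimal (Set.singleton_subset_iff.2 hη.2) hcl hx

theorem isSubcurve_support {X : Scheme.{u}} [IsNoetherian X] [AlgebraicGeometry.IsReduced X] {G : X.Modules}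
    (hG : Coh.IsCoh G) (ht : TorSh.IsTorsionFree G) {η₀ : X} (h₀ : η₀ ∈ genericPoints X)
    (hs : η₀ ∈ CohB1.support G) : VecSt.IsSubcurve X (CohB1.support G) :=
  ⟨(fun η => closure ({η} : Set X)) '' {η | η ∈ genericPoints X ∧ η ∈ CohB1.support G},
    by rintro _ ⟨η, hη, rfl⟩; exact hη.1, ⟨_, η₀, ⟨h₀, hs⟩, rfl⟩, support_eq_sUnion hG ht⟩

theorem exists_generic_mem {X : Scheme.{u}} {Y : Set X} (h : VecSt.IsSubcurve X Y) :
    ∃ η ∈ genericPoints X, η ∈ Y := by
  obtain ⟨𝒮, h𝒮, ⟨C, hC⟩, rfl⟩ := h
  obtain ⟨η, hη⟩ := QuasiSober.sober (h𝒮 hC).1 (isClosed_of_mem_irreducibleComponents C (h𝒮 hC))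
  exact ⟨η, show closure {η} ∈ irreducibleComponents X by rw [hη.def]; exact h𝒮 hC,
    Set.mem_sUnion_of_mem hη.mem hC⟩

theorem exists_generic_notMem {X : Scheme.{u}} {Y : Set X} (hY : IsClosed Y) (h : Y ≠ Set.univ) :
    ∃ η ∈ genericPoints X, η ∉ Y := by
  by_contra hc
  simp only [not_exists, not_and, not_not] at hc
  refine h (Set.eq_univ_of_forall fun x => ?_)
  obtain ⟨η, hη, hηx⟩ := H8Props.exists_genericPoints_specializes x
  exact hηx.mem_closed hY (hc η hη)

theorem eq_const_at_generic_aux {k : Type u} [Field k] {X : Scheme.{u}} [X.Over (Spec (CommRingCat.of k))]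
    [AlgebraicGeometry.IsReduced X]
    (hgi : ∀ (C : Set X) (hC : C ∈ irreducibleComponents (X : Type u)), GeometricallyIntegral
      (VecSt.subschι X C (isClosed_of_mem_irreducibleComponents C hC) ≫ (X ↘ Spec (CommRingCat.of k))))
    {η : X} (hη : η ∈ genericPoints X) {C : Set X} (hC : C ∈ irreducibleComponents (X : Type u))
    (z : VecSt.subsch X C (isClosed_of_mem_irreducibleComponents C hC))
    (hz : z ∈ genericPoints (VecSt.subsch X C (isClosed_of_mem_irreducibleComponents C hC)))
    (hzη : VecSt.subschι X C (isClosed_of_mem_irreducibleComponents C hC) z = η) (a : X.presheaf.stalk η)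
    (ha : (scalStalk (k := k) η).IsIntegralElem a) : ∃ c : k, scalStalk (k := k) η c = a := by
  haveI := hgi _ hC
  let f := VecSt.subschι X _ (isClosed_of_mem_irreducibleComponents _ hC) ≫ (X ↘ Spec (CommRingCat.of k))
  haveI : AlgebraicGeometry.IsIntegral (VecSt.subsch X _ (isClosed_of_mem_irreducibleComponents _ hC)) :=
    GeometricallyIntegral.isIntegral_of_subsingleton f
  subst hzη
  have inj : Function.Injective ((VecSt.subschι X _ (isClosed_of_mem_irreducibleComponents _ hC)).stalkMap z).hom :=
    letI := (isField_generic hη).toField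
    RingHom.injective _
  have hcomm : ∀ c : k, ((VecSt.subschι X _ (isClosed_of_mem_irreducibleComponents _ hC)).stalkMap z).hom
      (scalStalk (k := k) _ c) =
        ((VecSt.subsch X _ (isClosed_of_mem_irreducibleComponents _ hC)).presheaf.germ ⊤ z trivial).hom
          (Coh.toGlobal f c) :=
    fun c => Scheme.Hom.germ_stalkMap_apply _ _ _ _ _
  obtain ⟨p, hp, hpa⟩ := ha
  obtain ⟨c, hc⟩ := eq_const_of_isIntegralElem f hz
    (((VecSt.subschι X _ (isClosed_of_mem_irreducibleComponents _ hC)).stalkMap z).hom a) ⟨p, hp, by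
      have h := congrArg ((VecSt.subschι X _ (isClosed_of_mem_irreducibleComponents _ hC)).stalkMap z).hom hpa
      rw [Polynomial.hom_eval₂, map_zero] at h
      have hh : ((VecSt.subschι X C (isClosed_of_mem_irreducibleComponents C hC)).stalkMap z).hom.comp
          (scalStalk (k := k) _) = ((VecSt.subsch X C _).presheaf.germ ⊤ z trivial).hom.comp (Coh.toGlobal f) :=
        RingHom.ext hcomm
      exact hh ▸ h⟩
  exact ⟨c, inj ((hcomm c).trans hc)⟩

theorem eq_const_at_generic {k : Type u} [Field k] {X : Scheme.{u}} [X.Over (Spec (CommRingCat.of k))]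
    [AlgebraicGeometry.IsReduced X]
    (hgi : ∀ (C : Set X) (hC : C ∈ irreducibleComponents (X : Type u)), GeometricallyIntegral
      (VecSt.subschι X C (isClosed_of_mem_irreducibleComponents C hC) ≫ (X ↘ Spec (CommRingCat.of k))))
    {η : X} (hη : η ∈ genericPoints X) (a : X.presheaf.stalk η)
    (ha : (scalStalk (k := k) η).IsIntegralElem a) : ∃ c : k, scalStalk (k := k) η c = a := by
  have hC : closure ({η} : Set X) ∈ irreducibleComponents (X : Type u) := hη
  obtain ⟨z, hz, hzη⟩ := exists_generic_preimage (hZ := isClosed_of_mem_irreducibleComponents _ hC) hη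
    (subset_closure rfl)
  exact eq_const_at_generic_aux hgi hη hC z hz hzη a ha

/-- The scalar by which an endomorphism acts at a generic point. -/
theorem exists_evalAlgHom {k : Type u} [Field k] {X : Scheme.{u}} [X.Over (Spec (CommRingCat.of k))] {I : X.Modules}
    (hI : TFOne.IsTF1 X I) {η : X} (hη : η ∈ genericPoints X) :
    letI := (scalStalk (k := k) η).toAlgebra
    ∃ ev : End I →ₐ[k] X.presheaf.stalk η, ∀ (φ : End I) v, stalkLin φ η v = ev φ • v := by
  letI := (scalStalk (k := k) η).toAlgebra
  obtain ⟨e⟩ := hI.2.2 η hη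
  have key : ∀ (φ : I ⟶ I) v, stalkLin φ η v = e (stalkLin φ η (e.symm 1)) • v := fun φ v => by
    refine e.injective ?_
    have hv : v = e v • e.symm 1 := by
      rw [← map_smul, smul_eq_mul, mul_one, LinearEquiv.symm_apply_apply]
    conv_lhs => rw [hv, map_smul, map_smul]
    rw [map_smul, smul_eq_mul, smul_eq_mul, mul_comm]
  refine ⟨{ toFun := fun φ => e (stalkLin φ η (e.symm 1))
            map_one' := (congrArg e (H24Quot.stalkLin_id _ _ _)).trans (e.apply_symm_apply 1)
            map_mul' := fun φ ψ => ?_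
            map_zero' := (congrArg e (stalkLin_zero _ _)).trans (map_zero e)
            map_add' := fun φ ψ => (congrArg e (H26TF1.stalkLin_add φ ψ η _)).trans (map_add e _ _)
            commutes' := fun c => ?_ }, key⟩
  · show e (stalkLin (ψ ≫ φ) η (e.symm 1)) = _
    rw [stalkLin_comp, key φ, map_smul, smul_eq_mul]
  · show e (stalkLin (Formal.smulMod k I c ≫ 𝟙 I) η (e.symm 1)) = _
    rw [Category.comp_id, stalkLin_smulMod, map_smul, LinearEquiv.apply_symm_apply, smul_eq_mul, mul_one]
    rfl

/-- Let X be a proper, geometrically reduced scheme of pure dimension one over a field k whose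
irreducible components (with their reduced structure) are geometrically integral over k, assume X is
non-empty, and take a torsion-free sheaf I of rank one on X. Then I is simple over k (every
endomorphism of I is multiplication by a scalar) exactly when I is not decomposable, that is, when
there do not exist closed proper subcurves Y and Z of X (non-empty unions of irreducible components,
each different from X) together with the torsion-free quotients I_Y, I_Z of I on them (pinned by
their defining property) such that the canonical map I ⟶ I_Y ⊞ I_Z is an isomorphism. -/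
theorem result (k : Type u) [Field k] (X : Scheme.{u}) [X.Over (Spec (CommRingCat.of k))] [IsProper (X ↘ Spec (CommRingCat.of k))] [IsReduced X] [GeometricallyReduced (X ↘ Spec (CommRingCat.of k))] (hpure : ∀ C ∈ irreducibleComponents (X : Type u), topologicalKrullDim C = 1) (hgi : ∀ (C : Set X) (hC : C ∈ irreducibleComponents (X : Type u)), GeometricallyIntegral (VecSt.subschι X C (isClosed_of_mem_irreducibleComponents C hC) ≫ (X ↘ Spec (CommRingCat.of k)))) [Nonempty X] (I : X.Modules) (hI : TFOne.IsTF1 X I) : TFOne.IsSimple X k (X ↘ Spec (CommRingCat.of k)) I ↔ ¬ ∃ (Y Z : Set X) (hY : IsClosed Y) (hZ : IsClosed Z) (GY GZ : X.Modules) (πY : I ⟶ GY) (πZ : I ⟶ GZ), VecSt.IsSubcurve X Y ∧ VecSt.IsSubcurve X Z ∧ Y ≠ Set.univ ∧ Z ≠ Set.univ ∧ TFOne.IsQuotOn X I Y GY πY ∧ TFOne.IsQuotOn X I Z GZ πZ ∧ IsIso (biprod.lift πY πZ) := by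
    haveI : IsLocallyNoetherian X := LocallyOfFiniteType.isLocallyNoetherian (X ↘ Spec (CommRingCat.of k))
    haveI : CompactSpace X := QuasiCompact.compactSpace_of_compactSpace (X ↘ Spec (CommRingCat.of k))
    haveI : IsNoetherian X := ⟨⟩
    have hnt : ∀ η ∈ genericPoints X, Nontrivial (I.presheaf.stalk η) := fun η hη => by
      obtain ⟨e⟩ := hI.2.2 η hη
      exact e.toEquiv.nontrivial
    constructor
    · rintro ⟨-, hend⟩ ⟨Y, Z, hY, -, GY, GZ, πY, πZ, hYs, -, hYu, -, ⟨eY, cY, tY, sY⟩, -, hiso⟩
      obtain ⟨c, hc⟩ := hend (πY ≫ biprod.inl ≫ inv (biprod.lift πY πZ))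
      have h1 : (πY ≫ biprod.inl ≫ inv (biprod.lift πY πZ)) ≫ πY = πY := by
        have h2 : inv (biprod.lift πY πZ) ≫ πY = biprod.fst := by
          rw [IsIso.inv_comp_eq, biprod.lift_fst]
        rw [Category.assoc, Category.assoc, h2, biprod.inl_fst, Category.comp_id]
      obtain ⟨η₁, hη₁, hn₁⟩ := exists_generic_notMem hY hYu
      obtain ⟨η₀, hη₀, hm₀⟩ := exists_generic_mem hYs
      haveI := hnt η₁ hη₁
      obtain rfl : c = 0 := smulMod_eq_iff_of_nontrivial (k := k) (F := I) (x := η₁) fun v => by
        haveI : Subsingleton (GY.presheaf.stalk η₁) := subsingleton_of_notMem (by rw [sY]; exact hn₁)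
        rw [H26TF1.stalkLin_sub, stalkLin_smulMod 0, map_zero, zero_smul, sub_zero]
        refine (congrArg (fun φ => stalkLin φ η₁ v) hc).symm.trans ?_
        rw [stalkLin_comp, Subsingleton.elim (stalkLin πY η₁ v) 0, map_zero]
      haveI := hnt η₀ hη₀
      obtain ⟨v, hv⟩ := exists_ne (0 : I.presheaf.stalk η₀)
      refine hv ((bijective_at_generic hI hη₀ πY (sY ▸ hm₀)).1 ?_)
      rw [map_zero]
      refine (congrArg (fun φ => stalkLin φ η₀ v) h1).symm.trans ?_
      rw [stalkLin_comp]
      refine (congrArg (stalkLin πY η₀) ((congrArg (fun φ => stalkLin φ η₀ v) hc).trans ?_)).trans (map_zero _)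
      exact (stalkLin_smulMod _ _ _).trans (by rw [map_zero, zero_smul])
    · intro hdec
      obtain ⟨η₀, hη₀, -⟩ := H8Props.exists_genericPoints_specializes (Classical.arbitrary X)
      refine ⟨fun h0 => ?_, fun φ => ?_⟩
      · haveI := hnt η₀ hη₀
        obtain ⟨v, hv⟩ := exists_ne (0 : I.presheaf.stalk η₀)
        refine hv ?_
        rw [← H24Quot.stalkLin_id I η₀ v, h0.eq_of_src (𝟙 I) 0]
        exact stalkLin_zero _ _
      haveI : Module.Finite k (End I) := H29RR.finite_hom (k := k) hI.1 hI.1
      have hev := fun η : genericPoints X => exists_evalAlgHom (k := k) hI η.2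
      choose ev hev using hev
      have hconst : ∀ η : genericPoints X, ∃ c : k, scalStalk (k := k) η.1 c = ev η φ := fun η => by
        refine eq_const_at_generic hgi η.2 _ ?_
        letI := (scalStalk (k := k) η.1).toAlgebra
        exact (Algebra.IsIntegral.isIntegral (R := k) (show End I from φ)).map (ev η)
      choose c hc using hconst
      have hinj : ∀ ψ ψ' : End I, (∀ η, ev η ψ = ev η ψ') → ψ = ψ' := fun ψ ψ' h => by
        refine sub_eq_zero.1 (eq_zero_of_generic hI.1 hI.2.1 _ fun η hη v => ?_)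
        rw [hev ⟨η, hη⟩ (ψ - ψ'), map_sub (ev ⟨η, hη⟩), h, sub_self, zero_smul]
      by_cases hall : ∀ η, c η = c ⟨η₀, hη₀⟩
      · refine ⟨c ⟨η₀, hη₀⟩, hinj φ _ fun η => ?_⟩
        rw [← hc η, hall]
        haveI := hnt η.1 η.2
        obtain ⟨e⟩ := hI.2.2 η.1 η.2
        have h := hev η (Formal.smulMod k I (c ⟨η₀, hη₀⟩)) (e.symm 1)
        have h2 := congrArg e ((stalkLin_smulMod (k := k) (F := I) (c ⟨η₀, hη₀⟩) η.1 (e.symm 1)).symm.trans h)
        rwa [map_smul, map_smul, e.apply_symm_apply, smul_eq_mul, smul_eq_mul, mul_one, mul_one] at h2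
      exfalso
      push_neg at hall
      obtain ⟨η₁, hη₁⟩ := hall
      classical
      haveI : Fintype (genericPoints X) := finite_genericPoints.fintype
      set c₀ := c ⟨η₀, hη₀⟩
      let p : k[X] := ∏ d ∈ (Finset.univ.image c).erase c₀, C (c₀ - d)⁻¹ * (Polynomial.X - C d)
      have hp : ∀ η, p.eval (c η) = if c η = c₀ then 1 else 0 := fun η => by
        rw [eval_prod]
        split_ifs with h
        · refine Finset.prod_eq_one fun d hd => ?_
          rw [h, eval_mul, eval_C, eval_sub, eval_X, eval_C,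
            inv_mul_cancel₀ (sub_ne_zero.2 (Finset.ne_of_mem_erase hd).symm)]
        · refine Finset.prod_eq_zero
            (Finset.mem_erase.2 ⟨h, Finset.mem_image_of_mem c (Finset.mem_univ η)⟩) ?_
          simp
      obtain ⟨e, he⟩ : ∃ e : I ⟶ I, e = (aeval (show End I from φ) p : End I) := ⟨_, rfl⟩
      have heval : ∀ η, ev η e = if c η = c₀ then 1 else 0 := fun η => by
        letI := (scalStalk (k := k) η.1).toAlgebra
        rw [he, ← aeval_algHom_apply, ← hc η, show scalStalk (k := k) η.1 (c η) =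
          algebraMap k (X.presheaf.stalk η.1) (c η) from rfl, aeval_algebraMap_apply, coe_aeval_eq_eval, hp]
        split_ifs <;> simp
      have hee : e ≫ e = e := hinj ((show End I from e) * (show End I from e)) (show End I from e) fun η => by
        rw [map_mul, heval]; split_ifs <;> simp
      have h1e : e ≫ (𝟙 I - e) = 0 := by rw [Preadditive.comp_sub, Category.comp_id, hee, sub_self]
      have h2e : (𝟙 I - e) ≫ e = 0 := by rw [Preadditive.sub_comp, Category.id_comp, hee, sub_self]
      let πY : I ⟶ kernel (𝟙 I - e) := kernel.lift _ e h1e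
      let πZ : I ⟶ kernel e := kernel.lift _ _ h2e
      have hK₁ : kernel.ι (𝟙 I - e) ≫ πY = 𝟙 _ := by
        rw [← cancel_mono (kernel.ι (𝟙 I - e)), Category.assoc, kernel.lift_ι, Category.id_comp]
        have := kernel.condition (𝟙 I - e)
        rw [Preadditive.comp_sub, Category.comp_id, sub_eq_zero] at this
        exact this.symm
      have hK₂ : kernel.ι e ≫ πZ = 𝟙 _ := by
        rw [← cancel_mono (kernel.ι e), Category.assoc, kernel.lift_ι, Preadditive.comp_sub, kernel.condition,
          Category.comp_id, sub_zero, Category.id_comp]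
      have hK₁₂ : kernel.ι (𝟙 I - e) ≫ πZ = 0 := by
        rw [← cancel_mono (kernel.ι e), Category.assoc, kernel.lift_ι, kernel.condition, Limits.zero_comp]
      have hK₂₁ : kernel.ι e ≫ πY = 0 := by
        rw [← cancel_mono (kernel.ι (𝟙 I - e)), Category.assoc, kernel.lift_ι, kernel.condition, Limits.zero_comp]
      have hiso : IsIso (biprod.lift πY πZ) := ⟨biprod.desc (kernel.ι _) (kernel.ι _),
        by rw [biprod.lift_desc, kernel.lift_ι, kernel.lift_ι]; abel,
        by refine biprod.hom_ext' _ _ ?_ ?_ <;> refine biprod.hom_ext _ _ ?_ ?_ <;> simp [hK₁, hK₂, hK₁₂, hK₂₁]⟩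
      haveI : Epi (kernel.ι (𝟙 I - e) ≫ πY) := by rw [hK₁]; infer_instance
      haveI : Epi (kernel.ι e ≫ πZ) := by rw [hK₂]; infer_instance
      haveI : Epi πY := epi_of_epi (kernel.ι (𝟙 I - e)) πY
      haveI : Epi πZ := epi_of_epi (kernel.ι e) πZ
      have cY : Coh.IsCoh (kernel (𝟙 I - e)) := H10Coh.isCoh_kernel _ hI.1 hI.1.1
      have cZ : Coh.IsCoh (kernel e) := H10Coh.isCoh_kernel _ hI.1 hI.1.1
      have tY : TorSh.IsTorsionFree (kernel (𝟙 I - e)) := isTorsionFree_of_mono (kernel.ι _) hI.2.1
      have tZ : TorSh.IsTorsionFree (kernel e) := isTorsionFree_of_mono (kernel.ι _) hI.2.1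
      have sY : ∀ η : genericPoints X, η.1 ∈ CohB1.support (kernel (𝟙 I - e)) ↔ c η = c₀ := fun η => by
        haveI := hnt η.1 η.2
        rw [H26TF1.mem_support_iff]
        refine ⟨fun _ => ?_, fun h => ?_⟩
        · by_contra h
          obtain ⟨x, hx⟩ := exists_ne (0 : (kernel (𝟙 I - e)).presheaf.stalk η.1)
          refine hx (stalk_injective_of_mono (kernel.ι _) η.1 ?_)
          rw [map_zero]
          have hcond : stalkLin (kernel.ι (𝟙 I - e) ≫ (𝟙 I - e)) η.1 x = 0 := by
            rw [kernel.condition]; exact stalkLin_zero _ _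
          rw [stalkLin_comp, H26TF1.stalkLin_sub, H24Quot.stalkLin_id, hev η e, heval, if_neg h, zero_smul,
            sub_zero] at hcond
          exact hcond
        · obtain ⟨v, hv⟩ := exists_ne (0 : I.presheaf.stalk η.1)
          refine nontrivial_of_ne (stalkLin πY η.1 v) 0 fun h0 => hv ?_
          have := congrArg (stalkLin (kernel.ι (𝟙 I - e)) η.1) h0
          rw [map_zero, ← stalkLin_comp, kernel.lift_ι, hev η e, heval, if_pos h, one_smul] at this
          exact this
      have sZ : ∀ η : genericPoints X, η.1 ∈ CohB1.support (kernel e) ↔ c η ≠ c₀ := fun η => by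
        haveI := hnt η.1 η.2
        rw [H26TF1.mem_support_iff]
        refine ⟨fun _ h => ?_, fun h => ?_⟩
        · obtain ⟨x, hx⟩ := exists_ne (0 : (kernel e).presheaf.stalk η.1)
          refine hx (stalk_injective_of_mono (kernel.ι _) η.1 ?_)
          rw [map_zero]
          have hcond : stalkLin (kernel.ι e ≫ e) η.1 x = 0 := by
            rw [kernel.condition]; exact stalkLin_zero _ _
          rw [stalkLin_comp, hev η e, heval, if_pos h, one_smul] at hcond
          exact hcond
        · obtain ⟨v, hv⟩ := exists_ne (0 : I.presheaf.stalk η.1)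
          refine nontrivial_of_ne (stalkLin πZ η.1 v) 0 fun h0 => hv ?_
          have := congrArg (stalkLin (kernel.ι e) η.1) h0
          rw [map_zero, ← stalkLin_comp, kernel.lift_ι, H26TF1.stalkLin_sub, H24Quot.stalkLin_id, hev η e,
            heval, if_neg h, zero_smul, sub_zero] at this
          exact this
      refine hdec ⟨_, _, H10Coh.isClosed_support _ cY.2, H10Coh.isClosed_support _ cZ.2, _, _, πY, πZ,
        isSubcurve_support cY tY hη₀ ((sY ⟨η₀, hη₀⟩).2 rfl),
        isSubcurve_support cZ tZ η₁.2 ((sZ η₁).2 hη₁), fun h => ?_, fun h => ?_,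
        ⟨inferInstance, cY, tY, rfl⟩, ⟨inferInstance, cZ, tZ, rfl⟩, hiso⟩
      · exact hη₁ ((sY η₁).1 (h ▸ Set.mem_univ _))
      · exact (sZ ⟨η₀, hη₀⟩).1 (h ▸ Set.mem_univ _) rfl

end Groth.Agent.S18844
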