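import Groth.Statements.S18845
import Groth.Agent.H26TF1.Sub

set_option autoImplicit false
universe u
open CategoryTheory CategoryTheory.Limits AlgebraicGeometry
open TFOne

namespace Groth.Agent.S18845

open CategoryTheory.Limits
open Groth.Agent.H06Mod Groth.Agent.H29Omega Groth.Agent.H17.KoszTwist Groth.Agent.H26TF1

/-- Let X be a proper, geometrically reduced scheme of pure dimension one over a field k whose
irreducible components (with their reduced structure) are geometrically integral over k, let Y and Z
be closed subcurves (non-empty unions of irreducible components) with Y ∪ Z = X, and let M be a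
torsion-free sheaf of rank one on X. Suppose M sits in a short exact sequence 0 ⟶ i_{Y*} I ⟶ M ⟶
i_{Z*} J ⟶ 0 of modules on X, where I is a simple torsion-free sheaf of rank one on the reduced
closed subscheme Y, J is a simple torsion-free sheaf of rank one on the reduced closed subscheme Z,
and i_{Y*}, i_{Z*} are the direct images. Then M is simple over k exactly when the sequence does not
split (the epimorphism M ⟶ i_{Z*} J has no section). -/
theorem result (k : Type u) [Field k] (X : Scheme.{u}) [X.Over (Spec (CommRingCat.of k))] [IsProper (X ↘ Spec (CommRingCat.of k))] [IsReduced X] [GeometricallyReduced (X ↘ Spec (CommRingCat.of k))] (hpure : ∀ C ∈ irreducibleComponents (X : Type u), topologicalKrullDim C = 1) (hgi : ∀ (C : Set X) (hC : C ∈ irreducibleComponents (X : Type u)), GeometricallyIntegral (VecSt.subschι X C (isClosed_of_mem_irreducibleComponents C hC) ≫ (X ↘ Spec (CommRingCat.of k)))) (Y Z : Set X) (hY : IsClosed Y) (hZ : IsClosed Z) (hYs : VecSt.IsSubcurve X Y) (hZs : VecSt.IsSubcurve X Z) (hcov : Y ∪ Z =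 Set.univ) (M : X.Modules) (hM : TFOne.IsTF1 X M) (I : (VecSt.subsch X Y hY).Modules) (hI : TFOne.IsTF1 (VecSt.subsch X Y hY) I) (hIs : TFOne.IsSimple (VecSt.subsch X Y hY) k (VecSt.subschι X Y hY ≫ (X ↘ Spec (CommRingCat.of k))) I) (J : (VecSt.subsch X Z hZ).Modules) (hJ : TFOne.IsTF1 (VecSt.subsch X Z hZ) J) (hJs : TFOne.IsSimple (VecSt.subsch X Z hZ) k (VecSt.subschι X Z hZ ≫ (X ↘ Spec (CommRingCat.of k))) J) (a : (Coh.push (VecSt.subschι X Y hY)).obj I ⟶ M) (b : M ⟶ (Coh.push (VecSt.subschι X Z hZ)).obj J) (w : a ≫ b = 0) (hex : (ShortComplex.mk a b w).ShortExact) : TFOne.IsSimple X k (X ↘ Spec (CommRingCat.of k)) M ↔ ¬ IsSplitEpi b := by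
    haveI : IsLocallyNoetherian X := LocallyOfFiniteType.isLocallyNoetherian (X ↘ Spec (CommRingCat.of k))
    haveI : Mono a := hex.mono_f
    haveI : Epi b := hex.epi_g
    have hzy : ∀ η ∈ genericPoints X, η ∈ Y → η ∉ Z := fun η hη hy hz => by
      haveI := nontrivial_push hI hη hy
      haveI := nontrivial_push hJ hη hz
      obtain ⟨p, hp⟩ := exists_ne (0 : ((Coh.push (VecSt.subschι X Y hY)).obj I).presheaf.stalk η)
      obtain ⟨q, hq⟩ := exists_ne (0 : ((Coh.push (VecSt.subschι X Z hZ)).obj J).presheaf.stalk η)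
      obtain ⟨m, rfl⟩ := surjective_stalk_of_epi b η q
      refine hp (stalk_injective_of_mono a η ?_)
      rw [map_zero]
      refine injective_at_generic hM hη b ⟨m, hq⟩ ?_
      rw [map_zero, ← stalkLin_comp, w]
      exact stalkLin_zero _ _
    constructor
    · rintro ⟨-, hend⟩ ⟨⟨s, hs⟩⟩
      obtain ⟨c, hc⟩ := hend (b ≫ s)
      have h1 : a ≫ Formal.smulMod k M c = 0 := by
        refine (congrArg (a ≫ ·) hc).symm.trans ?_
        rw [← Category.assoc, w, zero_comp]
      by_cases h0 : c = 0
      · subst h0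
        refine not_isZero_push hJs.1 ((IsZero.iff_id_eq_zero _).2 ?_)
        rw [← hs, ← cancel_epi b, comp_zero, ← Category.assoc]
        refine (congrArg (· ≫ b) hc).trans ?_
        exact (congrArg (· ≫ b) smulMod_zero).trans zero_comp
      · refine not_isZero_push hIs.1 ((IsZero.iff_id_eq_zero _).2 ?_)
        rw [← cancel_mono a, zero_comp]
        refine (congrArg (· ≫ a) (smulMod_inv_comp h0)).symm.trans ?_
        rw [Category.assoc, smulMod_comp a c, h1, comp_zero]
    · intro hns
      refine ⟨fun h0 => not_isZero_push hIs.1 ((IsZero.iff_id_eq_zero _).2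
        (by rw [← cancel_mono a]; exact h0.eq_of_tgt _ _)), fun φ => ?_⟩
      have h2 : (a ≫ φ) ≫ b = 0 := eq_zero_push hZs hJ _ fun η hη hz p => by
        haveI : Subsingleton (((Coh.push (VecSt.subschι X Y hY)).obj I).presheaf.stalk η) :=
          subsingleton_push fun hy => hzy η hη hy hz
        rw [Subsingleton.elim p 0, map_zero]
      obtain ⟨θ, hθ⟩ := exists_push_map (hex.exact.lift (a ≫ φ) h2)
      obtain ⟨cI, rfl⟩ := hIs.2 θ
      have h3 : hex.exact.lift (a ≫ φ) h2 ≫ a = a ≫ φ := hex.exact.lift_f _ _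
      rw [← hθ, push_map_smulMod, smulMod_comp] at h3
      have h4 : a ≫ (φ - Formal.smulMod k M cI) = 0 := by
        rw [Preadditive.comp_sub, sub_eq_zero, h3]
      obtain ⟨θ', hθ'⟩ := exists_push_map (hex.exact.desc (φ - Formal.smulMod k M cI) h4 ≫ b)
      obtain ⟨cd, rfl⟩ := hJs.2 θ'
      rw [push_map_smulMod] at hθ'
      by_cases h0 : cd = 0
      · subst h0
        rw [smulMod_zero] at hθ'
        have h5 : hex.exact.lift (hex.exact.desc (φ - Formal.smulMod k M cI) h4) hθ'.symm = 0 :=
          eq_zero_push hYs hI _ fun η hη hy p => by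
            haveI : Subsingleton (((Coh.push (VecSt.subschι X Z hZ)).obj J).presheaf.stalk η) :=
              subsingleton_push (hzy η hη hy)
            rw [Subsingleton.elim p 0, map_zero]
        refine ⟨cI, sub_eq_zero.1 ?_⟩
        have h7 : hex.exact.lift _ hθ'.symm ≫ a = hex.exact.desc (φ - Formal.smulMod k M cI) h4 := hex.exact.lift_f _ _
        rw [h5, zero_comp] at h7
        have h8 : b ≫ hex.exact.desc (φ - Formal.smulMod k M cI) h4 = φ - Formal.smulMod k M cI := hex.exact.g_desc _ _
        rw [← h7, comp_zero] at h8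
        exact h8.symm
      · exact absurd ⟨⟨Formal.smulMod k _ cd⁻¹ ≫ hex.exact.desc (φ - Formal.smulMod k M cI) h4, by
          rw [Category.assoc, ← hθ', smulMod_inv_comp h0]⟩⟩ hns

end Groth.Agent.S18845
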