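import Groth.Statements.S18846
import Groth.Agent.H26TF1.Fibre

set_option autoImplicit false
universe u
open CategoryTheory CategoryTheory.Limits AlgebraicGeometry
open TFOne

namespace Groth.Agent.S18846

open CategoryTheory.Limits
open Groth.Agent.H06Mod Groth.Agent.H29Omega Groth.Agent.H17.KoszTwist Groth.Agent.H26TF1

/-- Let R be a discrete valuation ring with residue field κ, f : X ⟶ Spec R flat and proper, and X_s its
special fibre, assumed reduced of pure dimension one with geometrically integral irreducible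
components over κ. Let I be a coherent R-flat module on X whose restriction I(s) to X_s is
torsion-free rank-1, E a locally free module of rank r > 0 on X with restriction E(s), and d an
integer with χ(I(s)) = d and deg E(s) = -r·d. For a closed subset T of X_s write I(s)_T for the
torsion-free quotient of I(s) on T (pinned by its defining property) and β(T) := r·χ(I(s)_T) +
deg(E(s)|_T) (the source's β cleared of the denominator r). Let Y be a closed subcurve of X_s (a
non-empty union of irreducible components), and let I^Y be the kernel of the composite I ⟶ i_* I(s)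
⟶ i_* I(s)_Y, with restriction I^Y(s) to X_s and quotients I^Y(s)_T and numbers β^Y(T) :=
r·χ(I^Y(s)_T) + deg(E(s)|_T) defined likewise. Then for every closed subcurve Z of X_s, with W the
union of the irreducible components of X_s contained in Y ∩ Z (possibly empty, in which case I(s)_W
= 0 and β(W) = 0), one has β^Y(Z) + β(Y) ≥ β(W) + β(Y ∪ Z). (The source takes f projective and also
characterises the case of equality; only the inequality is stated here.) -/
theorem result (R : Type u) [CommRing R] [IsDomain R] [IsDiscreteValuationRing R] (X : Scheme.{u}) (f : X ⟶ Spec (CommRingCat.of R)) [Flat f] [IsProper f] (Xs : Scheme.{u}) [Xs.Over (Spec (CommRingCat.of (IsLocalRing.ResidueField R)))] (i : Xs ⟶ X) (hsq : IsPullback i (Xs ↘ Spec (CommRingCat.of (IsLocalRing.ResidueField R))) f (Spec.map (CommRingCat.ofHom (IsLocalRing.residue R)))) [IsReduced Xs] (hpure : ∀ C ∈ irreducibleComponents (Xs : Type u), topologicalKrullDim C = 1) (hgi : ∀ (C : Set Xs) (hC : C ∈ irreducibleComponents (Xs : Type u)), GeometricallyIntegral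 (VecSt.subschι Xs C (isClosed_of_mem_irreducibleComponents C hC) ≫ (Xs ↘ Spec (CommRingCat.of (IsLocalRing.ResidueField R))))) (I : X.Modules) (hIc : Coh.IsCoh I) (hIf : FlatMod.IsFlatOver f I) (hIs : TFOne.IsTF1 Xs ((Scheme.Modules.pullback i).obj I)) (E : X.Modules) (r : ℕ) (hr : 0 < r) (hE : FlatMod.IsFinLocFreeOfRank r E) (d : ℤ) (hχ : Curv2.euler (IsLocalRing.ResidueField R) Xs ((Scheme.Modules.pullback i).obj I) = d) (hEd : Curv2.deg (IsLocalRing.ResidueField R) Xs ((Scheme.Modules.pullback i).obj E) r = -(r : ℤ) * d) (Y : Set Xs) (hY : IsClosed Y) (hYs : VecSt.IsSubcurve Xs Y) (GY : Xs.Modules) (πY : ((Scheme.Modules.pullback i).obj I) ⟶ GY) (hGY : TFOne.IsQuotOn Xs ((Scheme.Modules.pullback i).obj I) Y GY πY) (IY : X.Modules) (hIY : IY = kernel ((Scheme.Modules.pullbackPushforwardAdjunction i).unit.app I ≫ (Scheme.Modules.pushforward i).map πY)) (Z W : Set Xs) (hZ : IsClosed Z) (hZs : VecSt.IsSubcurve Xs Z) (hW : W = ⋃₀ {C | C ∈ irreducibleComponents (Xs : Type u) ∧ C ⊆ Y ∩ Z}) (hWc : IsClosed W)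 (GZ1 : Xs.Modules) (πZ1 : ((Scheme.Modules.pullback i).obj IY) ⟶ GZ1) (hGZ1 : TFOne.IsQuotOn Xs ((Scheme.Modules.pullback i).obj IY) Z GZ1 πZ1) (GW GU : Xs.Modules) (πW : ((Scheme.Modules.pullback i).obj I) ⟶ GW) (πU : ((Scheme.Modules.pullback i).obj I) ⟶ GU) (hGW : TFOne.IsQuotOn Xs ((Scheme.Modules.pullback i).obj I) W GW πW) (hGU : TFOne.IsQuotOn Xs ((Scheme.Modules.pullback i).obj I) (Y ∪ Z) GU πU) : TFOne.rBeta Xs (IsLocalRing.ResidueField R) (Xs ↘ Spec (CommRingCat.of (IsLocalRing.ResidueField R))) W hWc ((Scheme.Modules.pullback i).obj E) r GW + TFOne.rBeta Xs (IsLocalRing.ResidueField R) (Xs ↘ Spec (CommRingCat.of (IsLocalRing.ResidueField R))) (Y ∪ Z) (hY.union hZ) ((Scheme.Modules.pullback i).obj E) r GU ≤ TFOne.rBeta Xs (IsLocalRing.ResidueField R) (Xs ↘ Spec (CommRingCat.of (IsLocalRing.ResidueField R))) Z hZ ((Scheme.Modules.pullback i).obj E) r GZ1 + TFOne.rBeta Xs (IsLocalRing.ResidueField R) (Xs ↘ Spec (CommRingCat.of (IsLocalRing.ResidueField R))) Y hY ((Scheme.Modules.pullback i).obj E)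 r GY := by
    obtain ⟨hp, hn⟩ := isNoetherian_fibre f i hsq
    have hdim := dim_le_one hpure
    have hE' := H26Gr.isFinLocFreeOfRank_pullback i hE
    have h0 := bE_self (k := IsLocalRing.ResidueField R) hdim hE' hIs hχ hEd
    haveI := hGY.1
    obtain ⟨a, b, w, hex⟩ := exists_shortExact f _ i hsq I hIf πY IY hIY
    have hJ' := isTF1_extension hIs hGY a b w hex
    have cY := isCompUnion_of_isSubcurve hY hYs
    have cW : IsCompUnion W := by rw [hW]; exact isCompUnion_sUnion fun C => C ⊆ Y ∩ Z
    have hWY : W ⊆ Y := hW ▸ Set.sUnion_subset fun C hC => hC.2.trans Set.inter_subset_left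
    obtain ⟨D, hD, hDg, hadd, -, -⟩ := exists_defect hIs hGY a b w hex
      (fun η hη => generic_mem_sUnion_iff hη hY hZ hW) hWY hGZ1 hGW hGU
    have h1 := hadd _ (isAddFn_bE (k := IsLocalRing.ResidueField R) hE')
    have h2 := (bE_defect (k := IsLocalRing.ResidueField R) hdim hE' hr hD hDg).1
    rw [rBeta_eq hdim hE' hIs hWc hGW, rBeta_eq hdim hE' hIs (hY.union hZ) hGU,
      rBeta_eq hdim hE' hJ' hZ hGZ1, rBeta_eq hdim hE' hIs hY hGY]
    omega

end Groth.Agent.S18846
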