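import Groth.Statements.S18847
import Groth.Agent.H26TF1.Fibre

set_option autoImplicit false
universe u
open CategoryTheory CategoryTheory.Limits AlgebraicGeometry
open TFOne

namespace Groth.Agent.S18847

open CategoryTheory.Limits
open Groth.Agent.H06Mod Groth.Agent.H29Omega Groth.Agent.H17.KoszTwist Groth.Agent.H26TF1

/-- Let R be a discrete valuation ring with residue field κ, f : X ⟶ Spec R flat and proper, and X_s its
special fibre, assumed reduced of pure dimension one with geometrically integral irreducible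
components over κ. Let I be a coherent R-flat module on X whose restriction I(s) to X_s is
torsion-free rank-1, E a locally free module of rank r > 0 on X with restriction E(s), and d an
integer with χ(I(s)) = d and deg E(s) = -r·d. For a closed subset T of X_s write I(s)_T for the
torsion-free quotient of I(s) on T (pinned by its defining property) and β(T) := r·χ(I(s)_T) +
deg(E(s)|_T) (the source's β cleared of the denominator r). Let Y be a closed subcurve of X_s (a
non-empty union of irreducible components), and let I^Y be the kernel of the composite I ⟶ i_* I(s)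
⟶ i_* I(s)_Y, with restriction I^Y(s) to X_s and quotients I^Y(s)_T and numbers β^Y(T) :=
r·χ(I^Y(s)_T) + deg(E(s)|_T) defined likewise. Assume that Y is the largest closed subcurve of X_s
on which β is minimal: β(Y) ≤ β(T) for every closed subcurve T of X_s, and every closed subcurve T
with β(T) = β(Y) is contained in Y. Then for every closed subcurve Z of X_s one has β(Y) ≤ β^Y(Z),
and β^Y(Z) = β(Y) only if Z ⊆ Y. (The source takes f projective.) -/
theorem result (R : Type u) [CommRing R] [IsDomain R] [IsDiscreteValuationRing R] (X : Scheme.{u}) (f : X ⟶ Spec (CommRingCat.of R)) [Flat f] [IsProper f] (Xs : Scheme.{u}) [Xs.Over (Spec (CommRingCat.of (IsLocalRing.ResidueField R)))] (i : Xs ⟶ X) (hsq : IsPullback i (Xs ↘ Spec (CommRingCat.of (IsLocalRing.ResidueField R))) f (Spec.map (CommRingCat.ofHom (IsLocalRing.residue R)))) [IsReduced Xs] (hpure : ∀ C ∈ irreducibleComponents (Xs : Type u), topologicalKrullDim C = 1) (hgi : ∀ (C : Set Xs) (hC : C ∈ irreducibleComponents (Xs :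 Type u)), GeometricallyIntegral (VecSt.subschι Xs C (isClosed_of_mem_irreducibleComponents C hC) ≫ (Xs ↘ Spec (CommRingCat.of (IsLocalRing.ResidueField R))))) (I : X.Modules) (hIc : Coh.IsCoh I) (hIf : FlatMod.IsFlatOver f I) (hIs : TFOne.IsTF1 Xs ((Scheme.Modules.pullback i).obj I)) (E : X.Modules) (r : ℕ) (hr : 0 < r) (hE : FlatMod.IsFinLocFreeOfRank r E) (d : ℤ) (hχ : Curv2.euler (IsLocalRing.ResidueField R) Xs ((Scheme.Modules.pullback i).obj I) = d) (hEd : Curv2.deg (IsLocalRing.ResidueField R) Xs ((Scheme.Modules.pullback i).obj E) r = -(r : ℤ) * d) (Y : Set Xs) (hY : IsClosed Y) (hYs : VecSt.IsSubcurve Xs Y) (GY : Xs.Modules) (πY : ((Scheme.Modules.pullback i).obj I) ⟶ GY) (hGY : TFOne.IsQuotOn Xs ((Scheme.Modules.pullback i).obj I) Y GY πY) (IY : X.Modules) (hIY : IY = kernel ((Scheme.Modules.pullbackPushforwardAdjunction i).unit.app I ≫ (Scheme.Modules.pushforward i).map πY)) (hmin : ∀ (T : Set Xs) (hT : IsClosed T), VecSt.IsSubcurve Xs T → ∀ (G : Xs.Modules) (π : ((Scheme.Modules.pullback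 i).obj I) ⟶ G), TFOne.IsQuotOn Xs ((Scheme.Modules.pullback i).obj I) T G π → TFOne.rBeta Xs (IsLocalRing.ResidueField R) (Xs ↘ Spec (CommRingCat.of (IsLocalRing.ResidueField R))) Y hY ((Scheme.Modules.pullback i).obj E) r GY ≤ TFOne.rBeta Xs (IsLocalRing.ResidueField R) (Xs ↘ Spec (CommRingCat.of (IsLocalRing.ResidueField R))) T hT ((Scheme.Modules.pullback i).obj E) r G) (hmax : ∀ (T : Set Xs) (hT : IsClosed T), VecSt.IsSubcurve Xs T → ∀ (G : Xs.Modules) (π : ((Scheme.Modules.pullback i).obj I) ⟶ G), TFOne.IsQuotOn Xs ((Scheme.Modules.pullback i).obj I) T G π → TFOne.rBeta Xs (IsLocalRing.ResidueField R) (Xs ↘ Spec (CommRingCat.of (IsLocalRing.ResidueField R))) T hT ((Scheme.Modules.pullback i).obj E) r G = TFOne.rBeta Xs (IsLocalRing.ResidueField R) (Xs ↘ Spec (CommRingCat.of (IsLocalRing.ResidueField R))) Y hY ((Scheme.Modules.pullback i).obj E) r GY → T ⊆ Y) (Z : Set Xs) (hZ : IsClosed Z) (hZs : VecSt.IsSubcurve Xs Z) (GZ1 : Xs.Modules) (πZ1 : ((Scheme.Modules.pullback i).obj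 IY) ⟶ GZ1) (hGZ1 : TFOne.IsQuotOn Xs ((Scheme.Modules.pullback i).obj IY) Z GZ1 πZ1) : TFOne.rBeta Xs (IsLocalRing.ResidueField R) (Xs ↘ Spec (CommRingCat.of (IsLocalRing.ResidueField R))) Y hY ((Scheme.Modules.pullback i).obj E) r GY ≤ TFOne.rBeta Xs (IsLocalRing.ResidueField R) (Xs ↘ Spec (CommRingCat.of (IsLocalRing.ResidueField R))) Z hZ ((Scheme.Modules.pullback i).obj E) r GZ1 ∧ (TFOne.rBeta Xs (IsLocalRing.ResidueField R) (Xs ↘ Spec (CommRingCat.of (IsLocalRing.ResidueField R))) Z hZ ((Scheme.Modules.pullback i).obj E) r GZ1 = TFOne.rBeta Xs (IsLocalRing.ResidueField R) (Xs ↘ Spec (CommRingCat.of (IsLocalRing.ResidueField R))) Y hY ((Scheme.Modules.pullback i).obj E) r GY → Z ⊆ Y) := by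
    obtain ⟨hp, hn⟩ := isNoetherian_fibre f i hsq
    have hdim := dim_le_one hpure
    have hE' := H26Gr.isFinLocFreeOfRank_pullback i hE
    have h0 := bE_self (k := IsLocalRing.ResidueField R) hdim hE' hIs hχ hEd
    haveI := hGY.1
    obtain ⟨a, b, w, hex⟩ := exists_shortExact f _ i hsq I hIf πY IY hIY
    have hJ' := isTF1_extension hIs hGY a b w hex
    have cY := isCompUnion_of_isSubcurve hY hYs
    have cZ := isCompUnion_of_isSubcurve hZ hZs
    obtain ⟨W, hW⟩ : ∃ W, W = ⋃₀ {C | C ∈ irreducibleComponents (Xs : Type u) ∧ C ⊆ Y ∩ Z} := ⟨_, rfl⟩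
    have cW : IsCompUnion W := by rw [hW]; exact isCompUnion_sUnion fun C => C ⊆ Y ∩ Z
    have hWY : W ⊆ Y := hW ▸ Set.sUnion_subset fun C hC => hC.2.trans Set.inter_subset_left
    obtain ⟨GW, πW, hGW⟩ := exists_isQuotOn hIs cW
    obtain ⟨GU, πU, hGU⟩ := exists_isQuotOn hIs (cY.union cZ)
    obtain ⟨D, hD, hDg, hadd, -, -⟩ := exists_defect hIs hGY a b w hex
      (fun η hη => generic_mem_sUnion_iff hη hY hZ hW) hWY hGZ1 hGW hGU
    have h1 := hadd _ (isAddFn_bE (k := IsLocalRing.ResidueField R) hE')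
    have h2 := (bE_defect (k := IsLocalRing.ResidueField R) hdim hE' hr hD hDg).1
    have hne : (Y ∪ Z).Nonempty := by
      obtain ⟨𝒮, h𝒮, ⟨C, hC⟩, rfl⟩ := hYs
      exact ((h𝒮 hC).1.nonempty.mono (Set.subset_sUnion_of_mem hC)).mono Set.subset_union_left
    have key : ∀ (T : Set Xs) (hT : IsCompUnion T), T.Nonempty → ∀ (G : Xs.Modules) (π : _ ⟶ G),
        TFOne.IsQuotOn Xs ((Scheme.Modules.pullback i).obj I) T G π →
        bE (IsLocalRing.ResidueField R) ((Scheme.Modules.pullback i).obj E) GY ≤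
          bE (IsLocalRing.ResidueField R) ((Scheme.Modules.pullback i).obj E) G ∧
        (bE (IsLocalRing.ResidueField R) ((Scheme.Modules.pullback i).obj E) G =
          bE (IsLocalRing.ResidueField R) ((Scheme.Modules.pullback i).obj E) GY → T ⊆ Y) := by
      intro T hT hTne G π hG
      rw [← rBeta_eq hdim hE' hIs hY hGY, ← rBeta_eq hdim hE' hIs hT.1 hG]
      exact ⟨hmin T hT.1 (hT.isSubcurve hTne) G π hG, hmax T hT.1 (hT.isSubcurve hTne) G π hG⟩
    obtain ⟨kU, kU'⟩ := key _ (cY.union cZ) hne GU πU hGU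
    have kX : bE (IsLocalRing.ResidueField R) ((Scheme.Modules.pullback i).obj E) GY ≤ 0 := h0 ▸
      (key _ isCompUnion_univ (hne.mono (Set.subset_univ _)) _ _ (isQuotOn_univ hIs)).1
    rw [rBeta_eq hdim hE' hIs hY hGY, rBeta_eq hdim hE' hJ' hZ hGZ1]
    have hW0 : W = ∅ → bE (IsLocalRing.ResidueField R) ((Scheme.Modules.pullback i).obj E) GW = 0 := fun h =>
      (isAddFn_bE (k := IsLocalRing.ResidueField R) hE').zero (isZero_of_isQuotOn_empty (h ▸ hGW))
    rcases W.eq_empty_or_nonempty with hWe | hWne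
    · have := hW0 hWe
      refine ⟨by omega, fun heq => Set.subset_union_right.trans (kU' (by omega))⟩
    · obtain ⟨kW, -⟩ := key _ cW hWne GW πW hGW
      refine ⟨by omega, fun heq => Set.subset_union_right.trans (kU' (by omega))⟩

end Groth.Agent.S18847
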