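import Groth.Statements.S18848
import Groth.Agent.H26TF1.Fibre
import Groth.Agent.H22Alg.MumfordQuot
import Groth.Agent.H3CAlg.ChiPull
import Groth.Agent.H16Derived.ProjFormula.ClosedImm

set_option autoImplicit false
universe u
open CategoryTheory CategoryTheory.Limits AlgebraicGeometry
open TFOne

namespace Groth.Agent.S18848

open CategoryTheory.Limits
open Groth.Agent.H06Mod Groth.Agent.H29Omega Groth.Agent.H17.KoszTwist Groth.Agent.H26TF1

open Groth.Agent.H16Derived.ProjFormula in
theorem pushStalk_stalkLin {S X : Scheme.{u}} (ι : S ⟶ X) {G G' : S.Modules} (φ : G ⟶ G') (x : S)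
    (σ : ((Coh.push ι).obj G).presheaf.stalk (ι x)) :
    pushStalk ι G' x (stalkLin ((Coh.push ι).map φ) (ι x) σ) = stalkLin φ x (pushStalk ι G x σ) :=
  pushStalk_naturality ι φ x σ

open Groth.Agent.H16Derived.ProjFormula in
theorem isDet_push_iff {X : Scheme.{u}} [AlgebraicGeometry.IsReduced X] {Y : Set X} {hY : IsClosed Y}
    (hYs : VecSt.IsSubcurve X Y) (G : (VecSt.subsch X Y hY).Modules) :
    IsDet ((Coh.push (VecSt.subschι X Y hY)).obj G) ↔ IsDet G := by
  constructor
  · intro h V s hs
    obtain ⟨W', hW', hWV⟩ := (VecSt.subschι X Y hY).isClosedEmbedding.isInducing.isOpen_iff.1 V.2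
    obtain rfl : (VecSt.subschι X Y hY) ⁻¹ᵁ ⟨W', hW'⟩ = V := TopologicalSpace.Opens.ext hWV
    refine h ⟨W', hW'⟩ s fun η hη hηW => ?_
    by_cases hy : η ∈ Y
    · obtain ⟨z, hz, rfl⟩ := exists_generic_preimage (hZ := hY) hη hy
      refine (pushStalk_bijective (VecSt.subschι X Y hY) G z).1 ?_
      rw [map_zero, pushStalk_germ]
      exact hs z hz hηW
    · exact (subsingleton_push hy).elim _ _
  · intro h W s hs
    refine h ((VecSt.subschι X Y hY) ⁻¹ᵁ W) s fun z hz hzW => ?_
    rw [← pushStalk_germ (VecSt.subschι X Y hY) G z W hzW s, hs _ (generic_subschι hYs hz) hzW, map_zero]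

open Groth.Agent.H16Derived.ProjFormula in
theorem semistable_restrict {k : Type u} [Field k] {X : Scheme.{u}} [X.Over (Spec (CommRingCat.of k))]
    [IsProper (X ↘ Spec (CommRingCat.of k))] [AlgebraicGeometry.IsReduced X] {E J : X.Modules} {r : ℕ}
    (hdim : topologicalKrullDim X ≤ 1) (hE : FlatMod.IsFinLocFreeOfRank r E)
    (hss : TFOne.IsSemistable X k (X ↘ Spec (CommRingCat.of k)) J E r) (h0 : bE k E J = 0)
    {Y : Set X} (hY : IsClosed Y) (hYs : VecSt.IsSubcurve X Y) {GY : X.Modules} {πY : J ⟶ GY}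
    (hGY : TFOne.IsQuotOn X J Y GY πY) :
    TFOne.IsSemistable (VecSt.subsch X Y hY) k (VecSt.subschι X Y hY ≫ (X ↘ Spec (CommRingCat.of k)))
      ((Scheme.Modules.pullback (VecSt.subschι X Y hY)).obj GY)
      ((Scheme.Modules.pullback (VecSt.subschι X Y hY)).obj E) r := by
  haveI := H28Int.isNoetherian k (X := X)
  obtain ⟨eY, cY, tY, sY⟩ := hGY
  haveI := eY
  let ι := VecSt.subschι X Y hY
  letI : (VecSt.subsch X Y hY).Over (Spec (CommRingCat.of k)) := ⟨ι ≫ (X ↘ Spec (CommRingCat.of k))⟩
  haveI : IsProper (VecSt.subsch X Y hY ↘ Spec (CommRingCat.of k)) :=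
    (inferInstance : IsProper (ι ≫ (X ↘ Spec (CommRingCat.of k))))
  haveI := H28Int.isNoetherian k (X := VecSt.subsch X Y hY)
  let G₀ := (Scheme.Modules.pullback ι).obj GY
  let u := (Scheme.Modules.pullbackPushforwardAdjunction ι).unit.app GY
  -- the pull-back at the generic points
  have pinj : ∀ z : VecSt.subsch X Y hY, z ∈ genericPoints (VecSt.subsch X Y hY) →
      Function.Injective (pullStalk ι GY z) := fun z hz => by
    rw [injective_iff_map_eq_zero]
    intro g hg
    have hker : RingHom.ker (ι.stalkMap z).hom = ⊥ := by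
      letI := (isField_generic (generic_subschι hYs hz)).toField
      exact (RingHom.injective_iff_ker_eq_bot _).1 (RingHom.injective _)
    have := (H24Quot.pullStalk_eq_zero_iff ι GY z g).1 hg
    rwa [hker, Submodule.bot_smul, Submodule.mem_bot] at this
  haveI : Mono u := mono_of_generic cY tY u fun η hη => by
    by_cases hy : η ∈ Y
    · obtain ⟨z, hz, rfl⟩ := exists_generic_preimage (hZ := hY) hη hy
      intro g g' hgg
      refine pinj z hz ?_
      rw [← pushStalk_unit ι GY z, ← pushStalk_unit ι GY z]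
      exact congrArg _ hgg
    · haveI : Subsingleton (GY.presheaf.stalk η) := subsingleton_of_notMem (by rw [sY]; exact hy)
      exact Function.injective_of_subsingleton _
  haveI : Epi u := H22Alg.MumfordQuot.epi_unit ι GY
  haveI : IsIso u := isIso_of_mono_of_epi u
  have hG₀ : TFOne.IsTF1 (VecSt.subsch X Y hY) G₀ := by
    have hd : IsDet ((Coh.push ι).obj G₀) := isDet_of_mono (inv u) (isDet_of_isTorsionFree cY tY)
    refine ⟨H3CAlg.ChiPull.isCoh_pullback ι GY cY,
      isTorsionFree_of_isDet G₀ ((isDet_push_iff hYs G₀).1 hd), fun z hz => ?_⟩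
    have hη := generic_subschι hYs hz
    have hb := bijective_at_generic hss.1 hη πY (sY ▸ mem_of_subsch z)
    obtain ⟨e⟩ := hss.1.2.2 _ hη
    let eGY := (LinearEquiv.ofBijective _ hb).symm ≪≫ₗ e
    let g₀ := pullStalk ι GY z (eGY.symm 1)
    have hgen : ∀ r', pullStalk ι GY z (eGY.symm r') = (ι.stalkMap z).hom r' • g₀ := fun r' => by
      rw [← pullStalk_smul, ← map_smul eGY.symm, smul_eq_mul, mul_one]
    have hbij : Function.Bijective (LinearMap.toSpanSingleton ((VecSt.subsch X Y hY).presheaf.stalk z) _ g₀) := by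
      constructor
      · rw [injective_iff_map_eq_zero]
        intro c hc
        obtain ⟨c, rfl⟩ := ι.stalkMap_surjective z c
        rw [LinearMap.toSpanSingleton_apply, ← hgen] at hc
        rw [show c = 0 from eGY.symm.injective ((pinj z hz (hc.trans (map_zero _).symm)).trans (map_zero _).symm),
          map_zero]
      · intro v
        obtain ⟨g, rfl⟩ := H24Quot.pullStalk_surjective ι GY z v
        exact ⟨(ι.stalkMap z).hom (eGY g), by
          rw [LinearMap.toSpanSingleton_apply, ← hgen, LinearEquiv.symm_apply_apply]⟩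
    exact ⟨(LinearEquiv.ofBijective _ hbij).symm⟩
  refine ⟨hG₀, fun T hT hTs _ G π hG => ?_⟩
  have hTu := isCompUnion_of_isSubcurve hT hTs
  have hdim' : topologicalKrullDim (VecSt.subsch X Y hY) ≤ 1 :=
    (ι.isClosedEmbedding.isInducing.topologicalKrullDim_le).trans hdim
  have hE' := H26Gr.isFinLocFreeOfRank_pullback ι hE
  show 0 ≤ TFOne.rBeta (VecSt.subsch X Y hY) k (VecSt.subsch X Y hY ↘ Spec (CommRingCat.of k)) T hT _ r G
  rw [rBeta_eq hdim' hE' hG₀ hT hG]
  obtain ⟨eG, cG, tG, sG⟩ := hG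
  -- push forward to the curve
  let P := (Coh.push ι).obj G
  let φ : J ⟶ P := πY ≫ u ≫ (Coh.push ι).map π
  haveI : Epi ((Coh.push ι).map π) := epi_of_surjective_stalkLin _ fun x v => by
    by_cases hx : x ∈ Set.range ι
    · obtain ⟨z, rfl⟩ := hx
      haveI := eG
      obtain ⟨m, hm⟩ := surjStalk π z (pushStalk ι G z v)
      obtain ⟨m', rfl⟩ := (pushStalk_bijective ι G₀ z).2 m
      exact ⟨m', (pushStalk_bijective ι G z).1 (by rw [pushStalk_stalkLin]; exact hm)⟩
    · haveI := Groth.Agent.H16Derived.ProjFormula.subsingleton_stalk_push ι G x hx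
      exact ⟨0, Subsingleton.elim _ _⟩
  have hP : TFOne.IsQuotOn X J (ι '' T) P φ := by
    refine ⟨epi_comp _ _, H24FSch.isCoh_pushforward_of_isClosedImmersion ι cG,
      isTorsionFree_of_isDet P ((isDet_push_iff hYs G).2 (isDet_of_isTorsionFree cG tG)), ?_⟩
    refine Set.Subset.antisymm (fun x hx => ?_) ?_
    · by_cases hr' : x ∈ Set.range ι
      · obtain ⟨z, rfl⟩ := hr'
        refine ⟨z, sG ▸ fun hs => hx ?_, rfl⟩
        haveI := hs
        exact (pushStalk_bijective ι G z).1.subsingleton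
      · exact absurd (Groth.Agent.H16Derived.ProjFormula.subsingleton_stalk_push ι G x hr') hx
    · rintro _ ⟨z, hz, rfl⟩ hs
      haveI := hs
      exact (sG.symm ▸ hz : z ∈ CohB1.support G) (pushStalk_bijective ι G z).2.subsingleton
  have hT' : IsCompUnion (ι '' T) := by
    refine ⟨ι.isClosedEmbedding.isClosedMap _ hT, ?_⟩
    rintro _ ⟨z, hz, rfl⟩
    obtain ⟨ξ, hξ, hξT, hξz⟩ := hTu.2 z hz
    exact ⟨ι ξ, generic_subschι hYs hξ, ⟨ξ, hξT, rfl⟩, hξz.map ι.continuous⟩
  refine le_of_le_of_eq (bE_nonneg (k := k) hdim hE hss h0 hT' hP) ?_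
  have hEf : FlatMod.IsFinLocFree E := fun y => let ⟨U, hU⟩ := hE y; ⟨U, r, hU⟩
  have hiso := Groth.Agent.H10Coh.PF.isIso_ψ_of_isFinLocFree ι hEf G
  let eP : CohB1.tensorMod P E ≅
      (Coh.push ι).obj (CohB1.tensorMod G ((Scheme.Modules.pullback ι).obj E)) :=
    @asIso _ _ _ _ _ hiso
  haveI : G.IsQuasicoherent := cG.1
  haveI : (CohB1.tensorMod G ((Scheme.Modules.pullback ι).obj E)).IsQuasicoherent :=
    (Groth.Agent.H10Coh.TT.isCoh_tensorMod cG
      (Groth.Agent.H16Derived.KFlat.Stalk.isCoh_of_isFinLocFree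
        (Groth.Agent.H16Derived.KFlat.Stalk.isFinLocFree_pullback ι hEf))).1
  show Curv2.euler k X _ = Curv2.euler k _ _
  rw [H25Euler.euler_congr eP, H28Int.Push.euler_push k ι rfl]

/-- Let R be a discrete valuation ring with residue field κ, f : X ⟶ Spec R flat and proper, and X_s its
special fibre, assumed reduced of pure dimension one with geometrically integral irreducible
components over κ. Let I be a coherent R-flat module on X whose restriction I(s) to X_s is
torsion-free rank-1, E a locally free module of rank r > 0 on X with restriction E(s), and d an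
integer with χ(I(s)) = d and deg E(s) = -r·d. For a closed subset T of X_s write I(s)_T for the
torsion-free quotient of I(s) on T (pinned by its defining property) and β(T) := r·χ(I(s)_T) +
deg(E(s)|_T) (the source's β cleared of the denominator r). Let Y be a closed subcurve of X_s (a
non-empty union of irreducible components), and let I^Y be the kernel of the composite I ⟶ i_* I(s)
⟶ i_* I(s)_Y, with restriction I^Y(s) to X_s and quotients I^Y(s)_T and numbers β^Y(T) :=
r·χ(I^Y(s)_T) + deg(E(s)|_T) defined likewise. Assume I(s) is semistable with respect to E(s). Then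
I^Y(s) is semistable with respect to E(s) if and only if β(Y) = 0 and I(s)_Y, viewed on the reduced
closed subscheme Y, is semistable with respect to E(s)|_Y. (Here β(Y) = 0 says that E(s)|_Y is a
polarisation for I(s)_Y, the source's implicit requirement for semistability with respect to
E(s)|_Y. The source states the conclusion for semistability of I^Y over Spec R, which it reduces at
once to the special fibre since I^Y and I agree off Y; it also asserts that I^Y(s) and I(s) are then
Jordan–Hölder equivalent, which is not stated here; it takes f projective.) -/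
theorem result (R : Type u) [CommRing R] [IsDomain R] [IsDiscreteValuationRing R] (X : Scheme.{u}) (f : X ⟶ Spec (CommRingCat.of R)) [Flat f] [IsProper f] (Xs : Scheme.{u}) [Xs.Over (Spec (CommRingCat.of (IsLocalRing.ResidueField R)))] (i : Xs ⟶ X) (hsq : IsPullback i (Xs ↘ Spec (CommRingCat.of (IsLocalRing.ResidueField R))) f (Spec.map (CommRingCat.ofHom (IsLocalRing.residue R)))) [IsReduced Xs] (hpure : ∀ C ∈ irreducibleComponents (Xs : Type u), topologicalKrullDim C = 1) (hgi : ∀ (C : Set Xs) (hC : C ∈ irreducibleComponents (Xs : Type u)), GeometricallyIntegral (VecSt.subschι Xs C (isClosed_of_mem_irreducibleComponents C hC) ≫ (Xs ↘ Spec (CommRingCat.of (IsLocalRing.ResidueField R))))) (I : X.Modules) (hIc : Coh.IsCoh I) (hIf : FlatMod.IsFlatOver f I) (hIs : TFOne.IsTF1 Xs ((Scheme.Modules.pullback i).obj I)) (E : X.Modules) (r : ℕ) (hr : 0 < r) (hE : FlatMod.IsFinLocFreeOfRank r E) (d : ℤ) (hχ : Curv2.euler (IsLocalRing.ResidueField R) Xs ((Scheme.Modules.pullback i).obj I) = d) (hEd :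 Curv2.deg (IsLocalRing.ResidueField R) Xs ((Scheme.Modules.pullback i).obj E) r = -(r : ℤ) * d) (hss : TFOne.IsSemistable Xs (IsLocalRing.ResidueField R) (Xs ↘ Spec (CommRingCat.of (IsLocalRing.ResidueField R))) ((Scheme.Modules.pullback i).obj I) ((Scheme.Modules.pullback i).obj E) r) (Y : Set Xs) (hY : IsClosed Y) (hYs : VecSt.IsSubcurve Xs Y) (GY : Xs.Modules) (πY : ((Scheme.Modules.pullback i).obj I) ⟶ GY) (hGY : TFOne.IsQuotOn Xs ((Scheme.Modules.pullback i).obj I) Y GY πY) (IY : X.Modules) (hIY : IY = kernel ((Scheme.Modules.pullbackPushforwardAdjunction i).unit.app I ≫ (Scheme.Modules.pushforward i).map πY)) : TFOne.IsSemistable Xs (IsLocalRing.ResidueField R) (Xs ↘ Spec (CommRingCat.of (IsLocalRing.ResidueField R))) ((Scheme.Modules.pullback i).obj IY) ((Scheme.Modules.pullback i).obj E) r ↔ (TFOne.rBeta Xs (IsLocalRing.ResidueField R) (Xs ↘ Spec (CommRingCat.of (IsLocalRing.ResidueField R))) Y hY ((Scheme.Modules.pullback i).obj E) r GY = 0 ∧ TFOne.IsSemistable (VecSt.subsch Xs Y hY)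 (IsLocalRing.ResidueField R) (VecSt.subschι Xs Y hY ≫ (Xs ↘ Spec (CommRingCat.of (IsLocalRing.ResidueField R)))) ((Scheme.Modules.pullback (VecSt.subschι Xs Y hY)).obj GY) ((Scheme.Modules.pullback (VecSt.subschι Xs Y hY)).obj ((Scheme.Modules.pullback i).obj E)) r) := by
    obtain ⟨hp, hn⟩ := isNoetherian_fibre f i hsq
    have hdim := dim_le_one hpure
    have hE' := H26Gr.isFinLocFreeOfRank_pullback i hE
    have h0 := bE_self (k := IsLocalRing.ResidueField R) hdim hE' hIs hχ hEd
    haveI := hGY.1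
    obtain ⟨a, b, w, hex⟩ := exists_shortExact f _ i hsq I hIf πY IY hIY
    have hJ' := isTF1_extension hIs hGY a b w hex
    have cY := isCompUnion_of_isSubcurve hY hYs
    have hYb := rBeta_eq (k := IsLocalRing.ResidueField R) hdim hE' hIs hY hGY
    rw [hYb]
    constructor
    · intro hss'
      refine ⟨?_, semistable_restrict hdim hE' hss h0 hY hYs hGY⟩
      have hge := bE_nonneg (k := IsLocalRing.ResidueField R) hdim hE' hss h0 cY hGY
      by_cases hu : Y = Set.univ
      · subst hu
        obtain ⟨e⟩ := exists_quotIso hIs hGY (isQuotOn_univ hIs)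
        exact ((isAddFn_bE (k := IsLocalRing.ResidueField R) hE').congr e).trans h0
      obtain ⟨Y', hY'⟩ : ∃ Y', Y' = ⋃₀ {C | C ∈ irreducibleComponents (Xs : Type u) ∧ ¬ C ⊆ Y} := ⟨_, rfl⟩
      have cY' : IsCompUnion Y' := by rw [hY']; exact isCompUnion_sUnion fun C => ¬ C ⊆ Y
      have gY' : ∀ η ∈ genericPoints Xs, η ∈ Y' ↔ η ∉ Y := fun η hη => generic_mem_compl_union_iff hη hY hY'
      obtain ⟨G2, π2, hG2⟩ := exists_isQuotOn hJ' cY'
      obtain ⟨G0, π0, hG0⟩ := exists_isQuotOn hIs (isCompUnion_empty (X := Xs))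
      have hall : Y ∪ Y' = Set.univ := by
        refine Set.eq_univ_of_forall fun x => ?_
        obtain ⟨η, hη, hηx⟩ := H8Props.exists_genericPoints_specializes x
        by_cases hy : η ∈ Y
        · exact Or.inl (hηx.mem_closed hY hy)
        · exact Or.inr (hηx.mem_closed cY'.1 ((gY' η hη).2 hy))
      obtain ⟨D, hD, hDg, hadd, hz, -⟩ := exists_defect hIs hGY a b w hex (W := ∅) (Z := Y')
        (fun η hη => ⟨fun h => h.elim, fun h => ((gY' η hη).1 h.2 h.1).elim⟩) (Set.empty_subset _)
        hG2 hG0 (show TFOne.IsQuotOn Xs _ (Y ∪ Y') _ (𝟙 _) from hall.symm ▸ isQuotOn_univ hIs)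
      have hne : Y'.Nonempty := by
        by_contra hc
        rw [Set.not_nonempty_iff_eq_empty.1 hc, Set.union_empty] at hall
        exact hu hall
      have hne' : Y' ≠ Set.univ := by
        intro h
        obtain ⟨𝒮, h𝒮, ⟨C, hC⟩, hYC⟩ := hYs
        obtain ⟨y, hy⟩ := (h𝒮 hC).1.nonempty
        obtain ⟨η, hη, hηY, -⟩ := cY.2 y (hYC ▸ Set.mem_sUnion_of_mem hy hC)
        exact (gY' η hη).1 (h ▸ Set.mem_univ η) hηY
      have h2 := hss'.2 Y' cY'.1 (cY'.isSubcurve hne) hne' G2 π2 hG2
      rw [rBeta_eq hdim hE' hJ' cY'.1 hG2] at h2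
      have e1 := hadd _ (isAddFn_bE (k := IsLocalRing.ResidueField R) hE')
      rw [h0, (isAddFn_bE (k := IsLocalRing.ResidueField R) hE').zero (hz rfl),
        (isAddFn_bE (k := IsLocalRing.ResidueField R) hE').zero (isZero_of_isQuotOn_empty hG0)] at e1
      omega
    · rintro ⟨hb, -⟩
      refine ⟨hJ', fun Z hZ hZs _ G π hG => ?_⟩
      have cZ := isCompUnion_of_isSubcurve hZ hZs
      obtain ⟨W, hW⟩ : ∃ W, W = ⋃₀ {C | C ∈ irreducibleComponents (Xs : Type u) ∧ C ⊆ Y ∩ Z} := ⟨_, rfl⟩
      have cW : IsCompUnion W := by rw [hW]; exact isCompUnion_sUnion fun C => C ⊆ Y ∩ Z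
      have hWY : W ⊆ Y := hW ▸ Set.sUnion_subset fun C hC => hC.2.trans Set.inter_subset_left
      obtain ⟨GW, πW, hGW⟩ := exists_isQuotOn hIs cW
      obtain ⟨GU, πU, hGU⟩ := exists_isQuotOn hIs (cY.union cZ)
      obtain ⟨D, hD, hDg, hadd, -, -⟩ := exists_defect hIs hGY a b w hex
        (fun η hη => generic_mem_sUnion_iff hη hY hZ hW) hWY hG hGW hGU
      have h1 := hadd _ (isAddFn_bE (k := IsLocalRing.ResidueField R) hE')
      have h2 := (bE_defect (k := IsLocalRing.ResidueField R) hdim hE' hr hD hDg).1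
      have h3 := bE_nonneg (k := IsLocalRing.ResidueField R) hdim hE' hss h0 cW hGW
      have h4 := bE_nonneg (k := IsLocalRing.ResidueField R) hdim hE' hss h0 (cY.union cZ) hGU
      rw [rBeta_eq hdim hE' hJ' hZ hG]
      omega

end Groth.Agent.S18848
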