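import Groth.Statements.S1885
import Groth.Agent.H13Grpd.InvariantAffine
import Groth.Agent.H8Props.FlatLocus.Scheme
import Groth.Agent.H12AlgSp.Residual
import Groth.Agent.H17.Reduced

set_option autoImplicit false
set_option maxHeartbeats 1000000
set_option synthInstance.maxHeartbeats 100000
set_option linter.style.haveILetI false
set_option backward.isDefEq.respectTransparency false
universe u
open CategoryTheory CategoryTheory.Limits AlgebraicGeometry
open Grpd

namespace Groth.Agent.S1885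

open Groth.Agent.H13Grpd in
/-- Some neighbourhood of every finite set of maximal points over which the source is flat after reduction. -/
theorem isClosed_nonflat {U R : Scheme.{u}} (s : R ⟶ U) [IsFinite s] [LocallyOfFinitePresentation s]
    {U' : Scheme.{u}} (k : U' ⟶ U) [IsClosedImmersion k] [Surjective k] [IsReduced U'] :
    ∃ C : Set U, IsClosed C ∧ (∀ x : U, (∀ y, y ⤳ x → y = x) → x ∉ C) ∧
      ∀ p : ↥(pullback s k), k (pullback.snd s k p) ∉ C → ((pullback.snd s k).stalkMap p).hom.Flat := by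
  haveI : IsFinite (pullback.snd s k) := MorphismProperty.pullback_snd (P := @IsFinite) s k inferInstance
  haveI : LocallyOfFinitePresentation (pullback.snd s k) :=
    MorphismProperty.pullback_snd (P := @LocallyOfFinitePresentation) s k inferInstance
  let B : Set ↥(pullback s k) := {p | ((pullback.snd s k).stalkMap p).hom.Flat}ᶜ
  refine ⟨k '' (pullback.snd s k '' B), k.isClosedMap _ ((pullback.snd s k).isClosedMap _
    (Groth.Agent.H8Props.FlatLocus.isOpen_setOf_flat_stalkMap _).isClosed_compl), fun x hx => ?_, fun p hp => ?_⟩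
  · rintro ⟨y, ⟨p, hp, rfl⟩, rfl⟩
    have hf : IsField (U'.presheaf.stalk (pullback.snd s k p)) :=
      Groth.Agent.H12AlgSp.Residual.isField_stalk_of_reduced _ fun y hy =>
        k.isEmbedding.injective (hx _ (hy.map k.continuous))
    exact hp (by
      letI := hf.toField
      letI := ((pullback.snd s k).stalkMap p).hom.toAlgebra
      exact (inferInstance : Module.Flat (U'.presheaf.stalk (pullback.snd s k p)) ((pullback s k).presheaf.stalk p)))
  · by_contra h
    exact hp ⟨_, ⟨p, h, rfl⟩, rfl⟩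

/-- The reduction of a scheme. -/
theorem exists_reduction (U : Scheme.{u}) : ∃ (U' : Scheme.{u}) (k : U' ⟶ U),
    IsClosedImmersion k ∧ Surjective k ∧ IsReduced U' := by
  refine ⟨U.nilradical.subscheme, U.nilradical.subschemeι, inferInstance, ⟨?_⟩, ?_⟩
  · rw [← Set.range_eq_univ, Scheme.IdealSheafData.range_subschemeι, Scheme.support_nilradical]; rfl
  · exact (Groth.Agent.H17.isReduced_subscheme_iff _).mpr fun W => Ideal.radical_isRadical _

open Groth.Agent.H13Grpd in
/-- Invariant principal affine neighbourhood of finitely many maximal orbits. -/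
theorem exists_invariant_basicOpen {S : Scheme.{u}} (G : Grpd.GroupoidScheme S) [IsFinite G.s]
    [LocallyOfFinitePresentation G.s] (O : Set G.U) (hO : O.Finite) (horb : ∀ x ∈ O, orbit G x ⊆ O)
    (hmax : ∀ x ∈ O, ∀ y, y ⤳ x → y = x) {A : Type u} [CommRing A] (j : G.U ⟶ Spec (CommRingCat.of A))
    [IsImmersion j] (I : Ideal A) (hI : ∀ x : G.U, j x ∉ PrimeSpectrum.zeroLocus (I : Set A))
    (hcl : IsClosed (PrimeSpectrum.zeroLocus (I : Set A) ∪ Set.range j)) :
    ∃ h ∈ I, IsAffineOpen (j ⁻¹ᵁ PrimeSpectrum.basicOpen h) ∧ O ⊆ (j ⁻¹ᵁ PrimeSpectrum.basicOpen h : G.U.Opens) ∧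
      G.s ⁻¹ᵁ (j ⁻¹ᵁ PrimeSpectrum.basicOpen h) = G.t ⁻¹ᵁ (j ⁻¹ᵁ PrimeSpectrum.basicOpen h) := by
  obtain ⟨U', k, _, _, _⟩ := exists_reduction G.U
  obtain ⟨C, hC, hCmax, hCflat⟩ := isClosed_nonflat G.s k
  -- a principal open inside the flat locus
  let E : Set (PrimeSpectrum A) := closure (j '' C)
  have hjC : ∀ x, j x ∈ E → x ∈ C := fun x hx => by
    have : x ∈ j ⁻¹' closure (j '' C) := hx
    rwa [← j.isEmbedding.closure_eq_preimage_closure_image, hC.closure_eq] at this
  let J : Ideal A := I ⊓ PrimeSpectrum.vanishingIdeal E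
  obtain ⟨h₁, hh₁, hh₁O⟩ : ∃ h ∈ J, ∀ x ∈ hO.toFinset, h ∉ (j x).asIdeal := by
    classical
    by_contra! h
    rcases hO.toFinset.eq_empty_or_nonempty with h0 | ⟨a, -⟩
    · obtain ⟨x, hx, -⟩ := h 0 J.zero_mem
      simp [h0] at hx
    obtain ⟨x, hx, hle⟩ := (Ideal.subset_union_prime (s := hO.toFinset) (f := fun x => (j x).asIdeal) a a
      (fun x _ _ _ => PrimeSpectrum.isPrime _)).1 fun f hf => by
        obtain ⟨x, hx, hfx⟩ := h f hf
        exact Set.mem_biUnion hx hfx
    rw [Set.Finite.mem_toFinset] at hx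
    rcases ((j x).isPrime.inf_le).1 hle with h' | h'
    · exact hI x h'
    · refine hCmax x (hmax x hx) (hjC x ?_)
      have : j x ∈ PrimeSpectrum.zeroLocus (PrimeSpectrum.vanishingIdeal E : Set A) := h'
      rwa [PrimeSpectrum.zeroLocus_vanishingIdeal_eq_closure, closure_closure] at this
  let g₀ : Γ(Spec (CommRingCat.of A), ⊤) := (Scheme.ΓSpecIso (CommRingCat.of A)).inv h₁
  let D : (Spec (CommRingCat.of A)).Opens := (Spec (CommRingCat.of A)).basicOpen g₀
  have hD : IsAffineOpen D := (isAffineOpen_top _).basicOpen g₀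
  have hDh : D = PrimeSpectrum.basicOpen h₁ := basicOpen_eq_of_affine (R := CommRingCat.of A) h₁
  have hmemD : ∀ y, y ∈ D ↔ h₁ ∉ y.asIdeal := fun y => by rw [hDh]; rfl
  haveI : IsClosedImmersion (j ∣_ D) := by
    refine IsClosedImmersion.iff_isPreimmersion.mpr ⟨inferInstance, ?_⟩
    have hr : Set.range (j ∣_ D) = Subtype.val ⁻¹' (PrimeSpectrum.zeroLocus (I : Set A) ∪ Set.range j) := by
      ext y
      constructor
      · rintro ⟨x, rfl⟩
        exact Or.inr ⟨x.1, (morphismRestrict_base_coe j D x).symm⟩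
      · rintro (hy | ⟨x, hx⟩)
        · exact absurd (hy hh₁.1) ((hmemD _).1 y.2)
        · exact ⟨⟨x, show j x ∈ D by rw [hx]; exact y.2⟩, Subtype.ext ((morphismRestrict_base_coe j D _).trans hx)⟩
    rw [hr]
    exact hcl.preimage continuous_subtype_val
  let W₁ : G.U.Opens := j ⁻¹ᵁ D
  haveI : IsAffine D.toScheme := hD
  have hW₁ : IsAffineOpen W₁ := isAffine_of_isAffineHom (j ∣_ D)
  have hWC : ∀ x ∈ W₁, x ∉ C := fun x hx hxC =>
    (hmemD _).1 hx ((PrimeSpectrum.mem_vanishingIdeal E h₁).1 hh₁.2 _ (subset_closure ⟨x, hxC, rfl⟩))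
  -- the norm
  let q := pullback.snd G.s k
  let D' : U'.Opens := k ⁻¹ᵁ W₁
  have hD' : IsAffineOpen D' := hW₁.preimage k
  haveI : IsFinite q := MorphismProperty.pullback_snd (P := @IsFinite) G.s k inferInstance
  haveI : LocallyOfFinitePresentation q :=
    MorphismProperty.pullback_snd (P := @LocallyOfFinitePresentation) G.s k inferInstance
  haveI : Flat (q ∣_ D') := Flat.of_stalkMap (q ∣_ D') fun x =>
    (RingHom.Flat.respectsIso.arrow_mk_iso_iff (morphismRestrictStalkMap q D' x)).2 (hCflat x.1 (hWC _ x.2))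
  haveI : IsAffine D'.toScheme := hD'
  haveI : IsAffine (q ⁻¹ᵁ D').toScheme := hD'.preimage q
  let φ : Γ(G.U, ⊤) := j.appTop g₀
  have hφ : G.U.basicOpen φ = W₁ := (Scheme.preimage_basicOpen_top j g₀).symm
  let τ : (q ⁻¹ᵁ D').toScheme ⟶ G.U := (q ⁻¹ᵁ D').ι ≫ pullback.fst G.s k ≫ G.t
  let g : Γ((q ⁻¹ᵁ D').toScheme, ⊤) := τ.appTop φ
  have hg : ∀ r, r ∈ (q ⁻¹ᵁ D').toScheme.basicOpen g ↔ τ r ∈ W₁ := fun r => by
    rw [← hφ, show g = τ.appTop φ from rfl, ← Scheme.preimage_basicOpen_top]; rfl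
  obtain ⟨a, ha⟩ := exists_basicOpen_forall_fibre (q ∣_ D') g
  -- points over a point
  have hfib : ∀ v : D'.toScheme, v ∈ D'.toScheme.basicOpen a ↔ orbit G (k v.1) ⊆ W₁ := fun v => by
    rw [ha]
    constructor
    · rintro h _ ⟨r, hr, rfl⟩
      obtain ⟨p, hp₁, hp₂⟩ := Scheme.Pullback.exists_preimage_pullback (f := G.s) (g := k) r v.1 hr
      have hp : p ∈ q ⁻¹ᵁ D' := by show q p ∈ D'; rw [show q p = v.1 from hp₂]; exact v.2
      have := (hg ⟨p, hp⟩).1 (h ⟨p, hp⟩ (Subtype.ext ((morphismRestrict_base_coe q D' _).trans hp₂)))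
      rwa [← hp₁]
    · intro h r hr
      refine (hg r).2 (h ⟨pullback.fst G.s k r.1, ?_, rfl⟩)
      show G.s (pullback.fst G.s k r.1) = k v.1
      rw [← hr, morphismRestrict_base_coe, ← Scheme.Hom.comp_apply, pullback.condition]
      rfl
  -- lift to the ambient affine scheme
  haveI : IsClosedImmersion ((k ≫ j) ∣_ D) := by
    rw [morphismRestrict_comp]; infer_instance
  obtain ⟨b₀, hb₀⟩ := ((k ≫ j) ∣_ D).app_surjective ⊤ (isAffineOpen_top _) a
  let a' : Γ(Spec (CommRingCat.of A), D) := D.topIso.hom b₀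
  haveI := (isAffineOpen_top (Spec (CommRingCat.of A))).isLocalization_basicOpen g₀
  obtain ⟨⟨β, ⟨_, n, rfl⟩⟩, hβ⟩ := IsLocalization.surj (Submonoid.powers g₀) a'
  let b : A := (Scheme.ΓSpecIso (CommRingCat.of A)).hom β
  have hβb : (Spec (CommRingCat.of A)).basicOpen β = PrimeSpectrum.basicOpen b := by
    rw [← basicOpen_eq_of_affine (R := CommRingCat.of A) b]
    congr 1
    exact (ConcreteCategory.congr_hom (Scheme.ΓSpecIso (CommRingCat.of A)).hom_inv_id β).symm
  have hVD : PrimeSpectrum.basicOpen (h₁ * b) = (Spec (CommRingCat.of A)).basicOpen a' := by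
    rw [PrimeSpectrum.basicOpen_mul, ← hDh, ← hβb]
    have hres : ∀ c : Γ(Spec (CommRingCat.of A), ⊤), (Spec (CommRingCat.of A)).basicOpen
        (algebraMap Γ(Spec (CommRingCat.of A), ⊤) Γ(Spec (CommRingCat.of A), D) c) =
          D ⊓ (Spec (CommRingCat.of A)).basicOpen c := fun c =>
      Scheme.basicOpen_res (Spec (CommRingCat.of A)) c (homOfLE le_top).op
    have h := congrArg (Spec (CommRingCat.of A)).basicOpen hβ
    rw [Scheme.basicOpen_mul, hres, hres] at h
    refine h.symm.trans (inf_eq_left.2 (le_inf ((Spec (CommRingCat.of A)).basicOpen_le a') ?_))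
    refine ((Spec (CommRingCat.of A)).basicOpen_le a').trans ?_
    rcases n.eq_zero_or_pos with rfl | hn
    · show D ≤ (Spec (CommRingCat.of A)).basicOpen (g₀ ^ 0)
      rw [pow_zero, Scheme.basicOpen_of_isUnit _ isUnit_one]
      exact le_top
    · show D ≤ (Spec (CommRingCat.of A)).basicOpen (g₀ ^ n)
      rw [Scheme.basicOpen_pow _ g₀ hn]
  refine ⟨h₁ * b, I.mul_mem_right _ hh₁.1, ?_⟩
  rw [hVD]
  have hpre : ∀ v : D'.toScheme, v ∈ D'.toScheme.basicOpen a ↔ j (k v.1) ∈ (Spec (CommRingCat.of A)).basicOpen a' :=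
    fun v => by
    have h1 : ((k ≫ j) ∣_ D) ⁻¹ᵁ D.toScheme.basicOpen b₀ = D'.toScheme.basicOpen a := by
      rw [← hb₀]; exact Scheme.preimage_basicOpen_top _ _
    have h2 : D.ι ''ᵁ D.toScheme.basicOpen b₀ = (Spec (CommRingCat.of A)).basicOpen a' := by
      refine Eq.trans ?_ (Scheme.Opens.ι_image_basicOpen_topIso_inv (U := D) a')
      rw [show D.topIso.inv a' = b₀ from ConcreteCategory.congr_hom D.topIso.hom_inv_id b₀]
    rw [← h1, ← h2]
    exact ⟨fun h => ⟨_, h, morphismRestrict_base_coe (k ≫ j) D v⟩, fun ⟨w, hw, e⟩ => by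
      show ((k ≫ j) ∣_ D) v ∈ D.toScheme.basicOpen b₀
      rw [show ((k ≫ j) ∣_ D) v = w from Subtype.ext ((morphismRestrict_base_coe (k ≫ j) D v).trans e.symm)]
      exact hw⟩
  have hmem : ∀ x : G.U, x ∈ j ⁻¹ᵁ (Spec (CommRingCat.of A)).basicOpen a' ↔ orbit G x ⊆ W₁ := by
    intro x
    obtain ⟨v, rfl⟩ := k.surjective x
    constructor
    · intro hx
      have hv : v ∈ D' := (Spec (CommRingCat.of A)).basicOpen_le a' hx
      exact (hfib ⟨v, hv⟩).1 ((hpre ⟨v, hv⟩).2 hx)
    · intro hx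
      have hv : v ∈ D' := hx (self_mem_orbit G _)
      exact (hpre ⟨v, hv⟩).1 ((hfib ⟨v, hv⟩).2 hx)
  refine ⟨?_, fun x hx => (hmem x).2 ((horb x hx).trans fun y hy => ?_), ?_⟩
  · rw [Scheme.preimage_basicOpen]
    exact hW₁.basicOpen _
  · exact (hmemD _).2 (hh₁O y (hO.mem_toFinset.2 hy))
  · ext r
    exact (hmem _).trans ((by rw [orbit_eq] : _ ↔ _).trans (hmem _).symm)


/-- For a groupoid scheme (U, R, s, t, c) over S whose source and target maps are finite and of finite
presentation, take u₁, …, u_m points of U such that every point in their R-orbits is generic in an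
irreducible component of U; j : U → Spec A an immersion; I ⊆ A an ideal with j(U) ∩ V(I) = ∅ and
V(I) ∪ j(U) closed. Then for some h ∈ I the preimage j⁻¹D(h) is an R-invariant affine open of U
containing u₁, …, u_m. (A groupoid scheme carries U, R, s, t, c, e, i over S with the groupoid
axioms on T-points; 'finite locally free' is finite, flat and locally of finite presentation; C ⊂
Γ(U) is the ring of functions a with s♯(a) = t♯(a) and M = Spec C.) -/
theorem result (S : Scheme.{u}) (G : Grpd.GroupoidScheme S) [IsFinite G.s] [LocallyOfFinitePresentation G.s] [IsFinite G.t] [LocallyOfFinitePresentation G.t] (m : ℕ) (u : Fin m → G.U) (hu : ∀ i (r : G.R), G.s r = u i → ∀ x : G.U, x ⤳ G.t r → x = G.t r) (A : Type u) [CommRing A] (j : G.U ⟶ Spec (CommRingCat.of A)) [IsImmersion j] (I : Ideal A) (hI : ∀ x : G.U, j x ∉ PrimeSpectrum.zeroLocus (I : Set A)) (hcl : IsClosed (PrimeSpectrum.zeroLocus (I : Set A) ∪ Set.range j)) : ∃ h ∈ I, IsAffineOpen (j ⁻¹ᵁ PrimeSpectrum.basicOpen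 h) ∧ (∀ i, u i ∈ j ⁻¹ᵁ PrimeSpectrum.basicOpen h) ∧ G.s ⁻¹ᵁ (j ⁻¹ᵁ PrimeSpectrum.basicOpen h) = G.t ⁻¹ᵁ (j ⁻¹ᵁ PrimeSpectrum.basicOpen h) := by
  let O : Set G.U := ⋃ i, Groth.Agent.H13Grpd.orbit G (u i)
  obtain ⟨h, hI', hA, hO, hinv⟩ := exists_invariant_basicOpen G O
    (Set.finite_iUnion fun i => (G.s.finite_preimage_singleton _).image _)
    (fun x hx => by
      obtain ⟨i, hi⟩ := Set.mem_iUnion.1 hx
      rw [Groth.Agent.H13Grpd.orbit_eq_of_mem G hi]
      exact Set.subset_iUnion (fun i => Groth.Agent.H13Grpd.orbit G (u i)) i)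
    (fun x hx y hy => by
      obtain ⟨i, r, hr, rfl⟩ := Set.mem_iUnion.1 hx
      exact hu i r hr y hy) j I hI hcl
  exact ⟨h, hI', hA, fun i => hO (Set.mem_iUnion.2 ⟨i, Groth.Agent.H13Grpd.self_mem_orbit G _⟩), hinv⟩

end Groth.Agent.S1885
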