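import Groth.Statements.S18854
import Groth.Agent.H26TF1.Fibre

set_option autoImplicit false
universe u
open CategoryTheory CategoryTheory.Limits AlgebraicGeometry
open TFOne

namespace Groth.Agent.S18854

open CategoryTheory.Limits
open Groth.Agent.H06Mod Groth.Agent.H29Omega Groth.Agent.H17.KoszTwist Groth.Agent.H26TF1

/-- Let R be a discrete valuation ring with residue field κ, f : X ⟶ Spec R flat and proper, and X_s its
special fibre, assumed reduced of pure dimension one with geometrically integral irreducible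
components over κ. Let I be a coherent R-flat module on X whose restriction I(s) to X_s is
torsion-free rank-1, E a locally free module of rank r > 0 on X with restriction E(s), and d an
integer with χ(I(s)) = d and deg E(s) = -r·d. For a closed subset T of X_s write I(s)_T for the
torsion-free quotient of I(s) on T (pinned by its defining property) and β(T) := r·χ(I(s)_T) +
deg(E(s)|_T) (the source's β cleared of the denominator r). Let Y be a closed subcurve of X_s (a
non-empty union of irreducible components), and let I^Y be the kernel of the composite I ⟶ i_* I(s)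
⟶ i_* I(s)_Y, with restriction I^Y(s) to X_s and quotients I^Y(s)_T and numbers β^Y(T) :=
r·χ(I^Y(s)_T) + deg(E(s)|_T) defined likewise. Assume that Y ≠ X_s and that Y is the largest closed
subcurve of X_s on which β is minimal (β(Y) ≤ β(T) for every closed subcurve T, and every closed
subcurve T with β(T) = β(Y) lies in Y), and let Y' be the complementary subcurve, the union of the
irreducible components of X_s not contained in Y. Then β^Y(Y) = β(Y) if and only if I^Y(s)
decomposes at Y: the canonical map I^Y(s) ⟶ I^Y(s)_Y ⊞ I^Y(s)_{Y'} to the direct sum of its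
torsion-free quotients (pinned by their defining property) is an isomorphism. (The source takes f
projective and allows Y = X_s, a case excluded here since decomposition is along proper subcurves;
for Y = X_s both sides hold trivially.) -/
theorem result (R : Type u) [CommRing R] [IsDomain R] [IsDiscreteValuationRing R] (X : Scheme.{u}) (f : X ⟶ Spec (CommRingCat.of R)) [Flat f] [IsProper f] (Xs : Scheme.{u}) [Xs.Over (Spec (CommRingCat.of (IsLocalRing.ResidueField R)))] (i : Xs ⟶ X) (hsq : IsPullback i (Xs ↘ Spec (CommRingCat.of (IsLocalRing.ResidueField R))) f (Spec.map (CommRingCat.ofHom (IsLocalRing.residue R)))) [IsReduced Xs] (hpure : ∀ C ∈ irreducibleComponents (Xs : Type u), topologicalKrullDim C = 1) (hgi : ∀ (C : Set Xs) (hC : C ∈ irreducibleComponents (Xs : Type u)), GeometricallyIntegral (VecSt.subschι Xs C (isClosed_of_mem_irreducibleComponents C hC) ≫ (Xs ↘ Spec (CommRingCat.of (IsLocalRing.ResidueField R))))) (I : X.Modules) (hIc : Coh.IsCoh I) (hIf : FlatMod.IsFlatOver f I) (hIs : TFOne.IsTF1 Xs ((Scheme.Modules.pullback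 i).obj I)) (E : X.Modules) (r : ℕ) (hr : 0 < r) (hE : FlatMod.IsFinLocFreeOfRank r E) (d : ℤ) (hχ : Curv2.euler (IsLocalRing.ResidueField R) Xs ((Scheme.Modules.pullback i).obj I) = d) (hEd : Curv2.deg (IsLocalRing.ResidueField R) Xs ((Scheme.Modules.pullback i).obj E) r = -(r : ℤ) * d) (Y : Set Xs) (hY : IsClosed Y) (hYs : VecSt.IsSubcurve Xs Y) (GY : Xs.Modules) (πY : ((Scheme.Modules.pullback i).obj I) ⟶ GY) (hGY : TFOne.IsQuotOn Xs ((Scheme.Modules.pullback i).obj I) Y GY πY) (IY : X.Modules) (hIY : IY = kernel ((Scheme.Modules.pullbackPushforwardAdjunction i).unit.app I ≫ (Scheme.Modules.pushforward i).map πY)) (hYne : Y ≠ Set.univ) (hmin : ∀ (T : Set Xs) (hT : IsClosed T), VecSt.IsSubcurve Xs T → ∀ (G : Xs.Modules) (π : ((Scheme.Modules.pullback i).obj I) ⟶ G), TFOne.IsQuotOn Xs ((Scheme.Modules.pullback i).obj I) T G π → TFOne.rBeta Xs (IsLocalRing.ResidueField R) (Xs ↘ Spec (CommRingCat.of (IsLocalRing.ResidueField R))) Y hY ((Scheme.Modules.pullback i).obj E) r GY ≤ TFOne.rBeta Xs (IsLocalRing.ResidueField R)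 (Xs ↘ Spec (CommRingCat.of (IsLocalRing.ResidueField R))) T hT ((Scheme.Modules.pullback i).obj E) r G) (hmax : ∀ (T : Set Xs) (hT : IsClosed T), VecSt.IsSubcurve Xs T → ∀ (G : Xs.Modules) (π : ((Scheme.Modules.pullback i).obj I) ⟶ G), TFOne.IsQuotOn Xs ((Scheme.Modules.pullback i).obj I) T G π → TFOne.rBeta Xs (IsLocalRing.ResidueField R) (Xs ↘ Spec (CommRingCat.of (IsLocalRing.ResidueField R))) T hT ((Scheme.Modules.pullback i).obj E) r G = TFOne.rBeta Xs (IsLocalRing.ResidueField R) (Xs ↘ Spec (CommRingCat.of (IsLocalRing.ResidueField R))) Y hY ((Scheme.Modules.pullback i).obj E) r GY → T ⊆ Y) (Y' : Set Xs) (hY' : Y' = ⋃₀ {C | C ∈ irreducibleComponents (Xs : Type u) ∧ ¬ C ⊆ Y}) (hY'c : IsClosed Y') (G1 G2 : Xs.Modules) (π1 : ((Scheme.Modules.pullback i).obj IY) ⟶ G1) (π2 : ((Scheme.Modules.pullback i).obj IY) ⟶ G2) (hG1 : TFOne.IsQuotOn Xs ((Scheme.Modules.pullback i).obj IY) Y G1 π1) (hG2 : TFOne.IsQuotOn Xs ((Scheme.Modules.pullback i).obj IY) Y' G2 π2) : TFOne.rBeta Xs (IsLocalRing.ResidueField R) (Xs ↘ Spec (CommRingCat.of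 (IsLocalRing.ResidueField R))) Y hY ((Scheme.Modules.pullback i).obj E) r G1 = TFOne.rBeta Xs (IsLocalRing.ResidueField R) (Xs ↘ Spec (CommRingCat.of (IsLocalRing.ResidueField R))) Y hY ((Scheme.Modules.pullback i).obj E) r GY ↔ IsIso (biprod.lift π1 π2) := by
    obtain ⟨hp, hn⟩ := isNoetherian_fibre f i hsq
    have hdim := dim_le_one hpure
    have hE' := H26Gr.isFinLocFreeOfRank_pullback i hE
    have h0 := bE_self (k := IsLocalRing.ResidueField R) hdim hE' hIs hχ hEd
    haveI := hGY.1
    obtain ⟨a, b, w, hex⟩ := exists_shortExact f _ i hsq I hIf πY IY hIY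
    have hJ' := isTF1_extension hIs hGY a b w hex
    have cY := isCompUnion_of_isSubcurve hY hYs
    obtain ⟨D, hD, hDg, hadd, hiff⟩ := exists_self_defect hIs hGY a b w hex
      (fun η hη => generic_mem_compl_union_iff hη hY hY') hG1 hG2
    have h1 := hadd _ (isAddFn_bE (k := IsLocalRing.ResidueField R) hE')
    have h2 := (bE_defect (k := IsLocalRing.ResidueField R) hdim hE' hr hD hDg).2.1
    rw [rBeta_eq hdim hE' hJ' hY hG1, rBeta_eq hdim hE' hIs hY hGY, ← hiff, ← h2]
    omega

end Groth.Agent.S18854
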