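import Groth.Statements.S18856
import Groth.Agent.H26TF1.Fibre

set_option autoImplicit false
universe u
open CategoryTheory CategoryTheory.Limits AlgebraicGeometry
open TFOne

namespace Groth.Agent.S18856

open CategoryTheory.Limits
open Groth.Agent.H06Mod Groth.Agent.H29Omega Groth.Agent.H17.KoszTwist Groth.Agent.H26TF1

/-- Let R be a discrete valuation ring with residue field κ, f : X ⟶ Spec R flat and proper, and X_s its
special fibre, assumed reduced of pure dimension one with geometrically integral irreducible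
components over κ. Let I be a coherent R-flat module on X whose restriction I(s) to X_s is
torsion-free rank-1, E a locally free module of rank r > 0 on X with restriction E(s), and d an
integer with χ(I(s)) = d and deg E(s) = -r·d. For a closed subset T of X_s write I(s)_T for the
torsion-free quotient of I(s) on T (pinned by its defining property) and β(T) := r·χ(I(s)_T) +
deg(E(s)|_T) (the source's β cleared of the denominator r). Let Y be a closed subcurve of X_s (a
non-empty union of irreducible components), and let I^Y be the kernel of the composite I ⟶ i_* I(s)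
⟶ i_* I(s)_Y, with restriction I^Y(s) to X_s and quotients I^Y(s)_T and numbers β^Y(T) :=
r·χ(I^Y(s)_T) + deg(E(s)|_T) defined likewise. Let Z be a closed subcurve of X_s, W the union of the
irreducible components of X_s contained in Y ∩ Z, Y' the union of the components not contained in Y,
and V the union of the components contained in Z but not in Y (each possibly empty; the torsion-free
quotient on the empty set is 0). Then the inequality β^Y(Z) + β(Y) ≥ β(W) + β(Y ∪ Z) is an equality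
if and only if χ(I^Y(s)_W) + χ(I^Y(s)_{Y'}) − χ(I^Y(s)_{W ∪ Y'}) = χ(I^Y(s)_W) + χ(I^Y(s)_V) −
χ(I^Y(s)_Z), that is δ(W, Y') = δ(W, V) for δ(A, B) := χ(I^Y(s)_A) + χ(I^Y(s)_B) − χ(I^Y(s)_{A ∪ B})
(note W ∪ V = Z). (The source takes f projective.) -/
theorem result (R : Type u) [CommRing R] [IsDomain R] [IsDiscreteValuationRing R] (X : Scheme.{u}) (f : X ⟶ Spec (CommRingCat.of R)) [Flat f] [IsProper f] (Xs : Scheme.{u}) [Xs.Over (Spec (CommRingCat.of (IsLocalRing.ResidueField R)))] (i : Xs ⟶ X) (hsq : IsPullback i (Xs ↘ Spec (CommRingCat.of (IsLocalRing.ResidueField R))) f (Spec.map (CommRingCat.ofHom (IsLocalRing.residue R)))) [IsReduced Xs] (hpure : ∀ C ∈ irreducibleComponents (Xs : Type u), topologicalKrullDim C = 1) (hgi : ∀ (C : Set Xs) (hC : C ∈ irreducibleComponents (Xs : Type u)), GeometricallyIntegral (VecSt.subschι Xs C (isClosed_of_mem_irreducibleComponents C hC) ≫ (Xs ↘ Spec (CommRingCat.of (IsLocalRing.ResidueField R))))) (I : X.Modules)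 (hIc : Coh.IsCoh I) (hIf : FlatMod.IsFlatOver f I) (hIs : TFOne.IsTF1 Xs ((Scheme.Modules.pullback i).obj I)) (E : X.Modules) (r : ℕ) (hr : 0 < r) (hE : FlatMod.IsFinLocFreeOfRank r E) (d : ℤ) (hχ : Curv2.euler (IsLocalRing.ResidueField R) Xs ((Scheme.Modules.pullback i).obj I) = d) (hEd : Curv2.deg (IsLocalRing.ResidueField R) Xs ((Scheme.Modules.pullback i).obj E) r = -(r : ℤ) * d) (Y : Set Xs) (hY : IsClosed Y) (hYs : VecSt.IsSubcurve Xs Y) (GY : Xs.Modules) (πY : ((Scheme.Modules.pullback i).obj I) ⟶ GY) (hGY : TFOne.IsQuotOn Xs ((Scheme.Modules.pullback i).obj I) Y GY πY) (IY : X.Modules) (hIY : IY = kernel ((Scheme.Modules.pullbackPushforwardAdjunction i).unit.app I ≫ (Scheme.Modules.pushforward i).map πY)) (Z W Y' V : Set Xs) (hZ : IsClosed Z) (hZs : VecSt.IsSubcurve Xs Z) (hW : W = ⋃₀ {C | C ∈ irreducibleComponents (Xs : Type u) ∧ C ⊆ Y ∩ Z}) (hWc : IsClosed W) (hY' : Y' = ⋃₀ {C | C ∈ irreducibleComponents (Xs : Type u) ∧ ¬ C ⊆ Y}) (hY'c :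 IsClosed Y') (hV : V = ⋃₀ {C | C ∈ irreducibleComponents (Xs : Type u) ∧ C ⊆ Z ∧ ¬ C ⊆ Y}) (hVc : IsClosed V) (GZ1 G2 G3 G4 G5 : Xs.Modules) (πZ1 : ((Scheme.Modules.pullback i).obj IY) ⟶ GZ1) (π5 : ((Scheme.Modules.pullback i).obj IY) ⟶ G5) (hG5 : TFOne.IsQuotOn Xs ((Scheme.Modules.pullback i).obj IY) W G5 π5) (π2 : ((Scheme.Modules.pullback i).obj IY) ⟶ G2) (π3 : ((Scheme.Modules.pullback i).obj IY) ⟶ G3) (π4 : ((Scheme.Modules.pullback i).obj IY) ⟶ G4) (hGZ1 : TFOne.IsQuotOn Xs ((Scheme.Modules.pullback i).obj IY) Z GZ1 πZ1) (hG2 : TFOne.IsQuotOn Xs ((Scheme.Modules.pullback i).obj IY) Y' G2 π2) (hG3 : TFOne.IsQuotOn Xs ((Scheme.Modules.pullback i).obj IY) (W ∪ Y') G3 π3) (hG4 : TFOne.IsQuotOn Xs ((Scheme.Modules.pullback i).obj IY) V G4 π4) (GW GU : Xs.Modules) (πW : ((Scheme.Modules.pullback i).obj I) ⟶ GW) (πU : ((Scheme.Modules.pullback i).obj I) ⟶ GU) (hGW : TFOne.IsQuotOn Xs ((Scheme.Modules.pullback i).obj I) W GW πW) (hGU : TFOne.IsQuotOn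 Xs ((Scheme.Modules.pullback i).obj I) (Y ∪ Z) GU πU) : TFOne.rBeta Xs (IsLocalRing.ResidueField R) (Xs ↘ Spec (CommRingCat.of (IsLocalRing.ResidueField R))) W hWc ((Scheme.Modules.pullback i).obj E) r GW + TFOne.rBeta Xs (IsLocalRing.ResidueField R) (Xs ↘ Spec (CommRingCat.of (IsLocalRing.ResidueField R))) (Y ∪ Z) (hY.union hZ) ((Scheme.Modules.pullback i).obj E) r GU = TFOne.rBeta Xs (IsLocalRing.ResidueField R) (Xs ↘ Spec (CommRingCat.of (IsLocalRing.ResidueField R))) Z hZ ((Scheme.Modules.pullback i).obj E) r GZ1 + TFOne.rBeta Xs (IsLocalRing.ResidueField R) (Xs ↘ Spec (CommRingCat.of (IsLocalRing.ResidueField R))) Y hY ((Scheme.Modules.pullback i).obj E) r GY ↔ Curv2.euler (IsLocalRing.ResidueField R) Xs G5 + Curv2.euler (IsLocalRing.ResidueField R) Xs G2 - Curv2.euler (IsLocalRing.ResidueField R) Xs G3 = Curv2.euler (IsLocalRing.ResidueField R) Xs G5 + Curv2.euler (IsLocalRing.ResidueField R) Xs G4 - Curv2.euler (IsLocalRing.ResidueField R)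 Xs GZ1 := by
    obtain ⟨hp, hn⟩ := isNoetherian_fibre f i hsq
    have hdim := dim_le_one hpure
    have hE' := H26Gr.isFinLocFreeOfRank_pullback i hE
    have h0 := bE_self (k := IsLocalRing.ResidueField R) hdim hE' hIs hχ hEd
    haveI := hGY.1
    obtain ⟨a, b, w, hex⟩ := exists_shortExact f _ i hsq I hIf πY IY hIY
    have hJ' := isTF1_extension hIs hGY a b w hex
    have cY := isCompUnion_of_isSubcurve hY hYs
    have cW : IsCompUnion W := by rw [hW]; exact isCompUnion_sUnion fun C => C ⊆ Y ∩ Z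
    have hWY : W ⊆ Y := hW ▸ Set.sUnion_subset fun C hC => hC.2.trans Set.inter_subset_left
    have cY' : IsCompUnion Y' := by rw [hY']; exact isCompUnion_sUnion fun C => ¬ C ⊆ Y
    have gY' : ∀ η ∈ genericPoints Xs, η ∈ Y' ↔ η ∉ Y := fun η hη => generic_mem_compl_union_iff hη hY hY'
    obtain ⟨D, hD, hDg, hadd, -, -⟩ := exists_defect hIs hGY a b w hex
      (fun η hη => generic_mem_sUnion_iff hη hY hZ hW) hWY hGZ1 hGW hGU
    -- `W ∪ Y'`
    have hall : ∀ T : Set Xs, IsClosed T → Y' ⊆ T → Y ∪ T = Set.univ := fun T hT hsub => by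
      refine Set.eq_univ_of_forall fun x => ?_
      obtain ⟨η, hη, hηx⟩ := H8Props.exists_genericPoints_specializes x
      by_cases hy : η ∈ Y
      · exact Or.inl (hηx.mem_closed hY hy)
      · exact Or.inr (hηx.mem_closed hT (hsub ((gY' η hη).2 hy)))
    obtain ⟨D3, hD3, hD3g, hadd3, -, hz3⟩ := exists_defect hIs hGY a b w hex (W := W) (Z := W ∪ Y')
      (fun η hη => ⟨fun h => ⟨hWY h, Or.inl h⟩, fun h => h.2.resolve_right fun hy => (gY' η hη).1 hy h.1⟩)
      hWY hG3 hGW (show TFOne.IsQuotOn Xs _ (Y ∪ (W ∪ Y')) _ (𝟙 _) from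
        (hall _ (hWc.union hY'c) Set.subset_union_right).symm ▸ isQuotOn_univ hIs)
    have hD30 := hz3 fun η hη => (em (η ∈ Y)).imp id fun h => Or.inr ((gY' η hη).2 h)
    -- `Y'`
    obtain ⟨G0, π0, hG0⟩ := exists_isQuotOn hIs (isCompUnion_empty (X := Xs))
    obtain ⟨D2, hD2, hD2g, hadd2, hz2, -⟩ := exists_defect hIs hGY a b w hex (W := ∅) (Z := Y')
      (fun η hη => ⟨fun h => h.elim, fun h => ((gY' η hη).1 h.2 h.1).elim⟩) (Set.empty_subset _)
      hG2 hG0 (show TFOne.IsQuotOn Xs _ (Y ∪ Y') _ (𝟙 _) from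
        (hall _ hY'c subset_rfl).symm ▸ isQuotOn_univ hIs)
    -- `V`
    have hVY : ∀ η ∈ genericPoints Xs, η ∈ V ↔ η ∈ Z ∧ η ∉ Y := fun η hη => by
      subst hV
      constructor
      · rintro ⟨C, ⟨hC, hCZ, hCY⟩, hηC⟩
        exact ⟨hCZ hηC, (gY' η hη).1 (hY'.symm ▸ ⟨C, ⟨hC, hCY⟩, hηC⟩)⟩
      · rintro ⟨hz, hy⟩
        exact ⟨closure {η}, ⟨hη, closure_minimal (Set.singleton_subset_iff.2 hz) hZ,
          fun hc => hy (hc (subset_closure rfl))⟩, subset_closure rfl⟩
    have hUV : Y ∪ V = Y ∪ Z := by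
      refine Set.Subset.antisymm (Set.union_subset_union_right _ ?_) ?_
      · rw [hV]; exact Set.sUnion_subset fun C hC => hC.2.1
      · rintro x (hx | hx)
        · exact Or.inl hx
        obtain ⟨η, hη, hηZ, hηx⟩ := (isCompUnion_of_isSubcurve hZ hZs).2 x hx
        by_cases hy : η ∈ Y
        · exact Or.inl (hηx.mem_closed hY hy)
        · exact Or.inr (hηx.mem_closed hVc ((hVY η hη).2 ⟨hηZ, hy⟩))
    obtain ⟨D4, hD4, hD4g, hadd4, hz4, -⟩ := exists_defect hIs hGY a b w hex (W := ∅) (Z := V)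
      (fun η hη => ⟨fun h => h.elim, fun h => (((hVY η hη).1 h.2).2 h.1).elim⟩) (Set.empty_subset _)
      hG4 hG0 (show TFOne.IsQuotOn Xs _ (Y ∪ V) _ _ from hUV.symm ▸ hGU)
    have hχ' := isAddFn_euler (k := IsLocalRing.ResidueField R) (X := Xs)
    have hB := isAddFn_bE (k := IsLocalRing.ResidueField R) hE'
    have e1 := hadd _ hχ'
    have e2 := hadd2 _ hχ'
    have e3 := hadd3 _ hχ'
    have e4 := hadd4 _ hχ'
    have b1 := hadd _ hB
    have z0 := hχ'.zero (isZero_of_isQuotOn_empty hG0)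
    have z2 := hχ'.zero (hz2 rfl)
    have z3 := hχ'.zero hD30
    have z4 := hχ'.zero (hz4 rfl)
    obtain ⟨-, hDB, hDχ⟩ := bE_defect (k := IsLocalRing.ResidueField R) hdim hE' hr hD hDg
    rw [rBeta_eq hdim hE' hIs hWc hGW, rBeta_eq hdim hE' hIs (hY.union hZ) hGU,
      rBeta_eq hdim hE' hJ' hZ hGZ1, rBeta_eq hdim hE' hIs hY hGY]
    refine ⟨fun h => ?_, fun h => ?_⟩
    · have := hDχ.2 (hDB.1 (by omega))
      omega
    · have := hDB.2 (hDχ.1 (by omega))
      omega

end Groth.Agent.S18856
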