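import Groth.Statements.S18857
import Groth.Agent.H26TF1.TowerSys
import Groth.Agent.H26TF1.TowerFib

set_option autoImplicit false
universe u
open CategoryTheory CategoryTheory.Limits AlgebraicGeometry
open TFOne

namespace Groth.Agent.S18857

/-- Let R be a complete discrete valuation ring with residue field κ, f : X ⟶ Spec R flat and proper,
and X_s its special fibre (a cartesian square over Spec κ ⟶ Spec R with top arrow i), assumed
reduced of pure dimension one with geometrically integral irreducible components over κ. Let Y ≠ X_s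
be a closed subcurve of X_s (a non-empty union of irreducible components) and Y' the union of the
components not contained in Y. Let I^0 ⊇ I^1 ⊇ I^2 ⊇ ⋯ be modules on X, I^0 coherent and R-flat with
torsion-free rank-1 restriction to X_s, such that for every n the module I^{n+1} is the kernel of
the composite I^n ⟶ i_* I^n(s) ⟶ i_* I^n(s)_Y, where I^n(s) is the restriction of I^n to X_s and
I^n(s)_Y its torsion-free quotient on Y (pinned by its defining property). Suppose that every I^n(s)
decomposes at Y: the canonical map I^n(s) ⟶ I^n(s)_Y ⊞ I^n(s)_{Y'} is an isomorphism. Then there are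
a module F on X, flat over Spec R, and an epimorphism p : I^0 ⟶ F whose restriction to X_s
identifies F(s), as a quotient of I^0(s), with I^0(s)_Y. (The source takes f projective and allows Y
= X_s, a case excluded here; it is trivial with F = I^0.) -/
theorem result (R : Type u) [CommRing R] [IsDomain R] [IsDiscreteValuationRing R] (X : Scheme.{u}) (f : X ⟶ Spec (CommRingCat.of R)) [Flat f] [IsProper f] (Xs : Scheme.{u}) [Xs.Over (Spec (CommRingCat.of (IsLocalRing.ResidueField R)))] (i : Xs ⟶ X) (hsq : IsPullback i (Xs ↘ Spec (CommRingCat.of (IsLocalRing.ResidueField R))) f (Spec.map (CommRingCat.ofHom (IsLocalRing.residue R)))) [IsReduced Xs] (hpure : ∀ C ∈ irreducibleComponents (Xs : Type u), topologicalKrullDim C = 1) (hgi : ∀ (C : Set Xs) (hC : C ∈ irreducibleComponents (Xs : Type u)), GeometricallyIntegral (VecSt.subschι Xs C (isClosed_of_mem_irreducibleComponents C hC) ≫ (Xs ↘ Spec (CommRingCat.of (IsLocalRing.ResidueField R))))) [IsAdicComplete (IsLocalRing.maximalIdeal R) R] (In : ℕ → X.Modules) (hIc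 : Coh.IsCoh (In 0)) (hIf : FlatMod.IsFlatOver f (In 0)) (hIs : TFOne.IsTF1 Xs ((Scheme.Modules.pullback i).obj (In 0))) (Y : Set Xs) (hY : IsClosed Y) (hYs : VecSt.IsSubcurve Xs Y) (hYne : Y ≠ Set.univ) (Y' : Set Xs) (hY' : Y' = ⋃₀ {C | C ∈ irreducibleComponents (Xs : Type u) ∧ ¬ C ⊆ Y}) (hY'c : IsClosed Y') (G G' : ℕ → Xs.Modules) (π : ∀ n : ℕ, ((Scheme.Modules.pullback i).obj (In n)) ⟶ G n) (π' : ∀ n : ℕ, ((Scheme.Modules.pullback i).obj (In n)) ⟶ G' n) (hG : ∀ n : ℕ, TFOne.IsQuotOn Xs ((Scheme.Modules.pullback i).obj (In n)) Y (G n) (π n)) (hG' : ∀ n : ℕ, TFOne.IsQuotOn Xs ((Scheme.Modules.pullback i).obj (In n)) Y' (G' n) (π' n)) (hstep : ∀ n : ℕ, In (n + 1) = kernel ((Scheme.Modules.pullbackPushforwardAdjunction i).unit.app (In n) ≫ (Scheme.Modules.pushforward i).map (π n))) (hdec : ∀ n : ℕ, IsIso (biprod.lift (π n) (π' n))) : ∃ (F : X.Modules) (p : In 0 ⟶ F), Epi p ∧ FlatMod.IsFlatOver f F ∧ ∃ e : (Scheme.Modules.pullback i).obj F ≅ G 0, (Scheme.Modules.pullback i).map p ≫ e.hom = π 0 := by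
    open Groth.Agent.H26TF1 Groth.Agent.H06Mod Groth.Agent.H29Omega Groth.Agent.H17.KoszTwist in
    letI : X.Over (Spec (CommRingCat.of R)) := ⟨f⟩
    letI := fun (x : X) (M : X.Modules) => Groth.Agent.H24Quot.stkModule (R := R) M x
    obtain ⟨-, hnoeth⟩ := isNoetherian_fibre f i hsq
    haveI := hnoeth
    haveI : IsLocallyNoetherian X := LocallyOfFiniteType.isLocallyNoetherian f
    haveI : IsClosedImmersion i := isClosedImmersion_fibre (X := X) hsq
    haveI : IsProper (X ↘ Spec (CommRingCat.of R)) := ‹IsProper f›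
    obtain ⟨ϖ, hirr⟩ := IsDiscreteValuationRing.exists_irreducible R
    have hp := hirr.maximalIdeal_eq
    haveI hπe : ∀ n, Epi (π n) := fun n => (hG n).1
    have hYY' : ∀ η ∈ genericPoints Xs, η ∈ Y' ↔ η ∉ Y := fun η hη => generic_mem_compl_union_iff hη hY hY'
    have hall : ∀ n, Coh.IsCoh (In n) ∧ FlatMod.IsFlatOver f (In n) ∧
        TFOne.IsTF1 Xs ((Scheme.Modules.pullback i).obj (In n)) := by
      intro n
      induction n with
      | zero => exact ⟨hIc, hIf, hIs⟩
      | succ n ih =>
        obtain ⟨a, b, w, hex⟩ := exists_shortExact f _ i hsq (In n) ih.2.1 (π n) (In (n + 1)) (hstep n)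
        exact ⟨isCoh_step (hstep n) ih.1 (hG n).2.1, isFlatOver_step hsq hp (hstep n) ih.2.1 hirr,
          isTF1_extension ih.2.2 (hG n) a b w hex⟩
    obtain ⟨M, φ, -, hφe, hflat, hφ⟩ := exists_algebraisation hp In (fun n => stepι (hstep n)) (fun n => (hall n).1)
      (fun n x z => exists_stepι_smul hsq hp (hstep n) x z)
      (fun n => (step_facts hsq hp hirr hYY' (hall n).2.1 (hall n).2.2 (hall (n + 1)).2.2 (hG n) (hG' (n + 1))
        (hdec (n + 1)) (hstep n) (hstep (n + 1))).1)
      (fun n => (step_facts hsq hp hirr hYY' (hall n).2.1 (hall n).2.2 (hall (n + 1)).2.2 (hG n) (hG' (n + 1))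
        (hdec (n + 1)) (hstep n) (hstep (n + 1))).2)
    refine ⟨M, φ, hφe, hflat, ?_⟩
    have key : ∀ (v : Xs) (a : ((Scheme.Modules.pullback i).obj (In 0)).presheaf.stalk v),
        stalkLin ((Scheme.Modules.pullback i).map φ) v a = 0 ↔ stalkLin (π 0) v a = 0 := by
      intro v a
      obtain ⟨z, rfl⟩ := Groth.Agent.H24Quot.pullStalk_surjective i (In 0) v a
      rw [show stalkLin ((Scheme.Modules.pullback i).map φ) v (pullStalk i (In 0) v z) =
        pullStalk i M v (stalkLin φ (i v) z) from pullStalk_naturality i _ v φ z,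
        pullStalk_eq_zero_iff_smul hsq hp M v, hφ, exists_stepι_iff_pullStalk]
    have h1 : kernel.ι ((Scheme.Modules.pullback i).map φ) ≫ π 0 = 0 := eq_zero_of_stalkLin _ fun v a => by
      rw [stalkLin_comp, ← key, ← stalkLin_comp, kernel.condition]
      exact stalkLin_zero _ _
    have h2 : kernel.ι (π 0) ≫ (Scheme.Modules.pullback i).map φ = 0 := eq_zero_of_stalkLin _ fun v a => by
      rw [stalkLin_comp, key, ← stalkLin_comp, kernel.condition]
      exact stalkLin_zero _ _
    haveI : Epi ((Scheme.Modules.pullback i).map φ) :=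
      haveI := (Scheme.Modules.pullbackPushforwardAdjunction i).leftAdjoint_preservesColimits
      inferInstance
    refine ⟨⟨Abelian.epiDesc _ (π 0) h1, Abelian.epiDesc _ ((Scheme.Modules.pullback i).map φ) h2, ?_, ?_⟩,
      Abelian.comp_epiDesc _ _ _⟩
    · rw [← cancel_epi ((Scheme.Modules.pullback i).map φ), Category.comp_id, ← Category.assoc, Abelian.comp_epiDesc,
        Abelian.comp_epiDesc]
    · rw [← cancel_epi (π 0), Category.comp_id, ← Category.assoc, Abelian.comp_epiDesc, Abelian.comp_epiDesc]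

end Groth.Agent.S18857
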