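import Groth.Statements.S18858
import Groth.Agent.H18Torsor.Glue

set_option autoImplicit false
universe u
open CategoryTheory MonoidalCategory CartesianMonoidalCategory MonObj GrpObj AlgebraicGeometry
open NonAbH1

namespace Groth.Agent.S18858

/-- Let S be a scheme, G a group scheme over S and X, X' two G-torsors over S for the fpqc topology
(pseudo-torsors under G acquiring sections on the members of some fpqc covering family of S). Then
every G-equivariant S-morphism f : X → X' is an isomorphism; so the category of G-torsors over S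
with equivariant morphisms is a groupoid. (The source takes for G the base change to a scheme over a
field of a group scheme over that field; the statement and its meaning are unchanged for an
arbitrary group scheme over the base.) -/
theorem result {S : Scheme.{u}} {G X X' : Over S} [GrpObj G]
    (a : AlgGrp.Action G X) (a' : AlgGrp.Action G X')
    (ha : NonAbH1.IsTorsorFor Scheme.fpqcPrecoverage a)
    (ha' : NonAbH1.IsTorsorFor Scheme.fpqcPrecoverage a')
    (f : X ⟶ X') (hf : AlgGrp.Action.IsEquivariant a a' f) : IsIso f := by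
  open CartesianMonoidalCategory MonoidalCategory in
  obtain ⟨hps, R, hR, hsec⟩ := ha
  have heq : ∀ {W : Over S} (g : W ⟶ G) (x : W ⟶ X), H18Torsor.smul a g x ≫ f = H18Torsor.smul a' g (x ≫ f) := by
    intro W g x
    simp only [H18Torsor.smul, Category.assoc]
    rw [show a.act ≫ f = (G ◁ f) ≫ a'.act from hf, ← Category.assoc]
    refine congrArg (· ≫ a'.act) ?_
    apply CartesianMonoidalCategory.hom_ext <;> simp
  refine H18Torsor.isIso_of_bijective R hR f fun W hW => ?_
  obtain ⟨S', k, m, hm, hk⟩ := hW
  obtain ⟨s, hs⟩ := hsec m hm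
  let t : W ⟶ X := Over.homMk (k ≫ s) (by rw [Category.assoc, hs, hk])
  refine ⟨fun x₁ x₂ e => ?_, fun y => ?_⟩
  · obtain ⟨g₁, hg₁, -⟩ := H18Torsor.existsUnique_smul a hps t x₁
    obtain ⟨g₂, hg₂, -⟩ := H18Torsor.existsUnique_smul a hps t x₂
    have e1 : H18Torsor.smul a' g₁ (t ≫ f) = x₁ ≫ f := by rw [← heq, hg₁]
    have e2 : H18Torsor.smul a' g₂ (t ≫ f) = x₁ ≫ f := by rw [← heq, hg₂]; exact e.symm
    rw [← hg₁, ← hg₂, (H18Torsor.existsUnique_smul a' ha'.1 (t ≫ f) (x₁ ≫ f)).unique e1 e2]
  · obtain ⟨g, hg, -⟩ := H18Torsor.existsUnique_smul a' ha'.1 (t ≫ f) y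
    exact ⟨H18Torsor.smul a g t, (heq g t).trans hg⟩

end Groth.Agent.S18858
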