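import Groth.Statements.S18859
import Groth.Agent.H18Torsor.Glue
import Mathlib.AlgebraicGeometry.AffineSpace

set_option autoImplicit false
universe u
open CategoryTheory MonoidalCategory CartesianMonoidalCategory MonObj GrpObj AlgebraicGeometry
open NonAbH1

namespace Groth.Agent.S18859

/-- Let S be a scheme, G a group scheme over S and X → S a G-torsor for the fpqc topology (a
pseudo-torsor under G acquiring sections on the members of some fpqc covering family of S). Then the
functions on S are the G-invariant functions on X: the ring map Γ(S, O_S) → Γ(X, O_X) is injective,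
and a global function s on X lies in its image if and only if the pullbacks of s to G ×_S X along
the action morphism and along the second projection coincide. (The source works over a scheme of
finite type over a field with G the base change of an affine group scheme over that field and states
the equality O_S = (O_X)^G as sheaves on S; applied to the restriction of the torsor over each open
of S, the present global form is that equality.) -/
theorem result {S : Scheme.{u}} {G X : Over S}
    [GrpObj G] (a : AlgGrp.Action G X) (ha : NonAbH1.IsTorsorFor Scheme.fpqcPrecoverage a) :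
    Function.Injective X.hom.appTop.hom ∧
      ∀ s : Γ(X.left, ⊤), s ∈ Set.range X.hom.appTop.hom ↔
        a.act.left.appTop.hom s = (CartesianMonoidalCategory.snd G X).left.appTop.hom s := by
  open CartesianMonoidalCategory MonoidalCategory in
  obtain ⟨hps, R, hR, hsec⟩ := ha
  let A : Scheme.{u} := Spec (CommRingCat.of (MvPolynomial PUnit.{u+1} (ULift.{u} ℤ)))
  let eA := Scheme.ΓSpecIso (CommRingCat.of (MvPolynomial PUnit.{u+1} (ULift.{u} ℤ)))
  let T := eA.inv.hom (MvPolynomial.X PUnit.unit)
  have key : ∀ {Y : Scheme.{u}} (φ : Γ(Y, ⊤)), ∃ F : Y ⟶ A, F.appTop.hom T = φ := by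
    intro Y φ
    let ev : CommRingCat.of (MvPolynomial PUnit.{u+1} (ULift.{u} ℤ)) ⟶ Γ(Y, ⊤) :=
      CommRingCat.ofHom (MvPolynomial.eval₂Hom ((Int.castRingHom _).comp ULift.ringEquiv.toRingHom) fun _ => φ)
    refine ⟨Y.toSpecΓ ≫ Spec.map ev, ?_⟩
    have e : (Y.toSpecΓ ≫ Spec.map ev).appTop = eA.hom ≫ ev := by
      rw [Scheme.Hom.comp_appTop, Scheme.toSpecΓ_appTop]
      exact Scheme.ΓSpecIso_naturality ev
    rw [e]
    show ev.hom (eA.hom.hom (eA.inv.hom (MvPolynomial.X PUnit.unit))) = φ
    rw [show eA.hom.hom (eA.inv.hom (MvPolynomial.X PUnit.unit)) = MvPolynomial.X PUnit.unit from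
      eA.commRingCatIsoToRingEquiv.apply_symm_apply _]
    exact MvPolynomial.eval₂Hom_X' _ _ _
  have huniv : ∀ {Y : Scheme.{u}} (F F' : Y ⟶ A), F.appTop.hom T = F'.appTop.hom T → F = F' := by
    intro Y F F' h
    have e : eA.inv ≫ F.appTop = eA.inv ≫ F'.appTop := by
      refine CommRingCat.hom_ext (MvPolynomial.ringHom_ext (fun n => ?_) fun i => h)
      obtain ⟨n⟩ := n
      exact congrFun (congrArg DFunLike.coe (RingHom.ext_int
        (((eA.inv ≫ F.appTop).hom.comp MvPolynomial.C).comp ULift.ringEquiv.symm.toRingHom)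
        (((eA.inv ≫ F'.appTop).hom.comp MvPolynomial.C).comp ULift.ringEquiv.symm.toRingHom))) n
    exact ext_of_isAffine ((cancel_epi eA.inv).mp e)
  have hgen : ∀ (s : Γ(X.left, ⊤)), a.act.left.appTop.hom s = (snd G X).left.appTop.hom s →
      ∃! r : Γ(S, ⊤), X.hom.appTop.hom r = s := by
    intro s hs
    obtain ⟨F, hFs⟩ := key s
    have hinv : a.act.left ≫ F = (snd G X).left ≫ F := by
      refine huniv _ _ ?_
      rw [Scheme.Hom.comp_appTop, Scheme.Hom.comp_appTop, CommRingCat.comp_apply, CommRingCat.comp_apply, hFs]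
      exact hs
    have hwd : ∀ {W : Over S} (x y : W ⟶ X), x.left ≫ F = y.left ≫ F := by
      intro W x y
      obtain ⟨g, hg, -⟩ := H18Torsor.existsUnique_smul a hps x y
      rw [← hg, H18Torsor.smul, Over.comp_left, Category.assoc, hinv, ← Category.assoc, ← Over.comp_left, lift_snd]
    have hsm : ∀ {W : Scheme.{u}} (w : W ⟶ S), H18Torsor.IsSmall R w → ∃ x : W ⟶ X.left, x ≫ X.hom = w := by
      rintro W w ⟨S', k, m, hm, rfl⟩
      obtain ⟨t, ht⟩ := hsec m hm
      exact ⟨k ≫ t, by rw [Category.assoc, ht]⟩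
    choose σ hσ using @hsm
    obtain ⟨M, hM, hMu⟩ := H18Torsor.existsUnique_glue R hR (Z := A) (𝟙 S)
      (fun w hw => σ (w ≫ 𝟙 S) hw ≫ F) fun g w hw hw' => by
        rw [← Category.assoc]
        exact hwd (W := Over.mk ((g ≫ w) ≫ 𝟙 S)) (Over.homMk (σ _ hw') (hσ _ _))
          (Over.homMk (g ≫ σ _ hw) (by simp [hσ]))
    have hXM : X.hom ≫ M = F := by
      obtain ⟨N, -, hNu⟩ := H18Torsor.existsUnique_glue R hR (Z := A) X.hom (fun w _ => w ≫ F)
        fun g w _ _ => Category.assoc _ _ _
      refine (hNu _ fun w hw => ?_).trans (hNu F fun w hw => rfl).symm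
      have hw' : H18Torsor.IsSmall R ((w ≫ X.hom) ≫ 𝟙 S) := by rwa [Category.comp_id]
      rw [← Category.assoc, hM (w ≫ X.hom) hw']
      exact hwd (W := Over.mk ((w ≫ X.hom) ≫ 𝟙 S)) (Over.homMk (σ _ hw') (hσ _ _)) (Over.homMk w (by simp))
    refine ⟨M.appTop.hom T, ?_, fun r hr => ?_⟩
    · show X.hom.appTop.hom (M.appTop.hom T) = s
      rw [← CommRingCat.comp_apply, ← Scheme.Hom.comp_appTop, hXM, hFs]
    · obtain ⟨K, hKr⟩ := key r
      have hXK : X.hom ≫ K = F := huniv _ _ (by
        show (X.hom ≫ K).appTop.hom T = F.appTop.hom T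
        rw [Scheme.Hom.comp_appTop, CommRingCat.comp_apply, hKr, hFs, hr])
      have : K = M := hMu K fun w hw => by
        show w ≫ K = σ (w ≫ 𝟙 S) hw ≫ F
        rw [← hXK, ← Category.assoc, hσ, Category.comp_id]
      rw [← hKr, this]
  refine ⟨fun r r' h => ?_, fun s => ⟨?_, fun hs => (hgen s hs).exists⟩⟩
  · have hi : a.act.left.appTop.hom (X.hom.appTop.hom r) = (snd G X).left.appTop.hom (X.hom.appTop.hom r) := by
      rw [← CommRingCat.comp_apply, ← CommRingCat.comp_apply, ← Scheme.Hom.comp_appTop, ← Scheme.Hom.comp_appTop,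
        Over.w, Over.w]
    exact (hgen _ hi).unique rfl h.symm
  · rintro ⟨r, rfl⟩
    rw [← CommRingCat.comp_apply, ← CommRingCat.comp_apply, ← Scheme.Hom.comp_appTop, ← Scheme.Hom.comp_appTop,
      Over.w, Over.w]

end Groth.Agent.S18859
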