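import Groth.Statements.S1886
import Groth.Agent.H19Grp.GrpdBasic
import Groth.Agent.H19Grp.Diagonal
import Mathlib

set_option autoImplicit false
universe u
open CategoryTheory CategoryTheory.Limits AlgebraicGeometry
open Grpd

namespace Groth.Agent.S1886
open Groth.Agent.H19Grp

/-- The diagonal of j is a base change of the unit of the stabilizer. -/
theorem isPullback_diagonal_j {S : Scheme.{u}} (G : GroupoidScheme S) :
    ∃ h : pullback G.j G.j ⟶ G.stabilizer, IsPullback (pullback.diagonal G.j) G.s h G.eStab := by
  let a := pullback.fst G.j G.j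
  let b := pullback.snd G.j G.j
  have hab : a ≫ G.j = b ≫ G.j := pullback.condition
  have hjt : G.j ≫ pullback.fst G.pU G.pU = G.t := pullback.lift_fst _ _ _
  have hjs : G.j ≫ pullback.snd G.pU G.pU = G.s := pullback.lift_snd _ _ _
  have hdf : G.diag ≫ pullback.fst G.pU G.pU = 𝟙 _ := pullback.lift_fst _ _ _
  have hds : G.diag ≫ pullback.snd G.pU G.pU = 𝟙 _ := pullback.lift_snd _ _ _
  have hef : G.eStab ≫ pullback.fst G.j G.diag = G.e := pullback.lift_fst _ _ _
  have hes : G.eStab ≫ pullback.snd G.j G.diag = 𝟙 _ := pullback.lift_snd _ _ _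
  have ht : a ≫ G.t = b ≫ G.t := by
    have := congr($hab ≫ pullback.fst G.pU G.pU)
    simp only [Category.assoc, hjt] at this
    exact this
  have hs : a ≫ G.s = b ≫ G.s := by
    have := congr($hab ≫ pullback.snd G.pU G.pU)
    simp only [Category.assoc, hjs] at this
    exact this
  let m := mulR G (invR G a) b ((invR_s G a).trans ht)
  let h : pullback G.j G.j ⟶ G.stabilizer := pullback.lift m (a ≫ G.s) (by
    apply pullback.hom_ext
    · rw [Category.assoc, Category.assoc, hjt, hdf, Category.comp_id]
      exact (mulR_t G _ _ _).trans (invR_t G a)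
    · rw [Category.assoc, Category.assoc, hjs, hds, Category.comp_id]
      exact (mulR_s G _ _ _).trans hs.symm)
  refine ⟨h, ?_⟩
  have e1 : pullback.diagonal G.j ≫ a = 𝟙 _ := pullback.diagonal_fst _
  have e2 : pullback.diagonal G.j ≫ b = 𝟙 _ := pullback.diagonal_snd _
  have hhf : h ≫ pullback.fst G.j G.diag = m := pullback.lift_fst _ _ _
  have hhs : h ≫ pullback.snd G.j G.diag = a ≫ G.s := pullback.lift_snd _ _ _
  have hw : pullback.diagonal G.j ≫ h = G.s ≫ G.eStab := by
    apply pullback.hom_ext
    · refine (Category.assoc _ _ _).trans (Eq.trans ?_ (Category.assoc _ _ _).symm)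
      erw [hhf, hef]
      show pullback.diagonal G.j ≫ mulR G (invR G a) b _ = _
      rw [comp_mulR, mulR_congr G (show pullback.diagonal G.j ≫ invR G a = invR G (𝟙 _) by
        rw [comp_invR, e1]) e2]
      simpa [invR, mulR] using G.i_comp (𝟙 G.R)
    · refine (Category.assoc _ _ _).trans (Eq.trans ?_ (Category.assoc _ _ _).symm)
      erw [hhs, hes]
      rw [reassoc_of% e1, Category.comp_id]
  refine ⟨⟨hw⟩, ⟨PullbackCone.IsLimit.mk _ (fun z => z.fst ≫ a) ?_ ?_ ?_⟩⟩
  · intro z
    have hz1 := congr($(z.condition) ≫ pullback.fst G.j G.diag)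
    have hz2 := congr($(z.condition) ≫ pullback.snd G.j G.diag)
    simp only [Category.assoc] at hz1 hz2
    erw [hhf, hef] at hz1
    erw [hhs, hes, Category.comp_id] at hz2
    apply pullback.hom_ext
    · rw [Category.assoc, e1]; exact Category.comp_id _
    · rw [Category.assoc, e2]
      refine (Category.comp_id _).trans ?_
      have hm : mulR G (z.fst ≫ invR G a) (z.fst ≫ b) (by
          rw [comp_invR, invR_s]; simp only [Category.assoc]; rw [ht]) = z.snd ≫ G.e :=
        (comp_mulR G z.fst _ _ _).symm.trans hz1
      have hc := mulR_invR_cancel G (z.fst ≫ a) (z.fst ≫ b) (by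
        simp only [Category.assoc]; rw [ht])
      rw [mulR_congr G rfl ((mulR_congr G (comp_invR G z.fst a).symm rfl _).trans hm)] at hc
      refine Eq.trans ?_ hc
      have he : z.snd ≫ G.e = (z.fst ≫ a) ≫ G.s ≫ G.e := by
        rw [← hz2]; simp only [Category.assoc]
      rw [mulR_congr G rfl he]
      exact (G.comp_e (z.fst ≫ a)).symm
  · intro z
    have hz2 := congr($(z.condition) ≫ pullback.snd G.j G.diag)
    simp only [Category.assoc] at hz2
    erw [hhs, hes, Category.comp_id] at hz2
    rw [Category.assoc]
    exact hz2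
  · intro z m' h1 h2
    rw [← h1, Category.assoc, e1]
    exact (Category.comp_id _).symm

/-- A section is a base change of the diagonal. -/
theorem eStab_of_diagonal {S : Scheme.{u}} (G : GroupoidScheme S) (P : MorphismProperty Scheme.{u})
    [P.IsStableUnderBaseChange] (h : P (pullback.diagonal G.stabilizerToU)) : P G.eStab :=
  P.of_isPullback (H19Grp.isPullback_section G.stabilizerToU G.eStab (pullback.lift_snd _ _ _)).flip h

theorem diagonal_of_eStab {S : Scheme.{u}} (G : GroupoidScheme S) (P : MorphismProperty Scheme.{u})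
    [P.IsStableUnderBaseChange] (h : P G.eStab) : P (pullback.diagonal G.j) := by
  obtain ⟨q, hq⟩ := isPullback_diagonal_j G
  exact P.of_isPullback hq.flip h


/-- Let (U, R, s, t, c) be a groupoid scheme over S with stabilizer group scheme G → U and identity
section e : U → G. Then j = (t, s) : R → U ×_S U is separated iff G → U is separated iff e is a
closed immersion; and j is quasi-separated iff G → U is quasi-separated iff e is quasi-compact. (A
groupoid scheme carries U, R, s, t, c, e, i over S with the groupoid axioms on T-points; 'finite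
locally free' is finite, flat and locally of finite presentation; C ⊂ Γ(U) is the ring of functions
a with s♯(a) = t♯(a) and M = Spec C.) -/
theorem result (S : Scheme.{u}) (G : Grpd.GroupoidScheme S) : ((IsSeparated G.j ↔ IsSeparated G.stabilizerToU) ∧ (IsSeparated G.stabilizerToU ↔ IsClosedImmersion G.eStab)) ∧ ((QuasiSeparated G.j ↔ QuasiSeparated G.stabilizerToU) ∧ (QuasiSeparated G.stabilizerToU ↔ QuasiCompact G.eStab)) := by
  have h1 : IsSeparated G.j → IsSeparated G.stabilizerToU := fun h =>
    inferInstanceAs (IsSeparated (pullback.snd G.j G.diag))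
  have h2 : IsSeparated G.stabilizerToU → IsClosedImmersion G.eStab := fun h =>
    eStab_of_diagonal G @IsClosedImmersion h.1
  have h3 : IsClosedImmersion G.eStab → IsSeparated G.j := fun h =>
    ⟨diagonal_of_eStab G @IsClosedImmersion h⟩
  have q1 : QuasiSeparated G.j → QuasiSeparated G.stabilizerToU := fun h =>
    inferInstanceAs (QuasiSeparated (pullback.snd G.j G.diag))
  have q2 : QuasiSeparated G.stabilizerToU → QuasiCompact G.eStab := fun h =>
    eStab_of_diagonal G @QuasiCompact h.1
  have q3 : QuasiCompact G.eStab → QuasiSeparated G.j := fun h =>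
    ⟨diagonal_of_eStab G @QuasiCompact h⟩
  exact ⟨⟨⟨h1, fun h => h3 (h2 h)⟩, ⟨h2, fun h => h1 (h3 h)⟩⟩,
    ⟨⟨q1, fun h => q3 (q2 h)⟩, ⟨q2, fun h => q1 (q3 h)⟩⟩⟩

end Groth.Agent.S1886
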