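import Groth.Statements.S18863
import Groth.Agent.H14TorLim.GrpLim
import Groth.Agent.H14TorLim.FlatLim
import Groth.Agent.H18Torsor.Basic
import Groth.Agent.H18Descent.Basic
import Groth.Agent.S2151

set_option autoImplicit false
universe u
open CategoryTheory CategoryTheory.Limits MonoidalCategory CartesianMonoidalCategory MonObj GrpObj AlgebraicGeometry
open NonAbH1

namespace Groth.Agent.S18863

/-- A levelwise isomorphism between products of limit cones. -/
theorem isIso_of_levels {C : Type*} [Category C] [CartesianMonoidalCategory C] {J : Type*} [Category J]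
    {A B : J ⥤ C} (cA : Cone A) (cB : Cone B) (hA : IsLimit cA) (hB : IsLimit cB)
    (θ : cA.pt ⊗ cB.pt ⟶ cB.pt ⊗ cB.pt) (θi : ∀ i, A.obj i ⊗ B.obj i ⟶ B.obj i ⊗ B.obj i)
    [∀ i, IsIso (θi i)]
    (hnat : ∀ ⦃i j : J⦄ (φ : i ⟶ j), θi i ≫ (B.map φ ⊗ₘ B.map φ) = (A.map φ ⊗ₘ B.map φ) ≫ θi j)
    (hθ : ∀ i, θ ≫ (cB.π.app i ⊗ₘ cB.π.app i) = (cA.π.app i ⊗ₘ cB.π.app i) ≫ θi i) : IsIso θ := by
  let p : ∀ i, cB.pt ⊗ cB.pt ⟶ A.obj i ⊗ B.obj i := fun i => (cB.π.app i ⊗ₘ cB.π.app i) ≫ inv (θi i)
  have hp : ∀ ⦃i j : J⦄ (φ : i ⟶ j), p i ≫ (A.map φ ⊗ₘ B.map φ) = p j := fun i j φ => by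
    dsimp only [p]
    rw [← cancel_mono (θi j)]
    simp only [Category.assoc, IsIso.inv_hom_id, Category.comp_id]
    rw [← hnat, IsIso.inv_hom_id_assoc, MonoidalCategory.tensorHom_comp_tensorHom]
    congr 1 <;> exact cB.w φ
  let sA : Cone A :=
    { pt := cB.pt ⊗ cB.pt
      π := { app := fun i => p i ≫ fst _ _
             naturality := fun i j φ => by
              show 𝟙 _ ≫ p j ≫ fst _ _ = (p i ≫ fst _ _) ≫ A.map φ
              exact (Category.id_comp _).trans (((congrArg (· ≫ fst _ _) (hp φ).symm).trans ((Category.assoc _ _ _).trans (congrArg (p i ≫ ·) (tensorHom_fst _ _)))).trans (Category.assoc _ _ _).symm) } }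
  let sB : Cone B :=
    { pt := cB.pt ⊗ cB.pt
      π := { app := fun i => p i ≫ snd _ _
             naturality := fun i j φ => by
              show 𝟙 _ ≫ p j ≫ snd _ _ = (p i ≫ snd _ _) ≫ B.map φ
              exact (Category.id_comp _).trans (((congrArg (· ≫ snd _ _) (hp φ).symm).trans ((Category.assoc _ _ _).trans (congrArg (p i ≫ ·) (tensorHom_snd _ _)))).trans (Category.assoc _ _ _).symm) } }
  let inv' : cB.pt ⊗ cB.pt ⟶ cA.pt ⊗ cB.pt := lift (hA.lift sA) (hB.lift sB)
  have hinv : ∀ i, inv' ≫ (cA.π.app i ⊗ₘ cB.π.app i) = p i := fun i => by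
    refine CartesianMonoidalCategory.hom_ext _ _ ?_ ?_
    · rw [Category.assoc, tensorHom_fst, lift_fst_assoc, hA.fac]
    · rw [Category.assoc, tensorHom_snd, lift_snd_assoc, hB.fac]
  refine ⟨inv', ?_, ?_⟩
  · refine CartesianMonoidalCategory.hom_ext _ _ (hA.hom_ext fun i => ?_) (hB.hom_ext fun i => ?_)
    all_goals
      have e : (θ ≫ inv') ≫ (cA.π.app i ⊗ₘ cB.π.app i) = cA.π.app i ⊗ₘ cB.π.app i := by
        rw [Category.assoc, hinv, reassoc_of% (hθ i), IsIso.hom_inv_id, Category.comp_id]
    · simpa using congrArg (· ≫ fst _ _) e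
    · simpa using congrArg (· ≫ snd _ _) e
  · refine CartesianMonoidalCategory.hom_ext _ _ (hB.hom_ext fun i => ?_) (hB.hom_ext fun i => ?_)
    all_goals
      have e : (inv' ≫ θ) ≫ (cB.π.app i ⊗ₘ cB.π.app i) = cB.π.app i ⊗ₘ cB.π.app i := by
        rw [Category.assoc, hθ, ← Category.assoc, hinv, Category.assoc, IsIso.inv_hom_id, Category.comp_id]
    · simpa using congrArg (· ≫ fst _ _) e
    · simpa using congrArg (· ≫ snd _ _) e

/-- Let k be a field and X a quasi-compact k-scheme. Let (G_i)_{i ∈ I} be a cofiltered inverse system of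
affine group schemes of finite type over k with limit G in the category of k-group schemes (a limit
cone of homomorphisms G → G_i), and (T_i)_{i ∈ I} an inverse system of X-schemes such that each T_i
is a torsor over X for the fpqc topology under the base change of G_i to X and each transition map
T_j → T_i is equivariant along G_j → G_i. Let T be a limit of the T_i over X, with an action of the
base change of G to X for which every projection T → T_i is equivariant along G → G_i. Then T is a
torsor over X under the base change of G for the fpqc topology. (The source indexes the system by a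
directed partially ordered set and also records that T is pointed over a rational point of X when
all the T_i are; the limit scheme, the limit group and the limit action, which exist and are unique,
are taken here as data.) -/
theorem result (k : Type u) [Field k]
    (X : Scheme.{u}) [X.Over (Spec (CommRingCat.of k))] [CompactSpace X]
    {I : Type u} [SmallCategory I] [IsCofiltered I]
    (DG : I ⥤ Grp (Over (Spec (CommRingCat.of k))))
    [∀ i, IsAffineHom (DG.obj i).X.hom] [∀ i, LocallyOfFiniteType (DG.obj i).X.hom]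
    (cG : Cone DG) (hcG : IsLimit cG)
    (DT : I ⥤ Over X)
    (aT : ∀ i, AlgGrp.Action (Red.bc (X ↘ Spec (CommRingCat.of k)) (DG.obj i).X) (DT.obj i))
    (hT : ∀ i, NonAbH1.IsTorsorFor Scheme.fpqcPrecoverage (aT i))
    (hDT : ∀ (i j : I) (φ : i ⟶ j), AlgGrp.Action.IsEquivariant (aT i)
      ((aT j).restrict ((Over.pullback (X ↘ Spec (CommRingCat.of k))).map (DG.map φ).hom.hom)) (DT.map φ))
    (cT : Cone DT) (hcT : IsLimit cT)
    (a : AlgGrp.Action (Red.bc (X ↘ Spec (CommRingCat.of k)) cG.pt.X) cT.pt)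
    (ha : ∀ i, AlgGrp.Action.IsEquivariant a
      ((aT i).restrict ((Over.pullback (X ↘ Spec (CommRingCat.of k))).map (cG.π.app i).hom.hom)) (cT.π.app i)) :
    NonAbH1.IsTorsorFor Scheme.fpqcPrecoverage a := by
  haveI : IsConnected I := IsCofiltered.isConnected I
  let f := X ↘ Spec (CommRingCat.of k)
  -- the underlying limit of the groups
  haveI : ∀ i j (φ : i ⟶ j), IsAffineHom ((DG ⋙ Grp.forget _ ⋙ Over.forget _).map φ) := fun i j φ => by
    haveI : IsAffineHom ((DG.map φ).hom.hom.left ≫ (DG.obj j).X.hom) := by rw [Over.w]; infer_instance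
    exact IsAffineHom.of_comp (DG.map φ).hom.hom.left (DG.obj j).X.hom
  obtain ⟨c₀, hc₀, -⟩ := Groth.Agent.S2151.result (DG ⋙ Grp.forget _ ⋙ Over.forget _)
  haveI : HasLimit ((DG ⋙ Grp.forget _) ⋙ Over.forget (Spec (CommRingCat.of k))) := ⟨⟨⟨c₀, hc₀⟩⟩⟩
  haveI : HasLimit (DG ⋙ Grp.forget _) := hasLimit_of_created _ (Over.forget (Spec (CommRingCat.of k)))
  obtain ⟨hG₀⟩ := Groth.Agent.H14TorLim.nonempty_isLimit_forget DG _ (limit.isLimit _) cG hcG
  haveI := (Over.mapPullbackAdj f).rightAdjoint_preservesLimits.{u, u}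
  let cA := (Over.pullback f).mapCone ((Grp.forget _).mapCone cG)
  let hA : IsLimit cA := isLimitOfPreserves (Over.pullback f) hG₀
  -- pseudo-torsor
  haveI : ∀ i, IsIso (lift (aT i).act (snd (Red.bc f (DG.obj i).X) (DT.obj i))) := fun i => (hT i).1
  have hps : IsPseudoTorsorSch a := by
    refine @isIso_of_levels (Over X) _ _ I _ ((DG ⋙ Grp.forget _) ⋙ Over.pullback f) DT cA cT hA hcT _
      (fun i => lift (aT i).act (snd (Red.bc f (DG.obj i).X) (DT.obj i))) (fun i => (hT i).1) ?_ ?_
    · intro i j φ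
      have h := hDT i j φ
      dsimp only [AlgGrp.Action.IsEquivariant, AlgGrp.Action.restrict_act] at h
      refine CartesianMonoidalCategory.hom_ext _ _ ?_ ?_
      · rw [Category.assoc, tensorHom_fst, lift_fst_assoc, Category.assoc, lift_fst]
        exact h.trans ((Category.assoc _ _ _).symm.trans
          (congrArg (· ≫ _) (MonoidalCategory.tensorHom_def' _ _).symm))
      · rw [Category.assoc, tensorHom_snd, lift_snd_assoc, Category.assoc, lift_snd]
        exact (tensorHom_snd _ _).symm
    · intro i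
      have h := ha i
      dsimp only [AlgGrp.Action.IsEquivariant, AlgGrp.Action.restrict_act] at h
      refine CartesianMonoidalCategory.hom_ext _ _ ?_ ?_
      · refine (Category.assoc _ _ _).trans ((congrArg (lift a.act (snd _ _) ≫ ·) (tensorHom_fst _ _)).trans ?_)
        refine ((Category.assoc _ _ _).symm.trans (congrArg (· ≫ cT.π.app i) (lift_fst _ _))).trans ?_
        refine Eq.trans ?_ ((Category.assoc _ _ _).trans (congrArg ((cA.π.app i ⊗ₘ cT.π.app i) ≫ ·) (lift_fst _ _))).symm
        exact h.trans ((Category.assoc _ _ _).symm.trans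
          (congrArg (· ≫ _) (MonoidalCategory.tensorHom_def' _ _).symm))
      · refine (Category.assoc _ _ _).trans ((congrArg (lift a.act (snd _ _) ≫ ·) (tensorHom_snd _ _)).trans ?_)
        refine ((Category.assoc _ _ _).symm.trans (congrArg (· ≫ cT.π.app i) (lift_snd _ _))).trans ?_
        refine Eq.trans ?_ ((Category.assoc _ _ _).trans (congrArg ((cA.π.app i ⊗ₘ cT.π.app i) ≫ ·) (lift_snd _ _))).symm
        exact (tensorHom_snd _ _).symm
  -- the covering
  haveI : ∀ i, IsAffineHom (DT.obj i).hom := fun i =>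
    H18Torsor.property_of_isTorsorFor (aT i) @IsAffineHom (hT i)
      (MorphismProperty.pullback_snd (P := @IsAffineHom) _ _ inferInstance)
  haveI : ∀ i, Flat (DT.obj i).hom := fun i =>
    H18Torsor.property_of_isTorsorFor (aT i) @Flat (hT i)
      (MorphismProperty.pullback_snd (P := @Flat) _ _ inferInstance)
  haveI : ∀ i, Surjective (DT.obj i).hom := fun i => by
    obtain ⟨R, hR, hsec⟩ := (hT i).2
    refine ⟨fun x => ?_⟩
    obtain ⟨U, hU, hx, -⟩ := exists_isAffineOpen_mem_and_subset (x := x) (U := ⊤) trivial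
    obtain ⟨T, h, hh, hh'⟩ := H18Torsor.exists_refinement hR hU
    obtain ⟨s, hs⟩ := hh' (DT.obj i).left (DT.obj i).hom hsec
    obtain ⟨z, hz⟩ := hh.1.1.surj ⟨x, hx⟩
    refine ⟨s.base z, ?_⟩
    rw [← Scheme.Hom.comp_apply, hs, Scheme.Hom.comp_apply]
    exact congrArg U.ι.base hz
  haveI := Groth.Agent.H14TorLim.flat_hom DT cT hcT
  haveI := Groth.Agent.H14TorLim.surjective_hom DT cT hcT
  haveI := Groth.Agent.H14TorLim.isAffineHom_hom DT cT hcT
  refine ⟨hps, Presieve.singleton cT.pt.hom, Scheme.Hom.singleton_mem_fpqcPrecoverage _, ?_⟩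
  rintro S' g ⟨⟩
  exact ⟨𝟙 _, Category.id_comp _⟩

end Groth.Agent.S18863
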