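import Groth.Statements.S18864
import Mathlib.RingTheory.Flat.Basic
import Mathlib.LinearAlgebra.Basis.VectorSpace

set_option autoImplicit false
universe u v w
open HopfRep

namespace Groth.Agent.S18864

/-- Let k be a field and G = lim G_i a pro-algebraic group scheme over k, so that G = Spec A with A the
direct limit of the Hopf algebras A_i of the affine group schemes G_i of finite type; assume
moreover that the maps A_i → A are injective, so that A is the directed union of the A_i, here given
as injective bialgebra maps A_i → A with directed, jointly covering images. Then every homomorphism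
from G to an affine group scheme H = Spec B of finite type over k factors through some projection G
→ G_i: every bialgebra map f : B → A with B finitely generated as a k-algebra is the composite of
A_i → A with a bialgebra map B → A_i for some i. (The published statement allows arbitrary
transition maps in the system; this row assumes each A_i → A injective, the case the printed
argument treats. The source also states the pro-finite variant with H finite, which is the case of
finite-dimensional A_i and B; finite generation of the A_i is not used.) -/
theorem result (k : Type u) [Field k]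
    (A : Type v) [CommRing A] [HopfAlgebra k A] {ι : Type v} (Aι : ι → Type v)
    [∀ i, CommRing (Aι i)] [∀ i, HopfAlgebra k (Aι i)] (emb : ∀ i, Aι i →ₐc[k] A)
    (hinj : ∀ i, Function.Injective (emb i))
    (hdir : ∀ i j, ∃ l, Set.range (emb i) ⊆ Set.range (emb l) ∧ Set.range (emb j) ⊆ Set.range (emb l))
    (hcov : ∀ a : A, ∃ i, a ∈ Set.range (emb i))
    (B : Type w) [CommRing B] [HopfAlgebra k B] [Algebra.FiniteType k B] (f : B →ₐc[k] A) :
    ∃ (i : ι) (g : B →ₐc[k] Aι i), (emb i).comp g = f := by
  classical
  obtain ⟨s, hs⟩ := (‹Algebra.FiniteType k B›).out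
  choose idx hidx using hcov
  obtain ⟨l, hl⟩ : ∃ l, ∀ b ∈ s, f b ∈ Set.range (emb l) := by
    clear hs
    induction s using Finset.induction with
    | empty => exact ⟨idx 0, by simp⟩
    | insert b t hb ih =>
      obtain ⟨l, hl⟩ := ih
      obtain ⟨m, hm1, hm2⟩ := hdir l (idx (f b))
      refine ⟨m, fun c hc => ?_⟩
      rcases Finset.mem_insert.1 hc with rfl | hc
      · exact hm2 (hidx _)
      · exact hm1 (hl c hc)
  let em : Aι l →ₐ[k] A := (emb l : Aι l →ₐ[k] A)
  have hrange : ∀ b, f b ∈ Set.range (emb l) := by
    intro b
    have hb : b ∈ Algebra.adjoin k (s : Set B) := hs ▸ Algebra.mem_top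
    have : Algebra.adjoin k (s : Set B) ≤ em.range.comap (f : B →ₐ[k] A) := Algebra.adjoin_le fun c hc => hl c hc
    exact this hb
  let e := AlgEquiv.ofInjective em (hinj l)
  let g : B →ₐ[k] Aι l := (e.symm : em.range →ₐ[k] Aι l).comp ((f : B →ₐ[k] A).codRestrict em.range hrange)
  have hg : ∀ b, emb l (g b) = f b := fun b => congrArg Subtype.val (e.apply_symm_apply ⟨f b, hrange b⟩)
  refine ⟨l, BialgHom.ofAlgHom g ?_ ?_, BialgHom.ext hg⟩
  · refine AlgHom.ext fun b => ?_
    show Bialgebra.counitAlgHom k (Aι l) (g b) = Bialgebra.counitAlgHom k B b
    rw [Bialgebra.counitAlgHom_apply, Bialgebra.counitAlgHom_apply, ← CoalgHomClass.counit_comp_apply (emb l),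
      hg, CoalgHomClass.counit_comp_apply]
  · refine AlgHom.ext fun b => ?_
    have hi : Function.Injective (TensorProduct.map (emb l).toLinearMap (emb l).toLinearMap) :=
      TensorProduct.map_injective_of_flat_flat _ _ (hinj l) (hinj l)
    apply hi
    have h1 := (CoalgHomClass.map_comp_comul_apply (emb l) (g b))
    have h2 := (CoalgHomClass.map_comp_comul_apply f b)
    show TensorProduct.map _ _ (TensorProduct.map g.toLinearMap g.toLinearMap (Coalgebra.comul b)) =
      TensorProduct.map _ _ (Coalgebra.comul (g b))
    rw [← LinearMap.comp_apply, ← TensorProduct.map_comp,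
      show (emb l).toLinearMap ∘ₗ g.toLinearMap = f.toLinearMap from LinearMap.ext hg]
    refine h2.trans (Eq.trans ?_ h1.symm)
    rw [hg]

end Groth.Agent.S18864
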