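import Groth.Statements.S18865
import Groth.Agent.H4Gr.PolyUnmixed

set_option autoImplicit false
universe u
open Liaison

namespace Groth.Agent.S18865

/-- Let K be a field, R = K[x_0, …, x_n] graded by degree, c ≥ 2 an integer, 𝔠 ⊂ R a homogeneous ideal
of height c such that R/𝔠 is a Gorenstein ring, and I ⊂ R a homogeneous ideal with I ⊄ 𝔠. Then the
ideal quotient 𝔠 : I is unmixed of codimension c: it has height c and every associated prime of R/(𝔠
: I) has height c. (A Gorenstein ideal of the notes, one whose quotient is Cohen–Macaulay with last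
graded Betti number 1, is rendered as: the quotient ring is Gorenstein.) -/
theorem result (K : Type u) [Field K] (n c : ℕ) (hc : 2 ≤ c)
    (𝔠 I : Ideal (MvPolynomial (Fin (n + 1)) K))
    (h𝔠 : 𝔠.IsHomogeneous (GrSyz.stdGr K (Fin (n + 1)))) (hI : I.IsHomogeneous (GrSyz.stdGr K (Fin (n + 1))))
    [LocCoh.IsGorensteinRing (MvPolynomial (Fin (n + 1)) K ⧸ 𝔠)] (h𝔠c : 𝔠.height = c) (hI𝔠 : ¬ I ≤ 𝔠) :
    (𝔠.colon (I : Set (MvPolynomial (Fin (n + 1)) K))).height = c ∧
      ∀ p ∈ associatedPrimes (MvPolynomial (Fin (n + 1)) K) (MvPolynomial (Fin (n + 1)) K ⧸ 𝔠.colon (I : Set (MvPolynomial (Fin (n + 1)) K))), p.height = c := by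
  open Groth.Agent in
  haveI hcm : LocCoh.IsCohenMacaulayRing (MvPolynomial (Fin (n + 1)) K ⧸ 𝔠) :=
    Groth.Agent.H4Gr.PolyUnmixed.isCohenMacaulayRing_of_isGorensteinRing _
  have hass : ∀ P ∈ associatedPrimes (MvPolynomial (Fin (n + 1)) K) (MvPolynomial (Fin (n + 1)) K ⧸ 𝔠), P.height = c :=
    fun P hP => (Groth.Agent.H4Gr.PolyUnmixed.height_associatedPrimes 𝔠 h𝔠 hP).trans h𝔠c
  have hmin_ass : ∀ (T : Ideal (MvPolynomial (Fin (n + 1)) K)), ∀ P ∈ T.minimalPrimes,
      P ∈ associatedPrimes (MvPolynomial (Fin (n + 1)) K) (MvPolynomial (Fin (n + 1)) K ⧸ T) := fun T P hP =>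
    Module.associatedPrimes.minimalPrimes_annihilator_subset_associatedPrimes _ _ (by rwa [Ideal.annihilator_quotient])
  have hsub : ∀ P ∈ associatedPrimes (MvPolynomial (Fin (n + 1)) K)
      (MvPolynomial (Fin (n + 1)) K ⧸ 𝔠.colon (I : Set (MvPolynomial (Fin (n + 1)) K))), P.height = c := by
    intro P hP
    obtain ⟨hPp, z, hz⟩ := isAssociatedPrime_iff.mp hP
    obtain ⟨z, rfl⟩ := Ideal.Quotient.mk_surjective z
    obtain ⟨G, hG⟩ := IsNoetherian.noetherian I
    have hP_eq : ∀ a, a ∈ P ↔ ∀ g ∈ G, a ∈ (⊥ : Submodule (MvPolynomial (Fin (n + 1)) K) (MvPolynomial (Fin (n + 1)) K ⧸ 𝔠)).colon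
        {Ideal.Quotient.mk 𝔠 (z * g)} := fun a => by
      rw [hz, Submodule.mem_colon_singleton, Submodule.mem_bot]
      refine (Ideal.Quotient.eq_zero_iff_mem (a := a * z)).trans ?_
      rw [Submodule.mem_colon]
      refine ⟨fun h g hg => ?_, fun h x hx => ?_⟩
      · rw [Submodule.mem_colon_singleton, Submodule.mem_bot]
        show Ideal.Quotient.mk 𝔠 (a * (z * g)) = 0
        rw [← mul_assoc]
        exact Ideal.Quotient.eq_zero_iff_mem.2 (h g (hG ▸ Submodule.subset_span hg))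
      · have hle : I ≤ Submodule.comap (LinearMap.lsmul _ _ (a * z)) 𝔠 := by
          rw [← hG, Submodule.span_le]
          intro g hg
          have h1 := h g hg
          rw [Submodule.mem_colon_singleton, Submodule.mem_bot] at h1
          show a * z * g ∈ 𝔠
          rw [mul_assoc]
          exact Ideal.Quotient.eq_zero_iff_mem.1 h1
        exact hle hx
    have hle : G.inf (fun g => (⊥ : Submodule (MvPolynomial (Fin (n + 1)) K) (MvPolynomial (Fin (n + 1)) K ⧸ 𝔠)).colon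
        {Ideal.Quotient.mk 𝔠 (z * g)}) ≤ P := fun a ha => (hP_eq a).2 (Submodule.mem_finsetInf.1 ha)
    obtain ⟨g, hg, hgP⟩ := (Ideal.IsPrime.inf_le' hPp).1 hle
    refine hass P (isAssociatedPrime_iff.mpr ⟨hPp, Ideal.Quotient.mk 𝔠 (z * g), le_antisymm (fun a ha => (hP_eq a).1 ha g hg) hgP⟩)
  have hle𝔠 : 𝔠 ≤ 𝔠.colon (I : Set (MvPolynomial (Fin (n + 1)) K)) := fun a ha =>
    Submodule.mem_colon.2 fun x _ => 𝔠.mul_mem_right x ha
  have hne : 𝔠.colon (I : Set (MvPolynomial (Fin (n + 1)) K)) ≠ ⊤ := fun h => hI𝔠 fun x hx => by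
    simpa using Submodule.mem_colon.1 ((Ideal.eq_top_iff_one _).1 h) x hx
  obtain ⟨Q, hQ⟩ := Ideal.nonempty_minimalPrimes hne
  exact ⟨le_antisymm ((Ideal.height_mono hQ.1.2).trans (hsub Q (hmin_ass _ Q hQ)).le)
    (h𝔠c ▸ Ideal.height_mono hle𝔠), hsub⟩

end Groth.Agent.S18865
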