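import Groth.Statements.S18866
import Groth.Agent.H4Gr.PolyUnmixed

set_option autoImplicit false
universe u
open Liaison

namespace Groth.Agent.S18866

/-- Let K be a field, R = K[x_0, …, x_n] graded by degree, c ≥ 2, 𝔠 ⊂ R a homogeneous ideal of height c
such that R/𝔠 is a Gorenstein ring, and I, J ⊂ R homogeneous ideals that are directly linked by 𝔠,
that is 𝔠 : I = J and 𝔠 : J = I. If R/I and R/J have no associated prime in common, then I ∩ J = 𝔠,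
so I and J are geometrically linked by 𝔠. -/
theorem result (K : Type u) [Field K] (n c : ℕ) (hc : 2 ≤ c)
    (𝔠 I J : Ideal (MvPolynomial (Fin (n + 1)) K))
    (h𝔠 : 𝔠.IsHomogeneous (GrSyz.stdGr K (Fin (n + 1)))) (hI : I.IsHomogeneous (GrSyz.stdGr K (Fin (n + 1)))) (hJ : J.IsHomogeneous (GrSyz.stdGr K (Fin (n + 1))))
    [LocCoh.IsGorensteinRing (MvPolynomial (Fin (n + 1)) K ⧸ 𝔠)] (h𝔠c : 𝔠.height = c)
    (hIJ : 𝔠.colon (I : Set (MvPolynomial (Fin (n + 1)) K)) = J) (hJI : 𝔠.colon (J : Set (MvPolynomial (Fin (n + 1)) K)) = I)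
    (hdisj : Disjoint (associatedPrimes (MvPolynomial (Fin (n + 1)) K) (MvPolynomial (Fin (n + 1)) K ⧸ I)) (associatedPrimes (MvPolynomial (Fin (n + 1)) K) (MvPolynomial (Fin (n + 1)) K ⧸ J))) :
    I ⊓ J = 𝔠 := by
  open Groth.Agent in
  haveI hcm : LocCoh.IsCohenMacaulayRing (MvPolynomial (Fin (n + 1)) K ⧸ 𝔠) :=
    Groth.Agent.H4Gr.PolyUnmixed.isCohenMacaulayRing_of_isGorensteinRing _
  have hass : ∀ P ∈ associatedPrimes (MvPolynomial (Fin (n + 1)) K) (MvPolynomial (Fin (n + 1)) K ⧸ 𝔠), P.height = c :=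
    fun P hP => (Groth.Agent.H4Gr.PolyUnmixed.height_associatedPrimes 𝔠 h𝔠 hP).trans h𝔠c
  have hmin_ass : ∀ (T : Ideal (MvPolynomial (Fin (n + 1)) K)), ∀ P ∈ T.minimalPrimes,
      P ∈ associatedPrimes (MvPolynomial (Fin (n + 1)) K) (MvPolynomial (Fin (n + 1)) K ⧸ T) := fun T P hP =>
    Module.associatedPrimes.minimalPrimes_annihilator_subset_associatedPrimes _ _ (by rwa [Ideal.annihilator_quotient])
  have hcI : 𝔠 ≤ I := hJI ▸ fun a ha => Submodule.mem_colon.2 fun x _ => 𝔠.mul_mem_right x ha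
  have hcJ : 𝔠 ≤ J := hIJ ▸ fun a ha => Submodule.mem_colon.2 fun x _ => 𝔠.mul_mem_right x ha
  refine le_antisymm (fun x hx => ?_) (le_inf hcI hcJ)
  by_contra hxc
  have hne : Ideal.Quotient.mk 𝔠 x ≠ 0 := fun h => hxc (Ideal.Quotient.eq_zero_iff_mem.1 h)
  obtain ⟨P, hP, hle⟩ := exists_le_isAssociatedPrime_of_isNoetherianRing (MvPolynomial (Fin (n + 1)) K) (Ideal.Quotient.mk 𝔠 x) hne
  have hPc : P ∈ 𝔠.minimalPrimes := Groth.Agent.H4Gr.PolyUnmixed.minimal_of_mem_associatedPrimes 𝔠 hP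
  have hI' : I ≤ P := fun a ha => hle (by
    rw [Submodule.mem_colon_singleton, Submodule.mem_bot]
    show Ideal.Quotient.mk 𝔠 (a * x) = 0
    rw [mul_comm]
    exact Ideal.Quotient.eq_zero_iff_mem.2 (Submodule.mem_colon.1 (hIJ.symm ▸ hx.2 : x ∈ 𝔠.colon (I : Set _)) a ha))
  have hJ' : J ≤ P := fun a ha => hle (by
    rw [Submodule.mem_colon_singleton, Submodule.mem_bot]
    show Ideal.Quotient.mk 𝔠 (a * x) = 0
    rw [mul_comm]
    exact Ideal.Quotient.eq_zero_iff_mem.2 (Submodule.mem_colon.1 (hJI.symm ▸ hx.1 : x ∈ 𝔠.colon (J : Set _)) a ha))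
  exact Set.disjoint_left.1 hdisj (hmin_ass I P ⟨⟨hPc.1.1, hI'⟩, fun T hT hTP => hPc.2 ⟨hT.1, hcI.trans hT.2⟩ hTP⟩)
    (hmin_ass J P ⟨⟨hPc.1.1, hJ'⟩, fun T hT hTP => hPc.2 ⟨hT.1, hcJ.trans hT.2⟩ hTP⟩)

end Groth.Agent.S18866
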