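import Groth.Statements.S18867
import Groth.Agent.H4Gr.PolyUnmixed
import Groth.Agent.H4Goren.DoubleAnn
import Groth.Agent.H4Depth.Connected

set_option autoImplicit false
universe u
open Liaison

namespace Groth.Agent.S18867

/-- Let K be a field, R = K[x_0, …, x_n] graded by degree, c ≥ 2, 𝔠 ⊂ R a homogeneous ideal of height c
such that R/𝔠 is a Gorenstein ring, and I ⊂ R a homogeneous ideal of height c which is unmixed
(every associated prime of R/I has height c) and properly contains 𝔠. Then 𝔠 : (𝔠 : I) = I, so that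
I and 𝔠 : I are directly linked by 𝔠. -/
theorem result (K : Type u) [Field K] (n c : ℕ) (hc : 2 ≤ c)
    (𝔠 I : Ideal (MvPolynomial (Fin (n + 1)) K))
    (h𝔠 : 𝔠.IsHomogeneous (GrSyz.stdGr K (Fin (n + 1)))) (hI : I.IsHomogeneous (GrSyz.stdGr K (Fin (n + 1))))
    [LocCoh.IsGorensteinRing (MvPolynomial (Fin (n + 1)) K ⧸ 𝔠)] (h𝔠c : 𝔠.height = c) (hIc : I.height = c)
    (hIu : ∀ p ∈ associatedPrimes (MvPolynomial (Fin (n + 1)) K) (MvPolynomial (Fin (n + 1)) K ⧸ I), p.height = c) (hlt : 𝔠 < I) :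
    𝔠.colon ((𝔠.colon (I : Set (MvPolynomial (Fin (n + 1)) K)) : Ideal (MvPolynomial (Fin (n + 1)) K)) : Set (MvPolynomial (Fin (n + 1)) K)) = I := by
  open Groth.Agent in
  haveI hcm : LocCoh.IsCohenMacaulayRing (MvPolynomial (Fin (n + 1)) K ⧸ 𝔠) :=
    Groth.Agent.H4Gr.PolyUnmixed.isCohenMacaulayRing_of_isGorensteinRing _
  have hass : ∀ P ∈ associatedPrimes (MvPolynomial (Fin (n + 1)) K) (MvPolynomial (Fin (n + 1)) K ⧸ 𝔠), P.height = c :=
    fun P hP => (Groth.Agent.H4Gr.PolyUnmixed.height_associatedPrimes 𝔠 h𝔠 hP).trans h𝔠c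
  refine le_antisymm (fun x hx => ?_) fun a ha => Submodule.mem_colon.2 fun y hy => by
    show a * y ∈ 𝔠
    rw [mul_comm]
    exact Submodule.mem_colon.1 hy a ha
  classical
  by_contra hxI
  have hne : Ideal.Quotient.mk I x ≠ 0 := fun h => hxI (Ideal.Quotient.eq_zero_iff_mem.1 h)
  obtain ⟨P, hP, hle⟩ := exists_le_isAssociatedPrime_of_isNoetherianRing (MvPolynomial (Fin (n + 1)) K) (Ideal.Quotient.mk I x) hne
  have hPp := hP.isPrime
  have hIP : I ≤ P := fun a ha => hle (by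
    rw [Submodule.mem_colon_singleton, Submodule.mem_bot]
    exact Ideal.Quotient.eq_zero_iff_mem.2 (I.mul_mem_right x ha))
  obtain ⟨Q, hQ, hQP⟩ := Ideal.exists_minimalPrimes_le (hlt.le.trans hIP)
  have hQh : Q.height = c := (Groth.Agent.H4Gr.PolyUnmixed.height_minimalPrimes_eq 𝔠 h𝔠 hQ).trans h𝔠c
  haveI := hQ.1.1
  have hPQ : Q = P := by
    by_contra h
    have h1 := Ideal.height_strict_mono_of_isPrime (I := Q) (lt_of_le_of_ne hQP h)
    rw [hQh, hIu P hP] at h1
    exact lt_irrefl _ h1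
  subst hPQ
  let q := Q.map (Ideal.Quotient.mk 𝔠)
  have hker : RingHom.ker (Ideal.Quotient.mk 𝔠) ≤ Q := by rw [Ideal.mk_ker]; exact hQ.1.2
  haveI : q.IsPrime := Ideal.map_isPrime_of_surjective Ideal.Quotient.mk_surjective hker
  have hqc : q.comap (Ideal.Quotient.mk 𝔠) = Q := by
    rw [Ideal.comap_map_of_surjective' _ Ideal.Quotient.mk_surjective, sup_eq_left.2 hker]
  haveI := LocCoh.IsGorensteinRing.isGorensteinLocalRing_localization q
  have h0 : ringKrullDim (Localization.AtPrime q) ≤ 0 := by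
    rw [IsLocalization.AtPrime.ringKrullDim_eq_height q (Localization.AtPrime q), Ideal.height_eq_zero_iff.2
      (Groth.Agent.H05EGA4.mem_minimalPrimes_bot_map_iff.2 (hqc.symm ▸ hQ))]
    rfl
  let φ := (algebraMap (MvPolynomial (Fin (n + 1)) K ⧸ 𝔠) (Localization.AtPrime q)).comp (Ideal.Quotient.mk 𝔠)
  obtain ⟨G, hG⟩ := IsNoetherian.noetherian I
  have hmem : φ x ∈ I.map φ := by
    refine Groth.Agent.H4Goren.mem_of_kills_annihilator (Groth.Agent.H4Goren.baer_self_of_dim_zero (Localization.AtPrime q) h0)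
      (IsNoetherian.noetherian _) fun r hr => ?_
    obtain ⟨y, s, rfl⟩ := IsLocalization.exists_mk'_eq q.primeCompl r
    obtain ⟨y, rfl⟩ := Ideal.Quotient.mk_surjective y
    have hkill : ∀ g : MvPolynomial (Fin (n + 1)) K, ∃ t, t ∉ Q ∧ (g ∈ I → t * (y * g) ∈ 𝔠) := fun g => by
      by_cases hg : g ∈ I
      · have h1 := hr (φ g) (Ideal.mem_map_of_mem φ hg)
        have h3 : IsLocalization.mk' (Localization.AtPrime q) (Ideal.Quotient.mk 𝔠 y) s * algebraMap _ (Localization.AtPrime q) (s : MvPolynomial (Fin (n + 1)) K ⧸ 𝔠) =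
          algebraMap _ (Localization.AtPrime q) (Ideal.Quotient.mk 𝔠 y) := IsLocalization.mk'_spec (Localization.AtPrime q) _ s
        have h2 : algebraMap _ (Localization.AtPrime q) (Ideal.Quotient.mk 𝔠 y) * φ g = 0 := by
          rw [← h3, mul_comm (IsLocalization.mk' (Localization.AtPrime q) (Ideal.Quotient.mk 𝔠 y) s), mul_assoc, h1, mul_zero]
        rw [show φ g = algebraMap _ (Localization.AtPrime q) (Ideal.Quotient.mk 𝔠 g) from rfl, ← map_mul, ← map_mul, IsLocalization.map_eq_zero_iff q.primeCompl] at h2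
        obtain ⟨⟨t, ht⟩, hts⟩ := h2
        obtain ⟨t, rfl⟩ := Ideal.Quotient.mk_surjective t
        rw [← map_mul] at hts
        exact ⟨t, fun h => ht (Ideal.mem_map_of_mem _ h), fun _ => Ideal.Quotient.eq_zero_iff_mem.1 hts⟩
      · exact ⟨1, fun h => hPp.ne_top ((Ideal.eq_top_iff_one _).2 h), fun h => absurd h hg⟩
    choose t ht hty using hkill
    have hw : (∏ g ∈ G, t g) * y ∈ 𝔠.colon (I : Set (MvPolynomial (Fin (n + 1)) K)) := Submodule.mem_colon.2 fun a ha => by
      have hle' : I ≤ Submodule.comap (LinearMap.lsmul _ _ ((∏ g ∈ G, t g) * y)) 𝔠 := by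
        rw [← hG, Submodule.span_le]
        intro g hg
        show (∏ g ∈ G, t g) * y * g ∈ 𝔠
        rw [← Finset.prod_erase_mul G t hg, mul_assoc, mul_assoc]
        exact 𝔠.mul_mem_left _ (hty g (hG ▸ Submodule.subset_span hg))
      exact hle' ha
    have hxw : φ x * φ (∏ g ∈ G, t g) * φ y = 0 := by
      rw [mul_assoc, ← map_mul, ← map_mul, show φ (x * ((∏ g ∈ G, t g) * y)) =
        algebraMap _ (Localization.AtPrime q) (Ideal.Quotient.mk 𝔠 (x * ((∏ g ∈ G, t g) * y))) from rfl,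
        Ideal.Quotient.eq_zero_iff_mem.2 (show x * ((∏ g ∈ G, t g) * y) ∈ 𝔠 from Submodule.mem_colon.1 hx _ hw), map_zero]
    have hu : IsUnit (φ (∏ g ∈ G, t g)) := IsLocalization.map_units (Localization.AtPrime q) (⟨_, fun h => by
      obtain ⟨g, -, hg⟩ := (Ideal.IsPrime.prod_mem_iff).1 (show (∏ g ∈ G, t g) ∈ Q from hqc ▸ h)
      exact ht g hg⟩ : q.primeCompl)
    obtain ⟨b, hb⟩ := hu.exists_left_inv
    have hxy : φ x * φ y = 0 := by
      rw [mul_assoc, mul_left_comm] at hxw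
      have h4 := congrArg (b * ·) hxw
      simp only [mul_zero, ← mul_assoc, hb, one_mul] at h4
      exact h4
    rw [IsLocalization.mk'_eq_mul_mk'_one, ← mul_assoc, show algebraMap _ (Localization.AtPrime q) (Ideal.Quotient.mk 𝔠 y) = φ y from rfl, hxy, zero_mul]
  rw [← Ideal.map_map, show φ x = algebraMap _ (Localization.AtPrime q) (Ideal.Quotient.mk 𝔠 x) from rfl,
    IsLocalization.algebraMap_mem_map_algebraMap_iff q.primeCompl] at hmem
  obtain ⟨s, hs, hsx⟩ := hmem
  obtain ⟨s, rfl⟩ := Ideal.Quotient.mk_surjective s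
  rw [← map_mul, ← Ideal.mem_comap, Ideal.comap_map_of_surjective' _ Ideal.Quotient.mk_surjective, Ideal.mk_ker,
    sup_eq_left.2 hlt.le] at hsx
  refine hs (Ideal.mem_map_of_mem _ (hle ?_))
  rw [Submodule.mem_colon_singleton, Submodule.mem_bot]
  exact Ideal.Quotient.eq_zero_iff_mem.2 hsx

end Groth.Agent.S18867
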