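import Groth.Statements.S18868
import Groth.Agent.H4Liaison.LinkGor
import Groth.Agent.H17.KoszSh.CM
import Groth.Agent.S18865
import Groth.Agent.S18867

set_option autoImplicit false
universe u
open Liaison

namespace Groth.Agent.S18868

/-- Let K be a field, R = K[x_0, …, x_n] graded by degree, c ≥ 2, 𝔠 ⊂ R a homogeneous complete
intersection of codimension c, that is a homogeneous ideal of height c generated by c elements g_1,
…, g_c, and I ⊂ R a homogeneous ideal of height c with R/I Cohen–Macaulay which properly contains 𝔠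
and has the form I = 𝔠 + fR for some f (so I is an almost complete intersection). Then the linked
ideal J = 𝔠 : I has height c and R/J is a Gorenstein ring. (A Gorenstein ideal of the notes, one
whose quotient is Cohen–Macaulay with last graded Betti number 1, is rendered as: the quotient ring
is Gorenstein.) -/
theorem result (K : Type u) [Field K] (n c : ℕ) (hc : 2 ≤ c)
    (g : Fin c → MvPolynomial (Fin (n + 1)) K) (f : MvPolynomial (Fin (n + 1)) K) (𝔠 I : Ideal (MvPolynomial (Fin (n + 1)) K)) (h𝔠g : Ideal.span (Set.range g) = 𝔠)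
    (h𝔠 : 𝔠.IsHomogeneous (GrSyz.stdGr K (Fin (n + 1)))) (hI : I.IsHomogeneous (GrSyz.stdGr K (Fin (n + 1))))
    (h𝔠c : 𝔠.height = c) (hIc : I.height = c) [LocCoh.IsCohenMacaulayRing (MvPolynomial (Fin (n + 1)) K ⧸ I)]
    (hlt : 𝔠 < I) (hIf : I = 𝔠 ⊔ Ideal.span {f}) :
    (𝔠.colon (I : Set (MvPolynomial (Fin (n + 1)) K))).height = c ∧
      LocCoh.IsGorensteinRing (MvPolynomial (Fin (n + 1)) K ⧸ 𝔠.colon (I : Set (MvPolynomial (Fin (n + 1)) K))) := by
  haveI : IsRegularRing (MvPolynomial (Fin (n + 1)) K) := inferInstance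
  haveI := Groth.Agent.H02CA.GorFlat.isGorensteinRing_of_isRegularRing (MvPolynomial (Fin (n + 1)) K)
  have hker : RingHom.ker (Ideal.Quotient.mk 𝔠) = 𝔠 := Ideal.mk_ker
  haveI : LocCoh.IsGorensteinRing (MvPolynomial (Fin (n + 1)) K ⧸ 𝔠) :=
    Groth.Agent.H02CA.GorFlat.isGorensteinRing_of_surjective (Ideal.Quotient.mk 𝔠) Ideal.Quotient.mk_surjective
      fun P _ hP => by
      rw [hker] at hP
      let L := Localization.AtPrime P
      haveI : LocCoh.IsCohenMacaulayLocalRing L := Groth.Agent.H4Gr.PolyUnmixed.cmLocal_polynomial P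
      have hspan : Ideal.span (Set.range fun i => algebraMap _ L (g i)) = 𝔠.map (algebraMap _ L) := by
        rw [← h𝔠g, Ideal.map_span, ← Set.range_comp]
        rfl
      refine ⟨List.ofFn fun i => algebraMap _ L (g i), Groth.Agent.H17.KoszSh.isWeaklyRegular_of_le_height _ ?_ ?_, ?_⟩
      · rw [hspan]
        exact ne_top_of_le_ne_top (IsLocalRing.maximalIdeal.isMaximal L).ne_top
          ((Ideal.map_mono hP).trans Localization.AtPrime.map_eq_maximalIdeal.le)
      · rw [hspan, Ideal.height_eq_inf_minimalPrimes]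
        refine le_iInf₂ fun T hT => ?_
        haveI := hT.1.1
        rw [IsLocalization.minimalPrimes_map P.primeCompl L, Set.mem_preimage] at hT
        rw [← h𝔠c, ← IsLocalization.height_under P.primeCompl T]
        exact Ideal.height_mono hT.1.2
      · refine Eq.trans ?_ (hspan.trans (congrArg (Ideal.map _) hker.symm))
        rw [Ideal.ofList]
        congr 1
        ext z
        simp [List.mem_ofFn]
  have hI𝔠 : ¬ I ≤ 𝔠 := not_le_of_gt hlt
  have hJI := Groth.Agent.S18867.result K n c hc 𝔠 I h𝔠 hI h𝔠c hIc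
    (fun p hp => (Groth.Agent.H4Gr.PolyUnmixed.height_associatedPrimes I hI hp).trans hIc) hlt
  refine ⟨(Groth.Agent.S18865.result K n c hc 𝔠 I h𝔠 hI h𝔠c hI𝔠).1, ?_⟩
  set J := 𝔠.colon (I : Set (MvPolynomial (Fin (n + 1)) K))
  have hle : 𝔠 ≤ J := fun a ha => Submodule.mem_colon.2 fun x _ => 𝔠.mul_mem_right x ha
  have key : ∀ I J : Ideal (MvPolynomial (Fin (n + 1)) K), 𝔠.colon (I : Set (MvPolynomial (Fin (n + 1)) K)) = J →
      Submodule.annihilator (I.map (Ideal.Quotient.mk 𝔠)) = J.map (Ideal.Quotient.mk 𝔠) := fun I J hIJ => by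
    refine le_antisymm (fun z hz => ?_) (Ideal.map_le_iff_le_comap.2 fun a ha => ?_)
    · obtain ⟨a, rfl⟩ := Ideal.Quotient.mk_surjective z
      refine Ideal.mem_map_of_mem _ (hIJ ▸ Submodule.mem_colon.2 fun i hi => ?_)
      exact Ideal.Quotient.eq_zero_iff_mem.1 (Submodule.mem_annihilator.1 hz _ (Ideal.mem_map_of_mem _ hi))
    · rw [← hIJ] at ha
      refine Submodule.mem_annihilator.2 fun z hz => ?_
      obtain ⟨i, hi, rfl⟩ := (Ideal.mem_map_iff_of_surjective _ Ideal.Quotient.mk_surjective).1 hz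
      exact Ideal.Quotient.eq_zero_iff_mem.2 (Submodule.mem_colon.1 ha i hi)
  haveI := Groth.Agent.H4Liaison.isCohenMacaulayRing_of_ringEquiv
    (A := MvPolynomial (Fin (n + 1)) K ⧸ I) (B := (MvPolynomial (Fin (n + 1)) K ⧸ 𝔠) ⧸ I.map (Ideal.Quotient.mk 𝔠))
    (DoubleQuot.quotQuotEquivQuotOfLE hlt.le).symm
  haveI := Groth.Agent.H4Liaison.isGorensteinRing_of_linked_principal (Ideal.Quotient.mk 𝔠 f) _ _
    (show I.map (Ideal.Quotient.mk 𝔠) = Ideal.span {Ideal.Quotient.mk 𝔠 f} by
      rw [hIf, Ideal.map_sup, Ideal.map_quotient_self, bot_sup_eq, Ideal.map_span, Set.image_singleton])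
    (key I J rfl) (key J I hJI)
  exact Groth.Agent.H02CA.GorFlat.isGorensteinRing_of_ringEquiv (DoubleQuot.quotQuotEquivQuotOfLE hle) inferInstance

end Groth.Agent.S18868
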