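import Groth.Statements.S18869
import Groth.Agent.H4Liaison.GeomLink
import Groth.Agent.H4Liaison.Hyper

set_option autoImplicit false
universe u
open Liaison

namespace Groth.Agent.S18869

/-- Let K be a field, R = K[x_0, …, x_n] graded by degree, and I₁, I₂ ⊂ R homogeneous ideals of the same
height c such that R/I₁ and R/I₂ are Cohen–Macaulay rings (they define arithmetically Cohen–Macaulay
subschemes of codimension c) and I₁, I₂ have no minimal prime in common (no common component). If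
R/(I₁ ∩ I₂) is a Gorenstein ring (the union is arithmetically Gorenstein), then I₁ + I₂ has height c
+ 1 and R/(I₁ + I₂) is a Gorenstein ring (the intersection is arithmetically Gorenstein of
codimension c + 1). (Arithmetically Gorenstein, in the notes arithmetically Cohen–Macaulay with last
graded Betti number 1, is rendered as: the quotient ring is Gorenstein.) -/
theorem result (K : Type u) [Field K] (n c : ℕ)
    (I₁ I₂ : Ideal (MvPolynomial (Fin (n + 1)) K))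
    (hI₁ : I₁.IsHomogeneous (GrSyz.stdGr K (Fin (n + 1)))) (hI₂ : I₂.IsHomogeneous (GrSyz.stdGr K (Fin (n + 1))))
    [LocCoh.IsCohenMacaulayRing (MvPolynomial (Fin (n + 1)) K ⧸ I₁)] [LocCoh.IsCohenMacaulayRing (MvPolynomial (Fin (n + 1)) K ⧸ I₂)]
    (h₁ : I₁.height = c) (h₂ : I₂.height = c) (hdisj : Disjoint I₁.minimalPrimes I₂.minimalPrimes)
    [LocCoh.IsGorensteinRing (MvPolynomial (Fin (n + 1)) K ⧸ (I₁ ⊓ I₂))] :
    (I₁ ⊔ I₂).height = c + 1 ∧ LocCoh.IsGorensteinRing (MvPolynomial (Fin (n + 1)) K ⧸ (I₁ ⊔ I₂)) := by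
  set 𝔠 := I₁ ⊓ I₂ with hcdef
  have h𝔠 : 𝔠.IsHomogeneous (GrSyz.stdGr K (Fin (n + 1))) := hI₁.inf hI₂
  have hle₁ : 𝔠 ≤ I₁ := inf_le_left
  have hle₂ : 𝔠 ≤ I₂ := inf_le_right
  haveI : LocCoh.IsCohenMacaulayRing (MvPolynomial (Fin (n + 1)) K ⧸ 𝔠) :=
    Groth.Agent.H4Gr.PolyUnmixed.isCohenMacaulayRing_of_isGorensteinRing _
  have hcases : ∀ P : Ideal (MvPolynomial (Fin (n + 1)) K), P.IsPrime → 𝔠 ≤ P → I₁ ≤ P ∨ I₂ ≤ P :=
    fun P hP h => hP.inf_le.1 h
  have hc : 𝔠.height = c := by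
    refine le_antisymm (h₁ ▸ Ideal.height_mono hle₁) ?_
    rw [Ideal.height_eq_inf_minimalPrimes]
    refine le_iInf₂ fun P hP => ?_
    rcases hcases P hP.1.1 hP.1.2 with h | h
    · exact h₁ ▸ Ideal.height_mono h
    · exact h₂ ▸ Ideal.height_mono h
  -- minimal primes of `I_i` are minimal over `𝔠`
  have hminc : ∀ (I : Ideal (MvPolynomial (Fin (n + 1)) K)), I.IsHomogeneous (GrSyz.stdGr K (Fin (n + 1))) →
      ∀ [LocCoh.IsCohenMacaulayRing (MvPolynomial (Fin (n + 1)) K ⧸ I)], I.height = c → 𝔠 ≤ I →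
      ∀ P ∈ I.minimalPrimes, P ∈ 𝔠.minimalPrimes := by
    intro I hI _ hIc hle P hP
    haveI := hP.1.1
    obtain ⟨Q, hQ, hQP⟩ := Ideal.exists_minimalPrimes_le (hle.trans hP.1.2)
    haveI := hQ.1.1
    rcases eq_or_lt_of_le hQP with rfl | hlt
    · exact hQ
    · have h1 := Ideal.height_strict_mono_of_isPrime (I := Q) hlt
      rw [Groth.Agent.H4Gr.PolyUnmixed.height_minimalPrimes_eq 𝔠 h𝔠 hQ, hc,
        Groth.Agent.H4Gr.PolyUnmixed.height_minimalPrimes_eq I hI hP, hIc] at h1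
      exact absurd h1 (lt_irrefl _)
  have hnot : ∀ Q ∈ 𝔠.minimalPrimes, ¬ I₁ ⊔ I₂ ≤ Q := fun Q hQ hle => Set.disjoint_left.1 hdisj
    (⟨⟨hQ.1.1, le_sup_left.trans hle⟩, fun T hT hTQ => hQ.2 ⟨hT.1, hle₁.trans hT.2⟩ hTQ⟩ : Q ∈ I₁.minimalPrimes)
    ⟨⟨hQ.1.1, le_sup_right.trans hle⟩, fun T hT hTQ => hQ.2 ⟨hT.1, hle₂.trans hT.2⟩ hTQ⟩
  let π := Ideal.Quotient.mk 𝔠
  have hsurj : Function.Surjective π := Ideal.Quotient.mk_surjective
  have hcm : ∀ (I : Ideal (MvPolynomial (Fin (n + 1)) K)), ∀ [LocCoh.IsCohenMacaulayRing (MvPolynomial (Fin (n + 1)) K ⧸ I)],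
      𝔠 ≤ I → LocCoh.IsCohenMacaulayRing ((MvPolynomial (Fin (n + 1)) K ⧸ 𝔠) ⧸ I.map π) := fun I _ hle =>
    Groth.Agent.H4Liaison.isCohenMacaulayRing_of_ringEquiv
      (A := MvPolynomial (Fin (n + 1)) K ⧸ I) (B := (MvPolynomial (Fin (n + 1)) K ⧸ 𝔠) ⧸ I.map π)
      (DoubleQuot.quotQuotEquivQuotOfLE hle).symm
  haveI := hcm I₁ hle₁
  haveI := hcm I₂ hle₂
  have hcomap : ∀ (I : Ideal (MvPolynomial (Fin (n + 1)) K)), 𝔠 ≤ I → (I.map π).comap π = I := fun I hle => by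
    rw [Ideal.comap_map_of_surjective' π hsurj, Ideal.mk_ker, sup_eq_left.2 hle]
  have hinf : I₁.map π ⊓ I₂.map π = ⊥ := by
    rw [← Ideal.comap_injective_of_surjective π hsurj |>.eq_iff, Ideal.comap_inf, hcomap I₁ hle₁, hcomap I₂ hle₂,
      ← RingHom.ker_eq_comap_bot, Ideal.mk_ker]
  have hm : ∀ (I : Ideal (MvPolynomial (Fin (n + 1)) K)), I.IsHomogeneous (GrSyz.stdGr K (Fin (n + 1))) →
      ∀ [LocCoh.IsCohenMacaulayRing (MvPolynomial (Fin (n + 1)) K ⧸ I)], I.height = c → 𝔠 ≤ I →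
      ∀ T ∈ (I.map π).minimalPrimes, T.height = 0 := by
    intro I hI _ hIc hle T hT
    haveI := hT.1.1
    have h1 : T.comap π ∈ I.minimalPrimes := by
      have h := Ideal.minimalPrimes_comap_of_surjective hsurj hT
      rwa [hcomap I hle] at h
    exact Ideal.height_eq_zero_iff.2 (Groth.Agent.H05EGA4.mem_minimalPrimes_bot_map_iff.2 (hminc I hI hIc hle _ h1))
  obtain ⟨hgor, hht⟩ := Groth.Agent.H4Liaison.gor_of_geometricallyLinked (I₁.map π) (I₂.map π) hinf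
    (hm I₁ hI₁ h₁ hle₁) (hm I₂ hI₂ h₂ hle₂)
    (fun T hT hle => hnot (T.comap π) (Groth.Agent.H05EGA4.mem_minimalPrimes_bot_map_iff.1 hT) (by
      rw [← Ideal.map_le_iff_le_comap, Ideal.map_sup]
      exact hle))
  have hsup : 𝔠 ≤ I₁ ⊔ I₂ := hle₁.trans le_sup_left
  have hne : I₁ ⊔ I₂ ≠ ⊤ := ne_top_of_le_ne_top (Groth.Agent.H4Gr.PolyUnmixed.origin_isMaximal (K := K)).ne_top
    (sup_le (Groth.Agent.H4Gr.PolyUnmixed.le_origin hI₁ fun h => by simp [h] at h₁)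
      (Groth.Agent.H4Gr.PolyUnmixed.le_origin hI₂ fun h => by simp [h] at h₂))
  refine ⟨le_antisymm ?_ ?_, Groth.Agent.H02CA.GorFlat.isGorensteinRing_of_ringEquiv
    ((Ideal.quotEquivOfEq (Ideal.map_sup π I₁ I₂).symm).trans (DoubleQuot.quotQuotEquivQuotOfLE hsup)) hgor⟩
  · obtain ⟨P, hP⟩ := (I₁ ⊔ I₂).nonempty_minimalPrimes hne
    haveI := hP.1.1
    refine (Ideal.height_mono hP.1.2).trans ?_
    haveI : (P.map π).IsPrime := Ideal.map_isPrime_of_surjective hsurj (by rw [Ideal.mk_ker]; exact hsup.trans hP.1.2)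
    have hPc := hcomap P (hsup.trans hP.1.2)
    have hPmin : P.map π ∈ (I₁.map π ⊔ I₂.map π).minimalPrimes := by
      refine ⟨⟨inferInstance, Ideal.map_sup π I₁ I₂ ▸ Ideal.map_mono hP.1.2⟩, fun T ⟨hT, hle⟩ hTP => ?_⟩
      rw [Ideal.map_le_iff_le_comap]
      exact hP.2 ⟨hT.comap π, by rw [← Ideal.map_le_iff_le_comap, Ideal.map_sup]; exact hle⟩
        ((Ideal.comap_mono hTP).trans hPc.le)
    have hP1 := hht _ hPmin
    let L := Localization.AtPrime P
    haveI : LocCoh.IsCohenMacaulayLocalRing L := Groth.Agent.H4Gr.PolyUnmixed.cmLocal_polynomial P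
    obtain ⟨Q, hQ, hQP⟩ := Ideal.exists_minimalPrimes_le (hsup.trans hP.1.2)
    haveI := hQ.1.1
    have hdisj' : Disjoint (P.primeCompl : Set (MvPolynomial (Fin (n + 1)) K)) (Q : Set (MvPolynomial (Fin (n + 1)) K)) :=
      Set.disjoint_left.2 fun x hx hxQ => hx (hQP hxQ)
    haveI := IsLocalization.isPrime_of_isPrime_disjoint P.primeCompl L Q hQ.1.1 hdisj'
    have hh : (Q.map (algebraMap _ L)).height = Q.height :=
      (IsLocalization.height_under P.primeCompl (Q.map (algebraMap _ L))).symm.trans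
        (congrArg Ideal.height (IsLocalization.under_map_of_isPrime_disjoint P.primeCompl L hQ.1.1 hdisj'))
    have h1 := Groth.Agent.H05EGA4.height_add_dim_eq_of_isCohenMacaulay L (Q.map (algebraMap _ L))
    rw [hh, Groth.Agent.H4Gr.PolyUnmixed.height_minimalPrimes_eq 𝔠 h𝔠 hQ, hc,
      IsLocalization.AtPrime.ringKrullDim_eq_height P L] at h1
    haveI : IsLocalization ((P.map π).comap π).primeCompl L :=
      IsLocalization.of_le_of_exists_dvd P.primeCompl _ (fun x hx h => hx (hPc ▸ h)) fun x hx =>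
        ⟨x, fun h => hx (by rw [← hPc] at h; exact h), dvd_rfl⟩
    obtain ⟨e⟩ := Groth.Agent.H02CA.GorFlat.nonempty_equiv_quot π hsurj (P.map π) L
    have hkerQ : (RingHom.ker π).map (algebraMap _ L) ≤ Q.map (algebraMap _ L) :=
      Ideal.map_mono (by rw [Ideal.mk_ker]; exact hQ.1.2)
    have h2 : ringKrullDim (L ⧸ Q.map (algebraMap _ L)) ≤ ((1 : ℕ∞) : WithBot ℕ∞) := by
      have h4 : ringKrullDim (L ⧸ Q.map (algebraMap (MvPolynomial (Fin (n + 1)) K) L)) ≤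
          ringKrullDim (L ⧸ (RingHom.ker π).map (algebraMap (MvPolynomial (Fin (n + 1)) K) L)) :=
        ringKrullDim_le_of_surjective (Ideal.Quotient.factor hkerQ) (Ideal.Quotient.factor_surjective hkerQ)
      refine h4.trans ?_
      rw [ringKrullDim_eq_of_ringEquiv e, IsLocalization.AtPrime.ringKrullDim_eq_height (P.map π) (Localization.AtPrime (P.map π))]
      exact WithBot.coe_le_coe.2 hP1
    have h3 : (P.height : WithBot ℕ∞) ≤ ((c : ℕ∞) : WithBot ℕ∞) + ((1 : ℕ∞) : WithBot ℕ∞) := by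
      rw [← h1]
      gcongr
    exact_mod_cast h3
  · rw [Ideal.height_eq_inf_minimalPrimes]
    refine le_iInf₂ fun P hP => ?_
    haveI := hP.1.1
    obtain ⟨Q, hQ, hQP⟩ := Ideal.exists_minimalPrimes_le (hsup.trans hP.1.2)
    haveI := hQ.1.1
    have hne' : Q ≠ P := fun h => hnot Q hQ (h ▸ hP.1.2)
    have h1 := Ideal.height_strict_mono_of_isPrime (I := Q) (lt_of_le_of_ne hQP hne')
    rw [Groth.Agent.H4Gr.PolyUnmixed.height_minimalPrimes_eq 𝔠 h𝔠 hQ, hc] at h1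
    exact Order.add_one_le_of_lt h1

end Groth.Agent.S18869
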