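import Groth.Statements.S18870
import Mathlib.RingTheory.Ideal.AssociatedPrime.Localization

set_option autoImplicit false
universe u
open Liaison

namespace Groth.Agent.S18870

/-- Let K be a field, R = K[x_0, …, x_n] graded by degree, and J ⊆ I ⊂ R homogeneous ideals with J ≠ 0,
height I = height J + 1 = h + 1 and R/J Cohen–Macaulay; let f ∈ R be homogeneous of degree d with J
: f = J, and put Ĩ = J + fI (the basic double link). Then Ĩ has the same height h + 1 as I. -/
theorem result (K : Type u) [Field K] (n h : ℕ)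
    (J I : Ideal (MvPolynomial (Fin (n + 1)) K))
    (hJ : J.IsHomogeneous (GrSyz.stdGr K (Fin (n + 1)))) (hI : I.IsHomogeneous (GrSyz.stdGr K (Fin (n + 1))))
    (hJ0 : J ≠ ⊥) (hJI : J ≤ I) (hJh : J.height = h) (hIh : I.height = h + 1)
    [LocCoh.IsCohenMacaulayRing (MvPolynomial (Fin (n + 1)) K ⧸ J)]
    (f : MvPolynomial (Fin (n + 1)) K) (d : ℕ) (hf : f ∈ GrSyz.stdGr K (Fin (n + 1)) (d : ℤ)) (hJf : J.colon {f} = J) :
    (J ⊔ Ideal.span {f} * I).height = h + 1 := by
  refine le_antisymm (hIh ▸ Ideal.height_mono (sup_le hJI Ideal.mul_le_right)) ?_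
  rw [Ideal.height_eq_inf_minimalPrimes]
  refine le_iInf₂ fun P hP => ?_
  haveI := hP.1.1
  rcases hP.1.1.mul_le.1 (le_sup_right.trans hP.1.2) with hf' | hI'
  · obtain ⟨Q, hQ, hQP⟩ := Ideal.exists_minimalPrimes_le (le_sup_left.trans hP.1.2)
    haveI := hQ.1.1
    have hne : Q ≠ P := by
      rintro rfl
      have hass := Module.associatedPrimes.minimalPrimes_annihilator_subset_associatedPrimes (MvPolynomial (Fin (n + 1)) K)
        (MvPolynomial (Fin (n + 1)) K ⧸ J) (by rwa [Ideal.annihilator_quotient] : Q ∈ _)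
      obtain ⟨-, z, hz⟩ := isAssociatedPrime_iff.mp hass
      obtain ⟨z, rfl⟩ := Ideal.Quotient.mk_surjective z
      have h1 : f ∈ Q := hf' (Ideal.mem_span_singleton_self f)
      rw [hz, Submodule.mem_colon_singleton, Submodule.mem_bot] at h1
      have h2 : z ∈ J.colon {f} := Submodule.mem_colon_singleton.2 (by
        show z * f ∈ J
        rw [mul_comm]
        exact Ideal.Quotient.eq_zero_iff_mem.1 h1)
      rw [hJf] at h2
      refine hQ.1.1.ne_top ((Ideal.eq_top_iff_one _).2 ?_)
      rw [hz, Submodule.mem_colon_singleton, Submodule.mem_bot, one_smul]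
      exact Ideal.Quotient.eq_zero_iff_mem.2 h2
    have h1 := Ideal.height_strict_mono_of_isPrime (I := Q) (lt_of_le_of_ne hQP hne)
    have h2 : (h : ℕ∞) < P.height := lt_of_le_of_lt (hJh ▸ Ideal.height_mono hQ.1.2) h1
    exact Order.add_one_le_of_lt h2
  · exact hIh ▸ Ideal.height_mono hI'

end Groth.Agent.S18870
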