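import Groth.Statements.S18871
import Groth.Agent.H4Liaison.Hyper

set_option autoImplicit false
universe u
open Liaison

namespace Groth.Agent.S18871

/-- Let K be a field, R = K[x_0, …, x_n] graded by degree, and J ⊆ I ⊂ R homogeneous ideals with J ≠ 0,
height I = height J + 1 = h + 1 and R/J Cohen–Macaulay; let f ∈ R be homogeneous of degree d with J
: f = J, and put Ĩ = J + fI (the basic double link). Then I is unmixed, meaning that every
associated prime of R/I has height h + 1, if and only if Ĩ is unmixed in the same sense. -/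
theorem result (K : Type u) [Field K] (n h : ℕ)
    (J I : Ideal (MvPolynomial (Fin (n + 1)) K))
    (hJ : J.IsHomogeneous (GrSyz.stdGr K (Fin (n + 1)))) (hI : I.IsHomogeneous (GrSyz.stdGr K (Fin (n + 1))))
    (hJ0 : J ≠ ⊥) (hJI : J ≤ I) (hJh : J.height = h) (hIh : I.height = h + 1)
    [LocCoh.IsCohenMacaulayRing (MvPolynomial (Fin (n + 1)) K ⧸ J)]
    (f : MvPolynomial (Fin (n + 1)) K) (d : ℕ) (hf : f ∈ GrSyz.stdGr K (Fin (n + 1)) (d : ℤ)) (hJf : J.colon {f} = J) :
    (∀ p ∈ associatedPrimes (MvPolynomial (Fin (n + 1)) K) (MvPolynomial (Fin (n + 1)) K ⧸ I), p.height = h + 1) ↔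
      ∀ p ∈ associatedPrimes (MvPolynomial (Fin (n + 1)) K) (MvPolynomial (Fin (n + 1)) K ⧸ (J ⊔ Ideal.span {f} * I)), p.height = h + 1 := by
  let φ : (MvPolynomial (Fin (n + 1)) K ⧸ I) →ₗ[MvPolynomial (Fin (n + 1)) K]
      MvPolynomial (Fin (n + 1)) K ⧸ (J ⊔ Ideal.span {f} * I) :=
    Submodule.mapQ I (J ⊔ Ideal.span {f} * I) (LinearMap.mulLeft _ f) (fun x hx => Submodule.mem_sup_right
      (Ideal.mul_mem_mul (Ideal.mem_span_singleton_self f) hx))
  let ψ : (MvPolynomial (Fin (n + 1)) K ⧸ (J ⊔ Ideal.span {f} * I)) →ₗ[MvPolynomial (Fin (n + 1)) K]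
      MvPolynomial (Fin (n + 1)) K ⧸ (J ⊔ Ideal.span {f}) :=
    Submodule.mapQ _ (J ⊔ Ideal.span {f}) LinearMap.id (show _ ≤ _ from sup_le_sup_left Ideal.mul_le_left J)
  have hφ : Function.Injective φ := by
    rw [injective_iff_map_eq_zero]
    intro z hz
    obtain ⟨r, rfl⟩ := Submodule.Quotient.mk_surjective _ z
    rw [Submodule.mapQ_apply, Submodule.Quotient.mk_eq_zero, LinearMap.mulLeft_apply] at hz
    obtain ⟨a, ha, b, hb, hab⟩ := Submodule.mem_sup.1 hz
    obtain ⟨i, hi, rfl⟩ := Ideal.mem_span_singleton_mul.1 hb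
    rw [Submodule.Quotient.mk_eq_zero]
    have h1 : r - i ∈ J.colon {f} := Submodule.mem_colon_singleton.2 (by
      rw [smul_eq_mul, sub_mul, mul_comm r, ← hab, mul_comm i, add_sub_cancel_right]
      exact ha)
    rw [hJf] at h1
    have h2 := I.add_mem (hJI h1) hi
    rwa [sub_add_cancel] at h2
  have hex : Function.Exact φ ψ := by
    intro z
    obtain ⟨r, rfl⟩ := Submodule.Quotient.mk_surjective _ z
    constructor
    · intro hz
      rw [Submodule.mapQ_apply, Submodule.Quotient.mk_eq_zero, LinearMap.id_apply] at hz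
      obtain ⟨a, ha, b, hb, hab⟩ := Submodule.mem_sup.1 hz
      obtain ⟨c, rfl⟩ := Ideal.mem_span_singleton'.1 hb
      refine ⟨Submodule.Quotient.mk c, ?_⟩
      rw [Submodule.mapQ_apply, Submodule.Quotient.eq, LinearMap.mulLeft_apply, ← hab]
      refine Submodule.mem_sup_left ?_
      rw [mul_comm f, sub_add_cancel_right]
      exact J.neg_mem ha
    · rintro ⟨w, hw⟩
      obtain ⟨c, rfl⟩ := Submodule.Quotient.mk_surjective _ w
      rw [← hw, Submodule.mapQ_apply, Submodule.mapQ_apply, Submodule.Quotient.mk_eq_zero, LinearMap.id_apply,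
        LinearMap.mulLeft_apply]
      exact Submodule.mem_sup_right (Ideal.mul_mem_right _ _ (Ideal.mem_span_singleton_self f))
  constructor
  · intro hu p hp
    rcases associatedPrimes.subset_union_of_exact hφ hex hp with hp' | hp'
    · exact hu p hp'
    · haveI : LocCoh.IsCohenMacaulayRing (MvPolynomial (Fin (n + 1)) K ⧸ (J ⊔ Ideal.span {f})) :=
        Groth.Agent.H4Liaison.isCohenMacaulayRing_quot_sup J hJf
      have hhom : (J ⊔ Ideal.span {f}).IsHomogeneous (GrSyz.stdGr K (Fin (n + 1))) :=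
        hJ.sup (Ideal.homogeneous_span _ _ fun x hx => ⟨(d : ℤ), Set.mem_singleton_iff.1 hx ▸ hf⟩)
      have hne : J ⊔ Ideal.span {f} ≠ ⊤ := fun h => by
        obtain ⟨hp1, z, hz⟩ := isAssociatedPrime_iff.mp hp'
        haveI : Subsingleton (MvPolynomial (Fin (n + 1)) K ⧸ (J ⊔ Ideal.span {f})) :=
          Ideal.Quotient.subsingleton_iff.2 h
        exact hp1.ne_top ((Ideal.eq_top_iff_one _).2 (hz ▸ Submodule.mem_colon_singleton.2
          ((Submodule.mem_bot _).2 (Subsingleton.elim _ _))))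
      rw [Groth.Agent.H4Gr.PolyUnmixed.height_associatedPrimes _ hhom hp',
        Groth.Agent.H4Liaison.height_sup_span J hJ hJh hJf hne]
  · intro hu p hp
    exact hu p (associatedPrimes.subset_of_injective hφ hp)

end Groth.Agent.S18871
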