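import Groth.Statements.S18872
import Groth.Agent.H4Liaison.HyperLC

set_option autoImplicit false
universe u
open Liaison

namespace Groth.Agent.S18872

/-- Let K be a field, R = K[x_0, …, x_n] graded by degree, and J ⊆ I ⊂ R homogeneous ideals with J ≠ 0,
height I = height J + 1 = h + 1 and R/J Cohen–Macaulay; let f ∈ R be homogeneous of degree d with J
: f = J, and put Ĩ = J + fI (the basic double link). Then for every i < n − h = dim R/I the local
cohomology modules of R/Ĩ and of R/I with support in the irrelevant ideal 𝔪 = (x_0, …, x_n) are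
isomorphic in degree i. (The graded statement is H^i_𝔪(R/Ĩ) ≅ H^i_𝔪(R/I)(−d); here only the
existence of an R-linear isomorphism of the underlying modules is asserted, the grading and the
shift by d being dropped.) -/
theorem result (K : Type u) [Field K] (n h : ℕ)
    (J I : Ideal (MvPolynomial (Fin (n + 1)) K))
    (hJ : J.IsHomogeneous (GrSyz.stdGr K (Fin (n + 1)))) (hI : I.IsHomogeneous (GrSyz.stdGr K (Fin (n + 1))))
    (hJ0 : J ≠ ⊥) (hJI : J ≤ I) (hJh : J.height = h) (hIh : I.height = h + 1)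
    [LocCoh.IsCohenMacaulayRing (MvPolynomial (Fin (n + 1)) K ⧸ J)]
    (f : MvPolynomial (Fin (n + 1)) K) (d : ℕ) (hf : f ∈ GrSyz.stdGr K (Fin (n + 1)) (d : ℤ)) (hJf : J.colon {f} = J) (i : ℕ) (hi : i + h < n) :
    Nonempty (LocCoh.H (GrSyz.irrel (GrSyz.stdGr K (Fin (n + 1)))).toIdeal i (MvPolynomial (Fin (n + 1)) K ⧸ (J ⊔ Ideal.span {f} * I)) ≃ₗ[MvPolynomial (Fin (n + 1)) K]
      LocCoh.H (GrSyz.irrel (GrSyz.stdGr K (Fin (n + 1)))).toIdeal i (MvPolynomial (Fin (n + 1)) K ⧸ I)) := by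
  let φ : (MvPolynomial (Fin (n + 1)) K ⧸ I) →ₗ[MvPolynomial (Fin (n + 1)) K]
      MvPolynomial (Fin (n + 1)) K ⧸ (J ⊔ Ideal.span {f} * I) :=
    Submodule.mapQ I (J ⊔ Ideal.span {f} * I) (LinearMap.mulLeft _ f) (fun x hx => Submodule.mem_sup_right
      (Ideal.mul_mem_mul (Ideal.mem_span_singleton_self f) hx))
  let ψ : (MvPolynomial (Fin (n + 1)) K ⧸ (J ⊔ Ideal.span {f} * I)) →ₗ[MvPolynomial (Fin (n + 1)) K]
      MvPolynomial (Fin (n + 1)) K ⧸ (J ⊔ Ideal.span {f}) :=
    Submodule.mapQ _ (J ⊔ Ideal.span {f}) LinearMap.id (show _ ≤ _ from sup_le_sup_left Ideal.mul_le_left J)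
  have hφ : Function.Injective φ := by
    rw [injective_iff_map_eq_zero]
    intro z hz
    obtain ⟨r, rfl⟩ := Submodule.Quotient.mk_surjective _ z
    rw [Submodule.mapQ_apply, Submodule.Quotient.mk_eq_zero, LinearMap.mulLeft_apply] at hz
    obtain ⟨a, ha, b, hb, hab⟩ := Submodule.mem_sup.1 hz
    obtain ⟨i, hi, rfl⟩ := Ideal.mem_span_singleton_mul.1 hb
    rw [Submodule.Quotient.mk_eq_zero]
    have h1 : r - i ∈ J.colon {f} := Submodule.mem_colon_singleton.2 (by
      rw [smul_eq_mul, sub_mul, mul_comm r, ← hab, mul_comm i, add_sub_cancel_right]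
      exact ha)
    rw [hJf] at h1
    have h2 := I.add_mem (hJI h1) hi
    rwa [sub_add_cancel] at h2
  have hex : Function.Exact φ ψ := by
    intro z
    obtain ⟨r, rfl⟩ := Submodule.Quotient.mk_surjective _ z
    constructor
    · intro hz
      rw [Submodule.mapQ_apply, Submodule.Quotient.mk_eq_zero, LinearMap.id_apply] at hz
      obtain ⟨a, ha, b, hb, hab⟩ := Submodule.mem_sup.1 hz
      obtain ⟨c, rfl⟩ := Ideal.mem_span_singleton'.1 hb
      refine ⟨Submodule.Quotient.mk c, ?_⟩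
      rw [Submodule.mapQ_apply, Submodule.Quotient.eq, LinearMap.mulLeft_apply, ← hab]
      refine Submodule.mem_sup_left ?_
      rw [mul_comm f, sub_add_cancel_right]
      exact J.neg_mem ha
    · rintro ⟨w, hw⟩
      obtain ⟨c, rfl⟩ := Submodule.Quotient.mk_surjective _ w
      rw [← hw, Submodule.mapQ_apply, Submodule.mapQ_apply, Submodule.Quotient.mk_eq_zero, LinearMap.id_apply,
        LinearMap.mulLeft_apply]
      exact Submodule.mem_sup_right (Ideal.mul_mem_right _ _ (Ideal.mem_span_singleton_self f))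
  have hhom : (J ⊔ Ideal.span {f}).IsHomogeneous (GrSyz.stdGr K (Fin (n + 1))) :=
    hJ.sup (Ideal.homogeneous_span _ _ fun x hx => ⟨(d : ℤ), Set.mem_singleton_iff.1 hx ▸ hf⟩)
  have hψ : Function.Surjective ψ := fun z => by
    obtain ⟨r, rfl⟩ := Submodule.Quotient.mk_surjective _ z
    exact ⟨Submodule.Quotient.mk r, rfl⟩
  by_cases hne : J ⊔ Ideal.span {f} = ⊤
  · have hbij : Function.Bijective φ := ⟨hφ, fun z => (hex z).1 (by
      haveI : Subsingleton (MvPolynomial (Fin (n + 1)) K ⧸ (J ⊔ Ideal.span {f})) := Ideal.Quotient.subsingleton_iff.2 hne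
      exact Subsingleton.elim _ _)⟩
    exact ⟨((((Groth.Agent.H4LC.extColim (Groth.Agent.H4LC.quotSys (GrSyz.irrel (GrSyz.stdGr K (Fin (n + 1)))).toIdeal) i).mapIso
      (LinearEquiv.toModuleIso (LinearEquiv.ofBijective φ hbij)))).toLinearEquiv).symm⟩
  haveI : LocCoh.IsCohenMacaulayRing (MvPolynomial (Fin (n + 1)) K ⧸ (J ⊔ Ideal.span {f})) :=
    Groth.Agent.H4Liaison.isCohenMacaulayRing_quot_sup J hJf
  have hht := Groth.Agent.H4Liaison.height_sup_span J hJ hJh hJf hne
  let S : CategoryTheory.ShortComplex (ModuleCat.{u} (MvPolynomial (Fin (n + 1)) K)) :=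
    CategoryTheory.ShortComplex.mk (ModuleCat.ofHom φ) (ModuleCat.ofHom ψ)
      (by ext1; exact hex.linearMap_comp_eq_zero)
  have hS : S.ShortExact :=
    { exact := (CategoryTheory.ShortComplex.moduleCat_exact_iff_range_eq_ker S).2 (LinearMap.exact_iff.1 hex).symm
      mono_f := (ModuleCat.mono_iff_injective _).2 hφ
      epi_g := (ModuleCat.epi_iff_surjective _).2 hψ }
  let G := Groth.Agent.H4LC.quotSys (GrSyz.irrel (GrSyz.stdGr K (Fin (n + 1)))).toIdeal
  have hvan : ∀ j : ℕ, j + h < n → Subsingleton ((Groth.Agent.H4LC.extColim G j).obj S.X₃) := fun j hj =>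
    Groth.Agent.H4Liaison.subsingleton_H_irrel _ hhom (c := h + 1) (by exact_mod_cast hht) (by omega)
  have hbij : Function.Bijective ((Groth.Agent.H4LC.extColim G i).map S.f).hom := by
    refine ⟨?_, fun z => (Groth.Agent.H4LC.exact₂ G hS i z).1
      (@Subsingleton.elim _ (hvan i hi) _ _)⟩
    rcases i with _ | i
    · exact Groth.Agent.H4LC.map_f_zero_injective G hS
    · rw [injective_iff_map_eq_zero]
      intro z hz
      obtain ⟨w, rfl⟩ := (Groth.Agent.H4LC.exact₁ G hS i (i + 1) rfl z).1 hz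
      rw [@Subsingleton.elim _ (hvan i (by omega)) w 0, map_zero]
  exact ⟨(LinearEquiv.ofBijective _ hbij).symm⟩

end Groth.Agent.S18872
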