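import Groth.Statements.S18873
import Groth.Agent.H4LiaisonDeg.GorLength
import Groth.Agent.H11Misc.HilbertDeg
import Groth.Agent.H02CA.GorRing
import Groth.Agent.H3CAlg.Syz.Std

set_option autoImplicit false
universe u
open Liaison

namespace Groth.Agent.S18873

/-- Let K be a field, R = K[x_0, …, x_n] graded by degree, 2 ≤ c ≤ n, 𝔠 ⊂ R a homogeneous ideal of
height c such that R/𝔠 is a Gorenstein ring, I ⊂ R a homogeneous ideal of height c containing 𝔠, and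
J = 𝔠 : I. Write h_𝔞(j) = dim_K [R/𝔞]_j for the Hilbert function of R/𝔞. If p_𝔠, p_I, p_J ∈ ℚ[t] are
polynomials agreeing with h_𝔠, h_I, h_J in all sufficiently large degrees (Hilbert polynomials; R/𝔠
and R/I have dimension n + 1 − c ≥ 1, and so has R/J unless I = 𝔠, when J = R and p_J = 0), then the
coefficients of t^(n−c) satisfy p_J = p_𝔠 − p_I in that degree; multiplying by (n − c)! this says
deg J = deg 𝔠 − deg I. -/
theorem result (K : Type u) [Field K] (n c : ℕ) (hc : 2 ≤ c) (hcn : c ≤ n)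
    (𝔠 I : Ideal (MvPolynomial (Fin (n + 1)) K))
    (h𝔠 : 𝔠.IsHomogeneous (GrSyz.stdGr K (Fin (n + 1)))) (hI : I.IsHomogeneous (GrSyz.stdGr K (Fin (n + 1))))
    [LocCoh.IsGorensteinRing (MvPolynomial (Fin (n + 1)) K ⧸ 𝔠)] (h𝔠c : 𝔠.height = c) (hIc : I.height = c) (h𝔠I : 𝔠 ≤ I)
    (p𝔠 pI pJ : Polynomial ℚ)
    (hp𝔠 : ∃ j₀ : ℕ, ∀ j : ℕ, j₀ ≤ j → (Module.finrank K ↥(Submodule.map (Ideal.Quotient.mkₐ K (𝔠)).toLinearMap (GrSyz.stdGr K (Fin (n + 1)) (j : ℤ))) : ℚ) = p𝔠.eval (j : ℚ))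
    (hpI : ∃ j₀ : ℕ, ∀ j : ℕ, j₀ ≤ j → (Module.finrank K ↥(Submodule.map (Ideal.Quotient.mkₐ K (I)).toLinearMap (GrSyz.stdGr K (Fin (n + 1)) (j : ℤ))) : ℚ) = pI.eval (j : ℚ))
    (hpJ : ∃ j₀ : ℕ, ∀ j : ℕ, j₀ ≤ j → (Module.finrank K ↥(Submodule.map (Ideal.Quotient.mkₐ K (𝔠.colon (I : Set (MvPolynomial (Fin (n + 1)) K)))).toLinearMap (GrSyz.stdGr K (Fin (n + 1)) (j : ℤ))) : ℚ) = pJ.eval (j : ℚ)) :
    pJ.coeff (n - c) = p𝔠.coeff (n - c) - pI.coeff (n - c) := by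
  classical
  let S := MvPolynomial (Fin (n + 1)) K
  let 𝒜 := CohB1.polyGrading n K
  have hgr : ∀ j : ℕ, GrSyz.stdGr K (Fin (n + 1)) (j : ℤ) = 𝒜 j := fun j => H3CAlg.Syz.stdGr_natCast j
  -- homogeneity for the natural grading
  have hhom : ∀ X : Ideal S, X.IsHomogeneous (GrSyz.stdGr K (Fin (n + 1))) → X.IsHomogeneous 𝒜 := by
    intro X hX
    have hspan : X = Ideal.span {z | z ∈ X ∧ SetLike.IsHomogeneousElem 𝒜 z} := by
      refine le_antisymm (fun x hx => ?_) (Ideal.span_le.2 fun z hz => hz.1)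
      rw [← DirectSum.sum_support_decompose (GrSyz.stdGr K (Fin (n + 1))) x]
      refine Ideal.sum_mem _ fun j _ => ?_
      rcases lt_or_ge j 0 with hj | hj
      · rw [H3CAlg.Syz.stdGr_eq_zero hj (DirectSum.decompose (GrSyz.stdGr K (Fin (n + 1))) x j).2]
        exact zero_mem _
      · obtain ⟨i, rfl⟩ := Int.eq_ofNat_of_zero_le hj
        refine Ideal.subset_span ⟨hX _ hx, i, ?_⟩
        rw [← hgr i]
        exact (DirectSum.decompose (GrSyz.stdGr K (Fin (n + 1))) x (i : ℤ)).2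
    rw [hspan]
    exact Ideal.homogeneous_span 𝒜 _ fun z hz => hz.2
  let J : Ideal S := 𝔠.colon (I : Set S)
  have hJhom : J.IsHomogeneous 𝒜 := by
    have hIh := hhom I hI
    have hJ : J = ⨅ g : {z : S // z ∈ I ∧ SetLike.IsHomogeneousElem 𝒜 z}, 𝔠.colon {g.1} := by
      refine le_antisymm (le_iInf fun g => fun x hx => Submodule.mem_colon_singleton.2 (Submodule.mem_colon.1 hx _ g.2.1)) ?_
      intro x hx
      refine Submodule.mem_colon.2 fun z hz => ?_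
      rw [← DirectSum.sum_support_decompose 𝒜 z, smul_eq_mul, Finset.mul_sum]
      refine Ideal.sum_mem _ fun i _ => ?_
      exact Submodule.mem_colon_singleton.1 (Submodule.mem_iInf _ |>.1 hx ⟨_, hIh i hz, i, (DirectSum.decompose 𝒜 z i).2⟩)
    rw [hJ]
    exact Ideal.IsHomogeneous.iInf fun g => by
      obtain ⟨d, hd⟩ := g.2.2
      exact H11Misc.HilbertDeg.isHomogeneous_colon (hhom 𝔠 h𝔠) hd
  have h𝔠J : 𝔠 ≤ J := fun a ha => Submodule.mem_colon.2 fun x _ => 𝔠.mul_mem_right x ha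
  -- Hilbert functions
  have hfun : ∀ X : Ideal S, ∀ j : ℕ,
      (Module.finrank K ↥(Submodule.map (Ideal.Quotient.mkₐ K X).toLinearMap (GrSyz.stdGr K (Fin (n + 1)) (j : ℤ))) : ℚ) =
        H11Misc.HilbertDeg.hfun X j := by
    intro X j
    rw [hgr j]
    haveI := H11Misc.HilbertDeg.finite_piece (k := K) (n := n) j
    let φ := (Ideal.Quotient.mkₐ K X).toLinearMap.domRestrict (𝒜 j)
    have h1 := φ.finrank_range_add_finrank_ker
    rw [LinearMap.range_domRestrict] at h1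
    have h2 : Module.finrank K (LinearMap.ker φ) = Module.finrank K ↥(Submodule.restrictScalars K X ⊓ 𝒜 j) := by
      have : LinearMap.ker φ = (Submodule.restrictScalars K X ⊓ 𝒜 j).comap (𝒜 j).subtype := by
        ext z
        simp [φ, Ideal.Quotient.eq_zero_iff_mem]
      rw [this]
      exact (Submodule.comapSubtypeEquivOfLe inf_le_right).finrank_eq
    rw [H11Misc.HilbertDeg.hfun, ← h1, h2]
    push_cast
    ring
  have hHilb : ∀ (X : Ideal S) (P : Polynomial ℚ),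
      (∃ j₀ : ℕ, ∀ j : ℕ, j₀ ≤ j → (Module.finrank K ↥(Submodule.map (Ideal.Quotient.mkₐ K X).toLinearMap
        (GrSyz.stdGr K (Fin (n + 1)) (j : ℤ))) : ℚ) = P.eval (j : ℚ)) → H11Misc.HilbertDeg.IsHilb X P :=
    fun X P ⟨j₀, h⟩ => ⟨j₀, fun m hm => by rw [← h m hm, hfun]⟩
  -- dimensions
  obtain ⟨N, hN⟩ : ∃ N, N + c = n := ⟨n - c, by omega⟩
  have hNc : n - c = N := by omega
  rw [hNc]
  have hdim : ∀ q : Ideal S, q.IsPrime → ∃ h e : ℕ, q.height = h ∧ ringKrullDim (S ⧸ q) = e ∧ h + e = n + 1 := by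
    intro q hq
    haveI := hq
    have h1 := H8Props.FieldDim.height_add_dim_quotient K S q
    rw [show ringKrullDim S = ((n + 1 : ℕ) : WithBot ℕ∞) by simp [S]] at h1
    obtain ⟨h, hh⟩ := ENat.ne_top_iff_exists.1 (Ideal.height_ne_top (I := q) Ideal.IsPrime.ne_top')
    obtain ⟨e, he⟩ := H11Misc.HilbertDeg.exists_dim (k := K) q
    rw [← hh, he] at h1
    exact ⟨h, e, hh.symm, he, by exact_mod_cast h1⟩
  have hle : ∀ q : Ideal S, q.IsPrime → 𝔠 ≤ q → ringKrullDim (S ⧸ q) ≤ (N + 1 : ℕ) := by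
    intro q hq h
    obtain ⟨a, e, ha, he, hae⟩ := hdim q hq
    have h1 := Ideal.height_mono h
    rw [h𝔠c, ha] at h1
    have : c ≤ a := by exact_mod_cast h1
    rw [he]
    exact_mod_cast (show e ≤ N + 1 by omega)
  have htop : ∀ q : Ideal S, q.IsPrime → 𝔠 ≤ q → ringKrullDim (S ⧸ q) = (N + 1 : ℕ) → q ∈ 𝔠.minimalPrimes := by
    intro q hq h hd
    obtain ⟨r, hr, hrq⟩ := Ideal.exists_minimalPrimes_le (I := 𝔠) (J := q) h
    haveI := hr.1.1
    rcases hrq.lt_or_eq with hlt | heq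
    · obtain ⟨a, e, -, he, -⟩ := hdim r hr.1.1
      have h1 := H11Misc.HilbertDeg.dim_lt hlt he hd
      have h2 := hle r hr.1.1 hr.1.2
      rw [he] at h2
      have : e ≤ N + 1 := by exact_mod_cast h2
      omega
    · exact heq ▸ hr
  let ι := {q : Ideal S // q ∈ 𝔠.minimalPrimes ∧ ringKrullDim (S ⧸ q) = (N + 1 : ℕ)}
  haveI : Fintype ι := Set.Finite.fintype
    ((Ideal.finite_minimalPrimes_of_isNoetherianRing S 𝔠).subset fun q hq => hq.1 :
      {q : Ideal S | q ∈ 𝔠.minimalPrimes ∧ ringKrullDim (S ⧸ q) = (N + 1 : ℕ)}.Finite)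
  let p : ι → Ideal S := fun i => i.1
  haveI hp : ∀ i, (p i).IsPrime := fun i => i.2.1.1.1
  have hQ : ∀ i, ∃ Q : Polynomial ℚ, H11Misc.HilbertDeg.IsHilb (p i) Q := fun i => by
    obtain ⟨Q, hQ, -⟩ := H11Misc.HilbertDeg.exists_hilb (N + 1) (p i)
      (H11Misc.HilbertDeg.homogeneous_minimalPrimes (hhom 𝔠 h𝔠) i.2.1) fun q hq h => hle q hq (i.2.1.1.2.trans h)
    exact ⟨Q, hQ⟩
  choose Q hQ using hQ
  have hcoeff : ∀ (X : Ideal S), 𝔠 ≤ X → X.IsHomogeneous 𝒜 → ∀ P : Polynomial ℚ, H11Misc.HilbertDeg.IsHilb X P →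
      P.coeff N = ∑ i, (H11Misc.HilbertDeg.mult X (p i) : ℚ) * (Q i).coeff N := fun X hX hXh P hP =>
    H11Misc.HilbertDeg.coeff_eq_sum N X hXh (fun q hq h => hle q hq (hX.trans h)) p Subtype.val_injective
      (fun i => i.2.2) (fun q hq h hd => ⟨⟨q, htop q hq (hX.trans h) hd, hd⟩, rfl⟩) Q hQ hP
  rw [hcoeff 𝔠 le_rfl (hhom 𝔠 h𝔠) _ (hHilb 𝔠 _ hp𝔠), hcoeff I h𝔠I (hhom I hI) _ (hHilb I _ hpI),
    hcoeff J h𝔠J hJhom _ (hHilb J _ hpJ), ← Finset.sum_sub_distrib]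
  refine Finset.sum_congr rfl fun i _ => ?_
  rw [← sub_mul]
  congr 1
  -- multiplicities
  let P := p i
  let L := Localization.AtPrime P
  have hPm : P ∈ 𝔠.minimalPrimes := i.2.1
  let P' : Ideal (S ⧸ 𝔠) := P.map (Ideal.Quotient.mk 𝔠)
  haveI : P'.IsPrime := Ideal.isPrime_map_quotientMk_of_isPrime hPm.1.2
  have hcomap : P'.comap (Ideal.Quotient.mk 𝔠) = P := by
    rw [Ideal.comap_map_of_surjective _ Ideal.Quotient.mk_surjective, ← RingHom.ker_eq_comap_bot,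
      Ideal.mk_ker, sup_eq_left]
    exact hPm.1.2
  haveI : IsLocalization (P'.comap (Ideal.Quotient.mk 𝔠)).primeCompl L := by
    have h : (P'.comap (Ideal.Quotient.mk 𝔠)).primeCompl = P.primeCompl :=
      Submonoid.ext fun x => by
        show x ∉ P'.comap (Ideal.Quotient.mk 𝔠) ↔ x ∉ P
        rw [hcomap]
    rw [h]
    infer_instance
  obtain ⟨e⟩ := H02CA.GorFlat.nonempty_equiv_quot (Ideal.Quotient.mk 𝔠) Ideal.Quotient.mk_surjective P' L
  rw [Ideal.mk_ker] at e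
  haveI : LocCoh.IsGorensteinLocalRing (L ⧸ 𝔠.map (algebraMap S L)) :=
    H02CA.GorFlat.gor_of_ringEquiv e.symm
      (LocCoh.IsGorensteinRing.isGorensteinLocalRing_localization P')
  have h0 : ringKrullDim (L ⧸ 𝔠.map (algebraMap S L)) ≤ 0 := by
    rw [ringKrullDim_eq_of_ringEquiv e, IsLocalization.AtPrime.ringKrullDim_eq_height P']
    have : P' ∈ minimalPrimes (S ⧸ 𝔠) := by
      refine ⟨⟨inferInstance, bot_le⟩, fun r hr hrP => ?_⟩
      haveI := hr.1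
      have h1 : P ≤ r.comap (Ideal.Quotient.mk 𝔠) := hPm.2 ⟨Ideal.IsPrime.comap _, fun x hx => by
        rw [Ideal.mem_comap, Ideal.Quotient.eq_zero_iff_mem.2 hx]
        exact zero_mem r⟩ ((Ideal.comap_mono hrP).trans hcomap.le)
      exact (Ideal.map_mono h1).trans Ideal.map_comap_le
    rw [Ideal.height_eq_zero_iff.2 this]
    exact le_rfl
  have hlen := H4LiaisonDeg.localized_length_add 𝔠 I P h𝔠I (IsNoetherian.noetherian I) h0
  haveI : Ring.KrullDimLE 0 (L ⧸ 𝔠.map (algebraMap S L)) := Ring.krullDimLE_iff.2 h0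
  haveI hart : IsArtinianRing (L ⧸ 𝔠.map (algebraMap S L)) :=
    (isArtinianRing_iff_isNoetherianRing_krullDimLE_zero (R := L ⧸ 𝔠.map (algebraMap S L))).2 ⟨inferInstance, inferInstance⟩
  have hne : Module.length L (LocalizedModule P.primeCompl (S ⧸ 𝔠)) ≠ ⊤ := by
    rw [((LocalizedModule.equivTensorProduct P.primeCompl (S ⧸ 𝔠)).trans
      (Algebra.TensorProduct.quotIdealMapEquivTensorQuot L 𝔠).symm.toLinearEquiv).length_eq,
      Module.length_eq_of_surjective (S := L) (R := L ⧸ 𝔠.map (algebraMap S L)) Ideal.Quotient.mk_surjective]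
    exact Module.length_ne_top
  rw [hlen] at hne
  simp only [ne_eq, ENat.add_eq_top, not_or] at hne
  have : H11Misc.HilbertDeg.mult 𝔠 P = H11Misc.HilbertDeg.mult I P + H11Misc.HilbertDeg.mult J P := by
    rw [H11Misc.HilbertDeg.mult, hlen, ENat.toNat_add hne.1 hne.2]
    rfl
  rw [show H11Misc.HilbertDeg.mult 𝔠 (p i) = _ from this]
  push_cast
  ring

end Groth.Agent.S18873
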