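-- statement Lim.GrothFrozen.S18874 (Groth/Statements/S18874.lean; the theorem Lim.exists_nhd_isProper_restrict_of_isProper_baseChange_completion);
import Groth.Statements.S18874
import Groth.Agent.H7Lim.Proper.Descend
import Groth.Agent.H8Props.SpreadGeneric
import Groth.Agent.H05EGA4.FormalFibres

set_option autoImplicit false
universe u
open Lim

namespace Groth.Agent.S18874
set_option backward.isDefEq.respectTransparency false
set_option backward.defeqAttrib.useBackward true

open CategoryTheory AlgebraicGeometry in
/-- Let S be a quasi-compact scheme whose affine opens have excellent coordinate rings, let X → S and Y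
→ S be quasi-compact, quasi-separated and locally of finite presentation, let f : X → Y be a
morphism over S, let s be a closed point of S and R the completion of the local ring of S at s. If
the base change X ×_S Spec R → Y ×_S Spec R of f is proper, then s has an open neighbourhood W in S
such that X ×_S W → Y ×_S W is proper. (The published statement assumes X and Y only locally of
finite presentation over S; for S the affine line over a field, s the origin, Y = S and X the
disjoint union of S with one reduced point over each closed point other than s, the base change to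
Spec R is an isomorphism while X ×_S W → W is not quasi-compact for any open W ∋ s, so X and Y are
taken of finite presentation over S here, which is what the limit argument of the published proof
uses.) -/
theorem result
    (S : Scheme.{u}) [CompactSpace S] (hS : ∀ U : S.affineOpens, EGA4.IsExcellent Γ(S, U.1))
    {X Y : Scheme.{u}} (f : X ⟶ Y) (g : Y ⟶ S)
    [QuasiCompact g] [QuasiSeparated g] [LocallyOfFinitePresentation g]
    [QuasiCompact (f ≫ g)] [QuasiSeparated (f ≫ g)] [LocallyOfFinitePresentation (f ≫ g)]
    (s : S) (hs : IsClosed ({s} : Set S))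
    (hR : IsProper (Limits.pullback.snd f (Limits.pullback.fst g
      (Spec.map (CommRingCat.ofHom (algebraMap (S.presheaf.stalk s) (EGA4.Cpl (S.presheaf.stalk s)))) ≫
        S.fromSpecStalk s)))) :
    ∃ W : S.Opens, s ∈ W ∧ IsProper (f ∣_ (g ⁻¹ᵁ W)) := by
  haveI : IsLocallyNoetherian S := isLocallyNoetherian_of_affine_cover (iSup_affineOpens_eq_top S)
    fun U => (hS U).1
  haveI : IsNoetherianRing ↑(S.presheaf.stalk s) := inferInstance
  let A := S.presheaf.stalk s
  let e : Spec (CommRingCat.of (EGA4.Cpl A)) ⟶ Spec A :=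
    Spec.map (CommRingCat.ofHom (algebraMap A (EGA4.Cpl A)))
  let fs := S.fromSpecStalk s
  let gA := Limits.pullback.snd g fs
  let fA := Limits.pullback.snd f (Limits.pullback.fst g fs)
  let qY : Limits.pullback g (e ≫ fs) ⟶ Limits.pullback g fs :=
    Limits.pullback.lift (Limits.pullback.fst _ _) (Limits.pullback.snd _ _ ≫ e)
      (by rw [Category.assoc, Limits.pullback.condition])
  have hqY : IsPullback qY (Limits.pullback.snd g (e ≫ fs)) gA e :=
    IsPullback.of_right (by rw [Limits.pullback.lift_fst]; exact IsPullback.of_hasPullback _ _)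
      (Limits.pullback.lift_snd _ _ _) (IsPullback.of_hasPullback _ _)
  haveI := H05EGA4.faithfullyFlat_cpl (A := A)
  have hfq : H18Descent.fpqc.{u} e :=
    ⟨⟨⟨fun x => PrimeSpectrum.comap_surjective_of_faithfullyFlat x⟩,
      (HasRingHomProperty.Spec_iff (P := @Flat)).2
        (RingHom.flat_algebraMap_iff.2 (inferInstance : Module.Flat A (EGA4.Cpl A)))⟩, inferInstance⟩
  have hsq : IsPullback (Limits.pullback.lift (Limits.pullback.fst f (Limits.pullback.fst g (e ≫ fs)))
      (Limits.pullback.snd _ _ ≫ qY) (by
        rw [Category.assoc, Limits.pullback.lift_fst, Limits.pullback.condition]))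
      (Limits.pullback.snd f (Limits.pullback.fst g (e ≫ fs))) fA qY :=
    IsPullback.of_right (by
      rw [Limits.pullback.lift_fst, Limits.pullback.lift_fst]
      exact IsPullback.of_hasPullback _ _) (Limits.pullback.lift_snd _ _ _) (IsPullback.of_hasPullback _ _)
  have hA : IsProper fA := MorphismProperty.of_isPullback_of_descendsAlong (P := @IsProper)
    (Q := H18Descent.fpqc.{u}) hsq.flip (MorphismProperty.of_isPullback (P := H18Descent.fpqc.{u}) hqY.flip hfq) hR
  haveI : LocallyOfFiniteType f := locallyOfFiniteType_of_comp f g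
  haveI : QuasiCompact f := QuasiCompact.of_comp f g
  haveI : QuasiSeparated f := QuasiSeparated.of_comp f g
  obtain ⟨i₀⟩ : Nonempty (H8Props.SpreadGeneric.AffNhds s) := IsCofiltered.nonempty
  let tb := H8Props.SpreadGeneric.toBase i₀
  let g₀ := Limits.pullback.snd g tb
  let f₀ := Limits.pullback.snd f (Limits.pullback.fst g tb)
  have hY₀ := IsPullback.of_hasPullback g tb
  have hX₀ := IsPullback.of_hasPullback f (Limits.pullback.fst g tb)
  haveI : QuasiCompact g₀ := MorphismProperty.pullback_snd _ _ ‹_›
  haveI : QuasiSeparated g₀ := MorphismProperty.pullback_snd _ _ ‹_›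
  haveI : CompactSpace ↥(Limits.pullback g tb) := QuasiCompact.compactSpace_of_compactSpace g₀
  haveI : QuasiSeparatedSpace ↥(Limits.pullback g tb) := quasiSeparatedSpace_of_quasiSeparated g₀
  haveI : QuasiCompact f₀ := MorphismProperty.pullback_snd _ _ ‹_›
  haveI : QuasiSeparated f₀ := MorphismProperty.pullback_snd _ _ ‹_›
  haveI : CompactSpace ↥(Limits.pullback f (Limits.pullback.fst g tb)) :=
    QuasiCompact.compactSpace_of_compactSpace f₀
  haveI : QuasiSeparatedSpace ↥(Limits.pullback f (Limits.pullback.fst g tb)) :=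
    quasiSeparatedSpace_of_quasiSeparated f₀
  -- the base change to the local scheme as a limit
  let π := (H8Props.SpreadGeneric.stageCone s).π.app i₀
  let qA : Limits.pullback g fs ⟶ Limits.pullback g tb :=
    Limits.pullback.lift (Limits.pullback.fst _ _) (Limits.pullback.snd _ _ ≫ π)
      (by rw [Category.assoc, Limits.pullback.condition]
          congr 1
          exact (H8Props.SpreadGeneric.cone_toBase i₀).symm)
  have hY : IsPullback qA gA g₀ π :=
    IsPullback.of_right (by
      rw [Limits.pullback.lift_fst, show π ≫ tb = fs from H8Props.SpreadGeneric.cone_toBase i₀]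
      exact IsPullback.of_hasPullback _ _) (Limits.pullback.lift_snd _ _ _) hY₀
  have hX : IsPullback (Limits.pullback.lift (Limits.pullback.fst f (Limits.pullback.fst g fs))
      (Limits.pullback.snd _ _ ≫ qA) (by
        rw [Category.assoc, Limits.pullback.lift_fst, Limits.pullback.condition])) fA f₀ qA :=
    IsPullback.of_right (by
      rw [Limits.pullback.lift_fst, Limits.pullback.lift_fst]
      exact IsPullback.of_hasPullback _ _) (Limits.pullback.lift_snd _ _ _) hX₀
  obtain ⟨i, φ, Xi, Yi, fi, gi, pY, pX, hYi, hXi, hfi⟩ :=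
    H7Lim.exists_descend_square (H8Props.SpreadGeneric.isLimitStageCone s) (P := @IsProper)
      (Q := @LocallyOfFiniteType) i₀ f₀ g₀ H7Lim.descends_isProper hY hX
      (MorphismProperty.pullback_snd _ _ ‹_›) hA
  have hYS : IsPullback (pY ≫ Limits.pullback.fst g tb) gi g (H8Props.SpreadGeneric.toBase i) := by
    have := hYi.paste_horiz hY₀
    rwa [H8Props.SpreadGeneric.map_toBase φ] at this
  have hXS := hXi.paste_horiz hX₀
  refine ⟨i.1.1, i.2, ?_⟩
  let pY' := pY ≫ Limits.pullback.fst g tb
  haveI : IsOpenImmersion (H8Props.SpreadGeneric.toBase i) :=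
    inferInstanceAs (IsOpenImmersion i.1.2.fromSpec)
  haveI : IsOpenImmersion pY' := MorphismProperty.of_isPullback (P := @IsOpenImmersion) hYS.flip inferInstance
  have hr : Set.range (g ⁻¹ᵁ i.1.1).ι = Set.range pY' := by
    rw [Scheme.Opens.range_ι]
    refine Set.Subset.antisymm (fun y hy => ?_) ?_
    · obtain ⟨w, hw⟩ := (H8Props.SpreadGeneric.range_toBase i).ge hy
      obtain ⟨z, hz, -⟩ := Scheme.Pullback.exists_preimage_pullback (f := g)
        (g := H8Props.SpreadGeneric.toBase i) y w hw.symm
      refine ⟨hYS.isoPullback.inv z, ?_⟩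
      rw [← Scheme.Hom.comp_apply, IsPullback.isoPullback_inv_fst]
      exact hz
    · rintro _ ⟨z, rfl⟩
      show g (pY' z) ∈ i.1.1
      rw [← Scheme.Hom.comp_apply, hYS.w]
      exact (H8Props.SpreadGeneric.range_toBase i).le ⟨gi z, rfl⟩
  let ε := IsOpenImmersion.isoOfRangeEq (g ⁻¹ᵁ i.1.1).ι pY' hr
  have hε : ε.hom ≫ pY' = (g ⁻¹ᵁ i.1.1).ι := IsOpenImmersion.isoOfRangeEq_hom_fac _ _ _
  have h2 : IsPullback (hXS.lift ((f ⁻¹ᵁ (g ⁻¹ᵁ i.1.1)).ι) ((f ∣_ (g ⁻¹ᵁ i.1.1)) ≫ ε.hom) (by
        rw [Category.assoc, hε]; exact (morphismRestrict_ι f _).symm))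
      (f ∣_ (g ⁻¹ᵁ i.1.1)) fi ε.hom := by
    refine IsPullback.of_right ?_ (hXS.lift_snd _ _ _) hXS
    rw [hXS.lift_fst, hε]
    exact (isPullback_morphismRestrict f (g ⁻¹ᵁ i.1.1)).flip
  exact MorphismProperty.of_isPullback h2 hfi

end Groth.Agent.S18874
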