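import Groth.Statements.S18876
import Groth.Agent.H14Stk.Psh
import Groth.Agent.H14Fib.Basic
import Groth.Agent.H13AlgSp.Refinement
import Mathlib.AlgebraicGeometry.AlgClosed.Basic

set_option autoImplicit false
set_option backward.isDefEq.respectTransparency false
set_option backward.isDefEq.respectTransparency.types false
universe u
open Gerb

namespace Groth.Agent.S18876

section
open CategoryTheory AlgebraicGeometry Opposite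

/-- A covering sieve of the spectrum of an algebraically closed field is everything. -/
theorem id_mem_of_algClosed {S : Scheme.{u}} (Ω : Type u) [Field Ω] [IsAlgClosed Ω]
    (t : Spec (CommRingCat.of Ω) ⟶ S) {R : Sieve (Over.mk t)}
    (hR : R ∈ QuotSh.J Scheme.fppfPrecoverage S (Over.mk t)) : R (𝟙 (Over.mk t)) := by
  obtain ⟨κ, C, c, -, hlfp, hs, hRc⟩ := Groth.Agent.H13AlgSp.exists_cover_of_mem_J hR
  obtain ⟨i, w, -⟩ := hs (IsLocalRing.closedPoint Ω)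
  have := hlfp i
  have : JacobsonSpace (Over.mk t).left := inferInstanceAs (JacobsonSpace (Spec (CommRingCat.of Ω)))
  have : JacobsonSpace (C i).left := LocallyOfFiniteType.jacobsonSpace (c i).left
  obtain ⟨z, -, hz⟩ := nonempty_inter_closedPoints (X := (C i).left)
    (Z := Set.univ) ⟨w, trivial⟩ isClosed_univ.isLocallyClosed
  let σ : Over.mk t ⟶ C i := Over.homMk (pointOfClosedPoint (c i).left z hz) (by
    rw [← Over.w (c i), pointOfClosedPoint_comp_assoc])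
  have e : σ ≫ c i = 𝟙 (Over.mk t) := Over.OverMorphism.ext (pointOfClosedPoint_comp (c i).left z hz)
  rw [← e]
  exact R.downward_closed (hRc i) σ

open Groth.Agent.H14Stk Groth.Agent.H14Fib

variable {S : Scheme.{u}} {𝒳 𝒴 : AlgSt.Cat S} {M : AlgSp.Sp S}

/-- Invariance of the section under morphisms of the fibre. -/
theorem fibSec_eq_of_hom (π : 𝒴 ⥤ᵇ AlgSt.ofSp M) {T : Over S} {a b : 𝒴.p.Fiber T} (φ : a ⟶ b) :
    AlgSt.fibSec π a = AlgSt.fibSec π b := by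
  have h : 𝒴.p.map φ.1 = eqToHom a.2 ≫ eqToHom b.2.symm := by
    have := @IsHomLift.fac' _ _ _ _ 𝒴.p _ _ _ _ (𝟙 T) φ.1 φ.2
    simpa using this
  have e : ∀ a : 𝒴.p.Fiber T, AlgSt.fibSec π a =
      M.obj.map (eqToHom a.2.symm).op (secAt π a.1) := fun a => by
    rw [AlgSt.fibSec, secAt, pmap_comp, eqToHom_trans]
    rfl
  rw [e, e, ← secAt_natural π φ.1, h, pmap_comp, ← Category.assoc, eqToHom_trans, eqToHom_refl, Category.id_comp]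

theorem fibSec_congr {π π' : 𝒳 ⥤ᵇ AlgSt.ofSp M} (i : π ≅ π') {T : Over S} (a : 𝒳.p.Fiber T) :
    AlgSt.fibSec π a = AlgSt.fibSec π' a := by
  have h := secAt_eq_of_hom i.hom a.1
  rw [secAt, secAt] at h
  have := congrArg (fun s => M.obj.map (eqToHom a.2.symm).op s) h
  rw [pmap_comp, pmap_comp, eqToHom_trans, eqToHom_trans] at this
  exact this

/-- The image of an object of a fibre. -/
def imgFib (F : 𝒳 ⥤ᵇ 𝒴) {T : Over S} (a : 𝒳.p.Fiber T) : 𝒴.p.Fiber T :=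
  ⟨F.obj a.1, (F.w_obj a.1).trans a.2⟩

theorem fibSec_img (F : 𝒳 ⥤ᵇ 𝒴) (π : 𝒴 ⥤ᵇ AlgSt.ofSp M) {T : Over S} (a : 𝒳.p.Fiber T) :
    AlgSt.fibSec (BasedFunctor.comp F π) a = AlgSt.fibSec π (imgFib F a) := rfl

variable {F : 𝒳 ⥤ᵇ 𝒴} (hF : Gerb.IsGerbeOver (QuotSh.J Scheme.fppfPrecoverage S) F)
  (hY : FibCat.IsFibGrpd 𝒴.p) {Ω : Type u} [Field Ω] [IsAlgClosed Ω] {t : Spec (CommRingCat.of Ω) ⟶ S}

include hF hY in
theorem exists_img (y : 𝒴.p.Fiber (Over.mk t)) :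
    ∃ a : 𝒳.p.Fiber (Over.mk t), Nonempty (imgFib F a ≅ y) := by
  obtain ⟨R, hR, hl⟩ := hF.1 y.1
  have hR' : R.pullback (eqToHom y.2.symm) ∈ QuotSh.J Scheme.fppfPrecoverage S (Over.mk t) :=
    GrothendieckTopology.pullback_stable _ _ hR
  obtain ⟨x, g, hg⟩ := hl _ (id_mem_of_algClosed Ω t hR')
  have hx : (𝒳.p.obj x) = Over.mk t :=
    (F.w_obj x).symm.trans (@IsHomLift.domain_eq _ _ _ _ 𝒴.p _ _ _ _ _ g hg)
  let a : 𝒳.p.Fiber (Over.mk t) := ⟨x, hx⟩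
  have hg' : 𝒴.p.IsHomLift (𝟙 (Over.mk t)) g := by
    refine IsHomLift.of_fac' 𝒴.p _ _ ((F.w_obj x).trans hx) y.2 ?_
    rw [@IsHomLift.fac' _ _ _ _ 𝒴.p _ _ _ _ _ g hg]
    simp
  let φ : imgFib F a ⟶ y := ⟨g, hg'⟩
  have := fiber_isGroupoid hY (Over.mk t)
  exact ⟨a, ⟨asIso φ⟩⟩

include hF in
theorem iso_of_img (hX : FibCat.IsFibGrpd 𝒳.p) {a a' : 𝒳.p.Fiber (Over.mk t)} (i : imgFib F a ≅ imgFib F a') :
    Nonempty (a ≅ a') := by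
  obtain ⟨x, hx⟩ := a; obtain ⟨x', hx'⟩ := a'
  have hb : 𝒴.p.IsHomLift (𝟙 (𝒳.p.obj x)) i.hom.1 := by
    have := i.hom.2
    exact hx.symm ▸ this
  obtain ⟨R, hR, hl⟩ := hF.2 x x' i.hom.1 hb
  have hR' : R.pullback (eqToHom hx.symm) ∈ QuotSh.J Scheme.fppfPrecoverage S (Over.mk t) :=
    GrothendieckTopology.pullback_stable _ _ hR
  obtain ⟨x₀, φ, ψ, hφ, hψ, -⟩ := hl _ (id_mem_of_algClosed Ω t hR')
  have h0 : 𝒳.p.obj x₀ = Over.mk t := @IsHomLift.domain_eq _ _ _ _ 𝒳.p _ _ _ _ _ φ hφ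
  have hφ' : 𝒳.p.IsHomLift (𝟙 (Over.mk t)) φ := IsHomLift.of_fac' 𝒳.p _ _ h0 hx (by
    rw [@IsHomLift.fac' _ _ _ _ 𝒳.p _ _ _ _ _ φ hφ]; simp)
  have hψ' : 𝒳.p.IsHomLift (𝟙 (Over.mk t)) ψ := IsHomLift.of_fac' 𝒳.p _ _ h0 hx' (by
    rw [@IsHomLift.fac' _ _ _ _ 𝒳.p _ _ _ _ _ ψ hψ]; simp)
  let a₀ : 𝒳.p.Fiber (Over.mk t) := ⟨x₀, h0⟩
  let a₁ : 𝒳.p.Fiber (Over.mk t) := ⟨x, hx⟩
  let a₂ : 𝒳.p.Fiber (Over.mk t) := ⟨x', hx'⟩
  let φf : a₀ ⟶ a₁ := ⟨φ, hφ'⟩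
  let ψf : a₀ ⟶ a₂ := ⟨ψ, hψ'⟩
  have := fiber_isGroupoid hX (Over.mk t)
  exact ⟨(asIso φf).symm ≪≫ asIso ψf⟩

end

open CategoryTheory AlgebraicGeometry Opposite

open CategoryTheory AlgebraicGeometry in
/-- Let S be a scheme and F : 𝒳 → 𝒴 a morphism of algebraic stacks over S which makes 𝒳 an fppf gerbe
over 𝒴 and through which every morphism from 𝒳 to an algebraic space factors, uniquely up to
2-isomorphism. Then 𝒴 admits a coarse moduli space exactly when 𝒳 does, and the two coarse moduli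
spaces coincide: for every coarse moduli map π : 𝒴 → M the composite 𝒳 → 𝒴 → M is a coarse moduli
map of 𝒳. (The published statement is about the rigidification F of 𝒳 along a flat finitely
presented subgroup stack of its inertia; only two of its properties are assumed here, that F is a
gerbe and that maps to algebraic spaces factor through F, which is what the published argument uses;
neither stack is assumed quasi-separated or locally of finite presentation over S, and their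
diagonals are not assumed quasi-compact or separated.) -/
theorem result (S : Scheme.{u}) (𝒳 𝒴 : AlgSt.Cat S)
    (h𝒳 : AlgSt.IsAlgStack Scheme.fppfPrecoverage 𝒳) (h𝒴 : AlgSt.IsAlgStack Scheme.fppfPrecoverage 𝒴)
    (F : 𝒳 ⥤ᵇ 𝒴) (hF : Gerb.IsGerbeOver (QuotSh.J Scheme.fppfPrecoverage S) F)
    (huniv : ∀ (N : AlgSp.Sp S), AlgSp.IsAlgSpace N → ∀ φ : 𝒳 ⥤ᵇ AlgSt.ofSp N,
      ∃ ψ : 𝒴 ⥤ᵇ AlgSt.ofSp N, Nonempty (BasedFunctor.comp F ψ ≅ φ) ∧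
        ∀ ψ' : 𝒴 ⥤ᵇ AlgSt.ofSp N, Nonempty (BasedFunctor.comp F ψ' ≅ φ) → Nonempty (ψ' ≅ ψ)) :
    ((∃ (M : AlgSp.Sp S) (π : 𝒴 ⥤ᵇ AlgSt.ofSp M), AlgSt.IsCoarseModuli π) ↔
        ∃ (M : AlgSp.Sp S) (π : 𝒳 ⥤ᵇ AlgSt.ofSp M), AlgSt.IsCoarseModuli π) ∧
      ∀ (M : AlgSp.Sp S) (π : 𝒴 ⥤ᵇ AlgSt.ofSp M), AlgSt.IsCoarseModuli π →
        AlgSt.IsCoarseModuli (BasedFunctor.comp F π) := by
  have hY := h𝒴.isStack.1
  have hX := h𝒳.isStack.1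
  have hmod : ∀ (M : AlgSp.Sp S) (π : 𝒴 ⥤ᵇ AlgSt.ofSp M), AlgSt.IsCoarseModuli π →
      AlgSt.IsCoarseModuli (BasedFunctor.comp F π) := by
    rintro M π ⟨⟨hM, hu⟩, hg⟩
    refine ⟨⟨hM, fun N hN φ => ?_⟩, fun Ω _ _ t => ⟨fun m => ?_, fun a a' h => ?_⟩⟩
    · obtain ⟨ψ, ⟨i⟩, hψ⟩ := huniv N hN φ
      obtain ⟨g, ⟨j⟩, hgu⟩ := hu N hN ψ
      refine ⟨g, ⟨(Stk.restr F _).mapIso j ≪≫ i⟩, fun g' hg' => hgu g' ?_⟩
      exact hψ (BasedFunctor.comp π (AlgSt.ofSpMap g')) hg'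
    · obtain ⟨y, hy⟩ := (hg Ω t).1 m
      obtain ⟨a, ⟨i⟩⟩ := exists_img hF hY y
      exact ⟨a, by rw [fibSec_img, fibSec_eq_of_hom π i.hom, hy]⟩
    · obtain ⟨i⟩ := (hg Ω t).2 (imgFib F a) (imgFib F a') h
      exact iso_of_img hF hX i
  refine ⟨⟨fun ⟨M, π, h⟩ => ⟨M, _, hmod M π h⟩, ?_⟩, hmod⟩
  rintro ⟨M, π, ⟨hM, hu⟩, hg⟩
  obtain ⟨ψ, ⟨i⟩, hψ⟩ := huniv M hM π
  refine ⟨M, ψ, ⟨hM, fun N hN φ => ?_⟩, fun Ω _ _ t => ⟨fun m => ?_, fun y y' h => ?_⟩⟩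
  · obtain ⟨g, ⟨j⟩, hgu⟩ := hu N hN (BasedFunctor.comp F φ)
    obtain ⟨φ₀, -, hφ₀⟩ := huniv N hN (BasedFunctor.comp F φ)
    have k : BasedFunctor.comp F (BasedFunctor.comp ψ (AlgSt.ofSpMap g)) ≅ BasedFunctor.comp F φ :=
      (Groth.Agent.H14Stk.post 𝒳 (AlgSt.ofSpMap g)).mapIso i ≪≫ j
    obtain ⟨k₁⟩ := hφ₀ _ ⟨k⟩
    obtain ⟨k₂⟩ := hφ₀ φ ⟨Iso.refl _⟩
    refine ⟨g, ⟨k₁ ≪≫ k₂.symm⟩, ?_⟩
    rintro g' ⟨j'⟩
    exact hgu g' ⟨(Groth.Agent.H14Stk.post 𝒳 (AlgSt.ofSpMap g')).mapIso i.symm ≪≫ (Stk.restr F _).mapIso j'⟩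
  · obtain ⟨a, ha⟩ := (hg Ω t).1 m
    exact ⟨imgFib F a, by rw [← fibSec_img, fibSec_congr i, ha]⟩
  · obtain ⟨a, ⟨j⟩⟩ := exists_img hF hY y
    obtain ⟨a', ⟨j'⟩⟩ := exists_img hF hY y'
    obtain ⟨l⟩ := (hg Ω t).2 a a' (by
      rw [← fibSec_congr i, ← fibSec_congr i, fibSec_img, fibSec_img, fibSec_eq_of_hom ψ j.hom,
        fibSec_eq_of_hom ψ j'.hom, h])
    let φ : imgFib F a ⟶ imgFib F a' :=
      ⟨F.map l.hom.1, @BasedFunctor.preserves_isHomLift _ _ _ _ F _ _ _ _ _ _ l.hom.2⟩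
    have := Groth.Agent.H14Fib.fiber_isGroupoid hY (Over.mk t)
    exact ⟨j.symm ≪≫ asIso φ ≪≫ j'⟩

end Groth.Agent.S18876
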