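-- statement Lim.GrothFrozen.S18877 (Groth/Statements/S18877.lean; the theorem Lim.exists_preconnected_geomFibres_descend_of_isLimit);
import Groth.Statements.S18877
import Groth.Agent.H7Flat.GeomInt.Constructible
import Groth.Agent.H7Lim.Topology
import Groth.Agent.H12AlgSp.LocPCancel

set_option autoImplicit false
universe u
open Lim

namespace Groth.Agent.S18877
open CategoryTheory.Limits
set_option linter.style.haveILetI false
set_option backward.isDefEq.respectTransparency false

open CategoryTheory AlgebraicGeometry in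
/-- Let S = lim S_i be a cofiltered limit of Noetherian schemes with affine transition morphisms, let X₀
→ S_{i₀} be a scheme of finite type over one stage and X → S its base change to the limit. If all
geometric fibres of X → S are connected, then for some stage S_i → S_{i₀} all geometric fibres of
the base change X₀ ×_{S_{i₀}} S_i → S_i are connected. (Connected is read so as to allow the empty
fibre: the underlying space of each geometric fibre is preconnected; the geometric fibre of X₀
×_{S_{i₀}} S_i over Spec Ω → S_i is written as the pullback of X₀ → S_{i₀} along Spec Ω → S_i →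
S_{i₀}.) -/
theorem result {I : Type u} [SmallCategory I] [IsCofiltered I]
    (D : I ⥤ Scheme.{u}) (c : Limits.Cone D) (hc : Limits.IsLimit c)
    [∀ (i j : I) (a : i ⟶ j), IsAffineHom (D.map a)] [∀ i : I, AlgebraicGeometry.IsNoetherian (D.obj i)]
    (i₀ : I) {X₀ : Scheme.{u}} (f₀ : X₀ ⟶ D.obj i₀) [QuasiCompact f₀] [LocallyOfFiniteType f₀]
    {X : Scheme.{u}} (f : X ⟶ c.pt) (q : X ⟶ X₀) (hX : IsPullback q f f₀ (c.π.app i₀))
    (hconn : ∀ (Ω : Type u) [Field Ω] [IsAlgClosed Ω] (t : Spec (CommRingCat.of Ω) ⟶ c.pt),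
      PreconnectedSpace ↥(Limits.pullback f t)) :
    ∃ (i : I) (a : i ⟶ i₀), ∀ (Ω : Type u) [Field Ω] [IsAlgClosed Ω] (t : Spec (CommRingCat.of Ω) ⟶ D.obj i),
      PreconnectedSpace ↥(Limits.pullback f₀ (t ≫ D.map a)) := by
  haveI : LocallyOfFinitePresentation f₀ := H12AlgSp.lfp_of_lft_of_isLocallyNoetherian f₀
  have hpre : ∀ {Z : Type u} [TopologicalSpace Z], PreconnectedSpace Z ↔
      ENat.card (_root_.ConnectedComponents Z) ≤ 1 := by
    intro Z _
    rw [ENat.card_le_one_iff_subsingleton]
    exact ⟨fun _ => inferInstance, fun _ => preconnectedSpace_iff_connectedComponent.2 fun x =>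
      Set.eq_univ_of_forall fun y => ConnectedComponents.coe_eq_coe'.1 (Subsingleton.elim _ _)⟩
  let E : Set ↥(D.obj i₀) := {s | MoreMor.nGeomConnComp f₀ s ≤ 1}
  have hE : Topology.IsConstructible E := by
    have := H7Flat.GeomInt.isConstructible_of_eventually_eq (fun s => MoreMor.nGeomConnComp f₀ s ≤ 1)
      (fun y => by
        obtain ⟨O, hO, h⟩ := H7Flat.GeomInt.exists_opens_counts f₀ y
        exact ⟨O, hO, fun y' h1 h2 => by simp only [(h y' h1 h2).2]⟩) True
    simpa [E] using this
  have hlim : c.π.app i₀ ⁻¹' Set.univ ⊆ c.π.app i₀ ⁻¹' E := by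
    intro x _
    let t : Spec (CommRingCat.of (AlgebraicClosure (c.pt.residueField x))) ⟶ c.pt :=
      Spec.map (CommRingCat.ofHom (algebraMap (c.pt.residueField x) (AlgebraicClosure (c.pt.residueField x)))) ≫
        c.pt.fromSpecResidueField x
    have ht : t (IsLocalRing.closedPoint _) = x := by
      rw [Scheme.Hom.comp_apply]
      exact Scheme.fromSpecResidueField_apply _ _
    show MoreMor.nGeomConnComp f₀ (c.π.app i₀ x) ≤ 1
    refine le_of_eq_of_le (H7Flat.GeomInt.nGeom_baseChange hX x).2.symm ?_
    exact le_of_eq_of_le (H7Flat.GeomInt.nGeom_eq f t ht).2.symm (hpre.1 (hconn _ t))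
  obtain ⟨j, φ, hj⟩ := H7Lim.QCImage.exists_preimage_subset hc
    (H7Lim.qcImage_of_isLocallyConstructible (E := Set.univ ∩ Eᶜ) (by
      simpa using H7Lim.isLocallyConstructible_compl hE.isLocallyConstructible)) hlim
  refine ⟨j, φ, fun Ω _ _ t => ?_⟩
  rw [hpre, (H7Flat.GeomInt.nGeom_eq f₀ (t ≫ D.map φ) rfl).2, Scheme.Hom.comp_apply]
  exact hj (Set.mem_univ _)

end Groth.Agent.S18877
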