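import Groth.Statements.S18878
import Groth.Agent.H7Lim.SubgroupStage
-- import your own Groth.Agent.* helpers here

set_option autoImplicit false
universe u
open Lim
open CategoryTheory.MonoidalCategory CategoryTheory.CartesianMonoidalCategory CategoryTheory.Limits

namespace Groth.Agent.S18878

open CategoryTheory AlgebraicGeometry in
/-- Let S = lim S_i be a cofiltered limit of schemes with affine transition morphisms over a
quasi-compact quasi-separated stage S_{i₀}, let G₀ be a group scheme separated and of finite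
presentation over S_{i₀} and H₀ ⊆ G₀ a closed subscheme whose immersion is of finite presentation,
and write G, H (resp. G_i, H_i) for the base changes to S (resp. to a stage S_i). If H is a closed
subgroup scheme of G, that is H carries a group structure over S for which H → G is a homomorphism,
then H_i is a closed subgroup scheme of G_i for some stage i → i₀; if moreover H is normal in G, the
stage can be chosen so that H_i is normal in G_i. (The published statement is for separated finitely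
presented group algebraic spaces and an arbitrary closed subspace H₀; this row is the case of
schemes and assumes H₀ → G₀ of finite presentation: over the limit Spec k of the spectra of k[x_1,
x_2, …]/(x_1, …, x_n), k of characteristic zero, the closed subscheme of the additive group cut out
by all x_m t^m becomes the whole additive group over Spec k but is a subgroup over no stage, so a
finiteness condition on H₀ is needed, and finite presentation is what the published limit argument
uses.) -/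
theorem result
    {I : Type u} [SmallCategory I] [IsCofiltered I]
    (D : I ⥤ Scheme.{u}) (c : Limits.Cone D) (hc : Limits.IsLimit c)
    [∀ (i j : I) (a : i ⟶ j), IsAffineHom (D.map a)] (i₀ : I)
    [CompactSpace (D.obj i₀)] [QuasiSeparatedSpace (D.obj i₀)]
    (G₀ : Over (D.obj i₀)) [GrpObj G₀] [IsSeparated G₀.hom] [QuasiCompact G₀.hom]
    [LocallyOfFinitePresentation G₀.hom]
    (H₀ : Over (D.obj i₀)) (ι₀ : H₀ ⟶ G₀) [IsClosedImmersion ι₀.left]
    [LocallyOfFinitePresentation ι₀.left]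
    (hH : ∃ _ : GrpObj (Red.bc (c.π.app i₀) H₀), IsMonHom ((Over.pullback (c.π.app i₀)).map ι₀)) :
    (∃ (i : I) (a : i ⟶ i₀) (_ : GrpObj (Red.bc (D.map a) H₀)),
        IsMonHom ((Over.pullback (D.map a)).map ι₀)) ∧
    ((∃ (_ : GrpObj (Red.bc (c.π.app i₀) H₀)) (_ : IsMonHom ((Over.pullback (c.π.app i₀)).map ι₀)),
        AlgGrp.IsNormalHom ((Over.pullback (c.π.app i₀)).map ι₀)) →
      ∃ (i : I) (a : i ⟶ i₀) (_ : GrpObj (Red.bc (D.map a) H₀))
        (_ : IsMonHom ((Over.pullback (D.map a)).map ι₀)),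
        AlgGrp.IsNormalHom ((Over.pullback (D.map a)).map ι₀)) := by
  have hG : IsSeparated G₀.hom := inferInstance
  have hHq : QuasiCompact H₀.hom := by rw [← Over.w ι₀]; infer_instance
  have hHs : IsSeparated H₀.hom := by rw [← Over.w ι₀]; infer_instance
  have qG : CompactSpace G₀.left ∧ QuasiSeparatedSpace G₀.left :=
    ⟨QuasiCompact.compactSpace_of_compactSpace G₀.hom, quasiSeparatedSpace_of_quasiSeparated G₀.hom⟩
  have := qG.1; have := qG.2
  have : CompactSpace H₀.left := QuasiCompact.compactSpace_of_compactSpace H₀.hom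
  have : QuasiSeparatedSpace H₀.left := quasiSeparatedSpace_of_quasiSeparated H₀.hom
  have : CompactSpace (H₀ ⊗ H₀).left :=
    QuasiCompact.compactSpace_of_compactSpace (pullback.fst H₀.hom H₀.hom)
  have : QuasiSeparatedSpace (H₀ ⊗ H₀).left :=
    quasiSeparatedSpace_of_quasiSeparated (pullback.fst H₀.hom H₀.hom)
  have : CompactSpace (G₀ ⊗ H₀).left :=
    QuasiCompact.compactSpace_of_compactSpace (pullback.fst G₀.hom H₀.hom)
  have : QuasiSeparatedSpace (G₀ ⊗ H₀).left :=
    quasiSeparatedSpace_of_quasiSeparated (pullback.fst G₀.hom H₀.hom)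
  have : CompactSpace (𝟙_ (Over (D.obj i₀))).left := inferInstanceAs (CompactSpace (D.obj i₀))
  have : QuasiSeparatedSpace (𝟙_ (Over (D.obj i₀))).left :=
    inferInstanceAs (QuasiSeparatedSpace (D.obj i₀))
  obtain ⟨inst, hmon⟩ := hH
  obtain ⟨k1, k2, k3, -⟩ := H7Lim.factor_of_grpObj_bc (c.π.app i₀) ι₀
  obtain ⟨j₁, a₁, f₁⟩ := H7Lim.exists_factor_stage hc i₀ _ _ ι₀.left k1
  obtain ⟨j₂, a₂, f₂⟩ := H7Lim.exists_factor_stage hc i₀ _ _ ι₀.left k2
  obtain ⟨j₃, a₃, f₃⟩ := H7Lim.exists_factor_stage hc i₀ _ _ ι₀.left k3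
  obtain ⟨j₄, b₁, b₂, e₁₂⟩ := IsCofiltered.cospan a₁ a₂
  obtain ⟨j, b₃, b₄, e₃⟩ := IsCofiltered.cospan a₃ (b₁ ≫ a₁)
  have key : ∀ (j' : I) (b : j' ⟶ j), ∃ _ : GrpObj (Red.bc (D.map (b ≫ b₃ ≫ a₃)) H₀),
      IsMonHom ((Over.pullback (D.map (b ≫ b₃ ≫ a₃))).map ι₀) := by
    intro j' b
    refine H7Lim.exists_grpObj_bc _ ι₀ ?_ ?_ ?_
    · rw [show b ≫ b₃ ≫ a₃ = (b ≫ b₄ ≫ b₁) ≫ a₁ by rw [e₃]; simp]
      exact f₁ _
    · rw [show b ≫ b₃ ≫ a₃ = (b ≫ b₄ ≫ b₂) ≫ a₂ by rw [e₃, e₁₂]; simp]
      exact f₂ _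
    · rw [← Category.assoc]
      exact f₃ _
  refine ⟨⟨j, _, key j (𝟙 j)⟩, ?_⟩
  rintro ⟨inst', hmon', hn⟩
  obtain ⟨-, -, -, k4⟩ := @H7Lim.factor_of_grpObj_bc _ _ (c.π.app i₀) _ _ _ ι₀ inst' hmon'
  obtain ⟨j₅, a₅, f₅⟩ := H7Lim.exists_factor_stage hc i₀ _ _ ι₀.left (k4 hn)
  obtain ⟨j', b, b₅, e₅⟩ := IsCofiltered.cospan (b₃ ≫ a₃) a₅
  obtain ⟨ig, im⟩ := key j' b
  refine ⟨j', _, ig, im, H7Lim.isNormalHom_bc _ ι₀ ?_⟩
  rw [e₅]
  exact f₅ _

end Groth.Agent.S18878
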