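import Groth.Statements.S18879
import Groth.Agent.H17.DimIneqScheme

set_option autoImplicit false
universe u
open CategoryTheory AlgebraicGeometry
open Resolve

namespace Groth.Agent.S18879

/-- Let f : Y ⟶ X be a morphism locally of finite type between Noetherian separated schemes which is
birational: it maps the maximal points of Y bijectively onto the maximal points of X, and over every
maximal point of X its fibre is one point with the same residue field. Then for every point y of Y,
the Krull dimension of the local ring of Y at y is at most the Krull dimension of the local ring of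
X at f y (the codimension of a point does not increase along f). -/
theorem result {X Y : Scheme.{u}} (f : Y ⟶ X)
    [IsNoetherian X] [X.IsSeparated] [IsNoetherian Y] [Y.IsSeparated] [LocallyOfFiniteType f]
    (hf : RadPt.IsBirational f) (y : Y) :
    ringKrullDim (Y.presheaf.stalk y) ≤ ringKrullDim (X.presheaf.stalk (f.base y)) := by
  have hE : ∀ ξ : Y, closure {ξ} ∈ irreducibleComponents ↥Y → ξ ⤳ y →
      letI := (f.residueFieldMap ξ).hom.toAlgebra
      Algebra.trdeg (X.residueField (f.base ξ)) (Y.residueField ξ) ≤ ((0 : ℕ) : Cardinal.{u}) := by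
    intro ξ hξ _
    have hgen : f ξ ∈ genericPoints X := hf.1.mapsTo hξ
    letI := (f.residueFieldMap ξ).hom.toAlgebra
    have hb : Function.Bijective (algebraMap (X.residueField (f.base ξ)) (Y.residueField ξ)) := (hf.2 _ hgen).2 ξ rfl
    haveI : Algebra.IsAlgebraic (X.residueField (f.base ξ)) (Y.residueField ξ) := ⟨fun a => by
      obtain ⟨b, rfl⟩ := hb.2 a
      exact isAlgebraic_algebraMap b⟩
    rw [trdeg_eq_zero]
    simp
  obtain ⟨b, hb, h⟩ := H17.DimIneq.scheme_ineq f y 0 hE
  rw [hb]
  obtain ⟨a, ha⟩ : ∃ a : ℕ∞, ringKrullDim (Y.presheaf.stalk y) = a := by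
    cases hd : ringKrullDim (Y.presheaf.stalk y) using WithBot.recBotCoe with
    | bot => exact absurd hd (ne_bot_of_le_ne_bot WithBot.zero_ne_bot ringKrullDim_nonneg_of_nontrivial)
    | coe a => exact ⟨a, rfl⟩
  rw [ha, WithBot.coe_le_coe]
  refine ENat.forall_natCast_le_iff_le.mp fun l hl => ?_
  have h1 := h l (by rw [ha]; exact WithBot.coe_le_coe.mpr hl)
  rw [Nat.cast_zero, add_zero] at h1
  cases b with
  | top => exact le_top
  | coe m =>
    have h2 : (l : Cardinal.{u}) ≤ (m : Cardinal.{u}) := (self_le_add_right _ _).trans h1
    exact_mod_cast h2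

end Groth.Agent.S18879
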