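import Groth.Statements.S1888
import Groth.Agent.H19Grp.SubgrpClosed

set_option autoImplicit false
universe u
open CategoryTheory CategoryTheory.Limits AlgebraicGeometry
open Grpd

namespace Groth.Agent.S1888

/-- Let (U, R, s, t, c) be a groupoid scheme over S with U the spectrum of a field k, and r a point of R
such that both s and t induce isomorphisms from k to κ(r). Then there is an automorphism of the
scheme R carrying the identity point e to r. (The source's automorphism is x ↦ c(r, x); only the
existence of an automorphism moving e to r is stated here.) (A groupoid scheme carries U, R, s, t,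
c, e, i over S with the groupoid axioms on T-points; 'finite locally free' is finite, flat and
locally of finite presentation; C ⊂ Γ(U) is the ring of functions a with s♯(a) = t♯(a) and M = Spec
C.) -/
theorem result (S : Scheme.{u}) (G : Grpd.GroupoidScheme S) (k : Type u) [Field k] (eU : G.U ≅ Spec (CommRingCat.of k)) (r : G.R) (hs : IsIso (G.s.residueFieldMap r)) (ht : IsIso (G.t.residueFieldMap r)) : ∃ φ : G.R ≅ G.R, φ.hom (G.e (eU.inv (IsLocalRing.closedPoint k))) = r := by
  haveI := Groth.Agent.H19Grp.subsingleton_U G eU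
  let γ := G.R.fromSpecResidueField r
  have hiso : ∀ u : G.U, IsIso (G.U.fromSpecResidueField u) := by
    intro u
    obtain rfl : eU.inv (IsLocalRing.closedPoint k) = u := Subsingleton.elim _ _
    have h := Scheme.descResidueField_stalkClosedPointTo_fromSpecResidueField k G.U eU.inv
    haveI : IsSplitEpi (G.U.fromSpecResidueField (eU.inv (IsLocalRing.closedPoint k))) :=
      ⟨⟨⟨eU.hom ≫ Spec.map (Scheme.descResidueField (Scheme.stalkClosedPointTo eU.inv)), by
        rw [Category.assoc, h, Iso.hom_inv_id]⟩⟩⟩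
    exact isIso_of_mono_of_isSplitEpi _
  haveI : IsIso (γ ≫ G.s) := by
    haveI := hs; haveI := hiso (G.s r)
    rw [← Scheme.Hom.SpecMap_residueFieldMap_fromSpecResidueField]
    infer_instance
  haveI : IsIso (γ ≫ G.t) := by
    haveI := ht; haveI := hiso (G.t r)
    rw [← Scheme.Hom.SpecMap_residueFieldMap_fromSpecResidueField]
    infer_instance
  obtain ⟨f, hf, hfe⟩ := Groth.Agent.H19Grp.exists_iso_translate G γ
  let p := pullback.fst G.t (γ ≫ G.s)
  let q := pullback.fst G.t (γ ≫ G.t)
  haveI : IsIso p := inferInstance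
  haveI : IsIso q := inferInstance
  refine ⟨asIso (inv p ≫ f ≫ q), ?_⟩
  let γ' : G.U ⟶ G.R := inv (γ ≫ G.s) ≫ γ
  have hγ's : γ' ≫ G.s = 𝟙 G.U := by rw [Category.assoc, IsIso.inv_hom_id]
  have hsnd : inv p ≫ pullback.snd G.t (γ ≫ G.s) = G.t ≫ inv (γ ≫ G.s) := by
    rw [IsIso.eq_comp_inv, Category.assoc, ← pullback.condition, IsIso.inv_hom_id_assoc]
  have key : G.e ≫ inv p ≫ f ≫ q = γ' := by
    rw [hfe, Groth.Agent.H19Grp.comp_mulR, Groth.Agent.H19Grp.comp_mulR]
    have e1 : G.e ≫ inv p ≫ pullback.snd G.t (γ ≫ G.s) ≫ γ = γ' := by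
      rw [reassoc_of% hsnd, reassoc_of% G.e_t]
    have e2 : G.e ≫ inv p ≫ pullback.fst G.t (γ ≫ G.s) = γ' ≫ G.s ≫ G.e := by
      rw [reassoc_of% hγ's, IsIso.inv_hom_id]; exact Category.comp_id _
    rw [Groth.Agent.H19Grp.mulR_congr G e1 e2]
    exact G.comp_e γ'
  show (inv p ≫ f ≫ q) (G.e (eU.inv (IsLocalRing.closedPoint k))) = r
  refine (Scheme.Hom.comp_apply G.e (inv p ≫ f ≫ q) _).symm.trans ?_
  refine (congrArg (fun φ : G.U ⟶ G.R => φ (eU.inv (IsLocalRing.closedPoint k))) key).trans ?_
  exact (Scheme.Hom.comp_apply _ γ _).trans (Scheme.fromSpecResidueField_apply _ _)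

end Groth.Agent.S1888
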