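import Groth.Statements.S18884
import Groth.Agent.H13Desc.Cosheaf

set_option autoImplicit false
universe v u w
open CategoryTheory CategoryTheory.Limits
open Desc

namespace Groth.Agent.S18884

/-- Let C be a category with pullbacks equipped with a class W of morphisms, the covers, stable under
base change and under composition. An abelian cosheaf is a functor F : C ⥤ Ab such that for every
cover π : Y ⟶ X the map F(π) is surjective and its kernel is the image of F(p₁) − F(p₂), where p₁,
p₂ : Y ×_X Y ⟶ Y are the two projections. If D is a full subcategory of C such that every object of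
C is the target of a cover whose source lies in D, then the restriction functor from the full
subcategory of abelian cosheaves in C ⥤ Ab to D ⥤ Ab is full and faithful. -/
theorem result {C : Type u} [Category.{v} C]
    [HasPullbacks C] (W : MorphismProperty C) [W.IsStableUnderBaseChange] [W.IsStableUnderComposition]
    (D : ObjectProperty C) (hD : ∀ X : C, ∃ (Y : C) (π : Y ⟶ X), W π ∧ D Y) :
    (ObjectProperty.ι (fun F : C ⥤ AddCommGrpCat.{w} =>
        ∀ ⦃Y X : C⦄ (π : Y ⟶ X), W π → Function.Surjective (F.map π).hom ∧
          (F.map π).hom.ker = ((F.map (pullback.fst π π)).hom - (F.map (pullback.snd π π)).hom).range) ⋙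
      (Functor.whiskeringLeft D.FullSubcategory C AddCommGrpCat.{w}).obj D.ι).Full ∧
    (ObjectProperty.ι (fun F : C ⥤ AddCommGrpCat.{w} =>
        ∀ ⦃Y X : C⦄ (π : Y ⟶ X), W π → Function.Surjective (F.map π).hom ∧
          (F.map π).hom.ker = ((F.map (pullback.fst π π)).hom - (F.map (pullback.snd π π)).hom).range) ⋙
      (Functor.whiskeringLeft D.FullSubcategory C AddCommGrpCat.{w}).obj D.ι).Faithful := by
  refine ⟨⟨fun {F G} φ => ?_⟩, ⟨fun {F G} a b h => ?_⟩⟩
  · obtain ⟨η, hη⟩ := H13Desc.Cosheaf.exists_extension (W := W) (D := D) hD F.property G.property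
      (fun Y hY => φ.app ⟨Y, hY⟩) (fun hY hY' g => φ.naturality (X := ⟨_, hY⟩) (Y := ⟨_, hY'⟩) (ObjectProperty.homMk g))
    refine ⟨ObjectProperty.homMk η, ?_⟩
    ext Y : 2
    exact hη Y.obj Y.property
  · exact ObjectProperty.hom_ext _ (H13Desc.Cosheaf.app_eq (W := W) (D := D) hD F.property _ _
      fun Y hY => congrArg (fun k => k.app ⟨Y, hY⟩) h)

end Groth.Agent.S18884
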