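import Groth.Statements.S18885
import Groth.Agent.H02CA.Detect.Main
-- import your own Groth.Agent.* helpers here

set_option autoImplicit false
universe u
open CategoryTheory AlgebraicGeometry
open W4c6detectregular2

namespace Groth.Agent.S18885

/-- Let S be a Noetherian separated scheme which is quasi-excellent (every affine open has a
quasi-excellent coordinate ring) and t : T ⟶ S separated of finite type. Let G and H be functors
from the category of separated finite-type T-schemes with proper T-morphisms to abelian groups, each
equipped with restriction maps along open immersions over T and satisfying (F2): for a closed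
immersion i and the open immersion u of its complement, the kernel of u^* lies in the image of i_*.
Assume G moreover satisfies (F3): u^* f_* = g_* v^* for cartesian squares of an open immersion u
against a proper f; carries elements 1_X with u^*(1_X) = 1_U for open immersions and f_*(1_Y) = 1_X
for T-isomorphisms whenever X is integral or empty (F4); and (F5): G(X) is generated by the f_*(1_Y)
with Y integral, f proper and dim_S Y ≤ dim_S X. Let d be an integer such that (i) every G(X) is
generated by the f_*(1_Y) with Y integral and dim_S Y ≤ d, and (ii) H(X) = 0 whenever dim_S X ≤ d -
2; here dim_S is bounded pointwise, the relative dimension of a point being the transcendence degree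
of its residue field over that of its image in S minus the codimension of that image. Then every
natural transformation φ : G ⟶ H (compatibility with proper push-forwards) which commutes with the
restriction maps and satisfies φ_R(1_R) = 0 for every R all of whose local rings are regular and
which is quasi-projective over S (an open immersion followed by a projective morphism) vanishes:
φ_X(a) = 0 for every X and every a ∈ G(X). -/
theorem result {S T : Scheme.{u}}
    (t : T ⟶ S) [IsNoetherian S] [S.IsSeparated]
    (hqe : ∀ U : S.affineOpens, EGA4.IsQuasiExcellent Γ(S, U))
    [IsNoetherian T] [T.IsSeparated] [LocallyOfFiniteType t]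
    (G H : W4c6detectregular2.ResFun T) (one : ∀ X : W4c6detectregular2.SchFT T, G.F.obj X)
    (hG2 : G.F2) (hH2 : H.F2) (hG3 : G.F3) (hG4a : G.F4a one) (hG4b : G.F4b one) (hG5 : G.F5 t one)
    (d : ℤ) (hi : G.GenLE t one d) (hii : H.VanLE t d)
    (φ : G.F ⟶ H.F) (hiv : G.ResCompat H φ) (hv : G.KillsRegular H t one φ)
    (X : W4c6detectregular2.SchFT T) (a : G.F.obj X) : (φ.app X).hom a = 0 := by
  haveI : QuasiCompact t := inferInstance
  exact Groth.Agent.H02CA.Detect.phi_eq_zero t one hG2 hH2 hG3 hG4a hG4b hG5 φ hiv hqe hii hv hi X a

end Groth.Agent.S18885
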