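import Groth.Statements.S18887
import Mathlib.RingTheory.Trace.Basic
import Mathlib.LinearAlgebra.Dimension.Free
import Mathlib.Tactic

set_option autoImplicit false
universe u v
open DblCov

namespace Groth.Agent.S18887

/-- A basis `1, x` with `x * x ∈ A` and `tr x = 0`. -/
theorem exists_gen {A : Type u} {B : Type v} [CommRing A] [CommRing B] [Algebra A B] (h2 : IsUnit (2 : A))
    [Module.Free A B] [Module.Finite A B] (hrk : Module.finrank A B = 2)
    [Module.Free A (LinearMap.ker (Algebra.trace A B))]
    (hker : Module.finrank A (LinearMap.ker (Algebra.trace A B)) = 1) :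
    ∃ (x : B) (b : Module.Basis (Fin 2) A B) (p : A), b 0 = 1 ∧ b 1 = x ∧ Algebra.trace A B x = 0 ∧
      x * x = algebraMap A B p ∧ Algebra.trace A B 1 = 2 ∧ Nontrivial A := by
  classical
  haveI : Nontrivial A := by
    by_contra h
    rw [not_nontrivial_iff_subsingleton] at h
    rw [Module.finrank_subsingleton] at hrk
    omega
  have htr : ∀ a : A, Algebra.trace A B (algebraMap A B a) = 2 * a := fun a => by
    rw [Algebra.trace_algebraMap, hrk, two_nsmul, two_mul]
  let t := Algebra.trace A B
  obtain ⟨h, hh⟩ := h2.exists_left_inv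
  let π : B →ₗ[A] LinearMap.ker t :=
    (LinearMap.id - (Algebra.linearMap A B) ∘ₗ (h • t)).codRestrict _ (fun b => by
      simp only [LinearMap.mem_ker, LinearMap.sub_apply, LinearMap.id_apply, LinearMap.comp_apply,
        Algebra.linearMap_apply, LinearMap.smul_apply, smul_eq_mul, map_sub, t, htr]
      linear_combination -(Algebra.trace A B b) * hh)
  have hπ : Function.Surjective π := fun y => ⟨y, Subtype.ext (by
    have hy : t (y : B) = 0 := y.2
    simp [π, hy])⟩
  haveI : Module.Finite A (LinearMap.ker t) := Module.Finite.of_surjective π hπ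
  let bk := Module.finBasisOfFinrankEq A (LinearMap.ker t) hker
  set x : B := (bk 0 : B) with hx
  have hxt : t x = 0 := (bk 0).2
  have hdec : ∀ b : B, ∃ a c : A, b = algebraMap A B a + c • x := fun b => by
    refine ⟨h * t b, bk.repr (π b) 0, ?_⟩
    have h1 : π b = bk.repr (π b) 0 • bk 0 := by
      conv_lhs => rw [← bk.sum_repr (π b)]
      rw [Fin.sum_univ_one]
    have h2 := congrArg Subtype.val h1
    rw [Submodule.coe_smul, ← hx] at h2
    rw [← h2]
    simp [π]
  have hind : ∀ a c : A, algebraMap A B a + c • x = 0 → a = 0 ∧ c = 0 := fun a c hac => by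
    have h1 := congrArg t hac
    rw [map_add, map_smul, hxt, smul_zero, add_zero, map_zero] at h1
    have ha : a = 0 := by
      have := congrArg (h * ·) ((htr a).symm.trans h1)
      rwa [mul_zero, ← mul_assoc, hh, one_mul] at this
    refine ⟨ha, ?_⟩
    rw [ha, map_zero, zero_add] at hac
    have h3 : c • bk 0 = 0 := Subtype.ext hac
    simpa using congrArg (fun z => bk.repr z 0) h3
  let e : (A × A) →ₗ[A] B := LinearMap.coprod (Algebra.linearMap A B) (LinearMap.toSpanSingleton A B x)
  have he : Function.Bijective e := by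
    refine ⟨(injective_iff_map_eq_zero _).2 fun z hz => ?_, fun b => ?_⟩
    · obtain ⟨h1, h2⟩ := hind z.1 z.2 hz
      exact Prod.ext h1 h2
    · obtain ⟨a, c, rfl⟩ := hdec b
      exact ⟨(a, c), rfl⟩
  let b := (Module.Basis.finTwoProd A).map (LinearEquiv.ofBijective e he)
  have hb0 : b 0 = 1 := by simp [b, e]
  have hb1 : b 1 = x := by simp [b, e]
  obtain ⟨p, c, hpc⟩ := hdec (x * x)
  have hxx : b.repr (x * x) 1 = c := by
    rw [hpc, Algebra.algebraMap_eq_smul_one, map_add, map_smul, map_smul, ← hb0, ← hb1]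
    simp
  have h0 : Algebra.trace A B x = c := by
    rw [Algebra.trace_eq_matrix_trace b, Matrix.trace_fin_two]
    rw [Algebra.leftMulMatrix_eq_repr_mul, Algebra.leftMulMatrix_eq_repr_mul, hb0, hb1, mul_one, hxx, ← hb1]
    simp
  refine ⟨x, b, p, hb0, hb1, hxt, ?_, by simpa using htr 1, inferInstance⟩
  rw [hpc, ← h0, show Algebra.trace A B x = 0 from hxt, zero_smul, add_zero]

/-- Let A be a commutative ring in which 2 is invertible and B a commutative A-algebra which is free of
rank 2 as an A-module and whose trace form tr : B → A has kernel free of rank 1 over A. Then σ(b) =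
tr(b) − b defines an A-algebra endomorphism σ of B with σ ≠ id and σ ∘ σ = id, and the elements
fixed by σ are exactly the image of A in B. -/
theorem result {A : Type u} {B : Type v} [CommRing A] [CommRing B]
    [Algebra A B] (h2 : IsUnit (2 : A)) [Module.Free A B] [Module.Finite A B]
    (hrk : Module.finrank A B = 2)
    [Module.Free A (LinearMap.ker (Algebra.trace A B))]
    (hker : Module.finrank A (LinearMap.ker (Algebra.trace A B)) = 1) :
    ∃ σ : B →ₐ[A] B, (∀ b : B, σ b = algebraMap A B (Algebra.trace A B b) - b) ∧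
      σ ≠ AlgHom.id A B ∧ σ.comp σ = AlgHom.id A B ∧
      ∀ b : B, σ b = b ↔ b ∈ Set.range (algebraMap A B) := by
  obtain ⟨x, b, p, hb0, hb1, hxt, hxx, htr1, hnt⟩ := exists_gen h2 hrk hker
  let S : B →ₗ[A] B := (Algebra.linearMap A B) ∘ₗ Algebra.trace A B - LinearMap.id
  have hS : ∀ y, S y = algebraMap A B (Algebra.trace A B y) - y := fun y => rfl
  have hS1 : S 1 = 1 := by rw [hS, htr1, map_ofNat]; ring
  have hSx : S x = -x := by rw [hS, hxt, map_zero, zero_sub]
  have hdec : ∀ y : B, y = b.repr y 0 • (1 : B) + b.repr y 1 • x := fun y => by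
    conv_lhs => rw [← b.sum_repr y, Fin.sum_univ_two, hb0, hb1]
  have hmul : ∀ y z, S (y * z) = S y * S z := by
    intro y z
    rw [hdec y, hdec z]
    generalize b.repr y 0 = a₁
    generalize b.repr y 1 = c₁
    generalize b.repr z 0 = a₂
    generalize b.repr z 1 = c₂
    have e1 : (a₁ • (1 : B) + c₁ • x) * (a₂ • (1 : B) + c₂ • x) =
        (a₁ * a₂ + c₁ * c₂ * p) • (1 : B) + (a₁ * c₂ + c₁ * a₂) • x := by
      simp only [Algebra.smul_def, map_add, map_mul, mul_one]
      linear_combination algebraMap A B c₁ * algebraMap A B c₂ * hxx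
    rw [e1]
    simp only [map_add, map_smul, hS1, hSx]
    simp only [Algebra.smul_def, map_add, map_mul, mul_one]
    linear_combination -(algebraMap A B c₁ * algebraMap A B c₂) * hxx
  let σ : B →ₐ[A] B := AlgHom.ofLinearMap S hS1 hmul
  have hx0 : x ≠ 0 := fun h => b.ne_zero 1 (hb1.trans h)
  refine ⟨σ, fun y => hS y, fun h => ?_, AlgHom.ext fun y => ?_, fun y => ⟨fun hy => ?_, ?_⟩⟩
  · have h1 : S x = x := DFunLike.congr_fun h x
    rw [hSx, neg_eq_iff_add_eq_zero, ← two_smul A x, h2.smul_eq_zero] at h1
    exact hx0 h1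
  · show S (S y) = y
    rw [hdec y]
    simp [map_smul, hS1, hSx]
  · obtain ⟨h, hh⟩ := h2.exists_left_inv
    refine ⟨h * Algebra.trace A B y, ?_⟩
    have h1 : algebraMap A B (Algebra.trace A B y) = 2 * y := by
      have : algebraMap A B (Algebra.trace A B y) - y = y := hy
      linear_combination this
    rw [map_mul, h1, ← mul_assoc, ← map_ofNat (algebraMap A B) 2, ← map_mul, hh, map_one, one_mul]
  · rintro ⟨a, rfl⟩
    show S (algebraMap A B a) = _
    rw [Algebra.algebraMap_eq_smul_one, map_smul, hS1]

end Groth.Agent.S18887
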