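import Groth.Statements.S18888
import Mathlib.Algebra.Order.Ring.Star
import Mathlib.FieldTheory.Minpoly.IsIntegrallyClosed
import Mathlib.FieldTheory.PurelyInseparable.Basic
import Mathlib.LinearAlgebra.FreeModule.PID
import Mathlib.RingTheory.Flat.TorsionFree
import Mathlib.RingTheory.Henselian
import Mathlib.RingTheory.RegularLocalRing.Defs
import Mathlib.RingTheory.SimpleRing.Principal
import Mathlib.Tactic.LinearCombination
import Mathlib.Tactic.Ring

set_option autoImplicit false
universe u v w
open CAlg

namespace Groth.Agent.S18888

/-- Let A be a unique factorisation domain in which 2 is invertible, with fraction field K, and let L ⊇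
K be a quadratic extension field (of degree 2 over K) containing an element y ∉ K whose square is a
squarefree element d of A. Then the integral closure of A in L equals the A-subalgebra A[y]
generated by y. -/
theorem result {A : Type u} {K : Type v} {L : Type w}
    [CommRing A] [IsDomain A] [UniqueFactorizationMonoid A] [Field K] [Algebra A K] [IsFractionRing A K]
    [Field L] [Algebra K L] [Algebra A L] [IsScalarTower A K L]
    (h2 : IsUnit (2 : A)) (hL : Module.finrank K L = 2)
    (d : A) (hd : Squarefree d) (y : L) (hy : y * y = algebraMap A L d)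
    (hyK : y ∉ Set.range (algebraMap K L)) :
    integralClosure A L = Algebra.adjoin A {y} := by
  classical
  have hinj : Function.Injective (algebraMap A L) := by
    rw [IsScalarTower.algebraMap_eq A K L]
    exact (algebraMap K L).injective.comp (IsFractionRing.injective A K)
  have hyint : IsIntegral A y := ⟨Polynomial.X ^ 2 - Polynomial.C d, Polynomial.monic_X_pow_sub_C d two_ne_zero, by
    simp [pow_two, hy]⟩
  refine le_antisymm (fun x hx => ?_) (adjoin_le_integralClosure hyint)
  have hxint : IsIntegral A x := hx
  haveI : FiniteDimensional K L := FiniteDimensional.of_finrank_eq_succ hL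
  have hli : LinearIndependent K ![(1 : L), y] := by
    rw [LinearIndependent.pair_iff]
    intro s t hst
    by_cases ht : t = 0
    · subst ht
      simp only [zero_smul, add_zero, smul_eq_zero] at hst
      exact ⟨hst.resolve_right one_ne_zero, rfl⟩
    · exfalso
      refine hyK ⟨-(s / t), ?_⟩
      have h1 : algebraMap K L t ≠ 0 := (map_ne_zero_iff _ (algebraMap K L).injective).mpr ht
      rw [Algebra.smul_def, Algebra.smul_def, mul_one] at hst
      rw [map_neg, map_div₀, ← neg_div, div_eq_iff h1]
      linear_combination -hst
  obtain ⟨u, v, huv⟩ : ∃ u v : K, x = algebraMap K L u + algebraMap K L v * y := by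
    have hspan := hli.span_eq_top_of_card_eq_finrank (by rw [Fintype.card_fin, hL])
    have hxs : x ∈ Submodule.span K (Set.range ![(1 : L), y]) := hspan ▸ Submodule.mem_top
    obtain ⟨c, hc⟩ := (Submodule.mem_span_range_iff_exists_fun K).mp hxs
    refine ⟨c 0, c 1, ?_⟩
    rw [← hc, Fin.sum_univ_two]
    simp [Algebra.smul_def]
  obtain ⟨a₁, a₀, h₁, h₀⟩ : ∃ a₁ a₀ : A, algebraMap A K a₁ = 2 * u ∧ algebraMap A K a₀ = u * u - v * v * algebraMap A K d := by
    by_cases hv : v = 0
    · subst hv
      have hu : IsIntegral A u := by
        rw [← isIntegral_algHom_iff (IsScalarTower.toAlgHom A K L) (algebraMap K L).injective]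
        simpa [huv] using hxint
      obtain ⟨a, rfl⟩ := IsIntegrallyClosed.isIntegral_iff.mp hu
      exact ⟨2 * a, a * a, by rw [map_mul, map_ofNat], by simp⟩
    · set q : Polynomial K := Polynomial.X ^ 2 + Polynomial.C (-(2 * u)) * Polynomial.X +
        Polynomial.C (u * u - v * v * algebraMap A K d) with hq
      have hyy : y * y = algebraMap K L (algebraMap A K d) := by rw [hy, IsScalarTower.algebraMap_apply A K L]
      have hqm : q.Monic := by rw [hq]; monicity!
      have hqdeg : q.natDegree = 2 := by rw [hq]; compute_degree!
      have hq0 : Polynomial.aeval x q = 0 := by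
        simp only [hq, map_add, map_mul, map_pow, Polynomial.aeval_X, Polynomial.aeval_C, huv, map_neg, map_sub,
          map_ofNat]
        linear_combination (algebraMap K L v * algebraMap K L v) * hyy
      have hxK : x ∉ (algebraMap K L).range := by
        rintro ⟨w, hw⟩
        refine hyK ⟨(w - u) / v, ?_⟩
        rw [map_div₀, map_sub, hw, huv, add_sub_cancel_left, mul_div_cancel_left₀]
        exact (map_ne_zero_iff _ (algebraMap K L).injective).mpr hv
      have hmin : q = minpoly K x := by
        refine minpoly.unique K x hqm hq0 fun r hr hr0 => ?_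
        rw [Polynomial.degree_eq_natDegree hqm.ne_zero, Polynomial.degree_eq_natDegree hr.ne_zero, hqdeg]
        exact_mod_cast le_trans ((minpoly.two_le_natDegree_iff (Algebra.IsIntegral.isIntegral x)).mpr hxK)
          (Polynomial.natDegree_le_of_dvd (minpoly.dvd K x hr0) hr.ne_zero)
      rw [minpoly.isIntegrallyClosed_eq_field_fractions' K hxint] at hmin
      have hc1 := congrArg (fun p => Polynomial.coeff p 1) hmin
      have hc0 := congrArg (fun p => Polynomial.coeff p 0) hmin
      simp [hq, Polynomial.coeff_X] at hc1 hc0
      exact ⟨-(minpoly A x).coeff 1, (minpoly A x).coeff 0, by rw [map_neg, ← hc1]; ring, hc0.symm⟩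
  obtain ⟨b, hb⟩ := h2.exists_left_inv
  have hbK : algebraMap A K b * 2 = 1 := by rw [← map_ofNat (algebraMap A K) 2, ← map_mul, hb, map_one]
  have hu : algebraMap A K (b * a₁) = u := by
    rw [map_mul, h₁, ← mul_assoc, hbK, one_mul]
  have hvd : algebraMap A K (b * a₁ * (b * a₁) - a₀) = v * v * algebraMap A K d := by
    rw [map_sub, map_mul, hu, h₀]; ring
  set n := IsFractionRing.num A v with hn
  set m : A := (IsFractionRing.den A v : A) with hm
  have hv' : v * algebraMap A K m = algebraMap A K n :=
    IsFractionRing.num_mul_den_eq_num_iff_eq.mpr rfl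
  have hdvd : m * m ∣ d * (n * n) := by
    refine ⟨b * a₁ * (b * a₁) - a₀, IsFractionRing.injective A K ?_⟩
    rw [map_mul (algebraMap A K) (m * m), hvd, map_mul, map_mul, map_mul, ← hv']
    ring
  have hrel : IsRelPrime (m * m) (n * n) := by
    have h : IsRelPrime n m := IsFractionRing.num_den_reduced A v
    exact (h.symm.mul_left h.symm).mul_right (h.symm.mul_left h.symm)
  obtain ⟨m', hm'⟩ := (hd m (hrel.dvd_of_dvd_mul_right hdvd)).exists_right_inv
  have hvA : algebraMap A K (n * m') = v := by
    rw [map_mul, ← hv', mul_assoc, ← map_mul, hm', map_one, mul_one]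
  rw [huv, ← hu, ← hvA, ← IsScalarTower.algebraMap_apply, ← IsScalarTower.algebraMap_apply]
  exact add_mem (Subalgebra.algebraMap_mem _ _) (mul_mem (Subalgebra.algebraMap_mem _ _) (Algebra.self_mem_adjoin_singleton A y))

end Groth.Agent.S18888
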