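import Groth.Statements.S18889
import Mathlib.LinearAlgebra.Charpoly.Basic
import Mathlib.LinearAlgebra.FreeModule.PID
import Mathlib.RingTheory.Adjoin.PowerBasis
import Mathlib.RingTheory.Finiteness.ModuleFinitePresentation
import Mathlib.RingTheory.Flat.TorsionFree
import Mathlib.RingTheory.Invariant.Basic
import Mathlib.RingTheory.Polynomial.GaussLemma
import Mathlib.RingTheory.PowerSeries.NoZeroDivisors
import Mathlib.RingTheory.SimpleRing.Principal
import Mathlib.RingTheory.TotallySplit

set_option autoImplicit false
universe u v w
open CAlg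

namespace Groth.Agent.S18889

/-- Let R be a commutative ring, A a commutative R-algebra of finite presentation, and G a finite group
acting on A by R-algebra automorphisms such that the order of G is invertible in R. Then the ring of
invariants A^G is an R-algebra of finite presentation. (The source takes G to be a group of
automorphisms of A; here G acts through a possibly non-faithful action, which changes nothing since
the invariants and the invertibility of the order only depend on the image of G.) -/
theorem result {R : Type u} {A : Type v} [CommRing R] [CommRing A]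
    [Algebra R A] [Algebra.FinitePresentation R A]
    {G : Type w} [Group G] [Finite G] [MulSemiringAction G A] [SMulCommClass G R A]
    (hG : IsUnit ((Nat.card G : ℕ) : R)) :
    Algebra.FinitePresentation R (FixedPoints.subalgebra R A G) := by
  classical
  have := Fintype.ofFinite G
  set B := FixedPoints.subalgebra R A G with hBdef
  have hinv : Algebra.IsInvariant B A G := ⟨fun a ha => ⟨⟨a, ha⟩, rfl⟩⟩
  have hcomm : SMulCommClass G B A := ⟨fun g b a => by
    show g • ((b : A) * a) = (b : A) * g • a
    rw [smul_mul', b.2 g]⟩
  have hint : Algebra.IsIntegral B A := Algebra.IsInvariant.isIntegral B A G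
  obtain ⟨s, hs⟩ := Algebra.FiniteType.out (R := R) (A := A)
  choose q hqm hq using fun x : A => hint.isIntegral x
  let T : Finset B := s.biUnion fun x => (Finset.range ((q x).natDegree + 1)).image fun i => (q x).coeff i
  let P0 := MvPolynomial (↥T) R
  obtain ⟨φ, hφ⟩ : ∃ φ : P0 →ₐ[R] B, ∀ t : T, φ (MvPolynomial.X t) = (t : B) :=
    ⟨MvPolynomial.aeval fun t : T => (t : B), fun t => MvPolynomial.aeval_X _ _⟩
  letI : Algebra P0 B := φ.toRingHom.toAlgebra
  letI : Algebra P0 A := ((B.val).comp φ).toRingHom.toAlgebra
  haveI : IsScalarTower R P0 B := IsScalarTower.of_algebraMap_eq fun r => (φ.commutes r).symm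
  haveI : IsScalarTower R P0 A := IsScalarTower.of_algebraMap_eq fun r => ((B.val.comp φ).commutes r).symm
  haveI : IsScalarTower P0 B A := IsScalarTower.of_algebraMap_eq fun r => rfl
  have hintP : ∀ x ∈ s, IsIntegral P0 x := by
    intro x hx
    have hl : q x ∈ Polynomial.lifts (algebraMap P0 B) := by
      rw [Polynomial.lifts_iff_coeff_lifts]
      intro i
      by_cases hi : i ≤ (q x).natDegree
      · have hmem : (q x).coeff i ∈ T := Finset.mem_biUnion.mpr ⟨x, hx, Finset.mem_image.mpr ⟨i, Finset.mem_range.mpr (by omega), rfl⟩⟩
        exact ⟨MvPolynomial.X ⟨_, hmem⟩, hφ _⟩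
      · rw [Polynomial.coeff_eq_zero_of_natDegree_lt (by omega)]
        exact ⟨0, map_zero _⟩
    obtain ⟨Q, hQ, -, hQm⟩ := Polynomial.lifts_and_natDegree_eq_and_monic hl (hqm x)
    refine ⟨Q, hQm, ?_⟩
    have := hq x
    rw [← hQ, Polynomial.eval₂_map, ← IsScalarTower.algebraMap_eq] at this
    exact this
  have hfin : Module.Finite P0 A := by
    refine ⟨?_⟩
    have htop : Algebra.adjoin P0 (s : Set A) = ⊤ := by
      rw [eq_top_iff]
      rintro y -
      have hy : y ∈ Algebra.adjoin R (s : Set A) := hs ▸ Algebra.mem_top
      induction hy using Algebra.adjoin_induction with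
      | mem z hz => exact Algebra.subset_adjoin hz
      | algebraMap r => rw [IsScalarTower.algebraMap_apply R P0 A]; exact Subalgebra.algebraMap_mem _ _
      | add a b _ _ ha hb => exact add_mem ha hb
      | mul a b _ _ ha hb => exact mul_mem ha hb
    have h1 := fg_adjoin_of_finite (R := P0) s.finite_toSet hintP
    rwa [htop, Algebra.top_toSubmodule] at h1
  have : Algebra.FinitePresentation P0 A := Algebra.FinitePresentation.of_restrict_scalars_finitePresentation R P0 A
  have hMA : Module.FinitePresentation P0 A := Module.FinitePresentation.of_finite_of_finitePresentation P0 A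
  obtain ⟨c, hc⟩ := (hG.map (algebraMap R A)).exists_left_inv
  have hcfix : ∀ g : G, g • c = c := by
    intro g
    have h1 : g • (algebraMap R A (Nat.card G : R)) = algebraMap R A (Nat.card G : R) := smul_algebraMap g _
    have h2 : (g • c) * algebraMap R A (Nat.card G : R) = 1 := by
      conv_lhs => rw [← h1, ← smul_mul', hc, smul_one]
    calc g • c = g • c * (algebraMap R A (Nat.card G : R) * c) := by rw [mul_comm _ c, hc, mul_one]
      _ = c := by rw [← mul_assoc, h2, one_mul]
  have hsum : ∀ a : A, ∀ g : G, g • (c * ∑ h : G, h • a) = c * ∑ h : G, h • a := by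
    intro a g
    rw [smul_mul', hcfix, Finset.smul_sum]
    congr 1
    exact Fintype.sum_equiv (Equiv.mulLeft g) _ _ fun h => by simp [mul_smul]
  let e : A →ₗ[P0] B :=
    { toFun := fun a => ⟨c * ∑ h : G, h • a, hsum a⟩
      map_add' := fun a b => Subtype.ext (by simp [Finset.sum_add_distrib, mul_add])
      map_smul' := fun r a => Subtype.ext (by
        show c * ∑ h : G, h • ((φ r : A) * a) = (φ r : A) * (c * ∑ h : G, h • a)
        simp only [smul_mul', (φ r).2 _, ← Finset.mul_sum]
        ring) }
  have he : ∀ b : B, e (b : A) = b := fun b => Subtype.ext (by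
    show c * ∑ h : G, h • (b : A) = b
    rw [Finset.sum_congr rfl fun h _ => b.2 h, Finset.sum_const, Finset.card_univ, nsmul_eq_mul, ← mul_assoc,
      ← Nat.card_eq_fintype_card, ← map_natCast (algebraMap R A), hc, one_mul])
  let ι : B →ₗ[P0] A := (IsScalarTower.toAlgHom P0 B A).toLinearMap
  have hker : (LinearMap.ker e).FG := by
    have h1 : LinearMap.range (LinearMap.id - ι ∘ₗ e) = LinearMap.ker e := by
      ext a
      constructor
      · rintro ⟨y, rfl⟩
        rw [LinearMap.mem_ker, LinearMap.sub_apply, map_sub, LinearMap.id_apply, LinearMap.comp_apply,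
          show e (ι (e y)) = e y from he (e y), sub_self]
      · intro ha
        exact ⟨a, by simp [LinearMap.mem_ker.mp ha]⟩
    rw [← h1]
    exact Module.Finite.iff_fg.mp (Module.Finite.range _)
  have hMB : Module.FinitePresentation P0 B :=
    Module.finitePresentation_of_surjective e (fun b => ⟨(b : A), he b⟩) hker
  have : Algebra.FinitePresentation P0 B := Algebra.FinitePresentation.of_finitePresentation P0 B
  exact Algebra.FinitePresentation.trans R P0 B

end Groth.Agent.S18889
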