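import Groth.Statements.S1889
import Groth.Agent.H19Grp.GrpdShearFst
import Groth.Agent.H19Grp.Components

set_option autoImplicit false
universe u
open CategoryTheory CategoryTheory.Limits AlgebraicGeometry
open Grpd

namespace Groth.Agent.S1889

/-- Let (U, R, s, t, c) be a groupoid scheme over S with U the spectrum of a field, W ⊆ R open and a : Z
→ R a morphism. Then the image of Z ×_{s∘a, U, t} W → R ×_{s,U,t} R → R (composition) is open. (A
groupoid scheme carries U, R, s, t, c, e, i over S with the groupoid axioms on T-points; 'finite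
locally free' is finite, flat and locally of finite presentation; C ⊂ Γ(U) is the ring of functions
a with s♯(a) = t♯(a) and M = Spec C.) -/
theorem result (S : Scheme.{u}) (G : Grpd.GroupoidScheme S) (k : Type u) [Field k] (eU : G.U ≅ Spec (CommRingCat.of k)) (W : G.R.Opens) (Z : Scheme.{u}) (a : Z ⟶ G.R) : IsOpen (Set.range ⇑(pullback.lift (pullback.fst (a ≫ G.s) (W.ι ≫ G.t) ≫ a) (pullback.snd (a ≫ G.s) (W.ι ≫ G.t) ≫ W.ι) ((Category.assoc _ _ _).trans (pullback.condition.trans (Category.assoc _ _ _).symm)) ≫ G.c)) := by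
  haveI := Groth.Agent.H19Grp.isIntegral_U G eU
  haveI := Groth.Agent.H19Grp.subsingleton_U G eU
  let m : pullback (a ≫ G.s) G.t ⟶ pullback G.s G.t :=
    pullback.map _ _ _ _ a (𝟙 _) (𝟙 _) (by simp) (by simp)
  have hp : IsPullback m (pullback.fst (a ≫ G.s) G.t) (pullback.fst G.s G.t) a := by
    refine IsPullback.of_right ?_ (pullback.lift_fst _ _ _) (IsPullback.of_hasPullback G.s G.t).flip
    have : m ≫ pullback.snd G.s G.t = pullback.snd (a ≫ G.s) G.t :=
      (pullback.lift_snd _ _ _).trans (Category.comp_id _)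
    rw [this]
    exact (IsPullback.of_hasPullback _ _).flip
  have hsq := hp.paste_horiz (Groth.Agent.H19Grp.isPullback_c_fst G)
  haveI : UniversallyOpen (m ≫ G.c) :=
    MorphismProperty.of_isPullback hsq.flip (inferInstanceAs (UniversallyOpen (a ≫ G.t)))
  let n : pullback (a ≫ G.s) (W.ι ≫ G.t) ⟶ pullback (a ≫ G.s) G.t :=
    pullback.map _ _ _ _ (𝟙 _) W.ι (𝟙 _) (by simp) (by simp)
  have hn : IsPullback n (pullback.snd (a ≫ G.s) (W.ι ≫ G.t))
      (pullback.snd (a ≫ G.s) G.t) W.ι := by
    refine IsPullback.of_right ?_ (pullback.lift_snd _ _ _) (IsPullback.of_hasPullback (a ≫ G.s) G.t)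
    have : n ≫ pullback.fst (a ≫ G.s) G.t = pullback.fst (a ≫ G.s) (W.ι ≫ G.t) :=
      (pullback.lift_fst _ _ _).trans (Category.comp_id _)
    rw [this]
    exact IsPullback.of_hasPullback _ _
  haveI : IsOpenImmersion n := MorphismProperty.of_isPullback hn.flip inferInstance
  have he : pullback.lift (pullback.fst (a ≫ G.s) (W.ι ≫ G.t) ≫ a)
      (pullback.snd (a ≫ G.s) (W.ι ≫ G.t) ≫ W.ι)
      ((Category.assoc _ _ _).trans (pullback.condition.trans (Category.assoc _ _ _).symm)) ≫ G.c =
      n ≫ (m ≫ G.c) := by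
    rw [← Category.assoc n m]
    congr 1
    apply pullback.hom_ext <;>
      simp only [n, m, pullback.map, Category.assoc, pullback.lift_fst, pullback.lift_snd, pullback.lift_fst_assoc, pullback.lift_snd_assoc, Category.comp_id, Category.id_comp]
  rw [he, Scheme.Hom.comp_base, TopCat.coe_comp, Set.range_comp]
  exact (m ≫ G.c).isOpenMap _ n.isOpenEmbedding.isOpen_range

end Groth.Agent.S1889
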