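import Groth.Statements.S18890
import Mathlib.RepresentationTheory.Invariants
import Mathlib.RingTheory.Henselian
import Mathlib.RingTheory.LocalProperties.Reduced
import Mathlib.RingTheory.LocalRing.Pullback
import Mathlib.RingTheory.PowerSeries.NoZeroDivisors
import Mathlib.RingTheory.RegularLocalRing.Defs
import Mathlib.RingTheory.SimpleRing.Principal

set_option autoImplicit false
universe u v w w'
open CAlg

namespace Groth.Agent.S18890

/-- Let R be a commutative ring, G a finite group whose order is invertible in R, M an R-module with an
R-linear action ρ of G and N an arbitrary R-module. Then the natural map M^G ⊗_R N → M ⊗_R N induced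
by the inclusion of the invariants is injective, and its image is the submodule of invariants of M
⊗_R N under the action ρ ⊗ 1 (G acting on the first factor). (The source lets G be a group of
R-automorphisms of M; a possibly non-faithful linear action changes nothing.) -/
theorem result {R : Type u} [CommRing R]
    {G : Type v} [Group G] [Finite G] (hG : IsUnit ((Nat.card G : ℕ) : R))
    {M : Type w} {N : Type w'} [AddCommGroup M] [Module R M] [AddCommGroup N] [Module R N]
    (ρ : Representation R G M) :
    Function.Injective (LinearMap.rTensor N ρ.invariants.subtype) ∧
      LinearMap.range (LinearMap.rTensor N ρ.invariants.subtype) =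
        (ρ.tprod (Representation.trivial R G N)).invariants := by
  have := Fintype.ofFinite G
  rw [Nat.card_eq_fintype_card] at hG
  letI : Invertible (Fintype.card G : R) := hG.invertible
  have hp := ρ.isProj_averageMap
  set e : M →ₗ[R] ρ.invariants := LinearMap.codRestrict ρ.invariants ρ.averageMap hp.map_mem
  have he : e ∘ₗ ρ.invariants.subtype = LinearMap.id := LinearMap.ext fun x => Subtype.ext (hp.map_id x x.2)
  refine ⟨fun x y hxy => ?_, ?_⟩
  · have := congrArg (LinearMap.rTensor N e) hxy
    rwa [← LinearMap.comp_apply, ← LinearMap.comp_apply, ← LinearMap.rTensor_comp, he, LinearMap.rTensor_id_apply, LinearMap.rTensor_id_apply] at this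
  · apply le_antisymm
    · rintro _ ⟨z, rfl⟩ g
      rw [show (ρ.tprod (Representation.trivial R G N)) g = LinearMap.rTensor N (ρ g) from TensorProduct.ext' fun m x => by simp]
      rw [← LinearMap.comp_apply, ← LinearMap.rTensor_comp,
        show ρ g ∘ₗ ρ.invariants.subtype = ρ.invariants.subtype from LinearMap.ext fun x => x.2 g]
    · intro z hz
      refine ⟨LinearMap.rTensor N e z, ?_⟩
      rw [← LinearMap.comp_apply, ← LinearMap.rTensor_comp]
      have h1 : ρ.invariants.subtype ∘ₗ e = ρ.averageMap := rfl
      rw [h1]
      have h2 : LinearMap.rTensor N ρ.averageMap = (ρ.tprod (Representation.trivial R G N)).averageMap := by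
        apply TensorProduct.ext'
        intro m x
        simp [Representation.averageMap, GroupAlgebra.average, TensorProduct.sum_tmul, TensorProduct.smul_tmul']
      rw [h2]
      exact (ρ.tprod (Representation.trivial R G N)).isProj_averageMap.map_id z hz

end Groth.Agent.S18890
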