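import Groth.Statements.S18891
import Groth.Agent.H17.Imports
import Mathlib.AlgebraicGeometry.ZariskisMainTheorem

set_option autoImplicit false
universe u
open CategoryTheory CategoryTheory.Limits AlgebraicGeometry
open Mor

namespace Groth.Agent.S18891

open CategoryTheory Limits AlgebraicGeometry TopologicalSpace

/-- Let f : X → Y be a morphism of schemes which is proper and formally unramified, and such that for
every algebraically closed field Ω the map X(Ω) → Y(Ω), g ↦ g ≫ f, is injective. Then f is a closed
immersion. -/
theorem result {X Y : Scheme.{u}} (f : X ⟶ Y)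
    [IsProper f] [FormallyUnramified f]
    (hinj : ∀ (Ω : Type u) [Field Ω] [IsAlgClosed Ω],
      Function.Injective (fun g : Spec (CommRingCat.of Ω) ⟶ X => g ≫ f)) :
    IsClosedImmersion f := by
  have : Surjective (pullback.diagonal f) := ⟨fun z => by
    let Ω := AlgebraicClosure ((pullback f f).residueField z)
    let g := Spec.map (CommRingCat.ofHom (algebraMap ((pullback f f).residueField z) Ω)) ≫
      (pullback f f).fromSpecResidueField z
    have h : g ≫ pullback.fst f f = g ≫ pullback.snd f f :=
      hinj Ω (by simp only [Category.assoc, pullback.condition])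
    have hg : g = (g ≫ pullback.fst f f) ≫ pullback.diagonal f := by
      apply pullback.hom_ext <;> simp [h]
    refine ⟨(g ≫ pullback.fst f f) (IsLocalRing.closedPoint Ω), ?_⟩
    rw [← Scheme.Hom.comp_apply, ← hg, Scheme.Hom.comp_apply]
    exact Scheme.fromSpecResidueField_apply _ _⟩
  have : IsIso (pullback.diagonal f) := by
    rw [isIso_iff_isOpenImmersion_and_surjective]
    exact ⟨inferInstance, this⟩
  have : Mono f := (pullback.isIso_diagonal_iff f).mp this
  exact (IsClosedImmersion.iff_isProper_and_mono f).mpr ⟨inferInstance, this⟩

end Groth.Agent.S18891
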