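import Groth.Statements.S18892
import Groth.Agent.H29DoubleCover.Deck
import Groth.Agent.H29DoubleCover.Connected
import Groth.Agent.H22Alg.VarGeom

set_option autoImplicit false
universe u
open CategoryTheory CategoryTheory.Limits AlgebraicGeometry
open Curves

namespace Groth.Agent.S18892

/-- Let k be an algebraically closed field of characteristic different from 2 and X a hyperelliptic
curve over k, i.e. p : X → Spec k is smooth and proper, X is connected of dimension one and of genus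
dim_k H¹(X, O_X) ≥ 2, and X admits a double cover of P¹_k (a k-morphism which is finite and flat of
rank 2 at every point). A hyperelliptic involution is a k-endomorphism σ ≠ id of X with σ ≫ h = h
for some such double cover h. Then any two hyperelliptic involutions of X coincide. -/
theorem result (k : Type u) [Field k] [IsAlgClosed k] (h2 : (2 : k) ≠ 0)
    {X : Scheme.{u}} (p : X ⟶ Spec (CommRingCat.of k)) [IsProper p] [Smooth p] [ConnectedSpace ↥X]
    (hX : topologicalKrullDim ↥X = 1) (hg : 2 ≤ @Curv2.genus k _ X ⟨p⟩)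
    (h₁ h₂ : X ⟶ CohB1.ProjSpace 1 k) (hh₁ : h₁ ≫ CohB1.ProjSpace.toSpec 1 k = p)
    (hh₂ : h₂ ≫ CohB1.ProjSpace.toSpec 1 k = p)
    [IsFinite h₁] [Flat h₁] (hr₁ : ∀ y : ↥(CohB1.ProjSpace 1 k), h₁.finrank y = 2)
    [IsFinite h₂] [Flat h₂] (hr₂ : ∀ y : ↥(CohB1.ProjSpace 1 k), h₂.finrank y = 2)
    (σ τ : X ⟶ X) (hσ : σ ≫ h₁ = h₁) (hσ₁ : σ ≠ 𝟙 X) (hτ : τ ≫ h₂ = h₂) (hτ₁ : τ ≠ 𝟙 X) :
    σ = τ := by
  letI : X.Over (Spec (CommRingCat.of k)) := ⟨p⟩
  haveI : IsProper (X ↘ Spec (CommRingCat.of k)) := ‹IsProper p›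
  haveI : Smooth (X ↘ Spec (CommRingCat.of k)) := ‹Smooth p›
  haveI : GeometricallyConnected p := H22Alg.VarGeom.geometricallyConnected_of_isSepClosed p
  haveI : IsIntegral X := H29DoubleCover.isIntegral_of_smooth_connected p
  have hσp : σ ≫ p = p := by rw [← hh₁, reassoc_of% hσ]
  have hτp : τ ≫ p = p := by rw [← hh₂, reassoc_of% hτ]
  have hσ₂ := H29DoubleCover.comp_eq_of_deck (k := k) hX hg h₁ h₂ hh₁ hh₂ hr₁ hr₂ σ hσ
  exact H29DoubleCover.deck_unique p h₂ hr₂ σ τ hσp hτp hσ₂ hσ₁ hτ hτ₁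

end Groth.Agent.S18892
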