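import Groth.Statements.S3338
import Groth.Agent.H28Vert.SmoothModel
import Groth.Agent.H28Vert.ExcNum
import Groth.Agent.H28Vert.VertGen
import Groth.Agent.H28Vert.GeomMult
import Groth.Agent.H28Vert.Numerical

set_option autoImplicit false
set_option linter.style.haveILetI false
set_option backward.isDefEq.respectTransparency.types false
universe u
open CategoryTheory CategoryTheory.Limits AlgebraicGeometry
open Models

namespace Groth.Agent.S3338

/-- The step (1) implies (2) as proved there: let R be a discrete valuation ring with fraction field K,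
C a smooth proper curve over K with H^0(C, O_C) = K, and X a proper smooth model of C over R. Then X
is a minimal model (regular, proper, with no exceptional curve of the first kind in its closed
fibre). -/
theorem result (R : Type u) [CommRing R] [IsDomain R] [IsDiscreteValuationRing R]
    (C X : Scheme.{u}) (f : C ⟶ Spec (CommRingCat.of (FractionRing R))) (p : X ⟶ Spec (CommRingCat.of R))
    (hC : Curve.IsSmoothProperCurve (FractionRing R) C f) (hH0 : IsIso f.appTop)
    (hX : Models.IsModel R X p C f) [IsProper p] [Smooth p] :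
    Models.IsMinimalModel R X p C f := by
  classical
  obtain ⟨hreg, hXi, hfib⟩ := H28Vert.smoothModel_facts hC hX
  haveI := hXi
  haveI : Flat p := hX.1
  refine ⟨⟨hX, inferInstance, hreg⟩, fun Γ hexc => ?_⟩
  let P := Over.mk p
  haveI : IsProper P.hom := ‹IsProper p›
  haveI : Flat P.hom := hX.1
  haveI : IsIntegral P.left := hXi
  haveI : IsLocallyNoetherian P.left := LocallyOfFiniteType.isLocallyNoetherian p
  obtain ⟨ϖ, hϖ⟩ := IsDiscreteValuationRing.exists_irreducible R
  have hη : genericPoint P.left ∉ Models.specialFibreSet R P := by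
    rw [H28Vert.notMem_specialFibreSet_iff hϖ]
    exact (Ne.isUnit (H28Vert.stalkHom_ne_zero (X := P) hϖ.ne_zero _) :
      IsUnit (Models.stalkHom R P (genericPoint P.left) ϖ : P.left.functionField))
  have hΓS : Set.range Γ.ι.base ⊆ Models.specialFibreSet R P := by
    rintro _ ⟨z, rfl⟩
    show P.hom (Γ.ι z) = IsLocalRing.closedPoint R
    rw [← Scheme.Hom.comp_apply, Γ.w, Scheme.Hom.comp_apply]
    exact IsLocalRing.PrimeSpectrum.comap_residue R _
  have hle : topologicalKrullDim P.left ≤ ((2 : ℕ) : WithBot ℕ∞) := by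
    refine H28Vert.topologicalKrullDim_le_of_stalks _ fun x => ?_
    have hR1 : ringKrullDim ((Spec (CommRingCat.of R)).presheaf.stalk (p x)) ≤ ((1 : ℕ) : WithBot ℕ∞) := by
      refine (H05EGA4.DimFibre.stalkDim_le_top (p x)).trans (le_of_eq ?_)
      show topologicalKrullDim (PrimeSpectrum R) = ((1 : ℕ) : WithBot ℕ∞)
      rw [PrimeSpectrum.topologicalKrullDim_eq_ringKrullDim, IsDiscreteValuationRing.ringKrullDim_eq_one R]
      rfl
    exact (H05EGA4.DimFibre.stalkDim_le_add p x).trans ((add_le_add hR1 (hfib (p x))).trans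
      (by norm_num))
  have hdim : topologicalKrullDim P.left = 2 := by
    refine le_antisymm hle ?_
    by_contra hlt
    have h1 : topologicalKrullDim (Set.univ : Set P.left) ≤ ((1 : ℕ) : WithBot ℕ∞) :=
      Topology.IsInducing.subtypeVal.topologicalKrullDim_le.trans (H28Vert.le_one_of_lt_two (not_le.1 hlt))
    haveI := Γ.isClosedImmersion
    have h2 := H28Int.dim_lt_of_notMem (genericPoint_spec P.left).def h1 Γ.ι.isClosedEmbedding.isClosed_range
      (fun _ _ => trivial) (fun h => hη (hΓS h))
    rw [← Γ.ι.isClosedEmbedding.isEmbedding.toHomeomorph.isHomeomorph.topologicalKrullDim_eq, Γ.dim_eq] at h2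
    exact lt_irrefl _ h2
  obtain ⟨n, Δ, hΔ⟩ := H28Vert.exists_isComponentList' (X := P) hdim
  obtain ⟨i, hi⟩ := hΔ.2.ge (H28Vert.mem_fibreComponents (H28Vert.dim_fibre_le_one hΔ) Γ)
  have hinv : ∀ k, ∃ M : X.Modules, PicF.IsInvertible M ∧ ClSub.IsInverseOf M (ClSub.idealMod (Δ k).ι.ker) :=
    fun k => H11Sym.exists_inverse
      (H29Blow.isInvertible_of_isEffCartierIdeal _ (H28Vert.isEffCartierIdeal_ker (X := P) hreg hΔ k))
  choose L hLi hL using hinv
  obtain ⟨M, hMi, hM⟩ := H11Sym.exists_inverse (H29Blow.isInvertible_of_isEffCartierIdeal _ hexc.1)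
  obtain ⟨-, hneg⟩ := H28Vert.exc_facts hexc hMi hM
  have hwpos := H28Vert.wdeg_pos Γ
  rw [← H28Vert.inter_congr hi hi (hL i) hM] at hneg
  have hdisj : ∀ j, i ≠ j → Disjoint (Set.range (Δ i).ι.base) (Set.range (Δ j).ι.base) := by
    intro j hij
    let k := IsLocalRing.ResidueField R
    let Y := pullback P.hom (H28Vert.closedPt R)
    let b := pullback.fst P.hom (H28Vert.closedPt R)
    haveI : Smooth P.hom := ‹Smooth p›
    haveI : Smooth (pullback.snd P.hom (H28Vert.closedPt R)) := inferInstance
    refine Set.disjoint_left.2 fun x hxi hxj => ?_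
    obtain ⟨z, hz⟩ := hxi
    let y : Y := H28Vert.toFibre (Δ i) z
    haveI : IsRegularLocalRing (Y.presheaf.stalk y) :=
      H19Grp.isRegularLocalRing_stalk_of_smooth (k := k) (pullback.snd P.hom (H28Vert.closedPt R)) y
    haveI := H4Depth.isDomain_of_isRegularLocalRing (Y.presheaf.stalk y)
    let a := Y.fromSpecStalk y
    let q₀ : PrimeSpectrum (Y.presheaf.stalk y) := ⟨⊥, Ideal.isPrime_bot⟩
    have hsub : ∀ l, x ∈ Set.range (Δ l).ι.base → Set.range (Δ l).ι.base = closure {b (a q₀)} := by
      rintro l ⟨w, hw⟩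
      have hfst : ∀ (l : Fin n) v, b (H28Vert.toFibre (Δ l) v) = (Δ l).ι v := fun l v => by
        rw [← Scheme.Hom.comp_apply, show H28Vert.toFibre (Δ l) ≫ b = (Δ l).ι from H28Vert.toFibre_fst _]
      haveI := (Δ l).isClosedImmersion
      have hyl : y = H28Vert.toFibre (Δ l) w := b.isClosedEmbedding.injective
        ((hfst i z).trans (hz.trans (hw.symm.trans (hfst l w).symm)))
      let ξ := H28Vert.toFibre (Δ l) (genericPoint (Δ l).curve.left)
      obtain ⟨q, hq⟩ : ξ ∈ Set.range a := by
        rw [Scheme.range_fromSpecStalk]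
        exact hyl ▸ ((genericPoint_spec _).specializes trivial).map (H28Vert.toFibre (Δ l)).continuous
      have h0 : b (a q₀) ⤳ (Δ l).ι (genericPoint (Δ l).curve.left) := by
        rw [← hfst l]
        show b (a q₀) ⤳ b ξ
        rw [← hq]
        exact (((PrimeSpectrum.le_iff_specializes q₀ q).1 (bot_le : (⊥ : Ideal _) ≤ q.asIdeal)).map a.continuous).map b.continuous
      have hgen : Set.range (Δ l).ι.base = closure {(Δ l).ι (genericPoint (Δ l).curve.left)} := by
        rw [← Set.image_univ, ← (genericPoint_spec (Δ l).curve.left).def, ← (Δ l).ι.isClosedEmbedding.closure_image_eq,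
          Set.image_singleton]
      have hsubset : Set.range (Δ l).ι.base ⊆ closure {b (a q₀)} := by
        rw [hgen]
        exact closure_minimal (Set.singleton_subset_iff.2 (specializes_iff_mem_closure.1 h0)) isClosed_closure
      refine hsubset.antisymm ((hΔ.2.le ⟨l, rfl⟩).2 (show IsIrreducible (closure {b (a q₀)}) ∧ closure {b (a q₀)} ⊆ Models.specialFibreSet R P from ⟨isIrreducible_singleton.closure, ?_⟩) hsubset)
      refine (closure_minimal (Set.singleton_subset_iff.2 (show b (a q₀) ∈ Set.range b from ⟨a q₀, rfl⟩)) b.isClosedEmbedding.isClosed_range).trans ?_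
      exact (H28Vert.range_fst_closedPt (X := P)).le
    exact hij (hΔ.1 ((hsub i (hz ▸ Set.mem_range_self z)).trans (hsub j hxj).symm))
  have hz := H28Vert.sum_inter_mult hΔ hL i
  rw [Finset.sum_eq_single i (fun j _ hji => by
    rw [((H28Vert.inter_offDiag hΔ hL (Ne.symm hji)).2).2 (hdisj j (Ne.symm hji)), zero_mul])
    (fun h => absurd (Finset.mem_univ i) h), hneg] at hz
  have := H28Vert.mult_pos hΔ i
  rcases mul_eq_zero.1 hz with h | h <;> omega

end Groth.Agent.S3338
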