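import Groth.Statements.S18894
import Groth.Agent.S3330
import Groth.Agent.S3338
import Groth.Agent.H29CurveDesc.Family
import Groth.Agent.H22Alg.DivCut
import Groth.Agent.H10Coh.Growth.Field
import Groth.Agent.H23RInv.Basic
import Groth.Agent.H29CurveDual.CanonAux
import Groth.Agent.H28Vert.TrivGeneric

set_option autoImplicit false
universe u
open CategoryTheory CategoryTheory.Limits AlgebraicGeometry
open Curves

namespace Groth.Agent.S18894

/-- A curve with only constant functions has the constants as global functions. -/
theorem isIso_appTop {K : Type u} [Field K] {C : Scheme.{u}} (q : C ⟶ Spec (CommRingCat.of K)) [IsProper q] [Smooth q]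
    [GeometricallyConnected q] : IsIso q.appTop := by
  letI : C.Over (Spec (CommRingCat.of K)) := ⟨q⟩
  haveI : IsProper (C ↘ Spec (CommRingCat.of K)) := ‹IsProper q›
  haveI : Smooth (C ↘ Spec (CommRingCat.of K)) := ‹Smooth q›
  haveI : GeometricallyConnected (C ↘ Spec (CommRingCat.of K)) := ‹GeometricallyConnected q›
  have h1 := H29CurveDual.finrank_h0_structure_smooth (k := K) (X := C)
  letI : Algebra K Γ(C, ⊤) := ((Scheme.ΓSpecIso (CommRingCat.of K)).inv ≫ q.appTop).hom.toAlgebra
  let E : Coh.HH C (Coh.structureModule C) 0 ≃ₗ[K] Γ(C, ⊤) :=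
    { H10Coh.HH0Equiv (Coh.structureModule C) with
      map_smul' := fun c x => by
        refine (H10Coh.HH0Equiv_smul (Coh.structureModule C) (algebraMap K Γ(C, ⊤) c) x).trans ?_
        exact (Algebra.smul_def (A := Γ(C, ⊤)) c (show Γ(C, ⊤) from H10Coh.HH0Equiv (Coh.structureModule C) x)).symm }
  have hb := H23RInv.bijective_algebraMap_of_finrank_eq_one (k := K) (B := Γ(C, ⊤)) (E.finrank_eq.symm.trans h1)
  have hb' : Function.Bijective (q.appTop ∘ (Scheme.ΓSpecIso (CommRingCat.of K)).inv) := hb
  rw [ConcreteCategory.isIso_iff_bijective]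
  exact (Function.Bijective.of_comp_iff _
    (ConcreteCategory.bijective_of_isIso (Scheme.ΓSpecIso (CommRingCat.of K)).inv)).1 hb'



/-- Together with the accompanying claim: let R be a discrete valuation ring with fraction field K, η :
Spec K → Spec R the generic point, and f : X → Spec R, g : Y → Spec R two smooth curves of genus n ≥
1 (proper and smooth, with geometrically connected fibres of dimension one and genus n). Then
restriction to the generic fibre is a bijection from R-isomorphisms X ≅ Y onto K-isomorphisms X_η ≅
Y_η: every isomorphism φ of the generic fibres over Spec K is induced by a unique morphism e : X → Y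
compatible with the first projections, and this e is an isomorphism over Spec R. -/
theorem result {R : Type u} [CommRing R] [IsDomain R]
    [IsDiscreteValuationRing R] {X Y : Scheme.{u}}
    (f : X ⟶ Spec (CommRingCat.of R)) (g : Y ⟶ Spec (CommRingCat.of R))
    [IsProper f] [Smooth f] [GeometricallyConnected f] [IsProper g] [Smooth g] [GeometricallyConnected g]
    (hXdim : ∀ s : ↥(Spec (CommRingCat.of R)), topologicalKrullDim ↥(f.fiber s) = 1)
    (hYdim : ∀ s : ↥(Spec (CommRingCat.of R)), topologicalKrullDim ↥(g.fiber s) = 1)
    (n : ℕ) (hn : 1 ≤ n)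
    (hXgen : ∀ s : ↥(Spec (CommRingCat.of R)),
      letI : (f.fiber s).Over (Spec ((Spec (CommRingCat.of R)).residueField s)) := ⟨f.fiberToSpecResidueField s⟩
      Curv2.genus ((Spec (CommRingCat.of R)).residueField s) (f.fiber s) = n)
    (hYgen : ∀ s : ↥(Spec (CommRingCat.of R)),
      letI : (g.fiber s).Over (Spec ((Spec (CommRingCat.of R)).residueField s)) := ⟨g.fiberToSpecResidueField s⟩
      Curv2.genus ((Spec (CommRingCat.of R)).residueField s) (g.fiber s) = n)
    (η : Spec (CommRingCat.of (FractionRing R)) ⟶ Spec (CommRingCat.of R))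
    (hη : η = Spec.map (CommRingCat.ofHom (algebraMap R (FractionRing R))))
    (φ : pullback f η ≅ pullback g η) (hφ : φ.hom ≫ pullback.snd g η = pullback.snd f η) :
    ∃ e : X ≅ Y, e.hom ≫ g = f ∧ pullback.fst f η ≫ e.hom = φ.hom ≫ pullback.fst g η ∧
      ∀ e' : X ⟶ Y, pullback.fst f η ≫ e' = φ.hom ≫ pullback.fst g η → e' = e.hom := by
  haveI : IsProper (pullback.snd f η) := MorphismProperty.pullback_snd f η inferInstance
  haveI : Smooth (pullback.snd f η) := MorphismProperty.pullback_snd f η inferInstance
  haveI : GeometricallyConnected (pullback.snd f η) := MorphismProperty.pullback_snd f η inferInstance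
  let q := pullback.snd f η
  haveI : IsProper q := ‹IsProper (pullback.snd f η)›
  have hsq : IsPullback (pullback.fst f η) q f η := IsPullback.of_hasPullback f η
  have hsqg : IsPullback (φ.hom ≫ pullback.fst g η) q g η :=
    IsPullback.of_iso (IsPullback.of_hasPullback g η) φ.symm (Iso.refl _) (Iso.refl _) (Iso.refl _)
      (by simp) (by simp only [Iso.symm_hom, Iso.refl_hom, Category.comp_id]; show pullback.snd g η = φ.inv ≫ pullback.snd f η; rw [Iso.eq_inv_comp]; exact hφ) (by simp) (by simp)
  have hfam : Groth.Agent.H29CurveDesc.CurveFam n f := ⟨inferInstance, inferInstance, inferInstance, hXdim,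
    fun s => (Groth.Agent.H29RelOmega.fiberRank_one_eq_genus f s).trans (hXgen s)⟩
  have hq := hfam.bc hsq
  let z : Spec (CommRingCat.of (FractionRing R)) := IsLocalRing.closedPoint (FractionRing R)
  have hdim : topologicalKrullDim ↥(pullback f η) = 1 :=
    (Groth.Agent.H22Alg.DivCut.dim_fiber_point (k := FractionRing R) q z).symm.trans (hq.dim z)
  have hint : IsIntegral (pullback f η) := by
    letI : (pullback f η).Over (Spec (CommRingCat.of (FractionRing R))) := ⟨q⟩
    haveI : IsProper (pullback f η ↘ Spec (CommRingCat.of (FractionRing R))) := ‹IsProper q›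
    haveI : Smooth (pullback f η ↘ Spec (CommRingCat.of (FractionRing R))) := hq.smooth
    haveI : GeometricallyConnected (pullback f η ↘ Spec (CommRingCat.of (FractionRing R))) := hq.conn
    exact Groth.Agent.H29RR.isIntegral_of_geomConnected (FractionRing R) _
  have hC : Curve.IsSmoothProperCurve (FractionRing R) (pullback f η) q := ⟨hq.proper, hq.smooth, hint, hdim⟩
  have hH0 : IsIso q.appTop := isIso_appTop q
  have hgen : 0 < Models.curveGenus (FractionRing R) (pullback f η) q := by
    letI : (pullback f η).Over (Spec (CommRingCat.of (FractionRing R))) := ⟨q⟩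
    haveI : IsProper (pullback f η ↘ Spec (CommRingCat.of (FractionRing R))) := ‹IsProper q›
    haveI : IsNoetherian (pullback f η) := Groth.Agent.H28Int.isNoetherian (FractionRing R)
    have h := Groth.Agent.H10Coh.Growth.fiberRank_field (k := FractionRing R) (X := pullback f η)
      (Groth.Agent.H10Coh.isCoh_structureModule' _) 1 z
    have h' := hq.rank z
    show 0 < Module.finrank (FractionRing R) (Coh.HH (pullback f η) (Coh.structureModule _) 1)
    rw [← h]
    exact lt_of_lt_of_eq hn h'.symm
  haveI : Flat f := inferInstance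
  haveI : Flat g := inferInstance
  subst hη
  have hMX : Models.IsModel R X f (pullback f _) q := ⟨inferInstance, inferInstance, inferInstance, _, hsq⟩
  have hMY : Models.IsModel R Y g (pullback f _) q := ⟨inferInstance, inferInstance, inferInstance, _, hsqg⟩
  obtain ⟨e, ⟨he, hge⟩, -⟩ := Groth.Agent.S3330.result R _ X Y q f g hC hH0 hgen
    (Groth.Agent.S3338.result R _ X q f hC hH0 hMX) (Groth.Agent.S3338.result R _ Y q g hC hH0 hMY) _ hsq _ hsqg
  refine ⟨e, he, hge, fun e' he' => ?_⟩
  obtain ⟨-, hXi, -⟩ := Groth.Agent.H28Vert.smoothModel_facts hC hMX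
  haveI := hXi
  haveI : IsDominant (pullback.fst f (Spec.map (CommRingCat.ofHom (algebraMap R (FractionRing R))))) := by
    haveI := Groth.Agent.H28Vert.isOpenImmersion_generic R
    haveI : IsOpenImmersion (pullback.fst f (Spec.map (CommRingCat.ofHom (algebraMap R (FractionRing R))))) :=
      MorphismProperty.pullback_fst _ _ inferInstance
    haveI : Nonempty ↥(pullback f (Spec.map (CommRingCat.ofHom (algebraMap R (FractionRing R))))) :=
      IsIntegral.nonempty
    exact ⟨(IsOpenMap.isOpen_range (Scheme.Hom.isOpenEmbedding _).isOpenMap).dense (Set.range_nonempty _)⟩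
  haveI : IsSeparated (terminal.from Y) := by
    rw [← terminal.comp_from g]; infer_instance
  haveI : Y.IsSeparated := ⟨inferInstance⟩
  exact ext_of_isDominant (ι := pullback.fst f (Spec.map (CommRingCat.ofHom (algebraMap R (FractionRing R))))) (he'.trans hge.symm)

end Groth.Agent.S18894
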