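import Groth.Statements.S18895
import Groth.Agent.H29RR.MaxSections
import Groth.Agent.H29RR.Consts
import Groth.Agent.S7862
import Groth.Agent.H19Grp.RegularSmooth
import Groth.Agent.H4Depth.Regular

set_option autoImplicit false
universe u
open CategoryTheory CategoryTheory.Limits AlgebraicGeometry
open Curves

namespace Groth.Agent.S18895

/-- Let k be an algebraically closed field of characteristic different from 2 (the standing convention
of the section; it plays no role here) and X a connected smooth proper curve over k of genus dim_k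
H¹(X, O_X) ≥ 1. For every invertible O_X-module L of positive degree one has dim_k H⁰(X, L) ≤ deg L. -/
theorem result (k : Type u) [Field k] [IsAlgClosed k] (h2 : (2 : k) ≠ 0)
    (X : Scheme.{u}) [X.Over (Spec (CommRingCat.of k))]
    [IsProper (X ↘ Spec (CommRingCat.of k))] [Smooth (X ↘ Spec (CommRingCat.of k))] [ConnectedSpace ↥X]
    (hX : topologicalKrullDim ↥X = 1) (hg : 1 ≤ Curv2.genus k X)
    (L : X.Modules) (hL : PicF.IsInvertible L) (hdeg : 0 < Curv2.deg k X L 1) :
    (Module.finrank k (Coh.HH X L 0) : ℤ) ≤ Curv2.deg k X L 1 := by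
  haveI : IsLocallyNoetherian X := LocallyOfFiniteType.isLocallyNoetherian (X ↘ Spec (CommRingCat.of k))
  haveI : CompactSpace X := QuasiCompact.compactSpace_of_compactSpace (X ↘ Spec (CommRingCat.of k))
  haveI : IsNoetherian X := ⟨⟩
  haveI : IsIntegral X := Groth.Agent.S7862.isIntegral_of_connected X fun t => by
    haveI := Groth.Agent.H19Grp.isRegularLocalRing_stalk_of_smooth (X ↘ Spec (CommRingCat.of k)) t
    exact Groth.Agent.H4Depth.isDomain_of_isRegularLocalRing _
  have h00 := H29RR.finrank_h0_structure k X
  haveI := H29RR.finite_HH (k := k) L hL 0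
  haveI := H29RR.finite_HH (k := k) L hL 1
  by_contra hlt
  rw [not_le] at hlt
  have hn : Nontrivial (Coh.HH X L 0) := Module.nontrivial_of_finrank_pos (R := k) (by omega)
  obtain ⟨-, hb, -, -⟩ := H29RR.bounds_of_section (k := k) hX.le hL hn
  rw [h00] at hb
  have := H29RR.genus_eq_zero_of_max_sections (k := k) hX.le h00 hL hdeg (by omega)
  omega

end Groth.Agent.S18895
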