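import Groth.Statements.S18896
import Groth.Agent.H29CurveFamily.RankExact
import Groth.Agent.LeadBC.GenBC.AppIsoApps
import Groth.Agent.H29CurveDual.Canonical
import Groth.Agent.H29CurveDual.CanonAux
import Groth.Agent.H21Taylor.GeomInt
import Groth.Agent.S18910

set_option autoImplicit false
universe u
open CategoryTheory CategoryTheory.Limits AlgebraicGeometry
open Curves

namespace Groth.Agent.S18896

/-- Let f : X → S be a smooth curve of genus g over a scheme S, i.e. f is proper and smooth and its
fibres are geometrically connected of dimension one and genus g (g the dimension of H¹ of the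
structure sheaf of each fibre over its residue field). Then R¹f_*(O_X) is a locally free O_S-module
of rank g. -/
theorem result {X S : Scheme.{u}} (f : X ⟶ S)
    [IsProper f] [Smooth f] [GeometricallyConnected f]
    (hdim : ∀ s : S, topologicalKrullDim ↥(f.fiber s) = 1) (g : ℕ)
    (hgen : ∀ s : S, letI : (f.fiber s).Over (Spec (S.residueField s)) := ⟨f.fiberToSpecResidueField s⟩
      Curv2.genus (S.residueField s) (f.fiber s) = g)
    [HasInjectiveResolutions X.Modules] :
    FlatMod.IsFinLocFreeOfRank g ((Coh.Rpush f 1).obj (Coh.structureModule X)) := by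
  haveI : ∀ s : S, IsProper (f.fiberToSpecResidueField s) := fun s =>
    MorphismProperty.pullback_snd f _ inferInstance
  have hK : ∀ s : S, IsIso (f.fiberToSpecResidueField s).appTop := fun s => by
    letI : (f.fiber s).Over (Spec (CommRingCat.of (S.residueField s))) := ⟨f.fiberToSpecResidueField s⟩
    haveI : IsProper ((f.fiber s) ↘ Spec (CommRingCat.of (S.residueField s))) := MorphismProperty.pullback_snd f _ inferInstance
    haveI : Smooth ((f.fiber s) ↘ Spec (CommRingCat.of (S.residueField s))) :=
      MorphismProperty.pullback_snd f _ inferInstance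
    haveI : Smooth (f.fiberToSpecResidueField s) := MorphismProperty.pullback_snd f _ inferInstance
    haveI : GeometricallyConnected ((f.fiber s) ↘ Spec (CommRingCat.of (S.residueField s))) :=
      (inferInstance : GeometricallyConnected (f.fiberToSpecResidueField s))
    haveI : IsIntegral (f.fiber s) := by
      haveI : GeometricallyIntegral (f.fiberToSpecResidueField s) :=
        H21Taylor.geometricallyIntegral_of_smooth _ fun t =>
          GeometricallyConnected.geometrically_connectedSpace _ _ _ (.of_hasPullback _ _)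
      exact GeometricallyIntegral.isIntegral_of_subsingleton (f.fiberToSpecResidueField s)
    exact LeadBC.GenBC.isIso_appTop_of_hRank _
      (H29CurveDual.finrank_h0_structure_smooth (k := S.residueField s) (X := f.fiber s))
  haveI : (Coh.structureModule X).IsQuasicoherent := H10Coh.isQuasicoherent_unit
  have hfp : CohB1.IsFP (Coh.structureModule X) := H06EGA9.isFP_structureModule
  have hfl := LeadBC.GenBC.isFlatOver_structure f
  intro y
  obtain ⟨U, n, hyU, ⟨e⟩⟩ := LeadBC.GenBC.isFinLocFree_rpush_one f (fun s => (hdim s).le) hK y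
  refine ⟨U, hyU, ?_⟩
  suffices hn : n = g by subst hn; exact ⟨e⟩
  have hvan : Subsingleton (CohIII.fiberH f (Coh.structureModule X) y 2) := by
    haveI : IsLocallyNoetherian (f.fiber y) :=
      LocallyOfFiniteType.isLocallyNoetherian (f.fiberToSpecResidueField y)
    haveI : CompactSpace (f.fiber y) :=
      QuasiCompact.compactSpace_of_compactSpace (f.fiberToSpecResidueField y)
    haveI : IsNoetherian (f.fiber y) := ⟨⟩
    haveI : TopologicalSpace.NoetherianSpace ↥(f.fiber y).toPresheafedSpace := inferInstance
    exact LeadVan.subsingleton_H_of_dim_le (X := (f.fiber y).toPresheafedSpace.carrier) 1 (hdim y).le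
      (Coh.toAb (CohIII.fiberMod f (Coh.structureModule X) y)) 2 Nat.one_lt_two
  obtain ⟨V₂, hV₂, hy₂, -, hm₂, -⟩ := LeadBC.GenBC.exists_vanishing_nhd f _ hfp hfl 2 hvan
  obtain ⟨V₀, hV₀, hy₀, he₀⟩ := LeadBC.GenBC.exists_epiOn_of_fibres f hK y
  obtain ⟨W, hW, hyW, hle⟩ := exists_isAffineOpen_mem_and_subset (U := V₂ ⊓ V₀) (x := y) ⟨hy₂, hy₀⟩
  rw [H29CurveFamily.rank_of_exact f _ hfp hfl hyW
    (LeadBC.GenBC.EpiOn.of_le f _ hV₂ hfp hfl ((LeadBC.GenBC.monoOn_succ_iff f _ hV₂ hfp hfl 1).1 hm₂) hW
      fun z hz => (hle hz).1)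
    ((LeadBC.GenBC.monoOn_succ_iff f _ hW hfp hfl 0).2
      (LeadBC.GenBC.EpiOn.of_le f _ hV₀ hfp hfl he₀ hW fun z hz => (hle hz).2)) hyU e]
  obtain ⟨eO⟩ := H11Ample.nonempty_pullback_structureModule_iso (f.fiberι y)
  letI : (f.fiber y).Over (Spec (CommRingCat.of (S.residueField y))) := ⟨f.fiberToSpecResidueField y⟩
  exact (H29CurveDual.finrank_h0_congr (k := S.residueField y) eO 1).trans (hgen y)

end Groth.Agent.S18896
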