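import Groth.Statements.S18898
import Groth.Agent.H29RelOmega.Model

set_option autoImplicit false
universe u
open CategoryTheory CategoryTheory.Limits AlgebraicGeometry
open Curves

namespace Groth.Agent.S18898

/-- Take an affine base S and a smooth genus-g curve f : X → S over it (proper and smooth, with
geometrically connected fibres of dimension one and genus g). Then there exist an affine scheme S₀
whose ring of global sections is of finite type over ℤ (in particular S₀ is Noetherian), a morphism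
u : S → S₀ which is injective on global sections (so that S₀ is the spectrum of a subring of
O_S(S)), and a smooth curve of genus g, f₀ : X₀ → S₀, together with a cartesian square making f the
base change of f₀ along u. -/
theorem result {X S : Scheme.{u}} (f : X ⟶ S) [IsAffine S]
    [IsProper f] [Smooth f] [GeometricallyConnected f]
    (hdim : ∀ s : S, topologicalKrullDim ↥(f.fiber s) = 1) (g : ℕ)
    (hgen : ∀ s : S, letI : (f.fiber s).Over (Spec (S.residueField s)) := ⟨f.fiberToSpecResidueField s⟩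
      Curv2.genus (S.residueField s) (f.fiber s) = g) :
    ∃ (S₀ X₀ : Scheme.{u}) (f₀ : X₀ ⟶ S₀) (u : S ⟶ S₀) (v : X ⟶ X₀),
      IsAffine S₀ ∧ Algebra.FiniteType ℤ Γ(S₀, ⊤) ∧ Function.Injective (u.appTop).hom ∧
      IsPullback v f f₀ u ∧ IsProper f₀ ∧ Smooth f₀ ∧ GeometricallyConnected f₀ ∧
      (∀ s : S₀, topologicalKrullDim ↥(f₀.fiber s) = 1) ∧
      ∀ s : S₀, letI : (f₀.fiber s).Over (Spec (S₀.residueField s)) := ⟨f₀.fiberToSpecResidueField s⟩
        Curv2.genus (S₀.residueField s) (f₀.fiber s) = g := by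
  let f' : X ⟶ Spec Γ(S, ⊤) := f ≫ S.isoSpec.hom
  have hiso : IsPullback (𝟙 X) f' f S.isoSpec.inv := IsPullback.of_horiz_isIso ⟨by simp [f']⟩
  haveI : GeometricallyConnected f' := MorphismProperty.of_isPullback hiso inferInstance
  obtain ⟨A, X₀, f₀, v, hA, hsq, hp, hs, hc, hd, hgen₀⟩ := H29RelOmega.exists_curve_model (R := Γ(S, ⊤)) f' (fun s =>
    (H8Props.FieldDim.dim_fiber_baseChange f hiso s).trans (hdim _))
  haveI := hp
  haveI : IsAffine (Spec (CommRingCat.of A)) := inferInstance
  have hsq' : IsPullback v f f₀ (S.isoSpec.hom ≫ Spec.map (CommRingCat.ofHom A.val.toRingHom)) := by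
    have h1 : IsPullback (𝟙 X) f f' S.isoSpec.hom := IsPullback.of_horiz_isIso ⟨by simp [f']⟩
    simpa using h1.paste_horiz hsq
  refine ⟨Spec (CommRingCat.of A), X₀, f₀, _, v, inferInstance, ?_, ?_, hsq', hp, hs, hc, hd, fun s => ?_⟩
  · haveI := hA
    let e : A ≃+* Γ(Spec (CommRingCat.of A), ⊤) :=
      (Scheme.ΓSpecIso (CommRingCat.of A)).symm.commRingCatIsoToRingEquiv
    exact Algebra.FiniteType.equiv hA (AlgEquiv.ofRingEquiv (f := e) fun n => by simp)
  · haveI : IsIso S.isoSpec.hom := inferInstance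
    let w : CommRingCat.of A ⟶ Γ(S, ⊤) := CommRingCat.ofHom A.val.toRingHom
    have h2 : (Scheme.ΓSpecIso (CommRingCat.of A)).inv ≫ (Spec.map w).appTop ≫ S.isoSpec.hom.appTop =
        w ≫ (Scheme.ΓSpecIso Γ(S, ⊤)).inv ≫ S.isoSpec.hom.appTop := by
      rw [← Category.assoc, ← Scheme.ΓSpecIso_inv_naturality, Category.assoc]
    have hw : Function.Injective (w ≫ (Scheme.ΓSpecIso Γ(S, ⊤)).inv ≫ S.isoSpec.hom.appTop).hom := by
      rw [CommRingCat.hom_comp, RingHom.coe_comp]
      have h3 : (Scheme.ΓSpecIso Γ(S, ⊤)).inv ≫ S.isoSpec.hom.appTop = 𝟙 _ := by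
        rw [Scheme.isoSpec_hom, Scheme.toSpecΓ_appTop, Iso.inv_hom_id]
      rw [h3]
      exact Subtype.val_injective
    rw [← h2, CommRingCat.hom_comp, RingHom.coe_comp] at hw
    rw [Scheme.Hom.comp_appTop]
    exact hw.of_comp_right (ConcreteCategory.bijective_of_isIso (Scheme.ΓSpecIso (CommRingCat.of A)).inv).2
  · refine (H29RelOmega.fiberRank_one_eq_genus f₀ s).symm.trans (hgen₀ g (fun t => ?_) s)
    refine (H29RelOmega.fiberRank_structure_bc hiso 1 t).trans ?_
    exact (H29RelOmega.fiberRank_one_eq_genus f (S.isoSpec.inv t)).trans (hgen _)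

end Groth.Agent.S18898
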