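import Groth.Statements.S18899
import Mathlib.Algebra.Order.Ring.Star
import Mathlib.Combinatorics.Nullstellensatz
import Mathlib.Data.Rat.Star
import Mathlib.FieldTheory.Finite.Basic
import Mathlib.LinearAlgebra.BilinearForm.Properties
import Mathlib.RepresentationTheory.Invariants
import Mathlib.RingTheory.Flat.TorsionFree
import Mathlib.RingTheory.Henselian
import Mathlib.RingTheory.Ideal.AssociatedPrime.Basic
import Mathlib.RingTheory.RegularLocalRing.Defs
import Mathlib.RingTheory.SimpleRing.Principal

set_option autoImplicit false
universe u v w
open CAlg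

namespace Groth.Agent.S18899

/-- Let A be a commutative ring on which a finite group G acts by ring automorphisms, with ring of
invariants A^G, and let K be a field. If two ring homomorphisms f₁, f₂ : A → K have the same
restriction to A^G, then f₂ = f₁ ∘ γ for some γ ∈ G. -/
theorem result {A : Type u} [CommRing A] {G : Type v} [Group G] [Finite G]
    [MulSemiringAction G A] {K : Type w} [Field K] (f₁ f₂ : A →+* K)
    (h : ∀ a : A, (∀ g : G, g • a = a) → f₁ a = f₂ a) :
    ∃ γ : G, ∀ a : A, f₂ a = f₁ (γ • a) := by
  classical
  cases nonempty_fintype G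
  by_contra hne
  push_neg at hne
  choose c hc using hne
  let act : G → MvPolynomial G A →+* MvPolynomial G A := fun g => MvPolynomial.map (MulSemiringAction.toRingHom G A g)
  let a : MvPolynomial G A := ∑ g : G, MvPolynomial.C (c g) * MvPolynomial.X g
  let P : Polynomial (MvPolynomial G A) := ∏ g : G, (Polynomial.X - Polynomial.C (act g a))
  have hinv : ∀ γ : G, P.map (act γ) = P := by
    intro γ
    simp only [P, Polynomial.map_prod, Polynomial.map_sub, Polynomial.map_X, Polynomial.map_C]
    refine Fintype.prod_equiv (Equiv.mulLeft γ) _ _ fun g => ?_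
    simp only [Equiv.coe_mulLeft, act, MvPolynomial.map_map]
    congr 3
    apply congrArg
    ext x; simp [mul_smul]
  have hcoeff : P.map (MvPolynomial.map f₁) = P.map (MvPolynomial.map f₂) := by
    ext i d
    simp only [Polynomial.coeff_map, MvPolynomial.coeff_map]
    apply h
    intro γ
    have := congrArg (fun Q => MvPolynomial.coeff d (Polynomial.coeff Q i)) (hinv γ)
    simpa [Polynomial.coeff_map, act, MvPolynomial.coeff_map] using this
  have h0 : (P.map (MvPolynomial.map f₂)).eval (MvPolynomial.map f₂ a) = 0 := by
    rw [Polynomial.eval_map_apply]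
    have : P.eval a = 0 := by
      simp only [P, Polynomial.eval_prod]
      refine Finset.prod_eq_zero (Finset.mem_univ 1) ?_
      have : act 1 a = a := by
        have : (MulSemiringAction.toRingHom G A 1) = RingHom.id A := by ext x; simp
        simp only [act, this]; exact MvPolynomial.map_id a
      simp [this]
    rw [this, map_zero]
  rw [← hcoeff] at h0
  simp only [P, Polynomial.map_prod, Polynomial.map_sub, Polynomial.map_X, Polynomial.map_C, Polynomial.eval_prod, Polynomial.eval_sub, Polynomial.eval_X, Polynomial.eval_C, Finset.prod_eq_zero_iff] at h0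
  obtain ⟨γ, -, hγ⟩ := h0
  rw [sub_eq_zero] at hγ
  have := congrArg (MvPolynomial.eval (fun g => if g = γ then (1 : K) else 0)) hγ
  simp [a, act, MvPolynomial.map_map] at this
  exact hc γ this

end Groth.Agent.S18899
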