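import Groth.Statements.S1890
import Mathlib

set_option autoImplicit false
universe u
open CategoryTheory CategoryTheory.Limits AlgebraicGeometry
open Grpd

namespace Groth.Agent.S1890

/-- Take a quasi-compact immersion j : V → Spec A and an element f ∈ A such that j⁻¹(D(f)) is affine and
j(V) ∩ V(f) is closed in Spec A. Then V is affine. -/
theorem result (A : Type u) [CommRing A] (V : Scheme.{u}) (j : V ⟶ Spec (CommRingCat.of A)) [IsImmersion j] [QuasiCompact j] (f : A) (haff : IsAffineOpen (j ⁻¹ᵁ PrimeSpectrum.basicOpen f)) (hcl : IsClosed (Set.range ⇑j ∩ PrimeSpectrum.zeroLocus {f})) : IsAffine V := by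
  have haj : IsAffineHom j := by
    have hloc : ∀ x : Spec (CommRingCat.of A), ∃ g : A, x ∈ PrimeSpectrum.basicOpen g ∧
        IsAffineOpen (j ⁻¹ᵁ PrimeSpectrum.basicOpen g) := by
      intro x
      by_cases hx : x ∈ PrimeSpectrum.basicOpen f
      · exact ⟨f, hx, haff⟩
      by_cases hxr : x ∈ Set.range j
      · have hlc : IsLocallyClosed (Set.range ⇑j) := j.isLocallyClosed_range
        obtain ⟨U, C, hU, hC, hUC⟩ := hlc
        obtain ⟨_, ⟨g, rfl⟩, hxg, hgU⟩ :=
          PrimeSpectrum.isTopologicalBasis_basic_opens.exists_subset_of_mem_open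
            (show x ∈ U from (hUC ▸ hxr : x ∈ U ∩ C).1) hU
        refine ⟨g, hxg, ?_⟩
        let W : (Spec (CommRingCat.of A)).Opens := PrimeSpectrum.basicOpen g
        haveI : IsAffine (W : Scheme.{u}) :=
          (show IsAffineOpen W from IsAffineOpen.Spec_basicOpen g)
        haveI : IsImmersion (j ∣_ W) := MorphismProperty.of_isPullback
          (isPullback_morphismRestrict j W).flip inferInstance
        haveI : IsClosedImmersion (j ∣_ W) := by
          refine IsClosedImmersion.iff_isPreimmersion.mpr ⟨inferInstance, ?_⟩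
          have : Set.range ⇑(j ∣_ W) = W.ι ⁻¹' C := by
            ext z
            constructor
            · rintro ⟨v, rfl⟩
              have hmem : W.ι ((j ∣_ W) v) ∈ Set.range j := by
                rw [← Scheme.Hom.comp_apply, morphismRestrict_ι, Scheme.Hom.comp_apply]; exact ⟨_, rfl⟩
              rw [hUC] at hmem
              exact hmem.2
            · intro hz
              obtain ⟨v, hv⟩ : W.ι z ∈ Set.range j := by
                rw [hUC]; exact ⟨hgU z.2, hz⟩
              refine ⟨⟨v, (show j v ∈ W from hv ▸ z.2)⟩, W.ι.isOpenEmbedding.injective ?_⟩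
              rw [← Scheme.Hom.comp_apply, morphismRestrict_ι, Scheme.Hom.comp_apply]
              exact hv
          rw [this]
          exact hC.preimage W.ι.continuous
        exact isAffine_of_isAffineHom (j ∣_ W)
      · obtain ⟨_, ⟨g, rfl⟩, hxg, hgW⟩ :=
          PrimeSpectrum.isTopologicalBasis_basic_opens.exists_subset_of_mem_open
            (show x ∈ (Set.range ⇑j ∩ PrimeSpectrum.zeroLocus {f})ᶜ from fun h => hxr h.1)
            hcl.isOpen_compl
        refine ⟨g, hxg, ?_⟩
        let a := (Scheme.ΓSpecIso (CommRingCat.of A)).inv g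
        have ha : (Spec (CommRingCat.of A)).basicOpen a = PrimeSpectrum.basicOpen g :=
          basicOpen_eq_of_affine g
        let D : (Spec (CommRingCat.of A)).Opens := PrimeSpectrum.basicOpen f
        let res := ((j.app ⊤) ≫ V.presheaf.map (homOfLE (show j ⁻¹ᵁ D ≤ j ⁻¹ᵁ ⊤ from le_top)).op) a
        have h := haff.basicOpen res
        have e : V.basicOpen res = j ⁻¹ᵁ PrimeSpectrum.basicOpen g := by
          simp only [res, CommRingCat.comp_apply, Scheme.basicOpen_res, ← Scheme.preimage_basicOpen, ha]
          refine inf_eq_right.mpr fun v hv => ?_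
          by_contra hvD
          exact hgW hv ⟨⟨v, rfl⟩, by
            by_contra hn
            exact hvD ((PrimeSpectrum.basicOpen_eq_zeroLocus_compl f).ge hn)⟩
        exact e ▸ h
    choose g hg hga using hloc
    have hgaff : ∀ x, IsAffineOpen (X := Spec (CommRingCat.of A)) (PrimeSpectrum.basicOpen (g x)) :=
      fun x => IsAffineOpen.Spec_basicOpen (R := CommRingCat.of A) (g x)
    exact isAffineHom_of_forall_exists_isAffineOpen (f := j) fun x =>
      ⟨_, hg x, hgaff x, hga x⟩
  exact isAffine_of_isAffineHom j

end Groth.Agent.S1890
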