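import Groth.Statements.S18901
import Groth.Agent.H29RelOmega.Trivial

set_option autoImplicit false
universe u
open CategoryTheory CategoryTheory.Limits AlgebraicGeometry
open Curves

namespace Groth.Agent.S18901

/-- Let f : X → S be a smooth curve of genus g (proper and smooth, with geometrically connected fibres
of dimension one and genus g) and L an invertible O_X-module. Then L is isomorphic to ω_f = Ω_{X/S}
if and only if (i) R¹f_*L is isomorphic to O_S and (ii) for every point s of S the restriction of L
to the fibre X_s has degree 2g − 2. (Existence of isomorphisms only, on both sides, as in the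
source.) -/
theorem result {X S : Scheme.{u}} (f : X ⟶ S)
    [IsProper f] [Smooth f] [GeometricallyConnected f]
    (hdim : ∀ s : S, topologicalKrullDim ↥(f.fiber s) = 1) (g : ℕ)
    (hgen : ∀ s : S, letI : (f.fiber s).Over (Spec (S.residueField s)) := ⟨f.fiberToSpecResidueField s⟩
      Curv2.genus (S.residueField s) (f.fiber s) = g)
    [HasInjectiveResolutions X.Modules] (L : X.Modules) (hL : PicF.IsInvertible L) :
    Nonempty (L ≅ Omega.sheaf f) ↔
      (Nonempty ((Coh.Rpush f 1).obj L ≅ Coh.structureModule S) ∧
        ∀ s : S, letI : (f.fiber s).Over (Spec (S.residueField s)) := ⟨f.fiberToSpecResidueField s⟩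
          Curv2.deg (S.residueField s) (f.fiber s) ((Scheme.Modules.pullback (f.fiberι s)).obj L) 1 =
            2 * (g : ℤ) - 2) := by
  have hΩ := H29CurveFamily.omega_invertible f hdim
  have hR1 : PicF.IsInvertible (Coh.structureModule S) := H11Ample.isInvertible_structureModule
  have key : ∀ s : S, letI : (f.fiber s).Over (Spec (S.residueField s)) := ⟨f.fiberToSpecResidueField s⟩
      Curv2.deg (S.residueField s) (f.fiber s) ((Scheme.Modules.pullback (f.fiberι s)).obj (Omega.sheaf f)) 1 =
        2 * (g : ℤ) - 2 := by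
    intro s
    letI : (f.fiber s).Over (Spec (CommRingCat.of (S.residueField s))) := ⟨f.fiberToSpecResidueField s⟩
    let q := f.fiber s ↘ Spec (CommRingCat.of (S.residueField s))
    haveI : IsProper q := MorphismProperty.pullback_snd f _ inferInstance
    haveI : Smooth q := MorphismProperty.pullback_snd f _ inferInstance
    haveI : GeometricallyConnected q := (inferInstance : GeometricallyConnected (f.fiberToSpecResidueField s))
    haveI := H29RelOmega.isIntegral_fibre f s
    obtain ⟨eΩ⟩ := S11777.nonempty_iso_omega_baseChange f (S.fromSpecResidueField s) (f.fiberι s) q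
      (IsPullback.of_hasPullback _ _)
    rw [H29RR.deg_congr (k := S.residueField s) eΩ, H29CurveDual.deg_omega_of_h0 (k := S.residueField s) (hdim s)
      (H29CurveDual.finrank_h0_structure_smooth (k := S.residueField s) (X := f.fiber s))]
    rw [show Curv2.genus (S.residueField s) (f.fiber s) = g from hgen s]
  constructor
  · rintro ⟨e⟩
    obtain ⟨eR⟩ := H29RelOmega.nonempty_rpush_omega f hdim
    refine ⟨⟨(Coh.Rpush f 1).mapIso e ≪≫ eR⟩, fun s => ?_⟩
    letI : (f.fiber s).Over (Spec (CommRingCat.of (S.residueField s))) := ⟨f.fiberToSpecResidueField s⟩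
    exact (H29RR.deg_congr (k := S.residueField s) ((Scheme.Modules.pullback (f.fiberι s)).mapIso e)).trans (key s)
  · rintro ⟨⟨eR⟩, hdeg⟩
    obtain ⟨Ω', hΩ', ⟨eΩ'⟩⟩ := H11Sym.exists_inverse hΩ
    have hχ : ∀ s, (CohIII.fiberRank f L 0 s : ℤ) - CohIII.fiberRank f L 1 s =
        (CohIII.fiberRank f (Omega.sheaf f) 0 s : ℤ) - CohIII.fiberRank f (Omega.sheaf f) 1 s := by
      intro s
      letI : (f.fiber s).Over (Spec (CommRingCat.of (S.residueField s))) := ⟨f.fiberToSpecResidueField s⟩
      let q := f.fiber s ↘ Spec (CommRingCat.of (S.residueField s))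
      haveI : IsProper q := MorphismProperty.pullback_snd f _ inferInstance
      haveI := H29RelOmega.isIntegral_fibre f s
      have hd1 : topologicalKrullDim (f.fiber s) ≤ 1 := (hdim s).le
      have r1 := H29RR.riemann_roch (k := S.residueField s) hd1 ((Scheme.Modules.pullback (f.fiberι s)).obj L)
      have r2 := H29RR.riemann_roch (k := S.residueField s) hd1
        ((Scheme.Modules.pullback (f.fiberι s)).obj (Omega.sheaf f))
      rw [show Curv2.deg (S.residueField s) (f.fiber s) _ 1 = _ from hdeg s] at r1
      rw [show Curv2.deg (S.residueField s) (f.fiber s) _ 1 = _ from key s] at r2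
      exact r1.trans r2.symm
    obtain ⟨i⟩ := H29RelOmega.nonempty_residue_iso f hdim hL hΩ' eΩ'
      (H11Tilde.isInvertible_of_iso eR.symm hR1) hχ
    let eP : CohB1.tensorMod L Ω' ≅ Coh.structureModule X :=
      i.symm ≪≫ (Scheme.Modules.pullback f).mapIso eR ≪≫ H25Theta.pO f
    exact ⟨(H10Coh.Tw.rightUnitIso L).symm ≪≫ H25Theta.tI (Iso.refl L) eΩ'.symm ≪≫
      (H10Coh.Tw.assoc L Ω' (Omega.sheaf f)).symm ≪≫ H25Theta.tI eP (Iso.refl _) ≪≫
        H10Coh.Tw.leftUnitIso (Omega.sheaf f)⟩

end Groth.Agent.S18901
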