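import Groth.Statements.S18902
import Groth.Agent.LeadBC.GeomConn
import Groth.Agent.LeadBC.GenBC.AppIsoApps
import Groth.Agent.H19Grp.AbSchemeRigid

set_option autoImplicit false
universe u
open CategoryTheory CategoryTheory.Limits AlgebraicGeometry
open Curves

namespace Groth.Agent.S18902

/-- Let q : P → S be a conic bundle, i.e. a smooth curve of genus 0 over S (q proper and smooth, with
geometrically connected fibres of dimension one and genus dim H¹(P_s, O) = 0). Then the canonical
map O_S → q_*O_P is an isomorphism. -/
theorem result {P S : Scheme.{u}} (q : P ⟶ S)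
    [IsProper q] [Smooth q] [GeometricallyConnected q]
    (hPdim : ∀ s : S, topologicalKrullDim ↥(q.fiber s) = 1)
    (hPgen : ∀ s : S, letI : (q.fiber s).Over (Spec (S.residueField s)) := ⟨q.fiberToSpecResidueField s⟩
      Curv2.genus (S.residueField s) (q.fiber s) = 0) :
    IsIso (ClSub.unitToPush q) := by
  haveI := Groth.Agent.H19Grp.geometricallyReduced_of_smooth_hom q
  refine Groth.Agent.LeadBC.GenBC.isIso_unitToPush_of_app q (Groth.Agent.LeadBC.GenBC.isIso_app_of_fibres q
    (Groth.Agent.LeadBC.GeomConn.isIso_appTop_fibre q fun K _ _ g => ?_))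
  exact ⟨GeometricallyReduced.geometrically_isReduced (f := q) g _ _ (.of_hasPullback q g),
    GeometricallyConnected.geometrically_connectedSpace (f := q) g _ _ (.of_hasPullback q g)⟩

end Groth.Agent.S18902
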