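import Groth.Statements.S18904
import Groth.Agent.S18910
import Groth.Agent.H29CurveDual.FibreProjective

set_option autoImplicit false
universe u
open CategoryTheory CategoryTheory.Limits AlgebraicGeometry
open Curves

namespace Groth.Agent.S18904

/-- A smooth curve of genus g ≥ 2, i.e. a proper smooth morphism f : X → S whose fibres are
geometrically connected of dimension one and genus g, is a projective morphism: X is isomorphic over
S to the homogeneous spectrum of a quasi-coherent graded O_S-algebra generated by its degree-one
part, the latter of finite type. -/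
theorem result {X S : Scheme.{u}} (f : X ⟶ S)
    [IsProper f] [Smooth f] [GeometricallyConnected f]
    (hdim : ∀ s : S, topologicalKrullDim ↥(f.fiber s) = 1) (g : ℕ) (hg : 2 ≤ g)
    (hgen : ∀ s : S, letI : (f.fiber s).Over (Spec (S.residueField s)) := ⟨f.fiberToSpecResidueField s⟩
      Curv2.genus (S.residueField s) (f.fiber s) = g) :
    RelProj.IsProjective f := by
  haveI hfib : ∀ s : S, IsProper (f.fiberToSpecResidueField s) := fun s =>
    MorphismProperty.pullback_snd f _ inferInstance
  haveI hsm : ∀ s : S, Smooth (f.fiberToSpecResidueField s) := fun s =>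
    MorphismProperty.pullback_snd f _ inferInstance
  have hint : ∀ s : S, IsIntegral (f.fiber s) := fun s => by
    haveI : GeometricallyIntegral (f.fiberToSpecResidueField s) :=
      H21Taylor.geometricallyIntegral_of_smooth _ fun t =>
        GeometricallyConnected.geometrically_connectedSpace _ _ _ (.of_hasPullback _ _)
    exact GeometricallyIntegral.isIntegral_of_subsingleton (f.fiberToSpecResidueField s)
  haveI : SmoothOfRelativeDimension 1 f := H12Pic.PicCurve.smoothOfRelativeDimension_of_fibres f 1
    (fun s => by haveI := hint s; infer_instance) (fun s => by simpa using hdim s)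
  have hω := H29Omega.SmoothInvertible.isInvertible_omega_smooth f
  have hL := H11Ample.isInvertible_tensorPow hω 3
  have key : ∀ s : S, RelAmple.IsRelVeryAmplePn (f.fiberToSpecResidueField s)
      ((Scheme.Modules.pullback (f.fiberι s)).obj (CohB1.tensorPow (Omega.sheaf f) 3)) ∧
      Subsingleton (CohIII.fiberH f (CohB1.tensorPow (Omega.sheaf f) 3) s 1) := fun s => by
    letI : (f.fiber s).Over (Spec (CommRingCat.of (S.residueField s))) := ⟨f.fiberToSpecResidueField s⟩
    haveI : IsProper (f.fiber s ↘ Spec (CommRingCat.of (S.residueField s))) := hfib s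
    haveI : Smooth (f.fiber s ↘ Spec (CommRingCat.of (S.residueField s))) := hsm s
    haveI : GeometricallyConnected (f.fiber s ↘ Spec (CommRingCat.of (S.residueField s))) :=
      (inferInstance : GeometricallyConnected (f.fiberToSpecResidueField s))
    obtain ⟨eΩ⟩ := S11777.nonempty_iso_omega_baseChange f (S.fromSpecResidueField s) (f.fiberι s)
      (f.fiber s ↘ Spec (CommRingCat.of (S.residueField s))) (IsPullback.of_hasPullback _ _)
    obtain ⟨eT⟩ := H11Ample.exists_iso_pullback_tensorPow (f.fiberι s) hω 3
    haveI := hint s
    refine S18910.fibre_facts (k := S.residueField s) (by simpa using hdim s) hg (hgen s) le_rfl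
      (H11Ample.isInvertible_pullback _ hL) ?_
    rw [H29RR.deg_congr eT, H22Alg.CurveAmple.deg_tensorPow (by simpa using (hdim s).le)
      (H11Ample.isInvertible_pullback _ hω), H29RR.deg_congr eΩ]
  exact H29CurveDual.isProjective_of_fibres f _ hL (fun s => (key s).1) fun s => (key s).2

end Groth.Agent.S18904
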