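import Groth.Statements.S18905
import Groth.Agent.H17.Imports
import Mathlib.AlgebraicGeometry.Morphisms.FormallyUnramified
import Mathlib.AlgebraicGeometry.Artinian
import Mathlib.RingTheory.Etale.Field
import Mathlib.RingTheory.Kaehler.TensorProduct
import Mathlib.RingTheory.LocalRing.Module
import Mathlib.RingTheory.Jacobson.Artinian
import Mathlib.Algebra.DualNumber

set_option autoImplicit false
universe u
open CategoryTheory CategoryTheory.Limits AlgebraicGeometry
open Mor

namespace Groth.Agent.S18905

open CategoryTheory Limits AlgebraicGeometry TopologicalSpace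
open scoped TensorProduct KaehlerDifferential

/-- Let k be an algebraically closed field and X a scheme locally of finite type over k. Then X → Spec k
is formally unramified if and only if the map Hom_k(Spec k[ε], X) → Hom_k(Spec k, X) given by
restricting along the closed immersion of Spec k into Spec k[ε] (k[ε] the ring of dual numbers, ε ↦
0), is bijective; since that map is always surjective, the condition is stated as injectivity: two
k-morphisms from Spec k[ε] to X which agree on Spec k are equal. -/
theorem result (k : Type u) [Field k] [IsAlgClosed k]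
    {X : Scheme.{u}} (p : X ⟶ Spec (CommRingCat.of k)) [LocallyOfFiniteType p] :
    FormallyUnramified p ↔
      ∀ v₁ v₂ : Spec (CommRingCat.of (DualNumber k)) ⟶ X,
        v₁ ≫ p = Spec.map (CommRingCat.ofHom (algebraMap k (DualNumber k))) →
        v₂ ≫ p = Spec.map (CommRingCat.ofHom (algebraMap k (DualNumber k))) →
        Spec.map (CommRingCat.ofHom (TrivSqZeroExt.fstHom k k k).toRingHom) ≫ v₁ =
          Spec.map (CommRingCat.ofHom (TrivSqZeroExt.fstHom k k k).toRingHom) ≫ v₂ →
        v₁ = v₂ := by
  have hsurj : Function.Surjective (TrivSqZeroExt.fstHom k k k).toRingHom :=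
    fun a => ⟨(TrivSqZeroExt.inl a : DualNumber k), TrivSqZeroExt.fst_inl k a⟩
  constructor
  · intro hp v₁ v₂ h₁ h₂ h
    let i := Spec.map (CommRingCat.ofHom (TrivSqZeroExt.fstHom k k k).toRingHom)
    have : IsClosedImmersion i := IsClosedImmersion.spec_of_surjective _ hsurj
    refine FormallyUnramified.hom_ext i ?_ p h (h₁.trans h₂.symm)
    refine ⟨2, ?_⟩
    refine le_bot_iff.mp (Scheme.IdealSheafData.le_of_isAffine ?_)
    rw [Scheme.IdealSheafData.ideal_pow, Pi.pow_apply, Scheme.Hom.ker_apply, Scheme.IdealSheafData.ideal_bot, Pi.bot_apply]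
    rw [le_bot_iff, pow_two, ← le_bot_iff, Ideal.mul_le]
    intro a ha b hb
    rw [Ideal.mem_bot]
    let e := (Scheme.ΓSpecIso (CommRingCat.of (DualNumber k))).commRingCatIsoToRingEquiv
    apply e.injective
    rw [map_mul, map_zero]
    have hker : ∀ a, i.app ⊤ a = 0 → TrivSqZeroExt.fst (e a) = 0 := by
      intro a ha
      have h1 : (TrivSqZeroExt.fstHom k k k).toRingHom (e a) = (Scheme.ΓSpecIso (CommRingCat.of k)).hom (i.appTop a) :=
        congr($((Scheme.ΓSpecIso_naturality (CommRingCat.ofHom (TrivSqZeroExt.fstHom k k k).toRingHom)).symm) a)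
      have h2 : i.appTop a = 0 := ha
      rw [h2, map_zero] at h1
      exact h1
    have ha' := hker a ha
    have hb' := hker b hb
    exact TrivSqZeroExt.ext (by rw [TrivSqZeroExt.fst_mul, ha', zero_mul]; rfl)
      (by rw [TrivSqZeroExt.snd_mul, ha', hb', zero_smul, MulOpposite.op_zero, zero_smul, add_zero]; rfl)
  · intro H
    refine ⟨fun {V} hV {U} hU e => ?_⟩
    have hV' : V = ⊥ ∨ V = ⊤ := by
      rcases eq_or_ne V ⊥ with h | h
      · exact Or.inl h
      · obtain ⟨x, hx⟩ := (Opens.ne_bot_iff_nonempty V).mp h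
        exact Or.inr (eq_top_iff.mpr fun y _ => Subsingleton.elim (α := PrimeSpectrum k) x y ▸ hx)
    rcases hV' with rfl | rfl
    · have hU0 : U = ⊥ := le_bot_iff.mp (fun x hx => e hx)
      subst hU0
      exact RingHom.FormallyUnramified.of_surjective fun a => ⟨0, Subsingleton.elim _ _⟩
    let ε : CommRingCat.of k ≅ Γ(Spec (CommRingCat.of k), ⊤) := (Scheme.ΓSpecIso _).symm
    let g : CommRingCat.of k ⟶ Γ(X, U) := ε.hom ≫ p.appLE ⊤ U e
    have hgp : Spec.map g = hU.fromSpec ≫ p := by
      rw [← IsAffineOpen.SpecMap_appLE_fromSpec p (isAffineOpen_top _) hU e, Spec.map_comp,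
        IsAffineOpen.fromSpec_top]
      simp [ε, Scheme.isoSpec_Spec_inv]
    suffices hg : g.hom.FormallyUnramified by
      have := RingHom.FormallyUnramified.respectsIso.right _ ε.commRingCatIsoToRingEquiv.symm hg
      convert this using 1
      ext a
      exact congrArg _ (ε.commRingCatIsoToRingEquiv.apply_symm_apply a).symm
    have hft : g.hom.FiniteType := by
      rw [← HasRingHomProperty.Spec_iff (P := @LocallyOfFiniteType), hgp]; infer_instance
    algebraize [g.hom]
    refine ⟨?_⟩
    let A := Γ(X, U)
    show Subsingleton Ω[A⁄k]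
    rw [← not_nontrivial_iff_subsingleton]
    intro hnt
    obtain ⟨q, hq⟩ := Module.nonempty_support_iff (R := A) (M := Ω[A⁄k]) |>.mpr hnt
    obtain ⟨m, hm, hqm⟩ := q.asIdeal.exists_le_maximal q.isPrime.ne_top
    have hmsupp : (⟨m, hm.isPrime⟩ : PrimeSpectrum A) ∈ Module.support A Ω[A⁄k] := Module.mem_support_mono hqm hq
    rw [Module.mem_support_iff_nontrivial_residueField_tensorProduct] at hmsupp
    let κ := m.ResidueField
    have hfin : Module.Finite k κ := by
      have : Algebra.FiniteType k κ :=
        Algebra.FiniteType.of_surjective (IsScalarTower.toAlgHom k A κ) (Ideal.algebraMap_residueField_surjective m)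
      exact finite_of_finite_type_of_isJacobsonRing k κ
    have hbij : Function.Bijective (algebraMap k κ) := IsAlgClosed.algebraMap_bijective_of_isIntegral
    let ek : κ ≃ₐ[k] k := (AlgEquiv.ofBijective (Algebra.ofId k κ) hbij).symm
    obtain ⟨z, hz⟩ := exists_ne (0 : κ ⊗[A] Ω[A⁄k])
    obtain ⟨ψ, hψ⟩ : ∃ ψ : κ ⊗[A] Ω[A⁄k] →ₗ[κ] κ, ψ z ≠ 0 := by
      by_contra! h
      exact hz ((Module.forall_dual_apply_eq_zero_iff κ z).mp h)
    let φ : Ω[A⁄k] →ₗ[A] κ := (ψ.restrictScalars A).comp (TensorProduct.mk A κ (Ω[A⁄k]) 1)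
    let D : Derivation k A κ := φ.compDer (KaehlerDifferential.D k A)
    let χ : A →ₐ[k] k := ek.toAlgHom.comp (IsScalarTower.toAlgHom k A κ)
    have hD : ∀ a b, ek (D (a * b)) = χ a * ek (D b) + χ b * ek (D a) := fun a b => by
      rw [D.leibniz, map_add, Algebra.smul_def, Algebra.smul_def, map_mul, map_mul]; rfl
    let v : A →ₐ[k] DualNumber k :=
      { toFun := fun a => TrivSqZeroExt.inl (χ a) + TrivSqZeroExt.inr (ek (D a))
        map_one' := by simp
        map_zero' := by simp
        map_add' := fun a b => by ext <;> simp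
        map_mul' := fun a b => by
          refine TrivSqZeroExt.ext (by simp) ?_
          simp only [TrivSqZeroExt.snd_add, TrivSqZeroExt.snd_inl, TrivSqZeroExt.snd_inr, zero_add,
            TrivSqZeroExt.snd_mul, TrivSqZeroExt.fst_add, TrivSqZeroExt.fst_inl, TrivSqZeroExt.fst_inr, add_zero,
            hD, MulOpposite.smul_eq_mul_unop, MulOpposite.unop_op, smul_eq_mul]
          ring
        commutes' := fun c => by simp [TrivSqZeroExt.algebraMap_eq_inl] }
    let w : A →ₐ[k] DualNumber k := (TrivSqZeroExt.inlAlgHom k k k).comp χ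
    let mk : (A →ₐ[k] DualNumber k) → (Spec (CommRingCat.of (DualNumber k)) ⟶ X) := fun v =>
      Spec.map (CommRingCat.ofHom v.toRingHom) ≫ hU.fromSpec
    have hmk : ∀ v, mk v ≫ p = Spec.map (CommRingCat.ofHom (algebraMap k (DualNumber k))) := fun v => by
      rw [Category.assoc, ← hgp, ← Spec.map_comp]
      congr 1
      ext c : 2
      exact v.commutes c
    have hvw := H (mk v) (mk w) (hmk v) (hmk w) (by
      simp only [mk, ← Spec.map_comp_assoc]
      congr 2
      ext a : 2
      show TrivSqZeroExt.fst (v a) = TrivSqZeroExt.fst (w a)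
      simp [v, w])
    have hvw' : v = w := by
      have h2 := Spec.map_injective ((cancel_mono hU.fromSpec).mp hvw)
      exact AlgHom.ext fun a => congr($h2 a)
    have hDz : D = 0 := Derivation.ext fun a => ek.injective <| by
      have := congrArg TrivSqZeroExt.snd (DFunLike.congr_fun hvw' a)
      simpa [v, w] using this
    have hφ : φ = 0 := Derivation.liftKaehlerDifferential_unique _ _ (by
      ext a
      exact (DFunLike.congr_fun hDz a).trans (by simp))
    apply hψ
    have : ∀ z, ψ z = 0 := fun z => by
      induction z using TensorProduct.induction_on with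
      | zero => exact map_zero _
      | tmul c w =>
        rw [show c ⊗ₜ[A] w = c • ((1 : κ) ⊗ₜ[A] w) by rw [TensorProduct.smul_tmul', smul_eq_mul, mul_one], map_smul]
        exact (congrArg (c • ·) (LinearMap.congr_fun hφ w)).trans (smul_zero c)
      | add a b ha hb => rw [map_add, ha, hb, add_zero]
    exact this z

end Groth.Agent.S18905
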