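import Groth.Statements.S18906
import Groth.Agent.H29AutSch.Unramified
import Groth.Agent.H19Grp.Basic
import Groth.Agent.S2335
import Groth.Agent.S18894
import Groth.Agent.H29CurveDesc.Family

set_option autoImplicit false
universe u
open CategoryTheory MonoidalCategory CartesianMonoidalCategory MonObj GrpObj AlgebraicGeometry
open Curves CategoryTheory.Limits

namespace Groth.Agent.S18906

/-- A point of the automorphism scheme gives a family of automorphisms. -/
theorem isAutFamily_famOf {S : Scheme.{u}} {X G : Over S} [GrpObj G] (a : AlgGrp.Action G X) {T : Over S}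
    (g : T ⟶ G) : AutSch.IsAutFamily (AutSch.famOf a g) := by
  have key : ∀ g g' : T ⟶ G, AutSch.endOf (AutSch.famOf a g) ≫ AutSch.famOf a g' = AutSch.famOf a (g' * g) := by
    intro g g'
    simp only [AutSch.famOf, comp_lift_assoc]
    rw [AutSch.endOf_fst, ← Category.assoc, AutSch.endOf_snd, MonObj.comp_mul]
    exact (H19Grp.mul_smulPt a _ _ _).symm
  have h1 : AutSch.famOf a (1 : T ⟶ G) = fst X T := by
    rw [AutSch.famOf, MonObj.comp_one]
    exact H19Grp.one_smulPt a _
  refine ⟨⟨AutSch.endOf (AutSch.famOf a g⁻¹), ?_, ?_⟩⟩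
  · refine CartesianMonoidalCategory.hom_ext _ _ ?_ ?_
    · rw [Category.assoc, AutSch.endOf_fst, key, inv_mul_cancel, h1, Category.id_comp]
    · rw [Category.assoc, AutSch.endOf_snd, AutSch.endOf_snd, Category.id_comp]
  · refine CartesianMonoidalCategory.hom_ext _ _ ?_ ?_
    · rw [Category.assoc, AutSch.endOf_fst, key, mul_inv_cancel, h1, Category.id_comp]
    · rw [Category.assoc, AutSch.endOf_snd, AutSch.endOf_snd, Category.id_comp]

theorem lqf_of_formallyUnramified {X Y : Scheme.{u}} (f : X ⟶ Y) [LocallyOfFiniteType f] [FormallyUnramified f] :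
    LocallyQuasiFinite f := by
  rw [HasRingHomProperty.iff_appLE (P := @LocallyQuasiFinite)]
  intro W O e
  have h1 := HasRingHomProperty.appLE @LocallyOfFiniteType f ‹_› W O e
  have h2 := HasRingHomProperty.appLE @FormallyUnramified f ‹_› W O e
  algebraize [(f.appLE W.1 O.1 e).hom]
  exact (inferInstance : Algebra.QuasiFinite Γ(Y, W.1) Γ(X, O.1))



/-- Let S be a locally Noetherian scheme and X → S a smooth curve of genus g ≥ 2 (proper and smooth,
with geometrically connected fibres of dimension one and genus g) and let the S-group scheme G, with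
its action a, be the automorphism group scheme Aut_S(X): every family of S-automorphisms of X
parametrised by an S-scheme T comes from exactly one T-point of G. Assume, as the source obtains
from the theory of Hilbert schemes, that G → S is quasi-compact, separated and locally of finite
presentation. Then G → S is finite and formally unramified. (The published statement says that
Aut_S(X) is finite, of finite presentation and formally unramified, taking its representability by a
quasi-projective S-scheme and its finite presentation from the literature; here those are hypotheses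
on G and the conclusion is finiteness and unramifiedness. The published statement also allows any
base; this row assumes S locally Noetherian, the case its valuative-criterion argument with discrete
valuation rings covers.) -/
theorem result {S : Scheme.{u}} [IsLocallyNoetherian S] (X : Over S)
    [IsProper X.hom] [Smooth X.hom] [GeometricallyConnected X.hom]
    (hdim : ∀ s : S, topologicalKrullDim ↥(X.hom.fiber s) = 1) (g : ℕ) (hg : 2 ≤ g)
    (hgen : ∀ s : S, letI : (X.hom.fiber s).Over (Spec (S.residueField s)) := ⟨X.hom.fiberToSpecResidueField s⟩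
      Curv2.genus (S.residueField s) (X.hom.fiber s) = g)
    (G : Over S) [GrpObj G] [QuasiCompact G.hom] [IsSeparated G.hom] [LocallyOfFinitePresentation G.hom]
    (a : AlgGrp.Action G X) (hG : AutSch.Represents X G a) :
    IsFinite G.hom ∧ FormallyUnramified G.hom := by
  haveI : LocallyOfFiniteType G.hom := inferInstance
  have hunr : FormallyUnramified G.hom := H29AutSch.formallyUnramified_aut X hdim g hg hgen G a hG
  refine ⟨?_, hunr⟩
  haveI := hunr
  haveI := lqf_of_formallyUnramified G.hom
  haveI : IsProper G.hom := by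
    rw [AutSch.represents_iff] at hG
    refine (S2335.result G.hom).2 fun A _ _ _ x y hxy => ?_
    let ι₀ : Spec (CommRingCat.of (FractionRing A)) ⟶ Spec (CommRingCat.of A) :=
      Spec.map (CommRingCat.ofHom (algebraMap A (FractionRing A)))
    let T : Over S := Over.mk y
    let T' : Over S := Over.mk (ι₀ ≫ y)
    let u : T' ⟶ T := Over.homMk ι₀
    let gK : T' ⟶ G := Over.homMk x hxy
    let f : pullback X.hom y ⟶ Spec (CommRingCat.of A) := pullback.snd X.hom y
    have hfam : H29CurveDesc.CurveFam g X.hom := ⟨inferInstance, inferInstance, inferInstance, hdim,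
      fun s => (H29RelOmega.fiberRank_one_eq_genus X.hom s).trans (hgen s)⟩
    have hf : H29CurveDesc.CurveFam g f := hfam.bc (IsPullback.of_hasPullback X.hom y)
    haveI := hf.proper
    haveI := hf.smooth
    haveI := hf.conn
    let j : pullback f ι₀ ≅ (X ⊗ T').left := pullbackLeftPullbackSndIso X.hom y ι₀
    let p : pullback X.hom y ⟶ X.left := pullback.fst X.hom y
    have hj : j.hom ≫ (X ◁ u).left = pullback.fst f ι₀ := by
      refine pullback.hom_ext ?_ ?_
      · rw [Category.assoc]
        exact (congrArg (fun m : X ⊗ T' ⟶ X => j.hom ≫ m.left) (whiskerLeft_fst X u)).trans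
          (pullbackLeftPullbackSndIso_hom_fst X.hom y ι₀)
      · rw [Category.assoc]
        refine (congrArg (fun m : X ⊗ T' ⟶ T => j.hom ≫ m.left) (whiskerLeft_snd X u)).trans ?_
        exact ((Category.assoc _ _ _).symm.trans (congrArg (· ≫ ι₀)
          (pullbackLeftPullbackSndIso_hom_snd X.hom y ι₀))).trans pullback.condition.symm
    haveI : IsIso (AutSch.endOf (AutSch.famOf a gK)) := isAutFamily_famOf a gK
    haveI : IsIso (AutSch.endOf (AutSch.famOf a gK)).left :=
      inferInstanceAs (IsIso ((Over.forget S).map (AutSch.endOf (AutSch.famOf a gK))))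
    let E : (X ⊗ T').left ≅ (X ⊗ T').left := asIso (AutSch.endOf (AutSch.famOf a gK)).left
    let φ : pullback f ι₀ ≅ pullback f ι₀ := j ≪≫ E ≪≫ j.symm
    have hE : E.hom ≫ pullback.snd X.hom (ι₀ ≫ y) = pullback.snd X.hom (ι₀ ≫ y) :=
      congrArg (·.left) (AutSch.endOf_snd (AutSch.famOf a gK))
    have hj2 : j.inv ≫ pullback.snd f ι₀ = pullback.snd X.hom (ι₀ ≫ y) :=
      (Iso.inv_comp_eq j).2 (pullbackLeftPullbackSndIso_hom_snd X.hom y ι₀).symm
    have hφ : φ.hom ≫ pullback.snd f ι₀ = pullback.snd f ι₀ := by
      simp only [φ, Iso.trans_hom, Iso.symm_hom, Category.assoc, hj2]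
      exact (congrArg (j.hom ≫ ·) hE).trans (pullbackLeftPullbackSndIso_hom_snd X.hom y ι₀)
    obtain ⟨e, he, he', heu⟩ := S18894.result f f hf.dim hf.dim g (le_trans one_le_two hg)
      hf.genus_eq hf.genus_eq ι₀ rfl φ hφ
    have hew : (e.hom ≫ p) ≫ X.hom = (X ⊗ T).hom := by
      rw [Category.assoc, pullback.condition]
      refine ((Category.assoc _ _ _).symm.trans (congrArg (· ≫ y) he)).trans ?_
      exact (Over.w (snd X T))
    let ψ : X ⊗ T ⟶ X := Over.homMk (e.hom ≫ p) hew
    have hψe : (AutSch.endOf ψ).left = e.hom := by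
      refine pullback.hom_ext ?_ ?_
      · exact congrArg (·.left) (AutSch.endOf_fst ψ)
      · exact (congrArg (·.left) (AutSch.endOf_snd ψ)).trans he.symm
    have hψ : AutSch.IsAutFamily ψ := by
      haveI : IsIso ((Over.forget S).map (AutSch.endOf ψ)) := by
        show IsIso (AutSch.endOf ψ).left
        rw [hψe]; infer_instance
      exact isIso_of_reflects_iso _ (Over.forget S)
    have hpull : ∀ χ : X ⊗ T ⟶ X,
        AutSch.endOf (AutSch.pullFam u χ) ≫ (X ◁ u) = (X ◁ u) ≫ AutSch.endOf χ := by
      intro χ
      refine CartesianMonoidalCategory.hom_ext _ _ ?_ ?_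
      · rw [Category.assoc, whiskerLeft_fst, AutSch.endOf_fst, Category.assoc, AutSch.endOf_fst, AutSch.pullFam]
      · rw [Category.assoc, whiskerLeft_snd, ← Category.assoc, AutSch.endOf_snd, Category.assoc,
          AutSch.endOf_snd, whiskerLeft_snd]
    obtain ⟨l, hl, hlu⟩ := hG T ψ hψ
    have hlu' : u ≫ l = gK := by
      refine (hG T' _ (isAutFamily_famOf a gK)).unique ?_ rfl
      rw [AutSch.famOf_comp, hl]
      refine Over.OverMorphism.ext ?_
      show (X ◁ u).left ≫ e.hom ≫ p = (AutSch.famOf a gK).left
      rw [← cancel_epi j.hom, reassoc_of% hj, reassoc_of% he']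
      simp only [φ, Iso.trans_hom, Iso.symm_hom, Category.assoc]
      have h2 : j.inv ≫ pullback.fst f ι₀ ≫ p = pullback.fst X.hom (ι₀ ≫ y) := by
        rw [Iso.inv_comp_eq]
        exact (pullbackLeftPullbackSndIso_hom_fst X.hom y ι₀).symm
      erw [h2]
      exact congrArg (fun m : X ⊗ T' ⟶ X => j.hom ≫ m.left) (AutSch.endOf_fst (AutSch.famOf a gK))
    refine ⟨l.left, ⟨Over.w l, congrArg (·.left) hlu'⟩, fun l' hl' => ?_⟩
    let L : T ⟶ G := Over.homMk l' hl'.1
    have hL : u ≫ L = gK := Over.OverMorphism.ext hl'.2
    refine congrArg (·.left) (hlu L ?_)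
    have h3 : (AutSch.endOf (AutSch.famOf a L)).left = e.hom := by
      refine heu _ ?_
      rw [← hj, Category.assoc]
      have := congrArg (fun m : X ⊗ T' ⟶ X ⊗ T => j.hom ≫ m.left) (hpull (AutSch.famOf a L))
      refine this.symm.trans ?_
      rw [← AutSch.famOf_comp, hL]
      simp only [φ, Iso.trans_hom, Iso.symm_hom, Category.assoc, Over.comp_left, Iso.inv_hom_id_assoc]
      rfl
    refine Over.OverMorphism.ext ?_
    exact ((congrArg (·.left) (AutSch.endOf_fst (AutSch.famOf a L))).symm.trans
      (congrArg (· ≫ p) h3))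
  exact (IsFinite.iff_isProper_and_locallyQuasiFinite _).2 ⟨inferInstance, inferInstance⟩

end Groth.Agent.S18906
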