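import Groth.Statements.S18908
import Mathlib.Algebra.AffineMonoid.UniqueSums
import Mathlib.Algebra.Order.Antidiag.FinsuppEquiv
import Mathlib.RingTheory.Etale.Descent
import Mathlib.RingTheory.Finiteness.ModuleFinitePresentation
import Mathlib.RingTheory.Flat.TorsionFree
import Mathlib.RingTheory.GradedAlgebra.Radical
import Mathlib.RingTheory.Henselian
import Mathlib.RingTheory.MvPolynomial.IrreducibleQuadratic
import Mathlib.RingTheory.PicardGroup
import Mathlib.RingTheory.RegularLocalRing.Defs
import Mathlib.RingTheory.SimpleRing.Principal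
import Mathlib.RingTheory.TotallySplit

set_option autoImplicit false
universe u v w
open scoped TensorProduct
open CAlg

namespace Groth.Agent.S18908

/-- Let K ⊇ k be a finite field extension of degree n and Ω ⊇ k an algebraically closed extension. Then
K is separable over k if and only if Ω ⊗_k K is isomorphic, as an Ω-algebra, to the product of n
copies of Ω. (The source says 'for every (some) algebraically closed extension Ω'; the equivalence
is stated for each fixed Ω, which gives both readings.) -/
theorem result (k : Type u) (K : Type v) (Ω : Type w)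
    [Field k] [Field K] [Algebra k K] [FiniteDimensional k K]
    [Field Ω] [Algebra k Ω] [IsAlgClosed Ω] :
    Algebra.IsSeparable k K ↔ Nonempty ((Ω ⊗[k] K) ≃ₐ[Ω] (Fin (Module.finrank k K) → Ω)) := by
  constructor
  · intro _
    have h1 : Algebra.FormallyEtale k K := Algebra.FormallyEtale.iff_isSeparable k K |>.mpr inferInstance
    haveI : Algebra.FormallyEtale Ω (Ω ⊗[k] K) := inferInstance
    haveI : IsArtinianRing (Ω ⊗[k] K) := IsArtinianRing.of_finite Ω _
    let e := Algebra.FormallyEtale.equivPiOfIsSepClosed Ω (Ω ⊗[k] K)
    have : Fintype (PrimeSpectrum (Ω ⊗[k] K)) := Fintype.ofFinite _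
    have hc : Fintype.card (PrimeSpectrum (Ω ⊗[k] K)) = Module.finrank k K := by
      rw [← Module.finrank_baseChange (R := Ω) (S := k) (M' := K), e.toLinearEquiv.finrank_eq, Module.finrank_pi]
    exact ⟨e.trans (AlgEquiv.piCongrLeft Ω (fun _ ↦ Ω) (Fintype.equivFinOfCardEq hc))⟩
  · rintro ⟨e⟩
    have h1 : Algebra.FormallyUnramified Ω (Fin (Module.finrank k K) → Ω) := inferInstance
    haveI : Algebra.FormallyUnramified Ω (Ω ⊗[k] K) := Algebra.FormallyUnramified.of_equiv e.symm
    have := Algebra.FormallyUnramified.of_formallyUnramified_tensorProduct_of_faithfullyFlat (R := k) (S := K) Ω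
    exact Algebra.FormallyUnramified.isSeparable k K

end Groth.Agent.S18908
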