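import Groth.Statements.S18912

set_option autoImplicit false
universe u
open CategoryTheory CategoryTheory.Limits AlgebraicGeometry
open TFNodal

namespace Groth.Agent.S18912

open CategoryTheory AlgebraicGeometry

theorem mem_range_of_pow_eq_one {k L : Type*} [Field k] [IsAlgClosed k] [CommRing L] [IsDomain L]
    (φ : k →+* L) {r : L} {d : ℕ} (hd : d ≠ 0) (hr : r ^ d = 1) : ∃ ξ : k, ξ ^ d = 1 ∧ φ ξ = r := by
  letI := φ.toAlgebra
  have hint : IsIntegral k r := by
    refine ⟨Polynomial.X ^ d - Polynomial.C 1, Polynomial.monic_X_pow_sub_C 1 hd, ?_⟩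
    simp [hr]
  obtain ⟨ξ, hξ⟩ := minpoly.mem_range_of_degree_eq_one k r
    (IsAlgClosed.degree_eq_one_of_irreducible k (minpoly.irreducible hint))
  refine ⟨ξ, φ.injective ?_, hξ⟩
  rw [map_pow, map_one]
  exact hξ.symm ▸ hr

theorem ratio_root {L : Type*} [CommRing L] [IsDomain L] {d : ℕ} (hd : 1 ≤ d) (hL : IsField L)
    {x0 y0 : L} (hx0 : x0 ≠ 0) (h0 : x0 ^ d = y0 ^ d) :
    ∃ r : L, r ^ d = 1 ∧ y0 = r * x0 ∧
      ∀ x y : L, x * x0 ^ (d - 1) = y * y0 ^ (d - 1) → y = r * x := by
  obtain ⟨s, hs⟩ := hL.mul_inv_cancel hx0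
  refine ⟨y0 * s, ?_, ?_, ?_⟩
  · rw [mul_pow, ← h0, ← mul_pow, hs, one_pow]
  · rw [mul_assoc, mul_comm s x0, hs, mul_one]
  · intro x y h
    have hy0 : y0 ≠ 0 := by
      intro hy
      rw [hy, zero_pow (by omega)] at h0
      exact hx0 (pow_eq_zero_iff (by omega) |>.1 h0)
    apply mul_right_cancel₀ (pow_ne_zero (d - 1) hy0)
    have hd' : d = (d - 1) + 1 := by omega
    have h0' : x0 ^ (d - 1) * x0 = y0 ^ (d - 1) * y0 := by rw [← pow_succ, ← pow_succ, ← hd', h0]
    calc y * y0 ^ (d - 1) = x * x0 ^ (d - 1) := h.symm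
      _ = x * (x0 ^ (d - 1) * x0) * s := by rw [mul_assoc x, mul_assoc _ x0, hs, mul_one]
      _ = x * (y0 ^ (d - 1) * y0) * s := by rw [h0']
      _ = _ := by ring

/-- Let k be an algebraically closed field of characteristic zero, X a reduced scheme locally of finite
type over k, F an O_X-module, d ≥ 1 an integer and τ, τ' : F → O_X two O_X-linear maps whose d-th
symmetric powers agree, in the sense that for every open U and all sections a_1, …, a_d of F over U
the products τ(a_1)⋯τ(a_d) and τ'(a_1)⋯τ'(a_d) coincide in Γ(U, O_X). Then for every point η of X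
whose local ring is a field (a generic point of an irreducible component) there is a d-th root of
unity ξ in k such that, for every section a of F over an open containing η, the germ of τ'(a) at η
is ξ times the germ of τ(a). The published statement is for a coherent module on a projective nodal
curve and concludes that τ' = ξ τ with one root of unity ξ on each connected component; that form
fails for the union of two lines meeting at a node, F the ideal of the node, τ the inclusion and τ'
equal to τ on one line and to −τ on the other (d = 2), so the conclusion is stated here at each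
generic point, i.e. per irreducible component, which is what the stalkwise argument yields. -/
theorem result
    (k : Type u) [Field k] [IsAlgClosed k] [CharZero k]
    (X : Scheme.{u}) [X.Over (Spec (CommRingCat.of k))]
    [LocallyOfFiniteType (X ↘ Spec (CommRingCat.of k))] [AlgebraicGeometry.IsReduced X]
    (F : X.Modules) (τ τ' : F ⟶ Coh.structureModule X) (d : ℕ) (hd : 1 ≤ d)
    (hS : ∀ (U : X.Opens) (a : Fin d → Γ(F, U)),
      (∏ i, (τ.app U (a i) : Γ(X, U)) : Γ(X, U)) = (∏ i, (τ'.app U (a i) : Γ(X, U)) : Γ(X, U)))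
    (η : X) (hη : IsField (X.presheaf.stalk η)) :
    ∃ ξ : k, ξ ^ d = 1 ∧ ∀ (U : X.Opens) (hU : η ∈ U) (a : Γ(F, U)),
      (X.presheaf.germ U η hU (τ'.app U a : Γ(X, U)) : X.presheaf.stalk η) =
        Curv2.stalkMap k X η ξ * X.presheaf.germ U η hU (τ.app U a : Γ(X, U)) := by
  classical
  haveI : IsDomain (X.presheaf.stalk η) := hη.isDomain
  have hnat : ∀ (σ : F ⟶ Coh.structureModule X) (V U : X.Opens) (h : V ≤ U) (hηV : η ∈ V) (a : Γ(F, U)),
      X.presheaf.germ V η hηV (σ.app V (F.presheaf.map (homOfLE h).op a) : Γ(X, V)) =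
        X.presheaf.germ U η (h hηV) (σ.app U a : Γ(X, U)) := by
    intro σ V U h hηV a
    have h1 : (σ.app V (F.presheaf.map (homOfLE h).op a) : Γ(X, V)) =
        X.presheaf.map (homOfLE h).op (σ.app U a : Γ(X, U)) :=
      ConcreteCategory.congr_hom (σ.mapPresheaf.naturality (homOfLE h).op) a
    rw [h1, TopCat.Presheaf.germ_res_apply]
  have hprod : ∀ (U : X.Opens) (hU : η ∈ U) (a : Fin d → Γ(F, U)),
      ∏ i, X.presheaf.germ U η hU (τ.app U (a i) : Γ(X, U)) =
        ∏ i, X.presheaf.germ U η hU (τ'.app U (a i) : Γ(X, U)) := by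
    intro U hU a
    rw [← map_prod, ← map_prod, hS U a]
  obtain ⟨d', rfl⟩ : ∃ d', d = d' + 1 := ⟨d - 1, by omega⟩
  by_cases hz : ∀ (U : X.Opens) (hU : η ∈ U) (a : Γ(F, U)),
      X.presheaf.germ U η hU (τ.app U a : Γ(X, U)) = 0
  · refine ⟨1, one_pow _, fun U hU a => ?_⟩
    have h := hprod U hU (fun _ => a)
    rw [Finset.prod_const, Finset.prod_const, hz U hU a, Finset.card_univ, Fintype.card_fin,
      zero_pow (by omega)] at h
    rw [hz U hU a, mul_zero, pow_eq_zero_iff (by omega) |>.1 h.symm]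
  push Not at hz
  obtain ⟨U0, hU0, a0, ha0⟩ := hz
  have h0 := hprod U0 hU0 (fun _ => a0)
  rw [Finset.prod_const, Finset.prod_const, Finset.card_univ, Fintype.card_fin] at h0
  obtain ⟨r, hr, -, hr'⟩ := ratio_root hd hη ha0 h0
  obtain ⟨ξ, hξ, hξr⟩ := mem_range_of_pow_eq_one (Curv2.stalkMap k X η) (by omega) hr
  refine ⟨ξ, hξ, fun U hU a => ?_⟩
  rw [hξr]
  refine hr' _ _ ?_
  have h := hprod (U ⊓ U0) ⟨hU, hU0⟩ (Fin.cons (F.presheaf.map (homOfLE inf_le_left).op a)
    (fun _ => F.presheaf.map (homOfLE inf_le_right).op a0))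
  rw [Fin.prod_univ_succ, Fin.prod_univ_succ] at h
  simp only [Fin.cons_zero, Fin.cons_succ, Finset.prod_const, Finset.card_univ, Fintype.card_fin,
    hnat] at h
  simpa using h

end Groth.Agent.S18912
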