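import Groth.Statements.S18914
import Groth.Agent.H25Tors.Generic
import Groth.Agent.H11Tilde.ModLoc
import Mathlib

set_option autoImplicit false
universe u
open CategoryTheory CategoryTheory.Limits AlgebraicGeometry
open TFNodal

namespace Groth.Agent.S18914

open AlgebraicGeometry CategoryTheory CategoryTheory.Limits

theorem eq_zero_of_restrict {X : Scheme.{u}} [IsLocallyNoetherian X] [AlgebraicGeometry.IsReduced X]
    {K F : X.Modules} (hF : Coh.IsCoh F) (ht : TorSh.IsTorsionFree F) (U : X.Opens) (hU : Dense (U : Set X))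
    (g : K ⟶ F) (hg : (Scheme.Modules.restrictFunctor U.ι).map g = 0) : g = 0 := by
  ext W s
  refine Groth.Agent.H25Tors.eq_zero_of_dense F hF.1 ht U W hU _ ?_
  refine (Groth.Agent.H11Tilde.app_map_apply g inf_le_left s).symm.trans ?_
  have h0 : ∀ V : X.Opens, V ≤ U → g.app V = 0 := by
    intro V hV
    have := congrArg (fun φ => φ.app (U.ι ⁻¹ᵁ V)) hg
    have e : U.ι ''ᵁ (U.ι ⁻¹ᵁ V) = V := by
      rw [Scheme.Hom.image_preimage_eq_opensRange_inf, U.opensRange_ι]; exact inf_eq_right.2 hV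
    rw [← e]; exact this
  rw [h0 _ inf_le_right]
  rfl


/-- Let k be an algebraically closed field of characteristic zero, X a reduced proper curve over k (a
proper k-scheme of dimension one), and E, F₁, F₂ coherent O_X-modules that are torsion free (every
stalk is a torsion free module over the local ring: no nonzero element is killed by a
non-zero-divisor). Let q₁ : E → F₁ and q₂ : E → F₂ be epimorphisms, U a dense open subset of X and φ
: F₁|_U ≅ F₂|_U an isomorphism of the restricted quotients, q₁|_U ≫ φ = q₂|_U. Then there is an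
isomorphism of quotients ψ : F₁ ≅ F₂, q₁ ≫ ψ = q₂, whose restriction to U is φ. -/
theorem result
    (k : Type u) [Field k] [IsAlgClosed k] [CharZero k]
    (X : Scheme.{u}) [X.Over (Spec (CommRingCat.of k))] [IsProper (X ↘ Spec (CommRingCat.of k))]
    [AlgebraicGeometry.IsReduced X] (hdim : topologicalKrullDim X = 1)
    (E F₁ F₂ : X.Modules) (hE : Coh.IsCoh E) (hF₁ : Coh.IsCoh F₁) (hF₂ : Coh.IsCoh F₂)
    (htE : TorSh.IsTorsionFree E) (ht₁ : TorSh.IsTorsionFree F₁) (ht₂ : TorSh.IsTorsionFree F₂)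
    (q₁ : E ⟶ F₁) (q₂ : E ⟶ F₂) [Epi q₁] [Epi q₂]
    (U : X.Opens) (hU : Dense (U : Set X))
    (φ : F₁.restrict U.ι ≅ F₂.restrict U.ι)
    (hφ : (Scheme.Modules.restrictFunctor U.ι).map q₁ ≫ φ.hom = (Scheme.Modules.restrictFunctor U.ι).map q₂) :
    ∃ ψ : F₁ ≅ F₂, q₁ ≫ ψ.hom = q₂ ∧ (Scheme.Modules.restrictFunctor U.ι).map ψ.hom = φ.hom := by
  haveI : IsLocallyNoetherian X := LocallyOfFiniteType.isLocallyNoetherian (X ↘ Spec (CommRingCat.of k))
  let R := Scheme.Modules.restrictFunctor U.ι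
  have h12 : kernel.ι q₁ ≫ q₂ = 0 := eq_zero_of_restrict hF₂ ht₂ U hU _ (by
    rw [Functor.map_comp, ← hφ, ← Category.assoc, ← Functor.map_comp, kernel.condition, Functor.map_zero, zero_comp])
  have hφ' : R.map q₂ ≫ φ.inv = R.map q₁ := by rw [← hφ, Category.assoc, φ.hom_inv_id, Category.comp_id]
  have h21 : kernel.ι q₂ ≫ q₁ = 0 := eq_zero_of_restrict hF₁ ht₁ U hU _ (by
    rw [Functor.map_comp, ← hφ', ← Category.assoc, ← Functor.map_comp, kernel.condition, Functor.map_zero, zero_comp])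
  obtain ⟨a, ha⟩ : ∃ a, q₁ ≫ a = q₂ := ⟨_, Abelian.comp_epiDesc q₁ q₂ h12⟩
  obtain ⟨c, hc⟩ : ∃ c, q₂ ≫ c = q₁ := ⟨_, Abelian.comp_epiDesc q₂ q₁ h21⟩
  refine ⟨⟨a, c, (cancel_epi q₁).1 (by rw [← Category.assoc, ha, hc, Category.comp_id]),
    (cancel_epi q₂).1 (by rw [← Category.assoc, hc, ha, Category.comp_id])⟩, ha, ?_⟩
  haveI : R.IsLeftAdjoint := (Scheme.Modules.restrictAdjunction U.ι).isLeftAdjoint
  haveI : Epi (R.map q₁) := R.map_epi q₁
  exact (cancel_epi (R.map q₁)).1 (by rw [← Functor.map_comp, ha, hφ])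

end Groth.Agent.S18914
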