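import Groth.Statements.S18916
import Groth.Agent.H17.AssPts
import Groth.Agent.H17.Fibre
import Groth.Agent.H10Coh.FinType2
import Groth.Agent.H06EGA9.StructureStalk
import Mathlib

set_option autoImplicit false
universe u
open CategoryTheory CategoryTheory.Limits AlgebraicGeometry
open TFNodal

namespace Groth.Agent.S18916

/-- Let k be an algebraically closed field of characteristic zero, X a reduced proper curve over k (a
proper k-scheme of dimension one) without isolated points (no closed point is open, i.e. X is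
one-dimensional at every point) and F a coherent O_X-module. Then the dual 𝓗om(F, O_X) is torsion
free: no closed point of X is an associated point of it. -/
theorem result
    (k : Type u) [Field k] [IsAlgClosed k] [CharZero k]
    (X : Scheme.{u}) [X.Over (Spec (CommRingCat.of k))] [IsProper (X ↘ Spec (CommRingCat.of k))]
    [AlgebraicGeometry.IsReduced X] (hdim : topologicalKrullDim X = 1)
    (hpure : ∀ x : X, IsClosed ({x} : Set X) → ¬ IsOpen ({x} : Set X))
    (F : X.Modules) (hF : Coh.IsCoh F) (x : X) (hx : IsClosed ({x} : Set X)) :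
    ¬ Curv2.IsAssPoint (RefHull.dual F) x := by
  haveI : IsLocallyNoetherian X :=
    LocallyOfFiniteType.isLocallyNoetherian (X ↘ Spec (CommRingCat.of k))
  intro hass
  obtain ⟨hp, θ, hθ⟩ := isAssociatedPrime_iff.mp hass
  obtain ⟨V, hxV, g, rfl⟩ := (RefHull.dual F).presheaf.exists_germ_eq θ
  -- socle of the reduced local ring vanishes
  have hm : IsLocalRing.maximalIdeal (X.presheaf.stalk x) ≠ ⊥ := by
    intro h0
    refine hpure x hx (Groth.Agent.H17.isOpen_singleton_of_isClosed hx fun y hy => ?_)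
    have hy' : y ∈ Set.range (X.fromSpecStalk x) := by rw [X.range_fromSpecStalk]; exact hy
    obtain ⟨P, rfl⟩ := hy'
    have hP : P = IsLocalRing.closedPoint (X.presheaf.stalk x) := by
      apply PrimeSpectrum.ext
      refine le_antisymm (IsLocalRing.le_maximalIdeal P.isPrime.ne_top) ?_
      show IsLocalRing.maximalIdeal _ ≤ _
      rw [h0]; exact bot_le
    rw [hP, Scheme.fromSpecStalk_closedPoint]
  have hsoc : ∀ v : (Coh.structureModule X).presheaf.stalk x,
      (∀ a ∈ IsLocalRing.maximalIdeal (X.presheaf.stalk x), a • v = 0) → v = 0 := by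
    intro v hv
    obtain ⟨r, rfl⟩ := (Groth.Agent.H06EGA9.bijective_smul_oneStalk x).2 v
    have hr : ∀ a ∈ IsLocalRing.maximalIdeal (X.presheaf.stalk x), a * r = 0 := fun a ha => by
      apply (Groth.Agent.H06EGA9.bijective_smul_oneStalk x).1
      simpa [mul_smul] using hv a ha
    by_cases hu : r ∈ IsLocalRing.maximalIdeal (X.presheaf.stalk x)
    · have hr0 : r = 0 := _root_.IsReduced.eq_zero r ⟨2, by rw [pow_two]; exact hr r hu⟩
      simp [hr0]
    · exfalso
      refine hm (eq_bot_iff.mpr fun a ha => ?_)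
      exact (IsLocalRing.notMem_maximalIdeal.mp hu).mul_left_eq_zero.mp (hr a ha)
  have hval : g.1 ⟨x, hxV⟩ = 0 := by
    refine LinearMap.ext fun v => hsoc _ fun a ha => ?_
    have h1 : a • (RefHull.dual F).presheaf.germ V x hxV g = 0 := by
      rw [hθ, Submodule.mem_colon_singleton] at ha
      simpa using ha
    have h2 := congrArg (RefHull.evalStalk F (Coh.structureModule X) x) h1
    rw [map_smul, map_zero, RefHull.evalStalk_germ] at h2
    exact LinearMap.congr_fun h2 v
  -- the section vanishes near x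
  obtain ⟨U, hU, hxU, hUV⟩ := exists_isAffineOpen_mem_and_subset hxV
  obtain ⟨S, hS⟩ := ((Groth.Agent.H10Coh.isCoh_iff_finite_sections F).mp hF).2 U hU
  have hloc : ∀ m ∈ S, ∃ W : X.Opens, x ∈ W ∧ ∃ hWU : W ≤ U, ∀ y (hy : y ∈ W),
      g.1 ⟨y, hUV (hWU hy)⟩ (F.presheaf.germ U y (hWU hy) m) = 0 := by
    intro m _
    obtain ⟨W, hxW, j, n, hn⟩ := g.2 U (homOfLE hUV) m ⟨x, hxU⟩
    have hnx : (Coh.structureModule X).presheaf.germ W x hxW n = 0 := by
      rw [← hn ⟨x, hxW⟩, hval, LinearMap.zero_apply]
    obtain ⟨W', hxW', i, i', he⟩ := (Coh.structureModule X).presheaf.germ_eq x hxW hxW n 0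
      (hnx.trans (map_zero ((Coh.structureModule X).presheaf.germ W x hxW).hom).symm)
    refine ⟨W', hxW', i.le.trans j.le, fun y hy => ?_⟩
    rw [hn ⟨y, i.le hy⟩, ← TopCat.Presheaf.germ_res_apply _ i y hy n, he, map_zero, map_zero]
  choose W hxW hWU hW using hloc
  classical
  let W₀ : X.Opens := U ⊓ S.attach.inf fun m => W m.1 m.2
  have hxW₀ : x ∈ W₀ := by
    refine ⟨hxU, ?_⟩
    rw [TopologicalSpace.Opens.coe_finset_inf, Finset.inf_set_eq_iInter]
    exact Set.mem_iInter₂.mpr fun m _ => hxW m.1 m.2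
  have hzero : (RefHull.dual F).presheaf.map (homOfLE ((inf_le_left : W₀ ≤ U).trans hUV)).op g = 0 := by
    refine Subtype.ext (funext fun y => LinearMap.ext fun v => ?_)
    show g.1 ⟨y.1, hUV y.2.1⟩ v = 0
    have hgen : ∀ s : Γ(F, U), g.1 ⟨y.1, hUV y.2.1⟩ (F.presheaf.germ U y.1 y.2.1 s) = 0 := by
      intro s
      have hs : s ∈ Submodule.span Γ(X, U) (S : Set Γ(F, U)) := by rw [hS]; trivial
      induction hs using Submodule.span_induction with
      | mem m hm =>
        have h := (Finset.inf_le (Finset.mem_attach S ⟨m, hm⟩) : (S.attach.inf fun m => W m.1 m.2) ≤ W m hm)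
        exact hW m hm y.1 (h y.2.2)
      | zero => rw [map_zero, map_zero]
      | add a b _ _ ha hb => rw [map_add, map_add, ha, hb, add_zero]
      | smul r a _ ha => rw [Groth.Agent.H17.AssPts.germ_smul', map_smul, ha, smul_zero]
    obtain ⟨t, s, ht, hts⟩ := Groth.Agent.H17.AssPts.exists_smul_germ_eq F hF.1 hU y.2.1 v
    have h3 := hgen s
    rw [← hts, map_smul] at h3
    exact ((Groth.Agent.H17.AssPts.isUnit_germ_iff y.2.1 t).2 ht).smul_eq_zero.1 h3
  have hg0 : (RefHull.dual F).presheaf.germ V x hxV g = 0 := by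
    rw [← TopCat.Presheaf.germ_res_apply _ (homOfLE ((inf_le_left : W₀ ≤ U).trans hUV)) x hxW₀ g, hzero, map_zero]
  refine hp.ne_top ((Ideal.eq_top_iff_one _).mpr ?_)
  rw [hθ, hg0, Submodule.mem_colon_singleton]
  simp

end Groth.Agent.S18916
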