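import Groth.Statements.S18918
import Groth.Agent.H25FinCov.Cover
import Groth.Agent.H18Quot.Free
import Groth.Agent.H18Quot.Rigid

set_option autoImplicit false
universe u
open CategoryTheory CategoryTheory.Limits AlgebraicGeometry
open FEt

namespace Groth.Agent.S18918

open CategoryTheory CategoryTheory.Limits AlgebraicGeometry

/-- Rational points of a finite scheme over a field: at most the degree. -/
theorem card_sections_le {K : Type u} [Field K] {Z : Scheme.{u}}
    (g : Z ⟶ Spec (CommRingCat.of K)) [IsFinite g] [Flat g] (n : ℕ)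
    (hn : ∀ y, g.finrank y = n) :
    Finite {s : Spec (CommRingCat.of K) ⟶ Z // s ≫ g = 𝟙 _} ∧
      Nat.card {s : Spec (CommRingCat.of K) ⟶ Z // s ≫ g = 𝟙 _} ≤ n := by
  haveI : IsAffine Z := isAffine_of_isAffineHom g
  let A := Γ(Z, ⊤)
  let g' : Spec A ⟶ Spec (CommRingCat.of K) := Z.isoSpec.inv ≫ g
  obtain ⟨ψ, hψ⟩ : ∃ ψ, Spec.map ψ = g' := ⟨Spec.preimage g', Spec.map_preimage g'⟩
  haveI : IsFinite (Spec.map ψ) := hψ ▸ inferInstance
  haveI : Flat (Spec.map ψ) := hψ ▸ inferInstance
  letI : Algebra K A := ψ.hom.toAlgebra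
  haveI : Module.Finite K A := (IsFinite.SpecMap_iff _).mp ‹IsFinite (Spec.map ψ)›
  have hr : Module.finrank K A = n := by
    rw [← hn (IsLocalRing.closedPoint K), ← Scheme.Hom.finrank_comp_left_of_isIso Z.isoSpec.inv g]
    show _ = g'.finrank _
    rw [← hψ]
    refine Eq.trans ?_ (Scheme.Hom.finrank_SpecMap_algebraMap K A (IsLocalRing.closedPoint K)).symm
    rw [Module.rankAtStalk_eq_finrank_of_free]
    rfl
  haveI : Finite (A →ₐ[K] K) := by
    refine Cardinal.mk_lt_aleph0_iff.mp (lt_of_le_of_lt (cardinalMk_algHom_le_rank K A K) ?_)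
    rw [Cardinal.lift_lt_aleph0]; exact Module.rank_lt_aleph0 K A
  have hmap : ∀ s : {s : Spec (CommRingCat.of K) ⟶ Z // s ≫ g = 𝟙 _},
      ψ ≫ Spec.preimage (s.1 ≫ Z.isoSpec.hom) = 𝟙 _ := fun s => by
    apply Spec.map_injective
    rw [Spec.map_comp, Spec.map_preimage, Spec.map_id, hψ]
    simp [g', s.2]
  let F : {s : Spec (CommRingCat.of K) ⟶ Z // s ≫ g = 𝟙 _} → (A →ₐ[K] K) := fun s =>
    { (Spec.preimage (s.1 ≫ Z.isoSpec.hom)).hom with
      commutes' := fun k => congrArg (fun φ => φ.hom k) (hmap s) }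
  have hF : Function.Injective F := fun s t h => by
    refine Subtype.ext ((cancel_mono Z.isoSpec.hom).1 ?_)
    rw [← Spec.map_preimage (s.1 ≫ Z.isoSpec.hom), ← Spec.map_preimage (t.1 ≫ Z.isoSpec.hom)]
    congr 1
    ext a
    exact congrArg (fun φ : A →ₐ[K] K => φ a) h
  exact ⟨Finite.of_injective F hF, (Nat.card_le_card_of_injective F hF).trans
    ((card_algHom_le_finrank K A K).trans hr.le)⟩

/-- Geometric points of a finite flat scheme over a point: at most the degree. -/
theorem card_points_le {K : Type u} [Field K] {P X' : Scheme.{u}} (q : P ⟶ X') [IsFinite q] [Flat q]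
    (n : ℕ) (hn : ∀ y, q.finrank y = n) (ξ : Spec (CommRingCat.of K) ⟶ X') :
    Finite {s : Spec (CommRingCat.of K) ⟶ P // s ≫ q = ξ} ∧
      Nat.card {s : Spec (CommRingCat.of K) ⟶ P // s ≫ q = ξ} ≤ n := by
  haveI : IsFinite (pullback.snd q ξ) := MorphismProperty.pullback_snd q ξ inferInstance
  haveI : Flat (pullback.snd q ξ) := MorphismProperty.pullback_snd q ξ inferInstance
  obtain ⟨hfin, hle⟩ := card_sections_le (pullback.snd q ξ) n fun y => by
    rw [Scheme.Hom.finrank_pullback_snd, hn]
  let F : {s : Spec (CommRingCat.of K) ⟶ P // s ≫ q = ξ} →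
      {s : Spec (CommRingCat.of K) ⟶ pullback q ξ // s ≫ pullback.snd q ξ = 𝟙 _} :=
    fun s => ⟨pullback.lift s.1 (𝟙 _) (by rw [Category.id_comp, s.2]), pullback.lift_snd _ _ _⟩
  have hF : Function.Injective F := fun s t h => by
    have := congrArg (fun r => r.1 ≫ pullback.fst q ξ) h
    simp only [F, pullback.lift_fst] at this
    exact Subtype.ext this
  exact ⟨Finite.of_injective F hF, (Nat.card_le_card_of_injective F hF).trans hle⟩


/-- Let f : X → Y be a finite étale morphism of degree n (f_*O_X locally free of rank n) and φ : X' → Y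
a morphism from a nonempty connected scheme X'. Then the Y-morphisms X' → X (equivalently, the
sections of X ×_Y X' → X') form a finite set with at most n elements, and there are exactly n of
them if and only if the covering X ×_Y X' → X' is trivial, i.e. X ×_Y X' is isomorphic over X' to
the disjoint union of n copies of X'. The source works with separated Noetherian schemes over an
algebraically closed field of characteristic zero; that setting is not needed for the statement. -/
theorem result
    {X Y X' : Scheme.{u}} (f : X ⟶ Y) [IsFinite f] [Etale f] (n : ℕ)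
    (hdeg : FlatMod.IsFinLocFreeOfRank n ((Scheme.Modules.pushforward f).obj (Coh.structureModule X)))
    (φ : X' ⟶ Y) [Nonempty X'] [ConnectedSpace X'] :
    Finite (Over.mk φ ⟶ Over.mk f) ∧ Nat.card (Over.mk φ ⟶ Over.mk f) ≤ n ∧
      (Nat.card (Over.mk φ ⟶ Over.mk f) = n ↔
        ∃ e : pullback f φ ≅ ∐ fun _ : Fin n => X',
          e.hom ≫ Sigma.desc (fun _ : Fin n => 𝟙 X') = pullback.snd f φ) := by
  classical
  let P := pullback f φ
  let q : P ⟶ X' := pullback.snd f φ
  haveI : IsFinite q := MorphismProperty.pullback_snd f φ inferInstance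
  haveI : Etale q := MorphismProperty.pullback_snd f φ inferInstance
  have hn : ∀ y, q.finrank y = n := fun y => by
    rw [Scheme.Hom.finrank_pullback_snd]
    exact (Groth.Agent.H25FinCov.isCover_of_isFinLocFreeOfRank f n hdeg).2 _
  let S := {σ : X' ⟶ P // σ ≫ q = 𝟙 _}
  let eqv : (Over.mk φ ⟶ Over.mk f) ≃ S :=
    { toFun := fun g => ⟨pullback.lift (f := f) (g := φ) g.left (𝟙 _)
        ((Over.w g).trans (Category.id_comp φ).symm), pullback.lift_snd _ _ _⟩
      invFun := fun σ => Over.homMk (σ.1 ≫ pullback.fst f φ) (by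
        change (σ.1 ≫ pullback.fst f φ) ≫ f = φ
        rw [Category.assoc, pullback.condition, ← Category.assoc]
        exact (congrArg (· ≫ φ) σ.2).trans (Category.id_comp _))
      left_inv := fun g => by
        ext
        exact pullback.lift_fst _ _ _
      right_inv := fun σ => by
        apply Subtype.ext
        apply pullback.hom_ext
        · exact pullback.lift_fst _ _ _
        · exact (pullback.lift_snd _ _ _).trans σ.2.symm }
  have hinj : ∀ (K : Type u) [Field K] (ξ : Spec (CommRingCat.of K) ⟶ X') (σ τ : S),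
      ξ ≫ σ.1 = ξ ≫ τ.1 → σ = τ := fun K _ ξ σ τ h =>
    Subtype.ext (H18Quot.eq_of_comp_eq q σ.1 τ.1 (σ.2.trans τ.2.symm) ξ h)
  let toPt : ∀ (K : Type u) [Field K] (ξ : Spec (CommRingCat.of K) ⟶ X'), S →
      {s : Spec (CommRingCat.of K) ⟶ P // s ≫ q = ξ} :=
    fun K _ ξ σ => ⟨ξ ≫ σ.1, by rw [Category.assoc, σ.2, Category.comp_id]⟩
  have htoPt : ∀ (K : Type u) [Field K] (ξ : Spec (CommRingCat.of K) ⟶ X'),
      Function.Injective (toPt K ξ) :=
    fun K _ ξ σ τ h => hinj K ξ σ τ (congrArg Subtype.val h)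
  obtain ⟨x0⟩ := ‹Nonempty X'›
  obtain ⟨hfin0, hle0⟩ := card_points_le q n hn (X'.fromSpecResidueField x0)
  haveI hSfin : Finite S := Finite.of_injective _ (htoPt _ (X'.fromSpecResidueField x0))
  have hSle : Nat.card S ≤ n :=
    (Nat.card_le_card_of_injective _ (htoPt _ (X'.fromSpecResidueField x0))).trans hle0
  refine ⟨Finite.of_equiv S eqv.symm, (Nat.card_congr eqv).trans_le hSle, ?_⟩
  rw [Nat.card_congr eqv]
  constructor
  · intro hS
    haveI hiso : IsIso (Sigma.desc (fun σ : S => σ.1) : (∐ fun _ : S => X') ⟶ P) := by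
      refine H18Quot.isIso_sigmaDesc_of_sections q _ (fun σ => σ.2)
        (fun K _ _ ξ σ τ h => hinj K ξ σ τ h) fun z => ?_
      obtain ⟨hfin, hle⟩ := card_points_le q n hn (P.fromSpecResidueField z ≫ q)
      haveI := hfin
      obtain ⟨σ, hσ⟩ := (((Nat.bijective_iff_injective_and_card _).2
        ⟨htoPt _ (P.fromSpecResidueField z ≫ q), le_antisymm
          (Nat.card_le_card_of_injective _ (htoPt _ (P.fromSpecResidueField z ≫ q)))
          (hle.trans hS.ge)⟩)).2 ⟨P.fromSpecResidueField z, rfl⟩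
      refine ⟨σ, q z, ?_⟩
      have h1 : P.fromSpecResidueField z ≫ q ≫ σ.1 = P.fromSpecResidueField z :=
        (Category.assoc _ _ _).symm.trans (congrArg Subtype.val hσ)
      have h2 := congrArg (fun r : Spec (P.residueField z) ⟶ P => r (IsLocalRing.closedPoint _)) h1
      simp only [Scheme.Hom.comp_apply, Scheme.fromSpecResidueField_apply] at h2
      exact h2
    refine ⟨(asIso (Sigma.desc (fun σ : S => σ.1) : (∐ fun _ : S => X') ⟶ P)).symm ≪≫
      Sigma.whiskerEquiv (Finite.equivFinOfCardEq hS) (fun _ => Iso.refl X'), ?_⟩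
    rw [Iso.trans_hom, Category.assoc, Iso.symm_hom, Iso.inv_comp_eq, asIso_hom]
    ext σ
    simp only [Sigma.whiskerEquiv_hom, Sigma.ι_comp_map'_assoc, Iso.refl_inv, Category.id_comp,
      Sigma.ι_desc, Sigma.ι_desc_assoc]
    exact σ.2.symm
  · rintro ⟨e, he⟩
    let σ : Fin n → S := fun i => ⟨Sigma.ι (fun _ : Fin n => X') i ≫ e.inv, by
      show (_ ≫ e.inv) ≫ pullback.snd f φ = _
      rw [Category.assoc, ← he, Iso.inv_hom_id_assoc, Sigma.ι_desc]⟩
    have hσ : Function.Injective σ := fun i j h => by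
      by_contra hij
      have h1 := (cancel_mono e.inv).1 (congrArg Subtype.val h)
      exact (disjoint_opensRange_sigmaι (fun _ : Fin n => X') i j hij).le_bot
        (show Sigma.ι (fun _ : Fin n => X') i x0 ∈ _ from
          ⟨⟨x0, rfl⟩, ⟨x0, congrArg (fun r : X' ⟶ _ => r x0) h1.symm⟩⟩)
    exact le_antisymm hSle (by simpa using Nat.card_le_card_of_injective σ hσ)

end Groth.Agent.S18918
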