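import Groth.Statements.S18920
import Groth.Agent.H3CAlg.GenericDet
import Groth.Agent.S15706
import Mathlib.Data.Int.ConditionallyCompleteOrder
import Mathlib.Data.Int.Star
import Mathlib.RingTheory.LocalProperties.FinitePresentation
import Mathlib.RingTheory.LocalProperties.Projective
import Mathlib.RingTheory.MvPolynomial.IrreducibleQuadratic
import Mathlib.RingTheory.PicardGroup

set_option autoImplicit false
universe u
open CAlg

namespace Groth.Agent.S18920

/-- Let M be a commutative monoid, s ≥ 1, and ξ_1, …, ξ_s elements of M with ξ_i ^ (s!/i) = 1 for 1 ≤ i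
≤ s (an (s!/i)-th root of unity for each i). Suppose that for every finitely supported function d on
{1, …, s} with Σ_i i · d_i = s! the product ∏_i ξ_i ^ d_i equals 1. Then ξ_1 ^ j = ξ_j for every 1 ≤
j ≤ s. (The source works with roots of unity in the complex numbers.) -/
theorem result
    {M : Type u} [CommMonoid M] (s : ℕ) (hs : 1 ≤ s) (ξ : ℕ → M)
    (hξ : ∀ i : ℕ, 1 ≤ i → i ≤ s → ξ i ^ (s.factorial / i) = 1)
    (hprod : ∀ d : ℕ →₀ ℕ, (∀ i ∈ d.support, 1 ≤ i ∧ i ≤ s) →
      (d.sum fun i n => i * n) = s.factorial → (d.prod fun i n => ξ i ^ n) = 1)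
    (j : ℕ) (hj : 1 ≤ j) (hjs : j ≤ s) :
    ξ 1 ^ j = ξ j := by
  classical
  rcases eq_or_lt_of_le hj with rfl | hj1
  · simp
  have h1 : ξ 1 ^ s.factorial = 1 := by simpa using hξ 1 le_rfl hs
  have hle : j ≤ s.factorial := hjs.trans (Nat.self_le_factorial s)
  let d : ℕ →₀ ℕ := Finsupp.single j 1 + Finsupp.single 1 (s.factorial - j)
  have h2 : ξ j * ξ 1 ^ (s.factorial - j) = 1 := by
    have := hprod d (fun i hi => by
      have := Finsupp.support_add hi
      simp only [Finset.mem_union] at this
      rcases this with h | h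
      · have := Finsupp.support_single_subset h; simp at this; omega
      · have := Finsupp.support_single_subset h; simp at this; omega) (by
      rw [Finsupp.sum_add_index' (by simp) (by intros; ring), Finsupp.sum_single_index (by simp), Finsupp.sum_single_index (by simp)]
      omega)
    rw [Finsupp.prod_add_index' (by simp) (by intros; rw [pow_add]), Finsupp.prod_single_index (by simp), Finsupp.prod_single_index (by simp), pow_one] at this
    exact this
  calc ξ 1 ^ j = (ξ j * ξ 1 ^ (s.factorial - j)) * ξ 1 ^ j := by rw [h2, one_mul]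
    _ = ξ j := by rw [mul_assoc, ← pow_add, Nat.sub_add_cancel hle, h1, mul_one]

end Groth.Agent.S18920
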