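import Groth.Statements.S18922
import Groth.Agent.H29Blow.WeakAssAffine
import Groth.Agent.H17.GenericStalk
import Groth.Agent.H10Coh.FinType2
import Mathlib

set_option autoImplicit false
universe u
open CategoryTheory CategoryTheory.Limits AlgebraicGeometry
open TFNodal

namespace Groth.Agent.S18922

/-- Let k be an algebraically closed field of characteristic zero, X a reduced proper curve over k (a
proper k-scheme of dimension one) and F a coherent torsion free O_X-module (every stalk a torsion
free module over the local ring). Let x be a point of X and U an open subset containing x such that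
every irreducible component of U passes through x, that is, every point of U whose local ring is a
field specializes to x. Then the map from the sections of F over U to the stalk F_x is injective.
(The source states this for x a node of a connected nodal curve and U inside the union of the
irreducible components through x, meeting no other node.) -/
theorem result
    (k : Type u) [Field k] [IsAlgClosed k] [CharZero k]
    (X : Scheme.{u}) [X.Over (Spec (CommRingCat.of k))] [IsProper (X ↘ Spec (CommRingCat.of k))]
    [AlgebraicGeometry.IsReduced X] (hdim : topologicalKrullDim X = 1)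
    (F : X.Modules) (hF : Coh.IsCoh F) (htF : TorSh.IsTorsionFree F)
    (x : X) (U : X.Opens) (hxU : x ∈ U)
    (hU : ∀ y : X, y ∈ U → IsField (X.presheaf.stalk y) → x ∈ closure ({y} : Set X)) :
    Function.Injective (F.presheaf.germ U x hxU) := by
  haveI : IsLocallyNoetherian X := LocallyOfFiniteType.isLocallyNoetherian (X ↘ Spec (CommRingCat.of k))
  rw [injective_iff_map_eq_zero]
  intro m hm
  refine TopCat.Presheaf.section_ext ⟨F.presheaf, F.isSheaf⟩ U m 0 fun y hy => ?_
  refine Eq.trans ?_ (map_zero (F.presheaf.germ U y hy).hom).symm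
  obtain ⟨_, ⟨V, hV : IsAffineOpen V, rfl⟩, hyV, hVU⟩ :=
    X.isBasis_affineOpens.exists_subset_of_mem_open hy U.isOpen
  show F.presheaf.germ U y hy m = 0
  rw [← TopCat.Presheaf.germ_res_apply F.presheaf (homOfLE hVU) y hyV m]
  set t := F.presheaf.map (homOfLE hVU).op m with ht
  haveI : IsNoetherianRing Γ(X, V) := IsLocallyNoetherian.component_noetherian ⟨V, hV⟩
  haveI : _root_.IsReduced Γ(X, V) := IsReduced.component_reduced V
  have key : ∀ p ∈ minimalPrimes Γ(X, V), ¬ H29Blow.secAnn F t ≤ p := by
    intro p hp hle
    let q : Spec Γ(X, V) := ⟨p, hp.1.1⟩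
    have hηV : hV.fromSpec q ∈ V := hV.range_fromSpec.subset (Set.mem_range_self q)
    have hgen : hV.fromSpec q ∈ genericPoints X := by
      rw [Groth.Agent.H8Props.mem_genericPoints_iff]
      intro z hz
      have hzV : z ∈ V := hz.mem_open V.isOpen hηV
      obtain ⟨r, rfl⟩ : z ∈ Set.range hV.fromSpec := by rw [hV.range_fromSpec]; exact hzV
      have hrq : r.asIdeal ≤ p :=
        (PrimeSpectrum.le_iff_specializes r q).2 (hV.fromSpec.isOpenEmbedding.isInducing.specializes_iff.1 hz)
      exact congrArg hV.fromSpec (PrimeSpectrum.ext (le_antisymm hrq (hp.2 ⟨r.isPrime, bot_le⟩ hrq)))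
    have hfield := Groth.Agent.H17.isField_stalk_generic X hgen inferInstance
    have hspec : hV.fromSpec q ⤳ x := specializes_iff_mem_closure.2 (hU _ (hVU hηV) hfield)
    have h0 : F.presheaf.germ V (hV.fromSpec q) hηV t = 0 :=
      (TopCat.Presheaf.germ_res_apply F.presheaf (homOfLE hVU) _ hηV m).trans
        ((TopCat.Presheaf.germ_stalkSpecializes_apply F.presheaf hxU hspec m).symm.trans
          ((congrArg _ hm).trans (map_zero _)))
    have e : hV.primeIdealOf ⟨hV.fromSpec q, hηV⟩ = q :=
      hV.fromSpec.isOpenEmbedding.injective (hV.fromSpec_primeIdealOf ⟨_, hηV⟩)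
    exact (H29Blow.germ_ne_zero_iff F hF.1 hV ⟨_, hηV⟩ t).2 (by rw [e]; exact hle) h0
  obtain ⟨a, ha, hnd⟩ : ∃ a ∈ H29Blow.secAnn F t, ∀ p ∈ minimalPrimes Γ(X, V), a ∉ p := by
    by_contra hc
    simp only [not_exists, not_and, not_forall, not_not] at hc
    obtain ⟨p, hp, hle⟩ := (Ideal.subset_union_prime (f := id)
      (s := (Ideal.finite_minimalPrimes_of_isNoetherianRing Γ(X, V) ⊥).toFinset) ⊥ ⊥
      (fun i hi _ _ => (Set.Finite.mem_toFinset _).1 hi |>.1.1)).1 (fun a ha => by
        obtain ⟨p, hp, hap⟩ := hc a ha
        exact Set.mem_biUnion ((Set.Finite.mem_toFinset _).2 hp) hap)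
    exact key p ((Set.Finite.mem_toFinset _).1 hp) hle
  have hreg : a ∈ nonZeroDivisors Γ(X, V) := mem_nonZeroDivisors_iff_right.2 fun b hb => by
    have : b ∈ (⊥ : Ideal Γ(X, V)).radical := by
      rw [← Ideal.sInf_minimalPrimes, Submodule.mem_sInf]
      intro p hp
      exact (hp.1.1.mem_or_mem (show b * a ∈ p by rw [hb]; exact p.zero_mem)).resolve_right (hnd p hp)
    rwa [Ideal.radical_bot_of_isReduced] at this
  have hg := H29Blow.germ_secAnn_smul F hyV ((H29Blow.mem_secAnn F).1 ha)
  letI := TopCat.Presheaf.algebra_section_stalk X.presheaf ⟨y, hyV⟩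
  haveI := hV.isLocalization_stalk ⟨y, hyV⟩
  have hreg' : IsRegular (X.presheaf.germ V y hyV a) := isRegular_iff_mem_nonZeroDivisors.2
    (IsLocalization.map_nonZeroDivisors_le (hV.primeIdealOf ⟨y, hyV⟩).asIdeal.primeCompl (X.presheaf.stalk y)
      (Submonoid.mem_map_of_mem _ hreg))
  haveI := htF y
  exact (hreg'.isSMulRegular (M := F.presheaf.stalk y)) (hg.trans (smul_zero _).symm)

end Groth.Agent.S18922
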