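import Groth.Statements.S18924
import Groth.Agent.H23ResHyp.Count

set_option autoImplicit false
universe u
open ResHyp

namespace Groth.Agent.S18924

/-- Let F be a finite field with q elements and let n ≥ 3 be odd. Count the pairs (f, g) where f is a
binary quadratic form and g a binary form of degree n over F, recorded by their coefficient vectors
of lengths 3 and n + 1 (leading coefficients may vanish), whose resultant — the Sylvester
determinant of the two coefficient vectors with size parameters 2 and n — equals 1. The number of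
such pairs is q ^ (n + 3) - q ^ (n + 1). (The published statement gives q ^ (n + 3) + q ^ (n + 1);
for q = 3 and n = 3 the count is 648, not 810.) -/
theorem result (F : Type u) [Field F] [Fintype F] (n : ℕ)
    (hn : Odd n) (h3 : 3 ≤ n) :
    Nat.card {p : (Fin 3 → F) × (Fin (n + 1) → F) //
      Polynomial.resultant (∑ i : Fin 3, Polynomial.C (p.1 i) * Polynomial.X ^ (i : ℕ))
        (∑ j : Fin (n + 1), Polynomial.C (p.2 j) * Polynomial.X ^ (j : ℕ)) 2 n = 1} =
      Fintype.card F ^ (n + 3) - Fintype.card F ^ (n + 1) := by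
  classical
  open Groth.Agent.H23ResHyp Polynomial in
  obtain ⟨j, rfl⟩ := hn
  open Groth.Agent.H23ResHyp Polynomial in
  have hscale : ∀ (c μ : F) (f : Fin 3 → F) (g : Fin (2 * j + 1 + 1) → F),
      resultant (poly (c • f)) (poly (μ • g)) 2 (2 * j + 1) =
        c ^ (2 * j + 1) * μ ^ 2 * resultant (poly f) (poly g) 2 (2 * j + 1) := fun c μ f g => by
    have h : ∀ {l : ℕ} (r : F) (v : Fin l → F), poly (r • v) = C r * poly v := fun r v => by
      simp [poly, Finset.mul_sum, mul_assoc]
    rw [h, h, resultant_C_mul_left, resultant_C_mul_right]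
    ring
  open Groth.Agent.H23ResHyp Polynomial in
  let R : (Fin 3 → F) × (Fin (2 * j + 1 + 1) → F) → F := fun p => resultant (poly p.1) (poly p.2) 2 (2 * j + 1)
  let act : Fˣ → (Fin 3 → F) × (Fin (2 * j + 1 + 1) → F) → (Fin 3 → F) × (Fin (2 * j + 1 + 1) → F) :=
    fun c p => ((c : F) • p.1, (((c⁻¹) ^ j : Fˣ) : F) • p.2)
  have hR : ∀ c p, R (act c p) = c * R p := fun c p => by
    show Polynomial.resultant _ _ _ _ = _
    rw [hscale]
    congr 1
    rw [Units.val_pow_eq_pow_val, Units.val_inv_eq_inv_val, inv_pow, inv_pow, ← pow_mul, pow_succ, mul_comm 2 j,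
      mul_right_comm, mul_inv_cancel₀ (pow_ne_zero _ c.ne_zero), one_mul]
  have hcomp : ∀ c d p, act c (act d p) = act (c * d) p := fun c d p => by
    simp [act, smul_smul, mul_pow, mul_comm]
  have hone : ∀ p, act 1 p = p := fun p => by simp [act]
  let e : {p // R p ≠ 0} ≃ Fˣ × {p // R p = 1} :=
    { toFun := fun p => (Units.mk0 (R p.1) p.2, ⟨act (Units.mk0 (R p.1) p.2)⁻¹ p.1, by
        rw [hR, Units.val_inv_eq_inv_val, Units.val_mk0, inv_mul_cancel₀ p.2]⟩)
      invFun := fun t => ⟨act t.1 t.2.1, by rw [hR, t.2.2, mul_one]; exact t.1.ne_zero⟩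
      left_inv := fun p => Subtype.ext (by simp [hcomp, hone])
      right_inv := fun t => by
        have hu : ∀ h, Units.mk0 (R (act t.1 t.2.1)) h = t.1 := fun h =>
          Units.ext (by simp [hR, t.2.2])
        have hne : R (act t.1 t.2.1) ≠ 0 := by rw [hR, t.2.2, mul_one]; exact t.1.ne_zero
        refine Prod.ext (hu hne) (Subtype.ext ?_)
        show act (Units.mk0 (R (act t.1 t.2.1)) hne)⁻¹ (act t.1 t.2.1) = _
        rw [hu hne, hcomp, inv_mul_cancel, hone] }
  have h := Nat.card_congr e
  rw [Nat.card_prod, Nat.card_units, Nat.card_eq_fintype_card (α := F)] at h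
  have h2 : Nat.card {p // R p ≠ 0} =
      (Fintype.card F - 1) * (Fintype.card F ^ (2 * j + 1 + 3) - Fintype.card F ^ (2 * j + 1 + 1)) :=
    Groth.Agent.H23ResHyp.card_ne_zero_total _ (by omega)
  have hq : 0 < Fintype.card F - 1 := Nat.sub_pos_of_lt Fintype.one_lt_card
  exact Nat.eq_of_mul_eq_mul_left hq (h.symm.trans h2)

end Groth.Agent.S18924
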