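import Groth.Statements.S18925
import Groth.Agent.H23ResHyp.Count

set_option autoImplicit false
universe u
open ResHyp

namespace Groth.Agent.S18925

/-- Let F be a finite field with q elements and let n ≥ 2. Count the pairs (f, g) where f is a binary
quadratic form and g a binary form of degree n over F, recorded by their coefficient vectors of
lengths 3 and n + 1 (leading coefficients may vanish), whose resultant — the Sylvester determinant
of the two coefficient vectors with size parameters 2 and n — is nonzero, i.e. f and g have no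
common zero on the projective line. The number of such pairs is q ^ (n + 4) - q ^ (n + 3) - q ^ (n +
2) + q ^ (n + 1). (The source's result is the compactly supported ℓ-adic cohomology of this locus:
one-dimensional of Tate weights n + 4, n + 3, n + 2, n + 1 in degrees 2n + 8, 2n + 7, 2n + 5, 2n + 4
and zero elsewhere; this row keeps only the resulting point count.) -/
theorem result (F : Type u) [Field F] [Fintype F] (n : ℕ) (h2 : 2 ≤ n) :
    Nat.card {p : (Fin 3 → F) × (Fin (n + 1) → F) //
      Polynomial.resultant (∑ i : Fin 3, Polynomial.C (p.1 i) * Polynomial.X ^ (i : ℕ))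
        (∑ j : Fin (n + 1), Polynomial.C (p.2 j) * Polynomial.X ^ (j : ℕ)) 2 n ≠ 0} =
      Fintype.card F ^ (n + 4) - Fintype.card F ^ (n + 3) - Fintype.card F ^ (n + 2) + Fintype.card F ^ (n + 1) := by
  refine (Groth.Agent.H23ResHyp.card_ne_zero_total n h2).trans ?_
  obtain ⟨Q, hQ⟩ : ∃ Q, Fintype.card F = Q + 1 := ⟨_, (Nat.succ_pred_eq_of_pos Fintype.card_pos).symm⟩
  rw [hQ, Nat.add_sub_cancel]
  have hA : (Q + 1) ^ (n + 3) - (Q + 1) ^ (n + 1) = (Q + 1) ^ (n + 1) * (Q * Q + 2 * Q) := by
    rw [Nat.sub_eq_iff_eq_add (Nat.pow_le_pow_right (by omega) (by omega))]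
    ring
  have hB : (Q + 1) ^ (n + 4) - (Q + 1) ^ (n + 3) = (Q + 1) ^ (n + 3) * Q := by
    rw [Nat.sub_eq_iff_eq_add (Nat.pow_le_pow_right (by omega) (by omega))]
    ring
  have hC : (Q + 1) ^ (n + 3) * Q - (Q + 1) ^ (n + 2) = (Q + 1) ^ (n + 3) * Q - (Q + 1) ^ (n + 2) := rfl
  have hle : (Q + 1) ^ (n + 2) ≤ (Q + 1) ^ (n + 3) * Q := by
    rcases Nat.eq_zero_or_pos Q with rfl | hQp
    · exact absurd hQ (Fintype.one_lt_card (α := F)).ne'
    · calc (Q + 1) ^ (n + 2) ≤ (Q + 1) ^ (n + 3) := Nat.pow_le_pow_right (by omega) (by omega)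
        _ ≤ (Q + 1) ^ (n + 3) * Q := Nat.le_mul_of_pos_right _ hQp
  rw [hA, hB]
  zify [hle]
  ring

end Groth.Agent.S18925
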