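import Groth.Statements.S18926
import Groth.Agent.H22Alg.GlobalFunctions
import Groth.Agent.H22Alg.FlatSurj
import Groth.Agent.H16Derived.KFlat.LocalLift
import Groth.Agent.H10Coh.Pn.Results
import Groth.Agent.H18Et.FEtRestrictGamma
import Mathlib

set_option autoImplicit false
universe u
open FinCov

namespace Groth.Agent.S18926

open CategoryTheory CategoryTheory.Limits AlgebraicGeometry TopologicalSpace Opposite

/-- Restriction of functions along a flat surjection is injective on every open. -/
theorem app_injective {X Y : Scheme.{u}} (ρ : X ⟶ Y) [Flat ρ] [Surjective ρ] (V : Y.Opens) :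
    Function.Injective (ρ.app V) := by
  refine (injective_iff_map_eq_zero _).mpr fun a ha => ?_
  refine TopCat.Presheaf.section_ext Y.sheaf V a 0 fun y hy => ?_
  obtain ⟨x, rfl⟩ := ρ.surjective y
  apply Groth.Agent.H22Alg.stalkMap_injective_of_flat ρ x
  change ρ.stalkMap x (Y.presheaf.germ V (ρ x) hy a) = ρ.stalkMap x (Y.presheaf.germ V (ρ x) hy 0)
  rw [Scheme.Hom.germ_stalkMap_apply, Scheme.Hom.germ_stalkMap_apply, ha, map_zero, map_zero, map_zero]

theorem bijective_appTop_of_subsingleton {X Y : Scheme.{u}} (ρ : X ⟶ Y) [Flat ρ] [Surjective ρ]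
    (h0 : Subsingleton (Coh.HH Y (cokernel (ClSub.unitToPush ρ)) 0)) : Function.Bijective ρ.appTop := by
  refine ⟨app_injective ρ ⊤, fun s => ?_⟩
  haveI hmono : Mono (ClSub.unitToPush ρ) := by
    apply (Scheme.Modules.toPresheaf Y).mono_of_mono_map
    haveI : ∀ U, Mono (((Scheme.Modules.toPresheaf Y).map (ClSub.unitToPush ρ)).app U) := fun U =>
      (AddCommGrpCat.mono_iff_injective _).mpr (app_injective ρ U.unop)
    exact NatTrans.mono_of_mono_app _
  haveI : Subsingleton Γ(cokernel (ClSub.unitToPush ρ), ⊤) :=
    (Groth.Agent.H10Coh.HH0Equiv (cokernel (ClSub.unitToPush ρ))).symm.toEquiv.subsingleton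
  let σ := Groth.Agent.H16Derived.KFlat.Stalk.sectHom ((Scheme.Modules.pushforward ρ).obj (Coh.structureModule X)) s
  have hσ : σ ≫ cokernel.π (ClSub.unitToPush ρ) = 0 :=
    Groth.Agent.H16Derived.KFlat.Stalk.unit_hom_ext _ _ (Subsingleton.elim _ _)
  obtain ⟨τ, hτ⟩ := KernelFork.IsLimit.lift' (Abelian.monoIsKernelOfCokernel _ (cokernelIsCokernel (ClSub.unitToPush ρ))) σ hσ
  refine ⟨τ.app ⊤ (1 : Γ(Y, ⊤)), ?_⟩
  have h1 := congrArg (fun φ : Coh.structureModule Y ⟶ (Scheme.Modules.pushforward ρ).obj (Coh.structureModule X) =>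
    φ.app ⊤ (1 : Γ(Y, ⊤))) hτ
  exact h1.trans (Groth.Agent.H16Derived.KFlat.Stalk.sectHom_app_top ((Scheme.Modules.pushforward ρ).obj (Coh.structureModule X)) s)

/-- A qcqs scheme over a field with only constant global functions stays connected over every field extension. -/
theorem geometricallyConnected_of_bijective {k : Type u} [Field k] {X : Scheme.{u}} [Nonempty X]
    (f : X ⟶ Spec (CommRingCat.of k)) [QuasiCompact f] [QuasiSeparated f] (hf : Function.Bijective f.appTop) :
    GeometricallyConnected f := by
  haveI hiso : IsIso f.appTop := (ConcreteCategory.isIso_iff_bijective _).mpr hf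
  haveI : Surjective f := ⟨fun y => ⟨Classical.arbitrary X, Subsingleton.elim (α := PrimeSpectrum k) _ _⟩⟩
  refine ⟨geometrically_iff_of_isClosedUnderIsomorphisms.mpr fun {L} _ q => ?_⟩
  set P := pullback f q
  haveI hne : Nonempty P := by
    have := MorphismProperty.pullback_snd (P := @Surjective) f q inferInstance
    obtain ⟨p, -⟩ := (pullback.snd f q).surjective (IsLocalRing.closedPoint L)
    exact ⟨p⟩
  haveI : CompactSpace X := (quasiCompact_iff_compactSpace f).mp inferInstance
  haveI : QuasiSeparatedSpace X := (quasiSeparated_iff_quasiSeparatedSpace f).mp inferInstance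
  haveI : Flat q := by
    obtain ⟨φ, rfl⟩ := Spec.map_surjective q
    letI : Algebra k L := φ.hom.toAlgebra
    exact Flat.SpecMap_iff.mpr (RingHom.flat_algebraMap_iff.mpr (inferInstance : Module.Flat k L))
  have hpo := (isIso_pushoutSection_iff (IsPullback.of_hasPullback f q) (US := ⊤) (UT := ⊤) (UX := ⊤) (UY := ⊤)
    (by simp) (by simp) (by simp)).mp
    (isIso_pushoutSection_of_isQuasiSeparated_of_flat_right _ (UX := ⊤) _ _ _ (isAffineOpen_top _) (isAffineOpen_top _)
      (by simpa using isCompact_univ) (by simpa using isQuasiSeparated_univ))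
  haveI : IsIso (f.appLE ⊤ ⊤ (by simp)) := by
    simpa [Scheme.Hom.appLE, Scheme.Hom.appTop] using hiso
  have hQ : Function.Bijective ((pullback.snd f q).appLE ⊤ ⊤ (by simp)) := by
    haveI := hpo.isIso_inr_of_isIso
    exact (ConcreteCategory.isIso_iff_bijective _).mp inferInstance
  have hidem : ∀ e : Γ(P, ⊤), IsIdempotentElem e → e = 0 ∨ e = 1 := by
    intro e he
    obtain ⟨c, rfl⟩ := hQ.2 e
    have hc : c * c = c := hQ.1 (by rw [map_mul]; exact he)
    let ε := (Scheme.ΓSpecIso (CommRingCat.of L)).commRingCatIsoToRingEquiv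
    rcases IsIdempotentElem.iff_eq_zero_or_one.mp (show IsIdempotentElem (ε c) by
      rw [IsIdempotentElem, ← map_mul, hc]) with h | h
    · exact Or.inl (by rw [show c = 0 from ε.injective (h.trans (map_zero ε).symm), map_zero])
    · exact Or.inr (by rw [show c = 1 from ε.injective (h.trans (map_one ε).symm), map_one])
  haveI : PreconnectedSpace P := preconnectedSpace_iff_clopen.mpr fun s hs => by
    obtain ⟨e, he, hs'⟩ := Groth.Agent.H18Et.FEtRestrictGamma.exists_idempotent_of_isClopen s hs
    rcases hidem e he with rfl | rfl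
    · exact Or.inl (by rw [← hs']; simp)
    · exact Or.inr (by rw [← hs']; simp)
  exact ⟨inferInstance⟩


open CategoryTheory CategoryTheory.Limits AlgebraicGeometry in
/-- Let k be a field, Y a proper, geometrically connected and geometrically reduced scheme over k, and ρ
: X ⟶ Y a finite, flat and surjective morphism. If the zeroth cohomology group of the cokernel of
the O_Y-module map O_Y ⟶ ρ_* O_X has at most one element, then X is geometrically connected over k.
(The published statement assumes Y projective and takes for X one of the finite locally free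
Gorenstein covers of degree 3, 4 or 5 that it constructs, with the cokernel identified with a dual
vector bundle; this row assumes only that ρ is finite, flat and surjective and that Y is proper.) -/
theorem result
    (k : Type u) [Field k] (X Y : Scheme.{u}) (g : Y ⟶ Spec (CommRingCat.of k)) (ρ : X ⟶ Y)
    [IsProper g] [GeometricallyConnected g] [GeometricallyReduced g]
    [IsFinite ρ] [Flat ρ] [Surjective ρ]
    (h0 : Subsingleton (Coh.HH Y (cokernel (ClSub.unitToPush ρ)) 0)) :
    GeometricallyConnected (ρ ≫ g) := by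
  have hY : ConnectedSpace Y :=
    GeometricallyConnected.geometrically_connectedSpace (f := g) (𝟙 (Spec (CommRingCat.of k))) (𝟙 Y) g (IsPullback.of_horiz_isIso ⟨by simp⟩)
  haveI : AlgebraicGeometry.IsReduced Y :=
    GeometricallyReduced.geometrically_isReduced (f := g) (𝟙 (Spec (CommRingCat.of k))) (𝟙 Y) g (IsPullback.of_horiz_isIso ⟨by simp⟩)
  obtain ⟨y⟩ := hY.toNonempty
  obtain ⟨x, -⟩ := ρ.surjective y
  haveI : Nonempty X := ⟨x⟩
  have hρ := bijective_appTop_of_subsingleton ρ h0
  have hg : Function.Bijective g.appTop := by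
    letI := Groth.Agent.H22Alg.GlobalFunctions.algΓ g
    haveI := Groth.Agent.H22Alg.GlobalFunctions.finite_algΓ g
    have h1 := Groth.Agent.H22Alg.GlobalFunctions.finrank_algΓ_eq_one g
    haveI : Nonempty ((⊤ : Y.Opens) : Scheme.{u}) := ⟨⟨y, trivial⟩⟩
    haveI : Nontrivial Γ(Y, ⊤) := Y.component_nontrivial ⊤
    have hb : Function.Bijective (algebraMap k Γ(Y, ⊤)) := by
      refine ⟨(algebraMap k Γ(Y, ⊤)).injective, ?_⟩
      exact (LinearMap.injective_iff_surjective_of_finrank_eq_finrank (f := Algebra.linearMap k Γ(Y, ⊤))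
        (by rw [h1, Module.finrank_self])).mp (algebraMap k Γ(Y, ⊤)).injective
    have hε : Function.Bijective (Scheme.ΓSpecIso (CommRingCat.of k)).inv :=
      (Scheme.ΓSpecIso (CommRingCat.of k)).symm.commRingCatIsoToRingEquiv.bijective
    exact (Function.Bijective.of_comp_iff _ hε).mp hb
  exact geometricallyConnected_of_bijective (ρ ≫ g) (by
    rw [Scheme.Hom.comp_appTop]
    exact hρ.comp hg)

end Groth.Agent.S18926
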