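import Groth.Statements.S18927
import Mathlib

set_option autoImplicit false
universe u v
open W4c6secantcecovers

namespace Groth.Agent.S18927

open W4c6secantcecovers in
theorem contr_ιMulti_mul (R : Type u) [CommRing R] (r : ℕ) (j : Fin r) :
    ∀ (a : ℕ) (v : Fin a → (Fin r → R)) (η : SSLam R r),
      ssContr R r j (ExteriorAlgebra.ιMulti R a v * η) =
        ssContr R r j (ExteriorAlgebra.ιMulti R a v) * η +
          (-1 : R) ^ a • (ExteriorAlgebra.ιMulti R a v * ssContr R r j η) := by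
  intro a
  induction a with
  | zero =>
    intro v η
    rw [ExteriorAlgebra.ιMulti_zero_apply]
    simp only [ssContr, CliffordAlgebra.contractLeft_one, zero_mul, one_mul, pow_zero, one_smul, zero_add]
  | succ a ih =>
    intro v η
    rw [ExteriorAlgebra.ιMulti_succ_apply, mul_assoc]
    simp only [ssContr] at ih ⊢
    erw [CliffordAlgebra.contractLeft_ι_mul, CliffordAlgebra.contractLeft_ι_mul, ih]
    simp only [sub_mul, mul_add, smul_mul_assoc, mul_smul_comm, mul_assoc, pow_succ, mul_neg_one, neg_smul]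
    abel

theorem ιMulti_eq_zero (R : Type u) [CommRing R] (r a : ℕ) (h : r < a) :
    ExteriorAlgebra.ιMulti R a (M := Fin r → R) = 0 := by
  refine Module.Basis.ext_alternating (Pi.basisFun R (Fin r)) fun c hc => ?_
  have := Fintype.card_le_of_injective c hc
  simp at this; omega


open TensorProduct in
/-- Let R be a commutative ring, E = R^r the free module with its coordinate basis, S = R[X_1, …, X_r]
(the symmetric algebra of E), and N an R-module carrying R-linear operators φ_j (the action of the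
j-th basis vector of E) and an R-bilinear form β with β(φ_j n, m) = β(n, φ_j m) for every j. On (ΛE
⊗ S) ⊗ N — all terms Λ^k(S ⊗ E) ⊗ N of the Scheja–Storch complex at once — let δ be the differential
sending (e_1 ∧ ⋯ ∧ e_k) ⊗ s ⊗ n to Σ_i (-1)^(i-1) (e_1 ∧ ⋯ ê_i ⋯ ∧ e_k) ⊗ x(e_i) s ⊗ n + Σ_i (-1)^i
(e_1 ∧ ⋯ ê_i ⋯ ∧ e_k) ⊗ s ⊗ e_i · n, and pair a term u = ω ⊗ s ⊗ n of degree k with v = η ⊗ t ⊗ m by
⟨u, v⟩_k = (-1)^(k choose 2) β(n, m) · (ω ∧ η) ⊗ s t. Then the differential is adjoint to itself for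
this pairing in complementary degrees: for u = (e_0 ∧ ⋯ ∧ e_k) ⊗ s ⊗ n of degree k + 1 ≤ r and v =
(f_1 ∧ ⋯ ∧ f_(r-k)) ⊗ t ⊗ m of degree r - k, ⟨δ u, v⟩_k = ⟨u, δ v⟩_(k+1). (The source takes E
finitely generated projective and N a module over the ambient algebra with a pairing satisfying ⟨f,
g h⟩ = ⟨g f, h⟩; the proof runs on a basis, which is the form stated here, with the action of E
recorded by the operators φ_j.) -/
theorem result
    (R : Type u) [CommRing R] (r : ℕ) (N : Type v) [AddCommGroup N] [Module R N]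
    (φ : Fin r → (N →ₗ[R] N)) (β : N →ₗ[R] N →ₗ[R] R)
    (hβ : ∀ (j : Fin r) (n m : N), β (φ j n) m = β n (φ j m))
    (k : ℕ) (hk : k < r)
    (e : Fin (k + 1) → (Fin r → R)) (f : Fin (r - k) → (Fin r → R))
    (s t : MvPolynomial (Fin r) R) (n m : N) :
    W4c6secantcecovers.ssPair R r N β k
        (W4c6secantcecovers.ssDelta R r N φ ((ExteriorAlgebra.ιMulti R (k + 1) e ⊗ₜ[R] s) ⊗ₜ[R] n))
        ((ExteriorAlgebra.ιMulti R (r - k) f ⊗ₜ[R] t) ⊗ₜ[R] m) =
      W4c6secantcecovers.ssPair R r N β (k + 1)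
        ((ExteriorAlgebra.ιMulti R (k + 1) e ⊗ₜ[R] s) ⊗ₜ[R] n)
        (W4c6secantcecovers.ssDelta R r N φ ((ExteriorAlgebra.ιMulti R (r - k) f ⊗ₜ[R] t) ⊗ₜ[R] m)) := by
  have hωη : ExteriorAlgebra.ιMulti R (k + 1) e * ExteriorAlgebra.ιMulti R (r - k) f = 0 := by
    rw [ExteriorAlgebra.ιMulti_mul_ιMulti, ιMulti_eq_zero R r _ (by omega), AlternatingMap.zero_apply]
  have hsign : ∀ j, W4c6secantcecovers.ssContr R r j (ExteriorAlgebra.ιMulti R (k + 1) e) *
        ExteriorAlgebra.ιMulti R (r - k) f =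
      (-1 : R) ^ k • (ExteriorAlgebra.ιMulti R (k + 1) e *
        W4c6secantcecovers.ssContr R r j (ExteriorAlgebra.ιMulti R (r - k) f)) := by
    intro j
    have h := contr_ιMulti_mul R r j (k + 1) e (ExteriorAlgebra.ιMulti R (r - k) f)
    rw [hωη, map_zero] at h
    rw [eq_neg_of_add_eq_zero_left h.symm, pow_succ, mul_neg_one, neg_smul, neg_neg]
  have hC : (k + 1).choose 2 = k + k.choose 2 := by
    rw [Nat.choose_succ_succ', Nat.choose_one_right]
  simp only [W4c6secantcecovers.ssPair, W4c6secantcecovers.ssDelta, LinearMap.sum_apply, map_sum,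
    LinearMap.smul_apply, LinearMap.coe_sum, Finset.sum_apply, Finset.smul_sum]
  refine Finset.sum_congr rfl fun j _ => ?_
  simp only [W4c6secantcecovers.ssDKoszul, W4c6secantcecovers.ssDAct, W4c6secantcecovers.ssPairAux,
    LinearMap.add_apply, LinearMap.smul_apply, map_add, map_smul, TensorProduct.map_tmul,
    LinearMap.mulLeft_apply, LinearMap.id_apply, TensorProduct.curry_apply, LinearMap.comp_apply,
    LinearEquiv.coe_coe, TensorProduct.tensorTensorTensorComm_tmul, LinearMap.mul'_apply,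
    Algebra.TensorProduct.tmul_mul_tmul, TensorProduct.lift.tmul, TensorProduct.rid_tmul, hsign,
    hβ, hC, pow_add]
  simp only [← TensorProduct.smul_tmul', smul_add, smul_smul, mul_assoc, mul_comm (MvPolynomial.X j) , mul_left_comm (MvPolynomial.X j)]
  module

end Groth.Agent.S18927
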