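import Groth.Statements.S18928
import Mathlib

set_option autoImplicit false
universe u
open DPow

namespace Groth.Agent.S18928

/-- Let B be a commutative ring, I an ideal of B with a divided power structure, p a prime, r a natural
number, b an element of B and δ an element of I. Then (b + δ)^(p^r) − b^(p^r) lies in the ideal p^r
I. (The source states this for a divided power thickening over the Witt vectors of length n and 0 ≤
r ≤ n; neither restriction is used.) -/
theorem result {B : Type u} [CommRing B] {I : Ideal B}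
    (hI : DividedPowers I) (p : ℕ) [Fact p.Prime] (r : ℕ) (b δ : B) (hδ : δ ∈ I) :
    (b + δ) ^ (p ^ r) - b ^ (p ^ r) ∈ Ideal.span {((p : B) ^ r)} * I := by
  rw [add_comm b δ, add_pow, Finset.sum_range_succ']
  simp only [pow_zero, one_mul, Nat.sub_zero, Nat.choose_zero_right, Nat.cast_one, mul_one,
    add_sub_cancel_right]
  refine Submodule.sum_mem _ fun k hk => ?_
  rw [Finset.mem_range] at hk
  have h1 : (p ^ r).choose (k + 1) * (k + 1).factorial = p ^ r * (p ^ r - 1).descFactorial k := by
    rw [mul_comm, ← Nat.descFactorial_eq_factorial_mul_choose]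
    conv_lhs => rw [show p ^ r = (p ^ r - 1) + 1 by omega, Nat.succ_descFactorial_succ]
    rw [show p ^ r - 1 + 1 = p ^ r by omega]
  have h2 : δ ^ (k + 1) * b ^ (p ^ r - (k + 1)) * ((p ^ r).choose (k + 1) : B) =
      (p : B) ^ r * ((((p ^ r - 1).descFactorial k : ℕ) : B) * b ^ (p ^ r - (k + 1)) *
        hI.dpow (k + 1) δ) := by
    rw [← hI.factorial_mul_dpow_eq_pow hδ]
    have h3 := congrArg (Nat.cast : ℕ → B) h1
    push_cast at h3
    linear_combination (b ^ (p ^ r - (k + 1)) * hI.dpow (k + 1) δ) * h3
  rw [h2]
  exact Ideal.mem_span_singleton_mul.2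
    ⟨_, Ideal.mul_mem_left _ _ (hI.dpow_mem (Nat.succ_ne_zero k) hδ), rfl⟩

end Groth.Agent.S18928
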