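import Groth.Statements.S18930
import Groth.Agent.H27DPow.Theta

set_option autoImplicit false
universe u
open DPow

namespace Groth.Agent.S18930

/-- Let p be a prime, n ≥ 1, B a commutative ring with p^n = 0 and A = B/pB. Let θ : W_n(A) → B be the
ring homomorphism which sends the reduction of a Witt vector (x_0, …, x_{n−1}) over B to Σ_{i<n} p^i
x_i^(p^(n−i)), let J_n be its kernel and let I_n be the set of a in W_n(A) whose zeroth component
satisfies a_0^(p^n) = 0. Then J_n + (p) ⊆ I_n. (In the source B is the ring of global sections of a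
scheme over the Witt vectors of length n of a perfect field.) -/
theorem result (p : ℕ) [Fact p.Prime] (n : ℕ) (hn : 0 < n)
    {B : Type u} [CommRing B] (hp : (p : B) ^ n = 0)
    (θ : TruncatedWittVector p n (B ⧸ (Ideal.span {(p : B)})) →+* B)
    (hθ : ∀ x : WittVector p B, θ (WittVector.truncate n (WittVector.map (Ideal.Quotient.mk (Ideal.span {(p : B)})) x)) =
        ∑ i : Fin n, (p : B) ^ (i : ℕ) * (x.coeff i) ^ (p ^ (n - i)))
    (a : TruncatedWittVector p n (B ⧸ (Ideal.span {(p : B)})))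
    (ha : a ∈ RingHom.ker θ ⊔ Ideal.span {(p : TruncatedWittVector p n (B ⧸ (Ideal.span {(p : B)})))}) :
    (TruncatedWittVector.coeff ⟨0, hn⟩ a) ^ (p ^ n) = 0 := by
  set P : Ideal B := Ideal.span {(p : B)} with hP
  let φ0 : TruncatedWittVector p n (B ⧸ P) →+* B ⧸ P :=
    ((WittVector.truncate n : WittVector p (B ⧸ P) →+* _)).liftOfRightInverse
      (Function.surjInv (WittVector.truncate_surjective p n (B ⧸ P)))
      (Function.rightInverse_surjInv _)
      ⟨WittVector.constantCoeff, fun z hz => by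
        rw [RingHom.mem_ker] at hz ⊢
        have := congrArg (TruncatedWittVector.coeff ⟨0, hn⟩) hz
        rwa [WittVector.coeff_truncate, TruncatedWittVector.coeff_zero] at this⟩
  have hφ0 : ∀ z : WittVector p (B ⧸ P), φ0 (WittVector.truncate n z) = z.coeff 0 := fun z =>
    RingHom.liftOfRightInverse_comp_apply _ _ _ _ z
  have hc : ∀ b, φ0 b = TruncatedWittVector.coeff ⟨0, hn⟩ b := fun b => by
    obtain ⟨z, rfl⟩ := WittVector.truncate_surjective p n (B ⧸ P) b
    rw [hφ0, WittVector.coeff_truncate]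
  obtain ⟨b, hb, c, hcm, rfl⟩ := Submodule.mem_sup.1 ha
  obtain ⟨e, rfl⟩ := Ideal.mem_span_singleton'.1 hcm
  have hp0 : (p : B ⧸ P) = 0 := by
    rw [← map_natCast (Ideal.Quotient.mk P), Ideal.Quotient.eq_zero_iff_mem, hP]
    exact Ideal.mem_span_singleton_self _
  rw [← hc, map_add, map_mul, map_natCast, hp0, mul_zero, add_zero]
  obtain ⟨z, rfl⟩ := WittVector.truncate_surjective p n (B ⧸ P) b
  obtain ⟨x, rfl⟩ := WittVector.map_surjective _ (Ideal.Quotient.mk_surjective (I := P)) z
  rw [hφ0, WittVector.map_coeff, ← map_pow, Ideal.Quotient.eq_zero_iff_mem]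
  rw [RingHom.mem_ker, hθ x] at hb
  obtain ⟨m, rfl⟩ : ∃ m, n = m + 1 := ⟨n - 1, by omega⟩
  rw [Fin.sum_univ_succ] at hb
  simp only [Fin.val_zero, pow_zero, one_mul, Nat.sub_zero, Fin.val_succ] at hb
  rw [eq_neg_of_add_eq_zero_left hb]
  refine neg_mem (Submodule.sum_mem _ fun i _ => ?_)
  exact Ideal.mul_mem_right _ _ (Ideal.pow_mem_of_mem _ (Ideal.mem_span_singleton_self _) _ (Nat.succ_pos _))

end Groth.Agent.S18930
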