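import Groth.Statements.S18931
import Groth.Agent.H27DPow.Theta

set_option autoImplicit false
universe u
open DPow

namespace Groth.Agent.S18931

/-- Let p be a prime, n ≥ 1, B a commutative ring with p^n = 0 and A = B/pB, and assume that the p-th
power map of A is surjective. Let θ : W_n(A) → B be the ring homomorphism which sends the reduction
of a Witt vector (x_0, …, x_{n−1}) over B to Σ_{i<n} p^i x_i^(p^(n−i)). Then every a in W_n(A) with
a_0^(p^n) = 0 lies in ker θ + (p); together with the reverse inclusion, ker θ + (p) is exactly the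
set of such a. (In the source B is the ring of global sections of a scheme over the Witt vectors of
length n of a perfect field. The printed argument subtracts a single correction term, which suffices
for n ≤ 2; in general one corrects the components one at a time.) -/
theorem result (p : ℕ) [Fact p.Prime]
    (n : ℕ) (hn : 0 < n) {B : Type u} [CommRing B] (hp : (p : B) ^ n = 0)
    (hF : Function.Surjective (fun y : B ⧸ (Ideal.span {(p : B)}) => y ^ p))
    (θ : TruncatedWittVector p n (B ⧸ (Ideal.span {(p : B)})) →+* B)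
    (hθ : ∀ x : WittVector p B, θ (WittVector.truncate n (WittVector.map (Ideal.Quotient.mk (Ideal.span {(p : B)})) x)) =
        ∑ i : Fin n, (p : B) ^ (i : ℕ) * (x.coeff i) ^ (p ^ (n - i)))
    (a : TruncatedWittVector p n (B ⧸ (Ideal.span {(p : B)}))) (ha : (TruncatedWittVector.coeff ⟨0, hn⟩ a) ^ (p ^ n) = 0) :
    a ∈ RingHom.ker θ ⊔ Ideal.span {(p : TruncatedWittVector p n (B ⧸ (Ideal.span {(p : B)})))} := by
  classical
  obtain ⟨z, rfl⟩ := WittVector.truncate_surjective p n (B ⧸ Ideal.span {(p : B)}) a
  obtain ⟨x, rfl⟩ := WittVector.map_surjective _ (Ideal.Quotient.mk_surjective (I := Ideal.span {(p : B)})) z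
  rw [WittVector.coeff_truncate, WittVector.map_coeff, ← map_pow, Ideal.Quotient.eq_zero_iff_mem,
    Ideal.mem_span_singleton] at ha
  obtain ⟨s, hs⟩ := ha
  obtain ⟨m, rfl⟩ : ∃ m, n = m + 1 := ⟨n - 1, by omega⟩
  obtain ⟨c, hc⟩ := Groth.Agent.H27DPow.exists_expansion hF (m + 1) 1 m (by omega) (-s)
  rw [hp, Ideal.mem_span_singleton, zero_dvd_iff] at hc
  let y : WittVector p B := WittVector.mk p fun i => if i = 0 then x.coeff 0 else c i
  have hy : θ (WittVector.truncate (m + 1) (WittVector.map (Ideal.Quotient.mk (Ideal.span {(p : B)})) y)) = 0 := by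
    rw [hθ y, Fin.sum_univ_succ]
    simp only [y, WittVector.coeff_mk, Fin.val_zero, if_pos, pow_zero, one_mul, Nat.sub_zero,
      Fin.val_succ, Nat.succ_ne_zero, if_false]
    rw [Finset.sum_range (fun i => (p : B) ^ (1 + i) * c (1 + i) ^ p ^ (m + 1 - (1 + i)))] at hc
    simp only [add_comm 1, pow_one] at hc
    simp only [Fin.val_zero] at hs
    rw [hs]
    linear_combination -hc
  rw [show WittVector.truncate (m + 1) (WittVector.map (Ideal.Quotient.mk (Ideal.span {(p : B)})) x) =
    WittVector.truncate (m + 1) (WittVector.map (Ideal.Quotient.mk (Ideal.span {(p : B)})) y) +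
      WittVector.truncate (m + 1) (WittVector.map (Ideal.Quotient.mk (Ideal.span {(p : B)})) (x - y)) by
    rw [map_sub, map_sub, add_sub_cancel]]
  refine add_mem (Ideal.mem_sup_left hy) (Ideal.mem_sup_right ?_)
  set w := WittVector.map (Ideal.Quotient.mk (Ideal.span {(p : B)})) (x - y) with hw
  have hw0 : w.coeff 0 = 0 := by
    rw [hw, ← WittVector.constantCoeff_apply, map_sub, map_sub, WittVector.constantCoeff_apply,
      WittVector.constantCoeff_apply, WittVector.map_coeff, WittVector.map_coeff]
    simp [y]
  rcases subsingleton_or_nontrivial (B ⧸ Ideal.span {(p : B)}) with hsub | hnt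
  · have : w = 0 := WittVector.ext fun i => Subsingleton.elim _ _
    rw [this, map_zero]
    exact zero_mem _
  haveI : CharP (B ⧸ Ideal.span {(p : B)}) p := by
    obtain ⟨q, hq⟩ := CharP.exists (B ⧸ Ideal.span {(p : B)})
    have h0 : (p : B ⧸ Ideal.span {(p : B)}) = 0 := by
      rw [← map_natCast (Ideal.Quotient.mk (Ideal.span {(p : B)})), Ideal.Quotient.eq_zero_iff_mem]
      exact Ideal.mem_span_singleton_self _
    rcases (Nat.dvd_prime (Fact.out : p.Prime)).1 ((CharP.cast_eq_zero_iff (B ⧸ Ideal.span {(p : B)}) q p).1 h0) with rfl | rfl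
    · exact absurd rfl (CharP.char_ne_one (B ⧸ Ideal.span {(p : B)}) 1)
    · exact hq
  choose g hg using fun i => hF (w.coeff (i + 1))
  have : w = WittVector.mk p g * (p : WittVector p (B ⧸ Ideal.span {(p : B)})) := by
    ext i
    rcases i with _ | i
    · rw [hw0, WittVector.mul_charP_coeff_zero]
    · rw [WittVector.mul_charP_coeff_succ, WittVector.coeff_mk]
      exact (hg i).symm
  rw [this, map_mul, map_natCast]
  exact Ideal.mem_span_singleton'.2 ⟨_, rfl⟩

end Groth.Agent.S18931
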