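import Groth.Statements.S18934
import Mathlib
import Groth.Agent.H9Synt.RootTower
-- import your own Groth.Agent.* helpers here

set_option autoImplicit false
universe u
open Synt

namespace Groth.Agent.S18934

open Polynomial in
/-- Let p be a prime, A a commutative ring and a an element of A. Then the A-algebra A[T]/(T^p − a) is
syntomic and faithfully flat over A. This is the step of the source's proof showing that adjoining a
p-th root of any element is a covering for the syntomic topology. -/
theorem result (p : ℕ) [Fact p.Prime]
    (A : Type u) [CommRing A] (a : A) :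
    Synt.IsSyntomic A (AdjoinRoot (X ^ p - C a)) ∧ Module.FaithfullyFlat A (AdjoinRoot (X ^ p - C a)) := by
  have hP : (X ^ p - C a).Monic := monic_X_pow_sub_C a (Fact.out : p.Prime).ne_zero
  refine ⟨H9Synt.isSyntomic_adjoinRoot hP, ?_⟩
  have := hP.free_adjoinRoot
  have := hP.finite_adjoinRoot
  rcases subsingleton_or_nontrivial A with h | h
  · exact ⟨fun m hm => absurd (Subsingleton.elim m ⊤) hm.ne_top⟩
  · have : Nonempty (Fin (X ^ p - C a).natDegree) := ⟨⟨0, by
      rw [natDegree_X_pow_sub_C]; exact (Fact.out : p.Prime).pos⟩⟩
    have : Nontrivial (AdjoinRoot (X ^ p - C a)) :=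
      (AdjoinRoot.powerBasisAux' hP).repr.toEquiv.nontrivial
    infer_instance

end Groth.Agent.S18934
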