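import Groth.Statements.S18939
import Groth.Agent.H29Slice.KoszulReg
import Groth.Agent.H29Slice.H1Quasi
import Groth.Agent.H06QR.Basic

set_option autoImplicit false
universe u
open LCI

namespace Groth.Agent.S18939

/-- Let R be a commutative ring, I a proper ideal of R and f_1, …, f_r a Koszul-regular sequence of
elements of I generating I. Then I/I² is a free R/I-module of rank r, with basis the classes of f_1,
…, f_r. -/
theorem result {R : Type u} [CommRing R] {I : Ideal R} (hI : I ≠ ⊤)
    (r : ℕ) (f : Fin r → I) (hf : LCI.IsKoszulRegularSeq R (List.ofFn (fun i => (f i : R))))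
    (hfI : Ideal.span (Set.range (fun i => (f i : R))) = I) :
    ∃ b : Module.Basis (Fin r) (R ⧸ I) I.Cotangent, ∀ i, b i = I.toCotangent (f i) := by
  have h1 := H29Slice.isH1Regular_of_isKoszulRegular hf
  have hq0 := H29Slice.isQuasiRegular_of_isH1Regular h1
  have hcast : ∀ {m n : ℕ} (e : m = n) (g : Fin m → R), CAlgX.IsQuasiRegular g →
      CAlgX.IsQuasiRegular (fun i : Fin n => g (Fin.cast e.symm i)) := by
    intro m n e g hg
    subst e
    exact hg
  have hq : CAlgX.IsQuasiRegular (fun i => (f i : R)) := by
    have h := hcast (List.length_ofFn) _ hq0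
    simpa using h
  obtain ⟨hli, hspan⟩ := H06QR.cotangent_basis hq hfI f fun i => rfl
  exact ⟨Module.Basis.mk hli hspan.ge, fun i => Module.Basis.mk_apply _ _ i⟩

end Groth.Agent.S18939
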