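import Groth.Statements.S18935
import Groth.Agent.S18939
import Groth.Agent.H8Props.KoszImm.Ring

set_option autoImplicit false
universe u
open LCI

namespace Groth.Agent.S18935

/-- Let R be a commutative ring and I a proper ideal of R which is generated by some Koszul-regular
sequence. A finite sequence f of generators of I is Koszul-regular if and only if f has the smallest
possible length among all finite generating sequences of I. (Properness of I is needed: the
sequences (1) and (1, 1) are both Koszul-regular and generate the unit ideal.) -/
theorem result {R : Type u} [CommRing R] {I : Ideal R} (hI : I ≠ ⊤)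
    (g : List R) (hg : LCI.IsKoszulRegularSeq R g) (hgI : Ideal.ofList g = I)
    (f : List R) (hfI : Ideal.ofList f = I) :
    LCI.IsKoszulRegularSeq R f ↔ ∀ h : List R, Ideal.ofList h = I → f.length ≤ h.length := by
  constructor
  · intro hf h hh
    classical
    have hfn : List.ofFn f.get = f := List.ofFn_get f
    let F : Fin f.length → I := fun i => ⟨f.get i, hfI.le (Ideal.subset_span (List.get_mem f i))⟩
    have hrange : Ideal.span (Set.range fun i => (F i : R)) = I := by
      conv_rhs => rw [← hfI, Ideal.ofList]
      congr 1
      exact Set.range_list_get f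
    obtain ⟨b, -⟩ := S18939.result hI f.length F (by simpa [F, hfn] using hf) hrange
    let v : Fin h.length → I.Cotangent := fun i => I.toCotangent ⟨h.get i, hh.le (Ideal.subset_span (List.get_mem h i))⟩
    have htop : ⊤ ≤ Submodule.span (R ⧸ I) (Set.range v) := by
      intro c _
      obtain ⟨⟨x, hx⟩, rfl⟩ := I.toCotangent_surjective c
      have hx' : x ∈ Submodule.span R (Set.range h.get) := by
        rw [Set.range_list_get]; exact hh.ge hx
      obtain ⟨a, ha⟩ := (Submodule.mem_span_range_iff_exists_fun R).1 hx'
      have : (⟨x, hx⟩ : I) = ∑ i, a i • (⟨h.get i, hh.le (Ideal.subset_span (List.get_mem h i))⟩ : I) := by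
        apply Subtype.ext
        rw [Submodule.coe_sum]
        exact ha.symm
      rw [this, map_sum]
      refine sum_mem fun i _ => ?_
      rw [map_smul, ← algebraMap_smul (R ⧸ I) (a i)]
      exact Submodule.smul_mem _ _ (Submodule.subset_span ⟨i, rfl⟩)
    haveI : Nontrivial (R ⧸ I) := Ideal.Quotient.nontrivial_iff.2 hI
    have h1 := finrank_range_le_card (R := R ⧸ I) v
    rw [Set.finrank, top_le_iff.1 htop, finrank_top, Module.finrank_eq_card_basis b] at h1
    simpa using h1
  · intro h
    exact H8Props.KoszImm.reg_transfer hg (hgI.trans hfI.symm) (h g hgI)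

end Groth.Agent.S18935
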