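import Groth.Statements.S18936
import Mathlib.Algebra.Order.Ring.Star
import Mathlib.Combinatorics.Nullstellensatz
import Mathlib.Data.Rat.Star
import Mathlib.FieldTheory.Finite.Basic
import Mathlib.LinearAlgebra.BilinearForm.Properties
import Mathlib.RepresentationTheory.Invariants
import Mathlib.RingTheory.Flat.TorsionFree
import Mathlib.RingTheory.Henselian
import Mathlib.RingTheory.Ideal.AssociatedPrime.Basic
import Mathlib.RingTheory.RegularLocalRing.Defs
import Mathlib.RingTheory.SimpleRing.Principal

set_option autoImplicit false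
universe u
open CAlg

namespace Groth.Agent.S18936

/-- Let A be a Noetherian commutative ring, q a prime ideal of A and f an element of A whose image in
the localization A_q is a non-zero-divisor. Then there is an element b of A not in q such that the
image of f in A[1/b] is a non-zero-divisor. -/
theorem result {A : Type u} [CommRing A] [IsNoetherianRing A]
    (q : Ideal A) [q.IsPrime] (f : A)
    (hf : algebraMap A (Localization.AtPrime q) f ∈ nonZeroDivisors (Localization.AtPrime q)) :
    ∃ b : A, b ∉ q ∧ algebraMap A (Localization.Away b) f ∈ nonZeroDivisors (Localization.Away b) := by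
  classical
  obtain ⟨S, hS⟩ := IsNoetherian.noetherian (LinearMap.ker (LinearMap.mulLeft A f))
  have h1 : ∀ k ∈ S, ∃ s : q.primeCompl, (s : A) * k = 0 := by
    intro k hk
    have hk' : f * k = 0 := by
      have : k ∈ LinearMap.ker (LinearMap.mulLeft A f) := hS ▸ Submodule.subset_span hk
      simpa using this
    apply (IsLocalization.map_eq_zero_iff q.primeCompl (Localization.AtPrime q) k).mp
    exact (mem_nonZeroDivisors_iff_right.mp hf) _ (by rw [← map_mul, mul_comm, hk', map_zero])
  choose! s hs using h1
  let b : q.primeCompl := ∏ k ∈ S, s k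
  refine ⟨b, b.2, ?_⟩
  have hb : ∀ x, f * x = 0 → (b : A) * x = 0 := by
    intro x hx
    have hx' : x ∈ Submodule.span A (S : Set A) := hS ▸ (by simpa using hx : x ∈ LinearMap.ker (LinearMap.mulLeft A f))
    induction hx' using Submodule.span_induction with
    | mem k hk =>
      obtain ⟨c, hc⟩ := Finset.dvd_prod_of_mem s hk
      simp only [b, hc, Submonoid.coe_mul, mul_right_comm _ (c : A) k, hs k hk, zero_mul]
    | zero => simp
    | add u v hu hv hu' hv' =>
      have h2 : ∀ w, w ∈ Submodule.span A (S : Set A) → f * w = 0 := fun w hw => by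
        rw [show Submodule.span A (S : Set A) = LinearMap.ker (LinearMap.mulLeft A f) from hS] at hw
        simpa using hw
      rw [mul_add, hu' (h2 u hu), hv' (h2 v hv), add_zero]
    | smul r u hu hu' =>
      have h2 : f * u = 0 := by
        rw [show Submodule.span A (S : Set A) = LinearMap.ker (LinearMap.mulLeft A f) from hS] at hu
        simpa using hu
      rw [smul_eq_mul, mul_left_comm, hu' h2, mul_zero]
  rw [mem_nonZeroDivisors_iff_right]
  intro z hz
  obtain ⟨x, ⟨t, ht⟩, rfl⟩ := IsLocalization.exists_mk'_eq (Submonoid.powers (b : A)) z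
  rw [IsLocalization.mk'_eq_zero_iff]
  rw [mul_comm, IsLocalization.mul_mk'_eq_mk'_of_mul, IsLocalization.mk'_eq_zero_iff] at hz
  obtain ⟨⟨c, hc⟩, hcz⟩ := hz
  refine ⟨⟨(b : A) * c, mul_mem (Submonoid.mem_powers _) hc⟩, ?_⟩
  rw [mul_assoc]
  apply hb
  rw [← hcz]; ring

end Groth.Agent.S18936
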