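import Groth.Statements.S18937
import Groth.Agent.H17.RegPres.Chart
-- import your own Groth.Agent.* helpers here

set_option autoImplicit false
universe u
open CategoryTheory AlgebraicGeometry
open RegImm

namespace Groth.Agent.S18937

/-- Let A be a Noetherian commutative ring, n a natural number, I an ideal of the polynomial ring A[X_1,
…, X_n] and B = A[X_1, …, X_n]/I, and assume that the closed immersion Spec B → Spec A[X_1, …, X_n]
is a regular immersion (kind: successive non-zero-divisors). Then Spec B is covered by basic opens
D(g) with B[1/g] isomorphic, as an A-algebra, to a quotient A[X_0, …, X_n]/(P_1, …, P_d) of the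
polynomial ring in one more variable by a regular sequence P_1, …, P_d. -/
theorem result
    (A : Type u) [CommRing A] [IsNoetherianRing A] (n : ℕ) (I : Ideal (MvPolynomial (Fin n) A))
    (h : RegImm.IsRegularImmersion RegImm.Kind.regular
      (Spec.map (CommRingCat.ofHom (Ideal.Quotient.mk I))))
    (q : PrimeSpectrum (MvPolynomial (Fin n) A ⧸ I)) :
    ∃ g : MvPolynomial (Fin n) A ⧸ I, g ∉ q.asIdeal ∧
      ∃ (d : ℕ) (P : Fin d → MvPolynomial (Fin (n + 1)) A),
        RingTheory.Sequence.IsRegular (MvPolynomial (Fin (n + 1)) A) (List.ofFn P) ∧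
        Nonempty (Localization.Away g ≃ₐ[A] (MvPolynomial (Fin (n + 1)) A ⧸ Ideal.ofList (List.ofFn P))) := by
  exact Groth.Agent.H17.RegPres.exists_presentation_chart A n I h q

end Groth.Agent.S18937
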