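import Groth.Statements.S18938
import Groth.Agent.H9CI.Syntomic
-- import your own Groth.Agent.* helpers here

set_option autoImplicit false
universe u
open Synt

namespace Groth.Agent.S18938

/-- Moving the last variable of a polynomial ring out. -/
noncomputable def lastVarEquiv (A : Type u) [CommRing A] (n : ℕ) :
    Polynomial (MvPolynomial (Fin n) A) ≃ₐ[A] MvPolynomial (Fin (n + 1)) A :=
  (MvPolynomial.finSuccEquiv A n).symm.trans
    (MvPolynomial.renameEquiv A ((_root_.finSuccEquiv n).trans (_root_.finSuccEquivLast).symm))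

theorem lastVarEquiv_X (A : Type u) [CommRing A] (n : ℕ) :
    lastVarEquiv A n Polynomial.X = MvPolynomial.X (Fin.last n) := by
  have h : (MvPolynomial.finSuccEquiv A n).symm Polynomial.X = MvPolynomial.X 0 := by
    rw [AlgEquiv.symm_apply_eq, MvPolynomial.finSuccEquiv_X_zero]
  simp [lastVarEquiv, h]

theorem lastVarEquiv_C (A : Type u) [CommRing A] (n : ℕ) (z : MvPolynomial (Fin n) A) :
    lastVarEquiv A n (Polynomial.C z) = MvPolynomial.rename Fin.castSucc z := by
  refine DFunLike.congr_fun (show ((lastVarEquiv A n).toAlgHom.comp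
    (IsScalarTower.toAlgHom A (MvPolynomial (Fin n) A) (Polynomial (MvPolynomial (Fin n) A)))) =
      MvPolynomial.rename Fin.castSucc from MvPolynomial.algHom_ext fun i => ?_) z
  have h : (MvPolynomial.finSuccEquiv A n).symm (Polynomial.C (MvPolynomial.X i)) = MvPolynomial.X i.succ := by
    rw [AlgEquiv.symm_apply_eq, MvPolynomial.finSuccEquiv_X_succ]
  simp [lastVarEquiv, h]

/-- Weakly regular sequences transport along ring isomorphisms. -/
theorem isWeaklyRegular_map {X : Type u} {Y : Type u} [CommRing X] [CommRing Y] (e : X ≃+* Y) {rs : List X}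
    (h : RingTheory.Sequence.IsWeaklyRegular X rs) : RingTheory.Sequence.IsWeaklyRegular Y (rs.map e) :=
  (AddEquiv.isWeaklyRegular_congr (e := e.toAddEquiv)
    (List.forall₂_map_right_iff.mpr (List.forall₂_same.mpr fun x _ y => map_mul e x y))).mp h

open RingTheory.Sequence Polynomial Pointwise in
/-- Adjoining the inverse of `b` as the first equation. -/
theorem exists_regular {A : Type u} [CommRing A] {B : Type u} [CommRing B] [Algebra A B]
    {q : Ideal B} [q.IsPrime] {g : B} (hg : g ∉ q) {n c : ℕ} (F : Fin c → MvPolynomial (Fin n) A)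
    (b : MvPolynomial (Fin n) A)
    (hL : IsWeaklyRegular (Localization.Away b)
      ((List.ofFn F).map (algebraMap (MvPolynomial (Fin n) A) (Localization.Away b))))
    (e : Localization.Away g ≃ₐ[A] Synt.RelGCIRing A (n + 1) (c + 1) (H9CI.awayEqs F b)) :
    ∃ g : B, g ∉ q ∧
      ∃ (n d : ℕ) (P : Fin d → MvPolynomial (Fin n) A),
        RingTheory.Sequence.IsRegular (MvPolynomial (Fin n) A) (List.ofFn P) ∧
        Nonempty (Localization.Away g ≃ₐ[A] (MvPolynomial (Fin n) A ⧸ Ideal.ofList (List.ofFn P))) := by
  let P₀ := MvPolynomial (Fin n) A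
  let r : Polynomial P₀ := Polynomial.C b * Polynomial.X - 1
  let E := lastVarEquiv A n
  let P : Fin (c + 1) → MvPolynomial (Fin (n + 1)) A :=
    Fin.cons (MvPolynomial.rename Fin.castSucc b * MvPolynomial.X (Fin.last n) - 1)
      fun i => MvPolynomial.rename Fin.castSucc (F i)
  have hP : List.ofFn P = (r :: (List.ofFn F).map (algebraMap P₀ (Polynomial P₀))).map E := by
    simp only [P, List.ofFn_cons, List.map_cons, List.map_map, List.map_ofFn, r, map_sub, map_mul, map_one,
      E, lastVarEquiv_X, lastVarEquiv_C]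
    congr 2
    funext i
    exact (lastVarEquiv_C A n (F i)).symm
  have hset : Ideal.ofList (List.ofFn P) = Ideal.span (Set.range (H9CI.awayEqs F b)) := by
    show Ideal.span {x | x ∈ List.ofFn P} = _
    congr 1
    ext x
    rw [Set.mem_ofPred_eq, List.mem_ofFn]
    show x ∈ Set.range P ↔ _
    rw [show P = Fin.cons _ _ from rfl, Fin.range_cons, H9CI.awayEqs, Fin.range_snoc]
  haveI : Nontrivial (Localization.Away g) := by
    refine ⟨⟨0, 1, fun h01 => ?_⟩⟩
    have : Subsingleton (Localization.Away g) := subsingleton_of_zero_eq_one h01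
    obtain ⟨⟨_, i, rfl⟩, hi⟩ := (IsLocalization.mk'_eq_zero_iff (S := Localization.Away g) (1 : B)
      (1 : Submonoid.powers g)).mp (Subsingleton.elim _ _)
    rw [mul_one] at hi
    exact hg (‹q.IsPrime›.mem_of_pow_mem i ((show g ^ i = 0 from hi) ▸ q.zero_mem))
  refine ⟨g, hg, n + 1, c + 1, P, ⟨?_, ?_⟩, ⟨e.trans (Ideal.quotientEquivAlgOfEq A hset.symm)⟩⟩
  · have hreg : IsSMulRegular (Polynomial P₀) r := by
      have hnzd : r ∈ nonZeroDivisors (Polynomial P₀) := by
        by_contra hr
        obtain ⟨a, ha, har⟩ := Polynomial.notMem_nonZeroDivisors_iff.mp hr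
        refine ha ?_
        have := congrArg (fun p => p.coeff 0) har
        simp [r] at this
        exact neg_eq_zero.mp ((mul_neg_one a).symm.trans this)
      exact fun x y hxy => (mul_cancel_left_mem_nonZeroDivisors hnzd).mp hxy
    have heq : (r • (⊤ : Submodule (Polynomial P₀) (Polynomial P₀))) = Ideal.span {r} := by
      rw [← Submodule.ideal_span_singleton_smul, smul_eq_mul, Ideal.mul_top]
    let e₁ : QuotSMulTop r (Polynomial P₀) ≃ₗ[P₀] Polynomial P₀ ⧸ Ideal.span {r} :=
      (Submodule.quotEquivOfEq _ _ heq).restrictScalars P₀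
    let e₂ : (Polynomial P₀ ⧸ Ideal.span {r}) ≃ₗ[P₀] Localization.Away b :=
      (Localization.awayEquivAdjoin b).symm.toLinearEquiv
    have h1 : IsWeaklyRegular (Localization.Away b) (List.ofFn F) :=
      (isWeaklyRegular_map_algebraMap_iff _ (Localization.Away b) _).mp hL
    have h2 : IsWeaklyRegular (QuotSMulTop r (Polynomial P₀)) (List.ofFn F) :=
      ((e₁.trans e₂).isWeaklyRegular_congr _).mpr h1
    have h3 : IsWeaklyRegular (Polynomial P₀) (r :: (List.ofFn F).map (algebraMap P₀ (Polynomial P₀))) :=
      IsWeaklyRegular.cons hreg ((isWeaklyRegular_map_algebraMap_iff _ (QuotSMulTop r (Polynomial P₀)) _).mpr h2)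
    have h4 := isWeaklyRegular_map E.toRingEquiv h3
    rw [hP]
    exact h4
  · rw [smul_eq_mul, Ideal.mul_top, hset]
    intro htop
    have : Subsingleton (Synt.RelGCIRing A (n + 1) (c + 1) (H9CI.awayEqs F b)) :=
      Ideal.Quotient.subsingleton_iff.mpr htop.symm
    haveI := e.toEquiv.subsingleton
    exact false_of_nontrivial_of_subsingleton (Localization.Away g)

/-- Let A be a Noetherian commutative ring and B a syntomic A-algebra. Then Spec B is covered by basic
opens D(g) with B[1/g] isomorphic, as an A-algebra, to A[T_1, …, T_n]/(P_1, …, P_d) for a regular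
sequence P_1, …, P_d (successive non-zero-divisors with nonzero last quotient) in the polynomial
ring A[T_1, …, T_n]. (The source states this for a syntomic scheme over Spec A, syntomic meaning
flat, locally of finite presentation and locally a Koszul-regular immersion into a smooth scheme;
here syntomic is the ring-map notion with local complete intersection fibres, which agrees with it.) -/
theorem result
    (A : Type u) [CommRing A] [IsNoetherianRing A] (B : Type u) [CommRing B] [Algebra A B]
    (h : Synt.IsSyntomic A B) (q : PrimeSpectrum B) :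
    ∃ g : B, g ∉ q.asIdeal ∧
      ∃ (n d : ℕ) (P : Fin d → MvPolynomial (Fin n) A),
        RingTheory.Sequence.IsRegular (MvPolynomial (Fin n) A) (List.ofFn P) ∧
        Nonempty (Localization.Away g ≃ₐ[A] (MvPolynomial (Fin n) A ⧸ Ideal.ofList (List.ofFn P))) := by
  classical
  obtain ⟨g, hg, n, c, F, hF, ⟨e⟩⟩ := H9CI.exists_isRelGCI_away_of_isSyntomic h q.asIdeal
  let T := Localization.Away g
  have hdisj : Disjoint (Submonoid.powers g : Set B) (q.asIdeal : Set B) := by
    rw [Set.disjoint_left]
    rintro _ ⟨i, rfl⟩ he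
    exact hg (q.isPrime.mem_of_pow_mem i he)
  haveI := IsLocalization.isPrime_of_isPrime_disjoint (Submonoid.powers g) T q.asIdeal q.isPrime hdisj
  have hc := IsLocalization.under_map_of_isPrime_disjoint (Submonoid.powers g) T q.isPrime hdisj
  change Ideal.comap _ _ = _ at hc
  set q' := q.asIdeal.map (algebraMap B T)
  let K := Ideal.span (Set.range F)
  let q₀ : Ideal (MvPolynomial (Fin n) A) := (q'.comap e.symm.toAlgHom.toRingHom).comap (Ideal.Quotient.mk K)
  have hq₀ : ∀ i, F i ∈ q₀ := fun i => by
    show e.symm (Ideal.Quotient.mk K (F i)) ∈ q'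
    rw [Ideal.Quotient.eq_zero_iff_mem.mpr (Ideal.subset_span ⟨i, rfl⟩ : F i ∈ K), map_zero]
    exact zero_mem _
  obtain ⟨b, hb, hL⟩ := H9CI.exists_transRegular F hF ⟨q₀, Ideal.IsPrime.comap _⟩ hq₀
  replace hL := (hL (Localization.Away b)).1
  let g' := e.symm (Ideal.Quotient.mk K b)
  obtain ⟨a, ⟨_, i, rfl⟩, ha⟩ := IsLocalization.exists_mk'_eq (Submonoid.powers g) g'
  have hg' : g' ∉ q' := hb
  have hgaq : g * a ∉ q.asIdeal := fun h => by
    refine (q.isPrime.mem_or_mem h).elim hg fun ha' => hg' ?_
    rw [← hc] at ha'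
    rw [← ha, IsLocalization.mk'_eq_mul_mk'_one]
    exact Ideal.mul_mem_right _ _ ha'
  have hassoc : Associated g' (algebraMap B T a) := ⟨(IsLocalization.map_units T (⟨g ^ i, i, rfl⟩ : Submonoid.powers g)).unit,
    by rw [IsUnit.unit_spec, ← ha]; exact IsLocalization.mk'_spec T a _⟩
  haveI : IsLocalization.Away (algebraMap B T a) (Localization.Away g') := IsLocalization.Away.of_associated hassoc
  haveI : IsLocalization.Away (g * a) (Localization.Away g') :=
    mul_comm a g ▸ IsLocalization.Away.mul T (Localization.Away g') g a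
  obtain ⟨e'⟩ := H9CI.nonempty_algEquiv_awayEqs F b
  letI : Algebra T (Localization.Away (Ideal.Quotient.mk K b)) :=
    ((algebraMap _ (Localization.Away (Ideal.Quotient.mk K b))).comp e.toAlgHom.toRingHom).toAlgebra
  haveI : IsScalarTower A T (Localization.Away (Ideal.Quotient.mk K b)) :=
    IsScalarTower.of_algebraMap_eq (R := A) (S := T) (A := Localization.Away (Ideal.Quotient.mk K b)) fun r => by
      show _ = algebraMap _ (Localization.Away (Ideal.Quotient.mk K b)) (e (algebraMap A T r))
      rw [e.commutes, ← IsScalarTower.algebraMap_apply]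
  haveI : IsLocalization.Away g' (Localization.Away (Ideal.Quotient.mk K b)) := by
    have h1 := IsLocalization.isLocalization_of_base_ringEquiv (Submonoid.powers (Ideal.Quotient.mk K b))
      (Localization.Away (Ideal.Quotient.mk K b)) e.symm.toRingEquiv
    rw [Submonoid.map_powers] at h1
    exact h1
  let e₁ := ((IsLocalization.algEquiv (Submonoid.powers (g * a)) (Localization.Away (g * a)) (Localization.Away g')).restrictScalars A).trans
    ((IsLocalization.algEquiv (Submonoid.powers g') (Localization.Away g')
      (Localization.Away (Ideal.Quotient.mk K b))).restrictScalars A)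
  exact exists_regular hgaq F b hL (e₁.trans e')

end Groth.Agent.S18938
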