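import Groth.Statements.S18942
import Mathlib.RingTheory.WittVector.TeichmullerSeries
import Mathlib.NumberTheory.Basic

set_option autoImplicit false
universe u
open DPow

namespace Groth.Agent.S18942

/-- Let p be a prime, k a perfect field of characteristic p, n a natural number and x an element of
W_n(k), written here as the truncation of a Witt vector x over k. For any Witt vectors y_0, …,
y_{n−1} over k lifting the components of x under the map y ↦ (y_0)^(p^n) (that is, (y_i)_0^(p^n) =
x_i), one has x = Σ_{i<n} p^i y_i^(p^(n−i)) in W_n(k). -/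
theorem result (p : ℕ) [Fact p.Prime]
    (k : Type u) [Field k] [CharP k p] [PerfectRing k p] (n : ℕ) (x : WittVector p k)
    (y : Fin n → WittVector p k) (hy : ∀ i : Fin n, ((y i).coeff 0) ^ (p ^ n) = x.coeff i) :
    WittVector.truncate n x =
      WittVector.truncate n (∑ i : Fin n, (p : WittVector p k) ^ (i : ℕ) * (y i) ^ (p ^ (n - i))) := by
  rw [← sub_eq_zero, ← map_sub, ← RingHom.mem_ker, WittVector.mem_ker_truncate]
  suffices h : (p : WittVector p k) ^ n ∣
      x - ∑ i : Fin n, (p : WittVector p k) ^ (i : ℕ) * (y i) ^ (p ^ (n - (i : ℕ))) by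
    rw [← Ideal.mem_span_singleton, WittVector.mem_span_p_pow_iff_le_coeff_eq_zero] at h
    exact h
  rcases Nat.eq_zero_or_pos n with rfl | hn
  · simp
  obtain ⟨m, rfl⟩ : ∃ m, n = m + 1 := ⟨n - 1, by omega⟩
  have h1 := WittVector.dvd_sub_sum_teichmuller_iterateFrobeniusEquiv_coeff x m
  have hfr : ∀ (i : ℕ) (z : k), ((frobeniusEquiv k p).symm ^ i) (z ^ p ^ i) = z := by
    intro i
    induction i with
    | zero => intro z; simp
    | succ i ih =>
      intro z
      rw [pow_succ (frobeniusEquiv k p).symm, RingAut.mul_apply, pow_succ p, pow_mul,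
        frobeniusEquiv_symm_pow]
      exact ih z
  have h2 : (p : WittVector p k) ^ (m + 1) ∣
      ∑ i ∈ Finset.Iic m, WittVector.teichmuller p (((frobeniusEquiv k p).symm ^ i) (x.coeff i)) *
        (p : WittVector p k) ^ i -
      ∑ i : Fin (m + 1), (p : WittVector p k) ^ (i : ℕ) * (y i) ^ (p ^ (m + 1 - (i : ℕ))) := by
    rw [show Finset.Iic m = Finset.range (m + 1) by ext; simp, Finset.sum_range,
      ← Finset.sum_sub_distrib]
    refine Finset.dvd_sum fun i _ => ?_
    set t := WittVector.teichmuller p ((y i).coeff 0)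
    have hd : (p : WittVector p k) ∣ t - y i := by
      rw [← Ideal.mem_span_singleton, WittVector.mem_span_p_iff_coeff_zero_eq_zero,
        ← WittVector.constantCoeff_apply, map_sub, WittVector.constantCoeff_apply,
        WittVector.constantCoeff_apply, WittVector.teichmuller_coeff_zero, sub_self]
    have h3 := dvd_sub_pow_of_dvd_sub hd (m + 1 - (i : ℕ))
    have h4 : WittVector.teichmuller p (((frobeniusEquiv k p).symm ^ (i : ℕ)) (x.coeff i)) =
        t ^ (p ^ (m + 1 - (i : ℕ))) := by
      rw [← map_pow]
      congr 1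
      rw [← hy i, show p ^ (m + 1) = p ^ (m + 1 - (i : ℕ)) * p ^ (i : ℕ) by
        rw [← pow_add, Nat.sub_add_cancel (le_of_lt i.isLt)], pow_mul]
      exact hfr _ _
    rw [h4, mul_comm (t ^ _), ← mul_sub]
    calc (p : WittVector p k) ^ (m + 1)
        = (p : WittVector p k) ^ (i : ℕ) * (p : WittVector p k) ^ (m + 1 - (i : ℕ)) := by
          rw [← pow_add]; congr 1; omega
      _ ∣ _ := mul_dvd_mul_left _ (dvd_trans (pow_dvd_pow _ (by omega)) h3)
  convert dvd_add h1 h2 using 1
  ring

end Groth.Agent.S18942
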