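import Groth.Statements.S18943
import Mathlib.Analysis.Calculus.ParametricIntervalIntegral
import Mathlib.Analysis.Calculus.ContDiff.Deriv
import Mathlib.MeasureTheory.Integral.IntervalIntegral.FundThmCalculus
import Mathlib.Tactic

set_option autoImplicit false
open scoped ContDiff
open CInfGerm

namespace Groth.Agent.S18943

open MeasureTheory in
theorem hasDerivAt_G (k : ℕ) (h : ℝ → ℝ) (hh : ContDiff ℝ ∞ h) (x₀ : ℝ) :
    HasDerivAt (fun x => ∫ t in (0:ℝ)..1, t ^ k * h (t * x))
      (∫ t in (0:ℝ)..1, t ^ (k + 1) * deriv h (t * x₀)) x₀ := by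
  have hc : Continuous h := hh.continuous
  have hc' : Continuous (deriv h) := (contDiff_infty_iff_deriv.mp hh).2.continuous
  have hd : Differentiable ℝ h := (contDiff_infty_iff_deriv.mp hh).1
  obtain ⟨C, hC⟩ := ((isCompact_Icc (a := (0:ℝ)) (b := 1)).prod
    (isCompact_closedBall x₀ 1)).exists_bound_of_continuousOn
      (f := fun p : ℝ × ℝ => p.1 ^ (k + 1) * deriv h (p.1 * p.2)) (by fun_prop)
  refine (intervalIntegral.hasDerivAt_integral_of_dominated_loc_of_deriv_le (μ := volume) (s := Metric.closedBall x₀ 1)
    (F' := fun x t => t ^ (k + 1) * deriv h (t * x)) (bound := fun _ => C)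
    (Metric.closedBall_mem_nhds _ one_pos) ?_ ?_ ?_ ?_ ?_ ?_).2
  · exact Filter.Eventually.of_forall fun x => (by fun_prop : Continuous _).aestronglyMeasurable
  · exact (by fun_prop : Continuous fun t : ℝ => t ^ k * h (t * x₀)).intervalIntegrable _ _
  · exact (by fun_prop : Continuous fun t : ℝ => t ^ (k+1) * deriv h (t * x₀)).aestronglyMeasurable
  · refine Filter.Eventually.of_forall fun t ht x hx => hC (t, x) ⟨?_, hx⟩
    rw [Set.uIoc_of_le zero_le_one] at ht
    exact Set.Ioc_subset_Icc_self ht
  · exact _root_.intervalIntegrable_const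
  · refine Filter.Eventually.of_forall fun t _ x _ => ?_
    have := (((hd (t * x)).hasDerivAt).comp x ((hasDerivAt_id x).const_mul t)).const_mul (t ^ k)
    exact this.congr_deriv (by ring)

theorem contDiff_G : ∀ (n : ℕ) (k : ℕ) (h : ℝ → ℝ), ContDiff ℝ ∞ h →
    ContDiff ℝ n (fun x => ∫ t in (0:ℝ)..1, t ^ k * h (t * x)) := by
  intro n
  induction n with
  | zero =>
    intro k h hh
    exact contDiff_zero.mpr (Differentiable.continuous fun x => (hasDerivAt_G k h hh x).differentiableAt)
  | succ n ih =>
    intro k h hh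
    rw [Nat.cast_add, Nat.cast_one, contDiff_succ_iff_deriv]
    refine ⟨fun x => (hasDerivAt_G k h hh x).differentiableAt, by simp, ?_⟩
    have : deriv (fun x => ∫ t in (0:ℝ)..1, t ^ k * h (t * x))
        = fun x => ∫ t in (0:ℝ)..1, t ^ (k+1) * deriv h (t * x) :=
      funext fun x => (hasDerivAt_G k h hh x).deriv
    rw [this]
    exact ih _ _ (contDiff_infty_iff_deriv.mp hh).2

/-- Let f be an infinitely differentiable real-valued function on the real line with f(0) = 0. Then f(x)
= x·g(x) for an infinitely differentiable function g. (The source phrases this for germs at 0: the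
maximal ideal of the local ring of germs of smooth functions at the origin is generated by the
coordinate t; the global form stated here is what its argument, smooth extension of f(x)/x across 0,
gives.) -/
theorem result (f : ℝ → ℝ) (hf : ContDiff ℝ ∞ f) (h0 : f 0 = 0) :
    ∃ g : ℝ → ℝ, ContDiff ℝ ∞ g ∧ ∀ x : ℝ, f x = x * g x := by
  obtain ⟨hd, hd'⟩ := contDiff_infty_iff_deriv.mp hf
  refine ⟨fun x => ∫ t in (0:ℝ)..1, t ^ 0 * deriv f (t * x),
    contDiff_infty.mpr fun n => contDiff_G n 0 _ hd', fun x => ?_⟩
  have hc' : Continuous (deriv f) := hd'.continuous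
  have key := intervalIntegral.integral_eq_sub_of_hasDerivAt (a := (0:ℝ)) (b := 1)
    (f := fun t => f (t * x)) (f' := fun t => deriv f (t * x) * x)
    (fun t _ => by simpa [Function.comp_def] using ((hd (t * x)).hasDerivAt).comp t ((hasDerivAt_id t).mul_const x))
    ((by fun_prop : Continuous fun t => deriv f (t * x) * x).intervalIntegrable _ _)
  simp only [one_mul, zero_mul, h0, sub_zero, intervalIntegral.integral_mul_const] at key
  simp only [pow_zero, one_mul]
  rw [mul_comm, key]

end Groth.Agent.S18943
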