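import Groth.Statements.S18944
import Groth.Agent.H17.KerStalk
import Mathlib.RingTheory.Regular.Flat

set_option autoImplicit false
universe u
open CategoryTheory AlgebraicGeometry
open RegImm

namespace Groth.Agent.S18944

open CategoryTheory AlgebraicGeometry TopologicalSpace Opposite

/-- Let i : Z → X be a regular immersion of schemes (kind: successive non-zero-divisors). Then for every
point z of Z the kernel of the induced map of local rings O_{X, i(z)} → O_{Z, z} is generated by a
regular sequence of O_{X, i(z)}. (No Noetherian hypothesis; over a locally Noetherian X the converse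
also holds.) -/
theorem result {Z X : Scheme.{u}} (i : Z ⟶ X)
    (h : RegImm.IsRegularImmersion RegImm.Kind.regular i) (z : Z) :
    ∃ rs : List (X.presheaf.stalk (i z)),
      RingTheory.Sequence.IsRegular (X.presheaf.stalk (i z)) rs ∧
        RingHom.ker (i.stalkMap z).hom = Ideal.ofList rs := by
  obtain ⟨U, hzU, hcl, rs, hrs, hker⟩ := h.2 z
  letI := TopCat.Presheaf.algebra_section_stalk X.presheaf (⟨i z, hzU⟩ : U.1)
  haveI := U.2.isLocalization_stalk ⟨i z, hzU⟩
  haveI := hcl
  have hk := Groth.Agent.H17.ker_stalkMap_eq_map i U.2 z hzU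
  have hmem : ∀ r ∈ rs, r ∈ (U.2.primeIdealOf ⟨i z, hzU⟩).asIdeal := by
    intro r hr
    have h1 : r ∈ RingHom.ker (i.app U.1).hom := by
      rw [hker]
      exact Ideal.subset_span hr
    have h2 : X.presheaf.germ U.1 (i z) hzU r ∈ RingHom.ker (i.stalkMap z).hom := by
      rw [hk]; exact Ideal.mem_map_of_mem _ h1
    rw [← IsLocalization.AtPrime.to_map_mem_maximal_iff (X.presheaf.stalk (i z))
      (U.2.primeIdealOf ⟨i z, hzU⟩).asIdeal r, IsLocalRing.mem_maximalIdeal, mem_nonunits_iff]
    intro hu
    have := hu.map (i.stalkMap z).hom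
    rw [show (i.stalkMap z).hom (algebraMap Γ(X, U.1) (X.presheaf.stalk (i z)) r) = 0 from h2] at this
    exact not_isUnit_zero this
  refine ⟨rs.map (algebraMap Γ(X, U.1) (X.presheaf.stalk (i z))),
    hrs.toIsWeaklyRegular.isRegular_of_isLocalization_of_mem (X.presheaf.stalk (i z))
      (U.2.primeIdealOf ⟨i z, hzU⟩).asIdeal hmem, ?_⟩
  rw [hk, hker, Ideal.map_ofList]
  rfl

end Groth.Agent.S18944
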