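import Groth.Statements.S18946


set_option autoImplicit false
universe u
open scoped BigOperators
open InvQ

namespace Groth.Agent.S18946

/-- Let k be an algebraically closed field of characteristic zero and n a natural number, and let the
torus of (n+1)-tuples of units of k with product 1 act on the polynomial ring k[t_0, ..., t_n] by
rescaling each variable t_i by the i-th unit. A polynomial is fixed by every such rescaling if and
only if it lies in the k-subalgebra generated by the product t_0 t_1 ... t_n. (This is the
computation of the ring of functions on affine (n+1)-space invariant under the maximal diagonal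
torus of the special linear group, identified with the polynomial ring in the single coordinate t =
t_0 ... t_n of the line it maps to by the product map; invariance is tested on k-valued points of
the torus, which over an infinite field is the same as invariance under the group scheme.) -/
theorem result
    (k : Type u) [Field k] [IsAlgClosed k] [CharZero k] (n : ℕ)
    (f : MvPolynomial (Fin (n + 1)) k) :
    (∀ σ : Fin (n + 1) → kˣ, ∏ i, (σ i : k) = 1 →
        MvPolynomial.aeval (fun i => MvPolynomial.C (σ i : k) * MvPolynomial.X i) f = f) ↔
      f ∈ Algebra.adjoin k ({∏ i : Fin (n + 1), MvPolynomial.X i} : Set (MvPolynomial (Fin (n + 1)) k)) := by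
  classical
  let P : MvPolynomial (Fin (n + 1)) k := ∏ i : Fin (n + 1), MvPolynomial.X i
  constructor
  · intro h
    have hP : ∀ m : ℕ, P ^ m = MvPolynomial.monomial (Finsupp.equivFunOnFinite.symm fun _ => m) 1 := by
      intro m
      rw [MvPolynomial.monomial_eq, Finsupp.prod_fintype _ _ (by simp)]
      simp [P, Finset.prod_pow]
    rw [f.as_sum]
    refine Subalgebra.sum_mem _ fun d hd => ?_
    have hall : ∀ i j, d i = d j := by
      intro i j
      by_contra hij
      have hne : i ≠ j := fun e => hij (e ▸ rfl)
      have h2 : (2 : k) ≠ 0 := two_ne_zero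
      let σ : Fin (n + 1) → kˣ := fun l => if l = i then Units.mk0 2 h2 else if l = j then (Units.mk0 2 h2)⁻¹ else 1
      have hσ : ∏ l, (σ l : k) = 1 := by
        rw [← Finset.prod_subset (Finset.subset_univ {i, j}) (fun l _ hl => by
          simp only [Finset.mem_insert, Finset.mem_singleton, not_or] at hl
          simp [σ, hl.1, hl.2]), Finset.prod_pair hne]
        simp [σ, hne.symm]
      have hc := congrArg (MvPolynomial.coeff d) (h σ hσ)
      have key : ∀ g : MvPolynomial (Fin (n + 1)) k, MvPolynomial.coeff d
          (MvPolynomial.aeval (fun l => MvPolynomial.C (σ l : k) * MvPolynomial.X l) g) =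
          (∏ l, (σ l : k) ^ d l) * MvPolynomial.coeff d g := by
        intro g
        induction g using MvPolynomial.induction_on' with
        | monomial e c =>
          rw [MvPolynomial.aeval_monomial, Finsupp.prod_fintype _ _ (by simp)]
          simp only [mul_pow, Finset.prod_mul_distrib, ← map_pow, ← map_prod, MvPolynomial.algebraMap_eq]
          rw [← mul_assoc, ← map_mul, MvPolynomial.coeff_C_mul]
          have : (∏ l, (MvPolynomial.X l : MvPolynomial (Fin (n + 1)) k) ^ e l) = MvPolynomial.monomial e 1 := by
            rw [MvPolynomial.monomial_eq, Finsupp.prod_fintype _ _ (by simp)]; simp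
          rw [this, MvPolynomial.coeff_monomial, MvPolynomial.coeff_monomial]
          split_ifs with he
          · subst he; ring
          · simp
        | add p q hp hq => simp only [map_add, MvPolynomial.coeff_add, hp, hq, mul_add]
      rw [key] at hc
      have hcd : MvPolynomial.coeff d f ≠ 0 := MvPolynomial.mem_support_iff.1 hd
      have h1 : ∏ l, (σ l : k) ^ d l = 1 := mul_right_cancel₀ hcd (by rw [hc, one_mul])
      rw [← Finset.prod_subset (Finset.subset_univ {i, j}) (fun l _ hl => by
          simp only [Finset.mem_insert, Finset.mem_singleton, not_or] at hl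
          simp [σ, hl.1, hl.2]), Finset.prod_pair hne] at h1
      simp only [σ, if_true, hne.symm, if_false, Units.val_mk0, Units.val_inv_eq_inv_val, inv_pow] at h1
      have h5 : (2 : k) ^ d i = (2 : k) ^ d j := by
        rw [← div_eq_one_iff_eq (pow_ne_zero _ h2), div_eq_mul_inv, h1]
      have h6 : (2 : ℕ) ^ d i = 2 ^ d j := by exact_mod_cast h5
      exact hij (Nat.pow_right_injective le_rfl h6)
    obtain ⟨m, rfl⟩ : ∃ m : ℕ, d = Finsupp.equivFunOnFinite.symm (fun _ : Fin (n + 1) => m) :=
      ⟨d 0, by ext i; simpa using hall i 0⟩
    generalize MvPolynomial.coeff (Finsupp.equivFunOnFinite.symm fun _ : Fin (n + 1) => m) f = c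
    have hc : MvPolynomial.monomial (Finsupp.equivFunOnFinite.symm fun _ : Fin (n + 1) => m) c =
        algebraMap k (MvPolynomial (Fin (n + 1)) k) c * P ^ m := by
      rw [hP, MvPolynomial.algebraMap_eq, MvPolynomial.C_mul_monomial, mul_one]
    rw [hc]
    have hPm : P ∈ Algebra.adjoin k ({P} : Set (MvPolynomial (Fin (n + 1)) k)) :=
      Algebra.subset_adjoin (Set.mem_singleton P)
    exact Subalgebra.mul_mem _ (Subalgebra.algebraMap_mem _ c) (Subalgebra.pow_mem _ hPm m)
  · intro hf σ hσ
    induction hf using Algebra.adjoin_induction with
    | mem x hx =>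
      rw [hx, map_prod]
      simp only [MvPolynomial.aeval_X, Finset.prod_mul_distrib, ← map_prod, hσ, map_one, one_mul]
    | algebraMap r => exact AlgHom.commutes _ r
    | add x y _ _ hx hy => rw [map_add, hx, hy]
    | mul x y _ _ hx hy => rw [map_mul, hx, hy]

end Groth.Agent.S18946
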