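import Groth.Statements.S18948
import Mathlib.Tactic

set_option autoImplicit false
universe u v
open CExt

namespace Groth.Agent.S18948

/-- Let f : E → G be a surjective homomorphism of groups whose kernel is central in E, and let x ∈ E.
Then f maps the conjugacy class of x bijectively onto the conjugacy class of f(x) if and only if
every element of G commuting with f(x) is the image of some element of E commuting with x. (In the
source E → G is the central extension, with kernel the roots of unity, attached to a Brauer class of
the classifying stack of a finite tame étale group scheme, and a conjugacy class of E mapping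
bijectively onto a given class of G is a marking; the equivalence is stated here for an arbitrary
central extension of abstract groups.) -/
theorem result {E : Type u} {G : Type v} [Group E] [Group G]
    (f : E →* G) (hf : Function.Surjective f) (hker : f.ker ≤ Subgroup.center E) (x : E) :
    Set.BijOn f (MulAction.orbit (ConjAct E) x) (MulAction.orbit (ConjAct G) (f x)) ↔
      ∀ g : G, g * f x = f x * g → ∃ e : E, f e = g ∧ e * x = x * e := by
  
  constructor
  · intro hb g hg
    obtain ⟨e, rfl⟩ := hf g
    refine ⟨e, rfl, ?_⟩
    have h1 : ConjAct.toConjAct e • x ∈ MulAction.orbit (ConjAct E) x := MulAction.mem_orbit _ _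
    have h2 : f (ConjAct.toConjAct e • x) = f x := by
      rw [ConjAct.toConjAct_smul, map_mul, map_mul, map_inv, hg, mul_inv_cancel_right]
    have h3 := hb.injOn h1 (MulAction.mem_orbit_self x) h2
    rw [ConjAct.toConjAct_smul] at h3
    calc e * x = e * x * e⁻¹ * e := by group
      _ = x * e := by rw [h3]
  · intro h
    refine ⟨?_, ?_, ?_⟩
    · rintro _ ⟨a, rfl⟩
      refine ⟨ConjAct.toConjAct (f (ConjAct.ofConjAct a)), ?_⟩
      simp [ConjAct.smul_def]
    · rintro _ ⟨a, rfl⟩ _ ⟨b, rfl⟩ hab
      simp only [ConjAct.smul_def, map_mul, map_inv] at hab ⊢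
      generalize ConjAct.ofConjAct a = a at hab ⊢
      generalize ConjAct.ofConjAct b = b at hab ⊢
      obtain ⟨e, he, hex⟩ := h ((f b)⁻¹ * f a) (by
        have := congrArg (fun z => (f b)⁻¹ * z * f a) hab
        simpa [mul_assoc] using this)
      have hk : (b * e)⁻¹ * a ∈ f.ker := by simp [MonoidHom.mem_ker, he]
      have hc := Subgroup.mem_center_iff.mp (hker hk) x
      calc a * x * a⁻¹ = (b * e) * ((b * e)⁻¹ * a * x) * a⁻¹ := by group
        _ = (b * e) * x * (b * e)⁻¹ := by rw [← hc]; group
        _ = b * (e * x) * e⁻¹ * b⁻¹ := by group
        _ = b * x * b⁻¹ := by rw [hex]; group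
    · rintro _ ⟨g, rfl⟩
      obtain ⟨e, he⟩ := hf (ConjAct.ofConjAct g)
      refine ⟨_, MulAction.mem_orbit x (ConjAct.toConjAct e), ?_⟩
      simp [ConjAct.smul_def, he]

end Groth.Agent.S18948
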