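import Groth.Statements.S18949
import Mathlib.Tactic

set_option autoImplicit false
universe u v
open CExt

namespace Groth.Agent.S18949

/-- Automorphisms over the base: let f : E → G be a surjective homomorphism of groups with central
kernel A. For every homomorphism χ : G → A the map e ↦ χ(f(e)) · e is an endomorphism of E over G
which is the identity on A; and every endomorphism α of E with f ∘ α = f and α equal to the identity
on A is of this form for exactly one χ. (In the source this identifies the automorphisms of a
central extension fixing its kernel with Hom(G, A), for extensions of profinite étale group schemes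
over a field; stated here for abstract groups.) -/
theorem result {E : Type u} {G : Type v} [Group E] [Group G]
    (f : E →* G) (hf : Function.Surjective f) (hker : f.ker ≤ Subgroup.center E) :
    (∀ χ : G →* f.ker, ∃ α : E →* E, f.comp α = f ∧ (∀ a ∈ f.ker, α a = a) ∧
        ∀ e : E, α e = (χ (f e) : E) * e) ∧
      ∀ α : E →* E, f.comp α = f → (∀ a ∈ f.ker, α a = a) →
        ∃! χ : G →* f.ker, ∀ e : E, α e = (χ (f e) : E) * e := by
  constructor
  · intro χ
    refine ⟨{ toFun := fun e => (χ (f e) : E) * e, map_one' := by simp, map_mul' := ?_ }, ?_, ?_, fun e => rfl⟩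
    · intro a b
      simp only [map_mul, Subgroup.coe_mul]
      have hc : (χ (f b) : E) * a = a * (χ (f b) : E) :=
        (Subgroup.mem_center_iff.mp (hker (χ (f b)).2) a).symm
      calc (χ (f a) : E) * (χ (f b) : E) * (a * b) = (χ (f a) : E) * ((χ (f b) : E) * a) * b := by group
        _ = (χ (f a) : E) * a * ((χ (f b) : E) * b) := by rw [hc]; group
    · ext e
      simp [MonoidHom.mem_ker.mp (χ (f e)).2]
    · intro a ha
      simp [MonoidHom.mem_ker.mp ha]
  · intro α hα hA
    have hmem : ∀ e, α e * e⁻¹ ∈ f.ker := fun e => by
      have := DFunLike.congr_fun hα e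
      simp only [MonoidHom.coe_comp, Function.comp_apply] at this
      simp [MonoidHom.mem_ker, this]
    let ψ : E →* f.ker :=
      { toFun := fun e => ⟨α e * e⁻¹, hmem e⟩
        map_one' := by ext; simp
        map_mul' := fun a b => by
          ext
          simp only [map_mul, mul_inv_rev, Subgroup.coe_mul]
          have hc := Subgroup.mem_center_iff.mp (hker (hmem b)) a⁻¹
          calc α a * α b * (b⁻¹ * a⁻¹) = α a * ((α b * b⁻¹) * a⁻¹) := by group
            _ = α a * a⁻¹ * (α b * b⁻¹) := by rw [← hc]; group }
    have hψ : f.ker ≤ ψ.ker := fun a ha => by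
      rw [MonoidHom.mem_ker]; ext; simp [ψ, hA a ha]
    refine ⟨f.liftOfSurjective hf ⟨ψ, hψ⟩, fun e => ?_, fun χ hχ => ?_⟩
    · rw [MonoidHom.liftOfRightInverse_comp_apply]
      simp [ψ]
    · ext g
      obtain ⟨e, rfl⟩ := hf g
      rw [MonoidHom.liftOfRightInverse_comp_apply]
      simp [ψ, hχ e]

end Groth.Agent.S18949
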