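import Groth.Statements.S18951

set_option autoImplicit false
universe u
open OrbPic

namespace Groth.Agent.S18951

/-- Let G be a group and C ⊆ G a subset that generates G. Then the projection (χ, w) ↦ w from the group
of geometric partial orbifold line bundles with respect to C to functions G → ℚ is injective, its
image contains every conjugation-invariant integer-valued function vanishing at 1 and outside C, and
the group is torsion-free. (The source works with the geometric points of a tame finite étale group
scheme, characters with values in roots of unity and weights on conjugacy classes of the Tate twist;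
here these are identified with a group, homomorphisms to ℚ/ℤ and class functions as the source does
after choosing roots of unity. The case C = G ∖ {1} is the statement for full orbifold line
bundles.) -/
theorem result (G : Type u) [Group G] (C : Set G)
    (hC : Subgroup.closure C = ⊤) :
    Set.InjOn (fun p : (Additive G →+ W4c6brauerbgmalle.QmodZ) × (G → ℚ) => p.2) (W4c6brauerbgmalle.picOrb G C) ∧
      (∀ w ∈ W4c6brauerbgmalle.intWeights G C, ((0 : Additive G →+ W4c6brauerbgmalle.QmodZ), w) ∈ W4c6brauerbgmalle.picOrb G C) ∧
      ∀ (n : ℕ) (p : (Additive G →+ W4c6brauerbgmalle.QmodZ) × (G → ℚ)), p ∈ W4c6brauerbgmalle.picOrb G C → n ≠ 0 →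
        n • p = 0 → p = 0 := by
  have key : ∀ χ : Additive G →+ W4c6brauerbgmalle.QmodZ, (∀ g ∈ C, χ (Additive.ofMul g) = 0) → χ = 0 := by
    intro χ h
    refine AddMonoidHom.ext fun z => ?_
    have hz : z.toMul ∈ Subgroup.closure C := hC ▸ Subgroup.mem_top _
    suffices χ (Additive.ofMul z.toMul) = 0 by simpa using this
    revert hz
    generalize z.toMul = y
    intro hz
    induction hz using Subgroup.closure_induction with
    | mem x hx => exact h x hx
    | one => exact map_zero χ
    | mul x y _ _ hx hy => rw [ofMul_mul, map_add, hx, hy, add_zero]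
    | inv x _ hx => rw [ofMul_inv, map_neg, hx, neg_zero]
  refine ⟨?_, ?_, ?_⟩
  · rintro ⟨χ, w⟩ hp ⟨χ', w'⟩ hp' (rfl : w = w')
    refine Prod.ext ?_ rfl
    refine sub_eq_zero.mp (key _ fun g hg => ?_)
    rw [AddMonoidHom.sub_apply, ← hp.2.2.2 g hg, ← hp'.2.2.2 g hg, sub_self]
  · rintro w ⟨h1, h2, h3, h4⟩
    refine ⟨h1, h2, h3, fun g _ => ?_⟩
    obtain ⟨n, hn⟩ := h4 g
    simp only [hn, AddMonoidHom.zero_apply]
    exact (QuotientAddGroup.eq_zero_iff _).mpr ⟨n, by simp⟩
  · rintro n ⟨χ, w⟩ hp hn h
    have hw : w = 0 := funext fun g => by
      have := congrFun (congrArg Prod.snd h) g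
      simpa [hn] using this
    subst hw
    refine Prod.ext (key χ fun g hg => ?_) rfl
    rw [← hp.2.2.2 g hg]
    exact map_zero _

end Groth.Agent.S18951
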