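import Groth.Statements.S18952
import Mathlib.Tactic.Abel

set_option autoImplicit false
universe u
open OrbPic

namespace Groth.Agent.S18952

open scoped Classical

theorem conj_eq {G : Type u} [Group G] {Q : Type*} [AddCommGroup Q] (χ : Additive G →+ Q) (g h : G) :
    χ (Additive.ofMul (h * g * h⁻¹)) = χ (Additive.ofMul g) := by
  rw [ofMul_mul, ofMul_mul, map_add, map_add, ofMul_inv, map_neg]
  abel

/-- Let G be a group and C ⊆ G a subset stable under conjugation. Then (χ, w) ↦ χ maps the group of
geometric partial orbifold line bundles with respect to C onto all characters G → ℚ/ℤ, and a pair in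
its kernel (χ trivial) has w a conjugation-invariant integer-valued function vanishing at 1 and
outside C: with the inclusion of such functions this is the exact sequence 0 → Hom(C/conj, ℤ) → Pic
→ Hom(G, ℚ/ℤ) → 0 over a separably closed field. (As in the source after a choice of roots of unity,
the group G stands for the geometric points of a tame finite étale group scheme, characters are
homomorphisms to ℚ/ℤ and weights are class functions on G.) -/
theorem result (G : Type u) [Group G] (C : Set G)
    (hC : ∀ g h : G, g ∈ C → h * g * h⁻¹ ∈ C) :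
    (∀ χ : Additive G →+ W4c6brauerbgmalle.QmodZ, ∃ w : G → ℚ, (χ, w) ∈ W4c6brauerbgmalle.picOrb G C) ∧
      (∀ p : (Additive G →+ W4c6brauerbgmalle.QmodZ) × (G → ℚ), p ∈ W4c6brauerbgmalle.picOrb G C → p.1 = 0 →
        p.2 ∈ W4c6brauerbgmalle.intWeights G C) := by
  have hs : Function.Surjective W4c6brauerbgmalle.toQmodZ := QuotientAddGroup.mk'_surjective _
  refine ⟨fun χ => ⟨fun g => if g = 1 ∨ g ∉ C then 0 else Function.surjInv hs (χ (Additive.ofMul g)),
    by simp, fun g hg => by simp [hg], fun g h => ?_, fun g hg => ?_⟩, fun p hp h0 => ?_⟩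
  · have h1 : (h * g * h⁻¹ = 1 ∨ h * g * h⁻¹ ∉ C) ↔ (g = 1 ∨ g ∉ C) := by
      refine or_congr conj_eq_one_iff (not_congr ⟨fun hh => ?_, fun hh => hC g h hh⟩)
      have := hC _ h⁻¹ hh
      simpa [mul_assoc] using this
    by_cases hg : g = 1 ∨ g ∉ C
    · simp only [if_pos hg, if_pos (h1.2 hg)]
    · simp only [if_neg hg, if_neg (mt h1.1 hg), conj_eq]
  · show W4c6brauerbgmalle.toQmodZ (if _ then _ else _) = _
    by_cases h1 : g = 1
    · rw [if_pos (Or.inl h1), h1, map_zero, ofMul_one, map_zero]
    · rw [if_neg (by tauto)]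
      exact Function.surjInv_eq hs _
  · obtain ⟨h1, h2, h3, h4⟩ := hp
    refine ⟨h1, h2, h3, fun g => ?_⟩
    by_cases hg : g ∈ C
    · have h5 := h4 g hg
      rw [h0, AddMonoidHom.zero_apply, QuotientAddGroup.mk'_apply, QuotientAddGroup.eq_zero_iff,
        AddSubgroup.mem_zmultiples_iff] at h5
      obtain ⟨n, hn⟩ := h5
      exact ⟨n, by rw [← hn]; simp⟩
    · exact ⟨0, by simp [h2 g hg]⟩

end Groth.Agent.S18952
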