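import Groth.Statements.S18953

set_option autoImplicit false
universe u v
open OrbPic

namespace Groth.Agent.S18953

/-- Let G₁ and G₂ be groups with subsets C₁ ⊆ G₁ and C₂ ⊆ G₂, and let C ⊆ G₁ × G₂ be the union of C₁ ×
{1} and {1} × C₂. Restricting the character and the weight along the two inclusions G₁ → G₁ × G₂ and
G₂ → G₁ × G₂ is a bijection from the geometric partial orbifold line bundles of G₁ × G₂ with respect
to C onto pairs of geometric partial orbifold line bundles of G₁ with respect to C₁ and of G₂ with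
respect to C₂. (As in the source after a choice of roots of unity, each group stands for the
geometric points of a tame finite étale group scheme, characters are homomorphisms to ℚ/ℤ and
weights are class functions; the source states the Galois-equivariant version, which follows by
taking invariants.) -/
theorem result (G₁ : Type u) (G₂ : Type v) [Group G₁] [Group G₂] (C₁ : Set G₁) (C₂ : Set G₂) :
    Set.BijOn
      (fun p : (Additive (G₁ × G₂) →+ W4c6brauerbgmalle.QmodZ) × (G₁ × G₂ → ℚ) =>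
        ((p.1.comp (MonoidHom.toAdditive (MonoidHom.inl G₁ G₂)), fun g => p.2 (g, 1)),
          (p.1.comp (MonoidHom.toAdditive (MonoidHom.inr G₁ G₂)), fun g => p.2 (1, g))))
      (W4c6brauerbgmalle.picOrb (G₁ × G₂) ((fun g => (g, (1 : G₂))) '' C₁ ∪ (fun g => ((1 : G₁), g)) '' C₂))
      ((W4c6brauerbgmalle.picOrb G₁ C₁ : Set _) ×ˢ (W4c6brauerbgmalle.picOrb G₂ C₂ : Set _)) := by
  classical
  refine ⟨?_, ?_, ?_⟩
  · rintro ⟨χ, w⟩ ⟨h1, h2, h3, h4⟩
    refine ⟨⟨h1, fun g hg => ?_, fun g h => ?_, fun g hg => ?_⟩, ⟨h1, fun g hg => ?_, fun g h => ?_, fun g hg => ?_⟩⟩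
    · by_cases hg1 : g = 1
      · subst hg1; exact h1
      · refine h2 _ ?_
        rintro (⟨a, ha, h⟩ | ⟨a, ha, h⟩) <;> simp only [Prod.mk.injEq] at h
        · exact hg (h.1 ▸ ha)
        · exact hg1 h.1.symm
    · simpa using h3 (g, 1) (h, 1)
    · exact h4 (g, 1) (Or.inl ⟨g, hg, rfl⟩)
    · by_cases hg1 : g = 1
      · subst hg1; exact h1
      · refine h2 _ ?_
        rintro (⟨a, ha, h⟩ | ⟨a, ha, h⟩) <;> simp only [Prod.mk.injEq] at h
        · exact hg1 h.2.symm
        · exact hg (h.2 ▸ ha)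
    · simpa using h3 (1, g) (1, h)
    · exact h4 (1, g) (Or.inr ⟨g, hg, rfl⟩)
  · rintro ⟨χ, w⟩ hp ⟨χ', w'⟩ hp' h
    simp only [Prod.mk.injEq] at h
    obtain ⟨⟨hχ₁, hw₁⟩, hχ₂, hw₂⟩ := h
    refine Prod.ext (AddMonoidHom.ext fun z => ?_) (funext fun z => ?_)
    · rw [show z = Additive.ofMul ((z.toMul.1, 1) : G₁ × G₂) + Additive.ofMul ((1, z.toMul.2) : G₁ × G₂) from by
        rw [← ofMul_mul]; simp, map_add, map_add]
      exact congrArg₂ (· + ·) (DFunLike.congr_fun hχ₁ (Additive.ofMul z.toMul.1)) (DFunLike.congr_fun hχ₂ (Additive.ofMul z.toMul.2))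
    · obtain ⟨a, b⟩ := z
      by_cases hb : b = 1
      · subst hb; exact congrFun hw₁ a
      by_cases ha : a = 1
      · subst ha; exact congrFun hw₂ b
      have : (a, b) ∉ ((fun g => (g, (1 : G₂))) '' C₁ ∪ (fun g => ((1 : G₁), g)) '' C₂) := by
        rintro (⟨c, _, h⟩ | ⟨c, _, h⟩) <;> simp only [Prod.mk.injEq] at h
        · exact hb h.2.symm
        · exact ha h.1.symm
      exact (hp.2.1 _ this).trans (hp'.2.1 _ this).symm
  · rintro ⟨⟨χ₁, w₁⟩, ⟨χ₂, w₂⟩⟩ ⟨⟨a1, a2, a3, a4⟩, ⟨b1, b2, b3, b4⟩⟩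
    dsimp only at a1 a2 a3 a4 b1 b2 b3 b4
    let w : G₁ × G₂ → ℚ := fun z => if z.2 = 1 then w₁ z.1 else if z.1 = 1 then w₂ z.2 else 0
    refine ⟨(χ₁.comp (MonoidHom.toAdditive (MonoidHom.fst G₁ G₂)) + χ₂.comp (MonoidHom.toAdditive (MonoidHom.snd G₁ G₂)), w),
      ⟨by simp [w, a1], ?_, ?_, ?_⟩, ?_⟩
    · rintro ⟨a, b⟩ h
      by_cases hb : b = 1
      · subst hb
        simp only [w, if_pos]
        exact a2 a fun ha => h (Or.inl ⟨a, ha, rfl⟩)
      by_cases ha : a = 1
      · subst ha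
        simp only [w, if_neg hb, if_pos]
        exact b2 b fun hb' => h (Or.inr ⟨b, hb', rfl⟩)
      simp [w, ha, hb]
    · rintro ⟨a, b⟩ ⟨c, d⟩
      simp only [w, Prod.mk_mul_mk, Prod.inv_mk, conj_eq_one_iff, a3, b3]
    · rintro ⟨a, b⟩ h
      obtain (⟨c, hc, he⟩ | ⟨c, hc, he⟩) := h <;> obtain ⟨rfl, rfl⟩ := Prod.mk.injEq _ _ _ _ ▸ he
      · simp only [w, if_pos]
        refine (a4 c hc).trans ?_
        simp
      · by_cases hc1 : c = 1
        · subst hc1
          simp [w, a1]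
        · simp only [w, if_neg hc1, if_pos]
          refine (b4 c hc).trans ?_
          simp
    · refine Prod.ext (Prod.ext (AddMonoidHom.ext fun z => by simp) (funext fun g => by simp [w]))
        (Prod.ext (AddMonoidHom.ext fun z => by simp) (funext fun g => ?_))
      by_cases hg : g = 1
      · subst hg; simp [w, a1, b1]
      · simp [w, hg]

end Groth.Agent.S18953
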