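import Groth.Statements.S18954
import Mathlib.GroupTheory.GroupAction.Quotient
import Mathlib.Algebra.BigOperators.Field
import Mathlib.Tactic.FieldSimp

set_option autoImplicit false
universe u v w
open Classical
open BGCount

namespace Groth.Agent.S18954

/-- Let a finite group G act on a finite set X, let W be a finite set of orbits and f a function on
orbits with values in a field of characteristic zero. Then Σ_{O ∈ W} f(O)/|Stab(x_O)|, with x_O any
point of O, equals |G|⁻¹ · Σ f(orbit(x)) over the points x of X whose orbit lies in W. (In the
source X is the set of 1-cocycles of the absolute Galois group of a field in a finite étale group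
scheme G, acted on by the geometric points of G, the orbits are the isomorphism classes of G-torsors
and the stabilisers their automorphism groups; stated here for an arbitrary action of a finite group
on a finite set, the representative x_O being chosen by Quotient.out.) -/
theorem result {G : Type u} {X : Type v} (𝕜 : Type w)
    [Group G] [Fintype G] [MulAction G X] [Fintype X] [Field 𝕜] [CharZero 𝕜]
    (W : Finset (MulAction.orbitRel.Quotient G X)) (f : MulAction.orbitRel.Quotient G X → 𝕜) :
    (∑ O ∈ W, f O / (Nat.card (MulAction.stabilizer G O.out) : 𝕜)) =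
      (Fintype.card G : 𝕜)⁻¹ *
        ∑ x ∈ Finset.univ.filter (fun x : X => (Quotient.mk (MulAction.orbitRel G X) x) ∈ W),
          f (Quotient.mk (MulAction.orbitRel G X) x) := by
  classical
  have hq : ∀ O : MulAction.orbitRel.Quotient G X,
      ((Finset.univ.filter fun x : X => (Quotient.mk (MulAction.orbitRel G X) x) = O).card : 𝕜) *
        (Nat.card (MulAction.stabilizer G O.out) : 𝕜) = (Fintype.card G : 𝕜) := by
    intro O
    have h1 : (Finset.univ.filter fun x : X => (Quotient.mk (MulAction.orbitRel G X) x) = O).card =
        Fintype.card (MulAction.orbit G O.out) := by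
      rw [← Set.toFinset_card]
      congr 1
      ext x
      simp only [Finset.mem_filter, Finset.mem_univ, true_and, Set.mem_toFinset]
      conv_lhs => rw [← Quotient.out_eq O, Quotient.eq]
      rfl
    rw [h1, Nat.card_eq_fintype_card, ← Nat.cast_mul, MulAction.card_orbit_mul_card_stabilizer_eq_card_group]
  rw [← Finset.sum_fiberwise_of_maps_to (t := W) (g := fun x : X => Quotient.mk (MulAction.orbitRel G X) x)
    (fun x hx => (Finset.mem_filter.mp hx).2), Finset.mul_sum]
  refine Finset.sum_congr rfl fun O hO => ?_
  rw [Finset.filter_filter, Finset.sum_congr rfl (g := fun _ => f O) (fun x hx => by rw [(Finset.mem_filter.mp hx).2.2]),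
    Finset.sum_const, nsmul_eq_mul]
  have : (Finset.univ.filter fun x : X => (Quotient.mk (MulAction.orbitRel G X) x) ∈ W ∧
      (Quotient.mk (MulAction.orbitRel G X) x) = O) = Finset.univ.filter fun x : X => (Quotient.mk (MulAction.orbitRel G X) x) = O := by
    ext x
    simp only [Finset.mem_filter, Finset.mem_univ, true_and, and_iff_right_iff_imp]
    rintro rfl
    exact hO
  rw [this]
  have hs : (Nat.card (MulAction.stabilizer G O.out) : 𝕜) ≠ 0 := by
    exact_mod_cast Nat.card_pos.ne'
  have hG : (Fintype.card G : 𝕜) ≠ 0 := by exact_mod_cast Fintype.card_ne_zero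
  rw [div_eq_iff hs, mul_comm _ (f O), mul_assoc, mul_assoc, mul_comm (f O), ← mul_assoc, hq O]
  field_simp

end Groth.Agent.S18954
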