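import Groth.Statements.S18956
import Groth.Agent.H15Magnet.FieldFactor
import Mathlib.CategoryTheory.Limits.Types.Pullbacks
-- import your own Groth.Agent.* helpers here

set_option autoImplicit false
universe u
open CategoryTheory MonoidalCategory CartesianMonoidalCategory MonObj AlgebraicGeometry Opposite
open Magnet

set_option linter.style.haveILetI false
set_option backward.isDefEq.respectTransparency false
set_option backward.isDefEq.respectTransparency.types false

namespace Groth.Agent.S18956

/-- Let k be a field, M an affine monoid k-scheme, G an affine group k-scheme and i : G → M a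
homomorphism of monoids which is a quasi-compact open immersion with scheme-theoretically dense
image. Let X be a k-scheme with an action aX of G, and j : Z → X a closed immersion which is
G-equivariant for an action aZ of G on Z (a closed G-stable subscheme). For a G-scheme W write D_W
for the functor on k-schemes whose value at Y is the set of k-morphisms M ×_k Y → W that are
G-equivariant for G acting on M ×_k Y by left multiplication through i on the first factor. Then the
square of presheaves formed by D_Z → D_X (composition with j), the restrictions D_Z → Z and D_X → X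
to the unit section of M, and j is cartesian. (The published statement takes G to be the group of
units of M, open and schematically dense; here it is assumed only that i is a homomorphism of
monoids and a quasi-compact, scheme-theoretically dominant open immersion.) -/
theorem result (k : Type u) [Field k]
    (M G X Z : Over (Spec (CommRingCat.of k))) [MonObj M] [GrpObj G] [IsAffine M.left] [IsAffine G.left]
    (i : G ⟶ M) [IsMonHom i] [IsOpenImmersion i.left] [QuasiCompact i.left]
    [IsSchemeTheoreticallyDominant i.left]
    (aX : AlgGrp.Action G X) (aZ : AlgGrp.Action G Z) (j : Z ⟶ X) [IsClosedImmersion j.left]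
    (hj : Magnet.MonAct.IsEquivariant (Magnet.MonAct.ofAction aZ) (Magnet.MonAct.ofAction aX) j) :
    IsPullback
      (Magnet.MonAct.eqvHom.postcomp ((Magnet.MonAct.regular M).restrict i) j hj)
      (Magnet.MonAct.eqvHom.evalAt ((Magnet.MonAct.regular M).restrict i) (Magnet.MonAct.ofAction aZ) η[M])
      (Magnet.MonAct.eqvHom.evalAt ((Magnet.MonAct.regular M).restrict i) (Magnet.MonAct.ofAction aX) η[M])
      (yoneda.map j) := by
  haveI : Mono j := Groth.Agent.H15Magnet.mono_of_left j
  refine IsPullback.of_forall_isPullback_app fun T => ?_
  rw [CategoryTheory.Limits.Types.isPullback_iff]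
  refine ⟨?_, ?_, ?_⟩
  · ext φ
    exact (Category.assoc _ _ _).symm
  · rintro φ ψ ⟨h₁, -⟩
    exact Subtype.ext ((cancel_mono j).1 (congrArg Subtype.val h₁))
  · intro φ z hφz
    have hφz' : lift (toUnit (unop T) ≫ η[M]) (𝟙 (unop T)) ≫ φ.1 = z ≫ j := hφz
    haveI : Flat (unop T).hom := inferInstance
    haveI := Groth.Agent.H15Magnet.isSTD_whiskerRight i (unop T)
    have hw : (i ▷ unop T) ≫ φ.1 = ((G ◁ z) ≫ aZ.act) ≫ j := by
      have hφ := (Magnet.MonAct.mem_eqvHom_iff φ.1).1 φ.2
      have hj' := (Magnet.MonAct.isEquivariant_iff _ _ j).1 hj
      apply Magnet.hom_ext_lift₂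
      intro T' g t
      have h1 := hφ T' g (1 : T' ⟶ M) t
      rw [Magnet.MonAct.lift_restrict_act, Magnet.MonAct.lift_regular_act, _root_.mul_one] at h1
      rw [lift_whiskerRight_assoc, h1, Category.assoc, lift_whiskerLeft_assoc]
      refine Eq.trans ?_ (hj' T' g (t ≫ z)).symm
      rw [Category.assoc, ← hφz', comp_lift_assoc, Category.comp_id, ← Category.assoc t, comp_toUnit]
      rfl
    obtain ⟨ψ, hψ⟩ := Groth.Agent.H19Grp.exists_factor_closed (i ▷ unop T) j φ.1 _ hw
    refine ⟨⟨ψ, ?_⟩, Subtype.ext hψ, ?_⟩
    · rw [Magnet.MonAct.mem_eqvHom_iff]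
      intro T' g b t
      have hφ := (Magnet.MonAct.mem_eqvHom_iff φ.1).1 φ.2
      have hj' := (Magnet.MonAct.isEquivariant_iff _ _ j).1 hj
      rw [← cancel_mono j, Category.assoc, hψ, hφ T' g b t, Category.assoc, hj', Category.assoc, hψ]
    · show lift (toUnit (unop T) ≫ η[M]) (𝟙 (unop T)) ≫ ψ = z
      rw [← cancel_mono j, Category.assoc, hψ, hφz']

end Groth.Agent.S18956
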