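import Groth.Statements.S18958
import Groth.Agent.H15Magnet.FieldFactor
import Mathlib.CategoryTheory.Limits.Types.Pullbacks
import Mathlib.AlgebraicGeometry.PullbackCarrier
-- import your own Groth.Agent.* helpers here

set_option autoImplicit false
universe u
open CategoryTheory MonoidalCategory CartesianMonoidalCategory MonObj AlgebraicGeometry Opposite
open Magnet

set_option linter.style.haveILetI false
set_option backward.isDefEq.respectTransparency false
set_option backward.isDefEq.respectTransparency.types false

namespace Groth.Agent.S18958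

/-- Let k be a field, G a group k-scheme and M a monoid k-scheme with a homomorphism of monoids i : G →
M and a zero o : Spec k → M (m·o = o = o·m for every point m of M). Assume that for every k-scheme T
whose underlying scheme is the spectrum of a field K, every open subset of M ×_k T which is stable
under G acting by left multiplication through i on the first factor and which contains the zero
section T → M ×_k T is the whole of M ×_k T. Let X be a k-scheme with an action aX of G and j : U →
X an open immersion, G-equivariant for an action aU of G on U (an open G-stable subscheme). For a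
G-scheme W write D_W for the functor on k-schemes whose value at Y is the set of k-morphisms M ×_k Y
→ W that are G-equivariant for G acting on M ×_k Y by left multiplication through i on the first
factor. Then the square of presheaves formed by D_U → D_X (composition with j), the restrictions D_U
→ U and D_X → X to the zero section of M, and j is cartesian. (In the source M is a Kempf monoid
with G its group of units, and the restriction to the zero section is viewed as the retraction of
D_X onto the fixed points X^G; the displayed property of the open G-stable subsets of M over field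
extensions is what the argument uses about M, and the square over X^G is cartesian exactly when the
one over X is, U^G being X^G ×_X U.) -/
theorem result (k : Type u) [Field k]
    (M G X U : Over (Spec (CommRingCat.of k))) [MonObj M] [GrpObj G] (i : G ⟶ M) [IsMonHom i]
    (o : 𝟙_ (Over (Spec (CommRingCat.of k))) ⟶ M)
    (ho : ∀ (T : Over (Spec (CommRingCat.of k))) (m : T ⟶ M), m * (toUnit T ≫ o) = toUnit T ≫ o ∧ (toUnit T ≫ o) * m = toUnit T ≫ o)
    (hM : ∀ (T : Over (Spec (CommRingCat.of k))) (K : Type u) [Field K] (eT : T.left ≅ Spec (CommRingCat.of K))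
      (W : (M ⊗ T).left.Opens),
      (CartesianMonoidalCategory.snd G (M ⊗ T)).left ⁻¹ᵁ W ≤
          ((((Magnet.MonAct.regular M).restrict i).prod (Magnet.MonAct.trivial G T)).act).left ⁻¹ᵁ W →
      (CartesianMonoidalCategory.lift (toUnit T ≫ o) (𝟙 T)).left ⁻¹ᵁ W = ⊤ → W = ⊤)
    (aX : AlgGrp.Action G X) (aU : AlgGrp.Action G U) (j : U ⟶ X) [IsOpenImmersion j.left]
    (hj : Magnet.MonAct.IsEquivariant (Magnet.MonAct.ofAction aU) (Magnet.MonAct.ofAction aX) j) :
    IsPullback
      (Magnet.MonAct.eqvHom.postcomp ((Magnet.MonAct.regular M).restrict i) j hj)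
      (Magnet.MonAct.eqvHom.evalAt ((Magnet.MonAct.regular M).restrict i) (Magnet.MonAct.ofAction aU) o)
      (Magnet.MonAct.eqvHom.evalAt ((Magnet.MonAct.regular M).restrict i) (Magnet.MonAct.ofAction aX) o)
      (yoneda.map j) := by
  haveI : Mono j := Groth.Agent.H15Magnet.mono_of_left j
  have hj' := (Magnet.MonAct.isEquivariant_iff _ _ j).1 hj
  have hsq : ∀ {A B : Over (Spec (CommRingCat.of k))} (Q : Over (Spec (CommRingCat.of k))) (f : A ⟶ B),
      IsPullback (snd Q A).left (Q ◁ f).left f.left (snd Q B).left := fun {A B} Q f => by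
    refine IsPullback.of_bot (v₂₁ := (fst Q B).left) (v₂₂ := B.hom) (h₃₁ := Q.hom) ?_ ?_
      (IsPullback.of_hasPullback Q.hom B.hom).flip
    · rw [← Over.comp_left, whiskerLeft_fst, Over.w f]
      exact (IsPullback.of_hasPullback Q.hom A.hom).flip
    · show (snd Q A).left ≫ f.left = (Q ◁ f).left ≫ (snd Q B).left
      rw [← Over.comp_left, ← Over.comp_left, whiskerLeft_snd]
  have hrange : ∀ {A B : Over (Spec (CommRingCat.of k))} (Q : Over (Spec (CommRingCat.of k))) (f : A ⟶ B)
      (z : (Q ⊗ B).left), (snd Q B).left z ∈ Set.range f.left → z ∈ Set.range (Q ◁ f).left :=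
    fun {A B} Q f z ⟨w, hw⟩ => by
      obtain ⟨z', -, hz'⟩ := AlgebraicGeometry.Scheme.Pullback.exists_preimage_pullback
        (f := f.left) (g := (snd Q B).left) w z hw
      refine ⟨(hsq Q f).isoPullback.inv z', ?_⟩
      rw [← Scheme.Hom.comp_apply, IsPullback.isoPullback_inv_snd]
      exact hz'
  refine IsPullback.of_forall_isPullback_app fun T => ?_
  rw [CategoryTheory.Limits.Types.isPullback_iff]
  refine ⟨?_, ?_, ?_⟩
  · ext φ
    exact (Category.assoc _ _ _).symm
  · rintro φ ψ ⟨h₁, -⟩
    exact Subtype.ext ((cancel_mono j).1 (congrArg Subtype.val h₁))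
  · intro φ u hφu
    have hφu' : lift (toUnit (unop T) ≫ o) (𝟙 (unop T)) ≫ φ.1 = u ≫ j := hφu
    have hφ : Magnet.MonAct.IsEquivariant _ _ φ.1 := φ.2
    let W : (M ⊗ unop T).left.Opens := φ.1.left ⁻¹ᵁ j.left.opensRange
    have hW : ∀ z : (G ⊗ (M ⊗ unop T)).left, (snd G (M ⊗ unop T)).left z ∈ W →
        ((((Magnet.MonAct.regular M).restrict i).prod (Magnet.MonAct.trivial G (unop T))).act).left z ∈ W := by
      intro z hz
      show φ.1.left _ ∈ Set.range j.left
      rw [← Scheme.Hom.comp_apply, ← Over.comp_left,
        show _ ≫ φ.1 = (G ◁ φ.1) ≫ (Magnet.MonAct.ofAction aX).act from hφ, Over.comp_left,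
        Scheme.Hom.comp_apply]
      have hz' : (snd G X).left ((G ◁ φ.1).left z) ∈ Set.range j.left := by
        rw [← Scheme.Hom.comp_apply, ← Over.comp_left, whiskerLeft_snd, Over.comp_left, Scheme.Hom.comp_apply]
        exact hz
      obtain ⟨w, hw⟩ := hrange G j _ hz'
      refine ⟨aU.act.left w, ?_⟩
      rw [← hw, ← Scheme.Hom.comp_apply, ← Scheme.Hom.comp_apply, ← Over.comp_left, ← Over.comp_left]
      exact congrArg (fun g => g.left w) (show aU.act ≫ j = (G ◁ j) ≫ (Magnet.MonAct.ofAction aX).act from hj)
    have hWtop : ∀ p : (M ⊗ unop T).left, p ∈ W := by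
      intro p
      let t := (snd M (unop T)).left p
      let T' : Over (Spec (CommRingCat.of k)) := Over.mk ((unop T).left.fromSpecResidueField t ≫ (unop T).hom)
      let jt : T' ⟶ unop T := Over.homMk ((unop T).left.fromSpecResidueField t) rfl
      have ht : t ∈ Set.range jt.left :=
        ⟨IsLocalRing.closedPoint _, (unop T).left.fromSpecResidueField_apply t _⟩
      obtain ⟨p', hp'⟩ := hrange M jt p ht
      have hsec : lift (toUnit T' ≫ o) (𝟙 T') ≫ (M ◁ jt) ≫ φ.1 = jt ≫ u ≫ j := by
        rw [lift_whiskerLeft_assoc, Category.id_comp, ← hφu', comp_lift_assoc, Category.comp_id,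
          ← Category.assoc jt, comp_toUnit]
      have hnat : ∀ z : (G ⊗ (M ⊗ T')).left,
          (M ◁ jt).left ((((Magnet.MonAct.regular M).restrict i).prod
            (Magnet.MonAct.trivial G T')).act.left z) =
          ((((Magnet.MonAct.regular M).restrict i).prod (Magnet.MonAct.trivial G (unop T))).act).left
            ((G ◁ (M ◁ jt)).left z) := fun z => by
        rw [← Scheme.Hom.comp_apply, ← Scheme.Hom.comp_apply, ← Over.comp_left, ← Over.comp_left,
          Magnet.MonAct.prod_trivial_act_whiskerLeft]
      have hall := hM T' ((unop T).left.residueField t) (Iso.refl _) ((M ◁ jt).left ⁻¹ᵁ W)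
        (fun z hz => by
          show (M ◁ jt).left _ ∈ W
          rw [hnat]
          refine hW _ ?_
          rw [← Scheme.Hom.comp_apply, ← Over.comp_left, whiskerLeft_snd, Over.comp_left,
            Scheme.Hom.comp_apply]
          exact hz)
        (eq_top_iff.2 fun z _ => by
          show φ.1.left _ ∈ Set.range j.left
          rw [← Scheme.Hom.comp_apply, ← Scheme.Hom.comp_apply, ← Over.comp_left, ← Over.comp_left]
          refine ⟨(jt ≫ u).left z, ?_⟩
          rw [← Scheme.Hom.comp_apply, ← Over.comp_left, Category.assoc, hsec])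
      have : p' ∈ (M ◁ jt).left ⁻¹ᵁ W := hall.ge (show p' ∈ (⊤ : (M ⊗ T').left.Opens) from trivial)
      rw [← hp']
      exact this
    have hr : Set.range φ.1.left ⊆ Set.range j.left := Set.range_subset_iff.2 hWtop
    let ψ : M ⊗ unop T ⟶ U := Over.homMk (IsOpenImmersion.lift j.left φ.1.left hr) (by
      rw [← Over.w j, IsOpenImmersion.lift_fac_assoc, Over.w φ.1])
    have hψ : ψ ≫ j = φ.1 := Over.OverMorphism.ext (IsOpenImmersion.lift_fac _ _ hr)
    refine ⟨⟨ψ, ?_⟩, Subtype.ext hψ, ?_⟩
    · rw [Magnet.MonAct.mem_eqvHom_iff]
      intro T' g b t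
      have h := (Magnet.MonAct.mem_eqvHom_iff φ.1).1 φ.2
      rw [← cancel_mono j, Category.assoc, hψ, h T' g b t, Category.assoc, hj', Category.assoc, hψ]
    · show lift (toUnit (unop T) ≫ o) (𝟙 (unop T)) ≫ ψ = u
      rw [← cancel_mono j, Category.assoc, hψ, hφu']

end Groth.Agent.S18958
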