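import Groth.Statements.S18959
import Groth.Agent.H15Magnet.LineIso.Main
-- import your own Groth.Agent.* helpers here

set_option autoImplicit false
universe u
open CategoryTheory MonoidalCategory CartesianMonoidalCategory MonObj AlgebraicGeometry Opposite
open Magnet

set_option linter.style.haveILetI false
set_option backward.isDefEq.respectTransparency false
set_option backward.isDefEq.respectTransparency.types false

namespace Groth.Agent.S18959

/-- Let k be a field and let M be the affine line A^1_k with its multiplication (the diagonalizable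
monoid scheme of the additive monoid of natural numbers; the published statement covers any Kempf
monoid over k), acting on k-schemes X and Y through a and b so that X and Y are locally linear, i.e.
every point has an affine open neighbourhood stable under the action. Let Y be locally Noetherian
and f : X → Y an equivariant k-morphism such that: (1) the induced map of fixed-point subfunctors
X^M → Y^M is an isomorphism; (2) the square formed by X^M → Y^M, the inclusions X^M → X, Y^M → Y of
functors of points and f is cartesian; (3) there is an open subset V of X on which f is étale and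
through which every fixed T-valued point of X factors. Then f is an isomorphism. -/
theorem result (k : Type u) [Field k]
    (X Y : Over (Spec (CommRingCat.of k))) (a : Magnet.MonAct (Magnet.AMonS (Spec (CommRingCat.of k)) ℕ) X) (b : Magnet.MonAct (Magnet.AMonS (Spec (CommRingCat.of k)) ℕ) Y)
    (hX : ∀ x : X.left, ∃ U : X.left.Opens, x ∈ U ∧ IsAffineOpen U ∧
      (CartesianMonoidalCategory.snd (Magnet.AMonS (Spec (CommRingCat.of k)) ℕ) X).left ⁻¹ᵁ U ≤ a.act.left ⁻¹ᵁ U)
    (hY : ∀ y : Y.left, ∃ U : Y.left.Opens, y ∈ U ∧ IsAffineOpen U ∧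
      (CartesianMonoidalCategory.snd (Magnet.AMonS (Spec (CommRingCat.of k)) ℕ) Y).left ⁻¹ᵁ U ≤ b.act.left ⁻¹ᵁ U)
    [IsLocallyNoetherian Y.left] (f : X ⟶ Y) (hf : Magnet.MonAct.IsEquivariant a b f)
    (h1 : IsIso (Magnet.MonAct.fixedPsh.map f hf))
    (h2 : IsPullback (Magnet.MonAct.fixedPsh.map f hf) (Magnet.MonAct.fixedPshι a)
      (Magnet.MonAct.fixedPshι b) (yoneda.map f))
    (V : X.left.Opens) [Etale (V.ι ≫ f.left)]
    (h3 : ∀ (T : Over (Spec (CommRingCat.of k))) (x : (Magnet.MonAct.fixedPsh a).obj (op T)), x.1.left ⁻¹ᵁ V = ⊤) :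
    IsIso f := by
  let hF := Groth.Agent.H15Magnet.LineIso.fixIso_of_isPullback a b f hf h1 h2
  have h3' : ∀ {T : Over (Spec (CommRingCat.of k))} (x : T ⟶ X),
      Groth.Agent.H15Magnet.LineIso.E a x = x → ∀ t, x.left t ∈ V := fun {T} x hx t => by
    have := h3 T (Groth.Agent.H15Magnet.LineIso.fix a x hx)
    exact (show x.left ⁻¹ᵁ V = ⊤ from this).ge (show t ∈ (⊤ : T.left.Opens) from trivial)
  choose U hyU haU hsU using hY
  have hiso : IsIso f.left := by
    refine IsZariskiLocalAtTarget.of_iSup_eq_top (P := MorphismProperty.isomorphisms Scheme) U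
      (eq_top_iff.2 fun y _ => TopologicalSpace.Opens.mem_iSup.2 ⟨y, hyU y⟩) fun y => ?_
    have haU' := Groth.Agent.H15Magnet.LineIso.isAffineOpen_preimage hf hF hX (haU y) (hsU y)
    have hbij := Groth.Agent.H15Magnet.LineIso.appLE_bijective hf hF V h3' (haU y) (hsU y) haU'
    haveI : IsIso (f.left.appLE (U y) (f.left ⁻¹ᵁ U y) le_rfl) :=
      (ConcreteCategory.isIso_iff_bijective _).2 hbij
    have heq : f.left ∣_ U y =
        haU'.isoSpec.hom ≫ Spec.map (f.left.appLE (U y) (f.left ⁻¹ᵁ U y) le_rfl) ≫ (haU y).isoSpec.inv := by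
      rw [← cancel_mono (U y).ι, morphismRestrict_ι, Category.assoc, Category.assoc,
        IsAffineOpen.isoSpec_inv_ι, IsAffineOpen.SpecMap_appLE_fromSpec f.left (haU y) haU' le_rfl,
        IsAffineOpen.isoSpec_hom_fromSpec_assoc]
    show IsIso _
    rw [heq]
    infer_instance
  haveI : IsIso ((Over.forget _).map f) := hiso
  exact isIso_of_reflects_iso f (Over.forget _)

end Groth.Agent.S18959
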