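import Groth.Statements.S1896
import Mathlib
import Groth.Agent.H06Mod.StalkExact
import Groth.Agent.H22Alg.CohSupport

set_option autoImplicit false
universe u
open CategoryTheory AlgebraicGeometry
open Cyc

namespace Groth.Agent.S1896

/-- For a short exact sequence 0 → F → G → H → 0 of coherent O_X-modules (X locally Noetherian with
dimension function δ) whose supports have δ-dimension at most k, one has [G]_k = [F]_k + [H]_k
coefficientwise. Here (X, δ) satisfies Cyc.IsSetup (X locally Noetherian with universally catenary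
local rings, δ a dimension function). -/
theorem result (X : Scheme.{u}) (δ : X → ℤ) (hX : Cyc.IsSetup X δ) (k : ℤ) (T : ShortComplex X.Modules) (hT : T.ShortExact) (h₁ : Coh.IsCoh T.X₁) (h₂ : Coh.IsCoh T.X₂) (h₃ : Coh.IsCoh T.X₃) (hdim : ∀ x : X, Nontrivial (T.X₂.presheaf.stalk x) → δ x ≤ k) : Cyc.sheafFun δ k T.X₂ = Cyc.sheafFun δ k T.X₁ + Cyc.sheafFun δ k T.X₃ := by
  haveI := hX.1
  have fin : ∀ F : X.Modules, Coh.IsCoh F → ∀ x, δ x = k →
      (Nontrivial (F.presheaf.stalk x) → ∀ y, Nontrivial (F.presheaf.stalk y) → δ y ≤ k) →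
      Module.length (X.presheaf.stalk x) (F.presheaf.stalk x) < ⊤ := by
    intro F hF x hx hd
    rcases subsingleton_or_nontrivial (F.presheaf.stalk x) with h | h
    · rw [Module.length_eq_zero_iff.mpr h]; exact ENat.top_pos
    · refine Groth.Agent.H22Alg.CohSupport.length_stalk_lt_top F hF x fun y hy hyx => ?_
      by_contra hne
      have := ((hX.2.2 y x hyx hne).1)
      have := hd h y hy
      omega
  funext x
  simp only [Pi.add_apply, Cyc.sheafFun]
  split_ifs with hx
  · have hinj := Groth.Agent.H06Mod.stalk_injective T hT x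
    have hsurj := Groth.Agent.H06Mod.stalk_surjective T hT x
    have hex := Groth.Agent.H06Mod.stalk_exact T hT x
    have h2 := fin T.X₂ h₂ x hx fun _ => hdim
    have hl := Module.length_eq_add_of_exact _ _ hinj hsurj hex
    rw [hl] at h2 ⊢
    obtain ⟨ha, hb⟩ := WithTop.add_lt_top.mp h2
    rw [ENat.toNat_add ha.ne hb.ne]
    push_cast
    ring
  · ring

end Groth.Agent.S1896
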