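import Groth.Statements.S18960
set_option linter.style.haveILetI false
open CategoryTheory CategoryTheory.Limits Opposite

set_option autoImplicit false
universe w' w v u
open CategoryTheory Limits
open CatLim

namespace Groth.Agent.S18960

/-- Let C be a category and T an endofunctor of C; let C(T) be the category whose objects are pairs (X,
u) with u : T X → X an isomorphism and whose morphisms (X, u) → (Y, w) are the morphisms X → Y
compatible with u and w — the full subcategory of T-algebras with invertible structure map — and let
π : C(T) → C be the forgetful functor. If T preserves colimits of shape J then π creates colimits of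
shape J. (The source assumes T preserves all small colimits and concludes for all small shapes; the
argument is shape by shape.) -/
theorem result {C : Type u} [Category.{v} C] (T : C ⥤ C)
    (J : Type w) [Category.{w'} J] [PreservesColimitsOfShape J T] :
    Nonempty (CreatesColimitsOfShape J
      ((ObjectProperty.ι (fun A : Endofunctor.Algebra T => IsIso A.str)) ⋙ Endofunctor.Algebra.forget T)) := by
  constructor
  constructor
  intro K
  refine createsColimitOfReflectsIso fun c t => ?_
  let Kc := K ⋙ (ObjectProperty.ι (fun A : Endofunctor.Algebra T => IsIso A.str)) ⋙ Endofunctor.Algebra.forget T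
  haveI : ∀ j, IsIso (K.obj j).obj.str := fun j => (K.obj j).property
  let e : Kc ⋙ T ≅ Kc := NatIso.ofComponents (fun j => @asIso _ _ _ _ (K.obj j).obj.str (K.obj j).property) (fun f => (K.map f).hom.h)
  have hT : IsColimit (T.mapCocone c) := isColimitOfPreserves T t
  let a : T.obj c.pt ≅ c.pt := IsColimit.coconePointsIsoOfNatIso hT t e
  have ha : ∀ j, T.map (c.ι.app j) ≫ a.hom = (K.obj j).obj.str ≫ c.ι.app j := fun j =>
    (IsColimit.comp_coconePointsIsoOfNatIso_hom hT t e j).trans (by simp [e]; rfl)
  let A : ObjectProperty.FullSubcategory (fun A : Endofunctor.Algebra T => IsIso A.str) :=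
    ⟨⟨c.pt, a.hom⟩, inferInstanceAs (IsIso a.hom)⟩
  let lift : Cocone K :=
    { pt := A
      ι := { app := fun j => ObjectProperty.homMk ⟨c.ι.app j, ha j⟩
             naturality := fun i j f => by
               ext
               exact (c.w f).trans (Category.comp_id _).symm } }
  exact
    { liftedCocone := lift
      validLift := Cocone.ext (Iso.refl _) (fun j => by exact Category.comp_id _)
      makesColimit :=
        { desc := fun s => ObjectProperty.homMk
            ⟨t.desc ((ObjectProperty.ι (fun A : Endofunctor.Algebra T => IsIso A.str) ⋙ Endofunctor.Algebra.forget T).mapCocone s), by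
              apply hT.hom_ext
              intro j
              let d : c.pt ⟶ s.pt.obj.a :=
                t.desc ((ObjectProperty.ι (fun A : Endofunctor.Algebra T => IsIso A.str) ⋙ Endofunctor.Algebra.forget T).mapCocone s)
              have hd : c.ι.app j ≫ d = (s.ι.app j).hom.f := t.fac _ j
              show T.map (c.ι.app j) ≫ T.map d ≫ s.pt.obj.str = T.map (c.ι.app j) ≫ a.hom ≫ d
              refine (Category.assoc _ _ _).symm.trans ?_
              refine Eq.trans ?_ (Category.assoc _ _ _)
              refine Eq.trans ?_ (congrArg (· ≫ d) (ha j).symm)
              refine Eq.trans ?_ (Category.assoc _ _ _).symm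
              refine Eq.trans (congrArg (· ≫ s.pt.obj.str) ((T.map_comp _ _).symm.trans (congrArg T.map hd))) ?_
              exact ((s.ι.app j).hom.h).trans (congrArg ((K.obj j).obj.str ≫ ·) hd.symm)⟩
          fac := fun s j => by ext; exact t.fac _ j
          uniq := fun s m hm => by
            ext
            exact t.uniq ((ObjectProperty.ι (fun A : Endofunctor.Algebra T => IsIso A.str) ⋙ Endofunctor.Algebra.forget T).mapCocone s) m.hom.f
              (fun j => congrArg (fun k => k.hom.f) (hm j)) } }

end Groth.Agent.S18960
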