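import Groth.Statements.S18961
import Mathlib.RingTheory.Smooth.Locus
import Mathlib.RingTheory.MvPolynomial.Ideal
import Mathlib.RingTheory.GradedAlgebra.Homogeneous.Ideal
import Mathlib.RingTheory.FinitePresentation
import Mathlib.RingTheory.Ideal.Cotangent
import Mathlib.LinearAlgebra.Dimension.StrongRankCondition
import Mathlib.Tactic

set_option autoImplicit false
universe u
open BBDec

namespace Groth.Agent.S18961

open MvPolynomial in
theorem subst_one {A : Type*} [CommRing A] {σ : Type*} (s : σ → MvPolynomial σ A)
    (hs : ∀ i, s i - X i ∈ idealOfVars σ A ^ 2) (q : MvPolynomial σ A) :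
    aeval s q - q ∈ idealOfVars σ A ∧
      (q ∈ idealOfVars σ A → aeval s q - q ∈ idealOfVars σ A ^ 2) := by
  have hsM : ∀ i, s i ∈ idealOfVars σ A := fun i => by
    have h1 : s i - X i ∈ idealOfVars σ A := Ideal.pow_le_self two_ne_zero (hs i)
    have h2 : (X i : MvPolynomial σ A) ∈ idealOfVars σ A := Ideal.subset_span ⟨i, rfl⟩
    simpa using add_mem h1 h2
  have h0 : ∀ q : MvPolynomial σ A, aeval s q - q ∈ idealOfVars σ A := by
    intro q
    induction q using MvPolynomial.induction_on with
    | C a => simp
    | add p q hp hq => rw [map_add, add_sub_add_comm]; exact add_mem hp hq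
    | mul_X p i hp =>
      rw [map_mul, aeval_X]
      exact sub_mem (Ideal.mul_mem_left _ _ (hsM i))
        (Ideal.mul_mem_left _ _ (Ideal.subset_span ⟨i, rfl⟩))
  refine ⟨h0 q, fun hq => ?_⟩
  induction hq using Submodule.span_induction with
  | mem x hx => obtain ⟨i, rfl⟩ := hx; rw [aeval_X]; exact hs i
  | zero => simp
  | add x y _ _ hx hy => rw [map_add, add_sub_add_comm]; exact add_mem hx hy
  | smul r x hx ih =>
    rw [smul_eq_mul, map_mul]
    have hx' : x ∈ idealOfVars σ A := hx
    have hsx : aeval s x ∈ idealOfVars σ A := by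
      have := add_mem (Ideal.pow_le_self two_ne_zero ih) hx'
      simpa using this
    have : aeval s r * aeval s x - r * x = (aeval s r - r) * aeval s x + r * (aeval s x - x) := by ring
    rw [this]
    exact add_mem (by rw [pow_two]; exact Ideal.mul_mem_mul (h0 r) hsx) (Ideal.mul_mem_left _ _ ih)

open MvPolynomial in
theorem subst_pow {A : Type*} [CommRing A] {σ : Type*} (s : σ → MvPolynomial σ A)
    (hs : ∀ i, s i - X i ∈ idealOfVars σ A ^ 2) :
    ∀ (j : ℕ) (p : MvPolynomial σ A), p ∈ idealOfVars σ A ^ j →
      aeval s p - p ∈ idealOfVars σ A ^ (j + 1) := by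
  intro j
  induction j with
  | zero => intro p _; simpa using (subst_one s hs p).1
  | succ j ih =>
    intro p hp
    rw [pow_succ] at hp
    induction hp using Submodule.mul_induction_on' with
    | mem_mul_mem x hx y hy =>
      rw [map_mul]
      have hsy : aeval s y ∈ idealOfVars σ A := by
        have := add_mem (subst_one s hs y).1 hy
        simpa using this
      have : aeval s x * aeval s y - x * y = (aeval s x - x) * aeval s y + x * (aeval s y - y) := by ring
      rw [this]
      refine add_mem ?_ ?_
      · rw [pow_succ _ (j + 1)]; exact Ideal.mul_mem_mul (ih x hx) hsy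
      · rw [add_assoc, pow_add]; exact Ideal.mul_mem_mul hx ((subst_one s hs y).2 hy)
    | add x _ y _ hx hy => rw [map_add, add_sub_add_comm]; exact add_mem hx hy

open MvPolynomial in
theorem eq_zero_of_subst {A : Type*} [CommRing A] {σ : Type*} (s : σ → MvPolynomial σ A)
    (hs : ∀ i, s i - X i ∈ idealOfVars σ A ^ 2) (p : MvPolynomial σ A)
    (hp : aeval s p ∈ idealOfVars σ A ^ (p.totalDegree + 1)) : p = 0 := by
  have h : ∀ j ≤ p.totalDegree + 1, p ∈ idealOfVars σ A ^ j := by
    intro j
    induction j with
    | zero => intro _; simp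
    | succ j ih =>
      intro hj
      have h1 := subst_pow s hs j p (ih (by omega))
      have h2 : aeval s p ∈ idealOfVars σ A ^ (j + 1) := Ideal.pow_le_pow_right hj hp
      simpa using sub_mem h2 h1
  have h1 := (mem_pow_idealOfVars_iff' _ p).mp (h _ le_rfl)
  ext x
  rw [coeff_zero]
  by_cases hx : x.degree < p.totalDegree + 1
  · exact h1 x hx
  · by_contra hne
    have := le_totalDegree (mem_support_iff.mpr hne)
    rw [Finsupp.degree_apply] at hx
    simp only [Finsupp.sum] at this
    omega

/-- Let k be a field, A a finitely generated k-algebra and B a finitely generated A-algebra graded by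
the natural numbers as an A-algebra, with degree-zero part equal to the image of A and A → B
injective; let B₊ be the irrelevant ideal. So Spec B → Spec A is the retraction of an affine scheme
with an action of the multiplicative monoid of the affine line onto its fixed-point scheme, with
zero section cut out by B₊; this is the affine-local graded form, for that monoid, of the published
statement, which covers any Kempf monoid M with unit group G and a k-scheme X locally of finite
type, and concludes that the retraction X⁺ → X^G is an affine-space bundle near a fixed point at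
whose section value it is smooth. Assume that A → B is smooth at every prime ideal containing B₊ and
that B₊/B₊² is a free A-module of finite rank. Then B is isomorphic, as an A-algebra, to the
polynomial ring over A in (rank of B₊/B₊²) variables. (The published statement also makes the
isomorphism equivariant for a suitable linear action when G is linearly reductive; only the
existence of an A-algebra isomorphism is stated here. Freeness of the conormal module holds after
shrinking the base, which is how the published proof reaches this situation.) -/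
theorem result (k : Type u) [Field k]
    (A B : Type u) [CommRing A] [CommRing B] [Algebra k A] [Algebra k B] [Algebra A B] [IsScalarTower k A B]
    [Algebra.FiniteType k A] [Algebra.FiniteType A B] (𝒜 : ℕ → Submodule A B) [GradedAlgebra 𝒜]
    (h0 : ∀ b : B, b ∈ 𝒜 0 ↔ b ∈ Set.range (algebraMap A B)) (hinj : Function.Injective (algebraMap A B))
    (hsm : ∀ (P : Ideal B) [P.IsPrime], (HomogeneousIdeal.irrelevant 𝒜).toIdeal ≤ P → Algebra.IsSmoothAt A P)
    [Module.Free A (HomogeneousIdeal.irrelevant 𝒜).toIdeal.Cotangent]
    [Module.Finite A (HomogeneousIdeal.irrelevant 𝒜).toIdeal.Cotangent] :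
    Nonempty (B ≃ₐ[A]
      MvPolynomial (Fin (Module.finrank A (HomogeneousIdeal.irrelevant 𝒜).toIdeal.Cotangent)) A) := by
  classical
  set I := (HomogeneousIdeal.irrelevant 𝒜).toIdeal with hI
  set n := Module.finrank A I.Cotangent with hn
  rcases subsingleton_or_nontrivial A with hA | hA
  · haveI : Subsingleton B := by
      refine subsingleton_of_zero_eq_one ?_
      rw [← map_zero (algebraMap A B), ← map_one (algebraMap A B), Subsingleton.elim (0 : A) 1]
    haveI : Subsingleton (MvPolynomial (Fin n) A) := by
      refine subsingleton_of_zero_eq_one ?_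
      rw [← map_zero MvPolynomial.C, ← map_one MvPolynomial.C, Subsingleton.elim (0 : A) 1]
    exact ⟨{ toFun := fun _ => 0, invFun := fun _ => 0, left_inv := fun _ => Subsingleton.elim _ _,
             right_inv := fun _ => Subsingleton.elim _ _, map_mul' := fun _ _ => Subsingleton.elim _ _,
             map_add' := fun _ _ => Subsingleton.elim _ _, commutes' := fun _ => Subsingleton.elim _ _}⟩
  let e : Module.Basis (Fin n) A I.Cotangent := Module.finBasisOfFinrankEq A I.Cotangent rfl
  let cls : I →ₗ[A] I.Cotangent := I.toCotangent.restrictScalars A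
  have hclssurj : Function.Surjective cls := Ideal.toCotangent_surjective I
  -- projections
  let pr : ℕ → B →ₗ[A] B := fun d => GradedAlgebra.proj 𝒜 d
  have hpr_mem : ∀ d b, pr d b ∈ 𝒜 d := fun d b => SetLike.coe_mem (DirectSum.decompose 𝒜 b d)
  have hpr_same : ∀ d b, b ∈ 𝒜 d → pr d b = b := fun d b hb => DirectSum.decompose_of_mem_same 𝒜 hb
  have hpr_ne : ∀ d i b, b ∈ 𝒜 i → i ≠ d → pr d b = 0 := fun d i b hb hne =>
    DirectSum.decompose_of_mem_ne 𝒜 hb hne
  have hsum : ∀ b : B, ∃ N, ∀ M, N ≤ M → b = ∑ d ∈ Finset.range M, pr d b := by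
    intro b
    refine ⟨((DirectSum.decompose 𝒜 b).support).sup id + 1, fun M hM => ?_⟩
    conv_lhs => rw [← DirectSum.sum_support_decompose 𝒜 b]
    refine Finset.sum_subset (fun d hd => Finset.mem_range.mpr ?_) fun d _ hd => ?_
    · have : d ≤ ((DirectSum.decompose 𝒜 b).support).sup id := Finset.le_sup (f := id) hd
      omega
    · rw [DFinsupp.notMem_support_iff] at hd
      show ((DirectSum.decompose 𝒜 b d : 𝒜 d) : B) = 0
      rw [hd]; rfl
  have hmemI : ∀ b, b ∈ I ↔ pr 0 b = 0 := fun b => Iff.rfl
  have hprI : ∀ d (b : B), b ∈ I → pr d b ∈ I := fun d b hb =>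
    (HomogeneousIdeal.irrelevant 𝒜).isHomogeneous d hb
  have hprI2 : ∀ d (b : B), b ∈ I ^ 2 → pr d b ∈ I ^ 2 := fun d b hb => by
    have hh : (I ^ 2).IsHomogeneous 𝒜 := by
      rw [pow_two]; exact ((HomogeneousIdeal.irrelevant 𝒜).isHomogeneous).mul (HomogeneousIdeal.irrelevant 𝒜).isHomogeneous
    exact hh d hb
  let prI : ℕ → I →ₗ[A] I := fun d =>
    ((pr d).comp (I.restrictScalars A).subtype).codRestrict (I.restrictScalars A) (fun x => hprI d x x.2)
  -- lifts of the basis
  choose x hx using fun i => hclssurj (e i)
  choose Nf hNf using fun i => hsum (x i : B)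
  set N := Finset.univ.sup Nf with hN
  obtain ⟨σ₀, hσ₀⟩ := LinearMap.exists_rightInverse_of_surjective cls (LinearMap.range_eq_top.mpr hclssurj)
  have hσ : ∀ m, cls (σ₀ m) = m := fun m => LinearMap.congr_fun hσ₀ m
  have hkey : ∀ (d : ℕ) (a b : I), cls a = cls b → cls (prI d a) = cls (prI d b) := by
    intro d a b h
    have h' : (a : B) - b ∈ I ^ 2 := (Ideal.toCotangent_eq I).mp h
    refine (Ideal.toCotangent_eq I).mpr ?_
    have := hprI2 d _ h'
    rw [map_sub] at this
    exact this
  let y : Fin n → I := fun i => ∑ d ∈ Finset.range N, prI d (σ₀ (cls (prI d (x i))))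
  have hy : ∀ i, cls (y i) = e i := by
    intro i
    have h1 : cls (y i) = ∑ d ∈ Finset.range N, cls (prI d (prI d (x i))) := by
      simp only [y, map_sum]
      exact Finset.sum_congr rfl fun d _ => hkey d _ _ (hσ _)
    have h2 : ∑ d ∈ Finset.range N, prI d (prI d (x i)) = x i := by
      apply Subtype.ext
      rw [AddSubmonoidClass.coe_finsetSum]
      refine Eq.trans (Finset.sum_congr rfl fun d _ => hpr_same d _ (hpr_mem d _)) ?_
      exact (hNf i N (Finset.le_sup (Finset.mem_univ i))).symm
    rw [h1, ← map_sum, h2, hx]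
  let φ : MvPolynomial (Fin n) A →ₐ[A] B := MvPolynomial.aeval fun i => (y i : B)
  have hφI : ∀ p, p ∈ MvPolynomial.idealOfVars (Fin n) A → φ p ∈ I := by
    intro p hp
    have : MvPolynomial.idealOfVars (Fin n) A ≤ I.comap φ.toRingHom := Ideal.span_le.mpr (by
      rintro _ ⟨i, rfl⟩
      show φ (MvPolynomial.X i) ∈ I
      rw [show φ (MvPolynomial.X i) = (y i : B) from MvPolynomial.aeval_X _ i]; exact (y i).2)
    exact this hp
  have hzero0 : ∀ a : A, algebraMap A B a ∈ I → a = 0 := by
    intro a ha
    rw [hmemI, hpr_same 0 _ ((h0 _).mpr ⟨a, rfl⟩), ← map_zero (algebraMap A B)] at ha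
    exact hinj ha
  -- surjectivity
  have hsurj : Function.Surjective φ := by
    suffices h : ∀ d, ∀ b ∈ 𝒜 d, b ∈ φ.range by
      intro b
      obtain ⟨M, hM⟩ := hsum b
      have : b ∈ φ.range := by
        rw [hM M le_rfl]
        exact sum_mem fun d _ => h d _ (hpr_mem d b)
      exact this
    intro d
    induction d using Nat.strong_induction_on with
    | _ d ih =>
      intro b hb
      rcases Nat.eq_zero_or_pos d with rfl | hd
      · obtain ⟨a, rfl⟩ := (h0 b).mp hb
        exact φ.range.algebraMap_mem a
      have hbI : b ∈ I := HomogeneousIdeal.mem_irrelevant_of_mem 𝒜 hd hb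
      have hsq : ∀ z ∈ I ^ 2, pr d z ∈ φ.range := by
        intro z hz
        rw [pow_two] at hz
        induction hz using Submodule.mul_induction_on' with
        | mem_mul_mem u hu v hv =>
          obtain ⟨M, hM⟩ := hsum u
          obtain ⟨M', hM'⟩ := hsum v
          rw [hM M le_rfl, hM' M' le_rfl, Finset.sum_mul_sum, map_sum]
          refine sum_mem fun i _ => ?_
          rw [map_sum]
          refine sum_mem fun j _ => ?_
          have hm := SetLike.mul_mem_graded (hpr_mem i u) (hpr_mem j v)
          by_cases hij : i + j = d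
          · rw [hpr_same d _ (hij ▸ hm)]
            rcases Nat.eq_zero_or_pos i with rfl | hi
            · rw [(hmemI u).mp hu, zero_mul]; exact zero_mem _
            rcases Nat.eq_zero_or_pos j with rfl | hj
            · rw [(hmemI v).mp hv, mul_zero]; exact zero_mem _
            exact mul_mem (ih i (by omega) _ (hpr_mem i u)) (ih j (by omega) _ (hpr_mem j v))
          · rw [hpr_ne d _ _ hm hij]; exact zero_mem _
        | add u _ v _ hu hv => rw [map_add]; exact add_mem hu hv
      set c := e.repr (cls ⟨b, hbI⟩) with hc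
      set X' : I := ∑ i, c i • x i with hX'
      have hX : cls X' = cls ⟨b, hbI⟩ := by
        simp only [hX', map_sum, map_smul, hx, hc, e.sum_repr]
      set L : I := ∑ i, c i • y i with hL
      have hLr : (L : B) ∈ φ.range := by
        have : (L : B) = φ (∑ i, c i • MvPolynomial.X i) := by
          simp [hL, φ, map_sum, map_smul]
        rw [this]; exact ⟨_, rfl⟩
      have hLcls : cls L = cls ⟨b, hbI⟩ := by
        simp only [hL, map_sum, map_smul, hy, hc, e.sum_repr]
      have hLsum : L = ∑ e' ∈ Finset.range N, prI e' (σ₀ (cls (prI e' X'))) := by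
        simp only [hL, y, hX', map_sum, map_smul, Finset.smul_sum]
        exact Finset.sum_comm
      have hLd : (L : B) ∈ 𝒜 d := by
        rw [hLsum, AddSubmonoidClass.coe_finsetSum]
        refine sum_mem fun e' _ => ?_
        by_cases he : e' = d
        · subst he; exact hpr_mem _ _
        · have h1 : cls (prI e' X') = 0 := by
            rw [hkey e' X' ⟨b, hbI⟩ hX]
            have : prI e' ⟨b, hbI⟩ = 0 := Subtype.ext (hpr_ne e' d b hb (Ne.symm he))
            rw [this, map_zero]
          rw [h1, map_zero, map_zero]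
          exact zero_mem _
      have hdiff : b - L ∈ I ^ 2 := (Ideal.toCotangent_eq I).mp hLcls.symm
      have := hsq _ hdiff
      rw [hpr_same d _ (sub_mem hb hLd)] at this
      simpa using add_mem this hLr
  -- injectivity
  haveI : IsNoetherianRing A := Algebra.FiniteType.isNoetherianRing k A
  haveI : Algebra.FinitePresentation A B := Algebra.FinitePresentation.of_finiteType.mp inferInstance
  obtain ⟨J, hJ⟩ := (PrimeSpectrum.isClosed_iff_zeroLocus_ideal _).mp
    (Algebra.isOpen_smoothLocus (R := A) (A := B)).isClosed_compl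
  have hJI : J ⊔ I = ⊤ := by
    by_contra hne
    obtain ⟨M, hMmax, hM⟩ := Ideal.exists_le_maximal _ hne
    haveI := hMmax.isPrime
    have h1 : (⟨M, hMmax.isPrime⟩ : PrimeSpectrum B) ∈ (Algebra.smoothLocus A B)ᶜ := by
      rw [hJ]; exact fun z hz => hM (Ideal.mem_sup_left hz)
    exact h1 (hsm M (le_sup_right.trans hM))
  obtain ⟨f, hfJ, i₀, hi₀, hfi⟩ := Submodule.mem_sup.mp (hJI ▸ Submodule.mem_top (x := (1 : B)))
  haveI : Algebra.FormallySmooth A (Localization.Away f) := by
    rw [← Algebra.basicOpen_subset_smoothLocus_iff]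
    intro P hP
    by_contra hns
    have : P ∈ PrimeSpectrum.zeroLocus (J : Set B) := hJ ▸ hns
    exact hP (this hfJ)
  have hf1 : IsUnit ((Ideal.Quotient.mkₐ A (I ^ 2)) f) := by
    have hn2 : (Ideal.Quotient.mk (I ^ 2) i₀) ^ 2 = 0 := by
      rw [← map_pow]; exact Ideal.Quotient.eq_zero_iff_mem.mpr (Ideal.pow_mem_pow hi₀ 2)
    have : (Ideal.Quotient.mkₐ A (I ^ 2)) f = 1 - Ideal.Quotient.mk (I ^ 2) i₀ := by
      rw [← map_one (Ideal.Quotient.mk (I ^ 2)), ← map_sub, ← hfi, add_sub_cancel_right]; rfl
    rw [this]
    exact IsNilpotent.isUnit_one_sub ⟨2, hn2⟩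
  let h : Localization.Away f →ₐ[A] B ⧸ I ^ 2 :=
    IsLocalization.liftAlgHom (M := Submonoid.powers f) (f := Ideal.Quotient.mkₐ A (I ^ 2)) (fun z => by
      obtain ⟨j, hj⟩ := z.2
      show IsUnit ((Ideal.Quotient.mkₐ A (I ^ 2)) (z : B))
      rw [← hj, map_pow]; exact hf1.pow j)
  have hh : ∀ b : B, h (algebraMap B _ b) = Ideal.Quotient.mk (I ^ 2) b := fun b => by
    rw [IsLocalization.liftAlgHom_apply, IsLocalization.lift_eq]; rfl
  have hconst : ∀ q, φ q ∈ I → q ∈ MvPolynomial.idealOfVars (Fin n) A := by
    intro q hq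
    have hq0 : q - MvPolynomial.C (MvPolynomial.coeff 0 q) ∈ MvPolynomial.idealOfVars (Fin n) A := by
      rw [← pow_one (MvPolynomial.idealOfVars (Fin n) A), MvPolynomial.mem_pow_idealOfVars_iff']
      intro z hz
      rw [Nat.lt_one_iff, Finsupp.degree_eq_zero_iff] at hz
      simp [hz]
    have h1 : MvPolynomial.coeff 0 q = 0 := by
      apply hzero0
      have := sub_mem hq (hφI _ hq0)
      rw [← map_sub, sub_sub_cancel] at this
      simpa [φ] using this
    rwa [h1, map_zero, sub_zero] at hq0
  have hker2 : ∀ q, φ q ∈ I ^ 2 → q ∈ MvPolynomial.idealOfVars (Fin n) A ^ 2 := by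
    intro q hq
    have hq1 := hconst q (Ideal.pow_le_self two_ne_zero hq)
    have hlin : q - ∑ i, MvPolynomial.coeff (Finsupp.single i 1) q • MvPolynomial.X i ∈
        MvPolynomial.idealOfVars (Fin n) A ^ 2 := by
      rw [MvPolynomial.mem_pow_idealOfVars_iff']
      intro z hz
      rcases Nat.lt_or_ge z.degree 1 with h' | h'
      · rw [Nat.lt_one_iff, Finsupp.degree_eq_zero_iff] at h'
        subst h'
        rw [← pow_one (MvPolynomial.idealOfVars (Fin n) A), MvPolynomial.mem_pow_idealOfVars_iff'] at hq1
        simp [MvPolynomial.coeff_sum, hq1 0 (by simp)]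
      · have hz1 : z.degree = 1 := by omega
        obtain ⟨i, rfl⟩ : ∃ i, Finsupp.single i 1 = z := by
          have hne : z ≠ 0 := by
            intro h0'; rw [h0'] at hz1; simp at hz1
          obtain ⟨i, hi⟩ := Finsupp.support_nonempty_iff.mpr hne
          refine ⟨i, ?_⟩
          rw [Finsupp.degree_apply] at hz1
          have h2 := Finset.add_sum_erase z.support z hi
          rw [hz1] at h2
          have hzi : z i ≠ 0 := Finsupp.mem_support_iff.mp hi
          ext j
          by_cases hji : j = i
          · subst hji; simp; omega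
          · have : z j = 0 := by
              by_contra hzj
              have h3 := Finset.single_le_sum (f := fun j => z j) (fun _ _ => Nat.zero_le _)
                (Finset.mem_erase.mpr ⟨hji, Finsupp.mem_support_iff.mpr hzj⟩)
              omega
            simp [this, Ne.symm hji]
        simp [MvPolynomial.coeff_sum, MvPolynomial.coeff_X', Finsupp.single_left_inj]
    have hc : ∀ i, MvPolynomial.coeff (Finsupp.single i 1) q = 0 := by
      have h1 : φ (q - ∑ i, MvPolynomial.coeff (Finsupp.single i 1) q • MvPolynomial.X i) ∈ I ^ 2 := by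
        have hle : MvPolynomial.idealOfVars (Fin n) A ^ 2 ≤ (I ^ 2).comap φ.toRingHom :=
          le_trans (Ideal.pow_right_mono (fun p hp => hφI p hp) 2) (Ideal.le_comap_pow _ 2)
        exact hle hlin
      have h2 := sub_mem hq h1
      rw [← map_sub, sub_sub_cancel] at h2
      have h3 : cls (∑ i, MvPolynomial.coeff (Finsupp.single i 1) q • y i) = 0 := by
        refine (Ideal.toCotangent_eq_zero I _).mpr ?_
        simpa [φ, map_sum, map_smul] using h2
      simp only [map_sum, map_smul, hy] at h3
      exact Fintype.linearIndependent_iff.mp e.linearIndependent _ h3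
    simpa [hc] using hlin
  have hinjφ : Function.Injective φ := by
    rw [injective_iff_map_eq_zero]
    intro p hp
    set K := p.totalDegree + 1 with hK
    set M := MvPolynomial.idealOfVars (Fin n) A with hMdef
    have hle : M ^ (max K 2) ≤ RingHom.ker ((Ideal.Quotient.mkₐ A (I ^ 2)).comp φ).toRingHom := by
      intro q hq
      refine Ideal.Quotient.eq_zero_iff_mem.mpr ?_
      have : M ^ 2 ≤ (I ^ 2).comap φ.toRingHom :=
        le_trans (Ideal.pow_right_mono (fun p hp => hφI p hp) 2) (Ideal.le_comap_pow _ 2)
      exact this (Ideal.pow_le_pow_right (le_max_right _ _) hq)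
    let ψ : MvPolynomial (Fin n) A ⧸ M ^ (max K 2) →ₐ[A] B ⧸ I ^ 2 :=
      Ideal.Quotient.liftₐ _ ((Ideal.Quotient.mkₐ A (I ^ 2)).comp φ) hle
    have hψs : Function.Surjective ψ := by
      intro z
      obtain ⟨b, rfl⟩ := Ideal.Quotient.mk_surjective z
      obtain ⟨q, rfl⟩ := hsurj b
      exact ⟨Ideal.Quotient.mk _ q, rfl⟩
    have hψn : IsNilpotent (RingHom.ker (ψ : (MvPolynomial (Fin n) A ⧸ M ^ (max K 2)) →+* B ⧸ I ^ 2)) := by
      refine ⟨max K 2, ?_⟩
      have h1 : RingHom.ker (ψ : (MvPolynomial (Fin n) A ⧸ M ^ (max K 2)) →+* B ⧸ I ^ 2) ≤ M.map (Ideal.Quotient.mk (M ^ (max K 2))) := by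
        intro z hz
        obtain ⟨q, rfl⟩ := Ideal.Quotient.mk_surjective z
        refine Ideal.mem_map_of_mem _ ?_
        exact hconst q (Ideal.pow_le_self two_ne_zero (Ideal.Quotient.eq_zero_iff_mem.mp hz))
      refine le_bot_iff.mp (le_trans (Ideal.pow_right_mono h1 _) ?_)
      rw [← Ideal.map_pow, Ideal.map_quotient_self]
    let G := Algebra.FormallySmooth.liftOfSurjective h ψ hψs hψn
    choose s hs using fun i => Ideal.Quotient.mk_surjective (G (algebraMap B _ (y i : B)))
    have hs2 : ∀ i, s i - MvPolynomial.X i ∈ M ^ 2 := by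
      intro i
      apply hker2
      have h1 : ψ (G (algebraMap B _ (y i : B))) = h (algebraMap B _ (y i : B)) :=
        Algebra.FormallySmooth.liftOfSurjective_apply h ψ hψs hψn _
      rw [← hs i, hh] at h1
      have h2 : φ (s i) - (y i : B) ∈ I ^ 2 := Ideal.Quotient.eq.mp h1
      rw [map_sub, show φ (MvPolynomial.X i) = (y i : B) from MvPolynomial.aeval_X _ i]
      exact h2
    apply eq_zero_of_subst s hs2 p
    have hcomp : (G.comp ((IsScalarTower.toAlgHom A B (Localization.Away f)).comp φ)) =
        (Ideal.Quotient.mkₐ A (M ^ (max K 2))).comp (MvPolynomial.aeval s) := by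
      refine MvPolynomial.algHom_ext fun i => ?_
      simp only [AlgHom.comp_apply, IsScalarTower.coe_toAlgHom', MvPolynomial.aeval_X, φ]
      exact (hs i).symm
    have h1 := AlgHom.congr_fun hcomp p
    simp only [AlgHom.comp_apply, hp, map_zero] at h1
    exact Ideal.pow_le_pow_right (le_max_left _ _) (Ideal.Quotient.eq_zero_iff_mem.mp h1.symm)
  exact ⟨(AlgEquiv.ofBijective φ ⟨hinjφ, hsurj⟩).symm⟩

end Groth.Agent.S18961
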