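import Groth.Statements.S18962
import Mathlib.RingTheory.Etale.Locus
import Mathlib.RingTheory.Etale.Kaehler
import Mathlib.RingTheory.Smooth.Locus
import Mathlib.RingTheory.LocalRing.Module
import Mathlib.RingTheory.Kaehler.Polynomial
import Mathlib.RingTheory.Kaehler.JacobiZariski
import Mathlib.RingTheory.Ideal.Cotangent
import Mathlib.LinearAlgebra.TensorProduct.Basis

set_option autoImplicit false
universe u
open BBDec

namespace Groth.Agent.S18962

open Algebra

section
variable {A B : Type u} [CommRing A] [CommRing B] [Algebra A B] (σ : B →ₐ[A] A)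

theorem sub_mem_ker (x : B) : x - algebraMap A B (σ x) ∈ RingHom.ker σ := by
  rw [RingHom.mem_ker, map_sub, AlgHom.commutes]
  exact sub_self _

/-- `x ↦ [x - σ x]` as a linear map. -/
noncomputable def cotL : B →ₗ[A] (RingHom.ker σ).Cotangent :=
  ((RingHom.ker σ).toCotangent.restrictScalars A).comp
    (LinearMap.codRestrict ((RingHom.ker σ).restrictScalars A)
      (LinearMap.id - (Algebra.linearMap A B).comp σ.toLinearMap) (sub_mem_ker σ))

theorem cotL_apply (x : B) :
    cotL σ x = (RingHom.ker σ).toCotangent ⟨x - algebraMap A B (σ x), sub_mem_ker σ x⟩ := rfl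

/-- The derivation to the cotangent module of a section. -/
noncomputable def cotDer : Derivation A B (RingHom.ker σ).Cotangent :=
  Derivation.mk' (cotL σ) fun x y => by
    rw [cotL_apply, cotL_apply, cotL_apply, ← LinearMap.map_smul, ← LinearMap.map_smul, ← map_add,
      Ideal.toCotangent_eq]
    have h : (x - algebraMap A B (σ x)) * (y - algebraMap A B (σ y)) ∈ RingHom.ker σ ^ 2 :=
      pow_two (RingHom.ker σ) ▸ Ideal.mul_mem_mul (sub_mem_ker σ x) (sub_mem_ker σ y)
    convert! (RingHom.ker σ ^ 2).neg_mem h using 1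
    simp only [Submodule.coe_add, Submodule.coe_smul, smul_eq_mul, map_mul]
    ring

theorem liftCot_D (x : RingHom.ker σ) :
    (cotDer σ).liftKaehlerDifferential (KaehlerDifferential.D A B x.1) = (RingHom.ker σ).toCotangent x := by
  rw [Derivation.liftKaehlerDifferential_comp_D]
  show cotL σ x.1 = _
  rw [cotL_apply]
  congr 1
  exact Subtype.ext (by simp [RingHom.mem_ker.mp x.2])

theorem smul_cot (b : B) (v : (RingHom.ker σ).Cotangent) : b • v = algebraMap A B (σ b) • v := by
  obtain ⟨⟨w, hw⟩, rfl⟩ := (RingHom.ker σ).toCotangent_surjective v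
  rw [← LinearMap.map_smul, ← LinearMap.map_smul, Ideal.toCotangent_eq]
  simp only [Submodule.coe_smul, smul_eq_mul, ← sub_mul]
  exact pow_two (RingHom.ker σ) ▸ Ideal.mul_mem_mul (sub_mem_ker σ b) hw

theorem D_sq_mem {w : B} (hw : w ∈ RingHom.ker σ ^ 2) :
    KaehlerDifferential.D A B w ∈ RingHom.ker σ • (⊤ : Submodule B Ω[B⁄A]) := by
  rw [pow_two] at hw
  refine Submodule.mul_induction_on hw (fun a ha b hb => ?_) (fun a b ha hb => ?_)
  · rw [Derivation.leibniz]
    exact add_mem (Submodule.smul_mem_smul ha trivial) (Submodule.smul_mem_smul hb trivial)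
  · rw [map_add]; exact add_mem ha hb

theorem sigma_notMem (P : Ideal B) (hP : RingHom.ker σ ≤ P) {s : B} (hs : s ∉ P) :
    algebraMap A B (σ s) ∉ P := fun h => hs (by simpa using add_mem (hP (sub_mem_ker σ s)) h)

/-- `Ω` of a local ring at a prime over the section is spanned modulo `P` by differentials of elements
of the kernel. -/
theorem map_D_mem_sup {L : Type u} [CommRing L] [IsLocalRing L] [Algebra A L] [Algebra B L]
    [IsScalarTower A B L] (P : Ideal B) (hP : RingHom.ker σ ≤ P)
    (hPL : P.map (algebraMap B L) ≤ IsLocalRing.maximalIdeal L) {w : B} (hw : w ∈ RingHom.ker σ ^ 2) :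
    KaehlerDifferential.D A L (algebraMap B L w) ∈
      IsLocalRing.maximalIdeal L • (⊤ : Submodule L Ω[L⁄A]) := by
  rw [← KaehlerDifferential.map_D A A B L]
  have hle : RingHom.ker σ • (⊤ : Submodule B Ω[B⁄A]) ≤
      ((IsLocalRing.maximalIdeal L • (⊤ : Submodule L Ω[L⁄A])).restrictScalars B).comap
        (KaehlerDifferential.map A A B L) := Submodule.smul_le.mpr fun r hr z _ => by
    show KaehlerDifferential.map A A B L (r • z) ∈ IsLocalRing.maximalIdeal L • (⊤ : Submodule L Ω[L⁄A])
    rw [LinearMap.map_smul, ← algebraMap_smul L r]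
    exact Submodule.smul_mem_smul (hPL (Ideal.mem_map_of_mem _ (hP hr))) Submodule.mem_top
  exact hle (D_sq_mem σ hw)

theorem span_eq_top_of_loc {L : Type u} [CommRing L] [IsLocalRing L] [Algebra A L] [Algebra B L]
    [IsScalarTower A B L] (M : Submonoid B) [IsLocalization M L] [Module.Finite L Ω[L⁄A]]
    (N : Submodule L Ω[L⁄A])
    (hN : ∀ y ∈ RingHom.ker σ, KaehlerDifferential.D A L (algebraMap B L y) ∈
      N ⊔ IsLocalRing.maximalIdeal L • ⊤) : N = ⊤ := by
  rw [← IsLocalRing.map_mkQ_eq_top, Submodule.map_mkQ_eq_top, sup_comm, _root_.eq_top_iff]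
  refine (KaehlerDifferential.span_range_map_derivation_of_isLocalization A B L M).ge.trans
    (Submodule.span_le.mpr ?_)
  rintro _ ⟨b, rfl⟩
  show KaehlerDifferential.map A A B L (KaehlerDifferential.D A B b) ∈ _
  have hb : KaehlerDifferential.D A L (algebraMap B L (b - algebraMap A B (σ b))) =
      KaehlerDifferential.map A A B L (KaehlerDifferential.D A B b) := by
    rw [← KaehlerDifferential.map_D A A B L, map_sub, Derivation.map_algebraMap, sub_zero]
  exact hb ▸ hN _ (sub_mem_ker σ b)

end

theorem formallyEtale_of_basis {A R S : Type u} [CommRing A] [CommRing R] [CommRing S] [Algebra A R]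
    [Algebra A S] [Algebra R S] [IsScalarTower A R S] [FormallySmooth A S]
    (h : Function.Bijective (KaehlerDifferential.mapBaseChange A R S)) : FormallyEtale R S := by
  rw [Algebra.formallyEtale_iff]
  refine ⟨?_, ?_⟩
  · refine subsingleton_of_forall_eq 0 fun z => ?_
    obtain ⟨w, rfl⟩ := KaehlerDifferential.map_surjective A R S z
    obtain ⟨v, rfl⟩ := h.2 w
    exact Function.Exact.apply_apply_eq_zero (KaehlerDifferential.exact_mapBaseChange_map A R S) v
  · refine subsingleton_of_forall_eq 0 fun z => ?_
    have h0 : H1Cotangent.δ A R S z = 0 := h.1 (by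
      rw [(H1Cotangent.exact_δ_mapBaseChange A R S).apply_apply_eq_zero, map_zero])
    obtain ⟨w, rfl⟩ := (H1Cotangent.exact_map_δ A R S z).mp h0
    rw [Subsingleton.elim w 0, map_zero]


/-- Let A be a commutative ring (the base V = Spec A) and B₁, B₂ commutative A-algebras (V-schemes X₁,
X₂) with A-algebra maps σ₁ : B₁ → A and σ₂ : B₂ → A (sections s₁, s₂ of the structure maps, closed
immersions with ideals b₁ = ker σ₁, b₂ = ker σ₂), and let B₂ → B₁ be an A-algebra map (a V-morphism
f : X₁ → X₂) with σ₁ ∘ (B₂ → B₁) = σ₂ (f s₁ = s₂). Assume B₁ is finitely presented over A and smooth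
over A at every prime containing b₁ (r₁ smooth along s₁(V)), B₂ is of finite type over A, and the
induced map b₂/b₂² → b₁/b₁² of conormal modules is bijective. Then B₂ → B₁ is étale at every prime
of B₁ containing b₁ (f étale along s₁(V)). (The published statement puts no finiteness condition on
B₂ over A, and in that generality the conclusion fails: over a field k, the square-zero extension of
k[x] by k[x, 1/x] mapping onto k[y] by x ↦ y, with the zero sections, satisfies every other
hypothesis and is not étale at the origin. Here B₂ is assumed of finite type over A.) -/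
theorem result (A B₁ B₂ : Type u)
    [CommRing A] [CommRing B₁] [CommRing B₂] [Algebra A B₁] [Algebra A B₂] [Algebra B₂ B₁]
    [IsScalarTower A B₂ B₁] [Algebra.FinitePresentation A B₁] [Algebra.FiniteType A B₂]
    (σ₁ : B₁ →ₐ[A] A) (σ₂ : B₂ →ₐ[A] A) (hσ : σ₁.comp (IsScalarTower.toAlgHom A B₂ B₁) = σ₂)
    (hle : RingHom.ker σ₂ ≤ (RingHom.ker σ₁).comap (IsScalarTower.toAlgHom A B₂ B₁))
    (hcot : Function.Bijective
      (Ideal.mapCotangent (RingHom.ker σ₂) (RingHom.ker σ₁) (IsScalarTower.toAlgHom A B₂ B₁) hle))
    (hsm : ∀ (P : Ideal B₁) [P.IsPrime], RingHom.ker σ₁ ≤ P → Algebra.IsSmoothAt A P)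
    (P : Ideal B₁) [P.IsPrime] (hP : RingHom.ker σ₁ ≤ P) : Algebra.IsEtaleAt B₂ P := by
  classical
  let f := IsScalarTower.toAlgHom A B₂ B₁
  let S := Localization.AtPrime P
  haveI : FormallySmooth A S := hsm P hP
  haveI : EssFiniteType B₁ S := EssFiniteType.of_isLocalization S P.primeCompl
  haveI : EssFiniteType A S := EssFiniteType.comp A B₁ S
  haveI : Module.FinitePresentation S Ω[S⁄A] := Module.finitePresentation_of_projective _ _
  have hPS : P.map (algebraMap B₁ S) ≤ IsLocalRing.maximalIdeal S :=
    le_of_eq Localization.AtPrime.map_eq_maximalIdeal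
  have hσf : ∀ y, σ₁ (f y) = σ₂ y := fun y => AlgHom.congr_fun hσ y
  -- the differentials of `ker σ₂` span
  have hv : Submodule.span S (Set.range fun y : RingHom.ker σ₂ =>
      KaehlerDifferential.D A S (algebraMap B₁ S (f y))) = ⊤ := by
    refine span_eq_top_of_loc σ₁ P.primeCompl _ fun y hy => ?_
    obtain ⟨v, hv⟩ := hcot.2 ((RingHom.ker σ₁).toCotangent ⟨y, hy⟩)
    obtain ⟨⟨z, hz⟩, rfl⟩ := (RingHom.ker σ₂).toCotangent_surjective v
    rw [Ideal.mapCotangent_toCotangent, Ideal.toCotangent_eq] at hv
    have : y = f z - (f z - y) := (sub_sub_cancel _ _).symm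
    rw [this, map_sub, map_sub]
    exact sub_mem (Submodule.mem_sup_left (Submodule.subset_span ⟨⟨z, hz⟩, rfl⟩))
      (Submodule.mem_sup_right (map_D_mem_sup σ₁ P hP hPS hv))
  obtain ⟨κ, a, bas, hbas⟩ := Module.exists_basis_of_span_of_flat _ hv
  let x : κ → B₂ := fun i => (a i).1
  -- the polynomial ring
  let R := MvPolynomial κ A
  letI algR2 : Algebra R B₂ := (MvPolynomial.aeval x : R →ₐ[A] B₂).toRingHom.toAlgebra
  haveI : IsScalarTower A R B₂ :=
    IsScalarTower.of_algebraMap_eq fun r => ((MvPolynomial.aeval x : R →ₐ[A] B₂).commutes r).symm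
  let Q : Ideal B₂ := P.comap (algebraMap B₂ B₁)
  let T := Localization.AtPrime Q
  letI algTS : Algebra T S := (Localization.localRingHom Q P (algebraMap B₂ B₁) rfl).toAlgebra
  haveI : IsScalarTower B₂ T S := IsScalarTower.of_algebraMap_eq fun b => by
    show algebraMap B₂ S b = Localization.localRingHom Q P (algebraMap B₂ B₁) rfl (algebraMap B₂ T b)
    rw [Localization.localRingHom_to_map, IsScalarTower.algebraMap_apply B₂ B₁ S]
  letI algRS : Algebra R S := ((algebraMap B₂ S).comp (algebraMap R B₂)).toAlgebra
  haveI : IsScalarTower R B₂ S := IsScalarTower.of_algebraMap_eq fun _ => rfl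
  haveI : IsScalarTower R T S := IsScalarTower.of_algebraMap_eq fun r => by
    rw [IsScalarTower.algebraMap_apply R B₂ T, ← IsScalarTower.algebraMap_apply B₂ T S]
    rfl
  haveI : IsScalarTower A R S := IsScalarTower.of_algebraMap_eq fun r => by
    rw [IsScalarTower.algebraMap_apply R B₂ S, ← IsScalarTower.algebraMap_apply A R B₂,
      ← IsScalarTower.algebraMap_apply A B₂ S]
  haveI : EssFiniteType B₂ T := EssFiniteType.of_isLocalization T Q.primeCompl
  haveI : EssFiniteType A T := EssFiniteType.comp A B₂ T
  haveI : IsScalarTower A R T := IsScalarTower.of_algebraMap_eq fun r => by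
    rw [IsScalarTower.algebraMap_apply R B₂ T, ← IsScalarTower.algebraMap_apply A R B₂,
      ← IsScalarTower.algebraMap_apply A B₂ T]
  have hX2 : ∀ i, algebraMap R B₂ (MvPolynomial.X i) = x i := fun i => MvPolynomial.aeval_X x i
  -- `R → S` is formally étale
  haveI : FormallyEtale R S := by
    apply formallyEtale_of_basis (A := A)
    let b₀ := (KaehlerDifferential.mvPolynomialBasis A κ).baseChange S
    have hb : KaehlerDifferential.mapBaseChange A R S = (b₀.equiv bas (Equiv.refl κ)).toLinearMap := by
      refine b₀.ext fun i => ?_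
      rw [LinearEquiv.coe_coe, Module.Basis.equiv_apply, Equiv.refl_apply, hbas, Module.Basis.baseChange_apply,
        KaehlerDifferential.mapBaseChange_tmul, one_smul]
      have hi : KaehlerDifferential.mvPolynomialBasis A κ i = KaehlerDifferential.D A R (MvPolynomial.X i) :=
        (KaehlerDifferential.mvPolynomialBasis A κ).repr.injective (by
          rw [Module.Basis.repr_self, KaehlerDifferential.mvPolynomialBasis_repr_D_X])
      rw [hi, KaehlerDifferential.map_D, IsScalarTower.algebraMap_apply R B₂ S, hX2,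
        IsScalarTower.algebraMap_apply B₂ B₁ S]
      rfl
    rw [hb]
    exact (b₀.equiv bas (Equiv.refl κ)).bijective
  -- `R → T` is formally unramified
  haveI : FormallyUnramified R T := by
    have hQT : Q.map (algebraMap B₂ T) ≤ IsLocalRing.maximalIdeal T :=
      le_of_eq Localization.AtPrime.map_eq_maximalIdeal
    have hQ : RingHom.ker σ₂ ≤ Q := fun y hy => hP (hle hy)
    set N : Submodule T Ω[T⁄A] :=
      Submodule.span T (Set.range fun i => KaehlerDifferential.D A T (algebraMap B₂ T (x i)))
    have hN : N = ⊤ := by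
      refine span_eq_top_of_loc σ₂ Q.primeCompl N fun y hy => ?_
      let g := KaehlerDifferential.map A A B₁ S
      let W : Set Ω[B₁⁄A] := Set.range fun i => KaehlerDifferential.D A B₁ (f (x i))
      have hgy : g (KaehlerDifferential.D A B₁ (f y)) ∈
          Submodule.localized' S P.primeCompl g (Submodule.span B₁ W) := by
        rw [Submodule.localized'_span]
        have : g '' W = Set.range bas := by
          rw [← Set.range_comp]
          exact congrArg Set.range (funext fun i => by
            rw [Function.comp_apply, KaehlerDifferential.map_D, hbas])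
        rw [this, bas.span_eq]
        trivial
      obtain ⟨n, hn, t, ht⟩ := (Submodule.mem_localized' S P.primeCompl g _ _).mp hgy
      rw [IsLocalizedModule.mk'_eq_iff, Submonoid.smul_def, ← LinearMap.map_smul] at ht
      obtain ⟨c, hc⟩ := IsLocalizedModule.exists_of_eq (S := P.primeCompl) ht
      simp only [Submonoid.smul_def, smul_smul] at hc
      set s : B₁ := (c : B₁) * (t : B₁)
      have hs : s ∉ P := fun h => (Ideal.IsPrime.mem_or_mem ‹_› h).elim c.2 t.2
      obtain ⟨l, hl⟩ := Finsupp.mem_span_range_iff_exists_finsupp.mp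
        ((Submodule.span B₁ W).smul_mem (c : B₁) hn)
      rw [hc] at hl
      -- apply the derivation to the cotangent module
      have h1 := congrArg (cotDer σ₁).liftKaehlerDifferential hl
      rw [LinearMap.map_smul, map_finsuppSum] at h1
      simp only [LinearMap.map_smul] at h1
      have hfk : ∀ w ∈ RingHom.ker σ₂, f w ∈ RingHom.ker σ₁ := fun w hw => hle hw
      rw [liftCot_D σ₁ ⟨f y, hfk y hy⟩, smul_cot σ₁ s] at h1
      let z : RingHom.ker σ₂ :=
        algebraMap A B₂ (σ₁ s) • ⟨y, hy⟩ - l.sum fun i r => algebraMap A B₂ (σ₁ r) • ⟨x i, (a i).2⟩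
      have hF : ∀ (r : A) (w : RingHom.ker σ₂),
          Ideal.mapCotangent _ _ f hle ((RingHom.ker σ₂).toCotangent (algebraMap A B₂ r • w)) =
            algebraMap A B₁ r • (RingHom.ker σ₁).toCotangent ⟨f w.1, hfk w.1 w.2⟩ := fun r w => by
        rw [Ideal.mapCotangent_toCotangent, ← LinearMap.map_smul]
        congr 1
        exact Subtype.ext (by simp [f])
      have hz0 : (RingHom.ker σ₂).toCotangent z = 0 := by
        refine hcot.1 ?_
        simp only [z, map_sub, map_finsuppSum, map_zero]
        rw [hF]
        refine sub_eq_zero.mpr ?_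
        rw [← h1]
        refine Finsupp.sum_congr fun i _ => ?_
        rw [hF, ← smul_cot σ₁ (l i), ← liftCot_D σ₁ ⟨f (x i), hfk _ (a i).2⟩]
      rw [Ideal.toCotangent_eq_zero] at hz0
      have hm := map_D_mem_sup (L := T) σ₂ Q hQ hQT hz0
      have hu : IsUnit (algebraMap B₂ T (algebraMap A B₂ (σ₁ s))) :=
        IsLocalization.map_units T (⟨_, fun h => sigma_notMem σ₁ P hP hs (by
          rw [IsScalarTower.algebraMap_apply A B₂ B₁]; exact h)⟩ : Q.primeCompl)
      obtain ⟨e, he⟩ := hu.exists_left_inv
      have hval : algebraMap B₂ T (z : B₂) =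
          algebraMap B₂ T (algebraMap A B₂ (σ₁ s)) * algebraMap B₂ T y -
            l.sum fun i r => algebraMap A T (σ₁ r) * algebraMap B₂ T (x i) := by
        simp only [z, Finsupp.sum, AddSubgroupClass.coe_sub, Submodule.coe_sum, Submodule.coe_smul, smul_eq_mul,
          map_sub, map_sum, map_mul, ← IsScalarTower.algebraMap_apply A B₂ T]
      rw [hval, map_sub, map_finsuppSum, ← IsScalarTower.algebraMap_apply A B₂ T] at hm
      simp only [← Algebra.smul_def, Derivation.map_smul] at hm
      have key : algebraMap A T (σ₁ s) • KaehlerDifferential.D A T (algebraMap B₂ T y) ∈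
          N ⊔ IsLocalRing.maximalIdeal T • ⊤ := by
        rw [algebraMap_smul]
        have hN' : (l.sum fun i r => σ₁ r • KaehlerDifferential.D A T (algebraMap B₂ T (x i))) ∈ N :=
          Submodule.sum_mem _ fun i _ => N.smul_of_tower_mem _ (Submodule.subset_span ⟨i, rfl⟩)
        have := add_mem (Submodule.mem_sup_right (S := N) hm) (Submodule.mem_sup_left hN')
        rwa [sub_add_cancel] at this
      have := (N ⊔ IsLocalRing.maximalIdeal T • ⊤).smul_mem e key
      rwa [smul_smul, IsScalarTower.algebraMap_apply A B₂ T, he, one_smul] at this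
    refine ⟨subsingleton_of_forall_eq 0 fun z => ?_⟩
    obtain ⟨w, rfl⟩ := KaehlerDifferential.map_surjective A R T z
    have hle' : N ≤ LinearMap.ker (KaehlerDifferential.map A R T T) := Submodule.span_le.mpr <| by
      rintro _ ⟨i, rfl⟩
      rw [SetLike.mem_coe, LinearMap.mem_ker, KaehlerDifferential.map_D, Algebra.algebraMap_self, RingHom.id_apply,
        ← hX2 i, ← IsScalarTower.algebraMap_apply R B₂ T, Derivation.map_algebraMap]
    exact hle' (hN ▸ trivial)
  haveI : FormallyEtale T S := FormallyEtale.of_restrictScalars (R := R)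
  haveI : FormallyEtale B₂ T := FormallyEtale.of_isLocalization Q.primeCompl
  exact FormallyEtale.comp B₂ T S

end Groth.Agent.S18962
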