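import Groth.Statements.S18963
import Groth.Agent.H15Magnet.LineExt

set_option autoImplicit false
universe u
open CategoryTheory MonoidalCategory CartesianMonoidalCategory MonObj AlgebraicGeometry Opposite
open Magnet

open CategoryTheory MonoidalCategory CartesianMonoidalCategory MonObj AlgebraicGeometry Opposite Magnet

namespace Groth.Agent.S18963

/-- For the multiplicative monoid of the affine line with unit group G_m (the published statement: any
Kempf monoid M with unit group G), let k be a field, X a k-scheme with an action a of the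
multiplicative group G_m = D(ℤ) over k, and Y a k-scheme. Let γ₁ and γ₂ be two k-morphisms A^1 ×_k Y
→ X, where A^1 is the diagonalizable monoid scheme of the non-negative integers (the affine line
under multiplication), that are G_m-equivariant for G_m scaling the first factor — two Y-valued
points of the Białynicki-Birula functor D_X. Suppose γ₁ and γ₂ agree at every T-valued point (m, t)
of A^1 ×_k Y whose first coordinate m is nilpotent in the monoid A^1(T), i.e. some power of m is
absorbing (equal to its product with any element); equivalently γ₁ and γ₂ agree on all infinitesimal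
neighbourhoods of {0} ×_k Y. Then γ₁ = γ₂; that is, the canonical map from D_X to the formal
Białynicki-Birula functor is injective on Y-points. -/
theorem result (k : Type u) [Field k]
    (X Y : Over (Spec (CommRingCat.of k))) (a : AlgGrp.Action (Red.DS (Spec (CommRingCat.of k)) ℤ) X)
    (γ₁ γ₂ : (Magnet.attr (Magnet.MonAct.ofAction a) (AddSubmonoid.multiples (1 : ℤ))).obj (op Y))
    (h : ∀ (T : Over (Spec (CommRingCat.of k))) (m : T ⟶ Magnet.AMonS (Spec (CommRingCat.of k)) (AddSubmonoid.multiples (1 : ℤ))) (t : T ⟶ Y),
      (∃ n : ℕ, ∀ m' : T ⟶ Magnet.AMonS (Spec (CommRingCat.of k)) (AddSubmonoid.multiples (1 : ℤ)), m ^ (n + 1) * m' = m ^ (n + 1)) →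
      CartesianMonoidalCategory.lift m t ≫ γ₁.1 = CartesianMonoidalCategory.lift m t ≫ γ₂.1) :
    γ₁ = γ₂ := by
  let S : Scheme.{u} := Spec (CommRingCat.of k)
  let a' : MonAct (AMonS S ℤ) X := MonAct.ofAction a
  refine Subtype.ext (Groth.Agent.H15Magnet.hom_ext_chart fun R _ str j => ?_)
  refine congrArg Subtype.val (Groth.Agent.H15Magnet.Line.ext_line str a'
    ((attr a' _).map j.op γ₁) ((attr a' _).map j.op γ₂) fun B _ φ c n hc => ?_)
  refine congrArg CommaMorphism.left ?_
  have key := h _ (Groth.Agent.H15Magnet.mpt (Spec.map (CommRingCat.ofHom φ) ≫ str)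
      (Groth.Agent.H15Magnet.Line.chiN c)) (Groth.Agent.H15Magnet.Line.tpt str φ ≫ j) ⟨n, fun m' => ?_⟩
  · change lift _ _ ≫ (_ ◁ j) ≫ γ₁.1 = lift _ _ ≫ (_ ◁ j) ≫ γ₂.1
    rw [lift_whiskerLeft_assoc, lift_whiskerLeft_assoc]
    exact key
  · obtain ⟨χ', rfl⟩ := Groth.Agent.H15Magnet.mpt_surjective _ m'
    rw [← Groth.Agent.H15Magnet.mpt_pow, ← Groth.Agent.H15Magnet.mpt_mul]
    congr 1
    refine MonoidHom.ext fun v => ?_
    change (c ^ _) ^ (n + 1) * χ' v = (c ^ _) ^ (n + 1)
    by_cases hv : v = 1
    · subst hv; simp
    · rw [← pow_mul, mul_comm _ (n + 1), pow_mul, hc, zero_pow, zero_mul]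
      intro h0
      apply hv
      apply Multiplicative.toAdd.injective
      apply Subtype.ext
      have := Groth.Agent.H15Magnet.Line.nonneg_N1 v.toAdd
      change ((v.toAdd : _) : ℤ) = 0
      omega

end Groth.Agent.S18963
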