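import Groth.Statements.S18964
import Groth.Agent.S18958
import Groth.Agent.H15Magnet.DClosed.Main
import Groth.Agent.H8Props.WeilRes.Cover
-- import your own Groth.Agent.* helpers here

set_option autoImplicit false
universe u
open CategoryTheory MonoidalCategory CartesianMonoidalCategory MonObj AlgebraicGeometry Opposite
open Magnet

set_option linter.style.haveILetI false
set_option backward.isDefEq.respectTransparency false
set_option backward.isDefEq.respectTransparency.types false

open CategoryTheory CategoryTheory.Limits MonoidalCategory CartesianMonoidalCategory MonObj AlgebraicGeometry Opposite in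
/-- Equivariant maps out of `B ⊗ T` glue along open covers of `T`. -/
theorem Groth.Agent.S18964.isZariskiGluing_eqvHom {S : Scheme.{u}} {A B X : Over S} [MonObj A]
    (ρ : Magnet.MonAct A B) (a : Magnet.MonAct A X) :
    Groth.Agent.H8Props.WeilRes.IsZariskiGluing (Magnet.MonAct.eqvHom ρ a) := by
  intro T κ C π ho hc s hs
  have hsq : ∀ (Q : Over S) {U V : Over S} (f : U ⟶ V),
      IsPullback (snd Q U).left (Q ◁ f).left f.left (snd Q V).left := fun Q {U V} f => by
    refine IsPullback.of_bot (v₂₁ := (fst Q V).left) (v₂₂ := V.hom) (h₃₁ := Q.hom) ?_ ?_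
      (IsPullback.of_hasPullback Q.hom V.hom).flip
    · rw [← Over.comp_left, whiskerLeft_fst, Over.w f]
      exact (IsPullback.of_hasPullback Q.hom U.hom).flip
    · show (snd Q U).left ≫ f.left = (Q ◁ f).left ≫ (snd Q V).left
      rw [← Over.comp_left, ← Over.comp_left, whiskerLeft_snd]
  have cover : ∀ (Q : Over S) {V : Over S} (D : κ → Over S) (p : ∀ i, D i ⟶ V),
      (∀ i, IsOpenImmersion (p i).left) → (∀ x : V.left, ∃ i, x ∈ Set.range (p i).left) →
        (∀ i, IsOpenImmersion (Q ◁ p i).left) ∧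
          ∀ z : (Q ⊗ V).left, ∃ i, z ∈ Set.range (Q ◁ p i).left := fun Q {V} D p hop hcp => by
    refine ⟨fun i => MorphismProperty.of_isPullback (P := @IsOpenImmersion) (hsq Q (p i)) (hop i),
      fun z => ?_⟩
    obtain ⟨i, w, hw⟩ := hcp ((snd Q V).left z)
    obtain ⟨v, -, hv⟩ := Scheme.Pullback.exists_preimage_pullback
      (f := (p i).left) (g := (snd Q V).left) w z hw
    refine ⟨i, (hsq Q (p i)).isoPullback.inv v, ?_⟩
    rw [← Scheme.Hom.comp_apply, IsPullback.isoPullback_inv_snd]
    exact hv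
  obtain ⟨hBo, hBc⟩ := cover B C π ho hc
  have hcompat : ∀ (i j : κ) (Z : Over S) (α : Z ⟶ B ⊗ C i) (β : Z ⟶ B ⊗ C j),
      α ≫ (B ◁ π i) = β ≫ (B ◁ π j) → α ≫ (s i).1 = β ≫ (s j).1 := by
    intro i j Z α β e
    have e1 : (α ≫ snd B (C i)) ≫ π i = (β ≫ snd B (C j)) ≫ π j := by
      have := congrArg (fun m => m ≫ snd B T) e
      simpa using this
    have e2 : α ≫ fst B (C i) = β ≫ fst B (C j) := by
      have := congrArg (fun m => m ≫ fst B T) e
      simpa using this
    have h : (B ◁ (α ≫ snd B (C i))) ≫ (s i).1 = (B ◁ (β ≫ snd B (C j))) ≫ (s j).1 :=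
      congrArg Subtype.val (hs i j Z _ _ e1)
    have h' := congrArg (fun m => lift (α ≫ fst B (C i)) (𝟙 Z) ≫ m) h
    simp only [lift_whiskerLeft_assoc, Category.id_comp, lift_comp_fst_snd] at h'
    rwa [e2, lift_comp_fst_snd] at h'
  obtain ⟨φ, hφ, huniq⟩ := Groth.Agent.H8Props.WeilRes.isZariskiGluing_yoneda X (B ⊗ T) κ
    (fun i => B ⊗ C i) (fun i => B ◁ π i) hBo hBc (fun i => (s i).1) hcompat
  have hφ' : ∀ i, (B ◁ π i) ≫ φ = (s i).1 := hφ
  have heq : Magnet.MonAct.IsEquivariant (ρ.prod (Magnet.MonAct.trivial A T)) a φ := by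
    obtain ⟨hAo, hAc⟩ := cover A (fun i => B ⊗ C i) (fun i => B ◁ π i) hBo hBc
    have hext := Groth.Agent.H8Props.WeilRes.isZariskiGluing_yoneda X (A ⊗ (B ⊗ T)) κ
      (fun i => A ⊗ (B ⊗ C i)) (fun i => A ◁ (B ◁ π i)) hAo hAc
      (fun i => (A ◁ (B ◁ π i)) ≫ (A ◁ φ) ≫ a.act)
      (fun i j Z α β e => by
        show α ≫ _ = β ≫ _
        rw [← Category.assoc, e, Category.assoc])
    refine hext.unique (fun i => ?_) (fun i => rfl)
    show (A ◁ (B ◁ π i)) ≫ _ ≫ φ = _
    rw [← Category.assoc, ← Magnet.MonAct.prod_trivial_act_whiskerLeft, Category.assoc, hφ', (s i).2,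
      ← MonoidalCategory.whiskerLeft_comp_assoc, hφ']
  exact ⟨⟨φ, heq⟩, fun i => Subtype.ext (hφ' i), fun t ht =>
    Subtype.ext (huniq t.1 fun i => congrArg Subtype.val (ht i))⟩

namespace Groth.Agent.S18964

set_option maxHeartbeats 2000000 in
/-- Let k be a field, M an affine monoid k-scheme, G an affine group k-scheme and i : G → M a
homomorphism of monoids which is an open immersion with scheme-theoretically dense image; let o :
Spec k → M be a zero of M (m·o = o = o·m), and assume that for every k-scheme T whose underlying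
scheme is the spectrum of a field, every open subset of M ×_k T which is stable under G acting by
left multiplication through i on the first factor and contains the zero section is the whole of M
×_k T. Let X be a k-scheme with an action aX of G such that the G-stable affine open subsets U of X
cover the fixed points: for every k-scheme T and every G-fixed T-valued point x of X, the preimages
under x of the G-stable affine opens cover T (equivalently, the open subfunctors U^G cover X^G; this
holds when X is locally linear, i.e. every point has a G-stable affine open neighbourhood). Then the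
functor D_X on k-schemes, whose value at Y is the set of k-morphisms M ×_k Y → X that are
G-equivariant for G acting on M ×_k Y by left multiplication through i on the first factor, is
representable by a k-scheme. (In the source M is a Kempf monoid with G its group of units;
affineness of G, density and openness of G in M and the displayed property of G-stable opens over
field extensions are the consequences of that hypothesis which the argument uses.) -/
theorem result (k : Type u) [Field k]
    (M G X : Over (Spec (CommRingCat.of k))) [MonObj M] [GrpObj G] [IsAffine M.left] [IsAffine G.left]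
    (i : G ⟶ M) [IsMonHom i] [IsOpenImmersion i.left] [IsSchemeTheoreticallyDominant i.left]
    (o : 𝟙_ (Over (Spec (CommRingCat.of k))) ⟶ M)
    (ho : ∀ (T : Over (Spec (CommRingCat.of k))) (m : T ⟶ M), m * (toUnit T ≫ o) = toUnit T ≫ o ∧ (toUnit T ≫ o) * m = toUnit T ≫ o)
    (hM : ∀ (T : Over (Spec (CommRingCat.of k))) (K : Type u) [Field K] (eT : T.left ≅ Spec (CommRingCat.of K))
      (W : (M ⊗ T).left.Opens),
      (CartesianMonoidalCategory.snd G (M ⊗ T)).left ⁻¹ᵁ W ≤
          ((((Magnet.MonAct.regular M).restrict i).prod (Magnet.MonAct.trivial G T)).act).left ⁻¹ᵁ W →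
      (CartesianMonoidalCategory.lift (toUnit T ≫ o) (𝟙 T)).left ⁻¹ᵁ W = ⊤ → W = ⊤)
    (aX : AlgGrp.Action G X)
    (hcov : ∀ (T : Over (Spec (CommRingCat.of k))) (x : (Magnet.MonAct.fixedPsh (Magnet.MonAct.ofAction aX)).obj (op T)),
      ⨆ (U : X.left.Opens) (_ : IsAffineOpen U ∧ (CartesianMonoidalCategory.snd G X).left ⁻¹ᵁ U ≤ aX.act.left ⁻¹ᵁ U),
        x.1.left ⁻¹ᵁ U = ⊤) :
    ∃ Z : Over (Spec (CommRingCat.of k)),
      Nonempty ((Magnet.MonAct.eqvHom ((Magnet.MonAct.regular M).restrict i) (Magnet.MonAct.ofAction aX)).RepresentableBy Z) := by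
  haveI : QuasiCompact i.left := inferInstance
  let a := Magnet.MonAct.ofAction aX
  let ρ := (Magnet.MonAct.regular M).restrict i
  let Idx := {U : X.left.Opens // IsAffineOpen U ∧
    (CartesianMonoidalCategory.snd G X).left ⁻¹ᵁ U ≤ aX.act.left ⁻¹ᵁ U}
  let Uo : Idx → Over (Spec (CommRingCat.of k)) := fun U => Over.mk (U.1.ι ≫ X.hom)
  let jU : ∀ U, Uo U ⟶ X := fun U => Over.homMk U.1.ι rfl
  haveI : ∀ U, IsOpenImmersion (jU U).left := fun U => inferInstanceAs (IsOpenImmersion U.1.ι)
  haveI : ∀ U, Mono (jU U) := fun U => Groth.Agent.H15Magnet.mono_of_left _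
  haveI : ∀ U, IsAffine (Uo U).left := fun U => U.2.1
  have hlift : ∀ U, ∃ m : G ⊗ Uo U ⟶ Uo U, m ≫ jU U = (G ◁ jU U) ≫ aX.act := fun U => by
    have hr : Set.range ((G ◁ jU U) ≫ aX.act).left ⊆ Set.range U.1.ι := by
      rintro _ ⟨z, rfl⟩
      rw [Scheme.Opens.range_ι, Over.comp_left, Scheme.Hom.comp_apply]
      refine U.2.2 (show (CartesianMonoidalCategory.snd G X).left ((G ◁ jU U).left z) ∈ U.1 from ?_)
      rw [← Scheme.Hom.comp_apply, ← Over.comp_left, whiskerLeft_snd, Over.comp_left, Scheme.Hom.comp_apply]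
      exact ((CartesianMonoidalCategory.snd G (Uo U)).left z).2
    exact ⟨Over.homMk (IsOpenImmersion.lift U.1.ι _ hr) (by
      show _ ≫ U.1.ι ≫ X.hom = _
      rw [IsOpenImmersion.lift_fac_assoc, Over.w]), Over.OverMorphism.ext (IsOpenImmersion.lift_fac _ _ hr)⟩
  choose actU hactU using hlift
  have hpt : ∀ U (T : Over (Spec (CommRingCat.of k))) (g : T ⟶ G) (z : T ⟶ Uo U),
      (lift g z ≫ actU U) ≫ jU U = lift g (z ≫ jU U) ≫ a.act := fun U T g z => by
    rw [Category.assoc, hactU, lift_whiskerLeft_assoc]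
    rfl
  let aU : ∀ U, AlgGrp.Action G (Uo U) := fun U => (Magnet.MonAct.mk' (actU U)
    (fun T z => by rw [← cancel_mono (jU U), hpt, a.lift_one_act])
    (fun T g h z => by rw [← cancel_mono (jU U), hpt, hpt, hpt, a.lift_mul_act])).toAction
  have hjU : ∀ U, Magnet.MonAct.IsEquivariant (Magnet.MonAct.ofAction (aU U)) a (jU U) := hactU
  have hrep := fun U => Groth.Agent.H15Magnet.DClosed.exists_closed i (aU U)
  choose W _jW eW _hW _hWa _hWe using hrep
  let post := fun U => Magnet.MonAct.eqvHom.postcomp ρ (jU U) (hjU U)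
  have hpostinj : ∀ U (T : (Over (Spec (CommRingCat.of k)))ᵒᵖ), Function.Injective ((post U).app T) :=
    fun U T φ φ' h => Subtype.ext ((cancel_mono (jU U)).1 (congrArg Subtype.val h))
  let u : ∀ U, (Magnet.MonAct.eqvHom ρ a).obj (op (W U)) :=
    fun U => (post U).app _ ((eW U).homEquiv (𝟙 _))
  have hu : ∀ U {T : Over (Spec (CommRingCat.of k))} (h : T ⟶ W U),
      (Magnet.MonAct.eqvHom ρ a).map h.op (u U) = (post U).app _ ((eW U).homEquiv h) := fun U T h => by
    have e1 := ConcreteCategory.congr_hom ((post U).naturality h.op) ((eW U).homEquiv (𝟙 _))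
    simp only [types_comp_apply] at e1
    refine e1.symm.trans (congrArg ((post U).app _) ?_)
    rw [← (eW U).homEquiv_comp, Category.comp_id]
  have hev : ∀ {T T' : Over (Spec (CommRingCat.of k))} (p : T' ⟶ T) (φ : (Magnet.MonAct.eqvHom ρ a).obj (op T)),
      (Magnet.MonAct.eqvHom.evalAt ρ a o).app (op T') ((Magnet.MonAct.eqvHom ρ a).map p.op φ) =
        p ≫ (Magnet.MonAct.eqvHom.evalAt ρ a o).app (op T) φ := fun p φ =>
    ConcreteCategory.congr_hom ((Magnet.MonAct.eqvHom.evalAt ρ a o).naturality p.op) φ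
  suffices hopen : ∀ (T : Over (Spec (CommRingCat.of k))) (φ : (Magnet.MonAct.eqvHom ρ a).obj (op T)),
      ∃ O : Idx → T.left.Opens, (∀ x : T.left, ∃ U, x ∈ O U) ∧
        ∀ (U : Idx) (T' : Over (Spec (CommRingCat.of k))) (p : T' ⟶ T),
          (∃ h : T' ⟶ W U, (Magnet.MonAct.eqvHom ρ a).map h.op (u U) = (Magnet.MonAct.eqvHom ρ a).map p.op φ) ↔
            Set.range p.left ⊆ (O U : Set T.left) from
    (Groth.Agent.H8Props.WeilRes.isRepresentable_of_open_cover
      (isZariskiGluing_eqvHom ρ a) W u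
      (fun U T h h' e => (eW U).homEquiv.injective (hpostinj U _ ((hu U h).symm.trans (e.trans (hu U h')))))
      hopen).has_representation
  intro T φ
  let x : T ⟶ X := (Magnet.MonAct.eqvHom.evalAt ρ a o).app (op T) φ
  have hfix : ∀ (T' : Over (Spec (CommRingCat.of k))) (t : T' ⟶ T) (g : T' ⟶ G),
      lift g (t ≫ x) ≫ a.act = t ≫ x := fun T' t g => by
    have h := (Magnet.MonAct.mem_eqvHom_iff φ.1).1 φ.2 T' g (toUnit T' ≫ o) t
    rw [Magnet.MonAct.lift_restrict_act, Magnet.MonAct.lift_regular_act, (ho T' (g ≫ i)).1] at h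
    have hx : t ≫ x = lift (toUnit T' ≫ o) t ≫ φ.1 := by
      show t ≫ lift (toUnit T ≫ o) (𝟙 T) ≫ φ.1 = _
      rw [comp_lift_assoc, Category.comp_id, ← Category.assoc t, comp_toUnit]
    rw [hx]
    exact h.symm
  refine ⟨fun U => x.left ⁻¹ᵁ U.1, fun t => ?_, fun U T' p => ?_⟩
  · have hmem : t ∈ ⨆ (U : X.left.Opens) (_ : IsAffineOpen U ∧
        (CartesianMonoidalCategory.snd G X).left ⁻¹ᵁ U ≤ aX.act.left ⁻¹ᵁ U), x.left ⁻¹ᵁ U :=
      (hcov T ⟨x, hfix⟩).ge trivial
    simp only [TopologicalSpace.Opens.mem_iSup] at hmem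
    obtain ⟨U, hU, ht⟩ := hmem
    exact ⟨⟨U, hU⟩, ht⟩
  · have hpb := (Groth.Agent.S18958.result k M G X (Uo U) i o ho hM aX (aU U) (jU U) (hjU U)).map
      ((evaluation (Over (Spec (CommRingCat.of k)))ᵒᵖ (Type u)).obj (op T'))
    constructor
    · rintro ⟨h, hh⟩ _ ⟨t, rfl⟩
      have e1 : p ≫ x = (Magnet.MonAct.eqvHom.evalAt ρ (Magnet.MonAct.ofAction (aU U)) o).app (op T')
          ((eW U).homEquiv h) ≫ jU U := by
        rw [show p ≫ x = (Magnet.MonAct.eqvHom.evalAt ρ a o).app (op T')
            ((Magnet.MonAct.eqvHom ρ a).map p.op φ) from (hev p φ).symm, ← hh, hu]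
        exact (Category.assoc (lift (toUnit T' ≫ o) (𝟙 T')) ((eW U).homEquiv h).1 (jU U)).symm
      show x.left (p.left t) ∈ U.1
      rw [← Scheme.Hom.comp_apply, ← Over.comp_left, e1, Over.comp_left, Scheme.Hom.comp_apply]
      exact (((Magnet.MonAct.eqvHom.evalAt ρ (Magnet.MonAct.ofAction (aU U)) o).app (op T')
          ((eW U).homEquiv h)).left t).2
    · intro hr
      have hr' : Set.range (p ≫ x).left ⊆ Set.range U.1.ι := by
        rintro _ ⟨t, rfl⟩
        rw [Scheme.Opens.range_ι]
        exact hr ⟨t, rfl⟩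
      let w : T' ⟶ Uo U := Over.homMk (IsOpenImmersion.lift U.1.ι _ hr') (by
        show _ ≫ U.1.ι ≫ X.hom = _
        rw [IsOpenImmersion.lift_fac_assoc, Over.w])
      have hw : w ≫ jU U = p ≫ x := Over.OverMorphism.ext (IsOpenImmersion.lift_fac _ _ hr')
      obtain ⟨ψ, hψ, -⟩ := CategoryTheory.Limits.Types.exists_of_isPullback hpb
        ((Magnet.MonAct.eqvHom ρ a).map p.op φ) w ((hev p φ).trans hw.symm)
      refine ⟨(eW U).homEquiv.symm ψ, ?_⟩
      rw [hu, Equiv.apply_symm_apply]
      exact hψ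

end Groth.Agent.S18964
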