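import Groth.Statements.S18968
import Groth.Agent.H10Coh.Stab.Mu
-- import your own Groth.Agent.* helpers here

set_option autoImplicit false
open CategoryTheory CategoryTheory.Limits AlgebraicGeometry Polynomial
universe u
open ShStab

namespace Groth.Agent.S18968

/-- Let k be an algebraically closed field of characteristic zero, X a smooth projective integral
variety of dimension n ≥ 1 over k polarised by an ample invertible sheaf L, and F a locally free or,
more generally, reflexive coherent O_X-module which is slope-stable with respect to L. Then End(F)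
consists of the homotheties: for every endomorphism φ of F there is c ∈ k with φ(s) = c·s for every
local section s of F. Slope stability is tested through the quantity α_(n−1)/α_n of Hilbert
polynomials with respect to L. -/
theorem result (k : Type u) [Field k] [IsAlgClosed k] [CharZero k]
    (X : Scheme.{u}) [X.Over (Spec (CommRingCat.of k))] [IsIntegral X]
    [IsProper (X ↘ Spec (CommRingCat.of k))] [Smooth (X ↘ Spec (CommRingCat.of k))]
    (n : ℕ) (hn : 1 ≤ n) (hX : topologicalKrullDim X = (n : WithBot ℕ∞))
    (L : X.Modules) (hLi : PicF.IsInvertible L) (hL : CohB1.IsAmple L)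
    (F : X.Modules) (hFr : RefHull.IsReflexive F) (hF : ShStab.IsMuStable k X L F n) (φ : F ⟶ F) :
    ∃ c : k, ∀ (V : X.Opens) (s : F.val.obj (Opposite.op V)),
        (φ.val.app (Opposite.op V)) s =
          (X.ringCatSheaf.obj.map (homOfLE (le_top : V ≤ ⊤)).op
            (Coh.toGlobal (X ↘ Spec (CommRingCat.of k)) c : X.ringCatSheaf.obj.obj (Opposite.op ⊤))) • s := by
  have hp := Groth.Agent.H10Coh.Stab.isPure_of_isReflexive k hFr hX
  obtain ⟨P, hP⟩ := Groth.Agent.H10Coh.Stab.exists_hilb_self (k := k) hL hp hF.1
  obtain ⟨c, rfl⟩ := Groth.Agent.H10Coh.Stab.endo_eq_smulMod k hL hp hF.1 hF.2.1 (fun ψ hψ =>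
    Groth.Agent.H10Coh.Stab.mono_of_isMuStable hL hn hp hp hF (Groth.Agent.H10Coh.Stab.isMuSemistable_of_isMuStable hF) hP hP le_rfl ψ hψ) φ
  exact ⟨c, fun V s => rfl⟩

end Groth.Agent.S18968
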