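import Groth.Statements.S18977
import Groth.Agent.H20GIT.Stab
import Mathlib.AlgebraicGeometry.Sites.Fpqc
-- import your own Groth.Agent.* helpers here

set_option autoImplicit false
universe u
open CategoryTheory MonoidalCategory CartesianMonoidalCategory MonObj AlgebraicGeometry
open GIT

namespace Groth.Agent.S18977
open Groth.Agent
open CategoryTheory.Limits (PullbackCone)

/-- Composition of torsors. Over an algebraically closed field k of characteristic zero, let G be an
affine group scheme of finite type over k, N a closed normal subgroup scheme which is the kernel of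
a homomorphism q : G → Q, and H a closed subgroup scheme of G which q maps isomorphically onto Q (so
G is the inner semidirect product N H). Let G act on a k-scheme X and let φ₁ : X → Y be a torsor
over Y under the restricted action of N (the square formed by the N-action, the second projection
and φ₁ twice is cartesian, and φ₁ acquires sections on the members of some fpqc covering family of
Y); let Q act on Y so that φ₁ is equivariant along q, and let φ₂ : Y → Z be a Q-torsor over Z in the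
same sense. Then φ₂ ∘ φ₁ is a G-torsor over Z: the square formed by the G-action, the second
projection and φ₂ ∘ φ₁ twice is cartesian, and φ₂ ∘ φ₁ acquires sections fpqc-locally on Z. (The
induced action of the factor group on Y is taken as a datum together with the equivariance of φ₁;
the source's second assertion, that the composite of trivial torsors is trivial, amounts to
composing sections and is not restated.) -/
theorem result
    (k : Type u) [Field k] [IsAlgClosed k] [CharZero k]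
    (G N Q H X Y Z : Over (Spec (CommRingCat.of k))) [GrpObj G] [GrpObj N] [GrpObj Q] [GrpObj H]
    [IsAffine G.left] [LocallyOfFiniteType G.hom]
    (iN : N ⟶ G) [IsMonHom iN] [IsClosedImmersion iN.left] (hnorm : AlgGrp.IsNormalHom iN)
    (q : G ⟶ Q) [IsMonHom q] (hker : AlgGrp.IsKernel iN q)
    (iH : H ⟶ G) [IsMonHom iH] [IsClosedImmersion iH.left] [IsIso (iH ≫ q)]
    (a : AlgGrp.Action G X) (φ₁ : X ⟶ Y)
    (h₁ : IsPullback (a.restrict iN).act (snd N X) φ₁ φ₁)
    (h₁loc : NonAbH1.IsLocallyTrivialFor Scheme.fpqcPrecoverage (Over.mk φ₁.left : Over Y.left))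
    (aY : AlgGrp.Action Q Y) (hequiv : (q ⊗ₘ φ₁) ≫ aY.act = a.act ≫ φ₁)
    (φ₂ : Y ⟶ Z) (h₂ : IsPullback aY.act (snd Q Y) φ₂ φ₂)
    (h₂loc : NonAbH1.IsLocallyTrivialFor Scheme.fpqcPrecoverage (Over.mk φ₂.left : Over Z.left)) :
    IsPullback a.act (snd G X) (φ₁ ≫ φ₂) (φ₁ ≫ φ₂) ∧
      NonAbH1.IsLocallyTrivialFor Scheme.fpqcPrecoverage (Over.mk (φ₁ ≫ φ₂).left : Over Z.left) := by
  have haN : ∀ {T : Over (Spec (CommRingCat.of k))} (n : T ⟶ N) (x : T ⟶ X),
      lift n x ≫ (a.restrict iN).act = lift (n ≫ iN) x ≫ a.act := fun n x => lift_whiskerRight_assoc _ _ _ _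
  have hiq : ∀ {T : Over (Spec (CommRingCat.of k))} (n : T ⟶ N), (n ≫ iN) ≫ q = 1 := fun {T} n => by
    rw [Category.assoc, hker.w, ← Category.assoc, comp_toUnit]
    rfl
  have hφ : ∀ {T : Over (Spec (CommRingCat.of k))} (g : T ⟶ G) (x : T ⟶ X),
      (lift g x ≫ a.act) ≫ φ₁ = lift (g ≫ q) (x ≫ φ₁) ≫ aY.act := fun g x => by
    rw [Category.assoc, ← hequiv, lift_map_assoc]
  refine ⟨?_, ?_⟩
  · have hw : a.act ≫ φ₁ ≫ φ₂ = snd G X ≫ φ₁ ≫ φ₂ := by
      rw [← Category.assoc, ← hequiv, Category.assoc, h₂.w, ← Category.assoc, tensorHom_snd, Category.assoc]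
    have hpt : ∀ {T : Over (Spec (CommRingCat.of k))} (x' x : T ⟶ X), x' ≫ φ₁ ≫ φ₂ = x ≫ φ₁ ≫ φ₂ →
        ∃! g : T ⟶ G, lift g x ≫ a.act = x' := by
      intro T x' x h
      let p := h₂.lift (x' ≫ φ₁) (x ≫ φ₁) (by simpa using h)
      let h' := p ≫ fst Q Y
      have hp : lift h' (x ≫ φ₁) ≫ aY.act = x' ≫ φ₁ := by
        have : lift h' (x ≫ φ₁) = p := by
          apply CartesianMonoidalCategory.hom_ext
          · simp [h']
          · rw [lift_snd]; exact (h₂.lift_snd _ _ _).symm
        rw [this, h₂.lift_fst]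
      let g₀ := h' ≫ inv (iH ≫ q) ≫ iH
      have hg₀ : g₀ ≫ q = h' := by simp [g₀]
      have h1 : x' ≫ φ₁ = (lift g₀ x ≫ a.act) ≫ φ₁ := by rw [hφ, hg₀, hp]
      let n := h₁.lift x' (lift g₀ x ≫ a.act) h1 ≫ fst N X
      have hn : lift (n ≫ iN) (lift g₀ x ≫ a.act) ≫ a.act = x' := by
        have : lift n (lift g₀ x ≫ a.act) = h₁.lift x' (lift g₀ x ≫ a.act) h1 := by
          apply CartesianMonoidalCategory.hom_ext
          · simp [n]
          · rw [lift_snd]; exact (h₁.lift_snd _ _ _).symm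
        rw [← haN, this, h₁.lift_fst]
      refine ⟨(n ≫ iN) * g₀, by
        show lift ((n ≫ iN) * g₀) x ≫ a.act = x'
        rw [H20GIT.act_mul, hn], fun g hg => ?_⟩
      have hgq : g ≫ q = h' := by
        have h3 : lift (g ≫ q) (x ≫ φ₁) = lift h' (x ≫ φ₁) := h₂.hom_ext (by rw [← hφ, hg, hp]) (by simp)
        simpa using congrArg (· ≫ fst Q Y) h3
      have h4 : (g * g₀⁻¹) ≫ q = toUnit T ≫ η[Q] := by
        rw [MonObj.mul_comp, GrpObj.inv_comp, hgq, hg₀, mul_inv_cancel]
        rfl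
      obtain ⟨n', hn'⟩ : ∃ n' : T ⟶ N, n' ≫ iN = g * g₀⁻¹ := ⟨hker.lift _ _ h4, hker.lift_fst _ _ _⟩
      have h5 : lift n' (lift g₀ x ≫ a.act) = lift n (lift g₀ x ≫ a.act) := h₁.hom_ext (by
        rw [haN, haN, hn, hn', ← H20GIT.act_mul, inv_mul_cancel_right, hg]) (by simp)
      have h6 : n' = n := by simpa using congrArg (· ≫ fst N X) h5
      rw [← h6, hn', inv_mul_cancel_right]
    refine ⟨⟨hw⟩, ⟨PullbackCone.IsLimit.mk _ (fun s => lift (hpt _ _ s.condition).choose s.snd)
      (fun s => (hpt _ _ s.condition).choose_spec.1) (fun s => lift_snd _ _) (fun s m hm hm' => ?_)⟩⟩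
    have h7 : m ≫ fst G X = (hpt _ _ s.condition).choose := (hpt _ _ s.condition).choose_spec.2 _ (by
      show lift (m ≫ fst G X) s.snd ≫ a.act = s.fst
      rw [← hm', lift_comp_fst_snd, hm])
    rw [← h7, ← hm', lift_comp_fst_snd]
  · obtain ⟨R₁, hR₁, hs₁⟩ := h₁loc
    obtain ⟨R₂, hR₂, hs₂⟩ := h₂loc
    obtain ⟨ι₁, W₁, f₁, rfl⟩ := R₁.exists_eq_ofArrows
    obtain ⟨ι₂, W₂, f₂, rfl⟩ := R₂.exists_eq_ofArrows
    choose s₂ hs₂' using fun j => hs₂ (f₂ j) (Presieve.ofArrows.mk j)
    choose s₁ hs₁' using fun i => hs₁ (f₁ i) (Presieve.ofArrows.mk i)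
    refine ⟨_, Precoverage.comp_mem_coverings f₂ hR₂
      (fun j i => Limits.pullback.fst (s₂ j) (f₁ i))
      (fun j => Precoverage.mem_coverings_of_isPullback f₁ hR₁ (s₂ j) _ (fun i => Limits.pullback.snd (s₂ j) (f₁ i))
        fun i => IsPullback.of_hasPullback (s₂ j) (f₁ i)), ?_⟩
    rintro W f ⟨⟨j, i⟩⟩
    refine ⟨Limits.pullback.snd (s₂ j) (f₁ i) ≫ s₁ i, ?_⟩
    have e1 := hs₁' i
    have e2 := hs₂' j
    simp only [Over.mk_hom] at e1 e2 ⊢
    rw [Over.comp_left, Category.assoc, reassoc_of% e1, ← Limits.pullback.condition_assoc, e2]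

end Groth.Agent.S18977
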