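import Groth.Statements.S18978
import Groth.Agent.S18975
import Groth.Agent.H20Prop.QuotOrbit
import Groth.Agent.H20Prop.SolSet
-- import your own Groth.Agent.* helpers here

set_option autoImplicit false
universe u
open CategoryTheory MonoidalCategory CartesianMonoidalCategory MonObj AlgebraicGeometry
open GIT

namespace Groth.Agent.S18978
open Groth.Agent
open CategoryTheory.Limits (pullback)

theorem quasiSeparated_of_orbit {S : Scheme.{u}} {N X Y : Over S} [GrpObj N]
    [QuasiCompact N.hom] (a : AlgGrp.Action N X) (φ : X ⟶ Y) [QuasiCompact φ.left] [IsSeparated X.hom]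
    (hi : GIT.IsInvariant a φ) (ho : Function.Surjective (GIT.PsiY a φ hi))
    (hsurj : Function.Surjective φ.left) : QuasiSeparated Y.hom := by
  haveI : QuasiCompact (φ ⊗ₘ φ).left := by
    rw [MonoidalCategory.tensorHom_def, Over.comp_left]
    haveI : QuasiCompact (φ ▷ X).left :=
      MorphismProperty.of_isPullback (P := @QuasiCompact) (H20GQ.isPullback_whiskerRight φ X) inferInstance
    haveI : QuasiCompact (Y ◁ φ).left :=
      MorphismProperty.of_isPullback (P := @QuasiCompact) (H20GQ.isPullback_whiskerLeft φ Y) inferInstance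
    infer_instance
  haveI : QuasiCompact (GIT.psi a (𝟙 X)).left := by
    haveI : QuasiCompact (snd N X).left := inferInstanceAs (QuasiCompact (pullback.snd N.hom X.hom))
    haveI : IsSeparated (snd X X).left := inferInstanceAs (IsSeparated (pullback.snd X.hom X.hom))
    haveI : QuasiCompact ((GIT.psi a (𝟙 X)).left ≫ (snd X X).left) := by
      rw [← Over.comp_left, H20GIT.psi_snd]
      infer_instance
    exact QuasiCompact.of_comp _ (snd X X).left
  let δ : Y ⟶ Y ⊗ Y := lift (𝟙 Y) (𝟙 Y)
  let g : N ⊗ X ⟶ Y := snd N X ≫ φ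
  have hg : Function.Surjective g.left := by
    intro y
    obtain ⟨x, rfl⟩ := hsurj y
    obtain ⟨w, hw⟩ := ho ((pullback.lift (𝟙 _) (𝟙 _) rfl : X.left ⟶ pullback φ.left φ.left) x)
    refine ⟨w, ?_⟩
    have := congrArg (pullback.snd φ.left φ.left ≫ φ.left) hw
    rw [← Scheme.Hom.comp_apply, ← Scheme.Hom.comp_apply, GIT.PsiY, Limits.pullback.lift_snd_assoc,
      Limits.pullback.lift_snd_assoc, Category.id_comp] at this
    exact this
  have hcomp : GIT.psi a (𝟙 X) ≫ (φ ⊗ₘ φ) = g ≫ δ := by
    apply CartesianMonoidalCategory.hom_ext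
    · simp [g, δ, GIT.psi]
      exact hi
    · simp [g, δ, GIT.psi]
  refine ⟨?_⟩
  have hδ : δ.left = Limits.pullback.diagonal Y.hom := Limits.pullback.hom_ext
    ((congrArg (fun m : Y ⟶ Y => m.left) (lift_fst (𝟙 Y) (𝟙 Y))).trans (Limits.pullback.diagonal_fst _).symm)
    ((congrArg (fun m : Y ⟶ Y => m.left) (lift_snd (𝟙 Y) (𝟙 Y))).trans (Limits.pullback.diagonal_snd _).symm)
  rw [← hδ]
  refine ⟨fun U hU hUc => ?_⟩
  have hc : IsCompact ((GIT.psi a (𝟙 X)).left ⁻¹' ((φ ⊗ₘ φ).left ⁻¹' U)) :=
    QuasiCompact.isCompact_preimage _ ((φ ⊗ₘ φ).left.continuous.isOpen_preimage _ hU)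
      (QuasiCompact.isCompact_preimage _ hU hUc)
  have := hc.image g.left.continuous
  rw [← Set.preimage_comp, ← TopCat.coe_comp] at this
  convert this using 1
  have e : (GIT.psi a (𝟙 X)).left ≫ (φ ⊗ₘ φ).left = g.left ≫ δ.left := by
    rw [← Over.comp_left, hcomp, Over.comp_left]
  rw [show ((GIT.psi a (𝟙 X)).left.base ≫ (φ ⊗ₘ φ).left.base) = g.left.base ≫ δ.left.base from
    congrArg (fun m : (N ⊗ X).left ⟶ (Y ⊗ Y).left => m.base) e]
  exact (Set.image_preimage_eq _ hg).symm

/-- Over an algebraically closed field k of characteristic zero, let G be an affine group scheme of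
finite type over k with a closed normal subgroup scheme N, the kernel of a surjective homomorphism q
: G → H onto an affine group scheme H of finite type over k (the factor group G/N). Let G act on a
separated k-scheme X of finite type, let φ : X → Y be a torsor over Y under the restricted action of
N (cartesian action square, sections on the members of some fpqc covering family of Y), and let H
act on Y so that φ is equivariant along q. Then for every geometric point x of X (a point with
values in an algebraically closed field Ω) with image y in Y: the G-orbit of x is closed in X_Ω and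
the stabiliser of x in G is finite if and only if the H-orbit of y is closed in Y_Ω and the
stabiliser of y in H is finite. (The induced action of the factor group on Y is taken as a datum
together with the equivariance of φ; the points of the published statement are rendered as geometric
points.) -/
theorem result
    (k : Type u) [Field k] [IsAlgClosed k] [CharZero k]
    (G N H X Y : Over (Spec (CommRingCat.of k))) [GrpObj G] [GrpObj N] [GrpObj H]
    [IsAffine G.left] [LocallyOfFiniteType G.hom]
    (iN : N ⟶ G) [IsMonHom iN] [IsClosedImmersion iN.left] (hnorm : AlgGrp.IsNormalHom iN)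
    (q : G ⟶ H) [IsMonHom q] [Surjective q.left] [IsAffine H.left] [LocallyOfFiniteType H.hom]
    (hker : AlgGrp.IsKernel iN q)
    [LocallyOfFiniteType X.hom] [QuasiCompact X.hom] [IsSeparated X.hom]
    (a : AlgGrp.Action G X) (φ : X ⟶ Y)
    (hcart : IsPullback (a.restrict iN).act (snd N X) φ φ)
    (hloc : NonAbH1.IsLocallyTrivialFor Scheme.fpqcPrecoverage (Over.mk φ.left : Over Y.left))
    (aY : AlgGrp.Action H Y) (hequiv : (q ⊗ₘ φ) ≫ aY.act = a.act ≫ φ)
    (Ω : Type u) [Field Ω] [IsAlgClosed Ω] (P : Over (Spec (CommRingCat.of k)))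
    (e : P.left ≅ Spec (CommRingCat.of Ω)) (x : P ⟶ X) :
    (IsClosed (Set.range (GIT.psi a x).left.base) ∧ IsFinite (GLinSh.stabTo a x)) ↔
      (IsClosed (Set.range (GIT.psi aY (x ≫ φ)).left.base) ∧ IsFinite (GLinSh.stabTo aY (x ≫ φ))) := by
  haveI : IsAffine N.left := isAffine_of_isAffineHom iN.left
  haveI : LocallyOfFiniteType N.hom := by rw [← Over.w iN]; infer_instance
  obtain ⟨haff, hπ⟩ := S18975.result k N X Y (a.restrict iN) φ hcart hloc
  haveI := haff
  haveI : QuasiCompact G.hom := inferInstance
  haveI : QuasiCompact H.hom := inferInstance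
  haveI : LocallyOfFiniteType φ.left := by
    haveI : LocallyOfFiniteType (φ.left ≫ Y.hom) := by rw [Over.w φ]; infer_instance
    exact locallyOfFiniteType_of_comp φ.left Y.hom
  haveI : LocallyOfFiniteType q.left := by
    haveI : LocallyOfFiniteType (q.left ≫ H.hom) := by rw [Over.w q]; infer_instance
    exact locallyOfFiniteType_of_comp q.left H.hom
  haveI : QuasiSeparated Y.hom := quasiSeparated_of_orbit (a.restrict iN) φ hπ.inv hπ.orbit hπ.surj
  have haN : (a.restrict iN).act = (iN ▷ X) ≫ a.act := rfl
  haveI : Finite {n : P ⟶ N // lift n x ≫ (a.restrict iN).act = x} := by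
    haveI : Subsingleton {n : P ⟶ N // lift n x ≫ (a.restrict iN).act = x} := ⟨fun n n' => by
      have h : lift n.1 x = lift n'.1 x := hcart.hom_ext (n.2.trans n'.2.symm) (by simp)
      exact Subtype.ext (by simpa using congrArg (· ≫ fst N X) h)⟩
    infer_instance
  rw [H20Prop.isFinite_stabTo_iff aY e, H20Prop.isFinite_stabTo_iff a e,
    H20Prop.finite_sol_quot_iff a e iN q hker (a.restrict iN) haN hπ.inv hπ.orbit aY hequiv x]
  refine and_congr ?_ Iff.rfl
  rw [← H20Prop.preimage_range_psi_quot iN q a (a.restrict iN) φ aY haN hπ.inv hπ.orbit hequiv x]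
  have hq : Topology.IsQuotientMap (φ ▷ P).left := hπ.subm _ _ _ (H20GQ.isPullback_whiskerRight φ P).flip
  exact hq.isClosed_preimage

end Groth.Agent.S18978
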