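import Groth.Statements.S18979
import Groth.Agent.H20Semi.Semidirect
-- import your own Groth.Agent.* helpers here

set_option autoImplicit false
universe u
open CategoryTheory MonoidalCategory CartesianMonoidalCategory MonObj AlgebraicGeometry
open GIT

namespace Groth.Agent.S18979

/-- Over an algebraically closed field k of characteristic zero, let G be a smooth affine group scheme
of finite type over k which is a split extension of a torus T by a closed normal subgroup scheme U:
U is the kernel of a homomorphism p : G → T which has a homomorphic section T → G, and U is smooth,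
connected and contains no non-trivial subtorus (so U is unipotent and G = U ⋊ T). Let G act on a
separated k-scheme X of finite type and let x be a geometric point of X (with values in an
algebraically closed field Ω) whose stabiliser in U is trivial. Then the stabiliser of x in G is
finite if and only if, for every Ω-point u of U, the stabiliser in T of u · x is finite. (Points of
the source are rendered as geometric points; unipotence of U is expressed as having no non-trivial
subtorus, equivalent for smooth connected U.) -/
theorem result
    (k : Type u) [Field k] [IsAlgClosed k] [CharZero k]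
    (G U T X : Over (Spec (CommRingCat.of k))) [GrpObj G] [GrpObj U] [GrpObj T]
    [IsAffine G.left] [LocallyOfFiniteType G.hom] [Smooth G.hom]
    (iU : U ⟶ G) [IsMonHom iU] [IsClosedImmersion iU.left] (hnorm : AlgGrp.IsNormalHom iU)
    [Smooth U.hom] [ConnectedSpace U.left] (hU : Red.HasNoSubtorus k U)
    (hT : Red.IsTorus T) (p : G ⟶ T) [IsMonHom p] (hker : AlgGrp.IsKernel iU p)
    (iT : T ⟶ G) [IsMonHom iT] (hsplit : iT ≫ p = 𝟙 T)
    [LocallyOfFiniteType X.hom] [QuasiCompact X.hom] [IsSeparated X.hom]
    (a : AlgGrp.Action G X)
    (Ω : Type u) [Field Ω] [IsAlgClosed Ω] (P : Over (Spec (CommRingCat.of k)))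
    (e : P.left ≅ Spec (CommRingCat.of Ω)) (x : P ⟶ X)
    (hfree : IsIso (GLinSh.stabTo (a.restrict iU) x)) :
    IsFinite (GLinSh.stabTo a x) ↔
      ∀ u : P ⟶ U, IsFinite (GLinSh.stabTo (a.restrict iT) (lift (u ≫ iU) x ≫ a.act)) := by
  haveI : IsAffineHom G.hom := isAffineHom_of_isAffine G.hom
  haveI : IsClosedImmersion iT.left := by
    haveI : IsClosedImmersion (iT.left ≫ p.left) := by
      rw [← Over.comp_left, hsplit]
      infer_instance
    exact IsClosedImmersion.of_comp iT.left p.left
  haveI : LocallyOfFiniteType T.hom := by
    rw [← Over.w iT]
    infer_instance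
  haveI : QuasiCompact T.hom := by
    rw [← Over.w iT]
    infer_instance
  rw [Groth.Agent.H20Prop.isFinite_stabTo_iff a e x,
    Groth.Agent.H20Semi.finite_stab_iff iU hU hT p hker iT hsplit a e x hfree]
  exact forall_congr' fun u =>
    (Groth.Agent.H20Prop.isFinite_stabTo_iff (a.restrict iT) e (lift (u ≫ iU) x ≫ a.act)).symm

end Groth.Agent.S18979
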