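import Groth.Statements.S19424
import Groth.Agent.H19Grp.GoodQuot

set_option autoImplicit false
set_option linter.style.haveILetI false
set_option backward.isDefEq.respectTransparency false
universe u
open CategoryTheory MonoidalCategory CartesianMonoidalCategory MonObj AlgebraicGeometry Topology
open NRQuot

namespace Groth.Agent.S19424

/-- Let k be an algebraically closed field, G an affine group scheme of finite type over k acting on a
k-scheme X locally of finite type, and φ : X → Y a good quotient (affine and invariant, functions on
every open of Y are exactly the invariant functions on its preimage, invariant closed subsets have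
closed images, and images commute with intersections of families of invariant closed subsets). Then
for two k-points x₁, x₂ of X, the closures of their orbits (the images of the orbit morphisms G → X)
have a common point if and only if x₁ and x₂ have the same image in Y. -/
theorem result
    (k : Type u) [Field k] [IsAlgClosed k]
    (G X Y : Over (Spec (CommRingCat.of k))) [GrpObj G] [IsAffine G.left] [LocallyOfFiniteType G.hom]
    [LocallyOfFiniteType X.hom]
    (a : AlgGrp.Action G X) (φ : X ⟶ Y) (h : NRQuot.IsGoodQuot a φ)
    (x₁ x₂ : 𝟙_ (Over (Spec (CommRingCat.of k))) ⟶ X) :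
    (closure (Set.range (a.orbitMap x₁).left.base) ∩ closure (Set.range (a.orbitMap x₂).left.base)).Nonempty ↔
      x₁ ≫ φ = x₂ ≫ φ := by
  have he : (x₁ ≫ φ = x₂ ≫ φ) ↔
      (x₁ ≫ φ).left (IsLocalRing.closedPoint k) = (x₂ ≫ φ).left (IsLocalRing.closedPoint k) := by
    refine ⟨fun e => by rw [e], fun e => Over.OverMorphism.ext ?_⟩
    exact H19Grp.section_ext (q := Y.hom) (Over.w _) (Over.w _) e
  have hW : ∀ x : 𝟙_ (Over (Spec (CommRingCat.of k))) ⟶ X, φ.left.base '' closure (Set.range (a.orbitMap x).left.base) =
      {(x ≫ φ).left (IsLocalRing.closedPoint k)} := by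
    intro x
    apply Set.Subset.antisymm
    · refine (image_closure_subset_closure_image φ.left.continuous).trans ?_
      refine (H19Grp.isClosed_range_of_section (q := Y.hom) _ (Over.w (x ≫ φ))).closure_subset_iff.mpr ?_
      rintro _ ⟨_, ⟨g, rfl⟩, rfl⟩
      have e : a.orbitMap x ≫ φ = toUnit G ≫ x ≫ φ := by
        rw [AlgGrp.Action.orbitMap, Category.assoc, h.inv, lift_snd_assoc, Category.assoc]
      show φ.left ((a.orbitMap x).left g) = (x ≫ φ).left (IsLocalRing.closedPoint k)
      rw [← Scheme.Hom.comp_apply, ← Over.comp_left, e, Over.comp_left, Scheme.Hom.comp_apply]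
      have hsub : ∀ t : ↥(Spec (CommRingCat.of k)), t = IsLocalRing.closedPoint k :=
        fun t => Subsingleton.elim _ _
      congr 1
      exact hsub _
    · rintro _ rfl
      refine ⟨(a.orbitMap x).left ((η[G]).left (IsLocalRing.closedPoint k)), subset_closure ⟨_, rfl⟩, ?_⟩
      have e : η[G] ≫ a.orbitMap x ≫ φ = x ≫ φ := by
        rw [AlgGrp.Action.orbitMap, Category.assoc, h.inv, lift_snd_assoc, Category.assoc, ← Category.assoc,
          toUnit_unique (η[G] ≫ toUnit G) (𝟙 _), Category.id_comp]
      rw [← Scheme.Hom.comp_apply, ← Scheme.Hom.comp_apply, ← Over.comp_left, ← Over.comp_left, e]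
  have hinter := h.inter (ULift.{u} Bool)
    (fun i => closure (Set.range (a.orbitMap (cond i.down x₁ x₂)).left.base)) (fun _ => isClosed_closure)
    (fun _ => H19Grp.isInvariantSet_closure (H19Grp.isInvariantSet_range_orbitMap _))
  have e2 : ∀ {α : Type u} (f : ULift.{u} Bool → Set α), (⋂ i, f i) = f ⟨true⟩ ∩ f ⟨false⟩ := by
    intro α f
    ext t
    simp only [Set.mem_iInter, Set.mem_inter_iff]
    exact ⟨fun H => ⟨H _, H _⟩, fun H ⟨i⟩ => by cases i; exacts [H.2, H.1]⟩
  rw [e2, e2] at hinter
  simp only [cond_true, cond_false] at hinter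
  rw [hW, hW] at hinter
  rw [he, ← Set.image_nonempty (f := φ.left.base), hinter]
  simp [eq_comm]

end Groth.Agent.S19424
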