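import Groth.Statements.S18981
import Groth.Agent.S19424
import Groth.Agent.H19Grp.GoodQuot
import Groth.Agent.H18Torsor.Glue

set_option autoImplicit false
set_option linter.style.haveILetI false
set_option backward.isDefEq.respectTransparency false
universe u
open CategoryTheory MonoidalCategory CartesianMonoidalCategory MonObj AlgebraicGeometry Topology
open NRQuot

namespace Groth.Agent.S18981

/-- Over an algebraically closed field k of characteristic zero, let G be an affine group scheme of
finite type over k acting on a k-scheme X locally of finite type, and let φ : X → Y be a good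
quotient (affine and invariant, functions on every open of Y are exactly the invariant functions on
its preimage, invariant closed subsets have closed images, images commute with intersections of
families of invariant closed subsets). If the orbit of every k-point of X is closed in X, then φ is
a geometric quotient; this row states the one clause that a good quotient lacks: fibres are orbits,
read on k-points — two k-points of X with the same image in Y are translates of each other by a
k-point of G. (Surjectivity and submersiveness of a good quotient are the content of the companion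
statement on good quotients; X locally of finite type is what the argument on closed points uses.) -/
theorem result
    (k : Type u) [Field k] [IsAlgClosed k] [CharZero k]
    (G X Y : Over (Spec (CommRingCat.of k))) [GrpObj G] [IsAffine G.left] [LocallyOfFiniteType G.hom]
    [LocallyOfFiniteType X.hom]
    (a : AlgGrp.Action G X) (φ : X ⟶ Y) (h : NRQuot.IsGoodQuot a φ)
    (hcl : ∀ x : 𝟙_ (Over (Spec (CommRingCat.of k))) ⟶ X, IsClosed (Set.range (a.orbitMap x).left.base))
    (x₁ x₂ : 𝟙_ (Over (Spec (CommRingCat.of k))) ⟶ X) (hφ : x₁ ≫ φ = x₂ ≫ φ) :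
    ∃ g : 𝟙_ (Over (Spec (CommRingCat.of k))) ⟶ G, lift g x₁ ≫ a.act = x₂ := by
  obtain ⟨z₀, hz⟩ := (S19424.result k G X Y a φ h x₁ x₂).2 hφ
  rw [(hcl x₁).closure_eq, (hcl x₂).closure_eq] at hz
  haveI : JacobsonSpace ↥X.left := LocallyOfFiniteType.jacobsonSpace X.hom
  haveI : JacobsonSpace ↥G.left := LocallyOfFiniteType.jacobsonSpace G.hom
  obtain ⟨z, hz, hzc⟩ := nonempty_inter_closedPoints (X := ↥X.left)
    ⟨z₀, hz⟩ ((hcl x₁).inter (hcl x₂)).isLocallyClosed
  let zp : 𝟙_ (Over (Spec (CommRingCat.of k))) ⟶ X :=
    Over.homMk (pointOfClosedPoint X.hom z hzc) (pointOfClosedPoint_comp _ _ _)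
  have key : ∀ x : 𝟙_ (Over (Spec (CommRingCat.of k))) ⟶ X, z ∈ Set.range (a.orbitMap x).left.base →
      ∃ g : 𝟙_ (Over (Spec (CommRingCat.of k))) ⟶ G, lift g x ≫ a.act = zp := by
    intro x ⟨w, hw⟩
    obtain ⟨v, hv, hvc⟩ := nonempty_inter_closedPoints (X := ↥G.left)
      (Z := (a.orbitMap x).left.base ⁻¹' {z}) ⟨w, hw⟩
      ((hzc : IsClosed {z}).preimage (a.orbitMap x).left.continuous).isLocallyClosed
    let g : 𝟙_ (Over (Spec (CommRingCat.of k))) ⟶ G :=
      Over.homMk (pointOfClosedPoint G.hom v hvc) (pointOfClosedPoint_comp _ _ _)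
    refine ⟨g, ?_⟩
    have e : lift g x ≫ a.act = g ≫ a.orbitMap x := by
      rw [AlgGrp.Action.orbitMap, ← Category.assoc g, comp_lift, Category.comp_id, ← Category.assoc g,
        toUnit_unique (g ≫ toUnit G) (𝟙 _), Category.id_comp]
    rw [e]
    apply Over.OverMorphism.ext
    refine H19Grp.section_ext (q := X.hom) (Over.w _) (Over.w zp) ?_
    change (pointOfClosedPoint G.hom v hvc ≫ (a.orbitMap x).left) (IsLocalRing.closedPoint k) =
      pointOfClosedPoint X.hom z hzc (IsLocalRing.closedPoint k)
    rw [Scheme.Hom.comp_apply, pointOfClosedPoint_apply, pointOfClosedPoint_apply]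
    exact hv
  obtain ⟨g₁, hg₁⟩ := key x₁ hz.1
  obtain ⟨g₂, hg₂⟩ := key x₂ hz.2
  refine ⟨g₂⁻¹ * g₁, ?_⟩
  change H18Torsor.smul a _ x₁ = x₂
  rw [H18Torsor.mul_smul_pt, show H18Torsor.smul a g₁ x₁ = zp from hg₁, ← show H18Torsor.smul a g₂ x₂ = zp from hg₂,
    ← H18Torsor.mul_smul_pt, inv_mul_cancel, H18Torsor.one_smul_pt]

end Groth.Agent.S18981
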