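import Groth.Statements.S18983
import Groth.Agent.H3CAlg.GradedJordan

set_option autoImplicit false
universe u v w
open CAlg

namespace Groth.Agent.S18983

/-- Let k be a field, Λ an additive commutative group, V a finite-dimensional k-vector space which is
the internal direct sum of subspaces V_μ indexed by Λ (a representation of a torus with character
group Λ), and A a nilpotent endomorphism of V mapping each V_μ into V_{μ+χ} for a fixed χ (the
infinitesimal generator of an action of the additive group on which the torus acts through the
character χ). Then V has a basis consisting of homogeneous vectors e_{i,l}, 0 ≤ l ≤ n_i, with A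
e_{i,0} = 0 and A e_{i,l+1} = e_{i,l}: a weight basis bringing A into Jordan normal form. (The
source states this, over an algebraically closed field of characteristic zero, as a decomposition of
every representation of the semidirect product of the additive group with a torus into twists of
symmetric powers of the standard two-dimensional representation by characters; the first line of its
proof reduces that to the present statement, which is what is proved, and which holds over any
field.) -/
theorem result
    (k : Type u) [Field k] (Λ : Type v) [AddCommGroup Λ] [DecidableEq Λ]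
    (V : Type w) [AddCommGroup V] [Module k V] [FiniteDimensional k V]
    (𝒱 : Λ → Submodule k V) (h𝒱 : DirectSum.IsInternal 𝒱)
    (A : Module.End k V) (hA : IsNilpotent A) (χ : Λ)
    (hhom : ∀ (μ : Λ) (v : V), v ∈ 𝒱 μ → A v ∈ 𝒱 (μ + χ)) :
    ∃ (ι : Type w) (_ : Finite ι) (n : ι → ℕ) (b : Module.Basis (Σ i : ι, Fin (n i + 1)) k V),
      (∀ (i : ι) (l : Fin (n i + 1)), ∃ μ : Λ, b ⟨i, l⟩ ∈ 𝒱 μ) ∧
      (∀ i : ι, A (b ⟨i, 0⟩) = 0) ∧
      ∀ (i : ι) (l : Fin (n i)), A (b ⟨i, l.succ⟩) = b ⟨i, l.castSucc⟩ := by
  classical
  letI := h𝒱.chooseDecomposition
  obtain ⟨ι, hι, n, b, hli, hsp, hh, h0, h1⟩ := Groth.Agent.H3CAlg.GradedJordan.exists_chains 𝒱 A χ hA hhom ⊤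
    (fun _ _ _ => trivial) (fun _ _ => trivial)
  refine ⟨ι, hι, n, Module.Basis.mk hli hsp.ge, fun i l => ?_, fun i => ?_, fun i l => ?_⟩
  · rw [Module.Basis.mk_apply]; exact hh _
  · rw [Module.Basis.mk_apply]; exact h0 i
  · rw [Module.Basis.mk_apply, Module.Basis.mk_apply]; exact h1 i l

end Groth.Agent.S18983
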