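import Groth.Statements.S18989
import Groth.Agent.H20Inf.Comod

set_option backward.isDefEq.respectTransparency false

set_option autoImplicit false
universe u
open TensorProduct
open HopfRep

namespace Groth.Agent.S18989

/-- An action of a unipotent group on an affine scheme is determined by its infinitesimal action. Over
an algebraically closed field k of characteristic zero, let A be a finitely generated commutative
Hopf algebra, unipotent in the fixed-vector sense, coacting multiplicatively on two finitely
generated commutative k-algebras R₁ and R₂, and let e : R₁ → R₂ be an algebra isomorphism which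
intertwines the two infinitesimal actions: for every ε-derivation ξ : A → k and every f in R₁,
applying ξ to the A-factor of the coaction of e(f) equals e ⊗ id applied to the same for f. Then e
intertwines the coactions: the coaction of e(f) is (e ⊗ id) of the coaction of f for all f. (With R₁
= R₂ and e the identity this says that two actions with the same infinitesimal action coincide,
which is the printed assertion.) -/
theorem result
    (k : Type u) [Field k] [IsAlgClosed k] [CharZero k]
    (A : Type u) [CommRing A] [HopfAlgebra k A] [Algebra.FiniteType k A] (hU : HopfRep.IsUnipotent k A)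
    (R₁ R₂ : Type u) [CommRing R₁] [Algebra k R₁] [Algebra.FiniteType k R₁]
    [HopfRep.Comod k A R₁] [GLin.IsCoactAlg k A R₁]
    [CommRing R₂] [Algebra k R₂] [Algebra.FiniteType k R₂]
    [HopfRep.Comod k A R₂] [GLin.IsCoactAlg k A R₂]
    (e : R₁ ≃ₐ[k] R₂)
    (h : ∀ (ξ : LieHopf.Lie k A) (f : R₁),
      LinearMap.lTensor R₂ (ξ.toLinearMap.restrictScalars k) (HopfRep.Comod.coact (k := k) (A := A) (e f)) =
        LinearMap.rTensor (LieHopf.K k A) e.toLinearMap
          (LinearMap.lTensor R₁ (ξ.toLinearMap.restrictScalars k) (HopfRep.Comod.coact (k := k) (A := A) f))) :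
    ∀ f : R₁, HopfRep.Comod.coact (k := k) (A := A) (e f) =
      LinearMap.rTensor A e.toLinearMap (HopfRep.Comod.coact (k := k) (A := A) f) := by
  refine Groth.Agent.H20Inf.coact_intertwine hU e.toLinearMap fun ξ f => ?_
  rw [Groth.Agent.H20Comod.actL_apply, Groth.Agent.H20Comod.actL_apply, ← Groth.Agent.H20Inf.rid_lTensor]
  show TensorProduct.rid k R₂ (LinearMap.lTensor R₂ (ξ.toLinearMap.restrictScalars k)
    (HopfRep.Comod.coact (k := k) (A := A) (e f))) = _
  rw [h ξ f, Groth.Agent.H20Inf.lTensor_eq_tmul ξ, LinearMap.rTensor_tmul]
  exact (TensorProduct.rid_tmul (R := k) _ _).trans (one_smul _ _)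

end Groth.Agent.S18989
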