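import Groth.Statements.S18991
import Groth.Agent.H25AffAlb.Basic


set_option autoImplicit false
set_option linter.style.haveILetI false
set_option backward.isDefEq.respectTransparency false
set_option synthInstance.maxHeartbeats 200000
universe u
open CategoryTheory MonoidalCategory CartesianMonoidalCategory MonObj GrpObj AlgebraicGeometry CategoryTheory.Limits
open AbVar

namespace Groth.Agent.S18991

/-- In the form of the factorization it amounts to, let k be a perfect field, X a reduced separated
k-scheme of finite type, n ≥ 0 and G a large group over k, that is a commutative separated k-group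
scheme locally of finite type together with a connected open subgroup scheme G⁰ (its neutral
component) which is semiabelian: G⁰ has a closed subgroup scheme T that is a torus and is the kernel
of a flat surjective homomorphism from G⁰ onto an abelian variety A (a proper smooth connected
k-group scheme). Then every k-morphism X ×_k 𝔸ⁿ_k → G factors through the first projection X ×_k
𝔸ⁿ_k → X. (So a k-morphism X → A_X that is universal for morphisms from X to large groups remains
universal after composing with the projection: the Albanese scheme of X ×_k 𝔸ⁿ_k is that of X via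
the projection.) -/
theorem result (k : Type u) [Field k] [PerfectField k]
    (X : Over (Spec (CommRingCat.of k))) [IsReduced X.left] [IsSeparated X.hom] [QuasiCompact X.hom]
    [LocallyOfFiniteType X.hom] (n : ℕ)
    (G : Over (Spec (CommRingCat.of k))) [GrpObj G] [IsCommMonObj G] [IsSeparated G.hom] [LocallyOfFiniteType G.hom]
    (G0 : Over (Spec (CommRingCat.of k))) [GrpObj G0] (e : G0 ⟶ G) [IsMonHom e] [IsOpenImmersion e.left]
    [ConnectedSpace ↥G0.left]
    (T : Over (Spec (CommRingCat.of k))) [GrpObj T] (i : T ⟶ G0) [IsMonHom i] [IsClosedImmersion i.left]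
    (hT : Red.IsTorus T)
    (A : Over (Spec (CommRingCat.of k))) [GrpObj A] [IsProper A.hom] [Smooth A.hom] [ConnectedSpace ↥A.left]
    (q : G0 ⟶ A) [IsMonHom q] [Surjective q.left] [Flat q.left] (hker : AlgGrp.IsKernel i q)
    (φ : X ⊗ Over.mk (Spec.map (CommRingCat.ofHom (algebraMap k (MvPolynomial (Fin n) k)))) ⟶ G) :
    ∃ ψ : X ⟶ G, φ = fst X (Over.mk (Spec.map (CommRingCat.ofHom (algebraMap k (MvPolynomial (Fin n) k))))) ≫ ψ := by
  classical
  let K := AlgebraicClosure k
  let Aff := Groth.Agent.H25Chow.specOver k (MvPolynomial (Fin n) k)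
  let zero : 𝟙_ (Over (Spec (CommRingCat.of k))) ⟶ Aff :=
    (Over.homMk (𝟙 _) (by
      show 𝟙 _ ≫ Spec.map _ = 𝟙 _
      rw [Category.id_comp, show CommRingCat.ofHom (algebraMap k k) = 𝟙 (CommRingCat.of k) from rfl, Spec.map_id]) :
      𝟙_ (Over (Spec (CommRingCat.of k))) ⟶ Groth.Agent.H25Chow.specOver k k) ≫
    Groth.Agent.H25Chow.specHom (MvPolynomial.aeval fun _ => (0 : k))
  refine ⟨lift (𝟙 X) (toUnit X ≫ zero) ≫ φ, ?_⟩
  haveI : Smooth Aff.hom := Groth.Agent.H25Chow.smooth_mvPolynomial
  haveI : Smooth (fst X Aff).left := MorphismProperty.pullback_fst (P := @Smooth) X.hom Aff.hom inferInstance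
  haveI : LocallyOfFiniteType (X ⊗ Aff).hom := by
    rw [← Over.w (fst X Aff)]
    infer_instance
  haveI : IsReduced (X ⊗ Aff).left := Groth.Agent.H13AlgSp.isReduced_of_smooth_mor (fst X Aff).left
  refine Groth.Agent.H25AffAlb.ext_of_Kpoints K _ _ fun z => ?_
  obtain ⟨w, hw⟩ := Groth.Agent.H25AffAlb.eq_specHom (z ≫ snd X Aff)
  let x := z ≫ fst X Aff
  let ρ : Groth.Agent.H25AffAlb.AffK (k := k) K n ⟶ Aff :=
    Groth.Agent.H25Chow.specHom (MvPolynomial.aeval fun j => (MvPolynomial.X j : MvPolynomial (Fin n) K))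
  let h := lift (Groth.Agent.H25AffAlb.prA K n ≫ x) ρ ≫ φ
  let a : Fin n → K := fun j => w (MvPolynomial.X j)
  have hconst := Groth.Agent.H25AffAlb.affConst_large (K := K) (n := n) e i
    (Groth.Agent.H25AffAlb.affConst_torus T hT) (Groth.Agent.H25AffAlb.affConst_abelian A) q hker h
  have hρ : ∀ b : Fin n → K, Groth.Agent.H25AffAlb.evalPt (k := k) K n b ≫ ρ =
      Groth.Agent.H25Chow.specHom (MvPolynomial.aeval b) := fun b => by
    rw [Groth.Agent.H25AffAlb.evalPt, Groth.Agent.H25Chow.specHom_comp]
    congr 1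
    exact MvPolynomial.algHom_ext fun j => by simp
  have hh : ∀ b : Fin n → K, Groth.Agent.H25AffAlb.evalPt (k := k) K n b ≫ h =
      lift x (Groth.Agent.H25Chow.specHom (MvPolynomial.aeval b)) ≫ φ := fun b => by
    show _ ≫ lift _ _ ≫ φ = _
    rw [← Category.assoc, comp_lift, ← Category.assoc, Groth.Agent.H25AffAlb.evalPt_prA, Category.id_comp, hρ]
  have ha : Groth.Agent.H25AffAlb.evalPt (k := k) K n a ≫ h = Groth.Agent.H25AffAlb.evalPt K n 0 ≫ h := by
    conv_lhs => rw [← hconst, ← Category.assoc, Groth.Agent.H25AffAlb.evalPt_prA, Category.id_comp]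
  rw [hh, hh] at ha
  have hz : z = lift x (Groth.Agent.H25Chow.specHom (MvPolynomial.aeval a)) := by
    refine CartesianMonoidalCategory.hom_ext _ _ (lift_fst _ _).symm ?_
    rw [lift_snd, hw]
    congr 1
    exact MvPolynomial.algHom_ext fun j => by simp [a]
  have h0 : toUnit _ ≫ zero =
      Groth.Agent.H25Chow.specHom (k := k) (MvPolynomial.aeval (0 : Fin n → K)) := by
    refine Over.OverMorphism.ext ?_
    show Spec.map _ ≫ 𝟙 _ ≫ Spec.map _ = Spec.map _
    rw [Category.id_comp, ← Spec.map_comp]
    congr 1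
    refine CommRingCat.hom_ext (MvPolynomial.ringHom_ext (fun c => ?_) fun j => ?_) <;> simp
  conv_lhs => rw [hz, ha]
  rw [show lift x (Groth.Agent.H25Chow.specHom (MvPolynomial.aeval (0 : Fin n → K))) = x ≫ lift (𝟙 X) (toUnit X ≫ zero) by
    rw [comp_lift, Category.comp_id, ← Category.assoc, toUnit_unique (x ≫ toUnit X) (toUnit _), h0]]
  simp only [x, Category.assoc]
  rfl

end Groth.Agent.S18991
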