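import Groth.Statements.S18994
import Mathlib.RingTheory.MvPolynomial.Homogeneous

set_option autoImplicit false
universe u
open TernForm

namespace Groth.Agent.S18994

open MvPolynomial

variable {R : Type*} [CommRing R]

theorem top_coeff_zero (j : Fin 3) (q : MvPolynomial (Fin 3) R) (hq : q.IsHomogeneous 2)
    (hqj : IsUnit (q.coeff (Finsupp.single j 2))) (g : MvPolynomial (Fin 3) R)
    (h : ∀ m : Fin 3 →₀ ℕ, 2 ≤ m j → (q * g).coeff m = 0) : g = 0 := by
  by_contra hg
  obtain ⟨m, hm, hmax⟩ := g.support.exists_max_image (fun m => m j) (support_nonempty.2 hg)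
  have h2 := h (Finsupp.single j 2 + m) (by simp)
  rw [coeff_mul, Finset.sum_eq_single (Finsupp.single j 2, m)] at h2
  · exact mem_support_iff.1 hm ((hqj.mul_right_eq_zero).1 h2)
  · rintro ⟨a, b⟩ hab hne
    rw [Finset.HasAntidiagonal.mem_antidiagonal] at hab
    by_contra hz
    have ha : q.coeff a ≠ 0 := left_ne_zero_of_mul hz
    have hb : b ∈ g.support := mem_support_iff.2 (right_ne_zero_of_mul hz)
    have hdeg : a.degree = 2 := by
      by_contra hd; exact ha (hq.coeff_eq_zero hd)
    have hbj := hmax b hb
    have habj : a j + b j = 2 + m j := by
      have := congrArg (fun x : Fin 3 →₀ ℕ => x j) hab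
      simpa using this
    have haj : a = Finsupp.single j 2 := by
      rw [Finsupp.degree_eq_sum, Fin.sum_univ_three] at hdeg
      have hajge : 2 ≤ a j := by omega
      ext i
      fin_cases j <;> fin_cases i <;> simp at hajge ⊢ <;> omega
    subst haj
    exact hne (Prod.ext rfl (add_left_cancel hab))
  · intro hn
    refine absurd ?_ hn
    rw [Finset.HasAntidiagonal.mem_antidiagonal]
theorem coeff_span_monomials (P : (Fin 3 →₀ ℕ) → Prop) {ι : Type*} (f : ι → (Fin 3 →₀ ℕ)) (hf : ∀ i, P (f i))
    (x : MvPolynomial (Fin 3) R) (hx : x ∈ Submodule.span R (Set.range fun i => monomial (f i) (1 : R)))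
    (m : Fin 3 →₀ ℕ) (hm : ¬ P m) : x.coeff m = 0 := by
  classical
  induction hx using Submodule.span_induction with
  | mem y hy =>
    obtain ⟨i, rfl⟩ := hy
    rw [coeff_monomial, if_neg]
    rintro rfl
    exact hm (hf i)
  | zero => simp
  | add _ _ _ _ h1 h2 => rw [coeff_add, h1, h2, add_zero]
  | smul c _ _ h => rw [coeff_smul, h, smul_zero]

theorem linearIndependent_monomials {ι : Type*} (f : ι → (Fin 3 →₀ ℕ)) (hf : Function.Injective f) :
    LinearIndependent R (fun i => monomial (f i) (1 : R)) := by
  have := (basisMonomials (Fin 3) R).linearIndependent.comp f hf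
  simpa [coe_basisMonomials, Function.comp_def] using this

theorem mul_eq_zero_of (j : Fin 3) (q : MvPolynomial (Fin 3) R) (hq : q.IsHomogeneous 2)
    (hqj : IsUnit (q.coeff (Finsupp.single j 2))) (g : MvPolynomial (Fin 3) R) (h : q * g = 0) : g = 0 :=
  top_coeff_zero j q hq hqj g fun m _ => by rw [h, coeff_zero]


/-- Let R be a commutative ring, j ∈ {0, 1, 2}, q a homogeneous polynomial of degree 2 in R[X_0, X_1,
X_2] whose coefficient of X_j^2 is a unit, and n a natural number. Then the family consisting of the
monomials of degree n not divisible by X_j^2 (exponent of X_j at most 1) together with the products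
q · m, m running over the monomials of degree n − 2 (indexed by exponents m with |m| + 2 = n), is
linearly independent over R and spans exactly the homogeneous polynomials of degree n; in particular
it is a basis of that module and the two parts are disjoint. (The published lemma is stated over a
field with the coefficient nonzero, the special case of a field R here; the version over a ring with
the coefficient invertible is what its change-of-basis argument gives — ordering monomials by
decreasing exponent of X_j makes the matrix triangular with diagonal entries 1 and that coefficient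
— and is the form used to trivialise the bundle of degree-n forms modulo multiples of q over the
locus where the coefficient is invertible. The published lemma also allows an arbitrary monomial of
degree 2 in place of X_j^2; for the mixed monomial X_1X_2, the form q = X_1^2 + X_1X_2 + X_2^2 and n
= 3 give the linear relation q·X_1 − q·X_2 = X_1^3 − X_2^3 among members of the family, so the claim
fails there and is stated here for the square of a variable.) -/
theorem result
    (R : Type u) [CommRing R] (j : Fin 3) (q : MvPolynomial (Fin 3) R)
    (hq : q.IsHomogeneous 2) (hqj : IsUnit (q.coeff (Finsupp.single j 2))) (n : ℕ) :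
    LinearIndependent R (Sum.elim (fun m : {m : Fin 3 →₀ ℕ // m.degree = n ∧ m j < 2} => MvPolynomial.monomial m.1 (1 : R)) (fun m : {m : Fin 3 →₀ ℕ // m.degree + 2 = n} => q * MvPolynomial.monomial m.1 (1 : R))) ∧
      Submodule.span R (Set.range (Sum.elim (fun m : {m : Fin 3 →₀ ℕ // m.degree = n ∧ m j < 2} => MvPolynomial.monomial m.1 (1 : R)) (fun m : {m : Fin 3 →₀ ℕ // m.degree + 2 = n} => q * MvPolynomial.monomial m.1 (1 : R)))) = MvPolynomial.homogeneousSubmodule (Fin 3) R n := by
  classical
  set A := fun m : {m : Fin 3 →₀ ℕ // m.degree = n ∧ m j < 2} => MvPolynomial.monomial m.1 (1 : R)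
  set B := fun m : {m : Fin 3 →₀ ℕ // m.degree + 2 = n} => q * MvPolynomial.monomial m.1 (1 : R)
  have hker : LinearMap.ker (LinearMap.mulLeft R q) = ⊥ :=
    LinearMap.ker_eq_bot'.2 fun g hg => mul_eq_zero_of j q hq hqj g hg
  refine ⟨LinearIndependent.sum_type (linearIndependent_monomials _ Subtype.val_injective)
    ((linearIndependent_monomials _ Subtype.val_injective).map' (LinearMap.mulLeft R q) hker) ?_, ?_⟩
  · rw [Submodule.disjoint_def]
    intro x hxA hxB
    have hle : Submodule.span R (Set.range B) ≤ LinearMap.range (LinearMap.mulLeft R q) :=
      Submodule.span_le.2 (by rintro _ ⟨m, rfl⟩; exact ⟨_, rfl⟩)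
    obtain ⟨g, rfl⟩ := hle hxB
    have hg : g = 0 := top_coeff_zero j q hq hqj g fun m hm =>
      coeff_span_monomials (fun m => m j < 2) _ (fun i => i.2.2) _ hxA m (by omega)
    rw [hg, map_zero]
  · refine le_antisymm (Submodule.span_le.2 ?_) ?_
    · rintro _ ⟨m | m, rfl⟩
      · exact (mem_homogeneousSubmodule n _).2 (isHomogeneous_monomial 1 m.2.1)
      · refine (mem_homogeneousSubmodule n _).2 ?_
        have := hq.mul (isHomogeneous_monomial (1 : R) (d := m.1) rfl)
        rwa [add_comm, m.2] at this
    · intro p hp
      rw [mem_homogeneousSubmodule] at hp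
      suffices ∀ d, ∀ m : Fin 3 →₀ ℕ, m.degree = n → m j = d →
          monomial m (1 : R) ∈ Submodule.span R (Set.range (Sum.elim A B)) by
        rw [as_sum p]
        refine Submodule.sum_mem _ fun m hm => ?_
        have hdeg : m.degree = n := by
          by_contra h; exact mem_support_iff.1 hm (hp.coeff_eq_zero h)
        rw [show monomial m (coeff m p) = coeff m p • monomial m (1 : R) by rw [smul_monomial]; simp]
        exact Submodule.smul_mem _ _ (this _ m hdeg rfl)
      intro d
      induction d using Nat.strong_induction_on with
      | _ d ih =>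
        intro m hdeg hmj
        by_cases hlt : m j < 2
        · exact Submodule.subset_span ⟨Sum.inl ⟨m, hdeg, hlt⟩, rfl⟩
        obtain ⟨m', rfl⟩ : ∃ m', m = Finsupp.single j 2 + m' := by
          refine ⟨m - Finsupp.single j 2, (add_tsub_cancel_of_le ?_).symm⟩
          rw [Finsupp.single_le_iff]; omega
        have hm' : m'.degree + 2 = n := by
          rw [← hdeg, map_add, Finsupp.degree_single, add_comm]
        obtain ⟨u, hu⟩ := hqj.exists_left_inv
        have hexp : q * monomial m' (1 : R) =
            ∑ a ∈ q.support, q.coeff a • monomial (a + m') (1 : R) := by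
          conv_lhs => rw [as_sum q, Finset.sum_mul]
          exact Finset.sum_congr rfl fun a _ => by rw [monomial_mul, smul_monomial]; simp
        have hmem : q * monomial m' (1 : R) ∈ Submodule.span R (Set.range (Sum.elim A B)) :=
          Submodule.subset_span ⟨Sum.inr ⟨m', hm'⟩, rfl⟩
        have hrest : ∀ a ∈ q.support, a ≠ Finsupp.single j 2 →
            q.coeff a • monomial (a + m') (1 : R) ∈ Submodule.span R (Set.range (Sum.elim A B)) := by
          intro a ha hne
          have hda : a.degree = 2 := by
            by_contra h; exact mem_support_iff.1 ha (hq.coeff_eq_zero h)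
          refine Submodule.smul_mem _ _ (ih ((a + m') j) ?_ _ (by rw [map_add, hda, add_comm, hm']) rfl)
          have : a j < 2 := by
            by_contra hge
            refine hne ?_
            rw [Finsupp.degree_eq_sum, Fin.sum_univ_three] at hda
            ext i
            fin_cases j <;> fin_cases i <;> simp at hge ⊢ <;> omega
          simp at hmj ⊢
          omega
        rcases Classical.em (Nontrivial R) with hR | hR
        swap
        · rw [not_nontrivial_iff_subsingleton] at hR
          have : monomial (Finsupp.single j 2 + m') (1 : R) = 0 := Subsingleton.elim _ _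
          rw [this]; exact Submodule.zero_mem _
        have hsupp : Finsupp.single j 2 ∈ q.support := mem_support_iff.2 hqj.ne_zero
        rw [hexp, ← Finset.add_sum_erase _ _ hsupp] at hmem
        have h1 := Submodule.sub_mem _ hmem (Submodule.sum_mem _ fun a ha =>
          hrest a (Finset.mem_of_mem_erase ha) (Finset.ne_of_mem_erase ha))
        rw [add_sub_cancel_right] at h1
        have h2 := Submodule.smul_mem _ u h1
        rwa [smul_smul, hu, one_smul] at h2

end Groth.Agent.S18994
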