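import Groth.Statements.S18995
import Groth.Agent.H26ProjBd.Compl
import Groth.Agent.H26Gr.QuotBC
import Mathlib.CategoryTheory.Limits.Preserves.Shapes.Kernels

set_option autoImplicit false
universe u
open CategoryTheory AlgebraicGeometry
open ProjBd

namespace Groth.Agent.S18995

set_option linter.style.haveILetI false
set_option backward.isDefEq.respectTransparency false

/-- Let X be a scheme and 0 → A → E → B → 0 a short exact sequence of finite locally free O_X-modules.
Let (π : P → X, O(1), q) be the projective bundle of rank-one quotients of E and (π_B : P_B → X,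
O_B(1), q_B) that of B, each given through its universal property, and let c : P_B → P be the
morphism over X together with an isomorphism c^*O(1) ≅ O_B(1) identifying c^*q with π_B^*E → π_B^*B
→ O_B(1); thus c is the closed sub-bundle P(B) ⊂ P(E). Then for every open subset W of P that does
not meet the image of c, the restriction to W of the composite π^*A → π^*E → O(1) is an epimorphism
of O_W-modules. Consequently W carries an invertible quotient of the pull-back of A and hence a
morphism to P(A) over X, the projection away from the sub-bundle. (In the convention where a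
projective bundle parametrises lines rather than rank-one quotients, this is the statement that for
an exact sequence 0 → F → E → G → 0 of locally free sheaves the tautological line sub-bundle of E
restricted to the complement of P(F) in P(E) maps isomorphically onto a line sub-bundle of the
pull-back of G, giving the canonical morphism from that complement to P(G); A, E, B here are the
duals of G, E, F there. The published statement takes X of finite type over a field; the row is
stated for an arbitrary scheme X, which the argument allows.) -/
theorem result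
    (X P PB : Scheme.{u}) (S : ShortComplex X.Modules) (hS : S.ShortExact)
    (hA : FlatMod.IsFinLocFree S.X₁) (hE : FlatMod.IsFinLocFree S.X₂) (hB : FlatMod.IsFinLocFree S.X₃)
    (π : P ⟶ X) (O1 : P.Modules) (q : (Scheme.Modules.pullback π).obj S.X₂ ⟶ O1)
    (hP : KRR.IsProjBundle π S.X₂ O1 q)
    (πB : PB ⟶ X) (O1B : PB.Modules) (qB : (Scheme.Modules.pullback πB).obj S.X₃ ⟶ O1B)
    (hPB : KRR.IsProjBundle πB S.X₃ O1B qB)
    (c : PB ⟶ P) (hc : c ≫ π = πB) (ec : (Scheme.Modules.pullback c).obj O1 ≅ O1B)
    (hcq : (Scheme.Modules.pullbackCongr hc).inv.app S.X₂ ≫ (Scheme.Modules.pullbackComp c π).inv.app S.X₂ ≫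
      (Scheme.Modules.pullback c).map q ≫ ec.hom = (Scheme.Modules.pullback πB).map S.g ≫ qB)
    (W : P.Opens) (hW : Disjoint (W : Set P) (Set.range c.base)) :
    Epi ((Scheme.Modules.pullback W.ι).map ((Scheme.Modules.pullback π).map S.f ≫ q)) := by
  haveI : (Scheme.Modules.pullback W.ι).IsLeftAdjoint := inferInstance
  refine Groth.Agent.H26ProjBd.epi_of_residue (Groth.Agent.H26Gr.isFinLocFreeOfRank_pullback W.ι hP.invertible) _ fun w hw => ?_
  let t : Spec (W.toScheme.residueField w) ⟶ P := W.toScheme.fromSpecResidueField w ≫ W.ι
  let g : Spec (W.toScheme.residueField w) ⟶ X := t ≫ π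
  let L := (Scheme.Modules.pullback t).obj O1
  haveI := hP.epi
  haveI := hS.epi_g
  let s : (Scheme.Modules.pullback g).obj S.X₂ ⟶ L :=
    (Scheme.Modules.pullbackComp t π).inv.app S.X₂ ≫ (Scheme.Modules.pullback t).map q
  have hLr : FlatMod.IsFinLocFreeOfRank 1 L := Groth.Agent.H26Gr.isFinLocFreeOfRank_pullback t hP.invertible
  have h0 : (Scheme.Modules.pullback g).map S.f ≫ s = 0 := by
    have hzero : (Scheme.Modules.pullback t).map ((Scheme.Modules.pullback π).map S.f ≫ q) = 0 := by
      rw [← cancel_epi ((Scheme.Modules.pullbackComp (W.toScheme.fromSpecResidueField w) W.ι).hom.app _),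
        Limits.comp_zero, ← (Scheme.Modules.pullbackComp (W.toScheme.fromSpecResidueField w) W.ι).hom.naturality]
      rw [Functor.comp_map, hw, Limits.zero_comp]
    show _ ≫ _ ≫ _ = 0
    rw [(Scheme.Modules.pullbackComp t π).inv.naturality_assoc, Functor.comp_map, ← Functor.map_comp, hzero,
      Limits.comp_zero]
  let hc0 := Limits.CokernelCofork.mapIsColimit _ hS.exact.gIsCokernel (Scheme.Modules.pullback g)
  obtain ⟨s', hs'⟩ := Limits.CokernelCofork.IsColimit.desc' hc0 s h0
  change (Scheme.Modules.pullback g).map S.g ≫ s' = s at hs'
  haveI : Epi s := inferInstance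
  haveI : Epi s' := epi_of_epi_fac hs'
  obtain ⟨h, ⟨hg, e, he⟩, -⟩ := hPB.univ _ g L hLr s' inferInstance
  obtain ⟨hg', e', he'⟩ := Groth.Agent.H26ProjBd.classify_comp S.g c hc ec hcq h hg e he
  have heq : h ≫ c = t := (hP.univ _ g L hLr s inferInstance).unique ⟨hg', e', he'.trans hs'⟩
    ⟨rfl, Iso.refl _, by simp [Scheme.Modules.pullbackCongr, s, L, g]⟩
  let z : Spec (W.toScheme.residueField w) := default
  have hmem : t z ∈ (W : Set P) → t z ∈ Set.range c.base → False := fun h₁ h₂ => Set.disjoint_left.1 hW h₁ h₂
  refine hmem ?_ ⟨h z, ?_⟩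
  · show W.ι (W.toScheme.fromSpecResidueField w z) ∈ W
    exact (W.toScheme.fromSpecResidueField w z).2
  · rw [← heq]; rfl

end Groth.Agent.S18995
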