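import Groth.Statements.S3623
import Groth.Agent.H25Gor.Scheme

set_option autoImplicit false
universe u
open CategoryTheory CategoryTheory.Limits AlgebraicGeometry
attribute [local instance] HasDerivedCategory.standard
open Dual3

namespace Groth.Agent.S3623

/-- Let f : Y → X be a local complete intersection morphism (affine-locally given by local complete
intersection ring maps) with X a Gorenstein scheme. Then Y is a Gorenstein scheme. -/
theorem result (Y X : Scheme.{u}) (f : Y ⟶ X) (hf : Dual3.IsLCIMor f) (hX : Dual3.IsGorenstein X) : Dual3.IsGorenstein Y := by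
  haveI := hX.1
  have hk : ∀ y : Y, ∃ U : Y.affineOpens, y ∈ U.1 ∧ LocCoh.IsGorensteinRing Γ(Y, U.1) := fun y => by
    obtain ⟨U, V, e, hy, hl⟩ := hf y
    letI := (f.appLE V.1 U.1 e).hom.toAlgebra
    haveI := Groth.Agent.H25Gor.isGorensteinRing_sections V.2 fun x _ => hX.2 x
    exact ⟨U, hy, Groth.Agent.H02CA.GorFlat.isGorensteinRing_lci hl⟩
  choose U hyU hU using hk
  haveI : IsLocallyNoetherian Y := by
    refine (isLocallyNoetherian_iff_of_iSup_eq_top (S := U) ?_).mpr fun y => have := hU y; inferInstance
    exact eq_top_iff.mpr fun y _ => TopologicalSpace.Opens.mem_iSup.mpr ⟨y, hyU y⟩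
  exact ⟨inferInstance, fun y => haveI := hU y;
    Groth.Agent.H25Gor.gor_stalk_of_sections (U y).2 y (hyU y)⟩

end Groth.Agent.S3623
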