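import Groth.Statements.S1900
import Groth.Agent.H3Cyc.P1Cyc
import Groth.Agent.H3Cyc.BCPush
import Groth.Agent.H3Cyc.RatFam
-- import your own Groth.Agent.* helpers here

set_option autoImplicit false
universe u
open CategoryTheory AlgebraicGeometry
open CategoryTheory.Limits
open Cyc
open Groth.Agent
open Groth.Agent.H3Cyc

namespace Groth.Agent.S1900

/-- Let W → P^1_X be a closed immersion with W integral of δ-dimension k + 1 (for the dimension function
on P^1_X induced from δ on X), whose generic point lies neither over the zero section nor over the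
section at infinity. Let W_0, W_∞ → X be the pullbacks of W along the two sections X → P^1_X (closed
subschemes of X). Then [W_0]_k ∼_rat [W_∞]_k on X. A pair (X, δ) with Cyc.IsSetup plays the role of
a scheme locally of finite type over a fixed base with a dimension function (X locally Noetherian
with universally catenary local rings, δ a dimension function), and Cyc.DeltaCompat records that the
dimension function upstairs is the induced one. -/
theorem result (X : Scheme.{u}) (δ : X → ℤ) (hX : Cyc.IsSetup X δ) (δP : ↥(CohB1.ProjSpaceOver 1 X) → ℤ) (hP : Cyc.DeltaCompat (CohB1.ProjSpaceOver.toBase 1 X) δP δ) (k : ℤ) (W : Scheme.{u}) [IsIntegral W] (ι : W ⟶ CohB1.ProjSpaceOver 1 X) [IsClosedImmersion ι] (hW : δP (ι (genericPoint W)) = k + 1) (h0 : ι (genericPoint W) ∉ Set.range ⇑(P1.sect X 0)) (h1 : ι (genericPoint W) ∉ Set.range ⇑(P1.sect X 1)) (α β : AlgebraicCycle X ℤ) (hα : ⇑α = Cyc.subschemeFun δ k (pullback.snd ι (P1.sect X 0))) (hβ : ⇑β = Cyc.subschemeFun δ k (pullback.snd ι (P1.sect X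 1))) : Cyc.RatEquiv δ k α β := by
  classical
  haveI := hX.1
  have hPs := isSetup_of_locallyOfFiniteType (CohB1.ProjSpaceOver.toBase 1 X) hX hP
  have hWs := Reduction.isSetup_closedImmersion ι hPs
  haveI := hWs.1
  let π := ι ≫ CohB1.ProjSpaceOver.toBase 1 X
  haveI : IsProper π := inferInstanceAs (IsProper (_ ≫ _))
  have hπ : Cyc.DeltaCompat π (fun z => δP (ι z)) δ :=
    BCPush.deltaCompat_comp ι (CohB1.ProjSpaceOver.toBase 1 X) (Reduction.deltaCompat_immersion ι δP) hP
  have h : ∀ i, ι (genericPoint W) ∉ Set.range (P1.sect X i) := fun i => by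
    fin_cases i
    · exact h0
    · exact h1
  have hf := P1C.residue_coordFun_ne_zero ι h
  obtain ⟨c, hc, -⟩ := RatFam.exists_cycle (X := W) hWs.2.2 (δ := fun z => δP (ι z)) (k := k) (S := Set.univ)
    (G := Cyc.divFun (fun z => δP (ι z)) (genericPoint W) (W.residue _ (P1C.coordFun ι h)))
    ⟨PUnit, fun _ => genericPoint W, fun _ => W.residue _ (P1C.coordFun ι h), fun _ => ⟨hW, trivial⟩, fun _ => hf,
      fun _ => ⟨Set.univ, isOpen_univ, trivial, Set.toFinite _⟩, fun x => by rw [finsum_unique]⟩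
  have hc0 : Cyc.RatEquiv (fun z => δP (ι z)) k c 0 := by
    rw [Cyc.RatEquiv, sub_zero]
    exact ⟨PUnit, fun _ => genericPoint W, fun _ => W.residue _ (P1C.coordFun ι h), fun _ => hW, fun _ => hf,
      fun _ => ⟨Set.univ, isOpen_univ, trivial, Set.toFinite _⟩, fun x => by rw [finsum_unique, hc]⟩
  have hmap := PushRat.ratEquiv_map π hWs hX hπ k c 0 hc0
  obtain ⟨J, ξ, g, hk', hg, hlf, hsum⟩ := hmap
  refine ⟨J, ξ, g, hk', hg, hlf, fun x => ?_⟩
  rw [← hsum x]
  show α x - β x = (∑ᶠ z ∈ π ⁻¹' {x}, c z * _) - (∑ᶠ z ∈ π ⁻¹' {x}, (0 : AlgebraicCycle W ℤ) z * _)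
  rw [hα, hβ, P1C.fib_sub_eq_pushDiv ι hX hP k hW h x, hc]
  simp only [Function.locallyFinsuppWithin.coe_zero, Pi.zero_apply, zero_mul, finsum_mem_zero, sub_zero]
  rfl

end Groth.Agent.S1900
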