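import Groth.Statements.S19004
import Mathlib.LinearAlgebra.Vandermonde
import Mathlib.Algebra.MvPolynomial.Basic

set_option autoImplicit false
open GIT

namespace Groth.Agent.S19004

/-- For the group PGL(n) acting on the space of n × n matrices the T-quotient is (P^{n−1})^n with Chow
ring ℚ[t_1,…,t_n]/(t_1^n,…,t_n^n), the class c_top(g/t) is the product of all roots t_i − t_j (i ≠
j), and the computation in the proof shows that this product equals n!·t_1^{n−1}⋯t_n^{n−1} in that
ring. Stated here as the equivalent coefficient identity in ℤ[t_1,…,t_n]: the coefficient of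
t_1^{n−1}⋯t_n^{n−1} in the product over ordered pairs i ≠ j of (t_i − t_j) is n!. -/
theorem result (n : ℕ) :
    MvPolynomial.coeff (Finsupp.equivFunOnFinite.symm (fun _ : Fin n => n - 1))
      (∏ i : Fin n, ∏ j ∈ Finset.univ.erase i, (MvPolynomial.X i - MvPolynomial.X j : MvPolynomial (Fin n) ℤ)) = (n.factorial : ℤ) := by
  classical
  let t : Fin n → MvPolynomial (Fin n) ℤ := fun i => MvPolynomial.X i
  have h1 : (∏ i : Fin n, ∏ j ∈ Finset.univ.erase i, (t i - t j)) =
      (Matrix.projVandermonde t 1).det * (Matrix.projVandermonde 1 t).det := by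
    rw [Matrix.det_projVandermonde, Matrix.det_projVandermonde]
    simp only [Pi.one_apply, mul_one, one_mul]
    have hsplit : ∀ i : Fin n, ∏ j ∈ Finset.univ.erase i, (t i - t j) =
        (∏ j ∈ Finset.Ioi i, (t i - t j)) * ∏ j ∈ Finset.Iio i, (t i - t j) := by
      intro i
      rw [← Finset.prod_union (Finset.disjoint_left.mpr fun j hj hj' => by
        simp only [Finset.mem_Ioi, Finset.mem_Iio] at hj hj'; exact lt_asymm hj hj')]
      refine Finset.prod_congr ?_ fun _ _ => rfl
      ext j
      simp [lt_or_lt_iff_ne, eq_comm]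
    simp only [hsplit, Finset.prod_mul_distrib]
    rw [mul_comm]
    congr 1
    exact Finset.prod_comm' (by simp)
  rw [h1, Matrix.det_apply', Matrix.det_apply', Finset.sum_mul_sum]
  simp only [MvPolynomial.coeff_sum]
  have hterm : ∀ σ τ : Equiv.Perm (Fin n),
      MvPolynomial.coeff (Finsupp.equivFunOnFinite.symm (fun _ : Fin n => n - 1))
        ((((Equiv.Perm.sign σ : ℤ) : MvPolynomial (Fin n) ℤ) * ∏ i, Matrix.projVandermonde t 1 (σ i) i) *
          (((Equiv.Perm.sign τ : ℤ) : MvPolynomial (Fin n) ℤ) * ∏ i, Matrix.projVandermonde 1 t (τ i) i)) =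
      if σ = τ then 1 else 0 := by
    intro σ τ
    let e : Fin n →₀ ℕ := Finsupp.equivFunOnFinite.symm fun m => (σ.symm m : ℕ) + ((τ.symm m).rev : ℕ)
    have hp : (∏ i, Matrix.projVandermonde t 1 (σ i) i) * ∏ i, Matrix.projVandermonde 1 t (τ i) i =
        MvPolynomial.monomial e 1 := by
      simp only [Matrix.projVandermonde_apply, Pi.one_apply, one_pow, mul_one, one_mul]
      rw [← Equiv.prod_comp σ.symm, ← Equiv.prod_comp τ.symm (fun i => t (τ i) ^ (i.rev : ℕ)),
        ← Finset.prod_mul_distrib, MvPolynomial.monomial_eq, map_one, one_mul,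
        Finsupp.prod_fintype _ _ (fun i => pow_zero _)]
      refine Finset.prod_congr rfl fun m _ => ?_
      simp [t, e, pow_add]
    rw [mul_mul_mul_comm, hp, ← map_intCast (MvPolynomial.C (R := ℤ) (σ := Fin n)), ← map_intCast (MvPolynomial.C (R := ℤ) (σ := Fin n)),
      ← map_mul, MvPolynomial.coeff_C_mul, MvPolynomial.coeff_monomial]
    by_cases hst : σ = τ
    · subst hst
      have he : e = Finsupp.equivFunOnFinite.symm fun _ : Fin n => n - 1 := by
        ext m
        simp only [e, Finsupp.coe_equivFunOnFinite_symm, Fin.val_rev]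
        have := (σ.symm m).2
        omega
      rw [if_pos he, if_pos rfl, mul_one]
      simp
    · rw [if_neg hst, if_neg, mul_zero]
      intro he
      refine hst (Equiv.symm_bijective.injective (Equiv.ext fun m => Fin.ext ?_))
      have := DFunLike.congr_fun he m
      simp only [e, Finsupp.coe_equivFunOnFinite_symm, Fin.val_rev] at this
      have := (σ.symm m).2
      have := (τ.symm m).2
      omega
  simp [hterm, Fintype.card_perm]

end Groth.Agent.S19004
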