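import Groth.Statements.S19005


set_option autoImplicit false
open scoped TensorProduct
open K2Cent

namespace Groth.Agent.S19005


/-- For abelian groups X and M and ε in M with 2ε = 0 (in the source X is the character group of a split
torus and ε is the class of −1 among the units), the map x ↦ (x ⊗ x, −(x ⊗ ε)) into (X ⊗ X) × (X ⊗
M) is quadratic over ℤ, i.e. it underlies an integer quadratic map with exactly these values. -/
theorem result (X M : Type*) [AddCommGroup X]
    [AddCommGroup M] (ε : M) (hε : 2 • ε = 0) :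
    ∃ R : QuadraticMap ℤ X (TensorProduct ℤ X X × TensorProduct ℤ X M),
      ∀ x : X, R x = (x ⊗ₜ[ℤ] x, -(x ⊗ₜ[ℤ] ε)) := by
  classical
  let e : X →ₗ[ℤ] TensorProduct ℤ X M :=
    { toFun := fun x => -(x ⊗ₜ[ℤ] ε)
      map_add' := fun a b => by rw [TensorProduct.add_tmul, neg_add]
      map_smul' := fun c a => by simp [TensorProduct.smul_tmul'] }
  have he2 : ∀ x, e x + e x = 0 := fun x => by
    change -(x ⊗ₜ[ℤ] ε) + -(x ⊗ₜ[ℤ] ε) = 0
    rw [← neg_add, ← TensorProduct.tmul_add, ← two_nsmul, hε, TensorProduct.tmul_zero, neg_zero]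
  have hc : ∀ (a : ℤ) (x : X), e ((a * a) • x) = a • e x := fun a x => by
    rw [map_zsmul]
    obtain ⟨k, hk⟩ := even_iff_two_dvd.mp (Int.even_mul_pred_self a)
    have hh : a * a = 2 * k + a := by linarith [show a * (a - 1) = a * a - a by ring]
    rw [hh, add_smul, mul_smul, two_smul, ← smul_add, he2, smul_zero, zero_add]
  let B : LinearMap.BilinMap ℤ X (TensorProduct ℤ X X × TensorProduct ℤ X M) :=
    ((TensorProduct.mk ℤ X X) + (TensorProduct.mk ℤ X X).flip).compr₂
      (LinearMap.inl ℤ (TensorProduct ℤ X X) (TensorProduct ℤ X M))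
  refine ⟨{
    toFun := fun x => (x ⊗ₜ[ℤ] x, e x)
    toFun_smul := fun a x => ?_
    exists_companion' := ⟨B, fun x y => ?_⟩ }, fun x => rfl⟩
  · simp only [Prod.smul_mk, Prod.mk.injEq]
    refine ⟨by simp [TensorProduct.smul_tmul', TensorProduct.tmul_smul, mul_smul], ?_⟩
    have h1 := hc a x
    rw [map_zsmul] at h1 ⊢
    rw [h1]
  · have hB : B x y = (x ⊗ₜ[ℤ] y + y ⊗ₜ[ℤ] x, 0) := rfl
    rw [hB]
    refine Prod.ext ?_ ?_
    · simp [TensorProduct.add_tmul, TensorProduct.tmul_add]
      abel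
    · simp

end Groth.Agent.S19005
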