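import Groth.Statements.S19006
import Groth.Agent.H21Root.Basic

set_option autoImplicit false
universe u v w x
open RootD

namespace Groth.Agent.S19006

open Groth.Agent.H21Root RootPairing

/-- For a root pairing over an integral domain of characteristic zero, a quadratic form Q on the
coweight module N with polar form B, and a root α with coroot α^∨, the form Q is invariant under the
reflection attached to α acting on N if and only if B(y, α^∨) = ⟨α, y⟩ Q(α^∨) for all y in N. (The
source states this for integer-valued forms on the cocharacter lattice of a split reductive group;
here the form takes values in the base ring of the pairing.) -/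
theorem result {ι : Type u} {R : Type v} {M : Type w} {N : Type x} [CommRing R] [IsDomain R] [CharZero R]
    [AddCommGroup M] [Module R M] [AddCommGroup N] [Module R N] (P : RootPairing ι R M N)
    (Q : QuadraticMap R N R) (j : ι) :
    (∀ y : N, Q (P.coreflection j y) = Q y) ↔
      ∀ y : N, QuadraticMap.polar Q y (P.coroot j) = P.root' j y * Q (P.coroot j) := by
  have key : ∀ y : N, Q (P.coreflection j y) = Q y + (P.root' j y) * (P.root' j y * Q (P.coroot j) - QuadraticMap.polar Q y (P.coroot j)) := by
    intro y
    have h1 := QuadraticMap.map_add Q y (-(P.root' j y • P.coroot j))
    rw [← sub_eq_add_neg, QuadraticMap.map_neg, QuadraticMap.map_smul, ← neg_smul,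
      QuadraticMap.polar_smul_right, smul_eq_mul, smul_eq_mul] at h1
    rw [coreflection_apply, h1]; ring
  constructor
  · intro h y
    have hgen : ∀ z : N, P.root' j z ≠ 0 → QuadraticMap.polar Q z (P.coroot j) = P.root' j z * Q (P.coroot j) := by
      intro z hz
      have := key z
      rw [h, left_eq_add, mul_eq_zero] at this
      exact (sub_eq_zero.mp (this.resolve_left hz)).symm
    by_cases hy : P.root' j y = 0
    · have h2 := hgen (y + P.coroot j) (by rw [map_add, hy, zero_add, root'_coroot_eq_pairing, pairing_same]; exact two_ne_zero)
      rw [QuadraticMap.polar_add_left, map_add, hy, zero_add, root'_coroot_eq_pairing, pairing_same,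
        QuadraticMap.polar_self, two_smul, ← two_mul, add_eq_right] at h2
      rw [h2, hy, zero_mul]
    · exact hgen y hy
  · intro h y
    rw [key, h, sub_self, mul_zero, add_zero]

end Groth.Agent.S19006
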