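import Groth.Statements.S19007
import Groth.Agent.H21Root.Quad

set_option autoImplicit false
universe u v w x
open RootD

namespace Groth.Agent.S19007

open Groth.Agent.H21Root RootPairing

/-- Let P be a finite reduced crystallographic root pairing over an integral domain of characteristic
zero, b a base of P (a system of simple roots) and Q a quadratic form on the coweight module with
polar form B. Then Q is invariant under all root reflections (equivalently under the Weyl group) on
the span of the coroots if and only if for all pairs of distinct simple roots α_i ≠ α_j one has
B(α_i^∨, α_j^∨) = ⟨α_j, α_i^∨⟩ Q(α_j^∨). (In the source the form is integer-valued on the lattice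
spanned by the coroots and the condition says that the bilinear form lies in the kernel of the last
map of a three-term complex built from the Bruhat cells of codimension at most two; here the form
takes values in the base ring.) -/
theorem result {ι : Type u} {R : Type v} {M : Type w} {N : Type x} [CommRing R] [IsDomain R] [CharZero R]
    [AddCommGroup M] [Module R M] [AddCommGroup N] [Module R N] (P : RootPairing ι R M N)
    [Finite ι] [P.IsCrystallographic] [P.IsReduced] (b : P.Base) (Q : QuadraticMap R N R) :
    (∀ i : ι, ∀ y ∈ Submodule.span R (Set.range P.coroot), Q (P.coreflection i y) = Q y) ↔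
      ∀ i ∈ b.support, ∀ j ∈ b.support, i ≠ j →
        QuadraticMap.polar Q (P.coroot i) (P.coroot j) = P.pairing j i * Q (P.coroot j) := by
  constructor
  · intro h i _ j _ _
    have hi : P.coroot i ∈ Submodule.span R (Set.range P.coroot) := Submodule.subset_span ⟨i, rfl⟩
    have hj : P.coroot j ∈ Submodule.span R (Set.range P.coroot) := Submodule.subset_span ⟨j, rfl⟩
    have hQ := h j (P.coroot i + P.coroot j) (add_mem hi hj)
    rw [quad_coreflection] at hQ
    have hQi := h j _ hi
    rw [quad_coreflection] at hQi
    have e1 : P.root' j (P.coroot i + P.coroot j) = P.pairing j i + 2 := by simp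
    have e2 : QuadraticMap.polar Q (P.coroot i + P.coroot j) (P.coroot j) =
        QuadraticMap.polar Q (P.coroot i) (P.coroot j) + 2 * Q (P.coroot j) := by
      rw [Q.polar_add_left, Q.polar_self, two_smul, two_mul]
    rw [e1, e2] at hQ
    rw [show P.root' j (P.coroot i) = P.pairing j i from rfl] at hQi
    refine sub_eq_zero.mp (mul_left_cancel₀ (two_ne_zero (α := R)) ?_)
    linear_combination -hQ + hQi
  · intro h i
    refine quad_invariant_of_simple b (fun a ha y hy => ?_) i
    rw [quad_coreflection]
    have hy' : y ∈ Submodule.span R (P.coroot '' b.support) := by rwa [b.span_coroot_support]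
    rw [polar_corootSpan_eq (s := P.coroot '' b.support) ?_ hy', sub_self, mul_zero, add_zero]
    rintro _ ⟨c, hc, rfl⟩
    rcases eq_or_ne c a with rfl | hne
    · rw [Q.polar_self, two_smul, ← two_mul]; simp
    · simpa using h c hc a ha hne

end Groth.Agent.S19007
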