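import Groth.Statements.S19008
import Groth.Agent.H21Root.Diagram
import Groth.Agent.H21Root.Simple

set_option autoImplicit false
universe u v w x
open RootD

namespace Groth.Agent.S19008

open Groth.Agent.H21Root RootPairing

/-- Let P be a finite reduced crystallographic root pairing over an integral domain of characteristic
zero and b a base (simple roots α_i, i in the support of b), with Cartan integers a_ij = ⟨α_i,
α_j^∨⟩. An integer-valued bilinear form C on the lattice with basis the simple coroots is an integer
matrix C_ij = C(α_i^∨, α_j^∨), and the component of the last map of the complex at the pair (i, j),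
i ≠ j, is C ↦ C(α_i^∨, α_j^∨) + C(α_j^∨, s_j(α_i^∨)) = C_ij + C_ji − a_ji C_jj; the pairs (i, j) and
(j, i) index the same component exactly when α_i and α_j are orthogonal. This map is surjective: for
every family of integers d_ij (i ≠ j in the support) with d_ij = d_ji whenever a_ij = 0 there is an
integer matrix C with C_ij + C_ji − a_ji C_jj = d_ij for all i ≠ j in the support. -/
theorem result {ι : Type u} {R : Type v} {M : Type w} {N : Type x} [CommRing R] [IsDomain R] [CharZero R]
    [AddCommGroup M] [Module R M] [AddCommGroup N] [Module R N] (P : RootPairing ι R M N)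
    [Finite ι] [P.IsCrystallographic] [P.IsReduced] (b : P.Base) (d : ι → ι → ℤ)
    (hd : ∀ i ∈ b.support, ∀ j ∈ b.support, i ≠ j → P.pairingIn ℤ i j = 0 → d i j = d j i) :
    ∃ C : ι → ι → ℤ, ∀ i ∈ b.support, ∀ j ∈ b.support, i ≠ j →
      C i j + C j i - P.pairingIn ℤ j i * C j j = d i j := by
  classical
  have := Fintype.ofFinite ι
  have hΔ := simpleZ_base b
  have hobt : ∀ u ∈ b.support, ∀ v ∈ b.support, u ≠ v → P.pairingIn ℤ u v ≤ 0 := fun u hu v hv huv => by
    refine simples_pairingIn_nonpos hΔ.isPosSys ?_ ?_ huv <;> rw [← hΔ.eq_simples] <;> assumption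
  have hz : ∀ u v, P.pairingIn ℤ u v = 0 → P.pairingIn ℤ v u = 0 := fun u v h => by
    have := lg_mul_pairingIn P u v
    rw [h, mul_zero] at this
    exact (mul_eq_zero.mp this).resolve_left (lg_pos P u).ne'
  have key : ∀ s : Finset ι, s ⊆ b.support → ∃ x : ι → ℤ, ∀ i ∈ s, ∀ j ∈ s, i ≠ j →
      P.pairingIn ℤ i j * x i - P.pairingIn ℤ j i * x j = d i j - d j i := by
    intro s
    induction s using Finset.strongInduction with
    | _ s ih =>
      intro hs
      rcases s.eq_empty_or_nonempty with rfl | hne
      · exact ⟨0, by simp⟩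
      obtain ⟨v, hv, hend⟩ := exists_end hne (hΔ.li.mono (by exact_mod_cast hs))
        (fun u hu w hw => hobt u (hs hu) w (hs hw))
      obtain ⟨x, hx⟩ := ih (s.erase v) (Finset.erase_ssubset hv) ((Finset.erase_subset v s).trans hs)
      obtain ⟨t, ht⟩ : ∃ t : ℤ, ∀ u ∈ s, u ≠ v →
          P.pairingIn ℤ v u * t - P.pairingIn ℤ u v * x u = d v u - d u v := by
        by_cases h : ∃ u ∈ s, u ≠ v ∧ P.pairingIn ℤ v u ≠ 0
        · obtain ⟨u, hu, huv, hp⟩ := h
          obtain ⟨h1, huniq⟩ := hend u hu huv hp
          refine ⟨-(d v u - d u v) - P.pairingIn ℤ u v * x u, fun w hw hwv => ?_⟩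
          by_cases hwp : P.pairingIn ℤ v w = 0
          · rw [hwp, hz _ _ hwp, hd v (hs hv) w (hs hw) (Ne.symm hwv) hwp]; ring
          · obtain rfl := huniq w hw hwv hwp
            rw [h1]; ring
        · refine ⟨0, fun w hw hwv => ?_⟩
          have hwp : P.pairingIn ℤ v w = 0 := by
            by_contra hwp; exact h ⟨w, hw, hwv, hwp⟩
          rw [hwp, hz _ _ hwp, hd v (hs hv) w (hs hw) (Ne.symm hwv) hwp]; ring
      refine ⟨Function.update x v t, fun i hi j hj hij => ?_⟩
      rcases eq_or_ne i v with rfl | hiv
      · rw [Function.update_self, Function.update_of_ne (Ne.symm hij)]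
        exact ht j hj (Ne.symm hij)
      rcases eq_or_ne j v with rfl | hjv
      · rw [Function.update_self, Function.update_of_ne hij]
        linear_combination -(ht i hi hij)
      · rw [Function.update_of_ne hiv, Function.update_of_ne hjv]
        exact hx i (Finset.mem_erase.mpr ⟨hiv, hi⟩) j (Finset.mem_erase.mpr ⟨hjv, hj⟩) hij
  obtain ⟨x, hx⟩ := key b.support (Finset.Subset.refl _)
  let e := Fintype.equivFin ι
  refine ⟨fun i j => if i = j then x j else if e i < e j then d i j + P.pairingIn ℤ j i * x j else 0,
    fun i hi j hj hij => ?_⟩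
  simp only [hij, Ne.symm hij, ↓reduceIte]
  rcases lt_or_gt_of_ne (e.injective.ne hij) with h | h
  · simp only [h, not_lt_of_gt h, ↓reduceIte]; ring
  · simp only [h, not_lt_of_gt h, ↓reduceIte]
    linear_combination hx i hi j hj hij

end Groth.Agent.S19008
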