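import Groth.Statements.S19009
import Groth.Agent.H21Root.Quad

set_option autoImplicit false
universe u v w x
open RootD

namespace Groth.Agent.S19009

open Groth.Agent.H21Root RootPairing

/-- Let P be a root pairing over an integral domain R of characteristic zero (roots α acting on the
coweight module N through reflections y ↦ y − ⟨α, y⟩ α^∨), D ⊆ N a submodule containing every coroot
and such that every element of D has a positive integer multiple in the span of the coroots (the
derived part), and Y₀ a complement of D in N. Let Q_d be a quadratic form on N whose restriction to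
D is invariant under all root reflections. Then there is a quadratic form on N, invariant under all
root reflections and agreeing with Q_d on D, if and only if there is an R-bilinear form Φ on N with
Φ(y₀, α^∨) = ⟨α, y₀⟩ Q_d(α^∨) for all y₀ in Y₀ and all roots α. (In the source R = ℤ, N = Y₀ ⊕ Y_der
is the cocharacter lattice of a split reductive group, and the condition is phrased as integrality
on Y₀ × Y_der of the pairing y₀, y ↦ B(q(y₀), y) deduced from the polar form B of Q_d; that pairing
is characterised by the displayed values on coroots, only the values of Φ on Y₀ × D matter, and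
forms take values in R here.) -/
theorem result {ι : Type u} {R : Type v} {M : Type w} {N : Type x} [CommRing R] [IsDomain R] [CharZero R]
    [AddCommGroup M] [Module R M] [AddCommGroup N] [Module R N] (P : RootPairing ι R M N)
    (D Y₀ : Submodule R N) (hD : ∀ i : ι, P.coroot i ∈ D)
    (hDsat : ∀ y ∈ D, ∃ n : ℕ, 0 < n ∧ n • y ∈ Submodule.span R (Set.range P.coroot))
    (hc : IsCompl Y₀ D)
    (Qd : QuadraticMap R N R) (hQd : ∀ i : ι, ∀ y ∈ D, Qd (P.coreflection i y) = Qd y) :
    (∃ Q : QuadraticMap R N R, (∀ (i : ι) (y : N), Q (P.coreflection i y) = Q y) ∧ ∀ y ∈ D, Q y = Qd y) ↔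
      ∃ Φ : N →ₗ[R] N →ₗ[R] R, ∀ y₀ ∈ Y₀, ∀ i : ι,
        Φ y₀ (P.coroot i) = P.root' i y₀ * Qd (P.coroot i) := by
  constructor
  · rintro ⟨Q, hQ, hQD⟩
    refine ⟨Q.polarBilin, fun y₀ _ i => ?_⟩
    rw [QuadraticMap.polarBilin_apply_apply, ← hQD _ (hD i)]
    exact polar_of_invariant (hQ i _) (hQ i _)
  · rintro ⟨Φ, hΦ⟩
    let p0 : N →ₗ[R] N := Y₀.projection D hc
    let pD : N →ₗ[R] N := D.projection Y₀ hc.symm
    have hsum : ∀ y, p0 y + pD y = y := fun y => Submodule.projection_add_projection_eq_self hc y
    have hp0 : ∀ y ∈ D, p0 y = 0 := fun y hy => by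
      change ((Y₀.projectionOnto D hc y : Y₀) : N) = 0
      rw [Submodule.projectionOnto_apply_of_mem_right hc hy, ZeroMemClass.coe_zero]
    have hpD : ∀ y ∈ D, pD y = y := fun y hy => by have := hsum y; rwa [hp0 y hy, zero_add] at this
    have hy0 : ∀ y, p0 y ∈ Y₀ := fun y => Submodule.coe_mem _
    have hyD : ∀ y, pD y ∈ D := fun y => Submodule.coe_mem _
    let Q : QuadraticMap R N R := Qd.comp pD + LinearMap.BilinMap.toQuadraticMap (Φ.compl₁₂ p0 pD)
    have hQ : ∀ y, Q y = Qd (pD y) + Φ (p0 y) (pD y) := fun y => rfl
    refine ⟨Q, fun i y => coreflection_eq_of_polar ?_, fun y hy => by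
      rw [hQ, hp0 y hy, hpD y hy, map_zero, LinearMap.zero_apply, add_zero]⟩
    have h1 : QuadraticMap.polar Qd (pD y) (P.coroot i) = P.root' i (pD y) * Qd (P.coroot i) :=
      polar_of_invariant (hQd i _ (add_mem (hyD y) (hD i))) (hQd i _ (hyD y))
    have h2 := hΦ (p0 y) (hy0 y) i
    have h3 : P.root' i y = P.root' i (p0 y) + P.root' i (pD y) := by rw [← map_add, hsum]
    have e : QuadraticMap.polar Q y (P.coroot i) =
        QuadraticMap.polar Qd (pD y) (P.coroot i) + Φ (p0 y) (P.coroot i) := by
      simp only [QuadraticMap.polar, hQ, map_add, hp0 _ (hD i), hpD _ (hD i), LinearMap.add_apply,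
        map_zero, LinearMap.zero_apply, add_zero]
      ring
    rw [e, h1, h2, h3, hQ, hp0 _ (hD i), hpD _ (hD i), map_zero, LinearMap.zero_apply]
    ring

end Groth.Agent.S19009
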