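import Groth.Statements.S1901
import Groth.Agent.H3Cyc.P1Graph
import Groth.Agent.H3Cyc.Transfer
-- import your own Groth.Agent.* helpers here

set_option autoImplicit false
universe u
open CategoryTheory AlgebraicGeometry
open CategoryTheory.Limits
open Cyc
open Groth.Agent
open Groth.Agent.H3Cyc

namespace Groth.Agent.S1901

/-- If a k-cycle α on X is rationally equivalent to zero, there is a locally finite family of closed
immersions W_i → P^1_X with W_i integral of δ-dimension k + 1 and generic point over neither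
section, such that α = Σ_i ([W_{i,0}]_k − [W_{i,∞}]_k) coefficientwise. A pair (X, δ) with
Cyc.IsSetup plays the role of a scheme locally of finite type over a fixed base with a dimension
function (X locally Noetherian with universally catenary local rings, δ a dimension function), and
Cyc.DeltaCompat records that the dimension function upstairs is the induced one. -/
theorem result (X : Scheme.{u}) (δ : X → ℤ) (hX : Cyc.IsSetup X δ) (δP : ↥(CohB1.ProjSpaceOver 1 X) → ℤ) (hP : Cyc.DeltaCompat (CohB1.ProjSpaceOver.toBase 1 X) δP δ) (k : ℤ) (α : AlgebraicCycle X ℤ) (hα : α ∈ Cyc.Zk X δ k) (h0 : Cyc.RatEquivZero δ k α) : ∃ (I : Type u) (W : I → Scheme.{u}) (ι : (i : I) → (W i ⟶ CohB1.ProjSpaceOver 1 X)) (_ : ∀ i, IsIntegral (W i)) (_ : ∀ i, IsClosedImmersion (ι i)), (∀ i, δP (ι i (genericPoint (W i))) = k + 1 ∧ ι i (genericPoint (W i)) ∉ Set.range ⇑(P1.sect X 0) ∧ ι i (genericPoint (W i)) ∉ Set.range ⇑(P1.sect X 1)) ∧ (∀ p : ↥(CohB1.ProjSpaceOver 1 X), ∃ U : Set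 ↥(CohB1.ProjSpaceOver 1 X), IsOpen U ∧ p ∈ U ∧ {i | (Set.range ⇑(ι i) ∩ U).Nonempty}.Finite) ∧ ∀ x : X, α x = ∑ᶠ i, (Cyc.subschemeFun δ k (pullback.snd (ι i) (P1.sect X 0)) x - Cyc.subschemeFun δ k (pullback.snd (ι i) (P1.sect X 1)) x) := by
  classical
  haveI := hX.1
  obtain ⟨J, ξ, c, hk, hc, hlf, hsum⟩ := h0
  let g : (i : J) → Spec (X.residueField (ξ i)) ⟶ CohB1.ProjSpaceOver 1 X := fun i =>
    P1C.toP1Of (X.fromSpecResidueField (ξ i)) ((Scheme.ΓSpecIso (X.residueField (ξ i))).inv (c i))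
  choose W hWint ι hιc hιη using fun i => Transfer.exists_integral_closed (g i (IsLocalRing.closedPoint _))
  haveI := hWint
  haveI := hιc
  have hd : ∀ i, (δP (ι i (genericPoint (W i))) = k + 1 ∧ ∀ j, ι i (genericPoint (W i)) ∉ Set.range (P1.sect X j)) ∧
      ∀ x, Cyc.subschemeFun δ k (pullback.snd (ι i) (P1.sect X 0)) x - Cyc.subschemeFun δ k (pullback.snd (ι i) (P1.sect X 1)) x =
        Cyc.divFun δ (ξ i) (c i) x := fun i => by
    obtain ⟨hg, hU, hco⟩ := P1C.toP1Of_data (X.fromSpecResidueField (ξ i)) ((Scheme.ΓSpecIso (X.residueField (ξ i))).inv (c i))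
    exact P1C.fib_sub_eq_divFun hX hP (ι i) (hc i) (g i) hg hU hco (hιη i).symm k (hk i)
  refine ⟨J, W, ι, hWint, hιc, fun i => ⟨(hd i).1.1, (hd i).1.2 0, (hd i).1.2 1⟩, fun p => ?_, fun x => ?_⟩
  · obtain ⟨U, hU, hxU, hfin⟩ := hlf (CohB1.ProjSpaceOver.toBase 1 X p)
    refine ⟨CohB1.ProjSpaceOver.toBase 1 X ⁻¹' U, hU.preimage (Scheme.Hom.continuous _), hxU, hfin.subset ?_⟩
    rintro i ⟨q, hq, hqU⟩
    have h1 := specializes_iff_mem_closure.mpr (Transfer.range_subset_closure (ι i) hq)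
    have h2 := h1.map (CohB1.ProjSpaceOver.toBase 1 X).continuous
    rw [hιη i] at h2
    change (g i ≫ CohB1.ProjSpaceOver.toBase 1 X) (IsLocalRing.closedPoint _) ⤳ _ at h2
    rw [(P1C.toP1Of_data (X.fromSpecResidueField (ξ i)) _).1] at h2
    erw [Scheme.fromSpecResidueField_apply] at h2
    exact ⟨_, specializes_iff_mem_closure.mp h2, hqU⟩
  · rw [hsum x]
    exact finsum_congr fun i => ((hd i).2 x).symm

end Groth.Agent.S1901
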