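import Groth.Statements.S19010
import Groth.Agent.H21Root.Quad

set_option autoImplicit false
universe u v w x
open RootD

namespace Groth.Agent.S19010

open Groth.Agent.H21Root RootPairing

/-- Let P be a root pairing over an integral domain R of characteristic zero (roots α acting on the
coweight module N through reflections y ↦ y − ⟨α, y⟩ α^∨), D ⊆ N a submodule containing every coroot
and such that every element of D has a positive integer multiple in the span of the coroots (the
derived part), and Y₀ a complement of D in N. Let Q' be a quadratic form on N invariant under all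
root reflections. Then restriction to Y₀ is a bijection from the set of quadratic forms on N that
are invariant under all root reflections and agree with Q' on D onto the set of all quadratic forms
on Y₀. (In the source R = ℤ and N = Y₀ ⊕ Y_der is the cocharacter lattice of a split reductive
group; forms take values in R here.) -/
theorem result {ι : Type u} {R : Type v} {M : Type w} {N : Type x} [CommRing R] [IsDomain R] [CharZero R]
    [AddCommGroup M] [Module R M] [AddCommGroup N] [Module R N] (P : RootPairing ι R M N)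
    (D Y₀ : Submodule R N) (hD : ∀ i : ι, P.coroot i ∈ D)
    (hDsat : ∀ y ∈ D, ∃ n : ℕ, 0 < n ∧ n • y ∈ Submodule.span R (Set.range P.coroot))
    (hc : IsCompl Y₀ D)
    (Q' : QuadraticMap R N R) (hQ' : ∀ (i : ι) (y : N), Q' (P.coreflection i y) = Q' y) :
    Set.BijOn (fun Q : QuadraticMap R N R => Q.comp Y₀.subtype)
      {Q | (∀ (i : ι) (y : N), Q (P.coreflection i y) = Q y) ∧ ∀ y ∈ D, Q y = Q' y} Set.univ := by
  refine ⟨fun Q _ => Set.mem_univ _, ?_, ?_⟩
  · rintro Q₁ ⟨h₁, h₁'⟩ Q₂ ⟨h₂, h₂'⟩ he
    let Δ := Q₁ - Q₂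
    have hΔ : ∀ y, Δ y = Q₁ y - Q₂ y := fun y => rfl
    have hinv : ∀ i y, Δ (P.coreflection i y) = Δ y := fun i y => by rw [hΔ, hΔ, h₁, h₂]
    have hD0 : ∀ y ∈ D, Δ y = 0 := fun y hy => by rw [hΔ, h₁' y hy, h₂' y hy, sub_self]
    have hY0 : ∀ y ∈ Y₀, Δ y = 0 := fun y hy => by
      have := DFunLike.congr_fun he ⟨y, hy⟩
      simp only [QuadraticMap.comp_apply, Submodule.coe_subtype] at this
      rw [hΔ, this, sub_self]
    have hpol : ∀ y, ∀ d ∈ Submodule.span R (Set.range P.coroot), QuadraticMap.polar Δ y d = 0 := by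
      intro y d hd
      induction hd using Submodule.span_induction with
      | mem v hv =>
        obtain ⟨i, rfl⟩ := hv
        rw [polar_of_invariant (hinv i _) (hinv i _), hD0 _ (hD i), mul_zero]
      | zero => simp
      | add u v _ _ e1 e2 => rw [Δ.polar_add_right, e1, e2, add_zero]
      | smul t u _ e1 => rw [Δ.polar_smul_right, e1, smul_zero]
    ext y
    obtain ⟨y₀, hy₀, d, hd, rfl⟩ := Submodule.mem_sup.mp (hc.sup_eq_top ▸ Submodule.mem_top : y ∈ Y₀ ⊔ D)
    obtain ⟨n, hn, hnd⟩ := hDsat d hd
    have h0 := hpol y₀ _ hnd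
    rw [← Nat.cast_smul_eq_nsmul R, Δ.polar_smul_right, smul_eq_mul, mul_eq_zero] at h0
    have h0' : QuadraticMap.polar Δ y₀ d = 0 := h0.resolve_left (by exact_mod_cast hn.ne')
    rw [QuadraticMap.polar, hD0 d hd, hY0 y₀ hy₀, sub_zero, sub_zero, hΔ] at h0'
    exact sub_eq_zero.mp h0'
  · rintro q -
    let p : N →ₗ[R] Y₀ := Y₀.projectionOnto D hc
    have hp : ∀ i y, p (P.coreflection i y) = p y := fun i y => by
      rw [coreflection_apply, map_sub, map_smul,
        Submodule.projectionOnto_apply_of_mem_right hc (hD i), smul_zero, sub_zero]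
    refine ⟨Q' - (Q'.comp Y₀.subtype).comp p + q.comp p, ⟨fun i y => ?_, fun y hy => ?_⟩, ?_⟩
    · simp [hp, hQ']
    · have h0 : p y = 0 := Submodule.projectionOnto_apply_of_mem_right hc hy
      simp [h0]
    · ext y
      simp [p]

end Groth.Agent.S19010
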