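import Groth.Statements.S19011
import Groth.Agent.H21Root.Construct

set_option autoImplicit false
universe u v w x
open RootD

namespace Groth.Agent.S19011

open Groth.Agent.H21Root RootPairing

/-- For a finite reduced crystallographic root pairing over an integral domain of characteristic zero,
the additive group generated by the coroots admits the presentation with one generator [β] for each
root β and the relations [s_α(β)] = [β] − ⟨α, β^∨⟩ [α] for all roots α, β, where ⟨α, β^∨⟩ is the
Cartan integer. Concretely: the kernel of the ℤ-linear map from the free abelian group on the index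
type of the roots to the coweight module sending the generator of index β to the coroot β^∨ is the
subgroup generated by the elements [s_α(β)] − [β] + ⟨α, β^∨⟩ [α]. (The source states this for the
cocharacter lattice of a split semi-simple simply connected group, which is the group generated by
the coroots.) -/
theorem result {ι : Type u} {R : Type v} {M : Type w} {N : Type x} [CommRing R] [IsDomain R] [CharZero R]
    [AddCommGroup M] [Module R M] [AddCommGroup N] [Module R N] (P : RootPairing ι R M N)
    [Finite ι] [P.IsCrystallographic] [P.IsReduced] :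
    LinearMap.ker (Finsupp.linearCombination ℤ (fun i : ι => (P.coroot i : N))) =
      Submodule.span ℤ (Set.range fun p : ι × ι =>
        Finsupp.single (P.reflectionPerm p.1 p.2) (1 : ℤ) - Finsupp.single p.2 1 +
          P.pairingIn ℤ p.1 p.2 • Finsupp.single p.1 1) := by
  classical
  set K := Submodule.span ℤ (Set.range fun p : ι × ι =>
    Finsupp.single (P.reflectionPerm p.1 p.2) (1 : ℤ) - Finsupp.single p.2 1 +
      P.pairingIn ℤ p.1 p.2 • Finsupp.single p.1 1) with hK
  have hle : K ≤ LinearMap.ker (Finsupp.linearCombination ℤ (fun i : ι => (P.coroot i : N))) := by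
    rw [hK, Submodule.span_le]
    rintro _ ⟨⟨i, j⟩, rfl⟩
    simp only [SetLike.mem_coe, LinearMap.mem_ker, map_add, map_sub, map_zsmul,
      Finsupp.linearCombination_single, one_smul, coroot_reflectionPerm, coreflection_apply_coroot,
      ← cast_pairingIn, Int.cast_smul_eq_zsmul]
    abel
  refine le_antisymm (fun x hx => ?_) hle
  have htf := tf_left P
  have htf' := tf_right P
  have hindiv : ∀ k, RootD.IsIndiv P.flip k := by
    intro k j hj
    have h : (2 : R) • P.root k = P.root j :=
      RootPairing.smul_coroot_eq_of_root_eq_smul (P := P.flip) j k 2 hj.symm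
    have hli : ¬ LinearIndependent R ![P.root j, P.root k] := fun hli => by
      have h2 := LinearIndependent.pair_iff.mp hli 1 (-2) (by rw [one_smul, neg_smul, h, add_neg_cancel])
      simp at h2
    rcases IsReduced.eq_or_eq_neg (P := P) j k hli with e | e <;> rw [← h] at e
    · rw [two_smul, add_eq_left] at e
      exact root_ne_zero P k e
    · rw [← sub_eq_zero, sub_neg_eq_add, show (2 : R) • P.root k + P.root k = ((2 : R) + 1) • P.root k by rw [add_smul, one_smul]] at e
      norm_num at e
      rw [← Nat.cast_ofNat (n := 3), Nat.cast_smul_eq_nsmul, nsmul_eq_zero_iff_right (by norm_num)] at e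
      exact root_ne_zero P k e
  obtain ⟨Δ, hΔ⟩ := exists_simpleZ P.flip
  let G : Submodule ℤ (ι →₀ ℤ) := K ⊔ Finsupp.supported ℤ ℤ Δ
  have hgen : ∀ k, Finsupp.single k (1 : ℤ) ∈ G := by
    intro k
    obtain ⟨g, hg, a, ha, rfl⟩ : ∃ g ∈ WOf P.flip Δ, ∃ a ∈ Δ, g • a = k := by
      obtain ⟨w, hw, a, ha, n, hn⟩ := hΔ.exists_nsmul_smul k
      refine ⟨w, hw, a, ha, ?_⟩
      rcases nsmul_eq_one_or_two hn with rfl | rfl
      · rw [one_smul] at hn
        exact (P.flip.root.injective hn).symm
      · refine absurd ?_ (hindiv k (w • a))
        rw [← Nat.cast_ofNat (n := 2), Nat.cast_smul_eq_nsmul]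
        exact hn.symm
    obtain ⟨l, hl, rfl⟩ := exists_word P.flip hg
    induction l with
    | nil =>
      rw [wl_nil, one_smul]
      exact Submodule.mem_sup_right (Finsupp.single_mem_supported ℤ (1 : ℤ) ha)
    | cons b l ih =>
      have ih' := ih (fun y hy => hl y (List.mem_cons_of_mem b hy))
        (wl_mem_WOf _ fun y hy => hl y (List.mem_cons_of_mem b hy))
      rw [wl_cons, mul_smul]
      set c := wl P.flip l • a
      have hr : Finsupp.single (P.reflectionPerm b c) (1 : ℤ) - Finsupp.single c 1 +
          P.pairingIn ℤ b c • Finsupp.single b 1 ∈ G :=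
        Submodule.mem_sup_left (Submodule.subset_span ⟨(b, c), rfl⟩)
      have hb : Finsupp.single b (1 : ℤ) ∈ G :=
        Submodule.mem_sup_right (Finsupp.single_mem_supported ℤ (1 : ℤ) (hl b List.mem_cons_self))
      have := add_mem (sub_mem hr (Submodule.smul_mem G (P.pairingIn ℤ b c) hb)) ih'
      change Finsupp.single (P.reflectionPerm b c) (1 : ℤ) ∈ G
      simpa using this
  have hx' : x ∈ G := by
    rw [← Finsupp.sum_single x]
    refine Submodule.finsuppSum_mem _ _ _ _ fun i _ => ?_
    rw [← mul_one (x i), ← smul_eq_mul, ← Finsupp.smul_single]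
    exact Submodule.smul_mem _ _ (hgen i)
  obtain ⟨u, hu, v, hv, rfl⟩ := Submodule.mem_sup.mp hx'
  have h0 : Finsupp.linearCombination ℤ (fun i : ι => (P.coroot i : N)) v = 0 := by
    have := LinearMap.mem_ker.mp hx
    rwa [map_add, LinearMap.mem_ker.mp (hle hu), zero_add] at this
  have hli : LinearIndepOn ℤ (fun i : ι => (P.coroot i : N)) Δ := hΔ.li
  rw [linearIndepOn_iff.mp hli v hv h0, add_zero]
  exact hu

end Groth.Agent.S19011
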