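import Groth.Statements.S19012
import Groth.Agent.H21Root.Quad

set_option autoImplicit false
universe u v w x
open RootD

namespace Groth.Agent.S19012

open Groth.Agent.H21Root RootPairing

/-- Let P be a finite reduced crystallographic root pairing over a field of characteristic zero which is
irreducible, and b a base. A quadratic form on the coweight module that is invariant under all root
reflections and vanishes on some simple coroot is zero; in other words an invariant form is
determined by its value on a single simple coroot. (The source proves, component by component of the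
Dynkin diagram, that an invariant integer-valued form on the coroot lattice with prescribed value on
the first simple coroot of each component is unique; here the system is irreducible, the coroots
span the coweight module, and forms take values in the base field.) -/
theorem result {ι : Type u} {K : Type v} {M : Type w} {N : Type x} [Field K] [CharZero K]
    [AddCommGroup M] [Module K M] [AddCommGroup N] [Module K N] (P : RootPairing ι K M N)
    [Finite ι] [P.IsCrystallographic] [P.IsReduced] [P.IsIrreducible] (b : P.Base)
    (Q : QuadraticMap K N K) (hQ : ∀ (i : ι) (y : N), Q (P.coreflection i y) = Q y)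
    (i₀ : ι) (hi₀ : i₀ ∈ b.support) (h0 : Q (P.coroot i₀) = 0) : Q = 0 := by
  classical
  have hinv : ∀ i j, QuadraticMap.polar Q (P.coroot i) (P.coroot j) = P.pairing j i * Q (P.coroot j) := by
    intro i j
    have h1 := hQ j (P.coroot i + P.coroot j)
    have h2 := hQ j (P.coroot i)
    rw [quad_coreflection] at h1 h2
    rw [Q.polar_add_left, Q.polar_self, two_smul, ← two_mul] at h1
    simp only [map_add, root'_coroot_eq_pairing, pairing_same] at h1 h2
    refine sub_eq_zero.mp (mul_left_cancel₀ (two_ne_zero (α := K)) ?_)
    linear_combination -h1 + h2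
  let J : Set ι := {j | j ∈ b.support ∧ Q (P.coroot j) = 0}
  let W : Submodule K N := Submodule.span K (P.coroot '' J)
  have hsimple : ∀ i ∈ b.support, ∀ j ∈ J, i ∉ J → P.pairing i j = 0 := by
    intro i hi j hj hiJ
    have h1 := hinv i j
    rw [hj.2, mul_zero, QuadraticMap.polar_comm, hinv j i] at h1
    exact (mul_eq_zero.mp h1).resolve_right fun h => hiJ ⟨hi, h⟩
  have hW : ∀ i, ∀ x ∈ W, P.coreflection i x ∈ W := by
    intro i
    refine b.induction_reflect i (p := fun i => ∀ x ∈ W, P.coreflection i x ∈ W)
      (fun j hj x hx => by rw [coreflection_opp]; exact hj x hx) (fun a ha x hx => ?_)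
      (fun i j hi hj x hx => ?_)
    · refine coreflection_mem_span ?_ hx
      rintro _ ⟨c, hc, rfl⟩
      rw [coreflection_apply_coroot]
      refine sub_mem (Submodule.subset_span ⟨c, hc, rfl⟩) ?_
      by_cases haJ : a ∈ J
      · exact Submodule.smul_mem _ _ (Submodule.subset_span ⟨a, haJ, rfl⟩)
      · rw [hsimple a ha c hc haJ, zero_smul]; exact zero_mem _
    · have hs : ∀ x ∈ W, P.coreflection j x ∈ W := fun x hx => by
        refine coreflection_mem_span ?_ hx
        rintro _ ⟨c, hc, rfl⟩
        rw [coreflection_apply_coroot]
        refine sub_mem (Submodule.subset_span ⟨c, hc, rfl⟩) ?_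
        by_cases haJ : j ∈ J
        · exact Submodule.smul_mem _ _ (Submodule.subset_span ⟨j, haJ, rfl⟩)
        · rw [hsimple j hj c hc haJ, zero_smul]; exact zero_mem _
      rw [coreflection_perm]
      exact hs _ (hi _ (hs _ hx))
  have htop : W = ⊤ := IsIrreducible.eq_top_of_invtSubmodule_coreflection (P := P) W hW fun h => by
    have : P.coroot i₀ ∈ W := Submodule.subset_span ⟨i₀, ⟨hi₀, h0⟩, rfl⟩
    rw [h, Submodule.mem_bot] at this
    exact P.flip.ne_zero i₀ this
  have hall : ∀ k ∈ b.support, Q (P.coroot k) = 0 := by
    intro k hk
    by_contra hne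
    have hkJ : k ∉ J := fun h => hne h.2
    have hle : W ≤ LinearMap.ker (P.root' k) := Submodule.span_le.mpr (by
      rintro _ ⟨c, hc, rfl⟩
      simpa using hsimple k hk c hc hkJ)
    have := hle (htop ▸ Submodule.mem_top : P.coroot k ∈ W)
    simp at this
  ext y
  have hy : y ∈ W := htop ▸ Submodule.mem_top
  induction hy using Submodule.span_induction with
  | mem v hv => obtain ⟨c, hc, rfl⟩ := hv; simpa using hall c hc.1
  | zero => simp
  | add u v hu hv h1 h2 =>
    have hB : QuadraticMap.polar Q u v = 0 := by
      have hz : ∀ d ∈ J, QuadraticMap.polar Q v (P.coroot d) = 0 := fun d hd => by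
        rw [polar_corootSpan_eq (s := P.coroot '' J) ?_ hv, hd.2, mul_zero]
        rintro _ ⟨c, _, rfl⟩
        simpa using hinv c d
      clear h1
      induction hu using Submodule.span_induction with
      | mem a ha => obtain ⟨c, hc, rfl⟩ := ha; rw [QuadraticMap.polar_comm]; exact hz c hc
      | zero => simp
      | add p q _ _ h3 h4 => rw [Q.polar_add_left, h3, h4, add_zero]
      | smul t p _ h3 => rw [Q.polar_smul_left, h3, smul_zero]
    have : Q (u + v) = Q u + Q v + QuadraticMap.polar Q u v := by simp [QuadraticMap.polar]
    simp_all
  | smul t u _ h1 => simp_all [Q.map_smul]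

end Groth.Agent.S19012
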