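import Groth.Statements.S19013
import Groth.Agent.H23MilK.DVR

set_option autoImplicit false
universe u v
open MilnorK

namespace Groth.Agent.S19013

/-- Let A ⊆ B be discrete valuation rings, the inclusion being a local homomorphism, with fraction
fields E ⊆ F compatibly, with the induced homomorphism of residue fields κ(A) → κ(B), and with
ramification index e, the natural number such that the maximal ideal of A generates the e-th power
of the maximal ideal of B. Let ∂_A : K_{n+1}(E) → K_n(κ(A)) and ∂_B : K_{n+1}(F) → K_n(κ(B)) be the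
residue maps (tame symbols) on Milnor K-groups. Then for every x in K_{n+1}(E) one has ∂_B(x_F) = e
· (∂_A x)_{κ(B)}, where the subscripts denote the change-of-fields maps along E → F and κ(A) → κ(B).
(The published statement concerns discrete valuations of geometric type on fields finitely generated
over a base field; it is stated here for an arbitrary pair of discrete valuation rings, which is all
the printed computation uses.) -/
theorem result
    (A B : Type u) [CommRing A] [IsDomain A] [IsDiscreteValuationRing A]
    [CommRing B] [IsDomain B] [IsDiscreteValuationRing B] [Algebra A B] [IsLocalHom (algebraMap A B)]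
    (E F : Type v) [Field E] [Field F] [Algebra A E] [IsFractionRing A E] [Algebra B F] [IsFractionRing B F]
    [Algebra E F] [Algebra A F] [IsScalarTower A E F] [IsScalarTower A B F]
    (e : ℕ) (he : Ideal.map (algebraMap A B) (IsLocalRing.maximalIdeal A) = IsLocalRing.maximalIdeal B ^ e)
    (n : ℕ) (dA : MilK.K E (n + 1) →+ MilK.K (IsLocalRing.ResidueField A) n) (hdA : MilK.IsTameSymbol A E n dA)
    (dB : MilK.K F (n + 1) →+ MilK.K (IsLocalRing.ResidueField B) n) (hdB : MilK.IsTameSymbol B F n dB)
    (x : MilK.K E (n + 1)) :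
    dB (MilK.map (algebraMap E F) (n + 1) x) =
      e • MilK.map (IsLocalRing.ResidueField.map (algebraMap A B)) n (dA x) := by
  obtain ⟨π, hπ⟩ := IsDiscreteValuationRing.exists_irreducible A
  obtain ⟨ϖ, hϖ⟩ := IsDiscreteValuationRing.exists_irreducible B
  obtain rfl := Groth.Agent.H23MilK.tame_unique hϖ hdB (Groth.Agent.H23MilK.isTameSymbol_tame hϖ n)
  have hunit : ∀ u : Aˣ, Units.map (algebraMap E F : E →* F) (MilK.unitToFrac A E u) =
      MilK.unitToFrac B F (Units.map (algebraMap A B : A →* B) u) := fun u => by
    ext
    simp [MilK.unitToFrac, ← IsScalarTower.algebraMap_apply]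
  have hres : ∀ u : Aˣ, Units.map (IsLocalRing.ResidueField.map (algebraMap A B) : _ →* IsLocalRing.ResidueField B)
      (MilK.unitResidue A u) = MilK.unitResidue B (Units.map (algebraMap A B : A →* B) u) := fun u => by
    ext
    simp [MilK.unitResidue, IsLocalRing.ResidueField.map_residue]
  obtain ⟨w, hw⟩ : ∃ w : Bˣ, algebraMap A B π = ϖ ^ e * (w : B) := by
    rw [(IsDiscreteValuationRing.irreducible_iff_uniformizer π).mp hπ,
      (IsDiscreteValuationRing.irreducible_iff_uniformizer ϖ).mp hϖ, Ideal.map_span, Set.image_singleton,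
      Ideal.span_singleton_pow, Ideal.span_singleton_eq_span_singleton] at he
    obtain ⟨w, hw⟩ := he.symm
    exact ⟨w, hw.symm⟩
  have hπF : Units.map (algebraMap E F : E →* F) (MilK.unitFrac A E π hπ.ne_zero) =
      MilK.unitFrac B F ϖ hϖ.ne_zero ^ (e : ℤ) * MilK.unitToFrac B F w := by
    refine Units.ext ?_
    rw [Groth.Agent.H23MilK.coe_decHom_nat B F ϖ hϖ, ← hw]
    simp [← IsScalarTower.algebraMap_apply]
  suffices h : ((Groth.Agent.H23MilK.tame (A := B) (L := F) hϖ n).comp (MilK.map (algebraMap E F) (n + 1)) -
      e • (MilK.map (IsLocalRing.ResidueField.map (algebraMap A B)) n).comp dA) x = 0 by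
    simpa [sub_eq_zero] using h
  rw [← AddMonoidHom.mem_ker]
  refine Groth.Agent.H23MilK.mem_of_generators hπ _ (fun u => ?_) (fun u => ?_) x
  · simp [AddMonoidHom.mem_ker, Groth.Agent.H23MilK.tame_vanishes hπ hdA u, hunit,
      Groth.Agent.H23MilK.tame_units]
  · have h1 := hdA π hπ u
    rw [Groth.Agent.H23MilK.cons_symbol_eq] at h1
    have h2 : MilK.map (algebraMap E F) (n + 1) (Groth.Agent.H23MilK.consK (MilK.unitFrac A E π hπ.ne_zero)
        (MilK.symbol fun i => MilK.unitToFrac A E (u i))) =
        Groth.Agent.H23MilK.consK (MilK.unitFrac B F ϖ hϖ.ne_zero ^ (e : ℤ) * MilK.unitToFrac B F w)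
          (MilK.symbol fun i => MilK.unitToFrac B F (Units.map (algebraMap A B : A →* B) (u i))) := by
      rw [Groth.Agent.H23MilK.consK_symbol, MilK.map_symbol, Groth.Agent.H23MilK.consK_symbol]
      congr 1
      funext l
      refine Fin.cases ?_ (fun j => ?_) l <;> simp [hπF, hunit]
    have h3 : Groth.Agent.H23MilK.tame (A := B) (L := F) hϖ n (MilK.map (algebraMap E F) (n + 1)
        (Groth.Agent.H23MilK.consK (MilK.unitFrac A E π hπ.ne_zero)
          (MilK.symbol fun i => MilK.unitToFrac A E (u i)))) =
        e • MilK.symbol (fun i => MilK.unitResidue B (Units.map (algebraMap A B : A →* B) (u i))) := by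
      rw [h2]
      cases n with
      | zero =>
        rw [Groth.Agent.H23MilK.tame_consK_zero, Groth.Agent.H23MilK.ordHom_mk, natCast_zsmul,
          Groth.Agent.H23MilK.spec_units]
      | succ n =>
        rw [Groth.Agent.H23MilK.tame_consK, Groth.Agent.H23MilK.ordHom_mk, natCast_zsmul,
          Groth.Agent.H23MilK.spec_units, Groth.Agent.H23MilK.tame_units, map_zero, add_zero]
    simp only [AddMonoidHom.mem_ker, AddMonoidHom.sub_apply, AddMonoidHom.comp_apply,
      AddMonoidHom.smul_apply, h1, h3, MilK.map_symbol, hres, sub_self]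

end Groth.Agent.S19013
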