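import Groth.Statements.S19015
import Groth.Agent.H23MilK.DVR

set_option autoImplicit false
universe u v
open MilnorK

namespace Groth.Agent.S19015

/-- Let B be a discrete valuation ring with fraction field F, residue field κ and uniformizer π, and let
E be a field with a ring homomorphism into B, hence into F and into κ. Let ∂ : K_{n+1}(F) → K_n(κ)
be the residue map (tame symbol) on Milnor K-groups and s^π(ρ) = ∂({−π} · ρ) the specialization map
attached to π. Then s^π(x_F) = x_κ for every x in K_n(E): the product {−π} · x_F in K_{1+n}(F),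
regarded in K_{n+1}(F), has residue the image of x in K_n(κ). (The published statement concerns
discrete valuations of geometric type on fields finitely generated over a base field; it is stated
here for an arbitrary discrete valuation ring, which is all the printed computation uses.) -/
theorem result
    (B : Type u) [CommRing B] [IsDomain B] [IsDiscreteValuationRing B]
    (E F : Type v) [Field E] [Field F] [Algebra B F] [IsFractionRing B F]
    [Algebra E B] [Algebra E F] [IsScalarTower E B F]
    (n : ℕ) (d : MilK.K F (n + 1) →+ MilK.K (IsLocalRing.ResidueField B) n) (hd : MilK.IsTameSymbol B F n d)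
    (ϖ : B) (hϖ : Irreducible ϖ) (x : MilK.K E n) :
    d (MilK.cast F (Nat.add_comm 1 n)
        (MilK.mul F 1 n (MilK.symbol ![-MilK.unitFrac B F ϖ hϖ.ne_zero]) (MilK.map (algebraMap E F) n x))) =
      MilK.map ((IsLocalRing.residue B).comp (algebraMap E B)) n x := by
  obtain rfl := Groth.Agent.H23MilK.tame_unique hϖ hd (Groth.Agent.H23MilK.isTameSymbol_tame hϖ n)
  rw [Groth.Agent.H23MilK.cast_mul_eq_consK]
  have hneg : -MilK.unitFrac B F ϖ hϖ.ne_zero =
      MilK.unitFrac B F ϖ hϖ.ne_zero ^ (1 : ℤ) * MilK.unitToFrac B F (-1) := by
    ext; simp [MilK.unitToFrac]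
  have hm : MilK.unitResidue B (-1) = -1 := by ext; simp [MilK.unitResidue]
  have hspec : Groth.Agent.H23MilK.spec (A := B) (L := F) hϖ n (MilK.map (algebraMap E F) n x) =
      MilK.map ((IsLocalRing.residue B).comp (algebraMap E B)) n x := by
    refine DFunLike.congr_fun (Groth.Agent.H23MilK.hom_ext (f := (Groth.Agent.H23MilK.spec (A := B) hϖ n).comp
      (MilK.map (algebraMap E F) n)) fun y => ?_) x
    have hy : (fun i => Units.map (algebraMap E F : E →* F) (y i)) =
        fun i => MilK.unitToFrac B F (Units.map (algebraMap E B : E →* B) (y i)) := by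
      funext i; ext; simp [MilK.unitToFrac, ← IsScalarTower.algebraMap_apply]
    rw [AddMonoidHom.comp_apply, MilK.map_symbol, MilK.map_symbol, hy, Groth.Agent.H23MilK.spec_units]
    rfl
  rw [hneg]
  cases n with
  | zero => rw [Groth.Agent.H23MilK.tame_consK_zero, Groth.Agent.H23MilK.ordHom_mk, one_zsmul, hspec]
  | succ n =>
    rw [Groth.Agent.H23MilK.tame_consK, Groth.Agent.H23MilK.ordHom_mk, one_zsmul,
      Groth.Agent.H23MilK.twist_mk, hm, zpow_one, inv_neg, inv_one, neg_mul_neg, one_mul,
      Groth.Agent.H23MilK.consK_one, add_zero, hspec]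

end Groth.Agent.S19015
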