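import Groth.Statements.S19017
import Groth.Agent.H3Cyc.RatSplit
import Groth.Agent.H3Cyc.Gysin
import Groth.Agent.H3Cyc.SetupLft
import Groth.Agent.H26ChowK.Euler
-- import your own Groth.Agent.* helpers here

set_option autoImplicit false
universe u
open CategoryTheory AlgebraicGeometry
open IntTh

namespace Groth.Agent.S19017

/-- Let k be an arbitrary field and X a scheme separated and of finite type over k, with the dimension
function δ induced from Spec k. Let i_1 : X_1 → X and i_2 : X_2 → X be closed subschemes whose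
images cover X, and let Y be their intersection: closed immersions j_1 : Y → X_1, j_2 : Y → X_2 with
i_1 ∘ j_1 = i_2 ∘ j_2 whose image in X is the intersection of the images of X_1 and X_2. Then the
sequence CH_n(Y) → CH_n(X_1) ⊕ CH_n(X_2) → CH_n(X) → 0, with first map γ ↦ (j_{1*}γ, −j_{2*}γ) and
second map the sum of the push-forwards, is exact for every integer n: every n-cycle on X is a sum
i_{1*}α_1 + i_{2*}α_2 of n-cycles on X_1 and X_2, and whenever such a sum is rationally equivalent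
to zero on X there is an n-cycle γ on Y with α_1 rationally equivalent to j_{1*}γ on X_1 and α_2
rationally equivalent to −j_{2*}γ on X_2. (The published statement does not require the two closed
subschemes to cover X; without that requirement the surjectivity fails already for two empty closed
subschemes of a point, and the printed argument uses the covering, so it is assumed here. The
published statement also calls the sequence one of rings graded by codimension; stated here is the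
additive sequence graded by dimension, which is what the printed argument gives.) -/
theorem exists_restrict {W X : Scheme.{u}} (i : W ⟶ X) (hi : Topology.IsEmbedding i) (α : AlgebraicCycle X ℤ)
    (F : W → ℤ) (hF : ∀ w, F w ≠ 0 → α (i w) ≠ 0) : ∃ c : AlgebraicCycle W ℤ, ⇑c = F := by
  refine ⟨⟨F, by simp, fun w _ => ?_⟩, rfl⟩
  obtain ⟨t, ht, hfin⟩ := α.supportLocallyFiniteWithinDomain (i w) trivial
  exact ⟨i ⁻¹' t, i.continuous.continuousAt ht,
    (hfin.preimage hi.injective.injOn).subset fun z hz => ⟨hz.1, hF z hz.2⟩⟩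

theorem result (k : Type u) [Field k]
    (X : Scheme.{u}) [X.Over (Spec (CommRingCat.of k))]
    [IsSeparated (X ↘ Spec (CommRingCat.of k))] [LocallyOfFiniteType (X ↘ Spec (CommRingCat.of k))]
    [QuasiCompact (X ↘ Spec (CommRingCat.of k))]
    (δ : X → ℤ) (hδ : Cyc.DeltaCompat (X ↘ Spec (CommRingCat.of k)) δ (fun _ => 0))
    {X₁ X₂ Y : Scheme.{u}} (i₁ : X₁ ⟶ X) (i₂ : X₂ ⟶ X) [IsClosedImmersion i₁] [IsClosedImmersion i₂]
    (hcov : Set.range i₁ ∪ Set.range i₂ = Set.univ)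
    (j₁ : Y ⟶ X₁) (j₂ : Y ⟶ X₂) [IsClosedImmersion j₁] [IsClosedImmersion j₂]
    (hcomm : j₁ ≫ i₁ = j₂ ≫ i₂) (hY : Set.range (j₁ ≫ i₁) = Set.range i₁ ∩ Set.range i₂) (n : ℤ) :
    (∀ α : AlgebraicCycle X ℤ, α ∈ Cyc.Zk X δ n →
      ∃ (α₁ : AlgebraicCycle X₁ ℤ) (α₂ : AlgebraicCycle X₂ ℤ),
        α₁ ∈ Cyc.Zk X₁ (fun x => δ (i₁ x)) n ∧ α₂ ∈ Cyc.Zk X₂ (fun x => δ (i₂ x)) n ∧
        α = AlgebraicCycle.map i₁ (fun x => δ (i₁ x)) δ α₁ + AlgebraicCycle.map i₂ (fun x => δ (i₂ x)) δ α₂) ∧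
    (∀ (α₁ : AlgebraicCycle X₁ ℤ) (α₂ : AlgebraicCycle X₂ ℤ),
      α₁ ∈ Cyc.Zk X₁ (fun x => δ (i₁ x)) n → α₂ ∈ Cyc.Zk X₂ (fun x => δ (i₂ x)) n →
      Cyc.RatEquivZero δ n
        (AlgebraicCycle.map i₁ (fun x => δ (i₁ x)) δ α₁ + AlgebraicCycle.map i₂ (fun x => δ (i₂ x)) δ α₂) →
      ∃ γ : AlgebraicCycle Y ℤ, γ ∈ Cyc.Zk Y (fun y => δ (i₁ (j₁ y))) n ∧
        Cyc.RatEquiv (fun x => δ (i₁ x)) n α₁
          (AlgebraicCycle.map j₁ (fun y => δ (i₁ (j₁ y))) (fun x => δ (i₁ x)) γ) ∧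
        Cyc.RatEquiv (fun x => δ (i₂ x)) n α₂
          (-AlgebraicCycle.map j₂ (fun y => δ (i₁ (j₁ y))) (fun x => δ (i₂ x)) γ)) := by
  classical
  have hX := Groth.Agent.H3Cyc.isSetup_of_locallyOfFiniteType (X ↘ Spec (CommRingCat.of k))
    (Groth.Agent.H26ChowK.isSetup_spec_field (k := k)) hδ
  haveI := hX.1
  have e1 := i₁.isEmbedding.injective
  have e2 := i₂.isEmbedding.injective
  have hj : ∀ y, i₁ (j₁ y) = i₂ (j₂ y) := fun y => congrArg (fun m : Y ⟶ X => m y) hcomm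
  refine ⟨fun α hα => ?_, fun α₁ α₂ hα₁ hα₂ h => ?_⟩
  · obtain ⟨a₁, ha₁⟩ := exists_restrict i₁ i₁.isEmbedding α (fun w => α (i₁ w)) fun _ h => h
    obtain ⟨a₂, ha₂⟩ := exists_restrict i₂ i₂.isEmbedding α
      (fun w => if i₂ w ∈ Set.range i₁ then 0 else α (i₂ w)) fun w hw h => by
        beta_reduce at hw; rw [h, ite_self] at hw; exact hw rfl
    refine ⟨a₁, a₂, fun w hw => ?_, fun w hw => ?_, ?_⟩
    · rw [ha₁]; exact hα _ hw
    · rw [ha₂]; beta_reduce; rw [hα _ hw, ite_self]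
    · ext x
      show α x = AlgebraicCycle.map i₁ (fun x => δ (i₁ x)) δ a₁ x + AlgebraicCycle.map i₂ (fun x => δ (i₂ x)) δ a₂ x
      by_cases hx : x ∈ Set.range i₁
      · obtain ⟨w, rfl⟩ := hx
        by_cases hx2 : i₁ w ∈ Set.range i₂
        · obtain ⟨v, hv⟩ := hx2
          rw [Groth.Agent.H3Cyc.Gysin.map_immersion_apply, ← hv, Groth.Agent.H3Cyc.Gysin.map_immersion_apply,
            ha₁, ha₂]
          beta_reduce
          rw [if_pos ⟨w, hv.symm⟩, add_zero, hv]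
        · rw [Groth.Agent.H3Cyc.Gysin.map_immersion_apply, Groth.Agent.H3Cyc.Gysin.map_immersion_eq_zero _ _ _ _ hx2,
            ha₁, add_zero]
      · obtain ⟨v, rfl⟩ : x ∈ Set.range i₂ := (hcov.ge (Set.mem_univ x)).resolve_left hx
        rw [Groth.Agent.H3Cyc.Gysin.map_immersion_apply, Groth.Agent.H3Cyc.Gysin.map_immersion_eq_zero _ _ _ _ hx, ha₂]
        beta_reduce
        rw [if_neg hx, zero_add]
  · obtain ⟨G₁, G₂, h₁, h₂, hG⟩ := ((Groth.Agent.H3Cyc.RatFam.of_ratEquivZero h).mono hcov.ge).split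
    obtain ⟨c₁, hc₁, hc₁k⟩ := Groth.Agent.H3Cyc.RatFam.exists_cycle hX.2.2 h₁
    obtain ⟨γ, hγ⟩ := exists_restrict (j₁ ≫ i₁) (Scheme.Hom.isEmbedding (j₁ ≫ i₁))
      (AlgebraicCycle.map i₁ (fun x => δ (i₁ x)) δ α₁ - c₁)
      (fun y => α₁ (j₁ y) - G₁ (i₁ (j₁ y))) fun y hy => by
        show AlgebraicCycle.map i₁ (fun x => δ (i₁ x)) δ α₁ (i₁ (j₁ y)) - c₁ (i₁ (j₁ y)) ≠ 0
        rw [Groth.Agent.H3Cyc.Gysin.map_immersion_apply, hc₁]
        exact hy
    refine ⟨γ, fun y hy => ?_, h₁.restrict i₁ subset_rfl fun w => ?_, h₂.restrict i₂ subset_rfl fun w => ?_⟩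
    · rw [hγ]
      beta_reduce
      rw [hα₁ _ hy, ← hc₁, hc₁k _ hy, sub_zero]
    · show α₁ w - AlgebraicCycle.map j₁ (fun y => δ (i₁ (j₁ y))) (fun x => δ (i₁ x)) γ w = _
      by_cases hw : w ∈ Set.range j₁
      · obtain ⟨y, rfl⟩ := hw
        rw [Groth.Agent.H3Cyc.Gysin.map_immersion_apply j₁ (fun x => δ (i₁ x)), hγ]
        beta_reduce
        ring
      · have h2 : i₁ w ∉ Set.range i₂ := fun hn => by
          obtain ⟨y, hy⟩ := hY.ge ⟨Set.mem_range_self w, hn⟩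
          exact hw ⟨y, e1 hy⟩
        rw [Groth.Agent.H3Cyc.Gysin.map_immersion_eq_zero j₁ (fun x => δ (i₁ x)) _ _ hw, sub_zero]
        have := hG (i₁ w)
        change AlgebraicCycle.map i₁ (fun x => δ (i₁ x)) δ α₁ (i₁ w) + AlgebraicCycle.map i₂ (fun x => δ (i₂ x)) δ α₂ (i₁ w) = _ at this
        rw [Groth.Agent.H3Cyc.Gysin.map_immersion_apply, Groth.Agent.H3Cyc.Gysin.map_immersion_eq_zero _ _ _ _ h2,
          h₂.eq_zero_of_notMem i₂.isClosedEmbedding.isClosed_range h2] at this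
        simpa using this
    · show α₂ w - -AlgebraicCycle.map j₂ (fun y => δ (i₁ (j₁ y))) (fun x => δ (i₂ x)) γ w = _
      rw [show (fun y => δ (i₁ (j₁ y))) = fun y => δ (i₂ (j₂ y)) from funext fun y => by rw [hj]]
      have hGw := hG (i₂ w)
      change AlgebraicCycle.map i₁ (fun x => δ (i₁ x)) δ α₁ (i₂ w) + AlgebraicCycle.map i₂ (fun x => δ (i₂ x)) δ α₂ (i₂ w) = _ at hGw
      rw [Groth.Agent.H3Cyc.Gysin.map_immersion_apply i₂] at hGw
      by_cases hw : w ∈ Set.range j₂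
      · obtain ⟨y, rfl⟩ := hw
        rw [Groth.Agent.H3Cyc.Gysin.map_immersion_apply j₂ (fun x => δ (i₂ x)), hγ]
        rw [← hj, Groth.Agent.H3Cyc.Gysin.map_immersion_apply] at hGw
        beta_reduce
        rw [← hj]
        linarith
      · have h1 : i₂ w ∉ Set.range i₁ := fun hn => by
          obtain ⟨y, hy⟩ := hY.ge ⟨hn, Set.mem_range_self w⟩
          exact hw ⟨y, e2 ((hj y).symm.trans hy)⟩
        rw [Groth.Agent.H3Cyc.Gysin.map_immersion_eq_zero i₁ _ _ _ h1,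
          h₁.eq_zero_of_notMem i₁.isClosedEmbedding.isClosed_range h1] at hGw
        rw [Groth.Agent.H3Cyc.Gysin.map_immersion_eq_zero j₂ (fun x => δ (i₂ x)) _ _ hw, neg_zero, sub_zero]
        linarith
end Groth.Agent.S19017
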