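import Groth.Statements.S19019
import Mathlib.Analysis.SpecialFunctions.Integrals.Basic
import Mathlib.Analysis.Complex.Trigonometric
import Mathlib.MeasureTheory.Integral.IntervalIntegral.Basic
import Mathlib.Algebra.Polynomial.Roots
import Mathlib.Analysis.SpecialFunctions.Complex.Circle
import Mathlib.LinearAlgebra.Matrix.PosDef
import Mathlib.Data.Set.Countable
import Mathlib.Analysis.Real.Cardinality
import Mathlib.Topology.Algebra.Module.Cardinality
import Mathlib.Tactic

set_option autoImplicit false
open scoped ComplexOrder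
open Toeplitz

namespace Groth.Agent.S19019

/-- Let A be an m × m complex Hermitian Toeplitz matrix, with entries A i j = t (j - i) constant along
diagonals, and let f(y) = Σ_{-m < k < m} t k · exp(i k y) be the trigonometric polynomial attached
to it. If f has positive real part at every real y outside a countable set, then A is positive
definite (hence nondegenerate). (The source also states the mirror case: f negative off a countable
set gives A negative definite, which is this statement for -A.) -/
theorem result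
    (m : ℕ) (t : ℤ → ℂ) (A : Matrix (Fin m) (Fin m) ℂ)
    (hA : ∀ i j : Fin m, A i j = t ((j : ℤ) - (i : ℤ))) (hH : A.IsHermitian)
    (hpos : Set.Countable {y : ℝ | ¬ 0 < (∑ k ∈ Finset.Ioo (-(m : ℤ)) (m : ℤ),
        t k * Complex.exp (Complex.I * (k : ℂ) * (y : ℂ))).re}) :
    A.PosDef := by
  classical
  refine Matrix.PosDef.of_dotProduct_mulVec_pos hH fun x hx => ?_
  set F : ℝ → ℂ := fun y => ∑ k ∈ Finset.Ioo (-(m : ℤ)) (m : ℤ),
    t k * Complex.exp (Complex.I * (k : ℂ) * (y : ℂ)) with hF
  set bad : Set ℝ := {y : ℝ | ¬ 0 < (F y).re} with hbad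
  set z : ℝ → ℂ := fun y => Complex.exp (-(Complex.I * (y : ℂ))) with hz
  set X : ℝ → ℂ := fun y => ∑ j : Fin m, x j * z y ^ (j : ℕ) with hX
  set G : ℝ → ℝ := fun y => (F y).re * Complex.normSq (X y) with hG
  have hFc : Continuous F := by fun_prop
  have hXc : Continuous X := by fun_prop
  have hGc : Continuous G := by fun_prop
  have hdense : Dense badᶜ := Set.Countable.dense_compl ℝ hpos
  have hFnn : ∀ y, 0 ≤ (F y).re := by
    intro y
    have hclosed : IsClosed {y : ℝ | 0 ≤ (F y).re} := isClosed_le continuous_const (Complex.continuous_re.comp hFc)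
    have : closure badᶜ ⊆ {y : ℝ | 0 ≤ (F y).re} := hclosed.closure_subset_iff.mpr fun y hy => by
      simp only [hbad, Set.mem_compl_iff, Set.mem_ofPred_eq, not_not] at hy
      exact hy.le
    exact this (hdense y)
  -- a point where the integrand is positive
  obtain ⟨c, hc, hcpos⟩ : ∃ c ∈ Set.Icc (0 : ℝ) (2 * Real.pi), 0 < G c := by
    let P : Polynomial ℂ := ∑ j : Fin m, Polynomial.C (x j) * Polynomial.X ^ (j : ℕ)
    have hP : P ≠ 0 := by
      intro h
      apply hx
      funext i
      have := congrArg (fun p => Polynomial.coeff p (i : ℕ)) h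
      simpa [P, Polynomial.finsetSum_coeff, Polynomial.coeff_C_mul_X_pow, Fin.val_inj] using this
    have hzero : {y : ℝ | y ∈ Set.Ioo (0 : ℝ) (2 * Real.pi) ∧ X y = 0}.Countable := by
      have hsub : Set.MapsTo z {y : ℝ | y ∈ Set.Ioo (0 : ℝ) (2 * Real.pi) ∧ X y = 0} {w | P.IsRoot w} := by
        intro y hy
        show P.eval (z y) = 0
        rw [← hy.2]
        simp [P, hX, Polynomial.eval_finsetSum]
      have hinj : Set.InjOn z {y : ℝ | y ∈ Set.Ioo (0 : ℝ) (2 * Real.pi) ∧ X y = 0} := by
        intro a ha b hb hab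
        obtain ⟨k, hk⟩ := Complex.exp_eq_exp_iff_exists_int.mp hab
        have h1 := congrArg Complex.im hk
        simp at h1
        have h2 : -1 < (k : ℝ) := by have := ha.1.1; have := ha.1.2; have := hb.1.1; have := hb.1.2; nlinarith [Real.pi_pos]
        have h3 : (k : ℝ) < 1 := by have := ha.1.1; have := ha.1.2; have := hb.1.1; have := hb.1.2; nlinarith [Real.pi_pos]
        have h4 : k = 0 := by
          have : (-1 : ℤ) < k := by exact_mod_cast h2
          have : k < (1 : ℤ) := by exact_mod_cast h3
          omega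
        subst h4
        simp at h1
        linarith
      exact hsub.countable_of_injOn hinj ((Polynomial.finite_setOfPred_isRoot hP).countable)
    have hunc : ¬ (Set.Ioo (0 : ℝ) (2 * Real.pi)).Countable := by
      intro h
      have h1 := h.le_aleph0
      rw [Cardinal.mk_Ioo_real (by positivity)] at h1
      exact absurd h1 (not_le.mpr Cardinal.aleph0_lt_continuum)
    have : ¬ Set.Ioo (0 : ℝ) (2 * Real.pi) ⊆ bad ∪ {y : ℝ | y ∈ Set.Ioo (0 : ℝ) (2 * Real.pi) ∧ X y = 0} :=
      fun h => hunc ((hpos.union hzero).mono h)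
    obtain ⟨c, hc, hc'⟩ := Set.not_subset.mp this
    simp only [Set.mem_union, hbad, Set.mem_ofPred_eq, not_or, not_not, not_and] at hc'
    exact ⟨c, Set.Ioo_subset_Icc_self hc, mul_pos hc'.1 (Complex.normSq_pos.mpr (hc'.2 hc))⟩
  have hpi : (0 : ℝ) < 2 * Real.pi := by positivity
  have hint : 0 < ∫ y in (0 : ℝ)..(2 * Real.pi), G y :=
    intervalIntegral.integral_pos hpi hGc.continuousOn
      (fun y _ => mul_nonneg (hFnn y) (Complex.normSq_nonneg _)) ⟨c, hc, hcpos⟩
  -- orthogonality
  have horth : ∀ a : ℤ, ∫ y in (0 : ℝ)..(2 * Real.pi), Complex.exp (Complex.I * (a : ℂ) * (y : ℂ)) =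
      if a = 0 then ((2 * Real.pi : ℝ) : ℂ) else 0 := by
    intro a
    by_cases ha : a = 0
    · simp [ha]
    · rw [if_neg ha, integral_exp_mul_complex (by simp [ha, Complex.I_ne_zero])]
      have : Complex.exp (Complex.I * (a : ℂ) * ((2 * Real.pi : ℝ) : ℂ)) = 1 := by
        rw [Complex.exp_eq_one_iff]; exact ⟨a, by push_cast; ring⟩
      rw [this]
      simp
  set S := dotProduct (star x) (A.mulVec x) with hS
  have hterm : ∀ y : ℝ, (starRingEnd ℂ) (X y) * X y * F y =
      ∑ i : Fin m, ∑ j : Fin m, ∑ k ∈ Finset.Ioo (-(m : ℤ)) (m : ℤ),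
        (starRingEnd ℂ) (x i) * x j * t k * Complex.exp (Complex.I * (((i : ℤ) - (j : ℤ) + k : ℤ) : ℂ) * (y : ℂ)) := by
    intro y
    simp only [hX, hF, map_sum, Finset.sum_mul_sum]
    simp only [Finset.mul_sum, Finset.sum_mul, map_mul, map_pow, hz, ← Complex.exp_conj, ← Complex.exp_nat_mul]
    refine Finset.sum_congr rfl fun i _ => ?_
    rw [Finset.sum_comm]
    refine Finset.sum_congr rfl fun j _ => Finset.sum_congr rfl fun k _ => ?_
    rw [show ∀ a b c d e f : ℂ, a * b * (c * d) * (e * f) = a * c * e * (b * d * f) from fun a b c d e f => by ring,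
      ← Complex.exp_add, ← Complex.exp_add]
    congr 2
    simp only [map_neg, map_mul, Complex.conj_I, Complex.conj_ofReal, map_natCast]
    push_cast; ring
  have hIc : ∫ y in (0 : ℝ)..(2 * Real.pi), (starRingEnd ℂ) (X y) * X y * F y =
      ((2 * Real.pi : ℝ) : ℂ) * S := by
    simp only [hterm]
    rw [intervalIntegral.integral_finsetSum]
    swap
    · intro i _; exact (by fun_prop : Continuous _).intervalIntegrable _ _
    rw [hS, dotProduct, Finset.mul_sum]
    refine Finset.sum_congr rfl fun i _ => ?_
    rw [intervalIntegral.integral_finsetSum]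
    swap
    · intro j _; exact (by fun_prop : Continuous _).intervalIntegrable _ _
    simp only [Matrix.mulVec, dotProduct, Finset.mul_sum]
    refine Finset.sum_congr rfl fun j _ => ?_
    rw [intervalIntegral.integral_finsetSum]
    swap
    · intro k _; exact (by fun_prop : Continuous _).intervalIntegrable _ _
    simp only [intervalIntegral.integral_const_mul, horth]
    rw [Finset.sum_eq_single ((j : ℤ) - (i : ℤ))]
    · rw [if_pos (by ring), hA]
      simp [Pi.star_apply]; ring
    · intro k _ hk
      rw [if_neg (by omega), mul_zero]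
    · intro h
      exfalso
      apply h
      rw [Finset.mem_Ioo]
      have := i.2; have := j.2
      omega
  have hre : ∀ y, G y = ((starRingEnd ℂ) (X y) * X y * F y).re := by
    intro y
    rw [← Complex.normSq_eq_conj_mul_self, Complex.re_ofReal_mul, hG]
    ring
  have hI2 : ∫ y in (0 : ℝ)..(2 * Real.pi), G y = 2 * Real.pi * S.re := by
    simp only [hre]
    have := Complex.reCLM.intervalIntegral_comp_comm
      ((by fun_prop : Continuous fun y : ℝ => (starRingEnd ℂ) (X y) * X y * F y).intervalIntegrable (0 : ℝ) (2 * Real.pi))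
      (μ := MeasureTheory.volume)
    simp only [Complex.reCLM_apply] at this
    rw [this, hIc, Complex.re_ofReal_mul]
  rw [hI2] at hint
  have hs : star S = S := by
    rw [hS, ← Matrix.star_dotProduct, Matrix.star_mulVec, hH.eq, ← Matrix.dotProduct_mulVec]
  have him : S.im = 0 := Complex.conj_eq_iff_im.mp hs
  exact Complex.pos_iff.mpr ⟨(pos_iff_pos_of_mul_pos hint).mp hpi, him.symm⟩

end Groth.Agent.S19019
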