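import Groth.Statements.S1902
import Groth.Agent.H3Cyc.P1Closed
-- import your own Groth.Agent.* helpers here

set_option autoImplicit false
universe u
open CategoryTheory AlgebraicGeometry
open CategoryTheory.Limits
open Cyc
open Groth.Agent
open Groth.Agent.H3Cyc

namespace Groth.Agent.S1902

/-- Let Z → P^1_X be a closed immersion with δP ≤ k + 1 on Z, δP ≤ k at the points of Z lying on Z_0 or
Z_∞, and such that every associated point ζ of Z (a point where the maximal ideal of O_{Z,ζ} is an
associated prime of O_{Z,ζ}) either lies on neither section or has δP(ζ) < k. Then [Z_0]_k ∼_rat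
[Z_∞]_k on X. (The published statement asks the last condition only of embedded points of Z; in that
form it fails when an irreducible component of Z of δ-dimension k lies inside Z_0 or Z_∞ — for X the
spectrum of a field, k = 0 and Z the point 0 of P^1_X one gets [Z_0]_0 = [X] but [Z_∞]_0 = 0 — so
what is required here is that no point of Z_0 ∪ Z_∞ with δP = k is an associated point of Z.) Here
P^1_X → X is the projective line over X with its dimension function δP induced from δ, s₀, s_∞ : X →
P^1_X are the sections at 0 and ∞, and for a closed subscheme Z → P^1_X the closed subschemes Z_0,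
Z_∞ → X are its pullbacks along the two sections. Here a pair (X, δ) satisfying Cyc.IsSetup (X
locally Noetherian with universally catenary local rings, δ a dimension function) plays the role of
a scheme locally of finite type over a fixed base equipped with a dimension function, and
Cyc.DeltaCompat records that the dimension function on P^1_X is the induced one. -/
theorem result (X : Scheme.{u}) (δ : X → ℤ) (hX : Cyc.IsSetup X δ) (δP : ↥(CohB1.ProjSpaceOver 1 X) → ℤ) (hP : Cyc.DeltaCompat (CohB1.ProjSpaceOver.toBase 1 X) δP δ) (k : ℤ) (Z : Scheme.{u}) (ι : Z ⟶ CohB1.ProjSpaceOver 1 X) [IsClosedImmersion ι] (hZ : ∀ z : Z, δP (ι z) ≤ k + 1) (hZ0 : ∀ z : Z, ι z ∈ Set.range ⇑(P1.sect X 0) ∪ Set.range ⇑(P1.sect X 1) → δP (ι z) ≤ k) (hemb : ∀ z : Z, IsAssociatedPrime (IsLocalRing.maximalIdeal (Z.presheaf.stalk z)) (Z.presheaf.stalk z) → ι z ∉ Set.range ⇑(P1.sect X 0) ∪ Set.range ⇑(P1.sect X 1) ∨ δP (ι z) < k) (α β : AlgebraicCycle X ℤ) (hα : ⇑α = Cyc.subschemeFun δ k (pullback.snd ι (P1.sect X 0))) (hβ : ⇑β = Cyc.subschemeFun δ k (pullback.snd ι (P1.sect X 1))) : Cyc.RatEquiv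 δ k α β := by
  exact P1C.ratEquiv_fibres_closed ι hX hP k hZ hZ0 hemb α β hα hβ

end Groth.Agent.S1902
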