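import Groth.Statements.S19021
import Groth.Agent.H26Misc.BinomGram
import Mathlib.LinearAlgebra.Matrix.ToLinearEquiv

set_option autoImplicit false
open Toeplitz

namespace Groth.Agent.S19021

/-- For natural numbers n and m, the m × m integer Toeplitz matrix with (i, j) entry (-1)^(i+j) ·
C(2n+1, n+1+i-j) (the binomial coefficient being 0 outside the range 0 ≤ n+1+i-j ≤ 2n+1;
equivalently s_k = (-1)^k C(2n+1, n+k+1) on the diagonal i - j = k for -n-1 ≤ k ≤ n and zero beyond)
is nondegenerate: its determinant is nonzero (m = 0 is the empty matrix, of determinant 1). -/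
theorem result (n m : ℕ) :
    (Matrix.of fun i j : Fin m =>
        (-1 : ℤ) ^ ((i : ℕ) + (j : ℕ)) *
          (if (j : ℕ) ≤ (i : ℕ) then (Nat.choose (2 * n + 1) (n + 1 + ((i : ℕ) - (j : ℕ))) : ℤ)
            else (Nat.choose (2 * n + 1) (n + ((j : ℕ) - (i : ℕ))) : ℤ))).det ≠ 0 := by
  classical
  set M : Matrix (Fin m) (Fin m) ℤ := Matrix.of fun i j : Fin m =>
      (-1 : ℤ) ^ ((i : ℕ) + (j : ℕ)) *
        (if (j : ℕ) ≤ (i : ℕ) then (Nat.choose (2 * n + 1) (n + 1 + ((i : ℕ) - (j : ℕ))) : ℤ)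
          else (Nat.choose (2 * n + 1) (n + ((j : ℕ) - (i : ℕ))) : ℤ)) with hM
  intro h0
  have hdet : (M.map fun a : ℤ => (a : ℝ)).det = 0 := by
    have := (Int.castRingHom ℝ).map_det M
    rw [h0, map_zero] at this
    exact this.symm
  obtain ⟨x, hx, hMx⟩ := Matrix.exists_mulVec_eq_zero_iff.mpr hdet
  have hsum : ∀ i j : Fin m, (M i j : ℝ) + (M j i : ℝ) =
      (-1 : ℝ) ^ ((i : ℕ) + (j : ℕ)) * (Nat.choose (2 * (n + 1)) (n + 1 + Nat.dist i j) : ℝ) := by
    have key : ∀ d, (Nat.choose (2 * n + 1) (n + 1 + d) : ℝ) + (Nat.choose (2 * n + 1) (n + d) : ℝ) =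
        (Nat.choose (2 * (n + 1)) (n + 1 + d) : ℝ) := by
      intro d
      conv_rhs => rw [show 2 * (n + 1) = (2 * n + 1) + 1 by ring, show n + 1 + d = (n + d) + 1 by ring,
        Nat.choose_succ_succ']
      rw [show n + 1 + d = (n + d) + 1 by ring]
      push_cast; ring
    have key0 : (Nat.choose (2 * n + 1) (n + 1) : ℝ) + (Nat.choose (2 * n + 1) (n + 1) : ℝ) =
        (Nat.choose (2 * (n + 1)) (n + 1 + 0) : ℝ) := by
      rw [← key 0, add_zero, add_zero, Nat.choose_symm_half]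
    intro i j
    rcases lt_trichotomy (i : ℕ) (j : ℕ) with h | h | h
    · rw [Nat.dist_eq_sub_of_le h.le, ← key, hM]
      simp only [Matrix.of_apply, if_neg (Nat.not_le.mpr h), if_pos h.le]
      push_cast
      rw [add_comm (j : ℕ) (i : ℕ)]; ring
    · obtain rfl : i = j := Fin.ext h
      rw [Nat.dist_self, ← key0]
      simp [hM]
    · rw [Nat.dist_eq_sub_of_le_right h.le, ← key, hM]
      simp only [Matrix.of_apply, if_neg (Nat.not_le.mpr h), if_pos h.le]
      push_cast
      rw [add_comm (j : ℕ) (i : ℕ)]; ring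
  have hpos := H26Misc.binom_quadForm_pos (n + 1) m hx
  have hz : ∑ i : Fin m, ∑ j : Fin m, x i * (M i j : ℝ) * x j = 0 := by
    have := congrArg (fun v => ∑ i : Fin m, x i * v i) hMx
    simpa [Matrix.mulVec, dotProduct, Finset.mul_sum, mul_assoc] using this
  have hz' : ∑ i : Fin m, ∑ j : Fin m, x i * (M j i : ℝ) * x j = 0 := by
    rw [Finset.sum_comm, ← hz]
    exact Finset.sum_congr rfl fun i _ => Finset.sum_congr rfl fun j _ => by ring
  have : ∑ i : Fin m, ∑ j : Fin m, x i * ((M i j : ℝ) + (M j i : ℝ)) * x j = 0 := by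
    simp only [mul_add, add_mul, Finset.sum_add_distrib, hz, hz', add_zero]
  simp only [hsum] at this
  linarith

end Groth.Agent.S19021
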