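import Groth.Statements.S19025
import Mathlib

set_option autoImplicit false
universe u
open HigherRestr

namespace Groth.Agent.S19025

theorem key {S : Type*} [CommRing S] (I : Ideal S) (g₀ g₁ : S) (hg : g₁ - g₀ ∈ I)
    (N : ℕ) : ∀ (m : ℕ) (y : ℕ → S),
      (∀ i : ℕ, 1 ≤ i → i ≤ N → (fwdDiff (1 : ℕ))^[N - i] y i ∈ I ^ (N - i + m)) →
      (fwdDiff (1 : ℕ))^[N] (fun j : ℕ => g₀ ^ (N - j) * g₁ ^ j * y j) 0 -
        g₀ ^ N * (fwdDiff (1 : ℕ))^[N] y 0 ∈ I ^ (N + m) := by
  induction N with
  | zero => intro m y _; simp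
  | succ N ih =>
    intro m y hy
    let sh : ℕ → S := fun j => y (j + 1)
    have h1 := ih m sh (fun i _ hi => by
      rw [fwdDiff_iter_comp_add]
      have := hy (i + 1) (by omega) (by omega)
      rwa [Nat.succ_sub_succ] at this)
    have h1' : (fwdDiff (1 : ℕ))^[N] (fun j : ℕ => g₀ ^ (N - j) * g₁ ^ j * sh j) 0 ∈ I ^ (N + m) := by
      have h2 : g₀ ^ N * (fwdDiff (1 : ℕ))^[N] sh 0 ∈ I ^ (N + m) := by
        refine Ideal.mul_mem_left _ _ ?_
        rw [fwdDiff_iter_comp_add]
        simpa using hy 1 le_rfl (by omega)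
      simpa using add_mem h1 h2
    have h3 := ih (m + 1) (fwdDiff (1 : ℕ) y) (fun i hi hi' => by
      rw [← Function.iterate_succ_apply, show (N - i).succ = N + 1 - i by omega,
        show N - i + (m + 1) = N + 1 - i + m by omega]
      exact hy i hi (by omega))
    have e : (fwdDiff (1 : ℕ))^[N + 1] (fun j : ℕ => g₀ ^ (N + 1 - j) * g₁ ^ j * y j) 0 =
        (g₁ - g₀) * (fwdDiff (1 : ℕ))^[N] (fun j : ℕ => g₀ ^ (N - j) * g₁ ^ j * sh j) 0 +
        g₀ * (fwdDiff (1 : ℕ))^[N] (fun j : ℕ => g₀ ^ (N - j) * g₁ ^ j * fwdDiff (1 : ℕ) y j) 0 := by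
      rw [Function.iterate_succ_apply]
      simp only [fwdDiff_iter_eq_sum_shift]
      rw [Finset.mul_sum, Finset.mul_sum, ← Finset.sum_add_distrib]
      refine Finset.sum_congr rfl fun j hj => ?_
      have hjN : j ≤ N := Nat.lt_succ_iff.1 (Finset.mem_range.1 hj)
      simp only [smul_eq_mul, mul_one, zero_add, zsmul_eq_mul, fwdDiff, sh]
      rw [show N + 1 - (j + 1) = N - j by omega, show N + 1 - j = N - j + 1 by omega]
      ring
    rw [e, Function.iterate_succ_apply, pow_succ' g₀, mul_assoc, add_sub_assoc, ← mul_sub]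
    refine add_mem ?_ (Ideal.mul_mem_left _ _ (by rwa [show N + 1 + m = N + (m + 1) by omega]))
    rw [show N + 1 + m = (N + m) + 1 by omega, pow_succ']
    exact Ideal.mul_mem_mul hg h1'


/-- In abstract form, the estimate its proof establishes. Let S be a commutative ring, I an ideal of S,
g₀ and g₁ elements with g₁ - g₀ ∈ I, N a natural number and y a sequence in S such that, for 1 ≤ i ≤
N, the (N-i)-fold unit-step forward difference of y taken at i lies in I^(N-i). Then g₀^N times the
N-fold forward difference of y at 0, minus the N-fold forward difference at 0 of the twisted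
sequence j ↦ g₀^(N-j) g₁^j y_j, lies in I^N. (In the source S is the ring of functions on an affine
chart of X^n, I the ideal of a pairwise diagonal, g₀ and g₁ the two pullbacks of a transition unit
of L, and y_j the components x_λ along the compositions a₀^(N-j) a₁^j μ; the estimate is what makes
the higher order restrictions D^l_L well defined on ker D^(l-1)_L independently of the
trivialisation.) -/
theorem result
    (S : Type u) [CommRing S] (I : Ideal S) (g₀ g₁ : S) (hg : g₁ - g₀ ∈ I)
    (N : ℕ) (y : ℕ → S)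
    (hy : ∀ i : ℕ, 1 ≤ i → i ≤ N → (fwdDiff (1 : ℕ))^[N - i] y i ∈ I ^ (N - i)) :
    g₀ ^ N * (fwdDiff (1 : ℕ))^[N] y 0 -
        (fwdDiff (1 : ℕ))^[N] (fun j : ℕ => g₀ ^ (N - j) * g₁ ^ j * y j) 0 ∈ I ^ N := by
  have := key I g₀ g₁ hg N 0 y (fun i h1 h2 => by simpa using hy i h1 h2)
  rw [← neg_mem_iff, neg_sub]
  simpa using this

end Groth.Agent.S19025
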