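import Groth.Statements.S19027
import Groth.Agent.H17.GorCurve.Balanced
import Groth.Agent.S20028

set_option autoImplicit false
universe u
open CategoryTheory CategoryTheory.Limits AlgebraicGeometry
attribute [local instance] HasDerivedCategory.standard
open Curves

namespace Groth.Agent.S19027

/-- Let k be an algebraically closed field and X a connected reduced Gorenstein curve over k of genus g
≥ 2: X is proper over k, reduced, connected, of dimension one, and its dualizing module ω_X (the
degree −1 cohomology sheaf of f^! O for the structure morphism f, for any choice of the data Rf_* on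
D_QCoh with its right adjoint) is invertible; g = dim_k H^1(X, O_X). A connected subcurve Z of X is
a reduced connected closed subscheme of dimension one, deg_Z of a module means the degree of its
pullback to Z, g_Z = dim_k H^1(Z, O_Z), and k_Z is the length (k-dimension of global sections of the
structure sheaf) of the scheme-theoretic intersection of Z with the reduced closed subscheme
supported on the closure of X ∖ Z. Let L be an invertible module of degree d which is balanced: for
every connected subcurve Z, |deg_Z L − (d/(2g−2)) deg_Z ω_X| ≤ k_Z/2 (written cleared of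
denominators). Assume d > 3(g − 1). Under this bound, ampleness of L is equivalent to X being
G-quasistable together with deg_Z L = 1 on each exceptional subcurve Z; here G-quasistable means
that deg_Z ω_X ≥ 0 for every connected subcurve Z and that every exceptional subcurve Z (connected,
with deg_Z ω_X = 0) is irreducible (for an exceptional subcurve, irreducibility is equivalent to
being a projective line, since such a subcurve has genus zero and meets the rest of X in a scheme of
length two). -/
theorem result (k : Type u) [Field k] [IsAlgClosed k] (X : Scheme.{u}) [X.Over (Spec (CommRingCat.of k))]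
    [IsProper (X ↘ (Spec (CommRingCat.of k)))] [AlgebraicGeometry.IsReduced X] [ConnectedSpace X] (hdim : topologicalKrullDim X = 1)
    [DCoh.HasRpush (X ↘ (Spec (CommRingCat.of k)))] (h : DCoh.RpushPreservesQCoh (X ↘ (Spec (CommRingCat.of k)))) [DCoh.HasShriek (X ↘ (Spec (CommRingCat.of k))) h]
    (OY : DCoh.DQCoh (Spec (CommRingCat.of k)))
    (hOY : Nonempty (OY.obj ≅ DCoh.inD (Spec (CommRingCat.of k)) (Coh.structureModule (Spec (CommRingCat.of k)))))
    (hGor : PicF.IsInvertible (DCoh.dualizingMod (X ↘ (Spec (CommRingCat.of k))) h OY 1)) (hg : 2 ≤ Curv2.genus k X)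
    (L : X.Modules) (hL : PicF.IsInvertible L)
    (hbal : ∀ J : X.IdealSheafData, AlgebraicGeometry.IsReduced J.subscheme → ConnectedSpace J.subscheme →
      topologicalKrullDim J.subscheme = 1 →
      |2 * (2 * (Curv2.genus k X : ℤ) - 2) * @Curv2.deg k _ J.subscheme ⟨J.subschemeι ≫ (X ↘ (Spec (CommRingCat.of k)))⟩ ((Scheme.Modules.pullback J.subschemeι).obj L) 1
          - 2 * Curv2.deg k X L 1 * @Curv2.deg k _ J.subscheme ⟨J.subschemeι ≫ (X ↘ (Spec (CommRingCat.of k)))⟩ ((Scheme.Modules.pullback J.subschemeι).obj (DCoh.dualizingMod (X ↘ (Spec (CommRingCat.of k))) h OY 1)) 1|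
        ≤ (2 * (Curv2.genus k X : ℤ) - 2) * (Module.finrank k (Coh.HH X (ClSub.quotMod (J ⊔ (Scheme.IdealSheafData.vanishingIdeal ⟨closure ((J.support : Set X)ᶜ), isClosed_closure⟩))) 0) : ℤ))
    (hd : 3 * ((Curv2.genus k X : ℤ) - 1) < Curv2.deg k X L 1) :
    CohB1.IsAmple L ↔
      ((∀ J : X.IdealSheafData, AlgebraicGeometry.IsReduced J.subscheme → ConnectedSpace J.subscheme →
      topologicalKrullDim J.subscheme = 1 →
        0 ≤ @Curv2.deg k _ J.subscheme ⟨J.subschemeι ≫ (X ↘ (Spec (CommRingCat.of k)))⟩ ((Scheme.Modules.pullback J.subschemeι).obj (DCoh.dualizingMod (X ↘ (Spec (CommRingCat.of k))) h OY 1)) 1) ∧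
      (∀ J : X.IdealSheafData, AlgebraicGeometry.IsReduced J.subscheme → ConnectedSpace J.subscheme →
      topologicalKrullDim J.subscheme = 1 →
        @Curv2.deg k _ J.subscheme ⟨J.subschemeι ≫ (X ↘ (Spec (CommRingCat.of k)))⟩ ((Scheme.Modules.pullback J.subschemeι).obj (DCoh.dualizingMod (X ↘ (Spec (CommRingCat.of k))) h OY 1)) 1 = 0 → IrreducibleSpace J.subscheme) ∧
      (∀ J : X.IdealSheafData, AlgebraicGeometry.IsReduced J.subscheme → ConnectedSpace J.subscheme →
      topologicalKrullDim J.subscheme = 1 →
        @Curv2.deg k _ J.subscheme ⟨J.subschemeι ≫ (X ↘ (Spec (CommRingCat.of k)))⟩ ((Scheme.Modules.pullback J.subschemeι).obj (DCoh.dualizingMod (X ↘ (Spec (CommRingCat.of k))) h OY 1)) 1 = 0 → @Curv2.deg k _ J.subscheme ⟨J.subschemeι ≫ (X ↘ (Spec (CommRingCat.of k)))⟩ ((Scheme.Modules.pullback J.subschemeι).obj L) 1 = 1)) := by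
  have hω := Groth.Agent.H17.GorCurve.isDualizing_dualizingMod (k := k) hdim.le h OY hOY hGor
  obtain ⟨G, hG⟩ : ∃ G : ℤ, G = 2 * (Curv2.genus k X : ℤ) - 2 := ⟨_, rfl⟩
  have hG2 : 2 ≤ G := by omega
  constructor
  · intro hamp
    have hd' : (Curv2.genus k X : ℤ) - 1 ≤ Curv2.deg k X L 1 := by omega
    exact Groth.Agent.S20028.result k X hdim h OY hOY hGor hg L hL hbal hd' hamp
  · rintro ⟨hss, -, hexc⟩
    refine Groth.Agent.H17.GorCurve.isAmple_of_degJ_pos (k := k) hdim hL fun J hr hc hJ => ?_
    haveI := hr; haveI := hc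
    obtain ⟨hD, hcase⟩ := Groth.Agent.H17.GorCurve.numerics (k := k) hdim hω hL J hJ
    simp only [Groth.Agent.H17.GorCurve.degJ, Groth.Agent.H17.GorCurve.deltaJ,
      Groth.Agent.H17.GorCurve.overJ] at hD hcase
    have hb := hbal J hr hc hJ
    rw [← hG, abs_le] at hb
    obtain ⟨hb₁, hb₂⟩ := hb
    have hD0 := hss J hr hc hJ
    simp only [Groth.Agent.H17.GorCurve.degJ, Groth.Agent.H17.GorCurve.overJ]
    rcases hcase with ⟨h1, h2, h3⟩ | hδ
    · omega
    · rcases eq_or_lt_of_le hD0 with h | h
      · have := hexc J hr hc hJ h.symm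
        omega
      · nlinarith

end Groth.Agent.S19027
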