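import Groth.Statements.S19030
import Groth.Agent.H17.GorCurve.Balanced

set_option autoImplicit false
universe u
open CategoryTheory CategoryTheory.Limits AlgebraicGeometry
attribute [local instance] HasDerivedCategory.standard
open Curves

namespace Groth.Agent.S19030

/-- Let k be an algebraically closed field and X a connected reduced Gorenstein curve over k of genus g
≥ 2: X is proper over k, reduced, connected, of dimension one, and its dualizing module ω_X (the
degree −1 cohomology sheaf of f^! O for the structure morphism f, for any choice of the data Rf_* on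
D_QCoh with its right adjoint) is invertible; g = dim_k H^1(X, O_X). A connected subcurve Z of X is
a reduced connected closed subscheme of dimension one, deg_Z of a module means the degree of its
pullback to Z, g_Z = dim_k H^1(Z, O_Z), and k_Z is the length (k-dimension of global sections of the
structure sheaf) of the scheme-theoretic intersection of Z with the reduced closed subscheme
supported on the closure of X ∖ Z. Let L be an invertible module of degree d which is balanced: for
every connected subcurve Z, |deg_Z L − (d/(2g−2)) deg_Z ω_X| ≤ k_Z/2 (written cleared of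
denominators). If L is ample and d > 5(g − 1), then deg_Z L > 2 g_Z for every connected subcurve Z
of X. (The source concludes that L is very ample and normally generated; what its proof establishes
is the inequality stated here, from which it derives those properties by a criterion for reduced
Gorenstein curves that it cites without proof.) -/
theorem result (k : Type u) [Field k] [IsAlgClosed k] (X : Scheme.{u}) [X.Over (Spec (CommRingCat.of k))]
    [IsProper (X ↘ (Spec (CommRingCat.of k)))] [AlgebraicGeometry.IsReduced X] [ConnectedSpace X] (hdim : topologicalKrullDim X = 1)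
    [DCoh.HasRpush (X ↘ (Spec (CommRingCat.of k)))] (h : DCoh.RpushPreservesQCoh (X ↘ (Spec (CommRingCat.of k)))) [DCoh.HasShriek (X ↘ (Spec (CommRingCat.of k))) h]
    (OY : DCoh.DQCoh (Spec (CommRingCat.of k)))
    (hOY : Nonempty (OY.obj ≅ DCoh.inD (Spec (CommRingCat.of k)) (Coh.structureModule (Spec (CommRingCat.of k)))))
    (hGor : PicF.IsInvertible (DCoh.dualizingMod (X ↘ (Spec (CommRingCat.of k))) h OY 1)) (hg : 2 ≤ Curv2.genus k X)
    (L : X.Modules) (hL : PicF.IsInvertible L)
    (hbal : ∀ J : X.IdealSheafData, AlgebraicGeometry.IsReduced J.subscheme → ConnectedSpace J.subscheme →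
      topologicalKrullDim J.subscheme = 1 →
      |2 * (2 * (Curv2.genus k X : ℤ) - 2) * @Curv2.deg k _ J.subscheme ⟨J.subschemeι ≫ (X ↘ (Spec (CommRingCat.of k)))⟩ ((Scheme.Modules.pullback J.subschemeι).obj L) 1
          - 2 * Curv2.deg k X L 1 * @Curv2.deg k _ J.subscheme ⟨J.subschemeι ≫ (X ↘ (Spec (CommRingCat.of k)))⟩ ((Scheme.Modules.pullback J.subschemeι).obj (DCoh.dualizingMod (X ↘ (Spec (CommRingCat.of k))) h OY 1)) 1|
        ≤ (2 * (Curv2.genus k X : ℤ) - 2) * (Module.finrank k (Coh.HH X (ClSub.quotMod (J ⊔ (Scheme.IdealSheafData.vanishingIdeal ⟨closure ((J.support : Set X)ᶜ), isClosed_closure⟩))) 0) : ℤ))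
    (hamp : CohB1.IsAmple L)
    (hd : 5 * ((Curv2.genus k X : ℤ) - 1) < Curv2.deg k X L 1) :
    ∀ J : X.IdealSheafData, AlgebraicGeometry.IsReduced J.subscheme → ConnectedSpace J.subscheme →
      topologicalKrullDim J.subscheme = 1 →
      2 * (@Curv2.genus k _ J.subscheme ⟨J.subschemeι ≫ (X ↘ (Spec (CommRingCat.of k)))⟩ : ℤ) < @Curv2.deg k _ J.subscheme ⟨J.subschemeι ≫ (X ↘ (Spec (CommRingCat.of k)))⟩ ((Scheme.Modules.pullback J.subschemeι).obj L) 1 := by
  have hω := Groth.Agent.H17.GorCurve.isDualizing_dualizingMod (k := k) hdim.le h OY hOY hGor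
  obtain ⟨G, hG⟩ : ∃ G : ℤ, G = 2 * (Curv2.genus k X : ℤ) - 2 := ⟨_, rfl⟩
  have hG2 : 2 ≤ G := by omega
  intro J hr hc hJ
  haveI := hr; haveI := hc
  obtain ⟨hD, hcase⟩ := Groth.Agent.H17.GorCurve.numerics (k := k) hdim hω hL J hJ
  simp only [Groth.Agent.H17.GorCurve.degJ, Groth.Agent.H17.GorCurve.deltaJ,
    Groth.Agent.H17.GorCurve.overJ] at hD hcase
  have hb := hbal J hr hc hJ
  rw [← hG, abs_le] at hb
  obtain ⟨hb₁, hb₂⟩ := hb
  have hpos := Groth.Agent.H17.GorCurve.degJ_pos_of_ample (k := k) hdim.le hamp J hJ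
  simp only [Groth.Agent.H17.GorCurve.degJ, Groth.Agent.H17.GorCurve.overJ] at hpos
  rcases hcase with ⟨h1, h2, h3⟩ | hδ
  · omega
  · rcases lt_trichotomy (2 * (@Curv2.genus k _ J.subscheme ⟨J.subschemeι ≫ (X ↘ (Spec (CommRingCat.of k)))⟩ : ℤ) - 2 +
        (Module.finrank k (Coh.HH X (ClSub.quotMod (J ⊔ (Scheme.IdealSheafData.vanishingIdeal
          ⟨closure ((J.support : Set X)ᶜ), isClosed_closure⟩))) 0) : ℤ)) 0 with h | h | h
    · nlinarith
    · omega
    · rw [hD] at hb₁
      generalize hγ : (@Curv2.genus k _ J.subscheme ⟨J.subschemeι ≫ (X ↘ (Spec (CommRingCat.of k)))⟩ : ℤ) = γ at *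
      generalize hδ' : (Module.finrank k (Coh.HH X (ClSub.quotMod (J ⊔ (Scheme.IdealSheafData.vanishingIdeal
          ⟨closure ((J.support : Set X)ᶜ), isClosed_closure⟩))) 0) : ℤ) = δ at *
      generalize ha' : (@Curv2.deg k _ J.subscheme ⟨J.subschemeι ≫ (X ↘ (Spec (CommRingCat.of k)))⟩
        ((Scheme.Modules.pullback J.subschemeι).obj L) 1) = a at *
      have key : 5 * (2 * γ - 2 + δ) - δ < 2 * a := by nlinarith
      omega

end Groth.Agent.S19030
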