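import Groth.Statements.S19032
import Groth.Agent.H17.GorCurve.Balanced

set_option autoImplicit false
universe u
open CategoryTheory CategoryTheory.Limits AlgebraicGeometry
attribute [local instance] HasDerivedCategory.standard
open Curves

namespace Groth.Agent.S19032

/-- Let k be an algebraically closed field and X a connected reduced Gorenstein curve over k of genus g
≥ 2: X is proper over k, reduced, connected, of dimension one, and its dualizing module ω_X (the
degree −1 cohomology sheaf of f^! O for the structure morphism f, for any choice of the data Rf_* on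
D_QCoh with its right adjoint) is invertible; g = dim_k H^1(X, O_X). If X is G-semistable, i.e. the
pullback of ω_X to every reduced connected closed subscheme of dimension one has non-negative
degree, then for every i ≥ 2 the tensor power ω_X^{⊗ i} is non-special (H^1(X, ω_X^{⊗ i}) = 0) and
globally generated. -/
theorem result (k : Type u) [Field k] [IsAlgClosed k] (X : Scheme.{u}) [X.Over (Spec (CommRingCat.of k))]
    [IsProper (X ↘ (Spec (CommRingCat.of k)))] [AlgebraicGeometry.IsReduced X] [ConnectedSpace X] (hdim : topologicalKrullDim X = 1)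
    [DCoh.HasRpush (X ↘ (Spec (CommRingCat.of k)))] (h : DCoh.RpushPreservesQCoh (X ↘ (Spec (CommRingCat.of k)))) [DCoh.HasShriek (X ↘ (Spec (CommRingCat.of k))) h]
    (OY : DCoh.DQCoh (Spec (CommRingCat.of k)))
    (hOY : Nonempty (OY.obj ≅ DCoh.inD (Spec (CommRingCat.of k)) (Coh.structureModule (Spec (CommRingCat.of k)))))
    (hGor : PicF.IsInvertible (DCoh.dualizingMod (X ↘ (Spec (CommRingCat.of k))) h OY 1)) (hg : 2 ≤ Curv2.genus k X)
    (hss : ∀ J : X.IdealSheafData, AlgebraicGeometry.IsReduced J.subscheme → ConnectedSpace J.subscheme →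
      topologicalKrullDim J.subscheme = 1 →
      0 ≤ @Curv2.deg k _ J.subscheme ⟨J.subschemeι ≫ (X ↘ (Spec (CommRingCat.of k)))⟩ ((Scheme.Modules.pullback J.subschemeι).obj (DCoh.dualizingMod (X ↘ (Spec (CommRingCat.of k))) h OY 1)) 1)
    (i : ℕ) (hi : 2 ≤ i) :
    Subsingleton (Coh.HH X (CohB1.tensorPow (DCoh.dualizingMod (X ↘ (Spec (CommRingCat.of k))) h OY 1) i) 1) ∧ Curv2.IsGloballyGenerated (CohB1.tensorPow (DCoh.dualizingMod (X ↘ (Spec (CommRingCat.of k))) h OY 1) i) := by
  have hω := Groth.Agent.H17.GorCurve.isDualizing_dualizingMod (k := k) hdim.le h OY hOY hGor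
  obtain ⟨G, hG⟩ : ∃ G : ℤ, G = 2 * (Curv2.genus k X : ℤ) - 2 := ⟨_, rfl⟩
  have hG2 : 2 ≤ G := by omega
  have hp := Groth.Agent.H11Ample.isInvertible_tensorPow hGor i
  refine ⟨Groth.Agent.H17.GorCurve.subsingleton_h1_of_degJ (k := k) hdim hp fun J hr hc hJ => ?_,
    Groth.Agent.H29CurveDual.Subcurve.isGloballyGenerated_of_deg_ge_subcurves (k := k) hdim hp fun J hr hc hJ => ?_⟩
  ·
    haveI := hr; haveI := hc
    obtain ⟨hD, hcase⟩ := Groth.Agent.H17.GorCurve.numerics (k := k) hdim hω hGor J hJ
    simp only [Groth.Agent.H17.GorCurve.degJ, Groth.Agent.H17.GorCurve.deltaJ,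
      Groth.Agent.H17.GorCurve.overJ] at hD hcase
    have hD0 := hss J hr hc hJ
    rw [Groth.Agent.H17.GorCurve.euler_subcurve (k := k) hdim.le J,
      Groth.Agent.H17.GorCurve.degJ_tensorPow (k := k) hdim.le J hGor i]
    simp only [Groth.Agent.H17.GorCurve.degJ, Groth.Agent.H17.GorCurve.overJ]
    have hi' : (2 : ℤ) ≤ i := by exact_mod_cast hi
    rcases hcase with ⟨h1, h2, h3⟩ | hδ <;> nlinarith
  ·
    haveI := hr; haveI := hc
    obtain ⟨hD, hcase⟩ := Groth.Agent.H17.GorCurve.numerics (k := k) hdim hω hGor J hJ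
    simp only [Groth.Agent.H17.GorCurve.degJ, Groth.Agent.H17.GorCurve.deltaJ,
      Groth.Agent.H17.GorCurve.overJ] at hD hcase
    have hD0 := hss J hr hc hJ
    have e := Groth.Agent.H17.GorCurve.degJ_tensorPow (k := k) hdim.le J hGor i
    simp only [Groth.Agent.H17.GorCurve.degJ, Groth.Agent.H17.GorCurve.overJ] at e
    rw [e]
    have hi' : (2 : ℤ) ≤ i := by exact_mod_cast hi
    rcases hcase with ⟨h1, h2, h3⟩ | hδ
    · nlinarith
    · rcases eq_or_lt_of_le hD0 with h | h
      · rw [← h, mul_zero]; omega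
      · nlinarith

end Groth.Agent.S19032
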