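import Groth.Statements.S19035
import Mathlib.RingTheory.AdicCompletion.Algebra
import Mathlib.RingTheory.PicardGroup
import Mathlib.RingTheory.RegularLocalRing.Defs
import Mathlib.RingTheory.SimpleRing.Principal
import Mathlib.RingTheory.WittVector.Basic

set_option autoImplicit false
universe u v w x
open CAlg

namespace Groth.Agent.S19035

/-- Let p be a prime and k a perfect field of characteristic p. Let (A_i) be a directed system of
finitely generated commutative k-algebras, indexed by a nonempty directed preorder, with compatible
k-algebra transition maps, and let B be a finitely generated k-algebra with compatible k-algebra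
maps A_i → B which present B as the direct limit of the system (every element of B is the image of
an element of some A_i, and two elements of some A_i with the same image in B have the same image in
some A_j). Then the p-typical Witt vectors commute with this direct limit: every Witt vector over B
is the image of a Witt vector over some A_i, and two Witt vectors over some A_i with the same image
over B already have the same image over some A_j. (Both finiteness hypotheses matter: for an
arbitrary filtered direct limit of commutative rings either assertion can fail.) -/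
theorem result
    (p : ℕ) [Fact p.Prime] (k : Type u) [Field k] [CharP k p] [PerfectRing k p]
    {ι : Type v} [Preorder ι] [IsDirected ι (· ≤ ·)] [Nonempty ι]
    (A : ι → Type w) [∀ i, CommRing (A i)] [∀ i, Algebra k (A i)]
    [∀ i, Algebra.FiniteType k (A i)]
    (f : ∀ i j, i ≤ j → (A i →ₐ[k] A j))
    (hf : ∀ i j l (hij : i ≤ j) (hjl : j ≤ l) (x : A i),
      f j l hjl (f i j hij x) = f i l (hij.trans hjl) x)
    (B : Type x) [CommRing B] [Algebra k B] [Algebra.FiniteType k B]
    (g : ∀ i, A i →ₐ[k] B)
    (hfg : ∀ i j (hij : i ≤ j) (x : A i), g j (f i j hij x) = g i x)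
    (hsurj : ∀ b : B, ∃ i, ∃ x : A i, g i x = b)
    (hinj : ∀ i (x y : A i), g i x = g i y → ∃ j, ∃ hij : i ≤ j, f i j hij x = f i j hij y) :
    (∀ w : WittVector p B, ∃ i, ∃ v : WittVector p (A i),
        WittVector.map (g i).toRingHom v = w) ∧
    (∀ i (v v' : WittVector p (A i)),
        WittVector.map (g i).toRingHom v = WittVector.map (g i).toRingHom v' →
        ∃ j, ∃ hij : i ≤ j,
          WittVector.map (f i j hij).toRingHom v = WittVector.map (f i j hij).toRingHom v') := by
  classical
  obtain ⟨T, hT⟩ := Algebra.FiniteType.out (R := k) (A := B)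
  choose c y hy using hsurj
  obtain ⟨i₀, hi₀⟩ := Finset.exists_le (T.image c)
  have hgs : Function.Surjective (g i₀) := by
    rw [← AlgHom.range_eq_top, eq_top_iff, ← hT]
    refine Algebra.adjoin_le fun b hb ↦ ?_
    have hle : c b ≤ i₀ := hi₀ _ (Finset.mem_image_of_mem c hb)
    exact ⟨f _ _ hle (y b), (hfg _ _ hle _).trans (hy b)⟩
  refine ⟨fun w ↦ ⟨i₀, WittVector.map_surjective (g i₀).toRingHom hgs w⟩, fun i v v' hvv ↦ ?_⟩
  have : IsNoetherianRing (A i) := Algebra.FiniteType.isNoetherianRing k (A i)
  obtain ⟨S, hS⟩ := IsNoetherian.noetherian (RingHom.ker (g i).toRingHom)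
  have hk : ∀ x ∈ S, ∃ j, ∃ hij : i ≤ j, f i j hij x = 0 := fun x hx ↦ by
    have hx' : g i x = 0 := (hS ▸ Submodule.subset_span hx : x ∈ RingHom.ker (g i).toRingHom)
    obtain ⟨j, hij, hj⟩ := hinj i x 0 (by rw [hx', map_zero])
    exact ⟨j, hij, by rw [hj, map_zero]⟩
  choose jx hijx hjx using hk
  obtain ⟨j, hj⟩ := Finset.exists_le (insert i (S.attach.image fun x : S ↦ jx x.1 x.2))
  have hij : i ≤ j := hj _ (Finset.mem_insert_self _ _)
  have hle : RingHom.ker (g i).toRingHom ≤ RingHom.ker (f i j hij).toRingHom := by
    rw [← hS]
    refine Submodule.span_le.mpr fun x hx ↦ ?_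
    have h1 : jx x hx ≤ j := hj _ (Finset.mem_insert_of_mem
      (Finset.mem_image.mpr ⟨⟨x, hx⟩, Finset.mem_attach _ _, rfl⟩))
    show f i j hij x = 0
    rw [← hf i _ j (hijx x hx) h1, hjx, map_zero]
  refine ⟨j, hij, WittVector.ext fun m ↦ ?_⟩
  have := congrArg (fun w ↦ WittVector.coeff w m) hvv
  simp only [WittVector.map_coeff] at this ⊢
  rw [← sub_eq_zero, ← map_sub]
  exact hle (show (g i).toRingHom (v.coeff m - v'.coeff m) = 0 by rw [map_sub, this, sub_self])

end Groth.Agent.S19035
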