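import Groth.Statements.S19036
-- import your own Groth.Agent.* helpers here

set_option autoImplicit false
universe u
open Instab

namespace Groth.Agent.S19036

open CategoryTheory AlgebraicGeometry TopologicalSpace Filter IsLocalRing in
/-- A family of valuation subrings indexed by a type with an ultrafilter has a limit valuation subring. -/
def ultraLimit {ι' : Type u} {K : Type u} [Field K] (F : Ultrafilter ι') (R : ι' → ValuationSubring K) :
    ValuationSubring K where
  carrier := {a | ∀ᶠ i in (F : Filter ι'), a ∈ R i}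
  one_mem' := Eventually.of_forall fun i => (R i).one_mem
  mul_mem' ha hb := (ha.and hb).mono fun i h => (R i).mul_mem _ _ h.1 h.2
  zero_mem' := Eventually.of_forall fun i => (R i).zero_mem
  add_mem' ha hb := (ha.and hb).mono fun i h => (R i).add_mem _ _ h.1 h.2
  neg_mem' ha := ha.mono fun i h => (R i).neg_mem _ h
  mem_or_inv_mem' a := by
    rcases Ultrafilter.eventually_or.mp (Eventually.of_forall
      (f := (F : Filter ι')) fun i => (R i).mem_or_inv_mem a) with h | h
    · exact Or.inl h
    · exact Or.inr h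

section

open CategoryTheory AlgebraicGeometry TopologicalSpace IsLocalRing

variable {X Y : Scheme.{u}} (f : X ⟶ Y)

/-- The inclusion of a valuation subring of a residue field, in `CommRingCat`. -/
noncomputable abbrev incl {η : X} (R : ValuationSubring (X.residueField η)) :
    CommRingCat.of R ⟶ X.residueField η :=
  CommRingCat.ofHom (algebraMap R (X.residueField η))

open Filter in
/-- If every element of a finitely generated algebra is eventually sent into the `R x`, which contain
the image of the base, then eventually the whole algebra is. -/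
theorem eventually_range_le {A B : CommRingCat.{u}} {K : Type u} [CommRing K] {α : Type u}
    (l : Filter α) (φ : A ⟶ B) (hφ : φ.hom.FiniteType) (χ : B →+* K) (R : α → Subring K)
    (hA : ∀ᶠ x in l, ∀ a, χ (φ.hom a) ∈ R x) (hχ : ∀ b, ∀ᶠ x in l, χ b ∈ R x) :
    ∀ᶠ x in l, ∀ b, χ b ∈ R x := by
  algebraize [φ.hom]
  obtain ⟨s, hs⟩ := (show Algebra.FiniteType A B from hφ).out
  have hev : ∀ᶠ x in l, ∀ b ∈ s, χ b ∈ R x := (Finset.eventually_all s).mpr fun b _ => hχ b
  filter_upwards [hev, hA] with x hxs hxA b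
  let T : Subalgebra A B :=
    { (R x).comap χ with algebraMap_mem' := fun a => hxA a }
  have hle : Algebra.adjoin A (s : Set B) ≤ T := Algebra.adjoin_le fun b hb => hxs b hb
  exact hle (hs ▸ Algebra.mem_top)

/-- Uniqueness of centres: a valuation ring of `κ(η)` centred at `x` which contains the ring of an
affine `W ∋ η` (over an affine `V ∋ f x`) has its centre in `W`. -/
theorem mem_of_contains (hu : ValuativeCriterion.Uniqueness f) {η x : X} (hηx : η ⤳ x)
    {V : Y.Opens} (hV : IsAffineOpen V) {W : X.Opens} (hW : IsAffineOpen W) (hWV : W ≤ f ⁻¹ᵁ V)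
    (hxV : f x ∈ V) (hηW : η ∈ W) (R : ValuationSubring (X.residueField η))
    (h : ∀ a, (X.presheaf.stalkSpecializes hηx ≫ X.residue η).hom a ∈ R.toSubring)
    (hloc : IsLocalHom ((X.presheaf.stalkSpecializes hηx ≫ X.residue η).hom.codRestrict R.toSubring h))
    (hWR : ∀ a, (X.presheaf.germ W η hηW ≫ X.residue η).hom a ∈ R.toSubring) :
    x ∈ W := by
  let θ : X.presheaf.stalk x ⟶ CommRingCat.of R :=
    CommRingCat.ofHom ((X.presheaf.stalkSpecializes hηx ≫ X.residue η).hom.codRestrict R.toSubring h)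
  let ψ : Γ(X, W) ⟶ CommRingCat.of R :=
    CommRingCat.ofHom ((X.presheaf.germ W η hηW ≫ X.residue η).hom.codRestrict R.toSubring hWR)
  have hθ : θ ≫ incl R = X.presheaf.stalkSpecializes hηx ≫ X.residue η :=
    CommRingCat.hom_ext (RingHom.ext fun _ => rfl)
  have hψ : ψ ≫ incl R = X.presheaf.germ W η hηW ≫ X.residue η :=
    CommRingCat.hom_ext (RingHom.ext fun _ => rfl)
  let l₁ : Spec (CommRingCat.of R) ⟶ X := Spec.map θ ≫ X.fromSpecStalk x
  let l₂ : Spec (CommRingCat.of R) ⟶ X := Spec.map ψ ≫ hW.fromSpec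
  have h₁ : Spec.map (incl R) ≫ l₁ = X.fromSpecResidueField η := by
    simp only [l₁, ← Spec.map_comp_assoc, hθ]
    rw [Spec.map_comp_assoc, Scheme.SpecMap_stalkSpecializes_fromSpecStalk, Scheme.fromSpecResidueField]
  have h₂ : Spec.map (incl R) ≫ l₂ = X.fromSpecResidueField η := by
    simp only [l₂, ← Spec.map_comp_assoc, hψ]
    rw [Spec.map_comp_assoc, Scheme.fromSpecResidueField, ← hW.fromSpecStalk_eq_fromSpecStalk hηW]
    rfl
  have e₁ : l₁ ≫ f =
      Spec.map (Y.presheaf.germ V (f x) hxV ≫ f.stalkMap x ≫ θ) ≫ hV.fromSpec := by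
    simp only [l₁, Category.assoc, Spec.map_comp]
    rw [← Scheme.SpecMap_stalkMap_fromSpecStalk, ← hV.fromSpecStalk_eq_fromSpecStalk hxV]
    rfl
  have e₂ : l₂ ≫ f = Spec.map (f.appLE V W hWV ≫ ψ) ≫ hV.fromSpec := by
    simp only [l₂, Category.assoc, Spec.map_comp]
    rw [hV.SpecMap_appLE_fromSpec f hW hWV]
  have hmap : Y.presheaf.germ V (f x) hxV ≫ f.stalkMap x ≫ θ = f.appLE V W hWV ≫ ψ := by
    have : Mono (incl R) := ConcreteCategory.mono_of_injective _ Subtype.val_injective
    rw [← cancel_mono (incl R)]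
    simp only [Category.assoc, hθ, hψ, Scheme.Hom.appLE]
    simp only [Scheme.Hom.germ_stalkMap_assoc, TopCat.Presheaf.germ_stalkSpecializes_assoc,
      TopCat.Presheaf.germ_res_assoc]
  have e : l₂ ≫ f = l₁ ≫ f := by rw [e₁, e₂, hmap]
  let S : ValuativeCommSq f :=
    { R := R, K := X.residueField η, i₁ := X.fromSpecResidueField η, i₂ := l₁ ≫ f,
      commSq := ⟨by rw [← Category.assoc]; exact congrArg (· ≫ f) h₁.symm⟩ }
  have := hu S
  have heq : l₁ = l₂ :=
    congrArg CommSq.LiftStruct.l
      (Subsingleton.elim (⟨l₁, h₁, rfl⟩ : S.commSq.LiftStruct) ⟨l₂, h₂, e⟩)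
  have hx : l₁ (closedPoint R) = x := by
    have h3 : Spec.map θ (closedPoint R) = closedPoint (X.presheaf.stalk x) :=
      comap_closedPoint (S := R) _
    simp only [l₁, Scheme.Hom.comp_base, TopCat.coe_comp, Function.comp_apply]
    rw [h3, Scheme.fromSpecStalk_closedPoint]
  rw [← hx, heq]
  have : hW.fromSpec (Spec.map ψ (closedPoint R)) ∈ Set.range hW.fromSpec := ⟨_, rfl⟩
  rw [hW.range_fromSpec] at this
  exact this

open Filter in
/-- An ultrafilter containing the closure of `η` and the preimage of an affine `V` converges in that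
preimage. -/
theorem exists_le_nhds [LocallyOfFiniteType f] (hf : ValuativeCriterion f) (η : X)
    {V : Y.Opens} (hV : IsAffineOpen V) (F : Ultrafilter X)
    (hZ : {x | η ⤳ x} ∈ F) (hFV : (f ⁻¹ᵁ V : Set X) ∈ F) :
    ∃ z ∈ (f ⁻¹ᵁ V : Set X), ↑F ≤ nhds z := by
  classical
  have key : ∀ x : X, ∃ R : ValuationSubring (X.residueField η), ∀ hx : η ⤳ x, ∃ h,
      IsLocalHom ((X.presheaf.stalkSpecializes hx ≫ X.residue η).hom.codRestrict R.toSubring h) := by
    intro x
    by_cases hx : η ⤳ x
    · obtain ⟨A, hA, hA'⟩ :=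
        exists_factor_valuationRing (X.presheaf.stalkSpecializes hx ≫ X.residue η).hom
      exact ⟨A, fun _ => ⟨hA, hA'⟩⟩
    · exact ⟨⊤, fun h => absurd h hx⟩
  choose R hR using key
  let L := ultraLimit F R
  obtain ⟨x₀, hx₀Z, hx₀V⟩ := F.nonempty_of_mem (Filter.inter_mem hZ hFV)
  have hηV : f η ∈ V := Specializes.mem_open (x := η) (y := x₀) (s := (f ⁻¹ᵁ V : Set X)) hx₀Z (f ⁻¹ᵁ V).isOpen hx₀V
  let ρ : Γ(Y, V) ⟶ X.residueField η :=
    Y.presheaf.germ V (f η) hηV ≫ f.stalkMap η ≫ X.residue η
  have hρ : ∀ x, η ⤳ x → f x ∈ V → ∀ a, ρ.hom a ∈ (R x).toSubring := by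
    intro x hx hxV a
    obtain ⟨h, -⟩ := hR x hx
    have e : ρ = Y.presheaf.germ V (f x) hxV ≫ f.stalkMap x ≫
        (X.presheaf.stalkSpecializes hx ≫ X.residue η) := by
      simp only [ρ, Scheme.Hom.germ_stalkMap_assoc, TopCat.Presheaf.germ_stalkSpecializes_assoc]
    rw [e]
    exact h _
  have hρL : ∀ a, ρ.hom a ∈ L.toSubring := fun a =>
    Filter.mem_of_superset (Filter.inter_mem hZ hFV) fun x hx => hρ x hx.1 hx.2 a
  let ρ' : Γ(Y, V) ⟶ CommRingCat.of L := CommRingCat.ofHom (ρ.hom.codRestrict L.toSubring hρL)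
  have w : X.fromSpecResidueField η ≫ f =
      Spec.map (incl L) ≫ Spec.map ρ' ≫ hV.fromSpec := by
    rw [← Spec.map_comp_assoc, show ρ' ≫ incl L = ρ from CommRingCat.hom_ext (RingHom.ext fun _ => rfl)]
    simp only [ρ, Spec.map_comp, Category.assoc, Scheme.fromSpecResidueField]
    rw [← Scheme.SpecMap_stalkMap_fromSpecStalk, ← hV.fromSpecStalk_eq_fromSpecStalk hηV]
    rfl
  obtain ⟨l, hl₁, hl₂⟩ : ∃ l : Spec (CommRingCat.of L) ⟶ X,
      Spec.map (incl L) ≫ l = X.fromSpecResidueField η ∧ l ≫ f = Spec.map ρ' ≫ hV.fromSpec := by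
    obtain ⟨l, h₁, h₂⟩ := ((hf.existence)
      { R := L, K := X.residueField η, i₁ := X.fromSpecResidueField η,
        i₂ := Spec.map ρ' ≫ hV.fromSpec, commSq := ⟨w⟩ }).exists_lift
    exact ⟨l, h₁, h₂⟩
  let z := l (closedPoint L)
  have hz : f z ∈ V := by
    have : (l ≫ f) (closedPoint L) ∈ Set.range hV.fromSpec := by
      rw [hl₂]; exact ⟨_, rfl⟩
    rw [hV.range_fromSpec] at this
    exact this
  refine ⟨z, hz, ?_⟩
  intro N hN
  obtain ⟨U, hUN, hU, hzU⟩ := mem_nhds_iff.mp hN
  obtain ⟨W, hW, hzW, hWU⟩ := exists_isAffineOpen_mem_and_subset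
    (U := (f ⁻¹ᵁ V) ⊓ (⟨U, hU⟩ : X.Opens)) (x := z) ⟨hz, hzU⟩
  have hWV : W ≤ f ⁻¹ᵁ V := fun p hp => (hWU hp).1
  refine Filter.mem_of_superset ?_ ((fun p hp => hUN (hWU hp).2) : (W : Set X) ⊆ N)
  have hrange : Set.range l ⊆ (W : Set X) := by
    rintro _ ⟨p, rfl⟩
    exact Specializes.mem_open ((specializes_closedPoint p).map l.continuous) W.isOpen hzW
  have hηW : η ∈ W := by
    have h := congrArg (fun g : Spec (X.residueField η) ⟶ X => g (closedPoint _)) hl₁
    rw [← Scheme.fromSpecResidueField_apply η (closedPoint (X.residueField η))]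
    rw [← hl₁]
    exact hrange ⟨_, rfl⟩
  obtain ⟨ψ, hψ⟩ : ∃ ψ : Γ(X, W) ⟶ CommRingCat.of L, Spec.map ψ ≫ hW.fromSpec = l := by
    have hr : Set.range l ⊆ Set.range hW.fromSpec := by rw [hW.range_fromSpec]; exact hrange
    exact ⟨Spec.preimage (IsOpenImmersion.lift hW.fromSpec l hr), by
      rw [Spec.map_preimage, IsOpenImmersion.lift_fac]⟩
  have hψL : ψ ≫ incl L = X.presheaf.germ W η hηW ≫ X.residue η := by
    apply Spec.map_injective
    rw [← cancel_mono hW.fromSpec, Spec.map_comp_assoc, hψ, hl₁, Scheme.fromSpecResidueField,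
      ← hW.fromSpecStalk_eq_fromSpecStalk hηW, Spec.map_comp_assoc]
    rfl
  let χ := (X.presheaf.germ W η hηW ≫ X.residue η)
  have hχ : ∀ a, ∀ᶠ x in (F : Filter X), χ.hom a ∈ R x := fun a => by
    have : χ.hom a = ((ψ.hom a : L) : X.residueField η) := by
      change _ = (ψ ≫ incl L).hom a
      rw [hψL]
    rw [this]
    exact (ψ.hom a).2
  have e : f.appLE V W hWV ≫ χ = ρ := by
    simp only [χ, ρ, Scheme.Hom.appLE, Category.assoc, TopCat.Presheaf.germ_res_assoc,
      Scheme.Hom.germ_stalkMap_assoc]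
  have hev : ∀ᶠ x in (F : Filter X), ∀ b, χ.hom b ∈ (R x).toSubring :=
    eventually_range_le (F : Filter X) (f.appLE V W hWV) (f.finiteType_appLE hV hW hWV) χ.hom
      (fun x => (R x).toSubring) (by
        filter_upwards [hZ, hFV] with x hxZ hxV a
        have := hρ x hxZ hxV a
        rw [← e] at this
        exact this) hχ
  filter_upwards [hev, hZ, hFV] with x hxs hxZ hxV
  obtain ⟨h, hloc⟩ := hR x hxZ
  exact mem_of_contains f hf.uniqueness hxZ hV hW hWV hxV hηW (R x) h hloc hxs

end

open CategoryTheory AlgebraicGeometry in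
/-- Let f : X → Y be a morphism of schemes which is locally of finite presentation, and for which the
valuative criterion holds (every valuative square over a valuation ring has exactly one lift). When
X has only finitely many irreducible components, the morphism f is quasi-compact. (The source states
this for algebraic spaces and adds that f is then proper; universal closedness follows from
quasi-compactness and the existence part by the standard criterion, and separatedness from the
uniqueness part once f is quasi-separated. Only the scheme case and the quasi-compactness conclusion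
are stated here.) -/
theorem result
    {X Y : Scheme.{u}} (f : X ⟶ Y) [LocallyOfFinitePresentation f]
    (hf : ValuativeCriterion f) (hX : (irreducibleComponents ↥X).Finite) :
    QuasiCompact f := by
  rw [quasiCompact_iff_forall_isAffineOpen]
  intro V hV
  rw [isCompact_iff_ultrafilter_le_nhds]
  intro F hF
  have hFV : ((f ⁻¹ᵁ V : X.Opens) : Set X) ∈ F := hF (Filter.mem_principal_self _)
  have hu : ⋃₀ irreducibleComponents X ∈ F := by
    rw [sUnion_irreducibleComponents]; exact Filter.univ_mem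
  obtain ⟨Z, hZ, hZF⟩ := (Ultrafilter.finite_sUnion_mem_iff hX).mp hu
  have hirr : IsIrreducible Z := hZ.1
  have hgen := hirr.isGenericPoint_genericPoint (isClosed_of_mem_irreducibleComponents Z hZ)
  refine exists_le_nhds f hf hirr.genericPoint hV F ?_ hFV
  exact Filter.mem_of_superset hZF fun x hx => hgen.specializes hx

end Groth.Agent.S19036
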