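import Groth.Statements.S19037


set_option autoImplicit false
universe u v
open scoped Polynomial LaurentPolynomial
open Instab

namespace Groth.Agent.S19037


/-- Affine form over a ring R. Let A be a commutative ℤ-graded R-algebra and t an element of degree −1
(so A is a graded algebra over R[t] with t in degree −1), and let ψ : A[1/t] → R[T, T⁻¹] be an
R-algebra map sending t to T which is graded, in the sense that each homogeneous element of degree n
of A goes to an element of R times T^(−n). Then ψ is obtained by inverting t from an R-algebra map χ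
: A → R[T] (compared through the inclusion of R[T] in R[T, T⁻¹]) if and only if ψ kills t·a for
every homogeneous a of degree 1; such a χ is unique. (The source states this for quasi-coherent
graded algebras over an arbitrary base scheme; the statement is local on the base and is given here
over an affine base.) -/
theorem result
    {R : Type u} {A : Type v} [CommRing R] [CommRing A] [Algebra R A]
    (𝒜 : ℤ → Submodule R A) [GradedAlgebra 𝒜] (t : A) (ht : t ∈ 𝒜 (-1))
    (ψ : Localization.Away t →ₐ[R] R[T;T⁻¹])
    (hψt : ψ (algebraMap A (Localization.Away t) t) = LaurentPolynomial.T 1)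
    (hψ : ∀ (n : ℤ) (a : A), a ∈ 𝒜 n →
      ∃ r : R, ψ (algebraMap A (Localization.Away t) a) = LaurentPolynomial.C r * LaurentPolynomial.T (-n)) :
    (∃! χ : A →ₐ[R] R[X], ∀ a : A,
        ψ (algebraMap A (Localization.Away t) a) = Polynomial.toLaurentAlg (χ a)) ↔
      ∀ a ∈ 𝒜 1, ψ (algebraMap A (Localization.Away t) (t * a)) = 0 := by
  classical
  set g : A →ₐ[R] R[T;T⁻¹] := ψ.comp (IsScalarTower.toAlgHom R A (Localization.Away t)) with hg
  have hgt : g t = LaurentPolynomial.T 1 := hψt
  have hinj : Function.Injective (Polynomial.toLaurentAlg : R[X] →ₐ[R] R[T;T⁻¹]) := by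
    rw [Polynomial.coe_toLaurentAlg]; exact Polynomial.toLaurent_injective
  constructor
  · rintro ⟨χ, hχ, -⟩ a ha
    change g (t * a) = 0
    obtain ⟨r, hr⟩ := hψ 1 a ha
    have e : Polynomial.toLaurentAlg (χ a) = LaurentPolynomial.C r * LaurentPolynomial.T (-1) :=
      (hχ a).symm.trans hr
    have hr0 : r = 0 := by
      have h1 := congrArg (fun f : R[T;T⁻¹] => f * LaurentPolynomial.T 1) e
      simp only [LaurentPolynomial.mul_T_assoc, Polynomial.toLaurentAlg_apply] at h1
      rw [← Polynomial.toLaurent_X, ← map_mul] at h1
      norm_num at h1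
      have h2 : (χ a) * Polynomial.X = Polynomial.C r := by
        apply Polynomial.toLaurent_injective
        rw [map_mul, Polynomial.toLaurent_C]
        simpa using h1
      have h3 := congrArg (fun p : R[X] => p.coeff 0) h2
      simpa [Polynomial.mul_coeff_zero] using h3.symm
    have : g a = 0 := by
      change ψ (algebraMap A (Localization.Away t) a) = 0
      rw [hr, hr0, map_zero, zero_mul]
    rw [map_mul, this, mul_zero]
  · intro h
    have hhom : ∀ (n : ℤ) (a : A), a ∈ 𝒜 n →
        g a ∈ (Polynomial.toLaurentAlg : R[X] →ₐ[R] R[T;T⁻¹]).range := by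
      intro n a ha
      obtain ⟨r, hr⟩ := hψ n a ha
      rcases le_or_gt n 0 with hn | hn
      · refine ⟨Polynomial.C r * Polynomial.X ^ (-n).toNat, ?_⟩
        change Polynomial.toLaurent (Polynomial.C r * Polynomial.X ^ (-n).toNat) = g a
        rw [map_mul, Polynomial.toLaurent_C, Polynomial.toLaurent_X_pow, Int.toNat_of_nonneg (by omega)]
        exact hr.symm
      · have hmem : t ^ (n.toNat - 1) * a ∈ 𝒜 1 := by
          have h1 := SetLike.mul_mem_graded (SetLike.pow_mem_graded (n.toNat - 1) ht) ha
          have e : (n.toNat - 1) • (-1 : ℤ) + n = 1 := by simp; omega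
          rwa [e] at h1
        have h0 : g (t * (t ^ (n.toNat - 1) * a)) = 0 := h _ hmem
        rw [map_mul, map_mul, map_pow, hgt, ← mul_assoc, ← pow_succ'] at h0
        have hu : IsUnit ((LaurentPolynomial.T 1 : R[T;T⁻¹]) ^ (n.toNat - 1 + 1)) :=
          (LaurentPolynomial.isUnit_T 1).pow _
        rw [hu.mul_right_eq_zero] at h0
        exact ⟨0, by rw [map_zero, h0]⟩
    have hall : ∀ a, g a ∈ (Polynomial.toLaurentAlg : R[X] →ₐ[R] R[T;T⁻¹]).range := by
      intro a
      induction a using DirectSum.Decomposition.inductionOn 𝒜 with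
      | zero => rw [map_zero]; exact zero_mem _
      | homogeneous a => exact hhom _ _ a.2
      | add a b ha hb => rw [map_add]; exact add_mem ha hb
    let e := AlgEquiv.ofInjective (Polynomial.toLaurentAlg : R[X] →ₐ[R] R[T;T⁻¹]) hinj
    refine ⟨e.symm.toAlgHom.comp (g.codRestrict _ hall), fun a => ?_, fun χ' hχ' => ?_⟩
    · exact congrArg Subtype.val (e.apply_symm_apply (g.codRestrict _ hall a)).symm
    · refine AlgHom.ext fun a => hinj ?_
      exact (hχ' a).symm.trans (congrArg Subtype.val (e.apply_symm_apply (g.codRestrict _ hall a))).symm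

end Groth.Agent.S19037
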