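import Groth.Statements.S19039
import Mathlib.AlgebraicGeometry.Pullbacks
import Mathlib.Algebra.Polynomial.Basis

set_option autoImplicit false
universe u
open Instab

namespace Groth.Agent.S19039

section

open CategoryTheory CategoryTheory.Limits MonoidalCategory CartesianMonoidalCategory MonObj GrpObj AlgebraicGeometry
open scoped TensorProduct Polynomial

/-- The inclusion `G_m ⟶ A¹` on rings. -/
noncomputable abbrev jAlg (R : Type u) [CommRing R] : R[X] →ₐ[R] ThetaS.Lau R :=
  ThetaS.linePt (ThetaS.zPow R 1)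

/-- The inclusion `G_m ⟶ A¹`. -/
noncomputable abbrev jm (R : Type u) [CommRing R] : ThetaS.Gm R ⟶ ThetaS.Line R :=
  CoactBr.pt (jAlg R)

theorem exists_retraction (R : Type u) [CommRing R] :
    ∃ l : ThetaS.Lau R →ₗ[R] R[X], l.comp (jAlg R).toLinearMap = LinearMap.id := by
  classical
  refine ⟨(MonoidAlgebra.basis (Multiplicative ℤ) R).constr R
    (fun n => if 0 ≤ n.toAdd then Polynomial.X ^ n.toAdd.toNat else 0), ?_⟩
  refine (Polynomial.basisMonomials R).ext fun n => ?_
  rw [Polynomial.coe_basisMonomials]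
  have h : jAlg R (Polynomial.monomial n 1) = MonoidAlgebra.basis (Multiplicative ℤ) R (Multiplicative.ofAdd (n : ℤ)) := by
    rw [Polynomial.monomial_one_right_eq_X_pow, map_pow, Polynomial.aeval_X, MonoidAlgebra.single_pow, one_pow,
      MonoidAlgebra.basis_apply]
    congr 1
    rw [← ofAdd_nsmul, nsmul_one]
  simp only [LinearMap.comp_apply, AlgHom.toLinearMap_apply, h, Module.Basis.constr_basis, LinearMap.id_apply]
  simp [Polynomial.monomial_one_right_eq_X_pow]

/-- An injective ring map is schematically dominant for maps into a separated scheme. -/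
theorem ext_of_injective {B B' : CommRingCat.{u}} (φ : B ⟶ B') (hφ : Function.Injective φ.hom)
    {Y S : Scheme.{u}} (q : Y ⟶ S) [IsSeparated q] (u v : Spec B ⟶ Y) (hq : u ≫ q = v ≫ q)
    (h : Spec.map φ ≫ u = Spec.map φ ≫ v) : u = v := by
  let w : Spec B ⟶ pullback q q := pullback.lift u v hq
  let e := pullback.fst w (pullback.diagonal q)
  have : IsClosedImmersion e := MorphismProperty.pullback_fst _ _ inferInstance
  have he : e ≫ u = e ≫ v := by
    have hu : u = w ≫ pullback.fst q q := (pullback.lift_fst _ _ _).symm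
    have hv : v = w ≫ pullback.snd q q := (pullback.lift_snd _ _ _).symm
    rw [hu, hv, pullback.condition_assoc, pullback.condition_assoc, pullback.diagonal_fst, pullback.diagonal_snd]
  let t : Spec B' ⟶ pullback w (pullback.diagonal q) :=
    pullback.lift (Spec.map φ) (Spec.map φ ≫ u) (by
      apply pullback.hom_ext
      · simp only [w, Category.assoc]; rw [pullback.lift_fst, pullback.diagonal_fst, Category.comp_id]
      · simp only [w, Category.assoc]; rw [pullback.lift_snd, pullback.diagonal_snd, Category.comp_id, h])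
  have ht : t ≫ e = Spec.map φ := pullback.lift_fst _ _ _
  obtain ⟨hA, hsurj⟩ := (HasAffineProperty.iff_of_isAffine (P := @IsClosedImmersion)).mp ‹IsClosedImmersion e›
  have hinj : Function.Injective e.appTop := by
    have h1 : Function.Injective (Spec.map φ).appTop := by
      have hn := Scheme.ΓSpecIso_naturality φ
      have : (Spec.map φ).appTop = (Scheme.ΓSpecIso B).hom ≫ φ ≫ (Scheme.ΓSpecIso B').inv := by
        rw [← Category.assoc, ← hn, Category.assoc, Iso.hom_inv_id, Category.comp_id]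
      rw [this]
      exact ((Scheme.ΓSpecIso B').symm.commRingCatIsoToRingEquiv.injective.comp hφ).comp
        (Scheme.ΓSpecIso B).commRingCatIsoToRingEquiv.injective
    rw [← ht, Scheme.Hom.comp_appTop] at h1
    exact Function.Injective.of_comp h1
  have : IsIso e := (HasAffineProperty.iff_of_isAffine (P := MorphismProperty.isomorphisms Scheme)).mpr
    ⟨hA, (ConcreteCategory.isIso_iff_bijective _).mpr ⟨hinj, hsurj⟩⟩
  exact (cancel_epi e).mp he

variable {R : Type u} [CommRing R]

/-- `G_m × T` is schematically dense in `A¹ × T` for maps into separated schemes. -/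
theorem ext_of_dense {X T : Over (Spec (CommRingCat.of R))} [IsSeparated X.hom]
    (u v : ThetaS.Line R ⊗ T ⟶ X) (h : (jm R ▷ T) ≫ u = (jm R ▷ T) ≫ v) : u = v := by
  apply Over.OverMorphism.ext
  let lh := Spec.map (CommRingCat.ofHom (algebraMap R R[X]))
  refine Scheme.Cover.hom_ext (Scheme.Pullback.openCoverOfRight T.left.affineCover lh T.hom) _ _ fun i => ?_
  set U := T.left.affineCover.X i
  set ιU : U ⟶ T.left := T.left.affineCover.f i
  have : IsAffine U := inferInstance
  obtain ⟨g, hg⟩ := Spec.map_surjective (U.isoSpec.inv ≫ ιU ≫ T.hom)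
  let _ : Algebra R Γ(U, ⊤) := g.hom.toAlgebra
  have hg' : Spec.map (CommRingCat.ofHom (algebraMap R Γ(U, ⊤))) = U.isoSpec.inv ≫ ιU ≫ T.hom := hg
  obtain ⟨l, hl⟩ := exists_retraction R
  let Φ : R[X] ⊗[R] Γ(U, ⊤) →ₐ[R] ThetaS.Lau R ⊗[R] Γ(U, ⊤) :=
    Algebra.TensorProduct.map (jAlg R) (AlgHom.id R _)
  have hΦ : Function.Injective Φ := by
    refine Function.LeftInverse.injective (g := l.rTensor Γ(U, ⊤)) fun z => ?_
    change ((l.rTensor _).comp ((jAlg R).toLinearMap.rTensor _)) z = z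
    rw [← LinearMap.rTensor_comp, hl, LinearMap.rTensor_id]
    rfl
  let k : Spec (CommRingCat.of (R[X] ⊗[R] Γ(U, ⊤))) ⟶ pullback lh (ιU ≫ T.hom) :=
    (pullbackSpecIso R R[X] Γ(U, ⊤)).inv ≫
      pullback.map _ _ _ _ (𝟙 _) U.isoSpec.inv (𝟙 _) (by simp [lh]) (by rw [hg']; simp)
  have : IsIso k := by
    dsimp only [k]
    infer_instance
  let c : pullback lh (ιU ≫ T.hom) ⟶ pullback lh T.hom :=
    pullback.map _ _ _ _ (𝟙 _) ιU (𝟙 _) (by simp) (Category.comp_id _)
  change c ≫ u.left = c ≫ v.left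
  rw [← cancel_epi k]
  refine ext_of_injective (CommRingCat.ofHom Φ.toRingHom) hΦ X.hom _ _ ?_ ?_
  · simp only [Category.assoc]
    exact congrArg (fun z => k ≫ c ≫ z) ((Over.w u).trans (Over.w v).symm)
  · let lg : Spec (CommRingCat.of (ThetaS.Lau R)) ⟶ Spec (CommRingCat.of R) :=
      Spec.map (CommRingCat.ofHom (algebraMap R (ThetaS.Lau R)))
    let m : Spec (CommRingCat.of (ThetaS.Lau R ⊗[R] Γ(U, ⊤))) ⟶ pullback lg T.hom :=
      (pullbackSpecIso R (ThetaS.Lau R) Γ(U, ⊤)).inv ≫
        pullback.map _ _ _ _ (𝟙 _) (U.isoSpec.inv ≫ ιU) (𝟙 _) (by simp [lg])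
          (by rw [hg']; simp)
    let jT : pullback lg T.hom ⟶ pullback lh T.hom := (jm R ▷ T).left
    have hj1 : jT ≫ pullback.fst lh T.hom =
        pullback.fst lg T.hom ≫ Spec.map (CommRingCat.ofHom (jAlg R).toRingHom) :=
      congrArg CommaMorphism.left (whiskerRight_fst (jm R) T)
    have hj2 : jT ≫ pullback.snd lh T.hom = pullback.snd lg T.hom :=
      congrArg CommaMorphism.left (whiskerRight_snd (jm R) T)
    have hm : Spec.map (CommRingCat.ofHom Φ.toRingHom) ≫ k ≫ c = m ≫ jT := by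
      apply pullback.hom_ext
      · have e2 : m ≫ pullback.fst lg T.hom =
            Spec.map (CommRingCat.ofHom Algebra.TensorProduct.includeLeftRingHom) := by
          simp only [m, Category.assoc]
          rw [pullback.lift_fst, Category.comp_id, pullbackSpecIso_inv_fst]
        simp only [Category.assoc]
        rw [hj1, reassoc_of% e2]
        simp only [k, c, Category.assoc]
        simp only [pullback.lift_fst, pullback.lift_fst_assoc, Category.comp_id, Category.assoc,
          pullbackSpecIso_inv_fst, ← Spec.map_comp]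
        congr 1
      · simp only [Category.assoc]
        rw [hj2]
        simp only [k, c, m, Category.assoc]
        rw [pullback.lift_snd, pullback.lift_snd_assoc, pullback.lift_snd]
        simp only [Category.assoc, pullbackSpecIso_inv_snd_assoc, ← Spec.map_comp_assoc]
        congr 2
        exact CommRingCat.hom_ext (RingHom.ext fun r => by simp [Φ])
    let u' : pullback lh T.hom ⟶ X.left := u.left
    let v' : pullback lh T.hom ⟶ X.left := v.left
    have hL : m ≫ jT ≫ u' = m ≫ jT ≫ v' := congrArg (fun e => m ≫ CommaMorphism.left e) h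
    change Spec.map (CommRingCat.ofHom Φ.toRingHom) ≫ k ≫ c ≫ u' =
      Spec.map (CommRingCat.ofHom Φ.toRingHom) ≫ k ≫ c ≫ v'
    rw [reassoc_of% hm, reassoc_of% hm]
    exact hL

/-- The orbit of the point `1` is the inclusion. -/
theorem lift_one_act {W : Over (Spec (CommRingCat.of R))} (g : W ⟶ ThetaS.Gm R) :
    lift g ((1 : W ⟶ ThetaS.Gm R) ≫ jm R) ≫ (ThetaS.lineAction R).act = g ≫ jm R := by
  have h0 : lift (𝟙 (ThetaS.Gm R)) ((1 : ThetaS.Gm R ⟶ ThetaS.Gm R) ≫ jm R) ≫ (ThetaS.lineAction R).act = jm R := by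
    have h1 : (1 : ThetaS.Gm R ⟶ ThetaS.Gm R) ≫ jm R = CoactBr.pt (ThetaS.linePt (1 : ThetaS.Lau R)) := by
      change (1 : CoactBr.sp R (ThetaS.Lau R) ⟶ CoactBr.sp R (ThetaS.Lau R)) ≫ CoactBr.pt (jAlg R) = _
      rw [CoactBr.one_eq_pt, ← CoactBr.pt_comp]
      congr 1
      apply Polynomial.algHom_ext
      simp [MonoidAlgebra.one_def]
    have h2 : (𝟙 (ThetaS.Gm R)) = CoactBr.pt (AlgHom.id R (ThetaS.Lau R)) := (CoactBr.pt_id).symm
    rw [h1, h2]
    have := ThetaS.lineAction_pt (AlgHom.id R (ThetaS.Lau R)) (1 : ThetaS.Lau R)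
    rw [_root_.mul_one, AlgHom.id_apply] at this
    exact this
  have := congrArg (g ≫ ·) h0
  simp only [← Category.assoc, comp_lift, Category.comp_id] at this
  rw [MonObj.comp_one] at this
  exact this

theorem lift_lift_act {G Y : Over (Spec (CommRingCat.of R))} [GrpObj G] (a : AlgGrp.Action G Y)
    {W : Over (Spec (CommRingCat.of R))} (g h : W ⟶ G) (y : W ⟶ Y) :
    lift (g * h) y ≫ a.act = lift g (lift h y ≫ a.act) ≫ a.act := by
  rw [Hom.mul_def, ← lift_whiskerRight, Category.assoc, a.mul_act, ← Category.assoc, lift_lift_associator_hom,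
    ← Category.assoc, lift_whiskerLeft]

theorem one_lift_act {G Y : Over (Spec (CommRingCat.of R))} [GrpObj G] (a : AlgGrp.Action G Y)
    {W : Over (Spec (CommRingCat.of R))} (y : W ⟶ Y) : lift (1 : W ⟶ G) y ≫ a.act = y := by
  rw [Hom.one_def, ← lift_whiskerRight, Category.assoc, a.one_act, lift_leftUnitor_hom]

theorem mul_j_act {W : Over (Spec (CommRingCat.of R))} (g h : W ⟶ ThetaS.Gm R) :
    lift g (h ≫ jm R) ≫ (ThetaS.lineAction R).act = (g * h) ≫ jm R := by
  rw [← lift_one_act h, ← lift_lift_act, lift_one_act]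

theorem orbit_comp {G L X T : Over (Spec (CommRingCat.of R))} [GrpObj G] (aL : AlgGrp.Action G L)
    (a : AlgGrp.Action G X) (j : G ⟶ L)
    (hj : ∀ {W : Over (Spec (CommRingCat.of R))} (g : W ⟶ G),
      lift g ((1 : W ⟶ G) ≫ j) ≫ aL.act = g ≫ j)
    (w : L ⊗ T ⟶ X) (hw : (α_ G L T).inv ≫ (aL.act ▷ T) ≫ w = (G ◁ w) ≫ a.act) :
    (j ▷ T) ≫ w = (G ◁ (lift ((1 : T ⟶ G) ≫ j) (𝟙 T) ≫ w)) ≫ a.act := by
  rw [MonoidalCategory.whiskerLeft_comp, Category.assoc, ← hw, ← Category.assoc, ← Category.assoc]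
  congr 1
  have : (G ◁ lift ((1 : T ⟶ G) ≫ j) (𝟙 T)) ≫ (α_ G L T).inv =
      lift (lift (fst _ _) ((1 : G ⊗ T ⟶ G) ≫ j)) (snd _ _) := by
    apply CartesianMonoidalCategory.hom_ext
    · apply CartesianMonoidalCategory.hom_ext
      · simp
      · simp only [Category.assoc, lift_fst, lift_snd, associator_inv_fst_snd, whiskerLeft_snd_assoc]
        rw [← Category.assoc, MonObj.comp_one]
    · simp
  rw [this, lift_whiskerRight, hj]
  apply CartesianMonoidalCategory.hom_ext <;> simp

theorem equivariant_after {G L X T : Over (Spec (CommRingCat.of R))} [GrpObj G] (aL : AlgGrp.Action G L)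
    (a : AlgGrp.Action G X) (j : G ⟶ L)
    (hj : ∀ {W : Over (Spec (CommRingCat.of R))} (g h : W ⟶ G),
      lift g (h ≫ j) ≫ aL.act = (g * h) ≫ j)
    (x : T ⟶ X) (u : L ⊗ T ⟶ X) (hux : (j ▷ T) ≫ u = (G ◁ x) ≫ a.act) :
    (G ◁ (j ▷ T)) ≫ (α_ G L T).inv ≫ (aL.act ▷ T) ≫ u = (G ◁ (j ▷ T)) ≫ (G ◁ u) ≫ a.act := by
  let p := fst G (G ⊗ T)
  let q := snd G (G ⊗ T) ≫ fst _ _
  let t := snd G (G ⊗ T) ≫ snd _ _
  have hx : ∀ (W : Over (Spec (CommRingCat.of R))) (g : W ⟶ G) (s : W ⟶ T),
      lift (g ≫ j) s ≫ u = lift g (s ≫ x) ≫ a.act := by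
    intro W g s
    rw [← lift_whiskerRight, Category.assoc, hux, ← Category.assoc, lift_whiskerLeft]
  have l1 : (G ◁ (j ▷ T)) ≫ (α_ G L T).inv = lift (lift p (q ≫ j)) t := by
    apply CartesianMonoidalCategory.hom_ext
    · apply CartesianMonoidalCategory.hom_ext <;> simp [p, q]
    · simp [t]
  have l2 : G ◁ ((j ▷ T) ≫ u) = lift p (lift q (t ≫ x) ≫ a.act) := by
    apply CartesianMonoidalCategory.hom_ext
    · simp [p]
    · rw [whiskerLeft_snd, lift_snd, ← hx, ← Category.assoc]
      congr 1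
      apply CartesianMonoidalCategory.hom_ext <;> simp [q, t]
  conv_rhs => rw [← Category.assoc, ← MonoidalCategory.whiskerLeft_comp, l2]
  rw [← Category.assoc, l1, ← Category.assoc, lift_whiskerRight, hj, hx, lift_lift_act]

/-- Density after multiplying by an auxiliary factor. -/
theorem ext_of_dense' {G X T : Over (Spec (CommRingCat.of R))} [IsSeparated X.hom]
    (u v : G ⊗ (ThetaS.Line R ⊗ T) ⟶ X)
    (h : (G ◁ (jm R ▷ T)) ≫ u = (G ◁ (jm R ▷ T)) ≫ v) : u = v := by
  let σ : ThetaS.Line R ⊗ (G ⊗ T) ⟶ G ⊗ (ThetaS.Line R ⊗ T) :=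
    lift (snd _ _ ≫ fst _ _) (lift (fst _ _) (snd _ _ ≫ snd _ _))
  let τ : G ⊗ (ThetaS.Line R ⊗ T) ⟶ ThetaS.Line R ⊗ (G ⊗ T) :=
    lift (snd _ _ ≫ fst _ _) (lift (fst _ _) (snd _ _ ≫ snd _ _))
  let σ' : ThetaS.Gm R ⊗ (G ⊗ T) ⟶ G ⊗ (ThetaS.Gm R ⊗ T) :=
    lift (snd _ _ ≫ fst _ _) (lift (fst _ _) (snd _ _ ≫ snd _ _))
  have hτ : τ ≫ σ = 𝟙 _ := by
    ext <;> simp [σ, τ]
  have hσ : (jm R ▷ (G ⊗ T)) ≫ σ = σ' ≫ (G ◁ (jm R ▷ T)) := by
    ext <;> simp [σ, σ']
  have := ext_of_dense (σ ≫ u) (σ ≫ v) (by rw [← Category.assoc, hσ, Category.assoc, h, ← Category.assoc, ← hσ, Category.assoc])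
  have := congrArg (τ ≫ ·) this
  simpa [← Category.assoc, hτ] using this

end

open CategoryTheory MonoidalCategory CartesianMonoidalCategory MonObj GrpObj AlgebraicGeometry in
/-- The case n = 1 for a scheme X separated over an affine base Spec R, stated as the two facts that
identify equivariant families with maps whose orbit map extends. Let G_m act on X (a left action a :
G_m × X → X over Spec R) and on A¹ × T through the scaling action on A¹, for an R-scheme T; write j
: G_m → A¹ for the inclusion t ↦ t. (a) If u, v : A¹ × T → X are G_m-equivariant R-morphisms with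
the same restriction to the section {1} × T, then u = v. (b) If x : T → X is an R-morphism and u :
A¹ × T → X is an R-morphism whose restriction along j × T is the orbit family (g, t) ↦ g · x(t),
then u is G_m-equivariant. (The source works with an algebraic space X quasi-separated and locally
of finite presentation over a base B with an action of G_mⁿ and deduces that X⁺ → X is a locally
finitely presented unramified monomorphism; only the elementary identification for n = 1 is stated
here, which uses separatedness alone.) -/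
theorem result
    (R : Type u) [CommRing R] (X : Over (Spec (CommRingCat.of R))) [IsSeparated X.hom]
    (a : AlgGrp.Action (ThetaS.Gm R) X) (T : Over (Spec (CommRingCat.of R))) :
    (∀ u v : ThetaS.Line R ⊗ T ⟶ X,
        (α_ (ThetaS.Gm R) (ThetaS.Line R) T).inv ≫ ((ThetaS.lineAction R).act ▷ T) ≫ u = (ThetaS.Gm R ◁ u) ≫ a.act →
        (α_ (ThetaS.Gm R) (ThetaS.Line R) T).inv ≫ ((ThetaS.lineAction R).act ▷ T) ≫ v = (ThetaS.Gm R ◁ v) ≫ a.act →
        lift ((1 : T ⟶ ThetaS.Gm R) ≫ (CoactBr.pt (ThetaS.linePt (ThetaS.zPow R 1)) : ThetaS.Gm R ⟶ ThetaS.Line R)) (𝟙 T) ≫ u =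
          lift ((1 : T ⟶ ThetaS.Gm R) ≫ (CoactBr.pt (ThetaS.linePt (ThetaS.zPow R 1)) : ThetaS.Gm R ⟶ ThetaS.Line R)) (𝟙 T) ≫ v →
        u = v) ∧
    (∀ (x : T ⟶ X) (u : ThetaS.Line R ⊗ T ⟶ X),
        ((CoactBr.pt (ThetaS.linePt (ThetaS.zPow R 1)) : ThetaS.Gm R ⟶ ThetaS.Line R) ▷ T) ≫ u = (ThetaS.Gm R ◁ x) ≫ a.act →
        (α_ (ThetaS.Gm R) (ThetaS.Line R) T).inv ≫ ((ThetaS.lineAction R).act ▷ T) ≫ u =
          (ThetaS.Gm R ◁ u) ≫ a.act) := by
  refine ⟨fun u v hu hv he => ?_, fun x u hux => ?_⟩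
  · apply ext_of_dense
    rw [orbit_comp (ThetaS.lineAction R) a (jm R) lift_one_act u hu,
      orbit_comp (ThetaS.lineAction R) a (jm R) lift_one_act v hv, he]
  · apply ext_of_dense'
    exact equivariant_after (ThetaS.lineAction R) a (jm R) mul_j_act x u hux

end Groth.Agent.S19039
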