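import Groth.Statements.S1904
import Groth.Agent.H3Cyc.P1Graph
import Groth.Agent.H17.SchDense
import Groth.Agent.H22Alg.CycBasic
-- import your own Groth.Agent.* helpers here

set_option autoImplicit false
universe u
open CategoryTheory AlgebraicGeometry
open CategoryTheory.Limits
open Cyc
open Groth.Agent
open Groth.Agent.H3Cyc

namespace Groth.Agent.S1904

/-- Let X be integral with δ(η) = n, U ⊆ X a nonempty open and f an invertible function on U, viewed as
a rational function on X. Let Y ⊆ P^1_X be the scheme-theoretic closure of the graph of f and Y_0,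
Y_∞ → X its pullbacks along the sections at 0 and ∞. Then div_X(f) = [Y_0]_{n−1} − [Y_∞]_{n−1}
coefficientwise. A pair (X, δ) with Cyc.IsSetup plays the role of a scheme locally of finite type
over a fixed base with a dimension function (X locally Noetherian with universally catenary local
rings, δ a dimension function), and Cyc.DeltaCompat records that the dimension function upstairs is
the induced one. The published statement has further parts, which are not stated here. -/
theorem result (X : Scheme.{u}) [IsIntegral X] (δ : X → ℤ) (hX : Cyc.IsSetup X δ) (n : ℤ) (hn : δ (genericPoint X) = n) (U : X.Opens) (hη : genericPoint X ∈ U) (f : Γ(X, U)) (hf : IsUnit f) : Cyc.divFun δ (genericPoint X) (X.evaluation U (genericPoint X) hη f) = fun x => Cyc.subschemeFun δ (n - 1) (pullback.snd (P1.graphClosureι X U f) (P1.sect X 0)) x - Cyc.subschemeFun δ (n - 1) (pullback.snd (P1.graphClosureι X U f) (P1.sect X 1)) x := by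
  classical
  haveI := hX.1
  let π := CohB1.ProjSpaceOver.toBase 1 X
  obtain ⟨δP, hP⟩ : ∃ δP : ↥(CohB1.ProjSpaceOver 1 X) → ℤ, Cyc.DeltaCompat π δP δ := by
    have key : ∀ p, ∃ s : ℕ, (letI := (π.residueFieldMap p).hom.toAlgebra
        Algebra.trdeg (X.residueField (π p)) ((CohB1.ProjSpaceOver 1 X).residueField p)) = s := fun p => by
      have aux : ∀ v : π.fiber (π p), π.fiberι (π p) v = p → ∃ s : ℕ, (letI := (π.residueFieldMap p).hom.toAlgebra
          Algebra.trdeg (X.residueField (π p)) ((CohB1.ProjSpaceOver 1 X).residueField p)) = s := by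
        intro v hv
        obtain ⟨s, -, h2⟩ := H8Props.FieldDim.exists_trdeg_fiber π v
        refine ⟨s, ?_⟩
        convert! h2 using 3 <;> rw [hv]
      exact aux _ (π.fiberι_asFiber p)
    choose s hs using key
    exact ⟨fun p => δ (π p) + s p, fun p => ⟨s p, hs p, rfl⟩⟩
  let φ := P1.graph X U f
  have hφπ : φ ≫ π = U.ι := pullback.lift_snd _ _ _
  haveI : IsLocallyNoetherian (U : Scheme.{u}) := LocallyOfFiniteType.isLocallyNoetherian U.ι
  haveI : QuasiCompact (φ ≫ π) := by rw [hφπ]; infer_instance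
  haveI : QuasiCompact φ := QuasiCompact.of_comp φ π
  haveI : Nonempty (U : Scheme.{u}) := ⟨⟨genericPoint X, hη⟩⟩
  haveI : IsIntegral (U : Scheme.{u}) := isIntegral_of_isOpenImmersion U.ι
  haveI : IsSchemeTheoreticallyDominant φ.toImage := ⟨H17.ker_toImage φ⟩
  haveI : IsReduced φ.image := IsSchemeTheoreticallyDominant.isReduced φ.toImage
  have hirr : closure {φ.toImage ⟨genericPoint X, hη⟩} = Set.univ := by
    refine Set.eq_univ_of_univ_subset ?_
    rw [← φ.toImage.denseRange.closure_eq]
    refine closure_minimal ?_ isClosed_closure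
    rintro _ ⟨w, rfl⟩
    refine specializes_iff_mem_closure.mp ((?_ : (⟨genericPoint X, hη⟩ : (U : Scheme.{u})) ⤳ w).map φ.toImage.continuous)
    exact U.ι.isEmbedding.isInducing.specializes_iff.mp (genericPoint_specializes _)
  haveI : IrreducibleSpace φ.image := (irreducibleSpace_def _).2 (by
    rw [Set.top_eq_univ, ← hirr]; exact isIrreducible_singleton.closure)
  haveI : IsIntegral φ.image := isIntegral_of_irreducibleSpace_of_isReduced _
  have hgen : genericPoint φ.image = φ.toImage ⟨genericPoint X, hη⟩ := (genericPoint_spec _).eq hirr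
  obtain ⟨s, hs⟩ : ∃ s : Spec (X.residueField (genericPoint X)) ⟶ (U : Scheme.{u}), s ≫ U.ι = X.fromSpecResidueField (genericPoint X) :=
    ⟨IsOpenImmersion.lift U.ι (X.fromSpecResidueField (genericPoint X)) (by
      rw [Scheme.range_fromSpecResidueField, Scheme.Opens.range_ι]; exact Set.singleton_subset_iff.mpr hη),
      IsOpenImmersion.lift_fac _ _ _⟩
  have hsp : ∀ t, s t = (⟨genericPoint X, hη⟩ : (U : Scheme.{u})) := fun t => U.ι.isOpenEmbedding.injective (by
    show (s ≫ U.ι) t = genericPoint X
    rw [hs]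
    exact X.fromSpecResidueField_apply _ t)
  let c : X.residueField (genericPoint X) := X.evaluation U (genericPoint X) hη f
  have hc : c ≠ 0 := (hf.map (X.evaluation U (genericPoint X) hη).hom).ne_zero
  let g := s ≫ φ
  have e : g ≫ P1C.toP X = (s ≫ U.toSpecΓ ≫ Spec.map (CommRingCat.ofHom (P1.chartMap 0 Γ(X, U) f))) ≫ P1C.chartι 0 := by
    show (s ≫ P1.graph X U f) ≫ pullback.fst _ _ = _
    refine (Category.assoc _ _ _).trans ((congrArg (fun t => s ≫ t) (pullback.lift_fst _ _ _)).trans ?_)
    simp only [Category.assoc]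
    rfl
  have hU : g ⁻¹ᵁ P1C.U X 0 = ⊤ := by
    rw [P1C.U, ← Scheme.Hom.comp_preimage, e, Scheme.Hom.comp_preimage, P1C.chartι_preimage, Scheme.Hom.preimage_top]
  have hg : g ≫ π = X.fromSpecResidueField (genericPoint X) := by rw [Category.assoc, hφπ, hs]
  have hcoord : g.appLE (P1C.U X 0) ⊤ hU.ge (P1C.coord X 0) = (Scheme.ΓSpecIso (X.residueField (genericPoint X))).inv c := by
    rw [P1C.coord_comp X 0 _ hU]
    have hU' : ((s ≫ U.toSpecΓ ≫ Spec.map (CommRingCat.ofHom (P1.chartMap 0 Γ(X, U) f))) ≫ P1C.chartι 0) ⁻¹ᵁ P1C.D 0 = ⊤ := by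
      rw [Scheme.Hom.comp_preimage, P1C.chartι_preimage, Scheme.Hom.preimage_top]
    simp only [e]
    rw [P1C.sec_chartι_comp _ hU', Scheme.Hom.comp_appTop, Scheme.Hom.comp_appTop]
    simp only [ConcreteCategory.comp_apply]
    have n1 := congrArg (fun t => t (P1C.frac 0)) (Scheme.ΓSpecIso_inv_naturality (CommRingCat.ofHom (P1.chartMap 0 Γ(X, U) f)))
    simp only [ConcreteCategory.comp_apply] at n1
    rw [← n1, Scheme.Opens.toSpecΓ_appTop]
    have e1 : P1.chartMap 0 Γ(X, U) f (P1C.frac 0) = f := P1C.chartMap_frac 0 _ f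
    have h2 : (Spec.map (X.residue (genericPoint X)) ≫ X.fromSpecStalk _) ⁻¹ᵁ U = ⊤ := P1C.fromStalk_preimage _ _ U hη
    have h3 := P1C.appLE_fromStalk (genericPoint X) (X.residue (genericPoint X)) U hη h2.ge f
    refine Eq.trans ?_ h3
    have h4 : s ≫ U.ι = Spec.map (X.residue (genericPoint X)) ≫ X.fromSpecStalk _ := hs
    simp only [← h4]
    rw [← Scheme.Hom.appLE_comp_appLE s U.ι U ⊤ ⊤ (fun y _ => y.2) (Scheme.Hom.preimage_top s).ge,
      ]
    refine Eq.trans ?_ (ConcreteCategory.comp_apply _ _ _).symm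
    have h5 : U.ι.appLE U ⊤ (fun y _ => y.2) f = U.topIso.inv f := by
      erw [Scheme.Opens.ι_appLE]; rfl
    rw [Scheme.Hom.appTop, Scheme.Hom.app_eq_appLE]
    erw [h5]
    refine congrArg (fun t => s.appLE ⊤ ⊤ (Scheme.Hom.preimage_top s).ge (U.topIso.inv t)) ?_
    exact (Iso.inv_hom_id_apply (Scheme.ΓSpecIso Γ(X, U)) _).trans e1
  have hpt : g (IsLocalRing.closedPoint _) = (P1.graphClosureι X U f) (genericPoint φ.image) := by
    rw [hgen]
    show _ = φ.imageι (φ.toImage _)
    exact (congrArg φ (hsp _)).trans (congrArg (fun t => t (⟨genericPoint X, hη⟩ : (U : Scheme.{u}))) φ.toImage_imageι).symm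
  haveI : IsClosedImmersion (P1.graphClosureι X U f) := inferInstanceAs (IsClosedImmersion φ.imageι)
  haveI : IsIntegral (P1.graph X U f).ker.subscheme := inferInstanceAs (IsIntegral φ.image)
  funext x
  exact ((P1C.fib_sub_eq_divFun hX hP (P1.graphClosureι X U f) hc g hg hU hcoord hpt (n - 1) (by rw [hn]; ring)).2 x).symm

end Groth.Agent.S1904
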