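import Groth.Statements.S19042
import Groth.Agent.H27Misc.GcModule
import Mathlib

set_option autoImplicit false
universe u
open Dieu

namespace Groth.Agent.S19042

/-- Let `k` be a perfect field of characteristic `2` and `c` a natural number, and consider the explicit
`2c`-dimensional `k`-space on `X_1, …, X_c, Y_1, …, Y_c` with its operators `F` and `V` (`F Y_j =
0`; `F X_j = X_{j/2}` for `j` even and `Y_{c-(j-1)/2}` for `j` odd; `V Y_j = Y_{2j}` when `2j ≤ c`,
else `0`; `V X_j = Y_{2c-2j+1}` when `2j > c`, else `0`). The vectors `X_j` with `c < 2j ≤ 2c`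
generate it as a module over `k[F, V]`: a `k`-subspace stable under `F` and `V` containing them is
everything. (Stated over any perfect field of characteristic `2`; the source works over an
algebraically closed one.) -/
theorem result (c : ℕ) (k : Type u) [Field k] [CharP k 2] [PerfectRing k 2]
    (N : Submodule k (W4c6eohyperellchar2.GcMod c k))
    (hF : ∀ v ∈ N, W4c6eohyperellchar2.F c k v ∈ N) (hV : ∀ v ∈ N, W4c6eohyperellchar2.V c k v ∈ N)
    (hX : ∀ j : ℕ, c < 2 * j → j ≤ c → W4c6eohyperellchar2.X c k j ∈ N) : N = ⊤ := by
  have hX' : ∀ j, 1 ≤ j → j ≤ c → W4c6eohyperellchar2.X c k j ∈ N := by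
    intro j
    induction hd : c - j using Nat.strong_induction_on generalizing j with
    | _ d ih =>
      intro h1 h2
      by_cases h : c < 2 * j
      · exact hX j h h2
      · have := hF _ (ih (c - 2 * j) (by omega) (2 * j) rfl (by omega) (by omega))
        rw [Groth.Agent.H27Misc.GcModule.F_X _ (by omega) (by omega), if_pos (by omega),
          show 2 * j / 2 = j by omega] at this
        exact this
  exact Groth.Agent.H27Misc.GcModule.eq_top_of_mem hX'
    (Groth.Agent.H27Misc.GcModule.Y_mem (fun j h h' => hV _ (hX j h h')) fun j _ h => hV _ h)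

end Groth.Agent.S19042
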