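import Groth.Statements.S19043
import Groth.Agent.H27Misc.GcModule
import Mathlib

set_option autoImplicit false
universe u
open Dieu

namespace Groth.Agent.S19043

/-- Let `k` be a perfect field of characteristic `2` and `c` a natural number, and let `M` be the
explicit `2c`-dimensional `k`-space on `X_1, …, X_c, Y_1, …, Y_c` with its operators `F` and `V` (`F
Y_j = 0`; `F X_j = X_{j/2}` for `j` even and `Y_{c-(j-1)/2}` for `j` odd; `V Y_j = Y_{2j}` when `2j
≤ c`, else `0`; `V X_j = Y_{2c-2j+1}` when `2j > c`, else `0`). The classes of the `X_j` with `c <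
2j ≤ 2c` in the quotient of `M` by the `k`-span of `F(M) ∪ V(M)` are linearly independent and span
that quotient. (Stated over any perfect field of characteristic `2`; the source works over an
algebraically closed one.) -/
theorem result (c : ℕ) (k : Type u) [Field k] [CharP k 2] [PerfectRing k 2] :
    LinearIndependent k (fun j : {j : ℕ // c < 2 * j ∧ j ≤ c} =>
        Submodule.mkQ (Submodule.span k (Set.range (W4c6eohyperellchar2.F c k) ∪ Set.range (W4c6eohyperellchar2.V c k))) (W4c6eohyperellchar2.X c k j.1)) ∧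
      Submodule.span k (Set.range (fun j : {j : ℕ // c < 2 * j ∧ j ≤ c} =>
        Submodule.mkQ (Submodule.span k (Set.range (W4c6eohyperellchar2.F c k) ∪ Set.range (W4c6eohyperellchar2.V c k))) (W4c6eohyperellchar2.X c k j.1))) = ⊤ := by
  classical
  set S := Submodule.span k (Set.range (W4c6eohyperellchar2.F c k) ∪ Set.range (W4c6eohyperellchar2.V c k))
    with hS
  have hY : ∀ m, 1 ≤ m → W4c6eohyperellchar2.Y c k m ∈ S :=
    Groth.Agent.H27Misc.GcModule.Y_mem (fun j _ _ => Submodule.subset_span (Or.inr ⟨_, rfl⟩))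
      fun j _ _ => Submodule.subset_span (Or.inr ⟨_, rfl⟩)
  have hlow : ∀ j, 1 ≤ j → 2 * j ≤ c → W4c6eohyperellchar2.X c k j ∈ S :=
    Groth.Agent.H27Misc.GcModule.X_mem fun j _ => Submodule.subset_span (Or.inl ⟨_, rfl⟩)
  have hzero : ∀ v ∈ S, ∀ i : Fin c, c < 2 * (i.val + 1) → v.1 i = 0 := by
    intro v hv i hi
    induction hv using Submodule.span_induction with
    | mem x hx =>
      rcases hx with ⟨y, rfl⟩ | ⟨y, rfl⟩
      · simp only [W4c6eohyperellchar2.F, W4c6eohyperellchar2.coefX]
        rw [dif_neg (by omega)]; simp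
      · rfl
    | zero => rfl
    | add x y _ _ hx hy => simp [hx, hy]
    | smul a x _ hx => simp [hx]
  refine ⟨?_, ?_⟩
  · rw [linearIndependent_iff']
    intro s g hg j hjs
    have hmem : ∑ i ∈ s, g i • W4c6eohyperellchar2.X c k i.1 ∈ S := by
      rw [← Submodule.Quotient.mk_eq_zero]
      simpa [← Submodule.mkQ_apply, map_sum] using hg
    have h := hzero _ hmem ⟨j.1 - 1, by have := j.2; omega⟩ (by have := j.2; simp only; omega)
    have hj : j.1 - 1 + 1 = j.1 := by have := j.2; omega
    simpa [Prod.fst_sum, W4c6eohyperellchar2.X, hj, Subtype.val_inj, Finset.sum_ite_eq, hjs] using h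
  · rw [Set.range_comp', ← Submodule.map_span, Submodule.map_mkQ_eq_top]
    refine Groth.Agent.H27Misc.GcModule.eq_top_of_mem (fun j h1 h2 => ?_)
      fun j h1 => Submodule.mem_sup_left (hY j h1)
    by_cases h : c < 2 * j
    · exact Submodule.mem_sup_right (Submodule.subset_span ⟨⟨j, h, h2⟩, rfl⟩)
    · exact Submodule.mem_sup_left (hlow j h1 (by omega))

end Groth.Agent.S19043
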