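import Groth.Statements.S19044
import Groth.Agent.H23Hyp.Char2Alg
import Groth.Agent.H23Hyp.Char2Reg

set_option autoImplicit false
universe u v w
open FunFld

namespace Groth.Agent.S19044

/-- Let `k` be algebraically closed of characteristic `2` and `K = k(x, y)` with `y² + y = f(x)`, `K`
separable of degree `2` over `k(x)`; let `B ⊆ k` be a finite set containing `0` such that `f` has a
pole of odd order `d_α` at `x = α` for every `α ∈ B` and is integral at all other places of `k(x)`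
(so also at infinity), and put `c_α = (d_α - 1)/2`. Then the differentials `z dx` with `z = (x -
α)^{-(j+1)}` (`α ∈ B`, `1 ≤ j ≤ c_α`) and `z = α/(x(x-α))` (`α ∈ B`, `α ≠ 0`) are regular, this
family of `z` is linearly independent over `k`, and every `z` with `z dx` regular is a `k`-linear
combination of them; regularity is read through Laurent expansions over `k` at every place of `K`.
(Up to sign these are the forms `x_α^{j-1} dx_α` and `x_α^{-1} dx_α - x_0^{-1} dx_0` with `x_α = (x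
- α)^{-1}`.) -/
theorem result (k : Type u) (K : Type v)
    [Field k] [IsAlgClosed k] [CharP k 2] [Field K] [Algebra k K] [Algebra (RatFunc k) K] [IsScalarTower k (RatFunc k) K]
    (hK : FunFld.IsFunctionField k K) (hdeg : Module.finrank (RatFunc k) K = 2) [Algebra.IsSeparable (RatFunc k) K]
    (y : K) (hy : y ∉ Set.range (algebraMap (RatFunc k) K)) (f : RatFunc k)
    (heq : y ^ 2 + y = algebraMap (RatFunc k) K f)
    (B : Finset k) (h0 : (0 : k) ∈ B) (d : k → ℕ) (hd : ∀ α ∈ B, Odd (d α))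
    (hpole : ∀ (p : FunFld.Place k (RatFunc k)) (α : k), α ∈ B →
      p.1 ((RatFunc.X : RatFunc k) - RatFunc.C α) < 1 → p.ord f = -(d α : ℤ))
    (hint : ∀ p : FunFld.Place k (RatFunc k), (∀ α ∈ B, 1 ≤ p.1 ((RatFunc.X : RatFunc k) - RatFunc.C α)) → p.1 f ≤ 1)
    (F : FunFld.Place k K → Type w) [∀ P, Field (F P)] [∀ P, Algebra k (F P)] [∀ P, FiniteDimensional k (F P)]
    (φ : ∀ P, K →ₐ[k] LaurentSeries (F P)) (hφ : ∀ P, LocRes.IsExpansionAt P.1 (φ P)) :
    (∀ i P, LocRes.vDiff (φ P) ((Sum.elim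
        (fun a : {a : ↥B × ℕ // 1 ≤ a.2 ∧ 2 * a.2 + 1 ≤ d (a.1 : k)} => algebraMap (RatFunc k) K (((RatFunc.X : RatFunc k) - RatFunc.C (a.1.1 : k))⁻¹ ^ (a.1.2 + 1)))
        (fun b : {b : ↥B // (b : k) ≠ 0} => algebraMap (RatFunc k) K (RatFunc.C (b.1 : k) / ((RatFunc.X : RatFunc k) * ((RatFunc.X : RatFunc k) - RatFunc.C (b.1 : k)))))) i) (algebraMap (RatFunc k) K RatFunc.X) ≤ 1) ∧
    LinearIndependent k (Sum.elim
        (fun a : {a : ↥B × ℕ // 1 ≤ a.2 ∧ 2 * a.2 + 1 ≤ d (a.1 : k)} => algebraMap (RatFunc k) K (((RatFunc.X : RatFunc k) - RatFunc.C (a.1.1 : k))⁻¹ ^ (a.1.2 + 1)))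
        (fun b : {b : ↥B // (b : k) ≠ 0} => algebraMap (RatFunc k) K (RatFunc.C (b.1 : k) / ((RatFunc.X : RatFunc k) * ((RatFunc.X : RatFunc k) - RatFunc.C (b.1 : k)))))) ∧
    ∀ z : K, (∀ P, LocRes.vDiff (φ P) z (algebraMap (RatFunc k) K RatFunc.X) ≤ 1) →
      z ∈ Submodule.span k (Set.range (Sum.elim
        (fun a : {a : ↥B × ℕ // 1 ≤ a.2 ∧ 2 * a.2 + 1 ≤ d (a.1 : k)} => algebraMap (RatFunc k) K (((RatFunc.X : RatFunc k) - RatFunc.C (a.1.1 : k))⁻¹ ^ (a.1.2 + 1)))
        (fun b : {b : ↥B // (b : k) ≠ 0} => algebraMap (RatFunc k) K (RatFunc.C (b.1 : k) / ((RatFunc.X : RatFunc k) * ((RatFunc.X : RatFunc k) - RatFunc.C (b.1 : k))))))) := by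
  classical
  have hR := Groth.Agent.H23Hyp.isFunctionField_ratFunc k
  set ι := algebraMap (Polynomial k) (RatFunc k)
  set lin : k → RatFunc k := fun α => (RatFunc.X : RatFunc k) - RatFunc.C α
  have hlin : ∀ α, lin α = ι (Polynomial.X - Polynomial.C α) := fun α => Groth.Agent.H23Hyp.xsub_poly α
  have hlin0 : ∀ α, lin α ≠ 0 := fun α => Groth.Agent.H23Hyp.xsub_ne α
  set ex : k → ℕ := fun α => (d α + 1) / 2
  set q : Polynomial k := ∏ α ∈ B, (Polynomial.X - Polynomial.C α) ^ ex α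
  have hq0 : q ≠ 0 := Finset.prod_ne_zero_iff.2 fun α _ => pow_ne_zero _ (Polynomial.X_sub_C_ne_zero α)
  have hqdeg : q.natDegree = ∑ α ∈ B, ex α := by
    rw [Polynomial.natDegree_prod _ _ fun α _ => pow_ne_zero _ (Polynomial.X_sub_C_ne_zero α)]
    simp [Polynomial.natDegree_pow]
  -- places at the points
  have hother : ∀ (p : FunFld.Place k (RatFunc k)) (β α : k), p.1 (lin β) < 1 → α ≠ β → p.1 (lin α) = 1 := by
    intro p β α hp hne
    rw [show lin α = RatFunc.C (β - α) + lin β by simp only [lin, map_sub]; ring, ← RatFunc.algebraMap_eq_C]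
    have h1 := Groth.Agent.H23FunFld.val_const p (sub_ne_zero.2 hne.symm)
    rw [p.1.map_add_eq_of_lt_left (by rw [h1]; exact hp), h1]
  have hexpn : ∀ (p : FunFld.Place k (RatFunc k)) (β : k), p.1 (lin β) < 1 → p.1 (lin β) = WithZero.exp (-1) := by
    intro p β hp
    rw [Groth.Agent.H23FunFld.val_eq_exp p (hlin0 β), (Groth.Agent.H23Hyp.at_point p hp).2.1]
  have hodd : ∀ p : FunFld.Place k (RatFunc k), p.ord f < 0 → Odd (p.ord f) := by
    intro p hp
    by_cases h : ∀ α ∈ B, 1 ≤ p.1 (lin α)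
    · have h1 := hint p h
      rcases eq_or_ne f 0 with rfl | hf0
      · simp [Groth.Agent.H23FunFld.ord_zero] at hp
      · have := (Groth.Agent.H23FunFld.val_le_one_iff p hf0).1 h1
        omega
    · push Not at h
      obtain ⟨α, hα, h1⟩ := h
      rw [hpole p α hα h1, odd_neg]
      exact_mod_cast hd α hα
  have hregular : ∀ p : FunFld.Place k (RatFunc k), (∀ α ∈ B, 1 ≤ p.1 (lin α)) → ¬ p.ord f < 0 := by
    intro p h
    rcases eq_or_ne f 0 with rfl | hf0
    · simp [Groth.Agent.H23FunFld.ord_zero]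
    · exact not_lt.2 ((Groth.Agent.H23FunFld.val_le_one_iff p hf0).1 (hint p h))
  have hq : ∀ p : FunFld.Place k (RatFunc k), p.1 RatFunc.X ≤ 1 →
      p.ord (ι q) = if p.ord f < 0 then (1 - p.ord f) / 2 else 0 := by
    intro p hp
    have hval : p.1 (ι q) = ∏ α ∈ B, p.1 (lin α) ^ ex α := by
      simp only [q, map_prod, map_pow, hlin]
    by_cases h : ∀ α ∈ B, 1 ≤ p.1 (lin α)
    · rw [if_neg (hregular p h)]
      have h1 : p.1 (ι q) = 1 := by
        rw [hval]
        refine Finset.prod_eq_one fun α hα => ?_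
        rw [le_antisymm ?_ (h α hα), one_pow]
        simp only [lin, ← RatFunc.algebraMap_eq_C]
        exact (p.1.map_sub _ _).trans (max_le hp (p.2.1 α))
      simp [FunFld.Place.ord, h1]
    · push Not at h
      obtain ⟨β, hβ, hlt⟩ := h
      obtain ⟨t, ht⟩ := hd β hβ
      rw [if_pos (by rw [hpole p β hβ hlt]; omega), hpole p β hβ hlt]
      have h1 : p.1 (ι q) = WithZero.exp (-(ex β : ℤ)) := by
        rw [hval, ← Finset.mul_prod_erase B _ hβ, hexpn p β hlt, ← WithZero.exp_nsmul,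
          Finset.prod_eq_one fun α hα => by
            rw [hother p β α hlt (Finset.ne_of_mem_erase hα), one_pow], mul_one]
        congr 1
        simp
      simp only [FunFld.Place.ord, h1, WithZero.log_exp, neg_neg, ex]
      omega
  obtain ⟨hreg, hconv, hgen⟩ := Groth.Agent.H23Hyp.as_regular k K hK hdeg y hy f heq hodd q hq0 hq F φ hφ
  set g := FunFld.genus k K
  have hg : (g : ℤ) = q.natDegree - 1 := by
    obtain ⟨-, pinf, -, hpo, -⟩ := Groth.Agent.H23FunFld.genus_zero_of_adjoin_top hR RatFunc.adjoin_X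
    have hneg : pinf.ord (RatFunc.X : RatFunc k) < 0 := by omega
    have hgt : 1 < pinf.1 (RatFunc.X : RatFunc k) := by
      rw [Groth.Agent.H23FunFld.val_eq_exp pinf RatFunc.X_ne_zero, ← WithZero.exp_zero, WithZero.exp_lt_exp]; omega
    rw [hgen pinf hneg, if_neg (hregular pinf fun α _ => (Groth.Agent.H23Hyp.at_infty pinf hgt α).2), add_zero]
  -- the family in k(x)
  let v : ({a : ↥B × ℕ // 1 ≤ a.2 ∧ 2 * a.2 + 1 ≤ d (a.1 : k)} ⊕ {b : ↥B // (b : k) ≠ 0}) → RatFunc k :=
    Sum.elim (fun a => (lin (a.1.1 : k))⁻¹ ^ (a.1.2 + 1))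
      (fun b => RatFunc.C (b.1 : k) / ((RatFunc.X : RatFunc k) * lin (b.1 : k)))
  set alg := (IsScalarTower.toAlgHom k (RatFunc k) K).toLinearMap
  have hfam : (Sum.elim
        (fun a : {a : ↥B × ℕ // 1 ≤ a.2 ∧ 2 * a.2 + 1 ≤ d (a.1 : k)} => algebraMap (RatFunc k) K (((RatFunc.X : RatFunc k) - RatFunc.C (a.1.1 : k))⁻¹ ^ (a.1.2 + 1)))
        (fun b : {b : ↥B // (b : k) ≠ 0} => algebraMap (RatFunc k) K (RatFunc.C (b.1 : k) / ((RatFunc.X : RatFunc k) * ((RatFunc.X : RatFunc k) - RatFunc.C (b.1 : k)))))) = alg ∘ v := by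
    funext i; cases i <;> rfl
  rw [hfam]
  have hX : (RatFunc.X : RatFunc k) = lin 0 := by simp [lin]
  -- membership in {a/q}
  have hmem : ∀ i, ∃ a : Polynomial k, a.degree < (g : WithBot ℕ) ∧ v i = ι a / ι q := by
    rintro (⟨⟨α, j⟩, hj1, hj2⟩ | ⟨α, hα0⟩)
    · set R : Polynomial k := ∏ β ∈ B.erase (α : k), (Polynomial.X - Polynomial.C β) ^ ex β
      set a := (Polynomial.X - Polynomial.C (α : k)) ^ (ex α - (j + 1)) * R
      have hjle : j + 1 ≤ ex α := by simp only [ex] at *; omega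
      have hqa : (Polynomial.X - Polynomial.C (α : k)) ^ (j + 1) * a = q := by
        simp only [a, ← mul_assoc, ← pow_add, Nat.add_sub_cancel' hjle]
        exact Finset.mul_prod_erase B (fun β => (Polynomial.X - Polynomial.C β) ^ ex β) α.2
      have ha0 : a ≠ 0 := fun h => hq0 (by rw [← hqa, h, mul_zero])
      refine ⟨a, ?_, ?_⟩
      · have h1 := congrArg Polynomial.natDegree hqa
        rw [Polynomial.natDegree_mul (pow_ne_zero _ (Polynomial.X_sub_C_ne_zero _)) ha0, Polynomial.natDegree_pow,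
          Polynomial.natDegree_X_sub_C, mul_one] at h1
        rw [Polynomial.degree_eq_natDegree ha0, Nat.cast_lt]
        omega
      · have ha' : ι a ≠ 0 := RatFunc.algebraMap_ne_zero ha0
        simp only [v, Sum.elim_inl]
        rw [eq_div_iff (RatFunc.algebraMap_ne_zero hq0), ← hqa, map_mul, map_pow, ← hlin, ← mul_assoc, inv_pow,
          inv_mul_cancel₀ (pow_ne_zero _ (hlin0 _)), one_mul]
    · have h0' : (0 : k) ∈ B.erase (α : k) := Finset.mem_erase.2 ⟨Ne.symm hα0, h0⟩
      set R : Polynomial k := ∏ β ∈ (B.erase (α : k)).erase 0, (Polynomial.X - Polynomial.C β) ^ ex β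
      set a := Polynomial.C (α : k) * ((Polynomial.X - Polynomial.C (α : k)) ^ (ex α - 1) *
        ((Polynomial.X - Polynomial.C (0 : k)) ^ (ex 0 - 1) * R))
      have he1 : 1 ≤ ex α := by obtain ⟨t, ht⟩ := hd α α.2; simp only [ex]; omega
      have he0 : 1 ≤ ex 0 := by obtain ⟨t, ht⟩ := hd 0 h0; simp only [ex]; omega
      have hqa : (Polynomial.X - Polynomial.C (0 : k)) * (Polynomial.X - Polynomial.C (α : k)) * a =
          Polynomial.C (α : k) * q := by
        have e1 : q = (Polynomial.X - Polynomial.C (α : k)) ^ ex α * ((Polynomial.X - Polynomial.C (0 : k)) ^ ex 0 * R) := by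
          simp only [q, R]
          rw [← Finset.mul_prod_erase B _ α.2, ← Finset.mul_prod_erase (B.erase (α : k)) _ h0']
        obtain ⟨u, hu⟩ := Nat.exists_eq_add_of_le he1
        obtain ⟨u', hu'⟩ := Nat.exists_eq_add_of_le he0
        simp only [a, e1, hu, hu', Nat.add_sub_cancel_left]
        ring
      have hCq : Polynomial.C (α : k) * q ≠ 0 := mul_ne_zero (Polynomial.C_ne_zero.2 hα0) hq0
      have ha0 : a ≠ 0 := fun h => hCq (by rw [← hqa, h, mul_zero])
      refine ⟨a, ?_, ?_⟩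
      · have h1 := congrArg Polynomial.natDegree hqa
        rw [Polynomial.natDegree_mul (mul_ne_zero (Polynomial.X_sub_C_ne_zero _) (Polynomial.X_sub_C_ne_zero _)) ha0,
          Polynomial.natDegree_mul (Polynomial.X_sub_C_ne_zero _) (Polynomial.X_sub_C_ne_zero _),
          Polynomial.natDegree_X_sub_C, Polynomial.natDegree_X_sub_C, Polynomial.natDegree_C_mul (p := q) hα0] at h1
        rw [Polynomial.degree_eq_natDegree ha0, Nat.cast_lt]
        omega
      · simp only [v, Sum.elim_inr, hX]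
        rw [div_eq_div_iff (mul_ne_zero (hlin0 _) (hlin0 _)) (RatFunc.algebraMap_ne_zero hq0), ← RatFunc.algebraMap_C,
          ← map_mul, ← hqa, hlin, hlin, map_mul, map_mul]
        ring
  -- independence
  have hind : LinearIndependent k v := by
    rw [linearIndependent_iff']
    intro s c hsum
    have hterm : ∀ (p : FunFld.Place k (RatFunc k)) i, c i ≠ 0 → p.1 (c i • v i) = p.1 (v i) := by
      intro p i hi
      rw [Algebra.smul_def, map_mul, Groth.Agent.H23FunFld.val_const p hi, one_mul]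
    have hdom : ∀ (p : FunFld.Place k (RatFunc k)) i₀, i₀ ∈ s → c i₀ ≠ 0 →
        (∀ i ∈ s, i ≠ i₀ → c i ≠ 0 → p.1 (v i) < p.1 (v i₀)) → False := by
      intro p i₀ hi₀ hc h
      have h1 : p.1 (∑ i ∈ s, c i • v i) = p.1 (c i₀ • v i₀) := by
        refine p.1.map_sum_eq_of_lt hi₀ fun i hi => ?_
        rw [hterm p i₀ hc]
        have hne : i ≠ i₀ := fun e => (Finset.mem_sdiff.1 hi).2 (Finset.mem_singleton.2 e)
        rcases eq_or_ne (c i) 0 with h0' | h0'
        · rw [h0', zero_smul, map_zero, zero_lt_iff]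
          refine (Valuation.ne_zero_iff _).2 ?_
          rcases i₀ with a | b
          · exact pow_ne_zero _ (inv_ne_zero (hlin0 _))
          · exact div_ne_zero (by rw [← RatFunc.algebraMap_eq_C]; exact (_root_.map_ne_zero _).2 b.2)
              (mul_ne_zero RatFunc.X_ne_zero (hlin0 _))
        · rw [hterm p i h0']
          exact h i (Finset.mem_sdiff.1 hi).1 hne h0'
      rw [hsum, map_zero, hterm p i₀ hc] at h1
      rcases i₀ with a | b
      · exact (Valuation.ne_zero_iff _).2 (pow_ne_zero _ (inv_ne_zero (hlin0 _))) h1.symm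
      · exact (Valuation.ne_zero_iff _).2 (div_ne_zero (by rw [← RatFunc.algebraMap_eq_C]; exact (_root_.map_ne_zero _).2 b.2)
          (mul_ne_zero RatFunc.X_ne_zero (hlin0 _))) h1.symm
    have hplace : ∀ β : k, ∃ p : FunFld.Place k (RatFunc k), p.1 (lin β) < 1 := fun β =>
      Groth.Agent.H23FunFld.exists_place_lt_one hR (x := lin β) (by
        intro halg
        refine RatFunc.transcendental_X (K := k) ?_
        rw [show (RatFunc.X : RatFunc k) = lin β + algebraMap k (RatFunc k) β by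
          rw [RatFunc.algebraMap_eq_C]; simp [lin]]
        exact halg.add (isAlgebraic_algebraMap _))
    have hb1 : ∀ (p : FunFld.Place k (RatFunc k)) (β : k), p.1 (lin β) < 1 →
        ∀ b : {b : ↥B // (b : k) ≠ 0}, p.1 (v (Sum.inr b)) ≤ WithZero.exp 1 ∧
          (β ≠ 0 → (b.1 : k) = β → p.1 (v (Sum.inr b)) = WithZero.exp 1) ∧
          (β ≠ 0 → (b.1 : k) ≠ β → p.1 (v (Sum.inr b)) = 1) := by
      intro p β hp b
      have hC : p.1 (RatFunc.C (b.1 : k)) = 1 := by
        rw [← RatFunc.algebraMap_eq_C]; exact Groth.Agent.H23FunFld.val_const p b.2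
      simp only [v, Sum.elim_inr, hX, map_div₀, map_mul, hC, one_div]
      refine ⟨?_, fun hβ e => ?_, fun hβ e => ?_⟩
      · rcases eq_or_ne (0 : k) β with rfl | h1
        · rw [hexpn p 0 hp, hother p 0 _ hp b.2, mul_one, ← WithZero.exp_neg, neg_neg]
        · rw [hother p β 0 hp h1, one_mul]
          rcases eq_or_ne (b.1 : k) β with e | e
          · rw [e, hexpn p β hp, ← WithZero.exp_neg, neg_neg]
          · rw [hother p β _ hp e, inv_one, ← WithZero.exp_zero, WithZero.exp_le_exp]; norm_num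
      · rw [hother p β 0 hp hβ.symm, one_mul, e, hexpn p β hp, ← WithZero.exp_neg, neg_neg]
      · rw [hother p β 0 hp hβ.symm, hother p β _ hp e, one_mul, inv_one]
    have hva : ∀ (p : FunFld.Place k (RatFunc k)) (β : k), p.1 (lin β) < 1 →
        ∀ a : {a : ↥B × ℕ // 1 ≤ a.2 ∧ 2 * a.2 + 1 ≤ d (a.1 : k)},
          ((a.1.1 : k) = β → p.1 (v (Sum.inl a)) = WithZero.exp ((a.1.2 : ℤ) + 1)) ∧
          ((a.1.1 : k) ≠ β → p.1 (v (Sum.inl a)) = 1) := by
      intro p β hp a
      simp only [v, Sum.elim_inl, map_pow, map_inv₀]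
      refine ⟨fun e => ?_, fun e => by rw [hother p β _ hp e, inv_one, one_pow]⟩
      rw [e, hexpn p β hp, ← WithZero.exp_neg, ← WithZero.exp_nsmul]
      congr 1; simp
    have hA : ∀ a, Sum.inl a ∈ s → c (Sum.inl a) = 0 := by
      intro a ha
      by_contra hne
      obtain ⟨p, hp⟩ := hplace (a.1.1 : k)
      obtain ⟨i₀, hi₀, hmax⟩ := (s.filter fun i => c i ≠ 0).exists_max_image (fun i => p.1 (v i))
        ⟨_, Finset.mem_filter.2 ⟨ha, hne⟩⟩
      rw [Finset.mem_filter] at hi₀
      have hbig : WithZero.exp ((a.1.2 : ℤ) + 1) ≤ p.1 (v i₀) := by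
        rw [← (hva p _ hp a).1 rfl]; exact hmax _ (Finset.mem_filter.2 ⟨ha, hne⟩)
      have hgt1 : WithZero.exp (1 : ℤ) < p.1 (v i₀) := by
        refine lt_of_lt_of_le ?_ hbig
        rw [WithZero.exp_lt_exp]; have := a.2.1; omega
      refine hdom p i₀ hi₀.1 hi₀.2 fun i hi hine hci => lt_of_le_of_ne (hmax i (Finset.mem_filter.2 ⟨hi, hci⟩)) ?_
      intro heq'
      rcases i₀ with a₀ | b₀
      swap
      · exact (not_le.2 hgt1) (hb1 p _ hp b₀).1
      rcases i with a' | b'
      swap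
      · exact (not_le.2 hgt1) (heq' ▸ (hb1 p _ hp b').1)
      by_cases e0 : (a₀.1.1 : k) = (a.1.1 : k)
      swap
      · rw [(hva p _ hp a₀).2 e0] at hgt1
        exact (not_le.2 hgt1) (by rw [← WithZero.exp_zero, WithZero.exp_le_exp]; norm_num)
      by_cases e' : (a'.1.1 : k) = (a.1.1 : k)
      swap
      · rw [← heq', (hva p _ hp a').2 e'] at hgt1
        exact (not_le.2 hgt1) (by rw [← WithZero.exp_zero, WithZero.exp_le_exp]; norm_num)
      rw [(hva p _ hp a₀).1 e0, (hva p _ hp a').1 e', WithZero.exp_inj] at heq'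
      exact hine (congrArg Sum.inl (Subtype.ext (Prod.ext (Subtype.ext (e'.trans e0.symm)) (by omega))))
    rintro (a | b) hi
    · exact hA a hi
    by_contra hne
    obtain ⟨p, hp⟩ := hplace (b.1 : k)
    refine hdom p _ hi hne fun i hi' hine hci => ?_
    rw [(hb1 p _ hp b).2.1 b.2 rfl]
    rcases i with a' | b'
    · exact absurd (hA a' hi') hci
    · rw [(hb1 p _ hp b').2.2 b.2 (fun e => hine (congrArg Sum.inr (Subtype.ext (Subtype.ext e)))),
        ← WithZero.exp_zero, WithZero.exp_lt_exp]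
      norm_num
  -- counting
  set L : Polynomial k →ₗ[k] RatFunc k :=
    LinearMap.mulRight k (ι q)⁻¹ ∘ₗ (IsScalarTower.toAlgHom k (Polynomial k) (RatFunc k)).toLinearMap
  have hL : ∀ a, L a = ι a / ι q := fun a => (div_eq_mul_inv _ _).symm
  set W := (Polynomial.degreeLT k g).map L
  have hspan : Submodule.span k (Set.range v) = W := by
    haveI : Module.Finite k (Polynomial.degreeLT k g) := Module.Finite.equiv (Polynomial.degreeLTEquiv k g).symm
    haveI : Module.Finite k W := Module.Finite.map _ _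
    have hle : Submodule.span k (Set.range v) ≤ W := by
      rw [Submodule.span_le]
      rintro _ ⟨i, rfl⟩
      obtain ⟨a, ha, hva⟩ := hmem i
      exact ⟨a, Polynomial.mem_degreeLT.2 ha, by rw [hL, hva]⟩
    refine Submodule.eq_of_le_of_finrank_le hle ?_
    have h1 : Module.finrank k W ≤ g := by
      refine (Submodule.finrank_map_le _ _).trans (le_of_eq ?_)
      rw [(Polynomial.degreeLTEquiv k g).finrank_eq, Module.finrank_fintype_fun_eq_card, Fintype.card_fin]
    let eA : {a : ↥B × ℕ // 1 ≤ a.2 ∧ 2 * a.2 + 1 ≤ d (a.1 : k)} ≃ Σ α : ↥B, Fin ((d (α : k) - 1) / 2) :=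
      { toFun := fun a => ⟨a.1.1, ⟨a.1.2 - 1, by have := a.2.1; have := a.2.2; omega⟩⟩
        invFun := fun a => ⟨(a.1, (a.2 : ℕ) + 1), by
          have := a.2.2; obtain ⟨t, ht⟩ := hd (a.1 : k) a.1.2; refine ⟨?_, ?_⟩ <;> dsimp only <;> omega⟩
        left_inv := fun a => Subtype.ext (Prod.ext rfl (by have := a.2.1; dsimp only; omega))
        right_inv := fun a => by
          obtain ⟨α, ⟨j, hj⟩⟩ := a
          simp }
    let eB : {b : ↥B // (b : k) ≠ 0} ≃ ↥(B.erase 0) :=
      { toFun := fun b => ⟨b.1, Finset.mem_erase.2 ⟨b.2, b.1.2⟩⟩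
        invFun := fun b => ⟨⟨b.1, (Finset.mem_erase.1 b.2).2⟩, (Finset.mem_erase.1 b.2).1⟩
        left_inv := fun b => rfl
        right_inv := fun b => rfl }
    letI : Fintype {a : ↥B × ℕ // 1 ≤ a.2 ∧ 2 * a.2 + 1 ≤ d (a.1 : k)} := Fintype.ofEquiv _ eA.symm
    rw [finrank_span_eq_card hind, Fintype.card_sum, Fintype.card_congr eA, Fintype.card_congr eB,
      Fintype.card_sigma, Fintype.card_coe, Finset.card_erase_of_mem h0]
    simp only [Fintype.card_fin]
    rw [Finset.sum_coe_sort B (fun α => (d α - 1) / 2)]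
    refine h1.trans ?_
    have h2 : q.natDegree = ∑ α ∈ B, (d α - 1) / 2 + B.card := by
      rw [hqdeg, Finset.card_eq_sum_ones, ← Finset.sum_add_distrib]
      refine Finset.sum_congr rfl fun α hα => ?_
      obtain ⟨t, ht⟩ := hd α hα
      simp only [ex]
      omega
    have h3 : 1 ≤ B.card := Finset.card_pos.2 ⟨0, h0⟩
    omega
  refine ⟨fun i P => ?_, hind.map' alg (LinearMap.ker_eq_bot.2 (algebraMap (RatFunc k) K).injective), fun z hz => ?_⟩
  · obtain ⟨a, ha, hva⟩ := hmem i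
    change LocRes.vDiff (φ P) (algebraMap (RatFunc k) K (v i)) _ ≤ 1
    rw [hva]
    exact hreg a ha P
  · obtain ⟨a, ha, rfl⟩ := hconv z hz
    rw [Set.range_comp, Submodule.span_image, hspan]
    exact ⟨ι a / ι q, ⟨a, Polynomial.mem_degreeLT.2 ha, hL a⟩, rfl⟩

end Groth.Agent.S19044
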