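import Groth.Statements.S19045
import Groth.Agent.H23Hyp.Char2Alg

set_option autoImplicit false
universe u v
open FunFld

namespace Groth.Agent.S19045

/-- Let `k` be algebraically closed of characteristic `2` and `K = k(x, y)` with `y² + y = f(x)`, `K`
separable of degree `2` over `k(x)`; let `B ⊆ k` be a finite set containing `0` such that `f` has a
pole of odd order `d_β` at `x = β` for every `β ∈ B` and is integral at all other places of `k(x)`.
Then `y` is integral at the places of `K` above `x = ∞` and has order `0` at one of them, and for `α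
∈ B` and `j ∈ ℤ` the divisor of poles of `y (x - α)^j` consists of: order `max(d_α - 2j, 0)` at the
place above `α`, order exactly `d_β` above every other `β ∈ B`, order `max(j - ord_P y, 0)` at each
place `P` above `∞`, and nothing elsewhere. -/
theorem result (k : Type u) (K : Type v)
    [Field k] [IsAlgClosed k] [CharP k 2] [Field K] [Algebra k K] [Algebra (RatFunc k) K] [IsScalarTower k (RatFunc k) K]
    (hK : FunFld.IsFunctionField k K) (hdeg : Module.finrank (RatFunc k) K = 2) [Algebra.IsSeparable (RatFunc k) K]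
    (y : K) (hy : y ∉ Set.range (algebraMap (RatFunc k) K)) (f : RatFunc k)
    (heq : y ^ 2 + y = algebraMap (RatFunc k) K f)
    (B : Finset k) (h0 : (0 : k) ∈ B) (d : k → ℕ) (hd : ∀ β ∈ B, Odd (d β))
    (hpole : ∀ (p : FunFld.Place k (RatFunc k)) (β : k), β ∈ B →
      p.1 ((RatFunc.X : RatFunc k) - RatFunc.C β) < 1 → p.ord f = -(d β : ℤ))
    (hint : ∀ p : FunFld.Place k (RatFunc k), (∀ β ∈ B, 1 ≤ p.1 ((RatFunc.X : RatFunc k) - RatFunc.C β)) → p.1 f ≤ 1) :
    (∀ P : FunFld.Place k K, 1 < P.1 (algebraMap (RatFunc k) K RatFunc.X) → 0 ≤ P.ord y) ∧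
    (∃ P : FunFld.Place k K, 1 < P.1 (algebraMap (RatFunc k) K RatFunc.X) ∧ P.ord y = 0) ∧
    ∀ (α : k), α ∈ B → ∀ (j : ℤ) (P : FunFld.Place k K),
      (P.1 ((algebraMap (RatFunc k) K RatFunc.X) - (algebraMap k K α)) < 1 →
        max (-(P.ord (y * ((algebraMap (RatFunc k) K RatFunc.X) - (algebraMap k K α)) ^ j))) 0 = max ((d α : ℤ) - 2 * j) 0) ∧
      (∀ β : k, β ∈ B → β ≠ α → P.1 ((algebraMap (RatFunc k) K RatFunc.X) - (algebraMap k K β)) < 1 →
        P.ord (y * ((algebraMap (RatFunc k) K RatFunc.X) - (algebraMap k K α)) ^ j) = -(d β : ℤ)) ∧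
      (1 < P.1 (algebraMap (RatFunc k) K RatFunc.X) → max (-(P.ord (y * ((algebraMap (RatFunc k) K RatFunc.X) - (algebraMap k K α)) ^ j))) 0 = max (j - P.ord y) 0) ∧
      (P.1 (algebraMap (RatFunc k) K RatFunc.X) ≤ 1 → (∀ β : k, β ∈ B → 1 ≤ P.1 ((algebraMap (RatFunc k) K RatFunc.X) - (algebraMap k K β))) → 0 ≤ P.ord (y * ((algebraMap (RatFunc k) K RatFunc.X) - (algebraMap k K α)) ^ j)) := by
  classical
  open Groth.Agent.H23Hyp Groth.Agent.H23FunFld Groth.Agent.H23Ext in
  haveI : CharP K 2 := charP_of_injective_algebraMap (algebraMap k K).injective 2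
  haveI : Module.Finite (RatFunc k) K := Module.finite_of_finrank_pos (by rw [hdeg]; norm_num)
  have hF := Groth.Agent.H23Hyp.isFunctionField_ratFunc k
  have hinf : ∀ P : FunFld.Place k K, 1 < P.1 (algebraMap (RatFunc k) K RatFunc.X) → 0 ≤ P.ord y ∧
      ∀ α : k, P.ord (algebraMap (RatFunc k) K RatFunc.X - algebraMap k K α) = -1 :=
    fun P hP => Groth.Agent.H23Hyp.over_infty hdeg hy heq hint P hP
  have hne : ∀ α : k, algebraMap (RatFunc k) K RatFunc.X - algebraMap k K α ≠ 0 := fun α => by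
    rw [Groth.Agent.H23Hyp.xsub_eq]; exact (_root_.map_ne_zero _).2 (Groth.Agent.H23Hyp.xsub_ne α)
  have hy0 : y ≠ 0 := Groth.Agent.H23Hyp.y_ne_zero hy
  have hzp : ∀ (P : FunFld.Place k K) (z : K), z ≠ 0 → ∀ j : ℤ, P.ord (z ^ j) = j * P.ord z := by
    intro P z hz j
    simp [FunFld.Place.ord, map_zpow₀, WithZero.log_zpow]
  have hmul : ∀ (P : FunFld.Place k K) (α : k) (j : ℤ),
      P.ord (y * (algebraMap (RatFunc k) K RatFunc.X - algebraMap k K α) ^ j) =
        P.ord y + j * P.ord (algebraMap (RatFunc k) K RatFunc.X - algebraMap k K α) := fun P α j => by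
    rw [Groth.Agent.H23FunFld.ord_mul P hy0 (zpow_ne_zero _ (hne α)), hzp P _ (hne α)]
  refine ⟨fun P hP => (hinf P hP).1, ?_, fun α hα j P => ⟨fun hP => ?_, fun β hβ hne' hP => ?_, fun hP => ?_, fun hx hP => ?_⟩⟩
  · obtain ⟨p, hpX⟩ : ∃ p : FunFld.Place k (RatFunc k), 1 < p.1 (RatFunc.X : RatFunc k) := by
      obtain ⟨p, hp⟩ := Groth.Agent.H23FunFld.exists_pole hF (x := (RatFunc.X : RatFunc k)) (by
        rintro ⟨c, hc⟩
        exact RatFunc.transcendental_X (hc ▸ isAlgebraic_algebraMap c))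
      refine ⟨p, ?_⟩
      rw [Groth.Agent.H23FunFld.val_eq_exp p RatFunc.X_ne_zero, ← WithZero.exp_zero, WithZero.exp_lt_exp]
      omega
    obtain ⟨P, e, he⟩ := Groth.Agent.H23Ext.exists_above (K' := K) hF p
    have hP : 1 < P.1 (algebraMap (RatFunc k) K RatFunc.X) := by
      rw [he]; exact one_lt_pow₀ hpX (Groth.Agent.H23Ext.IsOverWith.pos he).ne'
    by_cases hord : P.ord y = 0
    · exact ⟨P, hP, hord⟩
    obtain ⟨σ, hσ⟩ := Groth.Agent.H23Hyp.as_sigma hy heq hdeg
    refine ⟨Groth.Agent.H23Ext.conj σ P, ?_, ?_⟩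
    · rw [Groth.Agent.H23Ext.conj_apply, σ.commutes]; exact hP
    · have hlt : P.1 y < 1 := (Groth.Agent.H23FunFld.val_lt_one_iff P hy0).2
        (lt_of_le_of_ne (hinf P hP).1 (Ne.symm hord))
      have h1 : P.1 (σ y) = 1 := by
        rw [hσ, show -1 - y = -(1 + y) by ring, Valuation.map_neg,
          P.1.map_add_eq_of_lt_left (by rw [map_one]; exact hlt), map_one]
      simp [FunFld.Place.ord, Groth.Agent.H23Ext.conj_apply, h1]
  · obtain ⟨h1, h2, -⟩ := Groth.Agent.H23Hyp.over_pole hdeg hy heq hd hpole P hα hP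
    rw [hmul, h1, h2]
    congr 1
    ring
  · obtain ⟨h1, -, -⟩ := Groth.Agent.H23Hyp.over_pole hdeg hy heq hd hpole P hβ hP
    have h2 : P.1 (algebraMap (RatFunc k) K RatFunc.X - algebraMap k K α) = 1 := by
      rw [show algebraMap (RatFunc k) K RatFunc.X - algebraMap k K α =
        algebraMap k K (β - α) + (algebraMap (RatFunc k) K RatFunc.X - algebraMap k K β) by rw [map_sub]; ring]
      have h3 := Groth.Agent.H23FunFld.val_const P (sub_ne_zero.2 hne')
      rw [P.1.map_add_eq_of_lt_left (by rw [h3]; exact hP), h3]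
    rw [hmul, h1]
    simp [FunFld.Place.ord, h2]
  · rw [hmul, (hinf P hP).2 α]
    congr 1
    ring
  · obtain ⟨h1, h2⟩ := Groth.Agent.H23Hyp.over_other hdeg hy heq hint P hx hP
    rw [hmul, h2 α hα]
    omega

end Groth.Agent.S19045
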