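import Groth.Statements.S19046
import Groth.Agent.H23Hyp.Char2Genus

set_option autoImplicit false
universe u v
open Classical
open FunFld

namespace Groth.Agent.S19046

/-- Let `k` be algebraically closed of characteristic `2`, `K = k(x, y)` with `y² + y = f(x)` separable
of degree `2` over `k(x)`, `B ⊆ k` a finite set containing `0` with `f` having a pole of odd order
`d_β` at `x = β` for `β ∈ B` and integral elsewhere, `c_β = (d_β - 1)/2`, and `P_β` a place of `K`
above `x = β`. Identify `H¹(X, O)` of the smooth projective model with the repartitions (adeles with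
components in `K`) modulo `W = A(0) + K` (everywhere-integral repartitions plus constants), a Čech
class with defining component `h` at `β` corresponding to the repartition with component `h` at
`P_β` and `0` elsewhere. Then the repartitions supported at `P_α` with value `y (x - α)^j` (`α ∈ B`,
`1 ≤ j ≤ c_α`) and with value `y` (`α ∈ B`, `α ≠ 0`) are adeles whose classes modulo `W` are
linearly independent over `k` and, together with `W`, span the adeles: they give a basis of `H¹(X,
O)`. -/
theorem result (k : Type u) (K : Type v)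
    [Field k] [IsAlgClosed k] [CharP k 2] [Field K] [Algebra k K] [Algebra (RatFunc k) K] [IsScalarTower k (RatFunc k) K]
    (hK : FunFld.IsFunctionField k K) (hdeg : Module.finrank (RatFunc k) K = 2) [Algebra.IsSeparable (RatFunc k) K]
    (y : K) (hy : y ∉ Set.range (algebraMap (RatFunc k) K)) (f : RatFunc k)
    (heq : y ^ 2 + y = algebraMap (RatFunc k) K f)
    (B : Finset k) (h0 : (0 : k) ∈ B) (d : k → ℕ) (hd : ∀ β ∈ B, Odd (d β))
    (hpole : ∀ (p : FunFld.Place k (RatFunc k)) (β : k), β ∈ B →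
      p.1 ((RatFunc.X : RatFunc k) - RatFunc.C β) < 1 → p.ord f = -(d β : ℤ))
    (hint : ∀ p : FunFld.Place k (RatFunc k), (∀ β ∈ B, 1 ≤ p.1 ((RatFunc.X : RatFunc k) - RatFunc.C β)) → p.1 f ≤ 1)
    (Pl : k → FunFld.Place k K) (hPl : ∀ β ∈ B, (Pl β).1 ((algebraMap (RatFunc k) K RatFunc.X) - (algebraMap k K β)) < 1) :
    (∀ i, (Sum.elim
        (fun a : {a : ↥B × ℕ // 1 ≤ a.2 ∧ 2 * a.2 + 1 ≤ d (a.1 : k)} =>
          (Pi.single (Pl (a.1.1 : k)) (y * ((algebraMap (RatFunc k) K RatFunc.X) - (algebraMap k K (a.1.1 : k))) ^ a.1.2) : FunFld.Place k K → K))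
        (fun b : {b : ↥B // (b : k) ≠ 0} => (Pi.single (Pl (b.1 : k)) y : FunFld.Place k K → K))) i ∈ FunFld.adele k K) ∧
    LinearIndependent k (fun i => Submodule.mkQ (FunFld.AD (0 : FunFld.Divisor k K) ⊔ LinearMap.range (FunFld.diag k K)) ((Sum.elim
        (fun a : {a : ↥B × ℕ // 1 ≤ a.2 ∧ 2 * a.2 + 1 ≤ d (a.1 : k)} =>
          (Pi.single (Pl (a.1.1 : k)) (y * ((algebraMap (RatFunc k) K RatFunc.X) - (algebraMap k K (a.1.1 : k))) ^ a.1.2) : FunFld.Place k K → K))
        (fun b : {b : ↥B // (b : k) ≠ 0} => (Pi.single (Pl (b.1 : k)) y : FunFld.Place k K → K))) i)) ∧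
    ∀ a : FunFld.Place k K → K, a ∈ FunFld.adele k K →
      a ∈ (FunFld.AD (0 : FunFld.Divisor k K) ⊔ LinearMap.range (FunFld.diag k K)) ⊔ Submodule.span k (Set.range (Sum.elim
        (fun a : {a : ↥B × ℕ // 1 ≤ a.2 ∧ 2 * a.2 + 1 ≤ d (a.1 : k)} =>
          (Pi.single (Pl (a.1.1 : k)) (y * ((algebraMap (RatFunc k) K RatFunc.X) - (algebraMap k K (a.1.1 : k))) ^ a.1.2) : FunFld.Place k K → K))
        (fun b : {b : ↥B // (b : k) ≠ 0} => (Pi.single (Pl (b.1 : k)) y : FunFld.Place k K → K)))) := by
  open Groth.Agent.H23Hyp Groth.Agent.H23FunFld Groth.Agent.H23Ext in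
  have hR := Groth.Agent.H23Hyp.isFunctionField_ratFunc k
  haveI : Module.Finite (RatFunc k) K := Module.finite_of_finrank_pos (by rw [hdeg]; norm_num)
  haveI : CharP K 2 := charP_of_injective_algebraMap (algebraMap k K).injective 2
  have h2K : (2 : K) = 0 := CharTwo.two_eq_zero
  set x := algebraMap (RatFunc k) K RatFunc.X
  have hy0 : y ≠ 0 := Groth.Agent.H23Hyp.y_ne_zero hy
  have hpl := fun α (hα : α ∈ B) => Groth.Agent.H23Hyp.over_pole hdeg hy heq hd hpole (Pl α) hα (hPl α hα)
  have hPlinj : ∀ α ∈ B, ∀ β ∈ B, Pl α = Pl β → α = β := by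
    intro α hα β hβ e
    by_contra hne
    have h1 := hPl α hα
    have h2 := hPl β hβ
    rw [← e] at h2
    have h3 := (Pl α).1.map_sub (x - algebraMap k K α) (x - algebraMap k K β)
    rw [show x - algebraMap k K α - (x - algebraMap k K β) = algebraMap k K (β - α) by rw [map_sub]; ring,
      Groth.Agent.H23FunFld.val_const _ (sub_ne_zero.2 (Ne.symm hne))] at h3
    exact absurd h3 (not_le.2 (max_lt h1 h2))
  let pt : ({a : ↥B × ℕ // 1 ≤ a.2 ∧ 2 * a.2 + 1 ≤ d (a.1 : k)} ⊕ {b : ↥B // (b : k) ≠ 0}) → k :=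
    Sum.elim (fun a => (a.1.1 : k)) (fun b => (b.1 : k))
  let ex : ({a : ↥B × ℕ // 1 ≤ a.2 ∧ 2 * a.2 + 1 ≤ d (a.1 : k)} ⊕ {b : ↥B // (b : k) ≠ 0}) → ℕ :=
    Sum.elim (fun a => a.1.2) (fun _ => 0)
  let v := fun i => (Pi.single (Pl (pt i)) (y * (x - algebraMap k K (pt i)) ^ ex i) : FunFld.Place k K → K)
  have hfam : (Sum.elim
        (fun a : {a : ↥B × ℕ // 1 ≤ a.2 ∧ 2 * a.2 + 1 ≤ d (a.1 : k)} =>
          (Pi.single (Pl (a.1.1 : k)) (y * ((algebraMap (RatFunc k) K RatFunc.X) - (algebraMap k K (a.1.1 : k))) ^ a.1.2) : FunFld.Place k K → K))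
        (fun b : {b : ↥B // (b : k) ≠ 0} => (Pi.single (Pl (b.1 : k)) y : FunFld.Place k K → K))) = v := by
    funext i; cases i
    · rfl
    · simp [v, pt, ex]
  rw [hfam]
  have hptB : ∀ i, pt i ∈ B := by rintro (a | b); exacts [a.1.1.2, b.1.2]
  have hexle : ∀ i, 2 * ex i + 1 ≤ d (pt i) := by
    rintro (a | b)
    · exact a.2.2
    · obtain ⟨t, ht⟩ := hd _ b.1.2
      simp only [ex, pt, Sum.elim_inr]
      omega
  have hinj : ∀ i j, pt i = pt j → ex i = ex j → i = j := by
    rintro (a | b) (a' | b') h1 h2 <;> simp only [pt, ex, Sum.elim_inl, Sum.elim_inr] at h1 h2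
    · exact congrArg Sum.inl (Subtype.ext (Prod.ext (Subtype.ext h1) h2))
    · exact absurd h2 (by have := a.2.1; omega)
    · exact absurd h2 (by have := a'.2.1; omega)
    · exact congrArg Sum.inr (Subtype.ext (Subtype.ext h1))
  have hzero : ∀ i, pt i = 0 → ex i ≠ 0 := by
    rintro (a | b) h1
    · have := a.2.1; simp only [ex, Sum.elim_inl]; omega
    · exact absurd h1 b.2
  set W := FunFld.AD (0 : FunFld.Divisor k K) ⊔ LinearMap.range (FunFld.diag k K)
  have hadele : ∀ i, v i ∈ FunFld.adele k K := by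
    intro i
    change ∀ᶠ P in Filter.cofinite, _
    rw [Filter.eventually_cofinite]
    refine (Set.finite_singleton (Pl (pt i))).subset fun P hP => ?_
    by_contra hne
    refine hP ?_
    simp only [v]
    rw [Pi.single_eq_of_ne hne, map_zero]
    exact zero_le
  obtain ⟨σ, hσ⟩ := Groth.Agent.H23Hyp.as_sigma hy heq hdeg
  have hind : LinearIndependent k (fun i => W.mkQ (v i)) := by
    rw [linearIndependent_iff']
    intro s c hsum
    replace hsum : (∑ i ∈ s, c i • v i) ∈ W := by
      rw [← Submodule.Quotient.mk_eq_zero W, ← Submodule.mkQ_apply, map_sum]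
      simpa using hsum
    obtain ⟨a, ha, _, ⟨z, rfl⟩, haz⟩ := Submodule.mem_sup.1 hsum
    set G : k → Polynomial k := fun β => ∑ i ∈ s.filter (fun i => pt i = β), Polynomial.C (c i) * Polynomial.X ^ ex i
    set h : k → RatFunc k := fun β => Polynomial.aeval ((RatFunc.X : RatFunc k) - RatFunc.C β) (G β)
    have hval : ∀ P, (∑ i ∈ s, c i • v i) P =
        ∑ i ∈ s.filter (fun i => Pl (pt i) = P), c i • (y * (x - algebraMap k K (pt i)) ^ ex i) := by
      intro P
      rw [Finset.sum_apply, Finset.sum_filter]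
      refine Finset.sum_congr rfl fun i _ => ?_
      by_cases e : Pl (pt i) = P
      · rw [if_pos e, Pi.smul_apply, ← e]
        simp [v]
      · rw [if_neg e, Pi.smul_apply]
        simp [v, Ne.symm e]
    have hat : ∀ β ∈ B, (∑ i ∈ s, c i • v i) (Pl β) = y * algebraMap (RatFunc k) K (h β) := by
      intro β hβ
      rw [hval, Finset.filter_congr (fun i _ => (⟨fun e => hPlinj _ (hptB i) _ hβ e, fun e => by rw [e]⟩ :
        Pl (pt i) = Pl β ↔ pt i = β))]
      simp only [h, G, map_sum, map_mul, Polynomial.aeval_C, Polynomial.aeval_X, map_pow, Finset.mul_sum]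
      refine Finset.sum_congr rfl fun i hi => ?_
      rw [(Finset.mem_filter.1 hi).2, Groth.Agent.H23Hyp.xsub_eq, Algebra.smul_def,
        ← IsScalarTower.algebraMap_apply]
      ring
    have hint' : ∀ P : FunFld.Place k K, P.1 ((∑ i ∈ s, c i • v i) P - z) ≤ 1 := by
      intro P
      rw [← haz]
      simpa [FunFld.diag] using ha P
    obtain ⟨A, Bc, hAB⟩ := Groth.Agent.H23Hyp.coords hdeg hy z
    have hBz : algebraMap (RatFunc k) K Bc = σ z - z := by
      rw [hAB, map_add, map_mul, σ.commutes, σ.commutes, hσ]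
      linear_combination (algebraMap (RatFunc k) K Bc * (y + 1)) * h2K
    have hconj : ∀ β ∈ B, Groth.Agent.H23Ext.conj σ (Pl β) = Pl β := by
      intro β hβ
      refine (hpl β hβ).2.2 _ ?_
      rw [Groth.Agent.H23Ext.conj_apply, map_sub, σ.commutes,
        IsScalarTower.algebraMap_apply k (RatFunc k) K β, σ.commutes, ← IsScalarTower.algebraMap_apply]
      exact hPl β hβ
    have hhint : ∀ β ∈ B, (Pl β).1 (algebraMap (RatFunc k) K (h β)) ≤ 1 := by
      intro β hβ
      simp only [h]
      rw [← IsScalarTower.toAlgHom_apply (R := k), ← Polynomial.aeval_algHom_apply, IsScalarTower.toAlgHom_apply,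
        ← Groth.Agent.H23Hyp.xsub_eq]
      exact Groth.Agent.H23Hyp.val_aeval_le_one _ (hPl β hβ).le _
    have hB1 : ∀ P : FunFld.Place k K, P.1 (algebraMap (RatFunc k) K Bc) ≤ 1 := by
      intro P
      rw [hBz]
      by_cases hP : ∃ β ∈ B, Pl β = P
      · obtain ⟨β, hβ, rfl⟩ := hP
        have h1 := hint' (Pl β)
        rw [hat β hβ] at h1
        have h2 : (Pl β).1 (σ (y * algebraMap (RatFunc k) K (h β) - z)) ≤ 1 := by
          rw [← Groth.Agent.H23Ext.conj_apply, hconj β hβ]; exact h1
        have e : σ z - z = (y * algebraMap (RatFunc k) K (h β) - z) - σ (y * algebraMap (RatFunc k) K (h β) - z)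
            + algebraMap (RatFunc k) K (h β) := by
          rw [map_sub, map_mul, σ.commutes, hσ]
          linear_combination (-(algebraMap (RatFunc k) K (h β) * (y + 1))) * h2K
        rw [e]
        exact ((Pl β).1.map_add _ _).trans (max_le (((Pl β).1.map_sub _ _).trans (max_le h1 h2)) (hhint β hβ))
      · push Not at hP
        have hz0 : ∀ Q : FunFld.Place k K, (∀ β ∈ B, Pl β ≠ Q) → Q.1 z ≤ 1 := fun Q hQ => by
          have h1 := hint' Q
          rwa [hval, Finset.filter_eq_empty_iff.2 (fun {i} _ => hQ _ (hptB i)), Finset.sum_empty, zero_sub,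
            Valuation.map_neg] at h1
        refine (P.1.map_sub _ _).trans (max_le ?_ (hz0 P hP))
        have := hz0 (Groth.Agent.H23Ext.conj σ P) fun β hβ e => hP β hβ (by
          refine ((hpl β hβ).2.2 P ?_).symm
          have h1 := hPl β hβ
          rw [e, Groth.Agent.H23Ext.conj_apply, map_sub, σ.commutes,
            IsScalarTower.algebraMap_apply k (RatFunc k) K β, σ.commutes, ← IsScalarTower.algebraMap_apply] at h1
          exact h1)
        rwa [Groth.Agent.H23Ext.conj_apply] at this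
    have hmem : algebraMap (RatFunc k) K Bc ∈ FunFld.L (0 : FunFld.Divisor k K) :=
      Groth.Agent.H23FunFld.mem_L.2 fun P => by simpa using hB1 P
    rw [Groth.Agent.H23FunFld.L_zero hK, Submodule.mem_one] at hmem
    obtain ⟨b, hb⟩ := hmem
    have key : ∀ β ∈ B, G β = Polynomial.C b := by
      intro β hβ
      by_contra hne
      set q := (G β - Polynomial.C b).comp (Polynomial.X - Polynomial.C β)
      have hdegG : (G β).natDegree ≤ (d β - 1) / 2 := by
        refine Polynomial.natDegree_sum_le_of_forall_le _ _ fun i hi => ?_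
        refine (Polynomial.natDegree_C_mul_X_pow_le _ _).trans ?_
        have := hexle i
        rw [(Finset.mem_filter.1 hi).2] at this
        omega
      have hqdeg : q.natDegree ≤ (d β - 1) / 2 := by
        simp only [q]
        rw [Polynomial.natDegree_comp, Polynomial.natDegree_X_sub_C, mul_one, Polynomial.natDegree_sub_C]
        exact hdegG
      have hq0 : q ≠ 0 := by
        intro e
        rcases Polynomial.comp_eq_zero_iff.1 e with e1 | ⟨-, e1⟩
        · exact hne (sub_eq_zero.1 e1)
        · have := congrArg Polynomial.natDegree e1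
          simp at this
      obtain ⟨p, e, he⟩ := Groth.Agent.H23Ext.exists_below (K' := K) hR.1 (Pl β)
      have hp : p.1 ((RatFunc.X : RatFunc k) - RatFunc.C β) < 1 := by
        have := hPl β hβ
        rw [Groth.Agent.H23Hyp.xsub_eq, he] at this
        exact (pow_lt_one_iff (Groth.Agent.H23Ext.IsOverWith.pos he).ne').1 this
      obtain rfl : e = 2 := by
        have h1 := Groth.Agent.H23Hyp.ord_eq_of_below he β
        rw [(hpl β hβ).2.1, (Groth.Agent.H23Hyp.at_point p hp).2.1] at h1
        omega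
      obtain ⟨n, g, hg, hqg⟩ := WfDvdMonoid.max_power_factor hq0 (Polynomial.irreducible_X_sub_C β)
      have hn : n ≤ (d β - 1) / 2 := by
        have hg0 : g ≠ 0 := fun e1 => hq0 (by rw [hqg, e1, mul_zero])
        have := congrArg Polynomial.natDegree hqg
        rw [Polynomial.natDegree_mul (pow_ne_zero _ (Polynomial.X_sub_C_ne_zero β)) hg0, Polynomial.natDegree_pow,
          Polynomial.natDegree_X_sub_C] at this
        omega
      set u := algebraMap (Polynomial k) (RatFunc k) q
      have hu : h β - algebraMap k (RatFunc k) b = u := by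
        simp only [u, q, h]
        rw [← Groth.Agent.H23Hyp.aeval_X_eq, Polynomial.aeval_comp]
        simp [RatFunc.algebraMap_eq_C]
      have hu0 : u ≠ 0 := RatFunc.algebraMap_ne_zero hq0
      have hbK : algebraMap (RatFunc k) K Bc = algebraMap (RatFunc k) K (algebraMap k (RatFunc k) b) := by
        rw [← hb, ← IsScalarTower.algebraMap_apply]
      have h1 := hint' (Pl β)
      rw [hat β hβ, hAB, hbK, show y * algebraMap (RatFunc k) K (h β) - (algebraMap (RatFunc k) K A +
          algebraMap (RatFunc k) K (algebraMap k (RatFunc k) b) * y) =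
          algebraMap (RatFunc k) K u * y + -(algebraMap (RatFunc k) K A) by
        rw [← hu, map_sub]; ring] at h1
      have hou : p.ord u = (n : ℤ) := by
        have h3 : p.1 (algebraMap (Polynomial k) (RatFunc k) g) = 1 := (Groth.Agent.H23Hyp.at_point p hp).2.2 g hg
        simp only [u, hqg, FunFld.Place.ord, map_mul, map_pow, h3, mul_one, ← Groth.Agent.H23Hyp.xsub_poly]
        rw [Groth.Agent.H23FunFld.val_eq_exp p (Groth.Agent.H23Hyp.xsub_ne β),
          (Groth.Agent.H23Hyp.at_point p hp).2.1, ← WithZero.exp_nsmul, WithZero.log_exp]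
        simp
      have hu' : algebraMap (RatFunc k) K u ≠ 0 := (_root_.map_ne_zero _).2 hu0
      have hord : (Pl β).ord (algebraMap (RatFunc k) K u * y) = 2 * (n : ℤ) - d β := by
        rw [Groth.Agent.H23FunFld.ord_mul _ hu' hy0, (hpl β hβ).1, Groth.Agent.H23Ext.IsOverWith.ord_eq he, hou]
        push_cast; ring
      obtain ⟨t, ht⟩ := hd β hβ
      have hle : (Pl β).1 (algebraMap (RatFunc k) K u * y) ≤ 1 := by
        rcases eq_or_ne A 0 with rfl | hA
        · simpa using h1
        have hne' : (Pl β).1 (algebraMap (RatFunc k) K u * y) ≠ (Pl β).1 (-(algebraMap (RatFunc k) K A)) := by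
          rw [Valuation.map_neg]
          intro e1
          have := congrArg (fun v => -WithZero.log v) e1
          change (Pl β).ord (algebraMap (RatFunc k) K u * y) = (Pl β).ord (algebraMap (RatFunc k) K A) at this
          rw [hord, Groth.Agent.H23Ext.IsOverWith.ord_eq he] at this
          push_cast at this
          omega
        rw [Valuation.map_add_of_distinct_val _ hne'] at h1
        exact (le_max_left _ _).trans h1
      rw [Groth.Agent.H23FunFld.val_le_one_iff _ (mul_ne_zero hu' hy0), hord] at hle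
      omega
    have hcoeff : ∀ i ∈ s, (G (pt i)).coeff (ex i) = c i := by
      intro i hi
      simp only [G, Polynomial.finsetSum_coeff, Polynomial.coeff_C_mul_X_pow]
      rw [Finset.sum_eq_single i]
      · simp
      · intro j hj hne
        rw [if_neg fun e => hne (hinj j i (Finset.mem_filter.1 hj).2 e.symm)]
      · intro hni
        exact absurd (Finset.mem_filter.2 ⟨hi, rfl⟩ : i ∈ s.filter fun j => pt j = pt i) hni
    have hb0 : b = 0 := by
      have h1 := congrArg (fun p => Polynomial.coeff p 0) (key 0 h0)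
      simp only [G, Polynomial.finsetSum_coeff, Polynomial.coeff_C_mul_X_pow, Polynomial.coeff_C_zero] at h1
      rw [← h1]
      exact Finset.sum_eq_zero fun i hi => if_neg (Ne.symm (hzero i (Finset.mem_filter.1 hi).2))
    intro i hi
    rw [← hcoeff i hi, key _ (hptB i), hb0, map_zero, Polynomial.coeff_zero]
  refine ⟨hadele, hind, fun a ha => ?_⟩
  let eA : {a : ↥B × ℕ // 1 ≤ a.2 ∧ 2 * a.2 + 1 ≤ d (a.1 : k)} ≃ Σ α : ↥B, Fin ((d (α : k) - 1) / 2) :=
    { toFun := fun a => ⟨a.1.1, ⟨a.1.2 - 1, by have := a.2.1; have := a.2.2; omega⟩⟩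
      invFun := fun a => ⟨(a.1, (a.2 : ℕ) + 1), by
        have := a.2.2; obtain ⟨t, ht⟩ := hd (a.1 : k) a.1.2; refine ⟨?_, ?_⟩ <;> dsimp only <;> omega⟩
      left_inv := fun a => Subtype.ext (Prod.ext rfl (by have := a.2.1; dsimp only; omega))
      right_inv := fun a => by
        obtain ⟨α, ⟨j, hj⟩⟩ := a
        simp }
  let eB : {b : ↥B // (b : k) ≠ 0} ≃ ↥(B.erase 0) :=
    { toFun := fun b => ⟨b.1, Finset.mem_erase.2 ⟨b.2, b.1.2⟩⟩
      invFun := fun b => ⟨⟨b.1, (Finset.mem_erase.1 b.2).2⟩, (Finset.mem_erase.1 b.2).1⟩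
      left_inv := fun b => rfl
      right_inv := fun b => rfl }
  letI : Fintype {a : ↥B × ℕ // 1 ≤ a.2 ∧ 2 * a.2 + 1 ≤ d (a.1 : k)} := Fintype.ofEquiv _ eA.symm
  obtain ⟨hfin, hrank⟩ := Groth.Agent.H23FunFld.finrank_quotient_ADK hK (0 : FunFld.Divisor k K)
  rw [Groth.Agent.H23FunFld.phi_zero hK, sub_zero] at hrank
  let J : (↥(FunFld.adele k K) ⧸ FunFld.ADK (0 : FunFld.Divisor k K)) →ₗ[k] (FunFld.Place k K → K) ⧸ W :=
    Submodule.mapQ _ _ (FunFld.adele k K).subtype le_rfl
  let u := fun i => (FunFld.ADK (0 : FunFld.Divisor k K)).mkQ ⟨v i, hadele i⟩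
  have hu : LinearIndependent k u := LinearIndependent.of_comp J hind
  have hcard : Fintype.card ({a : ↥B × ℕ // 1 ≤ a.2 ∧ 2 * a.2 + 1 ≤ d (a.1 : k)} ⊕ {b : ↥B // (b : k) ≠ 0}) =
      Module.finrank k (↥(FunFld.adele k K) ⧸ FunFld.ADK (0 : FunFld.Divisor k K)) := by
    rw [Fintype.card_sum, Fintype.card_congr eA, Fintype.card_congr eB,
      Fintype.card_sigma, Fintype.card_coe, Finset.card_erase_of_mem h0]
    simp only [Fintype.card_fin]
    rw [Finset.sum_coe_sort B (fun α => (d α - 1) / 2)]
    have hg := Groth.Agent.H23Hyp.as_genus_sum hdeg hy heq hd hpole hint hK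
    have h2 : ∑ α ∈ B, (d α + 1) / 2 = ∑ α ∈ B, (d α - 1) / 2 + B.card := by
      rw [Finset.card_eq_sum_ones, ← Finset.sum_add_distrib]
      refine Finset.sum_congr rfl fun α hα => ?_
      obtain ⟨t, ht⟩ := hd α hα
      omega
    have h3 : 1 ≤ B.card := Finset.card_pos.2 ⟨0, h0⟩
    rw [h2] at hg
    omega
  have htop := hu.span_eq_top_of_card_eq_finrank' hcard
  have hmem : (FunFld.ADK (0 : FunFld.Divisor k K)).mkQ ⟨a, ha⟩ ∈ Submodule.span k (Set.range u) := by
    rw [htop]; trivial
  rw [show u = (FunFld.ADK (0 : FunFld.Divisor k K)).mkQ ∘ fun i => ⟨v i, hadele i⟩ from rfl, Set.range_comp,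
    Submodule.span_image] at hmem
  obtain ⟨w, hw, hwa⟩ := hmem
  rw [Submodule.mkQ_apply, Submodule.mkQ_apply, Submodule.Quotient.eq] at hwa
  have hmap : (w : FunFld.Place k K → K) ∈ Submodule.span k (Set.range v) := by
    have := Submodule.mem_map_of_mem (f := (FunFld.adele k K).subtype) hw
    rwa [Submodule.map_span, ← Set.range_comp] at this
  have := sub_mem (Submodule.mem_sup_right (S := W) hmap) (Submodule.mem_sup_left (T := Submodule.span k (Set.range v)) hwa)
  simpa using this

end Groth.Agent.S19046
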