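import Groth.Statements.S19049
import Groth.Agent.H27RelHilb.Closed

set_option autoImplicit false
open CategoryTheory CategoryTheory.Limits AlgebraicGeometry
universe u
open HilbD

namespace Groth.Agent.S19049

/-- Let k be a field, X a projective k-scheme (proper, with a closed immersion into some projective
space P^n_k over k), B a separated k-scheme locally of finite type, π : C → B a flat proper morphism
and j : C → X a closed immersion compatible with the structure morphisms to Spec k. Let ℓ ≥ 1, let
(H, Z) represent the degree-ℓ Hilbert functor of points of X over k and let (H', Z') represent the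
degree-ℓ Hilbert functor of points of C over B. Then any k-morphism m : H' → H classifying the image
of Z' ⊆ C ×_B H' inside X ×_k H' (that is, the morphism sending a T-point (T → B, W ⊆ C ×_B T) to W
⊆ X ×_k T) is a closed immersion. (The published statement takes π a flat family of curves; fibre
dimension one is not used. Representability of the two Hilbert functors is assumed through the
representing pairs.) -/
theorem result
    (k : Type u) [Field k] {X B C : Scheme.{u}} (g : X ⟶ Spec (CommRingCat.of k))
    (b : B ⟶ Spec (CommRingCat.of k)) (π : C ⟶ B) (j : C ⟶ X) [IsClosedImmersion j]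
    (h : j ≫ g = π ≫ b) [IsProper g]
    (hproj : ∃ (n : ℕ) (ι : X ⟶ CohB1.ProjSpace n k), IsClosedImmersion ι ∧ ι ≫ CohB1.ProjSpace.toSpec n k = g)
    [IsSeparated b] [LocallyOfFiniteType b] [Flat π] [IsProper π]
    (ℓ : ℕ) (hℓ : 0 < ℓ)
    (H : Over (Spec (CommRingCat.of k))) (Z : HilbD.Obj g ℓ H) (hZ : HilbD.IsUniversal g ℓ H Z)
    (H' : Over B) (Z' : HilbD.Obj π ℓ H') (hZ' : HilbD.IsUniversal π ℓ H' Z')
    (m : Over.mk (H'.hom ≫ b) ⟶ H)
    (hm : HilbD.pull g m Z.1 =
      (Z'.1.subschemeι ≫ pullback.map π H'.hom g (H'.hom ≫ b) j (𝟙 H'.left) b h.symm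
        (Category.id_comp _).symm).ker) :
    IsClosedImmersion m.left := by
  exact H27RelHilb.isClosedImmersion_of_universal g b π j h hℓ H Z hZ H' Z' hZ' m hm

end Groth.Agent.S19049
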