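import Groth.Statements.S19050
import Groth.Agent.H10Coh.HomFibre.Rank
import Groth.Agent.H10Coh.FibreLift.Points
import Groth.Agent.H12AlgSp.Residual
import Groth.Agent.H29Blow.Basic

set_option autoImplicit false
open CategoryTheory CategoryTheory.Limits AlgebraicGeometry
universe u
open Coherent

namespace Groth.Agent.S19050

/-- Let R be a discrete valuation ring, X a projective R-scheme and I, F coherent O_X-modules flat over
R. Suppose that for each point y of Spec R the κ(y)-vector space of morphisms I_y → F_y between the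
restrictions to the fibre X_y = X ×_R Spec κ(y) has the same dimension n. Then the R-module
Hom_{O_X}(I, F) is free of rank n (finitely generated, free, of rank n), and if n ≥ 1 there is a
morphism I → F whose restriction to each fibre is nonzero. (The published statement is for the base
change to R of a smooth projective variety over a field; it is stated here for any projective
R-scheme, to which the printed argument applies unchanged. The identification of the two fibres of
Hom(I, F) with the Hom spaces on the fibres is not restated; its consequence for n ≥ 1 is.) -/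
theorem result
    (R : Type u) [CommRing R] [IsDomain R] [IsDiscreteValuationRing R]
    (X : Scheme.{u}) [X.Over (Spec (CommRingCat.of R))]
    (hproj : ∃ (m : ℕ) (ι : X ⟶ CohB1.ProjSpace m R), IsClosedImmersion ι ∧
      ι ≫ CohB1.ProjSpace.toSpec m R = X ↘ Spec (CommRingCat.of R))
    (I F : X.Modules) (hI : Coh.IsCoh I) (hF : Coh.IsCoh F)
    (hIfl : FlatMod.IsFlatOver (X ↘ Spec (CommRingCat.of R)) I)
    (hFfl : FlatMod.IsFlatOver (X ↘ Spec (CommRingCat.of R)) F)
    (n : ℕ)
    (hfib : ∀ y : ↥(Spec (CommRingCat.of R)),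
      letI : ((X ↘ Spec (CommRingCat.of R)).fiber y).Over
          (Spec (CommRingCat.of ((Spec (CommRingCat.of R)).residueField y))) :=
        ⟨(X ↘ Spec (CommRingCat.of R)).fiberToSpecResidueField y⟩
      Module.finrank ((Spec (CommRingCat.of R)).residueField y)
        ((Scheme.Modules.pullback ((X ↘ Spec (CommRingCat.of R)).fiberι y)).obj I ⟶
          (Scheme.Modules.pullback ((X ↘ Spec (CommRingCat.of R)).fiberι y)).obj F) = n) :
    Module.Finite R (I ⟶ F) ∧ Module.Free R (I ⟶ F) ∧ Module.finrank R (I ⟶ F) = n ∧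
      (0 < n → ∃ φ : I ⟶ F, ∀ y : ↥(Spec (CommRingCat.of R)),
        (Scheme.Modules.pullback ((X ↘ Spec (CommRingCat.of R)).fiberι y)).map φ ≠ 0) := by
  classical
  let f := X ↘ Spec (CommRingCat.of R)
  haveI : IsProper f := by
    obtain ⟨m, ι, hι, hcomp⟩ := hproj
    haveI := hι
    haveI : IsProper (CohB1.ProjSpace.toSpec m R) := inferInstance
    show IsProper (X ↘ Spec (CommRingCat.of R))
    rw [← hcomp]
    infer_instance
  haveI : IsLocallyNoetherian X := LocallyOfFiniteType.isLocallyNoetherian f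
  haveI : CompactSpace X := QuasiCompact.compactSpace_of_compactSpace f
  haveI := Groth.Agent.H10Coh.HomFibre.finite_hom (R := R) hI hF
  haveI := Groth.Agent.H10Coh.HomFibre.isTorsionFree_hom (I := I) hFfl
  haveI : Module.Free R (I ⟶ F) := Module.free_of_finite_type_torsion_free'
  let b := Module.finBasis R (I ⟶ F)
  obtain ⟨π, hπ⟩ := IsDiscreteValuationRing.exists_irreducible R
  have hmax : IsLocalRing.maximalIdeal R = Ideal.span {π} :=
    (IsDiscreteValuationRing.irreducible_iff_uniformizer π).1 hπ
  have hpts : ∀ p : PrimeSpectrum R, p.asIdeal = ⊥ ∨ p.asIdeal = IsLocalRing.maximalIdeal R := fun p => by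
    by_cases h : p.asIdeal = ⊥
    · exact Or.inl h
    · exact Or.inr (IsLocalRing.eq_maximalIdeal (p.isPrime.isMaximal h))
  have hker : ∀ (y : ↥(Spec (CommRingCat.of R))) (a : R),
      algebraMap R (Groth.Agent.LeadBC.resK y) a = 0 ↔ a ∈ (Groth.Agent.LeadBC.primeOf y).asIdeal := fun y a =>
    (map_eq_zero_iff (Groth.Agent.LeadBC.kToResK y) (Groth.Agent.LeadBC.kToResK y).injective).trans
      Ideal.algebraMap_residueField_eq_zero
  have hD : ∀ p : ↥(Spec (CommRingCat.of R)),
      p ∈ (Spec (CommRingCat.of R)).basicOpen ((Scheme.ΓSpecIso (CommRingCat.of R)).inv π) ↔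
        (Groth.Agent.LeadBC.primeOf p).asIdeal = ⊥ := fun p => by
    rw [basicOpen_eq_of_affine]
    change π ∉ (Groth.Agent.LeadBC.primeOf p).asIdeal ↔ _
    refine ⟨fun h => (hpts _).resolve_right fun h' => h ?_, fun h => ?_⟩
    · rw [h', hmax]; exact Ideal.mem_span_singleton_self π
    · rw [h, Ideal.mem_bot]; exact hπ.ne_zero
  -- the generic fibre
  let η : ↥(Spec (CommRingCat.of R)) := genericPoint (Spec (CommRingCat.of R))
  have hη : (Groth.Agent.LeadBC.primeOf η).asIdeal = ⊥ :=
    congrArg PrimeSpectrum.asIdeal (genericPoint_eq_bot_of_affine (CommRingCat.of R))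
  have hηD : ∀ p : ↥(Spec (CommRingCat.of R)),
      p ∈ (Spec (CommRingCat.of R)).basicOpen ((Scheme.ΓSpecIso (CommRingCat.of R)).inv π) ↔ p = η := fun p =>
    (hD p).trans ⟨fun h => PrimeSpectrum.ext (h.trans hη.symm), fun h => h ▸ hη⟩
  haveI : IsOpenImmersion ((Spec (CommRingCat.of R)).fromSpecResidueField η) :=
    Groth.Agent.H12AlgSp.Residual.isOpenImmersion_fromSpecResidueField η
      (by convert! ((Spec (CommRingCat.of R)).basicOpen ((Scheme.ΓSpecIso (CommRingCat.of R)).inv π)).isOpen
          exact Set.ext fun p => (hηD p).symm)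
      (Field.toIsField (Spec (CommRingCat.of R)).functionField)
  haveI : IsOpenImmersion (f.fiberι η) :=
    inferInstanceAs (IsOpenImmersion (pullback.fst f ((Spec (CommRingCat.of R)).fromSpecResidueField η)))
  have hrange : (f.fiberι η).opensRange = X.basicOpen (Groth.Agent.LeadFF.glob f π) := by
    refine TopologicalSpace.Opens.ext ?_
    rw [show Groth.Agent.LeadFF.glob f π = f.appTop ((Scheme.ΓSpecIso (CommRingCat.of R)).inv π) from rfl,
      ← Scheme.preimage_basicOpen_top]
    rw [Scheme.Hom.coe_opensRange, Scheme.Hom.range_fiberι]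
    exact congrArg (f ⁻¹' ·) (Set.ext fun p => (hηD p).symm)
  have hmain := fun y => letI : (f.fiber y).Over (Spec (CommRingCat.of (Groth.Agent.LeadBC.resK y))) :=
      ⟨f.fiberToSpecResidueField y⟩
    (Groth.Agent.LeadBC.fiber_isPullback (X := X) y).w
  letI : (f.fiber η).Over (Spec (CommRingCat.of (Groth.Agent.LeadBC.resK η))) := ⟨f.fiberToSpecResidueField η⟩
  obtain ⟨hrank, hinj⟩ := Groth.Agent.H10Coh.HomFibre.finrank_pullback_open (f.fiberι η)
    (algebraMap R (Groth.Agent.LeadBC.resK η)) (hmain η)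
    (Groth.Agent.H10Coh.FibreLift.isFrac_resK η)
    ((injective_iff_map_eq_zero _).2 fun a ha => by have h := (hker η a).1 ha; rw [hη] at h; exact (Submodule.mem_bot R).1 h)
    hπ.ne_zero hrange hI hF.1 hFfl b
  have hn : Module.finrank R (I ⟶ F) = n := hrank.symm.trans (hfib η)
  refine ⟨inferInstance, inferInstance, hn, fun h0 => ?_⟩
  let i₀ : Fin (Module.finrank R (I ⟶ F)) := ⟨0, hn.symm ▸ h0⟩
  refine ⟨b i₀, fun y => ?_⟩
  rcases hpts (Groth.Agent.LeadBC.primeOf y) with hy | hy
  · obtain rfl : y = η := PrimeSpectrum.ext (hy.trans hη.symm)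
    exact fun h => b.ne_zero i₀ (hinj (h.trans (map_zero (Groth.Agent.H10Coh.HomFibre.pullHom (f.fiberι η)
      (algebraMap R (Groth.Agent.LeadBC.resK η)) (hmain η) I F)).symm))
  intro h
  haveI : IsClosedImmersion ((Spec (CommRingCat.of R)).fromSpecResidueField y) :=
    isClosed_singleton_iff_isClosedImmersion.mp ((PrimeSpectrum.isClosed_singleton_iff_isMaximal _).2
      (hy ▸ IsLocalRing.maximalIdeal.isMaximal R))
  haveI : IsClosedImmersion (f.fiberι y) :=
    inferInstanceAs (IsClosedImmersion (pullback.fst f ((Spec (CommRingCat.of R)).fromSpecResidueField y)))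
  haveI := Groth.Agent.H10Coh.HomFibre.mono_smulMod_of_flat hFfl hπ.ne_zero
  have hk : ∀ V : X.affineOpens, (f.fiberι y).ker.ideal V ≤ Ideal.span {Groth.Agent.LeadFF.scal f V.1 π} := by
    intro V
    rw [show (f.fiberι y).ker = ((Spec (CommRingCat.of R)).fromSpecResidueField y).ker.comap f from
      Scheme.IdealSheafData.ker_fst_of_isClosedImmersion _ f,
      H29Blow.ideal_comap _ f ⟨⊤, isAffineOpen_top _⟩ V le_top, Ideal.map_le_iff_le_comap]
    intro r hr
    rw [Scheme.Hom.ker_apply] at hr
    obtain ⟨r, rfl⟩ := (ConcreteCategory.bijective_of_isIso (Scheme.ΓSpecIso (CommRingCat.of R)).inv).2 r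
    have h1 : algebraMap R (Groth.Agent.LeadBC.resK y) r = 0 := by
      have h2 : ((Spec (CommRingCat.of R)).fromSpecResidueField y).appTop
          ((Scheme.ΓSpecIso (CommRingCat.of R)).inv r) = 0 := hr
      rw [← Groth.Agent.LeadBC.specMap_resK y] at h2
      refine (ConcreteCategory.bijective_of_isIso
        (Scheme.ΓSpecIso (CommRingCat.of (Groth.Agent.LeadBC.resK y))).inv).1 (Eq.trans ?_ (map_zero _).symm)
      exact (ConcreteCategory.congr_hom
        (Scheme.ΓSpecIso_inv_naturality (CommRingCat.ofHom (algebraMap R (Groth.Agent.LeadBC.resK y)))) r).trans h2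
    rw [hker y, hy, hmax] at h1
    obtain ⟨c, rfl⟩ := Ideal.mem_span_singleton'.1 h1
    show Groth.Agent.LeadFF.scal f V.1 (c * π) ∈ (Ideal.span {Groth.Agent.LeadFF.scal f V.1 π} : Ideal Γ(X, V.1))
    rw [map_mul]
    exact Ideal.mem_span_singleton'.2 ⟨_, rfl⟩
  obtain ⟨ψ, hψ⟩ := Groth.Agent.H10Coh.HomFibre.exists_eq_smul_of_pullback_eq_zero hk hF.1 h
  have h3 := congrArg (fun z => b.repr z i₀) hψ
  simp only [Module.Basis.repr_self, Finsupp.single_eq_same, map_smul, Finsupp.smul_apply, smul_eq_mul] at h3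
  exact hπ.not_isUnit (IsUnit.of_mul_eq_one _ h3.symm)

end Groth.Agent.S19050
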