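import Groth.Statements.S19060
import Groth.Agent.LeadBC.GenBC.Top
import Groth.Agent.H10Coh.Proper
import Groth.Agent.H8Props.FinLocFree.Sheaf
import Groth.Agent.H29Fitt.FP
import Groth.Agent.H10Coh.SheafH
import Groth.Agent.H10Coh.FinType2

set_option autoImplicit false
universe u
open CategoryTheory CategoryTheory.Limits AlgebraicGeometry Opposite
open Curves

namespace Groth.Agent.S19060

/-- Let R be a Noetherian ring and X a relative curve over Spec R (proper and smooth, with geometrically
connected fibres of dimension one, and projective: X carries an ample invertible module). Let F be a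
coherent O_X-module which is flat over Spec R (every stalk is a flat module over the local ring of
the base). If H^1(X, F) is a projective R-module, then H^0(X, F) is a projective R-module. (The
source says only that F is an O_X-module flat over the base; F is taken coherent here, as the
finiteness of its cohomology over R used there requires.) -/
theorem result (R : Type u) [CommRing R] [IsNoetherianRing R]
    (X : Scheme.{u}) [X.Over (Spec (CommRingCat.of R))] [IsProper (X ↘ Spec (CommRingCat.of R))]
    [Smooth (X ↘ Spec (CommRingCat.of R))] [GeometricallyConnected (X ↘ Spec (CommRingCat.of R))]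
    (hdim : ∀ s : Spec (CommRingCat.of R), topologicalKrullDim ↥((X ↘ Spec (CommRingCat.of R)).fiber s) = 1)
    (hproj : ∃ M : X.Modules, CohB1.IsAmple M)
    (F : X.Modules) (hF : Coh.IsCoh F) (hfl : FlatMod.IsFlatOver (X ↘ Spec (CommRingCat.of R)) F)
    (h1 : Module.Projective R (Coh.HH X F 1)) :
    Module.Projective R (Coh.HH X F 0) := by
  haveI : F.IsQuasicoherent := hF.1
  haveI := Groth.Agent.H10Coh.enoughInjMod X
  let f := X ↘ AlgebraicGeometry.Spec (CommRingCat.of R)
  haveI : AlgebraicGeometry.IsLocallyNoetherian X := AlgebraicGeometry.LocallyOfFiniteType.isLocallyNoetherian f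
  haveI : AlgebraicGeometry.LocallyOfFinitePresentation f := inferInstance
  have hfp : CohB1.IsFP F := Groth.Agent.H10Coh.isFP_of_isCoh F hF
  have hR1 := (Groth.Agent.LeadBC.GenBC.flat_rpush_top_iff (R := R) X F 1).2 (haveI := h1; Module.Flat.of_projective)
  have hqc : ∀ n, Coh.IsQCoh ((Coh.Rpush f n).obj F) := fun n => Groth.Agent.H10Coh.isQuasicoherent_rpush f F n
  have hE : ∀ y : AlgebraicGeometry.Spec (CommRingCat.of R), ∃ (W : (AlgebraicGeometry.Spec (CommRingCat.of R)).Opens)
      (hW : AlgebraicGeometry.IsAffineOpen W), y ∈ W ∧ Groth.Agent.LeadBC.GenBC.EpiOn f F hW 0 ∧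
        Groth.Agent.LeadBC.GenBC.MonoOn f F hW 0 := fun y => by
    have hvan : Subsingleton (CohIII.fiberH f F y 2) := by
      haveI : AlgebraicGeometry.IsProper (f.fiberToSpecResidueField y) :=
        MorphismProperty.of_isPullback (IsPullback.of_hasPullback f ((AlgebraicGeometry.Spec (CommRingCat.of R)).fromSpecResidueField y))
          (inferInstance : AlgebraicGeometry.IsProper f)
      haveI : AlgebraicGeometry.IsLocallyNoetherian (f.fiber y) :=
        AlgebraicGeometry.LocallyOfFiniteType.isLocallyNoetherian (f.fiberToSpecResidueField y)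
      haveI : CompactSpace (f.fiber y) :=
        AlgebraicGeometry.QuasiCompact.compactSpace_of_compactSpace (f.fiberToSpecResidueField y)
      haveI : AlgebraicGeometry.IsNoetherian (f.fiber y) := ⟨⟩
      haveI : TopologicalSpace.NoetherianSpace ↥(f.fiber y).toPresheafedSpace := inferInstance
      exact Groth.Agent.LeadVan.subsingleton_H_of_dim_le (X := (f.fiber y).toPresheafedSpace.carrier) 1
        (hdim y).le (Coh.toAb (CohIII.fiberMod f F y)) 2 one_lt_two
    obtain ⟨W, hW, hyW, -, hm, -⟩ := Groth.Agent.LeadBC.GenBC.exists_vanishing_nhd f F hfp hfl 2 hvan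
    have he1 := (Groth.Agent.LeadBC.GenBC.monoOn_succ_iff f F hW hfp hfl 1).1 hm
    have hW1 := (Groth.Agent.H8Props.FinLocFree.flat_sections_iff _ (hqc 1) hW).2 fun x =>
      (Groth.Agent.H8Props.FinLocFree.flat_sections_iff _ (hqc 1) (AlgebraicGeometry.isAffineOpen_top _)).1 hR1 ⟨x.1, trivial⟩
    have hm1 := Groth.Agent.LeadBC.GenBC.monoOn_of_flat f F hfp hfl hW he1 hW1
    exact ⟨W, hW, hyW, (Groth.Agent.LeadBC.GenBC.monoOn_succ_iff f F hW hfp hfl 0).1 hm1,
      Groth.Agent.LeadBC.GenBC.monoOn_zero f F hW hfp hfl⟩
  have hloc := Groth.Agent.LeadBC.GenBC.isFinLocFree_of_exact_all f F hfp hfl 0 hE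
  haveI := (Groth.Agent.H8Props.FinLocFree.finite_projective_sections _ hloc (AlgebraicGeometry.isAffineOpen_top _)).2
  haveI : Module.Flat R (Coh.HH X F 0) := (Groth.Agent.LeadBC.GenBC.flat_rpush_top_iff X F 0).1 inferInstance
  haveI := Groth.Agent.H10Coh.finite_HH_proper R X F hF 0
  haveI := Module.finitePresentation_of_finite R (Coh.HH X F 0)
  exact Module.Flat.projective_of_finitePresentation

end Groth.Agent.S19060
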