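import Groth.Statements.S19061
import Groth.Agent.LeadVA.Main
import Groth.Agent.H29CurveDual.VeryAmpleField
import Groth.Agent.H29CurveDual.Canonical
import Groth.Agent.H29CurveDual.CanonAux
import Groth.Agent.H21Taylor.GeomInt
import Groth.Agent.H11Ample.Converse
import Groth.Agent.H11Ample.Immersion
import Groth.Agent.H17.Ample.VeryAmplePn

set_option autoImplicit false
universe u
open CategoryTheory CategoryTheory.Limits AlgebraicGeometry Opposite
open Curves

namespace Groth.Agent.S19061

theorem fibre_facts {Y : Scheme.{u}} {k : Type u} [Field k] [Y.Over (Spec (CommRingCat.of k))]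
    [IsProper (Y ↘ Spec (CommRingCat.of k))] [Smooth (Y ↘ Spec (CommRingCat.of k))]
    [GeometricallyConnected (Y ↘ Spec (CommRingCat.of k))] (hdim : topologicalKrullDim ↥Y = 1) {g : ℕ}
    (hgen : Curv2.genus k Y = g) {L : Y.Modules} (hL : PicF.IsInvertible L)
    (hd : 2 * (g : ℤ) + 1 ≤ Curv2.deg k Y L 1) :
    RelAmple.IsRelVeryAmplePn (Y ↘ Spec (CommRingCat.of k)) L ∧ Subsingleton (Coh.HH Y L 1) := by
  haveI : GeometricallyIntegral (Y ↘ Spec (CommRingCat.of k)) :=
    H21Taylor.geometricallyIntegral_of_smooth _ fun s =>
      GeometricallyConnected.geometrically_connectedSpace _ _ _ (.of_hasPullback _ _)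
  haveI : IsIntegral Y := GeometricallyIntegral.isIntegral_of_subsingleton (Y ↘ Spec (CommRingCat.of k))
  have h0 := H29CurveDual.finrank_h0_structure_smooth (k := k) (X := Y)
  refine ⟨?_, H29CurveDual.subsingleton_h1_of_deg_ge (k := k) hdim.le h0 hL (by rw [hgen]; omega)⟩
  obtain ⟨m, v, hva⟩ := H29CurveDual.exists_vaData_of_deg_ge hdim.le h0 hL (by rw [hgen]; exact hd)
  exact H11Ample.isRelVeryAmplePn_of_sections _ hL v Set.univ
    (fun x => (hva.cover x).imp fun j hj => ⟨trivial, hj⟩) (fun j _ => hva.affine j) (fun j _ => hva.surj j)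



/-- Let R be a Noetherian ring and f : X ⟶ Spec R a relative curve of genus g (proper and smooth, with
geometrically connected fibres of dimension one and genus g, and projective: X carries an ample
invertible module). Let L be an invertible O_X-module such that for every point s of Spec R the
restriction L_s of L to the fibre X_s has degree at least 2g + 1. Then L is very ample relative to
f: there is an immersion i : X ⟶ P^N over Spec R with L ≅ i^*O(1). -/
theorem result (R : Type u) [CommRing R] [IsNoetherianRing R]
    {X : Scheme.{u}} (f : X ⟶ Spec (CommRingCat.of R)) [IsProper f] [Smooth f] [GeometricallyConnected f]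
    (hdim : ∀ s : Spec (CommRingCat.of R), topologicalKrullDim ↥(f.fiber s) = 1)
    (hproj : ∃ M : X.Modules, CohB1.IsAmple M)
    (g : ℕ) (hgen : ∀ s : Spec (CommRingCat.of R), letI : (f.fiber s).Over (Spec ((Spec (CommRingCat.of R)).residueField s)) := ⟨f.fiberToSpecResidueField s⟩
      Curv2.genus ((Spec (CommRingCat.of R)).residueField s) (f.fiber s) = g)
    (L : X.Modules) (hL : PicF.IsInvertible L)
    (hdeg : ∀ s : Spec (CommRingCat.of R), letI : (f.fiber s).Over (Spec ((Spec (CommRingCat.of R)).residueField s)) := ⟨f.fiberToSpecResidueField s⟩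
      2 * (g : ℤ) + 1 ≤ Curv2.deg ((Spec (CommRingCat.of R)).residueField s) (f.fiber s) (CohIII.fiberMod f L s) 1) :
    RelAmple.IsRelVeryAmplePn f L := by
  haveI hfib : ∀ s : Spec (CommRingCat.of R), IsProper (f.fiberToSpecResidueField s) := fun s =>
    MorphismProperty.pullback_snd f _ inferInstance
  haveI hsm : ∀ s : Spec (CommRingCat.of R), Smooth (f.fiberToSpecResidueField s) := fun s =>
    MorphismProperty.pullback_snd f _ inferInstance
  have key : ∀ s : Spec (CommRingCat.of R), RelAmple.IsRelVeryAmplePn (f.fiberToSpecResidueField s)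
      ((Scheme.Modules.pullback (f.fiberι s)).obj L) ∧
      Subsingleton (CohIII.fiberH f L s 1) := fun s => by
    letI : (f.fiber s).Over (Spec (CommRingCat.of ((Spec (CommRingCat.of R)).residueField s))) := ⟨f.fiberToSpecResidueField s⟩
    haveI : IsProper (f.fiber s ↘ Spec (CommRingCat.of ((Spec (CommRingCat.of R)).residueField s))) := hfib s
    haveI : Smooth (f.fiber s ↘ Spec (CommRingCat.of ((Spec (CommRingCat.of R)).residueField s))) := hsm s
    haveI : GeometricallyConnected (f.fiber s ↘ Spec (CommRingCat.of ((Spec (CommRingCat.of R)).residueField s))) :=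
      (inferInstance : GeometricallyConnected (f.fiberToSpecResidueField s))
    exact fibre_facts (k := (Spec (CommRingCat.of R)).residueField s) (by simpa using hdim s) (hgen s)
      (H11Ample.isInvertible_pullback _ hL) (hdeg s)
  exact H17.VeryAmplePn.isRelVeryAmplePn_of_isRelVeryAmple f hL
    (LeadVA.isRelVeryAmple_of_fibres f L hL (fun s => (key s).1) fun s => (key s).2)

end Groth.Agent.S19061
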