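import Groth.Statements.S19063
import Groth.Agent.S7635
import Groth.Agent.H10Coh.HypSq.Curve
-- import your own Groth.Agent.* helpers here

set_option autoImplicit false
set_option linter.style.haveILetI false
universe u
open CategoryTheory CategoryTheory.Limits AlgebraicGeometry Opposite
open HypSq

namespace Groth.Agent.S19063

/-- Let k be an algebraically closed field of characteristic ≠ 2 and C a hyperelliptic curve of genus g
≥ 2 over k: C ⟶ Spec k proper and smooth, C connected of dimension one with dim_k H^1(C, O_C) = g,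
with a double cover κ : C ⟶ P^1_k over k (finite, flat, of rank 2 everywhere). On X = C ×_k C write
L = κ^*O(1) and F_m = p_1^*L^m ⊗ p_2^*L^m (the divisor mF with F = p_1^*D_∞ + p_2^*D_∞, D_∞ a fibre
of κ). Then for every m ≥ g, i.e. m > g − 1, one has H^1(X, F_m) = 0 and H^2(X, F_m) = 0. -/
theorem result (k : Type u) [Field k] [IsAlgClosed k] (h2 : (2 : k) ≠ 0)
    (C : Scheme.{u}) [C.Over (Spec (CommRingCat.of k))] [IsProper (C ↘ Spec (CommRingCat.of k))] [Smooth (C ↘ Spec (CommRingCat.of k))] [ConnectedSpace ↥C]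
    (hdim : topologicalKrullDim ↥C = 1) (g : ℕ) (hg : 2 ≤ g) (hgen : Curv2.genus k C = g)
    (κ : C ⟶ CohB1.ProjSpace 1 k) (hκ : κ ≫ CohB1.ProjSpace.toSpec 1 k = (C ↘ Spec (CommRingCat.of k)))
    [IsFinite κ] [Flat κ] (hκ2 : ∀ y : ↥(CohB1.ProjSpace 1 k), κ.finrank y = 2)
    (m : ℕ) (hm : g ≤ m) :
    Subsingleton (Coh.HH (pullback (C ↘ Spec (CommRingCat.of k)) (C ↘ Spec (CommRingCat.of k))) (CohB1.tensorMod ((Scheme.Modules.pullback (pullback.fst (C ↘ Spec (CommRingCat.of k)) (C ↘ Spec (CommRingCat.of k)))).obj (CohB1.tensorPow ((Scheme.Modules.pullback κ).obj (Twist.twistProjSpace 1 k 1)) m)) ((Scheme.Modules.pullback (pullback.snd (C ↘ Spec (CommRingCat.of k)) (C ↘ Spec (CommRingCat.of k)))).obj (CohB1.tensorPow ((Scheme.Modules.pullback κ).obj (Twist.twistProjSpace 1 k 1)) m))) 1) ∧ Subsingleton (Coh.HH (pullback (C ↘ Spec (CommRingCat.of k)) (C ↘ Spec (CommRingCat.of k))) (CohB1.tensorMod ((Scheme.Modules.pullback (pullback.fst (C ↘ Spec (CommRingCat.of k)) (C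 ↘ Spec (CommRingCat.of k)))).obj (CohB1.tensorPow ((Scheme.Modules.pullback κ).obj (Twist.twistProjSpace 1 k 1)) m)) ((Scheme.Modules.pullback (pullback.snd (C ↘ Spec (CommRingCat.of k)) (C ↘ Spec (CommRingCat.of k)))).obj (CohB1.tensorPow ((Scheme.Modules.pullback κ).obj (Twist.twistProjSpace 1 k 1)) m))) 2) := by
  haveI : CompactSpace ↥C := QuasiCompact.compactSpace_of_compactSpace (C ↘ Spec (CommRingCat.of k))
  have hL := H11Ample.isInvertible_tensorPow (H10Coh.HypSq.isInvertible_pencil κ) m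
  have hq : Coh.IsQCoh (CohB1.tensorPow ((Scheme.Modules.pullback κ).obj (Twist.twistProjSpace 1 k 1)) m) :=
    H8Props.FinLocFree.isQCoh_of_isFinLocFree _ (H28Pinch.isFinLocFree_of_isInvertible hL)
  have h1 := H10Coh.HypSq.h1_pencil_pow hdim hg hgen κ hκ hκ2 m hm
  have h2' := H10Coh.HypSq.h_above_one (k := k) hdim hq 2 one_lt_two
  have key : ∀ n : ℕ, (∀ p : Fin (n + 1),
      Subsingleton (Coh.HH C (CohB1.tensorPow ((Scheme.Modules.pullback κ).obj (Twist.twistProjSpace 1 k 1)) m) (p : ℕ)) ∨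
      Subsingleton (Coh.HH C (CohB1.tensorPow ((Scheme.Modules.pullback κ).obj (Twist.twistProjSpace 1 k 1)) m) (n - (p : ℕ)))) →
      Subsingleton (Coh.HH (pullback (C ↘ Spec (CommRingCat.of k)) (C ↘ Spec (CommRingCat.of k))) (CohB1.tensorMod ((Scheme.Modules.pullback (pullback.fst (C ↘ Spec (CommRingCat.of k)) (C ↘ Spec (CommRingCat.of k)))).obj (CohB1.tensorPow ((Scheme.Modules.pullback κ).obj (Twist.twistProjSpace 1 k 1)) m)) ((Scheme.Modules.pullback (pullback.snd (C ↘ Spec (CommRingCat.of k)) (C ↘ Spec (CommRingCat.of k)))).obj (CohB1.tensorPow ((Scheme.Modules.pullback κ).obj (Twist.twistProjSpace 1 k 1)) m))) n) := by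
    intro n hn
    obtain ⟨e⟩ := S7635.result k C C _ hq _ hq n
    haveI : ∀ p : Fin (n + 1), Subsingleton
        (TensorProduct k (Coh.HH C (CohB1.tensorPow ((Scheme.Modules.pullback κ).obj (Twist.twistProjSpace 1 k 1)) m) (p : ℕ))
          (Coh.HH C (CohB1.tensorPow ((Scheme.Modules.pullback κ).obj (Twist.twistProjSpace 1 k 1)) m) (n - (p : ℕ)))) := fun p => by
      rcases hn p with h | h <;> infer_instance
    exact e.symm.toEquiv.subsingleton
  exact ⟨key 1 fun p => by fin_cases p <;> first | exact Or.inl h1 | exact Or.inr h1,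
    key 2 fun p => by fin_cases p <;> first | exact Or.inl h1 | exact Or.inl h2' | exact Or.inr h2'⟩

end Groth.Agent.S19063
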