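import Groth.Statements.S19064
import Groth.Agent.H10Coh.HypSq.Results
-- import your own Groth.Agent.* helpers here

set_option autoImplicit false
set_option linter.style.haveILetI false
set_option backward.isDefEq.respectTransparency.types false
universe u
open CategoryTheory CategoryTheory.Limits AlgebraicGeometry Opposite
open HypSq

namespace Groth.Agent.S19064

/-- Let k be an algebraically closed field of characteristic ≠ 2 and C a hyperelliptic curve of genus g
≥ 2 over k: C ⟶ Spec k proper and smooth, C connected of dimension one with dim_k H^1(C, O_C) = g,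
with a double cover κ : C ⟶ P^1_k over k (finite, flat, of rank 2 everywhere) and hyperelliptic
involution σ (σ ≫ κ = κ, σ ≠ id). On the surface X = C ×_k C write L = κ^*O(1) (the divisor D_∞ of
degree 2), F_m = p_1^*L^m ⊗ p_2^*L^m (the divisor mF, F = p_1^*D_∞ + p_2^*D_∞) and let N be an
invertible O_X-module inverse to the ideal sheaf of the graph Γ_σ = (id, σ) : C ⟶ X of σ (the
divisor class of the graph of the involution). Then for all m ≥ g and r ≥ 0 the module F_m ⊗ N^r
(the divisor mF + r Γ_σ) has H^2(X, F_m ⊗ N^r) = 0. -/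
theorem result (k : Type u) [Field k] [IsAlgClosed k] (h2 : (2 : k) ≠ 0)
    (C : Scheme.{u}) [C.Over (Spec (CommRingCat.of k))] [IsProper (C ↘ Spec (CommRingCat.of k))] [Smooth (C ↘ Spec (CommRingCat.of k))] [ConnectedSpace ↥C]
    (hdim : topologicalKrullDim ↥C = 1) (g : ℕ) (hg : 2 ≤ g) (hgen : Curv2.genus k C = g)
    (κ : C ⟶ CohB1.ProjSpace 1 k) (hκ : κ ≫ CohB1.ProjSpace.toSpec 1 k = (C ↘ Spec (CommRingCat.of k)))
    [IsFinite κ] [Flat κ] (hκ2 : ∀ y : ↥(CohB1.ProjSpace 1 k), κ.finrank y = 2)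
    (σ : C ⟶ C) (hσ : σ ≫ κ = κ) (hσ1 : σ ≠ 𝟙 C) (hσp : σ ≫ (C ↘ Spec (CommRingCat.of k)) = (C ↘ Spec (CommRingCat.of k)))
    (N : (pullback (C ↘ Spec (CommRingCat.of k)) (C ↘ Spec (CommRingCat.of k))).Modules) (hN : PicF.IsInvertible N)
    (hNinv : ClSub.IsInverseOf N (ClSub.idealMod (pullback.lift (𝟙 C) σ ((Category.id_comp (C ↘ Spec (CommRingCat.of k))).trans hσp.symm)).ker))
    (m r : ℕ) (hm : g ≤ m) :
    Subsingleton (Coh.HH (pullback (C ↘ Spec (CommRingCat.of k)) (C ↘ Spec (CommRingCat.of k))) (CohB1.tensorMod (CohB1.tensorMod ((Scheme.Modules.pullback (pullback.fst (C ↘ Spec (CommRingCat.of k)) (C ↘ Spec (CommRingCat.of k)))).obj (CohB1.tensorPow ((Scheme.Modules.pullback κ).obj (Twist.twistProjSpace 1 k 1)) m)) ((Scheme.Modules.pullback (pullback.snd (C ↘ Spec (CommRingCat.of k)) (C ↘ Spec (CommRingCat.of k)))).obj (CohB1.tensorPow ((Scheme.Modules.pullback κ).obj (Twist.twistProjSpace 1 k 1)) m))) (CohB1.tensorPow N r)) 2) := H10Coh.HypSq.h2_Mr hdim hg hgen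 κ hκ hκ2 σ hσ hσp hN hNinv m hm r

end Groth.Agent.S19064
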