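import Groth.Statements.S19076
import Groth.Agent.H10Coh.HypSq.Pairings
-- import your own Groth.Agent.* helpers here

set_option autoImplicit false
set_option linter.style.haveILetI false
set_option backward.isDefEq.respectTransparency.types false
universe u
open CategoryTheory CategoryTheory.Limits AlgebraicGeometry Opposite
open HypSq

namespace Groth.Agent.S19076

/-- Let k be an algebraically closed field of characteristic ≠ 2 and C a hyperelliptic curve of genus g
≥ 2 over k: C ⟶ Spec k proper and smooth, C connected of dimension one with dim_k H^1(C, O_C) = g,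
with a double cover κ : C ⟶ P^1_k over k (finite, flat, of rank 2 everywhere) and hyperelliptic
involution σ (σ ≫ κ = κ, σ ≠ id). On X = C ×_k C let N be an invertible O_X-module inverse to the
ideal sheaf of the graph Γ_σ = (id, σ) : C ⟶ X, and N_Δ an invertible O_X-module inverse to the
ideal sheaf of the diagonal Δ : C ⟶ X. Then (N_Δ·N_Δ) = 2 − 2g, (L·M) = χ(O_X) − χ(L) − χ(M) + χ(L ⊗
M) denoting the intersection number of invertible modules on the surface X. (The hypotheses on κ, σ,
N are the source's standing set-up; the value holds for any smooth projective curve of genus g.) -/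
theorem result (k : Type u) [Field k] [IsAlgClosed k] (h2 : (2 : k) ≠ 0)
    (C : Scheme.{u}) [C.Over (Spec (CommRingCat.of k))] [IsProper (C ↘ Spec (CommRingCat.of k))] [Smooth (C ↘ Spec (CommRingCat.of k))] [ConnectedSpace ↥C]
    (hdim : topologicalKrullDim ↥C = 1) (g : ℕ) (hg : 2 ≤ g) (hgen : Curv2.genus k C = g)
    (κ : C ⟶ CohB1.ProjSpace 1 k) (hκ : κ ≫ CohB1.ProjSpace.toSpec 1 k = (C ↘ Spec (CommRingCat.of k)))
    [IsFinite κ] [Flat κ] (hκ2 : ∀ y : ↥(CohB1.ProjSpace 1 k), κ.finrank y = 2)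
    (σ : C ⟶ C) (hσ : σ ≫ κ = κ) (hσ1 : σ ≠ 𝟙 C) (hσp : σ ≫ (C ↘ Spec (CommRingCat.of k)) = (C ↘ Spec (CommRingCat.of k)))
    (N : (pullback (C ↘ Spec (CommRingCat.of k)) (C ↘ Spec (CommRingCat.of k))).Modules) (hN : PicF.IsInvertible N)
    (hNinv : ClSub.IsInverseOf N (ClSub.idealMod (pullback.lift (𝟙 C) σ ((Category.id_comp (C ↘ Spec (CommRingCat.of k))).trans hσp.symm)).ker))
    (ND : (pullback (C ↘ Spec (CommRingCat.of k)) (C ↘ Spec (CommRingCat.of k))).Modules) (hND : PicF.IsInvertible ND)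
    (hNDinv : ClSub.IsInverseOf ND (ClSub.idealMod (pullback.diagonal (C ↘ Spec (CommRingCat.of k))).ker)) :
    letI : (pullback (C ↘ Spec (CommRingCat.of k)) (C ↘ Spec (CommRingCat.of k))).Over (Spec (CommRingCat.of k)) := ⟨pullback.fst (C ↘ Spec (CommRingCat.of k)) (C ↘ Spec (CommRingCat.of k)) ≫ (C ↘ Spec (CommRingCat.of k))⟩
    FGA.intNum k (pullback (C ↘ Spec (CommRingCat.of k)) (C ↘ Spec (CommRingCat.of k))) 2 ![ND, ND] (Coh.structureModule (pullback (C ↘ Spec (CommRingCat.of k)) (C ↘ Spec (CommRingCat.of k)))) = 2 - 2 * (g : ℤ) := by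
  letI := H10Coh.HypSq.overSq k C
  obtain ⟨hP, hs, hi, hd⟩ := H10Coh.HypSq.sq_props (k := k) (C := C) hdim
  haveI := hP; haveI := hs; haveI := hi
  rw [H28Surf.intNum_eq_pr k hd hND hND,
    H10Coh.HypSq.pr_N hdim (𝟙 C) (Category.id_comp _) hND hNDinv hND]
  exact H10Coh.HypSq.deg_diag_N hdim hgen hND hNDinv

end Groth.Agent.S19076
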