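import Groth.Statements.S19082
import Groth.Agent.H10Coh.HypSq.Pairings
-- import your own Groth.Agent.* helpers here

set_option autoImplicit false
set_option linter.style.haveILetI false
set_option backward.isDefEq.respectTransparency.types false
universe u
open CategoryTheory CategoryTheory.Limits AlgebraicGeometry Opposite
open HypSq

namespace Groth.Agent.S19082

/-- Let k be an algebraically closed field of characteristic ≠ 2 and C a hyperelliptic curve of genus g
≥ 2 over k: C ⟶ Spec k proper and smooth, C connected of dimension one with dim_k H^1(C, O_C) = g,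
with a double cover κ : C ⟶ P^1_k over k (finite, flat, of rank 2 everywhere) and hyperelliptic
involution σ (σ ≫ κ = κ, σ ≠ id). On X = C ×_k C let N be an invertible O_X-module inverse to the
ideal sheaf of the graph Γ_σ = (id, σ) : C ⟶ X, N_Δ an invertible module inverse to the ideal sheaf
of the diagonal, x : Spec k ⟶ C a k-point with A = O_C(x) an invertible O_C-module inverse to the
ideal sheaf of x, and V = p_1^*A, H = p_2^*A the classes of the fibres {x} × C and C × {x}. Then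
(V·V) = 0, (V·H) = 1, (V·N_Δ) = 1 and (V·N) = 1, with (L·M) = χ(O_X) − χ(L) − χ(M) + χ(L ⊗ M) the
intersection number. (The source takes x to be a Weierstrass point; the entries hold for any
k-point.) -/
theorem result (k : Type u) [Field k] [IsAlgClosed k] (h2 : (2 : k) ≠ 0)
    (C : Scheme.{u}) [C.Over (Spec (CommRingCat.of k))] [IsProper (C ↘ Spec (CommRingCat.of k))] [Smooth (C ↘ Spec (CommRingCat.of k))] [ConnectedSpace ↥C]
    (hdim : topologicalKrullDim ↥C = 1) (g : ℕ) (hg : 2 ≤ g) (hgen : Curv2.genus k C = g)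
    (κ : C ⟶ CohB1.ProjSpace 1 k) (hκ : κ ≫ CohB1.ProjSpace.toSpec 1 k = (C ↘ Spec (CommRingCat.of k)))
    [IsFinite κ] [Flat κ] (hκ2 : ∀ y : ↥(CohB1.ProjSpace 1 k), κ.finrank y = 2)
    (σ : C ⟶ C) (hσ : σ ≫ κ = κ) (hσ1 : σ ≠ 𝟙 C) (hσp : σ ≫ (C ↘ Spec (CommRingCat.of k)) = (C ↘ Spec (CommRingCat.of k)))
    (N : (pullback (C ↘ Spec (CommRingCat.of k)) (C ↘ Spec (CommRingCat.of k))).Modules) (hN : PicF.IsInvertible N)
    (hNinv : ClSub.IsInverseOf N (ClSub.idealMod (pullback.lift (𝟙 C) σ ((Category.id_comp (C ↘ Spec (CommRingCat.of k))).trans hσp.symm)).ker))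
    (ND : (pullback (C ↘ Spec (CommRingCat.of k)) (C ↘ Spec (CommRingCat.of k))).Modules) (hND : PicF.IsInvertible ND)
    (hNDinv : ClSub.IsInverseOf ND (ClSub.idealMod (pullback.diagonal (C ↘ Spec (CommRingCat.of k))).ker))
    (x : Spec (CommRingCat.of k) ⟶ C) (hx : x ≫ (C ↘ Spec (CommRingCat.of k)) = 𝟙 (Spec (CommRingCat.of k)))
    (A : C.Modules) (hA : PicF.IsInvertible A) (hAinv : ClSub.IsInverseOf A (ClSub.idealMod x.ker)) :
    letI : (pullback (C ↘ Spec (CommRingCat.of k)) (C ↘ Spec (CommRingCat.of k))).Over (Spec (CommRingCat.of k)) := ⟨pullback.fst (C ↘ Spec (CommRingCat.of k)) (C ↘ Spec (CommRingCat.of k)) ≫ (C ↘ Spec (CommRingCat.of k))⟩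
    FGA.intNum k (pullback (C ↘ Spec (CommRingCat.of k)) (C ↘ Spec (CommRingCat.of k))) 2 ![((Scheme.Modules.pullback (pullback.fst (C ↘ Spec (CommRingCat.of k)) (C ↘ Spec (CommRingCat.of k)))).obj A), ((Scheme.Modules.pullback (pullback.fst (C ↘ Spec (CommRingCat.of k)) (C ↘ Spec (CommRingCat.of k)))).obj A)] (Coh.structureModule (pullback (C ↘ Spec (CommRingCat.of k)) (C ↘ Spec (CommRingCat.of k)))) = 0 ∧
      FGA.intNum k (pullback (C ↘ Spec (CommRingCat.of k)) (C ↘ Spec (CommRingCat.of k))) 2 ![((Scheme.Modules.pullback (pullback.fst (C ↘ Spec (CommRingCat.of k)) (C ↘ Spec (CommRingCat.of k)))).obj A), ((Scheme.Modules.pullback (pullback.snd (C ↘ Spec (CommRingCat.of k)) (C ↘ Spec (CommRingCat.of k)))).obj A)] (Coh.structureModule (pullback (C ↘ Spec (CommRingCat.of k)) (C ↘ Spec (CommRingCat.of k)))) = 1 ∧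
      FGA.intNum k (pullback (C ↘ Spec (CommRingCat.of k)) (C ↘ Spec (CommRingCat.of k))) 2 ![((Scheme.Modules.pullback (pullback.fst (C ↘ Spec (CommRingCat.of k)) (C ↘ Spec (CommRingCat.of k)))).obj A), ND] (Coh.structureModule (pullback (C ↘ Spec (CommRingCat.of k)) (C ↘ Spec (CommRingCat.of k)))) = 1 ∧
      FGA.intNum k (pullback (C ↘ Spec (CommRingCat.of k)) (C ↘ Spec (CommRingCat.of k))) 2 ![((Scheme.Modules.pullback (pullback.fst (C ↘ Spec (CommRingCat.of k)) (C ↘ Spec (CommRingCat.of k)))).obj A), N] (Coh.structureModule (pullback (C ↘ Spec (CommRingCat.of k)) (C ↘ Spec (CommRingCat.of k)))) = 1 := by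
  letI := H10Coh.HypSq.overSq k C
  obtain ⟨hP, hs, hi, hd⟩ := H10Coh.HypSq.sq_props (k := k) (C := C) hdim
  haveI := hP; haveI := hs; haveI := hi
  have h1 := H10Coh.HypSq.deg_point_inverse hdim x hx hAinv
  have hA₁ := H11Ample.isInvertible_pullback (pullback.fst (C ↘ Spec (CommRingCat.of k)) (C ↘ Spec (CommRingCat.of k))) hA
  have hA₂ := H11Ample.isInvertible_pullback (pullback.snd (C ↘ Spec (CommRingCat.of k)) (C ↘ Spec (CommRingCat.of k))) hA
  rw [H28Surf.intNum_eq_pr k hd hA₁ hA₁, H28Surf.intNum_eq_pr k hd hA₁ hA₂, H28Surf.intNum_eq_pr k hd hA₁ hND,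
    H28Surf.intNum_eq_pr k hd hA₁ hN]
  refine ⟨H10Coh.HypSq.pr_fst_fst hdim hgen hA, by rw [H10Coh.HypSq.pr_fst_snd hdim hgen hA, h1]; norm_num, ?_, ?_⟩
  · rw [H28Surf.pr_symm k, H10Coh.HypSq.pr_N hdim (𝟙 C) (Category.id_comp _) hND hNDinv hA₁,
      H10Coh.HypSq.deg_pullback_gr_fst hdim (𝟙 C) (Category.id_comp _), h1]
  · rw [H28Surf.pr_symm k, H10Coh.HypSq.pr_N hdim σ hσp hN hNinv hA₁,
      H10Coh.HypSq.deg_pullback_gr_fst hdim σ hσp, h1]

end Groth.Agent.S19082
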