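import Groth.Statements.S19098


set_option autoImplicit false
set_option maxHeartbeats 1000000
set_option synthInstance.maxHeartbeats 100000
set_option linter.style.haveILetI false
set_option backward.isDefEq.respectTransparency false
universe u
open CategoryTheory MonoidalCategory CartesianMonoidalCategory MonObj AlgebraicGeometry
open ChGrp

namespace Groth.Agent.S19098

/-- Let S be a scheme, G an S-group scheme acting on an S-scheme X through a, and h an S-point of G. Let
i : Z → G be a homomorphism and ψ : Ψ → G a monomorphism with a G-action on Ψ under which ψ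
intertwines with conjugation, and o an S-point of Ψ over h, such that (Ψ, o) is the homogeneous
space G/Z for the fppf topology through the orbit map g ↦ g h g⁻¹ (so Z is the centralizer of h and
Ψ its conjugacy class). Let incl : X^h → X be a monomorphism whose points are the points of X fixed
by h, with the Z-action restricted from a; let σ : S_Ψ → G ×_S X be a monomorphism whose points are
the pairs (g, x) with g a point of Ψ and g x = x (the part of the global stabilizer over Ψ), with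
the G-action by conjugation on the first entry and by a on the second; and let Φ : G ×_S X^h → S_Ψ
be the morphism (g, x) ↦ (g h g⁻¹, g x). Then Φ makes S_Ψ, with its G-action, the balanced product G
×^Z X^h for the fppf topology: Φ is G-equivariant, it is a Z-torsor for the action z (g, x) = (g
z⁻¹, z x), and it has sections fppf-locally on S_Ψ. (The source works with algebraic spaces of
finite type over the complex numbers and a semisimple conjugacy class Ψ, where the identification of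
Ψ with G/Z comes from the theory of algebraic groups; here that identification is the hypothesis
hhom, the base is arbitrary and X is a scheme.) -/
theorem result
    {S : Scheme.{u}} {G X Z Ψ Xh SΨ : Over S} [GrpObj G] [GrpObj Z]
    (a : AlgGrp.Action G X) (h : 𝟙_ (Over S) ⟶ G)
    (i : Z ⟶ G) [IsMonHom i]
    (ψ : Ψ ⟶ G) [Mono ψ] (aΨ : AlgGrp.Action G Ψ)
    (hψ : aΨ.act ≫ ψ = fst G Ψ * (snd G Ψ ≫ ψ) * (fst G Ψ)⁻¹)
    (o : 𝟙_ (Over S) ⟶ Ψ) (ho : o ≫ ψ = h)
    (hhom : ChGrp.IsHomog Scheme.fppfPrecoverage i aΨ o)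
    (incl : Xh ⟶ X) [Mono incl]
    (hXh : ∀ (T : Over S) (x : T ⟶ X), (∃ y : T ⟶ Xh, y ≫ incl = x) ↔ lift (toUnit T ≫ h) x ≫ a.act = x)
    (aXh : AlgGrp.Action Z Xh) (hincl : AlgGrp.Action.IsEquivariant aXh (a.restrict i) incl)
    (σ : SΨ ⟶ G ⊗ X) [Mono σ]
    (hSΨ : ∀ (T : Over S) (g : T ⟶ G) (x : T ⟶ X),
      (∃ q : T ⟶ SΨ, q ≫ σ = lift g x) ↔ ((∃ y : T ⟶ Ψ, y ≫ ψ = g) ∧ lift g x ≫ a.act = x))
    (aS : AlgGrp.Action G SΨ)
    (hσ : aS.act ≫ σ = lift (fst G SΨ * (snd G SΨ ≫ σ ≫ fst G X) * (fst G SΨ)⁻¹)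
      (lift (fst G SΨ) (snd G SΨ ≫ σ ≫ snd G X) ≫ a.act))
    (Φ : G ⊗ Xh ⟶ SΨ)
    (hΦ : Φ ≫ σ = lift (fst G Xh * (toUnit (G ⊗ Xh) ≫ h) * (fst G Xh)⁻¹)
      (lift (fst G Xh) (snd G Xh ≫ incl) ≫ a.act)) :
    ChGrp.IsBalProd Scheme.fppfPrecoverage i aXh aS Φ := by
  haveI := hhom.1
  have hσP : ∀ {T : Over S} (g : T ⟶ G) (s : T ⟶ SΨ),
      (lift g s ≫ aS.act) ≫ σ = lift (g * (s ≫ σ ≫ fst G X) * g⁻¹) (lift g (s ≫ σ ≫ snd G X) ≫ a.act) := by
    intro T g s
    rw [Category.assoc, hσ]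
    simp only [comp_lift, comp_lift_assoc, MonObj.comp_mul, GrpObj.comp_inv, lift_fst, lift_snd_assoc]
  have hΦP : ∀ {T : Over S} (g : T ⟶ G) (x : T ⟶ Xh),
      (lift g x ≫ Φ) ≫ σ = lift (g * (toUnit T ≫ h) * g⁻¹) (lift g (x ≫ incl) ≫ a.act) := by
    intro T g x
    rw [Category.assoc, hΦ]
    simp only [comp_lift, comp_lift_assoc, MonObj.comp_mul, GrpObj.comp_inv, lift_fst, lift_snd_assoc]
    rw [← Category.assoc, toUnit_unique (lift g x ≫ toUnit _) (toUnit T)]
  have hψP : ∀ {T : Over S} (g : T ⟶ G), (g ≫ aΨ.orbitMap o) ≫ ψ = g * (toUnit T ≫ h) * g⁻¹ := by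
    intro T g
    rw [AlgGrp.Action.comp_orbitMap, Category.assoc, hψ]
    simp only [MonObj.comp_mul, GrpObj.comp_inv, lift_fst, lift_snd_assoc, Category.assoc, ho]
  have hincl' : ∀ {T : Over S} (w : T ⟶ Z) (x : T ⟶ Xh),
      (lift w x ≫ aXh.act) ≫ incl = lift (w ≫ i) (x ≫ incl) ≫ a.act := by
    intro T w x
    rw [Category.assoc, show aXh.act ≫ incl = _ from hincl, lift_whiskerLeft_assoc, AlgGrp.Action.lift_restrict_act]
  haveI hi : Mono i := ⟨fun {T} w w' hw => by
    have e : lift (1 : T ⟶ G) w = lift (1 : T ⟶ G) w' := by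
      apply hhom.2.1.hom_ext
      · rw [lift_fst, lift_fst]
      · rw [lift_whiskerLeft_assoc, lift_whiskerLeft_assoc, hw]
    simpa using congrArg (· ≫ snd G Z) e⟩
  have hcent : ∀ {T : Over S} (w : T ⟶ Z), (w ≫ i) * (toUnit T ≫ h) * (w ≫ i)⁻¹ = toUnit T ≫ h := by
    intro T w
    have h0 := congrArg (lift (1 : T ⟶ G) w ≫ ·) hhom.2.1.w
    simp only [Category.assoc, lift_fst_assoc, lift_whiskerLeft_assoc] at h0
    rw [← Category.assoc (lift _ _) μ[G], ← Hom.mul_def, _root_.one_mul] at h0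
    have h1 := congrArg (· ≫ ψ) h0
    simp only [hψP, _root_.one_mul, inv_one, _root_.mul_one] at h1
    exact h1.symm
  have hpair : ∀ {T : Over S} {A B : Over S} (p : T ⟶ A ⊗ B), lift (p ≫ fst A B) (p ≫ snd A B) = p := by
    intro T A B p
    rw [← comp_lift, lift_fst_snd, Category.comp_id]
  refine ⟨?_, ⟨⟨?_⟩, ⟨?_⟩⟩, ?_⟩
  · rw [AlgGrp.Action.IsEquivariant, ← cancel_mono σ]
    refine AlgGrp.Action.hom_ext_lift₂ fun T g p => ?_
    rw [← hpair p, ← Category.assoc, ← Category.assoc, AlgGrp.Action.lift_prod_act, AlgGrp.Action.lift_trivial_act,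
      hΦP]
    simp only [Category.assoc, lift_whiskerLeft_assoc]
    rw [← Category.assoc _ aS.act σ, hσP, ← Category.assoc (_ ≫ Φ) σ, hΦP, ← Category.assoc (_ ≫ Φ) σ, hΦP, lift_fst,
      lift_snd, show lift g (p ≫ fst G Xh) ≫ (NonAbH1.trivialAction G).act = g * (p ≫ fst G Xh) from rfl,
      AlgGrp.Action.lift_mul_act, _root_.mul_inv_rev]
    simp only [_root_.mul_assoc, Category.assoc]
  · rw [← cancel_mono σ]
    refine AlgGrp.Action.hom_ext_lift₂ fun T w p => ?_
    rw [← hpair p, ← Category.assoc, ← Category.assoc, ChGrp.lift_twist_act, hΦP]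
    simp only [Category.assoc, lift_snd_assoc]
    rw [← Category.assoc _ Φ σ, hΦP, ← Category.assoc (lift w _) aXh.act, hincl', ← AlgGrp.Action.lift_mul_act,
      inv_mul_cancel_right]
    congr 1
    conv_rhs => rw [← hcent w⁻¹, GrpObj.inv_comp]
    simp only [_root_.mul_inv_rev, inv_inv, _root_.mul_assoc]
  · have key : ∀ (s : Limits.PullbackCone Φ Φ), ∃! w : s.pt ⟶ Z,
        lift w s.snd ≫ (ChGrp.twist i aXh).act = s.fst := by
      intro s
      have e := congrArg (· ≫ σ) s.condition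
      beta_reduce at e
      rw [← hpair s.fst, ← hpair s.snd, hΦP, hΦP] at e
      have e₁ : (s.fst ≫ fst G Xh) ≫ aΨ.orbitMap o = (s.snd ≫ fst G Xh) ≫ aΨ.orbitMap o := by
        rw [← cancel_mono ψ, hψP, hψP]
        simpa using congrArg (· ≫ fst G X) e
      let l := hhom.2.1.lift (s.snd ≫ fst G Xh) (s.fst ≫ fst G Xh) e₁.symm
      have hl₁ : l ≫ fst G Z = s.snd ≫ fst G Xh := hhom.2.1.lift_fst _ _ _
      have hl₂ : l ≫ (G ◁ i) ≫ μ[G] = s.fst ≫ fst G Xh := hhom.2.1.lift_snd _ _ _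
      rw [← hpair l, lift_whiskerLeft_assoc, hl₁, ← Hom.mul_def] at hl₂
      refine ⟨(l ≫ snd G Z)⁻¹, ?_, fun w hw => ?_⟩
      · beta_reduce
        conv_lhs => rw [← hpair s.snd]
        conv_rhs => rw [← hpair s.fst]
        rw [ChGrp.lift_twist_act]
        have hg : (s.snd ≫ fst G Xh) * ((l ≫ snd G Z)⁻¹ ≫ i)⁻¹ = s.fst ≫ fst G Xh := by
          rw [GrpObj.inv_comp, inv_inv, hl₂]
        congr 1
        rw [← cancel_mono incl, hincl', GrpObj.inv_comp]
        have e₂ := congrArg (· ≫ snd G X) e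
        simp only [lift_snd] at e₂
        rw [← hl₂, AlgGrp.Action.lift_mul_act] at e₂
        have e₃ := congrArg (fun y => lift ((l ≫ snd G Z ≫ i)⁻¹ * (s.snd ≫ fst G Xh)⁻¹) y ≫ a.act) e₂
        simp only [← AlgGrp.Action.lift_mul_act, inv_mul_cancel_right, _root_.mul_assoc, inv_mul_cancel,
          inv_mul_cancel_left, _root_.mul_one, AlgGrp.Action.lift_one_act, Category.assoc] at e₃
        simpa only [Category.assoc] using e₃.symm
      · have hg := congrArg (· ≫ fst G Xh) hw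
        beta_reduce at hg
        rw [← hpair s.snd, ChGrp.lift_twist_act, lift_fst] at hg
        rw [← hl₂, mul_right_inj] at hg
        rw [← cancel_mono i, GrpObj.inv_comp, ← hg, inv_inv]
    refine Limits.PullbackCone.IsLimit.mk _ (fun s => lift (key s).choose s.snd) (fun s => ?_) (fun s => lift_snd _ _)
      (fun s m h₁ h₂ => ?_)
    · exact (key s).choose_spec.1
    · rw [← hpair m, h₂]
      congr 1
      refine (key s).choose_spec.2 _ ?_
      beta_reduce
      rw [← h₂, hpair m, h₁]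
  · obtain ⟨q, hq⟩ := ((hSΨ SΨ (σ ≫ fst G X) (σ ≫ snd G X)).mp ⟨𝟙 _, by
      rw [Category.id_comp, hpair σ]⟩).1
    have hfix := ((hSΨ SΨ (σ ≫ fst G X) (σ ≫ snd G X)).mp ⟨𝟙 _, by
      rw [Category.id_comp, hpair σ]⟩).2
    obtain ⟨R₀, hR₀, hs⟩ := hhom.2.2
    obtain ⟨κ, W, g, rfl⟩ := Presieve.exists_eq_ofArrows R₀
    refine ⟨_, Scheme.fppfPrecoverage.mem_coverings_of_isPullback g hR₀ q.left
      (fun e => Limits.pullback.fst q.left (g e)) (fun e => Limits.pullback.snd q.left (g e))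
      (fun e => IsPullback.of_hasPullback _ _), ?_⟩
    rintro S' f ⟨e⟩
    obtain ⟨s, hs₁⟩ := hs (g e) ⟨e⟩
    change s ≫ (aΨ.orbitMap o).left = g e at hs₁
    let V : Over S := Over.mk (Limits.pullback.fst q.left (g e) ≫ SΨ.hom)
    let p : V ⟶ SΨ := Over.homMk (Limits.pullback.fst q.left (g e)) rfl
    let γ : V ⟶ G := Over.homMk (Limits.pullback.snd q.left (g e) ≫ s) (by
      change (_ ≫ s) ≫ G.hom = _ ≫ SΨ.hom
      rw [← Over.w (aΨ.orbitMap o), Category.assoc, reassoc_of% hs₁, ← Category.assoc, ← Limits.pullback.condition,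
        Category.assoc, Over.w q])
    have hγ : γ ≫ aΨ.orbitMap o = p ≫ q := Over.OverMorphism.ext (by
      change (_ ≫ s) ≫ _ = _
      rw [Category.assoc, hs₁]
      exact Limits.pullback.condition.symm)
    have hp₁ : p ≫ σ ≫ fst G X = γ * (toUnit V ≫ h) * γ⁻¹ := by
      rw [← hψP, hγ, Category.assoc, hq]
    have hp₂ : lift (p ≫ σ ≫ fst G X) (p ≫ σ ≫ snd G X) ≫ a.act = p ≫ σ ≫ snd G X := by
      have := congrArg (p ≫ ·) hfix
      simpa only [comp_lift_assoc, Category.assoc] using this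
    obtain ⟨x₀, hx₀⟩ := (hXh V (lift γ⁻¹ (p ≫ σ ≫ snd G X) ≫ a.act)).mpr (by
      rw [← AlgGrp.Action.lift_mul_act, show (toUnit V ≫ h) * γ⁻¹ = γ⁻¹ * (p ≫ σ ≫ fst G X) by
        rw [hp₁]; simp only [_root_.mul_assoc, inv_mul_cancel_left],
        AlgGrp.Action.lift_mul_act, hp₂])
    refine ⟨(lift γ x₀).left, ?_⟩
    change (lift γ x₀).left ≫ Φ.left = _
    rw [← Over.comp_left]
    have : lift γ x₀ ≫ Φ = p := by
      rw [← cancel_mono σ, hΦP, hx₀, ← AlgGrp.Action.lift_mul_act, mul_inv_cancel, AlgGrp.Action.lift_one_act, ← hp₁]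
      conv_rhs => rw [← hpair (p ≫ σ)]
      simp only [Category.assoc]
    rw [this]
    rfl

end Groth.Agent.S19098
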