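import Groth.Statements.S19099
import Groth.Agent.H19Grp.BalProd
import Groth.Agent.H13Desc.Fpqc
import Groth.Agent.H18Descent.Basic

set_option autoImplicit false
set_option maxHeartbeats 1000000
set_option synthInstance.maxHeartbeats 100000
set_option linter.style.haveILetI false
set_option backward.isDefEq.respectTransparency false
universe u
open CategoryTheory MonoidalCategory CartesianMonoidalCategory MonObj AlgebraicGeometry
open ChGrp

namespace Groth.Agent.S19099

open H19Grp.BalProd MonoidalCategory CartesianMonoidalCategory in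
/-- factorisation through a monomorphism is local -/
theorem exists_factor_local {S : Scheme.{u}} {A B T : Over S} (m : A ⟶ B) [Mono m] (y : T ⟶ B)
    (h : H14Stk.Locally (QuotSh.J Scheme.fppfPrecoverage S) T (fun V f => ∃ a : V ⟶ A, a ≫ m = f ≫ y)) :
    ∃ a : T ⟶ A, a ≫ m = y := by
  obtain ⟨R, hR, ha⟩ := h
  choose a ha using ha
  let x : Presieve.FamilyOfElements (yoneda.obj A) R.arrows := fun V f hf => a f hf
  have hx : x.Compatible := by
    intro V₁ V₂ V g₁ g₂ f₁ f₂ h₁ h₂ he
    change g₁ ≫ a f₁ h₁ = g₂ ≫ a f₂ h₂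
    rw [← cancel_mono m, Category.assoc, Category.assoc, ha, ha, reassoc_of% he]
  refine ⟨(isSheafFor_hom hR A).amalgamate x hx, hom_ext_local ⟨R, hR, fun V f hf => ?_⟩⟩
  change f ≫ _ = f ≫ y
  rw [← Category.assoc, show f ≫ (isSheafFor_hom hR A).amalgamate x hx = a f hf from
    (isSheafFor_hom hR A).valid_glue hx f hf]
  exact ha f hf


/-- Let S be a scheme, i : G → Q a monomorphic homomorphism of S-group schemes (a closed subgroup), h an
S-point of G whose image in Q is central, and X an S-scheme with a G-action a. Let incl : X^h → X be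
a monomorphism whose points are the points of X fixed by h, with a G-action making incl equivariant
(X^h is G-stable since h is central in G). Let Y with its Q-action and j : Q ×_S X → Y be the
balanced product Q ×^G X for the fppf topology, Y' with j' : Q ×_S X^h → Y' the balanced product Q
×^G X^h, and m : Y' → Y the morphism under which j' followed by m is Q × incl followed by j. Then m
is a monomorphism, a point of Y factors through m exactly when it is fixed by h acting on Y through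
the Q-action, and m is a closed immersion if incl is one: Q ×^G X^h is the fixed locus of h in Q ×^G
X. (The source states this for a smooth algebraic space X of finite type over the complex numbers,
as an equality of closed subspaces, and argues on closed points; the form here is the one its
computation gives for the fppf quotients over any base, with X a scheme.) -/
theorem result
    {S : Scheme.{u}} {Q G X Xh Y Y' : Over S} [GrpObj Q] [GrpObj G]
    (i : G ⟶ Q) [IsMonHom i] [Mono i]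
    (h : 𝟙_ (Over S) ⟶ G)
    (hcent : ∀ (T : Over S) (q : T ⟶ Q), q * (toUnit T ≫ h ≫ i) = (toUnit T ≫ h ≫ i) * q)
    (a : AlgGrp.Action G X)
    (incl : Xh ⟶ X) [Mono incl]
    (hXh : ∀ (T : Over S) (x : T ⟶ X), (∃ y : T ⟶ Xh, y ≫ incl = x) ↔ lift (toUnit T ≫ h) x ≫ a.act = x)
    (aXh : AlgGrp.Action G Xh) (hincl : AlgGrp.Action.IsEquivariant aXh a incl)
    (aY : AlgGrp.Action Q Y) (j : Q ⊗ X ⟶ Y) (hY : ChGrp.IsBalProd Scheme.fppfPrecoverage i a aY j)
    (aY' : AlgGrp.Action Q Y') (j' : Q ⊗ Xh ⟶ Y') (hY' : ChGrp.IsBalProd Scheme.fppfPrecoverage i aXh aY' j')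
    (m : Y' ⟶ Y) (hm : j' ≫ m = (Q ◁ incl) ≫ j) :
    Mono m ∧
      (∀ (T : Over S) (y : T ⟶ Y), (∃ y' : T ⟶ Y', y' ≫ m = y) ↔ lift (toUnit T ≫ h ≫ i) y ≫ aY.act = y) ∧
      (IsClosedImmersion incl.left → IsClosedImmersion m.left) := by
  haveI hmi : Mono i := inferInstance
  have hjm : ∀ {T : Over S} (q : T ⟶ Q) (x : T ⟶ Xh), (lift q x ≫ j') ≫ m = lift q (x ≫ incl) ≫ j := by
    intro T q x
    rw [Category.assoc, hm, lift_whiskerLeft_assoc]
  have hi' : ∀ {T : Over S} (g : T ⟶ G) (x : T ⟶ Xh), (lift g x ≫ aXh.act) ≫ incl = lift g (x ≫ incl) ≫ a.act := by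
    intro T g x
    rw [Category.assoc, show aXh.act ≫ incl = _ from hincl, lift_whiskerLeft_assoc]
  haveI hmono : Mono m := ⟨fun {T} y₁ y₂ hy => by
    refine H19Grp.BalProd.hom_ext_local (((H19Grp.BalProd.locally_eq hY' y₁).and
      (H19Grp.BalProd.locally_eq hY' y₂)).mono ?_)
    rintro V f ⟨⟨q₁, x₁, h₁⟩, q₂, x₂, h₂⟩
    have e : lift q₂ (x₂ ≫ incl) ≫ j = lift q₁ (x₁ ≫ incl) ≫ j := by
      rw [← hjm, ← hjm, h₁, h₂, Category.assoc, Category.assoc, hy]
    obtain ⟨g, e₁, e₂⟩ := H19Grp.BalProd.exists_of_j_eq hY _ _ _ _ e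
    rw [← h₁, ← h₂, e₁, show x₂ = lift g x₁ ≫ aXh.act by rw [← cancel_mono incl, e₂, hi']]
    exact (H19Grp.BalProd.twist_j hY' g q₁ x₁).symm⟩
  have hact : ∀ {T : Over S} (q : T ⟶ Q) (x : T ⟶ X),
      lift (toUnit T ≫ h ≫ i) (lift q x ≫ j) ≫ aY.act = lift q (lift (toUnit T ≫ h) x ≫ a.act) ≫ j := by
    intro T q x
    rw [H19Grp.BalProd.act_j hY, ← hcent,
      ← H19Grp.BalProd.twist_j hY (toUnit T ≫ h) (q * (toUnit T ≫ h ≫ i)) x, Category.assoc, mul_inv_cancel_right]
  have hfixed : ∀ {T : Over S} (q : T ⟶ Q) (x : T ⟶ X),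
      lift (toUnit T ≫ h ≫ i) (lift q x ≫ j) ≫ aY.act = lift q x ≫ j → lift (toUnit T ≫ h) x ≫ a.act = x := by
    intro T q x e
    rw [hact] at e
    obtain ⟨g, e₁, e₂⟩ := H19Grp.BalProd.exists_of_j_eq hY _ _ _ _ e
    have hg : g ≫ i = 1 := by simpa using e₁
    have hg1 : g = 1 := by rw [← cancel_mono i, hg, MonObj.one_comp]
    rw [e₂, hg1, AlgGrp.Action.lift_one_act]
  have hnat : ∀ {T V : Over S} (f : V ⟶ T) (y : T ⟶ Y),
      f ≫ lift (toUnit T ≫ h ≫ i) y ≫ aY.act = lift (toUnit V ≫ h ≫ i) (f ≫ y) ≫ aY.act := by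
    intro T V f y
    rw [comp_lift_assoc, ← Category.assoc f, toUnit_unique (f ≫ toUnit T) (toUnit V)]
  have hpts : ∀ (T : Over S) (y : T ⟶ Y), (∃ y' : T ⟶ Y', y' ≫ m = y) ↔ lift (toUnit T ≫ h ≫ i) y ≫ aY.act = y := by
    intro T y
    refine ⟨?_, fun hy => ?_⟩
    · rintro ⟨y', rfl⟩
      refine H19Grp.BalProd.hom_ext_local ((H19Grp.BalProd.locally_eq hY' y').mono ?_)
      rintro V f ⟨q, x, hx⟩
      rw [hnat, ← Category.assoc f y', ← hx, hjm, hact, (hXh V (x ≫ incl)).mp ⟨x, rfl⟩]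
    · refine exists_factor_local m y ((H19Grp.BalProd.locally_eq hY y).mono ?_)
      rintro V f ⟨q, x, hx⟩
      have e := congrArg (f ≫ ·) hy
      simp only [hnat, ← hx] at e
      obtain ⟨x', hx'⟩ := (hXh V x).mpr (hfixed q x e)
      exact ⟨lift q x' ≫ j', by rw [hjm, hx', hx]⟩
  refine ⟨hmono, hpts, fun hci => ?_⟩
  haveI := hci
  haveI : Mono (Q ◁ incl) := ⟨fun a b hab => CartesianMonoidalCategory.hom_ext _ _
    (by simpa using congrArg (· ≫ fst Q X) hab)
    ((cancel_mono incl).mp (by simpa using congrArg (· ≫ snd Q X) hab))⟩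
  have hex : ∀ s : Limits.PullbackCone m j, ∃ y : s.pt ⟶ Xh, y ≫ incl = s.snd ≫ snd Q X := fun s =>
    (hXh s.pt _).mpr (hfixed (s.snd ≫ fst Q X) _ (by
      rw [show lift (s.snd ≫ fst Q X) (s.snd ≫ snd Q X) = s.snd by rw [← comp_lift, lift_fst_snd, Category.comp_id],
        ← s.condition]
      exact (hpts _ _).mp ⟨s.fst, rfl⟩))
  have hpb : IsPullback j' (Q ◁ incl) m j := by
    refine ⟨⟨hm⟩, ⟨Limits.PullbackCone.IsLimit.mk _ (fun s => lift (s.snd ≫ fst Q X) (hex s).choose)
      (fun s => ?_) (fun s => ?_) (fun s r h₁ h₂ => ?_)⟩⟩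
    · rw [← cancel_mono m, hjm, (hex s).choose_spec, s.condition, ← comp_lift,
        lift_fst_snd, Category.comp_id]
    · rw [lift_whiskerLeft, (hex s).choose_spec, ← comp_lift, lift_fst_snd, Category.comp_id]
    · rw [← cancel_mono (Q ◁ incl), h₂, lift_whiskerLeft, (hex s).choose_spec,
        ← comp_lift, lift_fst_snd, Category.comp_id]
  have hsq : IsPullback (snd Q Xh) (Q ◁ incl) incl (snd Q X) :=
    ⟨⟨(whiskerLeft_snd _ _).symm⟩, ⟨Limits.PullbackCone.IsLimit.mk _ (fun s => lift (s.snd ≫ fst Q X) s.fst)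
      (fun s => lift_snd _ _)
      (fun s => by rw [lift_whiskerLeft, s.condition, ← comp_lift, lift_fst_snd, Category.comp_id])
      (fun s r h₁ h₂ => CartesianMonoidalCategory.hom_ext _ _
        (by rw [lift_fst, ← h₂, Category.assoc, whiskerLeft_fst]) (by rw [lift_snd, h₁]))⟩⟩
  have hQi : IsClosedImmersion (Q ◁ incl).left :=
    MorphismProperty.of_isPullback (P := @IsClosedImmersion)
      (show IsPullback (snd Q Xh).left (Q ◁ incl).left incl.left (snd Q X).left from
        (IsPullback.map (Over.forget S) hsq)) hci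
  obtain ⟨R₀, hR₀, hs⟩ := hY.2.2
  obtain ⟨κ, W, g, rfl⟩ := Presieve.exists_eq_ofArrows R₀
  refine H13Desc.of_fpqc_target @IsClosedImmersion (Scheme.fppfPrecoverage_le_fpqcPrecoverage _ hR₀) m.left fun e => ?_
  obtain ⟨s, hs₁⟩ := hs (g e) ⟨e⟩
  change s ≫ j.left = g e at hs₁
  subst_vars
  have sq : IsPullback (Limits.pullback.fst (Q ◁ incl).left s ≫ j'.left) (Limits.pullback.snd (Q ◁ incl).left s)
      m.left (s ≫ j.left) :=
    (IsPullback.of_hasPullback (Q ◁ incl).left s).paste_horiz (hpb.map (Over.forget S))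
  haveI : IsClosedImmersion (Limits.pullback.snd (Q ◁ incl).left s) := MorphismProperty.pullback_snd _ _ hQi
  rw [← hs₁]
  exact (MorphismProperty.cancel_left_of_respectsIso @IsClosedImmersion sq.isoPullback.hom _).mp
    (by rw [sq.isoPullback_hom_snd]; infer_instance)

end Groth.Agent.S19099
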