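import Groth.Statements.S19106
import Groth.Agent.H27Num.Basic

set_option autoImplicit false
open HilbD

namespace Groth.Agent.S19106

/-- Let μ be a non-empty Young diagram, V the number of its cells, E the number of unordered pairs of
cells sharing a side (a cell together with the cell immediately below it, or immediately to its
right, both in μ) and Q the number of 2 × 2 blocks of cells of μ (cells c such that the cell
diagonally below-right of c is in μ, the other two corners being in μ automatically). Then V − E + Q
− 1 = 0, stated as V + Q = E + 1 in the naturals. (The empty diagram, for which the count reads 0 −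
0 + 0 − 1, is excluded.) -/
theorem result (μ : YoungDiagram) (hμ : μ ≠ ⊥) :
    μ.cells.card + (μ.cells.filter (fun c => (c.1 + 1, c.2 + 1) ∈ μ)).card =
      (μ.cells.filter (fun c => (c.1 + 1, c.2) ∈ μ)).card + (μ.cells.filter (fun c => (c.1, c.2 + 1) ∈ μ)).card + 1 := by
  exact Groth.Agent.H27Num.youngDiagram_euler μ hμ

end Groth.Agent.S19106
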