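import Groth.Statements.S19108
import Groth.Agent.H14CohBC.GoodPoints

set_option autoImplicit false
universe u
open CategoryTheory AlgebraicGeometry
open StMod

namespace Groth.Agent.S19108

/-- Let `S` be a quasi-separated scheme, `𝒳` a locally Noetherian algebraic stack over `(Sch/S)` for the
fppf topology (every scheme smooth over `𝒳` is locally Noetherian), `M` an algebraic space over `S`
that is quasi-separated over `S`, and `π : 𝒳 ⟶ M` a quasi-compact quasi-separated good moduli space.
Then two closed points of the space of points `|𝒳|` with the same image under `|π|` coincide: over
every point of `M` there is at most one closed point of `𝒳`. (This is the uniqueness half of the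
printed assertion that over a closed point of `M` there is exactly one closed point; the existence
half is not stated here.) Here a good moduli space is a quasi-compact quasi-separated morphism to an
algebraic space along which pushforward takes surjections of quasi-coherent modules to maps
surjective on sections over every affine scheme etale over the target (cohomological affineness),
and for which the canonical map from the functions on any scheme etale over the target to the
sections of the pushforward of the structure sheaf is bijective. (Standing conventions of the
source: all schemes and algebraic spaces are quasi-separated and all stacks have quasi-compact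
separated diagonal; this row carries instead the quasi-separatedness of `M` over a quasi-separated
base scheme and of `π`, which is what the arguments use.) -/
theorem result
    (S : Scheme.{u}) [QuasiSeparatedSpace S]
    (𝒳 : AlgSt.Cat S) (h𝒳 : AlgSt.IsAlgStack Scheme.fppfPrecoverage 𝒳)
    (M : AlgSp.Space S) (hM : AlgSp.IsQuasiSeparatedSp M.obj) (π : 𝒳 ⥤ᵇ AlgSt.ofSp M.obj)
    (hqc : AlgSt.IsQuasiCompactMor Scheme.fppfPrecoverage π) (hqs : AlgSt.IsQuasiSeparatedMor π)
    (h : StMod.IsGoodModuli π)
    (hN : AlgSt.SmoothLocally (fun T => IsLocallyNoetherian T) 𝒳)
    (x₁ x₂ : AlgSt.Points 𝒳) (h₁ : IsClosed ({x₁} : Set (AlgSt.Points 𝒳)))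
    (h₂ : IsClosed ({x₂} : Set (AlgSt.Points 𝒳)))
    (he : AlgSt.Points.map π x₁ = AlgSt.Points.map π x₂) : x₁ = x₂ := by
  exact (⟨h𝒳, M.property, hqc, hqs, Groth.Agent.H14CohBC.isQCMor_of_qsSp M.property hM, h.1, h.2⟩ : Groth.Agent.H14CohBC.GoodSetup π).eq_of_isClosed x₁ x₂ h₁ h₂ he

end Groth.Agent.S19108
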