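import Groth.Statements.S1911
import Groth.Agent.H3Cyc.SpSheaf
-- import your own Groth.Agent.* helpers here

set_option autoImplicit false
universe u
open CategoryTheory AlgebraicGeometry
open CategoryTheory.Limits
set_option backward.isDefEq.respectTransparency.types false
open Cyc
open Groth.Agent.H3Cyc

namespace Groth.Agent.S1911

/-- Let F be a coherent O_X-module flat over R with dim Supp(F_η) ≤ r. Then dim Supp(F_s) ≤ r and
sp([F_η]_r) = [F_s]_r, where F_η, F_s are the pullbacks of F to the two fibres. Here R is a discrete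
valuation ring, a : X → Spec R is locally of finite type, X_η and X_s are the fibres over the
generic and closed points (Mathlib's Scheme.Hom.fiber) with their dimension functions δη, δs
(transcendence degree of residue fields), r-cycles on X_η are cycles supported at points with δη =
r, and sp is the specialization map Z_r(X_η) → Z_r(X_s) on coefficient functions (Cyc.spFun). -/
theorem result (R : Type u) [CommRing R] [IsDomain R] [IsDiscreteValuationRing R] (X : Scheme.{u}) (a : X ⟶ Spec (CommRingCat.of R)) [LocallyOfFiniteType a] (δη : ↥(a.fiber (genericPoint ↥(Spec (CommRingCat.of R)))) → ℤ) (δs : ↥(a.fiber (IsLocalRing.closedPoint R)) → ℤ) (hδη : Cyc.DeltaCompat (a.fiberToSpecResidueField (genericPoint ↥(Spec (CommRingCat.of R)))) δη (fun _ => 0)) (hδs : Cyc.DeltaCompat (a.fiberToSpecResidueField (IsLocalRing.closedPoint R)) δs (fun _ => 0)) [IsLocallyNoetherian X] (r : ℤ) (F : X.Modules) (hF : Coh.IsCoh F) (hflat : FlatMod.IsFlatOver a F) (hdim : ∀ ζ : ↥(a.fiber (genericPoint ↥(Spec (CommRingCat.of R)))), Nontrivial (((Scheme.Modules.pullback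 (a.fiberι (genericPoint ↥(Spec (CommRingCat.of R))))).obj F).presheaf.stalk ζ) → δη ζ ≤ r) : (∀ x : ↥(a.fiber (IsLocalRing.closedPoint R)), Nontrivial (((Scheme.Modules.pullback (a.fiberι (IsLocalRing.closedPoint R))).obj F).presheaf.stalk x) → δs x ≤ r) ∧ Cyc.spFun a (genericPoint ↥(Spec (CommRingCat.of R))) (IsLocalRing.closedPoint R) δη δs r (Cyc.sheafFun δη r ((Scheme.Modules.pullback (a.fiberι (genericPoint ↥(Spec (CommRingCat.of R))))).obj F)) = Cyc.sheafFun δs r ((Scheme.Modules.pullback (a.fiberι (IsLocalRing.closedPoint R))).obj F) := by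
  exact SpSheaf.spFun_sheaf a hδη hδs r F hF hflat hdim

end Groth.Agent.S1911
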