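import Groth.Statements.S19115
import Groth.Agent.H14CohBC.GoodCoherent

set_option autoImplicit false
universe u
open CategoryTheory AlgebraicGeometry
open StMod

namespace Groth.Agent.S19115

/-- Let `S` be a quasi-separated scheme, `𝒳` a locally Noetherian algebraic stack over `(Sch/S)` for the
fppf topology (no finite-type hypothesis over the base and no quasi-compactness), `M` an algebraic
space over `S` that is quasi-separated over `S`, `π : 𝒳 ⟶ M` a quasi-compact quasi-separated good
moduli space and `F` a quasi-coherent module on `𝒳` of finite type (a coherent module). Then `π_* F`
is coherent: over every affine scheme `E` etale over `M` its sections form a finitely generated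
`Γ(E, O_E)`-module. Here a good moduli space is a quasi-compact quasi-separated morphism to an
algebraic space along which pushforward takes surjections of quasi-coherent modules to maps
surjective on sections over every affine scheme etale over the target (cohomological affineness),
and for which the canonical map from the functions on any scheme etale over the target to the
sections of the pushforward of the structure sheaf is bijective. (Standing conventions of the
source: all schemes and algebraic spaces are quasi-separated and all stacks have quasi-compact
separated diagonal; this row carries instead the quasi-separatedness of `M` over a quasi-separated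
base scheme and of `π`, which is what the arguments use.) -/
theorem result
    (S : Scheme.{u}) [QuasiSeparatedSpace S]
    (𝒳 : AlgSt.Cat S) (h𝒳 : AlgSt.IsAlgStack Scheme.fppfPrecoverage 𝒳)
    (M : AlgSp.Space S) (hM : AlgSp.IsQuasiSeparatedSp M.obj) (π : 𝒳 ⥤ᵇ AlgSt.ofSp M.obj)
    (hqc : AlgSt.IsQuasiCompactMor Scheme.fppfPrecoverage π) (hqs : AlgSt.IsQuasiSeparatedMor π)
    (h : StMod.IsGoodModuli π)
    (hN : AlgSt.SmoothLocally (fun T => IsLocallyNoetherian T) 𝒳)
    (F : StMod.QCoh 𝒳) (hF : F.obj.IsFinType)
    (E : AlgSp.EtOver M.obj) (hE : IsAffine E.obj.left.left) :
    Module.Finite Γ(StMod.sch (AlgSt.ofSp M.obj) (StMod.etaOf E), ⊤)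
      (StMod.Mod.RelSect π F.obj (StMod.etaOf E)) := by
  exact H14CohBC.GoodSetup.finite_relSect ⟨h𝒳, M.property, hqc, hqs, H14CohBC.isQCMor_of_qsSp M.property hM, h.1, h.2⟩ hN F hF E hE

end Groth.Agent.S19115
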