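import Groth.Statements.S19127
import Groth.Agent.H27HSL.Basic

set_option autoImplicit false
universe u v
open FrobAlg

namespace Groth.Agent.S19127

/-- Let p be a prime, A a Noetherian local ring of characteristic p with maximal ideal m, and M an
A-module which is cofinite, meaning that every element of M is annihilated by some power of m and
that the socle of M (the elements annihilated by m) is a finitely generated A-module. Let φ : M → M
be an additive map that is semilinear for the Frobenius of A, φ(a x) = a^p φ(x). If φ is locally
nilpotent, i.e. every element of M is annihilated by some iterate of φ, then φ is nilpotent: one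
iterate of φ is zero on all of M. -/
theorem result
    (p : ℕ) [Fact p.Prime] (A : Type u) [CommRing A] [IsNoetherianRing A] [IsLocalRing A] [CharP A p]
    (M : Type v) [AddCommGroup M] [Module A M]
    (htors : LocCoh.IsPowerTorsion (IsLocalRing.maximalIdeal A) M)
    (hsoc : Module.Finite A ↥(LocCoh.torsionBy (IsLocalRing.maximalIdeal A) M))
    (φ : M →ₛₗ[frobenius A p] M)
    (hloc : ∀ x : M, ∃ n : ℕ, (⇑φ)^[n] x = 0) :
    ∃ n : ℕ, ∀ x : M, (⇑φ)^[n] x = 0 := by
  exact Groth.Agent.H27HSL.hsl p A M htors hsoc φ hloc

end Groth.Agent.S19127
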