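import Groth.Statements.S1913
import Groth.Agent.H3CAlg.DiagStalk
import Mathlib
-- import your own Groth.Agent.* helpers here

set_option autoImplicit false
universe u
open CategoryTheory AlgebraicGeometry
attribute [local instance] HasDerivedCategory.standard
open CategoryTheory.Limits
open IntMult

namespace Groth.Agent.S1913

/-- Reduction to the diagonal for intersection multiplicities, coefficientwise: e(X, V·W, Z) = e(X × X,
Δ·(V × W), Δ(Z)), where X × X is the product over K, Δ its diagonal (a closed immersion, X being
separated) and V × W ⊆ X × X the product closed subscheme. Here X is a nonsingular variety over an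
algebraically closed field K (smooth, separated, of finite type, integral), V and W are closed
subvarieties given by quasi-coherent ideal sheaves with integral subschemes, of dimensions r and s
with dim X = n, intersecting properly, and ξ is the generic point of an irreducible component Z of V
∩ W; e(X, V·W, Z) is the alternating sum of lengths of Tor over 𝒪_{X,ξ}. -/
theorem result (K : Type u) [Field K] [IsAlgClosed K] (X : Scheme.{u}) (f : X ⟶ Spec (CommRingCat.of K)) [Smooth f] [IsSeparated f] [QuasiCompact f] [IsIntegral X] (IV IW : X.IdealSheafData) [IsIntegral IV.subscheme] [IsIntegral IW.subscheme] (n r s : ℕ) (hn : topologicalKrullDim X = n) (hr : topologicalKrullDim IV.support = r) (hs : topologicalKrullDim IW.support = s) (hprop : IntMult.ProperInt (IV.support : Set X) (IW.support : Set X) n r s) (ξ : X) (hξV : ξ ∈ IV.support) (hξW : ξ ∈ IW.support) (hmax : ∀ ξ' : X, ξ' ∈ IV.support → ξ' ∈ IW.support → ξ' ⤳ ξ → ξ' = ξ) : IntMult.mult IV IW ξ = IntMult.mult (pullback.map (IV.subschemeι ≫ f) (IW.subschemeι ≫ f) f f IV.subschemeι IW.subschemeι (𝟙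 _) (Category.comp_id _) (Category.comp_id _)).ker (pullback.diagonal f).ker (pullback.diagonal f ξ) := by
  haveI : IsLocallyNoetherian X := LocallyOfFiniteType.isLocallyNoetherian f
  haveI : IsLocallyNoetherian (pullback f f) := LocallyOfFiniteType.isLocallyNoetherian (pullback.fst f f ≫ f)
  haveI : IsClosedImmersion (pullback.diagonal f) := IsSeparated.isClosedImmersion_diagonal
  haveI := Groth.Agent.H3CAlg.DiagRegular.smoothOfRelativeDimension f n hn
  haveI : SmoothOfRelativeDimension n (pullback.fst f f) :=
    (smoothOfRelativeDimension_isStableUnderBaseChange (n := n)).of_isPullback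
      (IsPullback.of_hasPullback f f).flip ‹_›
  obtain ⟨-, hsec⟩ := Groth.Agent.H3CAlg.DiagRegular.isRegularImmersionOfCodim (pullback.fst f f) n
    (pullback.diagonal f) (pullback.diagonal_fst f)
  obtain ⟨U, hxU, hcl, rs, -, hreg, hker⟩ := hsec ξ
  let z := pullback.diagonal f ξ
  let gm := ((pullback f f).presheaf.germ U.1 z hxU).hom
  have hker' : RingHom.ker ((pullback.diagonal f).stalkMap ξ).hom = Ideal.ofList (rs.map gm) := by
    haveI := hcl
    rw [Groth.Agent.H17.ker_stalkMap_eq_map (pullback.diagonal f) U.2 ξ hxU, hker, Ideal.map_ofList]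
  have hwreg : RingTheory.Sequence.IsWeaklyRegular ((pullback f f).presheaf.stalk z) (rs.map gm) := by
    letI : Algebra Γ(pullback f f, U.1) ((pullback f f).presheaf.stalk z) := gm.toAlgebra
    haveI : IsLocalization.AtPrime ((pullback f f).presheaf.stalk z) (U.2.primeIdealOf ⟨z, hxU⟩).asIdeal :=
      U.2.isLocalization_stalk ⟨z, hxU⟩
    haveI : Module.Flat Γ(pullback f f, U.1) ((pullback f f).presheaf.stalk z) :=
      IsLocalization.flat _ (U.2.primeIdealOf ⟨z, hxU⟩).asIdeal.primeCompl
    exact hreg.toIsWeaklyRegular.of_flat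
  have hdiag : IntMult.stalkIdeal (pullback.diagonal f).ker z =
      RingHom.ker ((pullback.diagonal f).stalkMap ξ).hom := by
    rw [Groth.Agent.H29Ref.stalkIdeal_eq _ z U hxU, Scheme.Hom.ker_apply, hker, hker', Ideal.map_ofList]
  haveI : Flat ((IW.comap (pullback.snd f f)).subschemeι ≫ pullback.fst f f) := by
    have h : Flat (pullback.fst (pullback.snd f f) IW.subschemeι ≫ pullback.fst f f) := by
      have hp := (IsPullback.of_hasPullback (pullback.snd f f) IW.subschemeι).paste_horiz (IsPullback.of_hasPullback f f)
      exact MorphismProperty.of_isPullback hp.flip (inferInstance : Flat (IW.subschemeι ≫ f))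
    rw [← Scheme.IdealSheafData.comapIso_hom_fst IW (pullback.snd f f), Category.assoc]
    infer_instance
  have hmem : z ∈ (IW.comap (pullback.snd f f)).support := by
    rw [Scheme.IdealSheafData.support_comap]
    show pullback.snd f f (pullback.diagonal f ξ) ∈ IW.support
    rw [← Scheme.Hom.comp_apply, pullback.diagonal_snd]
    exact hξW
  rw [IntMult.mult, IntMult.mult, Groth.Agent.H3CAlg.DiagStalk.ker_map, hdiag,
    Groth.Agent.H3CAlg.DiagStalk.stalkIdeal_sup,
    Groth.Agent.H3CAlg.DiagStalk.stalkIdeal_leg (pullback.diagonal f) (pullback.fst f f) (pullback.diagonal_fst f),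
    Groth.Agent.H3CAlg.DiagStalk.stalkIdeal_leg (pullback.diagonal f) (pullback.snd f f) (pullback.diagonal_snd f)]
  have hflat := Groth.Agent.H3CAlg.DiagStalk.flat_quotient (pullback.diagonal f) (pullback.fst f f)
    (pullback.diagonal_fst f) ξ (IW.comap (pullback.snd f f)) hmem
  rw [Groth.Agent.H3CAlg.DiagStalk.stalkIdeal_leg (pullback.diagonal f) (pullback.snd f f) (pullback.diagonal_snd f)] at hflat
  exact Groth.Agent.H3CAlg.DiagStalk.chi_eq _ _ _
    (congrArg CommRingCat.Hom.hom (Groth.Agent.H3CAlg.DiagStalk.leg_stalkMap (pullback.diagonal f) _ (pullback.diagonal_fst f) ξ))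
    (congrArg CommRingCat.Hom.hom (Groth.Agent.H3CAlg.DiagStalk.leg_stalkMap (pullback.diagonal f) _ (pullback.diagonal_snd f) ξ))
    (rs.map gm) hker'.symm hwreg (Groth.Agent.H3CAlg.DiagStalk.flat_leg _ _ (pullback.diagonal_snd f) ξ) _ _ hflat


end Groth.Agent.S1913
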