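import Groth.Statements.S19130
import Groth.Agent.H1DFun.NormalConst
import Groth.Agent.S0090

set_option autoImplicit false
universe u
open CategoryTheory CategoryTheory.Limits AlgebraicGeometry Opposite
open EtCoh

namespace Groth.Agent.S19130

set_option backward.isDefEq.respectTransparency false
set_option backward.isDefEq.respectTransparency.types false
open scoped Groth.Agent.H18Et

/-- Let p be a prime and Y an integral scheme which is normal (every local ring is integrally closed in
its fraction field) and whose function field is algebraically closed. Then the étale cohomology of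
the constant sheaf Z/p on Y is Z/p in degree 0 and vanishes in positive degrees: H^0(Y_et, Z/p) has
exactly p elements and H^i(Y_et, Z/p) = 0 for i > 0. Moreover, for every nonempty open subscheme j :
U → Y, the unit morphism from the constant sheaf Z/p on Y_et to j_* of its restriction to U is an
isomorphism. -/
theorem result
    (p : ℕ) [Fact p.Prime] (Y : Scheme.{u}) [IsIntegral Y]
    (hnorm : ∀ y : Y, IsIntegrallyClosed (Y.presheaf.stalk y)) [IsAlgClosed Y.functionField] :
    Nat.card (EtCoh.H Y (EtCoh.const Y (ZMod p)) 0) = p ∧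
      (∀ i : ℕ, 0 < i → Subsingleton (EtCoh.H Y (EtCoh.const Y (ZMod p)) i)) ∧
      ∀ U : Y.Opens, (U : Set Y).Nonempty →
        IsIso ((EtCoh.pullPushAdj U.ι).unit.app (EtCoh.const Y (ZMod p))) := by
  classical
  have hX : ∀ y : Y, EtCoh.IsStrictlyHenselianLocalRing (Y.presheaf.stalk y) := Groth.Agent.S0090.result Y hnorm
  let c := Groth.Agent.H18Et.ConstSheaf.unitTop (X := Y) (AddCommGrpCat.of (ULift.{u + 1} (ZMod p)))
  have hc : Groth.Agent.H18Et.ConstSheaf.IsConstant (EtCoh.const Y (ZMod p)) c :=
    Groth.Agent.H18Et.ConstSheaf.isConstant_unitTop (X := Y) (AddCommGrpCat.of (ULift.{u + 1} (ZMod p)))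
  refine ⟨?_, fun i hi => ?_, fun U hU => Groth.Agent.H1DFun.isIso_unit_open_const hX hc U hU⟩
  · haveI : Nonempty (EtCoh.top Y).left := inferInstanceAs (Nonempty Y)
    haveI : PreconnectedSpace (EtCoh.top Y).left := inferInstanceAs (PreconnectedSpace Y)
    rw [Nat.card_congr (Sheaf.H.equiv₀ (EtCoh.const Y (ZMod p)) (EtCore.topIsTerminal Y)).toEquiv,
      ← Nat.card_congr (Equiv.ofBijective _ (Groth.Agent.H1DFun.bijective_rest hc (EtCoh.top Y)))]
    exact (Nat.card_congr Equiv.ulift).trans (Nat.card_zmod p)
  · obtain ⟨n, rfl⟩ := Nat.exists_eq_add_of_le' (show 1 ≤ i from hi)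
    exact Groth.Agent.H1DFun.subsingleton_H_of_zflasque hX _ (Groth.Agent.H1DFun.zflasque_const
      (fun x => ⟨⊤, trivial, PreirreducibleSpace.isPreirreducible_univ (X := Y)⟩) (ZMod p)) n

end Groth.Agent.S19130
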