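import Groth.Statements.S19134
import Groth.Agent.H3CAlg.AlgebraizeLC
import Groth.Agent.S1718
import Groth.Agent.H4Matlis.Duality
import Groth.Agent.H4DR.RG.Amplitude

set_option autoImplicit false
universe u
open CategoryTheory
attribute [local instance] HasDerivedCategory.standard
open Dual

namespace Groth.Agent.S19134Aux

open CategoryTheory.Limits Pretriangulated
open Groth.Agent.H4DR
open Groth.Agent.H4DR.Ext (Ex)

variable {A : Type u} [CommRing A]

theorem finite_mid [IsNoetherianRing A] {X Y Z : Type*} [AddCommGroup X] [Module A X] [AddCommGroup Y]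
    [Module A Y] [AddCommGroup Z] [Module A Z] {f : X →ₗ[A] Y} {g : Y →ₗ[A] Z} (h : Function.Exact f g)
    (hX : Module.Finite A X) (hZ : Module.Finite A Z) : Module.Finite A Y := by
  haveI : IsNoetherian A Y := isNoetherian_of_range_eq_ker f g h.linearMap_ker_eq.symm
  infer_instance

theorem isDerivedComplete_of_finite [IsNoetherianRing A] (I : Ideal A) [IsAdicComplete I A] {K : Dual.D A}
    (hK : ∀ i, Module.Finite A (Dual.HD A K i)) : DRing.IsDerivedComplete I K := by
  rw [DComplete.isDerivedComplete_iff]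
  intro f hf n
  haveI := hK n
  obtain ⟨N, _, _, hN, ⟨e⟩⟩ := LD.exists_small_equiv A (Dual.HD A K n)
  haveI : IsAdicComplete I N := H24Adic.isAdicComplete_of_finite I
  exact (DComplete.bij_of_isAdicComplete I hf).of_equiv e

variable [IsLocalRing A] [IsNoetherianRing A] [IsAdicComplete (IsLocalRing.maximalIdeal A) A]

local notation "𝔪" => IsLocalRing.maximalIdeal A

/-- Cofinite modules. -/
def Cofin (A : Type u) [CommRing A] [IsLocalRing A] (N : Type u) [AddCommGroup N] [Module A N] : Prop :=
  LocCoh.IsPowerTorsion (IsLocalRing.maximalIdeal A) N ∧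
    Module.Finite A ↥(LocCoh.torsionBy (IsLocalRing.maximalIdeal A) N)

omit [IsAdicComplete (IsLocalRing.maximalIdeal A) A] in
theorem cofin_iff_isArtinian (N : Type u) [AddCommGroup N] [Module A N] : Cofin A N ↔ IsArtinian A N := by
  rw [H4Matlis.isArtinian_iff]
  exact and_congr_right fun _ => ⟨fun h => Module.Finite.of_restrictScalars_finite A _ _,
    fun h => Module.Finite.trans (A ⧸ 𝔪) _⟩

omit [IsAdicComplete (IsLocalRing.maximalIdeal A) A] in
theorem cofin_of_equiv {N P : Type u} [AddCommGroup N] [Module A N] [AddCommGroup P] [Module A P] (e : N ≃ₗ[A] P)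
    (h : Cofin A N) : Cofin A P := by
  rw [cofin_iff_isArtinian] at h ⊢
  exact isArtinian_of_linearEquiv e

variable {ω : Dual.D A} (hω : Dual.IsDualizing A ω) (hn : Dual.IsNormalized A ω)
  [DRing.HasRgammaI (IsLocalRing.maximalIdeal A)] [DRing.HasDerivedCompletion (IsLocalRing.maximalIdeal A)]
  {E : Type u} [AddCommGroup E] [Module A E] {f : IsLocalRing.ResidueField A →ₗ[A] E}
  (hf : InjHull.IsInjectiveHull f)
include hω hn hf

omit [IsAdicComplete (IsLocalRing.maximalIdeal A) A] [DRing.HasDerivedCompletion (IsLocalRing.maximalIdeal A)] in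
theorem nonempty_rgamma_omega : Nonempty ((DRing.RgammaI 𝔪).obj ω ≅ Dual.inD A E) := by
  obtain ⟨h0, hne⟩ := Groth.Agent.S1718.result A ω hω hn E f hf
  obtain ⟨τ⟩ := h0
  exact H4LocDual.nonempty_iso_inD (X := (DRing.RgammaI 𝔪).obj ω) (E := E)
    ⟨(RG.nonempty_equiv_HDI _ ω 0).some.trans τ⟩
    fun i hi => ((RG.nonempty_equiv_HDI _ ω i).some.toEquiv.subsingleton_congr).2 (hne i hi)

/-- The completion has finite cohomology in degree `q`. -/
def FinAt (q : ℤ) (K : Dual.D A) : Prop :=
  Module.Finite A (Dual.HD A ((DRing.derivedCompletion 𝔪).obj K).obj q)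

omit [IsLocalRing A] [IsNoetherianRing A] [IsAdicComplete (IsLocalRing.maximalIdeal A) A]
  [DRing.HasRgammaI (IsLocalRing.maximalIdeal A)] hω hn hf in
theorem finAt_iso [IsLocalRing A] [DRing.HasDerivedCompletion 𝔪] {q : ℤ} {K L : Dual.D A} (e : K ≅ L)
    (h : FinAt q K) : FinAt q L :=
  haveI : Module.Finite A (Dual.HD A ((ObjectProperty.ι _).obj ((DRing.derivedCompletion 𝔪).obj K)) q) := h
  Module.Finite.equiv (PCoh.hEquiv q ((ObjectProperty.ι _).mapIso ((DRing.derivedCompletion 𝔪).mapIso e)))

omit [IsAdicComplete (IsLocalRing.maximalIdeal A) A] [DRing.HasRgammaI (IsLocalRing.maximalIdeal A)] hω hn hf in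
theorem finAt_ext {M₁ M₂ M₃ : Type u} [AddCommGroup M₁] [Module A M₁] [AddCommGroup M₂] [Module A M₂]
    [AddCommGroup M₃] [Module A M₃] (i : M₁ →ₗ[A] M₂) (p : M₂ →ₗ[A] M₃) (hi : Function.Injective i)
    (hp : Function.Surjective p) (hip : Function.Exact i p) (q : ℤ) :
    (FinAt q (Dual.inD A M₁) → FinAt q (Dual.inD A M₃) → FinAt q (Dual.inD A M₂)) ∧
      (FinAt q (Dual.inD A M₂) → FinAt (q - 1) (Dual.inD A M₃) → FinAt q (Dual.inD A M₁)) := by
  obtain ⟨δ, hT⟩ := Ext.exists_triangle i p hi hp hip
  obtain ⟨C, Z, a, b, a', b', z, hC, hZ, hz⟩ := DComplete.exists_cone_completion (I := 𝔪)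
    (Ext.inM (L := ModuleCat.of A M₁) (M := ModuleCat.of A M₂) i)
  let eC := Triangle.π₃.mapIso (isoTriangleOfIso₁₂ _ (Triangle.mk _ a b) hT hC (Iso.refl _) (Iso.refl _)
    ((Category.comp_id _).trans (Category.id_comp _).symm))
  obtain ⟨eZ, -⟩ := (DComplete.isCompletion_unit (I := 𝔪) C).exists_iso hz
  have hfz : ∀ j, FinAt j (Dual.inD A M₃) → Module.Finite A (Dual.HD A Z j) := fun j h =>
    haveI : Module.Finite A (Dual.HD A ((DRing.derivedCompletion 𝔪).obj C).obj j) := finAt_iso eC h
    Module.Finite.equiv (PCoh.hEquiv j eZ)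
  refine ⟨fun h1 h3 => ?_, fun h2 h3 => ?_⟩
  · exact finite_mid (PCoh.ex₂ _ hZ q) h1 (hfz q h3)
  · exact finite_mid (PCoh.ex₁ _ hZ (q - 1) q (by omega)) (hfz _ h3) h2

theorem finAt_hull (q : ℤ) : FinAt q (Dual.inD A E) := by
  obtain ⟨eY⟩ := nonempty_rgamma_omega hω hn hf
  obtain ⟨g⟩ := (RG.nonempty_greenlees_may 𝔪 ω).2
  obtain ⟨e, -⟩ := (DComplete.isCompletion_unit (I := 𝔪) ω).exists_iso (η' := 𝟙 ω)
    ⟨isDerivedComplete_of_finite 𝔪 hω.finite_cohomology, fun E' _ => by
      simp only [Category.id_comp]; exact Function.bijective_id⟩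
  haveI := hω.finite_cohomology q
  exact Module.Finite.equiv (PCoh.hEquiv q
    ((ObjectProperty.ι _).mapIso ((DRing.derivedCompletion 𝔪).mapIso eY.symm ≪≫ g) ≪≫ e)).symm

theorem finAt_pi (q : ℤ) : ∀ k : ℕ, FinAt q (Dual.inD A (Fin k → E))
  | 0 => by
    obtain ⟨h1, -⟩ := finAt_ext (0 : PUnit.{u+1} →ₗ[A] (Fin 0 → E)) (0 : (Fin 0 → E) →ₗ[A] PUnit.{u+1})
      (fun a b _ => Subsingleton.elim a b) (fun a => ⟨0, Subsingleton.elim _ _⟩)
      (fun a => ⟨fun _ => ⟨0, Subsingleton.elim _ _⟩, fun _ => Subsingleton.elim _ _⟩) q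
    have h0 : FinAt q (Dual.inD A PUnit.{u+1}) := by
      have hz : IsZero (Dual.inD A PUnit.{u+1}) :=
        (DerivedCategory.singleFunctor (ModuleCat.{u} A) 0).map_isZero
          (ModuleCat.isZero_of_subsingleton (ModuleCat.of A PUnit.{u+1}))
      have : Subsingleton (Dual.HD A ((DRing.derivedCompletion 𝔪).obj (Dual.inD A PUnit.{u+1})).obj q) := by
        obtain ⟨s, hs⟩ := IsNoetherian.noetherian 𝔪
        have hb := DComplete.IsCompletion.bounds s (η := DRing.toDerivedCompletion 𝔪 (Dual.inD A PUnit.{u+1}))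
          (by rw [show Ideal.span (s : Set A) = 𝔪 from hs]; exact DComplete.isCompletion_unit _)
        exact hb.2 (q - 1) (fun j _ => ModuleCat.subsingleton_of_isZero (Functor.map_isZero _ hz)) q (by omega)
      exact Module.Finite.of_finite
    exact h1 h0 h0
  | k + 1 => by
    obtain ⟨h1, -⟩ := finAt_ext (LinearMap.inl A E (Fin k → E)) (LinearMap.snd A E (Fin k → E))
      LinearMap.inl_injective LinearMap.snd_surjective Function.Exact.inl_snd q
    exact finAt_iso ((DerivedCategory.singleFunctor (ModuleCat.{u} A) 0).mapIso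
      (Fin.consLinearEquiv A (fun _ : Fin (k + 1) => E)).toModuleIso)
      (h1 (finAt_hull hω hn hf q) (finAt_pi q k))

theorem finAt_cofin (q : ℤ) : ∀ (N : Type u) [AddCommGroup N] [Module A N], Cofin A N → FinAt q (Dual.inD A N) := by
  obtain ⟨s, hs⟩ := IsNoetherian.noetherian 𝔪
  suffices ∀ (n : ℕ) (q : ℤ), q < -(s.card : ℤ) + n →
      ∀ (N : Type u) [AddCommGroup N] [Module A N], Cofin A N → FinAt q (Dual.inD A N) from
    this (q + s.card + 1).toNat q (by omega)
  intro n
  induction n with
  | zero =>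
    intro q hq N _ _ _
    have hb := DComplete.IsCompletion.bounds s (η := DRing.toDerivedCompletion 𝔪 (Dual.inD A N))
      (by rw [show Ideal.span (s : Set A) = 𝔪 from hs]; exact DComplete.isCompletion_unit _)
    haveI : Subsingleton (Dual.HD A ((DRing.derivedCompletion 𝔪).obj (Dual.inD A N)).obj q) :=
      hb.1 0 (HT.subsingleton_HD_inD_of_neg N) q (by omega)
    exact Module.Finite.of_finite
  | succ n ih =>
    intro q hq N _ _ hN
    haveI : Module.Finite (A ⧸ 𝔪) ↥(LocCoh.torsionBy 𝔪 N) :=
      haveI := hN.2; Module.Finite.of_restrictScalars_finite A _ _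
    obtain ⟨g, hg⟩ := H4Matlis.exists_embedding_pi hf hN.1
      (n := Module.finrank (A ⧸ 𝔪) ↥(LocCoh.torsionBy 𝔪 N)) rfl
    obtain ⟨-, h2⟩ := finAt_ext g (LinearMap.range g).mkQ hg (Submodule.mkQ_surjective _)
      (LinearMap.exact_map_mkQ_range g) q
    haveI : IsArtinian A E := H4Matlis.isArtinian_quotient_hull (m := 𝔪) (f := f) hf
    exact h2 (finAt_pi hω hn hf q _) (ih (q - 1) (by omega) _ ((cofin_iff_isArtinian _).2 inferInstance))

theorem finite_completion {K : Dual.D A} (hb : ∃ a b : ℤ, ∀ i, (i < a ∨ b < i) → Subsingleton (Dual.HD A K i))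
    (hK : ∀ i, Cofin A (Dual.HD A K i)) : ∀ q, FinAt q K := by
  obtain ⟨a, b, hab⟩ := hb
  obtain ⟨s, hs⟩ := IsNoetherian.noetherian 𝔪
  suffices ∀ (n : ℕ) (a : ℤ) (K : Dual.D A), (∀ i, (i < a ∨ a + n ≤ i) → Subsingleton (Dual.HD A K i)) →
      (∀ i, Cofin A (Dual.HD A K i)) → ∀ q, FinAt q K from
    this (b + 1 - a).toNat a K (fun i hi => hab i (by omega)) hK
  intro n
  induction n with
  | zero =>
    intro a K hab _ q
    have hb := DComplete.IsCompletion.bounds s (η := DRing.toDerivedCompletion 𝔪 K)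
      (by rw [show Ideal.span (s : Set A) = 𝔪 from hs]; exact DComplete.isCompletion_unit _)
    haveI : Subsingleton (Dual.HD A ((DRing.derivedCompletion 𝔪).obj K).obj q) :=
      hb.2 (q - 1) (fun j _ => hab j (by omega)) q (by omega)
    exact Module.Finite.of_finite
  | succ n ih =>
    intro a K hab hK q
    obtain ⟨Δ, hΔ, rfl, h1, h3, hb1, hb2⟩ := Ext.exists_trunc K (a + 1)
    obtain ⟨C, Z, u, v, u', v', z, hC, hZ, hz⟩ := DComplete.exists_cone_completion (I := 𝔪) Δ.mor₁
    let eC := Triangle.π₃.mapIso (isoTriangleOfIso₁₂ _ (Triangle.mk _ u v) hΔ hC (Iso.refl _) (Iso.refl _)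
      ((Category.comp_id _).trans (Category.id_comp _).symm))
    obtain ⟨eZ, -⟩ := (DComplete.isCompletion_unit (I := 𝔪) C).exists_iso hz
    have h1' : FinAt q Δ.obj₁ := by
      obtain ⟨e⟩ := Dualizing.nonempty_iso_single a (X := Δ.obj₁) (fun j hj => by
        rcases lt_or_gt_of_ne hj with h | h
        · haveI := hab j (Or.inl h)
          exact (hb1 j (by omega)).1.subsingleton
        · exact h1 j (by omega)) (LinearEquiv.ofBijective (PCoh.hm a Δ.mor₁) (hb1 a (by omega)))
      refine finAt_iso e.symm ?_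
      obtain ⟨eS⟩ := H3CAlg.nonempty_completion_shift 𝔪 (Dual.inD A (Dual.HD A Δ.obj₂ a)) (-a)
      haveI : Module.Finite A (Dual.HD A ((DRing.derivedCompletion 𝔪).obj (Dual.inD A (Dual.HD A Δ.obj₂ a))).obj (q - a)) :=
        finAt_cofin hω hn hf (q - a) _ (hK a)
      exact Module.Finite.equiv ((PCoh.hEquiv q eS).trans (PCoh.hShift _ (-a) q (q - a) (by omega))).symm
    have h3' : FinAt q Δ.obj₃ := by
      refine ih (a + 1) Δ.obj₃ (fun i hi => ?_) (fun i => ?_) q
      · by_cases hia : i < a + 1
        · exact h3 i hia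
        · haveI := hab i (Or.inr (by omega))
          exact (hb2 i (by omega)).2.subsingleton
      · by_cases hia : i < a + 1
        · haveI := h3 i hia
          exact (cofin_iff_isArtinian _).2 inferInstance
        · exact cofin_of_equiv (LinearEquiv.ofBijective _ (hb2 i (by omega))) (hK i)
    haveI : Module.Finite A (Dual.HD A ((DRing.derivedCompletion 𝔪).obj C).obj q) := finAt_iso eC h3'
    exact finite_mid (PCoh.ex₂ _ hZ q) h1' (Module.Finite.equiv (PCoh.hEquiv q eZ))

omit [IsAdicComplete (IsLocalRing.maximalIdeal A) A] [DRing.HasDerivedCompletion (IsLocalRing.maximalIdeal A)] in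
/-- Local cohomology of finite objects is cofinite. -/
theorem cofin_rgamma {K : Dual.D A} (hfin : ∀ i : ℤ, Module.Finite A (Dual.HD A K i)) {a b : ℤ}
    (hb : ∀ i : ℤ, (i < a ∨ b < i) → Subsingleton (Dual.HD A K i)) (i : ℤ) :
    Cofin A (Dual.HD A ((DRing.RgammaI 𝔪).obj K) i) := by
  obtain ⟨e⟩ := RG.nonempty_equiv_HDI 𝔪 K i
  obtain ⟨eD⟩ := LD.nonempty_duality hω hn hf hfin hb i (-i) (neg_add_cancel i)
  obtain ⟨j₀, j₁, hex, -⟩ := HT.exists_range hω hb hfin
  haveI := hex (-i)
  obtain ⟨F, _, _, hF, ⟨eF⟩⟩ := LD.exists_small_equiv A (Ex K ω (-i))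
  refine cofin_of_equiv ((e.trans eD).trans (LinearEquiv.congrLeft E A eF.symm)).symm ?_
  obtain ⟨k, π, hπ⟩ := Module.Finite.exists_fin' A F
  haveI : IsArtinian A E := H4Matlis.isArtinian_quotient_hull (m := 𝔪) (f := f) hf
  let L : (F →ₗ[A] E) →ₗ[A] (Fin k → E) :=
    LinearMap.pi fun j => LinearMap.applyₗ (π (Pi.single j 1))
  refine (cofin_iff_isArtinian _).2 (isArtinian_of_injective L fun u v h => ?_)
  refine (LinearMap.cancel_right hπ).1 (LinearMap.pi_ext' fun j => LinearMap.ext_ring ?_)
  exact congrFun h j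

end Groth.Agent.S19134Aux

namespace Groth.Agent.S19134

/-- Let A be a Noetherian local ring with maximal ideal m which is m-adically complete, and ω a
normalized dualizing complex over A (Hom(k, ω[i]) = 0 in D(A) for i ≠ 0); assume the total right
derived functor RΓ_m of the m-power-torsion functor and the derived m-adic completion functor (left
adjoint to the inclusion of derived complete objects, with unit K → K^) exist on D(A). Call an
A-module N cofinite when every element of N is killed by a power of m and the socle of N (the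
elements killed by m) is finitely generated. Then RΓ_m and derived completion are mutually inverse
equivalences between the bounded complexes with finitely generated cohomology modules and the
bounded complexes with cofinite cohomology modules, the comparison maps being the canonical ones:
(a) for M bounded with finitely generated cohomology, RΓ_m M is bounded, every H^i(RΓ_m M) is
cofinite, the derived completion of the canonical map RΓ_m M → M is an isomorphism, and the unit M →
M^ is an isomorphism; (b) for K bounded with cofinite cohomology modules, the derived completion K^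
is bounded with finitely generated cohomology, RΓ_m applied to the unit K → K^ is an isomorphism,
and the canonical map RΓ_m K → K is an isomorphism; (c) for a cofinite module N, the derived
completion of N placed in degree 0 is perverse coherent: Hom(N[0]^, ω[i]) = 0 for every i ≠ 0. (The
published proposition also asserts that these equivalences exchange the perverse t-structure,
defined by RHom(−, ω), with the standard one; that exactness is not part of this statement.) -/
theorem result
    (A : Type u) [CommRing A] [IsLocalRing A] [IsNoetherianRing A]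
    [IsAdicComplete (IsLocalRing.maximalIdeal A) A]
    (ω : Dual.D A) (hω : Dual.IsDualizing A ω) (hn : Dual.IsNormalized A ω)
    [DRing.HasRgammaI (IsLocalRing.maximalIdeal A)] [DRing.HasDerivedCompletion (IsLocalRing.maximalIdeal A)] :
    (∀ M : Dual.D A, (∀ i : ℤ, Module.Finite A (Dual.HD A M i)) →
      (∃ a b : ℤ, ∀ i : ℤ, (i < a ∨ b < i) → Subsingleton (Dual.HD A M i)) →
        (∃ a b : ℤ, ∀ i : ℤ, (i < a ∨ b < i) →
          Subsingleton (Dual.HD A ((DRing.RgammaI (IsLocalRing.maximalIdeal A)).obj M) i)) ∧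
        (∀ i : ℤ, LocCoh.IsPowerTorsion (IsLocalRing.maximalIdeal A)
            (Dual.HD A ((DRing.RgammaI (IsLocalRing.maximalIdeal A)).obj M) i) ∧
          Module.Finite A ↥(LocCoh.torsionBy (IsLocalRing.maximalIdeal A)
            (Dual.HD A ((DRing.RgammaI (IsLocalRing.maximalIdeal A)).obj M) i))) ∧
        IsIso ((DRing.derivedCompletion (IsLocalRing.maximalIdeal A)).map
          ((DRing.RgammaIε (IsLocalRing.maximalIdeal A)).app M)) ∧
        IsIso (DRing.toDerivedCompletion (IsLocalRing.maximalIdeal A) M)) ∧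
    (∀ K : Dual.D A, (∃ a b : ℤ, ∀ i : ℤ, (i < a ∨ b < i) → Subsingleton (Dual.HD A K i)) →
      (∀ i : ℤ, LocCoh.IsPowerTorsion (IsLocalRing.maximalIdeal A) (Dual.HD A K i) ∧
        Module.Finite A ↥(LocCoh.torsionBy (IsLocalRing.maximalIdeal A) (Dual.HD A K i))) →
        (∀ i : ℤ, Module.Finite A
          (Dual.HD A ((DRing.derivedCompletion (IsLocalRing.maximalIdeal A)).obj K).obj i)) ∧
        (∃ a b : ℤ, ∀ i : ℤ, (i < a ∨ b < i) → Subsingleton
          (Dual.HD A ((DRing.derivedCompletion (IsLocalRing.maximalIdeal A)).obj K).obj i)) ∧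
        IsIso ((DRing.RgammaI (IsLocalRing.maximalIdeal A)).map
          (DRing.toDerivedCompletion (IsLocalRing.maximalIdeal A) K)) ∧
        IsIso ((DRing.RgammaIε (IsLocalRing.maximalIdeal A)).app K)) ∧
    (∀ (N : Type u) [AddCommGroup N] [Module A N],
      LocCoh.IsPowerTorsion (IsLocalRing.maximalIdeal A) N →
      Module.Finite A ↥(LocCoh.torsionBy (IsLocalRing.maximalIdeal A) N) →
        ∀ i : ℤ, i ≠ 0 → Subsingleton
          (((DRing.derivedCompletion (IsLocalRing.maximalIdeal A)).obj (Dual.inD A N)).obj ⟶ ω⟦i⟧)) := by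
  obtain ⟨E, _, _, f, hf⟩ := Groth.Agent.H4Inj.exists_isInjectiveHull (R := A) (IsLocalRing.ResidueField A)
  obtain ⟨sg, hsg⟩ := IsNoetherian.noetherian (IsLocalRing.maximalIdeal A)
  refine ⟨fun M hfin hbd => ?_, fun K hbd hK => ?_, fun N _ _ hN hN' i hi => ?_⟩
  · obtain ⟨a, b, hb⟩ := hbd
    obtain ⟨r, hr⟩ := Groth.Agent.H4DR.RG.exists_subsingleton_HDI (IsLocalRing.maximalIdeal A)
    refine ⟨⟨a, b + r, fun i hi => ?_⟩, fun i => Groth.Agent.S19134Aux.cofin_rgamma hω hn hf hfin hb i, ?_, ?_⟩
    · obtain ⟨e⟩ := Groth.Agent.H4DR.RG.nonempty_equiv_HDI (IsLocalRing.maximalIdeal A) M i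
      refine e.toEquiv.subsingleton_congr.2 ?_
      rcases hi with hi | hi
      · exact Groth.Agent.H4DR.LD.subsingleton_H _ fun n =>
          Groth.Agent.H4DR.Ext.subsingleton_ex_low (a := a) (fun j hj => hb j (Or.inl hj)) _ i hi
      · exact hr M b (fun j hj => hb j (Or.inr hj)) i hi
    · let η := DRing.toDerivedCompletion (IsLocalRing.maximalIdeal A) M
      let ε := (DRing.RgammaIε (IsLocalRing.maximalIdeal A)).app M
      have h1 := Groth.Agent.H4DR.DComplete.isCompletion_unit (I := IsLocalRing.maximalIdeal A) M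
      have h2 : Groth.Agent.H4DR.DComplete.IsCompletion (IsLocalRing.maximalIdeal A) (ε ≫ η) :=
        ⟨h1.complete, fun E' hE => by
          refine Eq.mp (congrArg Function.Bijective (funext fun y => ?_))
            ((Groth.Agent.H4DR.RG.bijective_precomp_ε _ M hE).comp (h1.bij E' hE))
          exact (Category.assoc _ _ _).symm⟩
      have hu := Groth.Agent.H4DR.DComplete.isCompletion_unit (I := IsLocalRing.maximalIdeal A)
        ((DRing.RgammaI (IsLocalRing.maximalIdeal A)).obj M)
      obtain ⟨e, he⟩ := hu.exists_iso h2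
      have hn' := (DRing.derivedCompletionAdj (IsLocalRing.maximalIdeal A)).unit.naturality ε
      suffices IsIso ((ObjectProperty.ι _).map ((DRing.derivedCompletion (IsLocalRing.maximalIdeal A)).map ε)) from
        isIso_of_fully_faithful (ObjectProperty.ι (DRing.IsDerivedComplete (IsLocalRing.maximalIdeal A))) _
      rw [show (ObjectProperty.ι _).map ((DRing.derivedCompletion (IsLocalRing.maximalIdeal A)).map ε) = e.hom from
        (hu.bij _ h1.complete).1 (hn'.symm.trans he.symm)]
      infer_instance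
    · obtain ⟨e, he⟩ := (Groth.Agent.H4DR.DComplete.isCompletion_unit (I := IsLocalRing.maximalIdeal A) M).exists_iso
        (η' := 𝟙 M) ⟨Groth.Agent.S19134Aux.isDerivedComplete_of_finite _ hfin, fun E' _ => by
          simp only [Category.id_comp]; exact Function.bijective_id⟩
      rw [show DRing.toDerivedCompletion (IsLocalRing.maximalIdeal A) M = e.inv from by
        rw [← cancel_mono e.hom, he, e.inv_hom_id]]
      infer_instance
  · refine ⟨Groth.Agent.S19134Aux.finite_completion hω hn hf hbd hK, ?_, ?_, ?_⟩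
    · obtain ⟨a, b, hb⟩ := hbd
      have h := Groth.Agent.H4DR.DComplete.IsCompletion.bounds sg
        (η := DRing.toDerivedCompletion (IsLocalRing.maximalIdeal A) K)
        (by rw [show Ideal.span (sg : Set A) = IsLocalRing.maximalIdeal A from hsg]
            exact Groth.Agent.H4DR.DComplete.isCompletion_unit _)
      refine ⟨a - sg.card, b, fun i hi => ?_⟩
      rcases hi with hi | hi
      · exact h.1 a (fun j hj => hb j (Or.inl hj)) i hi
      · exact h.2 b (fun j hj => hb j (Or.inr hj)) i hi
    · exact Groth.Agent.H4DR.RG.isIso_rgamma_map_completion _ (Groth.Agent.H4DR.DComplete.isCompletion_unit K)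
    · exact Groth.Agent.H4DR.RG.isIso_ε _ K fun j => (hK j).1
  · obtain ⟨eY⟩ := Groth.Agent.S19134Aux.nonempty_rgamma_omega hω hn hf
    haveI := hf.isInjective
    have hT : Groth.Agent.H4DR.RG.IsTors (IsLocalRing.maximalIdeal A) (Dual.inD A N) :=
      Groth.Agent.H4DR.LD.isTors_inD N hN
    have hωc := Groth.Agent.S19134Aux.isDerivedComplete_of_finite (IsLocalRing.maximalIdeal A) hω.finite_cohomology
    have hsub : Subsingleton (Dual.inD A N ⟶ (Dual.inD A E)⟦i⟧) := by
      haveI := Module.injective_object_of_injective_module A E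
      haveI := Groth.Agent.H3CAlg.isKInjective_sgl0 E hf.isInjective
      exact Groth.Agent.H4DR.Ext.subsingleton_inD_of_injAmp (a := 0) (b := 0)
        ⟨Groth.Agent.H4DR.RHom.sgl0 (ModuleCat.of A E), fun j hj =>
            HomologicalComplex.isZero_single_obj_X (ComplexShape.up ℤ) 0 _ j (by omega),
          fun j => Groth.Agent.H3CAlg.injective_sgl0_X E hf.isInjective j,
          ⟨((DerivedCategory.singleFunctorIsoCompQ (ModuleCat.{u} A) 0).app (ModuleCat.of A E)).symm⟩⟩
        N (by omega)
    have hv : ∀ T : Dual.D A, Groth.Agent.H4DR.RG.IsTors (IsLocalRing.maximalIdeal A) T →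
        Function.Bijective (fun y : T ⟶ (DRing.RgammaI (IsLocalRing.maximalIdeal A)).obj ω =>
          y ≫ (DRing.RgammaIε (IsLocalRing.maximalIdeal A)).app ω) :=
      fun T hT => Groth.Agent.H4DR.RG.bijective_postcomp_ε hT ω
    have h1 := Groth.Agent.H4LocDual.bijective_postcomp_shift _ hv i _ hT
    haveI : Subsingleton (Dual.inD A N ⟶ ((DRing.RgammaI (IsLocalRing.maximalIdeal A)).obj ω)⟦i⟧) :=
      (Groth.Agent.H4DR.Ext.postIso _ ((shiftFunctor (Dual.D A) i).mapIso eY)).injective.subsingleton
    haveI : Subsingleton (Dual.inD A N ⟶ ω⟦i⟧) := h1.2.subsingleton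
    exact ((Groth.Agent.H4DR.DComplete.isCompletion_unit (I := IsLocalRing.maximalIdeal A) (Dual.inD A N)).bij _
      (Groth.Agent.H4DR.DComplete.isDerivedComplete_shift hωc i)).1.subsingleton

end Groth.Agent.S19134
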