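import Groth.Statements.S19138
import Mathlib.Analysis.Calculus.Deriv.Mul
import Mathlib.Analysis.Calculus.Deriv.Add
import Mathlib.LinearAlgebra.Basis.VectorSpace
import Mathlib.Analysis.Convex.StdSimplex
import Mathlib.Analysis.Calculus.LocalExtr.Basic
import Mathlib.Analysis.Calculus.Deriv.Pow
import Mathlib.Topology.Algebra.Order.Archimedean
import Mathlib.Algebra.Algebra.Rat
import Mathlib.Tactic.LinearCombination


set_option autoImplicit false
open Instab

namespace Groth.Agent.S19138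

/-- real solutions of rational linear equations are approximated by rational ones -/
lemma exists_rat_near {ι ρ : Type} [Fintype ι] (M : ρ → ι → ℚ) (x : ι → ℝ)
    (hx : ∀ j, ∑ i, (M j i : ℝ) * x i = 0) (ε : ℝ) (hε : 0 < ε) :
    ∃ q : ι → ℚ, (∀ j, ∑ i, M j i * q i = 0) ∧ (∀ i, x i = 0 → q i = 0) ∧
      ∀ i, |(q i : ℝ) - x i| < ε := by
  classical
  set b := Module.Basis.ofVectorSpace ℚ ℝ
  set K := Finset.univ.biUnion (fun i => (b.repr (x i)).support) with hK
  have hexp : ∀ i, x i = ∑ k ∈ K, (b.repr (x i) k : ℝ) * b k := fun i => by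
    conv_lhs => rw [← b.linearCombination_repr (x i)]
    rw [Finsupp.linearCombination_apply, Finsupp.sum]
    refine (Finset.sum_congr rfl (fun k _ => Rat.smul_def _ _)).trans
      (Finset.sum_subset (fun k hk => Finset.mem_biUnion.mpr ⟨i, Finset.mem_univ _, hk⟩)
        (fun k _ hk => by simp [Finsupp.notMem_support_iff.mp hk]))
  have hq : ∀ j k, ∑ i, M j i * b.repr (x i) k = 0 := fun j k => by
    have h0 : ∑ i, M j i • x i = 0 := by simpa [Rat.smul_def] using hx j
    have := congrArg (fun z => b.repr z k) h0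
    simpa [map_sum, Finsupp.finsetSum_apply] using this
  let f : (K → ℝ) → (ι → ℝ) := fun r i => ∑ k : K, (b.repr (x i) k : ℝ) * r k
  have hf : Continuous f := by
    refine continuous_pi fun i => continuous_finsetSum _ fun k _ => ?_
    exact continuous_const.mul (continuous_apply k)
  have hopen : IsOpen (f ⁻¹' {y | ∀ i, |y i - x i| < ε}) := by
    refine hf.isOpen_preimage _ ?_
    simp only [Set.ofPred_forall]
    exact isOpen_iInter_of_finite fun i => isOpen_lt (by fun_prop) continuous_const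
  obtain ⟨r, hr⟩ := (DenseRange.piMap fun _ : K => Rat.denseRange_cast (𝕜 := ℝ)).exists_mem_open hopen
    ⟨fun k => b k, fun i => by
      have : f (fun k => b k) i = x i := by
        simp only [f]
        exact (Finset.sum_coe_sort K (fun k => (b.repr (x i) k : ℝ) * b k)).trans (hexp i).symm
      simp only [this, sub_self, abs_zero, hε]⟩
  refine ⟨fun i => ∑ k : K, b.repr (x i) k * r k, fun j => ?_, fun i hi => ?_, fun i => ?_⟩
  · simp only [Finset.mul_sum]
    rw [Finset.sum_comm]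
    refine Finset.sum_eq_zero fun k _ => ?_
    simp only [← mul_assoc, ← Finset.sum_mul, hq, zero_mul]
  · simp [hi]
  · push_cast
    exact hr i


open Matrix in
/-- Let ℓ ∈ ℚⁿ and let B be a rational n × n matrix whose real quadratic form q(y) = y · (B y) is
non-negative on ℝⁿ and positive at every non-zero point of the non-negative orthant. If ℓ · y > 0 at
some point of the orthant, then the function ℓ · y / √q(y) on the non-zero points of the orthant
attains its maximum at a point with rational coordinates. (The published lemma says that the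
numerical invariant attached to a rational degree-two class and such a norm on graded points attains
its maximum on each rational simplex at a rational point whenever it is positive somewhere on that
simplex; on one rational simplex that invariant is this function, so this is what is asked there.
The case of a piecewise rational linear norm is not stated here.) -/
theorem result (n : ℕ) (ℓ : Fin n → ℚ)
    (B : Matrix (Fin n) (Fin n) ℚ)
    (hnn : ∀ y : Fin n → ℝ, 0 ≤ y ⬝ᵥ (B.map (fun r : ℚ => (r : ℝ))) *ᵥ y)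
    (hpos : ∀ y : Fin n → ℝ, (∀ i, 0 ≤ y i) → y ≠ 0 → 0 < y ⬝ᵥ (B.map (fun r : ℚ => (r : ℝ))) *ᵥ y)
    (hℓ : ∃ y : Fin n → ℝ, (∀ i, 0 ≤ y i) ∧ 0 < (fun i => (ℓ i : ℝ)) ⬝ᵥ y) :
    ∃ x : Fin n → ℚ, (∀ i, 0 ≤ x i) ∧ x ≠ 0 ∧
      ∀ y : Fin n → ℝ, (∀ i, 0 ≤ y i) → y ≠ 0 →
        (fun i => (ℓ i : ℝ)) ⬝ᵥ y / Real.sqrt (y ⬝ᵥ (B.map (fun r : ℚ => (r : ℝ))) *ᵥ y) ≤
          (fun i => (ℓ i : ℝ)) ⬝ᵥ (fun i => (x i : ℝ)) /
            Real.sqrt ((fun i => (x i : ℝ)) ⬝ᵥ (B.map (fun r : ℚ => (r : ℝ))) *ᵥ (fun i => (x i : ℝ))) := by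
  classical
  let L : (Fin n → ℝ) → ℝ := fun y => (fun i => (ℓ i : ℝ)) ⬝ᵥ y
  let Q : (Fin n → ℝ) → ℝ := fun y => y ⬝ᵥ (B.map (fun r : ℚ => (r : ℝ))) *ᵥ y
  let g : (Fin n → ℝ) → ℝ := fun y => L y / Real.sqrt (Q y)
  have hgs : ∀ (c : ℝ) (y : Fin n → ℝ), 0 < c → g (c • y) = g y := fun c y hc => by
    simp only [g, L, Q, dotProduct_smul, mulVec_smul, smul_dotProduct, smul_eq_mul]
    rw [← mul_assoc, Real.sqrt_mul (mul_self_nonneg c), Real.sqrt_mul_self hc.le,
      mul_div_mul_left _ _ hc.ne']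
  have hnorm : ∀ y : Fin n → ℝ, (∀ i, 0 ≤ y i) → y ≠ 0 → 0 < ∑ i, y i := fun y h0 hne => by
    obtain ⟨i, hi⟩ : ∃ i, y i ≠ 0 := by by_contra! h; exact hne (funext h)
    exact Finset.sum_pos' (fun i _ => h0 i) ⟨i, Finset.mem_univ _, (h0 i).lt_of_ne (Ne.symm hi)⟩
  have hne_of_mem : ∀ y ∈ stdSimplex ℝ (Fin n), y ≠ 0 := fun y hy h => by
    have := hy.2; simp [h] at this
  have hLc : Continuous L := by simp only [L, dotProduct]; fun_prop
  have hQc : Continuous Q := by simp only [Q, dotProduct, mulVec]; fun_prop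
  obtain ⟨y₀, hy₀, hly₀⟩ := hℓ
  have hy₀ne : y₀ ≠ 0 := fun h => by simp [h] at hly₀
  have hs₀ := hnorm y₀ hy₀ hy₀ne
  have hmem : ∀ y : Fin n → ℝ, (∀ i, 0 ≤ y i) → y ≠ 0 → (∑ i, y i)⁻¹ • y ∈ stdSimplex ℝ (Fin n) :=
    fun y h0 hne => ⟨fun i => mul_nonneg (inv_nonneg.mpr (hnorm y h0 hne).le) (h0 i), by
      simp [← Finset.mul_sum, (hnorm y h0 hne).ne']⟩
  obtain ⟨y, hy, hmax⟩ := (isCompact_stdSimplex ℝ (Fin n)).exists_isMaxOn
    ⟨_, hmem y₀ hy₀ hy₀ne⟩ (f := g)
    (hLc.continuousOn.div (Real.continuous_sqrt.comp hQc).continuousOn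
      fun y hy => (Real.sqrt_pos.mpr (hpos y hy.1 (hne_of_mem y hy))).ne')
  have hglob : ∀ z : Fin n → ℝ, (∀ i, 0 ≤ z i) → z ≠ 0 → g z ≤ g y := fun z h0 hne =>
    (hgs _ z (inv_pos.mpr (hnorm z h0 hne))) ▸ hmax (hmem z h0 hne)
  have hq : 0 < Q y := hpos y hy.1 (hne_of_mem y hy)
  have ha : 0 < L y := by
    have h := lt_of_lt_of_le (div_pos hly₀ (Real.sqrt_pos.mpr (hpos y₀ hy₀ hy₀ne))) (hglob y₀ hy₀ hy₀ne)
    exact (div_pos_iff_of_pos_right (Real.sqrt_pos.mpr hq)).mp h
  let BR := B.map (fun r : ℚ => (r : ℝ))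
  -- first order condition on the support
  have key : ∀ i, y i ≠ 0 → (BR *ᵥ y) i + (y ᵥ* BR) i = 2 * Q y / L y * ℓ i := fun i hi => by
    let d : Fin n → ℝ := Pi.single i 1
    let e := d ⬝ᵥ BR *ᵥ y + y ⬝ᵥ BR *ᵥ d
    have hLt : ∀ t : ℝ, L (y + t • d) = L y + t * ℓ i := fun t => by
      simp [L, dotProduct_add, d]
    have hQt : ∀ t : ℝ, Q (y + t • d) = Q y + t * e + t ^ 2 * Q d := fun t => by
      simp only [Q, e, BR, mulVec_add, mulVec_smul, add_dotProduct, dotProduct_add, smul_dotProduct,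
        dotProduct_smul, smul_eq_mul]
      ring
    have hyi : 0 < y i := (hy.1 i).lt_of_ne (Ne.symm hi)
    have hev : ∀ᶠ t in nhds (0 : ℝ),
        (L y + t * ℓ i) ^ 2 * Q y ≤ L y ^ 2 * (Q y + t * e + t ^ 2 * Q d) := by
      have h1 : ∀ᶠ t in nhds (0 : ℝ), 0 < L y + t * ℓ i :=
        (isOpen_lt continuous_const (by fun_prop)).mem_nhds (by simpa using ha)
      have h2 : ∀ᶠ t in nhds (0 : ℝ), 0 < y i + t :=
        (isOpen_lt continuous_const (by fun_prop)).mem_nhds (by simpa using hyi)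
      filter_upwards [h1, h2] with t ht1 ht2
      have h0 : ∀ j, 0 ≤ (y + t • d) j := fun j => by
        by_cases hj : j = i
        · subst hj; simp [d, ht2.le]
        · simp [d, Pi.single_apply, hj, hy.1 j]
      have hne : y + t • d ≠ 0 := fun h => by
        have := congrFun h i; simp [d] at this; linarith
      have h := hglob _ h0 hne
      simp only [g] at h
      have hq' : 0 < Q (y + t • d) := hpos _ h0 hne
      rw [hLt] at h
      have h' := (div_le_div_iff₀ (Real.sqrt_pos.mpr hq') (Real.sqrt_pos.mpr hq)).mp h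
      have h'' := mul_self_le_mul_self (by positivity) h'
      rw [mul_mul_mul_comm, Real.mul_self_sqrt hq.le, mul_mul_mul_comm, Real.mul_self_sqrt hq'.le,
        hQt] at h''
      linarith [h'', pow_two (L y + t * ℓ i), pow_two (L y)]
    have hlm : IsLocalMax (fun t : ℝ => (L y + t * ℓ i) ^ 2 * Q y -
        L y ^ 2 * (Q y + t * e + t ^ 2 * Q d)) 0 := by
      filter_upwards [hev] with t ht
      simp only [zero_mul, add_zero, ne_eq, OfNat.ofNat_ne_zero, not_false_eq_true, zero_pow]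
      linarith
    have hder : HasDerivAt (fun t : ℝ => (L y + t * ℓ i) ^ 2 * Q y -
        L y ^ 2 * (Q y + t * e + t ^ 2 * Q d)) (2 * L y * ℓ i * Q y - L y ^ 2 * e) 0 := by
      have hid := hasDerivAt_id' (0 : ℝ)
      have := ((((hid.mul_const (ℓ i : ℝ)).const_add (L y)).pow 2).mul_const (Q y)).sub
        (((((hid.mul_const e).const_add (Q y))).add ((hid.pow 2).mul_const (Q d))).const_mul (L y ^ 2))
      refine this.congr_deriv ?_
      simp
    have h0 := hlm.hasDerivAt_eq_zero hder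
    have he : e = (BR *ᵥ y) i + (y ᵥ* BR) i := by
      simp only [e, d, BR, dotProduct_mulVec, dotProduct_single, single_dotProduct, mul_one]
      rw [← dotProduct_mulVec, single_dotProduct, one_mul]
    rw [← he]
    field_simp
    nlinarith
  -- rational solution of the resulting linear system
  let M : {i // y i ≠ 0} → Option (Fin n) → ℚ := fun i j =>
    match j with
    | none => -ℓ i.1
    | some j => B i.1 j + B j i.1
  let μ : ℝ := 2 * Q y / L y
  have hμ : 0 < μ := by positivity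
  let z : Option (Fin n) → ℝ := fun j => j.elim μ y
  have hsys : ∀ (w : Fin n → ℝ) (ν : ℝ) (i : {i // y i ≠ 0}),
      ∑ j, (M i j : ℝ) * (j.elim ν w) = (BR *ᵥ w) i.1 + (w ᵥ* BR) i.1 - ν * ℓ i.1 := fun w ν i => by
    rw [Fintype.sum_option]
    simp only [M, Option.elim_none, Option.elim_some, BR, mulVec, vecMul, dotProduct, Matrix.map_apply]
    push_cast
    simp only [add_mul, Finset.sum_add_distrib]
    rw [Finset.sum_congr rfl fun j _ => mul_comm (B j i.1 : ℝ) (w j)]
    ring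
  obtain ⟨ε, hε, hεy⟩ : ∃ ε : ℝ, 0 < ε ∧ ∀ j, z j ≠ 0 → ε ≤ z j := by
    obtain ⟨j, hj, hmin⟩ := Finset.exists_min_image (Finset.univ.filter fun j => z j ≠ 0) z
      ⟨none, by simpa [z] using hμ.ne'⟩
    simp only [Finset.mem_filter, Finset.mem_univ, true_and] at hj hmin
    refine ⟨z j, ?_, hmin⟩
    rcases j with _ | j
    · exact hμ
    · exact (hy.1 j).lt_of_ne (Ne.symm hj)
  obtain ⟨q, hqM, hq0, hqε⟩ := exists_rat_near M z
    (fun i => by rw [hsys, key i.1 i.2, sub_self]) ε hε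
  have hqpos : ∀ j, z j ≠ 0 → (0 : ℝ) < q j := fun j hj => by
    linarith [(abs_lt.mp (hqε j)).1, hεy j hj]
  let x : Fin n → ℚ := fun i => q (some i)
  let ν : ℝ := q none
  let w : Fin n → ℝ := fun i => (x i : ℝ)
  have hν : 0 < ν := hqpos none hμ.ne'
  have hw0 : ∀ i, y i = 0 → w i = 0 := fun i hi => by simp [w, x, hq0 (some i) hi]
  have hwpos : ∀ i, y i ≠ 0 → 0 < w i := fun i hi => hqpos (some i) hi
  have hwn : ∀ i, 0 ≤ w i := fun i => by
    by_cases hi : y i = 0
    · rw [hw0 i hi]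
    · exact (hwpos i hi).le
  have hwne : w ≠ 0 := fun h => by
    obtain ⟨i, hi⟩ : ∃ i, y i ≠ 0 := by by_contra! h'; exact hne_of_mem y hy (funext h')
    exact (hwpos i hi).ne' (congrFun h i)
  have hweq : ∀ i, y i ≠ 0 → (BR *ᵥ w) i + (w ᵥ* BR) i = ν * ℓ i := fun i hi => by
    have h : ((∑ j, M ⟨i, hi⟩ j * q j : ℚ) : ℝ) = 0 := by rw [hqM]; simp
    push_cast at h
    have h2 := hsys w ν ⟨i, hi⟩
    rw [show (∑ j, (M ⟨i, hi⟩ j : ℝ) * (j.elim ν w)) = 0 from
      (Finset.sum_congr rfl fun j _ => by rcases j with _ | j <;> rfl).trans h] at h2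
    linarith
  have hpair : ∀ (u v : Fin n → ℝ) (c : ℝ), (∀ i, y i = 0 → u i = 0) →
      (∀ i, y i ≠ 0 → (BR *ᵥ v) i + (v ᵥ* BR) i = c * ℓ i) →
      u ⬝ᵥ BR *ᵥ v + v ⬝ᵥ BR *ᵥ u = c * L u := fun u v c hu hv => by
    have : u ⬝ᵥ BR *ᵥ v + v ⬝ᵥ BR *ᵥ u = ∑ i, u i * ((BR *ᵥ v) i + (v ᵥ* BR) i) := by
      rw [dotProduct_mulVec v BR u, dotProduct_comm (v ᵥ* BR) u, ← dotProduct_add]
      rfl
    rw [this]
    simp only [L, dotProduct, Finset.mul_sum]
    refine Finset.sum_congr rfl fun i _ => ?_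
    by_cases hi : y i = 0
    · simp [hu i hi]
    · rw [hv i hi]; ring
  refine ⟨x, fun i => (Rat.cast_nonneg (K := ℝ)).mp (hwn i), fun h => hwne (funext fun i => by simp [w, h]),
    fun u hu hune => ?_⟩
  refine (hglob u hu hune).trans (le_of_eq ?_)
  change g y = g w
  have hQw : 0 < Q w := hpos w hwn hwne
  have e1 : 2 * Q w = ν * L w := (two_mul _).trans (hpair w w ν hw0 hweq)
  have e2 : ν * L y = μ * L w :=
    (hpair y w ν (fun i hi => hi) hweq).symm.trans ((add_comm _ _).trans (hpair w y μ hw0 key))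
  simp only [g]
  have hLw : 0 < L w := by nlinarith
  rw [div_eq_div_iff (Real.sqrt_pos.mpr hq).ne' (Real.sqrt_pos.mpr hQw).ne']
  refine (pow_left_inj₀ (by positivity) (by positivity) two_ne_zero).mp ?_
  rw [mul_pow, mul_pow, Real.sq_sqrt hQw.le, Real.sq_sqrt hq.le]
  have hμeq : μ * L y = 2 * Q y := by simp only [μ]; field_simp
  refine mul_left_cancel₀ (show (2:ℝ) ≠ 0 by norm_num) ?_
  linear_combination (L y) ^ 2 * e1 + (L w) ^ 2 * hμeq + L w * L y * e2

end Groth.Agent.S19138
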