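import Groth.Statements.S1914
import Groth.Agent.H3CAlg.TorKoszul
import Groth.Agent.H22Alg.FiniteLength

set_option autoImplicit false
universe u
open CategoryTheory
attribute [local instance] HasDerivedCategory.standard
open IntMult

namespace Groth.Agent.S1914

/-- Let A be a Noetherian local ring, I = (g₁, …, g_c) an ideal generated by a regular sequence and M a
finite A-module with Supp(M/IM) of dimension ≤ 0. Then c! · length_A(M/I^t M)/t^c tends, as t → ∞,
to Σ_i (−1)^i length_A Tor_i^A(A/I, M); that is, e_I(M, c) equals this alternating sum. -/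
theorem result (A : Type u) [CommRing A] [IsNoetherianRing A] [IsLocalRing A] (c : ℕ) (g : Fin c → A) (hreg : RingTheory.Sequence.IsRegular A (List.ofFn g)) (M : Type u) [AddCommGroup M] [Module A M] [Module.Finite A M] (h0 : Module.supportDim A (M ⧸ (Ideal.span (Set.range g) • (⊤ : Submodule A M))) ≤ 0) : Filter.Tendsto (fun t : ℕ => (c.factorial : ℝ) * ((Module.length A (M ⧸ (Ideal.span (Set.range g) ^ t • (⊤ : Submodule A M)))).toNat : ℝ) / (t : ℝ) ^ c) Filter.atTop (nhds (IntMult.chi A (A ⧸ Ideal.span (Set.range g)) M : ℝ)) := by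
  have hspan : Ideal.ofList (List.ofFn g) = Ideal.span (Set.range g) := Groth.Agent.H1Koszul.span_ofFn g
  have hK : LCI.IsKoszulRegularSeq A (List.ofFn g) := Groth.Agent.S15821.result A _ hreg.toIsWeaklyRegular |>.1
  have hfl : IsFiniteLength A (M ⧸ (Ideal.span (Set.range g) • (⊤ : Submodule A M))) :=
    Module.length_ne_top_iff.1 (Groth.Agent.H22Alg.length_ne_top_of_supportDim_le_zero h0)
  have h := Groth.Agent.H1Koszul.tendsto_samuel (Groth.Agent.H1Koszul.small_ofFn g hfl)
  rw [Groth.Agent.H1Koszul.span_ofFn] at h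
  rw [← hspan] at h ⊢
  rw [Groth.Agent.H3CAlg.TorKoszul.chi_eq_chi _ hK]
  rw [List.length_ofFn] at h
  have h2 := h.const_mul (c.factorial : ℝ)
  rw [mul_div_cancel₀ _ (Nat.cast_ne_zero.2 c.factorial_ne_zero)] at h2
  exact h2.congr fun t => (mul_div_assoc _ _ _).symm

end Groth.Agent.S1914
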