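import Groth.Statements.S19141
import Groth.Agent.H21Mono.ImageDescent
-- import your own Groth.Agent.* helpers here

set_option autoImplicit false
open CategoryTheory MonoidalCategory CartesianMonoidalCategory MonObj GrpObj AlgebraicGeometry
universe u
open SGA3x

set_option backward.isDefEq.respectTransparency false
set_option synthInstance.maxHeartbeats 400000
set_option maxHeartbeats 1000000
set_option linter.style.haveILetI false

namespace Groth.Agent.S19141

/-- Let f : H ⟶ G be a homomorphism of S-group schemes, with H of multiplicative type (of arbitrary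
type) and G separated and of finite presentation over S. Then there is a closed subgroup scheme Q of
G, of multiplicative type, such that f factors through a faithfully flat (flat and surjective)
homomorphism f' : H ⟶ Q; and the pair (Q, f') is unique: for any other such factorization f = f'' ≫
j'' through a closed subgroup Q'' of multiplicative type there is an isomorphism Q ≅ Q'' over S
carrying j to j'' and f' to f''. (Q is called the image of f.) -/
theorem result {S : Scheme.{u}} (H G : Over S) [GrpObj H] [GrpObj G]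
    (hH : TwC.Locally S TwC.Topology.fpqc (fun S' g => ∃ (M : Type) (_ : AddCommGroup M), Nonempty (Grp.mk (Red.bc g H) ≅ Grp.mk (Red.DS S' M))))
    [IsSeparated G.hom] [QuasiCompact G.hom] [LocallyOfFinitePresentation G.hom] (f : H ⟶ G) [IsMonHom f] :
    (∃ (Q : Over S) (_ : GrpObj Q) (j : Q ⟶ G) (_ : IsMonHom j) (f' : H ⟶ Q) (_ : IsMonHom f'),
      IsClosedImmersion j.left ∧ TwC.Locally S TwC.Topology.fpqc (fun S' g => ∃ (M : Type) (_ : AddCommGroup M), Nonempty (Grp.mk (Red.bc g Q) ≅ Grp.mk (Red.DS S' M))) ∧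
      Flat f'.left ∧ Surjective f'.left ∧ f' ≫ j = f) ∧
    (∀ (Q₁ Q₂ : Over S) [GrpObj Q₁] [GrpObj Q₂] (j₁ : Q₁ ⟶ G) (j₂ : Q₂ ⟶ G) [IsMonHom j₁] [IsMonHom j₂]
      (f₁ : H ⟶ Q₁) (f₂ : H ⟶ Q₂) [IsMonHom f₁] [IsMonHom f₂],
      IsClosedImmersion j₁.left → IsClosedImmersion j₂.left →
      TwC.Locally S TwC.Topology.fpqc (fun S' g => ∃ (M : Type) (_ : AddCommGroup M), Nonempty (Grp.mk (Red.bc g Q₁) ≅ Grp.mk (Red.DS S' M))) →
      TwC.Locally S TwC.Topology.fpqc (fun S' g => ∃ (M : Type) (_ : AddCommGroup M), Nonempty (Grp.mk (Red.bc g Q₂) ≅ Grp.mk (Red.DS S' M))) →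
      Flat f₁.left → Surjective f₁.left → f₁ ≫ j₁ = f →
      Flat f₂.left → Surjective f₂.left → f₂ ≫ j₂ = f →
      ∃ e : Q₁ ≅ Q₂, e.hom ≫ j₂ = j₁ ∧ f₁ ≫ e.hom = f₂) := by
  refine ⟨?_, ?_⟩
  · haveI := H21Mono.quasiCompact_of_locDS hH f
    haveI : Flat H.hom := H21Mono.prop_of_locDS @Flat (fun T M _ => H21Diag.flat_DS T M) hH
    let Q₀ : Over S := Over.mk (f.left.imageι ≫ G.hom)
    let i₀ : Q₀ ⟶ G := Over.homMk f.left.imageι rfl
    let f₀ : H ⟶ Q₀ := Over.homMk f.left.toImage (by
      change f.left.toImage ≫ f.left.imageι ≫ G.hom = H.hom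
      rw [Scheme.Hom.toImage_imageι_assoc, Over.w f])
    haveI : IsClosedImmersion i₀.left := inferInstanceAs (IsClosedImmersion f.left.imageι)
    haveI : QuasiCompact f₀.left := inferInstanceAs (QuasiCompact f.left.toImage)
    haveI : IsSchemeTheoreticallyDominant f₀.left := ⟨H17.ker_toImage f.left⟩
    haveI : Flat (f.left.imageι ≫ G.hom) :=
      H21Mono.flat_image hH f f₀ i₀ (Over.OverMorphism.ext f.left.toImage_imageι)
    obtain ⟨Q, _, j, f', _, hf', hfi, _, _, _⟩ := H19Grp.exists_schemImage f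
    haveI := hf'
    obtain ⟨hQ, hfl, hsu⟩ := H21Mono.image_props hH f f' j hfi
    exact ⟨Q, inferInstance, j, inferInstance, f', inferInstance, ‹_›, hQ, hfl, hsu, hfi⟩
  · intro Q₁ Q₂ _ _ j₁ j₂ _ _ f₁ f₂ _ _ hj₁ hj₂ hQ₁ hQ₂ hf₁ hs₁ h₁ hf₂ hs₂ h₂
    haveI := hj₁; haveI := hj₂; haveI := hf₁; haveI := hs₁
    haveI := H21Mono.quasiCompact_of_locDS hH f
    haveI : QuasiCompact (f₁.left ≫ j₁.left) := by rw [← Over.comp_left, h₁]; infer_instance
    haveI : QuasiCompact f₁.left := QuasiCompact.of_comp f₁.left j₁.left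
    haveI : QuasiCompact (f₂.left ≫ j₂.left) := by rw [← Over.comp_left, h₂]; infer_instance
    haveI : QuasiCompact f₂.left := QuasiCompact.of_comp f₂.left j₂.left
    haveI := hf₂; haveI := hs₂
    haveI : Mono j₂ := (Over.forget S).mono_of_mono_map (show Mono j₂.left from inferInstance)
    haveI : Mono j₁ := (Over.forget S).mono_of_mono_map (show Mono j₁.left from inferInstance)
    obtain ⟨e, he⟩ := H21Rank1.exists_descend f₁ f₂ fun W a b hab => by
      rw [← cancel_mono j₂, Category.assoc, Category.assoc, h₂, ← h₁, ← Category.assoc, hab, Category.assoc]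
    obtain ⟨e', he'⟩ := H21Rank1.exists_descend f₂ f₁ fun W a b hab => by
      rw [← cancel_mono j₁, Category.assoc, Category.assoc, h₁, ← h₂, ← Category.assoc, hab, Category.assoc]
    haveI := H19Grp.epi_over_of_fpqc f₁
    haveI := H19Grp.epi_over_of_fpqc f₂
    refine ⟨⟨e, e', ?_, ?_⟩, ?_, he⟩
    · rw [← cancel_epi f₁, reassoc_of% he, he', Category.comp_id]
    · rw [← cancel_epi f₂, reassoc_of% he', he, Category.comp_id]
    · rw [← cancel_epi f₁, reassoc_of% he, h₂, h₁]

end Groth.Agent.S19141
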