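import Groth.Statements.S19145
import Groth.Agent.H26TwC.UnibranchPieces
import Groth.Agent.H06Unram.RationalSection

set_option autoImplicit false
open CategoryTheory MonoidalCategory CartesianMonoidalCategory MonObj GrpObj AlgebraicGeometry
universe u
open TwC

namespace Groth.Agent.S19145

open CategoryTheory CategoryTheory.Limits AlgebraicGeometry Groth.Agent.H26TwC.UnibranchPieces

/-- Let S be an irreducible scheme whose local rings are all geometrically unibranch, η its generic
point, and X a quasi-isotrivial twisted constant S-scheme (etale-locally on S isomorphic to a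
constant scheme). Then X is the disjoint union, over the points λ of the generic fibre X_η, of the
closures X(λ) of λ: every point of X lies in the closure of exactly one such λ, each X(λ) is open
and closed in X and, as an open subscheme, is a finite etale cover of S (finite, etale and
surjective); and restricting a section of X ⟶ S to the generic point is a bijection from the
sections of X over S onto the sections of X_η over etaS. -/
theorem result {S : Scheme.{u}} [IrreducibleSpace S]
    (hS : ∀ s : S, CAlg2.IsGeomUnibranch (S.presheaf.stalk s))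
    (X : Over S) (hX : TwC.IsTwConst TwC.Topology.etale X) :
    (∀ x : X.left, ∃! l : X.left, X.hom.base l = genericPoint S ∧ x ∈ closure ({l} : Set X.left)) ∧
    (∀ l : X.left, X.hom.base l = genericPoint S →
      ∃ U : X.left.Opens, (U : Set X.left) = closure ({l} : Set X.left) ∧ IsClosed (U : Set X.left) ∧
        IsFinite (U.ι ≫ X.hom) ∧ Etale (U.ι ≫ X.hom) ∧ Surjective (U.ι ≫ X.hom)) ∧
    (∀ σ₁ σ₂ : S ⟶ X.left, σ₁ ≫ X.hom = 𝟙 S → σ₂ ≫ X.hom = 𝟙 S →
      S.fromSpecResidueField (genericPoint S) ≫ σ₁ = S.fromSpecResidueField (genericPoint S) ≫ σ₂ → σ₁ = σ₂) ∧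
    (∀ τ : Spec (S.residueField (genericPoint S)) ⟶ X.left, τ ≫ X.hom = S.fromSpecResidueField (genericPoint S) →
      ∃ σ : S ⟶ X.left, σ ≫ X.hom = 𝟙 S ∧ S.fromSpecResidueField (genericPoint S) ≫ σ = τ) := by
    obtain ⟨hsep, het, -⟩ := Groth.Agent.S19144.result X hX
    have : LocallyQuasiFinite X.hom := H12AlgSp.lqf_of_etale X.hom
    let O : ∀ (l : X.left), X.hom.base l = genericPoint S → X.left.Opens :=
      fun l hl => ⟨closure {l}, (isClopen_closure X.hom hS hl).2⟩
    have fibre : ∀ (l : X.left) (hl : X.hom.base l = genericPoint S) (z : (O l hl).toScheme),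
        ((O l hl).ι ≫ X.hom).base z = genericPoint S → z.1 = l := fun l hl z hz =>
      eq_of_specializes X.hom hS hz hl (specializes_rfl) (specializes_iff_mem_closure.mpr z.2)
    have piece : ∀ (l : X.left) (hl : X.hom.base l = genericPoint S),
        IsFinite ((O l hl).ι ≫ X.hom) ∧ Surjective ((O l hl).ι ≫ X.hom) := by
      intro l hl
      haveI : IsClosedImmersion (O l hl).ι := IsClosedImmersion.of_isPreimmersion _
        (by rw [Scheme.Opens.range_ι]; exact isClosed_closure)
      have hfin : IsFinite ((O l hl).ι ≫ X.hom) :=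
        isFinite_piece hS X hX (O l hl).ι
          ((Set.finite_singleton (⟨l, subset_closure rfl⟩ : (O l hl).toScheme)).subset
            fun z hz => Subtype.ext (fibre l hl z hz))
      refine ⟨hfin, ⟨fun s => ?_⟩⟩
      exact (genericPoint_specializes s).mem_closed ((O l hl).ι ≫ X.hom).isClosedMap.isClosed_range
        ⟨⟨l, subset_closure rfl⟩, hl⟩
    let etaS : Spec (S.residueField (genericPoint S)) ⟶ S := S.fromSpecResidueField (genericPoint S)
    have hη : ∀ q, etaS.base q = genericPoint S := fun q => Scheme.fromSpecResidueField_apply _ q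
    haveI : Subsingleton (Spec (S.residueField (genericPoint S))) :=
      inferInstanceAs (Subsingleton (PrimeSpectrum _))
    have iso : ∀ (τ : Spec (S.residueField (genericPoint S)) ⟶ X.left), τ ≫ X.hom = etaS →
        ∃ (l : X.left) (hl : X.hom.base l = genericPoint S) (_ : IsIso ((O l hl).ι ≫ X.hom)),
          (∀ q, τ.base q = l) ∧ etaS ≫ inv ((O l hl).ι ≫ X.hom) ≫ (O l hl).ι = τ := by
      intro τ hτ
      let q₀ : Spec (S.residueField (genericPoint S)) := default
      have hl : X.hom.base (τ.base q₀) = genericPoint S := by rw [← Scheme.Hom.comp_apply, hτ, hη]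
      have hτc : ∀ q, τ.base q = τ.base q₀ := fun q => by rw [Subsingleton.elim q q₀]
      haveI := (piece _ hl).1
      have hr : Set.range τ.base ⊆ Set.range (O _ hl).ι.base := by
        rintro _ ⟨q, rfl⟩
        rw [Scheme.Opens.range_ι]
        exact (hτc q).symm ▸ subset_closure (Set.mem_singleton _)
      have hlift := IsOpenImmersion.lift_fac (O _ hl).ι τ hr
      let g := (O _ hl).ι ≫ X.hom
      let σ : Spec (S.residueField (genericPoint S)) ⟶ pullback g etaS :=
        pullback.lift (IsOpenImmersion.lift _ τ hr) (𝟙 _)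
          (by rw [Category.id_comp, ← Category.assoc, hlift, hτ])
      have hσ : σ ≫ pullback.snd g etaS = 𝟙 _ := pullback.lift_snd _ _ _
      haveI := H06Unram.isOpenImmersion_section (pullback.snd g etaS) (𝟙 _) σ hσ
      have : Subsingleton ↥(pullback g etaS) := by
        refine ⟨fun a b => ?_⟩
        have hg : ∀ a : ↥(pullback g etaS), ((pullback.fst g etaS).base a).1 = τ.base q₀ := fun a =>
          fibre _ hl _ (by rw [← Scheme.Hom.comp_apply, pullback.condition, Scheme.Hom.comp_apply, hη])
        have : Subsingleton ↥(g.fiber (genericPoint S)) := by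
          refine ⟨fun c d => (g.fiberHomeo (genericPoint S)).injective (Subtype.ext (Subtype.ext ?_))⟩
          rw [fibre _ hl _ (g.fiberHomeo (genericPoint S) c).2, fibre _ hl _ (g.fiberHomeo (genericPoint S) d).2]
        exact this.elim a b
      haveI : IsIso σ := by
        haveI : Epi σ.base := (TopCat.epi_iff_surjective _).mpr fun a => ⟨q₀, Subsingleton.elim _ _⟩
        exact IsOpenImmersion.isIso σ
      haveI : IsIso (pullback.snd g etaS) := ⟨σ, by rw [← cancel_epi σ, ← Category.assoc, hσ, Category.id_comp, Category.comp_id], hσ⟩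
      have h1 : g.finrank (genericPoint S) = 1 := by
        refine (congrArg g.finrank (hη q₀)).symm.trans ?_
        rw [← Scheme.Hom.finrank_pullback_snd g etaS q₀, Scheme.Hom.finrank_eq_one_of_isIso]; rfl
      haveI hi : IsIso g := (Scheme.Hom.isIso_iff_finrank_eq g).mpr (funext fun s => by
        rw [Pi.one_apply, ← h1]
        exact (Scheme.Hom.isLocallyConstant_finrank g).apply_eq_of_isPreconnected
          (IrreducibleSpace.isIrreducible_univ S).isPreirreducible.isPreconnected trivial trivial)
      refine ⟨_, hl, hi, hτc, ?_⟩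
      rw [show etaS = IsOpenImmersion.lift (O _ hl).ι τ hr ≫ g by rw [← Category.assoc, hlift, hτ],
        Category.assoc, IsIso.hom_inv_id_assoc, hlift]
    refine ⟨fun x => ?_, fun l hl => ⟨O l hl, rfl, isClosed_closure, (piece l hl).1, inferInstance, (piece l hl).2⟩,
      fun σ₁ σ₂ h1 h2 h => ?_, fun τ hτ => ?_⟩
    · obtain ⟨l, hlx, hl⟩ := exists_generic_specializes X.hom x
      exact ⟨l, ⟨hl, specializes_iff_mem_closure.mp hlx⟩, fun l' ⟨hl', hx'⟩ =>
        eq_of_specializes X.hom hS hl' hl (specializes_iff_mem_closure.mpr hx') hlx⟩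
    · obtain ⟨l, hl, hi, hc, -⟩ := iso (etaS ≫ σ₁) (by rw [Category.assoc, h1, Category.comp_id])
      haveI := hi
      have hu : ∀ σ : S ⟶ X.left, σ ≫ X.hom = 𝟙 S → etaS ≫ σ = etaS ≫ σ₁ →
          σ = inv ((O l hl).ι ≫ X.hom) ≫ (O l hl).ι := by
        intro σ hσ he
        have hr : Set.range σ.base ⊆ Set.range (O l hl).ι.base := by
          rintro _ ⟨s, rfl⟩
          rw [Scheme.Opens.range_ι]
          refine specializes_iff_mem_closure.mp ?_
          have := (genericPoint_specializes s).map σ.continuous
          rwa [← hη default, ← Scheme.Hom.comp_apply, he, hc] at this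
        rw [← IsOpenImmersion.lift_fac (O l hl).ι σ hr]
        congr 1
        rw [← cancel_mono ((O l hl).ι ≫ X.hom), IsIso.inv_hom_id, IsOpenImmersion.lift_fac_assoc, hσ]
      rw [hu σ₁ h1 rfl, hu σ₂ h2 h.symm]
    · obtain ⟨l, hl, hi, -, hfac⟩ := iso τ hτ
      exact ⟨inv ((O l hl).ι ≫ X.hom) ≫ (O l hl).ι, by rw [Category.assoc, IsIso.inv_hom_id], hfac⟩

end Groth.Agent.S19145
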