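import Groth.Statements.S19146
import Groth.Agent.H26TwC.HensPieces
import Groth.Agent.S19144

set_option autoImplicit false
open CategoryTheory MonoidalCategory CartesianMonoidalCategory MonObj GrpObj AlgebraicGeometry
universe u
open TwC

namespace Groth.Agent.S19146

open CategoryTheory AlgebraicGeometry Groth.Agent.H26TwC

/-- Let R be a henselian local ring, s the closed point of S = Spec R, and X a quasi-isotrivial twisted
constant S-scheme (etale-locally on S isomorphic to a constant scheme). Then X is the disjoint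
union, over the points x of the closed fibre X_s, of the local schemes X(x) = Spec O_{X,x}: for each
such x the canonical morphism Spec O_{X,x} ⟶ X is an open and closed immersion and X(x) is a finite
etale cover of S (finite, etale, surjective), every point of X lies in X(x) for exactly one x ∈ X_s,
and restricting a section of X ⟶ S to the closed point is a bijection from the sections of X over S
onto the sections of X_s over s. -/
theorem result (R : Type u) [CommRing R] [HenselianLocalRing R]
    (X : Over (Spec (CommRingCat.of R))) (hX : TwC.IsTwConst TwC.Topology.etale X) :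
    (∀ x : X.left, X.hom.base x = IsLocalRing.closedPoint R →
      IsOpenImmersion (X.left.fromSpecStalk x) ∧ IsClosedImmersion (X.left.fromSpecStalk x) ∧
        IsFinite (X.left.fromSpecStalk x ≫ X.hom) ∧ Etale (X.left.fromSpecStalk x ≫ X.hom) ∧
        Surjective (X.left.fromSpecStalk x ≫ X.hom)) ∧
    (∀ y : X.left, ∃! x : X.left, X.hom.base x = IsLocalRing.closedPoint R ∧
      y ∈ Set.range (X.left.fromSpecStalk x).base) ∧
    (∀ σ₁ σ₂ : Spec (CommRingCat.of R) ⟶ X.left, σ₁ ≫ X.hom = 𝟙 _ → σ₂ ≫ X.hom = 𝟙 _ →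
      Spec.map (CommRingCat.ofHom (IsLocalRing.residue R)) ≫ σ₁ = Spec.map (CommRingCat.ofHom (IsLocalRing.residue R)) ≫ σ₂ → σ₁ = σ₂) ∧
    (∀ τ : Spec (CommRingCat.of (IsLocalRing.ResidueField R)) ⟶ X.left,
      τ ≫ X.hom = Spec.map (CommRingCat.ofHom (IsLocalRing.residue R)) →
      ∃ σ : Spec (CommRingCat.of R) ⟶ X.left, σ ≫ X.hom = 𝟙 _ ∧ Spec.map (CommRingCat.ofHom (IsLocalRing.residue R)) ≫ σ = τ) := by
    obtain ⟨hsep, het, hval⟩ := Groth.Agent.S19144.result X hX
    have hs : SpecializingMap X.hom := ValuativeCriterion.Existence.specializingMap X.hom hval.existence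
    have hmem : ∀ x y : X.left, y ∈ Set.range (X.left.fromSpecStalk x).base ↔ y ⤳ x := fun x y => by
      rw [Scheme.range_fromSpecStalk]; rfl
    have key : ∀ (σ : Spec (CommRingCat.of R) ⟶ X.left) (hσ : σ ≫ X.hom = 𝟙 _) (x : X.left),
        σ.base (IsLocalRing.closedPoint R) = x →
        ∀ [IsOpenImmersion (X.left.fromSpecStalk x)] [IsIso (X.left.fromSpecStalk x ≫ X.hom)],
          σ = inv (X.left.fromSpecStalk x ≫ X.hom) ≫ X.left.fromSpecStalk x := by
      intro σ hσ x hx _ _
      have hr : Set.range σ.base ⊆ Set.range (X.left.fromSpecStalk x).base := by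
        rintro _ ⟨s, rfl⟩
        rw [hmem, ← hx]
        exact (IsLocalRing.specializes_closedPoint s).map σ.continuous
      rw [← IsOpenImmersion.lift_fac (X.left.fromSpecStalk x) σ hr]
      congr 1
      rw [← cancel_mono (X.left.fromSpecStalk x ≫ X.hom), IsIso.inv_hom_id, IsOpenImmersion.lift_fac_assoc, hσ]
    have iso : ∀ (τ : Spec (CommRingCat.of (IsLocalRing.ResidueField R)) ⟶ X.left),
        τ ≫ X.hom = Spec.map (CommRingCat.ofHom (IsLocalRing.residue R)) →
        ∃ (x : X.left) (_ : IsOpenImmersion (X.left.fromSpecStalk x))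
          (_ : IsIso (X.left.fromSpecStalk x ≫ X.hom)),
          x = τ.base (IsLocalRing.closedPoint _) ∧
          Spec.map (CommRingCat.ofHom (IsLocalRing.residue R)) ≫ inv (X.left.fromSpecStalk x ≫ X.hom) ≫
            X.left.fromSpecStalk x = τ := by
      intro τ hτ
      have hx : X.hom.base (τ.base (IsLocalRing.closedPoint _)) = IsLocalRing.closedPoint R := by
        rw [← Scheme.Hom.comp_apply, hτ]
        exact IsLocalRing.comap_closedPoint (IsLocalRing.residue R)
      obtain ⟨hoi, -, -, -, -⟩ := HensPieces.piece X.hom _ hx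
      haveI := hoi
      have hr : Set.range τ.base ⊆ Set.range (X.left.fromSpecStalk (τ.base (IsLocalRing.closedPoint _))).base := by
        rintro _ ⟨s, rfl⟩
        rw [hmem, Subsingleton.elim s (IsLocalRing.closedPoint _)]
      have hl := IsOpenImmersion.lift_fac (X.left.fromSpecStalk (τ.base (IsLocalRing.closedPoint _))) τ hr
      haveI hi := HensPieces.isIso_piece X.hom _ hx (IsOpenImmersion.lift _ τ hr) (by rw [← Category.assoc, hl, hτ])
      refine ⟨_, hoi, hi, rfl, ?_⟩
      have hle : IsOpenImmersion.lift _ τ hr ≫ (X.left.fromSpecStalk (τ.base (IsLocalRing.closedPoint _)) ≫ X.hom) =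
          Spec.map (CommRingCat.ofHom (IsLocalRing.residue R)) :=
        (Category.assoc _ _ _).symm.trans ((congrArg (· ≫ X.hom) hl).trans hτ)
      rw [← hle, Category.assoc, IsIso.hom_inv_id_assoc, hl]
    refine ⟨fun x hx => HensPieces.piece X.hom x hx, fun y => ?_, fun σ₁ σ₂ h1 h2 h => ?_, fun τ hτ => ?_⟩
    · obtain ⟨x, hxy, hx⟩ := hs (IsLocalRing.specializes_closedPoint (X.hom.base y))
      refine ⟨x, ⟨hx, (hmem x y).2 hxy⟩, fun x' ⟨hx', hy'⟩ => ?_⟩
      have h1 : ∀ a b : X.left, X.hom.base a = IsLocalRing.closedPoint R → y ⤳ a → y ⤳ b → b ⤳ a := by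
        intro a b ha hya hyb
        obtain ⟨-, hc, -, -, -⟩ := HensPieces.piece X.hom a ha
        rw [← hmem]
        exact hyb.mem_closed (X.left.fromSpecStalk a).isClosedEmbedding.isClosed_range ((hmem a y).2 hya)
      exact ((h1 x x' hx hxy ((hmem x' y).1 hy')).antisymm (h1 x' x hx' ((hmem x' y).1 hy') hxy)).eq
    · obtain ⟨x, hoi, hi, hx, -⟩ := iso (Spec.map (CommRingCat.ofHom (IsLocalRing.residue R)) ≫ σ₁)
        (by rw [Category.assoc, h1, Category.comp_id])
      have hc : (Spec.map (CommRingCat.ofHom (IsLocalRing.residue R))).base (IsLocalRing.closedPoint _) = IsLocalRing.closedPoint R :=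
        IsLocalRing.comap_closedPoint (IsLocalRing.residue R)
      have e1 : σ₁.base (IsLocalRing.closedPoint R) = x := by rw [hx, Scheme.Hom.comp_apply, hc]
      have e2 : σ₂.base (IsLocalRing.closedPoint R) = x := by rw [hx, h, Scheme.Hom.comp_apply, hc]
      rw [key σ₁ h1 x e1, key σ₂ h2 x e2]
    · obtain ⟨x, hoi, hi, -, hfac⟩ := iso τ hτ
      exact ⟨inv (X.left.fromSpecStalk x ≫ X.hom) ≫ X.left.fromSpecStalk x,
        by rw [Category.assoc, IsIso.inv_hom_id], hfac⟩

end Groth.Agent.S19146
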