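import Groth.Statements.S19147
import Groth.Agent.H21Mono.ImageDescent
import Groth.Agent.H21Diag.TorusQuot
import Groth.Agent.H19Grp.SchemImage
-- import your own Groth.Agent.* helpers here

set_option autoImplicit false
set_option backward.isDefEq.respectTransparency false
set_option maxHeartbeats 1000000
set_option synthInstance.maxHeartbeats 400000
set_option linter.style.haveILetI false
open CategoryTheory MonoidalCategory CartesianMonoidalCategory MonObj GrpObj AlgebraicGeometry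
universe u
open SGA3x

namespace Groth.Agent.S19147

/-- Let Γ be a torsion-free commutative group, G an S-group separated and of finite presentation over S,
and f : D_S(Γ) ⟶ G a homomorphism. Then the image of f (the closed subgroup of G through which f
factors by a faithfully flat homomorphism) is a locally trivial subtorus of G: f = f' ≫ j with f'
flat and surjective, j the inclusion of a closed subgroup scheme Q, and Q Zariski-locally on S
isomorphic as a group to D(ℤ^r) for some r (depending on the open). -/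
theorem result {S : Scheme.{u}} (Γ : Type) [AddCommGroup Γ] [IsAddTorsionFree Γ]
    (G : Over S) [GrpObj G] [IsSeparated G.hom] [QuasiCompact G.hom] [LocallyOfFinitePresentation G.hom]
    (f : Red.DS S Γ ⟶ G) [IsMonHom f] :
    ∃ (Q : Over S) (_ : GrpObj Q) (j : Q ⟶ G) (_ : IsMonHom j) (f' : Red.DS S Γ ⟶ Q) (_ : IsMonHom f'),
      IsClosedImmersion j.left ∧ Flat f'.left ∧ Surjective f'.left ∧ f' ≫ j = f ∧
      TwC.Locally S TwC.Topology.zariski (fun S' g => ∃ r : ℕ, Red.IsSplitTorusWith (Fin r → ℤ) (Red.bc g Q)) := by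
  let e : Grp.mk (Red.bc (𝟙 S) (Red.DS S Γ)) ≅ Grp.mk (Red.DS S Γ) := Grp.mkIso' (asIso (H21Diag.bcIdHom _))
  haveI := H21Diag.flat_DS S Γ
  haveI := H21Diag.isAffineHom_DS S Γ
  haveI : QuasiCompact (f.left ≫ G.hom) := by rw [Over.w f]; infer_instance
  haveI : QuasiCompact f.left := QuasiCompact.of_comp f.left G.hom
  have hH : H21Mono.LocDS (Red.DS S Γ) :=
    ⟨S, 𝟙 S, inferInstance, inferInstance, fun V hV => ⟨V, hV.isCompact, Set.image_id _⟩,
      fun s => ⟨⊤, trivial, Γ, inferInstance, ⟨H21Diag.bcDSIso _ Γ⟩⟩⟩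
  let Q₀ : Over S := Over.mk (f.left.imageι ≫ G.hom)
  let i₀ : Q₀ ⟶ G := Over.homMk f.left.imageι rfl
  let f₀ : Red.DS S Γ ⟶ Q₀ := Over.homMk f.left.toImage (by
    change f.left.toImage ≫ f.left.imageι ≫ G.hom = (Red.DS S Γ).hom
    rw [Scheme.Hom.toImage_imageι_assoc, Over.w f])
  haveI : IsClosedImmersion i₀.left := inferInstanceAs (IsClosedImmersion f.left.imageι)
  haveI : QuasiCompact f₀.left := inferInstanceAs (QuasiCompact f.left.toImage)
  haveI : IsSchemeTheoreticallyDominant f₀.left := ⟨H17.ker_toImage f.left⟩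
  haveI : Flat (f.left.imageι ≫ G.hom) :=
    H21Mono.flat_image hH f f₀ i₀ (Over.OverMorphism.ext f.left.toImage_imageι)
  obtain ⟨Q, _, j, f', _, hf', hfi, _, _, _⟩ := H19Grp.exists_schemImage f
  haveI := hf'
  obtain ⟨-, hfl, hsu⟩ := H21Mono.image_props hH f f' j hfi
  refine ⟨Q, inferInstance, j, inferInstance, f', inferInstance, ‹_›, hfl, hsu, hfi, fun s => ?_⟩
  obtain ⟨U, Λ, hx, hΛ, -, -, ψ, hψ⟩ := H21Mono.exists_image_chart f f' j hfi (𝟙 S) e s
  haveI := hψ
  let i₁ : Red.bc (𝟙 S) Q ⟶ Red.bc (𝟙 S) G := (Over.pullback (𝟙 S)).map j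
  let i₂ : Red.bc U.ι (Red.bc (𝟙 S) Q) ⟶ Red.bc U.ι (Red.bc (𝟙 S) G) := (Over.pullback U.ι).map i₁
  haveI : IsMonHom i₁ := H21Diag.isMonHom_bcMap _ j
  haveI : IsMonHom i₂ := H21Diag.isMonHom_bcMap U.ι _
  haveI : IsClosedImmersion i₁.left :=
    MorphismProperty.of_isPullback (P := @IsClosedImmersion) (H21Mono.sqBC _ j).flip ‹_›
  haveI : IsClosedImmersion i₂.left :=
    MorphismProperty.of_isPullback (P := @IsClosedImmersion) (H21Mono.sqBC U.ι _).flip inferInstance
  haveI : Mono i₂ := (Over.forget _).mono_of_mono_map (show Mono i₂.left from inferInstance)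
  haveI : IsMonHom ψ.hom := H21Diag.isMonHom_of_comp_mono ψ.hom i₂
  haveI : Module.Finite ℤ Λ := Module.Finite.iff_addGroup_fg.mpr ((AddGroup.fg_iff_addSubgroup_fg _).mpr hΛ)
  haveI : Module.Free ℤ Λ := Module.free_of_finite_type_torsion_free'
  obtain ⟨E⟩ := H21Diag.nonempty_DS_iso (U : Scheme.{u})
    (Module.finBasis ℤ Λ).equivFun.toAddEquiv
  exact ⟨U, hx, Module.finrank ℤ Λ, ⟨H21Diag.bcMapIso U.ι (Grp.mkIso' (asIso (H21Diag.bcIdHom Q))).symm ≪≫
    (Grp.mkIso' ψ).symm ≪≫ H21Diag.bcDSIso U.ι Λ ≪≫ E⟩⟩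

end Groth.Agent.S19147
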