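import Groth.Statements.S19148
import Groth.Agent.H24Filt.Tensor

set_option autoImplicit false
set_option linter.style.haveILetI false
open scoped TensorProduct
universe u v
open FiltMod

namespace Groth.Agent.S19148

/-- In affine form, let R be a commutative ring, M a finitely generated projective R-module (a finite
locally free sheaf on Spec R), F₁ and F₂ direct summands of M and k ≥ 1. Then the images of F₁^{⊗k}
and F₂^{⊗k} in the k-th tensor power M^{⊗k} are equal if and only if F₁ = F₂. (The source states
this for local direct factors of a finite locally free sheaf on a scheme; equality of subsheaves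
being local, this is the affine case with global direct summands, to which it reduces.) -/
theorem result {R : Type u} [CommRing R] {M : Type v} [AddCommGroup M] [Module R M]
    [Module.Finite R M] [Module.Projective R M] (F₁ F₂ : Submodule R M)
    (h₁ : ∃ C : Submodule R M, IsCompl F₁ C) (h₂ : ∃ C : Submodule R M, IsCompl F₂ C) (k : ℕ) (hk : 1 ≤ k) :
    LinearMap.range (PiTensorProduct.map (R := R) (fun _ : Fin k => F₁.subtype)) =
      LinearMap.range (PiTensorProduct.map (R := R) (fun _ : Fin k => F₂.subtype)) ↔ F₁ = F₂ := by
    classical
    obtain ⟨C₁, hC₁⟩ := h₁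
    obtain ⟨C₂, hC₂⟩ := h₂
    exact ⟨fun h => le_antisymm (Groth.Agent.H24Filt.le_of_tensorPow_le hC₁ hC₂ hk h.le)
      (Groth.Agent.H24Filt.le_of_tensorPow_le hC₂ hC₁ hk h.ge), fun h => by subst h; rfl⟩

end Groth.Agent.S19148
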