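import Groth.Statements.S1915
import Groth.Agent.H3Cyc.SpPull
-- import your own Groth.Agent.* helpers here

set_option autoImplicit false
universe u
open CategoryTheory AlgebraicGeometry
open CategoryTheory.Limits
set_option backward.isDefEq.respectTransparency.types false
open Cyc
open Groth.Agent.H3Cyc

namespace Groth.Agent.S1915

/-- Let f : X' → X be flat, locally of finite type, of relative dimension e, between schemes locally of
finite type over a discrete valuation ring R, with induced morphisms f_η, f_s of fibres. Then for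
every r-cycle α on X_η, sp_{X'}(f_η^* α) = f_s^*(sp_X α) coefficientwise. Here sp is Cyc.spFun,
fibres are Mathlib's Scheme.Hom.fiber with dimension functions given by transcendence degree, flat
pullback is Cyc.pullFun, and the maps of fibres are the base changes of f. -/
theorem result (R : Type u) [CommRing R] [IsDomain R] [IsDiscreteValuationRing R] (X' X : Scheme.{u}) (b : X ⟶ Spec (CommRingCat.of R)) [LocallyOfFiniteType b] (f : X' ⟶ X) [Flat f] [LocallyOfFiniteType f] (e : ℕ) (he : Cyc.HasRelDim f e) (δX'η : ↥((f ≫ b).fiber (genericPoint ↥(Spec (CommRingCat.of R)))) → ℤ) (δX's : ↥((f ≫ b).fiber (IsLocalRing.closedPoint R)) → ℤ) (δXη : ↥(b.fiber (genericPoint ↥(Spec (CommRingCat.of R)))) → ℤ) (δXs : ↥(b.fiber (IsLocalRing.closedPoint R)) → ℤ) (h1 : Cyc.DeltaCompat ((f ≫ b).fiberToSpecResidueField (genericPoint ↥(Spec (CommRingCat.of R)))) δX'η (fun _ => 0)) (h2 : Cyc.DeltaCompat ((f ≫ b).fiberToSpecResidueField (IsLocalRing.closedPoint R)) δX's (fun _ => 0)) (h3 : Cyc.DeltaCompat (b.fiberToSpecResidueField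 (genericPoint ↥(Spec (CommRingCat.of R)))) δXη (fun _ => 0)) (h4 : Cyc.DeltaCompat (b.fiberToSpecResidueField (IsLocalRing.closedPoint R)) δXs (fun _ => 0)) (r : ℤ) (α : AlgebraicCycle (b.fiber (genericPoint ↥(Spec (CommRingCat.of R)))) ℤ) (hα : α ∈ Cyc.Zk (b.fiber (genericPoint ↥(Spec (CommRingCat.of R)))) δXη r) : Cyc.spFun (f ≫ b) (genericPoint ↥(Spec (CommRingCat.of R))) (IsLocalRing.closedPoint R) δX'η δX's (r + e) (Cyc.pullFun (pullback.map (f ≫ b) ((Spec (CommRingCat.of R)).fromSpecResidueField (genericPoint ↥(Spec (CommRingCat.of R)))) b ((Spec (CommRingCat.of R)).fromSpecResidueField (genericPoint ↥(Spec (CommRingCat.of R)))) f (𝟙 _) (𝟙 _) (Category.comp_id _) ((Category.comp_id _).trans (Category.id_comp _).symm)) δX'η δXη e ⇑α) = Cyc.pullFun (pullback.map (f ≫ b) ((Spec (CommRingCat.of R)).fromSpecResidueField (IsLocalRing.closedPoint R)) b ((Spec (CommRingCat.of R)).fromSpecResidueField (IsLocalRing.closedPoint R)) f (𝟙 _) (𝟙 _) (Category.comp_id _) ((Category.comp_id _).trans (Category.id_comp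 _).symm)) δX's δXs e (Cyc.spFun b (genericPoint ↥(Spec (CommRingCat.of R))) (IsLocalRing.closedPoint R) δXη δXs r ⇑α) := by
  exact SpPull.spFun_pull b f _ (pullback.lift_fst _ _ _) _ (pullback.lift_fst _ _ _) e he h1 h2 h3 h4 r α hα

end Groth.Agent.S1915
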