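import Groth.Statements.S19154
import Groth.Agent.H24Filt.Split
import Mathlib.RingTheory.LocalRing.Module
import Mathlib.LinearAlgebra.FiniteDimensional.Lemmas

set_option autoImplicit false
set_option linter.style.haveILetI false
open scoped TensorProduct
universe u v w
open FiltMod

namespace Groth.Agent.S19154

/-- (1) ⇔ (4): in affine form, let Γ be a non-trivial totally ordered commutative group, R a commutative
ring, M a finitely generated projective R-module (a finite locally free sheaf on X = Spec R) and F a
non-increasing Γ-indexed family of submodules of M; write F^γ_+ for the sum of the F^η with η > γ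
and Gr^γ = F^γ/F^γ_+. Then the following are equivalent: (1) there is a Γ-grading M = ⊕_γ G_γ by
submodules (internal direct sum) with F^γ = Σ_{η ≥ γ} G_η for every γ; (4) every Gr^γ is finitely
generated projective over R and, for every prime p of R, dim_{κ(p)} (κ(p) ⊗ M) = Σ_γ dim_{κ(p)} Gr^γ
of the image filtration on κ(p) ⊗ M (whose γ-th term F_x^γ is the image of κ(p) ⊗ F^γ; dim Gr^γ is
written as dim F_x^γ − dim F_x^γ_+, and the sum has finitely many non-zero terms). (The source's
conditions (2), (3) are the Zariski- and fpqc-local forms of (1) on a general scheme; its further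
assertions on F^γ ⊗ κ(x) are not stated.) -/
theorem result
    {Γ : Type w} [AddCommGroup Γ] [LinearOrder Γ] [IsOrderedAddMonoid Γ] [Nontrivial Γ]
    {R : Type u} [CommRing R] {M : Type v} [AddCommGroup M] [Module R M] [Module.Finite R M] [Module.Projective R M]
    (F : Γ → Submodule R M) (hF : Antitone F)
    (Fp : Γ → Submodule R M) (hFp : ∀ γ, Fp γ = ⨆ η ∈ Set.Ioi γ, F η) :
    (∃ G : Γ → Submodule R M, DirectSum.IsInternal G ∧ ∀ γ, F γ = ⨆ η ∈ Set.Ici γ, G η) ↔
    ((∀ γ, Module.Finite R (↥(F γ) ⧸ Submodule.comap (F γ).subtype (Fp γ)) ∧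
        Module.Projective R (↥(F γ) ⧸ Submodule.comap (F γ).subtype (Fp γ))) ∧
      ∀ (p : PrimeSpectrum R) (Fx : Γ → Submodule p.asIdeal.ResidueField (p.asIdeal.ResidueField ⊗[R] M)),
        (∀ γ, Fx γ = LinearMap.range ((F γ).subtype.baseChange p.asIdeal.ResidueField)) →
        Module.finrank p.asIdeal.ResidueField (p.asIdeal.ResidueField ⊗[R] M) =
          ∑ᶠ γ, (Module.finrank p.asIdeal.ResidueField ↥(Fx γ) -
            Module.finrank p.asIdeal.ResidueField ↥(⨆ η ∈ Set.Ioi γ, Fx η))) := by
    classical
    haveI : NoMaxOrder Γ := inferInstance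
    have hlt : ∀ γ η, γ < η → F η ≤ Fp γ := fun γ η h => hFp γ ▸ le_biSup F (Set.mem_Ioi.mpr h)
    have hpF : ∀ γ, Fp γ ≤ F γ := fun γ => hFp γ ▸ iSup₂_le fun η hη => hF (Set.mem_Ioi.mp hη).le
    constructor
    · rintro ⟨G, hG, hFG⟩
      obtain ⟨P⟩ := Groth.Agent.H24Filt.exists_proj hG
      obtain ⟨s, hs, hsum⟩ := P.exists_support
      have hker : ∀ γ, ∀ x ∈ F γ, x ∈ Fp γ ↔ P.p γ x = 0 := fun γ x hx => by
        refine ⟨fun h => ?_, fun h => ?_⟩
        · have hle : Fp γ ≤ LinearMap.ker (P.p γ) := hFp γ ▸ iSup₂_le fun η hη y hy => (P.mem_filt hFG).mp hy γ hη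
          exact hle h
        · rw [hsum x]
          refine sum_mem fun η _ => ?_
          rcases lt_trichotomy η γ with h' | rfl | h'
          · rw [(P.mem_filt hFG).mp hx η h']; exact zero_mem _
          · rw [h]; exact zero_mem _
          · exact hlt γ η h' (Groth.Agent.H24Filt.le_filt hFG le_rfl (P.mem η x))
      refine ⟨fun γ => ?_, fun p Fx hFx => ?_⟩
      · let q : ↥(F γ) →ₗ[R] ↥(G γ) := (P.p γ ∘ₗ (F γ).subtype).codRestrict (G γ) fun x => P.mem γ _
        have hq : Function.Surjective q := fun y => ⟨⟨y, Groth.Agent.H24Filt.le_filt hFG le_rfl y.2⟩, Subtype.ext (P.same γ _ y.2)⟩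
        have hk : LinearMap.ker q = Submodule.comap (F γ).subtype (Fp γ) := by
          ext x
          simp [q, hker γ x.1 x.2]
        let e := (Submodule.quotEquivOfEq _ _ hk.symm).trans (q.quotKerEquivOfSurjective hq)
        let π : M →ₗ[R] ↥(G γ) := (P.p γ).codRestrict (G γ) (P.mem γ)
        have hπ : π ∘ₗ (G γ).subtype = LinearMap.id := LinearMap.ext fun y => Subtype.ext (P.same γ _ y.2)
        haveI : Module.Finite R ↥(G γ) := Module.Finite.of_surjective π fun y => ⟨y.1, LinearMap.congr_fun hπ y⟩
        haveI : Module.Projective R ↥(G γ) := Module.Projective.of_split (G γ).subtype π hπ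
        exact ⟨Module.Finite.equiv e.symm, Module.Projective.of_equiv e.symm⟩
      · set K := p.asIdeal.ResidueField
        let q : Γ → (K ⊗[R] M) →ₗ[K] (K ⊗[R] M) := fun γ => (P.p γ).baseChange K
        have hqq : ∀ γ η, q γ ∘ₗ q η = if η = γ then q γ else 0 := fun γ η => by
          simp only [q, ← LinearMap.baseChange_comp]
          split_ifs with h
          · subst h; congr 1; exact LinearMap.ext fun x => P.same η _ (P.mem η x)
          · rw [show P.p γ ∘ₗ P.p η = 0 from LinearMap.ext fun x => P.ne γ η h _ (P.mem η x), LinearMap.baseChange_zero]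
        let W : Γ → Submodule K (K ⊗[R] M) := fun γ => LinearMap.range (q γ)
        have hid : ∀ z, z = ∑ γ ∈ s, q γ z := fun z => by
          induction z using TensorProduct.induction_on with
          | zero => simp
          | tmul a x => simp only [q, LinearMap.baseChange_tmul, ← TensorProduct.tmul_sum, ← hsum x]
          | add x y hx hy => simp only [map_add, Finset.sum_add_distrib, ← hx, ← hy]
        have hW : DirectSum.IsInternal W := by
          refine Groth.Agent.H24Filt.isInternal_of_proj q (fun γ x hx => ?_) (fun γ η hne x hx => ?_) (eq_top_iff.mpr fun z _ => ?_)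
          · obtain ⟨y, rfl⟩ := hx
            rw [← LinearMap.comp_apply, hqq, if_pos rfl]
          · obtain ⟨y, rfl⟩ := hx
            rw [← LinearMap.comp_apply, hqq, if_neg hne, LinearMap.zero_apply]
          · rw [hid z]; exact sum_mem fun γ _ => Submodule.mem_iSup_of_mem γ ⟨z, rfl⟩
        have hsplit : ∀ γ, Fx γ = ⨆ η ∈ Set.Ici γ, W η := by
          intro γ
          refine le_antisymm ?_ (iSup₂_le fun η hη => ?_)
          · rw [hFx]
            rintro _ ⟨z, rfl⟩
            rw [hid (((F γ).subtype.baseChange K) z)]
            refine sum_mem fun η _ => ?_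
            by_cases h : γ ≤ η
            · exact Submodule.mem_iSup_of_mem η (Submodule.mem_iSup_of_mem h ⟨_, rfl⟩)
            · have : q η ∘ₗ (F γ).subtype.baseChange K = 0 := by
                simp only [q, ← LinearMap.baseChange_comp]
                rw [show P.p η ∘ₗ (F γ).subtype = 0 from LinearMap.ext fun x => (P.mem_filt hFG).mp x.2 η (not_le.mp h),
                  LinearMap.baseChange_zero]
              rw [← LinearMap.comp_apply, this]
              exact zero_mem _
          · rw [hFx]
            rintro _ ⟨z, rfl⟩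
            refine ⟨((P.p η).codRestrict (F γ) fun x => Groth.Agent.H24Filt.le_filt hFG hη (P.mem η x)).baseChange K z, ?_⟩
            rw [← LinearMap.comp_apply, ← LinearMap.baseChange_comp, LinearMap.subtype_comp_codRestrict]
        have hW0 : ∀ γ ∉ s, W γ = ⊥ := fun γ h => by simp [W, q, hs γ h]
        have hind := hW.submodule_iSupIndep
        have hjump : ∀ γ, Module.finrank K ↥(Fx γ) - Module.finrank K ↥(⨆ η ∈ Set.Ioi γ, Fx η) = Module.finrank K ↥(W γ) := by
          intro γ
          have h1 : (⨆ η ∈ Set.Ioi γ, Fx η) = ⨆ η ∈ Set.Ioi γ, W η := by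
            refine le_antisymm (iSup₂_le fun η hη => ?_) (iSup₂_le fun η hη => ?_)
            · rw [hsplit]
              exact biSup_mono fun i hi => lt_of_lt_of_le (Set.mem_Ioi.mp hη) hi
            · exact le_trans (Groth.Agent.H24Filt.le_filt hsplit le_rfl) (le_biSup Fx hη)
          have h2 : Fx γ = W γ ⊔ ⨆ η ∈ Set.Ioi γ, W η := by
            rw [hsplit, ← Set.Ioi_insert, iSup_insert]
          have hd : Disjoint (W γ) (⨆ η ∈ Set.Ioi γ, W η) :=
            (hind γ).mono_right (biSup_mono fun i hi => ne_of_gt hi)
          have := Submodule.finrank_sup_add_finrank_inf_eq (W γ) (⨆ η ∈ Set.Ioi γ, W η)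
          rw [hd.eq_bot, finrank_bot, add_zero] at this
          rw [h1, h2, this, Nat.add_sub_cancel]
        have hsumrank : ∀ t : Finset Γ, Module.finrank K ↥(⨆ η ∈ t, W η) = ∑ η ∈ t, Module.finrank K ↥(W η) := by
          intro t
          induction t using Finset.induction_on with
          | empty => simp
          | insert a t ha ih =>
            rw [Finset.iSup_insert, Finset.sum_insert ha, ← ih]
            have hd : Disjoint (W a) (⨆ η ∈ t, W η) := (hind a).mono_right (biSup_mono fun i (hi : i ∈ t) (h : i = a) => ha (h ▸ hi))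
            have := Submodule.finrank_sup_add_finrank_inf_eq (W a) (⨆ η ∈ t, W η)
            rw [hd.eq_bot, finrank_bot, add_zero] at this
            exact this
        rw [finsum_congr hjump, finsum_eq_sum_of_support_subset _ (s := s) ?_, ← hsumrank]
        · rw [show (⨆ η ∈ s, W η) = ⊤ from eq_top_iff.mpr fun z _ => (hid z).symm ▸
            sum_mem fun γ hγ => Submodule.mem_iSup_of_mem γ (Submodule.mem_iSup_of_mem hγ ⟨z, rfl⟩), finrank_top]
        · intro γ hγ
          by_contra h
          exact hγ (by simp [hW0 γ h])
    · rintro ⟨hgr, hdim⟩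
      choose sec hsec using fun γ =>
        haveI := (hgr γ).2
        Module.projective_lifting_property (Submodule.comap (F γ).subtype (Fp γ)).mkQ LinearMap.id
          (Submodule.mkQ_surjective _)
      let G : Γ → Submodule R M := fun γ => LinearMap.range ((F γ).subtype ∘ₗ sec γ)
      have hdec : ∀ γ, ∀ x ∈ F γ, x ∈ G γ ⊔ Fp γ := fun γ x hx => by
        have h1 := LinearMap.congr_fun (hsec γ) (Submodule.Quotient.mk ⟨x, hx⟩)
        rw [LinearMap.comp_apply, LinearMap.id_apply, Submodule.mkQ_apply, Submodule.Quotient.eq] at h1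
        rw [← add_sub_cancel ((F γ).subtype (sec γ (Submodule.Quotient.mk ⟨x, hx⟩))) x]
        refine Submodule.add_mem_sup ⟨_, rfl⟩ ?_
        have := neg_mem h1
        simpa [Submodule.mem_comap] using this
      have htop : ⨆ γ, G γ = ⊤ := by
        set N := ⨆ γ, G γ
        suffices h : ∀ p : PrimeSpectrum R, p ∉ Module.support R (M ⧸ N) by
          have : Subsingleton (M ⧸ N) := (Module.support_eq_empty_iff (R := R)).mp (Set.eq_empty_iff_forall_notMem.mpr h)
          exact (Submodule.Quotient.subsingleton_iff.mp this)
        intro p hp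
        set K := p.asIdeal.ResidueField
        rw [Module.mem_support_iff_nontrivial_residueField_tensorProduct] at hp
        let Fx : Γ → Submodule K (K ⊗[R] M) := fun γ => LinearMap.range ((F γ).subtype.baseChange K)
        let W : Submodule K (K ⊗[R] M) := LinearMap.range (N.subtype.baseChange K)
        have hanti : Antitone Fx := fun γ η h => by
          rintro _ ⟨z, rfl⟩
          refine ⟨(Submodule.inclusion (hF h)).baseChange K z, ?_⟩
          rw [← LinearMap.comp_apply, ← LinearMap.baseChange_comp]
          rfl
        have hstep : ∀ γ, Fx γ ≤ W ⊔ ⨆ η ∈ Set.Ioi γ, Fx η := by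
          intro γ
          rintro _ ⟨z, rfl⟩
          induction z using TensorProduct.induction_on with
          | zero => simp
          | add x y hx hy => rw [map_add]; exact add_mem hx hy
          | tmul a x =>
            rw [LinearMap.baseChange_tmul]
            obtain ⟨g, hg, r, hr, hgr'⟩ := Submodule.mem_sup.mp (hdec γ x.1 x.2)
            rw [Submodule.coe_subtype, ← hgr', TensorProduct.tmul_add]
            refine Submodule.add_mem_sup ⟨a ⊗ₜ ⟨g, Submodule.mem_iSup_of_mem γ hg⟩, rfl⟩ ?_
            have hle : (Fp γ).map (TensorProduct.mk R K M a) ≤ (⨆ η ∈ Set.Ioi γ, Fx η).restrictScalars R := by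
              rw [Submodule.map_le_iff_le_comap, hFp]
              exact iSup₂_le fun η hη y hy =>
                Submodule.mem_iSup_of_mem η (Submodule.mem_iSup_of_mem hη ⟨a ⊗ₜ ⟨y, hy⟩, rfl⟩)
            exact hle ⟨r, hr, rfl⟩
        have hW : W = ⊤ := by
          refine Submodule.eq_top_of_finrank_eq (le_antisymm (Submodule.finrank_le W) ?_)
          rw [hdim p Fx (fun _ => rfl)]
          set J : Γ → ℕ := fun γ => Module.finrank K ↥(Fx γ) - Module.finrank K ↥(⨆ η ∈ Set.Ioi γ, Fx η) with hJ
          by_cases hfin : (Function.support J).Finite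
          swap
          · rw [finsum_of_infinite_support hfin]; exact Nat.zero_le _
          rw [finsum_eq_sum_of_support_subset J (s := hfin.toFinset) (by simp)]
          have key : ∀ (t : Finset Γ) (U : Submodule K (K ⊗[R] M)), (∀ b ∈ t, Fx b ≤ U) →
              ∑ γ ∈ t, J γ ≤ Module.finrank K ↥(W ⊓ U) := by
            intro t
            induction t using Finset.induction_on_min with
            | empty => simp
            | insert a t hat ih =>
              intro U hU
              rw [Finset.sum_insert fun h => lt_irrefl a (hat a h)]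
              set Fxp := ⨆ η ∈ Set.Ioi a, Fx η
              have hp : Fxp ≤ Fx a := iSup₂_le fun η hη => hanti (Set.mem_Ioi.mp hη).le
              have h1 := ih Fxp fun b hb => le_biSup Fx (Set.mem_Ioi.mpr (hat b hb))
              have hmod : Fx a = Fxp ⊔ W ⊓ Fx a := by
                rw [← sup_inf_assoc_of_le _ hp, inf_eq_right.mpr ((hstep a).trans_eq (sup_comm _ _))]
              have h2 := Submodule.finrank_sup_add_finrank_inf_eq Fxp (W ⊓ Fx a)
              rw [← hmod, ← inf_assoc, inf_comm Fxp W, inf_assoc, inf_eq_left.mpr hp] at h2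
              have h3 : Module.finrank K ↥(W ⊓ Fx a) ≤ Module.finrank K ↥(W ⊓ U) :=
                Submodule.finrank_mono (inf_le_inf_left W (hU a (Finset.mem_insert_self _ _)))
              have h4 : Module.finrank K ↥(W ⊓ Fxp) ≤ Module.finrank K ↥(W ⊓ Fx a) :=
                Submodule.finrank_mono (inf_le_inf_left W hp)
              have hJa : J a = Module.finrank K ↥(Fx a) - Module.finrank K ↥Fxp := rfl
              omega
          have := key hfin.toFinset ⊤ fun _ _ => le_top
          rwa [inf_top_eq] at this
        refine not_subsingleton_iff_nontrivial.mpr hp (subsingleton_of_forall_eq 0 fun z => ?_)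
        obtain ⟨w, rfl⟩ := LinearMap.lTensor_surjective K N.mkQ_surjective z
        obtain ⟨v, rfl⟩ := (hW ▸ Submodule.mem_top : w ∈ W)
        induction v using TensorProduct.induction_on with
        | zero => simp
        | tmul a x => simp [(Submodule.Quotient.mk_eq_zero N).mpr x.2]
        | add x y hx hy => rw [map_add, map_add, hx, hy, add_zero]
      refine ⟨G, Groth.Agent.H24Filt.splits_of_triangular (Fp := Fp) hF (fun γ => ?_) hlt (fun γ x hx hxp => ?_) htop⟩
      · rintro _ ⟨g, rfl⟩
        exact (sec γ g).2
      · obtain ⟨g, rfl⟩ := hx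
        have h1 := LinearMap.congr_fun (hsec γ) g
        rw [LinearMap.comp_apply, LinearMap.id_apply, Submodule.mkQ_apply,
          (Submodule.Quotient.mk_eq_zero _ (x := sec γ g)).mpr (Submodule.mem_comap.mpr hxp)] at h1
        rw [← h1, map_zero]

end Groth.Agent.S19154
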