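import Groth.Statements.S19155
import Groth.Agent.H21Root.DomHom

set_option autoImplicit false
open RootPairing
open RootD

namespace Groth.Agent.S19155

open Groth.Agent.H21Root RootPairing

/-- Let P be a root datum (root pairing over ℤ with finitely many roots, roots in M), S a system of
positive roots, Γ a non-trivial totally ordered commutative group and f : M → Γ additive. Call f
dominant when f(α) ≥ 0 for every positive root α. Then the dominant maps form a fundamental domain
for the Weyl group W acting on Hom(M, Γ) through M: there is w ∈ W with f ∘ w dominant, and if f and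
f ∘ w are both dominant (w ∈ W) then f ∘ w = f. -/
theorem result {ι M N : Type*} [AddCommGroup M] [AddCommGroup N]
    (P : RootPairing ι ℤ M N) [Finite ι] (S : Set ι) (hS : RootD.IsPosSys P S)
    {Γ : Type*} [AddCommGroup Γ] [LinearOrder Γ] [IsOrderedAddMonoid Γ] [Nontrivial Γ] (f : M →+ Γ) :
    (∃ g : P.Aut, g ∈ P.weylGroup ∧ ∀ i ∈ S, 0 ≤ f (RootPairing.Equiv.weightHom P g (P.root i))) ∧
    (∀ g : P.Aut, g ∈ P.weylGroup → (∀ i ∈ S, 0 ≤ f (P.root i)) →
      (∀ i ∈ S, 0 ≤ f (RootPairing.Equiv.weightHom P g (P.root i))) →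
      ∀ m : M, f (RootPairing.Equiv.weightHom P g m) = f m) := by
  classical
  obtain ⟨T, hT, hnn⟩ := exists_posSys_nonneg (P := P) f
  refine ⟨?_, ?_⟩
  · obtain ⟨g, hg, he⟩ := exists_weyl_image_eq hS hT
    refine ⟨g, hg, fun i hi => ?_⟩
    rw [weightHom_eq_smul, ← root_smul]
    exact hnn _ (he ▸ ⟨i, hi, rfl⟩)
  intro g hg hf
  have hΔ := simpleZ_simples hS
  refine hΔ.induction (p := fun g => (∀ i ∈ S, 0 ≤ f (RootPairing.Equiv.weightHom P g (P.root i))) →
    ∀ m : M, f (RootPairing.Equiv.weightHom P g m) = f m) (fun _ m => by simp) ?_ hg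
  intro u a _ ha hpos ih hdom
  rw [posOf_simples hS] at hpos
  simp only [weightHom_eq_smul, ← root_smul] at hdom ih
  have haS : a ∈ S := simples_subset P S ha
  have hua : (u * sr P a) • a = opp P (u • a) := by rw [mul_smul, sr_smul, smul_opp]
  have h0 : f (P.root (u • a)) = 0 := by
    refine le_antisymm ?_ (hf _ hpos)
    have := hdom a haS
    rwa [hua, root_opp, map_neg, neg_nonneg] at this
  intro m
  rw [weightHom_eq_smul, map_sr_smul, h0, smul_zero, sub_zero]
  refine ih (fun i hi => ?_) m
  by_cases hp : ∃ c : ℕ, P.root i = c • P.root a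
  · obtain ⟨c, hc⟩ := hp
    rw [root_smul, hc, smul_comm, ← root_smul, map_nsmul, h0, smul_zero]
  · have h1 : P.reflectionPerm a i ∈ S := by
      have := hΔ.reflect_pos (k := i) (by rwa [posOf_simples hS]) ha hp
      rwa [posOf_simples hS] at this
    have := hdom _ h1
    rwa [mul_smul, sr_smul, P.reflectionPerm_self] at this

end Groth.Agent.S19155
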