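import Groth.Statements.S19156
import Groth.Agent.H21Root.DomHom

set_option autoImplicit false
open RootPairing
open RootD

namespace Groth.Agent.S19156

open Groth.Agent.H21Root RootPairing

/-- Let P be a root datum (root pairing over ℤ with finitely many roots indexed by ι), S a system of
positive roots, Γ a non-trivial totally ordered commutative group and f : M → Γ additive. Then f is
dominant (non-negative on the positive roots) if and only if, for every w in the Weyl group, f − f ∘
w is a combination m ↦ Σ_{α ∈ S} ⟨m, α∨⟩ c_α of the positive coroots with coefficients c_α ≥ 0 in Γ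
(f ∘ w is strongly dominated by f); and f is dominant if and only if f(w m) ≤ f(m) for every w ∈ W
and every dominant weight m (weak dominance). -/
theorem result {ι M N : Type*} [AddCommGroup M] [AddCommGroup N]
    (P : RootPairing ι ℤ M N) [Fintype ι] (S : Set ι) (hS : RootD.IsPosSys P S)
    {Γ : Type*} [AddCommGroup Γ] [LinearOrder Γ] [IsOrderedAddMonoid Γ] [Nontrivial Γ] (f : M →+ Γ) :
    ((∀ i ∈ S, 0 ≤ f (P.root i)) ↔
      ∀ g : P.Aut, g ∈ P.weylGroup → ∃ c : ι → Γ, (∀ i, 0 ≤ c i) ∧ (∀ i, i ∉ S → c i = 0) ∧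
        ∀ m : M, f m - f (RootPairing.Equiv.weightHom P g m) = ∑ i, (P.coroot' i m) • c i) ∧
    ((∀ i ∈ S, 0 ≤ f (P.root i)) ↔
      ∀ g : P.Aut, g ∈ P.weylGroup → ∀ m : M, (∀ i ∈ S, 0 ≤ P.coroot' i m) →
        f (RootPairing.Equiv.weightHom P g m) ≤ f m) := by
  classical
  obtain ⟨σ, hσ⟩ := exists_strictly_dominant hS
  have key : (∀ g : P.Aut, g ∈ P.weylGroup → f (g • σ) ≤ f σ) → ∀ i ∈ S, 0 ≤ f (P.root i) := by
    intro h i hi
    have h1 := h _ (P.reflection_mem_weylGroup i)
    rw [sr_smul_weight, map_sub, map_zsmul, sub_le_self_iff] at h1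
    by_contra hlt
    rw [not_le] at hlt
    have := zsmul_lt_zsmul_right (hσ i hi) hlt
    rw [smul_zero] at this
    exact absurd h1 (not_le.mpr this)
  refine ⟨⟨fun hf g hg => ?_, fun h => key fun g hg => ?_⟩, ⟨fun hf g hg m hm => ?_, fun h => key fun g hg => ?_⟩⟩
  · simpa only [weightHom_eq_smul] using exists_coeff_of_dominant hS hf hg
  · obtain ⟨c, hc, hcS, he⟩ := h g hg
    rw [← sub_nonneg, ← weightHom_eq_smul, he]
    refine Finset.sum_nonneg fun i _ => ?_
    by_cases hi : i ∈ S
    · exact zsmul_nonneg (hc i) (hσ i hi).le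
    · rw [hcS i hi, smul_zero]
  · rw [weightHom_eq_smul]
    exact map_smul_le_of_dominant hS hf hg hm
  · rw [← weightHom_eq_smul]
    exact h g hg σ fun i hi => (hσ i hi).le

end Groth.Agent.S19156
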