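import Groth.Statements.S19157
import Groth.Agent.H24Filt.Tensor

set_option autoImplicit false
set_option linter.style.haveILetI false
open scoped TensorProduct
universe u v w
open FiltMod

namespace Groth.Agent.S19157

/-- In affine form, let Γ be a non-trivial totally ordered commutative group, R a commutative ring, M a
finitely generated projective R-module, k ≥ 1, and F₁, F₂ two Γ-filtrations of M each admitting a
splitting (a grading M = ⊕_γ G_γ by submodules with F^γ = Σ_{η ≥ γ} G_η). If the filtrations they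
induce on the k-th tensor power M^{⊗k} coincide, i.e. for every γ the sum over γ₁ + ⋯ + γ_k = γ of
the images of F₁^{γ₁} ⊗ ⋯ ⊗ F₁^{γ_k} in M^{⊗k} equals the corresponding sum for F₂, then F₁ = F₂.
(The source states this for Γ-filtrations of a finite locally free sheaf on a scheme, which split
Zariski-locally; this is the affine split case to which it reduces.) -/
theorem result
    {Γ : Type w} [AddCommGroup Γ] [LinearOrder Γ] [IsOrderedAddMonoid Γ] [Nontrivial Γ]
    {R : Type u} [CommRing R] {M : Type v} [AddCommGroup M] [Module R M] [Module.Finite R M] [Module.Projective R M]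
    (F₁ F₂ : Γ → Submodule R M)
    (h₁ : ∃ G : Γ → Submodule R M, DirectSum.IsInternal G ∧ ∀ γ, F₁ γ = ⨆ η ∈ Set.Ici γ, G η)
    (h₂ : ∃ G : Γ → Submodule R M, DirectSum.IsInternal G ∧ ∀ γ, F₂ γ = ⨆ η ∈ Set.Ici γ, G η)
    (k : ℕ) (hk : 1 ≤ k)
    (h : ∀ γ : Γ,
      (⨆ c : {c : Fin k → Γ // ∑ i, c i = γ}, LinearMap.range (PiTensorProduct.map (R := R) (fun i => (F₁ (c.1 i)).subtype))) =
      (⨆ c : {c : Fin k → Γ // ∑ i, c i = γ}, LinearMap.range (PiTensorProduct.map (R := R) (fun i => (F₂ (c.1 i)).subtype)))) :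
    F₁ = F₂ := by
    classical
    obtain ⟨G₁, hG₁, hF₁⟩ := h₁
    obtain ⟨G₂, hG₂, hF₂⟩ := h₂
    obtain ⟨P₁⟩ := Groth.Agent.H24Filt.exists_proj hG₁
    obtain ⟨P₂⟩ := Groth.Agent.H24Filt.exists_proj hG₂
    obtain ⟨m, rfl⟩ := Nat.exists_eq_succ_of_ne_zero (by omega : k ≠ 0)
    exact funext fun γ => le_antisymm (Groth.Agent.H24Filt.filt_le_of_tensorFilt_eq P₁ P₂ hF₁ hF₂ h γ)
      (Groth.Agent.H24Filt.filt_le_of_tensorFilt_eq P₂ P₁ hF₂ hF₁ (fun γ => (h γ).symm) γ)

end Groth.Agent.S19157
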