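import Groth.Statements.S19158
import Groth.Agent.H24Filt.Split

set_option autoImplicit false
set_option linter.style.haveILetI false
universe u v w
open FiltMod

namespace Groth.Agent.S19158

/-- In affine form, let Γ be a non-trivial totally ordered commutative group, R a commutative ring and
(M_a) a finite family of finitely generated projective R-modules, each carrying a non-increasing
Γ-indexed family of submodules F_a; give M = Π_a M_a the family F^γ = Π_a F_a^γ. Then F is split by
a Γ-grading of M (an internal direct sum decomposition M = ⊕_γ G_γ with F^γ = Σ_{η ≥ γ} G_η for all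
γ) if and only if each F_a is split by a Γ-grading of M_a. (The published statement is for finite
locally free sheaves on a scheme, where a filtration counts as split when it is split by a grading
locally on the scheme; this row is the affine case, in which that is the same as being split by one
global grading.) -/
theorem result
    {Γ : Type w} [AddCommGroup Γ] [LinearOrder Γ] [IsOrderedAddMonoid Γ] [Nontrivial Γ]
    {R : Type u} [CommRing R] {A : Type v} [Fintype A] (M : A → Type v) [∀ a, AddCommGroup (M a)] [∀ a, Module R (M a)]
    [∀ a, Module.Finite R (M a)] [∀ a, Module.Projective R (M a)]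
    (F : ∀ a, Γ → Submodule R (M a)) (hF : ∀ a, Antitone (F a)) :
    (∃ G : Γ → Submodule R (∀ a, M a), DirectSum.IsInternal G ∧
        ∀ γ, Submodule.pi Set.univ (fun a => F a γ) = ⨆ η ∈ Set.Ici γ, G η) ↔
    ∀ a, ∃ G : Γ → Submodule R (M a), DirectSum.IsInternal G ∧ ∀ γ, F a γ = ⨆ η ∈ Set.Ici γ, G η := by
    classical
    haveI : NoMaxOrder Γ := inferInstance
    constructor
    · rintro ⟨G, hG, hFG⟩ a
      obtain ⟨P⟩ := Groth.Agent.H24Filt.exists_proj hG
      let single : M a →ₗ[R] (∀ b, M b) := LinearMap.single R M a
      let proj : (∀ b, M b) →ₗ[R] M a := LinearMap.proj a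
      let φ : Γ → M a →ₗ[R] M a := fun γ => proj ∘ₗ P.p γ ∘ₗ single
      have hsingle : ∀ γ x, x ∈ F a γ ↔ single x ∈ Submodule.pi Set.univ (fun b => F b γ) := fun γ x => by
        refine ⟨fun hx b _ => ?_, fun h => by simpa [single] using h a trivial⟩
        by_cases hb : b = a
        · subst hb; simpa [single] using hx
        · simp [single, Pi.single_eq_of_ne hb]
      have hφF : ∀ γ x, φ γ x ∈ F a γ := fun γ x => by
        have h := Groth.Agent.H24Filt.le_filt (F := fun γ => Submodule.pi Set.univ (fun b => F b γ)) hFG (le_refl γ) (P.mem γ (single x))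
        exact h a trivial
      let Fp : Γ → Submodule R (M a) := fun γ => ⨆ η ∈ Set.Ioi γ, F a η
      have hlt : ∀ γ η, γ < η → F a η ≤ Fp γ := fun γ η h => le_biSup (F a) (Set.mem_Ioi.mpr h)
      have hφp : ∀ γ x, x ∈ Fp γ → φ γ x = 0 := fun γ x hx => by
        have hle : Fp γ ≤ LinearMap.ker (φ γ) := iSup₂_le fun η hη y hy => by
          rw [LinearMap.mem_ker]
          change proj (P.p γ (single y)) = 0
          rw [(P.mem_filt (F := fun γ => Submodule.pi Set.univ (fun b => F b γ)) hFG).mp ((hsingle η y).mp hy) γ hη, map_zero]
        exact hle hx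
      have hdiff : ∀ γ x, x ∈ F a γ → x - φ γ x ∈ Fp γ := fun γ x hx => by
        have h1 : single x - P.p γ (single x) ∈ ⨆ η ∈ Set.Ioi γ, G η := P.mem_iSup.mpr fun η hη => by
          rw [map_sub, sub_eq_zero]
          rcases lt_or_eq_of_le (not_lt.mp hη) with h | h
          · rw [(P.mem_filt (F := fun γ => Submodule.pi Set.univ (fun b => F b γ)) hFG).mp ((hsingle γ x).mp hx) η h,
              P.ne η γ h.ne' _ (P.mem γ _)]
          · subst h; rw [P.same _ _ (P.mem _ _)]
        have h2 : (⨆ η ∈ Set.Ioi γ, G η).map proj ≤ Fp γ := by
          rw [Submodule.map_le_iff_le_comap]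
          refine iSup₂_le fun η hη y hy => hlt γ η hη ?_
          exact Groth.Agent.H24Filt.le_filt (F := fun γ => Submodule.pi Set.univ (fun b => F b γ)) hFG (le_refl η) hy a trivial
        have h3 := h2 (Submodule.mem_map_of_mem (f := proj) h1)
        rw [map_sub, show proj (single x) = x by simp [proj, single]] at h3
        exact h3
      let G' : Γ → Submodule R (M a) := fun γ => (F a γ).map (φ γ)
      refine ⟨G', Groth.Agent.H24Filt.splits_of_triangular (Fp := Fp) (hF a) (fun γ => ?_) hlt (fun γ x hx hxp => ?_) ?_⟩
      · rintro _ ⟨y, -, rfl⟩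
        exact hφF γ y
      · obtain ⟨y, hy, rfl⟩ := hx
        have h1 := hφp γ _ (hdiff γ y hy)
        rw [map_sub, hφp γ _ hxp, sub_zero] at h1
        exact h1
      · obtain ⟨s, hs, -⟩ := P.exists_support
        have key : ∀ (N : ℕ) γ, (s.filter (γ ≤ ·)).card ≤ N → F a γ ≤ ⨆ η, G' η := by
          intro N
          induction N with
          | zero =>
            intro γ hN x hx
            rw [Nat.le_zero, Finset.card_eq_zero] at hN
            have h0 : single x = 0 := by
              obtain ⟨t, -, ht⟩ := P.supp (single x)
              rw [ht]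
              refine Finset.sum_eq_zero fun η _ => ?_
              by_cases hη : η < γ
              · exact (P.mem_filt (F := fun γ => Submodule.pi Set.univ (fun b => F b γ)) hFG).mp ((hsingle γ x).mp hx) η hη
              · rw [hs η fun h => by
                  have : η ∈ s.filter (γ ≤ ·) := Finset.mem_filter.mpr ⟨h, not_lt.mp hη⟩
                  simp [hN] at this]
                rfl
            have : x = proj (single x) := by simp [proj, single]
            rw [this, h0, map_zero]; exact zero_mem _
          | succ N ih =>
            intro γ hN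
            by_cases he : s.filter (γ ≤ ·) = ∅
            · exact ih γ (by simp [he])
            · obtain hne := Finset.nonempty_iff_ne_empty.mpr he
              set η0 := (s.filter (γ ≤ ·)).min' hne with hη0
              have hmem : η0 ∈ s ∧ γ ≤ η0 := Finset.mem_filter.mp (Finset.min'_mem _ hne)
              have hFeq : F a γ ≤ F a η0 := fun x hx => by
                rw [hsingle]
                refine (P.mem_filt (F := fun γ => Submodule.pi Set.univ (fun b => F b γ)) hFG).mpr fun η hη => ?_
                by_cases hγη : η < γ
                · exact (P.mem_filt (F := fun γ => Submodule.pi Set.univ (fun b => F b γ)) hFG).mp ((hsingle γ x).mp hx) η hγη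
                · rw [hs η fun h => not_le.mpr hη (Finset.min'_le _ η (Finset.mem_filter.mpr ⟨h, not_lt.mp hγη⟩))]
                  rfl
              refine hFeq.trans fun x hx => ?_
              rw [← sub_add_cancel x (φ η0 x)]
              refine add_mem ?_ (Submodule.mem_iSup_of_mem η0 (Submodule.mem_map_of_mem hx))
              refine (iSup₂_le fun η hη => ih η ?_ : Fp η0 ≤ _) (hdiff η0 x hx)
              have hsub : s.filter (η ≤ ·) ⊂ s.filter (γ ≤ ·) := by
                refine (Finset.ssubset_iff_of_subset ?_).mpr ⟨η0, Finset.mem_filter.mpr hmem, fun h => ?_⟩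
                · intro i hi
                  rw [Finset.mem_filter] at hi ⊢
                  exact ⟨hi.1, hmem.2.trans ((Set.mem_Ioi.mp hη).le.trans hi.2)⟩
                · exact not_le.mpr (Set.mem_Ioi.mp hη) (Finset.mem_filter.mp h).2
              have := Finset.card_lt_card hsub
              omega
        refine eq_top_iff.mpr fun x _ => ?_
        let γ₀ : Γ := (insert 0 s).min' (Finset.insert_nonempty _ _)
        refine key _ γ₀ le_rfl ((hsingle γ₀ x).mpr ?_)
        refine (P.mem_filt (F := fun γ => Submodule.pi Set.univ (fun b => F b γ)) hFG).mpr fun η hη => ?_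
        rw [hs η fun h => not_le.mpr hη (Finset.min'_le _ η (Finset.mem_insert_of_mem h))]
        rfl
    · intro h
      choose G hG hFG using h
      let P := fun a => (Groth.Agent.H24Filt.exists_proj (hG a)).some
      have hspan : ∀ (S : Set Γ) (x : ∀ a, M a), (∀ a, x a ∈ ⨆ η ∈ S, G a η) →
          x ∈ ⨆ η ∈ S, Submodule.pi Set.univ (fun a => G a η) := by
        intro S x hx
        rw [← Finset.univ_sum_single x]
        refine sum_mem fun a _ => ?_
        have h1 : (⨆ η ∈ S, G a η).map (LinearMap.single R M a) ≤ ⨆ η ∈ S, Submodule.pi Set.univ (fun b => G b η) := by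
          rw [Submodule.map_le_iff_le_comap]
          refine iSup₂_le fun η hη y hy => ?_
          refine Submodule.mem_iSup_of_mem η (Submodule.mem_iSup_of_mem hη fun b _ => ?_)
          by_cases hb : b = a
          · subst hb; simpa using hy
          · simp [Pi.single_eq_of_ne hb]
        exact h1 ⟨x a, hx a, rfl⟩
      refine ⟨fun η => Submodule.pi Set.univ (fun a => G a η),
        Groth.Agent.H24Filt.isInternal_of_proj (fun γ => LinearMap.pi fun a => (P a).p γ ∘ₗ LinearMap.proj a)
          (fun γ x hx => funext fun a => (P a).same γ _ (hx a trivial))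
          (fun γ η hne x hx => funext fun a => (P a).ne γ η hne _ (hx a trivial))
          (eq_top_iff.mpr fun x _ => ?_), fun γ => le_antisymm (fun x hx => hspan _ x fun a => hFG a γ ▸ hx a trivial)
          (iSup₂_le fun η hη x hx a _ => Groth.Agent.H24Filt.le_filt (hFG a) hη (hx a trivial))⟩
      have := hspan Set.univ x fun a => by simp [(hG a).submodule_iSup_eq_top]
      simpa using this

end Groth.Agent.S19158
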