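import Groth.Statements.S19160
import Mathlib.Algebra.Order.Ring.Star
import Mathlib.Algebra.TrivSqZeroExt.Basic
import Mathlib.Order.CompletePartialOrder
import Mathlib.RingTheory.Flat.TorsionFree
import Mathlib.RingTheory.Henselian
import Mathlib.RingTheory.MvPolynomial.IrreducibleQuadratic
import Mathlib.RingTheory.PicardGroup
import Mathlib.RingTheory.RegularLocalRing.Defs
import Mathlib.RingTheory.SimpleRing.Principal
import Mathlib.RingTheory.TotallySplit

set_option autoImplicit false
open scoped TensorProduct
universe u
open PureMod

namespace Groth.Agent.S19160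

/-- (2) ⇒ (3): in affine form, let R be a commutative ring and i : A → B an R-linear map such that for
every commutative R-algebra R' the base change R' ⊗ A → R' ⊗ B is injective (the pull-back of i to
every affine scheme over Spec R is a monomorphism). Then F ⊗ A → F ⊗ B is injective for every
R-module F, i.e. i is universally injective (pure). (Modules and algebras are taken in the universe
of R.) -/
theorem result (R : Type u) [CommRing R]
    (A B : Type u) [AddCommGroup A] [Module R A] [AddCommGroup B] [Module R B] (i : A →ₗ[R] B)
    (h : ∀ (R' : Type u) [CommRing R'] [Algebra R R'], Function.Injective (i.baseChange R'))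
    (F : Type u) [AddCommGroup F] [Module R F] :
    Function.Injective (i.lTensor F) := by
  letI : Module Rᵐᵒᵖ F := Module.compHom F (RingEquiv.toOpposite R).symm.toRingHom
  haveI : IsCentralScalar R F := ⟨fun r x => rfl⟩
  have hi := h (TrivSqZeroExt R F)
  let s := LinearMap.rTensor A (TrivSqZeroExt.inrHom R F)
  intro x y hxy
  have h1 : LinearMap.rTensor B (TrivSqZeroExt.inrHom R F) (i.lTensor F x) = LinearMap.rTensor B (TrivSqZeroExt.inrHom R F) (i.lTensor F y) := by rw [hxy]
  rw [← LinearMap.comp_apply, ← LinearMap.comp_apply, LinearMap.rTensor_comp_lTensor, ← LinearMap.lTensor_comp_rTensor,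
    LinearMap.comp_apply, LinearMap.comp_apply] at h1
  have h2 : s x = s y := hi h1
  have h3 := congrArg (LinearMap.rTensor A (TrivSqZeroExt.sndHom R F)) h2
  simp only [s, ← LinearMap.comp_apply, ← LinearMap.rTensor_comp] at h3
  have h4 : (TrivSqZeroExt.sndHom R F) ∘ₗ (TrivSqZeroExt.inrHom R F) = LinearMap.id := LinearMap.ext fun z => rfl
  rwa [h4, LinearMap.rTensor_id_apply, LinearMap.rTensor_id_apply] at h3

end Groth.Agent.S19160
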