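import Groth.Statements.S19170
import Mathlib.Topology.Algebra.Group.Quotient
import Mathlib.GroupTheory.FiniteAbelian.Basic
import Mathlib.GroupTheory.Index

set_option autoImplicit false
universe u
open ProCompl

namespace Groth.Agent.S19170

/-- Let B be a topological abelian group generated as a group by a compact subset. Then every character
χ : B → ℚ/ℤ with open kernel (a continuous character for discrete ℚ/ℤ) has kernel of finite index;
consequently each such character factors through B^∧, the completion of B taken along its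
finite-index open subgroups, i.e. (B^∧)^D = B^D. (The published statement assumes moreover that B is
Hausdorff, locally compact and totally disconnected; only compact generation is needed for this
assertion, so those assumptions are dropped here.) -/
theorem result
    {B : Type u} [AddCommGroup B] [TopologicalSpace B] [IsTopologicalAddGroup B]
    (hcg : ∃ K : Set B, IsCompact K ∧ AddSubgroup.closure K = ⊤)
    (χ : B →+ ℚ ⧸ AddSubgroup.zmultiples (1 : ℚ)) (hχ : IsOpen (χ.ker : Set B)) : χ.ker.FiniteIndex := by
  obtain ⟨K, hK, hgen⟩ := hcg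
  have hloc : ∀ b : B, χ ⁻¹' {χ b} ∈ nhds b := fun b => by
    refine Filter.mem_of_superset ((hχ.preimage (continuous_id.sub continuous_const)).mem_nhds
      (show b - b ∈ (χ.ker : Set B) by simp)) fun x hx => ?_
    have := (AddMonoidHom.mem_ker).1 hx
    simpa [map_sub, sub_eq_zero] using this
  have hfin : (χ '' K).Finite := by
    obtain ⟨t, -, htK⟩ := hK.elim_nhds_subcover (fun b => χ ⁻¹' {χ b}) (fun b _ => hloc b)
    refine (t.finite_toSet.image χ).subset ?_
    rintro _ ⟨x, hx, rfl⟩
    obtain ⟨b, hb, hxb⟩ := Set.mem_iUnion₂.1 (htK hx)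
    exact ⟨b, hb, (show χ x = χ b from hxb).symm⟩
  haveI : AddGroup.FG χ.range := by
    rw [AddGroup.fg_iff_addSubgroup_fg]
    exact ⟨hfin.toFinset, by rw [Set.Finite.coe_toFinset, ← AddMonoidHom.map_closure, hgen, AddMonoidHom.range_eq_map]⟩
  haveI : Finite χ.range := by
    refine AddCommGroup.finite_of_fg_isAddTorsion _ (fun x => ?_)
    obtain ⟨q, hq⟩ := QuotientAddGroup.mk_surjective (x : ℚ ⧸ AddSubgroup.zmultiples (1 : ℚ))
    rw [isOfFinAddOrder_iff_nsmul_eq_zero]
    refine ⟨q.den, q.den_pos, Subtype.ext ?_⟩
    rw [AddSubmonoidClass.coe_nsmul, ← hq, ← QuotientAddGroup.mk_nsmul, ZeroMemClass.coe_zero,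
      QuotientAddGroup.eq_zero_iff, AddSubgroup.mem_zmultiples_iff]
    exact ⟨q.num, by rw [nsmul_eq_mul, zsmul_eq_mul, mul_one, mul_comm, Rat.mul_den_eq_num]⟩
  haveI : Finite (B ⧸ χ.ker) := Finite.of_equiv _ (QuotientAddGroup.quotientKerEquivRange χ).symm.toEquiv
  exact AddSubgroup.finiteIndex_of_finite_quotient

end Groth.Agent.S19170
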