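import Groth.Statements.S19172
import Mathlib

set_option autoImplicit false
universe u v w
open ProCompl

namespace Groth.Agent.S19172

open W4c61motalbduality in
/-- A family of residues meeting the image in every finite level comes from the completion. -/
theorem exists_map_eq {A : Type u} {B : Type v} [AddCommGroup A] [TopologicalSpace A]
    [IsTopologicalAddGroup A] [AddCommGroup B] [TopologicalSpace B] (f : A →+ B) (hf : Continuous f) (x : FICompl B)
    (h : ∀ V : OpenFI B, ∃ a, (QuotientAddGroup.mk (f a) : B ⧸ V.toAddSubgroup) = x.1 V) :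
    ∃ y, FICompl.map f hf y = x := by
  classical
  haveI : ∀ W : OpenFI A, DiscreteTopology (A ⧸ W.toAddSubgroup) := fun W =>
    QuotientAddGroup.discreteTopology W.isOpen'
  haveI : ∀ W : OpenFI A, Finite (A ⧸ W.toAddSubgroup) := fun W =>
    haveI := W.finiteIndex'; AddSubgroup.finite_quotient_of_finiteIndex
  let t : OpenFI B → Set ((W : OpenFI A) → A ⧸ W.toAddSubgroup) := fun V =>
    {y | QuotientAddGroup.map (V.comap f hf).toAddSubgroup V.toAddSubgroup f (V.comap_le f)
      (y (V.comap f hf)) = x.1 V}
  have hclosed : ∀ V, IsClosed (t V) := fun V =>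
    IsClosed.preimage (f := fun y : (W : OpenFI A) → A ⧸ W.toAddSubgroup => y (V.comap f hf))
      (continuous_apply (A := fun W : OpenFI A => A ⧸ W.toAddSubgroup) (V.comap f hf))
      (isClosed_discrete {r : A ⧸ (V.comap f hf).toAddSubgroup | QuotientAddGroup.map (V.comap f hf).toAddSubgroup V.toAddSubgroup f
      (V.comap_le f) r = x.1 V})
  have hC : IsClosed ((FICompl A : AddSubgroup _) : Set ((W : OpenFI A) → A ⧸ W.toAddSubgroup)) := by
    have : ((FICompl A : AddSubgroup _) : Set ((W : OpenFI A) → A ⧸ W.toAddSubgroup)) =
        ⋂ (U : OpenFI A) (V : OpenFI A) (h : U.toAddSubgroup ≤ V.toAddSubgroup),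
          {y | QuotientAddGroup.map U.toAddSubgroup V.toAddSubgroup (AddMonoidHom.id A) h (y U) = y V} := by
      ext y; simp only [Set.mem_iInter]; rfl
    rw [this]
    exact isClosed_iInter fun U => isClosed_iInter fun V => isClosed_iInter fun h =>
      isClosed_eq (continuous_of_discreteTopology.comp (continuous_apply U)) (continuous_apply V)
  obtain ⟨y, hy, hy'⟩ := hC.isCompact.inter_iInter_nonempty t hclosed fun u => by
    have hU : ∃ U : OpenFI B, ∀ V ∈ u, U.toAddSubgroup ≤ V.toAddSubgroup := by
      refine ⟨⟨u.inf fun V => V.toAddSubgroup, ?_, ?_⟩, fun V hV => Finset.inf_le hV⟩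
      · exact Finset.inf_induction (p := fun s : AddSubgroup B => IsOpen (s : Set B))
          (by simp) (fun a ha b hb => ha.inter hb) fun V _ => V.isOpen'
      · exact Finset.inf_induction (p := fun s : AddSubgroup B => s.FiniteIndex)
          inferInstance (fun a ha b hb => inferInstance) fun V _ => V.finiteIndex'
    obtain ⟨U, hU⟩ := hU
    obtain ⟨a, ha⟩ := h U
    refine ⟨(toFICompl A a).1, (toFICompl A a).2, Set.mem_iInter₂.mpr fun V hV => ?_⟩
    have h1 := x.2 U V (hU V hV)
    rw [← ha] at h1
    exact h1
  exact ⟨⟨y, hy⟩, Subtype.ext (funext fun V => Set.mem_iInter.mp hy' V)⟩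

open W4c61motalbduality in
/-- Let i : A → B and p : B → C be continuous homomorphisms of topological abelian groups with p
surjective and open and with the kernel of p equal to the image of i. Then the induced sequence of
completions with respect to open subgroups of finite index, A^∧ → B^∧ → C^∧ → 0, is exact: the map
B^∧ → C^∧ is surjective and its kernel is the image of A^∧. The completion is the group of
compatible families of residues modulo all open subgroups of finite index. (The published statement
takes i injective, as the first map of an exact sequence 0 → A → B → C → 0 of topological abelian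
groups; here it is only assumed that the image of i is the kernel of p, which is all the proof
uses.) -/
theorem result
    {A : Type u} {B : Type v} {C : Type w}
    [AddCommGroup A] [TopologicalSpace A] [IsTopologicalAddGroup A]
    [AddCommGroup B] [TopologicalSpace B] [IsTopologicalAddGroup B]
    [AddCommGroup C] [TopologicalSpace C] [IsTopologicalAddGroup C]
    (i : A →+ B) (hi : Continuous i) (p : B →+ C) (hp : Continuous p)
    (hpo : IsOpenMap p) (hps : Function.Surjective p) (hex : p.ker = i.range) :
    Function.Surjective (FICompl.map p hp) ∧ (FICompl.map p hp).ker = (FICompl.map i hi).range := by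
  refine ⟨fun z => ?_, le_antisymm (fun x hx => ?_) ?_⟩
  · refine exists_map_eq p hp z fun V => ?_
    obtain ⟨c, hc⟩ := QuotientAddGroup.mk_surjective (z.1 V)
    obtain ⟨b, rfl⟩ := hps c
    exact ⟨b, hc⟩
  · refine exists_map_eq i hi x fun U => ?_
    let V : OpenFI C :=
      { toAddSubgroup := U.toAddSubgroup.map p
        isOpen' := by
          rw [AddSubgroup.coe_map]
          exact hpo _ U.isOpen'
        finiteIndex' := by
          have := U.finiteIndex'
          exact ⟨ne_zero_of_dvd_ne_zero AddSubgroup.FiniteIndex.index_ne_zero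
            (AddSubgroup.index_map_dvd _ hps)⟩ }
    have hle : U.toAddSubgroup ≤ (V.comap p hp).toAddSubgroup := AddSubgroup.le_comap_map _ _
    obtain ⟨b, hb⟩ := QuotientAddGroup.mk_surjective (x.1 U)
    have h1 := x.2 U (V.comap p hp) hle
    rw [← hb, QuotientAddGroup.map_mk, AddMonoidHom.id_apply] at h1
    have h2 : QuotientAddGroup.map (V.comap p hp).toAddSubgroup V.toAddSubgroup p (V.comap_le p)
        (x.1 (V.comap p hp)) = 0 := congrFun (congrArg Subtype.val hx) V
    rw [← h1, QuotientAddGroup.map_mk, QuotientAddGroup.eq_zero_iff] at h2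
    obtain ⟨u, hu, hub⟩ := h2
    have h3 : b - u ∈ p.ker := by rw [AddMonoidHom.mem_ker, map_sub, hub, sub_self]
    rw [hex] at h3
    obtain ⟨a, ha⟩ := h3
    refine ⟨a, ?_⟩
    rw [← hb, QuotientAddGroup.eq, ha]
    have : -(b - u) + b = u := by abel
    rw [this]
    exact hu
  · rintro _ ⟨y, rfl⟩
    refine AddMonoidHom.mem_ker.mpr (Subtype.ext (funext fun V => ?_))
    show QuotientAddGroup.map _ V.toAddSubgroup p (V.comap_le p)
      (QuotientAddGroup.map _ (V.comap p hp).toAddSubgroup i ((V.comap p hp).comap_le i)
        (y.1 ((V.comap p hp).comap i hi))) = 0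
    obtain ⟨a, ha⟩ := QuotientAddGroup.mk_surjective (y.1 ((V.comap p hp).comap i hi))
    rw [← ha]
    show ((p (i a) : C) : C ⧸ V.toAddSubgroup) = 0
    rw [AddMonoidHom.mem_ker.mp (hex.ge ⟨a, rfl⟩ : i a ∈ p.ker)]
    rfl

end Groth.Agent.S19172
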