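import Groth.Statements.S19173
import Groth.Agent.H18Top.LocallyCompactAb

set_option autoImplicit false
universe u v
open ProCompl

namespace Groth.Agent.S19173

open W4c61motalbduality Topology in
/-- Let B be a Hausdorff, locally compact, totally disconnected topological abelian group generated as a
group by a compact subset, and let i : A → B be an injective continuous homomorphism inducing the
topology of A from that of B (a strict injection) with closed image. Then the map induced by i on
completions with respect to open subgroups of finite index is injective; together with right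
exactness for open surjections this makes 0 → A^∧ → B^∧ → C^∧ → 0 exact for a topological exact
sequence 0 → A → B → C → 0 with such B, strict closed i and open p. -/
theorem result
    {A : Type u} {B : Type v} [AddCommGroup A] [TopologicalSpace A] [IsTopologicalAddGroup A]
    [AddCommGroup B] [TopologicalSpace B] [IsTopologicalAddGroup B]
    [T2Space B] [LocallyCompactSpace B] [TotallyDisconnectedSpace B]
    (hcg : ∃ K : Set B, IsCompact K ∧ AddSubgroup.closure K = ⊤)
    (i : A →+ B) (hi : Continuous i) (hinj : Function.Injective i) (hind : IsInducing i)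
    (hcl : IsClosed (Set.range i)) :
    Function.Injective (FICompl.map i hi) := by
  obtain ⟨K, hK, hKg⟩ := hcg
  refine (injective_iff_map_eq_zero _).2 fun x hx => Subtype.ext (funext fun U => ?_)
  haveI := U.finiteIndex'
  obtain ⟨O, hO, hOA⟩ := hind.isOpen_iff.1 U.isOpen'
  have h0 : (0 : B) ∈ O := by
    have : (0 : A) ∈ i ⁻¹' O := hOA ▸ U.toAddSubgroup.zero_mem
    simpa using this
  obtain ⟨C, hCo, -, hCO⟩ := Groth.Agent.H18Top.exists_compact_openAddSubgroup hO h0
  let M : AddSubgroup B := C ⊔ U.toAddSubgroup.map i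
  have hM : ∀ a, i a ∈ M → a ∈ U.toAddSubgroup := fun a ha => by
    obtain ⟨c, hc, w, ⟨a', ha', rfl⟩, hcw⟩ := AddSubgroup.mem_sup.1 ha
    have h1 : i (a - a') = c := by rw [map_sub, ← hcw, add_sub_cancel_right]
    have h2 : a - a' ∈ (i ⁻¹' O) := by
      rw [Set.mem_preimage, h1]
      exact hCO hc
    rw [hOA] at h2
    have := U.toAddSubgroup.add_mem h2 ha'
    rwa [sub_add_cancel] at this
  have hMo : IsOpen (M : Set B) := AddSubgroup.isOpen_mono le_sup_left hCo
  haveI := Groth.Agent.H18Top.fg_quotient hK hKg M hMo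
  let f : A ⧸ U.toAddSubgroup →+ B ⧸ M := QuotientAddGroup.map _ _ i
    (fun a ha => show i a ∈ M from AddSubgroup.mem_sup_right ⟨a, ha, rfl⟩)
  haveI : Finite (A ⧸ U.toAddSubgroup) := inferInstance
  let S := {q : A ⧸ U.toAddSubgroup // f q ≠ 0}
  choose H hH hqH using fun q : S => Groth.Agent.H18Top.residuallyFinite_of_fg q.2
  let H' : AddSubgroup (B ⧸ M) := ⨅ q : S, H q
  haveI : H'.FiniteIndex := AddSubgroup.finiteIndex_iInf hH
  let V : W4c61motalbduality.OpenFI B :=
    ⟨H'.comap (QuotientAddGroup.mk' M), AddSubgroup.isOpen_mono (fun b hb => by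
        show (b : B ⧸ M) ∈ H'
        rw [(QuotientAddGroup.eq_zero_iff b).2 hb]
        exact zero_mem _) hMo,
      ⟨by rw [AddSubgroup.index_comap_of_surjective _ (QuotientAddGroup.mk'_surjective M)]
          exact AddSubgroup.FiniteIndex.index_ne_zero⟩⟩
  have hVU : (V.comap i hi).toAddSubgroup ≤ U.toAddSubgroup := fun a ha => by
    by_contra hau
    have hne : f (a : A ⧸ U.toAddSubgroup) ≠ 0 := fun h => hau (hM a ((QuotientAddGroup.eq_zero_iff (i a)).1 h))
    exact hqH ⟨_, hne⟩ (AddSubgroup.mem_iInf.1 (show (i a : B ⧸ M) ∈ H' from ha) ⟨_, hne⟩)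
  obtain ⟨a, ha⟩ := QuotientAddGroup.mk_surjective (x.1 (V.comap i hi))
  have h1 := congrArg (fun y : W4c61motalbduality.FICompl B => y.1 V) hx
  change QuotientAddGroup.map (V.comap i hi).toAddSubgroup V.toAddSubgroup i (V.comap_le i)
    (x.1 (V.comap i hi)) = 0 at h1
  rw [← ha, QuotientAddGroup.map_mk, QuotientAddGroup.eq_zero_iff] at h1
  rw [← x.2 (V.comap i hi) U hVU, ← ha]
  exact (QuotientAddGroup.eq_zero_iff a).2 (hVU h1)

end Groth.Agent.S19173
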