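import Groth.Statements.S19176
import Mathlib

set_option autoImplicit false
universe u
open PlaneCurve

namespace Groth.Agent.S19176

lemma finrank_quot_box (k : Type*) [Field k] (a b : ℕ) :
    Module.finrank k (MvPolynomial (Fin 2) k ⧸
      Ideal.span ({MvPolynomial.X 0 ^ a, MvPolynomial.X 1 ^ b} : Set (MvPolynomial (Fin 2) k))) = a * b := by
  classical
  set I : Ideal (MvPolynomial (Fin 2) k) := Ideal.span {MvPolynomial.X 0 ^ a, MvPolynomial.X 1 ^ b}
  let d : Fin a × Fin b → (Fin 2 →₀ ℕ) := fun p => Finsupp.single 0 (p.1 : ℕ) + Finsupp.single 1 (p.2 : ℕ)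
  let φ : MvPolynomial (Fin 2) k →ₗ[k] (Fin a × Fin b → k) :=
    LinearMap.pi fun p => MvPolynomial.lcoeff k (d p)
  have hφ : Function.Surjective φ := fun c => by
    refine ⟨∑ p, MvPolynomial.monomial (d p) (c p), ?_⟩
    funext q
    have hd : ∀ p, d p = d q ↔ p = q := fun p => by
      refine ⟨fun h => ?_, fun h => h ▸ rfl⟩
      have h0 := congrArg (fun f : Fin 2 →₀ ℕ => f 0) h
      have h1 := congrArg (fun f : Fin 2 →₀ ℕ => f 1) h
      simp [d] at h0 h1
      exact Prod.ext (Fin.ext h0) (Fin.ext h1)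
    simp [φ, MvPolynomial.coeff_sum, MvPolynomial.coeff_monomial, hd]
  have hk : LinearMap.ker φ = I.restrictScalars k := by
    ext f
    have hI : I = Ideal.span ((fun s => MvPolynomial.monomial s (1 : k)) ''
        ({Finsupp.single 0 a, Finsupp.single 1 b} : Set (Fin 2 →₀ ℕ))) := by
      simp [I, Set.image_insert_eq, MvPolynomial.X_pow_eq_monomial]
    rw [Submodule.restrictScalars_mem, hI, MvPolynomial.mem_ideal_span_monomial_image]
    simp only [φ, LinearMap.mem_ker, Set.mem_insert_iff, Set.mem_singleton_iff, exists_eq_or_imp, exists_eq_left,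
      Finsupp.single_le_iff, MvPolynomial.mem_support_iff]
    constructor
    · intro h x hx
      by_contra hn
      simp only [not_or, not_le] at hn
      refine hx ?_
      have := congrFun h (⟨x 0, hn.1⟩, ⟨x 1, hn.2⟩)
      have e : d (⟨x 0, hn.1⟩, ⟨x 1, hn.2⟩) = x := by ext i; fin_cases i <;> simp [d]
      simpa [e] using this
    · intro h
      funext p
      by_contra hp
      rcases h (d p) (by simpa using hp) with h' | h' <;> simp [d] at h' <;> omega
  have e := (φ.quotKerEquivOfSurjective hφ).finrank_eq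
  rw [hk, Module.finrank_fintype_fun_eq_card, Fintype.card_prod, Fintype.card_fin, Fintype.card_fin] at e
  rw [← e]
  exact (Submodule.Quotient.restrictScalarsEquiv k I).finrank_eq.symm


open MvPolynomial in
/-- Let k be a field of characteristic p (p = 0 allowed) and F = y² − x³ in k[x, y] (x the variable of
index 0, y of index 1). The singular subscheme of the plane curve F = 0, cut out by F and its two
partial derivatives, is finite over k of degree 4 when p = 2, of degree 3 when p = 3, and of degree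
2 otherwise: the k-dimension of k[x, y]/(F, ∂F/∂x, ∂F/∂y) is that number. (The source phrases this
through the complete local ring of a cusp; the row is the computation for the standard cusp y² =
x³.) -/
theorem result (k : Type u) [Field k] (p : ℕ) [CharP k p] :
    Module.finrank k (MvPolynomial (Fin 2) k ⧸ Ideal.span
      ({X 1 ^ 2 - X 0 ^ 3, pderiv 0 (X 1 ^ 2 - X 0 ^ 3), pderiv 1 (X 1 ^ 2 - X 0 ^ 3)} :
        Set (MvPolynomial (Fin 2) k))) = (if p = 2 then 4 else if p = 3 then 3 else 2) := by
  classical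
  have d0 : pderiv (R := k) 0 (X 1 ^ 2 - X 0 ^ 3) = C (-3) * X (0 : Fin 2) ^ 2 := by
    simp [pderiv_pow, pderiv_X, map_ofNat]
  have d1 : pderiv (R := k) 1 (X 1 ^ 2 - X 0 ^ 3) = C 2 * X (1 : Fin 2) := by
    simp [pderiv_pow, pderiv_X, map_ofNat]
  rw [d0, d1]
  have h2 : (2 : k) = 0 ↔ p = 2 := by
    have := CharP.cast_eq_zero_iff k p 2
    rw [Nat.cast_ofNat] at this
    rw [this]
    rcases CharP.char_is_prime_or_zero k p with h | h
    · exact ⟨(Nat.prime_dvd_prime_iff_eq h Nat.prime_two).1, fun e => e ▸ dvd_rfl⟩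
    · subst h; simp
  have h3 : (3 : k) = 0 ↔ p = 3 := by
    have := CharP.cast_eq_zero_iff k p 3
    rw [Nat.cast_ofNat] at this
    rw [this]
    rcases CharP.char_is_prime_or_zero k p with h | h
    · exact ⟨(Nat.prime_dvd_prime_iff_eq h Nat.prime_three).1, fun e => e ▸ dvd_rfl⟩
    · subst h; simp
  set x : MvPolynomial (Fin 2) k := X 0
  set y : MvPolynomial (Fin 2) k := X 1
  have u : ∀ (c : k), c ≠ 0 → ∀ (f : MvPolynomial (Fin 2) k) (J : Ideal (MvPolynomial (Fin 2) k)),
      C c * f ∈ J → f ∈ J := fun c hc f J h => by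
    have := J.mul_mem_left (C c⁻¹) h
    rwa [← mul_assoc, ← C_mul, inv_mul_cancel₀ hc, C_1, one_mul] at this
  set J : Ideal (MvPolynomial (Fin 2) k) := Ideal.span {y ^ 2 - x ^ 3, C (-3) * x ^ 2, C 2 * y} with hJ
  have m1 : y ^ 2 - x ^ 3 ∈ J := Ideal.subset_span (by simp)
  have m2 : C (-3) * x ^ 2 ∈ J := Ideal.subset_span (by simp)
  have m3 : C 2 * y ∈ J := Ideal.subset_span (by simp)
  suffices h : J = Ideal.span {x ^ (if p = 3 then 3 else 2), y ^ (if p = 2 then 2 else 1)} by
    rw [h]
    by_cases e2 : p = 2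
    · subst e2; simpa using finrank_quot_box k 2 2
    · by_cases e3 : p = 3
      · subst e3; simpa using finrank_quot_box k 3 1
      · rw [if_neg e2, if_neg e3, if_neg e2]; exact finrank_quot_box k 2 1
  refine le_antisymm (Ideal.span_le.2 ?_) (Ideal.span_le.2 ?_)
  · set K := Ideal.span {x ^ (if p = 3 then 3 else 2), y ^ (if p = 2 then 2 else 1)}
    have hx : x ^ (if p = 3 then 3 else 2) ∈ K := Ideal.subset_span (by simp)
    have hy : y ^ (if p = 2 then 2 else 1) ∈ K := Ideal.subset_span (by simp)
    simp only [Set.insert_subset_iff, Set.singleton_subset_iff, SetLike.mem_coe]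
    refine ⟨K.sub_mem (K.mem_of_dvd (pow_dvd_pow y (by split <;> omega)) hy)
      (K.mem_of_dvd (pow_dvd_pow x (by split <;> omega)) hx), ?_, ?_⟩
    · by_cases e3 : p = 3
      · rw [show (-3 : k) = 0 by simp [h3.2 e3]]; simp
      · rw [if_neg e3] at hx; exact K.mul_mem_left _ hx
    · by_cases e2 : p = 2
      · rw [h2.2 e2]; simp
      · rw [if_neg e2, pow_one] at hy; exact K.mul_mem_left _ hy
  · simp only [Set.insert_subset_iff, Set.singleton_subset_iff, SetLike.mem_coe]
    by_cases e3 : p = 3
    · have e2 : p ≠ 2 := by omega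
      have hy : y ∈ J := u 2 (mt h2.1 e2) _ _ m3
      rw [if_pos e3, if_neg e2, pow_one]
      refine ⟨?_, hy⟩
      have := J.sub_mem (J.mul_mem_left y hy) m1
      convert this using 1; ring
    · have hx : x ^ 2 ∈ J := u (-3) (by simpa using mt h3.1 e3) _ _ m2
      rw [if_neg e3]
      refine ⟨hx, ?_⟩
      by_cases e2 : p = 2
      · rw [if_pos e2]
        have := J.add_mem m1 (J.mul_mem_left x hx)
        convert this using 1; ring
      · rw [if_neg e2, pow_one]; exact u 2 (mt h2.1 e2) _ _ m3

end Groth.Agent.S19176
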