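import Groth.Statements.S19177
import Mathlib.FieldTheory.IsAlgClosed.Spectrum
import Mathlib.LinearAlgebra.Matrix.Charpoly.Eigs
import Mathlib.RingTheory.Etale.Weakly
import Mathlib.RingTheory.Henselian
import Mathlib.RingTheory.PicardGroup
import Mathlib.RingTheory.RegularLocalRing.Defs
import Mathlib.RingTheory.SimpleRing.Principal
import Mathlib.RingTheory.TotallySplit

set_option autoImplicit false
universe u
open CAlg

namespace Groth.Agent.S19177

/-- Let S → R be a homomorphism of commutative rings making R a finitely generated projective S-module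
of rank 2 at every prime of S (the affine form of a finite locally free morphism of degree 2). Then
the cokernel of the (injective) structure map S → R, the S-module R/S, is a projective S-module of
rank 1 at every prime of S (locally free of rank 1). -/
theorem result
    (S R : Type u) [CommRing S] [CommRing R] [Algebra S R] [Module.Finite S R] [Module.Projective S R]
    (h2 : ∀ p : PrimeSpectrum S, Module.rankAtStalk (R := S) R p = 2) :
    Module.Projective S (R ⧸ LinearMap.range (Algebra.linearMap S R)) ∧
      ∀ p : PrimeSpectrum S,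
        Module.rankAtStalk (R := S) (R ⧸ LinearMap.range (Algebra.linearMap S R)) p = 1 := by
  let ev : Module.Dual S R →ₗ[S] S := Module.Dual.eval S R 1
  have hev : LinearMap.range ev = ⊤ := by
    by_contra h
    obtain ⟨m, hm, hle⟩ := Ideal.exists_le_maximal (LinearMap.range ev) h
    obtain ⟨n, π, ι, -, -, hπι⟩ := Module.Finite.exists_comp_eq_id_of_projective S R
    have h1 : (1 : R) ∈ m.map (algebraMap S R) := by
      have hone : (1 : R) = ∑ i, (ι 1 i) • π (Pi.single i 1) := by
        conv_lhs => rw [← LinearMap.id_apply (R := S) (1 : R), ← hπι, LinearMap.comp_apply, pi_eq_sum_univ' (ι 1), map_sum]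
        simp
      rw [hone]
      refine Ideal.sum_mem _ fun i _ => ?_
      rw [Algebra.smul_def]
      exact Ideal.mul_mem_right _ _ (Ideal.mem_map_of_mem _ (hle ⟨(LinearMap.proj i).comp ι, rfl⟩))
    have htop : (⊤ : Submodule S R) ≤ m • (⊤ : Submodule S R) := fun x _ => by
      rw [Ideal.smul_top_eq_map, Submodule.restrictScalars_mem]
      simpa using Ideal.mul_mem_left _ x h1
    obtain ⟨r, hr, hr0⟩ := Submodule.exists_sub_one_mem_and_smul_eq_zero_of_fg_of_le_smul m ⊤ Module.Finite.fg_top htop
    have : Subsingleton (LocalizedModule m.primeCompl R) := by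
      rw [LocalizedModule.subsingleton_iff]
      intro x
      refine ⟨r, fun hrm => hm.ne_top ((Ideal.eq_top_iff_one m).mpr ?_), hr0 x trivial⟩
      simpa using sub_mem hrm hr
    have h3 := h2 ⟨m, hm.isPrime⟩
    rw [Module.rankAtStalk, Module.finrank_zero_of_subsingleton] at h3
    omega
  obtain ⟨φ, hφ⟩ : (1 : S) ∈ LinearMap.range ev := hev ▸ Submodule.mem_top
  have hφ1 : φ 1 = 1 := hφ
  have hc : IsCompl (LinearMap.range (Algebra.linearMap S R)) (LinearMap.ker φ) := by
    constructor
    · rw [Submodule.disjoint_def]
      rintro _ ⟨s, rfl⟩ hs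
      have : s = 0 := by simpa [Algebra.linearMap_apply, Algebra.algebraMap_eq_smul_one, hφ1] using hs
      simp [this]
    · rw [codisjoint_iff, eq_top_iff]
      intro x _
      rw [Submodule.mem_sup]
      exact ⟨_, ⟨φ x, rfl⟩, x - Algebra.linearMap S R (φ x), by
        simp [Algebra.linearMap_apply, Algebra.algebraMap_eq_smul_one, hφ1], by simp⟩
  have e := Submodule.quotientEquivOfIsCompl _ _ hc
  have hinj : Function.Injective (Algebra.linearMap S R) := fun a b hab => by
    simpa [Algebra.linearMap_apply, Algebra.algebraMap_eq_smul_one, hφ1] using congrArg φ hab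
  have e2 : (S × LinearMap.ker φ) ≃ₗ[S] R :=
    (LinearEquiv.prodCongr (LinearEquiv.ofInjective _ hinj) (LinearEquiv.refl S _)).trans (Submodule.prodEquivOfIsCompl _ _ hc)
  have : Module.Projective S (LinearMap.ker φ) :=
    Module.Projective.of_split (LinearMap.ker φ).subtype (Submodule.projectionOnto _ _ hc.symm)
      (LinearMap.ext fun x => Submodule.projectionOnto_apply_left hc.symm x)
  have : Module.Finite S (LinearMap.ker φ) := Module.Finite.of_surjective _ (Submodule.projectionOnto_surjective hc.symm)
  refine ⟨Module.Projective.of_equiv e.symm, fun p => ?_⟩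
  have : Nontrivial S := p.nontrivial
  have h4 := h2 p
  rw [← Module.rankAtStalk_eq_of_equiv e2, Module.rankAtStalk_prod, Pi.add_apply, Module.rankAtStalk_self, Pi.one_apply] at h4
  rw [Module.rankAtStalk_eq_of_equiv e]
  omega

end Groth.Agent.S19177
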