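import Groth.Statements.S1918
import Groth.Agent.H3Cyc.RatSplit
import Groth.Agent.H3Cyc.Gysin
-- import your own Groth.Agent.* helpers here

set_option autoImplicit false
universe u
open CategoryTheory AlgebraicGeometry
open CategoryTheory.Limits
open Cyc
open Groth.Agent
open Groth.Agent.H3Cyc

namespace Groth.Agent.S1918

/-- Mayer–Vietoris for Chow groups, exactness in the middle: let i₁ : X₁ → X, i₂ : X₂ → X be closed
immersions covering X set-theoretically and X₁₂ = X₁ ×_X X₂ their scheme-theoretic intersection. If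
k-cycles α₁ on X₁ and α₂ on X₂ have rationally equivalent pushforwards on X, then there is a k-cycle
β on X₁₂ with α₁ ∼_rat (pr₁)_*β on X₁ and α₂ ∼_rat (pr₂)_*β on X₂. (The published statement also
asserts that CH_k(X₁) ⊕ CH_k(X₂) → CH_k(X) is surjective; that is not asserted here.) Here a pair
(X, δ) with Cyc.IsSetup plays the role of a scheme locally of finite type over a fixed base with a
dimension function (X locally Noetherian with universally catenary local rings, δ a dimension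
function). -/
theorem result (X : Scheme.{u}) (δ : X → ℤ) (hX : Cyc.IsSetup X δ) (X₁ X₂ : Scheme.{u}) (i₁ : X₁ ⟶ X) (i₂ : X₂ ⟶ X) [IsClosedImmersion i₁] [IsClosedImmersion i₂] (hcov : Set.range ⇑i₁ ∪ Set.range ⇑i₂ = Set.univ) (k : ℤ) (α₁ : AlgebraicCycle X₁ ℤ) (α₂ : AlgebraicCycle X₂ ℤ) (h₁ : α₁ ∈ Cyc.Zk X₁ (fun x => δ (i₁ x)) k) (h₂ : α₂ ∈ Cyc.Zk X₂ (fun x => δ (i₂ x)) k) (h : Cyc.RatEquiv δ k (AlgebraicCycle.map i₁ (fun x => δ (i₁ x)) δ α₁) (AlgebraicCycle.map i₂ (fun x => δ (i₂ x)) δ α₂)) : ∃ β : AlgebraicCycle (pullback i₁ i₂) ℤ, β ∈ Cyc.Zk (pullback i₁ i₂) (fun z => δ (i₁ (pullback.fst i₁ i₂ z))) k ∧ Cyc.RatEquiv (fun x => δ (i₁ x)) k α₁ (AlgebraicCycle.map (pullback.fst i₁ i₂) (fun z => δ (i₁ (pullback.fst i₁ i₂ z))) (fun x => δ (i₁ x)) β) ∧ Cyc.RatEquiv (fun x => δ (i₂ x)) k α₂ (AlgebraicCycle.map (pullback.snd i₁ i₂) (fun z => δ (i₁ (pullback.fst i₁ i₂ z))) (fun x => δ (i₂ x))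 β) := by
  classical
haveI := hX.1
obtain ⟨G₁, G₂, hG₁, hG₂, hG⟩ := RatFam.split (S₁ := Set.range i₁) (S₂ := Set.range i₂)
  (RatFam.mono (le_of_eq hcov.symm) (RatFam.of_ratEquivZero h))
obtain ⟨γ₁, hγ₁, hγ₁k⟩ := hG₁.exists_cycle hX.2.2
let A : AlgebraicCycle X ℤ := AlgebraicCycle.map i₁ (fun x => δ (i₁ x)) δ α₁ - γ₁
have hA₁ : ∀ x, A x = AlgebraicCycle.map i₁ (fun x => δ (i₁ x)) δ α₁ x - G₁ x := fun x => by
  show _ - γ₁ x = _
  rw [hγ₁]
have hA₂ : ∀ x, A x = AlgebraicCycle.map i₂ (fun x => δ (i₂ x)) δ α₂ x + G₂ x := fun x => by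
  have h1 : AlgebraicCycle.map i₁ (fun x => δ (i₁ x)) δ α₁ x - AlgebraicCycle.map i₂ (fun x => δ (i₂ x)) δ α₂ x = G₁ x + G₂ x := hG x
  rw [hA₁]; omega
have hA₁0 : ∀ x, x ∉ Set.range i₁ → A x = 0 := fun x hx => by
  rw [hA₁, Gysin.map_immersion_eq_zero i₁ δ α₁ x hx, hG₁.eq_zero_of_notMem i₁.isClosedEmbedding.isClosed_range hx, sub_zero]
have hA₂0 : ∀ x, x ∉ Set.range i₂ → A x = 0 := fun x hx => by
  rw [hA₂, Gysin.map_immersion_eq_zero i₂ δ α₂ x hx, hG₂.eq_zero_of_notMem i₂.isClosedEmbedding.isClosed_range hx, add_zero]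
have hsq : ∀ z, i₁ (pullback.fst i₁ i₂ z) = i₂ (pullback.snd i₁ i₂ z) := fun z =>
  congrArg (fun g : pullback i₁ i₂ ⟶ X => g z) pullback.condition
let β : AlgebraicCycle (pullback i₁ i₂) ℤ := ⟨fun z => A (i₁ (pullback.fst i₁ i₂ z)), by simp, fun z _ => by
  obtain ⟨t', ht', hfin⟩ := A.supportLocallyFiniteWithinDomain' (i₁ (pullback.fst i₁ i₂ z)) trivial
  exact ⟨(pullback.fst i₁ i₂ ≫ i₁) ⁻¹' t', (pullback.fst i₁ i₂ ≫ i₁).continuous.continuousAt.preimage_mem_nhds ht',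
    (hfin.preimage (pullback.fst i₁ i₂ ≫ i₁).isEmbedding.injective.injOn).subset fun y hy => hy⟩⟩
have hA₁' : ∀ x, A (i₁ x) = α₁ x - G₁ (i₁ x) := fun x => by rw [hA₁, Gysin.map_immersion_apply]
have hA₂' : ∀ x, A (i₂ x) = α₂ x + G₂ (i₂ x) := fun x => by rw [hA₂, Gysin.map_immersion_apply]
refine ⟨β, fun z hz => ?_, ?_, ?_⟩
· show A (i₁ (pullback.fst i₁ i₂ z)) = 0
  rw [hA₁', h₁ _ hz, ← hγ₁, hγ₁k _ hz, sub_zero]
· refine RatFam.restrict i₁ hG₁ subset_rfl fun x => ?_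
  show α₁ x - AlgebraicCycle.map (pullback.fst i₁ i₂) (fun z => δ (i₁ (pullback.fst i₁ i₂ z))) (fun x => δ (i₁ x)) β x = _
  by_cases hx : x ∈ Set.range (pullback.fst i₁ i₂)
  · obtain ⟨z, rfl⟩ := hx
    rw [Gysin.map_immersion_apply (pullback.fst i₁ i₂) (fun x => δ (i₁ x)) β z]
    show _ - A (i₁ _) = _
    rw [hA₁']; ring
  · rw [Gysin.map_immersion_eq_zero (pullback.fst i₁ i₂) (fun x => δ (i₁ x)) β x hx, sub_zero]
    have h2 := hA₂0 (i₁ x) fun hr => hx (by rw [Scheme.Pullback.range_fst]; exact hr)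
    rw [hA₁'] at h2
    omega
· refine RatFam.restrict i₂ ((hG₂.zsmul (-1)).congr fun x => (neg_one_mul (G₂ x)).symm) (G := fun x => - G₂ x) subset_rfl fun x => ?_
  show α₂ x - AlgebraicCycle.map (pullback.snd i₁ i₂) (fun z => δ (i₁ (pullback.fst i₁ i₂ z))) (fun x => δ (i₂ x)) β x = - G₂ (i₂ x)
  rw [show (fun z => δ (i₁ (pullback.fst i₁ i₂ z))) = fun z => δ (i₂ (pullback.snd i₁ i₂ z)) from funext fun z => by rw [hsq]]
  by_cases hx : x ∈ Set.range (pullback.snd i₁ i₂)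
  · obtain ⟨z, rfl⟩ := hx
    rw [Gysin.map_immersion_apply (pullback.snd i₁ i₂) (fun x => δ (i₂ x)) β z]
    show _ - A (i₁ _) = _
    rw [hsq, hA₂']; ring
  · rw [Gysin.map_immersion_eq_zero (pullback.snd i₁ i₂) (fun x => δ (i₂ x)) β x hx, sub_zero]
    have h2 := hA₁0 (i₂ x) fun hr => hx (by rw [Scheme.Pullback.range_snd]; exact hr)
    rw [hA₂'] at h2
    omega

end Groth.Agent.S1918
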