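import Groth.Statements.S19180
import Groth.Agent.H10Coh.Pn.Results
import Groth.Agent.H10Coh.Kill
import Groth.Agent.H11Tilde.TwistPow
-- import your own Groth.Agent.* helpers here

set_option autoImplicit false
set_option linter.style.haveILetI false
universe u
open Coherent

namespace Groth.Agent.S19180

attribute [local instance 10000] Groth.Agent.H10Coh.hasSheafifyAb Groth.Agent.H10Coh.hasWeakSheafifyAb Groth.Agent.H10Coh.hasExtAb Groth.Agent.H10Coh.enoughInjAb


open CategoryTheory AlgebraicGeometry in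
/-- Let R be a local ring and m ≥ 1, and consider the projective line P¹_R with its structure sheaf O
and twisting sheaf O(m). For every O-module F and every short exact sequence 0 → O(m) → F → O → 0 of
O-modules, the surjection F → O admits a section; consequently F is isomorphic to O(m) ⊕ O. -/
theorem result (R : Type u) [CommRing R] [IsLocalRing R]
    (m : ℕ) (hm : 1 ≤ m) (F : (CohB1.ProjSpace 1 R).Modules)
    (i : Twist.twistProjSpace 1 R (m : ℤ) ⟶ F) (p : F ⟶ Coh.structureModule (CohB1.ProjSpace 1 R))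
    (w : i ≫ p = 0) (hex : (ShortComplex.mk i p w).ShortExact) :
    ∃ s : Coh.structureModule (CohB1.ProjSpace 1 R) ⟶ F, s ≫ p = 𝟙 _ := by
  have hS := Groth.Agent.H10Coh.shortExact_sh hex
  have hv : Subsingleton (Coh.HH (CohB1.ProjSpace 1 R) (Twist.twistProjSpace 1 R (m : ℤ)) 1) :=
    Groth.Agent.H10Coh.Pn.subsingleton_HH_Od (n := 1) (R := R) (d := (m : ℤ)) 1 (by omega) (by omega)
  have hv' : Subsingleton (Groth.Agent.H10Coh.Hn (Groth.Agent.H10Coh.sh (Twist.twistProjSpace 1 R (m : ℤ))) 1 ⊤) :=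
    (Groth.Agent.H10Coh.HHEquiv _ 1).symm.toEquiv.subsingleton
  obtain ⟨(g : Γ(F, ⊤)), hg⟩ := Groth.Agent.H10Coh.surjective_sections_of_subsingleton hS ⊤ hv'
    (1 : Γ(CohB1.ProjSpace 1 R, ⊤))
  refine ⟨Groth.Agent.H11Tilde.homOfGlobal F g, Scheme.Modules.hom_ext _ _ fun V => ConcreteCategory.hom_ext _ _ fun r => ?_⟩
  show p.app V ((Groth.Agent.H11Tilde.homOfGlobal F g).app V r) = r
  rw [Groth.Agent.H11Tilde.homOfGlobal_app, Scheme.Modules.Hom.app_smul]
  refine (congrArg (fun z : Γ(Coh.structureModule (CohB1.ProjSpace 1 R), V) => (show Γ(CohB1.ProjSpace 1 R, V) from r) • z) ((congr($((Scheme.Modules.Hom.mapPresheaf p).naturality (homOfLE (le_top : V ≤ ⊤)).op) g)).trans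
    ((congrArg _ hg).trans (map_one ((CohB1.ProjSpace 1 R).presheaf.map _).hom)))).trans ?_
  exact mul_one (show Γ(CohB1.ProjSpace 1 R, V) from r)

end Groth.Agent.S19180
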