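import Groth.Statements.S19181
import Mathlib.Algebra.Order.Ring.Star
import Mathlib.RingTheory.Finiteness.ModuleFinitePresentation
import Mathlib.RingTheory.Flat.TorsionFree
import Mathlib.RingTheory.Henselian
import Mathlib.RingTheory.MvPolynomial.IrreducibleQuadratic
import Mathlib.RingTheory.PicardGroup
import Mathlib.RingTheory.RegularLocalRing.Defs
import Mathlib.RingTheory.TotallySplit
import Mathlib.Tactic.LinearCombination
import Mathlib.Tactic.Ring

set_option autoImplicit false
universe u
open CAlg

namespace Groth.Agent.S19181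

open MvPolynomial in
/-- Let R be a commutative ring, a₁, a₂ ∈ R, and C ⊂ A²_R the curve y² + a₁xy = x³ + a₂x², blown up at
the section x = y = 0. In the chart where x = yα (variables y = X 0, α = X 1) the equation of C
becomes y²·g₁ with g₁ = 1 + a₁α − yα³ − a₂α², and the y-saturation of the ideal (y²g₁) is (g₁): for
s ∈ R[y, α], some yⁿs lies in (y²g₁) if and only if s ∈ (g₁). In the chart where y = xβ (variables x
= X 0, β = X 1) the equation becomes x²·g₂ with g₂ = β² + a₁β − x − a₂, and some xⁿs lies in (x²g₂)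
if and only if s ∈ (g₂). In other words the strict transform of C is cut out by g₁, resp. g₂, in the
two charts. -/
theorem result (R : Type u) [CommRing R] (a₁ a₂ : R) :
    (∀ s : MvPolynomial (Fin 2) R,
      (∃ n : ℕ, X 0 ^ n * s ∈ Ideal.span ({X 0 ^ 2 * (1 + C a₁ * X 1 - X 0 * X 1 ^ 3 - C a₂ * X 1 ^ 2)} :
        Set (MvPolynomial (Fin 2) R))) ↔
      s ∈ Ideal.span ({1 + C a₁ * X 1 - X 0 * X 1 ^ 3 - C a₂ * X 1 ^ 2} : Set (MvPolynomial (Fin 2) R))) ∧
    (∀ s : MvPolynomial (Fin 2) R,
      (∃ n : ℕ, X 0 ^ n * s ∈ Ideal.span ({X 0 ^ 2 * (X 1 ^ 2 + C a₁ * X 1 - X 0 - C a₂)} :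
        Set (MvPolynomial (Fin 2) R))) ↔
      s ∈ Ideal.span ({X 1 ^ 2 + C a₁ * X 1 - X 0 - C a₂} : Set (MvPolynomial (Fin 2) R))) := by
  classical
  have key : ∀ g : MvPolynomial (Fin 2) R,
      (MvPolynomial.aeval ![(0 : Polynomial R), Polynomial.X] g) ∈ nonZeroDivisors (Polynomial R) →
      ∀ s : MvPolynomial (Fin 2) R, (∃ n : ℕ, X 0 ^ n * s ∈ Ideal.span ({X 0 ^ 2 * g} : Set (MvPolynomial (Fin 2) R))) ↔
        s ∈ Ideal.span ({g} : Set (MvPolynomial (Fin 2) R)) := by
    intro g hg s
    constructor
    · rintro ⟨n, hn⟩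
      have hdiv : ∀ (n : ℕ) (h : MvPolynomial (Fin 2) R), X 0 ^ n ∣ h * g → X 0 ^ n ∣ h := by
        intro n
        induction n with
        | zero => intro h _; simp
        | succ n ih =>
          intro h ⟨c, hc⟩
          have h0 : MvPolynomial.aeval ![(0 : Polynomial R), Polynomial.X] h = 0 := by
            refine (mem_nonZeroDivisors_iff.mp hg).2 _ ?_
            rw [← map_mul, hc, map_mul, map_pow, aeval_X]
            simp
          have hX : (X 0 : MvPolynomial (Fin 2) R) ∣ h := by
            obtain ⟨e1, e2, he⟩ : ∃ e1 e2 : MvPolynomial (Fin 2) R, h = X 0 * e1 + e2 ∧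
                e2 = Polynomial.aeval (X 1 : MvPolynomial (Fin 2) R) (MvPolynomial.aeval ![(0 : Polynomial R), Polynomial.X] h) := by
              clear h0 hc
              induction h using MvPolynomial.induction_on with
              | C r => exact ⟨0, C r, by simp⟩
              | add p q hp hq =>
                obtain ⟨a1, a2, ha, ha'⟩ := hp
                obtain ⟨b1, b2, hb, hb'⟩ := hq
                exact ⟨a1 + b1, a2 + b2, by rw [ha, hb]; ring, by rw [map_add, map_add, ha', hb']⟩
              | mul_X p i hp =>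
                obtain ⟨a1, a2, ha, ha'⟩ := hp
                fin_cases i
                · exact ⟨p, 0, by simp; ring, by simp⟩
                · exact ⟨a1 * X 1, a2 * X 1, by simp [ha]; ring, by simp [ha']⟩
            obtain ⟨he, he'⟩ := he
            rw [h0, map_zero] at he'
            exact ⟨e1, by rw [he, he', add_zero]⟩
          obtain ⟨h', rfl⟩ := hX
          have h1 : X 0 * (h' * g) = X 0 * (X 0 ^ n * c) := by linear_combination hc
          rw [pow_succ']
          exact mul_dvd_mul_left _ (ih h' ⟨c, MvPolynomial.X_mul_cancel_left_iff.mp h1⟩)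
      obtain ⟨h, hh⟩ := Ideal.mem_span_singleton.mp hn
      obtain ⟨q, hq⟩ := hdiv n (X 0 ^ 2 * h) ⟨s, by rw [hh]; ring⟩
      refine Ideal.mem_span_singleton.mpr ⟨q, ?_⟩
      have h2 : X 0 ^ n * s = X 0 ^ n * (g * q) := by rw [hh, mul_left_comm _ g q, ← hq]; ring
      clear hn hdiv hh hq
      induction n with
      | zero => simpa using h2
      | succ n ih =>
        rw [pow_succ', mul_assoc, mul_assoc] at h2
        exact ih (MvPolynomial.X_mul_cancel_left_iff.mp h2)
    · intro hs
      obtain ⟨q, rfl⟩ := Ideal.mem_span_singleton.mp hs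
      exact ⟨2, Ideal.mem_span_singleton.mpr ⟨q, by ring⟩⟩
  refine ⟨key _ ?_, key _ ?_⟩
  · simp only [map_add, map_sub, map_one, map_mul, map_pow, aeval_X, aeval_C, Matrix.cons_val_zero, Matrix.cons_val_one, zero_mul, sub_zero]
    by_contra h
    obtain ⟨a, ha, h0⟩ := Polynomial.notMem_nonZeroDivisors_iff.mp h
    exact ha (by simpa using congrArg (Polynomial.coeff · 0) h0)
  · simp only [map_add, map_sub, map_mul, map_pow, aeval_X, aeval_C, Matrix.cons_val_zero, Matrix.cons_val_one, sub_zero]
    refine Polynomial.Monic.mem_nonZeroDivisors ?_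
    monicity!

end Groth.Agent.S19181
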