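import Groth.Statements.S19182
import Mathlib.Algebra.Order.Ring.Star
import Mathlib.RingTheory.Finiteness.ModuleFinitePresentation
import Mathlib.RingTheory.Flat.TorsionFree
import Mathlib.RingTheory.Henselian
import Mathlib.RingTheory.MvPolynomial.IrreducibleQuadratic
import Mathlib.RingTheory.PicardGroup
import Mathlib.RingTheory.RegularLocalRing.Defs
import Mathlib.RingTheory.TotallySplit
import Mathlib.Tactic.LinearCombination
import Mathlib.Tactic.Ring

set_option autoImplicit false
universe u
open CAlg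

namespace Groth.Agent.S19182

open MvPolynomial in
/-- Let R be a commutative ring and a₁, a₂ ∈ R. The two affine charts of the blow-up of the plane curve
y² + a₁xy = x³ + a₂x² at the section x = y = 0, with coordinate rings R[y, α]/(1 + a₁α − yα³ − a₂α²)
and R[x, β]/(β² + a₁β − x − a₂) (variables indexed 0 and 1 in this order), are smooth R-algebras
(formally smooth of finite presentation). This is the local computation behind the statement that
the blow-up of a Weierstrass curve along a section through its singular locus is a smooth proper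
curve of genus 0. -/
theorem result (R : Type u) [CommRing R] (a₁ a₂ : R) :
    Algebra.Smooth R (MvPolynomial (Fin 2) R ⧸
      Ideal.span ({1 + C a₁ * X 1 - X 0 * X 1 ^ 3 - C a₂ * X 1 ^ 2} : Set (MvPolynomial (Fin 2) R))) ∧
    Algebra.Smooth R (MvPolynomial (Fin 2) R ⧸
      Ideal.span ({X 1 ^ 2 + C a₁ * X 1 - X 0 - C a₂} : Set (MvPolynomial (Fin 2) R))) := by
  constructor
  · set g : MvPolynomial (Fin 2) R := 1 + C a₁ * X 1 - X 0 * X 1 ^ 3 - C a₂ * X 1 ^ 2 with hg
    let P := Polynomial R
    haveI : Algebra.Smooth R P := ⟨inferInstanceAs (Algebra.FormallySmooth R (Polynomial R)), inferInstanceAs (Algebra.FinitePresentation R (Polynomial R))⟩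
    let L := Localization.Away (Polynomial.X : P)
    obtain ⟨v, hv⟩ : ∃ v : L, algebraMap P L Polynomial.X * v = 1 :=
      (IsLocalization.Away.algebraMap_isUnit (S := L) (Polynomial.X : P)).exists_right_inv
    let φ₀ : MvPolynomial (Fin 2) R →ₐ[R] L := MvPolynomial.aeval
      ![algebraMap P L (1 + Polynomial.C a₁ * Polynomial.X - Polynomial.C a₂ * Polynomial.X ^ 2) * v ^ 3,
        algebraMap P L Polynomial.X]
    have hC : ∀ r : R, algebraMap R L r = algebraMap P L (Polynomial.C r) := fun r => IsScalarTower.algebraMap_apply R P L r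
    have hφg : φ₀ g = 0 := by
      simp only [hg, φ₀, map_add, map_sub, map_one, map_mul, map_pow, aeval_X, aeval_C, Matrix.cons_val_zero,
        Matrix.cons_val_one, hC]
      linear_combination -((1 + algebraMap P L (Polynomial.C a₁) * algebraMap P L Polynomial.X -
        algebraMap P L (Polynomial.C a₂) * algebraMap P L Polynomial.X ^ 2) *
          (1 + algebraMap P L Polynomial.X * v + algebraMap P L Polynomial.X ^ 2 * v ^ 2)) * hv
    let φ : (MvPolynomial (Fin 2) R ⧸ Ideal.span ({g} : Set (MvPolynomial (Fin 2) R))) →ₐ[R] L :=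
      Ideal.Quotient.liftₐ _ φ₀ fun x hx => by
        obtain ⟨q, rfl⟩ := Ideal.mem_span_singleton.mp hx
        rw [map_mul, hφg, zero_mul]
    let mkq := Ideal.Quotient.mkₐ R (Ideal.span ({g} : Set (MvPolynomial (Fin 2) R)))
    let ψ₀ : P →ₐ[R] (MvPolynomial (Fin 2) R ⧸ Ideal.span ({g} : Set (MvPolynomial (Fin 2) R))) :=
      Polynomial.aeval (mkq (X 1))
    have hu : IsUnit (ψ₀ Polynomial.X) := by
      refine IsUnit.of_mul_eq_one (mkq (X 0 * X 1 ^ 2 - C a₁ + C a₂ * X 1)) ?_
      rw [show ψ₀ Polynomial.X = mkq (X 1) from Polynomial.aeval_X _, ← map_mul, ← map_one mkq]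
      refine Ideal.Quotient.eq.mpr (Ideal.mem_span_singleton.mpr ⟨-1, ?_⟩)
      rw [hg]; ring
    let ψ : L →ₐ[R] (MvPolynomial (Fin 2) R ⧸ Ideal.span ({g} : Set (MvPolynomial (Fin 2) R))) :=
      IsLocalization.liftAlgHom (M := Submonoid.powers (Polynomial.X : P)) (f := ψ₀) fun ⟨y, n, hy⟩ => by
        subst hy; simpa using hu.pow n
    have hψP : ∀ q : P, ψ (algebraMap P L q) = ψ₀ q := fun q => IsLocalization.lift_eq _ q
    have h1 : φ.comp ψ = AlgHom.id R L := by
      refine IsLocalization.algHom_ext (Submonoid.powers (Polynomial.X : P)) (Polynomial.algHom_ext ?_)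
      show φ (ψ (algebraMap P L Polynomial.X)) = algebraMap P L Polynomial.X
      rw [hψP, show ψ₀ Polynomial.X = mkq (X 1) from Polynomial.aeval_X _]
      show φ₀ (X 1) = _
      simp [φ₀]
    have h2 : ψ.comp φ = AlgHom.id R _ := by
      refine Ideal.Quotient.algHom_ext R (MvPolynomial.algHom_ext fun i => ?_)
      show ψ (φ₀ (X i)) = mkq (X i)
      fin_cases i
      · have hX1 : ψ (algebraMap P L Polynomial.X) = mkq (X 1) := by rw [hψP]; exact Polynomial.aeval_X _
        have hv' : mkq (X 1) * ψ v = 1 := by rw [← hX1, ← map_mul, hv, map_one]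
        have hCq : ∀ r : R, ψ (algebraMap P L (Polynomial.C r)) = mkq (C r) := fun r => by
          rw [← hC, AlgHom.commutes, ← MvPolynomial.algebraMap_eq, AlgHom.commutes]
        have hg0 : mkq (1 + C a₁ * X 1 - X 0 * X 1 ^ 3 - C a₂ * X 1 ^ 2) = 0 :=
          Ideal.Quotient.eq_zero_iff_mem.mpr (Ideal.mem_span_singleton_self g)
        simp only [map_add, map_sub, map_one, map_mul, map_pow] at hg0
        simp only [φ₀, aeval_X, Fin.zero_eta, Fin.mk_one, Matrix.cons_val_zero, map_add, map_sub, map_one, map_mul, map_pow, hX1, hCq]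
        linear_combination (ψ v) ^ 3 * hg0 + mkq (X 0) * (1 + mkq (X 1) * ψ v + mkq (X 1) ^ 2 * ψ v ^ 2) * hv'
      · simp only [φ₀, aeval_X, Fin.zero_eta, Fin.mk_one, Matrix.cons_val_one, Matrix.cons_val_zero, hψP]
        exact Polynomial.aeval_X _
    haveI : Algebra.Smooth P L := ⟨inferInstance, IsLocalization.Away.finitePresentation (Polynomial.X : P)⟩
    haveI : Algebra.Smooth R L := Algebra.Smooth.comp R P L
    exact Algebra.Smooth.of_equiv (AlgEquiv.ofAlgHom φ ψ h1 h2).symm
  · set g : MvPolynomial (Fin 2) R := X 1 ^ 2 + C a₁ * X 1 - X 0 - C a₂ with hg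
    let P := Polynomial R
    haveI : Algebra.Smooth R P := ⟨inferInstanceAs (Algebra.FormallySmooth R (Polynomial R)), inferInstanceAs (Algebra.FinitePresentation R (Polynomial R))⟩
    let φ₀ : MvPolynomial (Fin 2) R →ₐ[R] P := MvPolynomial.aeval
      ![Polynomial.X ^ 2 + Polynomial.C a₁ * Polynomial.X - Polynomial.C a₂, Polynomial.X]
    let φ : (MvPolynomial (Fin 2) R ⧸ Ideal.span ({g} : Set (MvPolynomial (Fin 2) R))) →ₐ[R] P :=
      Ideal.Quotient.liftₐ _ φ₀ fun x hx => by
        obtain ⟨q, rfl⟩ := Ideal.mem_span_singleton.mp hx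
        rw [map_mul, show φ₀ g = 0 by simp [hg, φ₀, P, ← Polynomial.C_eq_algebraMap], zero_mul]
    let mkq := Ideal.Quotient.mkₐ R (Ideal.span ({g} : Set (MvPolynomial (Fin 2) R)))
    let ψ : P →ₐ[R] (MvPolynomial (Fin 2) R ⧸ Ideal.span ({g} : Set (MvPolynomial (Fin 2) R))) :=
      Polynomial.aeval (mkq (X 1))
    have h1 : φ.comp ψ = AlgHom.id R P := by
      refine Polynomial.algHom_ext ?_
      show φ (ψ Polynomial.X) = Polynomial.X
      rw [show ψ Polynomial.X = mkq (X 1) from Polynomial.aeval_X _]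
      show φ₀ (X 1) = _
      simp [φ₀]
    have h2 : ψ.comp φ = AlgHom.id R _ := by
      refine Ideal.Quotient.algHom_ext R (MvPolynomial.algHom_ext fun i => ?_)
      show ψ (φ₀ (X i)) = mkq (X i)
      fin_cases i
      · have hg0 : mkq (X 1 ^ 2 + C a₁ * X 1 - X 0 - C a₂) = 0 :=
          Ideal.Quotient.eq_zero_iff_mem.mpr (Ideal.mem_span_singleton_self g)
        simp only [map_add, map_sub, map_mul, map_pow] at hg0
        have hX : ψ Polynomial.X = mkq (X 1) := Polynomial.aeval_X _
        have hCq : ∀ r : R, ψ (Polynomial.C r) = mkq (C r) := fun r => by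
          rw [← MvPolynomial.algebraMap_eq, AlgHom.commutes]
          exact ψ.commutes r
        simp only [φ₀, aeval_X, Fin.zero_eta, Fin.mk_one, Matrix.cons_val_zero, map_add, map_sub, map_mul, map_pow, hX, hCq]
        linear_combination hg0
      · simp only [φ₀, ψ, aeval_X, Fin.mk_one, Matrix.cons_val_one, Matrix.cons_val_zero]
        exact Polynomial.aeval_X _
    exact Algebra.Smooth.of_equiv (AlgEquiv.ofAlgHom φ ψ h1 h2).symm

end Groth.Agent.S19182
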