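import Groth.Statements.S19183
import Mathlib.Algebra.Order.Ring.Star
import Mathlib.Algebra.TrivSqZeroExt.Basic
import Mathlib.Order.CompletePartialOrder
import Mathlib.RingTheory.Flat.TorsionFree
import Mathlib.RingTheory.Henselian
import Mathlib.RingTheory.MvPolynomial.IrreducibleQuadratic
import Mathlib.RingTheory.PicardGroup
import Mathlib.RingTheory.RegularLocalRing.Defs
import Mathlib.RingTheory.SimpleRing.Principal
import Mathlib.RingTheory.TotallySplit

set_option autoImplicit false
universe u
open CAlg

namespace Groth.Agent.S19183

/-- Let A be a non-zero commutative ring and f ∈ A a non-zero-divisor. The fibre product A ×_{A/(f)} A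
of two copies of A over A/(f) — the A-submodule of A × A of pairs (x, y) with x − y ∈ (f), which is
the coordinate ring of two copies of Spec A glued along the Cartier divisor f = 0 — is a free
A-module of rank 2. (This is what makes the gluing of two copies of a curve along an effective
Cartier divisor finite locally free of degree 2 over the curve.) -/
theorem result (A : Type u) [CommRing A] [Nontrivial A]
    (f : A) (hf : f ∈ nonZeroDivisors A) :
    Module.Free A (Submodule.comap (LinearMap.fst A A A - LinearMap.snd A A A) (Ideal.span ({f} : Set A))) ∧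
      Module.finrank A (Submodule.comap (LinearMap.fst A A A - LinearMap.snd A A A) (Ideal.span ({f} : Set A))) = 2 := by
  set N := Submodule.comap (LinearMap.fst A A A - LinearMap.snd A A A) (Ideal.span ({f} : Set A))
  let φ : (A × A) →ₗ[A] A × A := ((LinearMap.fst A A A + f • LinearMap.snd A A A).prod (LinearMap.fst A A A))
  have hφ : ∀ z, φ z ∈ N := fun z => by
    simp [N, φ, Ideal.mem_span_singleton]
  have hb : Function.Bijective (φ.codRestrict N hφ) := by
    refine ⟨fun z w h => ?_, fun z => ?_⟩
    · have h' := congrArg Subtype.val h
      have h1 : z.1 + f * z.2 = w.1 + f * w.2 := congrArg Prod.fst h'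
      have h2 : z.1 = w.1 := congrArg Prod.snd h'
      rw [h2, add_right_inj] at h1
      exact Prod.ext h2 (sub_eq_zero.mp ((mem_nonZeroDivisors_iff.mp hf).1 _ (by rw [mul_sub, h1, sub_self])))
    · obtain ⟨⟨a, b⟩, h⟩ := z
      obtain ⟨c, hc⟩ := Ideal.mem_span_singleton'.mp (show a - b ∈ _ from h)
      exact ⟨(b, c), Subtype.ext (Prod.ext (show b + f * c = a by rw [mul_comm, hc, add_sub_cancel]) rfl)⟩
  let e := LinearEquiv.ofBijective _ hb
  exact ⟨Module.Free.of_equiv e, by rw [← e.finrank_eq]; simp⟩

end Groth.Agent.S19183
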