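import Groth.Statements.S19184
import Mathlib.Algebra.Order.Ring.Star
import Mathlib.Algebra.TrivSqZeroExt.Basic
import Mathlib.Order.CompletePartialOrder
import Mathlib.RingTheory.Flat.TorsionFree
import Mathlib.RingTheory.Henselian
import Mathlib.RingTheory.MvPolynomial.IrreducibleQuadratic
import Mathlib.RingTheory.PicardGroup
import Mathlib.RingTheory.RegularLocalRing.Defs
import Mathlib.RingTheory.SimpleRing.Principal
import Mathlib.RingTheory.TotallySplit

set_option autoImplicit false
universe u
open CAlg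

namespace Groth.Agent.S19184

open Polynomial in
/-- Let S be a commutative ring, a, b ∈ S, f = x² + ax + b ∈ S[x] and R = S[x]/(f), a free S-algebra of
rank 2. Let A ⊂ S[x] be the S-subalgebra of polynomials whose class in R lies in the image of S → R;
it is the fibre product S[x] ×_R S, the coordinate ring of the affine line over S with the degree-2
subscheme Spec R collapsed onto Spec S. Then A is a free S-module and S[x] is a finitely generated
A-module. -/
theorem result (S : Type u) [CommRing S] (a b : S) :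
    Module.Free S ((⊥ : Subalgebra S (S[X] ⧸ Ideal.span ({X ^ 2 + C a * X + C b} : Set S[X]))).comap
        (Ideal.Quotient.mkₐ S (Ideal.span ({X ^ 2 + C a * X + C b} : Set S[X])))) ∧
      Module.Finite ((⊥ : Subalgebra S (S[X] ⧸ Ideal.span ({X ^ 2 + C a * X + C b} : Set S[X]))).comap
        (Ideal.Quotient.mkₐ S (Ideal.span ({X ^ 2 + C a * X + C b} : Set S[X])))) S[X] := by
  rcases subsingleton_or_nontrivial S with hS | hS
  · have : Subsingleton S[X] := inferInstance
    exact ⟨Module.Free.of_subsingleton _ _, ⟨⟨∅, Subsingleton.elim _ _⟩⟩⟩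
  set q : S[X] := X ^ 2 + C a * X + C b
  have hq : q.Monic := by
    simp only [q]; monicity!
  have hdeg : q.natDegree = 2 := by simp only [q]; compute_degree!
  set N := ((⊥ : Subalgebra S (S[X] ⧸ Ideal.span ({q} : Set S[X]))).comap (Ideal.Quotient.mkₐ S (Ideal.span ({q} : Set S[X]))))
  have hmem : ∀ P : S[X], P ∈ N ↔ ∃ s Q, P = C s + q * Q := by
    intro P
    rw [Subalgebra.mem_comap, Algebra.mem_bot]
    constructor
    · rintro ⟨s, hs⟩
      have : P - C s ∈ Ideal.span ({q} : Set S[X]) := by
        rw [← Ideal.Quotient.eq]; exact hs.symm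
      obtain ⟨Q, hQ⟩ := Ideal.mem_span_singleton'.mp this
      exact ⟨s, Q, by rw [mul_comm, hQ, add_sub_cancel]⟩
    · rintro ⟨s, Q, rfl⟩
      refine ⟨s, ?_⟩
      rw [Ideal.Quotient.mkₐ_eq_mk, map_add, map_mul, Ideal.Quotient.mk_singleton_self, zero_mul, add_zero]
      rfl
  constructor
  · let φ : (S × S[X]) →ₗ[S] S[X] := (Polynomial.monomial 0).coprod (LinearMap.mulLeft S q)
    have hφ : ∀ z, φ z ∈ Subalgebra.toSubmodule N := fun z => (hmem _).mpr ⟨z.1, z.2, by simp [φ, monomial_zero_left]⟩
    have hb : Function.Bijective (φ.codRestrict _ hφ) := by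
      refine ⟨?_, fun z => ?_⟩
      · rw [← LinearMap.ker_eq_bot, LinearMap.ker_codRestrict, LinearMap.ker_eq_bot, injective_iff_map_eq_zero]
        rintro ⟨s, Q⟩ h
        simp only [φ, LinearMap.coprod_apply, monomial_zero_left, LinearMap.mulLeft_apply] at h
        have hQ : Q = 0 := by
          by_contra hQ
          have h1 : (q * Q).natDegree = 0 := by
            rw [show q * Q = -C s from eq_neg_of_add_eq_zero_right h, natDegree_neg, natDegree_C]
          rw [hq.natDegree_mul' hQ, hdeg] at h1
          omega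
        rw [hQ, mul_zero, add_zero, C_eq_zero] at h
        simp [h, hQ]
      · obtain ⟨s, Q, hz⟩ := (hmem z).mp z.2
        exact ⟨(s, Q), Subtype.ext (by simp [φ, monomial_zero_left, hz])⟩
    exact Module.Free.of_equiv (LinearEquiv.ofBijective _ hb : (S × S[X]) ≃ₗ[S] Subalgebra.toSubmodule N)
  · classical
    refine ⟨⟨{1, X}, ?_⟩⟩
    rw [eq_top_iff]
    intro P _
    have hd := modByMonic_add_div P q
    have hlt : (P %ₘ q).natDegree < 2 := hdeg ▸ natDegree_modByMonic_lt P hq (fun h => by simp [h] at hdeg)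
    obtain ⟨s, t, hr⟩ : ∃ s t, P %ₘ q = C t * X + C s := ⟨_, _, eq_X_add_C_of_natDegree_le_one (by omega)⟩
    let n1 : N := ⟨C s + q * (P /ₘ q), (hmem _).mpr ⟨s, _, rfl⟩⟩
    let n2 : N := ⟨C t, (hmem _).mpr ⟨t, 0, by simp⟩⟩
    have : P = n1 • (1 : S[X]) + n2 • (X : S[X]) := by
      conv_lhs => rw [← hd, hr]
      show _ = (C s + q * (P /ₘ q)) * 1 + C t * X
      ring
    rw [this]
    exact add_mem (Submodule.smul_mem _ _ (Submodule.subset_span (by simp))) (Submodule.smul_mem _ _ (Submodule.subset_span (by simp)))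

end Groth.Agent.S19184
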