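import Groth.Statements.S19186
import Mathlib.RingTheory.Coprime.Lemmas
import Mathlib.Tactic

set_option autoImplicit false
universe u
open OneMot

namespace Groth.Agent.S19186

/-- Let p and ℓ be distinct prime numbers, r and n natural numbers, and f : A → B a homomorphism of
abelian groups whose kernel and cokernel are annihilated by p^r (f a = 0 implies p^r • a = 0, and
every p^r • b lies in the image of f). Then f induces a bijection between the ℓ^n-torsion subgroups
of A and B and a bijection A/ℓ^n A → B/ℓ^n B. Spelled out without quotients: every ℓ^n-torsion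
element of B has exactly one ℓ^n-torsion preimage; an element of A whose image is an ℓ^n-multiple is
itself an ℓ^n-multiple; and every element of B is the sum of an image and an ℓ^n-multiple. -/
theorem result {A B : Type u} [AddCommGroup A] [AddCommGroup B] (f : A →+ B) (p ℓ r n : ℕ) (hp : p.Prime) (hl : ℓ.Prime) (hne : ℓ ≠ p) (hker : ∀ a : A, f a = 0 → p ^ r • a = 0) (hcoker : ∀ b : B, ∃ a : A, f a = p ^ r • b) : (∀ b : B, ℓ ^ n • b = 0 → ∃! a : A, ℓ ^ n • a = 0 ∧ f a = b) ∧ (∀ a : A, (∃ b' : B, f a = ℓ ^ n • b') → ∃ a' : A, a = ℓ ^ n • a') ∧ (∀ b : B, ∃ (a : A) (b' : B), b = f a + ℓ ^ n • b') := by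
  have cop : IsCoprime ((p : ℤ) ^ r) ((ℓ : ℤ) ^ n) := by
    apply IsCoprime.pow
    exact Nat.isCoprime_iff_coprime.mpr ((Nat.coprime_primes hp hl).mpr (Ne.symm hne))
  obtain ⟨u, v, huv⟩ := cop
  have one : ∀ {X : Type u} [AddCommGroup X] (x : X), x = u • (p ^ r • x) + v • (ℓ ^ n • x) := by
    intro X _ x
    rw [← natCast_zsmul x (p ^ r), ← natCast_zsmul x (ℓ ^ n), smul_smul, smul_smul, ← add_smul]
    push_cast
    rw [huv, one_smul]
  refine ⟨fun b hb => ?_, fun a ha => ?_, fun b => ?_⟩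
  · obtain ⟨a₀, ha₀⟩ := hcoker b
    have hfa : f (u • a₀) = b := by
      rw [map_zsmul, ha₀]; conv_rhs => rw [one b, hb, smul_zero, add_zero]
    have hk : p ^ r • (ℓ ^ n • (u • a₀)) = 0 := hker _ (by rw [map_nsmul, hfa, hb])
    refine ⟨u • (p ^ r • (u • a₀)), ⟨?_, ?_⟩, ?_⟩
    · rw [smul_comm (ℓ ^ n) u, smul_comm (ℓ ^ n) (p ^ r), hk, smul_zero]
    · rw [map_zsmul, map_nsmul, hfa]; conv_rhs => rw [one b, hb, smul_zero, add_zero]
    · rintro a ⟨ha1, ha2⟩
      have hz : p ^ r • (a - u • a₀) = 0 := hker _ (by rw [map_sub, ha2, hfa, sub_self])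
      rw [smul_sub, sub_eq_zero] at hz
      conv_lhs => rw [one a, ha1, smul_zero, add_zero, hz]
  · obtain ⟨b', hb'⟩ := ha
    obtain ⟨a₁, ha₁⟩ := hcoker b'
    have hz : p ^ r • (p ^ r • a - ℓ ^ n • a₁) = 0 := hker _ (by
      rw [map_sub, map_nsmul, map_nsmul, hb', ha₁, smul_comm, sub_self])
    rw [smul_sub, sub_eq_zero] at hz
    refine ⟨u • u • (p ^ r • a₁) + v • a + u • v • (p ^ r • a), ?_⟩
    conv_lhs => rw [one a, one (p ^ r • a), hz]
    simp only [smul_add, smul_comm (ℓ ^ n) u, smul_comm (ℓ ^ n) v, smul_comm (ℓ ^ n) (p ^ r)]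
    abel
  · obtain ⟨a₀, ha₀⟩ := hcoker b
    exact ⟨u • a₀, v • b, by rw [map_zsmul, ha₀, smul_comm (ℓ ^ n) v]; exact one b⟩

end Groth.Agent.S19186
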