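import Groth.Statements.S19187


set_option autoImplicit false
universe u
open Cpct

namespace Groth.Agent.S19187

open CategoryTheory AlgebraicGeometry in
/-- Let k be a field, X̄ and Ȳ schemes proper over Spec k, j : X → X̄ an open immersion with dense image
and v : Y → Ȳ an open immersion (compactifications of X and Y), f : X → Y a proper morphism and f̄ :
X̄ → Ȳ a morphism over Spec k with f̄ ∘ j = v ∘ f. Then the preimage under f̄ of the open v(Y) is
the open j(X); equivalently, the complement of X in X̄ is the preimage of the complement of Y in Ȳ.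
(The base field k is arbitrary: no perfectness assumption is needed.) -/
theorem result {k : Type u} [Field k] {X Y Xb Yb : Scheme.{u}} (a : Xb ⟶ Spec (CommRingCat.of k)) (b : Yb ⟶ Spec (CommRingCat.of k)) [IsProper a] [IsProper b] (j : X ⟶ Xb) [IsOpenImmersion j] (hj : Dense (Set.range j.base)) (v : Y ⟶ Yb) [IsOpenImmersion v] (f : X ⟶ Y) [IsProper f] (fb : Xb ⟶ Yb) (hfb : fb ≫ b = a) (hsq : j ≫ fb = f ≫ v) : fb ⁻¹ᵁ v.opensRange = j.opensRange := by
  ext y
  refine ⟨fun hy ↦ ?_, fun ⟨x, hx⟩ ↦ ⟨f x, ?_⟩⟩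
  · have : IsSeparated fb := by
      have : IsSeparated (fb ≫ b) := by rw [hfb]; infer_instance
      exact IsSeparated.of_comp fb b
    let W : Xb.Opens := fb ⁻¹ᵁ v.opensRange
    let t : X ⟶ W := IsOpenImmersion.lift W.ι j (by
      rw [Scheme.Opens.range_ι]
      rintro _ ⟨x, rfl⟩
      show fb (j x) ∈ v.opensRange
      rw [← Scheme.Hom.comp_apply, hsq]
      exact ⟨f x, rfl⟩)
    have ht : t ≫ W.ι = j := IsOpenImmersion.lift_fac _ _ _
    have h2 : t ≫ (fb ∣_ v.opensRange) = f ≫ v.isoOpensRange.hom := by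
      rw [← cancel_mono v.opensRange.ι, Category.assoc, morphismRestrict_ι, ← Category.assoc, ht,
        hsq, Category.assoc, Scheme.Hom.isoOpensRange_hom_ι]
    have : UniversallyClosed (t ≫ (fb ∣_ v.opensRange)) := by rw [h2]; infer_instance
    have : UniversallyClosed t := UniversallyClosed.of_comp_of_isSeparated t (fb ∣_ v.opensRange)
    by_contra hny
    have hcl := W.2.isOpenMap_subtype_val _ t.isClosedMap.isClosed_range.isOpen_compl
    obtain ⟨_, ⟨w, hw, rfl⟩, x, hx⟩ := hj.inter_open_nonempty _ hcl ⟨y, ⟨y, hy⟩, fun ⟨x, hx⟩ ↦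
      hny ⟨x, by rw [← ht, Scheme.Hom.comp_apply, hx]; rfl⟩, rfl⟩
    refine hw ⟨x, Subtype.ext ?_⟩
    show W.ι (t x) = _
    rw [← Scheme.Hom.comp_apply, ht]
    exact hx
  · rw [← hx, ← Scheme.Hom.comp_apply, ← Scheme.Hom.comp_apply, hsq]

end Groth.Agent.S19187
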