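import Groth.Statements.S19189
import Groth.Agent.H16Derived.Heart
import Mathlib.Tactic.NoncommRing

set_option autoImplicit false
universe v u
open CategoryTheory CategoryTheory.Limits CategoryTheory.Pretriangulated CategoryTheory.Triangulated
open CohDer

namespace Groth.Agent.S19189

open CategoryTheory CategoryTheory.Limits CategoryTheory.Pretriangulated
open scoped ZeroObject

section
variable {C : Type u} [Category.{v} C] [Preadditive C]

def Splits {X : C} (e : X ⟶ X) : Prop := ∃ (Y : C) (i : Y ⟶ X) (p : X ⟶ Y), i ≫ p = 𝟙 Y ∧ p ≫ i = e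

lemma splits_of_sq_zero {X : C} {e e' : X ⟶ X} (he : e ≫ e = e) (he' : e' ≫ e' = e')
    (hsq : (e - e') ≫ (e - e') = 0) (h : Splits e') : Splits e := by
  obtain ⟨Y, i, p, hip, hpi⟩ := h
  let E : End X := e
  let E' : End X := e'
  have hE : E * E = E := he
  have hE' : E' * E' = E' := he'
  have hs : (E - E') * (E - E') = 0 := hsq
  have h1 : (E' * E + (1 - E') * (1 - E)) * (E * E' + (1 - E) * (1 - E')) = 1 := by
    have : (E' * E + (1 - E') * (1 - E)) * (E * E' + (1 - E) * (1 - E')) =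
        1 - (E - E') * (E - E') := by
      simp only [mul_add, add_mul, mul_sub, sub_mul, mul_one, one_mul, ← mul_assoc]
      simp only [mul_assoc, hE, hE']
      noncomm_ring
    rw [this, hs, sub_zero]
  have h2 : (E * E' + (1 - E) * (1 - E')) * E' * (E' * E + (1 - E') * (1 - E)) = E := by
    have e1 : (E * E' + (1 - E) * (1 - E')) * E' = E * E' := by
      simp only [add_mul, sub_mul, mul_sub, mul_one, one_mul, mul_assoc, hE']
      abel
    have e2 : E * E' = E * (E * E' + (1 - E) * (1 - E')) := by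
      simp only [mul_add, mul_sub, sub_mul, mul_one, one_mul, ← mul_assoc, hE]
      abel
    have h1' : (E * E' + (1 - E) * (1 - E')) * (E' * E + (1 - E') * (1 - E)) = 1 := by
      have : (E * E' + (1 - E) * (1 - E')) * (E' * E + (1 - E') * (1 - E)) =
          1 - (E - E') * (E - E') := by
        simp only [mul_add, add_mul, mul_sub, sub_mul, mul_one, one_mul, ← mul_assoc]
        simp only [mul_assoc, hE, hE']
        noncomm_ring
      rw [this, hs, sub_zero]
    rw [e1, e2, mul_assoc, h1', mul_one]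
  -- conjugate the splitting
  let u : X ⟶ X := (E * E' + (1 - E) * (1 - E') : End X)
  let u' : X ⟶ X := (E' * E + (1 - E') * (1 - E) : End X)
  have hu : u ≫ u' = 𝟙 X := h1
  have hu' : u' ≫ e' ≫ u = e := h2
  refine ⟨Y, i ≫ u, u' ≫ p, ?_, ?_⟩
  · simp [reassoc_of% hu, hip]
  · rw [Category.assoc, reassoc_of% hpi, hu']

omit [Preadditive C] in
lemma splits_of_iso {X X' : C} (φ : X ≅ X') (h : ∀ e : X' ⟶ X', e ≫ e = e → Splits e)
    (e : X ⟶ X) (he : e ≫ e = e) : Splits e := by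
  obtain ⟨Y, i, p, hip, hpi⟩ := h (φ.inv ≫ e ≫ φ.hom) (by simp [reassoc_of% he])
  refine ⟨Y, i ≫ φ.inv, φ.hom ≫ p, by simp [hip], ?_⟩
  simp [reassoc_of% hpi]

variable [HasZeroObject C] [HasShift C ℤ] [∀ n : ℤ, (shiftFunctor C n).Additive] [Pretriangulated C]

omit [Preadditive C] [HasZeroObject C] [∀ n : ℤ, (shiftFunctor C n).Additive] [Pretriangulated C] in
lemma splits_shift (n : ℤ) {X : C} (h : ∀ e : X⟦n⟧ ⟶ X⟦n⟧, e ≫ e = e → Splits e)
    (e : X ⟶ X) (he : e ≫ e = e) : Splits e := by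
  obtain ⟨Y, i, p, hip, hpi⟩ := h (e⟦n⟧') (by rw [← Functor.map_comp, he])
  let ψ : Y⟦(-n)⟧⟦n⟧ ≅ Y := (shiftFunctorCompIsoId C (-n) n (by lia)).app Y
  refine ⟨Y⟦(-n)⟧, (shiftFunctor C n).preimage (ψ.hom ≫ i), (shiftFunctor C n).preimage (p ≫ ψ.inv),
    (shiftFunctor C n).map_injective ?_, (shiftFunctor C n).map_injective ?_⟩
  · simp only [Functor.map_comp, Functor.map_preimage, CategoryTheory.Functor.map_id]
    simp [reassoc_of% hip]
  · simp only [Functor.map_comp, Functor.map_preimage]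
    simp [hpi]

lemma splits_middle {X Y Z : C} (f : X ⟶ Y) (g : Y ⟶ Z) (δ : Z ⟶ X⟦(1 : ℤ)⟧)
    (hT : Triangle.mk f g δ ∈ distinguishedTriangles) (a : X ⟶ X) (b : Y ⟶ Y) (c : Z ⟶ Z)
    (hb : b ≫ b = b) (h₁ : f ≫ b = a ≫ f) (h₂ : g ≫ c = b ≫ g)
    (h₃ : δ ≫ a⟦(1 : ℤ)⟧' = c ≫ δ) (hsa : Splits a) (hsc : Splits c) : Splits b := by
  obtain ⟨A, i, p, hip, hpi⟩ := hsa
  obtain ⟨B', j, q, hjq, hqj⟩ := hsc
  obtain ⟨B, f', g', hT'⟩ := distinguished_cocone_triangle₂ (j ≫ δ ≫ p⟦(1 : ℤ)⟧')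
  obtain ⟨(β : B ⟶ Y), hβ₁, hβ₂⟩ := complete_distinguished_triangle_morphism₂ _ _ hT' hT i j (by
    change (j ≫ δ ≫ p⟦(1 : ℤ)⟧') ≫ i⟦(1 : ℤ)⟧' = j ≫ δ
    rw [Category.assoc, Category.assoc, ← Functor.map_comp, hpi, h₃, ← hqj]
    simp [reassoc_of% hjq])
  obtain ⟨(γ : Y ⟶ B), hγ₁, hγ₂⟩ := complete_distinguished_triangle_morphism₂ _ _ hT hT' p q (by
    change δ ≫ p⟦(1 : ℤ)⟧' = q ≫ j ≫ δ ≫ p⟦(1 : ℤ)⟧'
    rw [← Category.assoc q, hqj, ← reassoc_of% h₃, ← Functor.map_comp, ← hpi, Category.assoc,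
      hip, Category.comp_id])
  have hβ₁' : f' ≫ β = i ≫ f := hβ₁
  have hβ₂' : g' ≫ j = β ≫ g := hβ₂
  have hγ₁' : f ≫ γ = p ≫ f' := hγ₁
  have hγ₂' : g ≫ q = γ ≫ g' := hγ₂
  have k₁ : f' ≫ β ≫ γ = f' := by rw [reassoc_of% hβ₁', hγ₁', reassoc_of% hip]
  have k₂ : (β ≫ γ) ≫ g' = g' := by
    rw [Category.assoc, ← hγ₂', ← reassoc_of% hβ₂', hjq, Category.comp_id]
  let T' := Triangle.mk f' g' (j ≫ δ ≫ p⟦(1 : ℤ)⟧')
  let φ : T' ⟶ T' := Triangle.homMk _ _ (𝟙 A) (β ≫ γ) (𝟙 B')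
    (k₁.trans (Category.id_comp f').symm) ((Category.comp_id g').trans k₂.symm)
    ((by simp : (j ≫ δ ≫ p⟦(1 : ℤ)⟧') ≫ (𝟙 A)⟦(1 : ℤ)⟧' = 𝟙 B' ≫ (j ≫ δ ≫ p⟦(1 : ℤ)⟧')))
  have : IsIso (β ≫ γ) := isIso₂_of_isIso₁₃ φ hT' hT' (inferInstanceAs (IsIso (𝟙 A)))
    (inferInstanceAs (IsIso (𝟙 B')))
  let γ' : Y ⟶ B := γ ≫ inv (β ≫ γ)
  have hb₁ : f ≫ γ' ≫ β = a ≫ f := by
    have : f' ≫ inv (β ≫ γ) = f' := by rw [IsIso.comp_inv_eq, k₁]
    simp only [γ', Category.assoc, reassoc_of% hγ₁', reassoc_of% this, hβ₁', reassoc_of% hpi]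
  have hb₂ : (γ' ≫ β) ≫ g = g ≫ c := by
    have : inv (β ≫ γ) ≫ g' = g' := by rw [IsIso.inv_comp_eq, k₂]
    simp only [γ', Category.assoc, ← hβ₂', reassoc_of% this, ← reassoc_of% hγ₂', hqj]
  refine splits_of_sq_zero (e' := γ' ≫ β) hb ?_ ?_ ⟨B, β, γ', ?_, rfl⟩
  · simp only [γ', Category.assoc, ← Category.assoc β γ, IsIso.hom_inv_id_assoc]
  · obtain ⟨(x : Y ⟶ X), hx⟩ := Triangle.coyoneda_exact₂ _ hT (b - γ' ≫ β)
      (show (b - γ' ≫ β) ≫ g = 0 by rw [Preadditive.sub_comp, ← h₂, hb₂, sub_self])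
    have hx' : b - γ' ≫ β = x ≫ f := hx
    conv_lhs => arg 1; rw [hx']
    have hb₁' : f ≫ γ ≫ inv (β ≫ γ) ≫ β = a ≫ f := by simpa [γ'] using hb₁
    simp [γ', Preadditive.comp_sub, h₁, hb₁']
  · simp only [γ', ← Category.assoc β γ, IsIso.hom_inv_id]

end

/-- Let `C` be a triangulated category (octahedron axiom included) and `t` a t-structure on `C` which is
bounded, i.e. every object of `C` is both `≥ a` and `≤ b` for some integers `a`, `b`. Then `C` is
idempotent complete (Karoubian): every idempotent endomorphism `p = p ≫ p` of an object splits as `p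
= e ≫ i` with `i ≫ e = 𝟙`. -/
theorem result {C : Type u} [Category.{v} C] [Preadditive C]
    [HasZeroObject C] [HasShift C ℤ] [∀ n : ℤ, (shiftFunctor C n).Additive] [Pretriangulated C]
    [IsTriangulated C] (t : TStructure C) (hb : ∀ X : C, t.bounded X) :
    IsIdempotentComplete C := by
  let : Abelian t.heart.FullSubcategory :=
    letI := t.hasHeartFullSubcategory
    Groth.Agent.H16Derived.heartAbelian t t.heart.FullSubcategory
  have key : ∀ (n : ℕ) (X : C) (a : ℤ), t.IsGE X a → t.IsLE X (a + n) →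
      ∀ e : X ⟶ X, e ≫ e = e → Splits e := by
    intro n
    induction n with
    | zero =>
      intro X a _ hle e he
      have hle' : t.IsLE X a := by simpa using hle
      refine splits_shift a (fun e he => ?_) e he
      have hm : t.heart (X⟦a⟧) := (t.mem_heart_iff _).2 ⟨t.isLE_shift X a a 0, t.isGE_shift X a a 0⟩
      obtain ⟨Y, i, p, hip, hpi⟩ := IsIdempotentComplete.idempotents_split
        (⟨X⟦a⟧, hm⟩ : t.heart.FullSubcategory) (ObjectProperty.homMk e)
        (t.heart.ι.map_injective he)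
      exact ⟨Y.obj, i.hom, p.hom, congrArg (fun φ => φ.hom) hip, congrArg (fun φ => φ.hom) hpi⟩
    | succ n ih =>
      intro X a _ hle e he
      let b : ℤ := a + n + 1
      have hle' : t.IsLE X b := by
        have : b = a + ((n + 1 : ℕ) : ℤ) := by simp [b]; lia
        exact this ▸ hle
      have h₁ : t.IsGE ((t.truncLT b).obj X) a := inferInstance
      have h₂ : t.IsLE ((t.truncLT b).obj X) (a + n) := t.isLE_truncLT_obj X b (a + n) (by lia)
      have h₃ : t.IsGE ((t.truncGE b).obj X) b := inferInstance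
      have h₄ : t.IsLE ((t.truncGE b).obj X) (b + (0 : ℕ)) := by
        simp only [Nat.cast_zero, add_zero]
        infer_instance
      have hs₃ : ∀ e : (t.truncGE b).obj X ⟶ (t.truncGE b).obj X, e ≫ e = e → Splits e := by
        intro e he
        refine splits_shift b (fun e he => ?_) e he
        have : t.IsLE ((t.truncGE b).obj X) b := inferInstance
        have hm : t.heart (((t.truncGE b).obj X)⟦b⟧) :=
          (t.mem_heart_iff _).2 ⟨t.isLE_shift _ b b 0, t.isGE_shift _ b b 0⟩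
        obtain ⟨Y, i, p, hip, hpi⟩ := IsIdempotentComplete.idempotents_split
          (⟨_, hm⟩ : t.heart.FullSubcategory) (ObjectProperty.homMk e)
          (t.heart.ι.map_injective he)
        exact ⟨Y.obj, i.hom, p.hom, congrArg (fun φ => φ.hom) hip, congrArg (fun φ => φ.hom) hpi⟩
      refine splits_middle _ _ _ (t.triangleLTGE_distinguished b X) ((t.truncLT b).map e) e
        ((t.truncGE b).map e) he ((t.truncLTι b).naturality e).symm
        ((t.truncGEπ b).naturality e).symm ((t.truncGEδLT b).naturality e).symm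
        (ih _ a h₁ h₂ _ (by rw [← Functor.map_comp, he]))
        (hs₃ _ (by rw [← Functor.map_comp, he]))
  refine ⟨fun X p hp => ?_⟩
  obtain ⟨⟨a, ha⟩, ⟨b, hb'⟩⟩ := hb X
  obtain ⟨n, hn⟩ : ∃ n : ℕ, b ≤ a + n := ⟨(b - a).toNat, by lia⟩
  exact key n X a ha (t.isLE_of_le X b (a + n) hn) p hp

end Groth.Agent.S19189
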