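import Groth.Statements.S1919
import Groth.Agent.S1875
import Groth.Agent.H27LangWeil.Pieces
import Groth.Agent.H8Props.FibreStalk
import Groth.Agent.H3CAlg.IntPt
import Groth.Agent.H3Cyc.RatRel
import Mathlib
-- import your own Groth.Agent.* helpers here

set_option autoImplicit false
set_option linter.style.haveILetI false
set_option backward.isDefEq.respectTransparency.types false
universe u
open CategoryTheory AlgebraicGeometry
open CategoryTheory.Limits
open RelCyc

namespace Groth.Agent.S1919

open TensorProduct Groth.Agent in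
theorem length_self_congr {R S : Type u} [CommRing R] [CommRing S] (e : R ≃+* S) :
    Module.length R R = Module.length S S := by
  letI := e.toRingHom.toAlgebra
  rw [← Module.length_eq_of_surjective (R := S) (S := R) (M := S) e.surjective]
  exact ({ e.toAddEquiv with map_smul' := fun a b => e.map_mul a b } : R ≃ₗ[R] S).length_eq

open TensorProduct Groth.Agent in
theorem universallyInjective_perfectClosure (k : Type u) [Field k] (p : ℕ) [Fact p.Prime] [CharP k p] :
    UniversallyInjective (Spec.map (CommRingCat.ofHom (PerfectClosure.of k p))) := by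
  haveI : ExpChar k p := ExpChar.prime Fact.out
  refine ((tfae_universallyInjective _).out 0 1).mpr ?_
  intro K hK g₁ g₂ hg
  obtain ⟨φ₁, rfl⟩ := Spec.map_surjective g₁
  obtain ⟨φ₂, rfl⟩ := Spec.map_surjective g₂
  have h2 : Spec.map (CommRingCat.ofHom (PerfectClosure.of k p) ≫ φ₁) =
      Spec.map (CommRingCat.ofHom (PerfectClosure.of k p) ≫ φ₂) := by
    rw [Spec.map_comp, Spec.map_comp]; exact hg
  have h3 := Spec.map_injective h2
  haveI : CharP K p := charP_of_injective_ringHom (φ₁.hom.comp (PerfectClosure.of k p)).injective p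
  haveI : ExpChar K p := ExpChar.prime Fact.out
  congr 1
  refine CommRingCat.hom_ext (RingHom.ext fun a => ?_)
  obtain ⟨n, b, hb⟩ := IsPRadical.pow_mem (i := PerfectClosure.of k p) p a
  refine iterateFrobenius_inj K p n ?_
  rw [iterateFrobenius_def, iterateFrobenius_def, ← map_pow, ← map_pow, ← hb]
  exact ConcreteCategory.congr_hom h3 b

open TensorProduct Groth.Agent in
theorem exists_pow_length (k : Type u) [Field k] (p : ℕ) [Fact p.Prime] [CharP k p] {X : Scheme.{u}}
    (f : X ⟶ Spec (CommRingCat.of k)) [LocallyOfFiniteType f]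
    (z : ↥(pullback f (Spec.map (CommRingCat.ofHom (PerfectClosure.of k p))))) :
    ∃ n : ℕ, Module.length ((pullback f (Spec.map (CommRingCat.ofHom (PerfectClosure.of k p)))).presheaf.stalk z)
      ((pullback f (Spec.map (CommRingCat.ofHom (PerfectClosure.of k p)))).presheaf.stalk z ⧸
        Ideal.map ((pullback.fst f (Spec.map (CommRingCat.ofHom (PerfectClosure.of k p)))).stalkMap z).hom
          (IsLocalRing.maximalIdeal (X.presheaf.stalk ((pullback.fst f (Spec.map (CommRingCat.ofHom (PerfectClosure.of k p)))) z)))) =
      (p ^ n : ℕ) := by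
  classical
  let j : Spec (CommRingCat.of (PerfectClosure k p)) ⟶ Spec (CommRingCat.of k) :=
    Spec.map (CommRingCat.ofHom (PerfectClosure.of k p))
  let π : pullback f j ⟶ X := pullback.fst f j
  haveI : UniversallyInjective j := universallyInjective_perfectClosure k p
  haveI : UniversallyInjective π :=
    MorphismProperty.of_isPullback (IsPullback.of_hasPullback f j).flip (inferInstance : UniversallyInjective j)
  letI alg : ∀ x : X, Algebra k (X.residueField x) := fun x =>
    (Spec.preimage (X.fromSpecResidueField x ≫ f)).hom.toAlgebra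
  have halg : ∀ x : X, Spec.map (CommRingCat.ofHom (algebraMap k (X.residueField x))) = X.fromSpecResidueField x ≫ f :=
    fun x => Spec.map_preimage _
  letI : Algebra k (PerfectClosure k p) := (PerfectClosure.of k p).toAlgebra
  haveI := H27LangWeil.essFiniteType_residueField f halg (π z)
  let T := PerfectClosure k p ⊗[k] X.residueField (π z)
  have hflip : IsPullback (π.fiberι (π z) ≫ pullback.snd f j) (π.fiberToSpecResidueField (π z))
      j (Spec.map (CommRingCat.ofHom (algebraMap k (X.residueField (π z))))) := by
    show IsPullback _ _ j (Spec.map (Spec.preimage (X.fromSpecResidueField (π z) ≫ f)))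
    rw [Spec.map_preimage]
    exact (IsPullback.of_hasPullback π (X.fromSpecResidueField (π z))).paste_horiz
      (IsPullback.of_hasPullback f j).flip
  let e : π.fiber (π z) ≅ Spec (CommRingCat.of T) :=
    hflip.isoPullback ≪≫ pullbackSpecIso k (PerfectClosure k p) (X.residueField (π z))
  have hsub : Subsingleton (π.fiber (π z)) := ⟨fun a b => (π.fiberι (π z)).isEmbedding.injective
    (π.injective (((π.range_fiberι (π z)).le ⟨a, rfl⟩ : π (π.fiberι (π z) a) = π z).trans
      ((π.range_fiberι (π z)).le ⟨b, rfl⟩ : π (π.fiberι (π z) b) = π z).symm))⟩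
  haveI hsubT : Subsingleton (Spec (CommRingCat.of T)) := e.hom.homeomorph.symm.toEquiv.subsingleton
  let q : PrimeSpectrum T := e.hom (π.asFiber z)
  have hq : q.asIdeal ∈ minimalPrimes T := ⟨⟨q.2, bot_le⟩, fun J hJ _ =>
    (congrArg PrimeSpectrum.asIdeal (@Subsingleton.elim _ hsubT q ⟨J, hJ.1⟩)).le⟩
  haveI : ExpChar k p := ExpChar.prime Fact.out
  obtain ⟨n, hn⟩ := S1875.result k (PerfectClosure k p) (X.residueField (π z)) (IntermediateField.fg_top k _) p q.asIdeal hq
  refine ⟨n, ?_⟩
  let I := Ideal.map (π.stalkMap z).hom (IsLocalRing.maximalIdeal (X.presheaf.stalk (π z)))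
  show Module.length _ ((pullback f j).presheaf.stalk z ⧸ I) = _
  rw [Module.length_eq_of_surjective (S := (pullback f j).presheaf.stalk z)
    (R := (pullback f j).presheaf.stalk z ⧸ I) Ideal.Quotient.mk_surjective, ← hn]
  refine length_self_congr ((H8Props.FibreStalk.asFiberStalkEquiv π z).trans ?_)
  exact (asIso (e.hom.stalkMap (π.asFiber z))).commRingCatIsoToRingEquiv.symm.trans
    (IsLocalization.algEquiv q.asIdeal.primeCompl ((Spec.structureSheaf T).presheaf.stalk q)
      (Localization.AtPrime q.asIdeal)).toRingEquiv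

/-- For a scheme X of finite type over a field k of characteristic p > 0, with base change X' = X ×_k k'
to the perfect closure k', the base change map Z_r(X) → Z_r(X') (flat pullback along the projection)
has p-power torsion cokernel: for every r-cycle β on X' some p^n β is the base change of an r-cycle
on X. Dimension functions are transcendence degrees of residue fields over the ground fields. -/
theorem result (k : Type u) [Field k] (p : ℕ) [Fact p.Prime] [CharP k p] (X : Scheme.{u}) (f : X ⟶ Spec (CommRingCat.of k)) [LocallyOfFiniteType f] [QuasiCompact f] (δ : X → ℤ) (hδ : Cyc.DeltaCompat f δ (fun _ => 0)) (δ' : ↥(pullback f (Spec.map (CommRingCat.ofHom (PerfectClosure.of k p)))) → ℤ) (hδ' : Cyc.DeltaCompat (pullback.snd f (Spec.map (CommRingCat.ofHom (PerfectClosure.of k p)))) δ' (fun _ => 0)) (r : ℤ) (β : AlgebraicCycle (pullback f (Spec.map (CommRingCat.ofHom (PerfectClosure.of k p)))) ℤ) (hβ : β ∈ Cyc.Zk _ δ' r) : ∃ (n : ℕ) (α : AlgebraicCycle X ℤ), α ∈ Cyc.Zk X δ r ∧ (p : ℤ) ^ n • ⇑β = Cyc.pullFun (pullback.fst f (Spec.map (CommRingCat.ofHom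 (PerfectClosure.of k p)))) δ' δ 0 ⇑α := by
  classical
  let j : Spec (CommRingCat.of (PerfectClosure k p)) ⟶ Spec (CommRingCat.of k) :=
    Spec.map (CommRingCat.ofHom (PerfectClosure.of k p))
  let π : pullback f j ⟶ X := pullback.fst f j
  haveI : UniversallyInjective j := universallyInjective_perfectClosure k p
  haveI : UniversallyInjective π :=
    MorphismProperty.of_isPullback (IsPullback.of_hasPullback f j).flip (inferInstance : UniversallyInjective j)
  haveI : IsIntegralHom j := by
    rw [IsIntegralHom.SpecMap_iff]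
    intro a
    obtain ⟨n, b, hb⟩ := IsPRadical.pow_mem (i := PerfectClosure.of k p) p a
    letI := (PerfectClosure.of k p).toAlgebra
    show _root_.IsIntegral k a
    refine IsIntegral.of_pow (pow_pos (Nat.Prime.pos (Fact.out : p.Prime)) n) ?_
    rw [← hb]
    exact isIntegral_algebraMap
  haveI : Surjective j := ⟨fun _ => ⟨IsLocalRing.closedPoint _, Subsingleton.elim (α := PrimeSpectrum k) _ _⟩⟩
  haveI : IsIntegralHom π :=
    MorphismProperty.of_isPullback (IsPullback.of_hasPullback f j).flip (inferInstance : IsIntegralHom j)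
  haveI : Surjective π :=
    MorphismProperty.of_isPullback (IsPullback.of_hasPullback f j).flip (inferInstance : Surjective j)
  have hhom : IsHomeomorph π := isHomeomorph_iff_continuous_isClosedMap_bijective.2
    ⟨π.continuous, π.isClosedMap, π.injective, π.surjective⟩
  haveI : LocallyOfFiniteType (pullback.snd f j) := inferInstance
  have hd : ∀ z, δ' z = δ (π z) := fun z => by
    obtain ⟨a, ha, ha'⟩ := Groth.Agent.H3CAlg.IntPt.delta_eq_cdim _ δ' hδ' z
    obtain ⟨b, hb, hb'⟩ := Groth.Agent.H3CAlg.IntPt.delta_eq_cdim f δ hδ (π z)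
    have h : Groth.Agent.H8Props.FieldDim.cdim (π z) = Groth.Agent.H8Props.FieldDim.cdim z := by
      rw [Groth.Agent.H8Props.FieldDim.cdim, Groth.Agent.H8Props.FieldDim.cdim]
      have he : π '' closure {z} = closure {π z} := by
        have h := hhom.homeomorph.image_closure {z}
        rw [Set.image_singleton] at h
        exact h
      rw [← he]
      exact (IsHomeomorph.topologicalKrullDim_eq _ (hhom.isEmbedding.homeomorphImage _).isHomeomorph).symm
    rw [ha, hb] at h
    have : b = a := by exact_mod_cast h
    omega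
  choose e he using fun z => exists_pow_length k p f z
  haveI : CompactSpace X := (quasiCompact_iff_compactSpace f).mp inferInstance
  haveI : CompactSpace ↥(pullback f j) := hhom.homeomorph.symm.compactSpace
  have hfin : {z | β z ≠ 0}.Finite := by
    have h := β.locallyFiniteSupport.finite_inter_support_of_isCompact (isCompact_univ (X := ↥(pullback f j)))
    rw [Set.univ_inter] at h
    exact h
  let N := hfin.toFinset.sup e
  let σ := (hhom.homeomorph).symm
  have hσ : ∀ z, σ (π z) = z := fun z => hhom.homeomorph.symm_apply_apply z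
  have hσ' : ∀ x, π (σ x) = x := fun x => hhom.homeomorph.apply_symm_apply x
  let α : AlgebraicCycle X ℤ :=
    ⟨fun x => β (σ x) * (p : ℤ) ^ (N - e (σ x)), by simp, fun x _ =>
      ⟨Set.univ, Filter.univ_mem, (hfin.image π).subset fun y hy =>
        ⟨σ y, left_ne_zero_of_mul hy.2, hσ' y⟩⟩⟩
  refine ⟨N, α, fun x hx => ?_, funext fun z => ?_⟩
  · show β (σ x) * _ = 0
    rw [hβ (σ x) (by rw [hd, hσ']; exact hx), zero_mul]
  · show (p : ℤ) ^ N • β z = _
    rw [Cyc.pullFun, if_pos (by rw [hd z, add_zero]), he z, ENat.toNat_coe]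
    show _ = β (σ (π z)) * (p : ℤ) ^ (N - e (σ (π z))) * _
    rw [hσ z, smul_eq_mul]
    by_cases h0 : β z = 0
    · rw [h0]; ring
    · have hle : e z ≤ N := Finset.le_sup ((Set.Finite.mem_toFinset _).2 h0)
      push_cast
      rw [mul_assoc, ← pow_add, Nat.sub_add_cancel hle, mul_comm]

end Groth.Agent.S1919
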