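import Groth.Statements.S19190

set_option autoImplicit false
universe w v u v' u'
open CategoryTheory CategoryTheory.Limits CategoryTheory.Pretriangulated CategoryTheory.Triangulated
open CohDer

namespace Groth.Agent.S19190

open CategoryTheory CategoryTheory.Limits CategoryTheory.Pretriangulated
open scoped ZeroObject

section
variable {A : Type w} [CommRing A] {T : Type u} [Category.{v} T] [Preadditive T] [Linear A T]
  [HasZeroObject T] [HasShift T ℤ]

/-- Objects killed by some element of `S`. -/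
def killed (S : Submonoid A) : ObjectProperty T := fun Z => ∃ s ∈ S, s • 𝟙 Z = 0

variable [∀ n : ℤ, (shiftFunctor T n).Additive] [∀ n : ℤ, (shiftFunctor T n).Linear A]
  [Pretriangulated T]

omit [∀ n : ℤ, (shiftFunctor T n).Additive] [∀ n : ℤ, (shiftFunctor T n).Linear A]
  [Pretriangulated T] [HasZeroObject T] [HasShift T ℤ] in
instance killed_retracts (S : Submonoid A) : (killed (T := T) S).IsStableUnderRetracts := by
  refine ⟨fun {X Y} r ⟨s, hs, h⟩ => ⟨s, hs, ?_⟩⟩
  rw [← r.retract]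
  calc s • (r.i ≫ r.r) = r.i ≫ (s • 𝟙 Y) ≫ r.r := by simp
    _ = 0 := by rw [h, zero_comp, comp_zero]

omit [∀ n : ℤ, (shiftFunctor T n).Additive] [∀ n : ℤ, (shiftFunctor T n).Linear A]
  [Pretriangulated T] [HasZeroObject T] [HasShift T ℤ] in
instance killed_iso (S : Submonoid A) : (killed (T := T) S).IsClosedUnderIsomorphisms :=
  ⟨fun {X Y} e h => (killed S).prop_of_retract ⟨e.inv, e.hom, e.inv_hom_id⟩ h⟩

instance killed_triangulated (S : Submonoid A) : (killed (T := T) S).IsTriangulated where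
  exists_zero := ⟨0, isZero_zero T, 1, S.one_mem, (isZero_zero T).eq_of_src _ _⟩
  isStableUnderShiftBy := fun n => ⟨fun X ⟨s, hs, h⟩ => ⟨s, hs, by
    rw [← CategoryTheory.Functor.map_id, ← Functor.map_smul, h, Functor.map_zero]⟩⟩
  toIsTriangulatedClosed₂ := ObjectProperty.IsTriangulatedClosed₂.mk' (fun D hD ⟨s, hs, h₁⟩ ⟨t, ht, h₃⟩ => by
    obtain ⟨x, hx⟩ := Triangle.coyoneda_exact₂ _ hD (t • 𝟙 D.obj₂) (by
      rw [Linear.smul_comp, Category.id_comp, ← Category.comp_id D.mor₂, ← Linear.comp_smul, h₃,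
        comp_zero])
    refine ⟨s * t, S.mul_mem hs ht, ?_⟩
    rw [mul_smul, hx, ← Linear.comp_smul, ← Category.id_comp D.mor₁, ← Linear.smul_comp, h₁,
      zero_comp, comp_zero])

end

/-- Let `A` be a commutative ring, `S` a multiplicative subset of `A` and `T` an `A`-linear triangulated
category (octahedron axiom included; the shift functors are `A`-linear). Call an object of `T`
`S`-torsion when it lies in the smallest thick subcategory `U` of `T` (a property of objects
containing zero, stable under shifts, extensions, isomorphisms and direct factors) containing every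
cone of an endomorphism `f • 𝟙 X` with `f ∈ S`. Let `Q : T ⥤ E` exhibit `E` as the localization of
`T` at the morphisms whose cone lies in `U` (the Verdier quotient `T/U`), where `E` is preadditive
and `A`-linear and `Q` is `A`-linear. Then for all objects `X`, `Y` of `T` the `A`-linear map
`Hom_T(X, Y) → Hom_E(Q X, Q Y)` given by `Q` exhibits its target as the localization of `Hom_T(X,
Y)` at `S`. Since `Q` is essentially surjective, this says that the comparison functor from `T/U` to
the category having the objects of `T` and morphism modules `Hom_T(X, Y) ⊗_A S⁻¹A` is an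
equivalence. -/
theorem result
    {A : Type w} [CommRing A] (S : Submonoid A)
    {T : Type u} [Category.{v} T] [Preadditive T] [Linear A T] [HasZeroObject T] [HasShift T ℤ]
    [∀ n : ℤ, (shiftFunctor T n).Additive] [∀ n : ℤ, (shiftFunctor T n).Linear A]
    [Pretriangulated T] [IsTriangulated T]
    (U : ObjectProperty T) [U.IsTriangulated] [U.IsClosedUnderIsomorphisms] [U.IsStableUnderRetracts]
    (hU : ∀ (X : T) (f : A), f ∈ S → ∀ (Z : T) (g : X ⟶ Z) (h : Z ⟶ X⟦(1 : ℤ)⟧),
      Triangle.mk (f • 𝟙 X) g h ∈ distTriang T → U Z)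
    (hmin : ∀ (U' : ObjectProperty T) [U'.IsTriangulated] [U'.IsClosedUnderIsomorphisms]
      [U'.IsStableUnderRetracts],
      (∀ (X : T) (f : A), f ∈ S → ∀ (Z : T) (g : X ⟶ Z) (h : Z ⟶ X⟦(1 : ℤ)⟧),
        Triangle.mk (f • 𝟙 X) g h ∈ distTriang T → U' Z) → U ≤ U')
    {E : Type u'} [Category.{v'} E] [Preadditive E] [Linear A E]
    (Q : T ⥤ E) [Q.Additive] [Q.Linear A] [Q.IsLocalization U.trW] (X Y : T) :
    IsLocalizedModule S (Q.mapLinearMap A : (X ⟶ Y) →ₗ[A] (Q.obj X ⟶ Q.obj Y)) := by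
  have hle : U ≤ killed S := hmin _ (fun X f hf Z g h hT => by
    have hg : f • g = 0 := by
      have : (f • 𝟙 X) ≫ g = 0 := comp_distTriang_mor_zero₁₂ _ hT
      rwa [Linear.smul_comp, Category.id_comp] at this
    have hh : f • h = 0 := by
      have : h ≫ (f • 𝟙 X)⟦(1 : ℤ)⟧' = 0 := comp_distTriang_mor_zero₃₁ _ hT
      rwa [Functor.map_smul, CategoryTheory.Functor.map_id, Linear.comp_smul, Category.comp_id] at this
    obtain ⟨(y : X⟦(1 : ℤ)⟧ ⟶ Z), hy⟩ := Triangle.yoneda_exact₃ _ hT (f • 𝟙 Z)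
      (show g ≫ (f • 𝟙 Z) = 0 by rw [Linear.comp_smul, Category.comp_id, hg])
    have hy' : f • 𝟙 Z = h ≫ y := hy
    refine ⟨f * f, S.mul_mem hf hf, ?_⟩
    rw [mul_smul, hy', ← Linear.smul_comp, hh, zero_comp])
  have key : ∀ {X' X : T} (w : X' ⟶ X), U.trW w → ∃ s ∈ S, ∃ v : X ⟶ X', v ≫ w = s • 𝟙 X := by
    rintro X' X w ⟨Z, g, h, hT, hZ⟩
    obtain ⟨s, hs, h0⟩ := hle Z hZ
    obtain ⟨(v : X ⟶ X'), hv⟩ := Triangle.coyoneda_exact₂ _ hT (s • 𝟙 X)
      (show (s • 𝟙 X) ≫ g = 0 by
        rw [Linear.smul_comp, Category.id_comp, ← Category.comp_id g, ← Linear.comp_smul, h0,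
          comp_zero])
    exact ⟨s, hs, v, hv.symm⟩
  constructor
  · intro s
    obtain ⟨Z, g, h, hT⟩ := distinguished_cocone_triangle ((s : A) • 𝟙 X)
    have hw : U.trW ((s : A) • 𝟙 X) := ⟨Z, g, h, hT, hU X s s.2 Z g h hT⟩
    have := Localization.inverts Q U.trW _ hw
    rw [Functor.map_smul, CategoryTheory.Functor.map_id] at this
    rw [Module.End.isUnit_iff]
    refine ⟨fun a b hab => ?_, fun c => ⟨inv ((s : A) • 𝟙 (Q.obj X)) ≫ c, ?_⟩⟩
    · rw [← cancel_epi ((s : A) • 𝟙 (Q.obj X))]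
      simpa using hab
    · change (s : A) • (inv ((s : A) • 𝟙 (Q.obj X)) ≫ c) = c
      calc (s : A) • (inv ((s : A) • 𝟙 (Q.obj X)) ≫ c)
          = ((s : A) • 𝟙 (Q.obj X)) ≫ inv ((s : A) • 𝟙 (Q.obj X)) ≫ c := by
            simp only [Linear.smul_comp, Category.id_comp]
        _ = c := IsIso.hom_inv_id_assoc _ _
  · intro g
    obtain ⟨@⟨X', w, hw, f⟩, hg⟩ := Localization.exists_rightFraction Q U.trW g
    obtain ⟨s, hs, v, hv⟩ := key w hw
    refine ⟨(v ≫ f, ⟨s, hs⟩), ?_⟩
    change s • g = Q.map (v ≫ f)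
    have hwg : Q.map w ≫ g = Q.map f := by
      rw [hg]
      exact MorphismProperty.RightFraction.map_s_comp_map (MorphismProperty.RightFraction.mk w hw f)
        Q (Localization.inverts Q U.trW)
    rw [Q.map_comp, ← hwg, ← Category.assoc, ← Q.map_comp, hv, Functor.map_smul,
      CategoryTheory.Functor.map_id, Linear.smul_comp, Category.id_comp]
  · intro f₁ f₂ h
    obtain ⟨X', w, hw, e⟩ := (U.trW.map_eq_iff_precomp Q f₁ f₂).1 h
    obtain ⟨s, hs, v, hv⟩ := key w hw
    refine ⟨⟨s, hs⟩, ?_⟩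
    change s • f₁ = s • f₂
    rw [← Category.id_comp f₁, ← Category.id_comp f₂, ← Linear.smul_comp, ← Linear.smul_comp, ← hv,
      Category.assoc, Category.assoc, e]

end Groth.Agent.S19190
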