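import Groth.Statements.S6604

set_option autoImplicit false
universe v u v' u'
open CategoryTheory CategoryTheory.Limits
open CohDer

namespace Groth.Agent.S6604

open scoped ZeroObject
open CategoryTheory.Pretriangulated CategoryTheory.Limits

/-- Let D be a triangulated category, B a full triangulated subcategory and Q : D → D/B the quotient
functor. Q sends an object Z of D to zero (Q(Z) = 0, i.e. Z belongs to the kernel of Q) exactly
when, for a suitable object Z' of D, the direct sum Z ⊞ Z' is isomorphic to some object lying in B;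
put differently, the kernel is the smallest saturated, strictly full triangulated subcategory that
contains B. -/
theorem result {D : Type u} [Category.{v} D] [Preadditive D] [HasZeroObject D] [HasShift D ℤ]
    [∀ n : ℤ, (shiftFunctor D n).Additive] [Pretriangulated D] [IsTriangulated D]
    (B : ObjectProperty D) [B.IsTriangulated]
    {E : Type u'} [Category.{v'} E] (Q : D ⥤ E) [Q.IsLocalization B.trW] (Z : D) :
    IsZero (Q.obj Z) ↔ ∃ (Z' Y : D), B Y ∧ Nonempty (Z ⊞ Z' ≅ Y) := by
  let : Preadditive E := Localization.preadditive Q B.trW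
  have : Q.Additive := Localization.functor_additive Q B.trW
  constructor
  · intro hZ
    obtain ⟨Z₁, s, hs, h0⟩ := (B.trW.map_eq_iff_precomp Q (𝟙 Z) 0).1 (hZ.eq_of_src _ _)
    obtain ⟨Y, g, h, H, hY⟩ := hs
    have hs0 : s = 0 := by simpa using h0
    obtain ⟨e, -, -⟩ := exists_iso_binaryBiproduct_of_distTriang _ (rot_of_distTriang _ H)
      (by subst hs0; exact neg_eq_zero.2 ((shiftFunctor D (1 : ℤ)).map_zero _ _))
    exact ⟨Z₁⟦(1 : ℤ)⟧, Y, hY, ⟨e.symm⟩⟩
  · rintro ⟨Z', Y, hY, ⟨e⟩⟩
    have hY0 : IsZero (Q.obj Y) := by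
      obtain ⟨Z₀, hZ₀, h₀⟩ := B.exists_prop_of_containsZero
      have : IsIso (Q.map (0 : (0 : D) ⟶ Y)) := Localization.inverts Q B.trW _
        (ObjectProperty.trW.mk (P := B) (T := Triangle.mk (0 : (0 : D) ⟶ Y) (𝟙 Y) 0)
          (contractible_distinguished₁ Y) hY)
      exact (Q.map_isZero (isZero_zero D)).of_iso (asIso (Q.map (0 : (0 : D) ⟶ Y))).symm
    rw [IsZero.iff_id_eq_zero, ← Q.map_id, ← biprod.inl_fst (X := Z) (Y := Z'), ← Category.id_comp
      biprod.fst, ← e.hom_inv_id]
    simp only [Functor.map_comp, Category.assoc]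
    rw [hY0.eq_of_tgt (Q.map e.hom) 0, zero_comp, comp_zero]

end Groth.Agent.S6604
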