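import Groth.Statements.S19191
import Groth.Agent.S6604

set_option autoImplicit false
universe w v u v' u'
open CategoryTheory CategoryTheory.Limits CategoryTheory.Pretriangulated CategoryTheory.Triangulated
open CohDer

namespace Groth.Agent.S19191

open CategoryTheory CategoryTheory.Limits CategoryTheory.Pretriangulated
open scoped ZeroObject

/-- Let `A` be a commutative ring, `T` an `A`-linear triangulated category (octahedron axiom included;
shift functors `A`-linear), `U` a thick subcategory of `T` (a property of objects containing zero,
stable under shifts, extensions, isomorphisms and direct factors), and `Q : T ⥤ E` a localization of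
`T` at the morphisms whose cone lies in `U` (the Verdier quotient `T/U`), where `E` is preadditive
and `A`-linear and `Q` is `A`-linear. For an object `X` of `T` the following two conditions are
equivalent: (i) `X` lies in `U`; (ii) for every maximal ideal `m` of `A` the image of `X` in the
category obtained from `T/U` by tensoring the morphism modules with `A_m` is zero, i.e. some element
of `A` outside `m` annihilates the identity of `Q X`. (The published statement also lists a third
equivalent condition, phrased with idempotent completions of the localized categories; it is not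
asserted here.) -/
theorem result
    {A : Type w} [CommRing A]
    {T : Type u} [Category.{v} T] [Preadditive T] [Linear A T] [HasZeroObject T] [HasShift T ℤ]
    [∀ n : ℤ, (shiftFunctor T n).Additive] [∀ n : ℤ, (shiftFunctor T n).Linear A]
    [Pretriangulated T] [IsTriangulated T]
    (U : ObjectProperty T) [U.IsTriangulated] [U.IsClosedUnderIsomorphisms] [U.IsStableUnderRetracts]
    {E : Type u'} [Category.{v'} E] [Preadditive E] [Linear A E]
    (Q : T ⥤ E) [Q.Additive] [Q.Linear A] [Q.IsLocalization U.trW] (X : T) :
    U X ↔ ∀ m : Ideal A, m.IsMaximal → ∃ s : A, s ∉ m ∧ s • 𝟙 (Q.obj X) = 0 := by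
  have key := Groth.Agent.S6604.result U Q X
  constructor
  · intro hX m hm
    refine ⟨1, fun h => hm.ne_top ((Ideal.eq_top_iff_one m).2 h), ?_⟩
    have : IsZero (Q.obj X) := key.2 ⟨0, X, hX, ⟨⟨biprod.fst, biprod.inl, by
      apply biprod.hom_ext <;> first | exact (isZero_zero T).eq_of_tgt _ _ | simp, by simp⟩⟩⟩
    exact this.eq_of_src _ _
  · intro h
    let I : Ideal A :=
      { carrier := {a | a • 𝟙 (Q.obj X) = 0}
        add_mem' := fun {a b} (ha : a • 𝟙 (Q.obj X) = 0) (hb : b • 𝟙 (Q.obj X) = 0) => by
          change (a + b) • 𝟙 (Q.obj X) = 0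
          rw [add_smul, ha, hb, add_zero]
        zero_mem' := zero_smul A (𝟙 (Q.obj X))
        smul_mem' := fun c a (ha : a • 𝟙 (Q.obj X) = 0) => by
          change (c * a) • 𝟙 (Q.obj X) = 0
          rw [mul_smul, ha, smul_zero] }
    have hI : I = ⊤ := by
      by_contra hne
      obtain ⟨m, hm, hle⟩ := Ideal.exists_le_maximal I hne
      obtain ⟨s, hs, hs'⟩ := h m hm
      exact hs (hle hs')
    have h1 : (1 : A) • 𝟙 (Q.obj X) = 0 := (Ideal.eq_top_iff_one I).1 hI
    rw [one_smul] at h1
    obtain ⟨Z', Y, hY, ⟨e⟩⟩ := key.1 ((IsZero.iff_id_eq_zero _).2 h1)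
    exact U.prop_of_retract ⟨biprod.inl ≫ e.hom, e.inv ≫ biprod.fst, by simp⟩ hY

end Groth.Agent.S19191
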