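import Groth.Statements.S19196
import Groth.Agent.H3CAlg.Coherent
import Mathlib.Algebra.Colimit.Ring
import Mathlib.RingTheory.Filtration
import Mathlib.RingTheory.Flat.EquationalCriterion
import Mathlib.RingTheory.Ideal.AssociatedPrime.Basic
import Mathlib.RingTheory.LocalRing.ResidueField.Basic

set_option autoImplicit false
universe u
open RelS1

namespace Groth.Agent.S19196

/-- Let R be a Noetherian commutative ring and N a finitely generated R-module which fails Serre's
condition (S_1), in the sense that some associated prime of N is not a minimal prime of the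
annihilator of N. Then there exist an element a of R lying in no minimal prime of the annihilator of
N and a nonzero element b of N with a • b = 0; thus the basic open set D(a) meets the support of N
densely while restriction to it is not injective on N. -/
theorem result (R N : Type u) [CommRing R] [IsNoetherianRing R]
    [AddCommGroup N] [Module R N] [Module.Finite R N]
    (h : ¬ associatedPrimes R N ⊆ (Module.annihilator R N).minimalPrimes) :
    ∃ (a : R) (b : N), (∀ P ∈ (Module.annihilator R N).minimalPrimes, a ∉ P) ∧ b ≠ 0 ∧ a • b = 0 := by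
  simp only [Set.not_subset] at h
  obtain ⟨P, hP, hPm⟩ := h
  obtain ⟨hPp, b, hb⟩ := (isAssociatedPrime_iff_exists_injective_linearMap P N).mp hP
  have hann : Module.annihilator R N ≤ P := Submodule.annihilator_top (R := R) (M := N) ▸ IsAssociatedPrime.annihilator_le hP
  have hfin := Ideal.finite_minimalPrimes_of_isNoetherianRing R (Module.annihilator R N)
  have : ¬ (P : Set R) ⊆ ⋃ Q ∈ (hfin.toFinset : Set (Ideal R)), (Q : Set R) := by
    rw [Ideal.subset_union_prime ⊤ ⊤ (fun Q hQ _ _ => (hfin.mem_toFinset.mp hQ).1.1)]
    rintro ⟨Q, hQ, hPQ⟩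
    rw [hfin.mem_toFinset] at hQ
    exact hPm (le_antisymm hPQ (hQ.2 ⟨hPp, hann⟩ hPQ) ▸ hQ)
  obtain ⟨a, haP, ha⟩ := Set.not_subset.mp this
  refine ⟨a, b (Submodule.Quotient.mk 1), fun Q hQ haQ => ha (Set.mem_biUnion (hfin.mem_toFinset.mpr hQ) haQ), ?_, ?_⟩
  · rw [← map_zero b]
    exact fun e => (Ideal.ne_top_iff_one P).mp hPp.ne_top ((Submodule.Quotient.mk_eq_zero P).mp (hb e))
  · rw [← map_smul, ← Submodule.Quotient.mk_smul, smul_eq_mul, mul_one, (Submodule.Quotient.mk_eq_zero P).mpr haP, map_zero]

end Groth.Agent.S19196
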