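import Groth.Statements.S19198
import Groth.Agent.S2260
import Groth.Agent.H28Pinch.BirationalCodimOne
import Groth.Agent.H8Props.FibreIsoLocus

set_option autoImplicit false
universe u
open CategoryTheory AlgebraicGeometry
open Models

namespace Groth.Agent.S19198

/-- Form over the valuation ring: let R be a discrete valuation ring with a uniformizer ϖ, let C → Spec
R be flat and locally of finite type, f : X → C proper, and Z → X a closed immersion with Z flat
over R such that the composite Z → C restricts to an isomorphism over the generic fibre, the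
preimage of the open set D(ϖ) of Spec R. Then for every point c of C whose local ring is an
integrally closed domain of Krull dimension one (a codimension-one point at which C is normal, for
instance a generic point of the closed fibre lying in the smooth locus), there is an open
neighbourhood V of c over which Z → C is an isomorphism. (The published statement, that the closed
fibre of such a Z maps isomorphically onto the closed fibre of C over every generic point of its
smooth locus, also after a finite extension of R, follows by restriction to the closed fibre and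
flat descent.) -/
theorem result (R : Type u) [CommRing R] [IsDomain R]
    [IsDiscreteValuationRing R] {C X Z : Scheme.{u}} (πC : C ⟶ Spec (CommRingCat.of R)) [Flat πC]
    [LocallyOfFiniteType πC] (f : X ⟶ C) [IsProper f] (i : Z ⟶ X) [IsClosedImmersion i]
    [Flat ((i ≫ f) ≫ πC)] (ϖ : R) (hϖ : Irreducible ϖ)
    (hgen : IsIso ((i ≫ f) ∣_ (πC ⁻¹ᵁ (PrimeSpectrum.basicOpen ϖ))))
    (c : C) (hdom : IsDomain (C.presheaf.stalk c)) (hnorm : IsIntegrallyClosed (C.presheaf.stalk c))
    (hdim : ringKrullDim (C.presheaf.stalk c) = 1) :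
    ∃ V : C.Opens, c ∈ V ∧ IsIso ((i ≫ f) ∣_ V) := by
  classical
  haveI : IsLocallyNoetherian C := LocallyOfFiniteType.isLocallyNoetherian πC
  haveI := hdom
  obtain ⟨C', hcC, hC'⟩ := S2260.result C c
  haveI := hC'
  let D : (Spec (CommRingCat.of R)).Opens := PrimeSpectrum.basicOpen ϖ
  let g := i ≫ f
  let g' := g ∣_ C'
  let πC' := C'.ι ≫ πC
  let q := g' ≫ πC'
  have hq : q = (g ⁻¹ᵁ C').ι ≫ (g ≫ πC) := by
    show (g ∣_ C') ≫ C'.ι ≫ πC = _
    rw [morphismRestrict_ι_assoc]
  haveI : Flat q := by
    haveI : Flat (g ≫ πC) := ‹Flat ((i ≫ f) ≫ πC)›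
    rw [hq]; infer_instance
  haveI : Flat πC' := inferInstanceAs (Flat (C'.ι ≫ πC))
  let D' : C'.toScheme.Opens := πC' ⁻¹ᵁ D
  have hD'iso : IsIso (g' ∣_ D') := by
    refine ((MorphismProperty.isomorphisms _).arrow_mk_iso_iff (morphismRestrictRestrict g C' D')).2 ?_
    show IsIso (g ∣_ (C'.ι ''ᵁ D'))
    haveI := hgen
    haveI := H8Props.FibreCriterion.isIso_restrict_snd g (πC ⁻¹ᵁ D) (C'.ι ''ᵁ D').ι (by
      rw [Scheme.Opens.range_ι, Scheme.Opens.range_ι]
      rintro _ ⟨x, hx, rfl⟩
      exact hx)
    delta morphismRestrict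
    infer_instance
  have hDne : (genericPoint C'.toScheme : C'.toScheme) ∈ D' := by
    show πC' (genericPoint C'.toScheme) ∈ D
    obtain ⟨z, hz, hz'⟩ := Flat.generalizingMap πC'
      (show genericPoint (Spec (CommRingCat.of R)) ⤳ πC' (genericPoint C'.toScheme) from
        (genericPoint_spec _).specializes trivial)
    have : z = genericPoint C'.toScheme := (hz.antisymm ((genericPoint_spec _).specializes trivial)).eq
    rw [← this, hz', genericPoint_eq_bot_of_affine]
    exact fun h => hϖ.ne_zero h
  haveI : Nonempty D'.toScheme := ⟨⟨_, hDne⟩⟩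
  haveI : IsIntegral D'.toScheme := isIntegral_of_isOpenImmersion D'.ι
  let U := q ⁻¹ᵁ D
  have hU : U = g' ⁻¹ᵁ D' := rfl
  haveI : IsIntegral (g' ⁻¹ᵁ D').toScheme := by
    haveI : Nonempty (g' ⁻¹ᵁ D').toScheme := Nonempty.map (inv (g' ∣_ D')) inferInstance
    exact isIntegral_of_isOpenImmersion (g' ∣_ D')
  haveI : IsDominant D.ι := ⟨by
    rw [denseRange_iff_closure_range, Scheme.Opens.range_ι, ← dense_iff_closure_eq]
    exact D.2.dense ⟨_, (hDne : πC' (genericPoint C'.toScheme) ∈ D)⟩⟩
  haveI : IsSchemeTheoreticallyDominant D.ι := IsSchemeTheoreticallyDominant.of_isDominant D.ι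
  have hUι : U.ι = (pullbackRestrictIsoRestrict q D).inv ≫ CategoryTheory.Limits.pullback.fst q D.ι :=
    (pullbackRestrictIsoRestrict_inv_fst q D).symm
  haveI : QuasiCompact D.ι := inferInstance
  haveI : IsSchemeTheoreticallyDominant U.ι := by
    rw [hUι]
    infer_instance
  haveI : QuasiCompact U.ι := by
    rw [hUι]
    infer_instance
  haveI : IsIntegral U.toScheme := hU ▸ ‹IsIntegral (g' ⁻¹ᵁ D').toScheme›
  haveI : IsReduced (g ⁻¹ᵁ C').toScheme := IsSchemeTheoreticallyDominant.isReduced U.ι
  haveI : IrreducibleSpace (g ⁻¹ᵁ C').toScheme := by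
    refine (irreducibleSpace_def _).2 ?_
    have := (((IrreducibleSpace.isIrreducible_univ U.toScheme).image _ U.ι.continuous.continuousOn).closure)
    rwa [Set.image_univ, U.ι.denseRange.closure_range] at this
  haveI : IsIntegral (g ⁻¹ᵁ C').toScheme := isIntegral_of_irreducibleSpace_of_isReduced _
  haveI : IsLocallyNoetherian C'.toScheme := isLocallyNoetherian_of_isOpenImmersion C'.ι
  have hst := C'.stalkIso ⟨c, hcC⟩
  obtain ⟨V, hcV, hV⟩ := H28Pinch.exists_isIso_restrict_of_codim_le_one g' ⟨D', ⟨_, hDne⟩, hD'iso⟩ ⟨c, hcC⟩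
    (by
      haveI := hnorm
      exact IsIntegrallyClosed.of_equiv hst.commRingCatIsoToRingEquiv.symm)
    (by rw [ringKrullDim_eq_of_ringEquiv hst.commRingCatIsoToRingEquiv]; exact hdim.le)
  refine ⟨C'.ι ''ᵁ V, ⟨⟨c, hcC⟩, hcV, rfl⟩, ?_⟩
  exact ((MorphismProperty.isomorphisms _).arrow_mk_iso_iff (morphismRestrictRestrict g C' V)).1 hV

end Groth.Agent.S19198
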