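import Groth.Statements.S19203
import Groth.Agent.H10Coh.Growth.GGBound
import Groth.Agent.H11Ample.UnitIso

set_option linter.style.haveILetI false
set_option backward.isDefEq.respectTransparency.types false

set_option autoImplicit false
universe u
open CategoryTheory AlgebraicGeometry
open Coh

namespace Groth.Agent.S19203

open Groth.Agent

/-- Let X be a scheme proper over a field k with dim X = r, and L an invertible O_X-module generated by
its global sections. Then for each i ≥ 1 the dimensions dim_k H^i(X, L^{⊗n}) are O(n^{r-1}): there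
is a real constant C with dim_k H^i(X, L^{⊗n}) ≤ C·n^{r-1} for every n ≥ 1. (For r = 0 the exponent
r − 1 is read as 0; k is any field.) -/
theorem result (k : Type u) [Field k] (X : Scheme.{u})
    [X.Over (Spec (CommRingCat.of k))] [IsProper (X ↘ (Spec (CommRingCat.of k)))]
    (r : ℕ) (hdim : topologicalKrullDim X = r)
    (L : X.Modules) (hL : PicF.IsInvertible L) (hgen : Curv2.IsGloballyGenerated L)
    (i : ℕ) (hi : 1 ≤ i) :
    ∃ C : ℝ, ∀ n : ℕ, 1 ≤ n →
      (Module.finrank k (Coh.HH X (CohB1.tensorPow L n) i) : ℝ) ≤ C * (n : ℝ) ^ (r - 1) := by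
  haveI : IsLocallyNoetherian X := LocallyOfFiniteType.isLocallyNoetherian (X ↘ Spec (CommRingCat.of k))
  have hlt : topologicalKrullDim (CohB1.support (Coh.structureModule X)) < ((r + 1 : ℕ) : WithBot ℕ∞) :=
    lt_of_le_of_lt ((Topology.IsEmbedding.subtypeVal.isInducing.topologicalKrullDim_le).trans hdim.le)
      (by exact_mod_cast Nat.lt_succ_self r)
  obtain ⟨C, hC⟩ := H10Coh.Growth.growth_gg (k := k) hL hgen r _ (H10Coh.isCoh_structureModule' X) hlt i hi
  refine ⟨(C : ℝ) * 2 ^ (r - 1), fun n hn => ?_⟩
  have h := hC n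
  rw [H10Coh.Growth.h_congr (H11Ample.tensorLeftUnitIso _)] at h
  have hb : H10Coh.Growth.bnd r n ≤ 2 ^ (r - 1) * n ^ (r - 1) := by
    cases r with
    | zero => exact Nat.zero_le _
    | succ m =>
      rw [Nat.add_sub_cancel, ← mul_pow]
      exact Nat.pow_le_pow_left (by omega) m
  have h' := h.trans (Nat.mul_le_mul_left C hb)
  rw [mul_assoc]
  exact_mod_cast h'

end Groth.Agent.S19203
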