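import Groth.Statements.S19205
import Groth.Agent.H29RR.LinStable

set_option autoImplicit false
universe u
open CategoryTheory AlgebraicGeometry
open Curves

namespace Groth.Agent.S19205

/-- Let C be a smooth projective curve of genus g over an algebraically closed field k (an integral
scheme, proper over k, of dimension one, all local rings regular) and d an integer with d ≥ 2g. For
every invertible O_C-module M of degree d' ≤ d having at least m + 1 linearly independent global
sections with m ≥ 1, one has d·m ≤ d'·(d − g). Linear semi-stability of C mapped to P^{d−g} by all
sections of a line bundle of degree d ≥ 2g, which is what the published statement asserts, follows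
from this inequality (reduced degrees d'/m of projections of that image are at least d/(d − g));
linear semi-stability itself is not formalized here. -/
theorem result (k : Type u) [Field k] [IsAlgClosed k] (X : Scheme.{u})
    [X.Over (Spec (CommRingCat.of k))] [IsIntegral X] [IsProper (X ↘ (Spec (CommRingCat.of k)))]
    (hdim : topologicalKrullDim X = 1) (hreg : ∀ x : X, IsRegularLocalRing (X.presheaf.stalk x))
    (d : ℤ) (hd : 2 * (Curv2.genus k X : ℤ) ≤ d)
    (M : X.Modules) (hM : PicF.IsInvertible M) (m : ℕ) (hm : 1 ≤ m)
    (hsec : m + 1 ≤ Module.finrank k (Coh.HH X M 0)) (hdeg : Curv2.deg k X M 1 ≤ d) :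
    d * (m : ℤ) ≤ Curv2.deg k X M 1 * (d - Curv2.genus k X) := by
  exact H29RR.slope_le (k := k) hdim.le hM hsec hd hdeg

end Groth.Agent.S19205
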