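import Groth.Statements.S19207
import Groth.Agent.H1Koszul.Samuel
import Groth.Agent.H1Koszul.Devissage

set_option autoImplicit false
universe u
open Filter
open LocAlg

namespace Groth.Agent.S19207

open Groth.Agent MvPowerSeries

section

variable {σ : Type} [Finite σ] {k : Type u} [Field k]

/-- Series supported above finitely many exponents lie in the monomial ideal. -/
theorem mem_span_monomials : ∀ (l : List (σ →₀ ℕ)) (f : MvPowerSeries σ k),
    (∀ m, (∀ a ∈ l, ¬ a ≤ m) → coeff m f = 0) → f ∈ Ideal.span {z | ∃ a ∈ l, z = monomial a (1 : k)}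
  | [], f, h => by
    rw [show f = 0 from MvPowerSeries.ext fun m => by rw [h m (by simp), map_zero]]
    exact zero_mem _
  | a :: l, f, h => by
    classical
    let g : MvPowerSeries σ k := fun m => coeff (a + m) f
    have hg : ∀ m, coeff m (monomial a (1 : k) * g) = if a ≤ m then coeff m f else 0 := fun m => by
      rw [coeff_monomial_mul]
      split_ifs with ham
      · rw [one_mul]
        show coeff (a + (m - a)) f = _
        rw [add_tsub_cancel_of_le ham]
      · rfl
    rw [show f = monomial a (1 : k) * g + (f - monomial a (1 : k) * g) by ring]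
    refine add_mem (Ideal.mul_mem_right _ _ (Ideal.subset_span ⟨a, List.mem_cons_self, rfl⟩)) ?_
    refine Ideal.span_mono (s := {z | ∃ b ∈ l, z = monomial b (1 : k)}) (by rintro z ⟨b, hb, hz⟩; exact ⟨b, List.mem_cons_of_mem a hb, hz⟩)
      (mem_span_monomials l _ fun m hm => ?_)
    rw [map_sub, hg]
    split_ifs with ham
    · rw [sub_self]
    · rw [sub_zero]
      exact h m fun b hb => (List.mem_cons.1 hb).elim (fun e => e ▸ ham) (hm b)

theorem mem_span_monomials_iff (l : List (σ →₀ ℕ)) (f : MvPowerSeries σ k) :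
    f ∈ Ideal.span {z | ∃ a ∈ l, z = monomial a (1 : k)} ↔ ∀ m, (∀ a ∈ l, ¬ a ≤ m) → coeff m f = 0 := by
  classical
  refine ⟨fun hf => ?_, mem_span_monomials l f⟩
  induction hf using Submodule.span_induction with
  | mem z hz =>
    obtain ⟨a, ha, rfl⟩ := hz
    intro m hm
    rw [coeff_monomial, if_neg fun e => hm a ha e.symm.le]
  | zero => intro m _; rw [map_zero]
  | add u v _ _ hu hv => intro m hm; rw [map_add, hu m hm, hv m hm, add_zero]
  | smul c u _ hu =>
    intro m hm
    rw [smul_eq_mul, coeff_mul]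
    refine Finset.sum_eq_zero fun p hp => ?_
    rw [hu p.2 (fun a ha hle => hm a ha (hle.trans ?_)), mul_zero]
    exact le_add_self.trans (Finset.HasAntidiagonal.mem_antidiagonal.1 hp).le

theorem length_monomial_quot (l : List (σ →₀ ℕ)) (S : Finset (σ →₀ ℕ))
    (hS : ∀ m, m ∈ S ↔ ∀ a ∈ l, ¬ a ≤ m) :
    Module.length k (MvPowerSeries σ k ⧸ Ideal.span {z | ∃ a ∈ l, z = monomial a (1 : k)}) = S.card := by
  classical
  let K := Ideal.span {z : MvPowerSeries σ k | ∃ a ∈ l, z = monomial a (1 : k)}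
  let φ : MvPowerSeries σ k →ₗ[k] (S → k) := LinearMap.pi fun m => coeff (m : σ →₀ ℕ)
  have hs : Function.Surjective φ := fun v =>
    ⟨fun m => if h : m ∈ S then v ⟨m, h⟩ else 0, funext fun m => dif_pos m.2⟩
  have hk : LinearMap.ker φ = K.restrictScalars k := by
    ext f
    rw [LinearMap.mem_ker, Submodule.restrictScalars_mem, mem_span_monomials_iff]
    exact ⟨fun h m hm => congrFun h ⟨m, (hS m).2 hm⟩, fun h => funext fun m => h _ ((hS m).1 m.2)⟩
  rw [← (Submodule.Quotient.restrictScalarsEquiv k K).length_eq, (Submodule.quotEquivOfEq _ _ hk.symm).length_eq,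
    (φ.quotKerEquivOfSurjective hs).length_eq, Module.length_eq_finrank, Module.finrank_fintype_fun_eq_card,
    Fintype.card_coe]

end

section

variable {k : Type u} [Field k] (n : ℕ)

/-- The equation of the double point. -/
noncomputable abbrev F : MvPowerSeries (Fin 3) k := X 0 ^ 2 - X 1 ^ n

/-- The double point. -/
abbrev R (k : Type u) [Field k] (n : ℕ) : Type u := MvPowerSeries (Fin 3) k ⧸ Ideal.span {(F n : MvPowerSeries (Fin 3) k)}

/-- Exponent vectors. -/
noncomputable def ev (a b c : ℕ) : Fin 3 →₀ ℕ := Finsupp.equivFunOnFinite.symm ![a, b, c]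

theorem ev_le {a b c : ℕ} {m : Fin 3 →₀ ℕ} : ev a b c ≤ m ↔ a ≤ m 0 ∧ b ≤ m 1 ∧ c ≤ m 2 := by
  rw [Finsupp.le_def]
  simp [Fin.forall_fin_succ, ev]

theorem monomial_ev (a b c : ℕ) :
    (monomial (ev a b c) (1 : k) : MvPowerSeries (Fin 3) k) = X 0 ^ a * X 1 ^ b * X 2 ^ c := by
  classical
  rw [X_pow_eq, X_pow_eq, X_pow_eq, monomial_mul_monomial, monomial_mul_monomial, one_mul, one_mul]
  refine congrArg (fun e => monomial e (1 : k)) (Finsupp.ext fun i => ?_)
  fin_cases i <;> simp [ev]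

theorem length_quot {K : Ideal (MvPowerSeries (Fin 3) k)} (hn : F n ∈ K) [IsLocalRing (R k n)] :
    Module.length (R k n) (R k n ⧸ K.map (Ideal.Quotient.mk _)) = Module.length k (MvPowerSeries (Fin 3) k ⧸ K) := by
  have hle : Ideal.span {(F n : MvPowerSeries (Fin 3) k)} ≤ K := (Ideal.span_singleton_le_iff_mem _).2 hn
  haveI : IsLocalHom (algebraMap k (R k n)) := ⟨fun a ha => by
    rw [isUnit_iff_ne_zero]
    rintro rfl
    simp at ha⟩
  have hres : Function.Surjective (algebraMap (IsLocalRing.ResidueField k) (IsLocalRing.ResidueField (R k n))) := by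
    intro z
    obtain ⟨z, rfl⟩ := IsLocalRing.residue_surjective z
    obtain ⟨f, rfl⟩ := Ideal.Quotient.mk_surjective z
    refine ⟨algebraMap k _ (constantCoeff f), ?_⟩
    rw [← IsScalarTower.algebraMap_apply, IsScalarTower.algebraMap_apply k (R k n) (IsLocalRing.ResidueField (R k n)),
      IsLocalRing.ResidueField.algebraMap_eq]
    refine Ideal.Quotient.eq.2 ?_
    rw [IsLocalRing.mem_maximalIdeal, mem_nonunits_iff]
    intro hu
    rw [show algebraMap k (R k n) (constantCoeff f) = Ideal.Quotient.mk _ (C (constantCoeff f)) from rfl, ← map_sub] at hu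
    haveI : IsLocalHom (Ideal.Quotient.mk (Ideal.span {(F n : MvPowerSeries (Fin 3) k)})) :=
      IsLocalHom.of_surjective _ Ideal.Quotient.mk_surjective
    have := (isUnit_of_map_unit (Ideal.Quotient.mk (Ideal.span {(F n : MvPowerSeries (Fin 3) k)})) _ hu)
    rw [MvPowerSeries.isUnit_iff_constantCoeff] at this
    simp at this
  rw [show Module.length (R k n) (R k n ⧸ K.map (Ideal.Quotient.mk _)) = Module.length k (R k n ⧸ K.map (Ideal.Quotient.mk _)) from ?_]
  · exact (DoubleQuot.quotQuotEquivQuotOfLEₐ k hle).toLinearEquiv.length_eq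
  rw [IsLocalRing.length_restrictScalars k (R k n) (R k n ⧸ K.map (Ideal.Quotient.mk _))]
  suffices h : Module.length (IsLocalRing.ResidueField k) (IsLocalRing.ResidueField (R k n)) = 1 by rw [h, mul_one]
  rw [Module.length_eq_of_surjective (R := IsLocalRing.ResidueField (R k n)) hres, Module.length_eq_one]

end

/-- Let k be a field and n ≥ 3, and let A = k[[x, y, t]]/(x^2 − y^n), the power-series ring in t over
the higher double point O = k[[x, y]]/(x^2 − y^n), a two-dimensional local ring. The ideal I = (x^2,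
xy, y^2, xt, yt^2, t^4) of A has length(A/I) = 7 and Samuel multiplicity e(I) = 16, in the sense
that 2·length(A/I^m)/m^2 tends to 16. Hence e(I)/(2!·length(A/I)) = 8/7, which gives the bound
e_1(O) ≥ 8/7 for the first flat multiplicity of a higher double point (the supremum of
e(I)/(2!·length(A/I)) over ideals of finite colength of A = O[[t]]). Here x, y, t are the
power-series variables indexed 0, 1, 2. -/
theorem result (k : Type u) [Field k] (n : ℕ) (hn : 3 ≤ n)
    (I : Ideal (MvPowerSeries (Fin 3) k ⧸ Ideal.span {(MvPowerSeries.X 0 ^ 2 - MvPowerSeries.X 1 ^ n : MvPowerSeries (Fin 3) k)}))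
    (hI : I = Ideal.map (Ideal.Quotient.mk (Ideal.span {(MvPowerSeries.X 0 ^ 2 - MvPowerSeries.X 1 ^ n : MvPowerSeries (Fin 3) k)}))
      (Ideal.span {(MvPowerSeries.X 0 ^ 2 : MvPowerSeries (Fin 3) k), MvPowerSeries.X 0 * MvPowerSeries.X 1,
        MvPowerSeries.X 1 ^ 2, MvPowerSeries.X 0 * MvPowerSeries.X 2,
        MvPowerSeries.X 1 * MvPowerSeries.X 2 ^ 2, MvPowerSeries.X 2 ^ 4})) :
    Module.length (MvPowerSeries (Fin 3) k ⧸ Ideal.span {(MvPowerSeries.X 0 ^ 2 - MvPowerSeries.X 1 ^ n : MvPowerSeries (Fin 3) k)}) ((MvPowerSeries (Fin 3) k ⧸ Ideal.span {(MvPowerSeries.X 0 ^ 2 - MvPowerSeries.X 1 ^ n : MvPowerSeries (Fin 3) k)}) ⧸ I) = 7 ∧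
      Tendsto (fun m : ℕ => (2 : ℝ) * ((Module.length (MvPowerSeries (Fin 3) k ⧸ Ideal.span {(MvPowerSeries.X 0 ^ 2 - MvPowerSeries.X 1 ^ n : MvPowerSeries (Fin 3) k)}) ((MvPowerSeries (Fin 3) k ⧸ Ideal.span {(MvPowerSeries.X 0 ^ 2 - MvPowerSeries.X 1 ^ n : MvPowerSeries (Fin 3) k)}) ⧸ I ^ m)).toNat : ℝ) / (m : ℝ) ^ 2)
        atTop (nhds 16) := by
  classical
  let P := MvPowerSeries (Fin 3) k
  let π : P →+* R k n := Ideal.Quotient.mk _
  haveI : Nontrivial (R k n) := Ideal.Quotient.nontrivial_iff.2 fun h => by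
    have h1 := Ideal.span_singleton_eq_top.1 h
    rw [MvPowerSeries.isUnit_iff_constantCoeff] at h1
    simp [F, show n ≠ 0 by omega] at h1
  haveI : IsLocalRing (R k n) := IsLocalRing.of_surjective' _ Ideal.Quotient.mk_surjective
  haveI : IsNoetherianRing (R k n) := inferInstance
  let x := π (X 0); let y := π (X 1); let z := π (X 2)
  have hxy : x ^ 2 = y ^ n := by
    rw [← map_pow, ← map_pow]
    exact Ideal.Quotient.eq.2 (Ideal.subset_span rfl)
  -- length seven
  let l₇ : List (Fin 3 →₀ ℕ) := [ev 2 0 0, ev 1 1 0, ev 0 2 0, ev 1 0 1, ev 0 1 2, ev 0 0 4]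
  have hl₇ : Ideal.span {w : P | ∃ a ∈ l₇, w = monomial a (1 : k)} = Ideal.span {(X 0 ^ 2 : P), X 0 * X 1, X 1 ^ 2, X 0 * X 2, X 1 * X 2 ^ 2, X 2 ^ 4} := by
    congr 1
    ext w
    simp [l₇, monomial_ev]
  have hF₇ : (F n : P) ∈ Ideal.span {w : P | ∃ a ∈ l₇, w = monomial a (1 : k)} := by
    rw [hl₇, F, show n = 2 + (n - 2) by omega, pow_add]
    exact sub_mem (Ideal.subset_span (by simp)) (Ideal.mul_mem_right _ _ (Ideal.subset_span (by simp)))
  have h7 : Module.length (R k n) (R k n ⧸ I) = 7 := by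
    rw [hI, ← hl₇]
    refine (length_quot n hF₇).trans ((length_monomial_quot l₇
      {ev 0 0 0, ev 1 0 0, ev 0 1 0, ev 0 0 1, ev 0 1 1, ev 0 0 2, ev 0 0 3} fun m => ?_).trans ?_)
    · obtain ⟨a, b, c, rfl⟩ : ∃ a b c, m = ev a b c := ⟨m 0, m 1, m 2, by ext i; fin_cases i <;> simp [ev]⟩
      have e : ∀ a b c a' b' c', ev a b c = ev a' b' c' ↔ a = a' ∧ b = b' ∧ c = c' := fun a b c a' b' c' =>
        ⟨fun h => ⟨by simpa [ev] using DFunLike.congr_fun h 0, by simpa [ev] using DFunLike.congr_fun h 1,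
          by simpa [ev] using DFunLike.congr_fun h 2⟩, fun ⟨h1, h2, h3⟩ => by rw [h1, h2, h3]⟩
      simp only [Finset.mem_insert, Finset.mem_singleton, e, l₇, List.forall_mem_cons, ev_le]
      simp only [ev, Finsupp.equivFunOnFinite_symm_apply_apply, Matrix.cons_val_zero, Matrix.cons_val_one,
        Matrix.head_cons, Matrix.cons_val]
      simp
      omega
    · rw [Finset.card_insert_of_notMem, Finset.card_insert_of_notMem, Finset.card_insert_of_notMem,
        Finset.card_insert_of_notMem, Finset.card_insert_of_notMem, Finset.card_insert_of_notMem, Finset.card_singleton]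
      · rfl
      all_goals simp [ev, funext_iff, Fin.forall_fin_succ, DFunLike.ext_iff]
  refine ⟨h7, ?_⟩
  -- the reduction
  let Q : Ideal (R k n) := Ideal.span {y, z ^ 2}
  let J := Q ^ 2
  have hyQ : y ∈ Q := Ideal.subset_span (by simp)
  have hzQ : z ^ 2 ∈ Q := Ideal.subset_span (by simp)
  have hy2 : y ^ 2 ∈ J := Ideal.pow_mem_pow hyQ 2
  have hyz : y * z ^ 2 ∈ J := by rw [show J = Q * Q from pow_two Q]; exact Ideal.mul_mem_mul hyQ hzQ
  have hz4 : z ^ 4 ∈ J := by rw [show z ^ 4 = (z ^ 2) ^ 2 by ring]; exact Ideal.pow_mem_pow hzQ 2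
  have hI' : I = Ideal.span {x ^ 2, x * y, y ^ 2, x * z, y * z ^ 2, z ^ 4} := by
    rw [hI, Ideal.map_span]
    congr 1
    simp [Set.image_insert_eq, x, y, z, π]
  have hgen : ∀ {w}, w ∈ ({x ^ 2, x * y, y ^ 2, x * z, y * z ^ 2, z ^ 4} : Set (R k n)) → w ∈ I := fun hw =>
    hI' ▸ Ideal.subset_span hw
  have hJI : J ≤ I := by
    rw [show J = Q * Q from pow_two Q, Ideal.span_mul_span', Ideal.span_le]
    rintro _ ⟨u, (rfl | rfl), v, (rfl | rfl), rfl⟩
    · show y * y ∈ I; rw [← pow_two]; exact hgen (by simp)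
    · exact hgen (w := y * z ^ 2) (by simp)
    · show z ^ 2 * y ∈ I; rw [mul_comm]; exact hgen (by simp)
    · show z ^ 2 * z ^ 2 ∈ I; rw [← pow_add]; exact hgen (by simp)
  have hIle : I ≤ J ⊔ Ideal.span {x * y, x * z} := by
    rw [hI', Ideal.span_le]
    rintro w (rfl | rfl | rfl | rfl | rfl | rfl)
    · refine Submodule.mem_sup_left ?_
      rw [hxy, ← pow_mul_pow_sub y (by omega : 2 ≤ n)]
      exact Ideal.mul_mem_right _ _ hy2
    · exact Submodule.mem_sup_right (Ideal.subset_span (by simp))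
    · exact Submodule.mem_sup_left hy2
    · exact Submodule.mem_sup_right (Ideal.subset_span (by simp))
    · exact Submodule.mem_sup_left hyz
    · exact Submodule.mem_sup_left hz4
  have hxx : Ideal.span {x * y, x * z} * Ideal.span {x * y, x * z} ≤ J * I := by
    obtain ⟨e, he⟩ : ∃ e, n = 3 + e := ⟨n - 3, by omega⟩
    rw [Ideal.span_mul_span', Ideal.span_le]
    rintro _ ⟨u, (rfl | rfl), v, (rfl | rfl), rfl⟩
    · show x * y * (x * y) ∈ J * I
      rw [show x * y * (x * y) = y ^ 2 * (y ^ 2 * y ^ (1 + e)) by linear_combination (y ^ 2) * hxy + (y ^ 2) * (congrArg (y ^ ·) he) ]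
      exact Ideal.mul_mem_mul hy2 (Ideal.mul_mem_right _ _ (hgen (by simp)))
    · show x * y * (x * z) ∈ J * I
      rw [show x * y * (x * z) = y ^ 2 * (y ^ 2 * (z * y ^ e)) by linear_combination (y * z) * hxy + (y * z) * (congrArg (y ^ ·) he) ]
      exact Ideal.mul_mem_mul hy2 (Ideal.mul_mem_right _ _ (hgen (by simp)))
    · show x * z * (x * y) ∈ J * I
      rw [show x * z * (x * y) = y ^ 2 * (y ^ 2 * (z * y ^ e)) by linear_combination (y * z) * hxy + (y * z) * (congrArg (y ^ ·) he) ]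
      exact Ideal.mul_mem_mul hy2 (Ideal.mul_mem_right _ _ (hgen (by simp)))
    · show x * z * (x * z) ∈ J * I
      rw [show x * z * (x * z) = y ^ 2 * (y * z ^ 2 * y ^ e) by linear_combination (z ^ 2) * hxy + (z ^ 2) * (congrArg (y ^ ·) he) ]
      exact Ideal.mul_mem_mul hy2 (Ideal.mul_mem_right _ _ (hgen (by simp)))
  have hxI : Ideal.span {x * y, x * z} ≤ I := Ideal.span_le.2 fun w hw => hgen (by
    rcases hw with rfl | rfl <;> simp)
  have hII : I * I ≤ J * I := by
    refine (Ideal.mul_mono hIle le_rfl).trans ?_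
    rw [Ideal.sup_mul]
    refine sup_le le_rfl ((Ideal.mul_mono le_rfl hIle).trans ?_)
    rw [Ideal.mul_sup]
    exact sup_le (le_trans (le_of_eq (mul_comm (Ideal.span {x * y, x * z}) J)) (Ideal.mul_mono le_rfl hxI)) hxx
  have hIJ : ∀ m : ℕ, I ^ (m + 1) ≤ J ^ m * I := fun m => by
    induction m with
    | zero => simp
    | succ m ih =>
      rw [pow_succ I]
      refine (Ideal.mul_mono ih le_rfl).trans ?_
      rw [mul_assoc, pow_succ J m, mul_assoc]
      exact Ideal.mul_mono le_rfl hII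
  -- the multiplicity of `(y, z²)`
  let l₄ : List (Fin 3 →₀ ℕ) := [ev 2 0 0, ev 0 1 0, ev 0 0 2]
  let K₄ := Ideal.span {w : P | ∃ a ∈ l₄, w = monomial a (1 : k)}
  have hK₄ : K₄ = Ideal.span {(X 0 ^ 2 : P), X 1, X 2 ^ 2} := by
    show Ideal.span _ = _
    congr 1
    ext w
    simp [l₄, monomial_ev]
  have hKmap : K₄.map π = Q := by
    rw [hK₄, Ideal.map_span]
    refine le_antisymm (Ideal.span_le.2 ?_) (Ideal.span_le.2 ?_)
    · rintro _ ⟨w, (rfl | rfl | rfl), rfl⟩
      · show π (X 0 ^ 2) ∈ Q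
        rw [map_pow, show (π (X 0)) ^ 2 = y ^ n from hxy, ← pow_mul_pow_sub y (by omega : 1 ≤ n), pow_one]
        exact Ideal.mul_mem_right _ _ hyQ
      · exact hyQ
      · show π (X 2 ^ 2) ∈ Q; rw [map_pow]; exact hzQ
    · rintro w (rfl | rfl)
      · exact Ideal.subset_span ⟨X 1, by simp, rfl⟩
      · exact Ideal.subset_span ⟨X 2 ^ 2, by simp, map_pow π _ _⟩
  have hQ4 : Module.length (R k n) (R k n ⧸ Q) = 4 := by
    rw [← hKmap]
    refine (length_quot n ?_).trans ((length_monomial_quot l₄ {ev 0 0 0, ev 1 0 0, ev 0 0 1, ev 1 0 1} fun m => ?_).trans ?_)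
    · rw [hK₄, F, show n = 1 + (n - 1) by omega, pow_add, pow_one]
      exact sub_mem (Ideal.subset_span (by simp)) (Ideal.mul_mem_right _ _ (Ideal.subset_span (by simp)))
    · obtain ⟨a, b, c, rfl⟩ : ∃ a b c, m = ev a b c := ⟨m 0, m 1, m 2, by ext i; fin_cases i <;> simp [ev]⟩
      have e : ∀ a b c a' b' c', ev a b c = ev a' b' c' ↔ a = a' ∧ b = b' ∧ c = c' := fun a b c a' b' c' =>
        ⟨fun h => ⟨by simpa [ev] using DFunLike.congr_fun h 0, by simpa [ev] using DFunLike.congr_fun h 1,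
          by simpa [ev] using DFunLike.congr_fun h 2⟩, fun ⟨h1, h2, h3⟩ => by rw [h1, h2, h3]⟩
      simp only [Finset.mem_insert, Finset.mem_singleton, e, l₄, List.forall_mem_cons, ev_le]
      simp only [ev, Finsupp.equivFunOnFinite_symm_apply_apply, Matrix.cons_val_zero, Matrix.cons_val_one,
        Matrix.head_cons, Matrix.cons_val]
      simp
      omega
    · rw [Finset.card_insert_of_notMem, Finset.card_insert_of_notMem, Finset.card_insert_of_notMem, Finset.card_singleton]
      · rfl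
      all_goals simp [ev, funext_iff, Fin.forall_fin_succ, DFunLike.ext_iff]
  -- regularity
  have hyreg : IsSMulRegular (R k n) y := by
    refine isSMulRegular_iff_right_eq_zero_of_smul.2 fun g hg => ?_
    obtain ⟨g, rfl⟩ := Ideal.Quotient.mk_surjective g
    rw [smul_eq_mul, ← map_mul, Ideal.Quotient.eq_zero_iff_mem, Ideal.mem_span_singleton] at hg
    obtain ⟨h, hh⟩ := hg
    rw [Ideal.Quotient.eq_zero_iff_mem, Ideal.mem_span_singleton]
    have hd : (X 1 : P) ∣ h := by
      refine X_dvd_iff.2 fun m hm => ?_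
      have h1 := congrArg (coeff (m + Finsupp.single 0 2)) hh
      rw [F, sub_mul, map_sub, X_pow_eq, X_pow_eq, coeff_monomial_mul, if_pos le_add_self, add_tsub_cancel_right,
        coeff_monomial_mul, if_neg, sub_zero, one_mul, show (X 1 : P) = monomial (Finsupp.single 1 1) 1 from rfl,
        coeff_monomial_mul, if_neg] at h1
      · exact h1.symm
      all_goals
        intro hle
        have := hle 1
        simp [hm] at this
        try omega
    obtain ⟨h', rfl⟩ := hd
    refine ⟨h', mul_left_cancel₀ (a := (X 1 : P)) (fun h0 => ?_) (by rw [hh]; ring)⟩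
    have := congrArg (coeff (Finsupp.single (1 : Fin 3) 1)) h0
    simp [coeff_X] at this
  let N1 := R k n ⧸ LinearMap.range (y • LinearMap.id : R k n →ₗ[R k n] R k n)
  have hrange : ∀ w, w ∈ LinearMap.range (y • LinearMap.id : R k n →ₗ[R k n] R k n) ↔ w ∈ Ideal.span {y} := fun w => by
    rw [Ideal.mem_span_singleton]
    exact ⟨fun ⟨v, hv⟩ => ⟨v, hv.symm⟩, fun ⟨v, hv⟩ => ⟨v, hv.symm⟩⟩
  have hK₂ : ∀ g : P, π g ∈ Ideal.span {y} ↔ g ∈ Ideal.span {w : P | ∃ a ∈ [ev 2 0 0, ev 0 1 0], w = monomial a (1 : k)} := by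
    intro g
    rw [show Ideal.span {y} = (Ideal.span {(X 1 : P)}).map π by rw [Ideal.map_span, Set.image_singleton],
      ← Ideal.mem_comap, Ideal.comap_map_of_surjective _ Ideal.Quotient.mk_surjective, ← RingHom.ker_eq_comap_bot, Ideal.mk_ker,
      ← Ideal.span_union, show {w : P | ∃ a ∈ [ev 2 0 0, ev 0 1 0], w = monomial a (1 : k)} = {X 0 ^ 2, X 1} by
        ext w; simp [monomial_ev]]
    have e : Ideal.span (({X 1} : Set P) ∪ {F n}) = Ideal.span {X 0 ^ 2, X 1} := by
      refine le_antisymm (Ideal.span_le.2 ?_) (Ideal.span_le.2 ?_)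
      · rintro w (rfl | rfl)
        · exact Ideal.subset_span (by simp)
        · rw [SetLike.mem_coe, F, show n = 1 + (n - 1) by omega, pow_add, pow_one]
          exact sub_mem (Ideal.subset_span (by simp)) (Ideal.mul_mem_right _ _ (Ideal.subset_span (by simp)))
      · rintro w (rfl | rfl)
        · rw [SetLike.mem_coe, show (X 0 ^ 2 : P) = F n + X 1 * X 1 ^ (n - 1) by
            rw [← pow_succ', Nat.sub_add_cancel (by omega : 1 ≤ n)]; simp [F]]
          exact add_mem (Ideal.subset_span (by simp)) (Ideal.mul_mem_right _ _ (Ideal.subset_span (by simp)))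
        · exact Ideal.subset_span (by simp)
    rw [e]
  have hzreg : IsSMulRegular N1 (z ^ 2) := by
    refine isSMulRegular_iff_right_eq_zero_of_smul.2 fun g hg => ?_
    obtain ⟨g, rfl⟩ := Submodule.Quotient.mk_surjective _ g
    obtain ⟨g, rfl⟩ := Ideal.Quotient.mk_surjective g
    rw [← Submodule.Quotient.mk_smul, Submodule.Quotient.mk_eq_zero, hrange, smul_eq_mul, ← map_pow, ← map_mul, hK₂,
      mem_span_monomials_iff] at hg
    rw [Submodule.Quotient.mk_eq_zero, hrange, hK₂, mem_span_monomials_iff]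
    intro m hm
    have h1 := hg (Finsupp.single 2 2 + m) fun a ha hle => hm a ha ?_
    · rwa [X_pow_eq, coeff_monomial_mul, if_pos le_self_add, add_tsub_cancel_left, one_mul] at h1
    · simp only [List.mem_cons, List.not_mem_nil, or_false] at ha
      rcases ha with rfl | rfl <;> (rw [ev_le] at hle ⊢; simpa using hle)
  have hlq : ({a | a ∈ [y, z ^ 2]} : Set (R k n)) = {y, z ^ 2} := by ext w; simp
  have hsm : H1Koszul.Small [y, z ^ 2] (R k n) := by
    refine H1Koszul.small_of_isFiniteLength (I := Q) (le_of_eq (by rw [hlq])) ?_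
    have e0 : Q • (⊤ : Submodule (R k n) (R k n)) = Q := Ideal.mul_top Q
    rw [← Module.length_ne_top_iff, (Submodule.quotEquivOfEq _ _ e0).length_eq, hQ4]
    simp
  have hchi : H1Koszul.chi [y, z ^ 2] (R k n) = 4 := by
    rw [H1Koszul.chi_cons_regular (x := y) (l := [z ^ 2]) hyreg, H1Koszul.chi_cons_regular (x := z ^ 2) (l := []) hzreg,
      H1Koszul.chi_nil]
    let φ : R k n →ₗ[R k n] N1 ⧸ LinearMap.range (z ^ 2 • LinearMap.id : N1 →ₗ[R k n] N1) :=
      (Submodule.mkQ _).comp (Submodule.mkQ _)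
    have hφ : Function.Surjective φ := (Submodule.mkQ_surjective _).comp (Submodule.mkQ_surjective _)
    have hker : LinearMap.ker φ = Q := by
      ext w
      rw [LinearMap.mem_ker, LinearMap.comp_apply, Submodule.mkQ_apply, Submodule.mkQ_apply, Submodule.Quotient.mk_eq_zero,
        Ideal.mem_span_pair]
      constructor
      · rintro ⟨v, hv⟩
        obtain ⟨v, rfl⟩ := Submodule.Quotient.mk_surjective _ v
        rw [LinearMap.smul_apply, LinearMap.id_apply, ← Submodule.Quotient.mk_smul, Submodule.Quotient.eq] at hv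
        obtain ⟨u, hu⟩ := hv
        simp only [LinearMap.smul_apply, LinearMap.id_apply, smul_eq_mul] at hu
        exact ⟨-u, v, by linear_combination -hu⟩
      · rintro ⟨u, v, huv⟩
        refine ⟨Submodule.Quotient.mk v, ?_⟩
        rw [LinearMap.smul_apply, LinearMap.id_apply, ← Submodule.Quotient.mk_smul, Submodule.Quotient.eq]
        exact ⟨-u, by simp only [LinearMap.smul_apply, LinearMap.id_apply, smul_eq_mul]; linear_combination -huv⟩
    rw [← (φ.quotKerEquivOfSurjective hφ).length_eq, (Submodule.quotEquivOfEq _ _ hker).length_eq, hQ4]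
    rfl
  have hlim := H1Koszul.tendsto_samuel hsm
  have hne := H1Koszul.length_quot_pow_ne_top hsm
  rw [hlq] at hlim hne
  rw [hchi] at hlim
  let S : ℕ → ℕ := fun N => (Module.length (R k n) (R k n ⧸ Q ^ N)).toNat
  have hS : ∀ N, Module.length (R k n) (R k n ⧸ (Q ^ N • (⊤ : Submodule (R k n) (R k n)))) = Module.length (R k n) (R k n ⧸ Q ^ N) :=
    fun N => (Submodule.quotEquivOfEq _ _ (Ideal.mul_top _)).length_eq
  have hlim' : Tendsto (fun N : ℕ => (S N : ℝ) / (N : ℝ) ^ 2) atTop (nhds 2) := by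
    have h2 : ((4 : ℤ) : ℝ) / (([y, z ^ 2] : List (R k n)).length.factorial : ℝ) = 2 := by norm_num
    rw [h2] at hlim
    refine hlim.congr fun N => ?_
    rw [show Ideal.span ({y, z ^ 2} : Set (R k n)) = Q from rfl, hS]
    rfl
  have hfin : ∀ N, Module.length (R k n) (R k n ⧸ Q ^ N) ≠ ⊤ := fun N => by rw [← hS]; exact hne N
  have hub : ∀ m, (Module.length (R k n) (R k n ⧸ I ^ m)).toNat ≤ S (2 * m) := fun m =>
    ENat.toNat_le_toNat (Module.length_le_of_surjective _ (Submodule.factor_surjective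
      ((pow_mul Q 2 m).le.trans (Ideal.pow_right_mono hJI m)))) (hfin _)
  have hlb : ∀ m, S (2 * m) ≤ (Module.length (R k n) (R k n ⧸ I ^ (m + 1))).toNat := fun m =>
    ENat.toNat_le_toNat (Module.length_le_of_surjective _ (Submodule.factor_surjective
      (((hIJ m).trans Ideal.mul_le_left).trans (pow_mul Q 2 m).ge))) (ne_top_of_le_ne_top (hfin (2 * (m + 1)))
        (Module.length_le_of_surjective _ (Submodule.factor_surjective ((pow_mul Q 2 (m + 1)).le.trans (Ideal.pow_right_mono hJI _)))))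
  have hdbl : Tendsto (fun m : ℕ => 2 * (S (2 * m) : ℝ) / (m : ℝ) ^ 2) atTop (nhds 16) := by
    have h0 := (hlim'.comp (tendsto_id.const_mul_atTop' (show (0:ℕ) < 2 by norm_num))).const_mul 8
    rw [show (8 : ℝ) * 2 = 16 by norm_num] at h0
    refine h0.congr fun m => ?_
    simp only [Function.comp_apply, id_eq]
    push_cast
    ring
  refine (tendsto_add_atTop_iff_nat 1).1 ?_
  have hratio : Tendsto (fun m : ℕ => ((m : ℝ) / ((m : ℝ) + 1)) ^ 2) atTop (nhds 1) := by
    simpa using (tendsto_natCast_div_add_atTop (1 : ℝ)).pow 2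
  have hlo := hdbl.mul hratio
  rw [mul_one] at hlo
  have hhi := (tendsto_add_atTop_iff_nat 1).2 hdbl
  refine tendsto_of_tendsto_of_tendsto_of_le_of_le' hlo hhi ?_ (Eventually.of_forall fun m => ?_)
  · filter_upwards [eventually_gt_atTop 0] with m hm
    have hm0 : (0 : ℝ) < m := Nat.cast_pos.2 hm
    have h1 : (S (2 * m) : ℝ) ≤ ((Module.length (R k n) (R k n ⧸ I ^ (m + 1))).toNat : ℝ) := Nat.cast_le.2 (hlb m)
    rw [div_pow, div_mul_div_comm, Nat.cast_add, Nat.cast_one,
      show (m : ℝ) ^ 2 * ((m : ℝ) + 1) ^ 2 = ((m : ℝ) + 1) ^ 2 * (m : ℝ) ^ 2 from mul_comm _ _,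
      mul_div_mul_right _ _ (pow_ne_zero _ hm0.ne')]
    gcongr
  · gcongr
    exact hub (m + 1)

end Groth.Agent.S19207
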