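import Groth.Statements.S19208
import Groth.Agent.H1Koszul.Limit

set_option autoImplicit false
universe u
open Filter
open LocAlg

namespace Groth.Agent.S19208

open Groth.Agent Filter Topology

/-- Let O be a Noetherian local ring of Krull dimension r containing a field, with maximal ideal m. The
zeroth flat multiplicity e_0(O), the supremum over m-primary ideals I of e(I)/(r!·length(O/I)) with
e(I) the Samuel multiplicity, is at least 1: for every ε > 0 there is an m-primary ideal I (I ⊆ m,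
m^N ⊆ I for some N) whose multiplicity e(I), the limit of r!·length(O/I^n)/n^r, satisfies e(I) ≥ (1
− ε)·r!·length(O/I). (The same statement for the power-series rings O[[t_1, …, t_k]] is the bound
e_k(O) ≥ 1 for the k-th flat multiplicity.) -/
theorem result (O : Type u) [CommRing O] [IsNoetherianRing O]
    [IsLocalRing O] (K : Type u) [Field K] [Algebra K O] (r : ℕ) (hr : ringKrullDim O = r)
    (ε : ℝ) (hε : 0 < ε) :
    ∃ (I : Ideal O) (e : ℝ), I ≤ IsLocalRing.maximalIdeal O ∧
      (∃ N : ℕ, IsLocalRing.maximalIdeal O ^ N ≤ I) ∧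
      Tendsto (fun n : ℕ => (r.factorial : ℝ) * ((Module.length O (O ⧸ I ^ n)).toNat : ℝ) / (n : ℝ) ^ r)
        atTop (nhds e) ∧
      (1 - ε) * ((r.factorial : ℝ) * ((Module.length O (O ⧸ I)).toNat : ℝ)) ≤ e := by
  obtain ⟨e, he0, he⟩ := H1Koszul.tendsto_samuelLen_maximal_pos (A := O) r hr
  let S : ℕ → ℝ := fun n => ((Module.length O (O ⧸ IsLocalRing.maximalIdeal O ^ n)).toNat : ℝ)
  have hS : ∀ n, (H22Alg.samuelLen (IsLocalRing.maximalIdeal O) O n : ℝ) = S n := fun n => by
    have e0 : IsLocalRing.maximalIdeal O ^ n • (⊤ : Submodule O O) = IsLocalRing.maximalIdeal O ^ n :=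
      Ideal.mul_top _
    simp only [S, H22Alg.samuelLen]
    rw [(Submodule.quotEquivOfEq _ _ e0).length_eq]
  simp only [hS] at he
  -- replace the maximal ideal by a high power
  have hk : ∀ k : ℕ, 0 < k → Tendsto (fun n : ℕ => (r.factorial : ℝ) *
      ((Module.length O (O ⧸ (IsLocalRing.maximalIdeal O ^ k) ^ n)).toNat : ℝ) / (n : ℝ) ^ r)
      atTop (𝓝 ((r.factorial : ℝ) * (k : ℝ) ^ r * e)) := by
    intro k hk
    have h1 := (he.comp (Filter.tendsto_id.nsmul_atTop hk)).const_mul ((r.factorial : ℝ) * (k : ℝ) ^ r)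
    refine h1.congr fun n => ?_
    simp only [Function.comp_apply, id_eq, smul_eq_mul, S, ← pow_mul]
    push_cast
    rw [mul_pow]
    have hk' : (k : ℝ) ^ r ≠ 0 := pow_ne_zero _ (Nat.cast_ne_zero.2 hk.ne')
    field_simp
    rw [pow_mul]
  obtain ⟨k, hk0, hkε⟩ : ∃ k : ℕ, 0 < k ∧ (1 - ε) * S k ≤ (k : ℝ) ^ r * e := by
    rcases le_or_gt 1 ε with h1 | h1
    · refine ⟨1, one_pos, le_trans (mul_nonpos_of_nonpos_of_nonneg (by linarith) (Nat.cast_nonneg _)) ?_⟩
      positivity
    · have hlt : e < e / (1 - ε) := by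
        rw [lt_div_iff₀ (by linarith)]
        nlinarith
      obtain ⟨k, hk, hk1⟩ := ((he.eventually (eventually_lt_nhds hlt)).and (eventually_gt_atTop 0)).exists
      refine ⟨k, hk1, ?_⟩
      rw [div_lt_div_iff₀ (pow_pos (Nat.cast_pos.2 hk1) r) (by linarith)] at hk
      linarith
  refine ⟨IsLocalRing.maximalIdeal O ^ k, _, Ideal.pow_le_self hk0.ne', ⟨k, le_rfl⟩, hk k hk0, ?_⟩
  calc (1 - ε) * ((r.factorial : ℝ) * S k) = (r.factorial : ℝ) * ((1 - ε) * S k) := by ring
    _ ≤ (r.factorial : ℝ) * ((k : ℝ) ^ r * e) := mul_le_mul_of_nonneg_left hkε (Nat.cast_nonneg _)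
    _ = _ := by ring

end Groth.Agent.S19208
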