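import Groth.Statements.S19210
import Mathlib.Data.Real.Basic
import Mathlib.Algebra.BigOperators.Ring.Finset
import Mathlib.Algebra.BigOperators.Intervals
import Mathlib.Tactic.Linarith
import Mathlib.Tactic.Positivity
import Mathlib.Tactic.FieldSimp
import Mathlib.Tactic.Ring
import Mathlib.Tactic.GCongr
import Mathlib.Data.Nat.Factorial.Basic

set_option autoImplicit false
universe u
open LocAlg

namespace Groth.Agent.S19210

/-- For natural numbers j ≤ r, the sums Σ_{i=0}^{n−1} (n − i)^{r−j} i^j equal n^{r+1}·(r − j)!·j!/(r +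
1)! up to O(n^r): there is a real constant C with |Σ_{i<n} (n − i)^{r−j} i^j − ((r − j)!·j!/(r +
1)!)·n^{r+1}| ≤ C·n^r for all n ≥ 1. -/
theorem result (r j : ℕ) (hj : j ≤ r) :
    ∃ C : ℝ, ∀ n : ℕ, 1 ≤ n →
      |(∑ i ∈ Finset.range n, ((n : ℝ) - (i : ℝ)) ^ (r - j) * (i : ℝ) ^ j) -
          ((r - j).factorial : ℝ) * (j.factorial : ℝ) / ((r + 1).factorial : ℝ) * (n : ℝ) ^ (r + 1)| ≤
        C * (n : ℝ) ^ r := by

  have key : ∀ a b : ℕ, ∃ C : ℝ, ∀ n : ℕ, 1 ≤ n →
      |(∑ i ∈ Finset.range n, ((n : ℝ) - (i : ℝ)) ^ a * (i : ℝ) ^ b) -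
          (a.factorial : ℝ) * (b.factorial : ℝ) / ((a + b + 1).factorial : ℝ) * (n : ℝ) ^ (a + b + 1)| ≤
        C * (n : ℝ) ^ (a + b) := by
    intro a
    induction a with
    | zero =>
      intro b
      have hA : ∀ (c : ℕ) (x : ℝ), 0 ≤ x → x ^ (c + 1) + (c + 1) * x ^ c ≤ (x + 1) ^ (c + 1) ∧
          (x + 1) ^ (c + 1) ≤ x ^ (c + 1) + (c + 1) * (x + 1) ^ c := by
        intro c x hx
        induction c with
        | zero => simp
        | succ c ih =>
          have h0 : x ^ (c + 1) ≤ (x + 1) ^ (c + 1) := by gcongr; linarith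
          have h1 := mul_le_mul_of_nonneg_left ih.1 (by linarith : (0 : ℝ) ≤ x + 1)
          have h2 := mul_le_mul_of_nonneg_left ih.2 (by linarith : (0 : ℝ) ≤ x + 1)
          have h3 : 0 ≤ ((c : ℝ) + 1) * x ^ c := by positivity
          push_cast
          constructor
          · ring_nf at h1 h3 ⊢; linarith
          · ring_nf at h2 h0 ⊢; linarith
      have hbd : ∀ n : ℕ, (b + 1) * (∑ i ∈ Finset.range n, (i : ℝ) ^ b) ≤ (n : ℝ) ^ (b + 1) ∧
          (n : ℝ) ^ (b + 1) ≤ (b + 1) * ((∑ i ∈ Finset.range n, (i : ℝ) ^ b) + (n : ℝ) ^ b) := by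
        intro n
        induction n with
        | zero => simp; positivity
        | succ n ih =>
          obtain ⟨hl, hu⟩ := hA b n n.cast_nonneg
          rw [Finset.sum_range_succ, Nat.cast_succ]
          constructor <;> nlinarith [ih.1, ih.2, hl, hu]
      refine ⟨1, fun n _ => ?_⟩
      have hS : (∑ i ∈ Finset.range n, ((n : ℝ) - (i : ℝ)) ^ 0 * (i : ℝ) ^ b) = ∑ i ∈ Finset.range n, (i : ℝ) ^ b := by
        simp
      have hF : ((0 : ℕ).factorial : ℝ) * (b.factorial : ℝ) / ((0 + b + 1).factorial : ℝ) = 1 / (b + 1) := by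
        rw [Nat.factorial_zero, Nat.zero_add, Nat.factorial_succ]
        have : (b.factorial : ℝ) ≠ 0 := by exact_mod_cast b.factorial_ne_zero
        push_cast; field_simp
      rw [hS, hF, Nat.zero_add, one_mul, abs_sub_le_iff]
      obtain ⟨h1, h2⟩ := hbd n
      have hb : (0 : ℝ) < b + 1 := by positivity
      have hp : (0 : ℝ) ≤ (n : ℝ) ^ b := by positivity
      constructor
      · rw [sub_le_iff_le_add]
        refine le_trans ?_ (le_add_of_nonneg_left hp)
        rw [div_mul_eq_mul_div, one_mul, le_div_iff₀ hb]; linarith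
      · rw [sub_le_iff_le_add, div_mul_eq_mul_div, one_mul, div_le_iff₀ hb]; linarith
    | succ a ih =>
      intro b
      obtain ⟨C₁, h₁⟩ := ih b
      obtain ⟨C₂, h₂⟩ := ih (b + 1)
      refine ⟨C₁ + C₂, fun n hn => ?_⟩
      have hrec : (∑ i ∈ Finset.range n, ((n : ℝ) - (i : ℝ)) ^ (a + 1) * (i : ℝ) ^ b) =
          (n : ℝ) * (∑ i ∈ Finset.range n, ((n : ℝ) - (i : ℝ)) ^ a * (i : ℝ) ^ b) -
            ∑ i ∈ Finset.range n, ((n : ℝ) - (i : ℝ)) ^ a * (i : ℝ) ^ (b + 1) := by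
        rw [Finset.mul_sum, ← Finset.sum_sub_distrib]
        exact Finset.sum_congr rfl fun i _ => by ring
      have hF : (a.factorial : ℝ) * (b.factorial : ℝ) / ((a + b + 1).factorial : ℝ) -
          (a.factorial : ℝ) * ((b + 1).factorial : ℝ) / ((a + (b + 1) + 1).factorial : ℝ) =
          ((a + 1).factorial : ℝ) * (b.factorial : ℝ) / ((a + 1 + b + 1).factorial : ℝ) := by
        rw [show a + (b + 1) + 1 = (a + b + 1) + 1 by omega, show a + 1 + b + 1 = (a + b + 1) + 1 by omega,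
          Nat.factorial_succ (a + b + 1), Nat.factorial_succ a, Nat.factorial_succ b]
        have : ((a + b + 1).factorial : ℝ) ≠ 0 := by exact_mod_cast (a + b + 1).factorial_ne_zero
        have : ((a : ℝ) + b + 1 + 1) ≠ 0 := by positivity
        push_cast; field_simp; ring
      have hn1 : (n : ℝ) ^ (a + 1 + b) = n * (n : ℝ) ^ (a + b) := by ring
      rw [hrec, ← hF]
      have e1 := h₁ n hn
      have e2 := h₂ n hn
      rw [show (n : ℝ) ^ (a + (b + 1)) = n * (n : ℝ) ^ (a + b) by ring,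
        show (n : ℝ) ^ (a + (b + 1) + 1) = n * (n : ℝ) ^ (a + b + 1) by ring] at e2
      rw [show (n : ℝ) ^ (a + 1 + b + 1) = n * (n : ℝ) ^ (a + b + 1) by ring, hn1]
      rw [abs_le] at e1 e2 ⊢
      have hn0 : (0 : ℝ) ≤ n := n.cast_nonneg
      constructor <;> nlinarith [mul_le_mul_of_nonneg_left e1.1 hn0, mul_le_mul_of_nonneg_left e1.2 hn0]
  obtain ⟨C, hC⟩ := key (r - j) j
  rw [Nat.sub_add_cancel hj] at hC
  exact ⟨C, hC⟩

end Groth.Agent.S19210
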