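import Groth.Statements.S19212
import Groth.Agent.H26Misc.DiagTools
import Mathlib.LinearAlgebra.TensorProduct.Associator
import Mathlib.Tactic

set_option autoImplicit false
universe u v
open TensorProduct
open DiagIdeal

namespace Groth.Agent.S19212

/-- Let k be an algebraically closed field of characteristic zero and A a smooth k-algebra which is a
domain. Let the symmetric group on three letters permute the factors of A ⊗ A ⊗ A (it is generated
by the swap of the first two factors and the swap of the last two), let r : A ⊗ (A ⊗ A) → A ⊗ A be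
the k-linear map a ⊗ b ⊗ c ↦ ab ⊗ c, and let D : A ⊗ A → Ω_{A/k} be the k-linear map a ⊗ b ↦ 2a·db −
b·da. Then an element y of A ⊗ A satisfies D y = 0 if and only if y = r x for some x fixed by both
swaps, and D is surjective. (This is exactness at the last two places of the four-term right
resolution of the invariants of the ideal of the big diagonal on the symmetric cube of X = Spec A,
namely invariant functions on X³, then functions on X × X through restriction to a diagonal, then
one-forms on X; exactness at the first two places is immediate. The published statement is the sheaf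
version on the symmetric cube of a smooth complex variety of any dimension; an algebraically closed
field of characteristic zero is used here.) -/
theorem result (k : Type u) [Field k] [IsAlgClosed k] [CharZero k]
    (A : Type v) [CommRing A] [Algebra k A] [Algebra.Smooth k A] [IsDomain A]
    (r : A ⊗[k] (A ⊗[k] A) →ₗ[k] A ⊗[k] A)
    (hr : ∀ a b c : A, r (a ⊗ₜ[k] (b ⊗ₜ[k] c)) = (a * b) ⊗ₜ[k] c)
    (D : A ⊗[k] A →ₗ[k] Ω[A⁄k])
    (hD : ∀ a b : A, D (a ⊗ₜ[k] b) = (2 : A) • (a • KaehlerDifferential.D k A b) - b • KaehlerDifferential.D k A a) :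
    (∀ y : A ⊗[k] A, D y = 0 ↔ ∃ x : A ⊗[k] (A ⊗[k] A),
        TensorProduct.leftComm k A A A x = x ∧
        LinearMap.lTensor A (TensorProduct.comm k A A).toLinearMap x = x ∧ r x = y) ∧
    Function.Surjective D := by
  classical
  set τ₁ : A ⊗[k] (A ⊗[k] A) →ₗ[k] A ⊗[k] (A ⊗[k] A) := (TensorProduct.leftComm k A A A).toLinearMap with hτ₁
  set τ₂ : A ⊗[k] (A ⊗[k] A) →ₗ[k] A ⊗[k] (A ⊗[k] A) :=
    LinearMap.lTensor A (TensorProduct.comm k A A).toLinearMap with hτ₂
  set V : Submodule k (A ⊗[k] A) :=
    (LinearMap.ker (τ₁ - LinearMap.id) ⊓ LinearMap.ker (τ₂ - LinearMap.id)).map r with hV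
  have memV : ∀ y, y ∈ V ↔ ∃ x, τ₁ x = x ∧ τ₂ x = x ∧ r x = y := by
    intro y
    simp [hV, sub_eq_zero, and_assoc]
  have hg : ∀ a b c : A, (a * b) ⊗ₜ[k] c + (a * c) ⊗ₜ[k] b + (b * c) ⊗ₜ[k] a ∈ V := by
    intro a b c
    rw [memV]
    refine ⟨(2 : k)⁻¹ • (a ⊗ₜ[k] (b ⊗ₜ[k] c) + a ⊗ₜ[k] (c ⊗ₜ[k] b) + b ⊗ₜ[k] (a ⊗ₜ[k] c) +
      b ⊗ₜ[k] (c ⊗ₜ[k] a) + c ⊗ₜ[k] (a ⊗ₜ[k] b) + c ⊗ₜ[k] (b ⊗ₜ[k] a)), ?_, ?_, ?_⟩
    · rw [map_smul]; congr 1
      simp only [hτ₁, map_add, LinearEquiv.coe_coe, TensorProduct.leftComm_tmul]
      abel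
    · rw [map_smul]; congr 1
      simp only [hτ₂, map_add, LinearMap.lTensor_tmul, LinearEquiv.coe_coe, TensorProduct.comm_tmul]
      abel
    · simp only [map_smul, map_add, hr, mul_comm b a, mul_comm c a, mul_comm c b]
      module
  have hDg : ∀ a b c : A, D ((a * b) ⊗ₜ[k] c + (a * c) ⊗ₜ[k] b + (b * c) ⊗ₜ[k] a) = 0 := by
    intro a b c
    simp only [map_add, hD, Derivation.leibniz, smul_add, smul_smul]
    module
  refine ⟨fun y => ⟨fun hy => ?_, ?_⟩, ?_⟩
  · have hsq : ∀ z ∈ H26Misc.sqSpan k A, z ∈ V := by
      intro z hz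
      induction hz using Submodule.span_induction with
      | mem z hz =>
        obtain ⟨⟨a, u, v⟩, rfl⟩ := hz
        have e : (a ⊗ₜ[k] (1 : A)) * (H26Misc.dg k A u * H26Misc.dg k A v) =
            ((1 * a) ⊗ₜ[k] (u * v) + (1 * (u * v)) ⊗ₜ[k] a + (a * (u * v)) ⊗ₜ[k] (1 : A)) -
              ((a * u) ⊗ₜ[k] v + (a * v) ⊗ₜ[k] u + (u * v) ⊗ₜ[k] a) := by
          simp only [H26Misc.dg, mul_sub, sub_mul, Algebra.TensorProduct.tmul_mul_tmul, one_mul, mul_one]
          abel
        show (a ⊗ₜ[k] (1 : A)) * (H26Misc.dg k A u * H26Misc.dg k A v) ∈ V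
        rw [e]
        exact sub_mem (hg 1 a (u * v)) (hg a u v)
      | zero => exact zero_mem _
      | add x y _ _ hx hy => exact add_mem hx hy
      | smul c x _ hx => exact Submodule.smul_mem _ c hx
    set sw := (TensorProduct.comm k A A).toLinearMap
    have hthe : ∀ y : A ⊗[k] A,
        (KaehlerDifferential.D k A).tensorProductTo ((2 : k) • y - sw y) = D y := by
      intro y
      induction y using TensorProduct.induction_on with
      | zero => simp
      | tmul a b =>
        rw [map_sub, LinearMap.map_smul_of_tower]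
        simp only [sw, LinearEquiv.coe_coe, TensorProduct.comm_tmul, hD, Derivation.tensorProductTo_tmul]
        rw [← map_ofNat (algebraMap k A) 2, algebraMap_smul]
      | add x y hx hy => rw [map_add D, ← hx, ← hy]; simp only [smul_add, map_add, map_sub]; abel
    have h1 := hsq _ (H26Misc.theta_eq_zero_imp _ ((hthe y).trans hy))
    have h2 : y + sw y + (LinearMap.mul' k A y) ⊗ₜ[k] (1 : A) ∈ V := by
      clear hy h1
      induction y using TensorProduct.induction_on with
      | zero => simp
      | tmul a b =>
        simp only [sw, LinearEquiv.coe_coe, TensorProduct.comm_tmul, LinearMap.mul'_apply]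
        simpa using hg 1 a b
      | add x y hx hy =>
        convert add_mem hx hy using 1
        simp only [map_add, TensorProduct.add_tmul]; abel
    have hm : ∀ y, LinearMap.mul' k A (sw y) = LinearMap.mul' k A y := by
      intro y
      induction y using TensorProduct.induction_on with
      | zero => simp
      | tmul a b => simp [sw, mul_comm]
      | add x y hx hy => rw [map_add, map_add, map_add, hx, hy]
    have h3 : y ∈ V := by
      have := Submodule.smul_mem V (3 : k)⁻¹ (add_mem h1 h2)
      convert this using 1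
      rw [map_sub, map_smul, hm, TensorProduct.sub_tmul, ← TensorProduct.smul_tmul']
      module
    obtain ⟨x, h₁, h₂, h₃⟩ := (memV y).mp h3
    exact ⟨x, h₁, h₂, h₃⟩
  · rintro ⟨x, h₁, h₂, rfl⟩
    have hall : ∀ z, D (r (z + τ₁ z + τ₂ z + τ₁ (τ₂ z) + τ₂ (τ₁ z) + τ₁ (τ₂ (τ₁ z)))) = 0 := by
      intro z
      induction z using TensorProduct.induction_on with
      | zero => simp
      | tmul a w =>
        induction w using TensorProduct.induction_on with
        | zero => simp
        | tmul b c =>
          simp only [hτ₁, hτ₂, LinearMap.lTensor_tmul, LinearEquiv.coe_coe, TensorProduct.leftComm_tmul,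
            TensorProduct.comm_tmul, map_add, hr, hD, mul_comm b a, mul_comm c a, mul_comm c b]
          have := hDg a b c
          simp only [map_add, hD] at this
          linear_combination (norm := module) (2 : ℕ) • this
        | add w₁ w₂ e₁ e₂ =>
          rw [TensorProduct.tmul_add]
          simp only [map_add] at e₁ e₂ ⊢
          linear_combination (norm := abel) e₁ + e₂
      | add z₁ z₂ e₁ e₂ =>
        simp only [map_add] at e₁ e₂ ⊢
        linear_combination (norm := abel) e₁ + e₂
    have e₁ : τ₁ x = x := h₁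
    have h := hall x
    simp only [e₁, show τ₂ x = x from h₂] at h
    have h6 : (6 : k) • D (r x) = 0 := by
      rw [← h]; simp only [map_add]; module
    exact (smul_eq_zero.mp h6).resolve_left (by norm_num)
  · intro ω
    have hω : ω ∈ LinearMap.range D := by
      have htop := H26Misc.span_smul_D_eq_top (k := k) (A := A)
      have hle : Submodule.span k (Set.range fun t : A × A => t.1 • KaehlerDifferential.D k A t.2) ≤
          LinearMap.range D := by
        rw [Submodule.span_le]
        rintro _ ⟨⟨a, b⟩, rfl⟩
        refine ⟨(3 : k)⁻¹ • ((2 : k) • (a ⊗ₜ[k] b) + b ⊗ₜ[k] a), ?_⟩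
        simp only [map_smul, map_add, hD]
        have key : algebraMap k A (3 : k)⁻¹ * 3 = 1 := by
          rw [← map_ofNat (algebraMap k A) 3, ← map_mul, inv_mul_cancel₀ (by norm_num), map_one]
        match_scalars
        · simp only [map_ofNat]
          linear_combination a * key
        · simp only [map_ofNat]
          ring
      exact hle (htop ▸ Submodule.mem_top)
    exact hω

end Groth.Agent.S19212
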