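import Groth.Statements.S19213
import Groth.Agent.H26Misc.DiagTools
import Mathlib.LinearAlgebra.TensorProduct.Associator
import Mathlib.Tactic

set_option autoImplicit false
universe u v
open TensorProduct
open DiagIdeal

namespace Groth.Agent.S19213

/-- Let k be an algebraically closed field of characteristic zero and A a smooth k-algebra which is a
domain. Let r₁₂, r₂₃ : A ⊗ (A ⊗ A) → A ⊗ A be the k-linear maps a ⊗ u ⊗ v ↦ au ⊗ v and a ⊗ u ⊗ v ↦
uv ⊗ a (restriction to the diagonal of factors 1, 2, resp. 2, 3, the repeated coordinate written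
first), let m : A ⊗ A → A be multiplication, and let ψ : (A ⊗ A) × (A ⊗ A) → Ω_{A/k} be the k-linear
map with ψ(a ⊗ u, b ⊗ v) = 2a·du − v·db. Then for p, q in A ⊗ A with m p = m q one has ψ(p, q) = 0
if and only if (p, q) = (r₁₂ x, r₂₃ x) for some x fixed by the swap of the last two tensor factors;
and every element of Ω_{A/k} is ψ(p, q) for some pair with m p = m q. (This is exactness at the last
two places of the right resolution, on the symmetric cube of X = Spec A, of the invariants of the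
ideal of the big diagonal under the transposition of the last two factors; exactness at the first
two places is immediate. The published statement is the sheaf version for a smooth complex variety
of any dimension; an algebraically closed field of characteristic zero is used here.) -/
theorem result (k : Type u) [Field k] [IsAlgClosed k] [CharZero k]
    (A : Type v) [CommRing A] [Algebra k A] [Algebra.Smooth k A] [IsDomain A]
    (r₁₂ r₂₃ : A ⊗[k] (A ⊗[k] A) →ₗ[k] A ⊗[k] A)
    (h₁₂ : ∀ a u v : A, r₁₂ (a ⊗ₜ[k] (u ⊗ₜ[k] v)) = (a * u) ⊗ₜ[k] v)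
    (h₂₃ : ∀ a u v : A, r₂₃ (a ⊗ₜ[k] (u ⊗ₜ[k] v)) = (u * v) ⊗ₜ[k] a)
    (ψ : (A ⊗[k] A) × (A ⊗[k] A) →ₗ[k] Ω[A⁄k])
    (hψ : ∀ a u b v : A, ψ (a ⊗ₜ[k] u, b ⊗ₜ[k] v) =
      (2 : A) • (a • KaehlerDifferential.D k A u) - v • KaehlerDifferential.D k A b) :
    (∀ p q : A ⊗[k] A, LinearMap.mul' k A p = LinearMap.mul' k A q →
      (ψ (p, q) = 0 ↔ ∃ x : A ⊗[k] (A ⊗[k] A),
        LinearMap.lTensor A (TensorProduct.comm k A A).toLinearMap x = x ∧ r₁₂ x = p ∧ r₂₃ x = q)) ∧
    (∀ ω : Ω[A⁄k], ∃ p q : A ⊗[k] A, LinearMap.mul' k A p = LinearMap.mul' k A q ∧ ψ (p, q) = ω) := by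
  classical
  set τ : A ⊗[k] (A ⊗[k] A) →ₗ[k] A ⊗[k] (A ⊗[k] A) :=
    LinearMap.lTensor A (TensorProduct.comm k A A).toLinearMap with hτ
  set V : Submodule k ((A ⊗[k] A) × (A ⊗[k] A)) :=
    (LinearMap.ker (τ - LinearMap.id)).map (r₁₂.prod r₂₃) with hV
  have memV : ∀ p q, (p, q) ∈ V ↔ ∃ x, τ x = x ∧ r₁₂ x = p ∧ r₂₃ x = q := by
    intro p q
    simp [hV, sub_eq_zero]
  have hg : ∀ a u v : A, ((a * u) ⊗ₜ[k] v + (a * v) ⊗ₜ[k] u, (u * v) ⊗ₜ[k] a + (v * u) ⊗ₜ[k] a) ∈ V := by
    intro a u v
    rw [memV]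
    exact ⟨a ⊗ₜ[k] (u ⊗ₜ[k] v) + a ⊗ₜ[k] (v ⊗ₜ[k] u),
      by simp only [hτ, map_add, LinearMap.lTensor_tmul, LinearEquiv.coe_coe, TensorProduct.comm_tmul]; abel,
      by rw [map_add, h₁₂, h₁₂], by rw [map_add, h₂₃, h₂₃]⟩
  set θ := (KaehlerDifferential.D k A).tensorProductTo
  have hψ1 : ∀ a u : A, ψ (a ⊗ₜ[k] u, 0) = (2 : A) • (a • KaehlerDifferential.D k A u) := by
    intro a u
    have := hψ a u (0 : A) 0
    simpa using this
  have hψ2 : ∀ b v : A, ψ (0, b ⊗ₜ[k] v) = - (v • KaehlerDifferential.D k A b) := by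
    intro b v
    have := hψ 0 0 b v
    simpa using this
  have hsplit : ∀ p q, ψ (p, q) = ψ (p, 0) + ψ (0, q) := fun p q => by
    rw [← map_add, Prod.mk_add_mk, add_zero, zero_add]
  have hψθ : ∀ p, ψ (p, 0) = (2 : A) • θ p := by
    intro p
    induction p using TensorProduct.induction_on with
    | zero => rw [show ((0, 0) : (A ⊗[k] A) × (A ⊗[k] A)) = 0 from rfl, map_zero, map_zero, smul_zero]
    | tmul a u => rw [hψ1]; simp only [θ, Derivation.tensorProductTo_tmul]
    | add x y hx hy =>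
      rw [map_add, smul_add, ← hx, ← hy, ← map_add, Prod.mk_add_mk, add_zero]
  refine ⟨fun p q hpq => ⟨fun h => ?_, ?_⟩, ?_⟩
  · obtain ⟨p₀, hp₀⟩ : ∃ p₀, (p₀, q) ∈ V := by
      clear hpq h
      induction q using TensorProduct.induction_on with
      | zero => exact ⟨0, zero_mem V⟩
      | tmul v a =>
        refine ⟨(2 : k)⁻¹ • ((a * 1) ⊗ₜ[k] v + (a * v) ⊗ₜ[k] 1), ?_⟩
        have := Submodule.smul_mem V (2 : k)⁻¹ (hg a 1 v)
        rw [Prod.smul_mk, mul_comm v (1 : A)] at this
        convert this using 2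
        rw [one_mul]
        module
      | add x y hx hy =>
        obtain ⟨a, ha⟩ := hx; obtain ⟨b, hb⟩ := hy
        exact ⟨a + b, add_mem ha hb⟩
    have hzero : ∀ z, ψ (r₁₂ (z + τ z), r₂₃ (z + τ z)) = 0 ∧
        LinearMap.mul' k A (r₁₂ z) = LinearMap.mul' k A (r₂₃ z) := by
      intro z
      induction z using TensorProduct.induction_on with
      | zero =>
        refine ⟨?_, by simp⟩
        rw [map_zero τ, add_zero, map_zero, map_zero]
        exact map_zero ψ
      | tmul a w =>
        induction w using TensorProduct.induction_on with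
        | zero =>
          refine ⟨?_, by simp⟩
          rw [TensorProduct.tmul_zero, map_zero τ, add_zero, map_zero, map_zero]
          exact map_zero ψ
        | tmul u v =>
          refine ⟨?_, by simp [h₁₂, h₂₃]; ring⟩
          simp only [hτ, LinearMap.lTensor_tmul, LinearEquiv.coe_coe, TensorProduct.comm_tmul, map_add, h₁₂, h₂₃]
          rw [← Prod.mk_add_mk, map_add, hψ, hψ]
          simp only [Derivation.leibniz, smul_add, smul_smul]
          module
        | add w₁ w₂ e₁ e₂ =>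
          simp only [TensorProduct.tmul_add, map_add] at e₁ e₂ ⊢
          refine ⟨?_, by rw [e₁.2, e₂.2]⟩
          have := congrArg₂ (· + ·) e₁.1 e₂.1
          simp only [← map_add, Prod.mk_add_mk, add_zero] at this
          rw [← this]; congr 2 <;> simp only [map_add] <;> abel
      | add z₁ z₂ e₁ e₂ =>
        refine ⟨?_, by simp only [map_add]; rw [e₁.2, e₂.2]⟩
        have := congrArg₂ (· + ·) e₁.1 e₂.1
        simp only [← map_add, Prod.mk_add_mk, add_zero] at this
        rw [← this]; congr 2 <;> simp only [map_add] <;> abel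
    obtain ⟨x₀, hx₀, hxp, hxq⟩ := (memV p₀ q).mp hp₀
    have hψ0 : ψ (p₀, q) = 0 := by
      have := (hzero x₀).1
      rw [hx₀, map_add, map_add, hxp, hxq, ← two_smul k p₀, ← two_smul k q, ← Prod.smul_mk, map_smul] at this
      exact (smul_eq_zero.mp this).resolve_left (by norm_num)
    have hm0 : LinearMap.mul' k A p₀ = LinearMap.mul' k A q := by rw [← hxp, ← hxq]; exact (hzero x₀).2
    set p' := p - p₀ with hp'
    have hd : ψ (p', 0) = 0 := by
      rw [show ((p', 0) : (A ⊗[k] A) × (A ⊗[k] A)) = (p, q) - (p₀, q) by simp [hp'], map_sub, h, hψ0, sub_self]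
    have hθ : θ p' = 0 := by
      rw [hψθ, ← map_ofNat (algebraMap k A) 2, algebraMap_smul] at hd
      exact (smul_eq_zero.mp hd).resolve_left (by norm_num)
    have hsq := H26Misc.theta_eq_zero_imp p' hθ
    rw [hp', map_sub, hpq, hm0, sub_self, TensorProduct.zero_tmul, sub_zero, ← hp'] at hsq
    have hmem : (p', (0 : A ⊗[k] A)) ∈ V := by
      clear hθ hd hpq h
      clear_value p'
      clear hp'
      induction hsq using Submodule.span_induction with
      | mem z hz =>
        obtain ⟨⟨a, u, v⟩, rfl⟩ := hz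
        rw [memV]
        refine ⟨(a * v) ⊗ₜ[k] (u ⊗ₜ[k] 1) - a ⊗ₜ[k] (u ⊗ₜ[k] v) - (a * v) ⊗ₜ[k] (1 ⊗ₜ[k] u) +
          a ⊗ₜ[k] (1 ⊗ₜ[k] (u * v)) + ((a * v) ⊗ₜ[k] (1 ⊗ₜ[k] u) - a ⊗ₜ[k] (v ⊗ₜ[k] u) -
          (a * v) ⊗ₜ[k] (u ⊗ₜ[k] 1) + a ⊗ₜ[k] ((u * v) ⊗ₜ[k] 1)), ?_, ?_, ?_⟩
        · simp only [hτ, map_add, map_sub, LinearMap.lTensor_tmul, LinearEquiv.coe_coe, TensorProduct.comm_tmul]
          abel
        · simp only [map_add, map_sub, h₁₂, H26Misc.dg, mul_sub, sub_mul,
            Algebra.TensorProduct.tmul_mul_tmul, one_mul, mul_one]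
          simp only [mul_comm u v, mul_assoc]
          abel
        · simp only [map_add, map_sub, h₂₃, one_mul, mul_one, mul_comm v u]
          abel
      | zero => exact zero_mem V
      | add x y _ _ hx hy => simpa using add_mem hx hy
      | smul c x _ hx => simpa using Submodule.smul_mem _ c hx
    have hfin := add_mem hmem hp₀
    rw [Prod.mk_add_mk, zero_add, hp', sub_add_cancel] at hfin
    exact (memV p q).mp hfin
  · rintro ⟨x, hx, rfl, rfl⟩
    have hz : ∀ z, ψ (r₁₂ (z + τ z), r₂₃ (z + τ z)) = 0 := by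
      intro z
      induction z using TensorProduct.induction_on with
      | zero => rw [map_zero τ, add_zero, map_zero, map_zero]; exact map_zero ψ
      | tmul a w =>
        induction w using TensorProduct.induction_on with
        | zero => rw [TensorProduct.tmul_zero, map_zero τ, add_zero, map_zero, map_zero]; exact map_zero ψ
        | tmul u v =>
          simp only [hτ, LinearMap.lTensor_tmul, LinearEquiv.coe_coe, TensorProduct.comm_tmul, map_add, h₁₂, h₂₃]
          rw [← Prod.mk_add_mk, map_add, hψ, hψ]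
          simp only [Derivation.leibniz, smul_add, smul_smul]
          module
        | add w₁ w₂ e₁ e₂ =>
          have := congrArg₂ (· + ·) e₁ e₂
          simp only [← map_add, Prod.mk_add_mk, add_zero] at this
          rw [← this]; congr 2 <;> simp only [TensorProduct.tmul_add, map_add] <;> abel
      | add z₁ z₂ e₁ e₂ =>
        have := congrArg₂ (· + ·) e₁ e₂
        simp only [← map_add, Prod.mk_add_mk, add_zero] at this
        rw [← this]; congr 2 <;> simp only [map_add] <;> abel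
    have := hz x
    rw [show τ x = x from hx, map_add, map_add, ← two_smul k (r₁₂ x), ← two_smul k (r₂₃ x), ← Prod.smul_mk, map_smul] at this
    exact (smul_eq_zero.mp this).resolve_left (by norm_num)
  · intro ω
    have htop : ω ∈ Submodule.span k (Set.range fun t : A × A => t.1 • KaehlerDifferential.D k A t.2) :=
      H26Misc.span_smul_D_eq_top (k := k) (A := A) ▸ Submodule.mem_top
    suffices ∃ p, LinearMap.mul' k A p = 0 ∧ ψ (p, 0) = ω by
      obtain ⟨p, hp, hp'⟩ := this
      exact ⟨p, 0, by rw [hp, map_zero], hp'⟩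
    induction htop using Submodule.span_induction with
    | mem z hz =>
      obtain ⟨⟨a, u⟩, rfl⟩ := hz
      refine ⟨(2 : k)⁻¹ • (a ⊗ₜ[k] u - (a * u) ⊗ₜ[k] 1), by simp, ?_⟩
      rw [hψθ, LinearMap.map_smul_of_tower, map_sub]
      simp only [θ, Derivation.tensorProductTo_tmul, Derivation.map_one_eq_zero, smul_zero, sub_zero]
      rw [← map_ofNat (algebraMap k A) 2, algebraMap_smul, smul_smul, mul_inv_cancel₀ (by norm_num), one_smul]
    | zero => exact ⟨0, map_zero _, map_zero ψ⟩
    | add x y _ _ hx hy =>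
      obtain ⟨p₁, a₁, b₁⟩ := hx; obtain ⟨p₂, a₂, b₂⟩ := hy
      exact ⟨p₁ + p₂, by rw [map_add, a₁, a₂, add_zero], by rw [← b₁, ← b₂, ← map_add, Prod.mk_add_mk, add_zero]⟩
    | smul c x _ hx =>
      obtain ⟨p₁, a₁, b₁⟩ := hx
      exact ⟨c • p₁, by rw [map_smul, a₁, smul_zero], by rw [← b₁, ← map_smul, Prod.smul_mk, smul_zero]⟩

end Groth.Agent.S19213
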