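import Groth.Statements.S19216
import Mathlib.Algebra.BigOperators.Field
import Mathlib.LinearAlgebra.Pi
import Mathlib.Tactic

set_option autoImplicit false
universe u
open SymRep

namespace Groth.Agent.S19216

/-- Let k be a field of characteristic zero and r, s ≥ 1. Realise the standard representation of the
symmetric group on a finite set T as the hyperplane of functions T → k with sum zero, the group
acting by precomposition with the inverse. Then the standard representation of the symmetric group
of Fin r ⊕ Fin s, restricted to the subgroup S_r × S_s, is isomorphic to the direct sum of the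
standard representations of S_r and of S_s and of a one-dimensional trivial representation: there is
a k-linear map E from functions on Fin r ⊕ Fin s to triples (function on Fin r, function on Fin s,
scalar), compatible with the actions of S_r × S_s (trivial on the scalar), which maps the sum-zero
hyperplane bijectively onto the product of the two sum-zero hyperplanes and k. (The published
statement is over the complex numbers; a field of characteristic zero is used here. The published
statement also gives the analogous decomposition for any number of blocks, which follows by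
induction; only the two-block case is stated here.) -/
theorem result (k : Type u) [Field k] [CharZero k]
    (r s : ℕ) (hr : 1 ≤ r) (hs : 1 ≤ s) :
    ∃ E : (Fin r ⊕ Fin s → k) →ₗ[k] (Fin r → k) × (Fin s → k) × k,
      (∀ (σ : Equiv.Perm (Fin r)) (τ : Equiv.Perm (Fin s)) (f : Fin r ⊕ Fin s → k),
        E (f ∘ ⇑(Equiv.sumCongr σ τ).symm) = ((E f).1 ∘ ⇑σ.symm, (E f).2.1 ∘ ⇑τ.symm, (E f).2.2)) ∧
      Set.BijOn E {f | ∑ i, f i = 0}
        ({g : Fin r → k | ∑ i, g i = 0} ×ˢ ({h : Fin s → k | ∑ i, h i = 0} ×ˢ Set.univ)) := by
  classical
  let L : (Fin r ⊕ Fin s → k) →ₗ[k] k := ∑ a : Fin r, LinearMap.proj (Sum.inl a)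
  let L' : (Fin r ⊕ Fin s → k) →ₗ[k] k := ∑ a : Fin s, LinearMap.proj (Sum.inr a)
  have hr0 : (r : k) ≠ 0 := Nat.cast_ne_zero.mpr (by omega)
  have hs0 : (s : k) ≠ 0 := Nat.cast_ne_zero.mpr (by omega)
  refine ⟨(LinearMap.funLeft k k Sum.inl - LinearMap.pi (fun _ => (r : k)⁻¹ • L)).prod
      ((LinearMap.funLeft k k Sum.inr - LinearMap.pi (fun _ => (s : k)⁻¹ • L')).prod L), ?_, ?_⟩
  · intro σ τ f
    have hL : L (f ∘ ⇑(Equiv.sumCongr σ τ).symm) = L f := by
      simpa [L] using Equiv.sum_comp σ.symm (fun a => f (Sum.inl a))
    have hL' : L' (f ∘ ⇑(Equiv.sumCongr σ τ).symm) = L' f := by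
      simpa [L'] using Equiv.sum_comp τ.symm (fun a => f (Sum.inr a))
    refine Prod.ext ?_ (Prod.ext ?_ hL)
    · funext a; rw [Equiv.sumCongr_symm] at hL; simp [hL, LinearMap.funLeft_apply]
    · funext a; rw [Equiv.sumCongr_symm] at hL'; simp [hL', LinearMap.funLeft_apply]
  · refine Set.InvOn.bijOn (f' := fun g => Sum.elim (fun a => g.1 a + g.2.2 / r) (fun a => g.2.1 a - g.2.2 / s)) ⟨?_, ?_⟩ ?_ ?_
    · intro f hf
      simp only [Set.mem_setOf_eq, Fintype.sum_sum_type] at hf
      have hf' : L' f = -L f := by simp [L, L']; linear_combination hf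
      funext x
      rcases x with a | a
      · simp [LinearMap.funLeft_apply]; ring
      · simp [LinearMap.funLeft_apply, hf']; ring
    · rintro ⟨g, h, c⟩ ⟨hg, hh, -⟩
      simp only [Set.mem_setOf_eq] at hg hh
      have hL : L (Sum.elim (fun a => g a + c / r) (fun a => h a - c / s)) = c := by
        simp [L, Finset.sum_add_distrib, hg]; field_simp
      have hL' : L' (Sum.elim (fun a => g a + c / r) (fun a => h a - c / s)) = -c := by
        simp [L', Finset.sum_sub_distrib, hh]; field_simp
      refine Prod.ext ?_ (Prod.ext ?_ hL)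
      · funext a; simp [hL, LinearMap.funLeft_apply]; field_simp; ring
      · funext a; simp [hL', LinearMap.funLeft_apply]; field_simp; ring
    · intro f _
      refine ⟨?_, ?_, Set.mem_univ _⟩
      · simp [L, LinearMap.funLeft_apply, Finset.sum_sub_distrib, Set.mem_setOf_eq]; field_simp; ring
      · simp [L', LinearMap.funLeft_apply, Finset.sum_sub_distrib, Set.mem_setOf_eq]; field_simp; ring
    · rintro ⟨g, h, c⟩ ⟨hg, hh, -⟩
      simp only [Set.mem_setOf_eq] at hg hh ⊢
      simp [Fintype.sum_sum_type, Finset.sum_add_distrib, Finset.sum_sub_distrib, hg, hh]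
      field_simp; ring

end Groth.Agent.S19216
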