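import Groth.Statements.S19217
import Groth.Agent.H02CA.DiagLC.Tensor
import Groth.Agent.H02CA.DiagLC.Regular
import Groth.Agent.H02CA.SmoothRegular

set_option autoImplicit false
universe u
open TensorProduct CategoryTheory CategoryTheory.Limits
open DiagIdeal

namespace Groth.Agent.S19217

/-- Let k be an algebraically closed field of characteristic zero and A a smooth k-algebra which is a
domain of Krull dimension 2 (an affine piece of a smooth surface). In the n-fold tensor power R of A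
over k, indexed by Fin n, let I_p (p = (i, j), i < j) be the ideal generated by the a_i − a_j, a ∈
A, the ideal of the diagonal of factors i and j; let M be the intersection of the powers I_p ^ ℓ(p)
over all p with i < j, for arbitrary exponents ℓ; and let 𝔞 be the intersection, over all pairs of
distinct index pairs p ≠ q, of I_p + I_q (an ideal cutting out the locus W where two distinct
pairwise diagonals meet, of codimension 4). Then the local cohomology modules of M with support in 𝔞
vanish in degrees 0 and 1; equivalently M, as a sheaf on Spec R, coincides with the direct image of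
its restriction to the complement of W. (The source states this for the product of copies of a
smooth quasi-projective complex surface, as the equality of the direct image from the complement of
W of the restricted product of the powers of the diagonal ideals with the intersection of those
powers; the two sheaves agree away from W, where the diagonals are pairwise disjoint.) -/
theorem result (k : Type u) [Field k] [IsAlgClosed k] [CharZero k]
    (A : Type u) [CommRing A] [Algebra k A] [Algebra.Smooth k A] [IsDomain A]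
    (hdim : ringKrullDim A = 2) (n : ℕ) (ℓ : Fin n × Fin n → ℕ)
    (I : Fin n × Fin n → Ideal (⨂[k] _ : Fin n, A))
    (hI : ∀ p, I p = Ideal.span (Set.range fun a : A =>
        PiTensorProduct.singleAlgHom (R := k) (A := fun _ : Fin n => A) p.1 a -
        PiTensorProduct.singleAlgHom (R := k) (A := fun _ : Fin n => A) p.2 a))
    (𝔞 : Ideal (⨂[k] _ : Fin n, A))
    (h𝔞 : 𝔞 = ⨅ pq ∈ Finset.univ.filter (fun pq : (Fin n × Fin n) × (Fin n × Fin n) =>
        pq.1.1 < pq.1.2 ∧ pq.2.1 < pq.2.2 ∧ pq.1 ≠ pq.2), I pq.1 ⊔ I pq.2)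
    (M : Submodule (⨂[k] _ : Fin n, A) (⨂[k] _ : Fin n, A))
    (hM : M = ⨅ p ∈ Finset.univ.filter (fun p : Fin n × Fin n => p.1 < p.2), (I p) ^ (ℓ p)) :
    IsZero ((localCohomology 𝔞 0).obj (ModuleCat.of (⨂[k] _ : Fin n, A) M)) ∧
    IsZero ((localCohomology 𝔞 1).obj (ModuleCat.of (⨂[k] _ : Fin n, A) M)) := by
  classical
  obtain rfl : I = fun p => H02CA.DiagLC.diag p.1 p.2 := funext fun p => hI p
  haveI : IsNoetherianRing (⨂[k] _ : Fin n, A) := by
    haveI := H02CA.DiagLC.smooth (k := k) (A := A) (ι := Fin n)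
    exact Algebra.FiniteType.isNoetherianRing k _
  haveI : IsRegularRing (⨂[k] _ : Fin n, A) := by
    haveI := H02CA.DiagLC.smooth (k := k) (A := A) (ι := Fin n)
    exact H02CA.isRegularRing_of_smooth k _
  haveI : IsDomain (⨂[k] _ : Fin n, A) := H02CA.DiagLC.isDomain
  -- an element outside the scalars
  obtain ⟨a, φ, hφ1, hφa, ψ, hψ1⟩ : ∃ (a : A) (φ : A →ₗ[k] k), φ 1 = 0 ∧ φ a = 1 ∧
      ∃ ψ : A →ₗ[k] k, ψ 1 = 1 := by
    obtain ⟨a, ha⟩ : ∃ a : A, a ∉ Submodule.span k {(1 : A)} := by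
      by_contra hall
      push Not at hall
      have hsurj : Function.Surjective (algebraMap k A) := fun a => by
        obtain ⟨c, hc⟩ := Submodule.mem_span_singleton.1 (hall a)
        exact ⟨c, by rw [← hc, Algebra.smul_def, mul_one]⟩
      have h := ringKrullDim_le_of_surjective (algebraMap k A) hsurj
      rw [hdim, ringKrullDim_eq_zero_of_field] at h
      norm_cast at h
    obtain ⟨f, hfa, hf⟩ := Submodule.exists_le_ker_of_notMem ha
    obtain ⟨g, hg1, -⟩ := Submodule.exists_le_ker_of_notMem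
      (show (1 : A) ∉ (⊥ : Submodule k A) by simp)
    refine ⟨a, (f a)⁻¹ • f, ?_, inv_mul_cancel₀ hfa, (g 1)⁻¹ • g, inv_mul_cancel₀ hg1⟩
    have : f 1 = 0 := hf (Submodule.subset_span rfl)
    simp [this]
  have hprime : ∀ p : Fin n × Fin n, p.1 < p.2 → (H02CA.DiagLC.diag (k := k) (A := A) p.1 p.2).IsPrime :=
    fun p hp => H02CA.DiagLC.isPrime_diag p.1 p.2 hp.ne
  have hbot : ∀ p : Fin n × Fin n, p.1 < p.2 → H02CA.DiagLC.diag (k := k) (A := A) p.1 p.2 ≠ ⊥ :=
    fun p hp h0 => H02CA.DiagLC.inc_sub_ne_zero a φ hφ1 hφa ψ hψ1 hp.ne (by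
      rw [← Submodule.mem_bot (R := ⨂[k] _ : Fin n, A), ← h0]
      exact Ideal.subset_span ⟨a, rfl⟩)
  have hsep : ∀ p q : Fin n × Fin n, p.1 < p.2 → q.1 < q.2 →
      H02CA.DiagLC.diag (k := k) (A := A) q.1 q.2 ≤ H02CA.DiagLC.diag p.1 p.2 → q = p := by
    intro p q hp hq hle
    by_contra hne
    have h1 := (hle.trans (H02CA.DiagLC.diag_le_ker p.1 p.2 hp.ne)) (Ideal.subset_span ⟨a, rfl⟩)
    rw [RingHom.mem_ker, map_sub, H02CA.DiagLC.collapse_inc, H02CA.DiagLC.collapse_inc] at h1
    refine H02CA.DiagLC.inc_sub_ne_zero a φ hφ1 hφa ψ hψ1 ?_ h1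
    obtain ⟨i, j⟩ := p; obtain ⟨r, t⟩ := q
    simp only [Prod.mk.injEq, not_and] at hne hp hq ⊢
    intro heq
    have hh := congrArg Subtype.val heq
    simp only [H02CA.DiagLC.fold] at hh
    split_ifs at hh with h2 h3 h3 <;> simp only at hh
    · omega
    · subst h2; omega
    · subst h3; exact hne hh rfl
    · omega
  have hpair : ∀ P : Ideal (⨂[k] _ : Fin n, A), P.IsPrime → 𝔞 ≤ P →
      ∃ p q : Fin n × Fin n, p.1 < p.2 ∧ q.1 < q.2 ∧ p ≠ q ∧
        H02CA.DiagLC.diag p.1 p.2 ≤ P ∧ H02CA.DiagLC.diag q.1 q.2 ≤ P := by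
    intro P hP hle
    rw [h𝔞, ← Finset.inf_eq_iInf, Ideal.IsPrime.inf_le' hP] at hle
    obtain ⟨⟨p, q⟩, hpq, hle⟩ := hle
    rw [Finset.mem_filter] at hpq
    exact ⟨p, q, hpq.2.1, hpq.2.2.1, hpq.2.2.2, le_sup_left.trans hle, le_sup_right.trans hle⟩
  refine H02CA.DiagLC.isZero_localCohomology_zero_one 𝔞 M
    (H02CA.DiagLC.two_le_idealDepth 𝔞 fun P hP hle => ?_) fun x m hx => ?_
  · obtain ⟨p, q, hp, hq, hne, hpP, hqP⟩ := hpair P hP hle
    haveI := hprime p hp
    haveI : (⊥ : Ideal (⨂[k] _ : Fin n, A)).IsPrime := Ideal.isPrime_bot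
    have hlt1 : (⊥ : Ideal (⨂[k] _ : Fin n, A)) < H02CA.DiagLC.diag p.1 p.2 := bot_lt_iff_ne_bot.2 (hbot p hp)
    have hlt2 : H02CA.DiagLC.diag p.1 p.2 < P := lt_of_le_of_ne hpP fun he =>
      hne (hsep p q hp hq (he ▸ hqP)).symm
    have h1 := Ideal.height_strict_mono_of_isPrime hlt1
    have h2 := Ideal.height_strict_mono_of_isPrime hlt2
    calc (2 : ℕ∞) = 0 + 1 + 1 := by norm_num
      _ ≤ (H02CA.DiagLC.diag (k := k) (A := A) p.1 p.2).height + 1 := by
        gcongr
        exact Order.add_one_le_of_lt (lt_of_le_of_lt zero_le h1)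
      _ ≤ P.height := Order.add_one_le_of_lt h2
  · have hx' : ∀ b ∈ 𝔞 ^ m, b * x ∈ M := hx
    rw [hM, Submodule.mem_iInf]
    intro p
    rw [Submodule.mem_iInf]
    intro hp
    have hp' : p.1 < p.2 := (Finset.mem_filter.1 hp).2
    haveI := hprime p hp'
    haveI : IsRegularRing ((⨂[k] _ : Fin n, A) ⧸ H02CA.DiagLC.diag (k := k) (A := A) p.1 p.2) := by
      haveI := H02CA.DiagLC.smooth_quot (k := k) (A := A) p.1 p.2 hp'.ne
      exact H02CA.isRegularRing_of_smooth k _
    obtain ⟨b, hb, hbp⟩ : ∃ b ∈ 𝔞 ^ m, b ∉ H02CA.DiagLC.diag p.1 p.2 := by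
      by_contra hall
      push Not at hall
      obtain ⟨p', q', hp1, hq1, hne, h1, h2⟩ := hpair _ (hprime p hp')
        (Ideal.IsPrime.le_of_pow_le hall)
      exact hne ((hsep p p' hp' hp1 h1).trans (hsep p q' hp' hq1 h2).symm)
    have h3 := hx' b hb
    rw [hM, Submodule.mem_iInf] at h3
    have h4 := h3 p
    rw [Submodule.mem_iInf] at h4
    exact H02CA.DiagLC.mem_pow_of_mul_mem _ hbp _ (h4 hp)

end Groth.Agent.S19217
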