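import Groth.Statements.S19218
import Mathlib.RingTheory.PiTensorProduct
import Mathlib.RingTheory.Ideal.Operations
import Mathlib.Tactic

set_option autoImplicit false
universe u v
open TensorProduct
open DiagIdeal

namespace Groth.Agent.S19218

/-- Let k be an algebraically closed field of characteristic zero and A a smooth k-algebra which is a
domain of Krull dimension 2. In the n-fold tensor power R of A over k, indexed by Fin n, let I_p (p
= (i, j), i < j) be the ideal generated by the a_i − a_j, a ∈ A, and let I be the intersection of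
the I_p, the ideal of the big diagonal. Assume that for every s ≥ 0 the power I ^ s is the
intersection of the powers I_p ^ s (a property of the big diagonal of a smooth surface that the
source takes from the literature). Then for m ≥ 1 every element of R fixed by all permutations of
the n factors and lying in I ^ (2m − 1) lies in I ^ (2m): on the symmetric product the invariants of
the odd power and of the next even power of the ideal of the big diagonal coincide. (The source
states the sheaf version for a smooth quasi-projective complex surface, using the displayed property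
of the powers without restating it as a hypothesis.) -/
theorem result (k : Type u) [Field k] [IsAlgClosed k] [CharZero k]
    (A : Type v) [CommRing A] [Algebra k A] [Algebra.Smooth k A] [IsDomain A]
    (hdim : ringKrullDim A = 2) (n : ℕ)
    (I : Fin n × Fin n → Ideal (⨂[k] _ : Fin n, A))
    (hI : ∀ p, I p = Ideal.span (Set.range fun a : A =>
        PiTensorProduct.singleAlgHom (R := k) (A := fun _ : Fin n => A) p.1 a -
        PiTensorProduct.singleAlgHom (R := k) (A := fun _ : Fin n => A) p.2 a))
    (IΔ : Ideal (⨂[k] _ : Fin n, A))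
    (hIΔ : IΔ = ⨅ p ∈ Finset.univ.filter (fun p : Fin n × Fin n => p.1 < p.2), I p)
    (hpow : ∀ s : ℕ, IΔ ^ s = ⨅ p ∈ Finset.univ.filter (fun p : Fin n × Fin n => p.1 < p.2), (I p) ^ s)
    (m : ℕ) (hm : 1 ≤ m) (x : ⨂[k] _ : Fin n, A)
    (hx : ∀ σ : Equiv.Perm (Fin n), PiTensorProduct.reindex k (fun _ : Fin n => A) σ x = x)
    (hmem : x ∈ IΔ ^ (2 * m - 1)) :
    x ∈ IΔ ^ (2 * m) := by
  classical
  rw [hpow] at hmem ⊢
  simp only [Submodule.mem_iInf] at hmem ⊢
  intro p hp
  have hxp := hmem p hp
  set τ : (⨂[k] _ : Fin n, A) →ₗ[k] (⨂[k] _ : Fin n, A) :=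
    (PiTensorProduct.reindex k (fun _ : Fin n => A) (Equiv.swap p.1 p.2)).toLinearMap with hτ
  have hτt : ∀ f : Fin n → A, τ (PiTensorProduct.tprod k f) =
      PiTensorProduct.tprod k (fun i => f (Equiv.swap p.1 p.2 i)) := by
    intro f
    rw [hτ, LinearEquiv.coe_coe, PiTensorProduct.reindex_tprod, Equiv.symm_swap]
  have hτ1 : τ 1 = 1 := hτt _
  have hτm : ∀ a b, τ (a * b) = τ a * τ b := by
    refine LinearMap.map_mul_iff τ |>.mpr ?_
    refine PiTensorProduct.ext (MultilinearMap.ext fun f => PiTensorProduct.ext (MultilinearMap.ext fun g => ?_))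
    simp only [LinearMap.compMultilinearMap_apply, LinearMap.compr₂_apply, LinearMap.mul_apply',
      LinearMap.compl₂_apply, LinearMap.comp_apply, PiTensorProduct.tprod_mul_tprod, hτt]
    rfl
  let τA : (⨂[k] _ : Fin n, A) →ₐ[k] (⨂[k] _ : Fin n, A) := AlgHom.ofLinearMap τ hτ1 hτm
  set sgl := fun (i : Fin n) (a : A) => PiTensorProduct.singleAlgHom (R := k) (A := fun _ : Fin n => A) i a
  have hsgl : ∀ i a, τ (sgl i a) = sgl (Equiv.swap p.1 p.2 i) a := by
    intro i a
    simp only [sgl, PiTensorProduct.singleAlgHom_apply, hτt]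
    congr 1
    funext j
    simp only [MonoidHom.mulSingle_apply, Pi.mulSingle_apply]
    exact if_congr ⟨fun h => by rw [← h, Equiv.swap_apply_self], fun h => by rw [h, Equiv.swap_apply_self]⟩ rfl rfl
  have hgen : ∀ a, τA (sgl p.1 a - sgl p.2 a) = -(sgl p.1 a - sgl p.2 a) := by
    intro a
    rw [map_sub, neg_sub]
    show τ (sgl p.1 a) - τ (sgl p.2 a) = _
    rw [hsgl, hsgl, Equiv.swap_apply_left, Equiv.swap_apply_right]
  have hIp : I p = Ideal.span (Set.range fun a : A => sgl p.1 a - sgl p.2 a) := hI p
  have hall : ∀ r, τA r - r ∈ I p := by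
    intro r
    have : (Ideal.Quotient.mkₐ k (I p)).comp τA = Ideal.Quotient.mkₐ k (I p) := by
      refine PiTensorProduct.algHom_ext fun i => AlgHom.ext fun a => ?_
      show Ideal.Quotient.mk (I p) (τ (sgl i a)) = Ideal.Quotient.mk (I p) (sgl i a)
      rw [hsgl, Ideal.Quotient.eq]
      by_cases h1 : i = p.1
      · rw [h1, Equiv.swap_apply_left, ← neg_sub]
        exact neg_mem (hIp ▸ Ideal.subset_span ⟨a, rfl⟩)
      by_cases h2 : i = p.2
      · rw [h2, Equiv.swap_apply_right]
        exact hIp ▸ Ideal.subset_span ⟨a, rfl⟩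
      rw [Equiv.swap_apply_of_ne_of_ne h1 h2, sub_self]
      exact zero_mem _
    exact Ideal.Quotient.eq.mp (AlgHom.congr_fun this r)
  have h1 : ∀ z ∈ I p, τA z + z ∈ I p ^ 2 := by
    intro z hz
    rw [hIp] at hz
    induction hz using Submodule.span_induction with
    | mem g hg => obtain ⟨a, rfl⟩ := hg; rw [hgen, neg_add_cancel]; exact zero_mem _
    | zero => simp
    | add u v _ _ hu hv => rw [map_add, add_add_add_comm]; exact add_mem hu hv
    | smul r u hu ih =>
      have hu' : u ∈ I p := hIp ▸ hu
      have e : τA (r • u) + r • u = (τA r - r) * τA u + r * (τA u + u) := by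
        rw [smul_eq_mul, map_mul]; ring
      rw [e, pow_two]
      refine add_mem (Ideal.mul_mem_mul (hall r) ?_) (Ideal.mul_mem_left _ _ (pow_two (I p) ▸ ih))
      have := add_mem (hall u) hu'
      simpa using this
  have hs : ∀ s : ℕ, ∀ z ∈ I p ^ s, τA z - (-1) ^ s * z ∈ I p ^ (s + 1) := by
    intro s
    induction s with
    | zero => intro z _; simpa using hall z
    | succ s ih =>
      intro z hz
      rw [pow_succ] at hz
      induction hz using Submodule.mul_induction_on' with
      | mem_mul_mem u hu v hv =>
        have e : τA (u * v) - (-1) ^ (s + 1) * (u * v) =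
            (τA u - (-1) ^ s * u) * τA v + (-1) ^ s * (u * (τA v + v)) := by
          rw [map_mul, pow_succ]; ring
        rw [e]
        refine add_mem ?_ (Ideal.mul_mem_left _ _ ?_)
        · rw [pow_succ _ (s + 1)]
          refine Ideal.mul_mem_mul (ih u hu) ?_
          have := add_mem (hall v) hv
          simpa using this
        · rw [add_assoc, pow_add]; exact Ideal.mul_mem_mul hu (h1 v hv)
      | add u _ v _ hu hv => rw [map_add, mul_add, add_sub_add_comm]; exact add_mem hu hv
  have hfix : τA x = x := hx (Equiv.swap p.1 p.2)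
  have h2 := hs (2 * m - 1) x hxp
  have hodd : Odd (2 * m - 1) := ⟨m - 1, by omega⟩
  rw [hfix, hodd.neg_one_pow, neg_one_mul, sub_neg_eq_add, show 2 * m - 1 + 1 = 2 * m by omega] at h2
  have : (algebraMap k (⨂[k] _ : Fin n, A) (2 : k)⁻¹) * (x + x) = x := by
    rw [← two_smul k x, ← Algebra.smul_def, smul_smul, inv_mul_cancel₀ (by norm_num), one_smul]
  rw [← this]
  exact Ideal.mul_mem_left _ _ h2

end Groth.Agent.S19218
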