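import Groth.Statements.S19221
import Mathlib

set_option autoImplicit false
universe u
open SymRep

namespace Groth.Agent.S19221

def zI (c : Fin 2) (i j l : Fin 4) (c' : Fin 2) (a b : Fin 4) : ℤ :=
  if c' = c then
    ((if a = i ∧ b = j then 1 else 0) + (if a = j ∧ b = l then 1 else 0) + (if a = l ∧ b = i then 1 else 0)
      - (if a = j ∧ b = i then 1 else 0) - (if a = l ∧ b = j then 1 else 0) - (if a = i ∧ b = l then 1 else 0))
  else 0

def arg : Fin 4 → Fin 2 × Fin 4 × Fin 4 × Fin 4 :=
  ![(0, 0, 1, 2), (1, 0, 1, 2), (0, 0, 2, 3), (1, 0, 2, 3)]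

def sel : Fin 4 → Fin 2 × Fin 4 × Fin 4 :=
  ![(0, 1, 2), (0, 2, 3), (1, 1, 2), (1, 2, 3)]

def matI (σ : Equiv.Perm (Fin 4)) : Matrix (Fin 4) (Fin 4) ℤ :=
  Matrix.of fun r q => zI (arg r).1 (σ (arg r).2.1) (σ (arg r).2.2.1) (σ (arg r).2.2.2)
    (sel q).1 (sel q).2.1 (sel q).2.2

theorem zI_swap02 : ∀ r c' a b, zI (arg r).1 (Equiv.swap 0 2 (arg r).2.1) (Equiv.swap 0 2 (arg r).2.2.1)
    (Equiv.swap 0 2 (arg r).2.2.2) c' a b = - zI (arg r).1 (arg r).2.1 (arg r).2.2.1 (arg r).2.2.2 c' a b := by
  decide +kernel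

def pr : Equiv.Perm (Fin 4) := Equiv.swap 0 2 * Equiv.swap 1 3

theorem zI_swap13 : ∀ r c' a b, zI (arg r).1 (Equiv.swap 1 3 (arg r).2.1) (Equiv.swap 1 3 (arg r).2.2.1)
    (Equiv.swap 1 3 (arg r).2.2.2) c' a b =
      - zI (arg (pr r)).1 (arg (pr r)).2.1 (arg (pr r)).2.2.1 (arg (pr r)).2.2.2 c' a b := by
  decide +kernel

theorem sum_det : ∑ σ : Equiv.Perm (Fin 4), (matI σ).det = -12 := by decide +kernel



/-- Let k be a field of characteristic zero and F the k-space of functions Fin 2 → Fin 4 → Fin 4 → k,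
with the symmetric group of Fin 4 acting through P σ f c a b = f c (σ⁻¹ a) (σ⁻¹ b). The signed edge
vectors of the complete graph on four vertices live in F as the functions antisymmetric in the two
vertex arguments, and for a colour c and an oriented 3-cycle i → j → l → i the cycle vector z c i j
l is the function equal, in colour c, to +1 at (i,j), (j,l), (l,i), to −1 at (j,i), (l,j), (i,l) and
to 0 elsewhere (and 0 in the other colour); these cycle vectors span k² ⊗ (cycle space), the
representation written C² ⊗ q in the published text. Let Γ be the graph with edges 01, 02, 03, 12,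
23 (a 4-cycle with one chord), whose cycle space is spanned by the cycles (0,1,2) and (0,2,3), and
let ω be the product in the exterior algebra of F of the four vectors z 0 0 1 2, z 1 0 1 2, z 0 0 2
3, z 1 0 2 3 (a generator of the top exterior power of k² ⊗ q_Γ). Then ω is fixed by the stabiliser
of Γ in the symmetric group (generated by the transpositions (0 2) and (1 3)), and the sum over all
24 permutations σ of the images of ω under the maps induced by P σ is nonzero: the projection of ω
to the invariants of the fourth exterior power of k² ⊗ q_{K₄} does not vanish. (The published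
statement is over the complex numbers; a field of characteristic zero is used here. The published
statement also asserts that this map is an isomorphism onto the one-dimensional space of
S₄-invariants of the fourth exterior power of k² ⊗ q_{K₄}; only its non-vanishing is stated here.) -/
theorem result (k : Type u) [Field k] [CharZero k]
    (P : Equiv.Perm (Fin 4) → ((Fin 2 → Fin 4 → Fin 4 → k) →ₗ[k] (Fin 2 → Fin 4 → Fin 4 → k)))
    (hP : ∀ (σ : Equiv.Perm (Fin 4)) (f : Fin 2 → Fin 4 → Fin 4 → k) (c : Fin 2) (a b : Fin 4),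
      P σ f c a b = f c (σ.symm a) (σ.symm b))
    (z : Fin 2 → Fin 4 → Fin 4 → Fin 4 → (Fin 2 → Fin 4 → Fin 4 → k))
    (hz : ∀ (c : Fin 2) (i j l : Fin 4) (c' : Fin 2) (a b : Fin 4), z c i j l c' a b =
      if c' = c then
        ((if a = i ∧ b = j then 1 else 0) + (if a = j ∧ b = l then 1 else 0) + (if a = l ∧ b = i then 1 else 0)
          - (if a = j ∧ b = i then 1 else 0) - (if a = l ∧ b = j then 1 else 0) - (if a = i ∧ b = l then 1 else 0))
      else 0)
    (ω : ExteriorAlgebra k (Fin 2 → Fin 4 → Fin 4 → k))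
    (hω : ω = ExteriorAlgebra.ι k (z 0 0 1 2) * ExteriorAlgebra.ι k (z 1 0 1 2) *
      ExteriorAlgebra.ι k (z 0 0 2 3) * ExteriorAlgebra.ι k (z 1 0 2 3)) :
    ExteriorAlgebra.map (P (Equiv.swap 0 2)) ω = ω ∧
    ExteriorAlgebra.map (P (Equiv.swap 1 3)) ω = ω ∧
    (∑ σ : Equiv.Perm (Fin 4), ExteriorAlgebra.map (P σ) ω) ≠ 0 := by
  have hPz : ∀ (σ : Equiv.Perm (Fin 4)) c i j l, P σ (z c i j l) = z c (σ i) (σ j) (σ l) := by
    intro σ c i j l
    funext c' a b
    rw [hP, hz, hz]
    simp only [Equiv.symm_apply_eq]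
  have hzI : ∀ c i j l c' a b, z c i j l c' a b = (zI c i j l c' a b : k) := by
    intro c i j l c' a b
    simp [hz, zI]
  let v : Fin 4 → (Fin 2 → Fin 4 → Fin 4 → k) :=
    fun r => z (arg r).1 (arg r).2.1 (arg r).2.2.1 (arg r).2.2.2
  have hωv : ω = ExteriorAlgebra.ιMulti k 4 v := by
    rw [hω, ExteriorAlgebra.ιMulti_apply]
    simp [List.ofFn_succ, v, arg, mul_assoc]
  have hmap : ∀ σ, ExteriorAlgebra.map (P σ) ω = ExteriorAlgebra.ιMulti k 4 (fun r => P σ (v r)) :=
    fun σ => by rw [hωv, ExteriorAlgebra.map_apply_ιMulti]; rfl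
  refine ⟨?_, ?_, ?_⟩
  · rw [hmap, hωv]
    have e : (fun r => P (Equiv.swap 0 2) (v r)) = fun r => (-1 : k) • v r := by
      funext r c' a b
      rw [show v r = z _ _ _ _ from rfl, hPz, Pi.smul_apply, Pi.smul_apply, Pi.smul_apply, hzI, hzI,
        zI_swap02 r c' a b]
      simp
    rw [e, AlternatingMap.map_smul_univ, Finset.prod_const, Finset.card_univ, Fintype.card_fin, show ((-1 : k)) ^ 4 = 1 by norm_num]
    simp
  · rw [hmap, hωv]
    have e : (fun r => P (Equiv.swap 1 3) (v r)) = fun r => (-1 : k) • v (pr r) := by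
      funext r c' a b
      rw [show v r = z _ _ _ _ from rfl, show v (pr r) = z _ _ _ _ from rfl, hPz, Pi.smul_apply,
        Pi.smul_apply, Pi.smul_apply, hzI, hzI, zI_swap13 r c' a b]
      simp
    rw [e, AlternatingMap.map_smul_univ, Finset.prod_const, Finset.card_univ, Fintype.card_fin, show ((-1 : k)) ^ 4 = 1 by norm_num, show (fun r => v (pr r)) = v ∘ pr from rfl,
      AlternatingMap.map_perm, show Equiv.Perm.sign pr = 1 by decide]
    simp
  · intro h0
    let Φ : (Fin 2 → Fin 4 → Fin 4 → k) →ₗ[k] (Fin 4 → k) :=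
      LinearMap.pi fun q => LinearMap.proj (sel q).2.2 ∘ₗ LinearMap.proj (sel q).2.1 ∘ₗ
        LinearMap.proj (sel q).1
    let D : (Fin 2 → Fin 4 → Fin 4 → k) [⋀^Fin 4]→ₗ[k] k :=
      Matrix.detRowAlternating.compLinearMap Φ
    let fs : (i : ℕ) → (Fin 2 → Fin 4 → Fin 4 → k) [⋀^Fin i]→ₗ[k] k :=
      Pi.single (M := fun i => (Fin 2 → Fin 4 → Fin 4 → k) [⋀^Fin i]→ₗ[k] k) 4 D
    have := congrArg (ExteriorAlgebra.liftAlternating fs) h0
    rw [map_sum, map_zero] at this
    have e : ∀ σ, ExteriorAlgebra.liftAlternating fs (ExteriorAlgebra.map (P σ) ω) =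
        ((matI σ).det : k) := by
      intro σ
      rw [hmap, ExteriorAlgebra.liftAlternating_apply_ιMulti, show fs 4 = D from Pi.single_eq_same _ _,
        AlternatingMap.compLinearMap_apply]
      show Matrix.det (fun r => Φ (P σ (v r))) = _
      rw [show ((matI σ).det : k) = (Int.castRingHom k) (matI σ).det from rfl, RingHom.map_det]
      congr 1
      funext r q
      show P σ (z _ _ _ _) _ _ _ = _
      rw [hPz, hz]
      simp [matI, zI]
    rw [Finset.sum_congr rfl fun σ _ => e σ, ← Int.cast_sum, sum_det] at this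
    simp at this

end Groth.Agent.S19221
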