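import Groth.Statements.S19222
import Groth.Agent.H18Et.Vanishing

set_option autoImplicit false
universe u
open CategoryTheory AlgebraicGeometry
open EtBase

open scoped Groth.Agent.H18Et

namespace Groth.Agent.S19222

/-- Let R be a strictly henselian local ring (henselian, with separably closed residue field), let X be
a scheme finite over Spec R and let F be an abelian étale sheaf on X. Then H^j(X_et, F) = 0 for
every j ≥ 1. (The source states this vanishing for the schemes X ×_R Y ×_R ⋯ ×_R Y with Y a further
finite R-scheme; these are again finite over R, so the present form is the whole content.) -/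
theorem result (R : Type u) [CommRing R] [HenselianLocalRing R]
    [IsSepClosed (IsLocalRing.ResidueField R)] (X : Scheme.{u}) (f : X ⟶ Spec (CommRingCat.of R)) [IsFinite f]
    (F : EtCoh.Ab X) (j : ℕ) (hj : 1 ≤ j) : Subsingleton (EtCoh.H X F j) := by
  refine Groth.Agent.H18Et.subsingleton_H_of_surjective (fun A B φ _ => ?_) F hj
  have : Epi ((EtCoh.push f).map φ) := by
    have : CategoryTheory.Sheaf.IsLocallySurjective φ :=
      (CategoryTheory.Sheaf.isLocallySurjective_iff_epi' AddCommGrpCat.{u + 1} φ).2 inferInstance
    have := Groth.Agent.H18Et.isLocallySurjective_push f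
      (Groth.Agent.H18Et.propB_of_isIntegralHom f) φ
    exact CategoryTheory.Sheaf.epi_of_isLocallySurjective _
  intro t
  let e := EtCore.bcTopIso f
  obtain ⟨s, hs⟩ := Groth.Agent.H18Et.surjective_app_top_of_strictlyHenselian R
    ((EtCoh.push f).map φ) (B.obj.map e.hom.op t)
  refine ⟨A.obj.map e.inv.op s, ?_⟩
  refine (NatTrans.naturality_apply φ.hom e.inv.op s).trans ?_
  refine (congrArg (B.obj.map e.inv.op) hs).trans ?_
  rw [← CategoryTheory.comp_apply, ← Functor.map_comp, ← op_comp, Iso.inv_hom_id, op_id,
    CategoryTheory.Functor.map_id]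
  rfl

end Groth.Agent.S19222
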