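import Groth.Statements.S19223
import Groth.Agent.H18GroupCoh.CardInvert

set_option autoImplicit false
attribute [local instance] Units.mulDistribMulActionRight
open GalCoh

namespace Groth.Agent.S19223

/-- For a strictly henselian local ring R whose residue field k has characteristic p ≥ 0, and a finite
group G of order prime to p acting on R by ring automorphisms (hence on the unit groups R^× and
k^×), consider the homomorphism H^n(G, R^×) → H^n(G, k^×) induced by the reduction map. It is
bijective for every n ≥ 2; it is also bijective for n = 1 provided that p = 0 or the only p-power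
root of unity in R is 1. (The reduction map on cohomology is pinned by its values on units; groups,
rings and modules are taken in the lowest universe, as integral coefficients in the group-cohomology
library require.) -/
theorem result (R : Type) [CommRing R]
    [HenselianLocalRing R] [IsSepClosed (IsLocalRing.ResidueField R)] (p : ℕ) [CharP (IsLocalRing.ResidueField R) p]
    (G : Type) [Group G] [Finite G] [MulSemiringAction G R] (hp : ¬ p ∣ Nat.card G)
    (φ : Rep.ofMulDistribMulAction G Rˣ ⟶ Rep.ofMulDistribMulAction G (IsLocalRing.ResidueField R)ˣ)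
    (hφ : ∀ x : Rˣ, Additive.toMul (φ.hom (Additive.ofMul x)) = Units.map (IsLocalRing.residue R).toMonoidHom x)
    (n : ℕ) (hn : 1 ≤ n) (h1 : n = 1 → p ≠ 0 → ∀ (ζ : Rˣ) (m : ℕ), ζ ^ p ^ m = 1 → ζ = 1) :
    Function.Bijective ((groupCohomology.functor ℤ G n).map φ).hom := by
  classical
  set N := Nat.card G with hN
  have hN0 : 0 < N := Nat.card_pos
  let res := IsLocalRing.residue R
  have hNu : IsUnit (N : R) := by
    rw [← IsLocalRing.residue_ne_zero_iff_isUnit, map_natCast]
    exact fun h => hp ((CharP.cast_eq_zero_iff _ p N).mp h)
  have hφ' : ∀ a : Additive Rˣ,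
      ((Additive.toMul (φ.hom a) : (IsLocalRing.ResidueField R)ˣ) : IsLocalRing.ResidueField R) =
        res ((Additive.toMul a : Rˣ) : R) := fun a => congrArg Units.val (hφ (Additive.toMul a))
  have hzero : ∀ a : Additive Rˣ, φ.hom a = 0 ↔ res ((Additive.toMul a : Rˣ) : R) = 1 := by
    intro a
    rw [← hφ']
    exact ⟨fun h => by rw [h]; rfl, fun h => by
      have h' : (Additive.toMul (φ.hom a) : (IsLocalRing.ResidueField R)ˣ) = 1 := Units.ext h
      exact congrArg Additive.ofMul h'⟩
  refine H18GroupCoh.bijective_map_of_kernel φ ?_ ?_ n hn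
  · intro b
    obtain ⟨a, ha⟩ := IsLocalRing.surjective_units_map_of_local_ringHom res IsLocalRing.residue_surjective
      inferInstance (Additive.toMul b)
    exact ⟨Additive.ofMul a, congrArg Additive.ofMul ((hφ a).trans ha : Additive.toMul (φ.hom (Additive.ofMul a)) = Additive.toMul b)⟩
  · intro x hx
    rw [hzero] at hx
    let P : Polynomial R := Polynomial.X ^ N - Polynomial.C ((Additive.toMul x : Rˣ) : R)
    obtain ⟨a, ha, ha1⟩ := HenselianLocalRing.is_henselian P (Polynomial.monic_X_pow_sub_C _ hN0.ne') 1 (by
        rw [← IsLocalRing.residue_eq_zero_iff]; simpa [P, sub_eq_zero] using hx.symm) (by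
        simpa [P, Polynomial.derivative_X_pow] using hNu)
    have hares : res a = 1 := by
      rwa [← IsLocalRing.residue_eq_zero_iff, map_sub, map_one, sub_eq_zero] at ha1
    have hau : IsUnit a := by
      rw [← IsLocalRing.residue_ne_zero_iff_isUnit]
      rw [show IsLocalRing.residue R a = 1 from hares]
      exact one_ne_zero
    refine ⟨Additive.ofMul hau.unit, ⟨(hzero _).mpr hares, ?_⟩, fun y hy => ?_⟩
    · refine congrArg Additive.ofMul (Units.ext ?_ : hau.unit ^ N = Additive.toMul x)
      rw [Units.val_pow_eq_pow_val, IsUnit.unit_spec]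
      simp only [P, Polynomial.IsRoot.def, Polynomial.eval_sub, Polynomial.eval_pow, Polynomial.eval_X, Polynomial.eval_C, sub_eq_zero] at ha
      exact ha
    · obtain ⟨hy0, hy1⟩ := hy
      rw [hzero] at hy0
      refine congrArg Additive.ofMul (Units.ext ?_ : Additive.toMul y = hau.unit)
      rw [IsUnit.unit_spec]
      have hyN : ((Additive.toMul y : Rˣ) : R) ^ N = ((Additive.toMul x : Rˣ) : R) := by
        rw [← Units.val_pow_eq_pow_val]
        exact congrArg (fun z => ((Additive.toMul z : Rˣ) : R)) hy1
      have haN : a ^ N = ((Additive.toMul x : Rˣ) : R) := by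
        simpa [P, Polynomial.IsRoot, sub_eq_zero] using ha
      set w := ((Additive.toMul y : Rˣ) : R)
      have hsum : IsUnit (∑ i ∈ Finset.range N, w ^ i * a ^ (N - 1 - i)) := by
        rw [← IsLocalRing.residue_ne_zero_iff_isUnit]
        have hy0' : IsLocalRing.residue R w = 1 := hy0
        have hares' : IsLocalRing.residue R a = 1 := hares
        simp only [map_sum, map_mul, map_pow, hy0', hares', one_pow, one_mul, Finset.sum_const, Finset.card_range,
          nsmul_eq_mul, mul_one]
        exact fun h => hp ((CharP.cast_eq_zero_iff _ p N).mp h)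
      have h2 := geom_sum₂_mul w a N
      rw [hyN, haN, sub_self] at h2
      exact sub_eq_zero.mp (hsum.mul_right_eq_zero.mp h2)

end Groth.Agent.S19223
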