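import Groth.Statements.S19224
import Mathlib.RingTheory.RootsOfUnity.AlgebraicallyClosed
import Mathlib.RepresentationTheory.Homological.GroupCohomology.LowDegree
import Mathlib.Algebra.Category.ModuleCat.Simple
-- import your own Groth.Agent.* helpers here

set_option autoImplicit false
open GalCoh

namespace Groth.Agent.S19224

open groupCohomology CategoryTheory

variable {Q : Type} [Group Q]

/-- The trivial coboundary of a two-cochain in multiplicative form, summed over the last variable. -/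
theorem prod_cocycle [Fintype Q] {M : Type} [CommGroup M] (z : Q → Q → M)
    (hz : ∀ g h j, z h j * z g (h * j) = z (g * h) j * z g h) (g h : Q) :
    z g h ^ Fintype.card Q = (∏ j, z g j) * (∏ j, z h j) * (∏ j, z (g * h) j)⁻¹ := by
  have h1 : (∏ j, z h j) * (∏ j, z g j) = (∏ j, z (g * h) j) * z g h ^ Fintype.card Q := by
    rw [← Equiv.prod_comp (Equiv.mulLeft h) (fun j => z g j), ← Finset.prod_mul_distrib,
      ← Finset.card_univ, ← Finset.prod_const, ← Finset.prod_mul_distrib]
    exact Finset.prod_congr rfl fun j _ => hz g h j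
  rw [mul_comm (∏ j, z g j), h1, mul_comm (∏ j, z (g * h) j), mul_assoc, mul_inv_cancel, mul_one]

/-- Third integral cohomology zero gives primitives of three-cocycles. -/
theorem exists_primitive (hQ : Subsingleton (groupCohomology (Rep.trivial ℤ Q ℤ) 3)) (N : ℕ) (hN : N ≠ 0)
    (z : Q × Q → ℤ) (hz : ∀ g h j, (N : ℤ) ∣ z (h, j) - z (g * h, j) + z (g, h * j) - z (g, h)) :
    ∃ t : Q × Q → ℤ, (∀ g h j, t (h, j) - t (g * h, j) + t (g, h * j) - t (g, h) = 0) ∧
      ∀ x, (N : ℤ) ∣ z x - t x := by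
  set A := Rep.trivial ℤ Q ℤ
  let w : Q × Q × Q → ℤ := fun x => (hz x.1 x.2.1 x.2.2).choose
  have hw : d₂₃ A z = (N : ℤ) • w := by
    funext x
    exact (hz x.1 x.2.1 x.2.2).choose_spec
  let w' := (cochainsIso₃ A).inv w
  let z' := (cochainsIso₂ A).inv z
  have h1 : (inhomogeneousCochains A).d 2 3 z' = (N : ℤ) • w' := by
    have h : d₂₃ A ((cochainsIso₂ A).hom z') = (cochainsIso₃ A).hom ((inhomogeneousCochains A).d 2 3 z') :=
      DFunLike.congr_fun (congrArg ModuleCat.Hom.hom (comp_d₂₃_eq A)) z'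
    rw [show (cochainsIso₂ A).hom z' = z from CategoryTheory.Iso.inv_hom_id_apply (cochainsIso₂ A) z] at h
    have h' := congrArg (cochainsIso₃ A).inv (h.symm.trans hw)
    rw [Iso.hom_inv_id_apply, map_smul] at h'
    exact h'
  have h2 : (inhomogeneousCochains A).d 3 4 w' = 0 := by
    have h := congrArg ((inhomogeneousCochains A).d 3 4) h1
    rw [map_smul, ← ModuleCat.comp_apply, HomologicalComplex.d_comp_d] at h
    funext y
    have hy := congrFun h.symm y
    exact (mul_eq_zero.mp hy).resolve_left (Nat.cast_ne_zero.mpr hN)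
  have hex : (inhomogeneousCochains A).ExactAt 3 :=
    ((inhomogeneousCochains A).exactAt_iff_isZero_homology 3).mpr
      (@ModuleCat.isZero_of_subsingleton _ _ _ hQ)
  rw [HomologicalComplex.exactAt_iff' _ 2 3 4 (by simp) (by simp)] at hex
  obtain ⟨v', hv'⟩ := (ShortComplex.moduleCat_exact_iff _).mp hex w' h2
  let v : Q × Q → ℤ := (cochainsIso₂ A).hom v'
  have hv : d₂₃ A v = w := by
    have h : d₂₃ A ((cochainsIso₂ A).hom v') = (cochainsIso₃ A).hom ((inhomogeneousCochains A).d 2 3 v') :=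
      DFunLike.congr_fun (congrArg ModuleCat.Hom.hom (comp_d₂₃_eq A)) v'
    refine h.trans ?_
    rw [show (inhomogeneousCochains A).d 2 3 v' = w' from hv']
    exact CategoryTheory.Iso.inv_hom_id_apply (cochainsIso₃ A) w
  refine ⟨fun x => z x - N * v x, fun g h j => ?_, fun x => ⟨v x, by ring⟩⟩
  have e1 : z (h, j) - z (g * h, j) + z (g, h * j) - z (g, h) = N * w (g, h, j) := congrFun hw (g, h, j)
  have e2 : v (h, j) - v (g * h, j) + v (g, h * j) - v (g, h) = w (g, h, j) := congrFun hv (g, h, j)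
  linear_combination e1 - (N : ℤ) * e2


/-- Let Q be a finite group such that H^3(Q, ℤ) = 0 for the trivial action, and let k be a separably
closed field of characteristic p ≥ 0 with p not dividing the order of Q. Then H^2(Q, k^×) = 0, where
Q acts trivially on the units of k. (Groups and fields are taken in the lowest universe, as integral
coefficients in the group-cohomology library require.) -/
theorem result (Q : Type) [Group Q] [Finite Q]
    (hQ : Subsingleton (groupCohomology (Rep.trivial ℤ Q ℤ) 3)) (k : Type) [Field k] [IsSepClosed k]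
    (p : ℕ) [CharP k p] (hp : ¬ p ∣ Nat.card Q) :
    Subsingleton (groupCohomology (Rep.trivial ℤ Q (Additive kˣ)) 2) := by
  classical
  let := Fintype.ofFinite Q
  set N := Fintype.card Q with hNdef
  have hN : N ≠ 0 := Fintype.card_ne_zero
  have hNk : NeZero (N : k) := ⟨fun h => hp (Nat.card_eq_fintype_card (α := Q) ▸ (CharP.cast_eq_zero_iff k p N).mp h)⟩
  have : NeZero N := ⟨hN⟩
  refine subsingleton_of_forall_eq 0 fun x => ?_
  induction x using H2_induction_on with
  | _ x =>
  rw [H2π_eq_zero_iff]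
  -- the multiplicative cocycle
  let z : Q → Q → kˣ := fun g h => Additive.toMul (x (g, h))
  have hz : ∀ g h j, z h j * z g (h * j) = z (g * h) j * z g h := fun g h j => by
    have e : x (g * h, j) + x (g, h) = x (h, j) + x (g, h * j) :=
      (mem_cocycles₂_iff (x : Q × Q → Additive kˣ)).mp x.2 g h j
    exact (congrArg Additive.toMul e).symm
  have hroot : ∀ a : kˣ, ∃ c : kˣ, c ^ N = a := fun a => by
    obtain ⟨c, hc⟩ := IsSepClosed.exists_pow_nat_eq (a : k) N
    exact ⟨Units.mk0 c fun e => a.ne_zero (by rw [← hc, e, zero_pow hN]), Units.ext hc⟩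
  choose c hc using hroot
  let b : Q → kˣ := fun g => c (∏ j, z g j)
  let z' : Q → Q → kˣ := fun g h => z g h * (b g * b h * (b (g * h))⁻¹)⁻¹
  have hz'N : ∀ g h, z' g h ^ N = 1 := fun g h => by
    rw [mul_pow, inv_pow, mul_pow, mul_pow, inv_pow, hc, hc, hc, prod_cocycle z hz, mul_inv_cancel]
  have hz' : ∀ g h j, z' h j * z' g (h * j) = z' (g * h) j * z' g h := fun g h j => by
    simp only [z', mul_inv_rev, inv_inv, mul_assoc g h j]
    calc _ = (z h j * z g (h * j)) * ((b g)⁻¹ * (b h)⁻¹ * (b j)⁻¹ * b (g * (h * j))) *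
          (b (h * j) * (b (h * j))⁻¹) := by ac_rfl
      _ = (z (g * h) j * z g h) * ((b g)⁻¹ * (b h)⁻¹ * (b j)⁻¹ * b (g * (h * j))) *
          (b (g * h) * (b (g * h))⁻¹) := by rw [hz, mul_inv_cancel, mul_inv_cancel]
      _ = _ := by ac_rfl
  obtain ⟨ζ₀, hζ₀⟩ := HasEnoughRootsOfUnity.exists_primitiveRoot k N
  obtain ⟨ζ, rfl⟩ : IsUnit ζ₀ := hζ₀.isUnit hN
  have hζ : IsPrimitiveRoot ζ N := IsPrimitiveRoot.coe_units_iff.mp hζ₀
  have hlog : ∀ g h, ∃ i : ℤ, ζ ^ i = z' g h := fun g h => by
    obtain ⟨i, -, hi⟩ := hζ₀.eq_pow_of_pow_eq_one (ξ := (z' g h : k))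
      (by rw [← Units.val_pow_eq_pow_val, hz'N, Units.val_one])
    exact ⟨i, Units.ext (by rw [zpow_natCast, Units.val_pow_eq_pow_val, hi])⟩
  choose l hl using hlog
  obtain ⟨t, ht, htl⟩ := exists_primitive hQ N hN (fun x => l x.1 x.2) (fun g h j => by
    rw [← hζ.zpow_eq_one_iff_dvd, zpow_sub, zpow_add, zpow_sub, hl, hl, hl, hl]
    calc _ = (z' h j * z' g (h * j)) * ((z' (g * h) j)⁻¹ * (z' g h)⁻¹) := by ac_rfl
      _ = 1 := by rw [hz', ← mul_inv_rev, mul_comm (z' g h), mul_inv_cancel])
  have htz : ∀ g h, ζ ^ t (g, h) = z' g h := fun g h => by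
    rw [← hl g h]
    have := (hζ.zpow_eq_one_iff_dvd _).mpr (htl (g, h))
    rw [zpow_sub, mul_inv_eq_one] at this
    exact this.symm
  let S : Q → ℤ := fun g => ∑ j, t (g, j)
  have hS : ∀ g h, (N : ℤ) * t (g, h) = S g + S h - S (g * h) := fun g h => by
    have h1 : ∑ j, (t (h, j) - t (g * h, j) + t (g, h * j) - t (g, h)) = 0 :=
      Finset.sum_eq_zero fun j _ => ht g h j
    have h2 : ∑ j, t (g, h * j) = S g := Equiv.sum_comp (Equiv.mulLeft h) (fun j => t (g, j))
    rw [Finset.sum_sub_distrib, Finset.sum_add_distrib, Finset.sum_sub_distrib, Finset.sum_const,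
      Finset.card_univ, nsmul_eq_mul, h2] at h1
    change S h - S (g * h) + S g - (N : ℤ) * t (g, h) = 0 at h1
    linarith
  let η := c ζ
  let f : Q → kˣ := fun g => b g * η ^ S g
  refine LinearMap.mem_range.mpr ⟨fun g => Additive.ofMul (f g), funext fun gh => ?_⟩
  obtain ⟨g, h⟩ := gh
  show Additive.ofMul (f h) - Additive.ofMul (f (g * h)) + Additive.ofMul (f g) = x (g, h)
  apply Additive.toMul.injective
  show f h / f (g * h) * f g = z g h
  have e : z g h = z' g h * (b g * b h * (b (g * h))⁻¹) := (inv_mul_cancel_right _ _).symm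
  rw [e, ← htz g h, ← hc ζ, ← zpow_natCast, ← zpow_mul, hS g h, zpow_sub, zpow_add]
  simp only [f, η, div_eq_mul_inv, mul_inv_rev, mul_comm, mul_left_comm, mul_assoc]

end Groth.Agent.S19224
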