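import Groth.Statements.S19227
import Groth.Agent.H18BrTr.Main

set_option autoImplicit false
universe u
open CategoryTheory AlgebraicGeometry
open Dix

namespace Groth.Agent.S19227

/-- Let f : X → Y be a finite locally free morphism of schemes of constant degree d ≥ 1, so that f is
finite, flat, of finite presentation and surjective. If H²(X_et, G_m) is a torsion group, then
H²(Y_et, G_m) is a torsion group. (The source states this for a finite, flat, finitely presented
surjection of algebraic stacks and argues with multiplication by the degree of f; the case of
schemes with f of constant degree is what is stated here.) -/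
theorem result (X Y : Scheme.{u}) (f : X ⟶ Y) (d : ℕ) (hd : 1 ≤ d)
    (hf : Mor2.IsFinLocFreeOfDeg d f) (hX : IsAddTorsion (Dix.BrCoh X)) :
    IsAddTorsion (Dix.BrCoh Y) := by
  obtain ⟨⟨h1, h2, h3⟩, h4⟩ := hf
  exact Groth.Agent.H18BrTr.isAddTorsion_H f hd h4 2 hX

end Groth.Agent.S19227
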