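import Groth.Statements.S1923
import Groth.Agent.H3Cyc.ZeroSect
-- import your own Groth.Agent.* helpers here

set_option autoImplicit false
universe u
open CategoryTheory AlgebraicGeometry
open Cyc

namespace Groth.Agent.S1923

/-- Let X be integral with δ(η) = n, L an invertible O_X-module and s a global section of L whose germ
at η is nonzero. Then div_L(s) = [Z(s)]_{n−1} as (n − 1)-cycles, where s is viewed as a rational
section through its image in L(η). Here L(ξ) = L_ξ/𝔪_ξ L_ξ is the space of rational sections of L on
the closure of ξ, div_{L|W}(s) and c_1(L) ∩ α are computed as coefficient functions from chosen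
nonzero rational sections (Cyc.secDivFun, Cyc.c1CapFun), and results are compared up to rational
equivalence for any cycles with those coefficients. A pair (X, δ) with Cyc.IsSetup plays the role of
a scheme locally of finite type over a fixed base with a dimension function (X locally Noetherian
with universally catenary local rings, δ a dimension function), and Cyc.DeltaCompat records that the
dimension function upstairs is the induced one. -/
theorem result (X : Scheme.{u}) [IsIntegral X] (δ : X → ℤ) (hX : Cyc.IsSetup X δ) (n : ℤ) (hn : δ (genericPoint X) = n) (L : X.Modules) (hL : PicF.IsInvertible L) (s : L.presheaf.obj (Opposite.op ⊤)) (hs : (L.presheaf.germ ⊤ (genericPoint X) trivial) s ≠ 0) : Cyc.secDivFun δ L (genericPoint X) (Submodule.Quotient.mk ((L.presheaf.germ ⊤ (genericPoint X) trivial) s)) = Cyc.zeroSectionFun δ (n - 1) L s := by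
  classical
  haveI := hX.1
  set η := genericPoint X with hη
  have hspec : ∀ y : X, η ⤳ y := genericPoint_specializes
  have hlt : ∀ y : X, y ≠ η → δ y < n := fun y hy => hn ▸ (hX.2.2 _ _ (hspec y) (Ne.symm hy)).1
  have hfield : IsField (X.presheaf.stalk η) := Field.toIsField X.functionField
  have hm : IsLocalRing.maximalIdeal (X.presheaf.stalk η) = ⊥ := IsLocalRing.isField_iff_maximalIdeal_eq.mp hfield
  have hZ : ∀ y : X, (L.presheaf.germ ⊤ y trivial) s ∈
      IsLocalRing.maximalIdeal (X.presheaf.stalk y) • (⊤ : Submodule (X.presheaf.stalk y) (L.presheaf.stalk y)) → δ y ≤ n - 1 := by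
    intro y hy
    by_contra hc
    have : y = η := by
      by_contra hne
      have := hlt y hne
      omega
    subst this
    rw [hm, Submodule.bot_smul, Submodule.mem_bot] at hy
    exact hs hy
  have hreg : ∀ y : X, δ y = n - 1 → Function.Injective (fun a : X.presheaf.stalk y => a • (L.presheaf.germ ⊤ y trivial) s) := by
    intro y _ a b hab
    obtain ⟨V, e, hyV, he⟩ := Groth.Agent.H11Ample.exists_gen hL y
    obtain ⟨f, hf⟩ := (he y hyV).2 ((L.presheaf.germ ⊤ y trivial) s)
    simp only at hab hf
    rw [← hf, smul_smul, smul_smul] at hab
    have hf0 : f ≠ 0 := fun h0 => hs (by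
      rw [← TopCat.Presheaf.germ_stalkSpecializes_apply L.presheaf (U := ⊤) trivial (hspec y) s, ← hf, h0, zero_smul, map_zero])
    exact mul_right_cancel₀ hf0 ((he y hyV).1 hab)
  funext x
  rw [Groth.Agent.H3Cyc.ZeroSect.zeroSectionFun_eq hX hL (n - 1) (fun y => by
    rcases eq_or_ne y η with rfl | hne
    · omega
    · have := hlt y hne; omega) s hZ hreg x, Cyc.c1CapFun, finsum_eq_single _ η]
  · rw [Cyc.subschemeFun, if_pos (by omega), show {z : X | (𝟙 X : X ⟶ X) z = η} = {η} from Set.ext fun z => by simp,
      finsum_mem_singleton]
    haveI : IsSimpleModule (X.presheaf.stalk η) (X.presheaf.stalk η) := by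
      letI := hfield.toField
      exact inferInstance
    rw [Module.length_eq_one]
    simp
    rfl
  · intro ξ hξ
    rw [Cyc.subschemeFun, if_neg (by have := hlt ξ hξ; omega), zero_mul]

end Groth.Agent.S1923
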