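import Groth.Statements.S19230
import Groth.Agent.H26Misc.SigmaLin

set_option autoImplicit false
universe u v
open SigmaLin

namespace Groth.Agent.S19230

/-- Let k be a field, σ a surjective ring endomorphism of k, V a finite-dimensional k-vector space and T
: V → V additive with T (c • v) = σ c • T v. Then the set of vectors killed by some iterate of T is
a k-subspace on which a single iterate of T vanishes, it is a complement of the intersection over n
of the k-spans of the images of the n-th iterates, and T restricts to a bijection of that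
intersection onto itself. -/
theorem result
    (k : Type u) [Field k] (σ : k →+* k) (hσ : Function.Surjective σ)
    (V : Type v) [AddCommGroup V] [Module k V] [FiniteDimensional k V] (T : V →ₛₗ[σ] V) :
    (∃ W : Submodule k V, (W : Set V) = {v : V | ∃ n : ℕ, (⇑T)^[n] v = 0} ∧
      (∃ N : ℕ, ∀ v ∈ W, (⇑T)^[N] v = 0) ∧
      IsCompl W (⨅ n : ℕ, Submodule.span k (Set.range ((⇑T)^[n])))) ∧
    Set.BijOn (⇑T) (⋂ n : ℕ, (Submodule.span k (Set.range ((⇑T)^[n])) : Set V))
      (⋂ n : ℕ, (Submodule.span k (Set.range ((⇑T)^[n])) : Set V)) := by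
  obtain ⟨hcompl, hmem, hbij⟩ := Groth.Agent.H26Misc.fitting hσ T
  refine ⟨⟨_, Set.ext hmem, ?_, hcompl⟩, ?_⟩
  · let W := ⨆ n : ℕ, Submodule.span k {v : V | (⇑T)^[n] v = 0}
    obtain ⟨s, hs⟩ : W.FG := IsNoetherian.noetherian W
    classical
    have hex : ∀ v ∈ s, ∃ n, (⇑T)^[n] v = 0 := fun v hv => (hmem v).mp (by rw [show (⨆ n : ℕ, Submodule.span k {v : V | (⇑T)^[n] v = 0}) = W from rfl, ← hs]; exact Submodule.subset_span hv)
    choose g hg using hex
    have hsp : ∀ {a : V}, a ∈ Submodule.span k (s : Set V) → a ∈ ⨆ n : ℕ, Submodule.span k {v : V | (⇑T)^[n] v = 0} :=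
      fun h => show _ ∈ W from hs ▸ h
    refine ⟨s.attach.sup (fun v => g v.1 v.2), fun v hv => ?_⟩
    have hv' : v ∈ Submodule.span k (s : Set V) := hs.symm ▸ hv
    induction hv' using Submodule.span_induction with
    | mem x hx =>
      have hle : g x hx ≤ s.attach.sup (fun v => g v.1 v.2) :=
        Finset.le_sup (f := fun v : {x // x ∈ s} => g v.1 v.2) (Finset.mem_attach s ⟨x, hx⟩)
      obtain ⟨j, hj⟩ := Nat.exists_eq_add_of_le hle
      rw [hj, add_comm, Function.iterate_add_apply, hg x hx, iterate_map_zero]
    | zero => exact iterate_map_zero T _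
    | add a b ha hb iha ihb =>
      rw [iterate_map_add, iha (hsp ha), ihb (hsp hb), add_zero]
    | smul c a ha iha =>
      have : ∀ m, (⇑T)^[m] (c • a) = (⇑σ)^[m] c • (⇑T)^[m] a := by
        intro m
        induction m with
        | zero => rfl
        | succ m ihm => simp only [Function.iterate_succ_apply', ihm, LinearMap.map_smulₛₗ]
      rw [this, iha (hsp ha), smul_zero]
  · rw [← Submodule.coe_iInf]
    exact hbij

end Groth.Agent.S19230
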