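import Groth.Statements.S19235
import Groth.Agent.H26Misc.SigmaLin
import Mathlib.RingTheory.LocalRing.ResidueField.Basic
import Mathlib.RingTheory.Finiteness.Basic
import Mathlib.LinearAlgebra.Quotient.Pi
import Mathlib.RingTheory.Ideal.Operations

set_option autoImplicit false
universe u v
open SigmaLin

namespace Groth.Agent.S19235

/-- Let p be a prime number and R a local ring whose maximal ideal is generated by p and in which p^n =
0 for some n. Let σ be a ring endomorphism of R and σ̄ the induced endomorphism of the residue field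
k = R/(p); assume σ̄ is surjective, that for every m and every tuple (b_0, …, b_m) in k, not all
zero, the equation x = Σ_{i=0}^{m} σ̄^{i+1}(x) σ̄^{i}(b_{m-i}) has a nonzero solution x in k, and
that for every c in k there is y with σ̄(y) − y + c = 0. Let M be a finitely generated R-module and
T : M → M additive with T (r • m) = σ r • T m. Then the map m ↦ m − T m is surjective on M. -/
theorem result
    (p : ℕ) [Fact p.Prime] (R : Type u) [CommRing R] [IsLocalRing R]
    (hmax : IsLocalRing.maximalIdeal R = Ideal.span {(p : R)}) (n : ℕ) (hn : (p : R) ^ n = 0)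
    (σ : R →+* R) (σbar : IsLocalRing.ResidueField R →+* IsLocalRing.ResidueField R)
    (hσbar : ∀ r : R, σbar (IsLocalRing.residue R r) = IsLocalRing.residue R (σ r))
    (hsurj : Function.Surjective σbar)
    (h2 : ∀ (n : ℕ) (b : Fin (n + 1) → IsLocalRing.ResidueField R), b ≠ 0 →
      ∃ x : IsLocalRing.ResidueField R, x ≠ 0 ∧ x = ∑ i : Fin (n + 1), (⇑σbar)^[i.val + 1] x * (⇑σbar)^[i.val] (b (Fin.rev i)))
    (h3 : ∀ c : IsLocalRing.ResidueField R, ∃ y : IsLocalRing.ResidueField R, σbar y - y + c = 0)
    (M : Type v) [AddCommGroup M] [Module R M] [Module.Finite R M] (T : M →ₛₗ[σ] M) :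
    Function.Surjective (fun m : M => m - T m) := by
  classical
  let N : Submodule R M := IsLocalRing.maximalIdeal R • (⊤ : Submodule R M)
  have hN : ∀ m, m ∈ N ↔ ∃ b, (p : R) • b = m := by
    intro m
    show m ∈ IsLocalRing.maximalIdeal R • (⊤ : Submodule R M) ↔ _
    rw [hmax, Submodule.ideal_span_singleton_smul, Submodule.mem_smul_pointwise_iff_exists]
    simp
  letI := Module.IsTorsionBySet.module (M := M ⧸ N) (R := R) (I := IsLocalRing.maximalIdeal R) (by
    intro x a
    obtain ⟨y, rfl⟩ := N.mkQ_surjective x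
    rw [← map_smul, Submodule.mkQ_apply, Submodule.Quotient.mk_eq_zero]
    exact Submodule.smul_mem_smul a.2 Submodule.mem_top)
  let V := M ⧸ N
  letI : Module (IsLocalRing.ResidueField R) V := this
  haveI : IsScalarTower R (IsLocalRing.ResidueField R) V := Module.IsTorsionBySet.isScalarTower _
  haveI : Module.Finite (IsLocalRing.ResidueField R) V := Module.Finite.of_restrictScalars_finite R _ _
  have hres : ∀ (r : R) (x : V), IsLocalRing.residue R r • x = r • x := fun _ _ => rfl
  have hTN : N ≤ N.comap T := by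
    intro m hm
    obtain ⟨b, rfl⟩ := (hN m).mp hm
    refine (hN _).mpr ⟨T b, ?_⟩
    rw [LinearMap.map_smulₛₗ, map_natCast]
  let T₀ := N.mapQ N T hTN
  let T' : V →ₛₗ[σbar] V :=
    { toFun := T₀
      map_add' := map_add T₀
      map_smul' := fun c x => by
        obtain ⟨r, rfl⟩ := IsLocalRing.residue_surjective c
        rw [hσbar, hres, hres, LinearMap.map_smulₛₗ] }
  have hs := (Groth.Agent.H26Misc.sub_surjective_and_basis hsurj T' h2 h3).1
  have step : ∀ m : M, ∃ a b : M, m = a - T a + (p : R) • b := by
    intro m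
    obtain ⟨q, hq⟩ := hs (N.mkQ m)
    obtain ⟨a, rfl⟩ := N.mkQ_surjective q
    have hmem : m - (a - T a) ∈ N := by
      rw [← Submodule.Quotient.mk_eq_zero, Submodule.Quotient.mk_sub, Submodule.Quotient.mk_sub, sub_eq_zero]
      exact hq.symm
    obtain ⟨b, hb⟩ := (hN _).mp hmem
    exact ⟨a, b, by rw [hb]; abel⟩
  intro m
  suffices h : ∀ j, ∃ a b : M, m = a - T a + (p : R) ^ j • b by
    obtain ⟨a, b, h⟩ := h n
    exact ⟨a, by rw [h, hn, zero_smul, add_zero]⟩
  intro j
  induction j with
  | zero => exact ⟨0, m, by simp⟩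
  | succ j ih =>
    obtain ⟨a, b, rfl⟩ := ih
    obtain ⟨a', b', rfl⟩ := step b
    refine ⟨a + (p : R) ^ j • a', b', ?_⟩
    rw [map_add, LinearMap.map_smulₛₗ, map_pow, map_natCast, pow_succ, mul_smul, smul_add, smul_sub]
    abel

end Groth.Agent.S19235
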