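import Groth.Statements.S19236
import Groth.Agent.H26Misc.SigmaLin
import Mathlib.RingTheory.LocalRing.ResidueField.Basic
import Mathlib.RingTheory.Finiteness.Basic
import Mathlib.RingTheory.Noetherian.Basic
import Mathlib.RingTheory.Ideal.Operations

set_option autoImplicit false
universe u v
open SigmaLin

namespace Groth.Agent.S19236

/-- Let p be a prime number and R a local ring whose maximal ideal is generated by p and in which p^n =
0 for some n. Let σ be a ring endomorphism of R and σ̄ the induced endomorphism of the residue field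
k = R/(p); assume σ̄ is surjective, that for every m and every tuple (b_0, …, b_m) in k, not all
zero, the equation x = Σ_{i=0}^{m} σ̄^{i+1}(x) σ̄^{i}(b_{m-i}) has a nonzero solution x in k, that
for every c in k there is y with σ̄(y) − y + c = 0, and that every element of k fixed by σ̄ is the
residue of an element of R fixed by σ. Let M be a finitely generated R-module and T : M → M additive
with T (r • m) = σ r • T m. Then the T-fixed elements of M form a finitely generated module over the
ring of σ-fixed elements of R: there are finitely many T-fixed elements such that every T-fixed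
element is a linear combination of them with σ-fixed coefficients. -/
theorem result
    (p : ℕ) [Fact p.Prime] (R : Type u) [CommRing R] [IsLocalRing R]
    (hmax : IsLocalRing.maximalIdeal R = Ideal.span {(p : R)}) (n : ℕ) (hn : (p : R) ^ n = 0)
    (σ : R →+* R) (σbar : IsLocalRing.ResidueField R →+* IsLocalRing.ResidueField R)
    (hσbar : ∀ r : R, σbar (IsLocalRing.residue R r) = IsLocalRing.residue R (σ r))
    (hsurj : Function.Surjective σbar)
    (h2 : ∀ (n : ℕ) (b : Fin (n + 1) → IsLocalRing.ResidueField R), b ≠ 0 →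
      ∃ x : IsLocalRing.ResidueField R, x ≠ 0 ∧ x = ∑ i : Fin (n + 1), (⇑σbar)^[i.val + 1] x * (⇑σbar)^[i.val] (b (Fin.rev i)))
    (h3 : ∀ c : IsLocalRing.ResidueField R, ∃ y : IsLocalRing.ResidueField R, σbar y - y + c = 0)
    (M : Type v) [AddCommGroup M] [Module R M] [Module.Finite R M] (T : M →ₛₗ[σ] M)
    (hlift : ∀ x : IsLocalRing.ResidueField R, σbar x = x → ∃ r : R, σ r = r ∧ IsLocalRing.residue R r = x) :
    ∃ s : Finset M, (∀ m ∈ s, T m = m) ∧
      ∀ m : M, T m = m → ∃ c : M → R, (∀ x ∈ s, σ (c x) = c x) ∧ m = ∑ x ∈ s, c x • x := by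
  classical
  let P : ℕ → Submodule R M := fun j => Ideal.span {(p : R)} ^ j • (⊤ : Submodule R M)
  have hPmem : ∀ j m, m ∈ P j ↔ ∃ b, (p : R) ^ j • b = m := by
    intro j m
    show m ∈ Ideal.span {(p : R)} ^ j • (⊤ : Submodule R M) ↔ _
    rw [Ideal.span_singleton_pow, Submodule.ideal_span_singleton_smul, Submodule.mem_smul_pointwise_iff_exists]
    simp
  have hPfg : ∀ j, (P j).FG := fun j => by
    have : P j = LinearMap.range ((p : R) ^ j • (LinearMap.id : M →ₗ[R] M)) := by
      ext m; rw [hPmem]; simp
    rw [this, LinearMap.range_eq_map]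
    exact Module.Finite.fg_top.map _
  suffices h : ∀ d j, j + d = n → ∃ s : Finset M, (∀ m ∈ s, T m = m) ∧
      ∀ m ∈ P j, T m = m → ∃ c : M → R, (∀ x ∈ s, σ (c x) = c x) ∧ m = ∑ x ∈ s, c x • x by
    obtain ⟨s, hs, h'⟩ := h n 0 (zero_add n)
    exact ⟨s, hs, fun m hm => h' m ((hPmem 0 m).mpr ⟨m, by simp⟩) hm⟩
  intro d
  induction d with
  | zero =>
    intro j hj
    refine ⟨∅, by simp, fun m hm _ => ⟨0, by simp, ?_⟩⟩
    obtain ⟨b, rfl⟩ := (hPmem j m).mp hm
    rw [show j = n by omega, hn]; simp
  | succ d ih =>
    intro j hj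
    obtain ⟨s, hs, hcov⟩ := ih (j + 1) (by omega)
    let Q : Submodule R (P j) := Ideal.span {(p : R)} • (⊤ : Submodule R (P j))
    let W := (P j) ⧸ Q
    letI : Module (IsLocalRing.ResidueField R) W := Module.IsTorsionBySet.module (M := W) (R := R)
      (I := IsLocalRing.maximalIdeal R) (by
        intro x a
        obtain ⟨y, rfl⟩ := Q.mkQ_surjective x
        rw [← map_smul, Submodule.mkQ_apply, Submodule.Quotient.mk_eq_zero]
        exact Submodule.smul_mem_smul (hmax ▸ a.2) Submodule.mem_top)
    haveI : IsScalarTower R (IsLocalRing.ResidueField R) W := Module.IsTorsionBySet.isScalarTower _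
    haveI : Module.Finite R (P j) := Module.Finite.iff_fg.mpr (hPfg j)
    haveI : Module.Finite (IsLocalRing.ResidueField R) W := Module.Finite.of_restrictScalars_finite R _ _
    have hres : ∀ (r : R) (x : W), IsLocalRing.residue R r • x = r • x := fun _ _ => rfl
    have hmapsto : ∀ m ∈ P j, T m ∈ P j := by
      intro m hm
      obtain ⟨b, rfl⟩ := (hPmem j m).mp hm
      exact (hPmem j _).mpr ⟨T b, by rw [LinearMap.map_smulₛₗ, map_pow, map_natCast]⟩
    let TP : P j →ₛₗ[σ] P j :=
      { toFun := fun x => ⟨T x, hmapsto x x.2⟩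
        map_add' := fun x y => Subtype.ext (map_add T _ _)
        map_smul' := fun c x => Subtype.ext (LinearMap.map_smulₛₗ T _ _) }
    have hQmem : ∀ x : P j, x ∈ Q ↔ ∃ b : P j, (p : R) • b = x := by
      intro x
      show x ∈ Ideal.span {(p : R)} • (⊤ : Submodule R (P j)) ↔ _
      rw [Submodule.ideal_span_singleton_smul, Submodule.mem_smul_pointwise_iff_exists]
      simp
    have hTQ : Q ≤ Q.comap TP := by
      intro m hm
      obtain ⟨b, rfl⟩ := (hQmem m).mp hm
      refine (hQmem _).mpr ⟨TP b, ?_⟩
      rw [LinearMap.map_smulₛₗ, map_natCast]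
    let T₀ := Q.mapQ Q TP hTQ
    let T' : W →ₛₗ[σbar] W :=
      { toFun := T₀
        map_add' := map_add T₀
        map_smul' := fun c x => by
          obtain ⟨r, rfl⟩ := IsLocalRing.residue_surjective c
          rw [hσbar, hres, hres, LinearMap.map_smulₛₗ] }
    let S : Set W := Q.mkQ '' {x : P j | T (x : M) = x}
    obtain ⟨t, htS, htsp, hli⟩ := exists_linearIndependent (IsLocalRing.ResidueField R) S
    have : Fintype t := hli.setFinite.fintype
    have hlift : ∀ w : t, ∃ x : P j, T (x : M) = x ∧ Q.mkQ x = (w : W) := fun w => htS w.2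
    choose lift hlift1 hlift2 using hlift
    have hTfix : ∀ w : t, T' (w : W) = w := by
      intro w
      rw [← hlift2 w]
      show T₀ (Q.mkQ (lift w)) = _
      rw [Submodule.mkQ_apply, Submodule.mapQ_apply]
      exact congrArg (Submodule.Quotient.mk (p := Q)) (Subtype.ext (hlift1 w))
    have hc : ∀ x : P j, T (x : M) = x → ∃ r : t → R, (∀ w, σ (r w) = r w) ∧
        ((x : M) - ∑ w, r w • (lift w : M)) ∈ P (j + 1) := by
      intro x hx
      have hxs : Q.mkQ x ∈ Submodule.span (IsLocalRing.ResidueField R) (t : Set W) := by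
        rw [htsp]; exact Submodule.subset_span ⟨x, hx, rfl⟩
      rw [show (t : Set W) = Set.range (fun w : t => (w : W)) from Subtype.range_coe.symm,
        Submodule.mem_span_range_iff_exists_fun] at hxs
      obtain ⟨c, hc⟩ := hxs
      have hfix : ∀ w, σbar (c w) = c w := by
        have h1 : T' (Q.mkQ x) = Q.mkQ x := by
          show T₀ (Q.mkQ x) = _
          rw [Submodule.mkQ_apply, Submodule.mapQ_apply]
          exact congrArg (Submodule.Quotient.mk (p := Q)) (Subtype.ext hx)
        rw [← hc, map_sum] at h1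
        simp only [LinearMap.map_smulₛₗ, hTfix] at h1
        have h1' : ∑ w, (σbar (c w) - c w) • (w : W) = 0 := by
          simp only [sub_smul, Finset.sum_sub_distrib, h1, sub_self]
        exact fun w => sub_eq_zero.mp (Fintype.linearIndependent_iff.mp hli _ h1' w)
      choose r hr1 hr2 using fun w => hlift (c w) (hfix w)
      refine ⟨r, hr1, ?_⟩
      have h0 : x - ∑ w, r w • lift w ∈ Q := by
        rw [← Submodule.Quotient.mk_eq_zero, ← Submodule.mkQ_apply, map_sub, map_sum, sub_eq_zero, ← hc]
        exact Finset.sum_congr rfl fun w _ => by rw [map_smul, hlift2, ← hres, hr2]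
      obtain ⟨b, hb⟩ := (hQmem _).mp h0
      obtain ⟨b', hb'⟩ := (hPmem j _).mp b.2
      refine (hPmem (j + 1) _).mpr ⟨b', ?_⟩
      have := congrArg (fun y : P j => (y : M)) hb
      simp only [Submodule.coe_smul, Submodule.coe_sub, Submodule.coe_sum] at this
      rw [← this, ← hb', smul_smul, pow_succ, mul_comm]
    let s' : Finset M := Finset.univ.image (fun w : t => (lift w : M))
    refine ⟨s' ∪ s, ?_, fun m hm hfix => ?_⟩
    · intro x hx
      rcases Finset.mem_union.mp hx with h | h
      · obtain ⟨w, -, rfl⟩ := Finset.mem_image.mp h; exact hlift1 w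
      · exact hs x h
    obtain ⟨r, hr, hmem⟩ := hc ⟨m, hm⟩ hfix
    obtain ⟨c, hcfix, hce⟩ := hcov _ hmem (by
      rw [map_sub, map_sum, hfix]
      simp only [LinearMap.map_smulₛₗ, hr, hlift1])
    refine ⟨fun x => (∑ w ∈ Finset.univ.filter (fun w : t => (lift w : M) = x), r w) + if x ∈ s then c x else 0,
      fun x _ => ?_, ?_⟩
    · rw [map_add, map_sum]
      simp only [hr]
      split_ifs with h
      · rw [hcfix x h]
      · rw [map_zero]
    · simp only [add_smul, Finset.sum_add_distrib, ite_smul, zero_smul, Finset.sum_smul]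
      rw [Finset.sum_ite_mem, Finset.inter_eq_right.mpr Finset.subset_union_right, ← hce]
      have : ∑ x ∈ s' ∪ s, ∑ w ∈ Finset.univ.filter (fun w : t => (lift w : M) = x), r w • x
          = ∑ w, r w • (lift w : M) := by
        rw [← Finset.sum_fiberwise_of_maps_to (s := Finset.univ) (t := s' ∪ s) (g := fun w : t => (lift w : M))
          (fun w _ => Finset.mem_union_left _ (Finset.mem_image_of_mem _ (Finset.mem_univ w)))]
        refine Finset.sum_congr rfl fun x _ => Finset.sum_congr rfl fun w hw => ?_
        rw [(Finset.mem_filter.mp hw).2]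
      rw [this]
      abel

end Groth.Agent.S19236
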