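import Groth.Statements.S19239
import Groth.Agent.H26Misc.SigmaLin
import Mathlib.FieldTheory.IsAlgClosed.Basic
import Mathlib.Algebra.Polynomial.Expand

set_option autoImplicit false
universe u v
open SigmaLin

namespace Groth.Agent.S19239

/-- Let k be an algebraically closed field of characteristic p > 0, V a finite-dimensional k-vector
space and T : V → V an additive map with T (c • v) = σ(c) • T v for σ the inverse of the p-th power
map of k. Then v ↦ v − T v is surjective on V, and the intersection over n of the k-spans of the
images of the iterates of T admits a k-basis consisting of vectors fixed by T. (A special case of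
the statement for a surjective field endomorphism satisfying two solvability conditions.) -/
theorem result
    (p : ℕ) [Fact p.Prime] (k : Type u) [Field k] [CharP k p] [IsAlgClosed k]
    (V : Type v) [AddCommGroup V] [Module k V] [FiniteDimensional k V]
    (T : V →ₛₗ[(frobeniusEquiv k p).symm.toRingHom] V) :
    Function.Surjective (fun v : V => v - T v) ∧
    ∃ b : Module.Basis (Fin (Module.finrank k ↥(⨅ n : ℕ, Submodule.span k (Set.range ((⇑T)^[n]))))) k ↥(⨅ n : ℕ, Submodule.span k (Set.range ((⇑T)^[n]))),
      ∀ i, T (b i : V) = (b i : V) := by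
  classical
  have hp : 2 ≤ p := (Fact.out : p.Prime).two_le
  have hσp : ∀ x : k, (frobeniusEquiv k p).symm.toRingHom (x ^ p) = x := fun x => by
    show (frobeniusEquiv k p).symm (x ^ p) = x
    rw [← frobeniusEquiv_def, RingEquiv.symm_apply_apply]
  have hit : ∀ (i : ℕ) (x : k), (⇑(frobeniusEquiv k p).symm.toRingHom)^[i] (x ^ p ^ i) = x := by
    intro i
    induction i with
    | zero => simp
    | succ i ih =>
      intro x
      rw [Function.iterate_succ_apply, pow_succ, pow_mul, hσp, ih]
  refine Groth.Agent.H26Misc.sub_surjective_and_basis (frobeniusEquiv k p).symm.surjective T (fun n b hb => ?_) (fun c => ?_)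
  · set a : Fin (n + 1) → k := fun i => (⇑(frobeniusEquiv k p).symm.toRingHom)^[i.val] (b (Fin.rev i)) with ha
    have hne : (Finset.univ.filter fun i => a i ≠ 0).Nonempty := by
      obtain ⟨i, hi⟩ := Function.ne_iff.mp hb
      refine ⟨Fin.rev i, Finset.mem_filter.mpr ⟨Finset.mem_univ _, fun h => hi ?_⟩⟩
      simp only [ha, Fin.rev_rev] at h
      exact ((frobeniusEquiv k p).symm.toRingHom.injective.iterate _) (h.trans (iterate_map_zero (frobeniusEquiv k p).symm.toRingHom _).symm)
    set i₀ := (Finset.univ.filter fun i => a i ≠ 0).max' hne with hi₀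
    have ha₀ : a i₀ ≠ 0 := (Finset.mem_filter.mp (Finset.max'_mem _ hne)).2
    set m : ℕ := p ^ (n - i₀.val) with hm
    set q : Polynomial k := Polynomial.X ^ (p ^ (n + 1) - m) -
      ∑ i : Fin (n + 1), Polynomial.C (a i) * Polynomial.X ^ (p ^ (n - i.val) - m) with hq
    have hm1 : 1 ≤ m := Nat.one_le_pow _ _ (by omega)
    have hbig : ∀ i : Fin (n + 1), p ^ (n - i.val) - m < p ^ (n + 1) - m := by
      intro i
      have h1 : p ^ (n - i.val) < p ^ (n + 1) := Nat.pow_lt_pow_right hp (by omega)
      have h2 : m < p ^ (n + 1) := Nat.pow_lt_pow_right hp (by omega)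
      omega
    have hge : ∀ i, a i ≠ 0 → m ≤ p ^ (n - i.val) := fun i hi => by
      have : i ≤ i₀ := Finset.le_max' _ i (Finset.mem_filter.mpr ⟨Finset.mem_univ _, hi⟩)
      exact Nat.pow_le_pow_right (by omega) (by have := Fin.le_def.mp this; omega)
    have hdeg : q.natDegree = p ^ (n + 1) - m := by
      rw [hq, Polynomial.natDegree_sub_eq_left_of_natDegree_lt]
      · simp
      · rw [Polynomial.natDegree_X_pow]
        refine lt_of_le_of_lt (Polynomial.natDegree_sum_le_of_forall_le _ _ (n := p ^ (n + 1) - m - 1) fun i _ => ?_) (by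
          have := hbig i₀; omega)
        refine (Polynomial.natDegree_C_mul_X_pow_le _ _).trans ?_
        have := hbig i; omega
    have h0 : q.coeff 0 ≠ 0 := by
      rw [hq, Polynomial.coeff_sub, Polynomial.coeff_X_pow, if_neg (by have := hbig i₀; omega),
        Polynomial.finsetSum_coeff, zero_sub, neg_ne_zero, Finset.sum_eq_single i₀]
      · simp [hm, ha₀]
      · intro i _ hi
        rw [Polynomial.coeff_C_mul_X_pow]
        split_ifs with h
        · by_contra hai
          have := hge i hai
          have : p ^ (n - i.val) = p ^ (n - i₀.val) := by omega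
          have := Nat.pow_right_injective hp this
          exact hi (Fin.ext (by omega))
        · rfl
      · simp
    obtain ⟨y, hy⟩ := IsAlgClosed.exists_root q (fun h => by
      have := Polynomial.natDegree_eq_zero_iff_degree_le_zero.mpr h.le
      have := hbig i₀
      omega)
    have hy0 : y ≠ 0 := by
      rintro rfl
      exact h0 (Polynomial.coeff_zero_eq_eval_zero q ▸ hy)
    refine ⟨y ^ p ^ (n + 1), pow_ne_zero _ hy0, ?_⟩
    simp only [Polynomial.IsRoot, hq, Polynomial.eval_sub, Polynomial.eval_pow, Polynomial.eval_X,
      Polynomial.eval_finsetSum, Polynomial.eval_mul, Polynomial.eval_C, sub_eq_zero] at hy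
    have h2 : m ≤ p ^ (n + 1) := Nat.pow_le_pow_right (by omega) (by omega)
    calc y ^ p ^ (n + 1) = y ^ (p ^ (n + 1) - m) * y ^ m := by rw [← pow_add, Nat.sub_add_cancel h2]
      _ = _ := by
        rw [hy, Finset.sum_mul]
        refine Finset.sum_congr rfl fun i _ => ?_
        have e : (⇑(frobeniusEquiv k p).symm.toRingHom)^[i.val + 1] (y ^ p ^ (n + 1)) = y ^ p ^ (n - i.val) := by
          rw [show p ^ (n + 1) = p ^ (n - i.val) * p ^ (i.val + 1) by rw [← pow_add]; congr 1; omega, pow_mul, hit]
        show _ = _ * a i
        rw [e]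
        by_cases hai : a i = 0
        · simp [hai]
        · rw [mul_assoc, ← pow_add, Nat.sub_add_cancel (hge i hai), mul_comm]
  · obtain ⟨z, hz⟩ := IsAlgClosed.exists_root (Polynomial.X ^ p - Polynomial.X - Polynomial.C c) (fun h => by
      have : (Polynomial.X ^ p - Polynomial.X - Polynomial.C c).natDegree = p := by
        compute_degree!
        · simp [show p ≠ 0 by omega, show 1 ≠ p by omega]
        all_goals omega
      have := Polynomial.natDegree_eq_zero_iff_degree_le_zero.mpr h.le
      omega)
    refine ⟨z ^ p, ?_⟩
    rw [hσp]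
    simp only [Polynomial.IsRoot, Polynomial.eval_sub, Polynomial.eval_pow, Polynomial.eval_X, Polynomial.eval_C] at hz
    linear_combination -hz

end Groth.Agent.S19239
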