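import Groth.Statements.S1924
import Groth.Agent.H3Cyc.CommApp
import Groth.Agent.H3Cyc.Fund
import Groth.Agent.H3Cyc.ZeroSect
-- import your own Groth.Agent.* helpers here

set_option autoImplicit false
universe u
open CategoryTheory AlgebraicGeometry
open Cyc
open Groth.Agent
open Groth.Agent.H3Cyc

namespace Groth.Agent.S1924

/-- Let L be invertible on X, ι : Y → X a closed immersion with δ ≤ k + 1 on Y, and s a global section
of L|_Y = ι^*L such that the points of its zero locus have δ ≤ k and, at every such point ξ with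
δ(ξ) = k, multiplication by the germ of s is injective on O_{Y,ξ}. Then c_1(L) ∩ [Y]_{k+1} ∼_rat
ι_*[Z(s)]_k as k-cycles on X (for any nonzero rational sections used to compute the left side and
any cycle on Y with the coefficients of [Z(s)]_k). Here L(ξ) = L_ξ/𝔪_ξ L_ξ is the space of rational
sections of L on the closure of ξ, div_{L|W}(s) and c_1(L) ∩ α are computed as coefficient functions
from chosen nonzero rational sections (Cyc.secDivFun, Cyc.c1CapFun), and results are compared up to
rational equivalence for any cycles with those coefficients. A pair (X, δ) with Cyc.IsSetup plays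
the role of a scheme locally of finite type over a fixed base with a dimension function (X locally
Noetherian with universally catenary local rings, δ a dimension function), and Cyc.DeltaCompat
records that the dimension function upstairs is the induced one. -/
theorem result (X Y : Scheme.{u}) (δ : X → ℤ) (hX : Cyc.IsSetup X δ) (L : X.Modules) (hL : PicF.IsInvertible L) (ι : Y ⟶ X) [IsClosedImmersion ι] (k : ℤ) (hY : ∀ y : Y, δ (ι y) ≤ k + 1) (s : ((Scheme.Modules.pullback ι).obj L).presheaf.obj (Opposite.op ⊤)) (hZ : ∀ y : Y, (((Scheme.Modules.pullback ι).obj L).presheaf.germ ⊤ y trivial) s ∈ IsLocalRing.maximalIdeal (Y.presheaf.stalk y) • (⊤ : Submodule (Y.presheaf.stalk y) (((Scheme.Modules.pullback ι).obj L).presheaf.stalk y)) → δ (ι y) ≤ k) (hreg : ∀ y : Y, δ (ι y) = k → Function.Injective (fun a : Y.presheaf.stalk y => a • (((Scheme.Modules.pullback ι).obj L).presheaf.germ ⊤ y trivial) s)) (v : (ξ : X) → Cyc.secFibre L ξ) (hv : ∀ ξ, v ξ ≠ 0) (γ : AlgebraicCycle X ℤ) (hγ : ⇑γ = Cyc.c1CapFun δ L (Cyc.subschemeFun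 δ (k + 1) ι) v) (ζ : AlgebraicCycle Y ℤ) (hζ : ⇑ζ = Cyc.zeroSectionFun (fun y => δ (ι y)) k ((Scheme.Modules.pullback ι).obj L) s) : Cyc.RatEquiv δ k γ (AlgebraicCycle.map ι (fun y => δ (ι y)) δ ζ) := by
  classical
  haveI := hX.1
  have hY' := Reduction.isSetup_closedImmersion ι hX
  haveI := hY'.1
  obtain ⟨α, hαe, hαk⟩ := Fund.exists_fundamental hY'.2.2 (k + 1) hY
  let u : (y : Y) → Cyc.secFibre ((Scheme.Modules.pullback ι).obj L) y :=
    Cyc.gysinChoice _ s fun y => C1Api.pullFib ι L y (v (ι y))
  have hu : ∀ y, u y ≠ 0 := Gysin.gysinChoice_ne_zero _ s _ fun y => C1Api.pullFib_ne_zero ι hL y _ (hv _)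
  have hζ' : ⇑ζ = Cyc.c1CapFun (fun y => δ (ι y)) ((Scheme.Modules.pullback ι).obj L) ⇑α u := by
    funext y
    rw [hζ, ZeroSect.zeroSectionFun_eq hY' (C1Api.isInvertible_pullback' ι hL) k hY s hZ hreg y, hαe]
    refine finsum_congr fun ξ => ?_
    by_cases hξ : δ (ι ξ) = k + 1
    · congr 2
      refine (if_pos fun h => ?_).symm
      rw [Submodule.Quotient.mk_eq_zero] at h
      have := hZ ξ h
      omega
    · rw [Fund.subschemeFun_id, if_neg hξ, zero_mul, zero_mul]
  refine RatRel.symm (C1Api.map_c1Cap ι hY' hX (Reduction.deltaCompat_immersion ι δ) hL k α hαk u hu v hv ζ hζ' γ ?_)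
  rw [hγ, Fund.map_fundamental ι δ (k + 1) α hαe]

end Groth.Agent.S1924
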