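import Groth.Statements.S19240
import Groth.Agent.H27FrobRoot.Root

set_option autoImplicit false
universe u
open FrobSch

namespace Groth.Agent.S19240

open CategoryTheory CategoryTheory.Limits AlgebraicGeometry in
/-- Let k be a perfect field of characteristic p > 0 and let u : X ⟶ Y be a k-morphism between integral
k-schemes (separated, of finite type and quasi-projective over k) which is a universal
homeomorphism, and assume Y is normal. Then the degree of the function field of X over that of Y is
p ^ n for some natural number n, and for this n there is a universal homeomorphism v : Y ⟶ X^{(n)},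
where X^{(n)} is the base change of X along the n-th power of the Frobenius of Spec k, such that v
is a k-morphism, u followed by v is the n-th relative Frobenius of X over k (its composite with the
projection X^{(n)} ⟶ X is the n-th power of the absolute Frobenius of X) and v followed by the base
change of u is the n-th relative Frobenius of Y over k (the composite of v with the projection to X
and with u is the n-th power of the absolute Frobenius of Y). -/
theorem result
    (p : ℕ) [Fact p.Prime] (k : Type u) [Field k] [CharP k p] [PerfectField k]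
    {X Y : Scheme.{u}} (fX : X ⟶ Spec (CommRingCat.of k)) (fY : Y ⟶ Spec (CommRingCat.of k))
    [IsIntegral X] [IsIntegral Y] [FrobSch.IsCharP X p] [FrobSch.IsCharP Y p]
    [IsSeparated fX] [IsSeparated fY] [LocallyOfFiniteType fX] [LocallyOfFiniteType fY]
    (hqX : ∃ (N : ℕ) (i : X ⟶ CohB1.ProjSpace N k), IsImmersion i ∧ i ≫ CohB1.ProjSpace.toSpec N k = fX)
    (hqY : ∃ (N : ℕ) (i : Y ⟶ CohB1.ProjSpace N k), IsImmersion i ∧ i ≫ CohB1.ProjSpace.toSpec N k = fY)
    (hY : Pi1.IsNormalScheme Y)
    (u : X ⟶ Y) (hu : u ≫ fY = fX) (huniv : FlatMor.IsUnivHomeo u)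
    (e : u (genericPoint X) = genericPoint Y) :
    ∃ n : ℕ,
      @Module.finrank Y.functionField X.functionField _ _
          (Y.presheaf.stalkSpecializes (specializes_of_eq e) ≫ u.stalkMap (genericPoint X)).hom.toAlgebra.toModule = p ^ n ∧
      ∃ v : Y ⟶ pullback fX ((fun g : Spec (CommRingCat.of k) ⟶ Spec (CommRingCat.of k) => g ≫ FrobSch.frob (Spec (CommRingCat.of k)) p)^[n] (𝟙 (Spec (CommRingCat.of k)))),
        FlatMor.IsUnivHomeo v ∧
        v ≫ pullback.snd fX ((fun g : Spec (CommRingCat.of k) ⟶ Spec (CommRingCat.of k) => g ≫ FrobSch.frob (Spec (CommRingCat.of k)) p)^[n] (𝟙 (Spec (CommRingCat.of k)))) = fY ∧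
        u ≫ v ≫ pullback.fst fX ((fun g : Spec (CommRingCat.of k) ⟶ Spec (CommRingCat.of k) => g ≫ FrobSch.frob (Spec (CommRingCat.of k)) p)^[n] (𝟙 (Spec (CommRingCat.of k)))) =
          (fun g : X ⟶ X => g ≫ FrobSch.frob X p)^[n] (𝟙 X) ∧
        v ≫ pullback.fst fX ((fun g : Spec (CommRingCat.of k) ⟶ Spec (CommRingCat.of k) => g ≫ FrobSch.frob (Spec (CommRingCat.of k)) p)^[n] (𝟙 (Spec (CommRingCat.of k)))) ≫ u =
          (fun g : Y ⟶ Y => g ≫ FrobSch.frob Y p)^[n] (𝟙 Y) := by
  haveI hI : IsIntegralHom u := ((H7Flat.isUnivHomeo_iff u).mp huniv).1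
  haveI hUI : UniversallyInjective u := ((H7Flat.isUnivHomeo_iff u).mp huniv).2.1
  haveI hS : Surjective u := ((H7Flat.isUnivHomeo_iff u).mp huniv).2.2
  haveI : LocallyOfFiniteType (u ≫ fY) := by rw [hu]; infer_instance
  haveI : LocallyOfFiniteType u := locallyOfFiniteType_of_comp u fY
  haveI : IsFinite u := (IsFinite.iff_isIntegralHom_and_locallyOfFiniteType u).mpr ⟨hI, inferInstance⟩
  haveI : X.IsSeparated := ⟨by rw [← terminal.comp_from fX]; infer_instance⟩
  haveI : Y.IsSeparated := ⟨by rw [← terminal.comp_from fY]; infer_instance⟩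
  obtain ⟨n, hn, hpow⟩ := H27FrobRoot.exists_finrank_pow (p := p) u e huniv
  refine ⟨n, hn, ?_⟩
  obtain ⟨w, huw, hwu⟩ := H27FrobRoot.exists_frobN_root (p := p) u e (fun y => (hY y).2) hpow
  rw [H27FrobRoot.iterate_frob X n, H27FrobRoot.iterate_frob Y n,
    H27FrobRoot.iterate_frob (p := p) (Spec (CommRingCat.of k)) n]
  set G := H19Grp.FrobPow.frobN p n (Spec (CommRingCat.of k)) with hG
  haveI : IsIso G := H19Grp.FrobPow.isIso_frobN_Spec p n k
  have hw : w ≫ fX = fY ≫ G := by
    refine ext_of_isDominant u ?_
    rw [reassoc_of% huw, H19Grp.FrobPow.frobN_comp, reassoc_of% hu]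
  have h1 : (pullback.lift w fY hw : Y ⟶ pullback fX G) ≫ pullback.fst fX G = w := pullback.lift_fst _ _ _
  refine ⟨pullback.lift w fY hw, ?_, pullback.lift_snd _ _ _, by rw [h1]; exact huw,
    by rw [reassoc_of% h1]; exact hwu⟩
  rw [H7Flat.isUnivHomeo_iff]
  have hwI : IsIntegralHom w := by
    haveI : IsIntegralHom (w ≫ u) := by rw [hwu]; infer_instance
    exact MorphismProperty.of_postcomp (W := @IsIntegralHom) (W' := @IsSeparated) w u inferInstance ‹_›
  have hwS : Surjective w := ⟨fun x => ⟨u x, by rw [← Scheme.Hom.comp_apply, huw]; rfl⟩⟩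
  have hwU : UniversallyInjective w := by
    have : ∀ m : ℕ, UniversallyInjective (H19Grp.FrobPow.frobN p m Y) := by
      intro m
      rw [← H27FrobRoot.iterate_frob]
      induction m with
      | zero => rw [Function.iterate_zero_apply]; infer_instance
      | succ m ih =>
        rw [Function.iterate_succ_apply']
        exact MorphismProperty.comp_mem (W := @UniversallyInjective) _ _ ih
          (H22Alg.Frobenius.universallyInjective_frob Y)
    haveI : UniversallyInjective (w ≫ u) := by rw [hwu]; exact this n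
    exact H7Flat.universallyInjective_of_comp w u
  refine ⟨?_, ?_, ⟨fun z => ?_⟩⟩
  · haveI : IsIntegralHom (pullback.lift w fY hw ≫ pullback.fst fX G) := by rw [h1]; exact hwI
    exact MorphismProperty.of_postcomp (W := @IsIntegralHom) (W' := @IsSeparated) _ (pullback.fst fX G)
      inferInstance ‹_›
  · haveI : UniversallyInjective (pullback.lift w fY hw ≫ pullback.fst fX G) := by rw [h1]; exact hwU
    exact H7Flat.universallyInjective_of_comp _ (pullback.fst fX G)
  · obtain ⟨y, hy⟩ := hwS.surj (pullback.fst fX G z)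
    refine ⟨y, (pullback.fst fX G).isOpenEmbedding.injective ?_⟩
    rw [← Scheme.Hom.comp_apply, h1, hy]

end Groth.Agent.S19240
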