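import Groth.Statements.S19243
import Groth.Agent.H15Site.LimTower.Main
import Groth.Agent.H24FMod.LimTop
import Groth.Agent.H15Site.ModInjAcyclic
import Groth.Agent.H10Coh.ToSheaf

set_option autoImplicit false
set_option backward.isDefEq.respectTransparency false
set_option backward.isDefEq.respectTransparency.types false
universe u
open CohTop

namespace Groth.Agent.S19243

attribute [local instance 10000] H15Site.SiteInst.hasSheafifySite H15Site.SiteInst.hasWeakSheafifySite
  H15Site.SiteInst.hasExtSite H15Site.SiteInst.enoughInjSite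

open CategoryTheory CategoryTheory.Limits TopologicalSpace Opposite in
/-- Let X be a topological space with a sheaf of (not necessarily commutative) rings R, E = (E_n)_{n ≥
0} an inverse system of R-modules indexed by the natural numbers and B a basis of the topology of X.
Write R^i lim for the i-th right derived functor of the limit functor from ℕ-indexed inverse systems
of R-modules to R-modules (the limit functor is additive and the category of inverse systems has
injective resolutions; both facts are carried as instance hypotheses). (1) If H^i(U, E_n) = 0 for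
every U in B, every n and every i ≥ 1, then R^i lim E = 0 for every i ≥ 2. (2) If in addition, for
every U in B, the inverse system of abelian groups (H^0(U, E_n))_n satisfies the Mittag-Leffler
condition, then R^i lim E = 0 for every i ≥ 1. (The source states this for a ringed space, with a
commutative structure sheaf, and indexes the system by the integers n ≥ 1; commutativity plays no
role.) -/
theorem result
    (X : TopCat.{u}) (R : Sheaf (Opens.grothendieckTopology X) RingCat.{u})
    [(lim : (ℕᵒᵖ ⥤ SheafOfModules.{u} R) ⥤ SheafOfModules.{u} R).Additive]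
    [HasInjectiveResolutions (ℕᵒᵖ ⥤ SheafOfModules.{u} R)]
    (E : ℕᵒᵖ ⥤ SheafOfModules.{u} R) (B : Set (Opens X)) (hB : Opens.IsBasis B)
    (ha : ∀ U ∈ B, ∀ (n i : ℕ), 1 ≤ i →
      Subsingleton (CohTop.HU ((SheafOfModules.toSheaf R).obj (E.obj (op n))) i U)) :
    (∀ i : ℕ, 2 ≤ i →
      IsZero (((lim : (ℕᵒᵖ ⥤ SheafOfModules.{u} R) ⥤ SheafOfModules.{u} R).rightDerived i).obj E)) ∧
    ((∀ U ∈ B, (E ⋙ SheafOfModules.toSheaf R ⋙
        (sheafSections (Opens.grothendieckTopology X) AddCommGrpCat.{u}).obj (op U) ⋙
          forget AddCommGrpCat.{u}).IsMittagLeffler) →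
      ∀ i : ℕ, 1 ≤ i →
        IsZero (((lim : (ℕᵒᵖ ⥤ SheafOfModules.{u} R) ⥤ SheafOfModules.{u} R).rightDerived i).obj E)) := by
  haveI : PreservesFiniteColimits (SheafOfModules.toSheaf.{u} R) :=
    Groth.Agent.H10Coh.preservesFiniteColimits_toSheaf R
  haveI : PreservesLimitsOfShape ℕᵒᵖ (PresheafOfModules.toPresheaf.{u} R.obj) := inferInstance
  haveI : PreservesLimitsOfShape ℕᵒᵖ (SheafOfModules.forget.{u} R) := inferInstance
  haveI : PreservesLimitsOfShape ℕᵒᵖ (SheafOfModules.toSheaf.{u} R ⋙ sheafToPresheaf _ _) :=
    inferInstanceAs (PreservesLimitsOfShape ℕᵒᵖ (SheafOfModules.forget.{u} R ⋙ PresheafOfModules.toPresheaf.{u} R.obj))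
  haveI : PreservesLimitsOfShape ℕᵒᵖ (SheafOfModules.toSheaf.{u} R) :=
    preservesLimitsOfShape_of_reflects_of_preserves (SheafOfModules.toSheaf.{u} R) (sheafToPresheaf _ _)
  have hI : ∀ (I : SheafOfModules.{u} R) [Injective I],
      H24FMod.LimH.Acyc B ((SheafOfModules.toSheaf.{u} R).obj I) := fun I _ U _ p =>
    H15Site.ModInjAcyclic.subsingleton_ext R I p _ (H15Site.TorsionFree.tf_sheafify_free _)
  have hE : H15Site.LimTower.TAcyc (SheafOfModules.toSheaf.{u} R) B E := fun n =>
    H24FMod.LimTop.acyc_of_vanish _ fun U hU i hi => ha U hU n.unop i hi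
  have hB' := H24FMod.LimTop.isCovering_of_isBasis hB
  refine ⟨fun i hi => H15Site.LimTower.isZero_ge_two hI hB' hE i hi,
    fun hml i hi => H15Site.LimTower.isZero_ge_one hI hB' hE (fun U hU z => ?_) i hi⟩
  exact H24FMod.MLOne.exists_limOne_of_isMittagLeffler
    (E ⋙ SheafOfModules.toSheaf R ⋙
      (sheafSections (Opens.grothendieckTopology X) AddCommGrpCat.{u}).obj (op U)) (hml U hU) z

end Groth.Agent.S19243
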