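import Groth.Statements.S19244
import Mathlib.CategoryTheory.Abelian.SerreClass.Localization
import Mathlib.CategoryTheory.Abelian.Basic

set_option autoImplicit false
universe v v' u u'
open HomAlg3

namespace Groth.Agent.S19244

set_option linter.style.haveILetI false
open CategoryTheory CategoryTheory.Limits in
lemma aux_W {A : Type u} [Category.{v} A] [Abelian A]
    (P : ObjectProperty A) (hP : ∀ X : A, P X ↔ ∃ n : ℤ, n ≠ 0 ∧ n • (𝟙 X) = 0) [P.IsSerreClass]
    (n : ℤ) (hn : n ≠ 0) (X : A) : P.isoModSerre (n • 𝟙 X) := by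
  refine ⟨(hP _).mpr ⟨n, hn, ?_⟩, (hP _).mpr ⟨n, hn, ?_⟩⟩
  · have h := kernel.condition (n • 𝟙 X)
    rw [Preadditive.comp_zsmul, Category.comp_id] at h
    rw [← cancel_mono (kernel.ι (n • 𝟙 X)), Preadditive.zsmul_comp, Category.id_comp, h, zero_comp]
  · have h := cokernel.condition (n • 𝟙 X)
    rw [Preadditive.zsmul_comp, Category.id_comp] at h
    rw [← cancel_epi (cokernel.π (n • 𝟙 X)), Preadditive.comp_zsmul, Category.comp_id, h, comp_zero]

open CategoryTheory CategoryTheory.Limits in
lemma aux_exists {A : Type u} [Category.{v} A] [Abelian A]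
    (P : ObjectProperty A) (hP : ∀ X : A, P X ↔ ∃ n : ℤ, n ≠ 0 ∧ n • (𝟙 X) = 0) [P.IsSerreClass]
    {X' X : A} (s : X' ⟶ X) (hs : P.isoModSerre s) :
    ∃ (n : ℤ) (t : X ⟶ X'), n ≠ 0 ∧ t ≫ s = n • 𝟙 X := by
  obtain ⟨a, ha, hka⟩ := (hP _).mp hs.1
  obtain ⟨b, hb, hcb⟩ := (hP _).mp hs.2
  have h1 : kernel.ι (Abelian.factorThruImage s) ≫ (a • 𝟙 X') = 0 := by
    have e : kernel.ι (Abelian.factorThruImage s) ≫ s = 0 :=
      ((congrArg (kernel.ι (Abelian.factorThruImage s) ≫ ·) (Abelian.image.fac s)).symm.trans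
        ((Category.assoc _ _ _).symm.trans (by rw [kernel.condition, zero_comp])))
    have := congrArg (· ≫ kernel.ι s) hka
    simp only [Preadditive.zsmul_comp, Category.id_comp, zero_comp] at this
    rw [← kernel.lift_ι s _ e, Category.assoc, Preadditive.comp_zsmul, Category.comp_id, this, comp_zero]
  let w := Abelian.epiDesc (Abelian.factorThruImage s) (a • 𝟙 X') h1
  have h2 : (b • 𝟙 X) ≫ cokernel.π s = 0 := by
    have := congrArg (cokernel.π s ≫ ·) hcb
    simp only [Preadditive.comp_zsmul, Category.comp_id, comp_zero] at this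
    rw [Preadditive.zsmul_comp, Category.id_comp, this]
  let u' : X ⟶ Abelian.image s := kernel.lift _ (b • 𝟙 X) h2
  have h3 : w ≫ s = a • Abelian.image.ι s := by
    rw [← cancel_epi (Abelian.factorThruImage s), ← Category.assoc, Abelian.comp_epiDesc,
      Preadditive.zsmul_comp, Category.id_comp, Preadditive.comp_zsmul]
    exact congrArg (a • ·) (Abelian.image.fac s).symm
  refine ⟨b * a, u' ≫ w, mul_ne_zero hb ha, ?_⟩
  rw [Category.assoc, h3, Preadditive.comp_zsmul]
  show a • (u' ≫ kernel.ι (cokernel.π s)) = _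
  rw [kernel.lift_ι, smul_smul, mul_comm]

open CategoryTheory in
/-- Let A be an abelian category and let P be the class of bounded-torsion objects of A, those X with n
• 𝟙_X = 0 for some nonzero integer n; assume P is a Serre class. Let L : A ⥤ D be an additive
functor to a preadditive category exhibiting D as the localization of A at the morphisms whose
kernel and cokernel are in P (so D is the quotient category A_ℚ = A ⧸ A_{b-tor}; the source assumes
A well-powered, which guarantees that this quotient exists). Then for all objects X, Y of A: (1) for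
every nonzero integer n, multiplication by n is bijective on Hom_D(L X, L Y), so that this group is
naturally a ℚ-vector space; (2) a morphism f : X ⟶ Y satisfies L f = 0 if and only if n • f = 0 for
some nonzero integer n; (3) for every g : L X ⟶ L Y there are a nonzero integer n and f : X ⟶ Y with
n • g = L f. Equivalently, the natural map Hom_A(X, Y) ⊗_ℤ ℚ → Hom_D(L X, L Y) is an isomorphism. -/
theorem result
    {A : Type u} [Category.{v} A] [Abelian A] {D : Type u'} [Category.{v'} D] [Preadditive D]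
    (P : ObjectProperty A) (hP : ∀ X : A, P X ↔ ∃ n : ℤ, n ≠ 0 ∧ n • (𝟙 X) = 0) [P.IsSerreClass]
    (L : A ⥤ D) [L.Additive] [L.IsLocalization P.isoModSerre] (X Y : A) :
    (∀ n : ℤ, n ≠ 0 → Function.Bijective (fun g : L.obj X ⟶ L.obj Y => n • g)) ∧
    (∀ f : X ⟶ Y, L.map f = 0 ↔ ∃ n : ℤ, n ≠ 0 ∧ n • f = 0) ∧
    (∀ g : L.obj X ⟶ L.obj Y, ∃ (n : ℤ) (f : X ⟶ Y), n ≠ 0 ∧ n • g = L.map f) := by
  open CategoryTheory CategoryTheory.Limits in
  have h1 : ∀ n : ℤ, n ≠ 0 → Function.Bijective (fun g : L.obj X ⟶ L.obj Y => n • g) := by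
    intro n hn
    haveI : IsIso (L.map (n • 𝟙 X)) := Localization.inverts L P.isoModSerre _ (aux_W P hP n hn X)
    have e : ∀ g : L.obj X ⟶ L.obj Y, n • g = L.map (n • 𝟙 X) ≫ g := fun g => by
      rw [L.map_zsmul, CategoryTheory.Functor.map_id, Preadditive.zsmul_comp, Category.id_comp]
    refine ⟨fun g g' h => ?_, fun g => ⟨inv (L.map (n • 𝟙 X)) ≫ g, ?_⟩⟩
    · rw [← cancel_epi (L.map (n • 𝟙 X)), ← e, ← e]; exact h
    · dsimp only; rw [e, IsIso.hom_inv_id_assoc]
  refine ⟨h1, fun f => ⟨fun hf => ?_, fun ⟨n, hn, hnf⟩ => ?_⟩, fun g => ?_⟩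
  · rw [← L.map_zero X Y, MorphismProperty.map_eq_iff_precomp L P.isoModSerre] at hf
    obtain ⟨X', s, hs, hsf⟩ := hf
    rw [comp_zero] at hsf
    obtain ⟨n, t, hn, ht⟩ := aux_exists P hP s hs
    refine ⟨n, hn, ?_⟩
    have := congrArg (· ≫ f) ht
    simp only [Category.assoc, hsf, comp_zero, Preadditive.zsmul_comp, Category.id_comp] at this
    exact this.symm
  · refine (h1 n hn).1 ?_
    dsimp only
    rw [← L.map_zsmul, hnf, smul_zero, L.map_zero]
  · obtain ⟨φ, hφ⟩ := Localization.exists_rightFraction L P.isoModSerre g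
    obtain ⟨n, t, hn, ht⟩ := aux_exists P hP φ.s φ.hs
    refine ⟨n, t ≫ φ.f, hn, ?_⟩
    have e : n • g = L.map (t ≫ φ.s) ≫ g := by
      rw [ht, L.map_zsmul, CategoryTheory.Functor.map_id, Preadditive.zsmul_comp, Category.id_comp]
    rw [e, hφ, L.map_comp, Category.assoc, MorphismProperty.RightFraction.map_s_comp_map, ← L.map_comp]

end Groth.Agent.S19244
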