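import Groth.Statements.S19245
import Groth.Agent.H15Site.LocCohVanish

set_option autoImplicit false
universe u
open LocCohZ

set_option linter.style.haveILetI false
set_option linter.unusedSectionVars false
set_option backward.isDefEq.respectTransparency false
open Groth.Agent.H15Site Groth.Agent.H10Coh
open CategoryTheory CategoryTheory.Limits


namespace Groth.Agent.S19245

open CategoryTheory TopologicalSpace in
/-- Let A be a flasque abelian sheaf on a topological space X and Z = X ∖ U the closed complement of an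
open U. Then the sheaf Γ_Z(A) of sections of A supported in Z is flasque. (The source states the
lemma for every family of supports Φ on a Noetherian topological space, where Γ_Φ(A) is the filtered
union of the Γ_Z(A), Z ∈ Φ; for a single closed Z no Noetherian hypothesis is needed.) -/
theorem result {X : TopCat.{u}} (A : CohTop.Ab X) [TopCat.Sheaf.IsFlasque A]
    (U : Opens X) : TopCat.Sheaf.IsFlasque ((LocCohZ.sectSuppF U).obj A) := by
  have hA : Flasque A := (flasque_iff A).2 ‹_›
  refine (flasque_iff _).1 fun V V' hle t => ?_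
  let y := LocCoh.homEquiv U V' A ((sect V' _).symm t)
  let s : A.obj.obj (Opposite.op V') := sect V' A (cokernel.π _ ≫ y)
  have hs : A.obj.map (homOfLE (inf_le_left : V' ⊓ U ≤ V')).op s = 0 := by
    rw [← sect_res, cokernel.condition_assoc, zero_comp, map_zero]
  let Us : ULift.{u} Bool → Opens X := fun b => bif b.down then V' else V ⊓ U
  have hUs : ∀ b, Us b ≤ V' ⊔ (V ⊓ U) := by rintro ⟨(_ | _)⟩ <;> simp [Us]
  let sf : ∀ b, A.obj.obj (Opposite.op (Us b))
    | ⟨true⟩ => s
    | ⟨false⟩ => (0 : A.obj.obj (Opposite.op (V ⊓ U)))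
  have hsz : ∀ (W : Opens X) (hW : W ≤ V') (hW' : W ≤ U), A.obj.map (homOfLE hW).op s = 0 := by
    intro W hW hW'
    have : A.obj.map (homOfLE hW).op s = A.obj.map (homOfLE (le_inf hW hW')).op
        (A.obj.map (homOfLE (inf_le_left : V' ⊓ U ≤ V')).op s) :=
      ConcreteCategory.congr_hom (A.obj.map_comp (homOfLE (inf_le_left : V' ⊓ U ≤ V')).op
        (homOfLE (le_inf hW hW')).op) s
    rw [this, hs, map_zero]
  obtain ⟨g, hg, -⟩ := TopCat.Sheaf.existsUnique_gluing' A Us (V' ⊔ (V ⊓ U)) (fun b => homOfLE (hUs b))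
    (sup_le (le_iSup Us ⟨true⟩) (le_iSup Us ⟨false⟩)) sf (by
      rintro ⟨(_ | _)⟩ ⟨(_ | _)⟩
      · rfl
      · exact (map_zero _).trans (hsz _ inf_le_right (inf_le_left.trans inf_le_right)).symm
      · exact (hsz _ inf_le_left (inf_le_right.trans inf_le_right)).trans (map_zero _).symm
      · rfl)
  obtain ⟨a, ha⟩ := hA (sup_le hle inf_le_left : V' ⊔ (V ⊓ U) ≤ V) g
  have hres : ∀ b, A.obj.map (homOfLE ((hUs b).trans (sup_le hle inf_le_left))).op a = sf b := fun b => by
    rw [← hg b, ← ha]
    exact ConcreteCategory.congr_hom (A.obj.map_comp (homOfLE (sup_le hle inf_le_left)).op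
      (homOfLE (hUs b)).op) a
  have hz : zmap (inf_le_left : V ⊓ U ≤ V) ≫ (sect V A).symm a = 0 := by
    apply (sect (V ⊓ U) A).injective
    rw [sect_res, AddEquiv.apply_symm_apply, map_zero]
    exact hres ⟨false⟩
  refine ⟨sect V _ ((LocCoh.homEquiv U V A).symm (cokernel.desc _ _ hz)), ?_⟩
  rw [← sect_res]
  have : zmap hle ≫ (LocCoh.homEquiv U V A).symm (cokernel.desc _ _ hz) = (sect V' _).symm t := by
    apply (cancel_mono (kernel.ι (SuppSect.η U A))).1
    have h1 : ∀ (W : Opens X) (x : Zsh W ⟶ (LocCohZ.sectSuppF U).obj A),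
        cokernel.π _ ≫ LocCoh.homEquiv U W A x = x ≫ kernel.ι (SuppSect.η U A) :=
      fun W x => cokernel.π_desc _ _ _
    rw [Category.assoc]
    refine (congrArg (zmap hle ≫ ·) (h1 V _).symm).trans ?_
    rw [AddEquiv.apply_symm_apply, cokernel.π_desc]
    refine Eq.trans ?_ (h1 V' _)
    apply (sect V' A).injective
    rw [sect_res, AddEquiv.apply_symm_apply]
    exact hres ⟨true⟩
  rw [this, AddEquiv.apply_symm_apply]

end Groth.Agent.S19245
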