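import Groth.Statements.S19246
import Groth.Agent.H15Site.QcColim
import Mathlib.Topology.NoetherianSpace

open TopologicalSpace Groth.Agent.H15Site Groth.Agent.H15Site.CechTop Groth.Agent.H10Coh
attribute [local instance 10000] Groth.Agent.H10Coh.hasSheafifyAb Groth.Agent.H10Coh.hasWeakSheafifyAb Groth.Agent.H10Coh.hasExtAb Groth.Agent.H10Coh.enoughInjAb

set_option linter.style.haveILetI false
open CategoryTheory CategoryTheory.Limits Opposite

set_option autoImplicit false
universe u
open CohTop

namespace Groth.Agent.S19246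

section
theorem sections_surjective {X : TopCat.{u}} (M : ℕᵒᵖ ⥤ CohTop.Ab X) (n : ℕ)
    (he : Epi (M.map (homOfLE (Nat.le_succ n)).op))
    (hk : Flasque (kernel (M.map (homOfLE (Nat.le_succ n)).op) : CohTop.Ab X)) (U : Opens X) :
    Function.Surjective ((M.map (homOfLE (Nat.le_succ n)).op).hom.app (op U)) :=
  surjective_sections (S := ShortComplex.mk (kernel.ι _) (M.map (homOfLE (Nat.le_succ n)).op) (kernel.condition _))
    { exact := ShortComplex.exact_of_f_is_kernel _ (kernelIsKernel _)
      mono_f := inferInstanceAs (Mono (kernel.ι _))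
      epi_g := he } hk U

theorem exists_section {X : TopCat.{u}} (M : ℕᵒᵖ ⥤ CohTop.Ab X) (U : Opens X)
    (x : ∀ n, (M.obj (op n)).obj.obj (op U))
    (hx : ∀ n, (M.map (homOfLE (Nat.le_succ n)).op).hom.app (op U) (x (n + 1)) = x n) :
    ∃ t : (limit M : CohTop.Ab X).obj.obj (op U), ∀ n, (limit.π M (op n)).hom.app (op U) t = x n := by
  let G := sheafToPresheaf (Opens.grothendieckTopology X) AddCommGrpCat.{u} ⋙
    (evaluation _ _).obj (op U) ⋙ CategoryTheory.forget AddCommGrpCat.{u}
  let hc := isLimitOfPreserves G (limit.isLimit M)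
  have hs : ∀ {m n : ℕ} (h : m ≤ n), (M.map (homOfLE h).op).hom.app (op U) (x n) = x m := by
    intro m n h
    induction n, h using Nat.le_induction with
    | base =>
      rw [show (homOfLE (le_refl m)).op = 𝟙 (op m) from Subsingleton.elim _ _, M.map_id]
      rfl
    | succ n hmn ih =>
      rw [show (homOfLE (hmn.trans (Nat.le_succ n))).op =
        (homOfLE (Nat.le_succ n)).op ≫ (homOfLE hmn).op from Subsingleton.elim _ _, M.map_comp]
      exact (congrArg ((M.map (homOfLE hmn).op).hom.app (op U)) (hx n)).trans ih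
  let s : (M ⋙ G).sections := ⟨fun j => x j.unop, fun {i j} k => hs k.unop.le⟩
  exact ⟨(Types.isLimitEquivSections hc).symm s, fun n =>
    Types.isLimitEquivSections_symm_apply hc s (op n)⟩

theorem limit_ext {X : TopCat.{u}} (M : ℕᵒᵖ ⥤ CohTop.Ab X) (U : Opens X)
    {s t : (limit M : CohTop.Ab X).obj.obj (op U)}
    (h : ∀ n, (limit.π M (op n)).hom.app (op U) s = (limit.π M (op n)).hom.app (op U) t) : s = t := by
  let G := sheafToPresheaf (Opens.grothendieckTopology X) AddCommGrpCat.{u} ⋙
    (evaluation _ _).obj (op U) ⋙ CategoryTheory.forget AddCommGrpCat.{u}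
  let hc := isLimitOfPreserves G (limit.isLimit M)
  exact (Types.isLimitEquivSections hc).injective (Subtype.ext (funext fun j => h j.unop))
end

open CategoryTheory CategoryTheory.Limits TopologicalSpace Opposite in
/-- Let X be a topological space and (M_n)_{n ≥ 0} an inverse system of abelian sheaves on X indexed by
the natural numbers, such that every M_n is flasque and every transition map M_{n+1} ⟶ M_n is an
epimorphism of sheaves with flasque kernel. Then the limit sheaf lim_n M_n is flasque. (The source's
statement is about flasque de Rham–Witt systems on a scheme, whose definition is exactly this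
condition on the underlying tower of abelian sheaves; the additional structure plays no role in the
assertion or its proof, so the row is stated for towers of abelian sheaves on any space.) -/
theorem result {X : TopCat.{u}} (M : ℕᵒᵖ ⥤ CohTop.Ab X) :
    (∀ n : ℕ, TopCat.Sheaf.IsFlasque (M.obj (op n))) →
      (∀ n : ℕ, Epi (M.map (homOfLE (Nat.le_succ n)).op)) →
      (∀ n : ℕ, TopCat.Sheaf.IsFlasque (kernel (M.map (homOfLE (Nat.le_succ n)).op) : CohTop.Ab X)) →
      TopCat.Sheaf.IsFlasque (limit M : CohTop.Ab X) := by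
  intro hM he hk
  refine (flasque_iff _).1 fun U V hVU t => ?_
  let π : ∀ n, M.obj (op (n + 1)) ⟶ M.obj (op n) := fun n => M.map (homOfLE (Nat.le_succ n)).op
  let y : ∀ n, (M.obj (op n)).obj.obj (op V) := fun n => (limit.π M (op n)).hom.app (op V) t
  have hy : ∀ n, (π n).hom.app (op V) (y (n + 1)) = y n := fun n =>
    congrArg (fun φ : (limit M : CohTop.Ab X) ⟶ M.obj (op n) => φ.hom.app (op V) t) (limit.w M _)
  have step : ∀ n (x : (M.obj (op n)).obj.obj (op U)), res (M.obj (op n)).obj hVU x = y n →
      ∃ x' : (M.obj (op (n + 1))).obj.obj (op U),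
        (π n).hom.app (op U) x' = x ∧ res (M.obj (op (n + 1))).obj hVU x' = y (n + 1) := by
    intro n x hx
    obtain ⟨a, ha⟩ := sections_surjective M n (he n) ((flasque_iff _).2 (hk n)) U x
    have hd : ((π n).hom.app (op V)).hom (y (n + 1) - res (M.obj (op (n + 1))).obj hVU a) = 0 := by
      rw [map_sub, ← res_map]
      exact sub_eq_zero.2 ((hy n).trans (hx.symm.trans (congrArg (res (M.obj (op n)).obj hVU) ha.symm)))
    let K : ShortComplex (CohTop.Ab X) := ShortComplex.mk (kernel.ι (π n)) (π n) (kernel.condition _)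
    have hK : K.ShortExact :=
      { exact := ShortComplex.exact_of_f_is_kernel _ (kernelIsKernel _)
        mono_f := inferInstanceAs (Mono (kernel.ι _))
        epi_g := he n }
    obtain ⟨k, hk'⟩ := CechLeray.exists_lift_app hK V _ hd
    obtain ⟨k', hk''⟩ := (flasque_iff _).2 (hk n) hVU k
    refine ⟨a + (K.f.hom.app (op U)).hom k', ?_, ?_⟩
    · refine (map_add ((π n).hom.app (op U)).hom _ _).trans ?_
      refine (congrArg (_ + ·) (CechLeray.g_f_apply K U k')).trans ?_
      exact (add_zero _).trans ha
    · rw [map_add, res_map]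
      refine (congrArg (fun k => _ + (K.f.hom.app (op V)).hom k) hk'').trans ?_
      exact (congrArg (_ + ·) hk').trans (add_sub_cancel _ _)
  obtain ⟨x₀, hx₀⟩ := (flasque_iff _).2 (hM 0) hVU (y 0)
  choose f hf₁ hf₂ using step
  let x : ∀ n, {x : (M.obj (op n)).obj.obj (op U) // res (M.obj (op n)).obj hVU x = y n} :=
    fun n => Nat.rec ⟨x₀, hx₀⟩ (fun n a => ⟨f n a.1 a.2, hf₂ n a.1 a.2⟩) n
  obtain ⟨s, hs⟩ := exists_section M U (fun n => (x n).1) (fun n => hf₁ n _ _)
  refine ⟨s, limit_ext M V fun n => ?_⟩
  exact ((res_map _ _ hVU s).symm.trans (congrArg _ (hs n))).trans (x n).2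

end Groth.Agent.S19246
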