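import Groth.Statements.S19247
import Groth.Agent.H15Site.QcColim
import Mathlib.Topology.NoetherianSpace

open TopologicalSpace Groth.Agent.H15Site Groth.Agent.H15Site.CechTop Groth.Agent.H10Coh
attribute [local instance 10000] Groth.Agent.H10Coh.hasSheafifyAb Groth.Agent.H10Coh.hasWeakSheafifyAb Groth.Agent.H10Coh.hasExtAb Groth.Agent.H10Coh.enoughInjAb

set_option linter.style.haveILetI false
open CategoryTheory CategoryTheory.Limits Opposite

set_option autoImplicit false
universe u
open CohTop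

namespace Groth.Agent.S19247

section
theorem sections_surjective {X : TopCat.{u}} (M : ℕᵒᵖ ⥤ CohTop.Ab X) (n : ℕ)
    (he : Epi (M.map (homOfLE (Nat.le_succ n)).op))
    (hk : Flasque (kernel (M.map (homOfLE (Nat.le_succ n)).op) : CohTop.Ab X)) (U : Opens X) :
    Function.Surjective ((M.map (homOfLE (Nat.le_succ n)).op).hom.app (op U)) :=
  surjective_sections (S := ShortComplex.mk (kernel.ι _) (M.map (homOfLE (Nat.le_succ n)).op) (kernel.condition _))
    { exact := ShortComplex.exact_of_f_is_kernel _ (kernelIsKernel _)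
      mono_f := inferInstanceAs (Mono (kernel.ι _))
      epi_g := he } hk U

theorem exists_section {X : TopCat.{u}} (M : ℕᵒᵖ ⥤ CohTop.Ab X) (U : Opens X)
    (x : ∀ n, (M.obj (op n)).obj.obj (op U))
    (hx : ∀ n, (M.map (homOfLE (Nat.le_succ n)).op).hom.app (op U) (x (n + 1)) = x n) :
    ∃ t : (limit M : CohTop.Ab X).obj.obj (op U), ∀ n, (limit.π M (op n)).hom.app (op U) t = x n := by
  let G := sheafToPresheaf (Opens.grothendieckTopology X) AddCommGrpCat.{u} ⋙
    (evaluation _ _).obj (op U) ⋙ CategoryTheory.forget AddCommGrpCat.{u}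
  let hc := isLimitOfPreserves G (limit.isLimit M)
  have hs : ∀ {m n : ℕ} (h : m ≤ n), (M.map (homOfLE h).op).hom.app (op U) (x n) = x m := by
    intro m n h
    induction n, h using Nat.le_induction with
    | base =>
      rw [show (homOfLE (le_refl m)).op = 𝟙 (op m) from Subsingleton.elim _ _, M.map_id]
      rfl
    | succ n hmn ih =>
      rw [show (homOfLE (hmn.trans (Nat.le_succ n))).op =
        (homOfLE (Nat.le_succ n)).op ≫ (homOfLE hmn).op from Subsingleton.elim _ _, M.map_comp]
      exact (congrArg ((M.map (homOfLE hmn).op).hom.app (op U)) (hx n)).trans ih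
  let s : (M ⋙ G).sections := ⟨fun j => x j.unop, fun {i j} k => hs k.unop.le⟩
  exact ⟨(Types.isLimitEquivSections hc).symm s, fun n =>
    Types.isLimitEquivSections_symm_apply hc s (op n)⟩

theorem limit_ext {X : TopCat.{u}} (M : ℕᵒᵖ ⥤ CohTop.Ab X) (U : Opens X)
    {s t : (limit M : CohTop.Ab X).obj.obj (op U)}
    (h : ∀ n, (limit.π M (op n)).hom.app (op U) s = (limit.π M (op n)).hom.app (op U) t) : s = t := by
  let G := sheafToPresheaf (Opens.grothendieckTopology X) AddCommGrpCat.{u} ⋙
    (evaluation _ _).obj (op U) ⋙ CategoryTheory.forget AddCommGrpCat.{u}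
  let hc := isLimitOfPreserves G (limit.isLimit M)
  exact (Types.isLimitEquivSections hc).injective (Subtype.ext (funext fun j => h j.unop))
end

open CategoryTheory CategoryTheory.Limits TopologicalSpace Opposite in
/-- Let X be a topological space and S : 0 ⟶ M' ⟶ M ⟶ M'' ⟶ 0 a short exact sequence of ℕ-indexed
inverse systems of abelian sheaves on X (short exact in the abelian category of such systems, i.e.
levelwise), such that each of M', M, M'' is a flasque tower: every term is flasque and every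
transition map is an epimorphism of sheaves with flasque kernel. Then the induced map lim M ⟶ lim
M'' is an epimorphism of sheaves, so that, lim being left exact, the sequence 0 ⟶ lim M' ⟶ lim M ⟶
lim M'' ⟶ 0 is exact. (The source's statement is the exactness of lim on flasque de Rham–Witt
systems on a scheme; the de Rham–Witt structure plays no role, so the row is stated for towers of
abelian sheaves on any space.) -/
theorem result {X : TopCat.{u}}
    (S : ShortComplex (ℕᵒᵖ ⥤ CohTop.Ab X)) (hS : S.ShortExact) :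
    (∀ n : ℕ, TopCat.Sheaf.IsFlasque (S.X₁.obj (op n))) →
      (∀ n : ℕ, Epi (S.X₁.map (homOfLE (Nat.le_succ n)).op)) →
      (∀ n : ℕ, TopCat.Sheaf.IsFlasque (kernel (S.X₁.map (homOfLE (Nat.le_succ n)).op) : CohTop.Ab X)) →
    (∀ n : ℕ, TopCat.Sheaf.IsFlasque (S.X₂.obj (op n))) →
      (∀ n : ℕ, Epi (S.X₂.map (homOfLE (Nat.le_succ n)).op)) →
      (∀ n : ℕ, TopCat.Sheaf.IsFlasque (kernel (S.X₂.map (homOfLE (Nat.le_succ n)).op) : CohTop.Ab X)) →
    (∀ n : ℕ, TopCat.Sheaf.IsFlasque (S.X₃.obj (op n))) →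
      (∀ n : ℕ, Epi (S.X₃.map (homOfLE (Nat.le_succ n)).op)) →
      (∀ n : ℕ, TopCat.Sheaf.IsFlasque (kernel (S.X₃.map (homOfLE (Nat.le_succ n)).op) : CohTop.Ab X)) →
      Epi (limMap S.g) := by
  intro h₁ e₁ k₁ _ _ _ _ _ _
  refine @Functor.epi_of_epi_map _ _ _ _ (sheafToPresheaf _ _) _ _ _ _ ?_
  refine @NatTrans.epi_of_epi_app _ _ _ _ _ _ _ fun V => ?_
  rw [AddCommGrpCat.epi_iff_surjective]
  intro z
  obtain ⟨U⟩ := V
  let T : ℕ → ShortComplex (CohTop.Ab X) := fun n => S.map ((evaluation _ _).obj (op n))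
  have hT : ∀ n, (T n).ShortExact := fun n => hS.map_of_exact _
  have hsurj : ∀ n, Function.Surjective ((S.g.app (op n)).hom.app (op U)).hom := fun n =>
    surjective_sections (hT n) ((flasque_iff _).2 (h₁ n)) U
  let w : ∀ n, (S.X₃.obj (op n)).obj.obj (op U) := fun n => (limit.π S.X₃ (op n)).hom.app (op U) z
  have hw : ∀ n, (S.X₃.map (homOfLE (Nat.le_succ n)).op).hom.app (op U) (w (n + 1)) = w n := fun n =>
    congrArg (fun φ : (limit S.X₃ : CohTop.Ab X) ⟶ S.X₃.obj (op n) => φ.hom.app (op U) z) (limit.w S.X₃ _)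
  have step : ∀ n (x : (S.X₂.obj (op n)).obj.obj (op U)), ((S.g.app (op n)).hom.app (op U)).hom x = w n →
      ∃ x' : (S.X₂.obj (op (n + 1))).obj.obj (op U),
        (S.X₂.map (homOfLE (Nat.le_succ n)).op).hom.app (op U) x' = x ∧
          ((S.g.app (op (n + 1))).hom.app (op U)).hom x' = w (n + 1) := by
    intro n x hx
    let k : (op (n + 1) : ℕᵒᵖ) ⟶ op n := (homOfLE (Nat.le_succ n)).op
    obtain ⟨a, ha⟩ := hsurj (n + 1) (w (n + 1))
    have hg : ((S.g.app (op n)).hom.app (op U)).hom
        (((S.X₂.map k).hom.app (op U)).hom a) = w n := by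
      have h := congrArg (fun φ : S.X₂.obj (op (n + 1)) ⟶ S.X₃.obj (op n) => (φ.hom.app (op U)).hom a)
        (S.g.naturality k)
      exact h.trans ((congrArg ((S.X₃.map k).hom.app (op U)).hom ha).trans (hw n))
    obtain ⟨b, hb⟩ := CechLeray.exists_lift_app (hT n) U (((S.X₂.map k).hom.app (op U)).hom a - x)
      ((map_sub ((S.g.app (op n)).hom.app (op U)).hom _ _).trans (sub_eq_zero.2 (hg.trans hx.symm)))
    obtain ⟨b', hb'⟩ := sections_surjective S.X₁ n (e₁ n) ((flasque_iff _).2 (k₁ n)) U b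
    refine ⟨a - ((S.f.app (op (n + 1))).hom.app (op U)).hom b', ?_, ?_⟩
    · have h := congrArg (fun φ : S.X₁.obj (op (n + 1)) ⟶ S.X₂.obj (op n) => (φ.hom.app (op U)).hom b')
        (S.f.naturality k)
      refine (map_sub ((S.X₂.map k).hom.app (op U)).hom _ _).trans ?_
      refine (congrArg (_ - ·) (h.symm.trans ((congrArg ((S.f.app (op n)).hom.app (op U)).hom hb').trans hb))).trans ?_
      exact sub_sub_cancel _ _
    · refine (map_sub ((S.g.app (op (n + 1))).hom.app (op U)).hom _ _).trans ?_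
      have h₀ : ((S.g.app (op (n + 1))).hom.app (op U)).hom
          (((S.f.app (op (n + 1))).hom.app (op U)).hom b') = 0 := CechLeray.g_f_apply (T (n + 1)) U b'
      rw [h₀, sub_zero]
      exact ha
  obtain ⟨x₀, hx₀⟩ := hsurj 0 (w 0)
  choose f hf₁ hf₂ using step
  let x : ∀ n, {x : (S.X₂.obj (op n)).obj.obj (op U) // ((S.g.app (op n)).hom.app (op U)).hom x = w n} :=
    fun n => Nat.rec ⟨x₀, hx₀⟩ (fun n a => ⟨f n a.1 a.2, hf₂ n a.1 a.2⟩) n
  obtain ⟨s, hs⟩ := exists_section S.X₂ U (fun n => (x n).1) (fun n => hf₁ n _ _)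
  refine ⟨s, limit_ext S.X₃ U fun n => ?_⟩
  have h := congrArg (fun φ : (limit S.X₂ : CohTop.Ab X) ⟶ S.X₃.obj (op n) => φ.hom.app (op U) s)
    (limMap_π S.g (op n))
  exact (h.trans (congrArg ((S.g.app (op n)).hom.app (op U)).hom (hs n))).trans (x n).2

end Groth.Agent.S19247
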