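import Groth.Statements.S19253
import Groth.Agent.H16Derived.AcyclicSums

set_option autoImplicit false
universe w w' v u
open CategoryTheory CategoryTheory.Limits
open CohDer

set_option linter.style.haveILetI false
namespace Groth.Agent.S19253

/-- (iii) ⇒ (iv): let A be a Grothendieck abelian category and F : A ⥤ Ab an additive left exact functor
such that every right derived functor RⁿF, n ≥ 0, preserves small filtered colimits; let RF : D(A) ⥤
D(Ab) be the total right derived functor of F on unbounded derived categories (its existence is an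
instance hypothesis). If RF preserves countable direct sums (countable direct sums in D(A) being
assumed to exist), then for every cochain complex K all of whose terms are F-acyclic (RⁱF(Kᵐ) = 0
for i > 0 and all m) the canonical map F(K) ⟶ RF(K) is an isomorphism in D(Ab). -/
theorem result
    {A : Type u} [Category.{v} A] [Abelian A] [IsGrothendieckAbelian.{v} A] [HasDerivedCategory.{w} A]
    [HasDerivedCategory.{w'} AddCommGrpCat.{v}]
    (F : A ⥤ AddCommGrpCat.{v}) [F.Additive] [PreservesFiniteLimits F]
    (hcolim : ∀ (n : ℕ) (J : Type v) [SmallCategory J] [IsFiltered J], PreservesColimitsOfShape J (F.rightDerived n))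
    [(F.mapHomotopyCategory (ComplexShape.up ℤ) ⋙ DerivedCategory.Qh).HasRightDerivedFunctor
      (HomotopyCategory.quasiIso A (ComplexShape.up ℤ))]
    [HasColimitsOfShape (Discrete ℕ) (DerivedCategory A)]
    [PreservesColimitsOfShape (Discrete ℕ) ((F.mapHomotopyCategory (ComplexShape.up ℤ) ⋙ DerivedCategory.Qh).totalRightDerived
      DerivedCategory.Qh (HomotopyCategory.quasiIso A (ComplexShape.up ℤ)))]
    (K : CochainComplex A ℤ) (hK : ∀ (m : ℤ) (i : ℕ), 0 < i → IsZero ((F.rightDerived i).obj (K.X m))) :
    IsIso (((F.mapHomotopyCategory (ComplexShape.up ℤ) ⋙ DerivedCategory.Qh).totalRightDerivedUnit DerivedCategory.Qh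
      (HomotopyCategory.quasiIso A (ComplexShape.up ℤ))).app ((HomotopyCategory.quotient A (ComplexShape.up ℤ)).obj K)) := by
  have hF : PreservesFilteredColimitsOfSize.{v, v} F := ⟨fun J _ _ => by
    haveI := hcolim 0 J
    exact preservesColimitsOfShape_of_natIso F.rightDerivedZeroIsoSelf⟩
  haveI := Groth.Agent.H16Derived.AcyclicSums.preservesCoproducts_of_filtered F (ULift.{v} ℕ)
  haveI := preservesColimitsOfShape_of_equiv (Discrete.equivalence (Equiv.ulift.{v, 0} (α := ℕ)).symm)
    ((F.mapHomotopyCategory (ComplexShape.up ℤ) ⋙ DerivedCategory.Qh).totalRightDerived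
      DerivedCategory.Qh (HomotopyCategory.quasiIso A (ComplexShape.up ℤ)))
  exact Groth.Agent.H16Derived.AcyclicSums.isIso_unit F _
    ((F.mapHomotopyCategory (ComplexShape.up ℤ) ⋙ DerivedCategory.Qh).totalRightDerivedUnit
      DerivedCategory.Qh (HomotopyCategory.quasiIso A (ComplexShape.up ℤ))) K
    (fun m i hi => hK m i hi)

end Groth.Agent.S19253
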