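import Groth.Statements.S19255
import Groth.Agent.H05EGA4.EtCl.Divisible

set_option autoImplicit false
universe u
open CategoryTheory CategoryTheory.Limits AlgebraicGeometry Opposite
open EtCd

namespace Groth.Agent.S19255

/-- Let X be a Noetherian scheme of Krull dimension at most d and F an abelian sheaf on the small etale
site of X which is a sheaf of ℚ-vector spaces, i.e. multiplication by every positive integer is
bijective on the sections of F over every etale X-scheme. Then Hⁱ(X_et, F) = 0 for every i > d. -/
theorem result (X : Scheme.{u}) [IsNoetherian X] (d : ℕ)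
    (hd : topologicalKrullDim ↥X ≤ d) (F : EtCoh.Ab X)
    (hF : ∀ (U : X.Etale) (m : ℕ), 0 < m → Function.Bijective (fun s : EtCoh.sect F U => m • s))
    (i : ℕ) (hi : d < i) : Subsingleton (EtCoh.H X F i) := by
  exact Groth.Agent.H05EGA4.EtCl.subsingleton_H_uDiv d hd F
    (Groth.Agent.H05EGA4.EtCl.uDiv_of_bijective F hF) i hi

end Groth.Agent.S19255
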