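import Groth.Statements.S19258
import Mathlib.Topology.Instances.AddCircle.Defs
import Mathlib.GroupTheory.Torsion
import Mathlib.GroupTheory.SpecificGroups.Cyclic
import Mathlib.Tactic.FieldSimp
import Mathlib.Tactic.LinearCombination

set_option autoImplicit false
universe u
open PontDual

open Topology

namespace Groth.Agent.S19258

/-- Let G and G' be abelian groups such that every element of G' has finite order, and let β : G' →
Hom(G, ℚ/ℤ) be an injective homomorphism (equivalently a pairing G' × G → ℚ/ℤ with no left kernel).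
Endow G with the weak topology defined by G': the coarsest topology for which every character β(f),
f ∈ G', is continuous when ℚ/ℤ carries the discrete topology. Then every homomorphism χ : G → ℚ/ℤ
that is continuous for this topology on G and the discrete topology on ℚ/ℤ equals β(f) for some f ∈
G', so that β is a bijection from G' onto the group of continuous characters of G. -/
theorem result
    (G : Type u) (G' : Type u) [AddCommGroup G] [AddCommGroup G'] (hG' : IsAddTorsion G')
    (β : G' →+ (G →+ AddCircle (1 : ℚ))) (hβ : Function.Injective β)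
    (χ : G →+ AddCircle (1 : ℚ))
    (hχ : @Continuous G (AddCircle (1 : ℚ)) (⨅ f' : G', TopologicalSpace.induced (fun x : G => β f' x) ⊥) ⊥ χ) :
    ∃ f' : G', β f' = χ := by
  classical
  have single : ∀ (H : AddSubgroup G) (f ψ : H →+ AddCircle (1 : ℚ)),
      (∃ n : ℕ, 0 < n ∧ n • f = 0) → f.ker ≤ ψ.ker → ∃ k : ℤ, ψ = k • f := by
    rintro H f ψ ⟨n, hn, hnf⟩ hle
    -- the range of `f` is cyclic
    have hsub : f.range ≤ AddSubgroup.zmultiples (((1 / n : ℚ)) : AddCircle (1 : ℚ)) := by
      rintro _ ⟨x, rfl⟩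
      obtain ⟨j, -, hj⟩ := (AddCircle.nsmul_eq_zero_iff (p := (1 : ℚ)) hn).1 (DFunLike.congr_fun hnf x)
      refine AddSubgroup.mem_zmultiples_iff.2 ⟨j, ?_⟩
      rw [← hj, ← QuotientAddGroup.mk_zsmul, mul_one]
      simp [zsmul_eq_mul, div_eq_mul_inv]
    haveI : IsAddCyclic f.range :=
      isAddCyclic_of_injective (AddSubgroup.inclusion hsub) (AddSubgroup.inclusion_injective hsub)
    obtain ⟨⟨_, g, rfl⟩, hgen⟩ := IsAddCyclic.exists_generator (α := f.range)
    -- the order of the generator
    have hu : addOrderOf (f g) ≠ 0 := by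
      intro h0
      have := addOrderOf_dvd_iff_nsmul_eq_zero.2 (DFunLike.congr_fun hnf g)
      rw [h0, zero_dvd_iff] at this
      omega
    obtain ⟨a, -, hgcd, ha⟩ :=
      (AddCircle.addOrderOf_eq_pos_iff (p := (1 : ℚ)) (Nat.pos_of_ne_zero hu)).1 rfl
    obtain ⟨j, -, hj⟩ := (AddCircle.nsmul_eq_zero_iff (p := (1 : ℚ)) (Nat.pos_of_ne_zero hu)).1
      (show addOrderOf (f g) • ψ g = 0 by
        rw [← map_nsmul, ← AddMonoidHom.mem_ker]
        exact hle (by rw [AddMonoidHom.mem_ker, map_nsmul, addOrderOf_nsmul_eq_zero]))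
    obtain ⟨s, t, hst⟩ : ∃ s t : ℤ, (a : ℤ) * s + (addOrderOf (f g) : ℤ) * t = 1 :=
      ⟨Nat.gcdA a (addOrderOf (f g)), Nat.gcdB a (addOrderOf (f g)), by
        rw [← Nat.gcd_eq_gcd_ab, hgcd, Nat.cast_one]⟩
    have hψg : ψ g = ((j : ℤ) * s) • f g := by
      rw [← ha, ← hj, mul_one, mul_one, ← QuotientAddGroup.mk_zsmul, zsmul_eq_mul,
        QuotientAddGroup.eq, AddSubgroup.mem_zmultiples_iff]
      refine ⟨-((j : ℤ) * t), ?_⟩
      have hq : ((a : ℚ) * (s : ℚ) + (addOrderOf (f g) : ℚ) * (t : ℚ)) = 1 := by exact_mod_cast hst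
      have hm : (addOrderOf (f g) : ℚ) ≠ 0 := by exact_mod_cast hu
      rw [zsmul_eq_mul]
      push_cast
      field_simp
      linear_combination -(j : ℚ) * hq
    refine ⟨(j : ℤ) * s, AddMonoidHom.ext fun x => ?_⟩
    obtain ⟨i, hi⟩ := AddSubgroup.mem_zmultiples_iff.1 (hgen ⟨f x, x, rfl⟩)
    have hi' : f x = f (i • g) := by rw [map_zsmul]; exact (congrArg Subtype.val hi).symm
    have hker : x - i • g ∈ ψ.ker := hle (by rw [AddMonoidHom.mem_ker, map_sub, hi', sub_self])
    rw [AddMonoidHom.mem_ker, map_sub, sub_eq_zero] at hker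
    rw [hker, AddMonoidHom.zsmul_apply, hi', map_zsmul, map_zsmul, hψg, smul_comm]
  -- finitely many characters suffice
  letI : TopologicalSpace (AddCircle (1 : ℚ)) := ⊥
  haveI : DiscreteTopology (AddCircle (1 : ℚ)) := ⟨rfl⟩
  letI : TopologicalSpace G := ⨅ f' : G', TopologicalSpace.induced (fun x : G => β f' x) ⊥
  have hker : IsOpen (χ.ker : Set G) := hχ.isOpen_preimage {0} (isOpen_discrete _)
  have hnhds : (χ.ker : Set G) ∈ nhds (0 : G) := hker.mem_nhds (zero_mem _)
  rw [nhds_iInf, Filter.mem_iInf] at hnhds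
  obtain ⟨I, hIfin, V, hV, hχV⟩ := hnhds
  have hV0 : ∀ i : I, ∀ x : G, β i x = 0 → x ∈ V i := fun i x hx => by
    have := hV i
    rw [nhds_induced, nhds_discrete, Filter.comap_pure, Filter.mem_principal] at this
    exact this (by simpa using hx)
  have hsub : ∀ x : G, (∀ i ∈ hIfin.toFinset, β i x = 0) → χ x = 0 := fun x hx => by
    have : x ∈ ⋂ i, V i := Set.mem_iInter.2 fun i => hV0 i x (hx _ (hIfin.mem_toFinset.2 i.2))
    rw [← hχV] at this
    exact this
  -- induction
  have main : ∀ (s : Finset G') (H : AddSubgroup G) (ψ : H →+ AddCircle (1 : ℚ)),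
      (∀ x : H, (∀ i ∈ s, β i x = 0) → ψ x = 0) → ∃ f' : G', ∀ x : H, β f' x = ψ x := by
    intro s
    induction s using Finset.induction_on with
    | empty =>
      intro H ψ h
      exact ⟨0, fun x => by rw [map_zero, AddMonoidHom.zero_apply, h x (by simp)]⟩
    | insert i s hi ih =>
      intro H ψ h
      let H' : AddSubgroup G := H ⊓ (β i).ker
      obtain ⟨f', hf'⟩ := ih H' (ψ.comp (AddSubgroup.inclusion inf_le_left)) (fun x hx =>
        h _ fun j hj => by
          rcases Finset.mem_insert.1 hj with rfl | hj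
          · exact x.2.2
          · exact hx j hj)
      obtain ⟨n, hn, hni⟩ := isOfFinAddOrder_iff_nsmul_eq_zero.1 (hG' i)
      obtain ⟨k, hk⟩ := single H ((β i).comp H.subtype) (ψ - (β f').comp H.subtype)
        ⟨n, hn, AddMonoidHom.ext fun x => by
          have e := DFunLike.congr_fun (map_nsmul β n i) (x : G)
          rw [hni, map_zero] at e
          exact e.symm⟩
        (fun x hx => by
          rw [AddMonoidHom.mem_ker, AddMonoidHom.sub_apply, sub_eq_zero]
          exact (hf' ⟨x, x.2, hx⟩).symm)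
      refine ⟨f' + k • i, fun x => ?_⟩
      have := DFunLike.congr_fun hk x
      rw [AddMonoidHom.sub_apply, sub_eq_iff_eq_add] at this
      rw [this, map_add, map_zsmul, AddMonoidHom.add_apply, add_comm]
      rfl
  obtain ⟨f', hf'⟩ := main hIfin.toFinset ⊤ (χ.comp (⊤ : AddSubgroup G).subtype) (fun x => hsub x)
  exact ⟨f', AddMonoidHom.ext fun x => hf' ⟨x, trivial⟩⟩

end Groth.Agent.S19258
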