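import Groth.Statements.S19264
import Groth.Agent.H27Witt.Fil

set_option autoImplicit false
universe u
open WittFil

namespace Groth.Agent.S19264

/-- Let A be a unique factorisation domain of characteristic p, x_1, …, x_r pairwise non-associate prime
elements of A, B = A[1/(x_1⋯x_r)] with u_i the unit of B defined by x_i, n ∈ ℤ^r and m ≥ 0. The
restriction map from truncated p-typical Witt vectors of length m+1 to those of length m over B
(forgetting the last coordinate) maps the filtered piece cut out by ∏ u_i ^ n_i onto the filtered
piece cut out by ∏ u_i ^ ⌊n_i / p⌋; that is, the image is exactly that piece. (The other parts of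
the exact sequence, injectivity of the (m-fold) Verschiebung from the fractional ideal generated by
(∏ u_i ^ n_i)⁻¹ and exactness in the middle, are immediate from the definition and are not restated.
The published setting is a regular local ring; only unique factorisation is used.) -/
theorem result (p : ℕ) [Fact p.Prime] {A B : Type u} [CommRing A] [IsDomain A]
    [UniqueFactorizationMonoid A] [CharP A p] [CommRing B] [Algebra A B] {r : ℕ} (x : Fin r → A)
    (hx : ∀ i, Prime (x i)) (hxa : ∀ i j, Associated (x i) (x j) → i = j)
    [IsLocalization.Away (∏ i, x i) B] (u : Fin r → Bˣ)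
    (hu : ∀ i, (u i : B) = algebraMap A B (x i)) (n : Fin r → ℤ) (m : ℕ) :
    (TruncatedWittVector.truncate (Nat.le_succ m)) '' WittFil.fil p (m + 1) (A := A) (WittFil.zmon u n) =
      WittFil.fil p m (A := A) (WittFil.zmon u (fun i => n i / (p : ℤ))) := by
  exact Groth.Agent.H27Witt.truncate_image_fil x hx hxa hu n m

end Groth.Agent.S19264
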