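import Groth.Statements.S19266
import Groth.Agent.H27Witt.Fil

set_option autoImplicit false
universe u
open WittFil

namespace Groth.Agent.S19266

/-- Let A be a unique factorisation domain of characteristic p, x_1, …, x_r pairwise non-associate prime
elements of A, B = A[1/(x_1⋯x_r)] with u_i the unit of B defined by x_i, n ∈ ℤ^r, m ≥ 0 and c = ∏
u_i ^ n_i. A truncated p-typical Witt vector a of length m over B lies in the filtered piece cut out
by c ^ (p ^ (m-1)) if and only if all coordinates of the product a · [c] lie in A, where [c] denotes
the (truncated) Teichmüller representative of c; in other words that filtered piece is the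
invertible module [c]⁻¹ · W_m(A). (Published for a regular local ring; only unique factorisation is
used.) -/
theorem result (p : ℕ) [Fact p.Prime] {A B : Type u} [CommRing A] [IsDomain A]
    [UniqueFactorizationMonoid A] [CharP A p] [CommRing B] [Algebra A B] {r : ℕ} (x : Fin r → A)
    (hx : ∀ i, Prime (x i)) (hxa : ∀ i j, Associated (x i) (x j) → i = j)
    [IsLocalization.Away (∏ i, x i) B] (u : Fin r → Bˣ)
    (hu : ∀ i, (u i : B) = algebraMap A B (x i)) (n : Fin r → ℤ) (m : ℕ)
    (a : TruncatedWittVector p m B) :
    a ∈ WittFil.fil p m (A := A) ((WittFil.zmon u n) ^ (p ^ (m - 1))) ↔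
      ∀ j : Fin m, TruncatedWittVector.coeff j
          (a * WittVector.truncate m (WittVector.teichmuller p (WittFil.zmon u n))) ∈
        (algebraMap A B).range := by
  exact Groth.Agent.H27Witt.mem_fil_pow_iff x hx hxa hu n m a

end Groth.Agent.S19266
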