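import Groth.Statements.S19267
import Groth.Agent.H27Witt.Fil

set_option autoImplicit false
universe u
open WittFil

namespace Groth.Agent.S19267

/-- Let A → B be a homomorphism of commutative rings, u a unit of B, m ≥ 0 and n, l integers. For an
element c of B call the filtered piece cut out by c the set of truncated p-typical Witt vectors of
length m over B whose j-th coordinate y_j satisfies: y_j ^ (p ^ (m-1-j)) · c lies in the image of A,
for every j < m. Then the piece cut out by u ^ (n − p^(m−1)·l) is exactly the image of the piece cut
out by u ^ n under multiplication by the truncated Teichmüller representative [u ^ l]. (The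
published case is B = S[[π]][1/π] over A = S[[π]] with u = π; the computation is the same in
general.) -/
theorem result (p : ℕ) [Fact p.Prime] {A B : Type u}
    [CommRing A] [CommRing B] [Algebra A B] (m : ℕ) (u : Bˣ) (n l : ℤ) :
    WittFil.fil p m (A := A) ((u ^ (n - (p : ℤ) ^ (m - 1) * l) : Bˣ) : B) =
      (fun a => WittVector.truncate m (WittVector.teichmuller p ((u ^ l : Bˣ) : B)) * a) ''
        WittFil.fil p m (A := A) ((u ^ n : Bˣ) : B) := by
  exact Groth.Agent.H27Witt.fil_shift m u n l

end Groth.Agent.S19267
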