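import Groth.Statements.S19268
import Groth.Agent.H27Witt.GrFil
import Mathlib

set_option autoImplicit false
universe u
open WittFil

namespace Groth.Agent.S19268

/-- Let S be an integral domain of characteristic p, A = S[[π]] the power series ring, B = A[1/π] with u
the unit of B given by π, and let m > s ≥ 0 and i be an integer with s = 0 or p ∤ i; put n = p ^
(m−1−s) · i. For e in B write fil(e) for the set of truncated p-typical Witt vectors of length m
over B whose j-th coordinate y_j satisfies y_j ^ (p ^ (m−1−j)) · e ∈ A for all j, and for a Witt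
vector c over S let Φ(c) ∈ W_m(B) be the length-m truncation of V^s(c · [u ^ i]) (V the
Verschiebung, [ ] the Teichmüller map, c mapped to B). Then Φ induces a bijection from the
length-(m−s) truncated Witt vectors of S onto the graded piece fil(u^(−n)) / fil(u^(−n−1)): (1) Φ(c)
lies in fil(u^(−n)) for every c; (2) Φ(c) lies in fil(u^(−n−1)) exactly when the length-(m−s)
truncation of c is zero; (3) every element of fil(u^(−n)) is congruent to some Φ(c) modulo
fil(u^(−n−1)). (Published for S a regular local Noetherian F-finite F_p-algebra; the argument uses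
only that S is a domain.) -/
theorem result (p : ℕ) [Fact p.Prime] {S B : Type u} [CommRing S]
    [IsDomain S] [CharP S p] [CommRing B] [Algebra (PowerSeries S) B] [Algebra S B]
    [IsScalarTower S (PowerSeries S) B] [IsLocalization.Away (PowerSeries.X : PowerSeries S) B]
    (u : Bˣ) (hu : (u : B) = algebraMap (PowerSeries S) B PowerSeries.X) (m s : ℕ) (hs : s < m)
    (i : ℤ) (hsi : s = 0 ∨ ¬ ((p : ℤ) ∣ i)) :
    (∀ c : WittVector p S,
        WittFil.vShiftTeich p m s ((u ^ i : Bˣ) : B) c ∈
          WittFil.fil p m (A := PowerSeries S) ((u ^ (-((p : ℤ) ^ (m - 1 - s) * i)) : Bˣ) : B)) ∧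
      (∀ c : WittVector p S,
        WittFil.vShiftTeich p m s ((u ^ i : Bˣ) : B) c ∈
            WittFil.fil p m (A := PowerSeries S) ((u ^ (-((p : ℤ) ^ (m - 1 - s) * i) - 1) : Bˣ) : B) ↔
          WittVector.truncate (m - s) c = 0) ∧
      (∀ y ∈ WittFil.fil p m (A := PowerSeries S) ((u ^ (-((p : ℤ) ^ (m - 1 - s) * i)) : Bˣ) : B),
        ∃ c : WittVector p S,
          y - WittFil.vShiftTeich p m s ((u ^ i : Bˣ) : B) c ∈
            WittFil.fil p m (A := PowerSeries S)
              ((u ^ (-((p : ℤ) ^ (m - 1 - s) * i) - 1) : Bˣ) : B)) := by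
  classical
  have hinj : Function.Injective (algebraMap (PowerSeries S) B) := Groth.Agent.H27Witt.GrFil.inj
  haveI : CharP (PowerSeries S) p := charP_of_injective_ringHom (f := (PowerSeries.C : S →+* PowerSeries S))
    (fun a b h => by simpa using congrArg PowerSeries.constantCoeff h) p
  haveI hB : CharP B p := charP_of_injective_ringHom hinj p
  have hP0 : p ≠ 0 := (Fact.out : p.Prime).ne_zero
  set N : ℤ := (p : ℤ) ^ (m - 1 - s) * i with hN
  set c₀ : B := ((u ^ (-N) : Bˣ) : B) with hc₀
  have hnext : ((u ^ (-N - 1) : Bˣ) : B) = c₀ * ((u⁻¹ : Bˣ) : B) := by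
    rw [hc₀, ← Units.val_mul, zpow_sub_one]
  rw [hnext]
  let dOf : WittVector p S → TruncatedWittVector p m S := fun c =>
    WittVector.truncate m (WittVector.mk p fun j => if j < s then 0 else c.coeff (j - s) ^ p ^ (m - 1))
  have hcoeff : ∀ (c : WittVector p S) (j : Fin m), TruncatedWittVector.coeff j (WittFil.vShiftTeich p m s ((u ^ i : Bˣ) : B) c) =
      if (j : ℕ) < s then 0 else algebraMap S B (c.coeff ((j : ℕ) - s)) * ((u ^ i : Bˣ) : B) ^ p ^ ((j : ℕ) - s) := by
    intro c j
    rw [WittFil.vShiftTeich, WittVector.coeff_truncate]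
    split_ifs with h
    · exact Groth.Agent.H27Witt.iterate_verschiebung_coeff_of_lt _ _ _ h
    · obtain ⟨k, hk⟩ := Nat.exists_eq_add_of_le (not_lt.mp h)
      rw [hk, Nat.add_sub_cancel_left, Nat.add_comm, WittVector.iterate_verschiebung_coeff, mul_comm,
        Groth.Agent.H27Witt.teichmuller_mul_coeff, WittVector.map_coeff, mul_comm]
  have hpow : ∀ j : Fin m, ¬ (j : ℕ) < s →
      (((u ^ i : Bˣ) : B) ^ p ^ ((j : ℕ) - s)) ^ p ^ (m - 1 - (j : ℕ)) * c₀ = 1 := by
    intro j hj
    rw [hc₀, ← pow_mul, ← pow_add, show (j : ℕ) - s + (m - 1 - (j : ℕ)) = m - 1 - s by omega,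
      ← Units.val_pow_eq_pow_val, ← Units.val_mul, ← zpow_natCast, ← zpow_mul, ← zpow_add, hN]
    push_cast
    rw [show i * (p : ℤ) ^ (m - 1 - s) + -((p : ℤ) ^ (m - 1 - s) * i) = 0 by ring, zpow_zero, Units.val_one]
  have hΦ : ∀ c, Groth.Agent.H27Witt.GrFil.Red c₀ (WittFil.vShiftTeich p m s ((u ^ i : Bˣ) : B) c) (dOf c) := by
    intro c j
    rw [hcoeff]
    simp only [dOf, WittVector.coeff_truncate, WittVector.coeff_mk]
    split_ifs with h
    · refine ⟨0, by rw [map_zero, zero_pow (pow_ne_zero _ hP0), zero_mul], ?_⟩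
      rw [map_zero, zero_pow (pow_ne_zero _ hP0)]
    · refine ⟨PowerSeries.C (c.coeff ((j : ℕ) - s) ^ p ^ (m - 1 - (j : ℕ))), ?_, ?_⟩
      · rw [mul_pow, mul_assoc, hpow j h, mul_one, map_pow, map_pow, IsScalarTower.algebraMap_apply S (PowerSeries S) B]
        rfl
      · rw [PowerSeries.constantCoeff_C, ← pow_mul, ← pow_add, show m - 1 - (j : ℕ) + (j : ℕ) = m - 1 by omega]
  refine ⟨fun c => (hΦ c).mem, fun c => ?_, fun y hy => ?_⟩
  · rw [(hΦ c).mem_next_iff u hu, ← map_zero (WittVector.truncate (p := p) (R := S) m),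
      ← map_zero (WittVector.truncate (p := p) (R := S) (m - s))]
    constructor
    · intro h
      ext j
      have := congrArg (TruncatedWittVector.coeff (⟨(j : ℕ) + s, by omega⟩ : Fin m)) h
      simp only [dOf, WittVector.coeff_truncate, WittVector.coeff_mk, WittVector.zero_coeff] at this ⊢
      rw [if_neg (by omega), Nat.add_sub_cancel] at this
      exact (pow_eq_zero_iff (pow_ne_zero _ hP0)).mp this
    · intro h
      ext j
      simp only [dOf, WittVector.coeff_truncate, WittVector.coeff_mk, WittVector.zero_coeff]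
      split_ifs with hj
      · rfl
      · have := congrArg (TruncatedWittVector.coeff (⟨(j : ℕ) - s, by omega⟩ : Fin (m - s))) h
        simp only [WittVector.coeff_truncate, WittVector.zero_coeff] at this
        rw [this, zero_pow (pow_ne_zero _ hP0)]
  · choose w hw using hy
    have hlow : ∀ j : Fin m, (j : ℕ) < s → PowerSeries.constantCoeff (w j) = 0 := by
      intro j hj
      set P := p ^ (m - 1 - (j : ℕ)) with hP
      have hPpos : 0 < P := pow_pos (Fact.out : p.Prime).pos _
      have hndvd : ¬ (P : ℤ) ∣ N := by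
        intro hd
        rcases hsi with rfl | hsi
        · omega
        · apply hsi
          have hpe : P = p ^ (m - 1 - s) * p ^ (s - (j : ℕ)) := by rw [hP, ← pow_add]; congr 1; omega
          rw [hpe, hN] at hd
          push_cast at hd
          have hd' := (mul_dvd_mul_iff_left (pow_ne_zero _ (by exact_mod_cast hP0 : (p : ℤ) ≠ 0))).mp hd
          exact (dvd_pow_self _ (by omega)).trans hd'
      obtain ⟨r, hr⟩ : ∃ r : ℕ, (r : ℤ) = N % (P : ℤ) :=
        ⟨(N % (P : ℤ)).toNat, Int.toNat_of_nonneg (Int.emod_nonneg _ (by exact_mod_cast hPpos.ne'))⟩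
      have hrP : r < P := by
        have h' := Int.emod_lt_of_pos N (by exact_mod_cast hPpos : (0 : ℤ) < P)
        rw [← hr] at h'
        exact_mod_cast h'
      have hr0 : 0 < r := by
        rcases Nat.eq_zero_or_pos r with h0 | h0
        · exact absurd (Int.dvd_of_emod_eq_zero (hr.symm.trans (by exact_mod_cast h0))) hndvd
        · exact h0
      set q : ℤ := N / (P : ℤ) with hq
      have hNq : N = (P : ℤ) * q + r := by rw [hr]; exact (Int.mul_ediv_add_emod N P).symm
      have e : (TruncatedWittVector.coeff j y * ((u ^ (-q) : Bˣ) : B)) ^ P =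
          algebraMap (PowerSeries S) B (w j * PowerSeries.X ^ r) := by
        rw [map_mul, map_pow, ← hu, hw, mul_pow, mul_assoc, hc₀, ← Units.val_pow_eq_pow_val, ← Units.val_pow_eq_pow_val,
          ← Units.val_mul, ← zpow_natCast, ← zpow_natCast, ← zpow_mul, ← zpow_add, hNq]
        congr 3
        ring
      obtain ⟨a, ha⟩ := Groth.Agent.H27Witt.GrFil.root_closed u hu hPpos ⟨_, e.symm⟩
      rw [← ha, ← map_pow] at e
      have e' := hinj e
      have ha0 : PowerSeries.constantCoeff a = 0 := by
        have := congrArg PowerSeries.constantCoeff e'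
        rw [map_pow, map_mul, map_pow, PowerSeries.constantCoeff_X, zero_pow hr0.ne', mul_zero] at this
        exact (pow_eq_zero_iff hPpos.ne').mp this
      obtain ⟨b, rfl⟩ := PowerSeries.X_dvd_iff.mpr ha0
      obtain ⟨d, hd⟩ := Nat.exists_eq_add_of_lt hrP
      have : w j = PowerSeries.X ^ (d + 1) * b ^ P := by
        apply mul_right_cancel₀ (pow_ne_zero r (PowerSeries.X_ne_zero (R := S)))
        rw [← e', mul_pow, show P = r + (d + 1) by omega, pow_add]
        ring
      rw [this, map_mul, map_pow, PowerSeries.constantCoeff_X, zero_pow d.succ_ne_zero, zero_mul]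
    have hhigh : ∀ j : Fin m, ∃ a : S, ¬ (j : ℕ) < s →
        PowerSeries.constantCoeff (w j) = a ^ p ^ (m - 1 - (j : ℕ)) := by
      intro j
      by_cases hj : (j : ℕ) < s
      · exact ⟨0, fun h => absurd hj h⟩
      have h1 := hpow j hj
      set U := ((u ^ i : Bˣ) : B) ^ p ^ ((j : ℕ) - s) with hU
      obtain ⟨v, hv⟩ : ∃ v : B, U * v = 1 := (((u ^ i : Bˣ).isUnit).pow _).exists_right_inv
      have e : (TruncatedWittVector.coeff j y * v) ^ p ^ (m - 1 - (j : ℕ)) = algebraMap (PowerSeries S) B (w j) := by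
        have hv' : U ^ p ^ (m - 1 - (j : ℕ)) * v ^ p ^ (m - 1 - (j : ℕ)) = 1 := by rw [← mul_pow, hv, one_pow]
        rw [hw, mul_pow]
        linear_combination (TruncatedWittVector.coeff j y ^ p ^ (m - 1 - (j : ℕ)) * c₀) * hv' -
          (TruncatedWittVector.coeff j y ^ p ^ (m - 1 - (j : ℕ)) * v ^ p ^ (m - 1 - (j : ℕ))) * h1
      obtain ⟨a, ha⟩ := Groth.Agent.H27Witt.GrFil.root_closed u hu (pow_pos (Fact.out : p.Prime).pos _) ⟨_, e.symm⟩
      rw [← ha, ← map_pow] at e
      exact ⟨PowerSeries.constantCoeff a, fun _ => by rw [← hinj e, map_pow]⟩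
    choose a ha using hhigh
    let c : WittVector p S := WittVector.mk p fun k => if h : k + s < m then a ⟨k + s, h⟩ else 0
    refine ⟨c, ?_⟩
    have hy' : Groth.Agent.H27Witt.GrFil.Red c₀ y (dOf c) := by
      intro j
      refine ⟨w j, hw j, ?_⟩
      simp only [dOf, c, WittVector.coeff_truncate, WittVector.coeff_mk]
      split_ifs with h h'
      · rw [hlow j h, zero_pow (pow_ne_zero _ hP0)]
      · have hja : (⟨(j : ℕ) - s + s, h'⟩ : Fin m) = j := Fin.ext (by simp; omega)
        rw [hja, ha j h, ← pow_mul, ← pow_add, show m - 1 - (j : ℕ) + (j : ℕ) = m - 1 by omega]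
      · omega
    have := hy'.sub u hu (hΦ c)
    rw [sub_self] at this
    exact (this.mem_next_iff u hu).mpr rfl

end Groth.Agent.S19268
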