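import Groth.Statements.S19269
import Mathlib.LinearAlgebra.FreeModule.PID
import Mathlib.RingTheory.AdicCompletion.AsTensorProduct
import Mathlib.RingTheory.AlgebraicIndependent.TranscendenceBasis
import Mathlib.RingTheory.Flat.TorsionFree
import Mathlib.RingTheory.Henselian
import Mathlib.RingTheory.MvPolynomial.IrreducibleQuadratic
import Mathlib.RingTheory.Nullstellensatz
import Mathlib.RingTheory.RegularLocalRing.Defs
import Mathlib.RingTheory.SimpleRing.Principal

set_option autoImplicit false
universe u
open CAlg

namespace Groth.Agent.S19269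

open IsLocalRing in
/-- Let R be a Noetherian local ring with maximal ideal 𝔪, M a finitely generated R-module and M^ its
𝔪-adic completion, a module over the 𝔪-adic completion R^ of R. Let N' be an R^-submodule of M^ and
N an R-submodule of M whose image in M^ is contained in N' and is dense in N' for the 𝔪-adic
topology, in the sense that for every y in N' and every k there is x in N with y ≡ x modulo the
kernel of M^ → M/𝔪^k M. Then N' equals the image of the completion of N under the map induced by the
inclusion N → M (so N' is the completion of N), and N is the set of elements of M whose image in M^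
lies in N'. -/
theorem result {R : Type u} [CommRing R]
    [IsNoetherianRing R] [IsLocalRing R] {M : Type u} [AddCommGroup M] [Module R M]
    [Module.Finite R M] (N : Submodule R M)
    (N' : Submodule (AdicCompletion (maximalIdeal R) R) (AdicCompletion (maximalIdeal R) M))
    (hle : ∀ x ∈ N, AdicCompletion.of (maximalIdeal R) M x ∈ N')
    (hdense : ∀ y ∈ N', ∀ k : ℕ, ∃ x ∈ N,
      AdicCompletion.eval (maximalIdeal R) M k y = Submodule.Quotient.mk x) :
    (N'.restrictScalars R =
        (LinearMap.range (AdicCompletion.map (maximalIdeal R) N.subtype)).restrictScalars R) ∧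
      (∀ x : M, x ∈ N ↔ AdicCompletion.of (maximalIdeal R) M x ∈ N') := by
  classical
  obtain ⟨c, hc⟩ := Ideal.exists_pow_inf_eq_pow_smul (maximalIdeal R) N
  have hclosed : ∀ y : AdicCompletion (maximalIdeal R) M, (∀ k : ℕ, ∃ x ∈ N, AdicCompletion.eval (maximalIdeal R) M k y = Submodule.Quotient.mk x) →
      y ∈ LinearMap.range (AdicCompletion.map (maximalIdeal R) N.subtype) := by
    intro y hy
    choose x hx hxe using hy
    have hcauchy : ∀ k, x (k + c + 1) - x (k + c) ∈ ((maximalIdeal R) ^ (k + c) • ⊤ : Submodule R M) := by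
      intro k
      have h1 := AdicCompletion.transitionMap_comp_eval_apply (maximalIdeal R) M (Nat.le_succ (k + c)) y
      have e1 := hxe (k + c + 1)
      have e2 := hxe (k + c)
      rw [AdicCompletion.eval_apply] at e1 e2
      rw [e1, e2] at h1
      exact (Submodule.Quotient.eq _).mp h1
    have hN : ∀ k, ((⟨x (k + c), hx _⟩ : N)) ≡ ⟨x (k + 1 + c), hx _⟩ [SMOD ((maximalIdeal R) ^ k • ⊤ : Submodule R N)] := by
      intro k
      rw [SModEq.comm, SModEq.sub_mem]
      have h1 : x (k + 1 + c) - x (k + c) ∈ ((maximalIdeal R) ^ (k + c) • ⊤ ⊓ N : Submodule R M) :=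
        ⟨by rw [show k + 1 + c = k + c + 1 by omega]; exact hcauchy k, sub_mem (hx _) (hx _)⟩
      rw [hc (k + c) (by omega), Nat.add_sub_cancel] at h1
      have h2 : x (k + 1 + c) - x (k + c) ∈ Submodule.map N.subtype ((maximalIdeal R) ^ k • ⊤ : Submodule R N) := by
        rw [Submodule.map_smul'', Submodule.map_top, Submodule.range_subtype]
        exact Submodule.smul_mono le_rfl inf_le_right h1
      obtain ⟨z, hz, hze⟩ := h2
      rwa [show (⟨x (k + 1 + c), hx _⟩ : N) - ⟨x (k + c), hx _⟩ = z from Subtype.ext hze.symm]
    refine ⟨AdicCompletion.mk (maximalIdeal R) N (AdicCompletion.AdicCauchySequence.mk (maximalIdeal R) N (fun k => ⟨x (k + c), hx _⟩) hN), ?_⟩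
    ext n
    rw [AdicCompletion.map_val_apply]
    show Submodule.Quotient.mk (x (n + c)) = y.val n
    have e1 := hxe (n + c)
    rw [AdicCompletion.eval_apply] at e1
    rw [← AdicCompletion.transitionMap_comp_eval_apply (maximalIdeal R) M (Nat.le_add_right n c) y, e1]
    rfl
  have hrange : ∀ z : AdicCompletion (maximalIdeal R) N, AdicCompletion.map (maximalIdeal R) N.subtype z ∈ N' := by
    intro z
    have hz : z ∈ Submodule.span (AdicCompletion (maximalIdeal R) R) (Set.range (AdicCompletion.of (maximalIdeal R) N)) := by
      obtain ⟨t, rfl⟩ := (AdicCompletion.ofTensorProduct_bijective_of_finite_of_isNoetherian (maximalIdeal R) N).2 z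
      induction t using TensorProduct.induction_on with
      | zero => simp
      | tmul a x => rw [AdicCompletion.ofTensorProduct_tmul]; exact Submodule.smul_mem _ _ (Submodule.subset_span ⟨x, rfl⟩)
      | add p q hp hq => rw [map_add]; exact add_mem hp hq
    induction hz using Submodule.span_induction with
    | mem w hw =>
      obtain ⟨x, rfl⟩ := hw
      rw [AdicCompletion.map_of]
      exact hle x x.2
    | zero => simp
    | add a b _ _ ha hb => rw [map_add]; exact add_mem ha hb
    | smul a w _ hw => rw [map_smul]; exact Submodule.smul_mem _ _ hw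
  refine ⟨le_antisymm (fun y hy => ?_) ?_, fun x => ⟨hle x, fun hx => ?_⟩⟩
  · exact hclosed y (hdense y hy)
  · rintro _ ⟨z, rfl⟩
    exact hrange z
  · have key : (N.mkQ x) ∈ (⨅ k : ℕ, (maximalIdeal R) ^ k • ⊤ : Submodule R (M ⧸ N)) := by
      rw [Submodule.mem_iInf]
      intro k
      obtain ⟨x₀, hx₀, he⟩ := hdense _ hx k
      rw [AdicCompletion.eval_of] at he
      have h1 : x - x₀ ∈ ((maximalIdeal R) ^ k • ⊤ : Submodule R M) := (Submodule.Quotient.eq _).mp he
      have h2 := Submodule.mem_map_of_mem (f := N.mkQ) h1
      rw [Submodule.map_smul'', map_sub, Submodule.mkQ_apply, Submodule.mkQ_apply,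
        (Submodule.Quotient.mk_eq_zero N).mpr hx₀, sub_zero] at h2
      exact Submodule.smul_mono le_rfl le_top h2
    rw [Ideal.iInf_pow_smul_eq_bot_of_isLocalRing (maximalIdeal R) (maximalIdeal.isMaximal R).ne_top, Submodule.mem_bot] at key
    exact (Submodule.Quotient.mk_eq_zero N).mp key

end Groth.Agent.S19269
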