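import Groth.Statements.S19270
import Groth.Agent.H05EGA4.CohenSmooth
import Mathlib.Tactic.LinearCombination
import Mathlib.Tactic.Ring

set_option autoImplicit false
universe u
open CAlg

namespace Groth.Agent.S19270

open IsLocalRing in
/-- Let A be a regular local ring of prime characteristic p, of Krull dimension N, with maximal ideal
generated by x_1, …, x_N, and assume that the module Ω_A of absolute Kähler differentials of A
(differentials relative to ℤ, equivalently relative to the prime field) is a free A-module of finite
rank. Then dx_1, …, dx_N are part of a basis of Ω_A: there exist a basis b of Ω_A and an injection e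
of the indices 1, …, N into the index type of b with b (e i) = d(x_i) for all i. (In the published
statement A is a regular local F-finite algebra over the prime field and the freeness and finiteness
of Ω_A form the first assertion, taken there from the literature; here they are hypotheses.) -/
theorem result (p : ℕ) [Fact p.Prime]
    {A : Type u} [CommRing A] [IsRegularLocalRing A] [CharP A p]
    [Module.Free A (KaehlerDifferential ℤ A)] [Module.Finite A (KaehlerDifferential ℤ A)]
    {N : ℕ} (x : Fin N → A) (hx : Ideal.span (Set.range x) = maximalIdeal A)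
    (hN : ringKrullDim A = (N : WithBot ℕ∞)) :
    ∃ (ι : Type u) (b : Module.Basis ι A (KaehlerDifferential ℤ A)) (e : Fin N ↪ ι),
      ∀ i : Fin N, b (e i) = KaehlerDifferential.D ℤ A (x i) := by
  classical
  let k := IsLocalRing.ResidueField A
  let m := IsLocalRing.maximalIdeal A
  let _ : Algebra (ZMod p) A := ZMod.algebra A p
  haveI : PerfectField (ZMod p) := PerfectField.ofFinite
  haveI : Algebra.FormallySmooth (ZMod p) k :=
    Groth.Agent.H05EGA4.formallySmooth_of_perfectField (ZMod p) k
  -- a square-zero section
  let B := A ⧸ m ^ 2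
  have hm2 : m ^ 2 ≤ m := Ideal.pow_le_self two_ne_zero
  let g : B →ₐ[ZMod p] k :=
    Ideal.Quotient.liftₐ (m ^ 2) (IsScalarTower.toAlgHom (ZMod p) A k)
      (fun a ha => Ideal.Quotient.eq_zero_iff_mem.mpr (hm2 ha))
  have hg : Function.Surjective g := fun z => by
    obtain ⟨a, rfl⟩ := IsLocalRing.residue_surjective z
    exact ⟨Ideal.Quotient.mk _ a, rfl⟩
  have hgk : RingHom.ker (g : B →+* k) ≤ m.cotangentIdeal := by
    intro z hz
    obtain ⟨a, rfl⟩ := Ideal.Quotient.mk_surjective z
    have : a ∈ m := Ideal.Quotient.eq_zero_iff_mem.mp hz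
    exact Submodule.mem_map_of_mem (f := (Ideal.Quotient.mk (m ^ 2)).toSemilinearMap) this
  have hg' : IsNilpotent (RingHom.ker (g : B →+* k)) := by
    refine ⟨2, ?_⟩
    rw [Ideal.zero_eq_bot, eq_bot_iff, ← Ideal.cotangentIdeal_square m]
    exact Ideal.pow_right_mono hgk 2
  let s : k →ₐ[ZMod p] B := Algebra.FormallySmooth.liftOfSurjective (AlgHom.id (ZMod p) k) g hg hg'
  have hs : ∀ z, g (s z) = z := fun z => by
    have := Algebra.FormallySmooth.comp_liftOfSurjective (AlgHom.id (ZMod p) k) g hg hg'
    exact DFunLike.congr_fun this z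
  let δ : A → B := fun a => Ideal.Quotient.mk (m ^ 2) a - s (IsLocalRing.residue A a)
  have hδ : ∀ a, δ a ∈ m.cotangentIdeal := fun a => hgk (by
    rw [RingHom.mem_ker]
    change g (Ideal.Quotient.mk (m ^ 2) a - s (IsLocalRing.residue A a)) = 0
    rw [map_sub, hs]
    exact sub_eq_zero.mpr rfl)
  have hsq : ∀ u ∈ m.cotangentIdeal, ∀ v ∈ m.cotangentIdeal, u * v = 0 := fun u hu v hv => by
    have h := Ideal.mul_mem_mul hu hv
    rw [← pow_two, Ideal.cotangentIdeal_square] at h
    exact h
  let E := m.cotangentEquivIdeal
  let Dlin : A →ₗ[ℤ] m.Cotangent :=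
    (AddMonoidHom.mk' (fun a => E.symm ⟨δ a, hδ a⟩) (fun a b => by
      rw [← map_add]
      congr 1
      exact Subtype.ext (by simp [δ]; ring))).toIntLinearMap
  have hDa : ∀ a, (E (Dlin a) : B) = δ a := fun a => by
    change ((E (E.symm ⟨δ a, hδ a⟩)) : B) = δ a
    rw [LinearEquiv.apply_symm_apply]
  let Der : Derivation ℤ A m.Cotangent :=
    Derivation.mk' Dlin fun a b => by
      apply E.injective
      apply Subtype.ext
      rw [map_add, map_smul, map_smul, Submodule.coe_add, hDa]
      change δ (a * b) = Ideal.Quotient.mk (m ^ 2) a * ((E (Dlin b) : m.cotangentIdeal) : B) +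
        Ideal.Quotient.mk (m ^ 2) b * ((E (Dlin a) : m.cotangentIdeal) : B)
      rw [hDa, hDa]
      change δ (a * b) = Ideal.Quotient.mk (m ^ 2) a * δ b + Ideal.Quotient.mk (m ^ 2) b * δ a
      have h0 := hsq (δ a) (hδ a) (δ b) (hδ b)
      simp only [δ, map_mul] at h0 ⊢
      linear_combination -h0
  let ℓ := Der.liftKaehlerDifferential
  have hℓ : ∀ (a : A) (ha : a ∈ m), ℓ (KaehlerDifferential.D ℤ A a) = m.toCotangent ⟨a, ha⟩ := by
    intro a ha
    change Der.liftKaehlerDifferential (KaehlerDifferential.D ℤ A a) = _
    rw [Derivation.liftKaehlerDifferential_comp_D]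
    apply E.injective
    apply Subtype.ext
    change ((E (Dlin a)) : B) = _
    rw [hDa]
    change Ideal.Quotient.mk (m ^ 2) a - s (IsLocalRing.residue A a) = Ideal.Quotient.mk (m ^ 2) a
    rw [(IsLocalRing.residue_eq_zero_iff a).mpr ha, map_zero, sub_zero]
  have hxm : ∀ i, x i ∈ m := fun i => hx.le (Ideal.subset_span (Set.mem_range_self i))
  let c : Fin N → IsLocalRing.CotangentSpace A := fun i => m.toCotangent ⟨x i, hxm i⟩
  have hcspan : Submodule.span k (Set.range c) = ⊤ := by
    have h1 : Submodule.span A (Set.range fun i => (⟨x i, hxm i⟩ : m)) = ⊤ := by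
      apply Submodule.map_injective_of_injective (f := m.subtype) Subtype.val_injective
      rw [Submodule.map_span, ← Set.range_comp, Submodule.map_top, Submodule.range_subtype]
      exact hx
    have h2 := IsLocalRing.CotangentSpace.span_image_eq_top_iff.mpr h1
    rwa [← Set.range_comp] at h2
  have hcdim : Module.finrank k (IsLocalRing.CotangentSpace A) = N := by
    have h := (IsRegularLocalRing.iff_finrank_cotangentSpace A).mp inferInstance
    rw [hN] at h
    exact_mod_cast h
  have hcli : LinearIndependent k c :=
    linearIndependent_of_top_le_span_of_card_eq_finrank hcspan.ge (by rw [hcdim, Fintype.card_fin])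
  let y : Fin N → TensorProduct A k (KaehlerDifferential ℤ A) :=
    fun i => 1 ⊗ₜ KaehlerDifferential.D ℤ A (x i)
  have hy : LinearIndependent k y := by
    haveI : IsScalarTower A k (IsLocalRing.CotangentSpace A) := inferInstance
    refine LinearIndependent.of_comp (LinearMap.liftBaseChange k (ℓ : _ →ₗ[A] IsLocalRing.CotangentSpace A)) ?_
    have : (LinearMap.liftBaseChange k (ℓ : _ →ₗ[A] IsLocalRing.CotangentSpace A)) ∘ y = c := by
      funext i
      change LinearMap.liftBaseChange k _ (1 ⊗ₜ KaehlerDifferential.D ℤ A (x i)) = _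
      rw [LinearMap.liftBaseChange_tmul, one_smul]
      exact hℓ _ (hxm i)
    rw [this]
    exact hcli
  let bk := Module.Basis.sumExtend hy
  choose z hz using fun i => TensorProduct.mk_surjective A (KaehlerDifferential ℤ A) k
    IsLocalRing.residue_surjective (bk i)
  let w : _ → KaehlerDifferential ℤ A := fun i => Sum.elim (fun j => KaehlerDifferential.D ℤ A (x j)) (fun j => z (Sum.inr j)) i
  have hw : ∀ i, (1 : k) ⊗ₜ[A] w i = bk i := by
    rintro (j | j)
    · simp [w, y, bk, Module.Basis.sumExtend]
      rfl
    · exact hz _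
  have hspan := IsLocalRing.span_eq_top_of_tmul_eq_basis w bk hw
  haveI : Fintype _ := FiniteDimensional.fintypeBasisIndex bk
  have hcard := Module.finrank_eq_card_basis bk
  rw [Module.finrank_baseChange] at hcard
  let b0 := Module.finBasisOfFinrankEq A (KaehlerDifferential ℤ A) hcard
  let L := Fintype.linearCombination A w
  have hLs : Function.Surjective L := by
    rw [← LinearMap.range_eq_top, Fintype.range_linearCombination, hspan]
  let e2 := b0.equivFun ≪≫ₗ LinearEquiv.funCongrLeft A A (Fintype.equivFin _)
  have hLi : Function.Injective L := by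
    have h1 : Function.Injective (e2.toLinearMap ∘ₗ L) :=
      OrzechProperty.injective_of_surjective_endomorphism _ (e2.surjective.comp hLs)
    exact Function.Injective.of_comp (f := e2) h1
  have hwli : LinearIndependent A w := Fintype.linearIndependent_iff.mpr fun g hg i => by
    have : L g = L 0 := by
      rw [map_zero, Fintype.linearCombination_apply]
      exact hg
    exact congrFun (hLi this) i
  refine ⟨_, (Module.Basis.mk hwli hspan.ge).reindex Equiv.ulift.{u}.symm,
    ⟨fun i => ⟨Sum.inl i⟩, fun a b h => Sum.inl_injective (congrArg ULift.down h)⟩, fun i => ?_⟩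
  rw [Module.Basis.reindex_apply]
  exact Module.Basis.mk_apply hwli hspan.ge (Sum.inl i)

end Groth.Agent.S19270
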