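import Groth.Statements.S19273
import Mathlib.RingTheory.Etale.Kaehler
import Mathlib.RingTheory.Localization.Module

set_option autoImplicit false
universe u
open CAlg

namespace Groth.Agent.S19273

open KaehlerDifferential in
/-- Let A be an integral domain of prime characteristic p, x_1, …, x_N elements of A, r ≤ N, B =
A[1/(x_1⋯x_r)] with u_i the unit of B defined by x_i for i ≤ r, and suppose that the module Ω_A of
absolute Kähler differentials of A is free with a basis b indexed by {1, …, N} ⊔ ι whose i-th vector
is d(x_i) for i ≤ N. Then the module of logarithmic 1-forms — the A-submodule of Ω_B spanned by the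
image of Ω_A and the forms u_i⁻¹ · d(x_i), i ≤ r — is a free A-module: it has a basis indexed by {1,
…, N} ⊔ ι whose vector at i ≤ r is u_i⁻¹ · d(x_i), at r < i ≤ N is d(x_i), and at k ∈ ι is the image
of b_k. (In the published statement A is a regular local F-finite algebra over the prime field with
maximal ideal (x_1, …, x_N), the basis of Ω_A comes from the preceding lemma, and the assertion
covers the logarithmic q-forms for all q together with their identification with the log de Rham
complex of the log ring; only the degree-one freeness is stated here, from the properties of A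
actually used.) -/
theorem result (p : ℕ) [Fact p.Prime]
    {A B : Type u} [CommRing A] [IsDomain A] [CharP A p] [CommRing B] [Algebra A B] {r N : ℕ}
    (hr : r ≤ N) (x : Fin N → A) [IsLocalization.Away (∏ i : Fin r, x (Fin.castLE hr i)) B]
    (u : Fin r → Bˣ) (hu : ∀ i, (u i : B) = algebraMap A B (x (Fin.castLE hr i)))
    {ι : Type u} (b : Module.Basis (Fin N ⊕ ι) A (Ω[A⁄ℤ])) (hb : ∀ i, b (Sum.inl i) = D ℤ A (x i)) :
    ∃ e : Module.Basis (Fin N ⊕ ι) A
        (W4c6katofilta.logForms1 (fun i : Fin r => x (Fin.castLE hr i)) u),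
      (∀ i : Fin r, (e (Sum.inl (Fin.castLE hr i)) : Ω[B⁄ℤ]) =
          ((u i)⁻¹ : Bˣ) • KaehlerDifferential.map ℤ ℤ A B (D ℤ A (x (Fin.castLE hr i)))) ∧
      (∀ i : Fin N, r ≤ (i : ℕ) →
          (e (Sum.inl i) : Ω[B⁄ℤ]) = KaehlerDifferential.map ℤ ℤ A B (D ℤ A (x i))) ∧
      (∀ k : ι, (e (Sum.inr k) : Ω[B⁄ℤ]) = KaehlerDifferential.map ℤ ℤ A B (b (Sum.inr k))) := by
  classical
  set f := ∏ i : Fin r, x (Fin.castLE hr i) with hf
  have hx : ∀ i, x i ≠ 0 := fun i h => b.ne_zero (Sum.inl i) (by rw [hb i, h, map_zero])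
  have hf0 : f ≠ 0 := Finset.prod_ne_zero_iff.mpr fun i _ => hx _
  have hinj : Function.Injective (algebraMap A B) :=
    IsLocalization.injective B (powers_le_nonZeroDivisors_of_noZeroDivisors hf0)
  let φ := KaehlerDifferential.map ℤ ℤ A B
  let bB : Module.Basis (Fin N ⊕ ι) B (Ω[B⁄ℤ]) := b.ofIsLocalizedModule B (Submonoid.powers f) φ
  let w : Fin N ⊕ ι → Bˣ := Sum.elim (fun i => if h : (i : ℕ) < r then (u ⟨i, h⟩)⁻¹ else 1) (fun _ => 1)
  let cB := bB.unitsSMul w
  have hc : ∀ j, cB j = w j • φ (b j) := fun j => by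
    rw [Module.Basis.unitsSMul_apply, Module.Basis.ofIsLocalizedModule_apply]
  haveI : FaithfulSMul A B := (faithfulSMul_iff_algebraMap_injective A B).mpr hinj
  have hli : LinearIndependent A cB := cB.linearIndependent.restrict_scalars' A
  have hwi : ∀ i : Fin r, w (Sum.inl (Fin.castLE hr i)) = (u i)⁻¹ := fun i => by simp [w]
  have hspan : Submodule.span A (Set.range cB) =
      W4c6katofilta.logForms1 (fun i : Fin r => x (Fin.castLE hr i)) u := by
    refine le_antisymm (Submodule.span_le.mpr ?_) (Submodule.span_le.mpr ?_)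
    · rintro _ ⟨j, rfl⟩
      rw [hc]
      rcases j with i | k
      · by_cases h : (i : ℕ) < r
        · refine Submodule.subset_span (Or.inr ⟨⟨i, h⟩, ?_⟩)
          simp only [w, Sum.elim_inl, dif_pos h, hb]
          rfl
        · refine Submodule.subset_span (Or.inl ⟨b (Sum.inl i), ?_⟩)
          simp [w, dif_neg h, φ]
      · refine Submodule.subset_span (Or.inl ⟨b (Sum.inr k), ?_⟩)
        simp [w, φ]
    · have hmap : ∀ j, φ (b j) ∈ Submodule.span A (Set.range cB) := by
        intro j
        have hmem : cB j ∈ Submodule.span A (Set.range cB) := Submodule.subset_span ⟨j, rfl⟩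
        rw [hc] at hmem
        rcases j with i | k
        · by_cases h : (i : ℕ) < r
          · simp only [w, Sum.elim_inl, dif_pos h] at hmem
            have e : φ (b (Sum.inl i)) = x i • ((u ⟨i, h⟩)⁻¹ • φ (b (Sum.inl i))) := by
              rw [← IsScalarTower.algebraMap_smul B (x i), Units.smul_def, smul_smul,
                show algebraMap A B (x i) = u ⟨i, h⟩ from (hu ⟨i, h⟩).symm, Units.mul_inv, one_smul]
            rw [e]
            exact Submodule.smul_mem _ _ hmem
          · simpa [w, dif_neg h] using hmem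
        · simpa [w] using hmem
      rintro _ (⟨m, rfl⟩ | ⟨i, rfl⟩)
      · change φ m ∈ Submodule.span A (Set.range cB)
        rw [← b.linearCombination_repr m, Finsupp.linearCombination_apply, Finsupp.sum, map_sum]
        exact Submodule.sum_mem _ fun j _ => by rw [map_smul]; exact Submodule.smul_mem _ _ (hmap j)
      · refine Submodule.subset_span ⟨Sum.inl (Fin.castLE hr i), ?_⟩
        rw [hc, hwi, hb]
  let e := (Module.Basis.span hli).map (LinearEquiv.ofEq _ _ hspan)
  have he : ∀ j, (e j : Ω[B⁄ℤ]) = w j • φ (b j) := fun j => by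
    rw [← hc]; simp [e, Module.Basis.span_apply]
  refine ⟨e, fun i => ?_, fun i hi => ?_, fun k => ?_⟩
  · rw [he, hwi, hb]
  · rw [he, hb]; simp [w, not_lt.mpr hi, φ]
  · rw [he]; simp [w, φ]

end Groth.Agent.S19273
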