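import Groth.Statements.S19275
import Groth.Agent.H20Comod.Diag
import Mathlib

set_option autoImplicit false
universe u v w
open Hoch

namespace Groth.Agent.S19275

open TensorProduct
open scoped TensorProduct

theorem distrib_tmul {K : Type u} [Field K] {R : Type w} [CommRing R] [Algebra K R] {C A : Type v}
    [AddCommGroup C] [Module K C] [AddCommGroup A] [Module K A] (r : R) (c : C) (a : A) :
    TensorProduct.AlgebraTensorModule.distribBaseChange K R C A (r ⊗ₜ[K] (c ⊗ₜ[K] a)) = (r ⊗ₜ[K] c) ⊗ₜ[R] ((1 : R) ⊗ₜ[K] a) := by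
  simp [TensorProduct.AlgebraTensorModule.distribBaseChange]

theorem exists_baseChange_ker {K : Type u} [Field K] {R : Type w} [CommRing R] [Algebra K R] {C D : Type v}
    [AddCommGroup C] [Module K C] [AddCommGroup D] [Module K D] (f : C →ₗ[K] D) {x : R ⊗[K] C}
    (hx : f.baseChange R x = 0) : ∃ y : R ⊗[K] LinearMap.ker f, (LinearMap.ker f).subtype.baseChange R y = x := by
  have h := (Module.Flat.lTensor_exact R (LinearMap.exact_subtype_ker_map f)) x
  rw [LinearMap.baseChange_eq_ltensor] at hx
  obtain ⟨y, hy⟩ := h.1 hx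
  exact ⟨y, by rw [LinearMap.baseChange_eq_ltensor]; exact hy⟩

theorem baseChange_subtype_injective {K : Type u} [Field K] {R : Type w} [CommRing R] [Algebra K R] {C : Type v}
    [AddCommGroup C] [Module K C] (W : Submodule K C) : Function.Injective (W.subtype.baseChange R) := by
  rw [LinearMap.baseChange_eq_ltensor]
  exact Module.Flat.lTensor_preserves_injective_linearMap _ W.injective_subtype

/-- In the case of an affine group scheme over a field (a K-groupoid acting on Spec K itself),
cohomology commutes with arbitrary base change. Precisely: let K be a field, A a commutative Hopf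
algebra over K (the coordinate ring of an affine K-group scheme G), V a right A-comodule (a linear
representation of G) and R any commutative K-algebra. Give R ⊗ V the base-changed comodule structure
over the R-bialgebra R ⊗ A, whose coaction sends r ⊗ v to the image of r ⊗ ρ(v) under the canonical
identification of R ⊗ (V ⊗ A) with (R ⊗ V) ⊗_R (R ⊗ A), and let φ_n : R ⊗ C^n(A, V) → C^n(R ⊗ A, R ⊗
V) be the canonical R-linear maps between the Hochschild cochain modules, determined by φ_0 = id and
φ_{n+1}(r ⊗ (c ⊗ a)) = φ_n(r ⊗ c) ⊗ (1 ⊗ a). Then every φ_n is bijective, the φ_n commute with the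
Hochschild differentials, and for every n there is an R-linear isomorphism R ⊗ H^n(A, V) ≅ H^n(R ⊗
A, R ⊗ V) sending r ⊗ [z] to [φ_n(r ⊗ z)] for every n-cocycle z. (The published statement is for an
affine K-groupoid acting on the spectrum of a finite extension L of K and its coherent
representations, with K of characteristic 0; this is its case L = K, in which the cochain complex of
a representation is the Hochschild complex of the comodule; V is not assumed finite-dimensional and
K may be any field.) -/
theorem result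
    (K : Type u) [Field K] (A : Type v) [CommRing A] [HopfAlgebra K A]
    (V : Type v) [AddCommGroup V] [Module K V] [HopfRep.Comod K A V]
    (R : Type w) [CommRing R] [Algebra K R]
    (φ : ∀ n : ℕ, R ⊗[K] (Hoch.cochain K A V n) →ₗ[R] (Hoch.cochain R (R ⊗[K] A) (R ⊗[K] V) n))
    (hφ0 : ∀ x : R ⊗[K] V, φ 0 x = x)
    (hφs : ∀ (n : ℕ) (r : R) (c : Hoch.cochain K A V n) (a : A),
      φ (n + 1) (r ⊗ₜ[K] (c ⊗ₜ[K] a)) = (φ n (r ⊗ₜ[K] c)) ⊗ₜ[R] ((1 : R) ⊗ₜ[K] a)) :
    letI := CoactBr.Comod.baseChange K R A V
    (∀ n : ℕ, Function.Bijective (φ n)) ∧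
    (∀ (n : ℕ) (x : R ⊗[K] (Hoch.cochain K A V n)),
        φ (n + 1) ((Hoch.d K A V n).baseChange R x) = Hoch.d R (R ⊗[K] A) (R ⊗[K] V) n (φ n x)) ∧
      ∀ n : ℕ, ∃ e : R ⊗[K] Hoch.H K A V n ≃ₗ[R] Hoch.H R (R ⊗[K] A) (R ⊗[K] V) n,
        ∀ (r : R) (z : Hoch.cocycles K A V n)
          (hz : φ n (r ⊗ₜ[K] (z : Hoch.cochain K A V n)) ∈ Hoch.cocycles R (R ⊗[K] A) (R ⊗[K] V) n),
          e (r ⊗ₜ[K] Hoch.H.mk K A V n z) = Hoch.H.mk R (R ⊗[K] A) (R ⊗[K] V) n ⟨φ n (r ⊗ₜ[K] (z : Hoch.cochain K A V n)), hz⟩ := by
  letI := CoactBr.Comod.baseChange K R A V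
  have hsucc : ∀ (n : ℕ) (x : R ⊗[K] (Hoch.cochain K A V (n + 1))), φ (n + 1) x =
      (φ n).rTensor (R ⊗[K] A) (TensorProduct.AlgebraTensorModule.distribBaseChange K R (Hoch.cochain K A V n) A x) := by
    intro n x
    induction x using TensorProduct.induction_on with
    | zero => rw [map_zero, map_zero, map_zero]
    | tmul r y =>
      induction y using TensorProduct.induction_on with
      | zero => rw [TensorProduct.tmul_zero, map_zero, map_zero, map_zero]
      | tmul c a => rw [hφs, distrib_tmul, LinearMap.rTensor_tmul]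
      | add y z hy hz => rw [TensorProduct.tmul_add, map_add, hy, hz, map_add, map_add]
    | add x y hx hy => rw [map_add, hx, hy, map_add, map_add]
  have hbij : ∀ n, Function.Bijective (φ n) := by
    intro n
    induction n with
    | zero => rw [show φ 0 = LinearMap.id from LinearMap.ext hφ0]; exact Function.bijective_id
    | succ n ih =>
      rw [show (⇑(φ (n + 1))) = ⇑((φ n).rTensor (R ⊗[K] A)) ∘
        ⇑(TensorProduct.AlgebraTensorModule.distribBaseChange K R (Hoch.cochain K A V n) A) from funext (hsucc n)]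
      exact ((LinearEquiv.ofBijective (φ n) ih).rTensor (R ⊗[K] A)).bijective.comp (LinearEquiv.bijective _)
  have hone : ∀ (n : ℕ) (c : Hoch.cochain K A V n), φ (n + 1) ((1 : R) ⊗ₜ[K] (c ⊗ₜ[K] (1 : A))) =
      (φ n ((1 : R) ⊗ₜ[K] c)) ⊗ₜ[R] (1 : R ⊗[K] A) := fun n c => by
    rw [hφs, Algebra.TensorProduct.one_def]
  have hd : ∀ (n : ℕ) (x : R ⊗[K] (Hoch.cochain K A V n)),
      φ (n + 1) ((Hoch.d K A V n).baseChange R x) = Hoch.d R (R ⊗[K] A) (R ⊗[K] V) n (φ n x) := by
    intro n
    suffices h : ∀ c : Hoch.cochain K A V n, φ (n + 1) ((1 : R) ⊗ₜ[K] Hoch.d K A V n c) =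
        Hoch.d R (R ⊗[K] A) (R ⊗[K] V) n (φ n ((1 : R) ⊗ₜ[K] c)) by
      intro x
      induction x using TensorProduct.induction_on with
      | zero => rw [map_zero, map_zero, map_zero, map_zero]
      | tmul r c =>
        rw [LinearMap.baseChange_tmul, show r ⊗ₜ[K] Hoch.d K A V n c = r • ((1 : R) ⊗ₜ[K] Hoch.d K A V n c) by
          rw [TensorProduct.smul_tmul', smul_eq_mul, mul_one], show r ⊗ₜ[K] c = r • ((1 : R) ⊗ₜ[K] c) by
          rw [TensorProduct.smul_tmul', smul_eq_mul, mul_one], map_smul, map_smul, map_smul, h]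
      | add x y hx hy => rw [map_add, map_add, hx, hy, map_add, map_add]
    induction n with
    | zero =>
      intro v
      rw [Hoch.d_zero_apply, TensorProduct.tmul_sub, map_sub, hone, Hoch.d_zero_apply, hφ0]
      congr 1
      obtain ⟨S, hS⟩ := TensorProduct.exists_finset (HopfRep.Comod.coact (k := K) (A := A) v)
      rw [hS, TensorProduct.tmul_sum, map_sum,
        CoactBr.baseChange_coact_tmul_of_sum K R A V S 1 v Prod.fst Prod.snd hS]
      exact Finset.sum_congr rfl fun p _ => by rw [hφs, hφ0]
    | succ n ih =>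
      intro c
      induction c using TensorProduct.induction_on with
      | zero => rw [map_zero, TensorProduct.tmul_zero, map_zero, TensorProduct.tmul_zero, map_zero, map_zero]
      | add x y hx hy => rw [map_add, TensorProduct.tmul_add, map_add, hx, hy, TensorProduct.tmul_add, map_add, map_add]
      | tmul c a =>
        rw [hφs, Hoch.d_succ, Hoch.d_succ, LinearMap.add_apply, LinearMap.add_apply, LinearMap.smul_apply,
          LinearMap.smul_apply, TensorProduct.tmul_add, map_add, LinearMap.rTensor_tmul, LinearMap.rTensor_tmul, hφs, ih]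
        congr 1
        have hsgn : ∀ z : (Hoch.cochain K A V (n + 2) : Type v), φ (n + 2) ((1 : R) ⊗ₜ[K] ((-1 : K) ^ (n + 1) • z)) =
            ((-1 : R) ^ (n + 1)) • φ (n + 2) ((1 : R) ⊗ₜ[K] z) := fun z => by
          rw [TensorProduct.tmul_smul, ← algebraMap_smul R, map_smul, map_pow, map_neg, map_one]
        rw [hsgn]
        congr 1
        rw [Hoch.tail_tmul, Hoch.tail_tmul, H20Comod.comul_one_tmul]
        generalize CoalgebraStruct.comul (R := K) a = z
        simp only [TensorProduct.tmul_sub, map_sub]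
        congr 1
        · congr 1
          · induction z using TensorProduct.induction_on with
            | zero => simp
            | tmul p q =>
              simp only [TensorProduct.lift.tmul, LinearMap.mk₂_apply, TensorProduct.assoc_symm_tmul]
              rw [hφs, hφs]
            | add p q hp hq => simp only [TensorProduct.tmul_add, map_add, hp, hq]
          · rw [TensorProduct.assoc_symm_tmul, hφs, hφs, ← Algebra.TensorProduct.one_def]
            exact (TensorProduct.assoc_symm_tmul _ _ _).symm
        · rw [TensorProduct.assoc_symm_tmul, hφs, hφs, ← Algebra.TensorProduct.one_def]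
          exact (TensorProduct.assoc_symm_tmul _ _ _).symm
  refine ⟨hbij, hd, fun n => ?_⟩
  let Z := Hoch.cocycles K A V n
  let Z' := Hoch.cocycles R (R ⊗[K] A) (R ⊗[K] V) n
  let B := (Hoch.coboundaries K A V n).comap Z.subtype
  have hZ : ∀ x : R ⊗[K] Z, φ n (Z.subtype.baseChange R x) ∈ Z' := fun x => by
    show Hoch.d R (R ⊗[K] A) (R ⊗[K] V) n (φ n (Z.subtype.baseChange R x)) = 0
    rw [← hd, ← LinearMap.comp_apply (Hoch.d K A V n |>.baseChange R), ← LinearMap.baseChange_comp,
      show Hoch.d K A V n ∘ₗ Z.subtype = 0 from LinearMap.ext fun z => z.2, LinearMap.baseChange_zero,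
      LinearMap.zero_apply, map_zero]
  let G : R ⊗[K] Z →ₗ[R] Z' := (φ n ∘ₗ Z.subtype.baseChange R).codRestrict Z' hZ
  let q : R ⊗[K] Z →ₗ[R] R ⊗[K] Hoch.H K A V n := (Hoch.H.mk K A V n).baseChange R
  have hq : Function.Surjective q := by
    show Function.Surjective ((Hoch.H.mk K A V n).baseChange R)
    rw [LinearMap.baseChange_eq_ltensor]
    exact LinearMap.lTensor_surjective R (Submodule.mkQ_surjective _)
  have hkerq : ∀ x, q x = 0 ↔ ∃ y : R ⊗[K] B, B.subtype.baseChange R y = x := fun x => by
    have h := lTensor_exact R (LinearMap.exact_subtype_mkQ B) (Submodule.mkQ_surjective B) x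
    rw [LinearMap.baseChange_eq_ltensor]
    exact h
  let T : R ⊗[K] Z →ₗ[R] Hoch.H R (R ⊗[K] A) (R ⊗[K] V) n := Hoch.H.mk R (R ⊗[K] A) (R ⊗[K] V) n ∘ₗ G
  have hTsurj : Function.Surjective T := by
    intro h
    obtain ⟨⟨z, hz⟩, rfl⟩ := Submodule.mkQ_surjective _ h
    obtain ⟨x, rfl⟩ := (hbij n).2 z
    have hx : (Hoch.d K A V n).baseChange R x = 0 := (hbij (n + 1)).1 (by rw [hd, map_zero]; exact hz)
    obtain ⟨y, rfl⟩ := exists_baseChange_ker _ hx
    exact ⟨y, rfl⟩
  have hker : ∀ x, T x = 0 ↔ q x = 0 := by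
    intro x
    rw [hkerq]
    have hT : T x = 0 ↔ φ n (Z.subtype.baseChange R x) ∈ Hoch.coboundaries R (R ⊗[K] A) (R ⊗[K] V) n :=
      Submodule.Quotient.mk_eq_zero _
    rw [hT]
    cases n with
    | zero =>
      constructor
      · intro h
        refine ⟨0, ?_⟩
        rw [map_zero, eq_comm]
        exact baseChange_subtype_injective Z ((hbij 0).1 (by rw [map_zero, map_zero]; exact (Submodule.mem_bot R).1 h))
      · rintro ⟨y, rfl⟩
        refine (Submodule.mem_bot R).2 ?_
        rw [← LinearMap.comp_apply (Z.subtype.baseChange R) (B.subtype.baseChange R), ← LinearMap.baseChange_comp,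
          show Z.subtype ∘ₗ B.subtype = 0 from LinearMap.ext fun z => (Submodule.mem_bot K).1 z.2,
          LinearMap.baseChange_zero, LinearMap.zero_apply, map_zero]
    | succ m =>
      constructor
      · intro h
        obtain ⟨w, hw⟩ := h
        obtain ⟨u, rfl⟩ := (hbij m).2 w
        rw [← hd] at hw
        have hu := (hbij (m + 1)).1 hw
        have hdd : ((Hoch.d K A V (m + 1)) ∘ₗ Hoch.d K A V m).baseChange R u = 0 := by
          rw [LinearMap.baseChange_comp, LinearMap.comp_apply, hu, ← LinearMap.comp_apply, ← LinearMap.baseChange_comp,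
            show Hoch.d K A V (m + 1) ∘ₗ Z.subtype = 0 from LinearMap.ext fun z => z.2, LinearMap.baseChange_zero,
            LinearMap.zero_apply]
        obtain ⟨u', rfl⟩ := exists_baseChange_ker _ hdd
        let C := LinearMap.ker (Hoch.d K A V (m + 1) ∘ₗ Hoch.d K A V m)
        let δ : C →ₗ[K] B := ((Hoch.d K A V m ∘ₗ C.subtype).codRestrict Z fun c => c.2).codRestrict B
          fun c => ⟨c, rfl⟩
        refine ⟨δ.baseChange R u', baseChange_subtype_injective Z (Eq.trans ?_ hu)⟩
        rw [← LinearMap.comp_apply (Z.subtype.baseChange R), ← LinearMap.baseChange_comp, ← LinearMap.comp_apply,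
          ← LinearMap.baseChange_comp, ← LinearMap.comp_apply, ← LinearMap.baseChange_comp]
        rfl
      · rintro ⟨y, rfl⟩
        clear hT
        induction y using TensorProduct.induction_on with
        | zero => rw [map_zero, map_zero, map_zero]; exact zero_mem _
        | add a b ha hb => rw [map_add, map_add, map_add]; exact add_mem ha hb
        | tmul r b =>
          obtain ⟨c, hc⟩ := b.2
          refine ⟨φ m (r ⊗ₜ[K] c), ?_⟩
          rw [← hd, LinearMap.baseChange_tmul, hc, LinearMap.baseChange_tmul, LinearMap.baseChange_tmul]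
          rfl
  have hle : LinearMap.ker q = LinearMap.ker T := Submodule.ext fun x => (hker x).symm
  refine ⟨(q.quotKerEquivOfSurjective hq).symm ≪≫ₗ Submodule.quotEquivOfEq _ _ hle ≪≫ₗ
    T.quotKerEquivOfSurjective hTsurj, fun r z hz => ?_⟩
  have h1 : r ⊗ₜ[K] Hoch.H.mk K A V n z = q (r ⊗ₜ[K] z) := (LinearMap.baseChange_tmul _ _ _).symm
  rw [h1, LinearEquiv.trans_apply, LinearEquiv.trans_apply, LinearMap.quotKerEquivOfSurjective_symm_apply,
    Submodule.quotEquivOfEq_mk]
  refine Eq.trans (LinearMap.quotKerEquivOfSurjective_apply_mk _ _ _) ?_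
  exact congrArg (Hoch.H.mk R (R ⊗[K] A) (R ⊗[K] V) n) (Subtype.ext (congrArg (φ n) (LinearMap.baseChange_tmul _ _ _)))

end Groth.Agent.S19275
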