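import Groth.Statements.S19277
import Groth.Agent.H20Cyc.Loc

set_option autoImplicit false
universe u v
open GrpAlg

namespace Groth.Agent.S19277

/-- Let `M` be a commutative group, `B ≠ B'` subgroups of finite index with `M ⧸ B` and `M ⧸ B'` cyclic,
and `Λ` a commutative ring in which both indices are invertible. Then the localization of the
`Λ[M]`-module `Λ[M ⧸ B]/(Φ_{|M/B|})` at the multiplicative subset of `Λ[M]` of elements with image
`1` in `Λ[M ⧸ B']/(Φ_{|M/B'|})` is zero. (In terms of group schemes: for two distinct dual cyclic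
subgroups σ, σ' of the diagonalizable group with character group `M`, the ring R̃(σ) with
coefficients in `Λ` vanishes after localization at σ'. The published statement has a split torus,
i.e. `M` free of finite rank, and `Λ = ℤ[1/N]` for `N` the order of the subgroup generated by σ and
σ'; here `M` is any commutative group and `Λ` any commutative ring in which the orders of σ and σ'
are invertible.) -/
theorem result (Λ : Type u) [CommRing Λ] (M : Type v)
    [AddCommGroup M] (B B' : AddSubgroup M) [B.FiniteIndex] [B'.FiniteIndex]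
    [IsAddCyclic (M ⧸ B)] [IsAddCyclic (M ⧸ B')] (hne : B ≠ B')
    (hu : IsUnit ((B.index * B'.index : ℕ) : Λ)) :
    Subsingleton (LocalizedModule (W4c6equivkfinstab.locSubmonoid Λ M B')
      (W4c6equivkfinstab.CycQuot Λ (M ⧸ B))) := by
  have hB : IsUnit (B.index : Λ) := H20Cyc.isUnit_cast_of_dvd (RingHom.id Λ) (dvd_mul_right _ _) hu
  have hB' : IsUnit (B'.index : Λ) := H20Cyc.isUnit_cast_of_dvd (RingHom.id Λ) (dvd_mul_left _ _) hu
  obtain ⟨s, hs, hs1⟩ := H20Cyc.exists_sep (H20Cyc.sup_ker_eq_top hB hB' hne)
  refine H20Cyc.subsingleton_localized (H20Cyc.mem_locSubmonoid_of_sub_mem hs1) fun m => ?_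
  rw [H20Cyc.smul_cycQuot, RingHom.mem_ker.mp hs, zero_mul]

end Groth.Agent.S19277
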