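import Groth.Statements.S1928
import Groth.Agent.H3Cyc.KDegree
-- import your own Groth.Agent.* helpers here

set_option autoImplicit false
universe u
open CategoryTheory AlgebraicGeometry
set_option backward.isDefEq.respectTransparency.types false
open Cyc
open Groth.Agent.H3Cyc

namespace Groth.Agent.S1928

/-- Let X be proper over a field k with dim X ≤ 1 and L an invertible O_X-module. Then deg(L) := χ(X, L)
− χ(X, O_X) equals the degree Σ_x [κ(x) : k] · n_x of the 0-cycle c_1(L) ∩ [X]_1 = Σ n_x [x],
computed with any nonzero rational sections (the degree is independent of the choice). Dimension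
function: transcendence degree over k. (The source treats finite locally free modules of any
constant rank via c_1 of a vector bundle; only the invertible case is stated.) Here L(ξ) = L_ξ/𝔪_ξ
L_ξ is the space of rational sections of L on the closure of ξ, div_{L|W}(s) and c_1(L) ∩ α are
computed as coefficient functions from chosen nonzero rational sections (Cyc.secDivFun,
Cyc.c1CapFun), and results are compared up to rational equivalence for any cycles with those
coefficients. -/
theorem result (k : Type u) [Field k] (X : Scheme.{u}) [X.Over (Spec (CommRingCat.of k))] [IsProper (X ↘ Spec (CommRingCat.of k))] (hdim : topologicalKrullDim X ≤ 1) (δ : X → ℤ) (hδ : Cyc.DeltaCompat (X ↘ Spec (CommRingCat.of k)) δ (fun _ => 0)) (L : X.Modules) (hL : PicF.IsInvertible L) (s : (ξ : X) → Cyc.secFibre L ξ) (hs : ∀ ξ, s ξ ≠ 0) : Curv2.deg k X L 1 = ∑ᶠ x : X, ((X ↘ Spec (CommRingCat.of k)).residueDegree x : ℤ) * Cyc.c1CapFun δ L (Cyc.subschemeFun δ 1 (𝟙 X)) s x := by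
  exact KDegree.deg_eq hδ hdim L hL s hs

end Groth.Agent.S1928
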