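import Groth.Statements.S19280
import Groth.Agent.H19Chev.MuGLn

set_option autoImplicit false
set_option maxHeartbeats 1000000
set_option synthInstance.maxHeartbeats 100000
set_option linter.style.haveILetI false
set_option backward.isDefEq.respectTransparency false
universe u
open CategoryTheory MonoidalCategory CartesianMonoidalCategory MonObj GrpObj AlgebraicGeometry
open AlgGrp

namespace Groth.Agent.S19280

open Groth.Agent Groth.Agent.H19Chev.MuGLn
open CategoryTheory.Limits
set_option synthInstance.maxHeartbeats 400000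
set_option backward.isDefEq.respectTransparency true
attribute [local instance 2000] Hom.group Hom.monoid


/-- Let `k` be a field with an algebraic closure `K`, `m ≥ 0`, `n > 0`, and let `σ`, `τ` be closed
subgroup schemes of `GL_{m,k}`, each isomorphic as a `k`-group scheme to `μ_n = D(ℤ/n)`. If after
base change to `K` there are a `K`-point `g` of `GL_m` and an isomorphism `σ_K ≅ τ_K` through which
conjugation by `g` carries the inclusion of `σ_K` to that of `τ_K`, then there are already a
`k`-rational point of `GL_{m,k}` and an isomorphism `σ ≅ τ` with the same property. (This is the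
first of the two rationality conditions, stated for all dual cyclic subgroups rather than only for
those with a fixed point on a given algebraic space, which is what the printed argument establishes
and which gives the printed statement for every action of `GL_m`.) -/
theorem result (k : Type u) [Field k]
    (K : Type u) [Field K] [Algebra k K] [IsAlgClosure k K] (m n : ℕ) (hn : 0 < n)
    (σ τ : Over (Spec (CommRingCat.of k))) [GrpObj σ] [GrpObj τ]
    (i : σ ⟶ CoactBr.sp k (CoordGrp.GLn m k)) (j : τ ⟶ CoactBr.sp k (CoordGrp.GLn m k))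
    [IsMonHom i] [IsMonHom j] (hi : IsClosedImmersion i.left) (hj : IsClosedImmersion j.left)
    (hσ : Red.IsSplitTorusWith (ZMod n) σ) (hτ : Red.IsSplitTorusWith (ZMod n) τ)
    (h : ∃ (g : 𝟙_ (Over (Spec (CommRingCat.of K))) ⟶
        Red.bc (Spec.map (CommRingCat.ofHom (algebraMap k K))) (CoactBr.sp k (CoordGrp.GLn m k)))
      (φ : Red.bc (Spec.map (CommRingCat.ofHom (algebraMap k K))) σ ≅
        Red.bc (Spec.map (CommRingCat.ofHom (algebraMap k K))) τ),
      AGF.conjBy g ((Over.pullback (Spec.map (CommRingCat.ofHom (algebraMap k K)))).map i) =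
        φ.hom ≫ (Over.pullback (Spec.map (CommRingCat.ofHom (algebraMap k K)))).map j) :
    ∃ (g : 𝟙_ (Over (Spec (CommRingCat.of k))) ⟶ CoactBr.sp k (CoordGrp.GLn m k)) (φ : σ ≅ τ),
      AGF.conjBy g i = φ.hom ≫ j := by
  classical
  haveI : NeZero n := ⟨hn.ne'⟩
  let e : Spec (CommRingCat.of K) ⟶ Spec (CommRingCat.of k) := Spec.map (CommRingCat.ofHom (algebraMap k K))
  let M := Multiplicative (ZMod n)
  obtain ⟨g, φ, hg⟩ := h
  haveI := H21Diag.isMonHom_diagToDS k (ZMod n)
  haveI := H21Diag.isIso_diagToDS k (ZMod n)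
  obtain ⟨esσ⟩ := hσ
  obtain ⟨esτ⟩ := hτ
  let eσ : σ ≅ Red.DS (Spec (CommRingCat.of k)) (ZMod n) := (Grp.forget _).mapIso esσ
  let eτ : τ ≅ Red.DS (Spec (CommRingCat.of k)) (ZMod n) := (Grp.forget _).mapIso esτ
  haveI : IsMonHom eσ.inv := esσ.inv.hom.isMonHom_hom
  haveI : IsMonHom eτ.inv := esτ.inv.hom.isMonHom_hom
  obtain ⟨dσ, hdσ, hdσi⟩ : ∃ d : CoactBr.sp k (MonoidAlgebra k M) ⟶ σ, IsMonHom d ∧ IsIso d :=
    ⟨H21Diag.diagToDS k (ZMod n) ≫ eσ.inv, inferInstance, inferInstance⟩
  obtain ⟨dτ, hdτ, hdτi⟩ : ∃ d : CoactBr.sp k (MonoidAlgebra k M) ⟶ τ, IsMonHom d ∧ IsIso d :=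
    ⟨H21Diag.diagToDS k (ZMod n) ≫ eτ.inv, inferInstance, inferInstance⟩
  haveI := hi
  haveI := hj
  haveI : Mono i.left := inferInstance
  haveI : Mono j.left := inferInstance
  haveI : Mono i := Over.mono_of_mono_left _
  haveI : Mono j := Over.mono_of_mono_left _
  haveI : IsMonHom (dσ ≫ i) := inferInstance
  haveI : IsMonHom (dτ ≫ j) := inferInstance
  obtain ⟨c, C, hC, hCU, hgen⟩ := exists_normal_form k m (dσ ≫ i)
  obtain ⟨c', C', hC', hCU', hgen'⟩ := exists_normal_form k m (dτ ≫ j)
  obtain ⟨E, hEC, hCE⟩ : ∃ E, E * C = 1 ∧ C * E = 1 :=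
    ⟨C⁻¹, Matrix.nonsing_inv_mul _ hC, Matrix.mul_nonsing_inv _ hC⟩
  obtain ⟨E', hEC', hCE'⟩ : ∃ E', E' * C' = 1 ∧ C' * E' = 1 :=
    ⟨C'⁻¹, Matrix.nonsing_inv_mul _ hC', Matrix.mul_nonsing_inv _ hC'⟩
  -- the automorphism of the group algebra over K
  haveI := isIso_rhoM k M K
  let rσ := rhoM k M K ≫ (Over.pullback e).map dσ
  let rτ := rhoM k M K ≫ (Over.pullback e).map dτ
  obtain ⟨θ, hθ⟩ := exists_pt_eq (rσ ≫ φ.hom ≫ CategoryTheory.inv rτ)
  let G : Matrix (Fin m) (Fin m) K := mat k m (toUnit (CoactBr.sp K K) ≫ g)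
  have hG : IsUnit G.det := H20HM.isUnit_det_glMat _
  have hrel : G.map (algebraMap K (MonoidAlgebra K M)) * (ptMat k m (dσ ≫ i)).map (inclM k M K) =
      ((ptMat k m (dτ ≫ j)).map (inclM k M K)).map θ * G.map (algebraMap K (MonoidAlgebra K M)) := by
    have h1 : rσ ≫ AGF.conjBy g ((Over.pullback e).map i) = rσ ≫ φ.hom ≫ (Over.pullback e).map j := by rw [hg]
    have h2 : rσ ≫ toUnit _ ≫ g =
        CoactBr.pt (Algebra.ofId K (MonoidAlgebra K M)) ≫ toUnit (CoactBr.sp K K) ≫ g := by
      rw [← Category.assoc, ← Category.assoc]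
      exact congrArg (· ≫ g) (toUnit_unique _ _)
    have h3 : rσ ≫ φ.hom ≫ (Over.pullback e).map j =
        CoactBr.pt θ ≫ rhoM k M K ≫ (Over.pullback e).map (dτ ≫ j) := by
      rw [hθ, (Over.pullback e).map_comp, ← Category.assoc (rhoM k M K)]
      show _ = (rσ ≫ φ.hom ≫ CategoryTheory.inv rτ) ≫ rτ ≫ _
      simp only [Category.assoc, IsIso.inv_hom_id_assoc]
    have h4 : rσ ≫ (Over.pullback e).map i = rhoM k M K ≫ (Over.pullback e).map (dσ ≫ i) := by
      rw [(Over.pullback e).map_comp, ← Category.assoc]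
    rw [AGF.conjBy, MonObj.comp_mul, MonObj.comp_mul, GrpObj.comp_inv, h2, h3, h4, mul_inv_eq_iff_eq_mul] at h1
    have h5 := congrArg (mat k m) h1
    rw [mat_mul, mat_mul, mat_comp, mat_comp, mat_rhoM, mat_rhoM] at h5
    exact h5
  -- the relation of the diagonal forms
  let ι' : k →+* MonoidAlgebra k M := algebraMap k _
  have hb : ∀ (A : Matrix (Fin m) (Fin m) k),
      (A.map (algebraMap k (MonoidAlgebra k M))).map (inclM k M K) =
        (A.map (algebraMap k K)).map (algebraMap K (MonoidAlgebra K M)) := fun A => by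
    ext a b
    simp [IsScalarTower.algebraMap_apply k K (MonoidAlgebra K M)]
  have hDmap : ∀ c : Fin m → M, (monoDiag k c).map (inclM k M K) = monoDiag K c := fun c => by
    rw [monoDiag, monoDiag, Matrix.diagonal_map (map_zero _)]
    simp
  let X : Matrix (Fin m) (Fin m) K := C'.map (algebraMap k K) * G * E.map (algebraMap k K)
  have hX : IsUnit X.det := by
    rw [Matrix.det_mul, Matrix.det_mul]
    refine IsUnit.mul (IsUnit.mul ?_ hG) ?_
    · rw [show C'.map (algebraMap k K) = (algebraMap k K).mapMatrix C' from rfl, ← RingHom.map_det]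
      exact hC'.map _
    · rw [show E.map (algebraMap k K) = (algebraMap k K).mapMatrix E from rfl, ← RingHom.map_det]
      exact (IsUnit.of_mul_eq_one C.det (by rw [← Matrix.det_mul, hEC, Matrix.det_one])).map _
  let aK := algebraMap K (MonoidAlgebra K M)
  let bk := fun A : Matrix (Fin m) (Fin m) k => (A.map (algebraMap k K)).map aK
  have hXD : X.map aK * monoDiag K c = (monoDiag K c').map θ * X.map aK := by
    have e1 : bk C * (ptMat k m (dσ ≫ i)).map (inclM k M K) = monoDiag K c * bk C := by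
      have := congrArg (fun z => z.map (inclM k M K)) hCU
      simp only [Matrix.map_mul, hb, hDmap] at this
      exact this
    have e2 : bk C' * ((ptMat k m (dτ ≫ j)).map (inclM k M K)).map θ = (monoDiag K c').map θ * bk C' := by
      have := congrArg (fun z => (z.map (inclM k M K)).map θ) hCU'
      simp only [Matrix.map_mul, hb, hDmap] at this
      have hfix : ∀ A : Matrix (Fin m) (Fin m) K, (A.map aK).map θ = A.map aK := fun A => by
        refine Matrix.ext fun a b => ?_
        exact θ.commutes _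
      rw [hfix] at this
      exact this
    have e3 : bk E * bk C = 1 ∧ bk C * bk E = 1 := by
      constructor <;>
      · show ((_ : Matrix (Fin m) (Fin m) k).map (algebraMap k K)).map aK * (Matrix.map _ (algebraMap k K)).map aK = 1
        rw [← Matrix.map_mul, ← Matrix.map_mul]
        first | rw [hEC] | rw [hCE]
        rw [Matrix.map_one _ (map_zero _) (map_one _), Matrix.map_one _ (map_zero _) (map_one _)]
    have e4 : monoDiag K c = bk C * (ptMat k m (dσ ≫ i)).map (inclM k M K) * bk E := by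
      rw [e1, Matrix.mul_assoc, e3.2, Matrix.mul_one]
    have eX : X.map aK = bk C' * G.map aK * bk E := by
      simp only [X, bk, Matrix.map_mul]
    rw [eX]
    conv_lhs => rw [e4]
    calc bk C' * G.map aK * bk E * (bk C * (ptMat k m (dσ ≫ i)).map (inclM k M K) * bk E)
        = bk C' * (G.map aK * ((bk E * bk C) * (ptMat k m (dσ ≫ i)).map (inclM k M K))) * bk E := by
          simp only [Matrix.mul_assoc]
      _ = bk C' * ((ptMat k m (dτ ≫ j)).map (inclM k M K)).map θ * G.map aK * bk E := by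
          rw [e3.1, Matrix.one_mul, hrel]
          simp only [Matrix.mul_assoc]
          rfl
      _ = (monoDiag K c').map θ * (bk C' * G.map aK * bk E) := by
          rw [e2]
          simp only [Matrix.mul_assoc]
  have hent : ∀ a b, X a b ≠ 0 → θ (MonoidAlgebra.single (c' a) 1) = MonoidAlgebra.single (c b) 1 := by
    intro a b hab
    have h := congrFun (congrFun hXD a) b
    rw [monoDiag, monoDiag, Matrix.mul_diagonal, Matrix.diagonal_map (map_zero θ), Matrix.diagonal_mul,
      Matrix.map_apply, _root_.mul_comm] at h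
    exact ((hab.isUnit.map aK).mul_right_cancel h).symm
  obtain ⟨π, hπ⟩ : ∃ π : Equiv.Perm (Fin m), ∀ b, X (π b) b ≠ 0 := by
    by_contra hne
    simp only [not_exists, not_forall, ne_eq, not_not] at hne
    refine hX.ne_zero ?_
    rw [Matrix.det_apply]
    refine Finset.sum_eq_zero fun π _ => ?_
    obtain ⟨b, hb⟩ := hne π
    rw [Finset.prod_eq_zero (f := fun j => X (π j) j) (Finset.mem_univ b) hb, smul_zero]
  have hall : ∀ x : M, ∃ y : M, θ (MonoidAlgebra.single x 1) = MonoidAlgebra.single y 1 := fun x => by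
    have hx : x ∈ Subgroup.closure (Set.range c') := hgen' ▸ Subgroup.mem_top x
    rw [← Subgroup.mem_toSubmonoid, Subgroup.closure_toSubmonoid_of_finite] at hx
    induction hx using Submonoid.closure_induction with
    | mem y hy =>
      obtain ⟨a, rfl⟩ := hy
      exact ⟨c (π.symm a), hent _ _ (by simpa using hπ (π.symm a))⟩
    | one => exact ⟨1, map_one θ⟩
    | mul a b _ _ ha hb =>
      obtain ⟨a', ha'⟩ := ha
      obtain ⟨b', hb'⟩ := hb
      refine ⟨a' * b', ?_⟩
      have := congrArg₂ (· * ·) ha' hb'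
      simp only [← map_mul, MonoidAlgebra.single_mul_single, _root_.mul_one] at this
      exact this
  choose α₀ hα₀ using hall
  have hinj : ∀ {x y : M}, MonoidAlgebra.single x (1 : K) = MonoidAlgebra.single y 1 → x = y :=
    fun h => MonoidAlgebra.of_injective h
  let α : M →* M :=
    { toFun := α₀
      map_one' := hinj ((hα₀ 1).symm.trans (map_one θ))
      map_mul' := fun x y => hinj (by
        rw [← hα₀]
        have := congrArg₂ (· * ·) (hα₀ x) (hα₀ y)
        simp only [← map_mul, MonoidAlgebra.single_mul_single, _root_.mul_one] at this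
        exact this) }
  have hαc : ∀ b, α (c' (π b)) = c b := fun b => hinj ((hα₀ _).symm.trans (hent _ _ (hπ b)))
  have hαs : Function.Surjective α := by
    intro x
    have hx : x ∈ α.range := by
      have : Subgroup.closure (Set.range c) ≤ α.range :=
        (Subgroup.closure_le _).2 (by rintro _ ⟨b, rfl⟩; exact ⟨_, hαc b⟩)
      exact this (hgen ▸ Subgroup.mem_top x)
    exact hx
  let eα : M ≃* M := MulEquiv.ofBijective α ⟨Finite.injective_iff_surjective.2 hαs, hαs⟩
  let Θ : MonoidAlgebra k M →ₐ[k] MonoidAlgebra k M :=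
    MonoidAlgebra.lift k _ M ((MonoidAlgebra.of k M).comp eα.toMonoidHom)
  let Θ' : MonoidAlgebra k M →ₐ[k] MonoidAlgebra k M :=
    MonoidAlgebra.lift k _ M ((MonoidAlgebra.of k M).comp eα.symm.toMonoidHom)
  let iΘ : CoactBr.sp k (MonoidAlgebra k M) ≅ CoactBr.sp k (MonoidAlgebra k M) :=
    ⟨CoactBr.pt Θ, CoactBr.pt Θ',
      by
        rw [← CoactBr.pt_comp, ← CoactBr.pt_id]
        exact congrArg CoactBr.pt (hom_ext_of _ _ fun x => by simp [Θ, Θ']),
      by
        rw [← CoactBr.pt_comp, ← CoactBr.pt_id]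
        exact congrArg CoactBr.pt (hom_ext_of _ _ fun x => by simp [Θ, Θ'])⟩
  let Q : Matrix (Fin m) (Fin m) k := (1 : Matrix (Fin m) (Fin m) k).submatrix id π
  let G₀ := E' * Q * C
  have hG₀ : IsUnit G₀.det := by
    rw [Matrix.det_mul, Matrix.det_mul]
    refine IsUnit.mul (IsUnit.mul (IsUnit.of_mul_eq_one C'.det (by rw [← Matrix.det_mul, hEC', Matrix.det_one])) ?_) hC
    rw [Matrix.det_permute', Matrix.det_one, _root_.mul_one]
    exact (Units.isUnit _).map (Int.castRingHom k)
  let t : 𝟙_ (Over (Spec (CommRingCat.of k))) ⟶ CoactBr.sp k k := Over.homMk (𝟙 _) (by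
    show 𝟙 _ ≫ Spec.map (CommRingCat.ofHom (algebraMap k k)) = 𝟙 _
    rw [Category.id_comp, Algebra.algebraMap_self,
      show CommRingCat.ofHom (RingHom.id k) = 𝟙 (CommRingCat.of k) from rfl, Spec.map_id])
  let g₀ : 𝟙_ (Over (Spec (CommRingCat.of k))) ⟶ CoactBr.sp k (CoordGrp.GLn m k) :=
    t ≫ CoactBr.pt (H20HM.glPt (k := k) G₀ hG₀).ofConv
  refine ⟨g₀, (asIso dσ).symm ≪≫ iΘ ≪≫ asIso dτ, ?_⟩
  rw [← cancel_epi dσ, AGF.conjBy, MonObj.comp_mul, MonObj.comp_mul, GrpObj.comp_inv]
  have hu : dσ ≫ toUnit σ ≫ g₀ =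
      CoactBr.pt (Algebra.ofId k (MonoidAlgebra k M)) ≫ CoactBr.pt (H20HM.glPt (k := k) G₀ hG₀).ofConv := by
    show dσ ≫ toUnit σ ≫ t ≫ _ = _
    rw [← Category.assoc (toUnit σ), ← Category.assoc dσ]
    refine congrArg (· ≫ _) (Over.OverMorphism.ext ?_)
    show dσ.left ≫ σ.hom ≫ 𝟙 _ = Spec.map (CommRingCat.ofHom (algebraMap k (MonoidAlgebra k M)))
    rw [Category.comp_id]
    exact Over.w dσ
  have hr : dσ ≫ ((asIso dσ).symm ≪≫ iΘ ≪≫ asIso dτ).hom ≫ j = CoactBr.pt Θ ≫ (dτ ≫ j) := by
    simp [iΘ]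
  rw [hu, hr, mul_inv_eq_iff_eq_mul]
  refine ptMat_inj k m ?_
  rw [ptMat_mul, ptMat_mul, ptMat_comp, ptMat_comp, ptMat_pt, WithConv.toConv_ofConv, H20HM.glMat_glPt]
  have f3 : C'.map ι' * E'.map ι' = 1 ∧ E'.map ι' * C'.map ι' = 1 := by
    constructor
    · rw [← Matrix.map_mul, hCE', Matrix.map_one _ (map_zero _) (map_one _)]
    · rw [← Matrix.map_mul, hEC', Matrix.map_one _ (map_zero _) (map_one _)]
  have f4 : (ptMat k m (dτ ≫ j)).map Θ = E'.map ι' * (monoDiag k c').map Θ * C'.map ι' := by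
    have := congrArg (fun z => z.map Θ) hCU'
    simp only [Matrix.map_mul] at this
    have hfix : ∀ A : Matrix (Fin m) (Fin m) k, (A.map (algebraMap k (MonoidAlgebra k M))).map Θ = A.map ι' :=
      fun A => by
        refine Matrix.ext fun a b => ?_
        exact Θ.commutes _
    rw [hfix] at this
    rw [Matrix.mul_assoc, ← this, ← Matrix.mul_assoc, f3.2, Matrix.one_mul]
  have f5 : Q.map ι' * monoDiag k c = (monoDiag k c').map Θ * Q.map ι' := by
    refine Matrix.ext fun a b => ?_
    rw [monoDiag, monoDiag, Matrix.mul_diagonal, Matrix.diagonal_map (map_zero Θ), Matrix.diagonal_mul]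
    have hΘ : ∀ b, Θ (MonoidAlgebra.single (c' (π b)) 1) = MonoidAlgebra.single (c b) 1 := fun b => by
      simp only [Θ, MonoidAlgebra.lift_single, one_smul]
      exact congrArg (MonoidAlgebra.of k M) (hαc b)
    by_cases hab : a = π b
    · subst hab
      simp [Q, hΘ, _root_.mul_comm]
    · simp [Q, hab]
  show G₀.map ι' * ptMat k m (dσ ≫ i) = (ptMat k m (dτ ≫ j)).map Θ * G₀.map ι'
  rw [f4, show G₀.map ι' = E'.map ι' * Q.map ι' * C.map ι' by simp only [G₀, Matrix.map_mul]]
  calc E'.map ι' * Q.map ι' * C.map ι' * ptMat k m (dσ ≫ i)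
      = E'.map ι' * (Q.map ι' * (C.map ι' * ptMat k m (dσ ≫ i))) := by simp only [Matrix.mul_assoc]
    _ = E'.map ι' * (monoDiag k c').map Θ * (Q.map ι' * C.map ι') := by
        rw [show C.map ι' * ptMat k m (dσ ≫ i) = monoDiag k c * C.map ι' from hCU, ← Matrix.mul_assoc (Q.map ι'), f5]
        simp only [Matrix.mul_assoc]
    _ = _ := by
        conv_lhs => rw [← Matrix.one_mul (Q.map ι'), ← f3.1]
        simp only [Matrix.mul_assoc]

end Groth.Agent.S19280
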