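import Groth.Statements.S19281
import Groth.Agent.H19Chev.MuGLn

set_option autoImplicit false
set_option maxHeartbeats 1000000
set_option synthInstance.maxHeartbeats 100000
set_option linter.style.haveILetI false
set_option backward.isDefEq.respectTransparency false
universe u
open CategoryTheory MonoidalCategory CartesianMonoidalCategory MonObj GrpObj AlgebraicGeometry
open AlgGrp

namespace Groth.Agent.S19281

open Groth.Agent Groth.Agent.H19Chev.MuGLn
open CategoryTheory.Limits
set_option synthInstance.maxHeartbeats 400000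
set_option backward.isDefEq.respectTransparency true
attribute [local instance 2000] Hom.group Hom.monoid


/-- Let `k` be a field with an algebraic closure `K`, `m ≥ 0`, `n > 0`, and let `σ'` be a closed
subgroup scheme of the base change of `GL_{m,k}` to `K` which is isomorphic as a `K`-group scheme to
`μ_n = D(ℤ/n)`. Then there are a closed subgroup scheme `σ` of `GL_{m,k}` isomorphic to `μ_n` over
`k`, a `K`-point `g` of `GL_m` and an isomorphism `σ' ≅ σ_K` through which conjugation by `g`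
carries the inclusion of `σ'` to the base change of the inclusion of `σ`. (This is the second
rationality condition, stated for all dual cyclic subgroups rather than only for those with a fixed
point on a given algebraic space, which is what the printed argument establishes and which gives the
printed statement for every action of `GL_m`.) -/
theorem result (k : Type u) [Field k]
    (K : Type u) [Field K] [Algebra k K] [IsAlgClosure k K] (m n : ℕ) (hn : 0 < n)
    (σ' : Over (Spec (CommRingCat.of K))) [GrpObj σ']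
    (i' : σ' ⟶ Red.bc (Spec.map (CommRingCat.ofHom (algebraMap k K))) (CoactBr.sp k (CoordGrp.GLn m k)))
    [IsMonHom i'] (hi' : IsClosedImmersion i'.left) (hσ' : Red.IsSplitTorusWith (ZMod n) σ') :
    ∃ (σ : Over (Spec (CommRingCat.of k))) (_ : GrpObj σ) (i : σ ⟶ CoactBr.sp k (CoordGrp.GLn m k))
      (_ : IsMonHom i), IsClosedImmersion i.left ∧ Red.IsSplitTorusWith (ZMod n) σ ∧
      ∃ (g : 𝟙_ (Over (Spec (CommRingCat.of K))) ⟶
          Red.bc (Spec.map (CommRingCat.ofHom (algebraMap k K))) (CoactBr.sp k (CoordGrp.GLn m k)))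
        (φ : σ' ≅ Red.bc (Spec.map (CommRingCat.ofHom (algebraMap k K))) σ),
        AGF.conjBy g i' = φ.hom ≫ (Over.pullback (Spec.map (CommRingCat.ofHom (algebraMap k K)))).map i := by
  classical
  haveI : NeZero n := ⟨hn.ne'⟩
  let e : Spec (CommRingCat.of K) ⟶ Spec (CommRingCat.of k) := Spec.map (CommRingCat.ofHom (algebraMap k K))
  let M := Multiplicative (ZMod n)
  obtain ⟨es⟩ := hσ'
  let e' : σ' ≅ Red.DS (Spec (CommRingCat.of K)) (ZMod n) := (Grp.forget _).mapIso es
  haveI : IsMonHom e'.inv := es.inv.hom.isMonHom_hom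
  haveI := H21Diag.isMonHom_diagToDS K (ZMod n)
  haveI := H21Diag.isIso_diagToDS K (ZMod n)
  obtain ⟨d, hd, hdiso⟩ : ∃ d : CoactBr.sp K (MonoidAlgebra K M) ⟶ σ', IsMonHom d ∧ IsIso d :=
    ⟨H21Diag.diagToDS K (ZMod n) ≫ e'.inv, inferInstance, inferInstance⟩
  haveI : IsMonHom (d ≫ i') := inferInstance
  let U := mat k m (d ≫ i')
  have hpm : ∀ {B : Type u} [CommRing B] [Algebra K B] (χ₁ χ₂ : M →* B),
      (CoactBr.pt (MonoidAlgebra.lift K B M χ₁) : CoactBr.sp K B ⟶ CoactBr.sp K (MonoidAlgebra K M)) *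
          CoactBr.pt (MonoidAlgebra.lift K B M χ₂) =
        CoactBr.pt (MonoidAlgebra.lift K B M (χ₁ * χ₂)) := by
    intro B _ _ χ₁ χ₂
    rw [CoactBr.pt_mul_pt]
    refine congrArg CoactBr.pt (hom_ext_of _ _ fun χ => ?_)
    simp [MonoidAlgebra.comul_single]
  have hhom : ∀ {B : Type u} [CommRing B] [Algebra K B] [Algebra k B] [IsScalarTower k K B] (χ₁ χ₂ : M →* B),
      U.map (MonoidAlgebra.lift K B M χ₁) * U.map (MonoidAlgebra.lift K B M χ₂) =
        U.map (MonoidAlgebra.lift K B M (χ₁ * χ₂)) := by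
    intro B _ _ _ _ χ₁ χ₂
    rw [← mat_comp, ← mat_comp, ← mat_comp, ← mat_mul, ← MonObj.mul_comp, hpm]
  have hone : U.map (MonoidAlgebra.lift K K M 1) = 1 := by
    rw [← mat_comp, show CoactBr.pt (MonoidAlgebra.lift K K M 1) = 1 by
      rw [CoactBr.one_eq_pt]
      refine congrArg CoactBr.pt (hom_ext_of _ _ fun χ => ?_)
      simp, MonObj.one_comp, mat_one]
  obtain ⟨c, C, hC, hCU⟩ := exists_diag_form U hone fun χ₁ χ₂ => hhom χ₁ χ₂
  obtain ⟨φ, hφ⟩ := exists_bialgHom (k := k) c
  let i₀ : CoactBr.sp k (MonoidAlgebra k M) ⟶ CoactBr.sp k (CoordGrp.GLn m k) :=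
    CoactBr.pt (φ : CoordGrp.GLn m k →ₐ[k] MonoidAlgebra k M)
  haveI hi₀ : IsMonHom i₀ := H20Red.isMonHom_pt φ
  -- comparison over K
  let incl : MonoidAlgebra k M →ₐ[k] MonoidAlgebra K M :=
    MonoidAlgebra.lift k (MonoidAlgebra K M) M (MonoidAlgebra.of K M)
  have hincl : incl.toRingHom = MonoidAlgebra.mapRingHom M (algebraMap k K) := by
    refine MonoidAlgebra.ringHom_ext (fun r => ?_) (fun χ => ?_) <;> simp [incl, Algebra.smul_def]
  let ρ : CoactBr.sp K (MonoidAlgebra K M) ⟶ Red.bc e (CoactBr.sp k (MonoidAlgebra k M)) :=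
    H21Diag.bcEquiv _ _ _ ((Jiso k).inv ≫ CoactBr.pt incl)
  haveI : IsIso ρ := by
    have hsq := exists_isPullback K incl.toRingHom hincl
    have hl : ρ.left = hsq.isoPullback.hom := by
      apply pullback.hom_ext
      · refine Eq.trans ?_ hsq.isoPullback_hom_fst.symm
        refine (H21Diag.bcEquiv_left_fst _ _ _ _).trans ?_
        exact Category.id_comp _
      · exact (Over.w ρ).trans hsq.isoPullback_hom_snd.symm
    haveI : IsIso ρ.left := hl ▸ hsq.isoPullback.isIso_hom
    exact H21Diag.isIso_of_left ρ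
  let φiso : σ' ≅ Red.bc e (CoactBr.sp k (MonoidAlgebra k M)) := (asIso d).symm ≪≫ asIso ρ
  let t : 𝟙_ (Over (Spec (CommRingCat.of K))) ⟶ CoactBr.sp K K := Over.homMk (𝟙 _) (by
    show 𝟙 _ ≫ Spec.map (CommRingCat.ofHom (algebraMap K K)) = 𝟙 _
    rw [Category.id_comp, Algebra.algebraMap_self,
      show CommRingCat.ofHom (RingHom.id K) = 𝟙 (CommRingCat.of K) from rfl, Spec.map_id])
  let g : 𝟙_ (Over (Spec (CommRingCat.of K))) ⟶ GLK k K m := t ≫ ofMat k m C hC
  have hD : mat k m (ρ ≫ (Over.pullback e).map i₀) = monoDiag K c := by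
    have hg : gp k m (ρ ≫ (Over.pullback e).map i₀) =
        WithConv.toConv (incl.comp (φ : CoordGrp.GLn m k →ₐ[k] MonoidAlgebra k M)) := by
      refine WithConv.ofConv_injective (CoactBr.pt_injective ?_)
      rw [pt_gp, WithConv.ofConv_toConv, CoactBr.pt_comp]
      show (Jiso k).hom ≫ (H21Diag.bcEquiv _ _ _).symm (_ ≫ _) = _
      rw [H21Diag.bcEquiv, Adjunction.homEquiv_naturality_right_symm]
      show (Jiso k).hom ≫ (H21Diag.bcEquiv _ _ _).symm (H21Diag.bcEquiv _ _ _ _) ≫ i₀ = _
      rw [Equiv.symm_apply_apply, Category.assoc, Iso.hom_inv_id_assoc]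
    refine Matrix.ext fun i j => ?_
    rw [mat, hg, H20HM.glMat_comp, Matrix.map_apply]
    show incl (φ (CoordGrp.GLn.X i j)) = monoDiag K c i j
    rw [hφ]
    simp only [monoDiag, Matrix.diagonal_apply]
    split_ifs <;> simp [incl]
  have hconj : AGF.conjBy g i' = φiso.hom ≫ (Over.pullback e).map i₀ := by
    rw [← cancel_epi d]
    show d ≫ ((toUnit σ' ≫ g) * i' * (toUnit σ' ≫ g)⁻¹) = d ≫ ((CategoryTheory.inv d ≫ ρ) ≫ _)
    rw [MonObj.comp_mul, MonObj.comp_mul, GrpObj.comp_inv, Category.assoc, IsIso.hom_inv_id_assoc]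
    have hu : d ≫ toUnit σ' ≫ g = CoactBr.pt (Algebra.ofId K (MonoidAlgebra K M)) ≫ ofMat k m C hC := by
      show d ≫ toUnit σ' ≫ t ≫ _ = _
      rw [← Category.assoc (toUnit σ'), ← Category.assoc d]
      refine congrArg (· ≫ _) (Over.OverMorphism.ext ?_)
      show d.left ≫ σ'.hom ≫ 𝟙 _ = Spec.map (CommRingCat.ofHom (algebraMap K (MonoidAlgebra K M)))
      rw [Category.comp_id]
      exact Over.w d
    rw [hu, mul_inv_eq_iff_eq_mul]
    refine mat_inj k m ?_
    rw [mat_mul, mat_mul, mat_comp, mat_ofMat, hD]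
    exact hCU
  -- the subgroup is closed
  have hgen : Subgroup.closure (Set.range c) = (⊤ : Subgroup M) := by
    set H := Subgroup.closure (Set.range c) with hH
    let χ : M →* MonoidAlgebra K (M ⧸ H) := (MonoidAlgebra.of K (M ⧸ H)).comp (QuotientGroup.mk' H)
    have hDmap : ∀ ψ : M →* MonoidAlgebra K (M ⧸ H), (∀ i, ψ (c i) = 1) →
        C.map (algebraMap K (MonoidAlgebra K (M ⧸ H))) * U.map (MonoidAlgebra.lift K _ M ψ) =
          C.map (algebraMap K (MonoidAlgebra K (M ⧸ H))) := by
      intro ψ hψ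
      have h := congrArg (fun z => z.map (MonoidAlgebra.lift K _ M ψ)) hCU
      have hD1 : (monoDiag K c).map (MonoidAlgebra.lift K _ M ψ) = 1 := by
        rw [monoDiag, Matrix.diagonal_map (map_zero _), ← Matrix.diagonal_one]
        congr 1
        funext i
        rw [MonoidAlgebra.lift_single, one_smul, hψ]
      simp only [Matrix.map_mul, Matrix.map_map, hD1, Matrix.one_mul, ← AlgHom.coe_comp] at h
      rwa [show ∀ f : MonoidAlgebra K M →ₐ[K] MonoidAlgebra K (M ⧸ H),
        ⇑f ∘ ⇑(algebraMap K (MonoidAlgebra K M)) = ⇑(algebraMap K (MonoidAlgebra K (M ⧸ H))) from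
          fun f => funext f.commutes] at h
    have hCu : IsUnit (C.map (algebraMap K (MonoidAlgebra K (M ⧸ H)))) :=
      ((Matrix.isUnit_iff_isUnit_det _).2 hC).map (algebraMap K (MonoidAlgebra K (M ⧸ H))).mapMatrix
    have hcancel := hCu.mul_left_cancel ((hDmap χ fun i =>
      (congrArg (MonoidAlgebra.of K (M ⧸ H)) ((QuotientGroup.eq_one_iff _).2
        (Subgroup.subset_closure ⟨i, rfl⟩))).trans (map_one _)).trans (hDmap 1 fun i => rfl).symm)
    haveI := hi'
    haveI : Mono i'.left := inferInstance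
    haveI : Mono i' := Over.mono_of_mono_left _
    have h1 : CoactBr.pt (MonoidAlgebra.lift K _ M χ) ≫ (d ≫ i') =
        CoactBr.pt (MonoidAlgebra.lift K _ M 1) ≫ (d ≫ i') :=
      mat_inj k m (by rw [mat_comp, mat_comp]; exact hcancel)
    have h2 := CoactBr.pt_injective ((cancel_mono (d ≫ i')).1 h1)
    refine eq_top_iff.2 fun x _ => (QuotientGroup.eq_one_iff x).1 ?_
    have h3 := AlgHom.congr_fun h2 (MonoidAlgebra.single x 1)
    rw [MonoidAlgebra.lift_single, MonoidAlgebra.lift_single, one_smul, one_smul] at h3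
    exact MonoidAlgebra.of_injective (h3.trans (map_one _).symm)
  haveI hcl : IsClosedImmersion i₀.left :=
    IsClosedImmersion.spec_of_surjective
      (CommRingCat.ofHom (φ : CoordGrp.GLn m k →ₐ[k] MonoidAlgebra k M).toRingHom)
      (surjective_of_generates hgen _ hφ)
  haveI := H21Diag.isMonHom_diagToDS k (ZMod n)
  haveI := H21Diag.isIso_diagToDS k (ZMod n)
  exact ⟨CoactBr.sp k (MonoidAlgebra k M), inferInstance, i₀, hi₀, hcl,
    ⟨Grp.mkIso' (asIso (H21Diag.diagToDS k (ZMod n)))⟩, g, φiso, hconj⟩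

end Groth.Agent.S19281
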