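import Groth.Statements.S19284
import Groth.Agent.H23Strong.Decomp
import Mathlib.FieldTheory.Normal.Closure
import Mathlib.RingTheory.IntegralDomain

set_option autoImplicit false
universe u
open NumberField
open scoped Pointwise

namespace Groth.Agent.S19284

/-- Let L/K be a finite extension of number fields and Ω an algebraic closure of K. Suppose that L/K is
almost abelian in the non-abelian way: for some prime number p there is a bijection between the set
of K-embeddings L → Ω and Z/p under which every K-automorphism of Ω acts by an affine transformation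
x ↦ a x + b with a ≠ 0, and L/K is not an abelian extension (it is not Galois with commutative
automorphism group). Then there is an intermediate extension K ⊂ E ⊂ Ω contained in the normal
closure of L, Galois over K with nontrivial cyclic group, such that for every finite place w of K
which is unramified in L (every prime of the integers of L above w has ramification index 1), either
E admits a K-algebra embedding into the completion K_w (since E/K is Galois: w splits completely in
E) or L admits a K-algebra embedding into K_w (L has a place of degree 1 over w). (Only finite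
places are treated here.) -/
theorem result (K L Ω : Type u) [Field K] [NumberField K]
    [Field L] [NumberField L] [Algebra K L] [Field Ω] [Algebra K Ω] [IsAlgClosure K Ω]
    (p : ℕ) (hp : p.Prime) (e : (L →ₐ[K] Ω) ≃ ZMod p)
    (haff : ∀ σ : Ω ≃ₐ[K] Ω, ∃ a b : ZMod p, a ≠ 0 ∧
      ∀ φ : L →ₐ[K] Ω, e (σ.toAlgHom.comp φ) = a * e φ + b)
    (hnab : IsGalois K L → ∃ σ τ : L ≃ₐ[K] L, σ * τ ≠ τ * σ) :
    ∃ E : IntermediateField K Ω, E ≤ IntermediateField.normalClosure K L Ω ∧
      FiniteDimensional K E ∧ IsGalois K E ∧ IsCyclic (E ≃ₐ[K] E) ∧ 1 < Module.finrank K E ∧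
      ∀ w : IsDedekindDomain.HeightOneSpectrum (NumberField.RingOfIntegers K),
        (∀ P : Ideal (NumberField.RingOfIntegers L), P.IsPrime → P.LiesOver w.asIdeal →
          P.ramificationIdx (NumberField.RingOfIntegers K) = 1) →
        Nonempty (E →ₐ[K] w.adicCompletion K) ∨ Nonempty (L →ₐ[K] w.adicCompletion K) := by
  classical
  haveI := Fact.mk hp
  haveI : IsAlgClosed Ω := IsAlgClosure.isAlgClosed K
  haveI : FiniteDimensional K L := Module.Finite.of_restrictScalars_finite ℚ K L
  haveI : Algebra.IsAlgebraic K Ω := IsAlgClosure.isAlgebraic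
  haveI : IsGalois K Ω := inferInstance
  let N := IntermediateField.normalClosure K L Ω
  haveI : NumberField N := NumberField.of_module_finite K N
  haveI : IsGalois K N := inferInstance
  let ε : (L →ₐ[K] N) ≃ ZMod p := (normalClosure.algHomEquiv K L Ω).trans e
  have haffN : ∀ g : N ≃ₐ[K] N, ∃ a b : ZMod p, a ≠ 0 ∧ ∀ ψ : L →ₐ[K] N, ε (g.toAlgHom.comp ψ) = a * ε ψ + b := by
    intro g
    obtain ⟨a, b, ha, hab⟩ := haff (g.liftNormal Ω)
    refine ⟨a, b, ha, fun ψ => ?_⟩
    show e (N.val.comp (g.toAlgHom.comp ψ)) = a * e (N.val.comp ψ) + b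
    rw [← hab]
    congr 1
    refine AlgHom.ext fun x => ?_
    exact (AlgEquiv.liftNormal_commutes g Ω (ψ x)).symm
  choose A B hA hAB using haffN
  have huniq : ∀ (g : N ≃ₐ[K] N) (a b : ZMod p), (∀ ψ, ε (g.toAlgHom.comp ψ) = a * ε ψ + b) → A g = a ∧ B g = b := by
    intro g a b h
    have h0 := (hAB g (ε.symm 0)).symm.trans (h _)
    have h1 := (hAB g (ε.symm 1)).symm.trans (h _)
    rw [ε.apply_symm_apply, mul_zero, mul_zero, zero_add, zero_add] at h0
    rw [ε.apply_symm_apply, mul_one, mul_one, h0] at h1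
    exact ⟨add_right_cancel h1, h0⟩
  let Ahom : (N ≃ₐ[K] N) →* (ZMod p)ˣ := MonoidHom.mk' (fun g => Units.mk0 (A g) (hA g)) fun g g' => by
    refine Units.ext (huniq (g * g') (A g * A g') (A g * B g' + B g) fun ψ => ?_).1
    have := hAB g (g'.toAlgHom.comp ψ)
    rw [hAB g' ψ] at this
    rw [show (g * g').toAlgHom.comp ψ = g.toAlgHom.comp (g'.toAlgHom.comp ψ) from AlgHom.ext fun _ => rfl, this]
    ring
  -- faithfulness
  have hfaith : ∀ g : N ≃ₐ[K] N, (∀ ψ : L →ₐ[K] N, g.toAlgHom.comp ψ = ψ) → g = 1 := by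
    intro g hg
    let S : IntermediateField K N := IntermediateField.fixedField (Subgroup.zpowers g)
    have hle : N ≤ IntermediateField.lift S := by
      refine iSup_le fun φ => ?_
      rintro y ⟨x, rfl⟩
      let ψ := (normalClosure.algHomEquiv K L Ω).symm φ
      show (φ x : Ω) ∈ IntermediateField.lift S
      refine ⟨ψ x, ?_, rfl⟩
      refine (IntermediateField.mem_fixedField_iff _ _).mpr fun f hf => ?_
      have hstab : g ∈ MulAction.stabilizer (N ≃ₐ[K] N) (ψ x) :=
        MulAction.mem_stabilizer_iff.mpr (by exact congrArg (fun χ : L →ₐ[K] N => χ x) (hg ψ))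
      exact MulAction.mem_stabilizer_iff.mp ((Subgroup.zpowers_le.mpr hstab) hf)
    refine AlgEquiv.ext fun y => ?_
    obtain ⟨z, hz, hzy⟩ := hle y.2
    obtain rfl : z = y := Subtype.ext hzy
    exact (IntermediateField.mem_fixedField_iff _ _).mp hz g (Subgroup.mem_zpowers g)
  -- some linear part is nontrivial
  have hA1 : ∃ g, Ahom g ≠ 1 := by
    by_contra hall
    push Not at hall
    have hA' : ∀ g, A g = 1 := fun g => congrArg Units.val (hall g)
    have hinj : Function.Injective B := by
      intro g g' h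
      refine eq_of_inv_mul_eq_one (hfaith _ fun ψ => ?_) |>.symm
      have h1 : g.toAlgHom.comp ψ = g'.toAlgHom.comp ψ := ε.injective (by rw [hAB, hAB, hA', hA', h])
      refine AlgHom.ext fun x => ?_
      show g'⁻¹ (g (ψ x)) = ψ x
      have h2 : g (ψ x) = g' (ψ x) := congrArg (fun χ : L →ₐ[K] N => χ x) h1
      rw [h2]
      exact g'.symm_apply_apply _
    have hB : ∀ g g', B (g * g') = B g + B g' := fun g g' => by
      refine (huniq (g * g') 1 (B g + B g') fun ψ => ?_).2
      have := hAB g (g'.toAlgHom.comp ψ)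
      rw [hAB g' ψ, hA', hA', one_mul, one_mul] at this
      rw [show (g * g').toAlgHom.comp ψ = g.toAlgHom.comp (g'.toAlgHom.comp ψ) from AlgHom.ext fun _ => rfl, this]
      ring
    have hN : Module.finrank K N ≤ Module.finrank K L := by
      rw [← IsGalois.card_aut_eq_finrank K N, ← AlgHom.card K L Ω, ← Nat.card_eq_fintype_card, Nat.card_congr e]
      exact Nat.card_le_card_of_injective B hinj
    let ψ₀ : L →ₐ[K] N := ε.symm 0
    have hbij : Function.Bijective ψ₀ := by
      have hN' : Module.finrank K L = Module.finrank K N :=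
        le_antisymm (LinearMap.finrank_le_finrank_of_injective (f := ψ₀.toLinearMap) ψ₀.toRingHom.injective) hN
      exact ⟨ψ₀.toRingHom.injective, (LinearMap.injective_iff_surjective_of_finrank_eq_finrank
        (f := ψ₀.toLinearMap) hN').mp ψ₀.toRingHom.injective⟩
    let E₀ := AlgEquiv.ofBijective ψ₀ hbij
    obtain ⟨σ, τ, hne⟩ := hnab (IsGalois.of_algEquiv E₀.symm)
    apply hne
    apply E₀.autCongr.injective
    rw [map_mul, map_mul]
    exact hinj (by rw [hB, hB, add_comm])
  obtain ⟨g₁, hg₁⟩ := hA1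
  let T := Ahom.ker
  let E₀ : IntermediateField K N := IntermediateField.fixedField T
  haveI : IsGalois K E₀ := IsGalois.of_fixedField_normal_subgroup T
  have hcyc : IsCyclic (E₀ ≃ₐ[K] E₀) := by
    haveI : IsCyclic ((N ≃ₐ[K] N) ⧸ T) := isCyclic_of_injective (QuotientGroup.kerLift Ahom)
      (QuotientGroup.kerLift_injective Ahom)
    exact (IsGalois.normalAutEquivQuotient T).isCyclic.mp inferInstance
  have hrank : 1 < Module.finrank K E₀ := by
    rcases Nat.lt_or_ge 1 (Module.finrank K E₀) with h | h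
    · exact h
    exfalso
    have hbot : E₀ = ⊥ := IntermediateField.finrank_eq_one_iff.mp (le_antisymm h Module.finrank_pos)
    have h1 : E₀.fixingSubgroup = T := IntermediateField.fixingSubgroup_fixedField T
    rw [hbot, IntermediateField.fixingSubgroup_bot] at h1
    exact hg₁ (MonoidHom.mem_ker.mp (show g₁ ∈ T by rw [← h1]; trivial))
  let f := IntermediateField.liftAlgEquiv E₀
  refine ⟨IntermediateField.lift E₀, IntermediateField.lift_le E₀, f.toLinearEquiv.finiteDimensional,
    IsGalois.of_algEquiv f, f.autCongr.isCyclic.mp hcyc, ?_, fun w hram => ?_⟩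
  · rwa [← f.toLinearEquiv.finrank_eq]
  obtain ⟨Q, hQ⟩ := Groth.Agent.H23Strong.exists_place_above (K := N) w
  have hI : Q.asIdeal.inertia (N ≃ₐ[K] N) = ⊥ := by
    rw [eq_bot_iff]
    intro σ hσ
    rw [Subgroup.mem_bot]
    exact hfaith σ fun ψ => AlgHom.ext fun x =>
      Groth.Agent.H23Strong.inertia_fixes_image w Q hQ hram ψ hσ x
  obtain ⟨ι⟩ := Groth.Agent.H23Strong.exists_algHom_fixedField_stabilizer w Q hQ
  set D := MulAction.stabilizer (N ≃ₐ[K] N) Q.asIdeal
  by_cases hDT : D ≤ T
  · exact Or.inl ⟨(ι.comp (IntermediateField.inclusion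
      (IntermediateField.fixedField_antitone hDT))).comp f.symm.toAlgHom⟩
  refine Or.inr ?_
  haveI : IsCyclic D := Groth.Agent.H23Strong.isCyclic_stabilizer w Q hQ hI
  obtain ⟨γ, hγ⟩ := IsCyclic.exists_generator (α := D)
  have hAγ : A (γ : N ≃ₐ[K] N) ≠ 1 := fun h => hDT fun σ hσ => by
    obtain ⟨m, hm⟩ := Subgroup.mem_zpowers_iff.mp (hγ ⟨σ, hσ⟩)
    refine MonoidHom.mem_ker.mpr ?_
    rw [show σ = (γ : N ≃ₐ[K] N) ^ m by rw [← SubgroupClass.coe_zpow, hm], map_zpow,
      show Ahom γ = 1 from Units.ext h, one_zpow]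
  let x₀ : ZMod p := B (γ : N ≃ₐ[K] N) / (1 - A (γ : N ≃ₐ[K] N))
  have hx₀ : A (γ : N ≃ₐ[K] N) * x₀ + B (γ : N ≃ₐ[K] N) = x₀ := by
    have h1 : 1 - A (γ : N ≃ₐ[K] N) ≠ 0 := sub_ne_zero.mpr (Ne.symm hAγ)
    rw [eq_div_iff h1, add_mul, mul_assoc, div_mul_cancel₀ _ h1]
    ring
  let ψ := ε.symm x₀
  have hfixγ : (γ : N ≃ₐ[K] N).toAlgHom.comp ψ = ψ := ε.injective (by rw [hAB, ε.apply_symm_apply, hx₀])
  have hmem : ∀ x, ψ x ∈ IntermediateField.fixedField D := fun x =>
    (IntermediateField.mem_fixedField_iff _ _).mpr fun σ hσ => by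
      have hstab : γ ∈ (MulAction.stabilizer (N ≃ₐ[K] N) (ψ x)).subgroupOf D :=
        MulAction.mem_stabilizer_iff.mpr (by exact congrArg (fun χ : L →ₐ[K] N => χ x) hfixγ)
      exact MulAction.mem_stabilizer_iff.mp (Subgroup.mem_subgroupOf.mp
        ((Subgroup.zpowers_le.mpr hstab) (hγ ⟨σ, hσ⟩)))
  exact ⟨ι.comp (ψ.codRestrict (IntermediateField.fixedField D).toSubalgebra hmem)⟩

end Groth.Agent.S19284
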