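import Groth.Statements.S19285
import Groth.Agent.H23Strong.Value

set_option autoImplicit false
universe u
open scoped TensorProduct
open NumberField

namespace Groth.Agent.S19285

/-- A conjectured statement on locally split values of the polynomials t − a_i holds unconditionally
when the degrees [k_i : k] sum to at most 2. Precisely: let k be a number field, n ≥ 1, and for each
i let k_i = k(a_i) be a finite extension generated by a_i, the minimal polynomials of the a_i over k
being pairwise distinct and the degrees [k_i : k] summing to at most 2; let L_i/k_i be finite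
extensions and b_i ∈ k_i nonzero. Let S_f, S_∞ be finite sets of finite and infinite places of k
such that S_∞ contains every real place and S_f contains every finite place of k below a finite
place of some k_i at which b_i is not a unit or below a prime of some L_i ramified over k_i. For v ∈
S_f ∪ S_∞ let t_v ∈ k_v, with an open neighbourhood U_v, be such that for every i the element b_i
(t_v − a_i) of k_v ⊗_k k_i is the norm of a unit of the (k_v ⊗_k k_i)-algebra k_v ⊗_k L_i. Then
there is t_0 ∈ k whose image lies in U_v for all v ∈ S_f ∪ S_∞ and such that for every i and every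
finite place w of k_i at which t_0 − a_i has positive valuation, either w lies above a place of S_f
or L_i admits a k_i-algebra embedding into the completion (k_i)_w (a place of L_i of degree 1 over
w). -/
theorem result (k : Type u) [Field k] [NumberField k]
    (n : ℕ) (hn : 1 ≤ n)
    (kf : Fin n → Type u) [∀ i, Field (kf i)] [∀ i, NumberField (kf i)] [∀ i, Algebra k (kf i)]
    (Lf : Fin n → Type u) [∀ i, Field (Lf i)] [∀ i, NumberField (Lf i)] [∀ i, Algebra (kf i) (Lf i)]
    [∀ i, Algebra k (Lf i)] [∀ i, IsScalarTower k (kf i) (Lf i)]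
    (a : (i : Fin n) → kf i) (ha : ∀ i, IntermediateField.adjoin k {a i} = ⊤)
    (hdist : ∀ i j, i ≠ j → minpoly k (a i) ≠ minpoly k (a j))
    (hdeg : ∑ i, Module.finrank k (kf i) ≤ 2)
    (b : (i : Fin n) → kf i) (hb : ∀ i, b i ≠ 0)
    (Sf : Finset (IsDedekindDomain.HeightOneSpectrum (NumberField.RingOfIntegers k)))
    (Si : Finset (NumberField.InfinitePlace k))
    (hSreal : ∀ w : NumberField.InfinitePlace k, w.IsReal → w ∈ Si)
    (hSb : ∀ i, ∀ W : IsDedekindDomain.HeightOneSpectrum (NumberField.RingOfIntegers (kf i)),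
      W.valuation (kf i) (b i) ≠ 1 → ∃ v ∈ Sf, W.asIdeal.LiesOver v.asIdeal)
    (hSram : ∀ i, ∀ Q : Ideal (NumberField.RingOfIntegers (Lf i)), Q.IsPrime → Q ≠ ⊥ →
      Q.ramificationIdx (NumberField.RingOfIntegers (kf i)) ≠ 1 → ∃ v ∈ Sf, Q.LiesOver v.asIdeal)
    (tf : (v : IsDedekindDomain.HeightOneSpectrum (NumberField.RingOfIntegers k)) → v.adicCompletion k)
    (ti : (w : NumberField.InfinitePlace k) → w.Completion)
    (htf : ∀ i, ∀ v ∈ Sf,
      letI := (Algebra.TensorProduct.map (AlgHom.id k (v.adicCompletion k))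
        (IsScalarTower.toAlgHom k (kf i) (Lf i))).toRingHom.toAlgebra
      ∃ x : (v.adicCompletion k) ⊗[k] Lf i, IsUnit x ∧
        Algebra.norm ((v.adicCompletion k) ⊗[k] kf i) x =
          (1 : v.adicCompletion k) ⊗ₜ[k] b i * (tf v ⊗ₜ[k] (1 : kf i) - (1 : v.adicCompletion k) ⊗ₜ[k] a i))
    (hti : ∀ i, ∀ w ∈ Si,
      letI := (Algebra.TensorProduct.map (AlgHom.id k w.Completion)
        (IsScalarTower.toAlgHom k (kf i) (Lf i))).toRingHom.toAlgebra
      ∃ x : w.Completion ⊗[k] Lf i, IsUnit x ∧
        Algebra.norm (w.Completion ⊗[k] kf i) x =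
          (1 : w.Completion) ⊗ₜ[k] b i * (ti w ⊗ₜ[k] (1 : kf i) - (1 : w.Completion) ⊗ₜ[k] a i))
    (Uf : (v : IsDedekindDomain.HeightOneSpectrum (NumberField.RingOfIntegers k)) → Set (v.adicCompletion k))
    (hUf : ∀ v ∈ Sf, IsOpen (Uf v) ∧ tf v ∈ Uf v)
    (Ui : (w : NumberField.InfinitePlace k) → Set w.Completion)
    (hUi : ∀ w ∈ Si, IsOpen (Ui w) ∧ ti w ∈ Ui w) :
    ∃ t₀ : k, (∀ v ∈ Sf, algebraMap k (v.adicCompletion k) t₀ ∈ Uf v) ∧
      (∀ w ∈ Si, algebraMap k w.Completion t₀ ∈ Ui w) ∧
      ∀ i, ∀ W : IsDedekindDomain.HeightOneSpectrum (NumberField.RingOfIntegers (kf i)),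
        W.valuation (kf i) (algebraMap k (kf i) t₀ - a i) < 1 →
          (∃ v ∈ Sf, W.asIdeal.LiesOver v.asIdeal) ∨ Nonempty (Lf i →ₐ[kf i] W.adicCompletion (kf i)) := by
  classical
  have hpos : ∀ i, 1 ≤ Module.finrank k (kf i) := fun i => Module.finrank_pos
  have hn2 : n ≤ 2 := le_trans (by
    have := Finset.sum_le_sum (s := Finset.univ) fun i _ => hpos i
    simpa using this) hdeg
  have hsurj : ∀ i, Module.finrank k (kf i) = 1 → Function.Surjective (algebraMap k (kf i)) := fun i hi =>
    (LinearMap.injective_iff_surjective_of_finrank_eq_finrank (f := Algebra.linearMap k (kf i))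
      (by rw [hi, Module.finrank_self])).mp (algebraMap k (kf i)).injective
  obtain ⟨Xl, Yl, x₀, y₀, hid, hX1, hXa, hY1, hYa⟩ : ∃ (Xl Yl : (∀ i, kf i) →ₗ[k] k) (x₀ : k) (y₀ : ℤ),
      (∀ (z : ∀ i, kf i) i,
        z i = algebraMap k (kf i) (Xl z + x₀) + algebraMap k (kf i) (Yl z + y₀) * a i) ∧
      Xl 1 = 1 ∧ Xl a = x₀ ∧ Yl 1 = 0 ∧ Yl a = 1 + y₀ := by
    have hsum : n ≤ ∑ i, Module.finrank k (kf i) := by
      have := Finset.sum_le_sum (s := Finset.univ) fun i _ => hpos i
      simpa using this
    by_cases hd : ∑ i, Module.finrank k (kf i) = 2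
    · let Ψ : k × k →ₗ[k] ∀ i, kf i :=
        (LinearMap.fst k k k).smulRight 1 + (LinearMap.snd k k k).smulRight a
      have hΨ : ∀ p i, Ψ p i = algebraMap k (kf i) p.1 + algebraMap k (kf i) p.2 * a i := fun p i => by
        simp [Ψ, Algebra.smul_def]
      have hinj : Function.Injective Ψ := by
        refine (injective_iff_map_eq_zero Ψ).mpr fun ⟨X, Y⟩ h => ?_
        have h' : ∀ i, algebraMap k (kf i) X + algebraMap k (kf i) Y * a i = 0 := fun i => by
          rw [← hΨ (X, Y) i, h, Pi.zero_apply]
        by_cases hY : Y = 0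
        · have := h' ⟨0, hn⟩
          rw [hY, map_zero, zero_mul, add_zero, map_eq_zero_iff _ (algebraMap k _).injective] at this
          rw [this, hY]; rfl
        exfalso
        have ha' : ∀ i, a i = algebraMap k (kf i) (-X / Y) := fun i => by
          rw [map_div₀, map_neg, eq_div_iff ((map_ne_zero_iff _ (algebraMap k (kf i)).injective).mpr hY)]
          linear_combination h' i
        have h1 : ∀ i, Module.finrank k (kf i) = 1 := fun i => by
          have hbot : IntermediateField.adjoin k {a i} = ⊥ := by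
            rw [IntermediateField.adjoin_simple_eq_bot_iff, IntermediateField.mem_bot]
            exact ⟨-X / Y, (ha' i).symm⟩
          rw [← IntermediateField.finrank_top', ← ha i, hbot, IntermediateField.finrank_bot]
        have hn' : n = 2 := by simpa [h1] using hd
        subst hn'
        exact hdist 0 1 (by decide) (by rw [ha' 0, ha' 1, minpoly.eq_X_sub_C, minpoly.eq_X_sub_C])
      have hbij : Function.Bijective Ψ := ⟨hinj, (LinearMap.injective_iff_surjective_of_finrank_eq_finrank
        (by rw [Module.finrank_prod, Module.finrank_self, Module.finrank_pi_fintype, hd])).mp hinj⟩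
      let E := LinearEquiv.ofBijective Ψ hbij
      have h1 : E.symm 1 = (1, 0) := (LinearEquiv.symm_apply_eq E).mpr (funext fun i => by simp [E, hΨ])
      have h2 : E.symm a = (0, 1) := (LinearEquiv.symm_apply_eq E).mpr (funext fun i => by simp [E, hΨ])
      refine ⟨(LinearMap.fst k k k).comp E.symm.toLinearMap, (LinearMap.snd k k k).comp E.symm.toLinearMap, 0, 0,
        fun z i => ?_, ?_, ?_, ?_, ?_⟩
      · rw [Int.cast_zero, add_zero, add_zero]
        conv_lhs => rw [← E.apply_symm_apply z]
        exact hΨ _ i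
      all_goals simp [h1, h2]
    · have hn1 : n = 1 := by omega
      subst hn1
      have hr : Module.finrank k (kf 0) = 1 := by
        rw [Fin.sum_univ_one] at hsum hdeg hd
        omega
      let E := LinearEquiv.ofBijective (Algebra.linearMap k (kf 0))
        ⟨(algebraMap k (kf 0)).injective, hsurj 0 hr⟩
      let Xl : (∀ i, kf i) →ₗ[k] k := E.symm.toLinearMap.comp (LinearMap.proj 0)
      have hXl : ∀ z, algebraMap k (kf 0) (Xl z) = z 0 := fun z => E.apply_symm_apply (z 0)
      refine ⟨Xl, 0, Xl a, -1, fun z i => ?_, ?_, rfl, rfl, by simp⟩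
      · obtain rfl := Subsingleton.elim i 0
        rw [LinearMap.zero_apply, zero_add, map_add, hXl, hXl, Int.cast_neg, Int.cast_one, map_neg, map_one]
        ring
      · apply (algebraMap k (kf 0)).injective
        rw [hXl, map_one, Pi.one_apply]
  have hSb' : ∀ i, ∀ W : IsDedekindDomain.HeightOneSpectrum (RingOfIntegers (kf i)),
      H23Strong.placeUnder k W ∉ Sf → W.valuation (kf i) (b i) = 1 := fun i W hW => by
    by_contra hne
    obtain ⟨v, hv, hWv⟩ := hSb i W hne
    exact hW (H23Strong.placeUnder_eq hWv ▸ hv)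
  have hSram' : ∀ i, ∀ W : IsDedekindDomain.HeightOneSpectrum (RingOfIntegers (kf i)),
      H23Strong.placeUnder k W ∉ Sf → ∀ Q : Ideal (RingOfIntegers (Lf i)), Q.IsPrime → Q.LiesOver W.asIdeal →
        Q.ramificationIdx (RingOfIntegers (kf i)) = 1 := fun i W hW Q hQ hQW => by
    by_contra hne
    haveI := hQW
    have hQ0 : Q ≠ ⊥ := fun h => W.ne_bot (by
      rw [Ideal.LiesOver.over (P := Q) (p := W.asIdeal), h]; exact Ideal.under_bot _ _)
    obtain ⟨v, hv, hQv⟩ := hSram i Q hQ hQ0 hne
    haveI := hQv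
    exact hW (H23Strong.placeUnder_eq (Ideal.LiesOver.tower_bot Q W.asIdeal v.asIdeal) ▸ hv)
  obtain ⟨t₀, h1, h2, h3⟩ := H23Strong.exists_value kf Lf a b hb Xl Yl x₀ y₀ hid hX1 hXa hY1 hYa Sf Si hSb' hSram'
    tf ti (fun i v hv => (htf i v hv).imp fun x hx => hx.2) (fun i w hw => (hti i w hw).imp fun x hx => hx.2)
    Uf (fun v hv => (hUf v hv).1.mem_nhds (hUf v hv).2) Ui (fun w hw => (hUi w hw).1.mem_nhds (hUi w hw).2)
  exact ⟨t₀, h1, h2, fun i W hW => (h3 i W hW).imp_left fun h => ⟨_, h, H23Strong.liesOver_placeUnder W⟩⟩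

end Groth.Agent.S19285
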