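import Groth.Statements.S19286
import Groth.Agent.H23Strong.Moebius

set_option autoImplicit false
universe u
open scoped TensorProduct
open NumberField WithZero
set_option maxHeartbeats 1000000

namespace Groth.Agent.S19286

/-- Invariance, under a linear change of coordinate on the projective line, of the hypotheses (the data
listed next) of a conjecture on locally split values. Data: k a number field, n ≥ 1, k_i = k(a_i)
with pairwise distinct minimal polynomials, L_i/k_i finite, b_i ∈ k_i nonzero, finite sets S_f ⊇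
(finite places below a non-unit place of some b_i or a ramified prime of some L_i/k_i), S_∞ ⊇ real
places, t_v ∈ k_v for v ∈ S_f ∪ S_∞ with b_i(t_v − a_i) the norm of a unit of k_v ⊗_k L_i over k_v
⊗_k k_i. Let α, β, γ, δ ∈ k with αδ − βγ ≠ 0 satisfy: (i) γa_i + δ ≠ 0 for all i and γt_v + δ ≠ 0
for v ∈ S_f ∪ S_∞; (ii) α is a unit at every finite place outside S_f and αa_i + β is a unit at
every finite place of k_i not above S_f; (iii) for every i and v ∈ S_f ∪ S_∞, (αδ − βγ)/(γt_v + δ)
is the norm of a unit of k_v ⊗_k L_i. Put a'_i = (αa_i + β)/(γa_i + δ), b'_i = b_i(γa_i + δ); let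
S'_f ⊇ S_f be a finite set of finite places containing those where α or γ is not integral and those
below a place of some k_i where a'_i is not integral or b'_i is not a unit; put t'_v = (αt_v +
β)/(γt_v + δ) for v ∈ S_f ∪ S_∞ and t'_v = 0 for v ∈ S'_f ∖ S_f; for t'_0 ∈ k with α ≠ γt'_0 write
t_0 = (δt'_0 − β)/(α − γt'_0). Then: (1) for every i and v ∈ S'_f ∪ S_∞, b'_i(t'_v − a'_i) is the
norm of a unit of k_v ⊗_k L_i over k_v ⊗_k k_i; (2) for v ∈ S_f ∪ S_∞ and every neighbourhood U of
t_v there is a neighbourhood U' of t'_v such that t'_0 ∈ U' forces t_0 ∈ U; (4) there are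
neighbourhoods U'_v of 0 in k_v for v ∈ S'_f ∖ S_f such that whenever t'_0 ∈ U'_v for all such v,
every finite place w of some k_i with w(t_0 − a_i) > 0 either lies above S_f, or does not lie above
S'_f and satisfies w(t'_0 − a'_i) > 0. (The published statement's S' may also contain further
infinite places, and it has a further conclusion on signs at real places; both are omitted here.) -/
theorem result (k : Type u) [Field k] [NumberField k]
    (n : ℕ) (hn : 1 ≤ n)
    (kf : Fin n → Type u) [∀ i, Field (kf i)] [∀ i, NumberField (kf i)] [∀ i, Algebra k (kf i)]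
    (Lf : Fin n → Type u) [∀ i, Field (Lf i)] [∀ i, NumberField (Lf i)] [∀ i, Algebra (kf i) (Lf i)]
    [∀ i, Algebra k (Lf i)] [∀ i, IsScalarTower k (kf i) (Lf i)]
    (a : (i : Fin n) → kf i) (ha : ∀ i, IntermediateField.adjoin k {a i} = ⊤)
    (hdist : ∀ i j, i ≠ j → minpoly k (a i) ≠ minpoly k (a j))
    (b : (i : Fin n) → kf i) (hb : ∀ i, b i ≠ 0)
    (Sf : Finset (IsDedekindDomain.HeightOneSpectrum (NumberField.RingOfIntegers k)))
    (Si : Finset (NumberField.InfinitePlace k))
    (hSreal : ∀ w : NumberField.InfinitePlace k, w.IsReal → w ∈ Si)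
    (hSb : ∀ i, ∀ W : IsDedekindDomain.HeightOneSpectrum (NumberField.RingOfIntegers (kf i)),
      W.valuation (kf i) (b i) ≠ 1 → ∃ v ∈ Sf, W.asIdeal.LiesOver v.asIdeal)
    (hSram : ∀ i, ∀ Q : Ideal (NumberField.RingOfIntegers (Lf i)), Q.IsPrime → Q ≠ ⊥ →
      Q.ramificationIdx (NumberField.RingOfIntegers (kf i)) ≠ 1 → ∃ v ∈ Sf, Q.LiesOver v.asIdeal)
    (tf : (v : IsDedekindDomain.HeightOneSpectrum (NumberField.RingOfIntegers k)) → v.adicCompletion k)
    (ti : (w : NumberField.InfinitePlace k) → w.Completion)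
    (htf : ∀ i, ∀ v ∈ Sf,
      letI := (Algebra.TensorProduct.map (AlgHom.id k (v.adicCompletion k))
        (IsScalarTower.toAlgHom k (kf i) (Lf i))).toRingHom.toAlgebra
      ∃ x : (v.adicCompletion k) ⊗[k] Lf i, IsUnit x ∧
        Algebra.norm ((v.adicCompletion k) ⊗[k] kf i) x =
          (1 : v.adicCompletion k) ⊗ₜ[k] b i * (tf v ⊗ₜ[k] (1 : kf i) - (1 : v.adicCompletion k) ⊗ₜ[k] a i))
    (hti : ∀ i, ∀ w ∈ Si,
      letI := (Algebra.TensorProduct.map (AlgHom.id k w.Completion)
        (IsScalarTower.toAlgHom k (kf i) (Lf i))).toRingHom.toAlgebra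
      ∃ x : w.Completion ⊗[k] Lf i, IsUnit x ∧
        Algebra.norm (w.Completion ⊗[k] kf i) x =
          (1 : w.Completion) ⊗ₜ[k] b i * (ti w ⊗ₜ[k] (1 : kf i) - (1 : w.Completion) ⊗ₜ[k] a i))
    (α β γ δ : k) (hdet : α * δ - β * γ ≠ 0)
    (hia : ∀ i, algebraMap k (kf i) γ * a i + algebraMap k (kf i) δ ≠ 0)
    (hitf : ∀ v ∈ Sf, algebraMap k (v.adicCompletion k) γ * tf v + algebraMap k (v.adicCompletion k) δ ≠ 0)
    (hiti : ∀ w ∈ Si, algebraMap k w.Completion γ * ti w + algebraMap k w.Completion δ ≠ 0)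
    (hiiα : ∀ v : IsDedekindDomain.HeightOneSpectrum (NumberField.RingOfIntegers k), v ∉ Sf → v.valuation k α = 1)
    (hiia : ∀ i, ∀ W : IsDedekindDomain.HeightOneSpectrum (NumberField.RingOfIntegers (kf i)),
      (¬ ∃ v ∈ Sf, W.asIdeal.LiesOver v.asIdeal) →
        W.valuation (kf i) (algebraMap k (kf i) α * a i + algebraMap k (kf i) β) = 1)
    (hiiif : ∀ i, ∀ v ∈ Sf,
      letI := (Algebra.TensorProduct.map (AlgHom.id k (v.adicCompletion k))
        (IsScalarTower.toAlgHom k (kf i) (Lf i))).toRingHom.toAlgebra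
      ∃ y : (v.adicCompletion k) ⊗[k] Lf i, IsUnit y ∧
        Algebra.norm ((v.adicCompletion k) ⊗[k] kf i) y =
          (algebraMap k (v.adicCompletion k) (α * δ - β * γ) /
            (algebraMap k (v.adicCompletion k) γ * tf v + algebraMap k (v.adicCompletion k) δ)) ⊗ₜ[k] (1 : kf i))
    (hiiii : ∀ i, ∀ w ∈ Si,
      letI := (Algebra.TensorProduct.map (AlgHom.id k w.Completion)
        (IsScalarTower.toAlgHom k (kf i) (Lf i))).toRingHom.toAlgebra
      ∃ y : w.Completion ⊗[k] Lf i, IsUnit y ∧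
        Algebra.norm (w.Completion ⊗[k] kf i) y =
          (algebraMap k w.Completion (α * δ - β * γ) /
            (algebraMap k w.Completion γ * ti w + algebraMap k w.Completion δ)) ⊗ₜ[k] (1 : kf i))
    (a' b' : (i : Fin n) → kf i)
    (ha' : ∀ i, a' i = (algebraMap k (kf i) α * a i + algebraMap k (kf i) β) /
      (algebraMap k (kf i) γ * a i + algebraMap k (kf i) δ))
    (hb' : ∀ i, b' i = b i * (algebraMap k (kf i) γ * a i + algebraMap k (kf i) δ))
    (Sf' : Finset (IsDedekindDomain.HeightOneSpectrum (NumberField.RingOfIntegers k))) (hSS' : Sf ⊆ Sf')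
    (hS'αγ : ∀ v : IsDedekindDomain.HeightOneSpectrum (NumberField.RingOfIntegers k), v ∉ Sf' →
      v.valuation k α ≤ 1 ∧ v.valuation k γ ≤ 1)
    (hS'ab : ∀ i, ∀ W : IsDedekindDomain.HeightOneSpectrum (NumberField.RingOfIntegers (kf i)),
      (¬ ∃ v ∈ Sf', W.asIdeal.LiesOver v.asIdeal) → W.valuation (kf i) (a' i) ≤ 1 ∧ W.valuation (kf i) (b' i) = 1)
    (tf' : (v : IsDedekindDomain.HeightOneSpectrum (NumberField.RingOfIntegers k)) → v.adicCompletion k)
    (htf'S : ∀ v ∈ Sf, tf' v = (algebraMap k (v.adicCompletion k) α * tf v + algebraMap k (v.adicCompletion k) β) /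
      (algebraMap k (v.adicCompletion k) γ * tf v + algebraMap k (v.adicCompletion k) δ))
    (htf'S' : ∀ v ∈ Sf', v ∉ Sf → tf' v = 0)
    (ti' : (w : NumberField.InfinitePlace k) → w.Completion)
    (hti' : ∀ w ∈ Si, ti' w = (algebraMap k w.Completion α * ti w + algebraMap k w.Completion β) /
      (algebraMap k w.Completion γ * ti w + algebraMap k w.Completion δ)) :
    (∀ i, ∀ v ∈ Sf',
      letI := (Algebra.TensorProduct.map (AlgHom.id k (v.adicCompletion k))
        (IsScalarTower.toAlgHom k (kf i) (Lf i))).toRingHom.toAlgebra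
      ∃ x : (v.adicCompletion k) ⊗[k] Lf i, IsUnit x ∧
        Algebra.norm ((v.adicCompletion k) ⊗[k] kf i) x =
          (1 : v.adicCompletion k) ⊗ₜ[k] b' i * (tf' v ⊗ₜ[k] (1 : kf i) - (1 : v.adicCompletion k) ⊗ₜ[k] a' i)) ∧
    (∀ i, ∀ w ∈ Si,
      letI := (Algebra.TensorProduct.map (AlgHom.id k w.Completion)
        (IsScalarTower.toAlgHom k (kf i) (Lf i))).toRingHom.toAlgebra
      ∃ x : w.Completion ⊗[k] Lf i, IsUnit x ∧
        Algebra.norm (w.Completion ⊗[k] kf i) x =
          (1 : w.Completion) ⊗ₜ[k] b' i * (ti' w ⊗ₜ[k] (1 : kf i) - (1 : w.Completion) ⊗ₜ[k] a' i)) ∧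
    (∀ v ∈ Sf, ∀ U : Set (v.adicCompletion k), IsOpen U → tf v ∈ U →
      ∃ U' : Set (v.adicCompletion k), IsOpen U' ∧ tf' v ∈ U' ∧
        ∀ t₀' : k, α ≠ γ * t₀' → algebraMap k (v.adicCompletion k) t₀' ∈ U' →
          algebraMap k (v.adicCompletion k) ((δ * t₀' - β) / (α - γ * t₀')) ∈ U) ∧
    (∀ w ∈ Si, ∀ U : Set w.Completion, IsOpen U → ti w ∈ U →
      ∃ U' : Set w.Completion, IsOpen U' ∧ ti' w ∈ U' ∧
        ∀ t₀' : k, α ≠ γ * t₀' → algebraMap k w.Completion t₀' ∈ U' →
          algebraMap k w.Completion ((δ * t₀' - β) / (α - γ * t₀')) ∈ U) ∧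
    (∃ U' : (v : IsDedekindDomain.HeightOneSpectrum (NumberField.RingOfIntegers k)) → Set (v.adicCompletion k),
      (∀ v ∈ Sf', v ∉ Sf → IsOpen (U' v) ∧ (0 : v.adicCompletion k) ∈ U' v) ∧
      ∀ t₀' : k, α ≠ γ * t₀' → (∀ v ∈ Sf', v ∉ Sf → algebraMap k (v.adicCompletion k) t₀' ∈ U' v) →
        ∀ i, ∀ W : IsDedekindDomain.HeightOneSpectrum (NumberField.RingOfIntegers (kf i)),
          W.valuation (kf i) (algebraMap k (kf i) ((δ * t₀' - β) / (α - γ * t₀')) - a i) < 1 →
            (∃ v ∈ Sf, W.asIdeal.LiesOver v.asIdeal) ∨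
            ((¬ ∃ v ∈ Sf', W.asIdeal.LiesOver v.asIdeal) ∧
              W.valuation (kf i) (algebraMap k (kf i) t₀' - a' i) < 1)) := by
  classical
  have hnot : ∀ i, ∀ W : IsDedekindDomain.HeightOneSpectrum (RingOfIntegers (kf i)), ∀ v,
      W.asIdeal.LiesOver v.asIdeal → ∀ S : Finset (IsDedekindDomain.HeightOneSpectrum (RingOfIntegers k)),
      v ∉ S → ¬ ∃ v' ∈ S, W.asIdeal.LiesOver v'.asIdeal := fun i W v hWv S hv ⟨v', hv', hWv'⟩ =>
    hv ((H23Strong.placeUnder_eq hWv).symm.trans (H23Strong.placeUnder_eq hWv') ▸ hv')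
  have hbW : ∀ i, ∀ W : IsDedekindDomain.HeightOneSpectrum (RingOfIntegers (kf i)),
      (¬ ∃ v ∈ Sf, W.asIdeal.LiesOver v.asIdeal) → W.valuation (kf i) (b i) = 1 := fun i W hW => by
    by_contra h
    exact hW (hSb i W h)
  refine ⟨fun i v hv => ?_, fun i w hw => ?_, fun v hv U hU htU => ?_, fun w hw U hU htU => ?_, ?_⟩
  · by_cases hvS : v ∈ Sf
    · letI := H23Strong.towerAlg k (kf i) (Lf i) (v.adicCompletion k)
      obtain ⟨x, hx, hNx⟩ := htf i v hvS
      obtain ⟨y, hy, hNy⟩ := hiiif i v hvS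
      refine ⟨x * y, hx.mul hy, ?_⟩
      rw [map_mul, hNx, hNy]
      exact H23Strong.moebius_identity α β γ δ (a i) (b i) (tf v) (tf' v) (hitf v hvS) (hia i) (a' i) (b' i)
        (ha' i) (hb' i) (htf'S v hvS)
    · have hval : ∀ W : IsDedekindDomain.HeightOneSpectrum (RingOfIntegers (kf i)), W.asIdeal.LiesOver v.asIdeal →
          W.valuation (kf i) (-(b' i * a' i)) = 1 := fun W hW => by
        have h := hnot i W v hW Sf hvS
        rw [Valuation.map_neg, hb', ha', mul_assoc, mul_div_cancel₀ _ (hia i), map_mul, hbW i W h, hiia i W h,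
          one_mul]
      obtain ⟨x, hx, hNx⟩ := H23Strong.exists_norm_eq_at (L := Lf i) v (-(b' i * a' i)) hval
        (fun W hW Q hQ hQW => by
          by_contra hne
          haveI := hQW
          have hQ0 : Q ≠ ⊥ := fun h => W.ne_bot (by
            rw [Ideal.LiesOver.over (P := Q) (p := W.asIdeal), h]; exact Ideal.under_bot _ _)
          obtain ⟨v', hv', hQv⟩ := hSram i Q hQ hQ0 hne
          haveI := hQv
          exact hnot i W v hW Sf hvS ⟨v', hv', Ideal.LiesOver.tower_bot Q W.asIdeal v'.asIdeal⟩)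
      refine ⟨x, hx, hNx.trans ?_⟩
      rw [htf'S' v hv hvS]
      exact (H23Strong.moebius_zero (a' i) (b' i)).symm
  · letI := H23Strong.towerAlg k (kf i) (Lf i) w.Completion
    obtain ⟨x, hx, hNx⟩ := hti i w hw
    obtain ⟨y, hy, hNy⟩ := hiiii i w hw
    refine ⟨x * y, hx.mul hy, ?_⟩
    rw [map_mul, hNx, hNy]
    exact H23Strong.moebius_identity α β γ δ (a i) (b i) (ti w) (ti' w) (hiti w hw) (hia i) (a' i) (b' i)
      (ha' i) (hb' i) (hti' w hw)
  · exact H23Strong.exists_moebius_nhd α β γ δ hdet (tf v) (tf' v) (hitf v hv) (htf'S v hv) U hU htU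
  · exact H23Strong.exists_moebius_nhd α β γ δ hdet (ti w) (ti' w) (hiti w hw) (hti' w hw) U hU htU
  let c : ∀ i, kf i := fun i => algebraMap k (kf i) γ * a i + algebraMap k (kf i) δ
  let e : IsDedekindDomain.HeightOneSpectrum (RingOfIntegers k) → ℕ := fun v =>
    1 + (log (v.valuation k γ)).natAbs +
      ∑ i, ∑ W ∈ (H23Strong.finite_above (K := kf i) v).toFinset, (log (W.valuation (kf i) (c i))).natAbs
  refine ⟨fun v => interior {s | Valued.v s ≤ exp (-(e v : ℤ))}, fun v _ _ => ⟨isOpen_interior, ?_⟩,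
    fun t₀' hne hsmall i W hW => ?_⟩
  · rw [mem_interior_iff_mem_nhds]
    simpa using H23Strong.ball_mem_nhds (0 : v.adicCompletion k) (e v)
  by_cases hS : ∃ v ∈ Sf, W.asIdeal.LiesOver v.asIdeal
  · exact Or.inl hS
  refine Or.inr ?_
  set v := H23Strong.placeUnder k W with hvdef
  have hWv : W.asIdeal.LiesOver v.asIdeal := H23Strong.liesOver_placeUnder W
  have hvS : v ∉ Sf := fun h => hS ⟨v, h, hWv⟩
  have hα : W.valuation (kf i) (algebraMap k (kf i) α) = 1 :=
    H23Strong.valuation_lift_eq_one hWv (hiiα v hvS)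
  have hαa := hiia i W hS
  set T := algebraMap k (kf i) t₀' with hT
  set den := algebraMap k (kf i) α - algebraMap k (kf i) γ * T with hden
  set num := T * c i - (algebraMap k (kf i) α * a i + algebraMap k (kf i) β) with hnum
  have hden0 : den ≠ 0 := by
    rw [hden, hT, ← map_mul, ← map_sub, map_ne_zero_iff _ (algebraMap k (kf i)).injective]
    exact sub_ne_zero.mpr hne
  have hkey : algebraMap k (kf i) ((δ * t₀' - β) / (α - γ * t₀')) - a i = num / den := by
    rw [map_div₀, map_sub, map_sub, map_mul, map_mul, ← hT, ← hden, eq_div_iff hden0, sub_mul,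
      div_mul_cancel₀ _ hden0, hnum, hden]
    ring
  rw [hkey, map_div₀, div_lt_one₀ (zero_lt_iff.mpr ((Valuation.ne_zero_iff _).mpr hden0))] at hW
  by_cases hvS' : v ∈ Sf'
  · exfalso
    have ht : v.valuation k t₀' ≤ exp (-(e v : ℤ)) := by
      have h := interior_subset (s := {s : v.adicCompletion k | Valued.v s ≤ exp (-(e v : ℤ))})
        (hsmall v hvS' hvS)
      rw [Set.mem_ofPred_eq, H23Strong.valued_algebraMap] at h
      exact h
    have hWt : W.valuation (kf i) T ≤ exp (-(e v : ℤ)) := H23Strong.valuation_lift_le_exp hWv (e v) ht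
    have h1 : W.valuation (kf i) (T * c i) < 1 := by
      have hne' : W.valuation (kf i) (c i) ≠ 0 := (Valuation.ne_zero_iff _).mpr (hia i)
      have hb1 : (log (W.valuation (kf i) (c i))).natAbs ≤
          ∑ j, ∑ W ∈ (H23Strong.finite_above (K := kf j) v).toFinset, (log (W.valuation (kf j) (c j))).natAbs :=
        le_trans (Finset.single_le_sum (s := (H23Strong.finite_above (K := kf i) v).toFinset)
            (f := fun W : IsDedekindDomain.HeightOneSpectrum (RingOfIntegers (kf i)) =>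
              (log (W.valuation (kf i) (c i))).natAbs) (fun _ _ => Nat.zero_le _)
            ((Set.Finite.mem_toFinset _).mpr hvdef.symm))
          (Finset.single_le_sum (f := fun j => ∑ W ∈ (H23Strong.finite_above (K := kf j) v).toFinset,
            (log (W.valuation (kf j) (c j))).natAbs) (fun _ _ => Nat.zero_le _) (Finset.mem_univ i))
      rw [map_mul]
      refine lt_of_le_of_lt (mul_le_mul' hWt le_rfl) ?_
      rw [← exp_log hne', ← exp_add, ← exp_zero, exp_lt_exp]
      simp only [e]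
      omega
    have h2 : v.valuation k (γ * t₀') < 1 := by
      rw [map_mul]
      by_cases h0 : v.valuation k γ = 0
      · rw [h0, zero_mul]; exact zero_lt_one
      refine lt_of_le_of_lt (mul_le_mul' le_rfl ht) ?_
      rw [← exp_log h0, ← exp_add, ← exp_zero, exp_lt_exp]
      simp only [e]
      omega
    have h3 := H23Strong.valuation_lift_lt hWv h2
    rw [map_mul] at h3
    rw [hnum, hden, Valuation.map_sub_eq_of_lt_right _ (by rwa [hαa]), hαa,
      Valuation.map_sub_eq_of_lt_left _ (by rwa [hα]), hα] at hW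
    exact lt_irrefl _ hW
  have hS' : ¬ ∃ v' ∈ Sf', W.asIdeal.LiesOver v'.asIdeal := hnot i W v hWv Sf' hvS'
  refine ⟨hS', ?_⟩
  obtain ⟨haW, hb'W⟩ := hS'ab i W hS'
  have hγ : W.valuation (kf i) (algebraMap k (kf i) γ) ≤ 1 :=
    (H23Strong.valuation_lift_le_iff hWv γ).mpr (hS'αγ v hvS').2
  have hc : W.valuation (kf i) (c i) = 1 := by
    rw [hb' i, map_mul, hbW i W hS, one_mul] at hb'W
    exact hb'W
  have hTa : W.valuation (kf i) (T - a' i) = W.valuation (kf i) num := by
    have : num = (T - a' i) * c i := by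
      rw [sub_mul, ha' i, div_mul_cancel₀ _ (hia i)]
    rw [this, map_mul, hc, mul_one]
  rw [hTa]
  by_cases hT1 : W.valuation (kf i) T ≤ 1
  · refine lt_of_lt_of_le hW (Valuation.map_sub_le _ hα.le ?_)
    rw [map_mul]
    exact mul_le_one₀ hγ zero_le hT1
  · exfalso
    rw [not_le] at hT1
    rw [← hTa, Valuation.map_sub_eq_of_lt_left _ (lt_of_le_of_lt haW hT1)] at hW
    refine absurd hW (not_lt.mpr (Valuation.map_sub_le _ (hα.le.trans hT1.le) ?_))
    rw [map_mul]
    exact mul_le_of_le_one_left zero_le hγ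

end Groth.Agent.S19286
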