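import Groth.Statements.S19288
import Groth.Agent.H19Grp.Diagonal
import Groth.Agent.H19Grp.Basic
import Groth.Agent.H19Grp.HomUnramified

set_option autoImplicit false
universe u
open CategoryTheory CategoryTheory.Limits MonoidalCategory CartesianMonoidalCategory MonObj AlgebraicGeometry
open AbSch

namespace Groth.Agent.S19288

/-- Let S be a scheme, X a commutative S-group scheme which is etale and separated over S (hence locally
of finite presentation), and P a commutative S-group scheme of finite presentation over S all of
whose fibres are connected. Then every homomorphism of S-group schemes from P to X is trivial (it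
factors through the unit section). -/
theorem result {S : Scheme.{u}} (P X : Over S)
    [GrpObj P] [IsCommMonObj P] [GrpObj X] [IsCommMonObj X]
    [Etale X.hom] [IsSeparated X.hom]
    [QuasiCompact P.hom] [QuasiSeparated P.hom] [LocallyOfFinitePresentation P.hom]
    (hP : ∀ s : S, ConnectedSpace ↥(P.hom.fiber s))
    (f : P ⟶ X) [IsMonHom f] : f = 1 := by
  have hu : FormallyUnramified X.hom := inferInstance
  haveI : IsOpenImmersion (η[X]).left := (H19Grp.formallyUnramified_iff_isOpenImmersion_one X).mp hu
  haveI : IsClosedImmersion (η[X]).left := H19Grp.isClosedImmersion_one_left X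
  have hrange : Set.range f.left ⊆ Set.range (η[X]).left := by
    rintro _ ⟨p, rfl⟩
    have hs : p ∈ Set.range (P.hom.fiberι (P.hom p)) := (P.hom.range_fiberι _).symm ▸ (rfl : P.hom p = P.hom p)
    obtain ⟨q, hq⟩ := hs
    haveI := hP (P.hom p)
    let g := P.hom.fiberι (P.hom p) ≫ f.left
    have hcl : IsClopen (g ⁻¹' Set.range (η[X]).left) :=
      ⟨(η[X]).left.isClosedEmbedding.isClosed_range.preimage g.continuous,
        (η[X]).left.isOpenEmbedding.isOpen_range.preimage g.continuous⟩
    obtain ⟨q0, hq0⟩ : (η[P]).left (P.hom p) ∈ Set.range (P.hom.fiberι (P.hom p)) := by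
      rw [P.hom.range_fiberι]
      show P.hom ((η[P]).left (P.hom p)) = P.hom p
      rw [← Scheme.Hom.comp_apply, Over.w η[P]]
      rfl
    have hne : (g ⁻¹' Set.range (η[X]).left).Nonempty := ⟨q0, P.hom p, by
      show _ = g q0
      rw [Scheme.Hom.comp_apply, hq0]
      exact (congrArg (fun h => h.left (P.hom p)) (IsMonHom.one_hom f)).symm⟩
    have huniv := hcl.eq_univ hne
    have hmem : q ∈ g ⁻¹' Set.range (η[X]).left := huniv ▸ Set.mem_univ q
    rwa [Set.mem_preimage, Scheme.Hom.comp_apply, hq] at hmem
  have hlift := IsOpenImmersion.lift_fac (η[X]).left f.left hrange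
  have hl : IsOpenImmersion.lift (η[X]).left f.left hrange = P.hom := by
    have h := congrArg (· ≫ X.hom) hlift
    simp only [Category.assoc, Over.w f] at h
    rw [Over.w η[X]] at h
    exact (Category.comp_id _).symm.trans h
  ext1
  rw [← hlift, hl, H19Grp.one_left P]

end Groth.Agent.S19288
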