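import Groth.Statements.S19289
import Groth.Agent.H19AbSch.TorusHom

set_option autoImplicit false
set_option maxHeartbeats 1000000
set_option synthInstance.maxHeartbeats 100000
set_option linter.style.haveILetI false
set_option backward.isDefEq.respectTransparency false
universe u
open CategoryTheory CategoryTheory.Limits MonoidalCategory CartesianMonoidalCategory MonObj AlgebraicGeometry
open AbSch

namespace Groth.Agent.S19289

open Groth.Agent


/-- Let S be a scheme, T an S-torus and A an abelian S-scheme (a smooth proper S-group scheme with
connected fibres). Then the group of homomorphisms from T to A is trivial: every homomorphism of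
S-group schemes T → A factors through the unit section. -/
theorem result {S : Scheme.{u}} (T A : Over S)
    [GrpObj T] [IsCommMonObj T] (hT : Red.IsTorus T)
    [GrpObj A] [IsCommMonObj A] [Smooth A.hom] [IsProper A.hom]
    (hA : ∀ s : S, ConnectedSpace ↥(A.hom.fiber s))
    (f : T ⟶ A) [IsMonHom f] : f = 1 := by
  exact H19AbSch.TorusHom.eq_one_of_isTorus hT hA f

end Groth.Agent.S19289
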