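import Groth.Statements.S19290
import Groth.Agent.H19AbSch.TorusHom

set_option autoImplicit false
set_option maxHeartbeats 1000000
set_option synthInstance.maxHeartbeats 100000
set_option linter.style.haveILetI false
set_option backward.isDefEq.respectTransparency false
universe u
open CategoryTheory CategoryTheory.Limits MonoidalCategory CartesianMonoidalCategory MonObj AlgebraicGeometry
open AbSch

namespace Groth.Agent.S19290

open Groth.Agent


/-- Let S be a scheme, T an S-torus and A an abelian S-scheme (smooth, proper, with connected fibres).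
Then the S-sheaf of homomorphisms from T to A is trivial: the internal Hom sheaf, on the big fppf
site of S, from the abelian sheaf of points of T to that of A is the zero sheaf. -/
theorem result {S : Scheme.{u}} (T A : Over S)
    [GrpObj T] [IsCommMonObj T] (hT : Red.IsTorus T)
    [GrpObj A] [IsCommMonObj A] [Smooth A.hom] [IsProper A.hom]
    (hA : ∀ s : S, ConnectedSpace ↥(A.hom.fiber s)) :
    IsZero (HomSh.homSh (QuotSh.J Scheme.fppfPrecoverage S) (CGrpSh.pts Scheme.fppfPrecoverage T) (CGrpSh.pts Scheme.fppfPrecoverage A)) := by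
  refine (IsZero.iff_id_eq_zero _).2 (Sheaf.hom_ext ?_)
  ext X φ
  let P := (Functor.sheafPushforwardContinuous (Over.forget X.unop) AddCommGrpCat.{u + 1}
    ((QuotSh.J Scheme.fppfPrecoverage S).over X.unop) (QuotSh.J Scheme.fppfPrecoverage S))
  let X₀ : Over S := X.unop
  let ψ : (CGrpSh.pts Scheme.fppfPrecoverage T).over X₀ ⟶ (CGrpSh.pts Scheme.fppfPrecoverage A).over X₀ := φ
  let F : ∀ W : Over X₀, (W.left ⟶ T) → (W.left ⟶ A) := fun W g =>
    (ConcreteCategory.hom (ψ.hom.app (Opposite.op W)) (ULift.up (Additive.ofMul g))).down.toMul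
  have Fmul : ∀ W (g g' : W.left ⟶ T), F W (g * g') = F W g * F W g' := fun W g g' =>
    congrArg (fun z => z.down.toMul) (map_add (ConcreteCategory.hom (ψ.hom.app (Opposite.op W)))
      (ULift.up (Additive.ofMul g)) (ULift.up (Additive.ofMul g')))
  have Fnat : ∀ {W W' : Over X₀} (m : W' ⟶ W) (g : W.left ⟶ T), F W' (m.left ≫ g) = m.left ≫ F W g :=
    fun m g => congrArg (fun z => z.down.toMul)
      (ConcreteCategory.congr_hom (ψ.hom.naturality m.op) (ULift.up (Additive.ofMul g)))
  show (φ : _) = 0
  apply Sheaf.hom_ext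
  ext W z
  obtain ⟨g⟩ := z
  apply ULift.ext
  show Additive.ofMul (F W.unop g.toMul) = 0
  rw [H19AbSch.TorusHom.natural_eq_one hT hA X₀ F Fmul Fnat]
  rfl

end Groth.Agent.S19290
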