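import Groth.Statements.S19291
import Groth.Agent.H19Grp.ClopenTrivial

set_option autoImplicit false
set_option maxHeartbeats 1000000
set_option synthInstance.maxHeartbeats 100000
set_option linter.style.haveILetI false
set_option backward.isDefEq.respectTransparency false
universe u
open CategoryTheory CategoryTheory.Limits MonoidalCategory CartesianMonoidalCategory MonObj AlgebraicGeometry
open AbSch

namespace Groth.Agent.S19291

open CategoryTheory CategoryTheory.Limits MonoidalCategory CartesianMonoidalCategory MonObj AlgebraicGeometry Opposite in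
theorem main {S : Scheme.{u}} (A B C : Over S) [GrpObj A] [IsCommMonObj A] [Smooth A.hom] [IsProper A.hom]
    (hA : ∀ s : S, ConnectedSpace ↥(A.hom.fiber s)) [GrpObj B] [IsCommMonObj B]
    (hB : ∀ s : S, ConnectedSpace ↥(B.hom.fiber s)) [GrpObj C] [IsCommMonObj C] [IsSeparated C.hom]
    (φ : (CGrpSh.pts Scheme.fppfPrecoverage A) ⟶ HomSh.homSh (QuotSh.J Scheme.fppfPrecoverage S)
      (CGrpSh.pts Scheme.fppfPrecoverage B) (CGrpSh.pts Scheme.fppfPrecoverage C)) : φ = 0 := by
  haveI := H19Grp.geometricallyIntegral_of_connected_fibres A hA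
  let J := QuotSh.J Scheme.fppfPrecoverage S
  let ψ : ∀ (T : Over S), (T ⟶ A) → ((CGrpSh.pts Scheme.fppfPrecoverage B).over T ⟶ (CGrpSh.pts Scheme.fppfPrecoverage C).over T) :=
    fun T a => φ.hom.app (op T) (ULift.up (Additive.ofMul a))
  let ev : ∀ {T : Over S}, (T ⟶ A) → ∀ {T' : Over S}, (T' ⟶ T) → (T' ⟶ B) → (T' ⟶ C) :=
    fun {T} a {T'} g b => (((ψ T a).hom.app (op (Over.mk g))) (ULift.up (Additive.ofMul b))).down.toMul
  have hnat : ∀ {T : Over S} (a : T ⟶ A) {T' T'' : Over S} (g : T' ⟶ T) (b : T' ⟶ B) (r : T'' ⟶ T'),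
      r ≫ ev a g b = ev a (r ≫ g) (r ≫ b) := by
    intro T a T' T'' g b r
    have h := ConcreteCategory.congr_hom ((ψ T a).hom.naturality (Over.homMk r : Over.mk (r ≫ g) ⟶ Over.mk g).op)
      (ULift.up (Additive.ofMul b))
    exact (congrArg (fun x : ULift (Additive (T'' ⟶ C)) => x.down.toMul) h).symm
  have hbase : ∀ {T : Over S} (a : T ⟶ A) {T' : Over S} (g : T' ⟶ T) (b : T' ⟶ B),
      ev a g b = ev (𝟙 A) (g ≫ a) b := by
    intro T a T' g b
    have h := ConcreteCategory.congr_hom (φ.hom.naturality a.op) (ULift.up (Additive.ofMul (𝟙 A)))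
    have e : ψ T a = (J.overMapPullback AddCommGrpCat.{u + 1} a).map (ψ A (𝟙 A)) := by
      refine Eq.trans ?_ h
      show φ.hom.app (op T) _ = φ.hom.app (op T) _
      exact congrArg (fun c : T ⟶ A => φ.hom.app (op T) (ULift.up (Additive.ofMul c))) (Category.comp_id a).symm
    exact congrArg (fun ξ : (CGrpSh.pts Scheme.fppfPrecoverage B).over T ⟶ (CGrpSh.pts Scheme.fppfPrecoverage C).over T =>
      ((ξ.hom.app (op (Over.mk g))) (ULift.up (Additive.ofMul b))).down.toMul) e
  let h : A ⊗ B ⟶ C := ev (𝟙 A) (fst A B) (snd A B)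
  have hh : ∀ {T : Over S} (a : T ⟶ A) {T' : Over S} (g : T' ⟶ T) (b : T' ⟶ B), ev a g b = lift (g ≫ a) b ≫ h := by
    intro T a T' g b
    rw [hbase a g b, hnat, lift_fst, lift_snd]
  have h0 : ∀ {T : Over S} {T' : Over S} (g : T' ⟶ T) (b : T' ⟶ B), ev (1 : T ⟶ A) g b = 1 := by
    intro T T' g b
    have e : ψ T (1 : T ⟶ A) = 0 := map_zero (φ.hom.app (op T)).hom
    show (((ψ T 1).hom.app _) _).down.toMul = 1
    rw [e]
    rfl
  have h0' : ∀ {T : Over S} (a : T ⟶ A) {T' : Over S} (g : T' ⟶ T), ev a g (1 : T' ⟶ B) = 1 := by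
    intro T a T' g
    exact congrArg (fun x : ULift (Additive (T' ⟶ C)) => x.down.toMul) (map_zero ((ψ T a).hom.app (op (Over.mk g))).hom)
  have h1 : h = 1 := by
    refine H19Grp.eq_one_of_axes η[A] η[B] hB h ?_ ?_
    · have := hh (1 : B ⟶ A) (𝟙 B) (𝟙 B)
      rw [h0, Category.id_comp] at this
      rw [← Hom.one_def]
      exact this.symm
    · have := hh (𝟙 A) (𝟙 A) (1 : A ⟶ B)
      rw [h0', Category.id_comp] at this
      rw [← Hom.one_def]
      exact this.symm
  refine Sheaf.hom_ext ?_
  ext T x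
  refine Sheaf.hom_ext ?_
  ext T' b
  refine ULift.ext _ _ ?_
  have := hh x.down.toMul T'.unop.hom b.down.toMul
  rw [h1, MonObj.comp_one] at this
  exact congrArg Additive.ofMul this


/-- Let S be a scheme and A, B, C three abelian S-schemes (smooth proper S-group schemes with connected
fibres). Then the group of homomorphisms from A to the S-sheaf of homomorphisms from B to C is
trivial: on the big fppf site of S, every morphism of abelian sheaves from the sheaf of points of A
to the internal Hom sheaf of the sheaves of points of B and C is zero (equivalently, there is no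
non-zero biadditive morphism from A × B to C). -/
theorem result {S : Scheme.{u}} (A B C : Over S)
    [GrpObj A] [IsCommMonObj A] [Smooth A.hom] [IsProper A.hom]
    (hA : ∀ s : S, ConnectedSpace ↥(A.hom.fiber s))
    [GrpObj B] [IsCommMonObj B] [Smooth B.hom] [IsProper B.hom]
    (hB : ∀ s : S, ConnectedSpace ↥(B.hom.fiber s))
    [GrpObj C] [IsCommMonObj C] [Smooth C.hom] [IsProper C.hom]
    (hC : ∀ s : S, ConnectedSpace ↥(C.hom.fiber s))
    (φ : (CGrpSh.pts Scheme.fppfPrecoverage A) ⟶ HomSh.homSh (QuotSh.J Scheme.fppfPrecoverage S) (CGrpSh.pts Scheme.fppfPrecoverage B) (CGrpSh.pts Scheme.fppfPrecoverage C)) : φ = 0 := by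
  exact main A B C hA hB φ

end Groth.Agent.S19291
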