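import Groth.Statements.S1930
import Groth.Agent.H3Cyc.CommApp
import Groth.Agent.H3Cyc.Fund
import Groth.Agent.H3Cyc.ZeroSect
-- import your own Groth.Agent.* helpers here

set_option autoImplicit false
universe u
open CategoryTheory AlgebraicGeometry
open Cyc
open Groth.Agent
open Groth.Agent.H3Cyc

namespace Groth.Agent.S1930

/-- Let X be integral with generic point η and δ(η) = n, i : D → X an effective Cartier divisor given as
the zero scheme of a global section s of an invertible module L which is a nonzerodivisor at every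
point, N an invertible O_X-module and t ∈ N(η) a nonzero rational section. Then i^*(div_N t) ∼_rat
c_1(N|_D) ∩ [D]_{n−1} as (n − 2)-cycles on D, the right side computed with any nonzero rational
sections of i^*N on D. Here i : D → X is the zero scheme of a global section s of the invertible
module L (Cyc.IsZeroSchemeOf), the Gysin map i^* : Z_{k+1}(X) → CH_k(D) is computed on coefficient
functions as c_1(L) ∩ − with the rational sections taken to be s where it is nonzero
(Cyc.gysinChoice) and restricted to the points of D, and classes on D are compared up to rational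
equivalence on D for the restricted dimension function. Here a pair (X, δ) satisfying Cyc.IsSetup (X
locally Noetherian with universally catenary local rings, δ a dimension function) plays the role of
a scheme locally of finite type over a fixed base equipped with a dimension function. -/
theorem result (X D : Scheme.{u}) [IsIntegral X] (δ : X → ℤ) (hX : Cyc.IsSetup X δ) (n : ℤ) (hn : δ (genericPoint X) = n) (L : X.Modules) (hL : PicF.IsInvertible L) (s : L.presheaf.obj (Opposite.op ⊤)) (hreg : ∀ x : X, Function.Injective (fun a : X.presheaf.stalk x => a • (L.presheaf.germ ⊤ x trivial) s)) (i : D ⟶ X) [IsClosedImmersion i] (hD : Cyc.IsZeroSchemeOf i L s) (N : X.Modules) (hN : PicF.IsInvertible N) (t : Cyc.secFibre N (genericPoint X)) (ht : t ≠ 0) (w : (ξ : X) → Cyc.secFibre L ξ) (hw : ∀ ξ, w ξ ≠ 0) (u : (d : D) → Cyc.secFibre ((Scheme.Modules.pullback i).obj N) d) (hu : ∀ d, u d ≠ 0) (γ₁ γ₂ : AlgebraicCycle D ℤ) (h₁ : ∀ d : D, γ₁ d = Cyc.c1CapFun δ L (Cyc.secDivFun δ N (genericPoint X) t) (Cyc.gysinChoice L s w) (i d))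 (h₂ : ⇑γ₂ = Cyc.c1CapFun (fun d => δ (i d)) ((Scheme.Modules.pullback i).obj N) (Cyc.subschemeFun (fun d => δ (i d)) (n - 1) (𝟙 D)) u) : Cyc.RatEquiv (fun d => δ (i d)) (n - 2) γ₁ γ₂ := by
  classical
  haveI := hX.1
  have hDs := Reduction.isSetup_closedImmersion i hX
  haveI := hDs.1
  let η := genericPoint X
  have hη : η ∉ Set.range i := by
    rw [Gysin.notMem_range_iff hD, ne_eq, Submodule.Quotient.mk_eq_zero,
      IsLocalRing.isField_iff_maximalIdeal_eq.mp (Field.toIsField X.functionField), Submodule.bot_smul, Submodule.mem_bot]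
    intro h0
    have h1 : (1 : X.presheaf.stalk η) = 0 := hreg η (by
      show (1 : X.presheaf.stalk η) • _ = (0 : X.presheaf.stalk η) • _
      rw [h0, smul_zero, smul_zero])
    exact one_ne_zero h1
  have hn2 : δ η = n - 2 + 2 := by rw [sub_add_cancel]; exact hn
  have hcv := Gysin.gysinChoice_ne_zero L s w hw
  choose V e hxV he using H11Ample.exists_gen hN
  let v : (ξ : X) → Cyc.secFibre N ξ := fun ξ => C1Api.fib N ξ (hxV ξ) (e ξ)
  have hv : ∀ ξ, v ξ ≠ 0 := fun ξ => by
    have h := (C1Api.residue_ne_zero_iff (he ξ) (hxV ξ) 1).mpr (by rw [map_one]; exact one_ne_zero)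
    rwa [one_smul] at h
  have hfam := CommPoint.comm_point hX hL hN (n - 2) hn2 (hcv η) ht v hv (Cyc.gysinChoice L s w) hcv (Set.range i)
    fun z hz _ _ => Or.inl (CommApp.gysinChoice_flat hL hD w hη hz)
  -- the divisor of the section
  have hoff : ∀ x, x ∉ Set.range i → Cyc.secDivFun δ L η (Cyc.gysinChoice L s w η) x = 0 := by
    intro x hx
    obtain ⟨U, g, hg, hxU, hU, hval⟩ := CommApp.exists_gen_off hL hD hx
    have hηU : η ∈ U := (genericPoint_specializes x).mem_open U.2 hxU
    rw [Cyc.gysinChoice, if_pos ((Gysin.notMem_range_iff hD η).mp hη), hval η hηU]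
    have h1 := C1Api.secDivFun_gen hg δ hηU 1 (by rw [map_one]; exact one_ne_zero) (x := x) hxU
    rw [one_smul, map_one] at h1
    rw [h1]
    simp only [Cyc.divFun]
    split_ifs with hh
    · exact C1Api.ordAt_one _ _ _
    · rfl
  have hon : ∀ d, Cyc.secDivFun δ L η (Cyc.gysinChoice L s w η) (i d) =
      Cyc.subschemeFun (fun d => δ (i d)) (n - 1) (𝟙 D) d := by
    intro d
    rw [Fund.subschemeFun_id]
    by_cases hd : δ (i d) = n - 1
    swap
    · rw [if_neg hd, Cyc.secDivFun, dif_neg fun hh => hd (by have h2 := hh.2; have h3 : δ η = n := hn; omega)]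
    rw [if_pos hd]
    obtain ⟨U, g, hdU, hg⟩ := H11Ample.exists_gen hL (i d)
    obtain ⟨a, ha⟩ := (hg (i d) hdU).2 ((L.presheaf.germ ⊤ (i d) trivial) s)
    have hηU : η ∈ U := (genericPoint_specializes (i d)).mem_open U.2 hdU
    have hker : RingHom.ker (i.stalkMap d).hom = Ideal.span {a} := by
      rw [← Gysin.ker_eq_span_gen hD hg d rfl hdU a ha.symm]; simp
    have hane : a ∈ nonZeroDivisors (X.presheaf.stalk (i d)) := by
      refine mem_nonZeroDivisors_of_ne_zero fun h0 => ?_
      have h1 : (1 : X.presheaf.stalk (i d)) = 0 := hreg (i d) (by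
        show (1 : X.presheaf.stalk (i d)) • _ = (0 : X.presheaf.stalk (i d)) • _
        rw [← ha, h0]; simp)
      exact one_ne_zero h1
    have hsη : (Cyc.gysinChoice L s w η) = (algebraMap _ X.functionField a) • C1Api.fib L η hηU g := by
      rw [Cyc.gysinChoice, if_pos ((Gysin.notMem_range_iff hD η).mp hη),
        ← TopCat.Presheaf.germ_stalkSpecializes_apply L.presheaf (U := ⊤) trivial (genericPoint_specializes (i d)) s, ← ha,
        C1Api.stalkSpecializes_smul, TopCat.Presheaf.germ_stalkSpecializes_apply, Submodule.Quotient.mk_smul]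
      rfl
    have hf0 : algebraMap (X.presheaf.stalk (i d)) X.functionField a ≠ 0 := fun h0 =>
      nonZeroDivisors.ne_zero hane (IsFractionRing.injective _ X.functionField (h0.trans (map_zero _).symm))
    rw [CommLocal.secDiv_generic hg hf0 hsη hdU, CommLocal.divFun_generic hX.2.2 hn (i d) hd _ hane (one_mem _)
      (by rw [map_one, mul_one]), Ring.ord_one, ENat.toNat_zero, Nat.cast_zero, sub_zero]
    congr 2
    letI := (i.stalkMap d).hom.toAlgebra
    rw [← Module.length_eq_of_surjective (S := X.presheaf.stalk (i d)) (R := D.presheaf.stalk d)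
      (M := D.presheaf.stalk d) (i.stalkMap_surjective d)]
    exact ((Submodule.quotEquivOfEq _ _ hker.symm).trans
      (Ideal.quotientKerAlgEquivOfSurjective (f := Algebra.ofId (X.presheaf.stalk (i d)) (D.presheaf.stalk d))
        (i.stalkMap_surjective d)).toLinearEquiv).length_eq
  obtain ⟨A, hAe, hAk⟩ := Comm.exists_secDiv_cycle hX.2.2 hn hL (hcv η)
  let AD : AlgebraicCycle D ℤ := ⟨fun d => A (i d), by simp, fun d _ => by
    obtain ⟨t', ht', hfin⟩ := A.supportLocallyFiniteWithinDomain' (i d) trivial
    exact ⟨i ⁻¹' t', i.continuous.continuousAt.preimage_mem_nhds ht',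
      (hfin.preimage i.isEmbedding.injective.injOn).subset fun y hy => hy⟩⟩
  have hADe : ⇑AD = Cyc.subschemeFun (fun d => δ (i d)) (n - 1) (𝟙 D) := funext fun d => by
    show A (i d) = _
    rw [hAe]; exact hon d
  have hADk : AD ∈ Cyc.Zk D (fun d => δ (i d)) (n - 2 + 1) := fun d hd => hAk (i d) (by
    rw [show n - 1 = n - 2 + 1 by ring]; exact hd)
  have hu' : ∀ d, C1Api.pullFib i N d (v (i d)) ≠ 0 := fun d => C1Api.pullFib_ne_zero i hN d _ (hv _)
  obtain ⟨ζ, hζ, -⟩ := C1Api.exists_c1Cap_cycle hDs.2.2 (C1Api.isInvertible_pullback' i hN) (n - 2) AD hADk _ hu'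
  have e1 : Cyc.RatEquiv (fun d => δ (i d)) (n - 2) ζ γ₁ := by
    refine RatFam.restrict i hfam Set.inter_subset_right fun d => ?_
    show ζ d - γ₁ d = _
    rw [h₁, hζ, Gysin.c1Cap_immersion i hN δ (Cyc.secDivFun δ L η (Cyc.gysinChoice L s w η)) hoff v hv d]
    rw [hADe, ← funext hon]
  exact RatRel.trans (RatRel.symm e1)
    (RatRel.c1Cap_indep (C1Api.isInvertible_pullback' i hN) AD hADk _ u hu' hu ζ γ₂ hζ (by rw [h₂, hADe]))

end Groth.Agent.S1930
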