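import Groth.Statements.S19308
import Groth.Agent.H3CAlg.FibrewiseRegular
import Groth.Agent.H19Grp.AlgClosedGeom
-- import your own Groth.Agent.* helpers here

set_option autoImplicit false
universe u
open TensorProduct
open CAlg

namespace Groth.Agent.S19308

/-- Let k be an algebraically closed field, A a finitely generated k-algebra which is an integral domain
(an affine variety X = Spec A), Z a finite (possibly empty) set of k-points of A, R a commutative
k-algebra and U an open dense subset of Spec (R ⊗_k A) = X_R containing every point of Z_R and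
meeting every fibre of X_R → Spec R. Then locally on Spec R there is a principal relative effective
Cartier divisor missing Z_R whose complement lies in U: for every prime p of R there are r ∉ p and f
∈ R[1/r] ⊗_k A such that f is a non-zero-divisor, (R[1/r] ⊗_k A)/(f) is flat over R[1/r], f maps to
a unit under every point of Z, and the basic open set D(f) of X_{R[1/r]} maps into U. (The published
statement is for a quasi-projective variety X and asks for relative Cartier divisors D_i over an
open cover of Spec R; this row is the affine case, to which the published proof reduces, where the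
divisors produced are principal.) -/
theorem result
    (k : Type u) [Field k] [IsAlgClosed k]
    (A : Type u) [CommRing A] [Algebra k A] [IsDomain A] [Algebra.FiniteType k A]
    (Z : Finset (A →ₐ[k] k))
    (R : Type u) [CommRing R] [Algebra k R]
    (U : TopologicalSpace.Opens (PrimeSpectrum (TensorProduct k R A)))
    (hU : Dense (U : Set (PrimeSpectrum (TensorProduct k R A))))
    (hZ : ∀ z ∈ Z, ∀ q : PrimeSpectrum R,
      PrimeSpectrum.comap (Algebra.TensorProduct.lift (AlgHom.id k R) ((Algebra.ofId k R).comp z)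
        (fun _ _ => Commute.all _ _)).toRingHom q ∈ U)
    (hsurj : ∀ q : PrimeSpectrum R, ∃ P ∈ U,
      PrimeSpectrum.comap (Algebra.TensorProduct.includeLeftRingHom : R →+* TensorProduct k R A) P = q)
    (p : PrimeSpectrum R) :
    ∃ r : R, r ∉ p.asIdeal ∧
      ∃ f : TensorProduct k (Localization.Away r) A,
        f ∈ nonZeroDivisors (TensorProduct k (Localization.Away r) A) ∧
        Module.Flat (Localization.Away r)
          (TensorProduct k (Localization.Away r) A ⧸ Ideal.span {f}) ∧
        (∀ z ∈ Z, IsUnit (Algebra.TensorProduct.lift (AlgHom.id k (Localization.Away r))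
          ((Algebra.ofId k (Localization.Away r)).comp z) (fun _ _ => Commute.all _ _) f)) ∧
        (∀ P : PrimeSpectrum (TensorProduct k (Localization.Away r) A), f ∉ P.asIdeal →
          PrimeSpectrum.comap (Algebra.TensorProduct.map
            (IsScalarTower.toAlgHom k R (Localization.Away r)) (AlgHom.id k A)).toRingHom P ∈ U) := by
  classical
  have hdom : ∀ (κ : Type u) [Field κ] [Algebra k κ], IsDomain (κ ⊗[k] A) := fun κ _ _ =>
    H19Grp.isDomain_tensorProduct (k := k) κ A
  let b := Module.Basis.ofVectorSpace k A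
  let B := Algebra.TensorProduct.basis R b
  obtain ⟨I, hI⟩ : ∃ I : Ideal (R ⊗[k] A), (U : Set (PrimeSpectrum (R ⊗[k] A)))ᶜ =
      PrimeSpectrum.zeroLocus (I : Set (R ⊗[k] A)) := by
    obtain ⟨s, hs⟩ := (PrimeSpectrum.isClosed_iff_zeroLocus _).1 U.isOpen.isClosed_compl
    exact ⟨Ideal.span s, by rw [PrimeSpectrum.zeroLocus_span]; exact hs⟩
  have hIU : ∀ P : PrimeSpectrum (R ⊗[k] A), I ≤ P.asIdeal ↔ P ∉ U := fun P => by
    have : P ∈ (U : Set (PrimeSpectrum (R ⊗[k] A)))ᶜ ↔ P ∈ PrimeSpectrum.zeroLocus (I : Set (R ⊗[k] A)) := by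
      rw [hI]
    exact ((Iff.trans this (PrimeSpectrum.mem_zeroLocus P _)).trans SetLike.coe_subset_coe).symm
  let qp : R →ₐ[k] p.asIdeal.ResidueField := IsScalarTower.toAlgHom k R p.asIdeal.ResidueField
  haveI := hdom p.asIdeal.ResidueField
  let q0 : Ideal (R ⊗[k] A) := RingHom.ker (H3CAlg.FibrewiseRegular.bc (A := A) qp).toRingHom
  haveI hq0 : q0.IsPrime := RingHom.ker_isPrime _
  let zR : (A →ₐ[k] k) → (R ⊗[k] A →ₐ[k] R) := fun z =>
    Algebra.TensorProduct.lift (AlgHom.id k R) ((Algebra.ofId k R).comp z) (fun _ _ => Commute.all _ _)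
  let qz : (A →ₐ[k] k) → Ideal (R ⊗[k] A) := fun z => p.asIdeal.comap (zR z).toRingHom
  obtain ⟨f, hfI, hf0, hfz⟩ : ∃ f ∈ I, f ∉ q0 ∧ ∀ z ∈ Z, f ∉ qz z := by
    by_contra hh
    push Not at hh
    have hsub : (I : Set (R ⊗[k] A)) ⊆ ⋃ J ∈ (↑(insert q0 (Z.image qz)) : Set (Ideal (R ⊗[k] A))), (J : Set (R ⊗[k] A)) := by
      intro f hf
      simp only [Finset.coe_insert, Finset.coe_image, Set.mem_iUnion, SetLike.mem_coe]
      by_cases h0 : f ∈ q0
      · exact ⟨q0, Set.mem_insert _ _, h0⟩
      · obtain ⟨z, hz, hzf⟩ := hh f hf h0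
        exact ⟨qz z, Set.mem_insert_of_mem _ ⟨z, hz, rfl⟩, hzf⟩
    obtain ⟨J, hJ, hIJ⟩ := (Ideal.subset_union_prime q0 q0 (fun J hJ _ _ => by
      rcases Finset.mem_insert.1 hJ with rfl | hJ
      · exact hq0
      · obtain ⟨z, -, rfl⟩ := Finset.mem_image.1 hJ
        exact Ideal.comap_isPrime _ _)).1 hsub
    rcases Finset.mem_insert.1 hJ with rfl | hJ
    · obtain ⟨P, hPU, hPp⟩ := hsurj p
      refine (hIU P).1 (hIJ.trans fun x hx => ?_) hPU
      rw [← B.linearCombination_repr x, Finsupp.linearCombination_apply]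
      refine Ideal.sum_mem _ fun i _ => ?_
      dsimp only
      rw [Algebra.smul_def]
      refine Ideal.mul_mem_right _ _ ?_
      have h1 : qp (B.repr x i) = 0 := by
        rw [← H3CAlg.FibrewiseRegular.repr_bc qp b x i,
          show H3CAlg.FibrewiseRegular.bc (A := A) qp x = 0 from hx, map_zero, Finsupp.zero_apply]
      have h2 : B.repr x i ∈ p.asIdeal := Ideal.algebraMap_residueField_eq_zero.1 h1
      rw [← hPp] at h2
      exact h2
    · obtain ⟨z, hz, rfl⟩ := Finset.mem_image.1 hJ
      exact (hIU _).1 hIJ (hZ z hz p)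
  obtain ⟨l, hl⟩ : ∃ l, B.repr f l ∉ p.asIdeal := by
    by_contra hh
    push Not at hh
    refine hf0 ((Algebra.TensorProduct.basis p.asIdeal.ResidueField b).repr.map_eq_zero_iff.1
      (Finsupp.ext fun i => ?_))
    show (Algebra.TensorProduct.basis p.asIdeal.ResidueField b).repr (H3CAlg.FibrewiseRegular.bc qp f) i = _
    rw [H3CAlg.FibrewiseRegular.repr_bc]
    exact Ideal.algebraMap_residueField_eq_zero.2 (hh i)
  let r : R := B.repr f l * ∏ z ∈ Z, zR z f
  have hr : r ∉ p.asIdeal := fun hmem => by
    rcases p.isPrime.mem_or_mem hmem with h | h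
    · exact hl h
    · obtain ⟨z, hz, hz'⟩ := (Ideal.IsPrime.prod_mem_iff (p := p.asIdeal)).1 h
      exact hfz z hz hz'
  let φ : R →ₐ[k] Localization.Away r := IsScalarTower.toAlgHom k R (Localization.Away r)
  have hru : IsUnit (φ r) := IsLocalization.Away.algebraMap_isUnit r
  let f' := H3CAlg.FibrewiseRegular.bc (A := A) φ f
  have hf' : H3CAlg.FibrewiseRegular.IsFibNonzero f' := fun κ _ _ g h0 => by
    rw [H3CAlg.FibrewiseRegular.bc_comp] at h0
    have h1 : (g.comp φ) (B.repr f l) = 0 := by
      rw [← H3CAlg.FibrewiseRegular.repr_bc (g.comp φ) b f l, h0, map_zero, Finsupp.zero_apply]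
    have h2 : IsUnit ((g.comp φ) r) := hru.map g
    rw [map_mul, h1, zero_mul] at h2
    exact not_isUnit_zero h2
  refine ⟨r, hr, f', mem_nonZeroDivisors_iff_right.2 fun x hx =>
      H3CAlg.FibrewiseRegular.eq_zero_of_mul_eq_zero hdom hf' (by rw [mul_comm]; exact hx),
    H3CAlg.FibrewiseRegular.flat_quotient hdom hf', fun z hz => ?_, fun P hP => ?_⟩
  · have e : ∀ t, Algebra.TensorProduct.lift (AlgHom.id k (Localization.Away r))
        ((Algebra.ofId k (Localization.Away r)).comp z) (fun _ _ => Commute.all _ _)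
          (H3CAlg.FibrewiseRegular.bc (A := A) φ t) = φ (zR z t) := fun t => by
      induction t using TensorProduct.induction_on with
      | zero => simp
      | tmul x a => simp [H3CAlg.FibrewiseRegular.bc, zR, φ, IsScalarTower.algebraMap_apply k R (Localization.Away r)]
      | add x y hx hy => simp only [map_add, hx, hy]
    rw [e]
    exact isUnit_of_dvd_unit (map_dvd φ ((Finset.dvd_prod_of_mem _ hz).mul_left _)) hru
  · by_contra hh
    exact hP ((hIU _).2 hh hfI)

end Groth.Agent.S19308
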