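import Groth.Statements.S19309
import Mathlib.RingTheory.LaurentSeries

set_option autoImplicit false
universe u
open PowerSeries LaurentSeries
open CAlg

namespace Groth.Agent.S19309

/-- Let k be a field, R a commutative k-algebra, B a finitely presented R⟦X⟧-algebra (an affine scheme V
= Spec B of finite presentation over the disc D_R = Spec R⟦X⟧) and s : B → R((X)) an R⟦X⟧-algebra
map (a section of V over the punctured disc). Then there is an ideal I of R such that for every ring
map φ : R → R', writing θ : R((X)) → R'((X)) for the ring map compatible with R⟦X⟧ → R'⟦X⟧, the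
section s extends to a section over D_{R'} — an R⟦X⟧-algebra map s' : B → R'⟦X⟧ whose composite with
R'⟦X⟧ → R'((X)) is θ ∘ s — if and only if φ kills I. In other words the sub-presheaf of Spec R where
s extends over the disc is the closed subscheme defined by I. -/
theorem result
    (k : Type u) [Field k] (R : Type u) [CommRing R] [Algebra k R]
    (B : Type u) [CommRing B] [Algebra R⟦X⟧ B] [Algebra.FinitePresentation R⟦X⟧ B]
    (s : B →ₐ[R⟦X⟧] R⸨X⸩) :
    ∃ I : Ideal R, ∀ (R' : Type u) [CommRing R'] (φ : R →+* R') (θ : R⸨X⸩ →+* R'⸨X⸩),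
      θ.comp (algebraMap R⟦X⟧ R⸨X⸩) = (algebraMap R'⟦X⟧ R'⸨X⸩).comp (PowerSeries.map φ) →
      ((∃ s' : B →+* R'⟦X⟧, s'.comp (algebraMap R⟦X⟧ B) = PowerSeries.map φ ∧
          (algebraMap R'⟦X⟧ R'⸨X⸩).comp s' = θ.comp s.toRingHom) ↔ I ≤ RingHom.ker φ) := by
  refine ⟨Ideal.span {r : R | ∃ (b : B) (n : ℤ), n < 0 ∧ (s b).coeff n = r}, ?_⟩
  intro R' _ φ θ hθ
  have hθcoe : ∀ g : R⟦X⟧, θ (g : R⸨X⸩) = ((PowerSeries.map φ g : R'⟦X⟧) : R'⸨X⸩) := by
    intro g
    simpa using RingHom.congr_fun hθ g
  have hcoeff : ∀ (f : R⸨X⸩) (n : ℤ), (θ f).coeff n = φ (f.coeff n) := by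
    intro f n
    have hf := LaurentSeries.single_order_mul_powerSeriesPart f
    rcases le_or_gt 0 f.order with h | h
    · -- f is a power series
      obtain ⟨m, hm⟩ := Int.eq_ofNat_of_zero_le h
      have hfg : f = ((PowerSeries.X ^ m * f.powerSeriesPart : R⟦X⟧) : R⸨X⸩) := by
        rw [PowerSeries.coe_mul, HahnSeries.ofPowerSeries_X_pow, ← hm, hf]
      rw [hfg, hθcoe, PowerSeries.coeff_coe, PowerSeries.coeff_coe]
      split_ifs
      · simp
      · rw [PowerSeries.coeff_map]
    · obtain ⟨m, hm⟩ := Int.eq_ofNat_of_zero_le (by omega : 0 ≤ -f.order)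
      have hmm : f.order = -(m : ℤ) := by omega
      have hfg : ((PowerSeries.X ^ m : R⟦X⟧) : R⸨X⸩) * f = (f.powerSeriesPart : R⸨X⸩) := by
        conv_lhs => rw [← hf]
        rw [← mul_assoc, HahnSeries.ofPowerSeries_X_pow, HahnSeries.single_mul_single, hmm,
          add_neg_cancel, mul_one, HahnSeries.single_zero_one, one_mul]
      have key := congrArg θ hfg
      rw [map_mul, hθcoe, hθcoe] at key
      rw [map_pow (PowerSeries.map φ), PowerSeries.map_X, HahnSeries.ofPowerSeries_X_pow] at key
      have h1 := congrArg (fun z : R'⸨X⸩ => z.coeff (n + m)) key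
      simp only [HahnSeries.coeff_single_mul_add, one_mul] at h1
      rw [h1, PowerSeries.coeff_coe]
      have h2 := congrArg (fun z : R⸨X⸩ => z.coeff (n + m)) hfg
      simp only [HahnSeries.ofPowerSeries_X_pow, HahnSeries.coeff_single_mul_add, one_mul,
        PowerSeries.coeff_coe] at h2
      rw [h2]
      split_ifs
      · simp
      · rw [PowerSeries.coeff_map]
  have inj : Function.Injective (fun g : R'⟦X⟧ => (g : R'⸨X⸩)) :=
    HahnSeries.ofPowerSeries_injective
  constructor
  · rintro ⟨s', _, hs'⟩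
    rw [Ideal.span_le]
    rintro r ⟨b, n, hn, rfl⟩
    rw [SetLike.mem_coe, RingHom.mem_ker, ← hcoeff]
    have := RingHom.congr_fun hs' b
    rw [RingHom.comp_apply, RingHom.comp_apply] at this
    change (θ (s.toRingHom b)).coeff n = 0
    rw [← this]
    change ((s' b : R'⟦X⟧) : R'⸨X⸩).coeff n = 0
    rw [PowerSeries.coeff_coe, if_pos hn]
  · intro hI
    have hneg : ∀ (b : B) (n : ℤ), n < 0 → (θ (s b)).coeff n = 0 := fun b n hn => by
      rw [hcoeff]
      exact hI (Ideal.subset_span ⟨b, n, hn, rfl⟩)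
    have hex : ∀ b : B, ∃ g : R'⟦X⟧, (g : R'⸨X⸩) = θ (s b) := by
      intro b
      refine ⟨PowerSeries.mk fun j => (θ (s b)).coeff j, ?_⟩
      ext n
      rw [PowerSeries.coeff_coe]
      split_ifs with hn
      · exact (hneg b n hn).symm
      · rw [PowerSeries.coeff_mk, Int.natAbs_of_nonneg (by omega)]
    choose g hg using hex
    refine ⟨{ toFun := g
              map_one' := inj (by simp [hg])
              map_mul' := fun a b => inj (by simp [hg])
              map_zero' := inj (by simp [hg])
              map_add' := fun a b => inj (by simp [hg]) }, ?_, ?_⟩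
    · refine RingHom.ext fun a => inj ?_
      change ((g _ : R'⟦X⟧) : R'⸨X⸩) = _
      rw [hg, AlgHom.commutes]
      simpa using RingHom.congr_fun hθ a
    · exact RingHom.ext fun b => hg b

end Groth.Agent.S19309
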