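import Groth.Statements.S19310
import Groth.Agent.H3CAlg.FibrewiseNonzero

set_option autoImplicit false
universe u
open TensorProduct
open CAlg

namespace Groth.Agent.S19310

/-- Let k be an algebraically closed field, A a finitely generated k-algebra which is an integral domain
(X = Spec A an affine variety), R a commutative k-algebra, possibly non-reduced, and U an open
subset of X_R = Spec (R ⊗_k A) meeting every fibre of X_R → Spec R (a very dense open subset). Then
a regular function on X_R whose restriction to U vanishes is zero: if f ∈ R ⊗_k A maps to 0 in the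
localisation (R ⊗_k A)[1/g] for every g with D(g) ⊆ U, then f = 0. (The published statement is that
automorphisms of a torsor under a smooth affine group scheme over X_R which are the identity over a
very dense open subset are the identity, for X a smooth projective curve; its proof reduces this to
the present assertion about functions, for quasi-projective X; this row is the affine case.) -/
theorem result
    (k : Type u) [Field k] [IsAlgClosed k]
    (A : Type u) [CommRing A] [Algebra k A] [IsDomain A] [Algebra.FiniteType k A]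
    (R : Type u) [CommRing R] [Algebra k R]
    (U : TopologicalSpace.Opens (PrimeSpectrum (TensorProduct k R A)))
    (hsurj : ∀ q : PrimeSpectrum R, ∃ P ∈ U,
      PrimeSpectrum.comap (Algebra.TensorProduct.includeLeftRingHom : R →+* TensorProduct k R A) P = q)
    (f : TensorProduct k R A)
    (hf : ∀ g : TensorProduct k R A, (PrimeSpectrum.basicOpen g : Set (PrimeSpectrum (TensorProduct k R A))) ⊆ U →
      algebraMap (TensorProduct k R A) (Localization.Away g) f = 0) :
    f = 0 := by
  classical
  let b := Module.Free.chooseBasis k A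
  refine Groth.Agent.H3CAlg.FibrewiseNonzero.eq_zero_of_coord b fun i ↦ ?_
  by_contra hi
  obtain ⟨M, hM, hle⟩ := Ideal.exists_le_maximal
    (Submodule.colon (⊥ : Ideal R) ({Groth.Agent.H3CAlg.FibrewiseNonzero.coord b R f i} : Set R)) (by
      intro h
      have h1 : (1 : R) ∈ Submodule.colon (⊥ : Ideal R)
        ({Groth.Agent.H3CAlg.FibrewiseNonzero.coord b R f i} : Set R) := h ▸ trivial
      exact hi (by simpa using Submodule.mem_colon_singleton.mp h1))
  obtain ⟨P, hPU, hP⟩ := hsurj ⟨M, hM.isPrime⟩
  obtain ⟨_, ⟨g, rfl⟩, hPg, hgU⟩ :=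
    PrimeSpectrum.isTopologicalBasis_basic_opens.exists_subset_of_mem_open hPU U.isOpen
  have h0 := hf g hgU
  rw [IsLocalization.map_eq_zero_iff (Submonoid.powers g)] at h0
  obtain ⟨⟨_, N, rfl⟩, hN⟩ := h0
  simp only at hN
  have hcoord : ∀ z : R ⊗[k] A, (∀ j, Groth.Agent.H3CAlg.FibrewiseNonzero.coord b R z j ∈ M) →
      z ∈ P.asIdeal := by
    intro z hz
    rw [← (Algebra.TensorProduct.basis R b).linearCombination_repr z, Finsupp.linearCombination_apply]
    refine Submodule.sum_mem _ fun j _ ↦ ?_
    show Groth.Agent.H3CAlg.FibrewiseNonzero.coord b R z j • _ ∈ P.asIdeal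
    rw [Algebra.smul_def]
    refine Ideal.mul_mem_right _ _ ?_
    have : Groth.Agent.H3CAlg.FibrewiseNonzero.coord b R z j ∈ (PrimeSpectrum.comap
        (Algebra.TensorProduct.includeLeftRingHom : R →+* R ⊗[k] A) P).asIdeal := hP ▸ hz j
    exact this
  have hgN : g ^ N ∉ P.asIdeal := fun h ↦ hPg (P.isPrime.mem_of_pow_mem N h)
  obtain ⟨j₀, hj₀⟩ : ∃ j, Groth.Agent.H3CAlg.FibrewiseNonzero.coord b R (g ^ N) j ∉ M :=
    not_forall.mp fun h ↦ hgN (hcoord _ h)
  -- descend to a finitely generated subalgebra
  let cg := Groth.Agent.H3CAlg.FibrewiseNonzero.coord b R (g ^ N)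
  let cf := Groth.Agent.H3CAlg.FibrewiseNonzero.coord b R f
  let R₀ : Subalgebra k R := Algebra.adjoin k ↑(cg.support.image cg ∪ cf.support.image cf)
  have : Algebra.FiniteType k R₀ := (Subalgebra.fg_iff_finiteType R₀).mp ⟨_, rfl⟩
  have : IsNoetherianRing R₀ := Algebra.FiniteType.isNoetherianRing k R₀
  let φ := Algebra.TensorProduct.map R₀.val (AlgHom.id k A)
  have hφ : Function.Injective φ :=
    Module.Flat.rTensor_preserves_injective_linearMap (M := A) R₀.val.toLinearMap Subtype.val_injective
  have hdesc : ∀ z : R ⊗[k] A, (∀ j, Groth.Agent.H3CAlg.FibrewiseNonzero.coord b R z j ∈ R₀) →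
      ∃ z₀, φ z₀ = z := by
    intro z hz
    refine ⟨∑ j ∈ (Groth.Agent.H3CAlg.FibrewiseNonzero.coord b R z).support,
      (⟨_, hz j⟩ : R₀) ⊗ₜ b j, ?_⟩
    simp only [φ, map_sum, Algebra.TensorProduct.map_tmul, AlgHom.id_apply, Subalgebra.coe_val]
    conv_rhs => rw [← (Algebra.TensorProduct.basis R b).linearCombination_repr z,
      Finsupp.linearCombination_apply, Finsupp.sum]
    refine Finset.sum_congr rfl fun j _ ↦ ?_
    rw [Algebra.TensorProduct.basis_apply, TensorProduct.smul_tmul', smul_eq_mul, mul_one]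
    rfl
  have hmemc : ∀ (c : Module.Free.ChooseBasisIndex k A →₀ R) j, (↑(c.support.image c) : Set R) ⊆ ↑R₀ → c j ∈ R₀ := by
    intro c j hc
    by_cases h : c j = 0
    · rw [h]; exact R₀.zero_mem
    · exact hc (Finset.mem_image_of_mem c (Finsupp.mem_support_iff.mpr h))
  obtain ⟨G, hG⟩ := hdesc (g ^ N) fun j ↦ hmemc cg j fun x hx ↦
    Algebra.subset_adjoin (Finset.mem_union_left _ hx)
  obtain ⟨F, hF⟩ := hdesc f fun j ↦ hmemc cf j fun x hx ↦
    Algebra.subset_adjoin (Finset.mem_union_right _ hx)
  have hGF : G * F = 0 := hφ (by rw [map_mul, hG, hF, map_zero]; exact hN)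
  let q : Ideal R₀ := M.comap R₀.val
  let L := Localization.AtPrime q
  let ψ := Algebra.TensorProduct.map (IsScalarTower.toAlgHom k R₀ L) (AlgHom.id k A)
  have hF0 : ψ F = 0 := by
    refine Groth.Agent.H3CAlg.FibrewiseNonzero.eq_zero_of_mul_eq_zero b (G := ψ G) (i₀ := j₀) ?_
      (by rw [← map_mul, hGF, map_zero])
    rw [Groth.Agent.H3CAlg.FibrewiseNonzero.coord_map]
    show ¬ (algebraMap R₀ L _ ∈ IsLocalRing.maximalIdeal L)
    rw [IsLocalization.AtPrime.to_map_mem_maximal_iff L q]
    show ¬ (R₀.val (Groth.Agent.H3CAlg.FibrewiseNonzero.coord b R₀ G j₀) ∈ M)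
    rw [← Groth.Agent.H3CAlg.FibrewiseNonzero.coord_map, show Algebra.TensorProduct.map R₀.val (AlgHom.id k A) G = g ^ N from hG]
    exact hj₀
  have h1 := Groth.Agent.H3CAlg.FibrewiseNonzero.coord_map b (IsScalarTower.toAlgHom k R₀ L) F i
  rw [show Algebra.TensorProduct.map (IsScalarTower.toAlgHom k R₀ L) (AlgHom.id k A) F = 0 from hF0] at h1
  have h2 : algebraMap R₀ L (Groth.Agent.H3CAlg.FibrewiseNonzero.coord b R₀ F i) = 0 := by
    rw [Groth.Agent.H3CAlg.FibrewiseNonzero.coord_zero] at h1
    exact h1.symm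
  obtain ⟨⟨s, hs⟩, hs0⟩ := (IsLocalization.map_eq_zero_iff q.primeCompl L _).mp h2
  have h3 := congrArg R₀.val hs0
  rw [map_mul, map_zero, ← Groth.Agent.H3CAlg.FibrewiseNonzero.coord_map,
    show Algebra.TensorProduct.map R₀.val (AlgHom.id k A) F = f from hF] at h3
  exact hs (hle (Submodule.mem_colon_singleton.mpr (by simpa using h3)))

end Groth.Agent.S19310
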