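import Groth.Statements.S19315
import Groth.Agent.H25Euler.DecBound
import Groth.Agent.H28Neron.Extend
import Groth.Agent.H16Derived.KFlat.FinLocFree
import Groth.Agent.H16Derived.KFlat.PerfNoeth

set_option autoImplicit false
universe u
open CategoryTheory CategoryTheory.Limits AlgebraicGeometry
open DecSh

namespace Groth.Agent.S19315

/-- Let k be an algebraically closed field of characteristic zero, Y a smooth proper k-scheme of
dimension one without isolated points (possibly disconnected), L an ample invertible O_Y-module, χ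
the Euler characteristic over k and α(M) = χ(M ⊗ L) − χ(M) the multiplicity. Let E be a locally free
O_Y-module of rank r with a generalized parabolic structure: finitely many effective Cartier ideal
sheaves I_1, …, I_ν (the divisors D_i) and, for each i, a k-subspace K_i of H⁰(E ⊗ O_{D_i}) whose
quotient has dimension r (K_i is the kernel of the parabolic quotient q_i). Fix rational weights κ_i
with 0 < κ_i < 1, δ > 0, and a tensor field T of type (a, b) on E with values in a module D such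
that (E, K, T) is (κ, δ)-semistable with respect to L. Then every nonzero proper coherent subsheaf F
⊂ E satisfies χ(F)/α(F) ≤ χ(E)/α(E) + (a·δ + r·ν). (The source states the bound for the slopes deg/α
with deg as the constant term of the Hilbert polynomial corrected by the rank; these differ from χ/α
by the same constant on both sides. The published target of the tensor field is det(E)^{⊗c} ⊗ L' and
the D_i are the pairs of points over the nodes; the bound uses neither.) -/
theorem result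
    (k : Type u) [Field k] [IsAlgClosed k] [CharZero k]
    (Y : Scheme.{u}) [Y.Over (Spec (CommRingCat.of k))] [IsProper (Y ↘ Spec (CommRingCat.of k))]
    [Smooth (Y ↘ Spec (CommRingCat.of k))] (hdim : topologicalKrullDim Y = 1)
    (hpure : ∀ y : Y, ¬ IsOpen ({y} : Set Y))
    (L : Y.Modules) (hL : CohB1.IsAmple L)
    (E : Y.Modules) (r : ℕ) (hE : FlatMod.IsFinLocFreeOfRank r E)
    {ν : ℕ} (I : Fin ν → Y.IdealSheafData) (hI : ∀ i, FGA.IsEffCartier (I i))
    (K : ∀ i, Submodule k (ParSh.fibD Y (I i) E))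
    (hK : ∀ i, Module.finrank k (ParSh.fibD Y (I i) E ⧸ K i) = r)
    (κ : Fin ν → ℚ) (hκ : ∀ i, 0 < κ i ∧ κ i < 1)
    {D : Y.Modules} {a b : ℕ} (T : DecSh.TF E a b D)
    (δ : ℚ) (hδ : 0 < δ) (hT : T.IsParSemistable k I K κ L δ)
    (F : Y.Modules) (ι : F ⟶ E) [Mono ι] (hF : Coh.IsCoh F) (hF0 : ¬ IsZero F) (hι : ¬ IsIso ι) :
    (Curv2.euler k Y F : ℚ) / (DecSh.mult k Y L F : ℚ) ≤
      (Curv2.euler k Y E : ℚ) / (DecSh.mult k Y L E : ℚ) + ((a : ℚ) * δ + (r : ℚ) * (ν : ℚ)) := by
  haveI : IsLocallyNoetherian Y := LocallyOfFiniteType.isLocallyNoetherian (Y ↘ Spec (CommRingCat.of k))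
  haveI : AlgebraicGeometry.IsReduced Y := Groth.Agent.H28Neron.isReduced_of_smooth (Y ↘ Spec (CommRingCat.of k))
  have hd : topologicalKrullDim Y ≤ 1 := hdim.le
  have hfree : FlatMod.IsFinLocFree E := fun x => let ⟨U, hU⟩ := hE x; ⟨U, r, hU⟩
  have hEc : Coh.IsCoh E := Groth.Agent.H16Derived.KFlat.Stalk.isCoh_of_isFinLocFree hfree
  have htf : TorSh.IsTorsionFree E := fun x => by
    haveI : Module.Flat (Y.presheaf.stalk x) (E.presheaf.stalk x) :=
      Groth.Agent.H16Derived.KFlat.Stalk.isFlat_of_isFinLocFree hfree x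
    infer_instance
  have hE0 : ¬ IsZero E := fun hz => hF0 (IsZero.of_mono ι hz)
  have hr : 0 < r := by
    by_contra hr
    obtain rfl : r = 0 := by omega
    obtain ⟨x, hx⟩ := Groth.Agent.H25Euler.support_nonempty hE0
    obtain ⟨U, hxU, ⟨φ⟩⟩ := hE x
    have hz : IsZero (E.restrict U.ι) := IsZero.of_iso (by
      rw [IsZero.iff_id_eq_zero]
      exact Sigma.hom_ext _ _ (fun i => i.elim0)) φ
    exact Groth.Agent.LeadDev.notMem_support_of_isZero_restrict U.ι hz (x := x) (by simpa using hxU) hx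
  let e := Subobject.underlyingIso ι
  have hPc : Coh.IsCoh ((Subobject.mk ι : Subobject E) : Y.Modules) :=
    Groth.Agent.H10Coh.isCoh_of_iso e.symm hF
  have hP : Subobject.mk ι ≠ ⊤ := fun h => hι ((Subobject.isIso_iff_mk_eq_top ι).2 h)
  have hP0 : ¬ IsZero ((Subobject.mk ι : Subobject E) : Y.Modules) := fun h => hF0 (h.of_iso e.symm)
  have hμ := Groth.Agent.H25Euler.le_mu_single (DecSh.mult k Y L E) (fun P : Subobject E => DecSh.mult k Y L (P : Y.Modules))
    (Subobject.mk ι) hP hP0 (Groth.Agent.H25Euler.mult_nonneg k hd hL hEc) T.nv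
  have hs := hT (DecSh.WFilt.single (Subobject.mk ι) hP hP0) (fun _ => hPc)
  rw [Groth.Agent.H25Euler.msum_single] at hs
  have e1 : DecSh.mult k Y L ((Subobject.mk ι : Subobject E) : Y.Modules) = DecSh.mult k Y L F :=
    Groth.Agent.H25Euler.mult_congr k e
  have e2 : Curv2.euler k Y ((Subobject.mk ι : Subobject E) : Y.Modules) = Curv2.euler k Y F :=
    Groth.Agent.H25Euler.euler_congr e
  have hbd : ∀ {G : Y.Modules} (g : G ⟶ E),
      (0 : ℚ) ≤ ∑ i, κ i * (Module.finrank k ((LinearMap.range (ParSh.fibDMap k Y (I i) g)).map (K i).mkQ) : ℚ) ∧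
      ∑ i, κ i * (Module.finrank k ((LinearMap.range (ParSh.fibDMap k Y (I i) g)).map (K i).mkQ) : ℚ) ≤
        (r : ℚ) * (ν : ℚ) := fun {G} g => by
    refine ⟨Finset.sum_nonneg fun i _ => mul_nonneg (hκ i).1.le (Nat.cast_nonneg _), ?_⟩
    calc _ ≤ ∑ _i : Fin ν, (r : ℚ) := Finset.sum_le_sum fun i _ => by
            haveI : Module.Finite k (ParSh.fibD Y (I i) E ⧸ K i) :=
              Module.finite_of_finrank_pos (by rw [hK i]; exact hr)
            have h1 : (Module.finrank k ((LinearMap.range (ParSh.fibDMap k Y (I i) g)).map (K i).mkQ) : ℚ) ≤ (r : ℚ) := by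
              exact_mod_cast (Submodule.finrank_le _).trans (hK i).le
            exact le_trans (mul_le_of_le_one_left (Nat.cast_nonneg _) (hκ i).2.le) h1
      _ = (r : ℚ) * (ν : ℚ) := by simp [mul_comm]
  simp only [DecSh.parChi, e1, e2] at hs
  simp only [e1] at hμ
  obtain ⟨hqF, hqF'⟩ := hbd (Subobject.mk ι).arrow
  obtain ⟨hqE, hqE'⟩ := hbd (𝟙 E)
  have hαF := Groth.Agent.H25Euler.mult_pos k hd hpure hL hF (Groth.Agent.H25Euler.isTorsionFree_of_mono ι htf) hF0
  have hle := Groth.Agent.H25Euler.mult_le_of_mono k hd hL ι hF hEc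
  have h1 : (1 : ℚ) ≤ (DecSh.mult k Y L F : ℚ) := by exact_mod_cast hαF
  have h2 : (DecSh.mult k Y L F : ℚ) ≤ (DecSh.mult k Y L E : ℚ) := by exact_mod_cast hle
  have ha : (0 : ℚ) ≤ (a : ℚ) * δ := mul_nonneg (Nat.cast_nonneg _) hδ.le
  rw [div_add' _ _ _ (by linarith), div_le_div_iff₀ (by linarith) (by linarith)]
  have h3 := mul_le_mul_of_nonneg_left hqF' (show (0 : ℚ) ≤ (DecSh.mult k Y L E : ℚ) by linarith)
  have h4 := mul_nonneg (show (0 : ℚ) ≤ (DecSh.mult k Y L F : ℚ) by linarith) hqE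
  have h5 : (r : ℚ) * (ν : ℚ) * (DecSh.mult k Y L E : ℚ) ≤
      (r : ℚ) * (ν : ℚ) * (DecSh.mult k Y L E : ℚ) * (DecSh.mult k Y L F : ℚ) :=
    le_mul_of_one_le_right (mul_nonneg (mul_nonneg (Nat.cast_nonneg _) (Nat.cast_nonneg _)) (by linarith)) h1
  have h6 : (a : ℚ) * δ * (DecSh.mult k Y L E : ℚ) ≤
      (a : ℚ) * δ * (DecSh.mult k Y L E : ℚ) * (DecSh.mult k Y L F : ℚ) :=
    le_mul_of_one_le_right (mul_nonneg ha (by linarith)) h1
  nlinarith [mul_le_mul_of_nonneg_left hμ hδ.le]

end Groth.Agent.S19315
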