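import Groth.Statements.S19322
import Groth.Agent.H16Derived.SpFil.LineDim

set_option autoImplicit false
universe v u
open CategoryTheory CategoryTheory.Limits
open SpSeq

namespace Groth.Agent.S19322

open Groth.Agent.H16Derived

/-- Let K be a field and E a cohomological spectral sequence of K-vector spaces, pages from r₀,
concentrated in the first quadrant on page r₀ and with all terms of page r₀ finite-dimensional, and
let H be abutment data for E whose filtration in degree n is finite, H n finite-dimensional. If the
dimensions of the page-r₀ terms E^{s, n-s}, 0 ≤ s ≤ n, add up to the dimension of H n, then every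
position of total degree n is stationary from page r₀ on: all differentials into and out of it
vanish on every page. (The printed statement takes r₀ a positive integer and n ≥ 0; neither
restriction is needed.) -/
theorem result
    {K : Type u} [Field K] {r₀ : ℤ}
    (E : CohomologicalSpectralSequence (ModuleCat.{v} K) r₀) (H : ℤ → ModuleCat.{v} K)
    (a : SpSeq.Abutment E H) (n : ℤ) (hfin : a.IsFinite n)
    (hquad : ∀ pq : ℤ × ℤ, pq.1 < 0 ∨ pq.2 < 0 → IsZero ((E.page r₀ le_rfl).X pq))
    (hfd : ∀ pq : ℤ × ℤ, Module.Finite K ((E.page r₀ le_rfl).X pq))
    (hH : Module.Finite K (H n))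
    (hsum : ∑ s ∈ Finset.Icc (0 : ℤ) n, Module.finrank K ((E.page r₀ le_rfl).X (s, n - s)) =
      Module.finrank K (H n)) :
    ∀ s : ℤ, SpSeq.StationaryAt E (s, n - s) r₀ := by
  exact SpFil.stationaryAt_line E a n hfin hquad hfd hH hsum

end Groth.Agent.S19322
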