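import Groth.Statements.S19323
import Groth.Agent.H16Derived.SpFil.Line

set_option autoImplicit false
universe v u
open CategoryTheory CategoryTheory.Limits
open SpSeq

namespace Groth.Agent.S19323

open Groth.Agent.H16Derived

/-- In an abelian category let E and E' be first-quadrant E₂ cohomological spectral sequences and φ : E
⟶ E' a morphism of spectral sequences such that (i) every differential of E' leaving a position
whose first coordinate is nonzero vanishes, (ii) on every page the map φ at each position followed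
by the outgoing differential of E' is zero, and (iii) φ is a monomorphism at every position of page
2. Then E degenerates at page 2. -/
theorem result
    {C : Type u} [Category.{v} C] [Abelian C]
    (E E' : E₂CohomologicalSpectralSequence C) (φ : E ⟶ E')
    (hE : ∀ pq : ℤ × ℤ, pq.1 < 0 ∨ pq.2 < 0 → IsZero ((E.page 2 le_rfl).X pq))
    (hE' : ∀ pq : ℤ × ℤ, pq.1 < 0 ∨ pq.2 < 0 → IsZero ((E'.page 2 le_rfl).X pq))
    (hd' : ∀ (r : ℤ) (hr : 2 ≤ r) (pq : ℤ × ℤ), pq.1 ≠ 0 →
      (E'.page r hr).d pq (pq + (r, 1 - r)) = 0)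
    (hφd : ∀ (r : ℤ) (hr : 2 ≤ r) (pq : ℤ × ℤ),
      (φ.hom r hr).f pq ≫ (E'.page r hr).d pq (pq + (r, 1 - r)) = 0)
    (hmono : ∀ pq : ℤ × ℤ, Mono ((φ.hom 2 le_rfl).f pq)) :
    SpSeq.Degenerates E 2 := by
  exact SpFil.degenerates_two E E' φ hE hd' hφd hmono

end Groth.Agent.S19323
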