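import Groth.Statements.S19326
import Groth.Agent.H20Comod.Diag

set_option autoImplicit false
universe u
open TensorProduct
open GLin

namespace Groth.Agent.S19326
open Groth.Agent.H20Comod

/-- Let k be a field, M a finite abelian group and D = Spec k[M] the finite diagonalizable group scheme
it defines, acting on an affine k-scheme U = Spec R through a multiplicative coaction R → R ⊗ k[M];
write R_a for the weight space of a ∈ M (elements with coaction f ⊗ a). For an ideal J of R the
induced action of D on the closed subscheme V(J) is trivial, meaning that the coaction followed by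
reduction modulo J equals f ↦ (f mod J) ⊗ 1, exactly when J contains the ideal generated by the
weight spaces R_a for a ≠ 0; in other words that ideal defines the largest closed subscheme of U on
which D acts trivially. (The printed setting has U smooth, which plays no role here and is not
assumed; the further assertion that the construction commutes with flat base change on U/D is not
part of this statement.) -/
theorem result
    {k : Type u} [Field k] {M : Type u} [AddCommGroup M] [Finite M]
    {R : Type u} [CommRing R] [Algebra k R] [HopfRep.Comod k (AddMonoidAlgebra k M) R]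
    [GLin.IsCoactAlg k (AddMonoidAlgebra k M) R] (J : Ideal R) :
    (∀ f : R, LinearMap.rTensor (AddMonoidAlgebra k M) (Ideal.Quotient.mkₐ k J).toLinearMap
        (HopfRep.Comod.coact (k := k) (A := AddMonoidAlgebra k M) f) =
        (Ideal.Quotient.mk J f) ⊗ₜ[k] (1 : AddMonoidAlgebra k M)) ↔
      Ideal.span (⋃ (a : M) (_ : a ≠ 0),
        (HopfRep.eigenspace k (AddMonoidAlgebra k M) R (AddMonoidAlgebra.single a 1) : Set R)) ≤ J := by
  classical
  haveI := Fintype.ofFinite M
  let Q := AddMonoidAlgebra k M
  let B := AddMonoidAlgebra.basis M k
  have hex : ∀ {W : Type u} [AddCommGroup W] [Module k W] (x : W ⊗[k] Q),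
      x = ∑ a, sliceR (B.coord a) x ⊗ₜ[k] B a := by
    intro W _ _ x
    induction x using TensorProduct.induction_on with
    | zero => simp
    | tmul w q =>
      simp only [sliceR_tmul, TensorProduct.smul_tmul, ← TensorProduct.tmul_sum, Module.Basis.coord_apply,
        B.sum_repr]
    | add x y hx hy =>
      simp only [map_add, TensorProduct.add_tmul, Finset.sum_add_distrib]
      rw [← hx, ← hy]
  have hB : ∀ a, B a = AddMonoidAlgebra.single a 1 := AddMonoidAlgebra.basis_apply _
  have hcoord : ∀ a b : M, B.coord a (B b) = if b = a then 1 else 0 := fun a b => by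
    rw [Module.Basis.coord_apply, B.repr_self, Finsupp.single_apply]
  have heig : ∀ (a : M) (f : R), actL (B.coord a) f ∈ HopfRep.eigenspace k Q R (AddMonoidAlgebra.single a 1) := by
    intro a f
    show HopfRep.Comod.coact (k := k) (A := Q) (actL (B.coord a) f) =
      actL (B.coord a) f ⊗ₜ[k] AddMonoidAlgebra.single a 1
    have hA : (actL (B.coord a) : Q →ₗ[k] Q) = (B.coord a).smulRight (B a) := by
      refine B.ext fun b => ?_
      rw [LinearMap.smulRight_apply, hcoord, actL_apply,
        show HopfRep.Comod.coact (k := k) (A := Q) (B b) = B b ⊗ₜ[k] B b by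
          show CoalgebraStruct.comul (R := k) (B b) = _
          rw [hB, AddMonoidAlgebra.comul_single]; simp]
      rw [sliceR_tmul, hcoord]
      split_ifs with h
      · subst h; rfl
      · simp
    rw [coact_actL', hA, actL_apply]
    generalize HopfRep.Comod.coact (k := k) (A := Q) f = z
    induction z using TensorProduct.induction_on with
    | zero => simp
    | tmul w q =>
      rw [LinearMap.lTensor_tmul, LinearMap.smulRight_apply, sliceR_tmul, TensorProduct.smul_tmul, hB]
    | add x y hx hy => simp only [map_add, TensorProduct.add_tmul, hx, hy]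
  constructor
  · intro h
    rw [Ideal.span_le]
    intro f hf
    simp only [Set.mem_iUnion] at hf
    obtain ⟨a, ha, hf⟩ := hf
    have h1 := congrArg (sliceR (B.coord a)) (h f)
    rw [show HopfRep.Comod.coact (k := k) (A := Q) f = f ⊗ₜ[k] AddMonoidAlgebra.single a 1 from hf,
      LinearMap.rTensor_tmul, sliceR_tmul, sliceR_tmul, ← hB, hcoord, if_pos rfl, one_smul,
      AddMonoidAlgebra.one_def, ← hB, hcoord, if_neg (Ne.symm ha), zero_smul] at h1
    exact Ideal.Quotient.eq_zero_iff_mem.1 h1
  · intro hJ f
    have hJ' : ∀ a : M, a ≠ 0 → Ideal.Quotient.mk J (actL (B.coord a) f) = 0 := fun a ha =>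
      Ideal.Quotient.eq_zero_iff_mem.2 (hJ (Ideal.subset_span (by
        simp only [Set.mem_iUnion]; exact ⟨a, ha, heig a f⟩)))
    have hsum : ∑ a, actL (B.coord a) f = f := by
      conv_rhs => rw [← actL_counit (k := k) (A := Q) f, actL_apply, hex (HopfRep.Comod.coact (k := k) (A := Q) f)]
      rw [map_sum]
      refine Finset.sum_congr rfl fun a _ => ?_
      rw [sliceR_tmul, hB, show CoalgebraStruct.counit (R := k) (AddMonoidAlgebra.single a (1 : k)) = 1 from
        (AddMonoidAlgebra.counit_single a (1 : k)).trans (by simp), one_smul]
      rfl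
    rw [hex (LinearMap.rTensor _ _ _), Finset.sum_eq_single (0 : M)]
    · rw [sliceR_rTensor, hB, AddMonoidAlgebra.one_def]
      congr 1
      show Ideal.Quotient.mk J (actL (B.coord 0) f) = _
      conv_rhs => rw [← hsum, map_sum, Finset.sum_eq_single (0 : M) (fun a _ ha => hJ' a ha) (by simp)]
    · intro a _ ha
      rw [sliceR_rTensor, show (Ideal.Quotient.mkₐ k J).toLinearMap (sliceR (B.coord a)
        (HopfRep.Comod.coact (k := k) (A := Q) f)) = 0 from hJ' a ha, TensorProduct.zero_tmul]
    · simp

end Groth.Agent.S19326
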