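import Groth.Statements.S19328
import Mathlib

set_option autoImplicit false
universe u
open CategoryTheory CategoryTheory.Limits AlgebraicGeometry
open ModPair

namespace Groth.Agent.S19328

/-- Let A be a commutative ring such that Spec A is local for fppf coverings, in the sense that for
every scheme X, every jointly surjective family of morphisms to X each of which is flat and of
finite presentation (locally of finite presentation, quasi-compact and quasi-separated), and every
morphism Spec A ⟶ X, the morphism factors through a member of the family. Then the residue field of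
A at every prime ideal is algebraically closed. -/
theorem result (A : Type u) [CommRing A]
    (hloc : ∀ (X : Scheme.{u}) (R : Presieve X),
      R ∈ Scheme.precoverage (@Flat ⊓ @LocallyOfFinitePresentation ⊓ @QuasiCompact ⊓ @QuasiSeparated) X →
      ∀ g : Spec (CommRingCat.of A) ⟶ X,
        ∃ (Y : Scheme.{u}) (v : Y ⟶ X) (h : Spec (CommRingCat.of A) ⟶ Y), R v ∧ h ≫ v = g)
    (p : Ideal A) [p.IsPrime] : IsAlgClosed p.ResidueField := by
  let K := p.ResidueField
  let φ : A →+* K := algebraMap A K
  refine IsAlgClosed.of_exists_root K fun q hq hirr => ?_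
  obtain ⟨b, hb⟩ := IsLocalization.exist_integer_multiples (nonZeroDivisors (A ⧸ p))
    (Finset.range q.natDegree) (fun i => q.coeff i)
  obtain ⟨s, hs⟩ := Ideal.Quotient.mk_surjective (b : A ⧸ p)
  have hφs : φ s = algebraMap (A ⧸ p) K (b : A ⧸ p) := by
    rw [← hs, ← Ideal.Quotient.algebraMap_eq, ← IsScalarTower.algebraMap_apply A (A ⧸ p) K]
  have hs0 : φ s ≠ 0 := by
    rw [hφs]
    exact IsFractionRing.to_map_ne_zero_of_mem_nonZeroDivisors b.2
  have hlift : q.scaleRoots (φ s) ∈ Polynomial.lifts φ := by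
    refine (Polynomial.lifts_iff_coeff_lifts _).2 fun i => ?_
    rw [Polynomial.coeff_scaleRoots]
    rcases lt_trichotomy i q.natDegree with hi | hi | hi
    · obtain ⟨y, hy⟩ := hb i (Finset.mem_range.2 hi)
      obtain ⟨z, rfl⟩ := Ideal.Quotient.mk_surjective y
      obtain ⟨j, hj⟩ : ∃ j, q.natDegree - i = j + 1 := ⟨q.natDegree - i - 1, by omega⟩
      refine ⟨z * s ^ j, ?_⟩
      rw [map_mul, map_pow, hj, pow_succ', ← mul_assoc]
      congr 1
      rw [mul_comm, hφs, show φ z = algebraMap (A ⧸ p) K (Ideal.Quotient.mk p z) from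
        IsScalarTower.algebraMap_apply A (A ⧸ p) K z, hy]
      exact Algebra.smul_def _ _
    · exact ⟨1, by rw [hi, Nat.sub_self, pow_zero, mul_one, map_one, hq.coeff_natDegree]⟩
    · exact ⟨0, by rw [map_zero, Polynomial.coeff_eq_zero_of_natDegree_lt hi, zero_mul]⟩
  obtain ⟨F, hFmap, hFdeg, hFm⟩ := Polynomial.lifts_and_natDegree_eq_and_monic hlift
    ((Polynomial.monic_scaleRoots_iff _).2 hq)
  haveI := hFm.free_adjoinRoot
  haveI := hFm.finite_adjoinRoot
  let B := AdjoinRoot F
  let ι : CommRingCat.of A ⟶ CommRingCat.of B := CommRingCat.ofHom (algebraMap A B)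
  have hflat : Flat (Spec.map ι) :=
    HasRingHomProperty.Spec_iff.2 (RingHom.flat_algebraMap_iff.2 (Module.Flat.of_free (R := A) (M := AdjoinRoot F)))
  have hlfp : LocallyOfFinitePresentation (Spec.map ι) :=
    HasRingHomProperty.Spec_iff.2 (RingHom.finitePresentation_algebraMap.2 (inferInstanceAs (Algebra.FinitePresentation A (AdjoinRoot F))))
  have hinj : Function.Injective (algebraMap A B) := by
    refine (injective_iff_map_eq_zero _).2 fun a ha => by_contra fun hne => ?_
    refine AdjoinRoot.mk_ne_zero_of_natDegree_lt hFm (Polynomial.C_ne_zero.2 hne) ?_ ?_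
    · rw [Polynomial.natDegree_C, hFdeg, Polynomial.natDegree_scaleRoots]
      exact hirr.natDegree_pos
    · rw [AdjoinRoot.mk_C, ← AdjoinRoot.algebraMap_eq]
      exact ha
  have hsurj : Function.Surjective (Spec.map ι).base :=
    (RingHom.IsIntegral.comap_surjective (algebraMap_isIntegral_iff.2 inferInstance) hinj)
  obtain ⟨Y, v, h, hv, hcomp⟩ := hloc (Spec (CommRingCat.of A)) (Presieve.singleton (Spec.map ι))
    ((Scheme.singleton_mem_precoverage_iff _ (Spec.map ι)).2
      ⟨hsurj, ⟨⟨hflat, hlfp⟩, inferInstance⟩, inferInstance⟩) (𝟙 _)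
  cases hv
  obtain ⟨ψ, rfl⟩ := Spec.map_surjective h
  have hψ : ∀ a, ψ.hom (algebraMap A B a) = a := fun a => by
    rw [← Spec.map_comp, ← Spec.map_id, Spec.map_inj] at hcomp
    exact ConcreteCategory.congr_hom hcomp a
  have hroot : Polynomial.eval₂ φ (φ (ψ.hom (AdjoinRoot.root F))) F = 0 := by
    rw [Polynomial.eval₂_at_apply]
    have h1 : ψ.hom (Polynomial.eval₂ (algebraMap A B) (AdjoinRoot.root F) F) = 0 := by
      rw [AdjoinRoot.algebraMap_eq, AdjoinRoot.eval₂_root, map_zero]
    rw [Polynomial.hom_eval₂, show ψ.hom.comp (algebraMap A B) = RingHom.id A from RingHom.ext hψ] at h1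
    rw [show Polynomial.eval (ψ.hom (AdjoinRoot.root F)) F = 0 from h1, map_zero]
  refine ⟨φ (ψ.hom (AdjoinRoot.root F)) / φ s, ?_⟩
  rw [← Polynomial.eval_map, hFmap] at hroot
  have h2 := Polynomial.scaleRoots_eval₂_mul (p := q) (RingHom.id K) (φ (ψ.hom (AdjoinRoot.root F)) / φ s) (φ s)
  rw [RingHom.id_apply, mul_div_cancel₀ _ hs0] at h2
  change Polynomial.eval _ (q.scaleRoots (φ s)) = _ * Polynomial.eval _ q at h2
  rw [hroot] at h2
  exact (mul_eq_zero.1 h2.symm).resolve_left (pow_ne_zero _ hs0)

end Groth.Agent.S19328
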