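import Groth.Statements.S19329
import Groth.Agent.H26ModPair.Basic

set_option autoImplicit false
universe u
open CategoryTheory CategoryTheory.Limits AlgebraicGeometry TopologicalSpace
open ModPair

namespace Groth.Agent.S19329

open Groth.Agent.H26ModPair AlgebraicGeometry

theorem key {Y : Scheme} {J L : Y.IdealSheafData} {V : Y.affineOpens} {c d : Γ(Y, V.1)}
    (hc : c ∈ nonZeroDivisors Γ(Y, V.1)) (hL : L.ideal V = Ideal.span {c})
    (hJ : J.ideal V = Ideal.span {c * d}) {y : Y} (hy : y ∈ V.1) :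
    (∃ W : Y.affineOpens, y ∈ W.1 ∧ J.ideal W = L.ideal W) ↔ y ∈ Y.basicOpen d := by
  constructor
  · rintro ⟨W, hyW, hW⟩
    obtain ⟨W', hW'a, hyW', hW'le⟩ :=
      exists_isAffineOpen_mem_and_subset (X := Y) (U := V.1 ⊓ W.1) ⟨hy, hyW⟩
    let W'' : Y.affineOpens := ⟨W', hW'a⟩
    have hWV : W''.1 ≤ V.1 := fun z hz => (hW'le hz).1
    have e : J.ideal W'' = L.ideal W'' := by
      rw [← J.map_ideal (U := W'') (V := W) (fun z hz => (hW'le hz).2),
        ← L.map_ideal (U := W'') (V := W) (fun z hz => (hW'le hz).2), hW]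
    set r := (Y.presheaf.map (homOfLE hWV).op).hom with hr
    rw [H29Blow.ideal_eq_span_res hWV hJ, H29Blow.ideal_eq_span_res hWV hL, map_mul] at e
    obtain ⟨z, hz⟩ := Ideal.mem_span_singleton.1 (e ▸ Ideal.mem_span_singleton_self (r c) :
      r c ∈ Ideal.span {r c * r d})
    have hu : IsUnit (r d) := by
      refine IsUnit.of_mul_eq_one z ?_
      refine (mul_cancel_left_mem_nonZeroDivisors (H29Blow.res_mem_nonZeroDivisors hWV hc)).1 ?_
      rw [← mul_assoc, ← hz, mul_one]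
    have h1 : y ∈ Y.basicOpen (r d) := by rw [Scheme.basicOpen_of_isUnit _ hu]; exact hyW'
    rw [hr, Scheme.basicOpen_res] at h1
    exact h1.2
  · intro hd
    refine ⟨Y.affineBasicOpen d, hd, ?_⟩
    have hle : (Y.affineBasicOpen d).1 ≤ V.1 := Y.basicOpen_le d
    rw [H29Blow.ideal_eq_span_res hle hJ, H29Blow.ideal_eq_span_res hle hL, map_mul]
    exact Ideal.span_singleton_mul_right_unit (RingedSpace.isUnit_res_basicOpen _ d) _

/-- Let (X, I), (Y, J), (Z, K) be modulus pairs, i.e. schemes with quasi-coherent ideal sheaves of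
effective Cartier divisors, and let f : X ⟶ Y and g : Y ⟶ Z satisfy the modulus conditions I ≤
J.comap f and J ≤ K.comap g. Suppose the composite X ⟶ Z is minimal, I = K.comap (f ≫ g). Then f is
minimal, and there is an open subset U of Y whose inclusion is quasi-compact, which contains the
image of f, and such that U ⟶ Z is minimal for the modulus of Y restricted to U. -/
theorem result {X Y Z : Scheme.{u}}
    (I : X.IdealSheafData) (J : Y.IdealSheafData) (K : Z.IdealSheafData)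
    (hI : BlowUp.IsEffCartierIdeal I) (hJ : BlowUp.IsEffCartierIdeal J)
    (hK : BlowUp.IsEffCartierIdeal K) (f : X ⟶ Y) (g : Y ⟶ Z)
    (hf : ModPair.IsAmbient I J f) (hg : ModPair.IsAmbient J K g)
    (hfg : ModPair.IsMinimal I K (f ≫ g)) :
    ModPair.IsMinimal I J f ∧
      ∃ U : Y.Opens, QuasiCompact U.ι ∧ Set.range f.base ⊆ (U : Set Y) ∧
        ModPair.IsMinimal (J.comap U.ι) K (U.ι ≫ g) := by
  have hgf : (K.comap g).comap f = I := by rw [← Scheme.IdealSheafData.comap_comp]; exact hfg.symm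
  have hmin : ModPair.IsMinimal I J f := le_antisymm hf
    ((Scheme.IdealSheafData.comap_mono f hg).trans hgf.le)
  refine ⟨hmin, ?_⟩
  set L := K.comap g with hL
  have hLe : BlowUp.IsEffCartierIdeal L := isEff_comap_of_le hJ hK g hg
  have chart : ∀ y : Y, ∃ (V : Y.affineOpens) (c d : Γ(Y, V.1)), y ∈ V.1 ∧
      c ∈ nonZeroDivisors Γ(Y, V.1) ∧ L.ideal V = Ideal.span {c} ∧ J.ideal V = Ideal.span {c * d} := by
    intro y
    obtain ⟨V₁, hy₁, -, a, -, hJV⟩ := H29Blow.exists_gen hJ (x := y) (W := ⊤) trivial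
    obtain ⟨V, hyV, hV₁, c, hc, hLV⟩ := H29Blow.exists_gen hLe (x := y) (W := V₁.1) hy₁
    have hJV' := H29Blow.ideal_eq_span_res hV₁ hJV
    have hmem : (Y.presheaf.map (homOfLE hV₁).op).hom a ∈ L.ideal V :=
      hg V (hJV' ▸ Ideal.mem_span_singleton_self _)
    rw [hLV, Ideal.mem_span_singleton] at hmem
    obtain ⟨d, hd⟩ := hmem
    exact ⟨V, c, d, hyV, hc, hLV, by rw [hJV', hd]⟩
  let U : Y.Opens := ⟨{y | ∃ W : Y.affineOpens, y ∈ W.1 ∧ J.ideal W = L.ideal W}, by
    refine isOpen_iff_forall_mem_open.2 fun y ⟨W, hy, hW⟩ => ⟨W.1, fun z hz => ⟨W, hz, hW⟩, W.1.2, hy⟩⟩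
  haveI : IsAffineHom U.ι := by
    choose V c d hyV hc hLV hJV using chart
    refine IsZariskiLocalAtTarget.of_iSup_eq_top (fun y => (V y).1)
      (eq_top_iff.mpr fun y _ => Opens.mem_iSup.mpr ⟨y, hyV y⟩) fun y => ?_
    haveI : IsAffine ((V y).1 : Scheme) := (V y).2
    rw [HasAffineProperty.iff_of_isAffine (P := @IsAffineHom)]
    change IsAffineOpen (U.ι ⁻¹ᵁ (V y).1)
    rw [← Scheme.Hom.isAffineOpen_iff_of_isOpenImmersion U.ι]
    have e : U.ι ''ᵁ (U.ι ⁻¹ᵁ (V y).1) = Y.basicOpen (d y) := by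
      rw [Scheme.Hom.image_preimage_eq_opensRange_inf, Scheme.Opens.opensRange_ι]
      ext z
      exact ⟨fun ⟨hzU, hzV⟩ => (key (hc y) (hLV y) (hJV y) hzV).1 hzU,
        fun hz => ⟨(key (hc y) (hLV y) (hJV y) (Y.basicOpen_le _ hz)).2 hz, Y.basicOpen_le _ hz⟩⟩
    rw [e]
    exact (V y).2.basicOpen _
  refine ⟨U, inferInstance, ?_, ?_⟩
  · rintro _ ⟨x, rfl⟩
    obtain ⟨V, c, d, hyV, hc, hLV, hJV⟩ := chart (f x)
    refine (key hc hLV hJV hyV).2 ?_
    obtain ⟨W, hxW, hWV, a, ha, hIW⟩ := H29Blow.exists_gen hI (x := x) (W := f ⁻¹ᵁ V.1) hyV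
    set r := (f.appLE V.1 W.1 hWV).hom with hr
    have h1 : I.ideal W = Ideal.span {r c} := by
      rw [← hgf, H29Blow.ideal_comap L f V W hWV, hLV, Ideal.map_span, Set.image_singleton]
    have h2 : I.ideal W = Ideal.span {r c * r d} := by
      rw [show I = J.comap f from hmin, H29Blow.ideal_comap J f V W hWV, hJV, Ideal.map_span,
        Set.image_singleton, map_mul]
    have hrc : r c ∈ nonZeroDivisors Γ(X, W.1) := by
      obtain ⟨b, hb⟩ := Ideal.mem_span_singleton.1 (h1 ▸ hIW.symm ▸ Ideal.mem_span_singleton_self a :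
        a ∈ Ideal.span {r c})
      rw [hb] at ha
      exact (mul_mem_nonZeroDivisors.1 ha).1
    obtain ⟨z, hz⟩ := Ideal.mem_span_singleton.1 ((h1.symm.trans h2) ▸ Ideal.mem_span_singleton_self (r c) :
      r c ∈ Ideal.span {r c * r d})
    have hu : IsUnit (r d) := by
      refine IsUnit.of_mul_eq_one z ?_
      refine (mul_cancel_left_mem_nonZeroDivisors hrc).1 ?_
      rw [← mul_assoc, ← hz, mul_one]
    have h3 : x ∈ X.basicOpen (r d) := by rw [Scheme.basicOpen_of_isUnit _ hu]; exact hxW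
    rw [hr, Scheme.basicOpen_appLE] at h3
    exact h3.2
  · show J.comap U.ι = K.comap (U.ι ≫ g)
    rw [Scheme.IdealSheafData.comap_comp, ← hL]
    refine H29Blow.ext_of_forall_exists fun u => ?_
    obtain ⟨W, hW, hJL⟩ := u.2
    obtain ⟨V, hV, huV, hle⟩ := exists_isAffineOpen_mem_and_subset (X := U.toScheme) (U := U.ι ⁻¹ᵁ W.1) (x := u) hW
    exact ⟨⟨V, hV⟩, huV, by rw [H29Blow.ideal_comap J U.ι W ⟨V, hV⟩ hle, H29Blow.ideal_comap L U.ι W ⟨V, hV⟩ hle, hJL]⟩

end Groth.Agent.S19329
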