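import Groth.Statements.S19330
import Groth.Agent.H26ModPair.Basic

set_option autoImplicit false
universe u
open CategoryTheory CategoryTheory.Limits AlgebraicGeometry TopologicalSpace
open ModPair

namespace Groth.Agent.S19330

open Groth.Agent.H26ModPair

lemma dominant_toImage {X Y : Scheme} (f : X ⟶ Y) [QuasiCompact f] :
    IsSchemeTheoreticallyDominant f.toImage := by
  refine ⟨H29Blow.ext_of_forall_exists fun x => ?_⟩
  obtain ⟨U, hU, hxU, -⟩ := exists_isAffineOpen_mem_and_subset (X := Y) (x := f.imageι x) (U := ⊤) trivial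
  refine ⟨⟨f.imageι ⁻¹ᵁ U, hU.preimage f.imageι⟩, hxU, ?_⟩
  rw [Scheme.Hom.ker_apply, Scheme.IdealSheafData.ideal_bot, Pi.bot_apply,
    ← RingHom.injective_iff_ker_eq_bot]
  exact Scheme.Hom.toImage_app_injective f (U := ⟨U, hU⟩)

/-- Let (S, I) be a modulus pair, i.e. a scheme with the quasi-coherent ideal sheaf of an effective
Cartier divisor, with interior U, and let g_i : V_i ⟶ U be a jointly surjective family of closed
immersions into the interior. Let V̄_i be the scheme-theoretic image of V_i ⟶ U ⟶ S. Then the closed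
immersions V̄_i ⟶ S are jointly surjective, the modulus restricted to each V̄_i is again the ideal
sheaf of an effective Cartier divisor (so that V̄_i ⟶ S is a minimal morphism of modulus pairs), and
the interior of V̄_i is V_i: the canonical morphism V_i ⟶ V̄_i is an open immersion whose image is
the preimage of U. -/
theorem result {S : Scheme.{u}} (I : S.IdealSheafData)
    (hI : BlowUp.IsEffCartierIdeal I) {ι : Type u} (V : ι → Scheme.{u})
    (g : ∀ i, V i ⟶ (ModPair.interior I : Scheme.{u})) [∀ i, IsClosedImmersion (g i)]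
    (hsurj : ∀ u : (ModPair.interior I : Scheme.{u}), ∃ (i : ι) (v : V i), (g i).base v = u) :
    (∀ s : S, ∃ (i : ι) (v : (g i ≫ (ModPair.interior I).ι).image),
        (g i ≫ (ModPair.interior I).ι).imageι.base v = s) ∧
      (∀ i, BlowUp.IsEffCartierIdeal (I.comap (g i ≫ (ModPair.interior I).ι).imageι)) ∧
      ∀ i, IsOpenImmersion (g i ≫ (ModPair.interior I).ι).toImage ∧
        Set.range (g i ≫ (ModPair.interior I).ι).toImage.base =
          (g i ≫ (ModPair.interior I).ι).imageι.base ⁻¹' (ModPair.interior I : Set S) := by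
  haveI := isAffineHom_interior hI
  set j := (ModPair.interior I).ι with hj
  let k : ∀ i, V i ⟶ S := fun i => g i ≫ j
  haveI : ∀ i, QuasiCompact (k i) := fun i => inferInstance
  haveI : ∀ i, IsSchemeTheoreticallyDominant (k i).toImage := fun i => dominant_toImage _
  have hmem : ∀ i v, (k i).toImage v ∈ (k i).imageι ⁻¹ᵁ ModPair.interior I := fun i v => by
    show (k i).imageι ((k i).toImage v) ∈ ModPair.interior I
    rw [← Scheme.Hom.comp_apply, Scheme.Hom.toImage_imageι]
    exact (g i v).2
  let P : ∀ i, (k i).image.Opens := fun i => (k i).imageι ⁻¹ᵁ ModPair.interior I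
  have hl : ∀ i, ∃ l : V i ⟶ (P i).toScheme, IsIso l ∧ l ≫ (P i).ι = (k i).toImage := by
    intro i
    let l : V i ⟶ (P i).toScheme := IsOpenImmersion.lift (P i).ι (k i).toImage (by
      rw [Scheme.Opens.range_ι]
      rintro _ ⟨v, rfl⟩
      exact hmem i v)
    have hfac : l ≫ (P i).ι = (k i).toImage := IsOpenImmersion.lift_fac _ _ _
    have hg : l ≫ ((k i).imageι ∣_ ModPair.interior I) = g i := by
      rw [← cancel_mono j, Category.assoc, hj, morphismRestrict_ι, reassoc_of% hfac,
        Scheme.Hom.toImage_imageι]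
    haveI : IsClosedImmersion (l ≫ ((k i).imageι ∣_ ModPair.interior I)) := by rw [hg]; infer_instance
    haveI : IsClosedImmersion ((k i).imageι ∣_ ModPair.interior I) :=
      IsZariskiLocalAtTarget.restrict (P := @IsClosedImmersion) inferInstance _
    haveI : IsClosedImmersion l := IsClosedImmersion.of_comp_isClosedImmersion l ((k i).imageι ∣_ ModPair.interior I)
    haveI : IsSchemeTheoreticallyDominant l :=
      IsSchemeTheoreticallyDominant.of_isPullback (f := (k i).toImage) (g := (P i).ι)
        (pX := 𝟙 (V i)) (IsPullback.of_horiz_isIso_mono ⟨by rw [Category.id_comp]; exact hfac.symm⟩)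
    exact ⟨l, IsClosedImmersion.isIso_iff_ker_eq_bot.2 l.ker_eq_bot, hfac⟩
  refine ⟨fun s => ?_, fun i => ?_, fun i => ?_⟩
  · obtain ⟨ξ, hξs, hξmax⟩ := H29Blow.exists_maximal_generization s
    have hξ : ξ ∈ ModPair.interior I := H29Blow.not_mem_support_of_maximal hI ξ hξmax
    obtain ⟨i, v, hv⟩ := hsurj ⟨ξ, hξ⟩
    have h1 : ξ ∈ Set.range (k i).imageι := by
      refine ⟨(k i).toImage v, ?_⟩
      rw [← Scheme.Hom.comp_apply, Scheme.Hom.toImage_imageι]
      show (ModPair.interior I).ι (g i v) = ξ
      rw [show g i v = ⟨ξ, hξ⟩ from hv]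
      rfl
    obtain ⟨w, hw⟩ := hξs.mem_closed (k i).imageι.isClosedEmbedding.isClosed_range h1
    exact ⟨i, w, hw⟩
  · obtain ⟨l, -, hfac⟩ := hl i
    haveI : QuasiCompact (P i).ι :=
      MorphismProperty.of_isPullback (P := @QuasiCompact) (isPullback_morphismRestrict _ _) inferInstance
    haveI : IsSchemeTheoreticallyDominant (P i).ι := by
      have h1 : (P i).ι.ker ≤ (k i).toImage.ker := by
        rw [← hfac]; exact Scheme.Hom.le_ker_comp l (P i).ι
      rw [(k i).toImage.ker_eq_bot] at h1
      exact ⟨le_bot_iff.1 h1⟩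
    exact isEff_comap_of_dense hI _ dense_of_dominant
  · obtain ⟨l, hiso, hfac⟩ := hl i
    refine ⟨?_, ?_⟩
    · show IsOpenImmersion (k i).toImage
      rw [← hfac]; infer_instance
    · show Set.range (k i).toImage = _
      rw [← hfac, Scheme.Hom.comp_base, TopCat.coe_comp, Set.range_comp,
        Function.Surjective.range_eq l.surjective, Set.image_univ, Scheme.Opens.range_ι]
      rfl

end Groth.Agent.S19330
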