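import Groth.Statements.S19331
import Groth.Agent.H26ModPair.Basic
import Groth.Agent.H7Lim.QuasiFiniteFactor

set_option autoImplicit false
universe u
open CategoryTheory CategoryTheory.Limits AlgebraicGeometry TopologicalSpace
open ModPair

namespace Groth.Agent.S19331

open Groth.Agent.H26ModPair

lemma dominant_toImage {X Y : Scheme.{u}} (f : X ⟶ Y) [QuasiCompact f] :
    IsSchemeTheoreticallyDominant f.toImage := by
  refine ⟨H29Blow.ext_of_forall_exists fun x => ?_⟩
  obtain ⟨U, hU, hxU, -⟩ := exists_isAffineOpen_mem_and_subset (X := Y) (x := f.imageι x) (U := ⊤) trivial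
  refine ⟨⟨f.imageι ⁻¹ᵁ U, hU.preimage f.imageι⟩, hxU, ?_⟩
  rw [Scheme.Hom.ker_apply, Scheme.IdealSheafData.ideal_bot, Pi.bot_apply,
    ← RingHom.injective_iff_ker_eq_bot]
  exact Scheme.Hom.toImage_app_injective f (U := ⟨U, hU⟩)

/-- Let (S, I) be a modulus pair, i.e. a scheme with the quasi-coherent ideal sheaf of an effective
Cartier divisor, with S quasi-compact and quasi-separated and with interior U, and let t₀ : T₀ ⟶ U
be a finite surjective morphism. Then there are a finite surjective morphism t : T ⟶ S such that the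
pulled-back modulus I.comap t is again the ideal sheaf of an effective Cartier divisor, making T ⟶ S
a minimal morphism of modulus pairs, and an open immersion j : T₀ ⟶ T with image t⁻¹(U) and j ≫ t =
t₀ ≫ (U ⟶ S), so that t₀ is the interior of t. -/
theorem result {S : Scheme.{u}}
    [CompactSpace S] [QuasiSeparatedSpace S] (I : S.IdealSheafData)
    (hI : BlowUp.IsEffCartierIdeal I) {T₀ : Scheme.{u}}
    (t₀ : T₀ ⟶ (ModPair.interior I : Scheme.{u})) [IsFinite t₀] [Surjective t₀] :
    ∃ (T : Scheme.{u}) (t : T ⟶ S) (j : T₀ ⟶ T), IsFinite t ∧ Surjective t ∧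
      BlowUp.IsEffCartierIdeal (I.comap t) ∧ IsOpenImmersion j ∧
      Set.range j.base = t.base ⁻¹' (ModPair.interior I : Set S) ∧
      j ≫ t = t₀ ≫ (ModPair.interior I).ι := by
  haveI := isAffineHom_interior hI
  haveI q1 : LocallyQuasiFinite t₀ := inferInstance
  haveI q2 : LocallyOfFiniteType (t₀ ≫ (ModPair.interior I).ι) := inferInstance
  haveI q3 : LocallyQuasiFinite (t₀ ≫ (ModPair.interior I).ι) := inferInstance
  haveI q4 : IsSeparated (t₀ ≫ (ModPair.interior I).ι) := inferInstance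
  let U := ModPair.interior I
  obtain ⟨T', j', π, hj', hqc, hπ, hfac'⟩ :=
    H7Lim.exists_openImmersion_finite (t₀ ≫ (ModPair.interior I).ι)
  let W : T'.Opens := π ⁻¹ᵁ U
  let l₀ : T₀ ⟶ W.toScheme := IsOpenImmersion.lift W.ι j' (by
    rw [Scheme.Opens.range_ι]
    rintro _ ⟨v, rfl⟩
    show π (j' v) ∈ U
    rw [← Scheme.Hom.comp_apply, hfac']
    exact (t₀ v).2)
  have hl₀ : l₀ ≫ W.ι = j' := IsOpenImmersion.lift_fac _ _ _
  have hl₀' : l₀ ≫ (π ∣_ U) = t₀ := by
    rw [← cancel_mono U.ι, Category.assoc, morphismRestrict_ι, reassoc_of% hl₀, hfac']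
  haveI : IsFinite (π ∣_ U) :=
    MorphismProperty.of_isPullback (P := @IsFinite) (isPullback_morphismRestrict π U).flip hπ
  haveI : IsFinite (l₀ ≫ (π ∣_ U)) := by rw [hl₀']; infer_instance
  haveI : IsFinite l₀ := IsFinite.of_comp l₀ (π ∣_ U)
  haveI : IsOpenImmersion (l₀ ≫ W.ι) := by rw [hl₀]; infer_instance
  haveI : IsOpenImmersion l₀ := IsOpenImmersion.of_comp l₀ W.ι
  haveI : IsClosedImmersion l₀ := (IsClosedImmersion.iff_isFinite_and_mono l₀).2 ⟨inferInstance, inferInstance⟩
  haveI : IsSchemeTheoreticallyDominant j'.toImage := dominant_toImage _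
  let P : j'.image.Opens := j'.imageι ⁻¹ᵁ W
  let l : T₀ ⟶ P.toScheme := IsOpenImmersion.lift P.ι j'.toImage (by
    rw [Scheme.Opens.range_ι]
    rintro _ ⟨v, rfl⟩
    show j'.imageι (j'.toImage v) ∈ W
    rw [← Scheme.Hom.comp_apply, Scheme.Hom.toImage_imageι, ← hl₀]
    exact (l₀ v).2)
  have hfac : l ≫ P.ι = j'.toImage := IsOpenImmersion.lift_fac _ _ _
  have hg : l ≫ (j'.imageι ∣_ W) = l₀ := by
    rw [← cancel_mono W.ι, Category.assoc, morphismRestrict_ι, reassoc_of% hfac,
      Scheme.Hom.toImage_imageι, hl₀]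
  haveI : IsClosedImmersion (l ≫ (j'.imageι ∣_ W)) := by rw [hg]; infer_instance
  haveI : IsClosedImmersion (j'.imageι ∣_ W) :=
    IsZariskiLocalAtTarget.restrict (P := @IsClosedImmersion) inferInstance _
  haveI : IsClosedImmersion l := IsClosedImmersion.of_comp_isClosedImmersion l (j'.imageι ∣_ W)
  haveI : IsSchemeTheoreticallyDominant l :=
    IsSchemeTheoreticallyDominant.of_isPullback (f := j'.toImage) (g := P.ι)
      (pX := 𝟙 T₀) (IsPullback.of_horiz_isIso_mono ⟨by rw [Category.id_comp]; exact hfac.symm⟩)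
  haveI : IsIso l := IsClosedImmersion.isIso_iff_ker_eq_bot.2 l.ker_eq_bot
  have hjt : j'.toImage ≫ j'.imageι ≫ π = t₀ ≫ U.ι := by rw [Scheme.Hom.toImage_imageι_assoc, hfac']
  refine ⟨j'.image, j'.imageι ≫ π, j'.toImage, inferInstance, ?_, ?_, ?_, ?_, hjt⟩
  · refine ⟨fun s => ?_⟩
    obtain ⟨ξ, hξs, hξmax⟩ := H29Blow.exists_maximal_generization s
    have hξ : ξ ∈ U := H29Blow.not_mem_support_of_maximal hI ξ hξmax
    obtain ⟨v, hv⟩ := t₀.surjective ⟨ξ, hξ⟩
    have h1 : ξ ∈ Set.range (j'.imageι ≫ π) := by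
      refine ⟨j'.toImage v, ?_⟩
      rw [← Scheme.Hom.comp_apply, hjt, Scheme.Hom.comp_apply, hv]
      rfl
    exact hξs.mem_closed (j'.imageι ≫ π).isClosedMap.isClosed_range h1
  · haveI : QuasiCompact P.ι := by
      haveI : QuasiCompact W.ι :=
        MorphismProperty.of_isPullback (P := @QuasiCompact) (isPullback_morphismRestrict π U) inferInstance
      exact MorphismProperty.of_isPullback (P := @QuasiCompact) (isPullback_morphismRestrict j'.imageι W) inferInstance
    haveI : IsSchemeTheoreticallyDominant P.ι := by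
      have h1 : P.ι.ker ≤ j'.toImage.ker := by rw [← hfac]; exact Scheme.Hom.le_ker_comp l P.ι
      rw [j'.toImage.ker_eq_bot] at h1
      exact ⟨le_bot_iff.1 h1⟩
    exact isEff_comap_of_dense hI _ (dense_of_dominant (U := P))
  · rw [← hfac]; infer_instance
  · rw [← hfac, Scheme.Hom.comp_base, TopCat.coe_comp, Set.range_comp,
      Function.Surjective.range_eq l.surjective, Set.image_univ, Scheme.Opens.range_ι]
    rfl

end Groth.Agent.S19331
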