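import Groth.Statements.S19333
import Mathlib.RingTheory.Valuation.LocalSubring
import Mathlib.RingTheory.IntegralClosure.IsIntegralClosure.Basic
import Mathlib.Tactic

set_option autoImplicit false
universe u
open ModPair

namespace Groth.Agent.S19333

/-- Let A → B be any homomorphism of commutative rings. An element x of B is integral over A if and only
if for every field K, every valuation subring R of K and every ring homomorphism φ : B → K which
sends the image of A into R, the element φ(x) lies in R. In other words the integral closure of A in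
B is the intersection of the subrings R ×_K B taken over all commutative squares A → R ⊆ K ← B with
R a valuation ring of the field K. -/
theorem result {A B : Type u} [CommRing A]
    [CommRing B] [Algebra A B] (x : B) :
    x ∈ integralClosure A B ↔
      ∀ (K : Type u) [Field K] (R : ValuationSubring K) (φ : B →+* K),
        (∀ a : A, φ (algebraMap A B a) ∈ R) → φ x ∈ R := by
  constructor
  · intro hx K _ R φ hA
    obtain ⟨p, hpm, hp⟩ : IsIntegral A x := hx
    let ψ : A →+* R := (φ.comp (algebraMap A B)).codRestrict R.toSubring hA
    suffices hi : IsIntegral R (φ x) by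
      obtain ⟨y, hy⟩ := IsIntegrallyClosed.algebraMap_eq_of_integral hi
      exact hy ▸ y.2
    refine ⟨p.map ψ, hpm.map ψ, ?_⟩
    rw [Polynomial.eval₂_map]
    have : (algebraMap R K).comp ψ = φ.comp (algebraMap A B) := RingHom.ext fun _ => rfl
    rw [this, ← Polynomial.hom_eval₂, hp, map_zero]
  · intro h
    by_contra hx
    let S : Submonoid B :=
      { carrier := {b | ∃ p : Polynomial A, p.Monic ∧ Polynomial.aeval x p = b}
        one_mem' := ⟨1, Polynomial.monic_one, by simp⟩
        mul_mem' := by
          rintro _ _ ⟨p, hp, rfl⟩ ⟨q, hq, rfl⟩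
          exact ⟨p * q, hp.mul hq, map_mul _ _ _⟩ }
    have hdis : Disjoint ((⊥ : Ideal B) : Set B) S := by
      rw [Set.disjoint_left]
      rintro b hb ⟨p, hp, rfl⟩
      exact hx ⟨p, hp, hb⟩
    obtain ⟨q, hq, -, hqd⟩ := Ideal.exists_le_prime_disjoint ⊥ S hdis
    let K := FractionRing (B ⧸ q)
    let φ : B →+* K := (algebraMap (B ⧸ q) K).comp (Ideal.Quotient.mk q)
    let A' : Subring K := (φ.comp (algebraMap A B)).range
    have hnot : ¬ IsIntegral A' (φ x) := by
      rintro ⟨p', hp'm, hp'⟩
      let π : A →+* A' := (φ.comp (algebraMap A B)).rangeRestrict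
      obtain ⟨p, hpmap, -, hpm⟩ := Polynomial.lifts_and_degree_eq_and_monic
        (Polynomial.map_surjective π (RingHom.rangeRestrict_surjective _) p') hp'm
      have h0 : φ (Polynomial.aeval x p) = 0 := by
        rw [Polynomial.aeval_def, Polynomial.hom_eval₂, ← hp', ← hpmap, Polynomial.eval₂_map]
        rfl
      have h1 : Polynomial.aeval x p ∈ q := by
        rw [← Ideal.Quotient.eq_zero_iff_mem]
        exact IsFractionRing.injective (B ⧸ q) K (h0.trans (map_zero _).symm)
      exact Set.disjoint_left.mp hqd h1 ⟨p, hpm, rfl⟩
    have hnot' : φ x ∉ (integralClosure A' K).toSubring := hnot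
    have key : ∀ T : Subring K, T = A' → φ x ∉ (integralClosure T K).toSubring := by rintro T rfl; exact hnot'
    replace hnot' := key _ (Subring.closure_eq A')
    rw [← iInf_valuationSubring_superset] at hnot'
    simp only [Subring.mem_iInf] at hnot'
    push Not at hnot'
    obtain ⟨⟨R, hR⟩, hxR⟩ := hnot'
    exact hxR (h K R φ fun a => hR ⟨a, rfl⟩)

end Groth.Agent.S19333
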