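import Groth.Statements.S19334
import Groth.Agent.H26ModPair.Basic
import Groth.Agent.H11Val.Dominating

set_option autoImplicit false
universe u
open CategoryTheory CategoryTheory.Limits AlgebraicGeometry TopologicalSpace
open ModPair

namespace Groth.Agent.S19334

/-- Let (X, I) be a modulus pair, i.e. a scheme X with the quasi-coherent ideal sheaf I of an effective
Cartier divisor. Suppose that for every valuation ring R and every morphism p : Spec R ⟶ X along
which the divisor of I pulls back to an effective Cartier divisor on Spec R (so that p is a minimal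
morphism of modulus pairs for the pulled-back modulus), the pulled-back divisor is empty, I.comap p
= ⊤. Then the divisor of I is empty: I = ⊤. -/
theorem result {X : Scheme.{u}}
    (I : X.IdealSheafData) (hI : BlowUp.IsEffCartierIdeal I)
    (h : ∀ (R : Type u) [CommRing R] [IsDomain R] [ValuationRing R]
      (p : Spec (CommRingCat.of R) ⟶ X), BlowUp.IsEffCartierIdeal (I.comap p) → I.comap p = ⊤) :
    I = ⊤ := by
  have hsupp : ∀ x : X, x ∉ I.support := by
    intro x hx
    obtain ⟨ξ, hξx, hξmax⟩ := H29Blow.exists_maximal_generization x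
    have hξ : ξ ∉ I.support := H29Blow.not_mem_support_of_maximal hI ξ hξmax
    let K := X.residueField ξ
    let f : X.presheaf.stalk x ⟶ K := X.presheaf.stalkSpecializes hξx ≫ X.residue ξ
    haveI : (RingHom.ker f.hom).IsPrime := RingHom.ker_isPrime _
    haveI : ((IsLocalRing.maximalIdeal (X.presheaf.stalk x)).map (Ideal.Quotient.mk (RingHom.ker f.hom))).IsPrime :=
      Ideal.map_isPrime_of_surjective Ideal.Quotient.mk_surjective
        (by rw [Ideal.mk_ker]; exact IsLocalRing.le_maximalIdeal (RingHom.ker_ne_top _))
    obtain ⟨V, hV⟩ := Groth.Agent.H11Val.exists_valuationSubring_center (RingHom.kerLift f.hom)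
      (RingHom.kerLift_injective f.hom)
      ((IsLocalRing.maximalIdeal (X.presheaf.stalk x)).map (Ideal.Quotient.mk (RingHom.ker f.hom)))
    let φ : X.presheaf.stalk x ⟶ CommRingCat.of V :=
      CommRingCat.ofHom (f.hom.codRestrict V.toSubring fun a => (hV (Ideal.Quotient.mk _ a)).1)
    haveI : IsLocalHom φ.hom := by
      refine ⟨fun a ha => by_contra fun hna => ?_⟩
      have hmem : Ideal.Quotient.mk (RingHom.ker f.hom) a ∈
          (IsLocalRing.maximalIdeal (X.presheaf.stalk x)).map (Ideal.Quotient.mk (RingHom.ker f.hom)) :=
        Ideal.mem_map_of_mem _ hna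
      exact (V.valuation_lt_one_iff ⟨_, (hV (Ideal.Quotient.mk _ a)).1⟩).2 ((hV _).2.1 hmem) ha
    let g : Spec (CommRingCat.of V) ⟶ X := Spec.map φ ≫ X.fromSpecStalk x
    let ι : CommRingCat.of V ⟶ K := CommRingCat.ofHom V.subtype
    have hfac : Spec.map ι ≫ g = X.fromSpecResidueField ξ := by
      have e : φ ≫ ι = f := rfl
      show Spec.map ι ≫ Spec.map φ ≫ X.fromSpecStalk x = _
      rw [← Spec.map_comp_assoc, e, Spec.map_comp, Category.assoc,
        Scheme.SpecMap_stalkSpecializes_fromSpecStalk hξx]
      rfl
    have hgen : ∀ z : Spec (CommRingCat.of V), (∀ w, w ⤳ z → w = z) → g z ∉ I.support := by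
      intro z hz
      let q : Spec (CommRingCat.of V) := (Spec.map ι) (IsLocalRing.closedPoint K)
      have hq : q.asIdeal = ⊥ := by
        show (IsLocalRing.closedPoint K).asIdeal.comap V.subtype = ⊥
        rw [show (IsLocalRing.closedPoint K).asIdeal = ⊥ from IsLocalRing.maximalIdeal_eq_bot, ← RingHom.ker_eq_comap_bot]
        exact (RingHom.injective_iff_ker_eq_bot _).1 Subtype.val_injective
      have hzq : q = z := hz q ((PrimeSpectrum.le_iff_specializes q z).1 (by
        show q.asIdeal ≤ z.asIdeal
        rw [hq]; exact bot_le))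
      rw [← hzq]
      show (Spec.map ι ≫ g) (IsLocalRing.closedPoint K) ∉ I.support
      rw [hfac, Scheme.fromSpecResidueField_apply]
      exact hξ
    have htop := h V g (H29Blow.isEffCartierIdeal_comap_of_maximal_avoid g hI hgen)
    have hclosed : g (IsLocalRing.closedPoint V) = x := by
      show X.fromSpecStalk x (Spec.map φ (IsLocalRing.closedPoint V)) = x
      rw [Spec_closedPoint]
      exact Scheme.fromSpecStalk_closedPoint
    have hmem : IsLocalRing.closedPoint V ∈ (I.comap g).support := by
      rw [Scheme.IdealSheafData.support_comap]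
      show g (IsLocalRing.closedPoint V) ∈ I.support
      rw [hclosed]
      exact hx
    rw [htop, Scheme.IdealSheafData.support_top] at hmem
    exact hmem
  rw [← Scheme.IdealSheafData.support_eq_bot_iff]
  exact SetLike.ext fun x => iff_of_false (hsupp x) (fun h => h)

end Groth.Agent.S19334
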