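import Groth.Statements.S19335
import Groth.Agent.H29Blow.Basic
import Mathlib.RingTheory.Valuation.LocalSubring
import Mathlib.RingTheory.Ideal.MinimalPrime.Localization

set_option autoImplicit false
universe u
open CategoryTheory CategoryTheory.Limits AlgebraicGeometry TopologicalSpace
open ModPair

namespace Groth.Agent.S19335

open scoped nonZeroDivisors

theorem exists_val_test {A : Type u} [CommRing A] (a b : A) (ha : a ∈ A⁰) (hb : ¬ IsUnit b) :
    ∃ (R : Type u) (_ : CommRing R) (_ : IsDomain R) (_ : ValuationRing R) (φ : A →+* R),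
      φ a ≠ 0 ∧ ¬ IsUnit (φ b) ∧ ∀ Q : Ideal R, Q.IsPrime → Q ≠ ⊥ → φ a ∈ Q := by
  obtain ⟨m, hm, hbm⟩ := Ideal.exists_le_maximal _ (mt Ideal.span_singleton_eq_top.1 hb)
  rw [Ideal.span_le, Set.singleton_subset_iff] at hbm
  haveI := hm.isPrime
  obtain ⟨q, hq, hqm⟩ := Ideal.exists_minimalPrimes_le (I := (⊥ : Ideal A)) (J := m) bot_le
  haveI hqp : q.IsPrime := hq.1.1
  have haq : a ∉ q := fun h => Set.disjoint_left.1 (Ideal.disjoint_nonZeroDivisors_of_mem_minimalPrimes hq) h ha
  let K := FractionRing (A ⧸ q)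
  let f₀ : A →+* K := (algebraMap (A ⧸ q) K).comp (Ideal.Quotient.mk q)
  have hf₀ : ∀ s : m.primeCompl, IsUnit (f₀ (s : A)) := fun s => by
    refine IsUnit.mk0 _ fun h => s.2 (hqm ?_)
    rw [RingHom.comp_apply, map_eq_zero_iff _ (IsFractionRing.injective _ _)] at h
    exact Ideal.Quotient.eq_zero_iff_mem.1 h
  let f : Localization.AtPrime m →+* K := IsLocalization.lift hf₀
  obtain ⟨V, hV, hloc⟩ := IsLocalRing.exists_factor_valuationRing f
  let ψ : A →+* V := (f.codRestrict V.toSubring hV).comp (algebraMap A (Localization.AtPrime m))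
  have hψa : ψ a ≠ 0 := fun h => haq (by
    have h1 : f (algebraMap A (Localization.AtPrime m) a) = 0 := congrArg Subtype.val h
    rw [IsLocalization.lift_eq, RingHom.comp_apply, map_eq_zero_iff _ (IsFractionRing.injective _ _)] at h1
    exact Ideal.Quotient.eq_zero_iff_mem.1 h1)
  have hψb : ¬ IsUnit (ψ b) := fun h => by
    have h1 := hloc.map_nonunit (algebraMap A (Localization.AtPrime m) b) h
    rw [IsLocalization.AtPrime.isUnit_to_map_iff (Localization.AtPrime m) m] at h1
    exact h1 hbm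
  let L := Localization.Away (ψ a)
  haveI : Nontrivial L :=
    (IsLocalization.injective L (powers_le_nonZeroDivisors_of_noZeroDivisors hψa)).nontrivial
  obtain ⟨n, hn⟩ := Ideal.exists_maximal L
  let P : Ideal V := n.comap (algebraMap V L)
  have haP : ψ a ∉ P := fun h => hn.ne_top (Ideal.eq_top_of_isUnit_mem _ h (IsLocalization.Away.algebraMap_isUnit (ψ a)))
  haveI hP : P.IsPrime := inferInstance
  haveI : ValuationRing (V ⧸ P) :=
    Function.Surjective.valuationRing (Ideal.Quotient.mk P) Ideal.Quotient.mk_surjective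
  refine ⟨V ⧸ P, inferInstance, inferInstance, inferInstance, (Ideal.Quotient.mk P).comp ψ,
    fun h => haP (Ideal.Quotient.eq_zero_iff_mem.1 h), fun h => hψb ?_, fun Q hQ hQ0 => ?_⟩
  · haveI := IsLocalHom.of_surjective (Ideal.Quotient.mk P) Ideal.Quotient.mk_surjective
    exact IsUnit.of_map (Ideal.Quotient.mk P) _ h
  · by_contra haQ
    haveI := hQ
    let Q' : Ideal V := Q.comap (Ideal.Quotient.mk P)
    have hPQ : P ≤ Q' := fun x hx => by
      show Ideal.Quotient.mk P x ∈ Q
      rw [Ideal.Quotient.eq_zero_iff_mem.2 hx]; exact Q.zero_mem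
    have hdis : Disjoint (Submonoid.powers (ψ a) : Set V) (Q' : Set V) := by
      rw [Set.disjoint_left]
      rintro _ ⟨k, rfl⟩ h
      exact haQ ((inferInstance : Q'.IsPrime).mem_of_pow_mem k h)
    have hne : Q'.map (algebraMap V L) ≠ ⊤ :=
      (IsLocalization.isPrime_of_isPrime_disjoint (Submonoid.powers (ψ a)) L Q' inferInstance hdis).ne_top
    have hle : n ≤ Q'.map (algebraMap V L) := by
      conv_lhs => rw [← IsLocalization.map_comap (Submonoid.powers (ψ a)) L n]
      exact Ideal.map_mono hPQ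
    have heq : Q' = P := by
      rw [← IsLocalization.comap_map_of_isPrime_disjoint (Submonoid.powers (ψ a)) L inferInstance hdis,
        ← hn.eq_of_le hne hle]
    refine hQ0 (Ideal.comap_injective_of_surjective _ Ideal.Quotient.mk_surjective ?_)
    rw [← RingHom.ker_eq_comap_bot, Ideal.mk_ker]
    exact heq

/-- Let X be a scheme and I, J quasi-coherent ideal sheaves of effective Cartier divisors D_I ≤ D_J on
X, i.e. J ≤ I. Suppose that for every valuation ring R and every morphism p : Spec R ⟶ X such that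
I.comap p is the ideal sheaf of an effective Cartier divisor on Spec R (so p is a minimal morphism
of modulus pairs for (X, I)) whose open complement consists of the generic point of Spec R only, the
two divisors agree after pull-back, I.comap p = J.comap p. Then I = J. -/
theorem result {X : Scheme.{u}} (I J : X.IdealSheafData)
    (hI : BlowUp.IsEffCartierIdeal I) (hJ : BlowUp.IsEffCartierIdeal J) (hJI : J ≤ I)
    (h : ∀ (R : Type u) [CommRing R] [IsDomain R] [ValuationRing R]
      (p : Spec (CommRingCat.of R) ⟶ X), BlowUp.IsEffCartierIdeal (I.comap p) →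
        (∀ x : Spec (CommRingCat.of R),
          x ∈ (ModPair.interior (I.comap p) : Set (Spec (CommRingCat.of R))) ↔ x.asIdeal = ⊥) →
        I.comap p = J.comap p) :
    I = J := by
  refine H29Blow.ext_of_forall_exists fun x => ?_
  obtain ⟨U, hxU, -, a₀, ha₀, hIU⟩ := H29Blow.exists_gen hI (x := x) (W := ⊤) trivial
  obtain ⟨V, hxV, hVU, c, hc, hJV⟩ := H29Blow.exists_gen hJ (x := x) (W := U.1) hxU
  set a := (X.presheaf.map (homOfLE hVU).op).hom a₀
  have hIV : I.ideal V = Ideal.span {a} := H29Blow.ideal_eq_span_res hVU hIU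
  have ha : a ∈ nonZeroDivisors Γ(X, V.1) := H29Blow.res_mem_nonZeroDivisors hVU ha₀
  obtain ⟨b, hb⟩ := Ideal.mem_span_singleton'.1 (show c ∈ Ideal.span {a} from
    hIV ▸ hJI V (hJV ▸ Ideal.mem_span_singleton_self c))
  refine ⟨V, hxV, ?_⟩
  suffices IsUnit b by
    rw [hIV, hJV, ← hb, Ideal.span_singleton_mul_left_unit this]
  by_contra hbu
  obtain ⟨R, _, _, _, φ, hφa, hφb, hQ⟩ := exists_val_test a b ha hbu
  let p : Spec (CommRingCat.of R) ⟶ X := Spec.map (CommRingCat.ofHom φ) ≫ V.2.fromSpec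
  let T : (Spec (CommRingCat.of R)).affineOpens := ⟨⊤, isAffineOpen_top _⟩
  have hle : T.1 ≤ p ⁻¹ᵁ V.1 := by
    rw [Scheme.Hom.comp_preimage, V.2.fromSpec_preimage_self, Scheme.Hom.preimage_top]
  let ι : R →+* Γ(Spec (CommRingCat.of R), ⊤) := (Scheme.ΓSpecIso (CommRingCat.of R)).inv.hom
  have happ : (p.appLE V.1 T.1 hle).hom = ι.comp φ := by
    refine RingHom.ext fun z => ?_
    have : p.appLE V.1 T.1 hle = CommRingCat.ofHom φ ≫ (Scheme.ΓSpecIso (CommRingCat.of R)).inv := by
      have e1 : (⊤ : (Spec Γ(X, V.1)).Opens) ≤ V.2.fromSpec ⁻¹ᵁ V.1 := V.2.fromSpec_preimage_self.ge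
      have e2 : (⊤ : (Spec (CommRingCat.of R)).Opens) ≤ Spec.map (CommRingCat.ofHom φ) ⁻¹ᵁ ⊤ := le_of_eq rfl
      have h1 : V.2.fromSpec.appLE V.1 ⊤ e1 = (Scheme.ΓSpecIso Γ(X, V.1)).inv := by
        simp [Scheme.Hom.appLE, IsAffineOpen.fromSpec_app_self]
        rw [← Functor.map_comp]
        erw [CategoryTheory.Functor.map_id]
        rw [Category.comp_id]
      have h2 : (Spec.map (CommRingCat.ofHom φ)).appLE ⊤ ⊤ e2 = (Spec.map (CommRingCat.ofHom φ)).appTop := by
        simp [Scheme.Hom.appLE]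
      rw [← Scheme.Hom.appLE_comp_appLE (Spec.map (CommRingCat.ofHom φ)) V.2.fromSpec V.1 ⊤ T.1 e1 e2, h1]
      erw [h2]
      rw [Scheme.ΓSpecIso_inv_naturality]
      rfl
    rw [this]
    rfl
  have hIT : (I.comap p).ideal T = Ideal.span {ι (φ a)} := by
    rw [H29Blow.ideal_comap I p V T hle, hIV, Ideal.map_span, Set.image_singleton, happ]
    rfl
  have hJT : (J.comap p).ideal T = Ideal.span {ι (φ b) * ι (φ a)} := by
    rw [H29Blow.ideal_comap J p V T hle, hJV, Ideal.map_span, Set.image_singleton, happ, ← hb, map_mul,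
      RingHom.comp_apply, RingHom.comp_apply]
  have hbij : Function.Bijective ι := ConcreteCategory.bijective_of_isIso (Scheme.ΓSpecIso (CommRingCat.of R)).inv
  let e : R ≃+* Γ(Spec (CommRingCat.of R), ⊤) := RingEquiv.ofBijective ι hbij
  haveI : IsDomain Γ(Spec (CommRingCat.of R), ⊤) := e.symm.injective.isDomain
  have hne : ι (φ a) ≠ 0 := (map_ne_zero_iff ι hbij.1).2 hφa
  have heff : BlowUp.IsEffCartierIdeal (I.comap p) :=
    fun y => ⟨T, trivial, _, mem_nonZeroDivisors_of_ne_zero hne, hIT⟩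
  have hint : ∀ y : Spec (CommRingCat.of R),
      y ∈ (ModPair.interior (I.comap p) : Set (Spec (CommRingCat.of R))) ↔ φ a ∉ y.asIdeal := by
    intro y
    have h2 := Set.ext_iff.1 ((I.comap p).coe_support_inter T) y
    rw [hIT, Scheme.zeroLocus_span, Scheme.zeroLocus_singleton] at h2
    have h3 : y ∈ (Spec (CommRingCat.of R)).basicOpen (ι (φ a)) ↔ φ a ∉ y.asIdeal := by
      rw [basicOpen_eq_of_affine (R := CommRingCat.of R) (φ a)]
      rfl
    rw [← h3]
    constructor
    · intro hy
      by_contra hn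
      exact hy (h2.2 ⟨hn, trivial⟩).1
    · exact fun hy hs => (h2.1 ⟨hs, trivial⟩).1 hy
  have key := h R p heff fun y => (hint y).trans ⟨fun hy => by_contra fun hne => hy (hQ _ y.isPrime hne),
    fun hy => by rw [hy]; exact fun h0 => hφa h0⟩
  have h4 := congrArg (fun K : (Spec (CommRingCat.of R)).IdealSheafData => K.ideal T) key
  simp only [hIT, hJT] at h4
  obtain ⟨u, hu⟩ := Ideal.mem_span_singleton'.1 (h4.le (Ideal.mem_span_singleton_self (ι (φ a))))
  refine hφb ((isUnit_map_iff e (φ b)).1 (IsUnit.of_mul_eq_one_right u ?_))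
  apply mul_right_cancel₀ hne
  rw [one_mul, mul_assoc]
  exact hu

end Groth.Agent.S19335
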