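import Groth.Statements.S19336
import Groth.Agent.H26ModPair.Basic
import Groth.Agent.H7Flat.Flatten.Modif
import Groth.Agent.H26Blow.Exists

set_option autoImplicit false
universe u
open CategoryTheory CategoryTheory.Limits AlgebraicGeometry TopologicalSpace
open ModPair

namespace Groth.Agent.S19336

open Groth.Agent.H7Flat.Flatten HTop

/-- Let (S, I) be a modulus pair, i.e. a scheme S with the quasi-coherent ideal sheaf I of an effective
Cartier divisor, with S quasi-compact and quasi-separated and with interior U, and let (V_i) be a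
covering of U by quasi-compact open subsets. Then there are a quasi-coherent ideal sheaf F of finite
type on S whose support is disjoint from U, a blow-up b : Y ⟶ S of S in F (an admissible blow-up)
such that I.comap b is again the ideal sheaf of an effective Cartier divisor, and a covering of Y by
quasi-compact open subsets W_j such that each W_j ∩ b⁻¹(U) is contained in b⁻¹(V_i) for some i: the
Zariski covering of the interior extends, after an admissible blow-up, to a Zariski covering of the
total space. -/
theorem result {S : Scheme.{u}}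
    [CompactSpace S] [QuasiSeparatedSpace S] (I : S.IdealSheafData)
    (hI : BlowUp.IsEffCartierIdeal I) {ι : Type u} (V : ι → S.Opens)
    (hVU : ∀ i, V i ≤ ModPair.interior I) (hVqc : ∀ i, IsCompact (V i : Set S))
    (hcov : ModPair.interior I ≤ ⨆ i, V i) :
    ∃ (F : S.IdealSheafData) (Y : Scheme.{u}) (b : Y ⟶ S) (κ : Type u) (W : κ → Y.Opens),
      BlowUp.IsAdmissibleFor (ModPair.interior I) F ∧ BlowUp.IsBlowUp b F ∧
        BlowUp.IsEffCartierIdeal (I.comap b) ∧ (∀ k, IsCompact (W k : Set Y)) ∧
        (⨆ k, W k) = ⊤ ∧ ∀ k, ∃ i, W k ⊓ b ⁻¹ᵁ ModPair.interior I ≤ b ⁻¹ᵁ V i := by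
    classical
    haveI := H26ModPair.quasiCompact_interior hI
    have hU : IsCompact (ModPair.interior I : Set S) := by
      rw [← Scheme.Opens.range_ι (ModPair.interior I)]
      haveI : CompactSpace (ModPair.interior I : Scheme.{u}) :=
        QuasiCompact.compactSpace_of_compactSpace (ModPair.interior I).ι
      exact isCompact_range (ModPair.interior I).ι.continuous
    obtain ⟨t, ht⟩ := hU.elim_finite_subcover (fun i => (V i : Set S)) (fun i => (V i).2)
      (fun x hx => Set.mem_iUnion.2 (Opens.mem_iSup.1 (hcov hx)))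
    choose J hJft hJ using fun i => exists_centre_awayFrom_eq (V i) (hVqc i)
    have hJ' : ∀ i x, x ∈ (J i).support ↔ x ∉ V i := fun i x => by
      rw [← hJ i]
      exact (not_not (a := x ∈ (J i).support)).symm
    let F : S.IdealSheafData := ⨆ i : t, J i.1
    have hFU : ∀ x, x ∈ F.support ↔ x ∉ ModPair.interior I := fun x => by
      have : x ∈ F.support ↔ ∀ i : t, x ∈ (J i.1).support := by
        rw [Scheme.IdealSheafData.support_iSup]
        simp
      rw [this]
      constructor
      · intro h hx
        obtain ⟨i, hi, hxi⟩ := Set.mem_iUnion₂.1 (ht hx)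
        exact (hJ' i x).1 (h ⟨i, hi⟩) hxi
      · exact fun h i => (hJ' i.1 x).2 fun hx => h (hVU i.1 hx)
    obtain ⟨Y, b, hb⟩ := H26Blow.exists_isBlowUp F
    have hpre : b ⁻¹ᵁ ModPair.interior I = ModPair.interior (F.comap b) := by
      rw [← H26ModPair.preimage_interior]
      refine congrArg _ (Opens.ext (Set.ext fun x => ?_))
      exact (not_iff_comm.1 (hFU x).symm).symm
    let E := F.comap b
    have hloc : ∀ y : Y, ∃ (W : Y.affineOpens) (i : ι), y ∈ W.1 ∧ ((J i).comap b).ideal W = E.ideal W := by
      intro y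
      obtain ⟨A, hyA, -, e, he, hA⟩ := H29Blow.exists_gen hb.1 (x := y) (W := ⊤) trivial
      have hsup : E.ideal A = ⨆ i : t, ((J i.1).comap b).ideal A := by
        rw [show E = ⨆ i : t, (J i.1).comap b from (Scheme.IdealSheafData.map_gc b).l_iSup]
        simp [Scheme.IdealSheafData.ideal_iSup]
      let K : t → Ideal Γ(Y, A.1) := fun i => (((J i.1).comap b).ideal A).colon (Ideal.span {e})
      have hK : ∀ (i : t) (z : Γ(Y, A.1)), z ∈ ((J i.1).comap b).ideal A → ∃ c ∈ K i, z = c * e := fun i z hz => by
        have : z ∈ E.ideal A := hsup ▸ le_iSup (fun i : t => ((J i.1).comap b).ideal A) i hz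
        rw [hA, Ideal.mem_span_singleton'] at this
        obtain ⟨c, rfl⟩ := this
        refine ⟨c, Submodule.mem_colon.2 fun w hw => ?_, rfl⟩
        obtain ⟨d, rfl⟩ := Ideal.mem_span_singleton'.1 hw
        rw [smul_eq_mul, mul_left_comm]
        exact Ideal.mul_mem_left _ d hz
      have htop : ⨆ i, K i = ⊤ := by
        have : ∀ z ∈ ⨆ i : t, ((J i.1).comap b).ideal A, ∃ c ∈ ⨆ i, K i, z = c * e := fun z hz => by
          refine Submodule.iSup_induction (motive := fun z => ∃ c ∈ ⨆ i, K i, z = c * e) _ hz ?_ ⟨0, zero_mem _, (zero_mul e).symm⟩ ?_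
          · intro i z hz
            obtain ⟨c, hc, rfl⟩ := hK i z hz
            exact ⟨c, le_iSup K i hc, rfl⟩
          · rintro _ _ ⟨c, hc, rfl⟩ ⟨d, hd, rfl⟩
            exact ⟨c + d, add_mem hc hd, (add_mul c d e).symm⟩
        obtain ⟨c, hc, hce⟩ := this e (hsup ▸ hA ▸ Ideal.mem_span_singleton_self e)
        have : c = 1 := by
          refine sub_eq_zero.1 (mem_nonZeroDivisors_iff_right.1 he _ ?_)
          rw [sub_mul, ← hce, one_mul, sub_self]
        rw [Ideal.eq_top_iff_one]
        exact this ▸ hc
      obtain ⟨i, c, hc, hyc⟩ : ∃ (i : t) (c : Γ(Y, A.1)), c ∈ K i ∧ y ∈ Y.basicOpen c := by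
        by_contra h
        push Not at h
        have h1 : ⨆ i, K i ≤ (A.2.primeIdealOf ⟨y, hyA⟩).asIdeal := iSup_le fun i c hc => by
          by_contra hcy
          refine h i c hc ?_
          have : A.2.fromSpec (A.2.primeIdealOf ⟨y, hyA⟩) ∈ Y.basicOpen c := by
            show A.2.primeIdealOf ⟨y, hyA⟩ ∈ A.2.fromSpec ⁻¹ᵁ Y.basicOpen c
            rw [A.2.fromSpec_preimage_basicOpen]
            exact hcy
          rwa [A.2.fromSpec_primeIdealOf] at this
        exact (A.2.primeIdealOf ⟨y, hyA⟩).isPrime.ne_top (top_le_iff.1 (htop ▸ h1))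
      refine ⟨Y.affineBasicOpen c, i.1, hyc, ?_⟩
      rw [← ((J i.1).comap b).map_ideal_basicOpen, ← E.map_ideal_basicOpen, hA, Ideal.map_span, Set.image_singleton]
      refine le_antisymm ?_ ?_
      · rw [← Set.image_singleton, ← Ideal.map_span, ← hA, hsup]
        exact Ideal.map_mono (le_iSup (fun i : t => ((J i.1).comap b).ideal A) i)
      · refine (Ideal.span_singleton_le_iff_mem _).2 ?_
        haveI := A.2.isLocalization_basicOpen c
        refine (Ideal.unit_mul_mem_iff_mem _ (IsLocalization.Away.algebraMap_isUnit (S := Γ(Y, Y.basicOpen c)) c)).1 ?_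
        refine (map_mul (algebraMap Γ(Y, A.1) Γ(Y, Y.basicOpen c)) c e) ▸ Ideal.mem_map_of_mem _ ?_
        exact Submodule.mem_colon.1 hc e (Ideal.mem_span_singleton_self e)
    choose W iW hyW hW using hloc
    refine ⟨F, Y, b, Y, fun y => (W y).1, ⟨fun A => ?_, Set.disjoint_left.2 fun x hx => (hFU x).1 hx⟩, hb,
      H26ModPair.isEff_comap_of_dense hI b (hpre ▸ H26ModPair.dense_interior hb.1), fun y => (W y).2.isCompact,
      top_le_iff.1 fun y _ => Opens.mem_iSup.2 ⟨y, hyW y⟩, fun y => ⟨iW y, fun z hz => ?_⟩⟩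
    · rw [Scheme.IdealSheafData.ideal_iSup, iSup_apply]
      exact Submodule.fg_iSup _ fun i => hJft i.1 A
    · rw [hpre] at hz
      by_contra hzV
      refine hz.2 ?_
      have h1 : z ∈ ((J (iW y)).comap b).support := by
        rw [Scheme.IdealSheafData.support_comap]
        exact (hJ' _ _).2 hzV
      rw [Scheme.IdealSheafData.mem_support_iff_of_mem (U := W y) hz.1, hW y] at h1
      show z ∈ (F.comap b).support
      rwa [Scheme.IdealSheafData.mem_support_iff_of_mem (U := W y) hz.1]

end Groth.Agent.S19336
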