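import Groth.Statements.S19337
import Mathlib.CategoryTheory.Sites.Grothendieck
import Mathlib.CategoryTheory.Sites.Precoverage

set_option autoImplicit false
universe v u
open CategoryTheory
open ModPair

namespace Groth.Agent.S19337

/-- Let C be a category and P a class of families of morphisms with common target, i.e. for every object
X a set of presieves on X, satisfying the two conditions (Loc): for every family R in P on X and
families Q_f in P on the sources of the members f of R, some family in P on X has every member
factoring through a composite g ≫ f with f in R and g in Q_f; and (Stab): for every family R in P on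
X and every morphism Y ⟶ X, some family in P on Y has every member whose composite with Y ⟶ X
factors through a member of R. Then there is a Grothendieck topology on C whose covering sieves are
exactly the maximal sieves and the sieves containing a family of P. The published statement
describes the covering sieves as those generated by a family of P; this row takes the maximal sieves
and the sieves that contain such a family, which is the description under which the axioms hold. -/
theorem result {C : Type u} [Category.{v} C] (P : Precoverage C)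
    (hloc : ∀ ⦃X : C⦄ (R : Presieve X), R ∈ P X →
      ∀ (Q : ∀ ⦃Y : C⦄ ⦃f : Y ⟶ X⦄, R f → Presieve Y),
        (∀ ⦃Y : C⦄ ⦃f : Y ⟶ X⦄ (hf : R f), Q hf ∈ P Y) →
          ∃ W ∈ P X, W ≤ (Sieve.generate (R.bind Q)).arrows)
    (hstab : ∀ ⦃X Y : C⦄ (f : Y ⟶ X) (R : Presieve X), R ∈ P X →
      ∃ T ∈ P Y, T ≤ ((Sieve.generate R).pullback f).arrows) :
    ∃ J : GrothendieckTopology C, ∀ (X : C) (S : Sieve X),
      S ∈ J X ↔ S = ⊤ ∨ ∃ R ∈ P X, R ≤ S.arrows := by
  refine ⟨{ sieves := fun X => {S | S = ⊤ ∨ ∃ R ∈ P X, R ≤ S.arrows}
            top_mem' := fun X => Or.inl rfl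
            pullback_stable' := ?_
            transitive' := ?_ }, fun X S => Iff.rfl⟩
  · rintro X Y S f (rfl | ⟨R, hR, hle⟩)
    · exact Or.inl Sieve.pullback_top
    · obtain ⟨T, hT, hTle⟩ := hstab f R hR
      refine Or.inr ⟨T, hT, hTle.trans ?_⟩
      intro Z g hg
      exact (Sieve.generate_le_iff R S).2 hle _ hg
  · rintro X S hS R' hR'
    rcases hS with rfl | ⟨R, hR, hle⟩
    · have h := hR' (show (⊤ : Sieve X) (𝟙 X) from trivial)
      rwa [Sieve.pullback_id] at h
    · have hQ : ∀ ⦃Y : C⦄ ⦃f : Y ⟶ X⦄, R f → ∃ Q, Q ∈ P Y ∧ Q ≤ (R'.pullback f).arrows := by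
        intro Y f hf
        rcases hR' (hle _ _ hf) with h | ⟨Q, hQ, hQle⟩
        · obtain ⟨T, hT, -⟩ := hstab f R hR
          exact ⟨T, hT, fun Z g _ => by rw [h]; trivial⟩
        · exact ⟨Q, hQ, hQle⟩
      choose Q hQ1 hQ2 using hQ
      obtain ⟨W, hW, hWle⟩ := hloc R hR (fun Y f hf => Q hf) (fun Y f hf => hQ1 hf)
      refine Or.inr ⟨W, hW, hWle.trans ((Sieve.generate_le_iff _ _).2 ?_)⟩
      rintro Z _ ⟨Y, g, f, hf, hg, rfl⟩
      exact hQ2 hf _ _ hg

end Groth.Agent.S19337
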