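import Groth.Statements.S19338
import Mathlib.CategoryTheory.Localization.CalculusOfFractions
import Mathlib.CategoryTheory.Sites.Sheaf

set_option autoImplicit false
universe w v u
open CategoryTheory
open ModPair

namespace Groth.Agent.S19338

/-- Let C be a category and S a class of morphisms which contains the identities, is closed under
composition, admits a right calculus of fractions, and consists of monomorphisms. Then the sieves
containing a morphism of S are the covering sieves of a Grothendieck topology on C, and for every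
such topology J a presheaf of types F on C is a J-sheaf if and only if it is S-local, i.e. F sends
every morphism of S to a bijection. -/
theorem result {C : Type u} [Category.{v} C]
    (S : MorphismProperty C) [S.HasRightCalculusOfFractions]
    (hmono : ∀ ⦃X Y : C⦄ (s : X ⟶ Y), S s → Mono s) :
    (∃ J : GrothendieckTopology C, ∀ (X : C) (T : Sieve X),
        T ∈ J X ↔ ∃ (Y : C) (s : Y ⟶ X), S s ∧ T s) ∧
      ∀ J : GrothendieckTopology C, (∀ (X : C) (T : Sieve X),
          T ∈ J X ↔ ∃ (Y : C) (s : Y ⟶ X), S s ∧ T s) →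
        ∀ F : Cᵒᵖ ⥤ Type w,
          Presheaf.IsSheaf J F ↔ ∀ ⦃X Y : C⦄ (s : X ⟶ Y), S s → IsIso (F.map s.op) := by
  refine ⟨⟨{ sieves := fun X => {T | ∃ (Y : C) (s : Y ⟶ X), S s ∧ T s}
             top_mem' := fun X => ⟨X, 𝟙 X, S.id_mem X, trivial⟩
             pullback_stable' := ?_
             transitive' := ?_ }, fun X T => Iff.rfl⟩, fun J hJ F => ?_⟩
  · rintro X Z T f ⟨Y, s, hs, hTs⟩
    obtain ⟨ψ, hψ⟩ := (MorphismProperty.LeftFraction.mk f s hs).exists_rightFraction
    exact ⟨_, ψ.s, ψ.hs, by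
      show T (ψ.s ≫ f)
      rw [show ψ.s ≫ f = ψ.f ≫ s from hψ]
      exact T.downward_closed hTs _⟩
  · rintro X T ⟨Y, s, hs, hTs⟩ R' hR'
    obtain ⟨Y', s', hs', h⟩ := hR' hTs
    exact ⟨Y', s' ≫ s, S.comp_mem _ _ hs' hs, h⟩
  rw [CategoryTheory.isSheaf_iff_isSheaf_of_type]
  constructor
  · intro hF X Y s hs
    rw [CategoryTheory.isIso_iff_bijective]
    have hT := (hJ Y (Sieve.generate (Presieve.singleton s))).2
      ⟨X, s, hs, (Sieve.le_generate (Presieve.singleton s)) _ _ (Presieve.singleton_self s)⟩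
    have hsh := (Presieve.isSheafFor_iff_generate (Presieve.singleton s)).2 (hF _ hT)
    refine ⟨fun a b hab => (Presieve.IsSheafFor.isSeparatedFor hsh).ext ?_, fun x => ?_⟩
    · rintro Z g ⟨⟩
      exact hab
    · let fam : Presieve.FamilyOfElements F (Presieve.singleton s) := fun Z g hg =>
        F.map (eqToHom (by cases hg; rfl)).op x
      have hfam : fam.Compatible := by
        rintro Z₁ Z₂ W g₁ g₂ f₁ f₂ ⟨⟩ ⟨⟩ hcomm
        haveI := hmono s hs
        rw [(cancel_mono s).1 hcomm]
      obtain ⟨t, ht, -⟩ := hsh fam hfam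
      exact ⟨t, by simpa [fam] using ht s (Presieve.singleton_self s)⟩
  · intro hF X T hT x hx
    obtain ⟨Y, s, hs, hTs⟩ := (hJ X T).1 hT
    have hb := (CategoryTheory.isIso_iff_bijective _).1 (hF s hs)
    obtain ⟨y, hy⟩ := hb.2 (x s hTs)
    refine ⟨y, fun Z f hf => ?_, fun y' hy' => hb.1 ((hy' s hTs).trans hy.symm)⟩
    obtain ⟨ψ, hψ⟩ := (MorphismProperty.LeftFraction.mk f s hs).exists_rightFraction
    have hψ' : ψ.s ≫ f = ψ.f ≫ s := hψ
    refine ((CategoryTheory.isIso_iff_bijective _).1 (hF ψ.s ψ.hs)).1 ?_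
    rw [← ConcreteCategory.comp_apply, ← F.map_comp, ← op_comp, hψ', op_comp, F.map_comp,
      ConcreteCategory.comp_apply, hy]
    exact (hx ψ.f ψ.s hTs hf hψ'.symm)

end Groth.Agent.S19338
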