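import Groth.Statements.S19339
import Groth.Agent.S2735
import Groth.Agent.S1353

set_option autoImplicit false
universe u
open CategoryTheory CategoryTheory.Limits AlgebraicGeometry TopologicalSpace
open ModPair

namespace Groth.Agent.S19339

set_option backward.isDefEq.respectTransparency false

/-- Around one point, an fppf morphism hit by it is dominated by a finite flat cover of an elementary
étale neighbourhood. -/
theorem exists_nbhd {X W : Scheme.{u}} (f : W ⟶ X) [Flat f] [LocallyOfFinitePresentation f]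
    (x : X) (hx : x ∈ Set.range f) :
    ∃ (U V : Scheme.{u}) (g : U ⟶ X) (v : V ⟶ U), Etale g ∧
      (∃ y : U, g y = x ∧ IsIso (g.residueFieldMap y)) ∧ IsFinite v ∧ Flat v ∧ Surjective v ∧
      ∃ r : V ⟶ W, r ≫ f = v ≫ g := by
  let X₀ : X.Opens := ⟨Set.range f, f.isOpenMap.isOpen_range⟩
  let f₀ : W ⟶ X₀.toScheme := IsOpenImmersion.lift X₀.ι f (by rw [Scheme.Opens.range_ι]; exact le_refl _)
  have hf₀ : f₀ ≫ X₀.ι = f := IsOpenImmersion.lift_fac _ _ _
  haveI : Flat f₀ := MorphismProperty.of_postcomp (W := @Flat) (W' := @IsOpenImmersion) f₀ X₀.ι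
    inferInstance (by rw [hf₀]; infer_instance)
  haveI : LocallyOfFinitePresentation f₀ :=
    MorphismProperty.of_postcomp (W := @LocallyOfFinitePresentation) (W' := @IsOpenImmersion) f₀ X₀.ι
      inferInstance (by rw [hf₀]; infer_instance)
  haveI : Surjective f₀ := ⟨fun z => by
    obtain ⟨w, hw⟩ : X₀.ι z ∈ Set.range f := z.2
    refine ⟨w, X₀.ι.isOpenEmbedding.injective ?_⟩
    rw [← Scheme.Hom.comp_apply, hf₀]
    exact hw⟩
  obtain ⟨T, g, h, hhg, _, _, _, _, -⟩ := Groth.Agent.S2735.result f₀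
  obtain ⟨t, ht⟩ := g.surjective (⟨x, hx⟩ : X₀.toScheme)
  let k : T ⟶ X := g ≫ X₀.ι
  have hkt : k t = x := by rw [Scheme.Hom.comp_apply, ht]; rfl
  obtain ⟨U, e, u₀, hnb, O, z, hzO, hfin, hzu, -, -, -⟩ :=
    Groth.Agent.S1353.result k t (k.quasiFiniteAt t)
  haveI := hnb.etale
  let p : O.toScheme ⟶ U := O.ι ≫ pullback.snd k e
  haveI : IsFinite p := hfin
  let U₀ : U.Opens := ⟨Set.range p, p.isOpenMap.isOpen_range⟩
  have hu₀ : u₀ ∈ U₀ := ⟨⟨z, hzO⟩, hzu⟩
  let p₀ : O.toScheme ⟶ U₀.toScheme :=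
    IsOpenImmersion.lift U₀.ι p (by rw [Scheme.Opens.range_ι]; exact le_refl _)
  have hp₀ : p₀ ≫ U₀.ι = p := IsOpenImmersion.lift_fac _ _ _
  refine ⟨U₀.toScheme, O.toScheme, U₀.ι ≫ e, p₀, inferInstance, ⟨⟨u₀, hu₀⟩, ?_, ?_⟩, ?_, ?_, ?_,
    O.ι ≫ pullback.fst k e ≫ h, ?_⟩
  · rw [Scheme.Hom.comp_apply]
    exact hnb.base_eq.trans hkt
  · rw [Scheme.residueFieldMap_comp]
    haveI : IsIso (e.residueFieldMap (U₀.ι ⟨u₀, hu₀⟩)) :=
      (ConcreteCategory.isIso_iff_bijective _).2 hnb.residue_bijective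
    infer_instance
  · exact MorphismProperty.of_postcomp (W := @IsFinite) (W' := @IsSeparated) p₀ U₀.ι inferInstance
      (by rw [hp₀]; infer_instance)
  · exact MorphismProperty.of_postcomp (W := @Flat) (W' := @IsOpenImmersion) p₀ U₀.ι inferInstance
      (by rw [hp₀]; infer_instance)
  · refine ⟨fun y => ?_⟩
    obtain ⟨o, ho⟩ : U₀.ι y ∈ Set.range p := y.2
    refine ⟨o, U₀.ι.isOpenEmbedding.injective ?_⟩
    rw [← Scheme.Hom.comp_apply, hp₀]
    exact ho
  · rw [reassoc_of% hp₀]
    simp only [Category.assoc, p]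
    rw [← hf₀, reassoc_of% hhg]
    exact congrArg (O.ι ≫ ·) pullback.condition

/-- Let X be a scheme and (w_j : W_j ⟶ X) an fppf covering, i.e. a jointly surjective family of
morphisms each of which is flat and of finite presentation (locally of finite presentation,
quasi-compact and quasi-separated). Then it is refined by a family of composites V_k ⟶ U_k ⟶ X in
which the u_k : U_k ⟶ X are étale morphisms such that every point of X is the image of a point of
some U_k with trivial residue field extension, and the v_k : V_k ⟶ U_k are finite, flat and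
surjective: each composite v_k ≫ u_k factors through some w_j. (The covering condition on the family
(u_k) is stated here pointwise, every point lifting to some U_k with the same residue field; a
Nisnevich covering in the stronger sense with members of finite presentation and a finite splitting
stratification is not asserted.) -/
theorem result {X : Scheme.{u}}
    {ι : Type u} (W : ι → Scheme.{u}) (w : ∀ j, W j ⟶ X)
    (hw : Presieve.ofArrows W w ∈
      Scheme.precoverage (@Flat ⊓ @LocallyOfFinitePresentation ⊓ @QuasiCompact ⊓ @QuasiSeparated) X) :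
    ∃ (κ : Type u) (U V : κ → Scheme.{u}) (u : ∀ k, U k ⟶ X) (v : ∀ k, V k ⟶ U k),
      (∀ k, Etale (u k)) ∧
        (∀ x : X, ∃ (k : κ) (y : U k), (u k).base y = x ∧ IsIso ((u k).residueFieldMap y)) ∧
        (∀ k, IsFinite (v k) ∧ Flat (v k) ∧ Surjective (v k)) ∧
        ∀ k, ∃ (j : ι) (r : V k ⟶ W j), r ≫ w j = v k ≫ u k := by
  rw [Scheme.ofArrows_mem_precoverage_iff] at hw
  obtain ⟨hcov, hprop⟩ := hw
  choose j hj using hcov
  have H := fun x : X => by
    obtain ⟨⟨⟨_, _⟩, _⟩, _⟩ := hprop (j x)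
    exact exists_nbhd (w (j x)) x (hj x)
  choose U V u v he hy h1 h2 h3 r hr using H
  exact ⟨X, U, V, u, v, he, fun x => ⟨x, hy x⟩, fun k => ⟨h1 k, h2 k, h3 k⟩, fun k => ⟨j k, r k, hr k⟩⟩

end Groth.Agent.S19339
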