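import Groth.Statements.S19340
import Mathlib.CategoryTheory.Localization.CalculusOfFractions
import Mathlib.CategoryTheory.Filtered.Basic
import Mathlib.CategoryTheory.Comma.StructuredArrow.Basic

set_option autoImplicit false
universe v v' u u'
open CategoryTheory
open ModPair

namespace Groth.Agent.S19340

/-- Let C be a category, S a class of morphisms of C containing the identities, closed under composition
and admitting a right calculus of fractions, and L : C ⥤ D a localization functor for S. Then for
every object X of C the comma category of L under X, whose objects are pairs (Y, L(X) ⟶ L(Y)) and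
whose morphisms are morphisms Y ⟶ Y' of C compatible with the structure maps, is cofiltered. The
published statement calls this category filtered; its proof verifies, and this row states,
cofilteredness. -/
theorem result {C : Type u}
    [Category.{v} C] {D : Type u'} [Category.{v'} D] (S : MorphismProperty C)
    [S.HasRightCalculusOfFractions] (L : C ⥤ D) [L.IsLocalization S] (X : C) :
    IsCofiltered (StructuredArrow (L.obj X) L) := by
  haveI : Nonempty (StructuredArrow (L.obj X) L) := ⟨StructuredArrow.mk (𝟙 _)⟩
  haveI : IsCofilteredOrEmpty (StructuredArrow (L.obj X) L) := by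
    refine ⟨fun A B => ?_, fun A B g h => ?_⟩
    · obtain ⟨a, ha⟩ := Localization.exists_rightFraction L S A.hom
      obtain ⟨b, hb⟩ := Localization.exists_rightFraction L S B.hom
      obtain ⟨c, hc⟩ := (MorphismProperty.LeftFraction.mk a.s b.s b.hs).exists_rightFraction
      have hc' : c.s ≫ a.s = c.f ≫ b.s := hc
      have hs : S (c.s ≫ a.s) := S.comp_mem _ _ c.hs a.hs
      haveI : IsIso (L.map (c.s ≫ a.s)) := Localization.inverts L S _ hs
      refine ⟨StructuredArrow.mk (inv (L.map (c.s ≫ a.s))),
        StructuredArrow.homMk (c.s ≫ a.f) ?_, StructuredArrow.homMk (c.f ≫ b.f) ?_, trivial⟩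
      · simp only [StructuredArrow.mk_hom_eq_self, IsIso.inv_comp_eq, L.map_comp, Category.assoc, ha,
          MorphismProperty.RightFraction.map_s_comp_map]
      · simp only [StructuredArrow.mk_hom_eq_self, IsIso.inv_comp_eq]
        simp only [hc', L.map_comp, Category.assoc, hb, MorphismProperty.RightFraction.map_s_comp_map]
    · obtain ⟨a, ha⟩ := Localization.exists_rightFraction L S A.hom
      haveI : IsIso (L.map a.s) := Localization.inverts L S _ a.hs
      have heq : L.map (a.f ≫ g.right) = L.map (a.f ≫ h.right) := by
        rw [L.map_comp, L.map_comp, ← MorphismProperty.RightFraction.map_s_comp_map a L (Localization.inverts L S),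
          ← ha, Category.assoc, Category.assoc, StructuredArrow.w g, StructuredArrow.w h]
      obtain ⟨Z, t, ht, htf⟩ := (MorphismProperty.map_eq_iff_precomp L S _ _).1 heq
      haveI : IsIso (L.map (t ≫ a.s)) := Localization.inverts L S _ (S.comp_mem _ _ ht a.hs)
      refine ⟨StructuredArrow.mk (inv (L.map (t ≫ a.s))), StructuredArrow.homMk (t ≫ a.f) ?_, ?_⟩
      · simp only [StructuredArrow.mk_hom_eq_self, IsIso.inv_comp_eq, L.map_comp, Category.assoc, ha,
          MorphismProperty.RightFraction.map_s_comp_map]
      · ext
        simpa using htf
  exact IsCofiltered.mk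

end Groth.Agent.S19340
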