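import Groth.Statements.S19342
import Groth.Agent.H26MPA.ValGlueGeom

set_option autoImplicit false
universe u
open CategoryTheory CategoryTheory.Limits AlgebraicGeometry TopologicalSpace
open ModPair

namespace Groth.Agent.S19342

set_option backward.isDefEq.respectTransparency false

open Groth.Agent.H26MPA Groth.Agent.H26ModPair

/-- Locality for Zariski coverings selects a member of every affine open covering. -/
theorem exists_eq_top (P : ModPair.Pair.{u}) [QuasiSeparatedSpace P.total]
    (hloc : ∀ (X : ModPair.Pair.{u}) (ι : Type u) (U : ι → ModPair.Pair.{u}) (v : ∀ i, U i ⟶ X),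
        (∀ i, ModPair.IsMinimal (U i).mod X.mod (v i).hom ∧ IsOpenImmersion (v i).hom ∧
          QuasiCompact (v i).hom) →
        (∀ x : X.total, ∃ (i : ι) (y : (U i).total), (v i).hom.base y = x) →
        ∀ g : P ⟶ X, ∃ (i : ι) (h : P ⟶ U i), h ≫ v i = g)
    (S : Set P.total.affineOpens) (hS : ∀ x : P.total, ∃ V ∈ S, x ∈ V.1) : ∃ V ∈ S, V.1 = ⊤ := by
  let U : S → ModPair.Pair.{u} := fun V => ⟨(V.1.1 : Scheme.{u}), P.mod.comap V.1.1.ι,
    H29Blow.isEffCartierIdeal_comap_of_flat P.isEffCartier _⟩
  let v : ∀ V : S, U V ⟶ P := fun V => ⟨V.1.1.ι, le_rfl⟩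
  obtain ⟨V, h, hh⟩ := hloc P S U v (fun V => ⟨rfl, inferInstanceAs (IsOpenImmersion V.1.1.ι),
      haveI : CompactSpace V.1.1 := isCompact_iff_compactSpace.1 V.1.2.isCompact
      inferInstanceAs (QuasiCompact V.1.1.ι)⟩)
    (fun x => by
      obtain ⟨V, hV, hxV⟩ := hS x
      exact ⟨⟨V, hV⟩, ⟨x, hxV⟩, rfl⟩) (𝟙 P)
  refine ⟨V.1, V.2, top_le_iff.1 fun x _ => ?_⟩
  have h1 : (h.hom ≫ V.1.1.ι) x = x := congrArg (fun m : P.total ⟶ P.total => m x) (congrArg ModPair.Pair.Hom.hom hh)
  exact h1 ▸ (h.hom x).2

theorem isLocalRing_interior {P : Scheme.{u}} (U : P.Opens) [IsLocalRing Γ((U : Scheme.{u}), ⊤)] :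
    IsLocalRing Γ(P, U) :=
  U.topIso.commRingCatIsoToRingEquiv.isLocalRing

/-- Let P be a modulus pair (a scheme P̄ with the quasi-coherent ideal sheaf of an effective Cartier
divisor) whose total space P̄ is quasi-compact and quasi-separated. Then P is local both for Zariski
coverings of modulus pairs (for every pair X, every jointly surjective family of minimal morphisms
U_i ⟶ X whose underlying morphisms are quasi-compact open immersions, and every morphism of pairs P
⟶ X, the latter factors through some U_i) and for abstract admissible blow-ups (every P ⟶ X lifts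
along every abstract admissible blow-up Q ⟶ X) if and only if (1) P̄ is affine with A = Γ(P̄) a
local ring, (2) the interior P° is affine with local ring of global sections, and, writing p for the
closed point of P° and 𝔮 ⊂ A for its prime ideal, (3) A/𝔮 is a valuation ring and (4) the
localisation map sends 𝔮 bijectively onto the maximal ideal 𝔮A_𝔮 of A_𝔮. Conditions (3) and (4) say
that the closure of p is the spectrum of a valuation ring and that A is the fibre product A/𝔮
×_{k(𝔮)} A_𝔮, i.e. P̄ is obtained by gluing the closure of p to P° along p. The published statement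
allows any modulus pair P; this row assumes the total space P̄ quasi-compact and quasi-separated. -/
theorem result (P : ModPair.Pair.{u})
    [CompactSpace P.total] [QuasiSeparatedSpace P.total] :
    ((∀ (X : ModPair.Pair.{u}) (ι : Type u) (U : ι → ModPair.Pair.{u}) (v : ∀ i, U i ⟶ X),
        (∀ i, ModPair.IsMinimal (U i).mod X.mod (v i).hom ∧ IsOpenImmersion (v i).hom ∧
          QuasiCompact (v i).hom) →
        (∀ x : X.total, ∃ (i : ι) (y : (U i).total), (v i).hom.base y = x) →
        ∀ g : P ⟶ X, ∃ (i : ι) (h : P ⟶ U i), h ≫ v i = g) ∧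
      (∀ (Q X : ModPair.Pair.{u}) (q : Q ⟶ X), ModPair.Pair.admBlowup q →
        ∀ g : P ⟶ X, ∃ h : P ⟶ Q, h ≫ q = g)) ↔
    (IsAffine P.total ∧ IsLocalRing Γ(P.total, ⊤) ∧
      IsAffine (ModPair.interior P.mod : Scheme.{u}) ∧
      IsLocalRing Γ((ModPair.interior P.mod : Scheme.{u}), ⊤) ∧
      ∀ p : (ModPair.interior P.mod : Scheme.{u}),
        IsClosed ({p} : Set (ModPair.interior P.mod : Scheme.{u})) →
          ValuationRing (Γ(P.total, ⊤) ⧸
            (P.total.toSpecΓ.base ((ModPair.interior P.mod).ι.base p)).asIdeal) ∧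
          Set.BijOn (algebraMap Γ(P.total, ⊤) (Localization.AtPrime
              (P.total.toSpecΓ.base ((ModPair.interior P.mod).ι.base p)).asIdeal))
            ((P.total.toSpecΓ.base ((ModPair.interior P.mod).ι.base p)).asIdeal : Set Γ(P.total, ⊤))
            (IsLocalRing.maximalIdeal (Localization.AtPrime
              (P.total.toSpecΓ.base ((ModPair.interior P.mod).ι.base p)).asIdeal) :
              Set (Localization.AtPrime
                (P.total.toSpecΓ.base ((ModPair.interior P.mod).ι.base p)).asIdeal))) := by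
  constructor
  · rintro ⟨hzar, hlift⟩
    obtain ⟨V, -, hV⟩ := exists_eq_top P hzar Set.univ fun x => by
      obtain ⟨V, hV, -⟩ := exists_affine_mem (show x ∈ (⊤ : P.total.Opens) from trivial)
      exact ⟨V, trivial, hV⟩
    haveI : IsAffine P.total := by
      have h := V.2
      rw [hV] at h
      haveI : IsAffine (⊤ : P.total.Opens).toScheme := h
      exact IsAffine.of_isIso P.total.topIso.inv
    have hne : Nonempty P.total := by
      by_contra hne
      obtain ⟨V, hV, -⟩ := exists_eq_top P hzar ∅ fun x => absurd ⟨x⟩ hne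
      exact hV
    haveI : Nontrivial Γ(P.total, ⊤) := by
      obtain ⟨x⟩ := hne
      by_contra hA
      haveI : Subsingleton Γ(P.total, ⊤) := not_nontrivial_iff_subsingleton.1 hA
      exact (P.total.toSpecΓ x).isPrime.ne_top (Subsingleton.elim _ _)
    haveI hloc : IsLocalRing Γ(P.total, ⊤) := by
      refine IsLocalRing.of_isUnit_or_isUnit_one_sub_self fun f => ?_
      have hA := isAffineOpen_top P.total
      obtain ⟨W, hW, hWtop⟩ := exists_eq_top P hzar {⟨P.total.basicOpen f, hA.basicOpen f⟩,
          ⟨P.total.basicOpen (1 - f), hA.basicOpen _⟩} fun x => by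
        by_cases hf : x ∈ P.total.basicOpen f
        · exact ⟨_, Set.mem_insert _ _, hf⟩
        · refine ⟨_, Set.mem_insert_of_mem _ (Set.mem_singleton _), ?_⟩
          show x ∈ P.total.basicOpen (1 - f)
          rw [← P.total.toSpecΓ_preimage_basicOpen] at hf ⊢
          intro h
          have h2 : f ∈ (P.total.toSpecΓ x).asIdeal := not_not.1 hf
          have h3 := Ideal.add_mem _ h h2
          rw [sub_add_cancel] at h3
          exact (P.total.toSpecΓ x).isPrime.ne_top ((Ideal.eq_top_iff_one _).2 h3)
      have key : ∀ g : Γ(P.total, ⊤), P.total.basicOpen g = ⊤ → IsUnit g := fun g hg => by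
        have h := (isUnit_res_iff (⊤ : P.total.Opens) g).2 hg.ge
        simpa using h
      rcases hW with rfl | rfl
      · exact Or.inl (key _ hWtop)
      · exact Or.inr (key _ hWtop)
    obtain ⟨t, ht, -, hU⟩ := exists_generator P
    have hC := valGlue_of_lift P ht hU hlift
    haveI := (isAffineOpen_top P.total).isLocalization_basicOpen t
    have hMloc : IsLocalRing Γ(P.total, P.total.basicOpen t) := isLocalRing_away _ ht hC
    rw [hU]
    haveI hUloc : IsLocalRing Γ((P.total.basicOpen t : Scheme.{u}), ⊤) :=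
      (P.total.basicOpen t).topIso.commRingCatIsoToRingEquiv.symm.isLocalRing
    have hUaff := (isAffineOpen_top P.total).basicOpen t
    refine ⟨inferInstance, hloc, hUaff, hUloc, fun p hp => ?_⟩
    have hq := mem_asIdeal_iff (P.total.basicOpen t) ((P.total.basicOpen t).ι p) p.2
      (specializes_in_basicOpen _ hUaff p hp)
    exact ⟨valuationRing_quotient Γ(P.total, P.total.basicOpen t) ht _ hq hC,
      bijOn_atPrime Γ(P.total, P.total.basicOpen t) ht _ hq hC⟩
  · rintro ⟨hPaff, hloc, hUaff', hUloc', hp'⟩
    obtain ⟨t, ht, -, hU⟩ := exists_generator P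
    obtain ⟨x₀, -, hx₀⟩ := exists_closed_point P.total
    rw [hU] at hUaff' hUloc' hp'
    haveI := (isAffineOpen_top P.total).isLocalization_basicOpen t
    haveI := hUaff'
    haveI := hUloc'
    obtain ⟨p, hpc, -⟩ := exists_closed_point (P.total.basicOpen t : Scheme.{u})
    obtain ⟨hval, hbij⟩ := hp' p hpc
    have hq := mem_asIdeal_iff (P.total.basicOpen t) ((P.total.basicOpen t).ι p) p.2
      (specializes_in_basicOpen _ hUaff' p hpc)
    have hC : ValGlue t := by
      haveI := hval
      exact valGlue_of_bijOn Γ(P.total, P.total.basicOpen t) ht _ hq hbij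
    refine ⟨fun X κ U v hv hcov g => ?_, fun Q X q hq' g => exists_adm_lift P ht hU hC q hq' g⟩
    obtain ⟨i, y, hy⟩ := hcov (g.hom x₀)
    obtain ⟨hm, hoi, -⟩ := hv i
    haveI := hoi
    have hr : Set.range g.hom ⊆ Set.range (v i).hom := by
      rintro _ ⟨x, rfl⟩
      exact ((hx₀ x).map g.hom.continuous).mem_open (v i).hom.opensRange.2 ⟨y, hy⟩
    refine ⟨i, ⟨IsOpenImmersion.lift (v i).hom g.hom hr, ?_⟩, ModPair.Pair.Hom.ext (IsOpenImmersion.lift_fac _ _ _)⟩
    show P.mod ≤ _
    rw [(hm : (U i).mod = _), ← Scheme.IdealSheafData.comap_comp, IsOpenImmersion.lift_fac]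
    exact g.cond

end Groth.Agent.S19342
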