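import Groth.Statements.S19343
import Groth.Agent.S19342
import Groth.Agent.S5062
import Groth.Agent.S0676
import Groth.Agent.H1CAlg.EtaleRetractions
import Groth.Agent.H9Hens.Limits
import Groth.Agent.H9Hens.Local
import Groth.Agent.H9Hens.PairOps
import Groth.Agent.H12AlgSp.EtLocalRing

set_option autoImplicit false
universe u
open CategoryTheory CategoryTheory.Limits AlgebraicGeometry TopologicalSpace
open ModPair

namespace Groth.Agent.S19343

set_option backward.isDefEq.respectTransparency false

open Groth.Agent.H26MPA Groth.Agent.H26ModPair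

/-- Localisation at a prime whose elements are exactly the `t`-divisible gluing ideal: henselian. -/
theorem henselian_atPrime {A : Type u} [CommRing A] [HenselianLocalRing A] (q : Ideal A) [q.IsPrime]
    (hmem : ∀ x ∈ IsLocalRing.maximalIdeal (Localization.AtPrime q),
      ∃ y ∈ q, algebraMap A (Localization.AtPrime q) y = x) :
    HenselianLocalRing (Localization.AtPrime q) := by
  have : HenselianRing A (IsLocalRing.maximalIdeal A) := H9Hens.henselianRing_maximalIdeal A
  have hq : HenselianRing A q :=
    H9Hens.henselianRing_of_le (IsLocalRing.le_maximalIdeal Ideal.IsPrime.ne_top')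
  have : HenselianRing (Localization.AtPrime q)
      (IsLocalRing.maximalIdeal (Localization.AtPrime q)) := by
    refine H9Hens.henselianRing_of_gabber (IsLocalRing.maximalIdeal_le_jacobson _)
      fun n hn f hfdeg hf => ?_
    choose c hcp hc using fun i => hmem _ (hf i)
    let g : Polynomial A := ∑ i ∈ Finset.range (n + 1), Polynomial.C (c i) * Polynomial.X ^ i
    have hg : g.map (algebraMap A (Localization.AtPrime q)) = f := by
      rw [Polynomial.as_sum_range_C_mul_X_pow' f (Nat.lt_succ_of_le hfdeg)]
      simp [g, Polynomial.map_sum, hc]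
    have hgdeg : g.natDegree ≤ n := Polynomial.natDegree_sum_le_of_forall_le _ _ fun i hi =>
      (Polynomial.natDegree_C_mul_X_pow_le _ _).trans (Nat.lt_succ_iff.mp (Finset.mem_range.mp hi))
    have hgp : ∀ i, g.coeff i ∈ q := fun i => by
      rw [Polynomial.finsetSum_coeff]
      refine sum_mem fun j _ => ?_
      rw [Polynomial.coeff_C_mul_X_pow]
      split
      · exact hcp j
      · exact zero_mem _
    obtain ⟨α, hα1, hα⟩ := H9Hens.gabber_root (I := q) n hn g hgdeg hgp
    refine ⟨algebraMap A _ α, ?_, ?_⟩
    · rw [← map_one (algebraMap A (Localization.AtPrime q)), ← map_sub]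
      exact (IsLocalization.AtPrime.to_map_mem_maximal_iff (Localization.AtPrime q) q _).mpr hα1
    · have h := hα.map (f := algebraMap A (Localization.AtPrime q))
      rwa [Polynomial.map_add, Polynomial.map_mul, Polynomial.map_pow, Polynomial.map_sub,
        Polynomial.map_X, Polynomial.map_one, hg] at h
  exact H9Hens.henselianLocalRing_of_henselianRing

/-- Locality for étale coverings gives étale retractions on the ring of global sections. -/
theorem hasEtaleRetractions (P : ModPair.Pair.{u}) [IsAffine P.total]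
    (het : ∀ (X : ModPair.Pair.{u}) (ι : Type u) (U : ι → ModPair.Pair.{u}) (v : ∀ i, U i ⟶ X),
        (∀ i, ModPair.IsMinimal (U i).mod X.mod (v i).hom ∧ Etale (v i).hom ∧
          QuasiCompact (v i).hom ∧ QuasiSeparated (v i).hom) →
        (∀ x : X.total, ∃ (i : ι) (y : (U i).total), (v i).hom.base y = x) →
        ∀ g : P ⟶ X, ∃ (i : ι) (h : P ⟶ U i), h ≫ v i = g) :
    ProEtW.HasEtaleRetractions Γ(P.total, ⊤) := by
  intro B _ _ hff hB
  let φ := CommRingCat.ofHom (algebraMap Γ(P.total, ⊤) B)
  haveI : Etale (Spec.map φ) := by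
    rw [HasRingHomProperty.Spec_iff (P := @Etale)]
    exact RingHom.etale_algebraMap.2 hB
  let w : Spec (CommRingCat.of B) ⟶ P.total := Spec.map φ ≫ P.total.isoSpec.inv
  let U : ModPair.Pair.{u} := ⟨Spec (CommRingCat.of B), P.mod.comap w,
    H29Blow.isEffCartierIdeal_comap_of_flat P.isEffCartier _⟩
  obtain ⟨-, h, hh⟩ := het P PUnit (fun _ => U) (fun _ => ⟨w, le_rfl⟩)
    (fun _ => ⟨rfl, inferInstanceAs (Etale w), inferInstanceAs (QuasiCompact w),
      inferInstanceAs (QuasiSeparated w)⟩)
    (fun x => by
      obtain ⟨y, hy⟩ := PrimeSpectrum.comap_surjective_of_faithfullyFlat (B := B) (P.total.isoSpec.hom x)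
      refine ⟨PUnit.unit, y, ?_⟩
      show P.total.isoSpec.inv (Spec.map φ y) = x
      rw [show Spec.map φ y = P.total.isoSpec.hom x from hy, ← Scheme.Hom.comp_apply, Iso.hom_inv_id]
      rfl) (𝟙 P)
  have hh' : h.hom ≫ Spec.map φ ≫ P.total.isoSpec.inv = 𝟙 _ := congrArg ModPair.Pair.Hom.hom hh
  let s : Spec Γ(P.total, ⊤) ⟶ Spec (CommRingCat.of B) := P.total.isoSpec.inv ≫ h.hom
  have hs : s ≫ Spec.map φ = 𝟙 _ := by
    rw [← cancel_mono P.total.isoSpec.inv, Category.assoc, Category.assoc, hh']
    simp
  obtain ⟨ψ, hψ⟩ := Spec.map_surjective s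
  have hφψ : φ ≫ ψ = 𝟙 _ := Spec.map_injective (by rw [Spec.map_comp, hψ, hs, Spec.map_id]; rfl)
  exact ⟨{ ψ.hom with commutes' := fun a => congrArg (fun f => f.hom a) hφψ }⟩

/-- A local ring with étale retractions is strictly henselian. -/
theorem isSH_of_retractions {A : Type u} [CommRing A] [IsLocalRing A]
    (h : ProEtW.HasEtaleRetractions A) : EtCoh.IsStrictlyHenselianLocalRing A :=
  H12AlgSp.isStrictlyHenselianLocalRing_of_ringEquiv
    (IsLocalization.atUnits A (IsLocalRing.maximalIdeal A).primeCompl (fun x hx => by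
      have hx' : x ∉ IsLocalRing.maximalIdeal A := hx
      exact (IsUnit.mem_submonoid_iff x).2 (by simpa using hx'))
      (S := Localization.AtPrime (IsLocalRing.maximalIdeal A))).toRingEquiv.symm
    (H1CAlg.EtaleRetr.isStrictlyHenselianLocalRing h (IsLocalRing.maximalIdeal A))

/-- Let P be a modulus pair (a scheme P̄ with the quasi-coherent ideal sheaf of an effective Cartier
divisor) whose total space P̄ is quasi-compact and quasi-separated. Then P is local both for étale
coverings of modulus pairs (for every pair X, every jointly surjective family of minimal morphisms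
U_i ⟶ X whose underlying morphisms are étale, quasi-compact and quasi-separated, and every morphism
of pairs P ⟶ X, the latter factors through some U_i) and for abstract admissible blow-ups (every P ⟶
X lifts along every abstract admissible blow-up Q ⟶ X) if and only if (1) P̄ is affine and A = Γ(P̄)
is a strictly henselian local ring, (2) the interior P° is affine and its ring of global sections is
a henselian local ring, and, writing p for the closed point of P° and 𝔮 ⊂ A for its prime ideal, (3)
A/𝔮 is a valuation ring which is strictly henselian and (4) the localisation map sends 𝔮 bijectively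
onto the maximal ideal of A_𝔮, i.e. A = A/𝔮 ×_{k(𝔮)} A_𝔮 and P̄ is the gluing of the closure of p to
P° along p. The published statement allows any modulus pair P; this row assumes the total space P̄
quasi-compact and quasi-separated. -/
theorem result (P : ModPair.Pair.{u})
    [CompactSpace P.total] [QuasiSeparatedSpace P.total] :
    ((∀ (X : ModPair.Pair.{u}) (ι : Type u) (U : ι → ModPair.Pair.{u}) (v : ∀ i, U i ⟶ X),
        (∀ i, ModPair.IsMinimal (U i).mod X.mod (v i).hom ∧ Etale (v i).hom ∧
          QuasiCompact (v i).hom ∧ QuasiSeparated (v i).hom) →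
        (∀ x : X.total, ∃ (i : ι) (y : (U i).total), (v i).hom.base y = x) →
        ∀ g : P ⟶ X, ∃ (i : ι) (h : P ⟶ U i), h ≫ v i = g) ∧
      (∀ (Q X : ModPair.Pair.{u}) (q : Q ⟶ X), ModPair.Pair.admBlowup q →
        ∀ g : P ⟶ X, ∃ h : P ⟶ Q, h ≫ q = g)) ↔
    (IsAffine P.total ∧ EtCoh.IsStrictlyHenselianLocalRing Γ(P.total, ⊤) ∧
      IsAffine (ModPair.interior P.mod : Scheme.{u}) ∧
      HenselianLocalRing Γ((ModPair.interior P.mod : Scheme.{u}), ⊤) ∧
      ∀ p : (ModPair.interior P.mod : Scheme.{u}),
        IsClosed ({p} : Set (ModPair.interior P.mod : Scheme.{u})) →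
          ValuationRing (Γ(P.total, ⊤) ⧸ (P.total.toSpecΓ.base ((ModPair.interior P.mod).ι.base p)).asIdeal) ∧
          EtCoh.IsStrictlyHenselianLocalRing (Γ(P.total, ⊤) ⧸ (P.total.toSpecΓ.base ((ModPair.interior P.mod).ι.base p)).asIdeal) ∧
          Set.BijOn (algebraMap Γ(P.total, ⊤) (Localization.AtPrime (P.total.toSpecΓ.base ((ModPair.interior P.mod).ι.base p)).asIdeal))
            ((P.total.toSpecΓ.base ((ModPair.interior P.mod).ι.base p)).asIdeal : Set Γ(P.total, ⊤))
            (IsLocalRing.maximalIdeal (Localization.AtPrime (P.total.toSpecΓ.base ((ModPair.interior P.mod).ι.base p)).asIdeal) :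
              Set (Localization.AtPrime (P.total.toSpecΓ.base ((ModPair.interior P.mod).ι.base p)).asIdeal))) := by
  constructor
  · rintro ⟨het, hlift⟩
    have hzar : ∀ (X : ModPair.Pair.{u}) (ι : Type u) (U : ι → ModPair.Pair.{u}) (v : ∀ i, U i ⟶ X),
        (∀ i, ModPair.IsMinimal (U i).mod X.mod (v i).hom ∧ IsOpenImmersion (v i).hom ∧
          QuasiCompact (v i).hom) →
        (∀ x : X.total, ∃ (i : ι) (y : (U i).total), (v i).hom.base y = x) →
        ∀ g : P ⟶ X, ∃ (i : ι) (h : P ⟶ U i), h ≫ v i = g :=
      fun X ι U v hv => het X ι U v fun i => by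
        haveI := (hv i).2.1
        exact ⟨(hv i).1, inferInstance, (hv i).2.2, inferInstance⟩
    obtain ⟨hPaff, hloc, hUaff, hUloc, hp⟩ := (Groth.Agent.S19342.result P).1 ⟨hzar, hlift⟩
    have hR := hasEtaleRetractions P het
    have hA := isSH_of_retractions hR
    refine ⟨hPaff, hA, hUaff, ?_, fun p hpc => ⟨(hp p hpc).1, ?_, (hp p hpc).2⟩⟩
    · haveI := hA.choose
      obtain ⟨t, ht, -, hU⟩ := exists_generator P
      rw [hU] at hUaff hUloc hp ⊢
      haveI := (isAffineOpen_top P.total).isLocalization_basicOpen t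
      haveI := hUaff
      haveI := hUloc
      obtain ⟨p, hpc, -⟩ := exists_closed_point (P.total.basicOpen t : Scheme.{u})
      obtain ⟨-, hbij⟩ := hp p hpc
      have hq := mem_asIdeal_iff (P.total.basicOpen t) ((P.total.basicOpen t).ι p) p.2
        (specializes_in_basicOpen _ hUaff p hpc)
      set q := (P.total.toSpecΓ.base ((P.total.basicOpen t).ι.base p)).asIdeal
      haveI : q.IsPrime := (P.total.toSpecΓ.base ((P.total.basicOpen t).ι.base p)).isPrime
      haveI : IsLocalization q.primeCompl Γ(P.total, P.total.basicOpen t) := by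
        refine IsLocalization.of_le (M := Submonoid.powers t) _ ?_ ?_
        · rintro _ ⟨n, rfl⟩ hn
          exact (hq (t ^ n)).1 hn ((IsLocalization.map_units Γ(P.total, P.total.basicOpen t)
            (⟨t ^ n, n, rfl⟩ : Submonoid.powers t)))
        · intro r hr
          by_contra hu
          exact hr ((hq r).2 hu)
      haveI := henselian_atPrime q fun x hx => hbij.surjOn hx
      exact H12AlgSp.henselianLocalRing_of_ringEquiv
        ((IsLocalization.algEquiv q.primeCompl (Localization.AtPrime q)
          Γ(P.total, P.total.basicOpen t)).toRingEquiv.trans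
            (P.total.basicOpen t).topIso.commRingCatIsoToRingEquiv.symm)
    · haveI : IsLocalRing (Γ(P.total, ⊤) ⧸ (P.total.toSpecΓ.base ((ModPair.interior P.mod).ι.base p)).asIdeal) :=
        IsLocalRing.of_surjective' (Ideal.Quotient.mk _) Ideal.Quotient.mk_surjective
      exact isSH_of_retractions (Groth.Agent.S0676.result Γ(P.total, ⊤) hR _)
  · rintro ⟨hPaff, hA, hUaff, hUhen, hp⟩
    haveI := hA.choose
    haveI : IsSepClosed (IsLocalRing.ResidueField Γ(P.total, ⊤)) := hA.choose_spec
    haveI := hUhen
    refine ⟨fun X κ U v hv hcov g => ?_, ((Groth.Agent.S19342.result P).2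
      ⟨hPaff, inferInstance, hUaff, inferInstance, fun p hpc => ⟨(hp p hpc).1, (hp p hpc).2.2⟩⟩).2⟩
    obtain ⟨x₀, -, hx₀⟩ := exists_closed_point P.total
    obtain ⟨i, y, hy⟩ := hcov (g.hom x₀)
    obtain ⟨hm, het, -, -⟩ := hv i
    haveI := het
    obtain ⟨z, hz, -⟩ := Scheme.Pullback.exists_preimage_pullback (f := g.hom) (g := (v i).hom) x₀ y hy.symm
    have hcl : P.total.isoSpec.hom x₀ = IsLocalRing.closedPoint Γ(P.total, ⊤) := by
      have h1 := (hx₀ (P.total.isoSpec.inv (IsLocalRing.closedPoint Γ(P.total, ⊤)))).map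
        P.total.isoSpec.hom.continuous
      rw [← Scheme.Hom.comp_apply, Iso.inv_hom_id] at h1
      exact h1.mem_closed (IsLocalRing.isClosed_singleton_closedPoint _) rfl
    obtain ⟨w, hw, -⟩ := (Groth.Agent.S5062.result Γ(P.total, ⊤)).1 ⟨inferInstance, inferInstance⟩
      (pullback g.hom (v i).hom) (pullback.fst g.hom (v i).hom ≫ P.total.isoSpec.hom) inferInstance z
      (by
        show P.total.isoSpec.hom (pullback.fst g.hom (v i).hom z) = _
        rw [hz, hcl])
    have hw' : P.total.isoSpec.hom ≫ w ≫ pullback.fst g.hom (v i).hom = 𝟙 _ := by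
      rw [← cancel_mono P.total.isoSpec.hom, Category.assoc, Category.assoc,
        show w ≫ pullback.fst g.hom (v i).hom ≫ P.total.isoSpec.hom = 𝟙 _ from hw]
      exact (Category.comp_id _).trans (Category.id_comp _).symm
    have hfac : (P.total.isoSpec.hom ≫ w ≫ pullback.snd g.hom (v i).hom) ≫ (v i).hom = g.hom := by
      rw [Category.assoc, Category.assoc, ← pullback.condition, ← Category.assoc w,
        ← Category.assoc, hw', Category.id_comp]
    refine ⟨i, ⟨P.total.isoSpec.hom ≫ w ≫ pullback.snd g.hom (v i).hom, ?_⟩, ModPair.Pair.Hom.ext hfac⟩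
    show P.mod ≤ _
    rw [(hm : (U i).mod = _), ← Scheme.IdealSheafData.comap_comp, hfac]
    exact g.cond

end Groth.Agent.S19343
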