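import Groth.Statements.S19345
import Mathlib.RingTheory.Polynomial.Basic
import Mathlib.RingTheory.AdjoinRoot
import Mathlib.RingTheory.Ideal.MinimalPrime.Basic

set_option autoImplicit false
universe u
open CategoryTheory CategoryTheory.Limits AlgebraicGeometry TopologicalSpace
open ModPair

namespace Groth.Agent.S19345

theorem aic_bijective {A B : Type u} [CommRing A] [CommRing B] [IsDomain B] (hA : Curves.IsAIC A)
    (φ : A →+* B) (hi : Function.Injective φ) (hint : φ.IsIntegral) : Function.Bijective φ := by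
  refine ⟨hi, fun c => ?_⟩
  obtain ⟨f, hf, he⟩ := hint c
  suffices ∀ d, ∀ f : Polynomial A, f.Monic → f.natDegree = d → Polynomial.eval₂ φ c f = 0 → ∃ a, φ a = c from
    this _ f hf rfl he
  intro d
  induction d with
  | zero =>
    intro f hf hd he
    rw [hf.natDegree_eq_zero] at hd
    subst hd
    simp at he
  | succ d ih =>
    intro f hf hd he
    haveI : Nontrivial A := φ.domain_nontrivial
    obtain ⟨r, hr⟩ := hA f hf (by omega)
    obtain ⟨g, rfl⟩ := Polynomial.dvd_iff_isRoot.mpr hr
    rw [Polynomial.eval₂_mul, mul_eq_zero] at he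
    rcases he with he | he
    · refine ⟨r, ?_⟩
      rw [Polynomial.eval₂_sub, Polynomial.eval₂_X, Polynomial.eval₂_C, sub_eq_zero] at he
      exact he.symm
    · have hg : g.Monic := (Polynomial.monic_X_sub_C r).of_mul_monic_left hf
      refine ih g hg ?_ he
      rw [(Polynomial.monic_X_sub_C r).natDegree_mul hg, Polynomial.natDegree_X_sub_C] at hd
      omega

theorem finite_section {A : CommRingCat.{u}} [IsLocalRing A] [IsDomain A] (hA : Curves.IsAIC A)
    {Z : Scheme.{u}} (π : Z ⟶ Spec A) [IsFinite π] (z : Z)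
    (hz : π z = (⟨⊥, Ideal.isPrime_bot⟩ : PrimeSpectrum A)) :
    ∃ s : Spec A ⟶ Z, s ≫ π = 𝟙 _ := by
  haveI : IsAffine Z := isAffine_of_isAffineHom π
  obtain ⟨φ, hφ⟩ := Spec.map_surjective (Z.isoSpec.inv ≫ π)
  haveI : IsFinite (Z.isoSpec.inv ≫ π) := inferInstance
  have hfin : φ.hom.Finite := by rw [← IsFinite.SpecMap_iff, hφ]; infer_instance
  have hint : φ.hom.IsIntegral := RingHom.IsIntegral.of_finite hfin
  set q : PrimeSpectrum Γ(Z, ⊤) := Z.isoSpec.hom z with hq
  have hq0 : PrimeSpectrum.comap φ.hom q = (⟨⊥, Ideal.isPrime_bot⟩ : PrimeSpectrum A) := by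
    have : Spec.map φ (Z.isoSpec.hom z) = π z := by
      rw [hφ, ← Scheme.Hom.comp_apply, Iso.hom_inv_id_assoc]
    exact this.trans hz
  have hb := aic_bijective hA ((Ideal.Quotient.mk q.asIdeal).comp φ.hom)
    (by
      rw [RingHom.injective_iff_ker_eq_bot, ← RingHom.comap_ker, Ideal.mk_ker]
      exact congrArg PrimeSpectrum.asIdeal hq0)
    (hint.trans _ (Ideal.Quotient.mk q.asIdeal)
      (RingHom.isIntegral_of_surjective _ Ideal.Quotient.mk_surjective))
  let e := RingEquiv.ofBijective _ hb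
  let σ : Γ(Z, ⊤) ⟶ A := CommRingCat.ofHom (e.symm.toRingHom.comp (Ideal.Quotient.mk q.asIdeal))
  have hσ : φ ≫ σ = 𝟙 A := by
    ext a
    exact e.symm_apply_apply a
  refine ⟨Spec.map σ ≫ Z.isoSpec.inv, ?_⟩
  rw [Category.assoc, ← hφ, ← Spec.map_comp, hσ, Spec.map_id]

/-- Let P be a quasi-separated scheme. Then P is local for Zariski coverings (for every scheme X, every
jointly surjective family of quasi-compact open immersions into X and every morphism P ⟶ X, the
morphism factors through a member) and for finite coverings (the same for jointly surjective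
families of finite morphisms) — which together is locality for the rqfh coverings, the finite
composites of coverings of these two kinds — if and only if P is affine and Γ(P) is a local integral
domain in which every monic polynomial of positive degree has a root, i.e. the spectrum of an
absolutely integrally closed local domain. The published statement allows any scheme P; this row
assumes P quasi-separated. -/
theorem result (P : Scheme.{u}) [QuasiSeparatedSpace P] :
    ((∀ (X : Scheme.{u}) (R : Presieve X), R ∈ Scheme.precoverage (@IsOpenImmersion ⊓ @QuasiCompact) X →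
        ∀ g : P ⟶ X, ∃ (Y : Scheme.{u}) (w : Y ⟶ X) (h : P ⟶ Y), R w ∧ h ≫ w = g) ∧
      (∀ (X : Scheme.{u}) (R : Presieve X), R ∈ Scheme.precoverage @IsFinite X →
        ∀ g : P ⟶ X, ∃ (Y : Scheme.{u}) (w : Y ⟶ X) (h : P ⟶ Y), R w ∧ h ≫ w = g)) ↔
    (IsAffine P ∧ IsLocalRing Γ(P, ⊤) ∧ IsDomain Γ(P, ⊤) ∧ Curves.IsAIC Γ(P, ⊤)) := by
  constructor
  · rintro ⟨hZ, hF⟩
    -- some member of an affine open covering is everything
    have whole : ∀ {ι : Type u} (U : ι → P.Opens), (∀ i, IsAffineOpen (U i)) → (∀ x, ∃ i, x ∈ U i) →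
        ∃ i, U i = ⊤ := by
      intro ι U hU hcov
      obtain ⟨Y, w, h, hw, hh⟩ := hZ P (Presieve.ofArrows (fun i => (U i : Scheme.{u})) fun i => (U i).ι) (by
        rw [Scheme.ofArrows_mem_precoverage_iff]
        refine ⟨fun x => ?_, fun i => ⟨inferInstance, ?_⟩⟩
        · obtain ⟨i, hi⟩ := hcov x
          exact ⟨i, ⟨x, hi⟩, rfl⟩
        · rw [quasiCompact_iff]
          intro V hVo hVc
          rw [(U i).ι.isOpenEmbedding.isEmbedding.isCompact_iff, Set.image_preimage_eq_inter_range,
            Scheme.Opens.range_ι]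
          exact QuasiSeparatedSpace.inter_isCompact _ _ hVo hVc (U i).2 (hU i).isCompact) (𝟙 P)
      obtain ⟨i⟩ := hw
      refine ⟨i, top_le_iff.mp fun x _ => ?_⟩
      have := congrArg (fun t : P ⟶ P => t x) hh
      simp only [Scheme.Hom.comp_apply] at this
      change ((U i).ι (h x)) = x at this
      exact this ▸ (h x).2
    haveI hne : Nonempty P := by
      by_contra hP
      haveI : IsEmpty P := not_nonempty_iff.mp hP
      obtain ⟨Y, w, h, hw, -⟩ := hZ P ⊥ (Scheme.bot_mem_precoverage _ P) (𝟙 P)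
      exact hw
    haveI hAff : IsAffine P := by
      obtain ⟨i, hi⟩ := whole (fun U : {U : P.Opens // IsAffineOpen U} => U.1) (fun U => U.2) (fun x => by
        obtain ⟨U, hU, hx, -⟩ := exists_isAffineOpen_mem_and_subset (U := ⊤) (x := x) trivial
        exact ⟨⟨U, hU⟩, hx⟩)
      have h := i.2
      rw [hi] at h
      haveI : IsAffine (⊤ : P.Opens).toScheme := h
      exact IsAffine.of_isIso P.topIso.inv
    haveI : Nontrivial Γ(P, ⊤) := by
      haveI : Nonempty (Spec Γ(P, ⊤)) := ⟨P.isoSpec.hom (Classical.arbitrary P)⟩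
      exact PrimeSpectrum.nonempty_iff_nontrivial.mp (inferInstanceAs (Nonempty (Spec Γ(P, ⊤))))
    haveI hloc : IsLocalRing Γ(P, ⊤) := by
      refine IsLocalRing.of_isUnit_or_isUnit_one_sub_self fun f => ?_
      obtain ⟨⟨b⟩, hb⟩ := whole (fun b : ULift.{u} Bool => P.basicOpen (cond b.down f (1 - f)))
        (fun b => (isAffineOpen_top P).basicOpen _) (fun x => by
          by_cases hx : x ∈ P.basicOpen f
          · exact ⟨⟨true⟩, hx⟩
          refine ⟨⟨false⟩, ?_⟩
          show x ∈ P.basicOpen (1 - f)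
          rw [Scheme.mem_basicOpen_top] at hx ⊢
          rw [map_sub, map_one]
          exact (IsLocalRing.isUnit_or_isUnit_one_sub_self _).resolve_left hx)
      have key : ∀ a : Γ(P, ⊤), P.basicOpen a = ⊤ → IsUnit a := fun a ha => by
        refine P.toRingedSpace.isUnit_of_isUnit_germ ⊤ a fun x hx => ?_
        rw [← Scheme.mem_basicOpen _ _ x hx, ha]; trivial
      cases b
      · exact Or.inr (key _ hb)
      · exact Or.inl (key _ hb)
    have factor : ∀ {ι : Type u} (C : ι → CommRingCat.{u}) (φ : ∀ i, Γ(P, ⊤) ⟶ C i),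
        (∀ i, (φ i).hom.Finite) → (∀ p : PrimeSpectrum Γ(P, ⊤), ∃ i, p ∈ Set.range (PrimeSpectrum.comap (φ i).hom)) →
        ∃ i, ∃ σ : C i ⟶ Γ(P, ⊤), φ i ≫ σ = 𝟙 _ := by
      intro ι C φ hfin hsurj
      obtain ⟨Y, w, h, hw, hh⟩ := hF (Spec Γ(P, ⊤))
        (Presieve.ofArrows (fun i => Spec (C i)) fun i => Spec.map (φ i)) (by
          rw [Scheme.ofArrows_mem_precoverage_iff]
          exact ⟨hsurj, fun i => (IsFinite.SpecMap_iff _).mpr (hfin i)⟩) P.isoSpec.hom
      obtain ⟨i⟩ := hw
      obtain ⟨σ, hσ⟩ := Spec.map_surjective (P.isoSpec.inv ≫ h)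
      refine ⟨i, σ, Spec.map_injective ?_⟩
      rw [Spec.map_comp, hσ, Spec.map_id, Category.assoc, hh, Iso.inv_hom_id]
    have hdom : IsDomain Γ(P, ⊤) := by
      obtain ⟨⟨p, hp⟩, σ, hσ⟩ := factor
        (fun p : {p : Ideal Γ(P, ⊤) // p ∈ minimalPrimes Γ(P, ⊤)} => CommRingCat.of (Γ(P, ⊤) ⧸ p.1))
        (fun p => CommRingCat.ofHom (Ideal.Quotient.mk p.1))
        (fun p => RingHom.Finite.of_surjective _ Ideal.Quotient.mk_surjective)
        (fun x => by
          obtain ⟨p, hp, hpx⟩ := Ideal.exists_minimalPrimes_le (I := ⊥) (J := x.asIdeal) bot_le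
          refine ⟨⟨p, hp⟩, ?_⟩
          rw [range_comap_of_surjective _ _ (by exact Ideal.Quotient.mk_surjective)]
          simp only [CommRingCat.hom_ofHom, Ideal.mk_ker]
          exact hpx)
      haveI hpp : p.IsPrime := hp.1.1
      have inj : Function.Injective (Ideal.Quotient.mk p) := fun a b h => by
        have ha : σ (Ideal.Quotient.mk p a) = a := by
          have := ConcreteCategory.congr_hom hσ a
          exact this
        have hb : σ (Ideal.Quotient.mk p b) = b := by
          have := ConcreteCategory.congr_hom hσ b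
          exact this
        rw [← ha, h, hb]
      exact inj.isDomain _
    refine ⟨hAff, hloc, hdom, fun f hf hd => ?_⟩
    haveI : Module.Finite Γ(P, ⊤) (AdjoinRoot f) := hf.finite_adjoinRoot
    have hint : (AdjoinRoot.of f).IsIntegral := RingHom.IsIntegral.of_finite (by
      rw [← AdjoinRoot.algebraMap_eq]; exact RingHom.finite_algebraMap.mpr inferInstance)
    have hinj : Function.Injective (AdjoinRoot.of f) :=
      AdjoinRoot.of.injective_of_degree_ne_zero (by
        rw [Polynomial.degree_eq_natDegree hf.ne_zero]; exact_mod_cast hd.ne')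
    obtain ⟨-, σ, hσ⟩ := factor (fun _ : PUnit.{u+1} => CommRingCat.of (AdjoinRoot f))
      (fun _ => CommRingCat.ofHom (AdjoinRoot.of f))
      (fun _ => by
        show (AdjoinRoot.of f).Finite
        rw [← AdjoinRoot.algebraMap_eq]; exact RingHom.finite_algebraMap.mpr inferInstance)
      (fun x => ⟨⟨⟩, RingHom.IsIntegral.comap_surjective hint hinj x⟩)
    refine ⟨σ (AdjoinRoot.root f), ?_⟩
    have h1 : σ.hom.comp (AdjoinRoot.of f) = RingHom.id _ := congrArg CommRingCat.Hom.hom hσ
    have h2 := congrArg σ.hom (AdjoinRoot.eval₂_root f)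
    rw [Polynomial.hom_eval₂, h1, map_zero] at h2
    exact h2
  · rintro ⟨hAff, hloc, hdom, hA⟩
    haveI := hAff; haveI := hloc; haveI := hdom
    refine ⟨fun X R hR g => ?_, fun X R hR g => ?_⟩
    · let c : P := P.isoSpec.inv (IsLocalRing.closedPoint Γ(P, ⊤))
      obtain ⟨Y, w, hw, hmem⟩ : ∃ (Y : Scheme.{u}) (w : Y ⟶ X), R w ∧ g c ∈ Set.range w := by
        obtain ⟨ι, Y, w, rfl⟩ := Presieve.exists_eq_ofArrows R
        obtain ⟨i, hi⟩ := ((Scheme.ofArrows_mem_precoverage_iff _).mp hR).1 (g c)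
        exact ⟨Y i, w i, ⟨i⟩, hi⟩
      haveI : IsOpenImmersion w := (hR.2 hw).1
      have hsub : Set.range g ⊆ Set.range w := by
        rintro _ ⟨x, rfl⟩
        refine Specializes.mem_open ?_ w.isOpenEmbedding.isOpen_range hmem
        refine Specializes.map ?_ g.continuous
        have hs : (P.isoSpec.hom x : PrimeSpectrum Γ(P, ⊤)) ⤳ IsLocalRing.closedPoint Γ(P, ⊤) :=
          IsLocalRing.specializes_closedPoint _
        have := hs.map P.isoSpec.inv.continuous
        rwa [← Scheme.Hom.comp_apply, Iso.hom_inv_id] at this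
      exact ⟨Y, w, IsOpenImmersion.lift w g hsub, hw, IsOpenImmersion.lift_fac _ _ _⟩
    · let η : P := P.isoSpec.inv (⟨⊥, Ideal.isPrime_bot⟩ : PrimeSpectrum Γ(P, ⊤))
      obtain ⟨Y, w, hw, y, hy⟩ : ∃ (Y : Scheme.{u}) (w : Y ⟶ X), R w ∧ ∃ y, w y = g η := by
        obtain ⟨ι, Y, w, rfl⟩ := Presieve.exists_eq_ofArrows R
        obtain ⟨i, y, hy⟩ := ((Scheme.ofArrows_mem_precoverage_iff _).mp hR).1 (g η)
        exact ⟨Y i, w i, ⟨i⟩, y, hy⟩
      haveI : IsFinite w := hR.2 hw
      let g' : Spec Γ(P, ⊤) ⟶ X := P.isoSpec.inv ≫ g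
      obtain ⟨z, hz, -⟩ := Scheme.Pullback.exists_preimage_pullback
        (f := g') (g := w) (⟨⊥, Ideal.isPrime_bot⟩ : PrimeSpectrum Γ(P, ⊤)) y (by
          simp only [g', Scheme.Hom.comp_apply]; exact hy.symm)
      haveI : IsFinite (pullback.fst g' w) := MorphismProperty.pullback_fst _ _ inferInstance
      obtain ⟨s, hs⟩ := finite_section hA (pullback.fst g' w) z hz
      refine ⟨Y, w, P.isoSpec.hom ≫ s ≫ pullback.snd g' w, hw, ?_⟩
      rw [Category.assoc, Category.assoc, ← pullback.condition, ← Category.assoc s, hs,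
        Category.id_comp, Iso.hom_inv_id_assoc]

end Groth.Agent.S19345
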