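import Groth.Statements.S19346
import Groth.Agent.S19342
import Groth.Agent.S19345
import Mathlib.RingTheory.Localization.Integral
import Mathlib.FieldTheory.IsAlgClosed.Basic

set_option autoImplicit false
universe u
open CategoryTheory CategoryTheory.Limits AlgebraicGeometry TopologicalSpace
open ModPair

namespace Groth.Agent.S19346

set_option backward.isDefEq.respectTransparency false

open Groth.Agent.H26MPA Groth.Agent.H26ModPair

/-- Absolute integral closedness passes to localisations. -/
theorem isAIC_localization {A M : Type u} [CommRing A] [CommRing M] [Algebra A M] (S : Submonoid A)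
    [IsLocalization S M] (hA : Curves.IsAIC A) : Curves.IsAIC M := by
  intro f hf hd
  nontriviality M
  let s : M := algebraMap A M (IsLocalization.commonDenom S f.support f.coeff)
  have hs : IsUnit s := IsLocalization.map_units M (IsLocalization.commonDenom S f.support f.coeff)
  obtain ⟨p, hp, hpd, hpm⟩ := Polynomial.lifts_and_natDegree_eq_and_monic
    (IsLocalization.scaleRoots_commonDenom_mem_lifts S f (by rw [hf.leadingCoeff]; exact one_mem _))
    ((Polynomial.monic_scaleRoots_iff s).2 hf)
  rw [Polynomial.natDegree_scaleRoots] at hpd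
  obtain ⟨r, hr⟩ := hA p hpm (hpd ▸ hd)
  obtain ⟨u, hu⟩ := hs
  refine ⟨↑u⁻¹ * algebraMap A M r, ?_⟩
  have h1 := congrArg (algebraMap A M) hr
  rw [map_zero, ← Polynomial.eval₂_at_apply, ← Polynomial.eval_map, hp] at h1
  have h2 := Polynomial.scaleRoots_eval_mul f (↑u⁻¹ * algebraMap A M r) s
  rw [← mul_assoc, ← hu, Units.mul_inv, one_mul, hu, h1] at h2
  exact ((hu ▸ u.isUnit).pow f.natDegree).mul_right_eq_zero.1 h2.symm

/-- The fraction field of a quotient of an absolutely integrally closed ring is algebraically closed. -/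
theorem isAlgClosed_fractionRing {A : Type u} [CommRing A] (hA : Curves.IsAIC A) (q : Ideal A) [q.IsPrime] :
    IsAlgClosed (FractionRing (A ⧸ q)) := by
  have hq : Curves.IsAIC (A ⧸ q) := fun f hf hd => by
    obtain ⟨p, hp, hpd, hpm⟩ := Polynomial.lifts_and_natDegree_eq_and_monic
      (f := Ideal.Quotient.mk q) (p := f)
      ((Polynomial.mem_lifts f).2 (Polynomial.map_surjective _ Ideal.Quotient.mk_surjective f)) hf
    obtain ⟨r, hr⟩ := hA p hpm (hpd ▸ hd)
    refine ⟨Ideal.Quotient.mk q r, ?_⟩
    rw [← hp, Polynomial.eval_map, Polynomial.eval₂_at_apply, hr, map_zero]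
  have hK := isAIC_localization (M := FractionRing (A ⧸ q)) (nonZeroDivisors (A ⧸ q)) hq
  exact IsAlgClosed.of_exists_root _ fun f hf hi => hK f hf hi.natDegree_pos

/-- Locality for a class of coverings of pairs gives locality of the total space for that class. -/
theorem total_local (P : ModPair.Pair.{u}) (W : MorphismProperty Scheme.{u})
    (h : ∀ (X : ModPair.Pair.{u}) (ι : Type u) (U : ι → ModPair.Pair.{u}) (v : ∀ i, U i ⟶ X),
        (∀ i, ModPair.IsMinimal (U i).mod X.mod (v i).hom ∧ W (v i).hom) →
        (∀ x : X.total, ∃ (i : ι) (y : (U i).total), (v i).hom.base y = x) →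
        ∀ g : P ⟶ X, ∃ (i : ι) (h : P ⟶ U i), h ≫ v i = g)
    (X : Scheme.{u}) (R : Presieve X) (hR : R ∈ Scheme.precoverage W X) (g : P.total ⟶ X) :
    ∃ (Y : Scheme.{u}) (w : Y ⟶ X) (f : P.total ⟶ Y), R w ∧ f ≫ w = g := by
  choose y hy using fun x : X => show ∃ (a : Σ Y : Scheme.{u}, {w : Y ⟶ X // R w}) , x ∈ Set.range a.2.1 by
    obtain ⟨ι, Y, w, rfl⟩ := Presieve.exists_eq_ofArrows R
    obtain ⟨i, hi⟩ := ((Scheme.ofArrows_mem_precoverage_iff _).mp hR).1 x
    exact ⟨⟨Y i, w i, ⟨i⟩⟩, hi⟩
  let T : ModPair.Pair.{u} := ⟨X, ⊤, H29Blow.isEffCartierIdeal_top⟩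
  let U : X → ModPair.Pair.{u} := fun x => ⟨(y x).1, ⊤, H29Blow.isEffCartierIdeal_top⟩
  let v : ∀ x, U x ⟶ T := fun x => ⟨(y x).2.1, (Scheme.IdealSheafData.comap_top (y x).2.1).ge⟩
  obtain ⟨x, f, hf⟩ := h T X U v
    (fun x => ⟨(Scheme.IdealSheafData.comap_top (y x).2.1).symm, hR.2 (y x).2.2⟩)
    (fun x => ⟨x, (hy x).choose, (hy x).choose_spec⟩)
    ⟨g, le_top.trans (Scheme.IdealSheafData.comap_top g).ge⟩
  exact ⟨_, (y x).2.1, f.hom, (y x).2.2, congrArg ModPair.Pair.Hom.hom hf⟩

/-- Let P be a modulus pair (a scheme P̄ with the quasi-coherent ideal sheaf of an effective Cartier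
divisor) whose total space P̄ is quasi-compact and quasi-separated. Then P is local for Zariski
coverings of modulus pairs (jointly surjective families of minimal morphisms U_i ⟶ X whose
underlying morphisms are quasi-compact open immersions: every morphism of pairs P ⟶ X factors
through some U_i), for finite coverings of modulus pairs (the same with finite underlying morphisms)
— locality for both kinds being locality for the rqfh coverings, their finite composites — and for
abstract admissible blow-ups (every P ⟶ X lifts along every abstract admissible blow-up Q ⟶ X) if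
and only if (1) P̄ is affine and A = Γ(P̄) is a local integral domain in which every monic
polynomial of positive degree has a root, (2) the interior P° is affine and Γ(P°) is likewise a
local integral domain in which every monic polynomial of positive degree has a root, and, writing p
for the closed point of P° and 𝔮 ⊂ A for its prime ideal, (3) A/𝔮 is a valuation ring with
algebraically closed fraction field and (4) the localisation map sends 𝔮 bijectively onto the
maximal ideal of A_𝔮, i.e. A = A/𝔮 ×_{k(𝔮)} A_𝔮 and P̄ is the gluing of the closure of p to P° along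
p. The published statement allows any modulus pair P; this row assumes the total space P̄
quasi-compact and quasi-separated. -/
theorem result (P : ModPair.Pair.{u})
    [CompactSpace P.total] [QuasiSeparatedSpace P.total] :
    ((∀ (X : ModPair.Pair.{u}) (ι : Type u) (U : ι → ModPair.Pair.{u}) (v : ∀ i, U i ⟶ X),
        (∀ i, ModPair.IsMinimal (U i).mod X.mod (v i).hom ∧ IsOpenImmersion (v i).hom ∧ QuasiCompact (v i).hom) →
        (∀ x : X.total, ∃ (i : ι) (y : (U i).total), (v i).hom.base y = x) →
        ∀ g : P ⟶ X, ∃ (i : ι) (h : P ⟶ U i), h ≫ v i = g) ∧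
      (∀ (X : ModPair.Pair.{u}) (ι : Type u) (U : ι → ModPair.Pair.{u}) (v : ∀ i, U i ⟶ X),
        (∀ i, ModPair.IsMinimal (U i).mod X.mod (v i).hom ∧ IsFinite (v i).hom) →
        (∀ x : X.total, ∃ (i : ι) (y : (U i).total), (v i).hom.base y = x) →
        ∀ g : P ⟶ X, ∃ (i : ι) (h : P ⟶ U i), h ≫ v i = g) ∧
      (∀ (Q : ModPair.Pair.{u}) (X : ModPair.Pair.{u}) (q : Q ⟶ X), ModPair.Pair.admBlowup q →
        ∀ g : P ⟶ X, ∃ h : P ⟶ Q, h ≫ q = g)) ↔
    (IsAffine P.total ∧ IsLocalRing Γ(P.total, ⊤) ∧ IsDomain Γ(P.total, ⊤) ∧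
      Curves.IsAIC Γ(P.total, ⊤) ∧
      IsAffine (ModPair.interior P.mod : Scheme.{u}) ∧
      IsLocalRing Γ((ModPair.interior P.mod : Scheme.{u}), ⊤) ∧
      IsDomain Γ((ModPair.interior P.mod : Scheme.{u}), ⊤) ∧
      Curves.IsAIC Γ((ModPair.interior P.mod : Scheme.{u}), ⊤) ∧
      ∀ p : (ModPair.interior P.mod : Scheme.{u}),
        IsClosed ({p} : Set (ModPair.interior P.mod : Scheme.{u})) →
          ValuationRing (Γ(P.total, ⊤) ⧸ (P.total.toSpecΓ.base ((ModPair.interior P.mod).ι.base p)).asIdeal) ∧
          IsAlgClosed (FractionRing (Γ(P.total, ⊤) ⧸ (P.total.toSpecΓ.base ((ModPair.interior P.mod).ι.base p)).asIdeal)) ∧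
          Set.BijOn (algebraMap Γ(P.total, ⊤) (Localization.AtPrime (P.total.toSpecΓ.base ((ModPair.interior P.mod).ι.base p)).asIdeal))
            ((P.total.toSpecΓ.base ((ModPair.interior P.mod).ι.base p)).asIdeal : Set Γ(P.total, ⊤))
            (IsLocalRing.maximalIdeal (Localization.AtPrime (P.total.toSpecΓ.base ((ModPair.interior P.mod).ι.base p)).asIdeal) :
              Set (Localization.AtPrime (P.total.toSpecΓ.base ((ModPair.interior P.mod).ι.base p)).asIdeal))) := by
  constructor
  · rintro ⟨hzar, hfin, hlift⟩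
    obtain ⟨hPaff, hloc, hUaff, hUloc, hp⟩ := (Groth.Agent.S19342.result P).1 ⟨hzar, hlift⟩
    obtain ⟨-, -, hdom, hA⟩ := (Groth.Agent.S19345.result P.total).1
      ⟨fun X R hR g => total_local P (@IsOpenImmersion ⊓ @QuasiCompact)
          (fun X ι U v hv => hzar X ι U v fun i => ⟨(hv i).1, (hv i).2.1, (hv i).2.2⟩) X R hR g,
        fun X R hR g => total_local P @IsFinite hfin X R hR g⟩
    haveI := hdom
    refine ⟨hPaff, hloc, hdom, hA, hUaff, hUloc, ?_, ?_, fun p hpc => ⟨(hp p hpc).1, ?_, (hp p hpc).2⟩⟩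
    · obtain ⟨t, ht, -, hU⟩ := exists_generator P
      rw [hU]
      haveI := (isAffineOpen_top P.total).isLocalization_basicOpen t
      haveI : IsDomain Γ(P.total, P.total.basicOpen t) :=
        IsLocalization.isDomain_of_le_nonZeroDivisors (M := Submonoid.powers t) Γ(P.total, P.total.basicOpen t)
          (Submonoid.powers_le.2 ht)
      exact (P.total.basicOpen t).topIso.commRingCatIsoToRingEquiv.toMulEquiv.isDomain _
    · obtain ⟨t, ht, -, hU⟩ := exists_generator P
      rw [hU]
      haveI := (isAffineOpen_top P.total).isLocalization_basicOpen t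
      have hM : Curves.IsAIC Γ(P.total, P.total.basicOpen t) := isAIC_localization (Submonoid.powers t) hA
      let e := (P.total.basicOpen t).topIso.commRingCatIsoToRingEquiv
      haveI : IsDomain Γ(P.total, P.total.basicOpen t) :=
        IsLocalization.isDomain_of_le_nonZeroDivisors (M := Submonoid.powers t) Γ(P.total, P.total.basicOpen t)
          (Submonoid.powers_le.2 ht)
      intro f hf hd
      obtain ⟨r, hr⟩ := hM (f.map e.toRingHom) (hf.map _) (by rwa [hf.natDegree_map])
      refine ⟨e.symm r, e.injective ?_⟩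
      rw [map_zero, ← hr, Polynomial.eval_map]
      exact (Polynomial.hom_eval₂ _ _ e.toRingHom _).trans (by simp)
    · haveI := (P.total.toSpecΓ.base ((ModPair.interior P.mod).ι.base p)).isPrime
      exact isAlgClosed_fractionRing hA _
  · rintro ⟨hPaff, hloc, hdom, hA, hUaff, hUloc, -, -, hp⟩
    obtain ⟨hzar, hlift⟩ := (Groth.Agent.S19342.result P).2
      ⟨hPaff, hloc, hUaff, hUloc, fun p hpc => ⟨(hp p hpc).1, (hp p hpc).2.2⟩⟩
    refine ⟨hzar, fun X κ U v hv hcov g => ?_, hlift⟩
    haveI := hdom
    let η : P.total := P.total.isoSpec.inv (⟨⊥, Ideal.isPrime_bot⟩ : PrimeSpectrum Γ(P.total, ⊤))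
    obtain ⟨i, y, hy⟩ := hcov (g.hom η)
    obtain ⟨hm, hf⟩ := hv i
    haveI := hf
    obtain ⟨z, hz, -⟩ := Scheme.Pullback.exists_preimage_pullback (f := g.hom) (g := (v i).hom) η y hy.symm
    obtain ⟨w, hw⟩ := Groth.Agent.S19345.finite_section hA
      (pullback.fst g.hom (v i).hom ≫ P.total.isoSpec.hom) z (by
        rw [Scheme.Hom.comp_apply, hz, ← Scheme.Hom.comp_apply, Iso.inv_hom_id]
        rfl)
    have hw' : P.total.isoSpec.hom ≫ w ≫ pullback.fst g.hom (v i).hom = 𝟙 _ := by
      rw [← cancel_mono P.total.isoSpec.hom, Category.assoc, Category.assoc, hw]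
      exact (Category.comp_id _).trans (Category.id_comp _).symm
    have hfac : (P.total.isoSpec.hom ≫ w ≫ pullback.snd g.hom (v i).hom) ≫ (v i).hom = g.hom := by
      rw [Category.assoc, Category.assoc, ← pullback.condition, ← Category.assoc w,
        ← Category.assoc, hw', Category.id_comp]
    refine ⟨i, ⟨P.total.isoSpec.hom ≫ w ≫ pullback.snd g.hom (v i).hom, ?_⟩, ModPair.Pair.Hom.ext hfac⟩
    show P.mod ≤ _
    rw [(hm : (U i).mod = _), ← Scheme.IdealSheafData.comap_comp, hfac]
    exact g.cond

end Groth.Agent.S19346
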