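import Groth.Statements.S19344
import Groth.Agent.S19346
import Groth.Agent.H26MPA.Fppf

set_option autoImplicit false
universe u
open CategoryTheory CategoryTheory.Limits AlgebraicGeometry TopologicalSpace
open ModPair

namespace Groth.Agent.S19344

set_option backward.isDefEq.respectTransparency false

open Groth.Agent.H26MPA Groth.Agent.H26ModPair

/-- Locality for Zariski coverings makes the total space a local affine scheme. -/
theorem isAffine_isLocalRing (P : ModPair.Pair.{u}) [QuasiSeparatedSpace P.total]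
    (hzar : ∀ (X : ModPair.Pair.{u}) (ι : Type u) (U : ι → ModPair.Pair.{u}) (v : ∀ i, U i ⟶ X),
        (∀ i, ModPair.IsMinimal (U i).mod X.mod (v i).hom ∧ IsOpenImmersion (v i).hom ∧
          QuasiCompact (v i).hom) →
        (∀ x : X.total, ∃ (i : ι) (y : (U i).total), (v i).hom.base y = x) →
        ∀ g : P ⟶ X, ∃ (i : ι) (h : P ⟶ U i), h ≫ v i = g) :
    IsAffine P.total ∧ IsLocalRing Γ(P.total, ⊤) := by
  obtain ⟨V, -, hV⟩ := Groth.Agent.S19342.exists_eq_top P hzar Set.univ fun x => by
    obtain ⟨V, hV, -⟩ := exists_affine_mem (show x ∈ (⊤ : P.total.Opens) from trivial)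
    exact ⟨V, trivial, hV⟩
  haveI : IsAffine P.total := by
    have h := V.2
    rw [hV] at h
    haveI : IsAffine (⊤ : P.total.Opens).toScheme := h
    exact IsAffine.of_isIso P.total.topIso.inv
  have hne : Nonempty P.total := by
    by_contra hne
    obtain ⟨V, hV, -⟩ := Groth.Agent.S19342.exists_eq_top P hzar ∅ fun x => absurd ⟨x⟩ hne
    exact hV
  haveI : Nontrivial Γ(P.total, ⊤) := by
    obtain ⟨x⟩ := hne
    by_contra hA
    haveI : Subsingleton Γ(P.total, ⊤) := not_nontrivial_iff_subsingleton.1 hA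
    exact (P.total.toSpecΓ x).isPrime.ne_top (Subsingleton.elim _ _)
  refine ⟨inferInstance, IsLocalRing.of_isUnit_or_isUnit_one_sub_self fun f => ?_⟩
  have hA := isAffineOpen_top P.total
  obtain ⟨W, hW, hWtop⟩ := Groth.Agent.S19342.exists_eq_top P hzar {⟨P.total.basicOpen f, hA.basicOpen f⟩,
      ⟨P.total.basicOpen (1 - f), hA.basicOpen _⟩} fun x => by
    by_cases hf : x ∈ P.total.basicOpen f
    · exact ⟨_, Set.mem_insert _ _, hf⟩
    · refine ⟨_, Set.mem_insert_of_mem _ (Set.mem_singleton _), ?_⟩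
      show x ∈ P.total.basicOpen (1 - f)
      rw [← P.total.toSpecΓ_preimage_basicOpen] at hf ⊢
      intro h
      have h2 : f ∈ (P.total.toSpecΓ x).asIdeal := not_not.1 hf
      have h3 := Ideal.add_mem _ h h2
      rw [sub_add_cancel] at h3
      exact (P.total.toSpecΓ x).isPrime.ne_top ((Ideal.eq_top_iff_one _).2 h3)
  have key : ∀ g : Γ(P.total, ⊤), P.total.basicOpen g = ⊤ → IsUnit g := fun g hg => by
    have h := (isUnit_res_iff (⊤ : P.total.Opens) g).2 hg.ge
    simpa using h
  rcases hW with rfl | rfl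
  · exact Or.inl (key _ hWtop)
  · exact Or.inr (key _ hWtop)

/-- Let P be a modulus pair (a scheme P̄ with the quasi-coherent ideal sheaf of an effective Cartier
divisor) whose total space P̄ is quasi-compact and quasi-separated. Call a scheme T fppf-local when
for every scheme X, every jointly surjective family of morphisms to X that are flat and of finite
presentation (locally of finite presentation, quasi-compact, quasi-separated) and every T ⟶ X, the
latter factors through a member of the family. Then P is local both for fppf coverings of modulus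
pairs (families of minimal morphisms U_i ⟶ X whose underlying morphisms form such a family, with the
same factorisation property for morphisms of pairs P ⟶ X) and for abstract admissible blow-ups
(every P ⟶ X lifts along every abstract admissible blow-up Q ⟶ X) if and only if (1) P̄ is
fppf-local, (2) the interior P° is fppf-local, (3) P° is affine with local ring of global sections
and, writing p for its closed point and 𝔮 ⊂ A = Γ(P̄) for the prime ideal of p, the ring A/𝔮 is a
valuation ring with algebraically closed fraction field, and (4) the localisation map sends 𝔮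
bijectively onto the maximal ideal of A_𝔮, i.e. A = A/𝔮 ×_{k(𝔮)} A_𝔮 and P̄ is the gluing of the
closure of p to P° along p. (The affine-local clause in (3) is a consequence of (2) and only serves
to name p.) The published statement allows any modulus pair P; this row assumes the total space P̄
quasi-compact and quasi-separated. -/
theorem result (P : ModPair.Pair.{u})
    [CompactSpace P.total] [QuasiSeparatedSpace P.total] :
    ((∀ (X : ModPair.Pair.{u}) (ι : Type u) (U : ι → ModPair.Pair.{u}) (v : ∀ i, U i ⟶ X),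
        (∀ i, ModPair.IsMinimal (U i).mod X.mod (v i).hom ∧ Flat (v i).hom ∧
          LocallyOfFinitePresentation (v i).hom ∧ QuasiCompact (v i).hom ∧
          QuasiSeparated (v i).hom) →
        (∀ x : X.total, ∃ (i : ι) (y : (U i).total), (v i).hom.base y = x) →
        ∀ g : P ⟶ X, ∃ (i : ι) (h : P ⟶ U i), h ≫ v i = g) ∧
      (∀ (Q X : ModPair.Pair.{u}) (q : Q ⟶ X), ModPair.Pair.admBlowup q →
        ∀ g : P ⟶ X, ∃ h : P ⟶ Q, h ≫ q = g)) ↔
    ((∀ (X : Scheme.{u}) (R : Presieve X), R ∈ Scheme.precoverage (@Flat ⊓ @LocallyOfFinitePresentation ⊓ @QuasiCompact ⊓ @QuasiSeparated) X →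
        ∀ g : P.total ⟶ X, ∃ (Y : Scheme.{u}) (w : Y ⟶ X) (h : P.total ⟶ Y), R w ∧ h ≫ w = g) ∧
      (∀ (X : Scheme.{u}) (R : Presieve X), R ∈ Scheme.precoverage (@Flat ⊓ @LocallyOfFinitePresentation ⊓ @QuasiCompact ⊓ @QuasiSeparated) X →
        ∀ g : (ModPair.interior P.mod : Scheme.{u}) ⟶ X, ∃ (Y : Scheme.{u}) (w : Y ⟶ X) (h : (ModPair.interior P.mod : Scheme.{u}) ⟶ Y), R w ∧ h ≫ w = g) ∧
      IsAffine (ModPair.interior P.mod : Scheme.{u}) ∧
      IsLocalRing Γ((ModPair.interior P.mod : Scheme.{u}), ⊤) ∧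
      ∀ p : (ModPair.interior P.mod : Scheme.{u}),
        IsClosed ({p} : Set (ModPair.interior P.mod : Scheme.{u})) →
          ValuationRing (Γ(P.total, ⊤) ⧸ (P.total.toSpecΓ.base ((ModPair.interior P.mod).ι.base p)).asIdeal) ∧
          IsAlgClosed (FractionRing (Γ(P.total, ⊤) ⧸ (P.total.toSpecΓ.base ((ModPair.interior P.mod).ι.base p)).asIdeal)) ∧
          Set.BijOn (algebraMap Γ(P.total, ⊤) (Localization.AtPrime (P.total.toSpecΓ.base ((ModPair.interior P.mod).ι.base p)).asIdeal))
            ((P.total.toSpecΓ.base ((ModPair.interior P.mod).ι.base p)).asIdeal : Set Γ(P.total, ⊤))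
            (IsLocalRing.maximalIdeal (Localization.AtPrime (P.total.toSpecΓ.base ((ModPair.interior P.mod).ι.base p)).asIdeal) :
              Set (Localization.AtPrime (P.total.toSpecΓ.base ((ModPair.interior P.mod).ι.base p)).asIdeal))) := by
  have zar : (∀ (X : ModPair.Pair.{u}) (ι : Type u) (U : ι → ModPair.Pair.{u}) (v : ∀ i, U i ⟶ X),
        (∀ i, ModPair.IsMinimal (U i).mod X.mod (v i).hom ∧ Flat (v i).hom ∧
          LocallyOfFinitePresentation (v i).hom ∧ QuasiCompact (v i).hom ∧
          QuasiSeparated (v i).hom) →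
        (∀ x : X.total, ∃ (i : ι) (y : (U i).total), (v i).hom.base y = x) →
        ∀ g : P ⟶ X, ∃ (i : ι) (h : P ⟶ U i), h ≫ v i = g) →
      ∀ (X : ModPair.Pair.{u}) (ι : Type u) (U : ι → ModPair.Pair.{u}) (v : ∀ i, U i ⟶ X),
        (∀ i, ModPair.IsMinimal (U i).mod X.mod (v i).hom ∧ IsOpenImmersion (v i).hom ∧
          QuasiCompact (v i).hom) →
        (∀ x : X.total, ∃ (i : ι) (y : (U i).total), (v i).hom.base y = x) →
        ∀ g : P ⟶ X, ∃ (i : ι) (h : P ⟶ U i), h ≫ v i = g :=
    fun h X ι U v hv => h X ι U v fun i => by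
      haveI := (hv i).2.1
      exact ⟨(hv i).1, inferInstance, inferInstance, (hv i).2.2, inferInstance⟩
  constructor
  · rintro ⟨hfp, hlift⟩
    obtain ⟨hPaff, hloc, hUaff, hUloc, hp⟩ := (Groth.Agent.S19342.result P).1 ⟨zar hfp, hlift⟩
    have htot : ∀ (X : Scheme.{u}) (R : Presieve X), R ∈ Scheme.precoverage fppfProp.{u} X →
        ∀ g : P.total ⟶ X, ∃ (Y : Scheme.{u}) (w : Y ⟶ X) (f : P.total ⟶ Y), R w ∧ f ≫ w = g :=
      fun X R hR g => Groth.Agent.S19346.total_local P fppfProp
        (fun X ι U v hv => hfp X ι U v fun i => ⟨(hv i).1, (hv i).2.1.1.1, (hv i).2.1.1.2, (hv i).2.1.2, (hv i).2.2⟩)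
        X R hR g
    have hA := hasFreeRetractions_of_fppfLocal P.total htot
    refine ⟨htot, ?_, hUaff, hUloc, fun p hpc => ⟨(hp p hpc).1, ?_, (hp p hpc).2⟩⟩
    · obtain ⟨t, ht, -, hU⟩ := exists_generator P
      rw [hU] at hUaff hUloc ⊢
      haveI := hUaff
      haveI := hUloc
      haveI := (isAffineOpen_top P.total).isLocalization_basicOpen t
      let e := (P.total.basicOpen t).topIso.commRingCatIsoToRingEquiv
      letI : Algebra Γ(P.total, ⊤) Γ((P.total.basicOpen t : Scheme.{u}), ⊤) :=
        (e.symm.toRingHom.comp (algebraMap Γ(P.total, ⊤) Γ(P.total, P.total.basicOpen t))).toAlgebra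
      haveI : IsLocalization (Submonoid.powers t) Γ((P.total.basicOpen t : Scheme.{u}), ⊤) :=
        IsLocalization.isLocalization_of_algEquiv (Submonoid.powers t)
          (AlgEquiv.ofRingEquiv (f := e.symm) fun _ => rfl)
      exact fun X R hR g => fppfLocal_of_hasFreeRetractions _
        (hasFreeRetractions_localization (Submonoid.powers t) (Submonoid.powers_le.2 ht) hA) X R hR g
    · haveI := (P.total.toSpecΓ.base ((ModPair.interior P.mod).ι.base p)).isPrime
      exact Groth.Agent.S19346.isAlgClosed_fractionRing (isAIC_of_hasFreeRetractions hA) _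
  · rintro ⟨htot, -, hUaff, hUloc, hp⟩
    have hfp : ∀ (X : ModPair.Pair.{u}) (ι : Type u) (U : ι → ModPair.Pair.{u}) (v : ∀ i, U i ⟶ X),
        (∀ i, ModPair.IsMinimal (U i).mod X.mod (v i).hom ∧ Flat (v i).hom ∧
          LocallyOfFinitePresentation (v i).hom ∧ QuasiCompact (v i).hom ∧
          QuasiSeparated (v i).hom) →
        (∀ x : X.total, ∃ (i : ι) (y : (U i).total), (v i).hom.base y = x) →
        ∀ g : P ⟶ X, ∃ (i : ι) (h : P ⟶ U i), h ≫ v i = g := by
      intro X ι U v hv hcov g
      obtain ⟨Y, w, f, ⟨i⟩, hf⟩ := htot X.total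
        (Presieve.ofArrows (fun i => (U i).total) fun i => (v i).hom) (by
          rw [Scheme.ofArrows_mem_precoverage_iff]
          exact ⟨hcov, fun i => ⟨⟨⟨(hv i).2.1, (hv i).2.2.1⟩, (hv i).2.2.2.1⟩, (hv i).2.2.2.2⟩⟩) g.hom
      refine ⟨i, ⟨f, ?_⟩, ModPair.Pair.Hom.ext hf⟩
      show P.mod ≤ _
      rw [((hv i).1 : (U i).mod = _), ← Scheme.IdealSheafData.comap_comp, hf]
      exact g.cond
    obtain ⟨hPaff, hloc⟩ := isAffine_isLocalRing P (zar hfp)
    exact ⟨hfp, ((Groth.Agent.S19342.result P).2
      ⟨hPaff, hloc, hUaff, hUloc, fun p hpc => ⟨(hp p hpc).1, (hp p hpc).2.2⟩⟩).2⟩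

end Groth.Agent.S19344
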