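import Groth.Statements.S19348
import Mathlib.Tactic

set_option autoImplicit false
universe u
open RigCh

namespace Groth.Agent.S19348

/-- Let p be a prime and m a natural number, P a commutative ring complete and separated for the p-adic
topology, and I an ideal of P with a divided power structure of level m, that is a sub-ideal J of I
endowed with divided powers such that x ^ (p ^ m) and p * x lie in J for all x in I. Then an element
of P whose class in P / I is invertible is invertible in P. (The source states this for a lift of a
unit to the p-adically completed level-m divided power envelope of a closed immersion; the statement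
here keeps exactly what its argument uses: completeness for p and the level-m divided powers on the
kernel.) -/
theorem result (p : ℕ) [Fact p.Prime] (m : ℕ)
    (P : Type u) [CommRing P] [IsAdicComplete (Ideal.span {(p : P)}) P]
    (I J : Ideal P) (hJ : DividedPowers J) (hJI : J ≤ I)
    (hpow : ∀ x ∈ I, x ^ (p ^ m) ∈ J) (hmul : ∀ x ∈ I, (p : P) * x ∈ J)
    (u : P) (hu : IsUnit (Ideal.Quotient.mk I u)) : IsUnit u := by
  obtain ⟨v, hv⟩ := Ideal.Quotient.mk_surjective ((↑hu.unit⁻¹ : P ⧸ I))
  have hx : u * v - 1 ∈ I := by
    rw [← Ideal.Quotient.eq_zero_iff_mem]; simp [hv]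
  set x := u * v - 1 with hxdef
  have hp := IsAdicComplete.le_jacobson_bot (Ideal.span {(p : P)})
  have hpow' : (x ^ p ^ m) ^ p ∈ Ideal.span {(p : P)} := by
    rw [← hJ.factorial_mul_dpow_eq_pow (n := p) (hpow x hx), Ideal.mem_span_singleton]
    exact dvd_mul_of_dvd_left (by
      rw [← Nat.mul_factorial_pred (Nat.Prime.ne_zero Fact.out), Nat.cast_mul]
      exact dvd_mul_right _ _) _
  have hj : x ∈ (⊥ : Ideal P).jacobson := by
    have h1 := hp hpow'
    rw [← pow_mul] at h1
    have hrad : Ideal.IsRadical (⊥ : Ideal P).jacobson := Ideal.isRadical_jacobson ⊥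
    exact hrad ⟨_, h1⟩
  have h2 := (Ideal.mem_jacobson_bot.mp hj) 1
  have h3 : x * 1 + 1 = u * v := by simp [hxdef]
  rw [h3] at h2
  exact isUnit_of_mul_isUnit_left h2

end Groth.Agent.S19348
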