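import Groth.Statements.S19350
import Groth.Agent.H16Derived.KFlat.LocFreeOps
import Groth.Agent.H28Pinch.SheafDescent
import Groth.Agent.H8Props.FinLocFree.Global
import Groth.Agent.H11Tilde.ModLoc
import Mathlib

set_option autoImplicit false
universe u
open RigCh

namespace Groth.Agent.S19350

open AlgebraicGeometry CategoryTheory

theorem eq_zero_of_killed {X : Scheme.{u}} (M : X.Modules) (hM : FlatMod.IsFinLocFree M) (E : X.IdealSheafData)
    (hE : BlowUp.IsEffCartierIdeal E) (V : X.affineOpens) (m : Γ(M, V.1))
    (h : BlowUp.KilledByPowerNear E M V m) : m = 0 := by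
  obtain ⟨n, hn⟩ := h
  refine Groth.Agent.H11Tilde.eq_of_locally _ _ fun x hx => ?_
  obtain ⟨U, hxU, f, hf, hI⟩ := hE x
  obtain ⟨g, g', hgg, hxg⟩ := exists_basicOpen_le_affine_inter U.2 V.2 x ⟨hxU, hx⟩
  have hWV : X.basicOpen g ≤ V.1 := hgg.trans_le (X.basicOpen_le g')
  have hWU : X.basicOpen g ≤ U.1 := X.basicOpen_le g
  let W : X.affineOpens := ⟨X.basicOpen g, U.2.basicOpen g⟩
  refine ⟨W.1, hWV, hxg, ?_⟩
  rw [map_zero]
  haveI := (Groth.Agent.H8Props.FinLocFree.finite_projective_sections M hM W.2).2
  let fW : Γ(X, W.1) := X.presheaf.map (homOfLE hWU).op f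
  have hfW : fW ∈ nonZeroDivisors Γ(X, W.1) := by
    haveI := U.2.isLocalization_basicOpen g
    exact IsLocalization.map_nonZeroDivisors_le (Submonoid.powers g) _ (Submonoid.mem_map_of_mem _ hf)
  have hfn : fW ^ n • M.presheaf.map (homOfLE hWV).op m = 0 := by
    have hmem : fW ^ n ∈ ((E ^ n).ideal V).map (X.presheaf.map (homOfLE hWV).op).hom := by
      rw [show ((E ^ n).ideal V).map (X.presheaf.map (homOfLE hWV).op).hom = (E ^ n).ideal W from (E ^ n).map_ideal' (U := W) (V := V) _, Scheme.IdealSheafData.ideal_pow, Pi.pow_apply]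
      refine Ideal.pow_mem_pow ?_ n
      rw [← show (E.ideal U).map (X.presheaf.map (homOfLE hWU).op).hom = E.ideal W from E.map_ideal' (U := W) (V := U) _, hI]
      exact Ideal.mem_map_of_mem _ (Ideal.mem_span_singleton_self f)
    let A : Ideal Γ(X, W.1) :=
      { carrier := {a | a • M.presheaf.map (homOfLE hWV).op m = 0}
        add_mem' := fun {a b} (ha : _ = _) (hb : _ = _) => show _ = _ by rw [add_smul, ha, hb, add_zero]
        zero_mem' := zero_smul _ _
        smul_mem' := fun c a (ha : _ = _) => show _ = _ by rw [smul_eq_mul, mul_smul, ha, smul_zero] }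
    refine (Ideal.map_le_iff_le_comap.mpr fun a ha => ?_ : _ ≤ A) hmem
    show _ • M.presheaf.map (homOfLE hWV).op m = 0
    rw [← Scheme.Modules.map_smul, hn a ha, map_zero]
  exact (Module.Flat.isSMulRegular_of_nonZeroDivisors (pow_mem hfW n)) (hfn.trans (smul_zero _).symm)


open AlgebraicGeometry CategoryTheory in
/-- Let X be a separated scheme of finite type over a field k, I a quasi-coherent ideal sheaf on X, b :
X' → X a blowing up of X in I and F a finite locally free O_X-module. Then for any strict transform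
G of F along b (an epimorphism π from the pullback of F onto G whose kernel consists,
affine-locally, of the sections annihilated by a power of the exceptional ideal), π is an
isomorphism and G is finite locally free. (The published statement asserts only that the strict
transform is locally free. The source assumes k of positive characteristic, which plays no role
here.) -/
theorem result (k : Type u) [Field k]
    (X : Scheme.{u}) (f : X ⟶ Spec (CommRingCat.of k)) [IsSeparated f] [QuasiCompact f] [LocallyOfFiniteType f]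
    (I : X.IdealSheafData) {X' : Scheme.{u}} (b : X' ⟶ X) (hb : BlowUp.IsBlowUp b I)
    (F : X.Modules) (hF : FlatMod.IsFinLocFree F) (G : X'.Modules) (π : (Scheme.Modules.pullback b).obj F ⟶ G)
    (hG : BlowUp.IsStrictTransform b I F G π) : IsIso π ∧ FlatMod.IsFinLocFree G := by
  haveI : F.IsQuasicoherent := Groth.Agent.H8Props.FinLocFree.isQCoh_of_isFinLocFree F hF
  have hM : FlatMod.IsFinLocFree ((Scheme.Modules.pullback b).obj F) :=
    Groth.Agent.H28Pinch.isFinLocFree_pullback (f := b) F hF
  haveI := hG.1
  haveI : Mono π := Groth.Agent.H11Tilde.mono_of_injective _ fun W s hs y hy => by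
    obtain ⟨_, ⟨V, hV : IsAffineOpen V, rfl⟩, hyV, hle⟩ :=
      X'.isBasis_affineOpens.exists_subset_of_mem_open hy W.isOpen
    refine ⟨V, hle, hyV, ?_⟩
    refine eq_zero_of_killed _ hM _ hb.1 ⟨V, hV⟩ _ ((hG.2 ⟨V, hV⟩ _).mp ?_)
    rw [Groth.Agent.H11Tilde.app_map_apply, hs, map_zero]
  haveI : IsIso π := isIso_of_mono_of_epi π
  exact ⟨inferInstance, Groth.Agent.H16Derived.KFlat.Stalk.isFinLocFree_of_iso (asIso π) hM⟩

end Groth.Agent.S19350
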