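import Groth.Statements.S19354
import Groth.Agent.H28Surf.Hodge

set_option autoImplicit false
universe u
open CategoryTheory CategoryTheory.Limits AlgebraicGeometry
open Groth.Agent
open Surf

namespace Groth.Agent.S19354

/-- Let k be an algebraically closed field and X a nonsingular projective surface over k, namely an
integral scheme, smooth over k, of dimension two, admitting a closed immersion into some projective
space P^n_k over k. If L and M are invertible O_X-modules (modules of divisors D, D') with (L·L) > 0
and (L·M) = 0, then (M·M) ≤ 0: the intersection form is negative semi-definite on the orthogonal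
complement of a class of positive square. Here (A·B) denotes the intersection number of two
invertible modules, the alternating sum χ(O_X) − χ(A) − χ(B) + χ(A ⊗ B) of Euler characteristics
(cohomology in degrees at most two); for two invertible modules this agrees with the same sum formed
from their inverses. -/
theorem result (k : Type u) [Field k] [IsAlgClosed k]
    (X : Scheme.{u}) [X.Over (Spec (CommRingCat.of k))] [AlgebraicGeometry.IsIntegral X]
    [Smooth (X ↘ Spec (CommRingCat.of k))] (hdim : topologicalKrullDim X = 2)
    (hproj : ∃ (n : ℕ) (ι : X ⟶ CohB1.ProjSpace n k), IsClosedImmersion ι ∧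
      ι ≫ CohB1.ProjSpace.toSpec n k = X ↘ Spec (CommRingCat.of k))
    (L M : X.Modules) (hL : PicF.IsInvertible L) (hM : PicF.IsInvertible M)
    (hpos : 0 < FGA.intNum k X 2 ![L, L] (Coh.structureModule X))
    (horth : FGA.intNum k X 2 ![L, M] (Coh.structureModule X) = 0) :
    FGA.intNum k X 2 ![M, M] (Coh.structureModule X) ≤ 0 := by
  obtain ⟨n, ι, hι, hιk⟩ := hproj
  haveI := hι
  haveI : IsProper (X ↘ Spec (CommRingCat.of k)) := hιk ▸ inferInstanceAs (IsProper (ι ≫ CohB1.ProjSpace.toSpec n k))
  have hH : CohB1.IsAmple ((Scheme.Modules.pullback ι).obj (Twist.twistProjSpace n k 1)) :=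
    H11Ample.isAmple_pullback_of_isAffineHom ι (H11Ample.isAmple_twistProjSpace n k)
  rw [H28Surf.intNum_eq_pr k hdim hL hM] at horth
  rw [H28Surf.intNum_eq_pr k hdim hL hL] at hpos
  rw [H28Surf.intNum_eq_pr k hdim hM hM]
  exact H28Surf.pr_self_nonpos_of_orth k hdim hH hL hM hpos horth

end Groth.Agent.S19354
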