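import Groth.Statements.S19356
import Groth.Agent.H25Misc.PosInvolution
import Mathlib.Tactic

set_option autoImplicit false
universe u
open AbVar

namespace Groth.Agent.S19356

/-- Let R be a finite-dimensional ℚ-algebra with a ℚ-linear involution x ↦ x† (an anti-automorphism of
order two) and a ℚ-linear functional σ with σ(x x†) > 0 for every x ≠ 0; this is the positivity of
the involution, σ being the trace of R over ℚ in the case of the endomorphism algebra of an abelian
variety with a Rosati involution, and the trace on a cohomology group in the case of an algebra of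
correspondences with the adjoint for a Weil form. Let α ∈ R with α α† = q for a rational number q.
Then α† lies in the subalgebra ℚ[α], and for every ℚ-algebra homomorphism ρ : ℚ[α] → ℂ one has ρ(α†)
= the complex conjugate of ρ(α) and |ρ(α)|² = q. (The published statement is for the endomorphism
algebra of an abelian variety with a Rosati involution, with σ its trace over ℚ and q an integer;
the form given here, for an arbitrary ℚ-linear functional σ positive on every x x† with x ≠ 0 and
rational q, is what its proof establishes.) -/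
theorem result (R : Type u) [Ring R] [Algebra ℚ R]
    [Module.Finite ℚ R] [StarRing R] [StarModule ℚ R]
    (σ : R →ₗ[ℚ] ℚ) (hpos : ∀ x : R, x ≠ 0 → 0 < σ (x * star x))
    (α : R) (q : ℚ) (hα : α * star α = algebraMap ℚ R q) :
    ∃ hmem : star α ∈ Algebra.adjoin ℚ ({α} : Set R),
      ∀ ρ : Algebra.adjoin ℚ ({α} : Set R) →ₐ[ℚ] ℂ,
        ρ ⟨star α, hmem⟩ = starRingEnd ℂ (ρ ⟨α, Algebra.self_mem_adjoin_singleton ℚ α⟩) ∧
          ‖ρ ⟨α, Algebra.self_mem_adjoin_singleton ℚ α⟩‖ ^ 2 = (q : ℝ) := by
  rcases subsingleton_or_nontrivial R with hR | hR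
  · refine ⟨by rw [Subsingleton.elim (star α) α]; exact Algebra.self_mem_adjoin_singleton ℚ α, fun ρ => ?_⟩
    exfalso
    have h := map_one ρ
    rw [Subsingleton.elim (1 : Algebra.adjoin ℚ ({α} : Set R)) 0, map_zero] at h
    exact zero_ne_one h
  have h1 : (0 : ℚ) < σ 1 := by simpa using hpos 1 one_ne_zero
  by_cases hα0 : α = 0
  · subst hα0
    have hq : q = 0 := by
      rw [zero_mul, eq_comm, map_eq_zero_iff _ (algebraMap ℚ R).injective] at hα; exact hα
    refine ⟨by rw [star_zero]; exact Subalgebra.zero_mem _, fun ρ => ?_⟩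
    have e : (⟨(0 : R), Algebra.self_mem_adjoin_singleton ℚ 0⟩ : Algebra.adjoin ℚ ({0} : Set R)) = 0 := rfl
    have e' : ∀ h, (⟨star (0 : R), h⟩ : Algebra.adjoin ℚ ({0} : Set R)) = 0 := fun h => Subtype.ext (star_zero R)
    rw [e, e', map_zero, hq]; simp
  · have hq : 0 < q := by
      have := hpos α hα0
      rw [hα, Algebra.algebraMap_eq_smul_one, map_smul, smul_eq_mul] at this
      exact (mul_pos_iff_of_pos_right h1).mp this
    have hinv : α * (q⁻¹ • star α) = 1 := by
      rw [mul_smul_comm, hα, Algebra.algebraMap_eq_smul_one, smul_smul, inv_mul_cancel₀ hq.ne', one_smul]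
    have : IsArtinianRing R := isArtinian_of_tower ℚ inferInstance
    have hinv' : (q⁻¹ • star α) * α = 1 := mul_eq_one_comm.mp hinv
    have hα' : star α * α = algebraMap ℚ R q := by
      rw [smul_mul_assoc, inv_smul_eq_iff₀ hq.ne'] at hinv'
      rw [hinv', Algebra.algebraMap_eq_smul_one]
    have hmem : star α ∈ Algebra.adjoin ℚ ({α} : Set R) := by
      have hint : IsIntegral ℚ α := Algebra.IsIntegral.isIntegral α
      set p := minpoly ℚ α
      have hc : p.coeff 0 ≠ 0 := by
        intro h0
        obtain ⟨r, hr⟩ := Polynomial.X_dvd_iff.mpr h0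
        have h := minpoly.aeval ℚ α
        rw [show minpoly ℚ α = Polynomial.X * r from hr, map_mul, Polynomial.aeval_X] at h
        have hr0 : Polynomial.aeval α r = 0 := by
          have := congrArg (fun y => (q⁻¹ • star α) * y) h
          rwa [mul_zero, ← mul_assoc, hinv', one_mul] at this
        have hne : r ≠ 0 := fun h => minpoly.ne_zero hint (by rw [show minpoly ℚ α = Polynomial.X * r from hr, h, mul_zero])
        have hdeg := Polynomial.natDegree_le_of_dvd (minpoly.dvd ℚ α hr0) hne
        rw [show minpoly ℚ α = Polynomial.X * r from hr, Polynomial.natDegree_mul Polynomial.X_ne_zero hne, Polynomial.natDegree_X] at hdeg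
        omega
      have h := minpoly.aeval ℚ α
      rw [show minpoly ℚ α = Polynomial.X * p.divX + Polynomial.C (p.coeff 0) from (Polynomial.X_mul_divX_add p).symm, map_add, map_mul, Polynomial.aeval_X, Polynomial.aeval_C, add_eq_zero_iff_eq_neg] at h
      have h2 := congrArg (fun y => (q⁻¹ • star α) * y) h
      rw [← mul_assoc, hinv', one_mul, ← map_neg, Algebra.algebraMap_eq_smul_one, mul_smul_comm, mul_one, smul_smul] at h2
      have h3 : star α = (-p.coeff 0 * q⁻¹)⁻¹ • Polynomial.aeval α p.divX := by
        rw [h2, inv_smul_smul₀ (mul_ne_zero (neg_ne_zero.mpr hc) (inv_ne_zero hq.ne'))]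
      rw [h3]; exact Subalgebra.smul_mem _ (Polynomial.aeval_mem_adjoin_singleton ℚ α) _
    refine ⟨hmem, fun ρ => ?_⟩
    set a : Algebra.adjoin ℚ ({α} : Set R) := ⟨α, Algebra.self_mem_adjoin_singleton ℚ α⟩
    have hz : Polynomial.aeval (ρ a) (minpoly ℚ α) = 0 := by
      rw [Polynomial.aeval_algHom_apply]
      have : Polynomial.aeval a (minpoly ℚ α) = 0 := by
        apply Subtype.ext
        rw [← Subalgebra.coe_val, ← Polynomial.aeval_algHom_apply]
        simp [a]
      rw [this, map_zero]
    have hn := Groth.Agent.H25Misc.normSq_root σ hpos hα' hz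
    refine ⟨?_, by rw [← Complex.normSq_eq_norm_sq]; exact hn⟩
    have hprod : ρ a * ρ ⟨star α, hmem⟩ = (q : ℂ) := by
      rw [← map_mul, show a * ⟨star α, hmem⟩ = algebraMap ℚ _ q from Subtype.ext (by simpa [a] using hα), AlgHom.commutes]
      simp
    have hne : ρ a ≠ 0 := fun h => by
      rw [h, zero_mul] at hprod
      exact hq.ne (by exact_mod_cast hprod)
    apply mul_left_cancel₀ hne
    rw [hprod, Complex.mul_conj, hn]; norm_cast

end Groth.Agent.S19356
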