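import Groth.Statements.S19358
import Groth.Agent.H21Fan.Basic

set_option autoImplicit false
universe u
open CategoryTheory Opposite Instab
open Instab Instab.Fan

namespace Groth.Agent.S19358


/-- Let f : F ⟶ G be a map of formal fans. If f is injective on n-cones for every n, then the induced
continuous map of projective realizations P F → P G is injective; if f is surjective on n-cones for
every n, then P F → P G is surjective. -/
theorem result {F G : Fan.{u}} (f : F ⟶ G) :
    ((∀ n : ICone, Function.Injective (f.app (op n))) → Function.Injective (Fan.P.map f)) ∧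
    ((∀ n : ICone, Function.Surjective (f.app (op n))) → Function.Surjective (Fan.P.map f)) := by
  refine ⟨fun hinj x x' h => ?_, fun hsurj y => ?_⟩
  · obtain ⟨n, a, v, rfl⟩ := H21Fan.exists_mk x
    obtain ⟨n', b, w, rfl⟩ := H21Fan.exists_mk x'
    obtain ⟨k, φ₁, φ₂, y, c, he, hc, h1, h2⟩ := H21Fan.exists_subcone_of_mk_eq h
    rw [← H21Fan.naturality_apply', ← H21Fan.naturality_apply'] at he
    refine H21Fan.mk_eq_of_subcone φ₁ φ₂ (hinj k he) y one_pos (inv_pos.mpr hc) ?_ ?_
    · rw [one_smul, h1]
    · rw [h2, smul_smul, inv_mul_cancel₀ hc.ne', one_smul]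
  · obtain ⟨n, b, v, rfl⟩ := H21Fan.exists_mk y
    obtain ⟨a, rfl⟩ := hsurj n b
    exact ⟨Fan.P.mk a v, rfl⟩

end Groth.Agent.S19358
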