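import Groth.Statements.S1936
import Groth.Agent.S1341
import Groth.Agent.S1342
import Groth.Agent.H8Props.CMAt
import Groth.Agent.H8Props.FibreStalk
import Groth.Agent.H13Grpd.OfScheme
import Groth.Agent.H19Grp.GrpdShear
import Groth.Agent.H19Grp.Components

set_option autoImplicit false
set_option maxHeartbeats 1000000
set_option synthInstance.maxHeartbeats 100000
set_option linter.style.haveILetI false
set_option backward.isDefEq.respectTransparency false
universe u
open CategoryTheory CategoryTheory.Limits AlgebraicGeometry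
open Grpd

namespace Groth.Agent.S1936

open Groth.Agent.H13Grpd (isPullback_comp lift_c_s)

/-- The two notions of Cohen-Macaulay morphism agree. -/
theorem isCMAt_iff {X Y : Scheme.{u}} (f : X ⟶ Y) (x : X) : Grpd.IsCMAt f x ↔ MoreMor.IsCMAt f x :=
  and_congr Iff.rfl
    ⟨fun h => @Groth.Agent.H8Props.CMAt.isCohenMacaulayLocalRing_of_ringEquiv _ _ _ _
        (Groth.Agent.H8Props.FibreStalk.asFiberStalkEquiv f x) h,
     fun h => @Groth.Agent.H8Props.CMAt.isCohenMacaulayLocalRing_of_ringEquiv _ _ _ _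
       (Groth.Agent.H8Props.FibreStalk.asFiberStalkEquiv f x).symm h⟩

variable {S : Scheme.{u}} (G : Grpd.GroupoidScheme S)

theorem i_i' : G.i ≫ G.i = 𝟙 G.R := by
  have := Groth.Agent.H19Grp.invR_invR G (𝟙 G.R)
  simpa [Groth.Agent.H19Grp.invR] using this

/-- Composition and first projection form a cartesian square over the targets. -/
theorem isPullback_c_fst : IsPullback G.c (pullback.fst G.s G.t) G.t G.t := by
  refine ⟨⟨Groth.Agent.H13Grpd.c_t G⟩, ⟨PullbackCone.IsLimit.mk _ (fun z => ?_) (fun z => ?_) (fun z => ?_) (fun z m h₁ h₂ => ?_)⟩⟩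
  · exact pullback.lift z.snd (pullback.lift (z.snd ≫ G.i) z.fst (by
        rw [Category.assoc, G.i_s]; exact z.condition.symm) ≫ G.c)
      (by rw [G.comp_t, Category.assoc, G.i_t])
  · have h₀ : (z.snd ≫ G.i) ≫ G.s = z.fst ≫ G.t := by rw [Category.assoc, G.i_s]; exact z.condition.symm
    have h₁ : z.snd ≫ G.s = (z.snd ≫ G.i) ≫ G.t := by rw [Category.assoc, G.i_t]
    rw [← G.assoc z.snd (z.snd ≫ G.i) z.fst h₁ h₀]
    rw [Groth.Agent.H13Grpd.comp_congr G _ ((show (z.snd ≫ G.t ≫ G.e) ≫ G.s = z.fst ≫ G.t by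
      rw [Category.assoc, Category.assoc, G.e_s, Category.comp_id]; exact z.condition.symm)) (G.comp_i z.snd) rfl]
    rw [Groth.Agent.H13Grpd.comp_congr G _ (show (z.fst ≫ G.t ≫ G.e) ≫ G.s = z.fst ≫ G.t by
      rw [Category.assoc, Category.assoc, G.e_s, Category.comp_id]) (α' := z.fst ≫ G.t ≫ G.e) (β' := z.fst)
      (by rw [← Category.assoc, ← Category.assoc, z.condition]) rfl]
    exact G.e_comp z.fst
  · exact pullback.lift_fst _ _ _
  · apply pullback.hom_ext
    · rw [h₂, pullback.lift_fst]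
    · have hm : (m ≫ pullback.fst G.s G.t) ≫ G.s = (m ≫ pullback.snd G.s G.t) ≫ G.t := by
        rw [Category.assoc, pullback.condition, Category.assoc]
      have hc : pullback.lift _ _ hm ≫ G.c = z.fst := by
        rw [show pullback.lift _ _ hm = m by apply pullback.hom_ext <;> simp]; exact h₁
      have ha : (z.snd ≫ G.i) ≫ G.s = (m ≫ pullback.fst G.s G.t) ≫ G.t := by rw [Category.assoc, G.i_s, h₂]
      rw [pullback.lift_snd, Groth.Agent.H13Grpd.comp_congr G _ (ha.trans (G.comp_t _ _ hm).symm) rfl hc.symm,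
        ← G.assoc (z.snd ≫ G.i) _ _ ha hm,
        Groth.Agent.H13Grpd.comp_congr G _ (show (z.snd ≫ G.s ≫ G.e) ≫ G.s = (m ≫ pullback.snd G.s G.t) ≫ G.t by
          rw [Category.assoc, Category.assoc, G.e_s, Category.comp_id, ← h₂]; exact hm)
          (by rw [Groth.Agent.H13Grpd.comp_congr G _ (show (z.snd ≫ G.i) ≫ G.s = z.snd ≫ G.t by
            rw [Category.assoc, G.i_s]) rfl h₂, G.i_comp]) rfl,
        Groth.Agent.H13Grpd.comp_congr G _ (show ((m ≫ pullback.snd G.s G.t) ≫ G.t ≫ G.e) ≫ G.s =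
            (m ≫ pullback.snd G.s G.t) ≫ G.t by
          simp only [Category.assoc, G.e_s, Category.comp_id]) (by
            rw [← h₂, ← Category.assoc, ← Category.assoc, hm]) rfl,
        G.e_comp]

/-- Being Cohen-Macaulay for the source only depends on the target. -/
theorem isCMAt_of_t_eq [Flat G.s] [LocallyOfFinitePresentation G.s] {r r' : G.R} (h : G.t r = G.t r') (hr : MoreMor.IsCMAt G.s r) :
    MoreMor.IsCMAt G.s r' := by
  haveI : Flat (pullback.snd G.s G.t) := MorphismProperty.pullback_snd (P := @Flat) G.s G.t inferInstance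
  obtain ⟨w, hw₁, hw₂⟩ := Scheme.exists_preimage_of_isPullback (isPullback_c_fst G) r' r h.symm
  have h1 := Groth.Agent.S1342.result G.s (pullback.snd G.s G.t) (pullback.fst G.s G.t) G.t
    (IsPullback.of_hasPullback G.s G.t)
  have h2 := Groth.Agent.S1342.result G.s (pullback.snd G.s G.t) G.c G.s (isPullback_comp G)
  have hwm : MoreMor.IsCMAt (pullback.snd G.s G.t) w := by
    refine (Set.ext_iff.1 h1 w).2 ?_
    show MoreMor.IsCMAt G.s (pullback.fst G.s G.t w)
    rw [hw₂]; exact hr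
  have := (Set.ext_iff.1 h2 w).1 hwm
  rwa [Set.mem_preimage, Set.mem_ofPred_eq, hw₁] at this


/-- Let (U, R, s, t, c) be a groupoid scheme over S with s, t flat and locally of finite presentation.
There is an open U' ⊆ U such that t⁻¹(U') is exactly the set of points of R at which s is
Cohen–Macaulay, s⁻¹(U') is exactly the set of points at which t is Cohen–Macaulay, and both t
restricted to s⁻¹(U') and s restricted to t⁻¹(U') are surjective onto U. (Part (5), that the
restriction of R to U' is a groupoid with Cohen–Macaulay s', t', then follows and is not restated.)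
Cohen–Macaulay at a point: flat there with Cohen–Macaulay fibre local ring (Grpd.IsCMAt). (A
groupoid scheme carries U, R, s, t, c, e, i over S with the groupoid axioms on T-points; 'finite
locally free' is finite, flat and locally of finite presentation; C ⊂ Γ(U) is the ring of functions
a with s♯(a) = t♯(a) and M = Spec C.) -/
theorem result (S : Scheme.{u}) (G : Grpd.GroupoidScheme S) [Flat G.s] [LocallyOfFinitePresentation G.s] [Flat G.t] [LocallyOfFinitePresentation G.t] : ∃ U' : G.U.Opens, (G.t ⁻¹ᵁ U' : Set G.R) = {r | Grpd.IsCMAt G.s r} ∧ (G.s ⁻¹ᵁ U' : Set G.R) = {r | Grpd.IsCMAt G.t r} ∧ ⇑G.t '' (G.s ⁻¹ᵁ U' : Set G.R) = Set.univ ∧ ⇑G.s '' (G.t ⁻¹ᵁ U' : Set G.R) = Set.univ := by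
  classical
  have hopen := (Groth.Agent.S1341.result G.s).1
  let U' : G.U.Opens := ⟨G.t '' {r | MoreMor.IsCMAt G.s r}, G.t.isOpenMap _ hopen⟩
  have ht : ∀ r, G.t r ∈ U' ↔ Grpd.IsCMAt G.s r := fun r => by
    rw [isCMAt_iff]
    exact ⟨fun ⟨r', hr', e⟩ => isCMAt_of_t_eq G e hr', fun h => ⟨r, h, rfl⟩⟩
  haveI : IsIso G.i := ⟨⟨G.i, i_i' G, i_i' G⟩⟩
  have hs : ∀ r, G.s r ∈ U' ↔ Grpd.IsCMAt G.t r := fun r => by
    rw [show G.s r = G.t (G.i r) by rw [← Scheme.Hom.comp_apply, G.i_t], ht, isCMAt_iff, isCMAt_iff]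
    exact (Set.ext_iff.1 (Groth.Agent.S1342.result G.s G.t G.i (𝟙 G.U)
      (IsPullback.of_horiz_isIso ⟨by rw [G.i_s, Category.comp_id]⟩)) r).symm
  have hsurj : G.s '' (G.t ⁻¹ᵁ U' : Set G.R) = Set.univ := by
    refine Set.eq_univ_of_forall fun x => ?_
    let z := G.s.asFiber (G.e x)
    have hd := (Groth.Agent.S1341.result G.s).2 (G.s (G.e x))
    obtain ⟨w, -, hw⟩ := hd.inter_open_nonempty _ isOpen_univ ⟨z, trivial⟩
    refine ⟨G.s.fiberι _ w, (ht _).2 ((isCMAt_iff _ _).2 hw), ?_⟩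
    have := G.s.range_fiberι (G.s (G.e x)) |>.le ⟨w, rfl⟩
    refine (show G.s (G.s.fiberι _ w) = G.s (G.e x) from this).trans ?_
    rw [← Scheme.Hom.comp_apply, G.e_s]
    rfl
  refine ⟨U', Set.ext ht, Set.ext hs, Set.eq_univ_of_forall fun x => ?_, hsurj⟩
  obtain ⟨r, hr, hrx⟩ := hsurj.ge (Set.mem_univ x)
  refine ⟨G.i r, ?_, by rw [← Scheme.Hom.comp_apply, G.i_t]; exact hrx⟩
  show G.s (G.i r) ∈ U'
  rw [← Scheme.Hom.comp_apply, G.i_s]
  exact hr

end Groth.Agent.S1936
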