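import Groth.Statements.S19367
import Groth.Agent.H21Fan.Bounded

set_option autoImplicit false
universe u
open CategoryTheory Opposite Instab
open Instab Instab.Fan

namespace Groth.Agent.S19367


/-- Let ψ : F ⟶ G be a map of formal fans with F quasi-separated. Then injectivity of the induced map P
F → P G is equivalent to its injectivity on the rational points of P F. -/
theorem result {F G : Fan.{u}} (ψ : F ⟶ G)
    (hF : F.IsQuasiSeparated) :
    Function.Injective (Fan.P.map ψ) ↔
      ∀ x y : Fan.P F, x.IsRational → y.IsRational → Fan.P.map ψ x = Fan.P.map ψ y → x = y := by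
  refine ⟨fun h x y _ _ he => h he, fun h x x' hxx' => ?_⟩
  obtain ⟨n, a, v, rfl⟩ := H21Fan.exists_mk x
  obtain ⟨n', b, w, rfl⟩ := H21Fan.exists_mk x'
  obtain ⟨k, φ₁, φ₂, y, c, he, hc, h1, h2⟩ := H21Fan.exists_subcone_of_mk_eq hxx'
  rw [← H21Fan.naturality_apply', ← H21Fan.naturality_apply'] at he
  rw [← H21Fan.mk_map_eq φ₁ a y v one_pos (by rw [one_smul, h1]),
    ← H21Fan.mk_map_eq φ₂ b y w (inv_pos.mpr hc)
      (by rw [h2, smul_smul, inv_mul_cancel₀ hc.ne', one_smul])]
  generalize F.map φ₁.op a = α at he ⊢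
  generalize F.map φ₂.op b = β at he ⊢
  refine H21Fan.mem_of_forall_rational α (C := {z | Fan.P.mk α z = Fan.P.mk β z}) ?_ ?_ y
  · obtain ⟨s, -, hs⟩ := H21Fan.exists_pairs hF α β
    have heq : {z : Fan.Orth k | Fan.P.mk α z = Fan.P.mk β z} = ⋃ e ∈ s,
        {z : Fan.Orth k | ∃ y ∈ {y : Fan.Orth e.1 | ∀ i j,
            e.2.1.realMap y.1 i * e.2.2.realMap y.1 j = e.2.1.realMap y.1 j * e.2.2.realMap y.1 i},
          ∃ c : ℝ, 0 < c ∧ z.1 = c • e.2.1.realMap y.1} := by
      ext z
      simp only [Set.mem_ofPred, Set.mem_iUnion, hs, exists_prop]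
      refine exists_congr fun e => and_congr_right fun _ => ⟨?_, ?_⟩
      · rintro ⟨y, c, c', hc, hc', h1, h2⟩
        refine ⟨y, fun i j => ?_, c, hc, h1⟩
        have hi := congrFun (h1.symm.trans h2) i
        have hj := congrFun (h1.symm.trans h2) j
        simp only [Pi.smul_apply, smul_eq_mul] at hi hj
        refine mul_left_cancel₀ hc.ne' ?_
        rw [← mul_assoc, ← mul_assoc, hi, hj]
        ring
      · rintro ⟨y, hy, c, hc, h1⟩
        obtain ⟨j, hj⟩ : ∃ j, e.2.2.realMap y.1 j ≠ 0 := by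
          by_contra! h0
          exact (H21Fan.orthMap e.2.2 y).2.2 (funext h0)
        have hp : e.2.1.realMap y.1 = (e.2.1.realMap y.1 j / e.2.2.realMap y.1 j) • e.2.2.realMap y.1 :=
          funext fun i => by
            rw [Pi.smul_apply, smul_eq_mul, div_mul_eq_mul_div, eq_div_iff hj]
            exact hy i j
        have hr : 0 < e.2.1.realMap y.1 j / e.2.2.realMap y.1 j :=
          (div_nonneg (H21Fan.realMap_nonneg _ y.2.1 j) (H21Fan.realMap_nonneg _ y.2.1 j)).lt_of_ne
            fun h0 => (H21Fan.orthMap e.2.1 y).2.2 (by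
              change e.2.1.realMap y.1 = 0
              rw [hp, ← h0, zero_smul])
        exact ⟨y, c, c * _, hc, mul_pos hc hr, h1, by rw [h1, mul_smul, ← hp]⟩
    rw [heq]
    refine s.finite_toSet.isClosed_biUnion fun e _ => H21Fan.isClosed_image_cone _ _ ?_ ?_
    · simp only [Set.ofPred_forall]
      exact isClosed_iInter fun i => isClosed_iInter fun j => isClosed_eq
        ((((continuous_apply i).comp (H21Fan.continuous_realMap _)).comp H21Fan.continuous_orthVal).mul
          (((continuous_apply j).comp (H21Fan.continuous_realMap _)).comp H21Fan.continuous_orthVal))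
        ((((continuous_apply j).comp (H21Fan.continuous_realMap _)).comp H21Fan.continuous_orthVal).mul
          (((continuous_apply i).comp (H21Fan.continuous_realMap _)).comp H21Fan.continuous_orthVal))
    · intro y y' hy d hd hy' i j
      simp only [hy', H21Fan.realMap_smul, Pi.smul_apply, smul_eq_mul]
      rw [mul_mul_mul_comm, hy i j, mul_mul_mul_comm]
  · intro z hz
    refine h _ _ hz ?_ (by rw [H21Fan.map_mk, H21Fan.map_mk, he])
    obtain ⟨σ, hσ⟩ := hz
    obtain ⟨m, φ₁', φ₂', y', c', -, hc', h1', h2'⟩ := H21Fan.exists_subcone_of_mk_eq hσ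
    let e₀ : Fin m.dim → ℤ := Pi.single ⟨0, m.dim.pos⟩ 1
    have he₀ : ∀ i, 0 ≤ e₀ i := fun i => by
      simp only [e₀, Pi.single_apply]
      split_ifs <;> norm_num
    have hq0 : φ₁'.toLin e₀ ≠ 0 := fun h0 => by
      have := congrFun (φ₁'.injective (h0.trans (map_zero _).symm)) ⟨0, m.dim.pos⟩
      simp [e₀] at this
    let d : ℝ := φ₂'.realMap (H21Fan.castR e₀) 0
    have hd : φ₂'.realMap (H21Fan.castR e₀) = d • (Fan.Orth.ones Fan.one).1 := funext fun i => by
      obtain rfl : i = 0 := Subsingleton.elim (α := Fin 1) i 0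
      exact (mul_one d).symm
    have hd0 : 0 < d := by
      refine (H21Fan.realMap_nonneg _ (fun i => Int.cast_nonneg (he₀ i)) 0).lt_of_ne fun h0 => ?_
      have h00 : φ₂'.realMap (H21Fan.castR e₀) = φ₂'.realMap 0 := by
        have hd' : d = 0 := h0.symm
        rw [hd, hd', zero_smul]
        exact ((H21Fan.realLin φ₂'.toLin).map_zero).symm
      have := congrFun (H21Fan.realMap_injective φ₂' h00) ⟨0, m.dim.pos⟩
      simp [e₀] at this
    have hy : y'.1 = (c' / d) • H21Fan.castR e₀ := H21Fan.realMap_injective φ₂' (by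
      rw [H21Fan.realMap_smul, hd, h2', smul_smul, div_mul_cancel₀ _ hd0.ne'])
    refine H21Fan.isRational_mk_int β (φ₁'.toLin e₀) (φ₁'.nonneg _ he₀) hq0 z (c' / d)
      (div_pos hc' hd0) ?_
    rw [← h1', hy, H21Fan.realMap_smul]
    exact congrArg _ (H21Fan.realLin_castR _ _)

end Groth.Agent.S19367
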