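import Groth.Statements.S19368
import Groth.Agent.H21Fan.Basic

set_option autoImplicit false
universe u
open CategoryTheory Opposite Instab
open Instab Instab.Fan

namespace Groth.Agent.S19368


/-- Let F be a formal fan; a subset of P F is realizable when it is the image of the projective
realization of some sub-fan of F. The intersection of two realizable subsets is realizable, and the
union of an arbitrary family of realizable subsets is realizable. -/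
theorem result (F : Fan.{u}) :
    (∀ U V : Set (Fan.P F), Fan.IsRealizable U → Fan.IsRealizable V → Fan.IsRealizable (U ∩ V)) ∧
    ∀ (ι : Type u) (U : ι → Set (Fan.P F)), (∀ i, Fan.IsRealizable (U i)) →
      Fan.IsRealizable (Set.iUnion U) := by
  refine ⟨?_, ?_⟩
  · rintro U V ⟨S, rfl⟩ ⟨T, rfl⟩
    refine ⟨S ⊓ T, Set.ext fun z => ⟨?_, ?_⟩⟩
    · rintro ⟨⟨x, hx⟩, x', hx'⟩
      obtain ⟨n, a, v, rfl⟩ := H21Fan.exists_mk x
      obtain ⟨n', b, w, rfl⟩ := H21Fan.exists_mk x'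
      obtain ⟨k, φ₁, φ₂, y, c, he, hc, h1, h2⟩ :=
        H21Fan.exists_subcone_of_mk_eq (F := F) (hx.trans hx'.symm)
      refine ⟨Fan.P.mk (F := (S ⊓ T).toFunctor) ⟨F.map φ₁.op a.1, S.map φ₁.op a.2, ?_⟩ y, ?_⟩
      · exact Set.mem_of_eq_of_mem he (T.map φ₂.op b.2)
      · rw [← hx]
        exact H21Fan.mk_map_eq φ₁ a.1 y v one_pos (by rw [one_smul, h1])
    · rintro ⟨x, rfl⟩
      obtain ⟨n, ⟨a, ha, ha'⟩, v, rfl⟩ := H21Fan.exists_mk x
      exact ⟨⟨Fan.P.mk (F := S.toFunctor) ⟨a, ha⟩ v, rfl⟩,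
        ⟨Fan.P.mk (F := T.toFunctor) ⟨a, ha'⟩ v, rfl⟩⟩
  · intro ι U hU
    choose S hS using hU
    refine ⟨⨆ i, S i, Set.ext fun z => ⟨?_, ?_⟩⟩
    · rintro ⟨_, ⟨i, rfl⟩, hz⟩
      simp only [hS i] at hz
      obtain ⟨x, rfl⟩ := hz
      obtain ⟨n, a, v, rfl⟩ := H21Fan.exists_mk x
      exact ⟨Fan.P.mk (F := (⨆ i, S i).toFunctor) ⟨a.1, le_iSup S i (op n) a.2⟩ v, rfl⟩
    · rintro ⟨x, rfl⟩
      obtain ⟨n, ⟨a, ha⟩, v, rfl⟩ := H21Fan.exists_mk x
      simp only [Subfunctor.iSup_obj, Set.mem_iUnion] at ha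
      obtain ⟨i, hi⟩ := ha
      exact Set.mem_iUnion.mpr ⟨i, by rw [hS i]; exact ⟨Fan.P.mk (F := (S i).toFunctor) ⟨a, hi⟩ v, rfl⟩⟩

end Groth.Agent.S19368
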