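import Groth.Statements.S1937
import Groth.Agent.H19AbSch.OmegaGrp

set_option autoImplicit false
set_option maxHeartbeats 1000000
set_option synthInstance.maxHeartbeats 100000
set_option linter.style.haveILetI false
set_option backward.isDefEq.respectTransparency false
universe u v
open CategoryTheory MonoidalCategory CartesianMonoidalCategory MonObj GrpObj AlgebraicGeometry
open GrpSch

namespace Groth.Agent.S1937

/-- Let G be a group scheme over S with structure morphism f and unit section e : S → G. Then Ω_{G/S} ≅
f^* C_{S/G}, the pullback of the conormal sheaf of the immersion e; and when S is the spectrum of a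
field, Ω_{G/S} is a free O_G-module (a coproduct of copies of O_G). Stated for G → S
quasi-separated, where the shared prelude's Ω (conormal sheaf of the diagonal through Mathlib's
kernel ideal sheaf) and conormal sheaf of e are the usual ones. -/
theorem result (S : Scheme.{u}) (G : Over S) [GrpObj G] [QuasiSeparated G.hom] : Nonempty (Omega.sheaf G.hom ≅ (Scheme.Modules.pullback G.hom).obj (Omega.conormal η[G].left)) ∧ ∀ (K : Type u) [Field K], Nonempty (S ≅ Spec (CommRingCat.of K)) → ∃ I : Type u, Nonempty (Omega.sheaf G.hom ≅ ∐ fun _ : I => Coh.structureModule G.left) := by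
  exact ⟨Groth.Agent.H19AbSch.OmegaGrp.nonempty_omega_iso G,
    fun K _ ⟨α⟩ => Groth.Agent.H19AbSch.OmegaGrp.exists_omega_free G K α⟩

end Groth.Agent.S1937
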