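import Groth.Statements.S19370
import Groth.Agent.H21Fan.Convex

set_option autoImplicit false
universe u v
open CategoryTheory Opposite Instab
open Instab Instab.Fan

namespace Groth.Agent.S19370


/-- Let F be a formal fan, U ⊆ P F a convex subset, Γ a totally ordered set and Φ : U → Γ a
quasi-concave function that is lower semicontinuous in the sense that every sublevel set {Φ ≤ c} is
closed in U. Then every rational point of U at which Φ has a local maximum is a global maximum of Φ,
and if Φ is strictly quasi-concave there is at most one such rational point. -/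
theorem result (F : Fan.{u}) (U : Set (Fan.P F))
    (hU : Fan.IsConvex U) {Γ : Type v} [LinearOrder Γ] (Φ : U → Γ) (hΦ : Fan.IsQuasiConcaveOn U Φ)
    (hlsc : ∀ c : Γ, IsClosed {x : U | Φ x ≤ c}) :
    (∀ x : U, (x : Fan.P F).IsRational → IsLocalMax Φ x → ∀ y : U, Φ y ≤ Φ x) ∧
    (Fan.IsStrictQuasiConcaveOn U Φ → ∀ x y : U, (x : Fan.P F).IsRational → (y : Fan.P F).IsRational →
      IsLocalMax Φ x → IsLocalMax Φ y → x = y) := by
  refine ⟨fun x hx hmax y => H21Fan.le_of_isLocalMax_rational hU hΦ hlsc hx hmax y,
    fun hstr x y hx hy hxm hym => ?_⟩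
  by_contra hne
  obtain ⟨τ, g, -, hg0, hg1, hτ, hgm⟩ := H21Fan.exists_segment hU hx hy hne
  have h := H21Fan.sqc_segment hstr hτ hgm (t := 1 / 2) (by norm_num) (by norm_num)
  rw [hg0, hg1] at h
  have e := le_antisymm (H21Fan.le_of_isLocalMax_rational hU hΦ hlsc hy hym x)
    (H21Fan.le_of_isLocalMax_rational hU hΦ hlsc hx hxm y)
  rw [← e, min_self] at h
  exact absurd (H21Fan.le_of_isLocalMax_rational hU hΦ hlsc hx hxm (g (1 / 2))) (not_le.mpr h)

end Groth.Agent.S19370
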