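import Groth.Statements.S19372
import Groth.Agent.H21Fan.RFan

set_option autoImplicit false
open CategoryTheory Opposite Instab
open Instab Instab.Fan

namespace Groth.Agent.S19372


/-- Let K a ⊆ ℝ^N, for a in a finite index type, be cones, each expressible as finitely many rational
polyhedral cones put together (nonnegative real spans of finite sets of integer vectors). Then the
canonical map from the projective realization of the formal fan R(K) to the space of rays of ℝ^N (a
model of the sphere), sending the point given by a cone φ and a vector v to the ray of φ v, is a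
homeomorphism onto the rays through ⋃ K a: it is a topological embedding with that image. (The
published lemma also asserts that the affine realization of R(K), defined as a colimit over the
category of cones of R(K), maps homeomorphically onto ⋃ K a; that fails at the cone point, since for
the pair of coordinate rays of ℝ^2 the colimit has two origins and for ⋃ K a = 0 it is empty, and it
is not stated here.) -/
theorem result {N : ℕ} {ι : Type} [Finite ι] (K : ι → Set (Fin N → ℝ))
    (hK : ∀ a, ∃ (m : ℕ) (gen : Fin m → Finset (Fin N → ℤ)),
      K a = Set.iUnion fun l => {x | ∃ c : (Fin N → ℤ) → ℝ, (∀ g, 0 ≤ c g) ∧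
        x = Finset.sum (gen l) fun g => c g • fun j => (g j : ℝ)}) :
    ∃ g : Fan.P (RFan K) → Fan.Rays N,
      (∀ (n : ICone) (φ : (RFan K).obj (op n)) (v : Fan.Orth n) (h : RFan.toVec K n φ v.1 ≠ 0),
        g (Fan.P.mk φ v) = Quot.mk _ ⟨RFan.toVec K n φ v.1, h⟩) ∧
      Topology.IsEmbedding g ∧
      Set.range g = {r | ∃ w : {w : Fin N → ℝ // w ≠ 0}, r = Quot.mk _ w ∧ w.1 ∈ Set.iUnion K} := by
  exact ⟨H21Fan.toRays K, fun n φ v h => rfl, H21Fan.isEmbedding_toRays K hK,
    H21Fan.range_toRays K hK⟩

end Groth.Agent.S19372
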