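import Groth.Statements.S19374
import Groth.Agent.H21Fan.Basic

set_option autoImplicit false
universe u
open CategoryTheory Opposite Instab
open Instab Instab.Fan

namespace Groth.Agent.S19374


/-- Let F be a formal fan and U ⊆ P F. Then U is locally convex in the simplex-wise sense — for every
rational simplex, a ray lying strictly between two rays that map into U also maps into U — if and
only if, for every n-cone ξ of F, the set of nonzero nonnegative vectors v of ℝ^n whose point of the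
rational simplex of ξ lies in U is a convex subset of ℝ^n (convexity of the preimage of U in each
punctured cone of the affine realization). -/
theorem result (F : Fan.{u}) (U : Set (Fan.P F)) :
    Fan.IsLocallyConvex U ↔
      ∀ (n : ICone) (ξ : F.obj (op n)),
        Convex ℝ {v : Fin n.dim → ℝ | ∃ h : (∀ i, 0 ≤ v i) ∧ v ≠ 0, Fan.P.mk ξ (⟨v, h⟩ : Fan.Orth n) ∈ U} := by
  constructor
  · intro hU n ξ
    refine convex_iff_forall_pos.mpr ?_
    rintro v ⟨hv, hv'⟩ w ⟨hw, hw'⟩ a b ha hb hab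
    have hne : a • v + b • w ≠ 0 := fun h0 => hv.2 (funext fun i => by
      have hi := congrFun h0 i
      simp only [Pi.add_apply, Pi.smul_apply, smul_eq_mul, Pi.zero_apply] at hi
      have h1 := mul_nonneg ha.le (hv.1 i)
      have h2 := mul_nonneg hb.le (hw.1 i)
      exact (mul_eq_zero.mp (le_antisymm (by linarith) h1)).resolve_left ha.ne')
    refine ⟨⟨fun i => ?_, hne⟩, hU n ξ ⟨v, hv⟩ ⟨a • v + b • w, _⟩ ⟨w, hw⟩ hv' hw' ⟨a, b, ha, hb, rfl⟩⟩
    exact add_nonneg (mul_nonneg ha.le (hv.1 i)) (mul_nonneg hb.le (hw.1 i))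
  · intro h n ξ v₀ v₁ v₂ h₀ h₂ ⟨a, b, ha, hb, hv₁⟩
    have hc := convex_iff_forall_pos.mp (h n ξ)
    obtain ⟨hw, hw'⟩ := @hc v₀.1 ⟨v₀.2, h₀⟩ v₂.1 ⟨v₂.2, h₂⟩ ((a + b)⁻¹ * a) ((a + b)⁻¹ * b)
      (by positivity) (by positivity) (by rw [← mul_add, inv_mul_cancel₀ (add_pos ha hb).ne'])
    refine Set.mem_of_eq_of_mem (H21Fan.mk_eq_of_smul ξ (c := a + b) (add_pos ha hb) ?_).symm hw'
    simp only [smul_add, smul_smul, ← mul_assoc, mul_inv_cancel₀ (add_pos ha hb).ne', one_mul, hv₁]

end Groth.Agent.S19374
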