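import Groth.Statements.S19375
import Groth.Agent.H05EGA4.NormalCompletion

set_option autoImplicit false
universe u
open EGA4

namespace Groth.Agent.S19375

/-- Let A be a Noetherian ring, J a proper ideal of A, Â the J-adic completion of A and A_T the
localization of A at the multiplicative set T = 1 + J (the elements congruent to 1 modulo J). Assume
that the canonical map A → Â is a normal homomorphism (flat, with geometrically normal fibres), as
happens when A is excellent. Then Â is an integrally closed domain if and only if A_T is an
integrally closed domain and the spectrum of A/J is connected. (The published statement asserts the
equivalence of the first two conditions alone; for A = ℤ and J = 6ℤ the localization A_T is an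
integrally closed domain while Â ≅ ℤ_2 × ℤ_3 is not a domain, and the published proof tacitly uses
that Spec Â, whose connected components correspond to those of Spec(A/J), is connected. The case of
the henselization of the pair and of the weak completion is not stated here.) -/
theorem result
    (A : Type u) [CommRing A] [IsNoetherianRing A] (J : Ideal A) (hJ : J ≠ ⊤)
    (hf : EGA4.IsNormalHom A (AdicCompletion J A))
    (T : Submonoid A) (hT : T = MonoidHom.mker (Ideal.Quotient.mk J)) :
    (IsDomain (AdicCompletion J A) ∧ IsIntegrallyClosed (AdicCompletion J A)) ↔
      ((IsDomain (Localization T) ∧ IsIntegrallyClosed (Localization T)) ∧
        ConnectedSpace (PrimeSpectrum (A ⧸ J))) := by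
  exact Groth.Agent.H05EGA4.NormalCompletion.main A J hJ hf T hT

end Groth.Agent.S19375
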