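import Groth.Statements.S19377
import Groth.Agent.H11Proj.QProjCriterion
import Groth.Agent.H11Proj.ProjectiveProps
import Groth.Agent.H11Ample.RelComp
import Groth.Agent.S4427
import Groth.Agent.H19Grp.RegularSmooth
import Groth.Agent.H05EGA4.NormalSections

set_option autoImplicit false
universe u
open CategoryTheory AlgebraicGeometry
open RelProj

namespace Groth.Agent.S19377

/-- Let k be a field, S a smooth, separated and quasi-compact k-scheme and f : X → S a proper smooth
morphism. The following two conditions are equivalent. (P): there is a dense open subscheme U of X,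
quasi-projective over S, such that every connected component of S has a point not lying in the image
f(X ∖ U). Generic projectivity: there is a dense open subscheme V of S such that the restriction
f⁻¹(V) → V of f is projective. (The source works over the residue field of a complete discrete
valuation ring of mixed characteristic and adds that the restriction over V is smooth, which is
automatic; the base field plays no role and is arbitrary here.) -/
theorem result
    {k : Type u} [Field k] {X S : Scheme.{u}} (f : X ⟶ S) (g : S ⟶ Spec (.of k))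
    [Smooth g] [IsSeparated g] [QuasiCompact g] [IsProper f] [Smooth f] :
    (∃ U : X.Opens, Dense (U : Set X) ∧ RelProj.IsQuasiProjective (U.ι ≫ f) ∧
        ∀ s : S, ∃ s' : S, s' ∈ connectedComponent s ∧ s' ∉ ⇑f.base '' (U : Set X)ᶜ) ↔
      ∃ V : S.Opens, Dense (V : Set S) ∧ RelProj.IsProjective (f ∣_ V) := by
  haveI : IsLocallyNoetherian S := LocallyOfFiniteType.isLocallyNoetherian g
  haveI : CompactSpace S := QuasiCompact.compactSpace_of_compactSpace g
  haveI : IsNoetherian S := ⟨⟩
  haveI : IsLocallyNoetherian X := LocallyOfFiniteType.isLocallyNoetherian f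
  haveI : CompactSpace X := QuasiCompact.compactSpace_of_compactSpace f
  haveI : IsNoetherian X := ⟨⟩
  haveI : QuasiSeparatedSpace S := inferInstance
  have hd : ∀ t : S, IsDomain (S.presheaf.stalk t) := fun t => by
    haveI := Groth.Agent.H19Grp.isRegularLocalRing_stalk_of_smooth g t
    exact Groth.Agent.H4Depth.isDomain_of_regular _ _ IsRegularLocalRing.spanFinrank_maximalIdeal.symm
  obtain ⟨G, hG, hcov⟩ := Groth.Agent.H05EGA4.NormalSections.exists_component_cover (T := S) hd
  constructor
  · rintro ⟨U, -, hU, hpt⟩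
    have hcl : IsClosed (⇑f.base '' (U : Set X)ᶜ) := f.isClosedMap _ U.isOpen.isClosed_compl
    refine ⟨⟨(⇑f.base '' (U : Set X)ᶜ)ᶜ, hcl.isOpen_compl⟩, ?_, ?_⟩
    · rw [dense_iff_inter_open]
      rintro W hW ⟨w, hw⟩
      obtain ⟨g₀, hg₀, hgw⟩ := hcov w
      obtain ⟨s', hs', hs'V⟩ := hpt w
      have hsub : connectedComponent w ⊆ closure {g₀} :=
        (hG g₀ hg₀).connectedComponent_subset (specializes_iff_mem_closure.1 hgw)
      obtain ⟨z, -, hzW, hzV⟩ := (isIrreducible_singleton (x := g₀)).closure.isPreirreducible _ _ hW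
        hcl.isOpen_compl ⟨w, specializes_iff_mem_closure.1 hgw, hw⟩ ⟨s', hsub hs', hs'V⟩
      exact ⟨z, hzW, hzV⟩
    · set V : S.Opens := ⟨(⇑f.base '' (U : Set X)ᶜ)ᶜ, hcl.isOpen_compl⟩
      have hle : f ⁻¹ᵁ V ≤ U := fun x hx => by
        by_contra h
        exact hx ⟨x, h, rfl⟩
      haveI : IsLocallyNoetherian (V : Scheme.{u}) := LocallyOfFiniteType.isLocallyNoetherian V.ι
      haveI : CompactSpace (V : Scheme.{u}) := QuasiCompact.compactSpace_of_compactSpace V.ι
      haveI : IsNoetherian (V : Scheme.{u}) := ⟨⟩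
      refine Groth.Agent.H11Proj.isProjective_of_isQuasiProjective_qcqs ?_
      obtain ⟨h1, h2, L, hL⟩ := hU
      refine ⟨inferInstance, inferInstance,
        (Scheme.Modules.pullback (X.homOfLE hle)).obj L, ?_⟩
      have h3 : RelAmple.IsRelAmple (X.homOfLE hle ≫ U.ι ≫ f) ((Scheme.Modules.pullback (X.homOfLE hle)).obj L) :=
        Groth.Agent.H11Ample.isRelAmple_pullback_of_isQuasiAffine
          (Groth.Agent.H11Ample.isQuasiAffineHom_of_isEmbedding _ (X.homOfLE hle).isOpenEmbedding.isEmbedding) hL
      rw [Scheme.homOfLE_ι_assoc, ← morphismRestrict_ι] at h3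
      exact Groth.Agent.H11Ample.isRelAmple_of_comp h3
  · rintro ⟨V, hV, hp⟩
    refine ⟨f ⁻¹ᵁ V, hV.preimage f.isOpenMap, ?_, fun s => ?_⟩
    · obtain ⟨⟨h1, h2, L, hL⟩, -⟩ :=
        And.intro (Groth.Agent.H11Proj.isQuasiProjective_of_isProjective hp) trivial
      have hK := Groth.Agent.H11Ample.isRelAmple_pullback_of_isQuasiAffine
        (Groth.Agent.H11Ample.isQuasiAffineHom_of_isEmbedding V.ι V.ι.isOpenEmbedding.isEmbedding)
        (Groth.Agent.S4427.result S _ Groth.Agent.H11Ample.isInvertible_structureModule)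
      rw [Category.comp_id] at hK
      obtain ⟨n, -, hn⟩ := Groth.Agent.H11Ample.isRelAmple_comp_tensor hL hK
      have h3 := hn n le_rfl
      rw [morphismRestrict_ι] at h3
      exact ⟨inferInstance, inferInstance, _, h3⟩
    · obtain ⟨g₀, hg₀, hgs⟩ := hcov s
      obtain ⟨s', hs'g, hs'V⟩ := hV.inter_open_nonempty _ (hG g₀ hg₀).isOpen ⟨s, specializes_iff_mem_closure.1 hgs⟩
      refine ⟨s', (isIrreducible_singleton.closure.isConnected.subset_connectedComponent
        (specializes_iff_mem_closure.1 hgs)) hs'g, ?_⟩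
      rintro ⟨x, hx, rfl⟩
      exact hx hs'V

end Groth.Agent.S19377
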