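import Groth.Statements.S19378
import Groth.Agent.H05EGA4.CompleteFibres
import Groth.Prelude.Def_EGA4b

set_option autoImplicit false
set_option linter.style.haveILetI false
set_option maxHeartbeats 800000
set_option synthInstance.maxHeartbeats 200000
universe u
open EGA4

open TensorProduct Groth.Agent Groth.Agent.H05EGA4 IsLocalRing

namespace Groth.Agent.S19378

/-- Let A be a Noetherian ring, J a proper ideal of A, Â the J-adic completion and A_T the localization
of A at T = 1 + J. If the canonical map A → Â is a normal homomorphism (flat with geometrically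
normal fibres), then A_T is a normal ring (all local rings integrally closed domains) if and only if
Â is. (The case of the henselization of the pair and of the weak completion is not stated here.) -/
theorem result
    (A : Type u) [CommRing A] [IsNoetherianRing A] (J : Ideal A) (hJ : J ≠ ⊤)
    (hf : EGA4.IsNormalHom A (AdicCompletion J A))
    (T : Submonoid A) (hT : T = MonoidHom.mker (Ideal.Quotient.mk J)) :
    EGA4.IsNormalRing (Localization T) ↔ EGA4.IsNormalRing (AdicCompletion J A) := by
  subst hT
  let T := MonoidHom.mker (Ideal.Quotient.mk J : A →+* A ⧸ J)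
  let AT := Localization T
  let Ah := AdicCompletion J A
  have hfg : J.FG := IsNoetherian.noetherian J
  haveI : IsNoetherianRing AT := IsLocalization.isNoetherianRing T AT inferInstance
  haveI := AdicCompletion.isAdicComplete_self J hfg
  have hu : ∀ t : T, IsUnit (algebraMap A Ah t) := fun t => by
    have ht : (t : A) - 1 ∈ J := Ideal.Quotient.eq_zero_iff_mem.mp (by
      rw [map_sub, show Ideal.Quotient.mk J (t : A) = 1 from t.2, map_one, sub_self])
    have h1 : algebraMap A Ah ((t : A) - 1) ∈ (⊥ : Ideal Ah).jacobson :=
      IsAdicComplete.le_jacobson_bot (J.map (algebraMap A Ah)) (Ideal.mem_map_of_mem _ ht)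
    have := Ideal.mem_jacobson_bot.mp h1 1
    rwa [mul_one, ← map_one (algebraMap A Ah), ← map_add, sub_add_cancel] at this
  letI : Algebra AT Ah := (IsLocalization.lift hu).toAlgebra
  haveI : IsScalarTower A AT Ah := .of_algebraMap_eq fun a => (IsLocalization.lift_eq hu a).symm
  haveI := hf.1
  haveI : IsNoetherianRing Ah := isNoetherianRing_adicCompletion A J
  haveI : Module.Flat AT Ah := (Module.flat_iff_of_isLocalization (R := A) AT T (M := Ah)).mpr inferInstance
  have hG : GRSHom 1 2 AT Ah := by
    haveI : IsLocalization (⊥ : Submonoid Ah) Ah := IsLocalization.self (by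
      rintro x hx; rw [Submonoid.mem_bot] at hx; subst hx; exact isUnit_one)
    exact (isNormalHom_iff_grsHom.mp hf).localization T AT Ah (⊥ : Submonoid Ah)
  haveI : Module.FaithfullyFlat AT Ah := by
    refine { toFlat := inferInstance, submodule_ne_top := fun M hM htop => ?_ }
    rw [Ideal.smul_top_eq_map, Submodule.restrictScalars_eq_top_iff] at htop
    have htopM : M.map (algebraMap AT Ah) = ⊤ := htop
    have hJM : J.map (algebraMap A AT) ≤ M := by
      refine le_trans (b := Ideal.jacobson (⊥ : Ideal AT)) ?_ (sInf_le ⟨bot_le, hM⟩)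
      rw [Ideal.map_le_iff_le_comap]
      intro j hj
      rw [Ideal.mem_comap]
      show _ ∈ Ideal.jacobson (⊥ : Ideal AT)
      rw [Ideal.mem_jacobson_bot]
      intro y
      obtain ⟨a, s, rfl⟩ := IsLocalization.exists_mk'_eq T y
      have hmem : j * a + s ∈ T := by
        show Ideal.Quotient.mk J (j * a + s) = 1
        rw [map_add, Ideal.Quotient.eq_zero_iff_mem.mpr (J.mul_mem_right a hj), zero_add]
        exact s.2
      have e1 : algebraMap A AT j * IsLocalization.mk' AT a s + 1 = IsLocalization.mk' AT (j * a + s) s := by
        rw [IsLocalization.mul_mk'_eq_mk'_of_mul, ← IsLocalization.mk'_self AT (x := (s : A)) s.2, ← IsLocalization.mk'_add]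
        exact IsLocalization.mk'_eq_of_eq (by simp only [Submonoid.coe_mul]; ring)
      rw [e1]
      refine IsUnit.of_mul_eq_one (IsLocalization.mk' AT (s : A) ⟨j * a + s, hmem⟩) ?_
      rw [← IsLocalization.mk'_mul, IsLocalization.mk'_eq_iff_eq_mul, one_mul]
      simp [mul_comm]
    have h1 : (M.comap (algebraMap A AT)).map (algebraMap A Ah) = ⊤ := by
      rw [IsScalarTower.algebraMap_eq A AT Ah, ← Ideal.map_map, IsLocalization.map_comap T AT, htopM]
    have h2 := congrArg (Ideal.map (AdicCompletion.evalOneₐ J).toRingHom) h1
    rw [Ideal.map_map, Ideal.map_top, AdicCompletion.evalOneₐ_comp_algebraMap_eq_mk] at h2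
    haveI := hM.isPrime
    have hJc : J ≤ M.comap (algebraMap A AT) := Ideal.map_le_iff_le_comap.mp hJM
    have h3 := congrArg (Ideal.comap (Ideal.Quotient.mk J)) h2
    rw [Ideal.comap_map_of_surjective' _ Ideal.Quotient.mk_surjective, Ideal.mk_ker, sup_eq_left.mpr hJc, Ideal.comap_top] at h3
    exact Ideal.IsPrime.ne_top (Ideal.IsPrime.comap (algebraMap A AT)) h3
  rw [isNormalRing_iff_rs, isNormalRing_iff_rs]
  exact ⟨hG.rs, RS.of_faithfullyFlat⟩


end Groth.Agent.S19378
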