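import Groth.Statements.S19379
import Groth.Agent.H05EGA4.RegHomFS
import Groth.Agent.H05EGA4.GRing

set_option autoImplicit false
set_option linter.style.haveILetI false
universe u
open CAlg

open IsLocalRing TensorProduct Groth.Agent CAlgX Groth.Agent.H05EGA4

namespace Groth.Agent.S19379

/-- Let A and B be Noetherian rings and let B be an A-algebra which is formally smooth for the discrete
topologies. Then A → B is a regular homomorphism, that is, flat with (Noetherian) geometrically
regular fibres. -/
theorem result
    (A B : Type u) [CommRing A] [CommRing B] [Algebra A B]
    [IsNoetherianRing A] [IsNoetherianRing B] [Algebra.FormallySmooth A B] :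
    CAlg.IsRegularHom A B := by
  refine isRegularHom_of_forall_isAdicFormallySmooth A B fun q _ => ?_
  letI := (Localization.localRingHom (Ideal.comap (algebraMap A B) q) q (algebraMap A B) rfl).toAlgebra
  haveI : IsScalarTower A (Localization.AtPrime (Ideal.comap (algebraMap A B) q)) (Localization.AtPrime q) :=
    .of_algebraMap_eq fun r => (Localization.localRingHom_to_map _ _ _ rfl r).symm
  have : Algebra.FormallySmooth B (Localization.AtPrime q) := Algebra.FormallySmooth.of_isLocalization q.primeCompl
  have : Algebra.FormallySmooth A (Localization.AtPrime q) := Algebra.FormallySmooth.comp A B _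
  have : Algebra.FormallySmooth (Localization.AtPrime (Ideal.comap (algebraMap A B) q)) (Localization.AtPrime q) :=
    Algebra.FormallySmooth.localization_base (R := A) (Ideal.comap (algebraMap A B) q).primeCompl
  exact isAdicFormallySmooth_of_formallySmooth _


end Groth.Agent.S19379
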