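import Groth.Statements.S1938
import Groth.Agent.H19AbSch.OmegaGrp
import Groth.Agent.H19Grp.GrpdShear

set_option autoImplicit false
set_option maxHeartbeats 1000000
set_option synthInstance.maxHeartbeats 100000
set_option linter.style.haveILetI false
set_option backward.isDefEq.respectTransparency false
universe u
open CategoryTheory CategoryTheory.Limits AlgebraicGeometry
open Grpd

namespace Groth.Agent.S1938

open Groth.Agent.H19Grp in
/-- The inverse is an involution. -/
theorem i_i {S : Scheme.{u}} (G : Grpd.GroupoidScheme S) : G.i ≫ G.i = 𝟙 G.R := by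
  have h0 : invR G (𝟙 G.R) = G.i := Category.id_comp _
  have h : invR G (invR G (𝟙 G.R)) = 𝟙 G.R := by
    have h1 := invR_mulR_cancel G (invR G (𝟙 G.R)) (𝟙 G.R) (invR_s G _)
    have h2 : mulR G (invR G (𝟙 G.R)) (𝟙 G.R) (invR_s G _) = invR G (invR G (𝟙 G.R)) ≫ G.s ≫ G.e := by
      rw [← Category.assoc, invR_s, invR_t, Category.assoc]; exact G.i_comp _
    rw [mulR_congr G rfl h2] at h1
    exact (G.comp_e _).symm.trans h1
  rw [h0] at h
  exact h

open Groth.Agent.H19AbSch.OmegaGrp Groth.Agent.H19Grp in
/-- The differentials of the source map are pulled back from the identity. -/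
theorem nonempty_omega_s {S : Scheme.{u}} (G : Grpd.GroupoidScheme S) [QuasiSeparated G.s] :
    Nonempty (Omega.sheaf G.s ≅ (Scheme.Modules.pullback G.t).obj (Omega.conormal G.e)) := by
  have h₁ : IsPullback (pullback.fst G.s G.t) (pullback.snd G.s G.t) G.s G.t := IsPullback.of_hasPullback _ _
  have h₂ := isPullback_c_snd G
  haveI : QuasiSeparated (pullback.snd G.s G.t) :=
    MorphismProperty.of_isPullback (P := @QuasiSeparated) h₁ inferInstance
  obtain ⟨c₁⟩ := nonempty_omega_baseChange G.s G.t _ _ h₁
  obtain ⟨c₂⟩ := nonempty_omega_baseChange G.s G.s _ _ h₂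
  obtain ⟨ec⟩ := nonempty_conormal_iso G.s G.e G.e_s
  let σ : G.R ⟶ pullback G.s G.t := pullback.lift (G.t ≫ G.e) (𝟙 G.R)
    (by rw [Category.assoc, G.e_s, Category.comp_id, Category.id_comp])
  have e₁ : σ ≫ G.c = 𝟙 _ := by simpa [σ] using G.e_comp (𝟙 G.R)
  exact ⟨((Scheme.Modules.pullbackId _).app _).symm ≪≫ (pullComposeIso _ _ _ e₁ _).symm ≪≫
    (Scheme.Modules.pullback σ).mapIso (c₂ ≪≫ c₁.symm) ≪≫ pullComposeIso _ _ _ (pullback.lift_fst _ _ _) _ ≪≫
    (pullComposeIso G.t G.e _ rfl _).symm ≪≫ (Scheme.Modules.pullback G.t).mapIso ec.symm⟩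


/-- Let (U, R, s, t, c) be a groupoid scheme over S, e : U → R its identity and C_{U/R} the conormal
sheaf of the immersion e. View R as a scheme over U via t. Then there is an epimorphism of
O_R-modules s^*C_{U/R} → Ω_{R/U}, and if s is flat there is an isomorphism s^*C_{U/R} ≅ Ω_{R/U}.
(The published statement has t^*C_{U/R} here; with R over U via t that version is false — for the
pair groupoid of the disjoint union of a point and the affine line over ℚ the two sheaves have
different supports — and the statement given here has s^*C_{U/R} instead.) Stated for t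
quasi-separated, where the shared prelude's Ω_{R/U} (conormal sheaf of the diagonal of t through
Mathlib's kernel ideal sheaf) and conormal sheaf of the section e are the usual ones. (A groupoid
scheme carries U, R, s, t, c, e, i over S with the groupoid axioms on T-points.) -/
theorem result (S : Scheme.{u}) (G : Grpd.GroupoidScheme S) [QuasiSeparated G.t] : (∃ φ : (Scheme.Modules.pullback G.s).obj (Omega.conormal G.e) ⟶ Omega.sheaf G.t, Epi φ) ∧ (Flat G.s → Nonempty ((Scheme.Modules.pullback G.s).obj (Omega.conormal G.e) ≅ Omega.sheaf G.t)) := by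
  haveI : IsIso G.i := ⟨⟨G.i, i_i G, i_i G⟩⟩
  haveI : QuasiSeparated G.s := by rw [← G.i_t]; infer_instance
  obtain ⟨e⟩ := nonempty_omega_s G
  obtain ⟨c⟩ := Groth.Agent.H19AbSch.OmegaGrp.nonempty_omega_baseChange G.s (𝟙 G.U) G.i G.t
    (IsPullback.of_horiz_isIso ⟨by rw [Category.comp_id, G.i_s]⟩)
  let α := c.symm ≪≫ (Scheme.Modules.pullback G.i).mapIso e ≪≫
    Groth.Agent.H19AbSch.OmegaGrp.pullComposeIso _ _ _ G.i_t _
  exact ⟨⟨α.inv, inferInstance⟩, fun _ => ⟨α.symm⟩⟩

end Groth.Agent.S1938
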