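import Groth.Statements.S19380
import Groth.Agent.H3CAlg.PdResolution
import Mathlib.Algebra.Category.ModuleCat.Monoidal.Basic
import Mathlib.Algebra.Category.ModuleCat.Projective
import Mathlib.CategoryTheory.Monoidal.Tor
import Mathlib.LinearAlgebra.FreeModule.PID
import Mathlib.RingTheory.Flat.TorsionFree
import Mathlib.RingTheory.Henselian
import Mathlib.RingTheory.LocalProperties.Reduced
import Mathlib.RingTheory.QuasiFinite.Basic
import Mathlib.RingTheory.RegularLocalRing.Defs
import Mathlib.RingTheory.SimpleRing.Principal

set_option autoImplicit false
universe u
open CAlg

namespace Groth.Agent.S19380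

/-- Let L be a commutative ring, σ a ring automorphism of L of finite order dividing d (σ^d = 1), and C
an r × r matrix over L. The reverse characteristic polynomial det(1 − T·N) of the twisted product N
= C·σ(C)·σ²(C)⋯σ^(d−1)(C), with σ applied to the entries, is fixed by σ acting on coefficients. (In
the source this is phrased for the fibre at a closed point x of degree d of a convergent F-module
with Frobenius matrix C: the d-th iterate of the semilinear Frobenius of the fibre is the linear map
with matrix N, so its characteristic polynomial has coefficients in the subfield fixed by the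
Frobenius of K(x), namely K, and likewise with the valuation ring in place of K for an integral
F-module; only this linear-algebra statement, over any commutative ring, is given here.) -/
theorem result
    (L : Type u) [CommRing L] (σ : L ≃+* L) (d : ℕ) (hσ : σ ^ d = 1)
    (r : ℕ) (C : Matrix (Fin r) (Fin r) L) :
    (Matrix.charpolyRev (((List.range d).map fun i => C.map ⇑(σ ^ i)).prod)).map (σ : L →+* L) =
      Matrix.charpolyRev (((List.range d).map fun i => C.map ⇑(σ ^ i)).prod) := by
  classical
  cases d with
  | zero =>
    simp only [List.range_zero, List.map_nil, List.prod_nil, Matrix.charpolyRev]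
    rw [← Polynomial.coe_mapRingHom, RingHom.map_det]
    congr 1
    ext a b
    by_cases hab : a = b
    · subst hab; simp
    · simp [hab]
  | succ e =>
    have hmap : ∀ M : Matrix (Fin r) (Fin r) L,
        (Matrix.charpolyRev M).map (σ : L →+* L) = Matrix.charpolyRev (M.map σ) := by
      intro M
      simp only [Matrix.charpolyRev]
      rw [← Polynomial.coe_mapRingHom, RingHom.map_det]
      congr 1
      ext a b
      by_cases hab : a = b
      · subst hab; simp
      · simp [hab]
    rw [hmap]
    have hP : (((List.range (e + 1)).map fun i => C.map ⇑(σ ^ i)).prod).map σ =
        (((List.range (e + 1)).map fun i => C.map ⇑(σ ^ (i + 1))).prod) := by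
      rw [show ∀ X : Matrix (Fin r) (Fin r) L, X.map σ = (σ : L →+* L).mapMatrix X from fun X => rfl, map_list_prod, List.map_map]
      congr 2
      funext i
      ext a b
      simp [pow_succ']
    rw [hP]
    set Q := ((List.range e).map fun i => C.map ⇑(σ ^ (i + 1))).prod
    have h1 : (((List.range (e + 1)).map fun i => C.map ⇑(σ ^ (i + 1))).prod) = Q * C := by
      rw [List.range_succ, List.map_append, List.prod_append, List.map_singleton, List.prod_singleton, hσ]
      congr 1
    have h2 : (((List.range (e + 1)).map fun i => C.map ⇑(σ ^ i)).prod) = C * Q := by
      rw [List.range_succ_eq_map, List.map_cons, List.prod_cons, List.map_map]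
      congr 1
    rw [h1, h2]
    simp only [Matrix.charpolyRev, Matrix.map_mul]
    rw [← smul_mul_assoc, Matrix.det_one_sub_mul_comm, mul_smul_comm]

end Groth.Agent.S19380
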