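import Groth.Statements.S19381
import Groth.Agent.H8Props.FibreCriterion
import Groth.Agent.H8Props.FibreCriterionApps
import Groth.Agent.H8Props.FlatLocus.Scheme
import Groth.Agent.S4656
import Groth.Agent.H12AlgSp.EtaleSourceAlg

set_option autoImplicit false
set_option linter.style.haveILetI false
universe u
open CategoryTheory CategoryTheory.Limits AlgebraicGeometry
open FlatMor

namespace Groth.Agent.S19381

theorem flat_of_isField {R S : Type u} [CommRing R] [CommRing S] (f : R →+* S) (hR : IsField R) :
    f.Flat := by
  letI := hR.toField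
  algebraize [f]
  exact (inferInstance : Module.Flat R S)

/-- Over a discrete valuation ring, let V be a henselian discrete valuation ring with maximal ideal 𝔪, A
a smooth V-algebra, Â the 𝔪A-adic completion of A, and h : X → Spec A a proper morphism with
reduction h₀ : X ×_{Spec A} Spec(A/𝔪A) → Spec(A/𝔪A). Then X is flat over V and h₀ is flat if and
only if the base change of h to Spec Â is flat. (The published statement is for an excellent normal
ring V with a henselian pair (V, V/I) and the projective lift h built from lifted equations, and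
also lists the base changes to the weak completion and to the henselization of (A, 𝔪A); it rests on
a lemma asserting 'B flat over V iff B̂ flat over V' for V-algebras B of finite type, which fails
when V has dimension ≥ 2 (V = ℤ_p[[x]], I = (p), B = V[y]/(x, py − 1) ≅ ℚ_p has B̂ = 0), so the
statement is given over a discrete valuation ring and for an arbitrary proper h.) -/
theorem result
    (V : Type u) [CommRing V] [IsDomain V] [IsDiscreteValuationRing V] [HenselianLocalRing V]
    (A : Type u) [CommRing A] [Algebra V A] [Algebra.Smooth V A]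
    (X : Scheme.{u}) (h : X ⟶ Spec (.of A)) [IsProper h] :
    (Flat (h ≫ Spec.map (CommRingCat.ofHom (algebraMap V A))) ∧
        Flat (pullback.snd h (Spec.map (CommRingCat.ofHom
          (Ideal.Quotient.mk ((IsLocalRing.maximalIdeal V).map (algebraMap V A))))))) ↔
      Flat (pullback.snd h (Spec.map (CommRingCat.ofHom
          (algebraMap A (AdicCompletion ((IsLocalRing.maximalIdeal V).map (algebraMap V A)) A))))) := by
  haveI hAN : IsNoetherianRing A := Algebra.FiniteType.isNoetherianRing V A
  let P : Ideal A := (IsLocalRing.maximalIdeal V).map (algebraMap V A)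
  let Ah := AdicCompletion P A
  let t : Spec (.of A) ⟶ Spec (.of V) := Spec.map (CommRingCat.ofHom (algebraMap V A))
  let c : Spec (.of Ah) ⟶ Spec (.of A) := Spec.map (CommRingCat.ofHom (algebraMap A Ah))
  let iP : Spec (.of (A ⧸ P)) ⟶ Spec (.of A) := Spec.map (CommRingCat.ofHom (Ideal.Quotient.mk P))
  haveI : IsAdicComplete (P.map (algebraMap A Ah)) Ah :=
    (IsAdicComplete.map_algebraMap_iff _ _).mpr (AdicCompletion.isAdicComplete (IsNoetherian.noetherian P))
  -- the quotient factors through the completion
  obtain ⟨e, he⟩ : ∃ e : Ah →+* A ⧸ P, e.comp (algebraMap A Ah) = Ideal.Quotient.mk P := by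
    refine ⟨(Ideal.quotientEquiv _ P (RingEquiv.refl A) (by simp)).toRingHom.comp
      (AdicCompletion.evalₐ P 1).toRingHom, RingHom.ext fun a => ?_⟩
    simp only [RingHom.comp_apply, AlgHom.toRingHom_eq_coe, RingHom.coe_coe, AlgHom.commutes]
    rfl
  have hiP : Spec.map (CommRingCat.ofHom e) ≫ c = iP := by
    rw [← Spec.map_comp, ← CommRingCat.ofHom_comp, he]
  haveI : Flat c := (HasRingHomProperty.Spec_iff (P := @Flat)).mpr
    (RingHom.flat_algebraMap_iff.mpr inferInstance)
  haveI : Flat t := by
    haveI : Module.Flat V A := Algebra.Smooth.flat V A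
    exact (HasRingHomProperty.Spec_iff (P := @Flat)).mpr (RingHom.flat_algebraMap_iff.mpr inferInstance)
  haveI : LocallyOfFinitePresentation t :=
    (HasRingHomProperty.Spec_iff (P := @LocallyOfFinitePresentation)).mpr
      (RingHom.finitePresentation_algebraMap.mpr inferInstance)
  haveI : IsLocallyNoetherian (Spec (CommRingCat.of A)) := inferInstance
  haveI : LocallyOfFinitePresentation h := inferInstance
  haveI : LocallyOfFinitePresentation (h ≫ t) := inferInstance
  let sV : Spec (CommRingCat.of V) :=
    (⟨IsLocalRing.maximalIdeal V, inferInstance⟩ : PrimeSpectrum V)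
  have hover : ∀ x : X, P ≤ (h x).asIdeal → t (h x) = sV := fun x hx => by
    refine PrimeSpectrum.ext ((IsLocalRing.maximalIdeal.isMaximal V).eq_of_le ?_ ?_).symm
    · exact (t (h x)).isPrime.ne_top
    · exact Ideal.map_le_iff_le_comap.1 hx
  constructor
  · rintro ⟨h1, h2⟩
    haveI : Flat (h ≫ t) := h1
    -- the fibre maps to the reduction
    haveI : IsAffine (t.fiber sV) := inferInstanceAs (IsAffine (pullback _ _))
    let φ := Spec.preimage ((Spec (CommRingCat.of V)).fromSpecResidueField sV)
    let θ := Spec.preimage ((t.fiber sV).isoSpec.inv ≫ t.fiberι sV)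
    let ρ := Spec.preimage ((t.fiber sV).isoSpec.inv ≫ t.fiberToSpecResidueField sV)
    have hcomp : CommRingCat.ofHom (algebraMap V A) ≫ θ = φ ≫ ρ := by
      apply Spec.map_injective
      rw [Spec.map_comp, Spec.map_comp, Spec.map_preimage, Spec.map_preimage, Spec.map_preimage,
        Category.assoc, Category.assoc, ← Scheme.Hom.fiber_fac]
    have hφ : ∀ a ∈ IsLocalRing.maximalIdeal V, φ a = 0 := fun a ha => by
      by_contra hne
      let pt : Spec ((Spec (CommRingCat.of V)).residueField sV) := IsLocalRing.closedPoint _
      have hpt : Spec.map φ pt = sV := by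
        rw [Spec.map_preimage]; exact Scheme.fromSpecResidueField_apply _ _
      have : a ∈ (Spec.map φ pt).asIdeal := by rw [hpt]; exact ha
      exact (pt.isPrime.ne_top (Ideal.eq_top_of_isUnit_mem _ this (isUnit_iff_ne_zero.2 hne)))
    have hPθ : ∀ a ∈ P, θ.hom a = 0 := by
      intro a ha
      refine (Ideal.map_le_iff_le_comap (K := RingHom.ker θ.hom)).2 (fun v hv => ?_) ha
      have := congr($hcomp v)
      rw [Ideal.mem_comap, RingHom.mem_ker]
      exact this.trans (by rw [CommRingCat.comp_apply, hφ v hv, map_zero])
    let k : t.fiber sV ⟶ Spec (.of (A ⧸ P)) :=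
      (t.fiber sV).isoSpec.hom ≫ Spec.map (CommRingCat.ofHom (Ideal.Quotient.lift P θ.hom hPθ))
    have hk : k ≫ iP = t.fiberι sV := by
      rw [Category.assoc, ← Spec.map_comp,
        show CommRingCat.ofHom (Ideal.Quotient.mk P) ≫
          CommRingCat.ofHom (Ideal.Quotient.lift P θ.hom hPθ) = θ from
            CommRingCat.hom_ext (RingHom.ext fun _ => rfl),
        Spec.map_preimage, Iso.hom_inv_id_assoc]
    haveI : Flat (MoreMor.fiberMap h t sV) := by
      have hq := Groth.Agent.H8Props.FibreCriterion.isPullback_fiberMap h t sV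
      let l : (h ≫ t).fiber sV ⟶ pullback h iP :=
        pullback.lift ((h ≫ t).fiberι sV) (MoreMor.fiberMap h t sV ≫ k)
          (by rw [Category.assoc, hk]; exact hq.w)
      have hsq : IsPullback l (MoreMor.fiberMap h t sV) (pullback.snd h iP) k := by
        refine IsPullback.of_right ?_ (pullback.lift_snd _ _ _) (IsPullback.of_hasPullback h iP)
        rw [pullback.lift_fst, hk]
        exact hq
      exact MorphismProperty.of_isPullback hsq h2
    have hflat : ∀ x : X, P ≤ (h x).asIdeal → (h.stalkMap x).hom.Flat := fun x hx => by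
      obtain ⟨z, rfl⟩ : x ∈ Set.range ((h ≫ t).fiberι sV) := by
        rw [Scheme.Hom.range_fiberι]
        exact hover x hx
      exact (Groth.Agent.H8Props.FibreCriterion.flat_stalkMap_of_fiberMap h t sV z
        (Flat.stalkMap _ _)).1
    let C : Set X := {x | (h.stalkMap x).hom.Flat}ᶜ
    have hC : IsClosed C :=
      (Groth.Agent.H8Props.FlatLocus.isOpen_setOf_flat_stalkMap h).isClosed_compl
    obtain ⟨J, hJ⟩ := (PrimeSpectrum.isClosed_iff_zeroLocus_ideal _).1 (h.isClosedMap _ hC)
    have hJP : J ⊔ P = ⊤ := by
      by_contra hne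
      obtain ⟨M, hM, hle⟩ := Ideal.exists_le_maximal _ hne
      have : (⟨M, hM.isPrime⟩ : PrimeSpectrum A) ∈ PrimeSpectrum.zeroLocus (J : Set A) :=
        le_sup_left.trans hle
      rw [← hJ] at this
      obtain ⟨x, hx, hxM⟩ := this
      exact hx (hflat x (by rw [hxM]; exact le_sup_right.trans hle))
    have hJA : J.map (algebraMap A Ah) = ⊤ := by
      have h3 : J.map (algebraMap A Ah) ⊔ P.map (algebraMap A Ah) = ⊤ := by
        rw [← Ideal.map_sup, hJP, Ideal.map_top]
      by_contra hne
      obtain ⟨M, hM, hle⟩ := Ideal.exists_le_maximal _ hne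
      refine hM.ne_top (top_le_iff.1 (h3 ▸ sup_le hle ?_))
      exact (IsAdicComplete.le_jacobson_bot _).trans (sInf_le ⟨bot_le, hM⟩)
    refine Flat.of_stalkMap _ fun x => ?_
    refine Groth.Agent.H8Props.FibreCriterion.flat_stalkMap_baseChange
      (IsPullback.of_hasPullback h c) x ?_
    by_contra hx
    have h4 : c (pullback.snd h c x) ∈ h '' C := by
      refine ⟨pullback.fst h c x, hx, ?_⟩
      rw [← Scheme.Hom.comp_apply, ← Scheme.Hom.comp_apply, pullback.condition]
    rw [hJ] at h4
    have h5 : J ≤ (c (pullback.snd h c x)).asIdeal := h4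
    exact (pullback.snd h c x).isPrime.ne_top
      (top_le_iff.1 (hJA ▸ Ideal.map_le_iff_le_comap.2 h5))
  · intro h1
    have hflat0 : Flat (pullback.snd h iP) := by
      let l : pullback h iP ⟶ pullback h c :=
        pullback.lift (pullback.fst h iP) (pullback.snd h iP ≫ Spec.map (CommRingCat.ofHom e))
          (by rw [Category.assoc, hiP]; exact pullback.condition)
      have hsq : IsPullback l (pullback.snd h iP) (pullback.snd h c)
          (Spec.map (CommRingCat.ofHom e)) := by
        refine IsPullback.of_right ?_ (pullback.lift_snd _ _ _) (IsPullback.of_hasPullback h c)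
        rw [pullback.lift_fst, hiP]
        exact IsPullback.of_hasPullback h iP
      exact MorphismProperty.of_isPullback hsq h1
    refine ⟨Flat.of_stalkMap _ fun x => ?_, hflat0⟩
    by_cases hx : P ≤ (h x).asIdeal
    · obtain ⟨x', rfl⟩ : x ∈ Set.range (pullback.fst h c) := by
        rw [Scheme.Pullback.range_fst]
        let p' : Spec (CommRingCat.of (A ⧸ P)) :=
          (⟨(h x).asIdeal.map (Ideal.Quotient.mk P), Ideal.map_isPrime_of_surjective
            Ideal.Quotient.mk_surjective (by rwa [Ideal.mk_ker])⟩ : PrimeSpectrum (A ⧸ P))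
        refine ⟨Spec.map (CommRingCat.ofHom e) p', ?_⟩
        rw [← Scheme.Hom.comp_apply, hiP]
        refine PrimeSpectrum.ext ?_
        exact (Ideal.comap_map_of_surjective _ Ideal.Quotient.mk_surjective _).trans
          (sup_eq_left.2 (by rwa [← RingHom.ker_eq_comap_bot, Ideal.mk_ker]))
      have h3 : ((pullback.fst h c ≫ h ≫ t).stalkMap x').hom.Flat := by
        rw [pullback.condition_assoc]
        exact Flat.stalkMap _ _
      exact (Groth.Agent.S4656.result (pullback.fst h c) (h ≫ t) x' (Flat.stalkMap _ _)).1 h3
    · let η : Spec (CommRingCat.of V) := t (h x)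
      have hη : η.asIdeal = ⊥ := by
        by_contra hne
        exact hx (Ideal.map_le_iff_le_comap.2
          ((IsLocalRing.eq_maximalIdeal (η.isPrime.isMaximal hne)).ge))
      have hfld : IsField ((Spec (CommRingCat.of V)).presheaf.stalk η) := by
        let S := (Spec.structureSheaf V).presheaf.stalk η
        have e : η.asIdeal.primeCompl = nonZeroDivisors V := by
          ext a; simp [Ideal.primeCompl, hη]
        have hloc : IsLocalization.AtPrime S η.asIdeal := StructureSheaf.IsLocalization.to_stalk V η
        haveI : IsFractionRing V S := by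
          change IsLocalization η.asIdeal.primeCompl S at hloc
          rwa [e] at hloc
        exact (IsFractionRing.toField V (K := S)).toIsField
      exact flat_of_isField _ hfld

end Groth.Agent.S19381
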