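import Groth.Statements.S19382
import Groth.Agent.S19381
import Groth.Agent.H17.LocusBC

set_option autoImplicit false
set_option linter.style.haveILetI false
universe u
open CategoryTheory CategoryTheory.Limits AlgebraicGeometry
open FlatMor

namespace Groth.Agent.S19382

/-- Over a discrete valuation ring, let V be a henselian discrete valuation ring with maximal ideal 𝔪, A
a smooth V-algebra, Â the 𝔪A-adic completion of A, and h : X → Spec A a proper morphism with
reduction h₀ over Spec(A/𝔪A). Then X is flat over V and h₀ is smooth if and only if the base change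
of h to Spec Â is smooth. (As for the flat case, the published statement concerns an excellent
normal base ring with a henselian pair and the projective lift built from lifted equations, together
with the weak completion and the henselization; it is given here over a discrete valuation ring and
for an arbitrary proper h.) -/
theorem result
    (V : Type u) [CommRing V] [IsDomain V] [IsDiscreteValuationRing V] [HenselianLocalRing V]
    (A : Type u) [CommRing A] [Algebra V A] [Algebra.Smooth V A]
    (X : Scheme.{u}) (h : X ⟶ Spec (.of A)) [IsProper h] :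
    (Flat (h ≫ Spec.map (CommRingCat.ofHom (algebraMap V A))) ∧
        Smooth (pullback.snd h (Spec.map (CommRingCat.ofHom
          (Ideal.Quotient.mk ((IsLocalRing.maximalIdeal V).map (algebraMap V A))))))) ↔
      Smooth (pullback.snd h (Spec.map (CommRingCat.ofHom
          (algebraMap A (AdicCompletion ((IsLocalRing.maximalIdeal V).map (algebraMap V A)) A))))) := by
  haveI hAN : IsNoetherianRing A := Algebra.FiniteType.isNoetherianRing V A
  let P : Ideal A := (IsLocalRing.maximalIdeal V).map (algebraMap V A)
  let Ah := AdicCompletion P A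
  let c : Spec (.of Ah) ⟶ Spec (.of A) := Spec.map (CommRingCat.ofHom (algebraMap A Ah))
  let iP : Spec (.of (A ⧸ P)) ⟶ Spec (.of A) := Spec.map (CommRingCat.ofHom (Ideal.Quotient.mk P))
  haveI : IsAdicComplete (P.map (algebraMap A Ah)) Ah :=
    (IsAdicComplete.map_algebraMap_iff _ _).mpr (AdicCompletion.isAdicComplete (IsNoetherian.noetherian P))
  obtain ⟨e, he⟩ : ∃ e : Ah →+* A ⧸ P, e.comp (algebraMap A Ah) = Ideal.Quotient.mk P := by
    refine ⟨(Ideal.quotientEquiv _ P (RingEquiv.refl A) (by simp)).toRingHom.comp
      (AdicCompletion.evalₐ P 1).toRingHom, RingHom.ext fun a => ?_⟩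
    simp only [RingHom.comp_apply, AlgHom.toRingHom_eq_coe, RingHom.coe_coe, AlgHom.commutes]
    rfl
  have hiP : Spec.map (CommRingCat.ofHom e) ≫ c = iP := by
    rw [← Spec.map_comp, ← CommRingCat.ofHom_comp, he]
  haveI : IsLocallyNoetherian (Spec (CommRingCat.of A)) := inferInstance
  haveI : LocallyOfFinitePresentation h := inferInstance
  constructor
  · rintro ⟨h1, h2⟩
    have hflat : Flat (pullback.snd h c) :=
      (Groth.Agent.S19381.result V A X h).1 ⟨h1, haveI := h2; inferInstance⟩
    -- points over the special fibre are smooth
    have hsm : ∀ x : X, P ≤ (h x).asIdeal → x ∈ h.smoothLocus := fun x hx => by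
      obtain ⟨x', rfl⟩ : x ∈ Set.range (pullback.fst h c) := by
        rw [Scheme.Pullback.range_fst]
        let p' : Spec (CommRingCat.of (A ⧸ P)) :=
          (⟨(h x).asIdeal.map (Ideal.Quotient.mk P), Ideal.map_isPrime_of_surjective
            Ideal.Quotient.mk_surjective (by rwa [Ideal.mk_ker])⟩ : PrimeSpectrum (A ⧸ P))
        refine ⟨Spec.map (CommRingCat.ofHom e) p', ?_⟩
        rw [← Scheme.Hom.comp_apply, hiP]
        refine PrimeSpectrum.ext ?_
        exact (Ideal.comap_map_of_surjective _ Ideal.Quotient.mk_surjective _).trans
          (sup_eq_left.2 (by rwa [← RingHom.ker_eq_comap_bot, Ideal.mk_ker]))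
      haveI : Flat c := (HasRingHomProperty.Spec_iff (P := @Flat)).mpr
        (RingHom.flat_algebraMap_iff.mpr inferInstance)
      set y := h (pullback.fst h c x') with hy
      have hxflat : (h.stalkMap (pullback.fst h c x')).hom.Flat := by
        refine (Groth.Agent.S4656.result (pullback.fst h c) h x' (Flat.stalkMap _ _)).1 ?_
        have hc : Flat (pullback.snd h c ≫ c) := inferInstance
        rw [pullback.condition]
        exact Flat.stalkMap _ _
      haveI : Smooth (h.fiberToSpecResidueField y) := by
        let φ := Spec.preimage ((Spec (CommRingCat.of A)).fromSpecResidueField y)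
        have hφ : ∀ a ∈ P, φ.hom a = 0 := fun a ha => by
          by_contra hne
          let pt : Spec ((Spec (CommRingCat.of A)).residueField y) := IsLocalRing.closedPoint _
          have hpt : Spec.map φ pt = y := by
            rw [Spec.map_preimage]; exact Scheme.fromSpecResidueField_apply _ _
          have : a ∈ (Spec.map φ pt).asIdeal := by rw [hpt]; exact hx ha
          exact (pt.isPrime.ne_top (Ideal.eq_top_of_isUnit_mem _ this (isUnit_iff_ne_zero.2 hne)))
        let k : Spec ((Spec (CommRingCat.of A)).residueField y) ⟶ Spec (.of (A ⧸ P)) :=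
          Spec.map (CommRingCat.ofHom (Ideal.Quotient.lift P φ.hom hφ))
        have hk : k ≫ iP = (Spec (CommRingCat.of A)).fromSpecResidueField y := by
          refine (Spec.map_comp _ _).symm.trans (Eq.trans (congrArg Spec.map ?_) (Spec.map_preimage _))
          exact CommRingCat.hom_ext (RingHom.ext fun _ => rfl)
        let l : h.fiber y ⟶ pullback h iP :=
          pullback.lift (h.fiberι y) (h.fiberToSpecResidueField y ≫ k)
            (by rw [Category.assoc, hk]; exact h.fiber_fac y)
        have hsq : IsPullback l (h.fiberToSpecResidueField y) (pullback.snd h iP) k := by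
          refine IsPullback.of_right ?_ (pullback.lift_snd _ _ _) (IsPullback.of_hasPullback h iP)
          rw [pullback.lift_fst, hk]
          exact IsPullback.of_hasPullback h ((Spec (CommRingCat.of A)).fromSpecResidueField y)
        exact MorphismProperty.of_isPullback hsq h2
      refine Groth.Agent.H17.LocusBC.mem_smoothLocus_of_flat_of_fiber h _ hxflat ?_
      rw [Scheme.Hom.smoothLocus_eq_top]
      trivial
    obtain ⟨J, hJ⟩ := (PrimeSpectrum.isClosed_iff_zeroLocus_ideal _).1
      (h.isClosedMap _ h.smoothLocus.2.isClosed_compl)
    have hJP : J ⊔ P = ⊤ := by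
      by_contra hne
      obtain ⟨M, hM, hle⟩ := Ideal.exists_le_maximal _ hne
      have : (⟨M, hM.isPrime⟩ : PrimeSpectrum A) ∈ PrimeSpectrum.zeroLocus (J : Set A) :=
        le_sup_left.trans hle
      rw [← hJ] at this
      obtain ⟨x, hx, hxM⟩ := this
      exact hx (hsm x (by rw [hxM]; exact le_sup_right.trans hle))
    have hJA : J.map (algebraMap A Ah) = ⊤ := by
      have h3 : J.map (algebraMap A Ah) ⊔ P.map (algebraMap A Ah) = ⊤ := by
        rw [← Ideal.map_sup, hJP, Ideal.map_top]
      by_contra hne
      obtain ⟨M, hM, hle⟩ := Ideal.exists_le_maximal _ hne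
      refine hM.ne_top (top_le_iff.1 (h3 ▸ sup_le hle ?_))
      exact (IsAdicComplete.le_jacobson_bot _).trans (sInf_le ⟨bot_le, hM⟩)
    have htop : pullback.fst h c ⁻¹ᵁ h.smoothLocus = ⊤ := by
      refine top_le_iff.1 fun x _ => ?_
      by_contra hx
      have h4 : c (pullback.snd h c x) ∈ h '' (h.smoothLocus : Set X)ᶜ := by
        refine ⟨pullback.fst h c x, hx, ?_⟩
        rw [← Scheme.Hom.comp_apply, ← Scheme.Hom.comp_apply, pullback.condition]
      erw [hJ] at h4
      have h5 : J ≤ (c (pullback.snd h c x)).asIdeal := h4
      exact (pullback.snd h c x).isPrime.ne_top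
        (top_le_iff.1 (hJA ▸ Ideal.map_le_iff_le_comap.2 h5))
    refine Scheme.Hom.smoothLocus_eq_top_iff.1 (top_le_iff.1 ?_)
    rw [← htop]
    exact Groth.Agent.H17.LocusBC.preimage_smoothLocus_le (IsPullback.of_hasPullback h c)
  · intro h1
    refine ⟨((Groth.Agent.S19381.result V A X h).2 (haveI := h1; inferInstance)).1, ?_⟩
    let l : pullback h iP ⟶ pullback h c :=
      pullback.lift (pullback.fst h iP) (pullback.snd h iP ≫ Spec.map (CommRingCat.ofHom e))
        (by rw [Category.assoc, hiP]; exact pullback.condition)
    have hsq : IsPullback l (pullback.snd h iP) (pullback.snd h c)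
        (Spec.map (CommRingCat.ofHom e)) := by
      refine IsPullback.of_right ?_ (pullback.lift_snd _ _ _) (IsPullback.of_hasPullback h c)
      rw [pullback.lift_fst, hiP]
      exact IsPullback.of_hasPullback h iP
    exact MorphismProperty.of_isPullback hsq h1

end Groth.Agent.S19382
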