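import Groth.Statements.S19383
import Mathlib.Algebra.Order.Ring.Star
import Mathlib.RingTheory.Finiteness.ModuleFinitePresentation
import Mathlib.RingTheory.Flat.TorsionFree
import Mathlib.RingTheory.Henselian
import Mathlib.RingTheory.MvPolynomial.IrreducibleQuadratic
import Mathlib.RingTheory.PicardGroup
import Mathlib.RingTheory.RegularLocalRing.Defs
import Mathlib.RingTheory.TotallySplit

set_option autoImplicit false
universe u
open CAlg

namespace Groth.Agent.S19383

/-- Over a discrete valuation ring, let V be a henselian discrete valuation ring with maximal ideal 𝔪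
and B a Noetherian V-algebra, B̂ its 𝔪B-adic completion. Then B is flat over V if and only if B̂ is
flat over V. (The published lemma takes V an excellent normal ring with an ideal I such that (V,
V/I) is a henselian pair and B of finite type; in that generality it fails: for V = ℤ_p[[x]], I =
(p) and B = V[y]/(x, py − 1) ≅ ℚ_p one has IB = B, so B̂ = 0 is flat while B is not flat over V.
Over a discrete valuation ring flatness is torsion-freeness and the statement holds for every
Noetherian B.) -/
theorem result
    (V : Type u) [CommRing V] [IsDomain V] [IsDiscreteValuationRing V] [HenselianLocalRing V]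
    (B : Type u) [CommRing B] [Algebra V B] [IsNoetherianRing B] :
    Module.Flat V B ↔
      Module.Flat V (AdicCompletion ((IsLocalRing.maximalIdeal V).map (algebraMap V B)) B) := by
  set J := (IsLocalRing.maximalIdeal V).map (algebraMap V B) with hJ
  haveI : Module.Flat B (AdicCompletion J B) := AdicCompletion.flat_of_isNoetherian J
  constructor
  · intro _
    exact Module.Flat.trans V B (AdicCompletion J B)
  · intro hF
    rw [IsDedekindDomain.flat_iff_torsion_eq_bot, eq_bot_iff]
    intro x hx
    obtain ⟨a, ha⟩ := (Submodule.mem_torsion_iff x).mp hx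
    have hof : AdicCompletion.of J B x = 0 := by
      have h0 : Submodule.torsion V (AdicCompletion J B) = ⊥ := IsDedekindDomain.flat_iff_torsion_eq_bot.mp hF
      have hm : AdicCompletion.of J B x ∈ Submodule.torsion V (AdicCompletion J B) := by
        refine (Submodule.mem_torsion_iff _).mpr ⟨a, ?_⟩
        rw [Submonoid.smul_def, ← LinearMap.map_smul_of_tower, ← Submonoid.smul_def, ha, map_zero]
      rwa [h0] at hm
    obtain ⟨ϖ, hϖ⟩ := IsDiscreteValuationRing.exists_irreducible V
    obtain ⟨n, u, hn⟩ := IsDiscreteValuationRing.eq_unit_mul_pow_irreducible (nonZeroDivisors.coe_ne_zero a) hϖ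
    have hxI : x ∈ (⨅ k : ℕ, J ^ k • ⊤ : Submodule B B) := Submodule.mem_iInf _ |>.mpr fun k => by
      have := congrArg (fun y : AdicCompletion J B => y.val k) hof
      simpa [Submodule.Quotient.mk_eq_zero, Ideal.Quotient.eq_zero_iff_mem, Ideal.mul_top] using this
    obtain ⟨⟨r, hr⟩, hrx⟩ := (J.mem_iInf_smul_pow_eq_bot_iff x).mp hxI
    rw [hJ, hϖ.maximalIdeal_eq, Ideal.map_span, Set.image_singleton, Ideal.mem_span_singleton'] at hr
    obtain ⟨b, rfl⟩ := hr
    have hr' : b * algebraMap V B ϖ * x = x := hrx
    have hpow : ∀ m, (b * algebraMap V B ϖ) ^ m * x = x := fun m => by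
      induction m with
      | zero => simp
      | succ m ih => rw [pow_succ, mul_assoc, hr', ih]
    have hax : algebraMap V B (u * ϖ ^ n) * x = 0 := by
      rw [← hn, ← Algebra.smul_def, ← Submonoid.smul_def, ha]
    rw [map_mul, map_pow, mul_assoc, (u.isUnit.map (algebraMap V B)).mul_right_eq_zero] at hax
    have := hpow n
    rw [mul_pow, mul_assoc, hax, mul_zero] at this
    exact Submodule.mem_bot V |>.mpr this.symm

end Groth.Agent.S19383
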