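import Groth.Statements.S19384
import Groth.Agent.H20OT.FrobDual

set_option autoImplicit false
universe u
open Versch

namespace Groth.Agent.S19384
open WithConv

/-- Over a field and for one finite level, let k be a field of characteristic p > 0 and G = Spec A a
finite commutative k-group scheme (A a finite-dimensional commutative cocommutative Hopf algebra)
killed by p^n, i.e. the p^n-th power map of G is the trivial homomorphism, and suppose the
Verschiebung of G is an isomorphism (the ring map v : A → A ⊗_k k^(p) characterised as the
Verschiebung is bijective). Then G is infinitesimal, more precisely the n-th iterate of its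
Frobenius is trivial: a^(p^n) = 0 for every a in the augmentation ideal. (The source states this for
the p^n-torsion levels of a p-divisible group of multiplicative type over any scheme of
characteristic p and reduces to a field fibre by fibre; it also records that the Cartier dual has
unipotent fibres, which is not stated here.) -/
theorem result
    (p : ℕ) [Fact p.Prime] (k : Type u) [Field k] [CharP k p]
    (A : Type u) [CommRing A] [HopfAlgebra k A] [Coalgebra.IsCocomm k A] [Module.Finite k A]
    (n : ℕ)
    (hn : SGA3b.powConv k A (p ^ n) = (Algebra.ofId k A).comp (Bialgebra.counitAlgHom k A))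
    (v : A →+* FrobAlg.BaseChange p k A) (hv : Versch.IsVerschiebung p k A v)
    (hbij : Function.Bijective v)
    (a : A) (ha : Coalgebra.counit (R := k) a = 0) : a ^ (p ^ n) = 0 := by
  classical
  let b := Module.finBasis k A
  have h1 := Groth.Agent.H20OT.span_pow_dual_of_injective p hv hbij.1 b
  have h0 : Submodule.span k (Set.range fun i => (toConv (b.coord i) : CartDual.D k A)) = ⊤ := by
    rw [eq_top_iff]
    intro x _
    rw [Groth.Agent.H20OT.dual_eq_sum (fun i => b i) (fun i => b.coord i) (fun y => b.sum_repr y) x]
    exact Submodule.sum_mem _ fun i _ => Submodule.smul_mem _ _ (Submodule.subset_span ⟨i, rfl⟩)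
  have hN := Groth.Agent.H20OT.span_pow_iterate p (fun i => (toConv (b.coord i) : CartDual.D k A)) h0 h1 n
  have hd : Module.finrank k (CartDual.D k A) = Module.finrank k A := by
    rw [(CartDual.toDual k A).finrank_eq, Subspace.dual_finrank_eq]
  have hbi : ∀ i, ∃ r : k, b i ^ p ^ n = algebraMap k A r := by
    intro i
    obtain ⟨f, hf⟩ := Groth.Agent.H20OT.exists_dual_family hd _ hN i
    obtain ⟨c, hc⟩ := Groth.Agent.H20OT.exists_eval_eq f
    have h := Groth.Agent.H20OT.powConv_pow_char p (fun i => b i) (fun i => b.coord i) (fun y => b.sum_repr y) n c
    simp only [← hc, hf, ite_smul, one_smul, zero_smul, Finset.sum_ite_eq', Finset.mem_univ, if_true] at h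
    exact ⟨Coalgebra.counit (R := k) c, h.symm.trans (AlgHom.congr_fun hn c)⟩
  choose r hr using hbi
  haveI : CharP A p := charP_of_injective_algebraMap (Bialgebra.algebraMap_injective (R := k) A) p
  have hs : a ^ p ^ n = algebraMap k A (∑ i, b.repr a i ^ p ^ n * r i) := by
    conv_lhs => rw [← b.sum_repr a, sum_pow_char_pow]
    rw [map_sum]
    exact Finset.sum_congr rfl fun i _ => by rw [smul_pow, hr, map_mul, Algebra.smul_def]
  have he := congrArg (Coalgebra.counit (R := k)) hs
  rw [Bialgebra.counit_algebraMap, Bialgebra.counit_pow, ha, zero_pow (pow_ne_zero _ (Fact.out : p.Prime).ne_zero)] at he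
  rw [hs, ← he, map_zero]

end Groth.Agent.S19384
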