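import Groth.Statements.S1939
import Mathlib
import Groth.Agent.H12AlgSp.TrdegBaseChange

set_option backward.isDefEq.respectTransparency false
-- import your own Groth.Agent.* helpers here

set_option autoImplicit false
universe u
open CategoryTheory AlgebraicGeometry
open CategoryTheory.Limits
open Cyc
open CategoryTheory CategoryTheory.Limits AlgebraicGeometry
open Groth.Agent

namespace Groth.Agent.S1939

/-- Let (S, δS) and (S', δS') be two pairs satisfying Cyc.IsSetup, g : S' → S flat with δS'(s') = δS(g
s') + c for every s' generic in an irreducible component of its fibre g⁻¹(g s'), a : X → S locally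
of finite type with X integral of δ-dimension k (δX induced from δS), and X' = X ×_S S' with δX'
induced from δS'. Then every generic point x' of an irreducible component of X' has δX'(x') = k + c.
A pair (X, δ) with Cyc.IsSetup plays the role of a scheme locally of finite type over a fixed base
with a dimension function (X locally Noetherian with universally catenary local rings, δ a dimension
function), and Cyc.DeltaCompat records that the dimension function upstairs is the induced one. -/
theorem result (S S' X : Scheme.{u}) (δS : S → ℤ) (δS' : S' → ℤ) (hS : Cyc.IsSetup S δS) (hS' : Cyc.IsSetup S' δS') (g : S' ⟶ S) [Flat g] (c : ℤ) (hc : ∀ s' : S', (∀ y, g y = g s' → y ⤳ s' → y = s') → δS' s' = δS (g s') + c) (a : X ⟶ S) [LocallyOfFiniteType a] [IsIntegral X] (δX : X → ℤ) (hX : Cyc.DeltaCompat a δX δS) (δX' : ↥(pullback a g) → ℤ) (hX' : Cyc.DeltaCompat (pullback.snd a g) δX' δS') (k : ℤ) (hk : δX (genericPoint X) = k) (x' : ↥(pullback a g)) (hx' : ∀ y : ↥(pullback a g), y ⤳ x' → y = x') : δX' x' = k + c := by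
  classical
  haveI := hS.1
  have hc' : IsPullback (pullback.fst a g) (pullback.snd a g) a g := IsPullback.of_hasPullback a g
  haveI : Flat (pullback.fst a g) := MorphismProperty.pullback_fst (P := @Flat) _ _ inferInstance
  haveI : LocallyOfFiniteType (pullback.snd a g) := MorphismProperty.pullback_snd (P := @LocallyOfFiniteType) _ _ inferInstance
  -- `x'` lies over the generic point
  have hη : pullback.fst a g x' = genericPoint X := by
    obtain ⟨y, hy, hy'⟩ := Flat.generalizingMap (pullback.fst a g) (genericPoint_specializes (pullback.fst a g x'))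
    rw [← hy', hx' y hy]
  let p' := pullback.snd a g
  -- the image is maximal in its fibre
  have hmax : ∀ y, g y = g (p' x') → y ⤳ p' x' → y = p' x' := by
    intro y hy hyx
    let s := g (p' x')
    let q := pullback.fst a g
    let η := q x'
    have hs : a η = s := by
      show (q ≫ a) x' = (p' ≫ g) x'
      rw [hc'.w]
    let W := q.fiber η
    let K := Spec.map (a.residueFieldMap η)
    haveI : Flat K := by
      rw [Flat.SpecMap_iff]
      letI := (a.residueFieldMap η).hom.toAlgebra
      exact (RingHom.flat_algebraMap_iff (R := S.residueField (a η)) (S := X.residueField η)).mpr inferInstance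
    have hbig : IsPullback (q.fiberι η ≫ p') (q.fiberToSpecResidueField η) g (X.fromSpecResidueField η ≫ a) :=
      ((IsPullback.of_hasPullback q (X.fromSpecResidueField η)).paste_horiz hc'.flip)
    have hw : (q.fiberι η ≫ p') ≫ g = (q.fiberToSpecResidueField η ≫ K) ≫ S.fromSpecResidueField (a η) := by
      rw [Category.assoc (q.fiberToSpecResidueField η), Scheme.Hom.SpecMap_residueFieldMap_fromSpecResidueField]
      exact hbig.w
    let u : W ⟶ g.fiber (a η) := pullback.lift (q.fiberι η ≫ p') (q.fiberToSpecResidueField η ≫ K) hw
    have hu : IsPullback u (q.fiberToSpecResidueField η) (g.fiberToSpecResidueField (a η)) K := by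
      refine IsPullback.of_right ?_ (pullback.lift_snd _ _ _) (IsPullback.of_hasPullback g (S.fromSpecResidueField (a η))).flip.flip
      rw [Scheme.Hom.SpecMap_residueFieldMap_fromSpecResidueField]
      convert! hbig using 1
      exact pullback.lift_fst _ _ _
    haveI : Flat u := MorphismProperty.of_isPullback hu.flip inferInstance
    let w : W := q.asFiber x'
    have huw : g.fiberι (a η) (u w) = p' x' := by
      show (u ≫ g.fiberι (a η)) w = _
      rw [show u ≫ g.fiberι (a η) = q.fiberι η ≫ p' from pullback.lift_fst _ _ _, Scheme.Hom.comp_apply, q.fiberι_asFiber]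
    obtain ⟨v, hv⟩ : y ∈ Set.range (g.fiberι (a η)) := by rw [Scheme.Hom.range_fiberι]; exact hy.trans hs.symm
    have hvw : v ⤳ u w := by
      rw [← (g.fiberι (a η)).isEmbedding.isInducing.specializes_iff, hv, huw]; exact hyx
    obtain ⟨w', hw', hw''⟩ := Flat.generalizingMap u hvw
    have h1 : q.fiberι η w' ⤳ x' := by
      rw [← q.fiberι_asFiber x']; exact hw'.map (Scheme.Hom.continuous _)
    rw [← hv, ← hw'', ← Scheme.Hom.comp_apply, show u ≫ g.fiberι (a η) = q.fiberι η ≫ p' from pullback.lift_fst _ _ _,
      Scheme.Hom.comp_apply, hx' _ h1]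
  -- transcendence degrees
  have htd : Dual3.resTrdeg p' x' = Dual3.resTrdeg a (pullback.fst a g x') := by
    haveI := H8Props.FieldDim.locallyOfFiniteType_fiberToSpec a (g (p' x'))
    letI := (g.residueFieldMap (p' x')).hom.toAlgebra
    obtain ⟨η', hη', hgη', hd⟩ := (H8Props.FieldDim.baseChange_point (k := S.residueField (g (p' x')))
      (a.fiberToSpecResidueField (g (p' x'))) (K := S'.residueField (p' x')) _ _
      (isPullback_fiberToSpecResidueField_of_isPullback hc' (p' x')) (p'.asFiber x')).2 _ specializes_rfl
    have he : η' = p'.asFiber x' := (p'.fiberι (p' x')).isEmbedding.injective (by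
      rw [p'.fiberι_asFiber]
      have h := hη'.map (p'.fiberι (p' x')).continuous
      erw [p'.fiberι_asFiber] at h
      exact hx' _ h)
    obtain ⟨s', hs', e'⟩ := H12AlgSp.cdim_asFiber p' x'
    obtain ⟨s, hs, es⟩ := H12AlgSp.exists_nat_resTrdeg a (y := g (p' x')) _
    rw [he, hs', hs] at hd
    refine e'.trans ((Nat.cast_inj.2 (by exact_mod_cast hd)).trans (es.symm.trans ?_))
    congr 1
    erw [← Scheme.Hom.comp_apply, pullback.lift_fst]
    exact congrArg (pullback.fst a g) (p'.fiberι_asFiber x')
  obtain ⟨n', hn', hd'⟩ := hX' x'
  obtain ⟨n, hn, hd⟩ := hX (genericPoint X)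
  rw [hη] at htd
  have hnn : n' = n := by
    have h1 : (n' : Cardinal.{u}) = (n : Cardinal.{u}) := hn'.symm.trans (htd.trans hn)
    exact_mod_cast h1
  have hga : g (p' x') = a (genericPoint X) := by
    rw [← hη]
    exact (congrArg (fun t : pullback a g ⟶ S => t x') pullback.condition).symm
  have hc1 := hc (p' x') hmax
  rw [hga] at hc1
  show δX' x' = k + c
  rw [hd', hnn, hc1]
  omega

end Groth.Agent.S1939
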