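import Groth.Statements.S19390
import Mathlib.Combinatorics.Hall.Basic
import Mathlib.Logic.Equiv.Fintype
import Mathlib.Tactic.Linarith
import Mathlib.Algebra.Order.BigOperators.Group.Finset

set_option autoImplicit false
universe u
open GIT

namespace Groth.Agent.S19390

/-- Let e ≥ 1, n = 2e + 1, and let x_1, …, x_n be points such that no point occurs more than e times
among them (the stability condition for n ordered points on a line, n odd). Then there are index
sequences i_1, …, i_n and j_1, …, j_n in which every index between 1 and n occurs exactly twice in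
total, such that x_{i_k} ≠ x_{j_k} for every k and (i_1, i_2, i_3) = (j_3, j_1, j_2). Indices are
written 0, …, n − 1 here. -/
theorem result {α : Type u} [DecidableEq α] (e : ℕ) (he : 1 ≤ e)
    (x : Fin (2 * e + 1) → α)
    (hx : ∀ a : α, (Finset.univ.filter fun k => x k = a).card ≤ e) :
    ∃ i j : Fin (2 * e + 1) → Fin (2 * e + 1),
      (∀ m : Fin (2 * e + 1),
        (Finset.univ.filter fun k => i k = m).card + (Finset.univ.filter fun k => j k = m).card = 2) ∧
      (∀ k, x (i k) ≠ x (j k)) ∧
      i 0 = j 2 ∧ i 1 = j 0 ∧ i 2 = j 1 := by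
  classical
  let I := Finset.univ.image x
  let H := I.filter fun a => (Finset.univ.filter fun k => x k = a).card = e
  have hsum : (2 * e + 1) = ∑ a ∈ I, (Finset.univ.filter fun k => x k = a).card := by
    simpa using Finset.card_eq_sum_card_image x (Finset.univ : Finset (Fin (2 * e + 1)))
  have hH : H.card ≤ 3 := by
    have h1 : H.card * e ≤ (2 * e + 1) := by
      rw [hsum, ← smul_eq_mul, ← Finset.sum_const]
      refine le_trans (le_of_eq (Finset.sum_congr rfl fun a ha => ?_))
        (Finset.sum_le_sum_of_subset (Finset.filter_subset _ _))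
      exact (Finset.mem_filter.1 ha).2.symm
    by_contra h4
    nlinarith
  have hI : 3 ≤ I.card := by
    by_contra h3
    have : (2 * e + 1) ≤ I.card * e := by
      exact (le_of_eq hsum).trans ((Finset.sum_le_sum fun a _ => hx a).trans (le_of_eq (by simp)))
    nlinarith
  obtain ⟨T, hHT, hTI, hT⟩ := Finset.exists_subsuperset_card_eq (Finset.filter_subset _ I) hH hI
  have hTx : ∀ a ∈ T, ∃ k, x k = a := fun a ha => by simpa [I] using hTI ha
  choose r hr using hTx
  let t : Fin 3 → Fin (2 * e + 1) := fun c => r _ ((T.equivFinOfCardEq hT).symm c).2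
  have hxt : ∀ c, x (t c) = ((T.equivFinOfCardEq hT).symm c).1 := fun c => hr _ _
  have hxinj : Function.Injective (fun c => x (t c)) := by
    intro c c' h
    simp only [hxt] at h
    exact (T.equivFinOfCardEq hT).symm.injective (Subtype.ext h)
  have htinj : Function.Injective t := fun c c' h => hxinj (congrArg x h)
  let R := (Finset.univ : Finset (Fin (2 * e + 1))) \ Finset.univ.image t
  have hR : R.card = (2 * e + 1) - 3 := by
    rw [Finset.card_sdiff_of_subset (Finset.subset_univ _), Finset.card_univ, Fintype.card_fin,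
      Finset.card_image_of_injective _ htinj, Finset.card_univ, Fintype.card_fin]
  have hcount : ∀ a : α, (R.filter fun k => x k = a).card ≤ e - 1 := by
    intro a
    by_cases ha : a ∈ T
    · have hsub : (R.filter fun k => x k = a) ⊆ (Finset.univ.filter fun k => x k = a).erase (r a ha) := by
        intro k hk
        rw [Finset.mem_filter] at hk
        refine Finset.mem_erase.2 ⟨?_, Finset.mem_filter.2 ⟨Finset.mem_univ _, hk.2⟩⟩
        rintro rfl
        apply (Finset.mem_sdiff.1 hk.1).2
        refine Finset.mem_image.2 ⟨T.equivFinOfCardEq hT ⟨a, ha⟩, Finset.mem_univ _, ?_⟩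
        simp [t]
      refine (Finset.card_le_card hsub).trans ?_
      rw [Finset.card_erase_of_mem (by simp [hr a ha])]
      exact Nat.sub_le_sub_right (hx a) 1
    · refine (Finset.card_le_card (Finset.filter_subset_filter _ (Finset.subset_univ R))).trans ?_
      by_cases haI : a ∈ I
      · have : (Finset.univ.filter fun k => x k = a).card ≠ e := fun h =>
          ha (hHT (Finset.mem_filter.2 ⟨haI, h⟩))
        have := hx a
        omega
      · rw [Finset.card_eq_zero.2 (Finset.filter_eq_empty_iff.2 fun k _ h =>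
          haI (Finset.mem_image.2 ⟨k, Finset.mem_univ _, h⟩))]
        exact Nat.zero_le _
  have hall : ∀ s : Finset R, s.card ≤ (s.biUnion fun k => (Finset.univ : Finset R).filter fun l : R => x l.1 ≠ x k.1).card := by
    intro s
    rcases s.eq_empty_or_nonempty with rfl | ⟨k₀, hk₀⟩
    · simp
    by_cases h2 : ∀ k ∈ s, x k = x k₀
    · have hs : s.card ≤ e - 1 := by
        refine le_trans ?_ (hcount (x k₀))
        refine Finset.card_le_card_of_injOn (fun k => (k : Fin (2 * e + 1))) (fun k hk => ?_) Subtype.val_injective.injOn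
        exact Finset.mem_filter.2 ⟨k.2, h2 k hk⟩
      have hsame : ((Finset.univ : Finset R).filter fun l : R => ¬ x l.1 ≠ x k₀.1).card ≤ e - 1 := by
        refine le_trans ?_ (hcount (x k₀))
        refine Finset.card_le_card_of_injOn (fun k => (k : Fin (2 * e + 1))) (fun k hk => ?_) Subtype.val_injective.injOn
        exact Finset.mem_filter.2 ⟨k.2, not_not.1 (Finset.mem_filter.1 hk).2⟩
      have hsplit := Finset.card_filter_add_card_filter_not (s := (Finset.univ : Finset R)) (p := fun l : R => x l.1 ≠ x k₀.1)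
      rw [Finset.card_univ, Fintype.card_coe, hR] at hsplit
      refine le_trans ?_ (Finset.card_le_card
        (Finset.subset_biUnion_of_mem (fun k : R => (Finset.univ : Finset R).filter fun l : R => x l.1 ≠ x k.1) hk₀))
      omega
    · push_neg at h2
      obtain ⟨k₁, hk₁, hne⟩ := h2
      refine Finset.card_le_card fun l _ => ?_
      rw [Finset.mem_biUnion]
      by_cases hl : x l = x k₀
      · exact ⟨k₁, hk₁, Finset.mem_filter.2 ⟨Finset.mem_univ _, hl ▸ hne.symm⟩⟩
      · exact ⟨k₀, hk₀, Finset.mem_filter.2 ⟨Finset.mem_univ _, hl⟩⟩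
  obtain ⟨f, hf, hfx⟩ := (Finset.all_card_le_biUnion_card_iff_exists_injective _).1 hall
  let π : Fin (2 * e + 1) → Fin (2 * e + 1) := fun k => if hk : k ∈ R then (f ⟨k, hk⟩ : Fin (2 * e + 1))
    else Function.extend t (fun c => t (c + 1)) id k
  have htR : ∀ c, t c ∉ R := fun c h =>
    (Finset.mem_sdiff.1 h).2 (Finset.mem_image.2 ⟨c, Finset.mem_univ _, rfl⟩)
  have hπt : ∀ c, π (t c) = t (c + 1) := fun c => by
    simp only [π, dif_neg (htR c)]
    exact htinj.extend_apply _ _ c
  have hcase : ∀ k, k ∈ R ∨ ∃ c, t c = k := fun k => by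
    by_cases hk : ∃ c, t c = k
    · exact Or.inr hk
    · exact Or.inl (Finset.mem_sdiff.2 ⟨Finset.mem_univ _, fun h => hk (by simpa using h)⟩)
  have hπR : ∀ k (hk : k ∈ R), π k = f ⟨k, hk⟩ := fun k hk => dif_pos hk
  have hπinj : Function.Injective π := by
    intro k l h
    rcases hcase k with hk | ⟨c, rfl⟩ <;> rcases hcase l with hl | ⟨c', rfl⟩
    · rw [hπR k hk, hπR l hl] at h
      exact congrArg Subtype.val (hf (Subtype.ext h))
    · rw [hπR k hk, hπt] at h
      exact absurd (h ▸ (f ⟨k, hk⟩).2) (htR _)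
    · rw [hπR l hl, hπt] at h
      exact absurd (h ▸ (f ⟨l, hl⟩).2) (htR _)
    · rw [hπt, hπt] at h
      rw [(by decide : ∀ a b : Fin 3, a + 1 = b + 1 → a = b) _ _ (htinj h)]
  have hπne : ∀ k, x k ≠ x (π k) := by
    intro k
    rcases hcase k with hk | ⟨c, rfl⟩
    · rw [hπR k hk]
      exact (Finset.mem_filter.1 (hfx ⟨k, hk⟩)).2.symm
    · rw [hπt]
      intro h
      have := hxinj h
      exact (by decide : ∀ a : Fin 3, a ≠ a + 1) _ this
  let g : Fin 3 → Fin (2 * e + 1) := fun c => ⟨c.val, by omega⟩
  have hg : Function.Injective g := fun c c' h => Fin.ext (congrArg (fun k : Fin (2 * e + 1) => k.val) h)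
  obtain ⟨σ, hσ⟩ := Equiv.Perm.exists_extending_pair g t hg htinj
  have hg0 : σ 0 = t 0 := by
    rw [← hσ 0]; congr 1
  have hg1 : σ 1 = t 1 := by
    rw [← hσ 1]; congr 1; ext; simp [g, Nat.mod_eq_of_lt (show 1 < 2 * e + 1 by omega)]
  have hg2 : σ 2 = t 2 := by
    rw [← hσ 2]; congr 1; ext; simp [g, Nat.mod_eq_of_lt (show 2 < 2 * e + 1 by omega)]
  refine ⟨σ, fun k => π (σ k), fun m => ?_, fun k => hπne _, ?_, ?_, ?_⟩
  · have hbij : Function.Bijective (fun k => π (σ k)) := Finite.injective_iff_bijective.1 (hπinj.comp σ.injective)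
    have one : ∀ p : Fin (2 * e + 1) → Fin (2 * e + 1), Function.Bijective p → (Finset.univ.filter fun k => p k = m).card = 1 := by
      intro p hp
      obtain ⟨k, hk⟩ := hp.2 m
      refine Finset.card_eq_one.2 ⟨k, ?_⟩
      ext l
      simp only [Finset.mem_filter, Finset.mem_univ, true_and, Finset.mem_singleton]
      exact ⟨fun h => hp.1 (h.trans hk.symm), fun h => h ▸ hk⟩
    rw [one _ σ.bijective, one _ hbij]
  · show σ 0 = π (σ 2); rw [hg2, hπt, hg0]; rfl
  · show σ 1 = π (σ 0); rw [hg0, hπt, hg1]; rfl
  · show σ 2 = π (σ 1); rw [hg1, hπt, hg2]; rfl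

end Groth.Agent.S19390
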