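import Groth.Statements.S19391


set_option autoImplicit false
universe u
open InvQ

namespace Groth.Agent.S19391

/-- For a binary quartic written as a product of four linear forms μ_i X₀ − λ_i X₁, with coefficients
a_0, …, a_4, the discriminant D = ∏_{i<j} (λ_j μ_i − λ_i μ_j)² is a constant multiple of P³ − 6Q²
for the two basic invariants P, Q. With the integral normalisation I = 6P = 12a₀a₄ − 3a₁a₃ + a₂², J
= 72Q = 72a₀a₂a₄ + 9a₁a₂a₃ − 27a₀a₃² − 27a₁²a₄ − 2a₂³ used here, the identity reads 27 D = 4 I³ − J²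
(so the constant is 32: D = 32 (P³ − 6Q²)); it is stated over an arbitrary commutative ring. -/
theorem result (R : Type u) [CommRing R] (la mu : Fin 4 → R) :
    27 * W4c6intromoduli.disc la mu =
      4 * W4c6intromoduli.invI (W4c6intromoduli.coef la mu) ^ 3
        - W4c6intromoduli.invJ (W4c6intromoduli.coef la mu) ^ 2 := by
  have hc : W4c6intromoduli.rootPoly la mu =
      Polynomial.C (mu 0 * mu 1 * mu 2 * mu 3) +
      Polynomial.C (-(la 0 * mu 1 * mu 2 * mu 3 + mu 0 * la 1 * mu 2 * mu 3 + mu 0 * mu 1 * la 2 * mu 3 + mu 0 * mu 1 * mu 2 * la 3)) * Polynomial.X +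
      Polynomial.C (la 0 * la 1 * mu 2 * mu 3 + la 0 * mu 1 * la 2 * mu 3 + la 0 * mu 1 * mu 2 * la 3 +
        mu 0 * la 1 * la 2 * mu 3 + mu 0 * la 1 * mu 2 * la 3 + mu 0 * mu 1 * la 2 * la 3) * Polynomial.X ^ 2 +
      Polynomial.C (-(mu 0 * la 1 * la 2 * la 3 + la 0 * mu 1 * la 2 * la 3 + la 0 * la 1 * mu 2 * la 3 + la 0 * la 1 * la 2 * mu 3)) * Polynomial.X ^ 3 +
      Polynomial.C (la 0 * la 1 * la 2 * la 3) * Polynomial.X ^ 4 := by
    rw [W4c6intromoduli.rootPoly, Fin.prod_univ_four]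
    simp only [map_mul, map_add, map_neg]
    ring
  have hd : W4c6intromoduli.disc la mu =
      ((la 1 * mu 0 - la 0 * mu 1) * (la 2 * mu 0 - la 0 * mu 2) * (la 3 * mu 0 - la 0 * mu 3) *
      (la 2 * mu 1 - la 1 * mu 2) * (la 3 * mu 1 - la 1 * mu 3) * (la 3 * mu 2 - la 2 * mu 3)) ^ 2 := by
    rw [W4c6intromoduli.disc, Finset.prod_filter, Fintype.prod_prod_type]
    simp [Fin.prod_univ_four]
    ring
  simp only [W4c6intromoduli.invI, W4c6intromoduli.invJ, W4c6intromoduli.coef, hc, hd, Polynomial.coeff_add,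
    Polynomial.coeff_C_mul, Polynomial.coeff_X_pow, Polynomial.coeff_X, Polynomial.coeff_C]
  norm_num
  ring

end Groth.Agent.S19391
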