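import Groth.Statements.S19392
import Groth.Agent.H20Quartic.Basic

set_option autoImplicit false
universe u
open InvQ

namespace Groth.Agent.S19392

/-- Over a field of characteristic different from 2 and 3, a nonzero binary quartic f has P(f) = Q(f) =
0 for the two basic invariants P, Q if and only if f has a triple zero. Stated for f = ∏_i (μ_i X₀ −
λ_i X₁) given by four root points (λ_i, μ_i) ≠ (0, 0) (over an algebraically closed field every
nonzero quartic form is of this shape), with the integral invariants I = 6P and J = 72Q of the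
coefficients of f; a triple zero means that three of the four root points are pairwise proportional. -/
theorem result (k : Type u) [Field k]
    (h2 : (2 : k) ≠ 0) (h3 : (3 : k) ≠ 0) (la mu : Fin 4 → k) (hne : ∀ i, la i ≠ 0 ∨ mu i ≠ 0) :
    (W4c6intromoduli.invI (W4c6intromoduli.coef la mu) = 0 ∧
        W4c6intromoduli.invJ (W4c6intromoduli.coef la mu) = 0) ↔
      ∃ i j l : Fin 4, i ≠ j ∧ j ≠ l ∧ i ≠ l ∧
        la i * mu j = la j * mu i ∧ la j * mu l = la l * mu j := by
  open Groth.Agent.H20Quartic in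
  rw [invI_eq, invJ_eq]
  have hq : ∀ {x : k}, 3 * x ^ 2 = 0 → x = 0 := fun {x} h => by
    rcases mul_eq_zero.1 h with h | h
    · exact absurd h h3
    · exact pow_eq_zero_iff two_ne_zero |>.1 h
  open Groth.Agent.H20Quartic in
  constructor
  · rintro ⟨hI, hJ⟩
    have hpr : cp la mu = 0 ∧ cr la mu = 0 := by
      rcases mul_eq_zero.1 hJ with h | h
      · rcases mul_eq_zero.1 h with h | h
        · have hr : cr la mu = cp la mu := (sub_eq_zero.1 h).symm
          have hp := hq (x := cp la mu) (by rw [hr] at hI; linear_combination hI)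
          exact ⟨hp, hr.trans hp⟩
        · have hr : cr la mu = -2 * cp la mu := by linear_combination h
          have hp := hq (x := cp la mu) (by rw [hr] at hI; linear_combination hI)
          exact ⟨hp, by rw [hr, hp, mul_zero]⟩
      · have hp : cp la mu = -2 * cr la mu := by linear_combination h
        have hr := hq (x := cr la mu) (by rw [hp] at hI; linear_combination hI)
        exact ⟨by rw [hp, hr, mul_zero], hr⟩
    obtain ⟨hp, hr⟩ := hpr
    have e : ∀ i j, br la mu i j = 0 → la i * mu j = la j * mu i := fun i j h => sub_eq_zero.1 h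
    rcases mul_eq_zero.1 hp with a | a <;> rcases mul_eq_zero.1 hr with b | b
    · exact ⟨1, 0, 3, by decide, by decide, by decide, (e 0 1 a).symm, e 0 3 b⟩
    · exact ⟨0, 1, 2, by decide, by decide, by decide, e 0 1 a, e 1 2 b⟩
    · exact ⟨0, 3, 2, by decide, by decide, by decide, e 0 3 b, (e 2 3 a).symm⟩
    · exact ⟨1, 2, 3, by decide, by decide, by decide, e 1 2 b, e 2 3 a⟩
  · rintro ⟨i, j, l, hij, hjl, hil, h1, h1'⟩
    have a : br la mu i j = 0 := sub_eq_zero.2 h1
    have b : br la mu j l = 0 := sub_eq_zero.2 h1'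
    have c : br la mu i l = 0 := br_trans (hne j) a b
    have sym : ∀ {x y}, br la mu x y = 0 → br la mu y x = 0 := fun {x y} h => by rw [br_symm, h, neg_zero]
    have key : ∀ x y : Fin 4, x ≠ y → (x = i ∨ x = j ∨ x = l) → (y = i ∨ y = j ∨ y = l) → br la mu x y = 0 := by
      rintro x y hxy (rfl | rfl | rfl) (rfl | rfl | rfl)
      all_goals first | exact absurd rfl hxy | assumption | exact sym (by assumption)
    have hmatch : ∀ i j l : Fin 4, i ≠ j → j ≠ l → i ≠ l →
        (((0 = i ∨ 0 = j ∨ 0 = l) ∧ (1 = i ∨ 1 = j ∨ 1 = l)) ∨ ((2 = i ∨ 2 = j ∨ 2 = l) ∧ (3 = i ∨ 3 = j ∨ 3 = l))) ∧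
        (((0 = i ∨ 0 = j ∨ 0 = l) ∧ (3 = i ∨ 3 = j ∨ 3 = l)) ∨ ((1 = i ∨ 1 = j ∨ 1 = l) ∧ (2 = i ∨ 2 = j ∨ 2 = l))) := by
      decide
    obtain ⟨hp, hr⟩ := hmatch i j l hij hjl hil
    have hp0 : cp la mu = 0 := by
      rcases hp with ⟨x, y⟩ | ⟨x, y⟩
      · rw [cp, key 0 1 (by decide) x y, zero_mul]
      · rw [cp, key 2 3 (by decide) x y, mul_zero]
    have hr0 : cr la mu = 0 := by
      rcases hr with ⟨x, y⟩ | ⟨x, y⟩
      · rw [cr, key 0 3 (by decide) x y, zero_mul]
      · rw [cr, key 1 2 (by decide) x y, mul_zero]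
    simp [hp0, hr0]

end Groth.Agent.S19392
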