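import Groth.Statements.S19393
import Groth.Agent.H20Quartic.Basic

set_option autoImplicit false
universe u
open InvQ

namespace Groth.Agent.S19393
open Groth.Agent.H20Quartic in
theorem br_ne {k : Type u} [Field k] {la mu : Fin 4 → k} (hd : W4c6intromoduli.disc la mu ≠ 0) {i j : Fin 4}
    (hij : i ≠ j) : br la mu i j ≠ 0 := by
  intro h
  apply hd
  have key : ∀ a b : Fin 4, a < b → br la mu a b = 0 → W4c6intromoduli.disc la mu = 0 := by
    intro a b hab h0
    refine Finset.prod_eq_zero (i := (a, b)) (Finset.mem_filter.2 ⟨Finset.mem_univ _, hab⟩) ?_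
    have : la b * mu a - la a * mu b = 0 := by rw [br] at h0; linear_combination -h0
    rw [this, zero_pow two_ne_zero]
  rcases lt_or_gt_of_ne hij with h' | h'
  · exact key i j h' h
  · exact key j i h' (by rw [br_symm, h, neg_zero])

open Groth.Agent.H20Quartic in
theorem equiv_of_perm {k : Type u} [Field k] {la mu la' mu' : Fin 4 → k} (σ : Equiv.Perm (Fin 4))
    (hd : W4c6intromoduli.disc la mu ≠ 0) (hd' : W4c6intromoduli.disc la' mu' ≠ 0)
    (h : cp la mu * cr (la' ∘ σ) (mu' ∘ σ) = cr la mu * cp (la' ∘ σ) (mu' ∘ σ)) :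
    ∃ (M : Matrix (Fin 2) (Fin 2) k) (c : k), IsUnit M.det ∧ c ≠ 0 ∧
      W4c6intromoduli.binForm la' mu' =
        MvPolynomial.C c * W4c6intromoduli.subst M (W4c6intromoduli.binForm la mu) := by
  have g : ∀ {i j : Fin 4}, i ≠ j → br (la' ∘ σ) (mu' ∘ σ) i j ≠ 0 := fun hij =>
    br_ne hd' (σ.injective.ne hij)
  rw [← binForm_perm la' mu' σ]
  exact equiv_of_cross la mu _ _ (br_ne hd (by decide)) (br_ne hd (by decide)) (br_ne hd (by decide))
    (br_ne hd (by decide)) (g (by decide)) (g (by decide)) (g (by decide)) (g (by decide)) h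


/-- Over a field of characteristic different from 2 and 3, two binary quartics without double zeros
lying in the same fibre of the map to the projective line given by the invariants, i.e. with
proportional (P³, Q²), are equivalent under a linear substitution of the variables up to a nonzero
constant factor. Stated for split quartics f = ∏_i (μ_i X₀ − λ_i X₁) given by root points (λ_i, μ_i)
≠ (0, 0), with the integral invariants I = 6P, J = 72Q and the discriminant ∏_{i<j} (λ_j μ_i − λ_i
μ_j)²; only the assertion that such a fibre is a single orbit is stated (not its closedness). -/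
theorem result (k : Type u) [Field k]
    (h2 : (2 : k) ≠ 0) (h3 : (3 : k) ≠ 0) (la mu la' mu' : Fin 4 → k)
    (hne : ∀ i, la i ≠ 0 ∨ mu i ≠ 0) (hne' : ∀ i, la' i ≠ 0 ∨ mu' i ≠ 0)
    (hd : W4c6intromoduli.disc la mu ≠ 0) (hd' : W4c6intromoduli.disc la' mu' ≠ 0)
    (h : W4c6intromoduli.invI (W4c6intromoduli.coef la mu) ^ 3
          * W4c6intromoduli.invJ (W4c6intromoduli.coef la' mu') ^ 2 =
        W4c6intromoduli.invI (W4c6intromoduli.coef la' mu') ^ 3
          * W4c6intromoduli.invJ (W4c6intromoduli.coef la mu) ^ 2) :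
    ∃ (M : Matrix (Fin 2) (Fin 2) k) (c : k), IsUnit M.det ∧ c ≠ 0 ∧
      W4c6intromoduli.binForm la' mu' =
        MvPolynomial.C c * W4c6intromoduli.subst M (W4c6intromoduli.binForm la mu) := by
  open Groth.Agent.H20Quartic in
  rw [invI_eq, invI_eq, invJ_eq, invJ_eq] at h
  open Groth.Agent.H20Quartic in
  have hprod : (27 : k) * ((cp la mu * cr la' mu' - cr la mu * cp la' mu') *
      (cp la mu * cp la' mu' - cr la mu * cr la' mu') *
      (cp la mu * (cp la' mu' + cr la' mu') - cr la mu * (-cp la' mu')) *
      (cp la mu * (-cp la' mu') - cr la mu * (cp la' mu' + cr la' mu')) *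
      (cp la mu * (cp la' mu' + cr la' mu') - cr la mu * (-cr la' mu')) *
      (cp la mu * (-cr la' mu') - cr la mu * (cp la' mu' + cr la' mu'))) = 0 := by
    linear_combination -h
  have h27 : (27 : k) ≠ 0 := by
    rw [show (27 : k) = 3 * 3 * 3 by norm_num]
    exact mul_ne_zero (mul_ne_zero h3 h3) h3
  replace hprod := (mul_eq_zero.1 hprod).resolve_left h27
  let s23 : Equiv.Perm (Fin 4) := Equiv.swap 2 3
  let s13 : Equiv.Perm (Fin 4) := Equiv.swap 1 3
  let s12 : Equiv.Perm (Fin 4) := Equiv.swap 1 2
  let τ : Equiv.Perm (Fin 4) := ⟨![0, 2, 3, 1], ![0, 3, 1, 2], by decide, by decide⟩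
  open Groth.Agent.H20Quartic in
  rcases mul_eq_zero.1 hprod with h1 | h6
  · rcases mul_eq_zero.1 h1 with h2 | h5
    · rcases mul_eq_zero.1 h2 with h2 | h4
      · rcases mul_eq_zero.1 h2 with h2 | h4'
        · rcases mul_eq_zero.1 h2 with h0 | h1
          · exact equiv_of_perm 1 hd hd' (by simpa using sub_eq_zero.1 h0)
          · refine equiv_of_perm s13 hd hd' ?_
            simp only [cp, cr, br, Function.comp_apply, s13, Equiv.swap_apply_def] at h1 ⊢
            simp at h1 ⊢
            first | linear_combination h1 | linear_combination -h1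
        · refine equiv_of_perm s23 hd hd' ?_
          simp only [cp, cr, br, Function.comp_apply, s23, Equiv.swap_apply_def] at h4' ⊢
          simp at h4' ⊢
          first | linear_combination h4' | linear_combination -h4'
      · refine equiv_of_perm τ hd hd' ?_
        simp only [cp, cr, br, Function.comp_apply, τ, Equiv.coe_fn_mk] at h4 ⊢
        simp at h4 ⊢
        first | linear_combination h4 | linear_combination -h4
    · refine equiv_of_perm τ.symm hd hd' ?_
      simp only [cp, cr, br, Function.comp_apply, τ, Equiv.coe_fn_symm_mk] at h5 ⊢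
      simp at h5 ⊢
      first | linear_combination h5 | linear_combination -h5
  · refine equiv_of_perm s12 hd hd' ?_
    simp only [cp, cr, br, Function.comp_apply, s12, Equiv.swap_apply_def] at h6 ⊢
    simp at h6 ⊢
    first | linear_combination h6 | linear_combination -h6

end Groth.Agent.S19393
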