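import Groth.Statements.S19394


set_option autoImplicit false
universe u
open InvQ

namespace Groth.Agent.S19394
open Matrix
theorem closure_step {k : Type u} [Field k] [IsAlgClosed k] {n : ℕ}
    {S : Matrix (Fin n) (Fin n) k} (hS : Module.End.IsSemisimple (Matrix.toLin' S)) :
    ∀ (d : ℕ) (N : Matrix (Fin n) (Fin n) k), Commute S N → N ^ (d + 1) = 0 →
    ∀ (F : MvPolynomial (Fin n × Fin n) k),
      (∀ A : Matrix (Fin n) (Fin n) k, IsUnit A.det →
        MvPolynomial.eval (fun p => (A * (S + N) * A⁻¹) p.1 p.2) F = 0) →
      MvPolynomial.eval (fun p => S p.1 p.2) F = 0 := by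
  intro d
  induction d with
  | zero =>
    intro N _ hN F hF
    rw [pow_one] at hN
    simpa [hN] using hF 1 (by simp)
  | succ d ih =>
    intro N hSN hN F hF
    let K : Submodule k (Fin n → k) := LinearMap.ker (Matrix.toLin' N)
    have hK : K ∈ Module.End.invtSubmodule (Matrix.toLin' S) := by
      intro x hx
      simp only [K, Submodule.mem_comap, LinearMap.mem_ker, Matrix.toLin'_apply] at hx ⊢
      rw [Matrix.mulVec_mulVec, ← hSN.eq, ← Matrix.mulVec_mulVec, hx, Matrix.mulVec_zero]
    obtain ⟨q, hq, hKq⟩ := Module.End.isSemisimple_iff.mp hS K hK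
    let e : Matrix (Fin n) (Fin n) k := LinearMap.toMatrix' (K.subtype ∘ₗ K.projectionOnto q hKq)
    have hemv : ∀ x, e *ᵥ x = (K.projectionOnto q hKq x : Fin n → k) := fun x => by
      rw [← Matrix.toLin'_apply, Matrix.toLin'_toMatrix']; rfl
    have hee : e * e = e := Matrix.ext_of_mulVec_single fun i => by
      rw [← Matrix.mulVec_mulVec, hemv, hemv, Submodule.projectionOnto_apply_left]
    have hNe : N * e = 0 := Matrix.ext_of_mulVec_single fun i => by
      rw [← Matrix.mulVec_mulVec, hemv, Matrix.zero_mulVec, ← Matrix.toLin'_apply]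
      exact (K.projectionOnto q hKq _).2
    have hker : ∀ x, N *ᵥ x = 0 → e *ᵥ x = x := fun x hx => by
      have hxK : x ∈ K := by simpa [K] using hx
      rw [hemv]
      exact congrArg Subtype.val (Submodule.projectionOnto_apply_left hKq ⟨x, hxK⟩)
    have hSe : Commute S e := Matrix.ext_of_mulVec_single fun i => by
      rw [← Matrix.mulVec_mulVec, ← Matrix.mulVec_mulVec]
      generalize (Pi.single i 1 : Fin n → k) = x
      obtain ⟨a, ha, b, hb, rfl⟩ := Submodule.mem_sup.mp (hKq.sup_eq_top ▸ Submodule.mem_top : x ∈ K ⊔ q)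
      have hSa : S *ᵥ a ∈ K := by simpa [Matrix.toLin'_apply] using hK ha
      have hSb : S *ᵥ b ∈ q := by simpa [Matrix.toLin'_apply] using hq hb
      simp only [Matrix.mulVec_add, hemv, map_add, Submodule.coe_add,
        (Submodule.projectionOnto_apply_eq_zero_iff hKq).mpr hb,
        (Submodule.projectionOnto_apply_eq_zero_iff hKq).mpr hSb,
        Submodule.projectionOnto_apply_left hKq ⟨a, ha⟩,
        Submodule.projectionOnto_apply_left hKq ⟨_, hSa⟩,
        Submodule.coe_zero, Matrix.mulVec_zero, add_zero]
    let N' := (1 - e) * N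
    let X := e * N
    have hN'Ne : N' * e = 0 := by rw [show N' * e = (1 - e) * (N * e) from mul_assoc _ _ _, hNe, mul_zero]
    have hSN' : Commute S N' := ((Commute.one_right S).sub_right hSe).mul_right hSN
    have hN' : N' ^ (d + 1) = 0 := by
      have h1 : ∀ m : ℕ, N' ^ (m + 1) = (1 - e) * N ^ (m + 1) := by
        intro m
        induction m with
        | zero => simp [N']
        | succ m ihm =>
          have hNN : N ^ (m + 1) * (1 - e) = N ^ (m + 1) := by
            rw [mul_sub, mul_one, pow_succ, mul_assoc, hNe, mul_zero, sub_zero]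
          rw [pow_succ, ihm, show (1 - e) * N ^ (m + 1) * N' = (1 - e) * (N ^ (m + 1) * (1 - e) * N) by
            simp [N', mul_assoc], hNN, ← pow_succ]
      rw [h1]
      refine Matrix.ext_of_mulVec_single fun i => ?_
      rw [← Matrix.mulVec_mulVec, Matrix.sub_mulVec, Matrix.one_mulVec, hker, sub_self, Matrix.zero_mulVec]
      rw [Matrix.mulVec_mulVec, ← pow_succ', hN, Matrix.zero_mulVec]
    refine ih N' hSN' hN' F fun A hA => ?_
    let p : Polynomial k := MvPolynomial.eval₂ Polynomial.C
      (fun p => Polynomial.C ((A * (S + N') * A⁻¹) p.1 p.2) + Polynomial.X * Polynomial.C ((A * X * A⁻¹) p.1 p.2)) F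
    have hp : ∀ c : k, p.eval c =
        MvPolynomial.eval (fun p => (A * (S + N' + c • X) * A⁻¹) p.1 p.2) F := fun c => by
      show Polynomial.evalRingHom c (MvPolynomial.eval₂ _ _ F) = _
      rw [MvPolynomial.eval₂_comp_left,
        show (Polynomial.evalRingHom c).comp Polynomial.C = RingHom.id k from RingHom.ext fun _ => Polynomial.eval_C,
        MvPolynomial.eval₂_id]
      congr 2
      funext p
      simp [Matrix.mul_add, Matrix.add_mul]
      ring
    have hz : ∀ c : k, c ≠ 0 → p.eval c = 0 := by
      intro c hc
      let M := e + c⁻¹ • (1 - e)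
      let M' := e + c • (1 - e)
      have hMM' : M * M' = 1 := by
        have h1 : e * (1 - e) = 0 := by rw [mul_sub, mul_one, hee, sub_self]
        have h2 : (1 - e) * e = 0 := by rw [sub_mul, one_mul, hee, sub_self]
        have h3 : (1 - e) * (1 - e) = 1 - e := by rw [sub_mul, one_mul, h1, sub_zero]
        simp only [M, M', mul_add, add_mul, Matrix.smul_mul, Matrix.mul_smul, h1, h2, h3, hee, smul_smul,
          smul_zero, inv_mul_cancel₀ hc, mul_inv_cancel₀ hc, one_smul, add_zero, zero_add]
        exact add_sub_cancel e 1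
      have hM'M : M' * M = 1 := mul_eq_one_comm.mp hMM'
      have hMS : M * S * M' = S := by
        have : Commute S M := hSe.add_right (((Commute.one_right S).sub_right hSe).smul_right _)
        rw [← this.eq, mul_assoc, hMM', mul_one]
      have hMN : M * N * M' = N' + c • X := by
        have hNM : N * M' = c • N := by
          simp [M', mul_add, Matrix.mul_smul, hNe, mul_sub]
        rw [mul_assoc, hNM, Matrix.mul_smul]
        simp only [M, add_mul, Matrix.smul_mul, smul_add, smul_smul, mul_inv_cancel₀ hc, one_smul, X, N']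
        exact add_comm _ _
      rw [hp]
      have hu : IsUnit (A * M).det := by
        rw [Matrix.det_mul]
        exact hA.mul ((Matrix.isUnit_iff_isUnit_det M).mp ⟨⟨M, M', hMM', hM'M⟩, rfl⟩)
      have h := hF (A * M) hu
      rw [Matrix.mul_inv_rev, Matrix.inv_eq_right_inv hMM'] at h
      rw [add_assoc, ← hMN]
      nth_rewrite 1 [← hMS]
      rw [← add_mul, ← mul_add]
      simpa [mul_assoc] using h
    have hp0 : p = 0 := Polynomial.eq_zero_of_infinite_isRoot p <|
      ((Set.finite_singleton (0 : k)).infinite_compl).mono fun c hc => hz c hc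
    have := hp 0
    rw [hp0] at this
    simpa using this.symm


/-- Over an algebraically closed field, the semisimple part of a square matrix B lies in the Zariski
closure of the orbit of B under conjugation by the general linear group. The semisimple part is
given as S with B = S + N, S semisimple, N nilpotent and SN = NS; membership in the Zariski closure
is spelled out as: every polynomial in the n² matrix entries vanishing at all conjugates A B A⁻¹ (A
invertible) vanishes at S. -/
theorem result (k : Type u) [Field k] [IsAlgClosed k] (n : ℕ)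
    (B S N : Matrix (Fin n) (Fin n) k) (hS : Module.End.IsSemisimple (Matrix.toLin' S))
    (hN : IsNilpotent N) (hSN : Commute S N) (hB : B = S + N)
    (F : MvPolynomial (Fin n × Fin n) k)
    (hF : ∀ A : Matrix (Fin n) (Fin n) k, IsUnit A.det →
      MvPolynomial.eval (fun p => (A * B * A⁻¹) p.1 p.2) F = 0) :
    MvPolynomial.eval (fun p => S p.1 p.2) F = 0 := by
  obtain ⟨d, hd⟩ := hN
  exact closure_step hS d N hSN (pow_eq_zero_of_le (Nat.le_succ d) hd) F (fun A hA => hB ▸ hF A hA)

end Groth.Agent.S19394
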