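import Groth.Statements.S19395
import Mathlib.LinearAlgebra.Eigenspace.Semisimple
import Mathlib.LinearAlgebra.Eigenspace.Triangularizable
import Mathlib.LinearAlgebra.Matrix.Charpoly.Univ
import Mathlib.LinearAlgebra.Matrix.Charpoly.Coeff
import Mathlib.LinearAlgebra.Charpoly.ToMatrix
import Mathlib.LinearAlgebra.Matrix.NonsingularInverse
import Mathlib.FieldTheory.IsAlgClosed.Basic

set_option autoImplicit false
universe u
open InvQ

namespace Groth.Agent.S19395

noncomputable section

open Matrix

variable {k : Type u} [Field k] {n : ℕ}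

/-- `F` vanishes on the conjugation orbit of `B`. -/
def Van (F : MvPolynomial (Fin n × Fin n) k) (B : Matrix (Fin n) (Fin n) k) : Prop :=
  ∀ A : Matrix (Fin n) (Fin n) k, IsUnit A.det →
    MvPolynomial.eval (fun p => (A * B * A⁻¹) p.1 p.2) F = 0

theorem Van.conj {F : MvPolynomial (Fin n × Fin n) k} {B : Matrix (Fin n) (Fin n) k}
    (h : Van F B) {T : Matrix (Fin n) (Fin n) k} (hT : IsUnit T.det) : Van F (T * B * T⁻¹) := by
  intro A hA
  have := h (A * T) (by rw [det_mul]; exact hA.mul hT)
  simpa [Matrix.mul_inv_rev, Matrix.mul_assoc] using this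

theorem Van.self {F : MvPolynomial (Fin n × Fin n) k} {B : Matrix (Fin n) (Fin n) k}
    (h : Van F B) : MvPolynomial.eval (fun p => B p.1 p.2) F = 0 := by
  simpa using h 1 (by simp)

/-- a polynomial vanishing on a punctured line vanishes on the line -/
theorem eval_eq_zero_of_forall_ne_zero [Infinite k] {σ : Type*} (F : MvPolynomial σ k)
    (a b : σ → k) (h : ∀ t : k, t ≠ 0 → MvPolynomial.eval (fun i => a i + t * b i) F = 0) :
    MvPolynomial.eval a F = 0 := by
  set f : Polynomial k := MvPolynomial.aeval (fun i => Polynomial.C (a i) + Polynomial.X * Polynomial.C (b i)) F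
  have hev : ∀ t : k, f.eval t = MvPolynomial.eval (fun i => a i + t * b i) F := by
    intro t
    change Polynomial.aeval t f = _
    rw [← AlgHom.comp_apply, MvPolynomial.comp_aeval, MvPolynomial.aeval_eq_eval]
    refine congrArg (fun g => MvPolynomial.eval g F) (funext fun i => ?_)
    simp
    try ring
  have hf : f = 0 := Polynomial.eq_zero_of_infinite_isRoot f <|
    ((Set.finite_singleton (0 : k)).infinite_compl).mono fun t ht => (hev t).trans (h t ht)
  have := hev 0
  rw [hf, Polynomial.eval_zero] at this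
  simpa using this.symm

/-- The semisimple part is in the closure of the orbit. -/
theorem van_semisimple [Infinite k] (F : MvPolynomial (Fin n × Fin n) k)
    (S : Matrix (Fin n) (Fin n) k) (hS : Module.End.IsSemisimple (Matrix.toLin' S)) :
    ∀ (m : ℕ) (N : Matrix (Fin n) (Fin n) k), N ^ m = 0 → Commute S N → Van F (S + N) → Van F S := by
  intro m
  induction m with
  | zero =>
    intro N hN _ h
    rw [pow_zero] at hN
    have : N = 0 := by rw [← mul_one N, hN, mul_zero]
    simpa [this] using h
  | succ m ih =>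
    intro N hN hc h
    obtain ⟨q, hq, hpq⟩ := Module.End.isSemisimple_iff.1 hS (LinearMap.ker (Matrix.toLin' N)) (by
      rw [Module.End.mem_invtSubmodule]
      intro v hv
      rw [Submodule.mem_comap, LinearMap.mem_ker]
      rw [LinearMap.mem_ker] at hv
      show toLin' N (toLin' S v) = 0
      rw [← LinearMap.comp_apply, ← toLin'_mul, ← hc.eq, toLin'_mul, LinearMap.comp_apply, hv,
        map_zero])
    set p := LinearMap.ker (Matrix.toLin' N)
    set R : Matrix (Fin n) (Fin n) k := LinearMap.toMatrix'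
      (p.subtype ∘ₗ (p.projectionOnto q hpq)) with hR
    have hRv : ∀ v, toLin' R v = (p.projectionOnto q hpq v : Fin n → k) := by
      intro v; simp [hR]
    have hNR : N * R = 0 := by
      refine toLin'.injective (LinearMap.ext fun v => ?_)
      rw [toLin'_mul, LinearMap.comp_apply, hRv, map_zero, LinearMap.zero_apply]
      exact (p.projectionOnto q hpq v).2
    have hRR : R * R = R := by
      refine toLin'.injective (LinearMap.ext fun v => ?_)
      rw [toLin'_mul, LinearMap.comp_apply, hRv, hRv]
      simp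
    have hRfix : ∀ v, toLin' N v = 0 → toLin' R v = v := by
      intro v hv
      rw [hRv]
      exact congrArg Subtype.val (Submodule.projectionOnto_apply_left hpq ⟨v, hv⟩)
    have hRS : Commute R S := by
      refine toLin'.injective (LinearMap.ext fun v => ?_)
      obtain ⟨a, ha, b, hb, rfl⟩ : ∃ a ∈ p, ∃ b ∈ q, a + b = v :=
        Submodule.mem_sup.1 (hpq.sup_eq_top ▸ Submodule.mem_top)
      have hSb : toLin' S b ∈ q := hq hb
      have hR0 : ∀ b ∈ q, toLin' R b = 0 := fun b hb => by
        rw [hRv, Submodule.projectionOnto_apply_right hpq ⟨b, hb⟩]; rfl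
      have hSa : toLin' N (toLin' S a) = 0 := by
        rw [← LinearMap.comp_apply, ← toLin'_mul, ← hc.eq, toLin'_mul, LinearMap.comp_apply,
          LinearMap.mem_ker.1 ha, map_zero]
      simp only [toLin'_mul, LinearMap.comp_apply, map_add, hR0 _ hSb, hR0 _ hb, map_zero,
        add_zero, hRfix _ hSa, hRfix _ (LinearMap.mem_ker.1 ha)]
    have hN1 : N * (1 - R) = N := by rw [mul_sub, mul_one, hNR, sub_zero]
    have hN' : ∀ j : ℕ, ((1 - R) * N) ^ (j + 1) = (1 - R) * N ^ (j + 1) := by
      intro j
      induction j with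
      | zero => simp
      | succ j hj =>
        rw [pow_succ, hj, Matrix.mul_assoc, ← Matrix.mul_assoc (N ^ (j + 1)), pow_succ N j,
          Matrix.mul_assoc (N ^ j), hN1, pow_succ N (j + 1), pow_succ N j]
    rcases Nat.eq_zero_or_pos m with rfl | hm
    · have : N = 0 := by simpa using hN
      simpa [this] using h
    refine ih ((1 - R) * N) ?_ ?_ ?_
    · obtain ⟨j, rfl⟩ : ∃ j, m = j + 1 := ⟨m - 1, by omega⟩
      rw [hN']
      refine toLin'.injective (LinearMap.ext fun v => ?_)
      rw [toLin'_mul, LinearMap.comp_apply, map_zero, LinearMap.zero_apply, map_sub,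
        LinearMap.sub_apply, toLin'_one, LinearMap.id_apply, hRfix, sub_self]
      rw [← LinearMap.comp_apply, ← toLin'_mul, ← pow_succ', hN, map_zero, LinearMap.zero_apply]
    · exact ((Commute.one_right S).sub_right hRS.symm).mul_right hc
    intro A hA
    refine eval_eq_zero_of_forall_ne_zero F _ (fun p => (A * (R * N) * A⁻¹) p.1 p.2) fun t ht => ?_
    let T : Matrix (Fin n) (Fin n) k := t • R + (1 - R)
    let T' : Matrix (Fin n) (Fin n) k := t⁻¹ • R + (1 - R)
    have hR1 : R * (1 - R) = 0 := by rw [mul_sub, mul_one, hRR, sub_self]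
    have hR2 : (1 - R) * R = 0 := by rw [sub_mul, one_mul, hRR, sub_self]
    have hTT : T * T' = 1 := by
      simp only [T, T', add_mul, mul_add, smul_mul_assoc, mul_smul_comm, hR1, hR2, smul_smul,
        smul_zero, hRR, inv_mul_cancel₀ ht, one_smul, add_zero, zero_add]
      rw [sub_mul, one_mul, hR1, sub_zero, add_sub_cancel]
    have hTdet : IsUnit T.det := IsUnit.of_mul_eq_one T'.det (by rw [← det_mul, hTT, det_one])
    have hTinv : T⁻¹ = T' := Matrix.inv_eq_right_inv hTT
    have hST : Commute T S := ((hRS.smul_left t).add_left ((Commute.one_left S).sub_left hRS))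
    have key : T * (S + N) * T⁻¹ = S + (1 - R) * N + t • (R * N) := by
      rw [hTinv, show T * (S + N) = T * S + T * N from mul_add _ _ _, hST.eq, add_mul, Matrix.mul_assoc S, hTT, mul_one, add_assoc]
      congr 1
      have : N * T' = N := by
        simp only [T', mul_add, mul_smul_comm, hNR, smul_zero, zero_add, hN1]
      rw [Matrix.mul_assoc, this]
      simp only [T, add_mul, smul_mul_assoc]
      abel
    have := h.conj hTdet A hA
    rw [key] at this
    simpa [mul_add, add_mul, Matrix.add_apply, mul_smul_comm, smul_mul_assoc] using this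

theorem charpoly_eq_of_forall_van {B C : Matrix (Fin n) (Fin n) k}
    (h : ∀ F, Van F B → MvPolynomial.eval (fun p => C p.1 p.2) F = 0) :
    C.charpoly = B.charpoly := by
  refine Polynomial.ext fun i => ?_
  let G : MvPolynomial (Fin n × Fin n) k :=
    (Matrix.charpoly.univ k (Fin n)).coeff i - MvPolynomial.C (B.charpoly.coeff i)
  have hG : ∀ M : Matrix (Fin n) (Fin n) k,
      MvPolynomial.eval (fun p => M p.1 p.2) G = M.charpoly.coeff i - B.charpoly.coeff i := by
    intro M
    simp only [G, map_sub, MvPolynomial.eval_C]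
    congr 1
    have := Matrix.charpoly.univ_map_eval₂Hom (n := Fin n) (RingHom.id k) (fun p => M p.1 p.2)
    rw [← Polynomial.coeff_map]
    exact congrArg (fun q => Polynomial.coeff q i) this
  refine sub_eq_zero.1 ((hG C).symm.trans (h G fun A hA => ?_))
  rw [hG, ← sub_eq_zero.2 rfl]
  congr 2
  obtain ⟨u, rfl⟩ := (Matrix.isUnit_iff_isUnit_det A).2 hA
  rw [Matrix.charpoly_units_conj]

/-- Semisimple matrices over an algebraically closed field are diagonalisable. -/
theorem exists_eigenbasis [IsAlgClosed k] (S : Matrix (Fin n) (Fin n) k)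
    (hS : Module.End.IsSemisimple (Matrix.toLin' S)) :
    ∃ (b : Module.Basis (Fin n) k (Fin n → k)) (d : Fin n → k), ∀ i, toLin' S (b i) = d i • b i := by
  classical
  set f := Matrix.toLin' S
  have htop : ⨆ μ, Module.End.eigenspace f μ = ⊤ := by
    rw [← Module.End.iSup_maxGenEigenspace_eq_top f]
    exact iSup_congr fun μ => (hS.isFinitelySemisimple.maxGenEigenspace_eq_eigenspace μ).symm
  have hint : DirectSum.IsInternal fun μ => Module.End.eigenspace f μ :=
    (DirectSum.isInternal_submodule_iff_iSupIndep_and_iSup_eq_top _).2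
      ⟨Module.End.eigenspaces_iSupIndep f, htop⟩
  let B := hint.collectedBasis fun μ => Module.finBasis k (Module.End.eigenspace f μ)
  let e := B.indexEquiv (Pi.basisFun k (Fin n))
  refine ⟨B.reindex e, fun i => (e.symm i).1, fun i => ?_⟩
  rw [Module.Basis.reindex_apply]
  exact Module.End.mem_eigenspace_iff.1 (hint.collectedBasis_mem _ _)

/-- Semisimple matrices with equal characteristic polynomials are conjugate. -/
theorem exists_conj_of_charpoly_eq [IsAlgClosed k] {S₁ S₂ : Matrix (Fin n) (Fin n) k}
    (h₁ : Module.End.IsSemisimple (Matrix.toLin' S₁)) (h₂ : Module.End.IsSemisimple (Matrix.toLin' S₂))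
    (h : S₁.charpoly = S₂.charpoly) : ∃ A, IsUnit A.det ∧ A * S₁ * A⁻¹ = S₂ := by
  classical
  obtain ⟨b₁, d₁, hd₁⟩ := exists_eigenbasis S₁ h₁
  obtain ⟨b₂, d₂, hd₂⟩ := exists_eigenbasis S₂ h₂
  have hcp : ∀ (S : Matrix (Fin n) (Fin n) k) (b : Module.Basis (Fin n) k (Fin n → k))
      (d : Fin n → k), (∀ i, toLin' S (b i) = d i • b i) →
        S.charpoly.roots = (Finset.univ : Finset (Fin n)).val.map d := by
    intro S b d hd
    have hm : LinearMap.toMatrix b b (toLin' S) = diagonal d := by
      ext i j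
      rw [LinearMap.toMatrix_apply, hd, map_smul, Finsupp.smul_apply, Module.Basis.repr_self]
      by_cases hij : i = j <;> simp [hij]
    rw [← Matrix.charpoly_toLin', ← LinearMap.charpoly_toMatrix (toLin' S) b, hm,
      Matrix.charpoly_diagonal, Polynomial.roots_prod _ _ (Finset.prod_ne_zero_iff.2 fun i _ =>
        Polynomial.X_sub_C_ne_zero _)]
    simp
  have hroots : (Finset.univ : Finset (Fin n)).val.map d₁ = Finset.univ.val.map d₂ := by
    rw [← hcp S₁ b₁ d₁ hd₁, ← hcp S₂ b₂ d₂ hd₂, h]
  obtain ⟨σ, hσ⟩ : ∃ σ : Fin n ≃ Fin n, ∀ i, d₁ (σ i) = d₂ i := by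
    have hc : ∀ c, Fintype.card {i // d₂ i = c} = Fintype.card {i // d₁ i = c} := by
      intro c
      have := congrArg (Multiset.count c) hroots
      simp only [Multiset.count_map] at this
      rw [Fintype.card_subtype, Fintype.card_subtype]
      simpa [Finset.card, Finset.filter, eq_comm] using this.symm
    exact ⟨Equiv.ofFiberEquiv fun c => Fintype.equivOfCardEq (hc c), fun i =>
      Equiv.ofFiberEquiv_map (fun c => Fintype.equivOfCardEq (hc c)) i⟩
  let e : (Fin n → k) ≃ₗ[k] (Fin n → k) := b₁.equiv b₂ σ.symm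
  have hcomm : toLin' S₂ ∘ₗ e.toLinearMap = e.toLinearMap ∘ₗ toLin' S₁ := by
    refine b₁.ext fun i => ?_
    simp only [LinearMap.comp_apply, LinearEquiv.coe_coe, e, Module.Basis.equiv_apply, hd₂, hd₁,
      map_smul, ← hσ, Equiv.apply_symm_apply]
  have hA : LinearMap.toMatrix' e.symm.toLinearMap * LinearMap.toMatrix' e.toLinearMap = 1 := by
    rw [← LinearMap.toMatrix'_comp]
    simp
  have hAdet : IsUnit (LinearMap.toMatrix' e.toLinearMap).det :=
    IsUnit.of_mul_eq_one_right _ (by rw [← det_mul, hA, det_one])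
  refine ⟨LinearMap.toMatrix' e.toLinearMap, hAdet, ?_⟩
  have := congrArg LinearMap.toMatrix' hcomm
  rw [LinearMap.toMatrix'_comp, LinearMap.toMatrix'_comp, LinearMap.toMatrix'_toLin',
    LinearMap.toMatrix'_toLin'] at this
  rw [← this, Matrix.mul_assoc, Matrix.mul_nonsing_inv _ hAdet, mul_one]

end


/-- Over an algebraically closed field, the Zariski closures of the conjugation orbits of two square
matrices B₁, B₂ meet if and only if their semisimple parts lie in one orbit. The semisimple parts
are given as S_i with B_i = S_i + N_i, S_i semisimple, N_i nilpotent, S_i N_i = N_i S_i; a common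
point of the two closures is a matrix C at which every polynomial in the matrix entries vanishing on
the whole orbit of B₁, and every one vanishing on the whole orbit of B₂, vanishes. -/
theorem result (k : Type u) [Field k] [IsAlgClosed k]
    (n : ℕ) (B₁ S₁ N₁ B₂ S₂ N₂ : Matrix (Fin n) (Fin n) k)
    (hS₁ : Module.End.IsSemisimple (Matrix.toLin' S₁)) (hN₁ : IsNilpotent N₁) (hc₁ : Commute S₁ N₁)
    (hB₁ : B₁ = S₁ + N₁)
    (hS₂ : Module.End.IsSemisimple (Matrix.toLin' S₂)) (hN₂ : IsNilpotent N₂) (hc₂ : Commute S₂ N₂)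
    (hB₂ : B₂ = S₂ + N₂) :
    (∃ C : Matrix (Fin n) (Fin n) k,
        (∀ F : MvPolynomial (Fin n × Fin n) k,
          (∀ A : Matrix (Fin n) (Fin n) k, IsUnit A.det →
            MvPolynomial.eval (fun p => (A * B₁ * A⁻¹) p.1 p.2) F = 0) →
          MvPolynomial.eval (fun p => C p.1 p.2) F = 0) ∧
        (∀ F : MvPolynomial (Fin n × Fin n) k,
          (∀ A : Matrix (Fin n) (Fin n) k, IsUnit A.det →
            MvPolynomial.eval (fun p => (A * B₂ * A⁻¹) p.1 p.2) F = 0) →
          MvPolynomial.eval (fun p => C p.1 p.2) F = 0)) ↔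
      ∃ A : Matrix (Fin n) (Fin n) k, IsUnit A.det ∧ A * S₁ * A⁻¹ = S₂ := by
  obtain ⟨m₁, hm₁⟩ := hN₁
  obtain ⟨m₂, hm₂⟩ := hN₂
  have h1 : ∀ F, Van F B₁ → Van F S₁ := fun F h =>
    van_semisimple F S₁ hS₁ m₁ N₁ hm₁ hc₁ (hB₁ ▸ h)
  have h2 : ∀ F, Van F B₂ → Van F S₂ := fun F h =>
    van_semisimple F S₂ hS₂ m₂ N₂ hm₂ hc₂ (hB₂ ▸ h)
  constructor
  · rintro ⟨C, hC1, hC2⟩
    refine exists_conj_of_charpoly_eq hS₁ hS₂ ?_
    rw [charpoly_eq_of_forall_van fun F hF => (h1 F hF).self,
      charpoly_eq_of_forall_van fun F hF => (h2 F hF).self,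
      ← charpoly_eq_of_forall_van hC1, ← charpoly_eq_of_forall_van hC2]
  · rintro ⟨A, hA, hAS⟩
    exact ⟨S₂, fun F hF => by simpa [hAS] using h1 F hF A hA, fun F hF => (h2 F hF).self⟩

end Groth.Agent.S19395
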