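import Groth.Statements.S19397
import Groth.Agent.H23Ell.Aut

set_option autoImplicit false
universe u v
open FunFld

namespace Groth.Agent.S19397

open Classical in
/-- Over an algebraically closed field of characteristic different from 2 and 3, the automorphism group
of an elliptic curve (automorphisms fixing the base point) with invariant j has order 2 if j ≠ 0,
12³, order 4 if j = 12³ and order 6 if j = 0. Stated for the function field K/k of the curve: K of
genus 1 generated by x, y with y² = x³ + a x + b and 4a³ + 27b² ≠ 0, P the place where x has its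
double and y its triple pole (and no other poles), so that j = 12³ · 4a³/(4a³ + 27b²) and the three
cases are a, b ≠ 0; b = 0; a = 0; the automorphisms are the k-algebra automorphisms of K preserving
the valuation of P. -/
theorem result (k : Type u) (K : Type v) [Field k]
    [IsAlgClosed k] [Field K] [Algebra k K] (h2 : (2 : k) ≠ 0) (h3 : (3 : k) ≠ 0)
    (hK : FunFld.IsFunctionField k K) (hgen : FunFld.genus k K = 1) (P : FunFld.Place k K)
    (a b : k) (hdisc : 4 * a ^ 3 + 27 * b ^ 2 ≠ 0) (x y : K)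
    (heq : y ^ 2 = x ^ 3 + algebraMap k K a * x + algebraMap k K b)
    (hxy : IntermediateField.adjoin k ({x, y} : Set K) = ⊤)
    (hx : x ∈ FunFld.L (Finsupp.single P 2)) (hx2 : P.ord x = -2)
    (hy : y ∈ FunFld.L (Finsupp.single P 3)) (hy3 : P.ord y = -3) :
    Nat.card {σ : K ≃ₐ[k] K // ∀ z : K, P.1 (σ z) = P.1 z} =
      if a = 0 then 6 else if b = 0 then 4 else 2 := by
  have hx0 : x ≠ 0 := fun h => by rw [h, H23FunFld.ord_zero] at hx2; omega
  have htr : Transcendental k x := H23FunFld.transcendental_of_val_ne_one P hx0 (by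
    rw [H23FunFld.val_eq_exp P hx0, hx2, ← WithZero.exp_zero, Ne, WithZero.exp_inj]; norm_num)
  have hk : ∀ σ : {σ : K ≃ₐ[k] K // ∀ z : K, P.1 (σ z) = P.1 z}, _ := fun σ =>
    H23Ell.exists_weight hdisc htr heq h2 h3 hK hgen hx hx2 hy hy3 σ.1 σ.2
  choose W hW0 hWa hWb hWx hWy using hk
  have hfix : ∀ σ : K ≃ₐ[k] K, (∃ c : k, c ≠ 0 ∧ σ x = algebraMap k K c * x) → ∀ z : K, P.1 (σ z) = P.1 z := by
    rintro σ ⟨c, hc, hσ⟩ z
    have hP : H23Proj.pullPlace σ P = P := by
      by_contra hne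
      have h := hx (H23Proj.pullPlace σ P)
      rw [Finsupp.single_eq_of_ne hne, H23Proj.pullPlace_apply, hσ, map_mul, H23FunFld.val_const P hc, one_mul,
        H23FunFld.val_eq_exp P hx0, hx2, WithZero.exp_le_exp] at h
      omega
    exact Valuation.ext_iff.1 (Subtype.ext_iff.1 hP) z
  set Wset := {w : k // w ≠ 0 ∧ a * w ^ 4 = a ∧ b * w ^ 6 = b}
  have hbij : Function.Bijective (fun σ => (⟨W σ, hW0 σ, hWa σ, hWb σ⟩ : Wset)) := by
    refine ⟨fun σ τ hστ => Subtype.ext ?_, fun w => ?_⟩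
    · have e : W σ = W τ := congrArg Subtype.val hστ
      have hhom : (σ.1 : K →ₐ[k] K) = (τ.1 : K →ₐ[k] K) := by
        refine AlgHom.ext fun z => ?_
        have hz : z ∈ IntermediateField.adjoin k ({x, y} : Set K) := by rw [hxy]; trivial
        induction hz using IntermediateField.adjoin_induction with
        | mem z hz =>
          rcases hz with rfl | rfl
          · change σ.1 z = τ.1 z; rw [hWx, hWx, e]
          · change σ.1 z = τ.1 z; rw [hWy, hWy, e]
        | algebraMap c => simp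
        | add p q _ _ hp hq => simp [map_add] at *; rw [hp, hq]
        | inv p _ hp => simp [map_inv₀] at *; rw [hp]
        | mul p q _ _ hp hq => simp [map_mul] at *; rw [hp, hq]
      exact AlgEquiv.ext fun z => AlgHom.congr_fun hhom z
    · obtain ⟨w, hw, hwa, hwb⟩ := w
      obtain ⟨σ, hσx, hσy⟩ := H23Ell.exists_scaling hdisc htr hxy heq hw hwa hwb
      refine ⟨⟨σ, hfix σ ⟨_, pow_ne_zero _ hw, hσx⟩⟩, Subtype.ext ?_⟩
      exact H23Ell.eq_of_weights hx2 hy3 ((hWx _).symm.trans hσx) ((hWy _).symm.trans hσy) (hW0 _)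
  rw [Nat.card_congr (Equiv.ofBijective _ hbij)]
  have hroots : ∀ n : ℕ, 0 < n → (n : k) ≠ 0 → Nat.card {w : k // w ^ n = 1} = n := fun n hn hn0 => by
    haveI : NeZero (n : k) := ⟨hn0⟩
    haveI : NeZero n := ⟨hn.ne'⟩
    obtain ⟨ζ, hζ⟩ := HasEnoughRootsOfUnity.exists_primitiveRoot k n
    rw [Nat.subtype_card (Polynomial.nthRootsFinset n (1 : k)) (fun w => Polynomial.mem_nthRootsFinset hn 1)]
    exact hζ.card_nthRootsFinset
  have hiff : ∀ n : ℕ, 0 < n → (∀ w : k, (w ≠ 0 ∧ a * w ^ 4 = a ∧ b * w ^ 6 = b) ↔ w ^ n = 1) → (n : k) ≠ 0 →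
      Nat.card Wset = n := fun n hn h hn0 =>
    (Nat.card_congr (Equiv.subtypeEquivRight h)).trans (hroots n hn hn0)
  have h6 : (6 : k) ≠ 0 := by rw [show (6 : k) = 2 * 3 by norm_num]; exact mul_ne_zero h2 h3
  have h4 : (4 : k) ≠ 0 := by rw [show (4 : k) = 2 * 2 by norm_num]; exact mul_ne_zero h2 h2
  have hne : ∀ (w : k) (n : ℕ), 0 < n → w ^ n = 1 → w ≠ 0 := fun w n hn h h0 => by
    rw [h0, zero_pow hn.ne'] at h; exact zero_ne_one h
  split_ifs with ha0 hb0
  · subst ha0
    have hb0 : b ≠ 0 := fun h => hdisc (by rw [h]; ring)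
    refine hiff 6 (by norm_num) (fun w => ⟨fun h => (mul_eq_left₀ hb0).1 h.2.2, fun h => ⟨hne w 6 (by norm_num) h,
      by rw [zero_mul], by rw [h, mul_one]⟩⟩) (by exact_mod_cast h6)
  · subst hb0
    refine hiff 4 (by norm_num) (fun w => ⟨fun h => (mul_eq_left₀ ha0).1 h.2.1, fun h => ⟨hne w 4 (by norm_num) h,
      by rw [h, mul_one], by rw [zero_mul]⟩⟩) (by exact_mod_cast h4)
  · refine hiff 2 (by norm_num) (fun w => ⟨fun h => ?_, fun h => ⟨hne w 2 (by norm_num) h, ?_, ?_⟩⟩)
      (by exact_mod_cast h2)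
    · have e4 := (mul_eq_left₀ ha0).1 h.2.1
      have e6 := (mul_eq_left₀ hb0).1 h.2.2
      linear_combination e6 - w ^ 2 * e4
    · linear_combination a * (w ^ 2 + 1) * h
    · linear_combination b * (w ^ 4 + w ^ 2 + 1) * h

end Groth.Agent.S19397
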