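import Groth.Statements.S1940
import Groth.Agent.H3Cyc.FlatRat
-- import your own Groth.Agent.* helpers here

set_option autoImplicit false
universe u
open CategoryTheory AlgebraicGeometry
open Cyc

namespace Groth.Agent.S1940

/-- Base change of cycles preserves rational equivalence to zero. Setting (flat base change rendered
base-free): p : X' → X is a flat morphism (not necessarily of finite type), (X, δ) and (X', δ') are
schemes with dimension functions in the sense of Cyc.IsSetup (locally Noetherian with universally
catenary local rings, δ a dimension function), and c is an integer such that δ'(x') = δ(p x') + c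
whenever x' is a generic point of an irreducible component of its fibre; g^* : Z_k(X) → Z_{k+c}(X')
denotes the coefficientwise flat pullback Cyc.pullFun p δ' δ c. Statement: if a k-cycle α on X is
rationally equivalent to zero, then any cycle α' on X' whose coefficients are those of g^*α is
rationally equivalent to zero as a (k + c)-cycle on X'. (A pair (X, δ) with Cyc.IsSetup plays the
role of a scheme locally of finite type over a base carrying a dimension function, and the
hypothesis on δ' records that the dimension function upstairs is the induced one.) -/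
theorem result (X X' : Scheme.{u}) (δ : X → ℤ) (δ' : X' → ℤ) (hX : Cyc.IsSetup X δ) (hX' : Cyc.IsSetup X' δ') (p : X' ⟶ X) [Flat p] (c : ℤ) (hc : ∀ x' : X', (∀ y, p y = p x' → y ⤳ x' → y = x') → δ' x' = δ (p x') + c) (k : ℤ) (α : AlgebraicCycle X ℤ) (hα : α ∈ Cyc.Zk X δ k) (h0 : Cyc.RatEquivZero δ k α) (α' : AlgebraicCycle X' ℤ) (hα' : ⇑α' = Cyc.pullFun p δ' δ c ⇑α) : Cyc.RatEquivZero δ' (k + c) α' := by
  haveI := hX.1
  haveI := hX'.1
  have h0' : Cyc.RatEquiv δ k α 0 := by rw [Cyc.RatEquiv, sub_zero]; exact h0
  have h1 := Groth.Agent.H3Cyc.FlatRat.ratEquiv_pullFun p hX' hX hc k α 0 h0' α' 0 hα' (by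
    funext x; simp [Cyc.pullFun])
  rwa [Cyc.RatEquiv, sub_zero] at h1

end Groth.Agent.S1940
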