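import Groth.Statements.S19401
import Groth.Agent.H20Comod.OrbitPrimes

set_option autoImplicit false
universe u
open TensorProduct
open GLin

namespace Groth.Agent.S19401

/-- Suppose the field k is algebraically closed and has characteristic zero. Take A to be a finitely
generated commutative Hopf algebra over k (an affine algebraic group G), and take S and R to be
finitely generated commutative k-algebras, each equipped with a multiplicative A-coaction (so G acts
on Y = Spec S and on X = Spec R). Assume S → R is a finite algebra map respecting the coactions (a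
G-morphism X → Y). Given a k-point x of X whose image in Y is y, the orbit of x is closed (meaning
its orbit morphism Spec A → Spec R has closed image) exactly when the orbit of y is closed. (This is
the affine version of the source's result about G-morphisms of varieties.) -/
theorem result (k : Type u) [Field k] [IsAlgClosed k] [CharZero k]
    (A : Type u) [CommRing A] [HopfAlgebra k A] [Algebra.FiniteType k A]
    (S : Type u) [CommRing S] [Algebra k S] [Algebra.FiniteType k S] [HopfRep.Comod k A S] [GLin.IsCoactAlg k A S]
    (R : Type u) [CommRing R] [Algebra k R] [Algebra.FiniteType k R] [HopfRep.Comod k A R] [GLin.IsCoactAlg k A R]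
    [Algebra S R] [IsScalarTower k S R] [Module.Finite S R]
    (hequiv : ∀ s : S, HopfRep.Comod.coact (k := k) (A := A) (algebraMap S R s) =
      Algebra.TensorProduct.map (IsScalarTower.toAlgHom k S R) (AlgHom.id k A) (HopfRep.Comod.coact (k := k) (A := A) s))
    (x : R →ₐ[k] k) :
    GLin.IsClosedOrbit k A x ↔ GLin.IsClosedOrbit k A (x.comp (IsScalarTower.toAlgHom k S R)) := by
  open Groth.Agent.H20Comod Groth.Agent.H20Comod.OrbitPrimes in
  constructor
  · intro hx
    have hcl : IsClosedMap (PrimeSpectrum.comap (algebraMap S R)) :=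
      PrimeSpectrum.isClosedMap_comap_of_isIntegral _ (algebraMap_isIntegral_iff.2 inferInstance)
    have h := hcl _ hx
    rw [← Set.range_comp] at h
    show IsClosed _
    rw [← orbitHom_natural _ hequiv]
    exact h
  · intro hy
    set ι := IsScalarTower.toAlgHom k S R
    set y := x.comp ι
    haveI : Algebra.IsIntegral S R := inferInstance
    refine isClosedOrbit_of_forall x fun z hz => ?_
    have hzy : GLin.InOrbitClosure k A y (z.comp ι) := fun s hs => hz (by
      rw [RingHom.mem_ker]
      exact (AlgHom.congr_fun (orbitHom_natural ι hequiv x) s).trans hs)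
    obtain ⟨g, hg⟩ := exists_actPt_eq_of_isClosedOrbit hy hzy
    have hQz' : RingHom.ker (GLin.orbitHom k A x) ≤ RingHom.ker (GLin.orbitHom k A z) := ker_orbitHom_le x hz
    haveI := RingHom.ker_isPrime (Bialgebra.counitAlgHom k A)
    obtain ⟨q, hq, -⟩ := Ideal.exists_minimalPrimes_le (I := (⊥ : Ideal A)) (J := RingHom.ker (Bialgebra.counitAlgHom k A)) bot_le
    haveI := hq.1.1
    set Qz := q.comap (GLin.orbitHom k A z)
    haveI : Qz.IsPrime := Ideal.comap_isPrime _ _
    have hP : RingHom.ker (GLin.orbitHom k A x) ≤ Qz := hQz'.trans fun f hf => by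
      rw [Ideal.mem_comap, show GLin.orbitHom k A z f = 0 from hf]; exact q.zero_mem
    obtain ⟨Q, hQ, hle⟩ := Ideal.exists_minimalPrimes_le hP
    obtain ⟨q', hq'p, hq'⟩ := Ideal.exists_comap_eq_of_mem_minimalPrimes (f := (GLin.orbitHom k A x).toRingHom) (I := ⊥) Q hQ
    have ht : Qz.comap ι ∈ (RingHom.ker (GLin.orbitHom k A y)).minimalPrimes := by
      have h1 : Qz.comap ι = q.comap (GLin.orbitHom k A (z.comp ι)) := Ideal.ext fun s => by
        simp only [Qz, Ideal.mem_comap]
        rw [← AlgHom.congr_fun (orbitHom_natural ι hequiv z) s]; rfl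
      have h2 := comap_orbitHom_mem_minimalPrimes (z.comp ι) hq
      rw [← h1, hg, ker_orbitHom_actPt] at h2
      exact h2
    haveI := hQ.1.1
    have heq : Qz.comap ι ≤ Q.comap ι := ht.2 ⟨Ideal.comap_isPrime ι Q, fun s hs => hQ.1.2 (by
      rw [RingHom.mem_ker]
      exact (AlgHom.congr_fun (orbitHom_natural ι hequiv x) s).trans hs)⟩ (Ideal.comap_mono hle)
    have hQQ : Q = Qz := hle.eq_or_lt.resolve_right fun hlt =>
      not_lt_of_ge heq (Ideal.IsIntegral.comap_lt_comap (R := S) hlt)
    haveI := hq'p.1
    exact exists_actPt_eq_of_comap_eq x z q' q (hq'.2.trans hQQ)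

end Groth.Agent.S19401
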