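import Groth.Statements.S19402
import Groth.Agent.S0271
-- import your own Groth.Agent.* helpers here

set_option autoImplicit false
universe u v w
open scoped Pointwise
open GLin

namespace Groth.Agent.S19402

/-- Let k be an algebraically closed field of characteristic zero, R a finitely generated commutative
k-algebra which is an integrally closed domain (a normal irreducible affine variety X), and G a
finite group acting faithfully on R by k-algebra automorphisms. Let B be a commutative k-algebra
with an injective algebra map B → R, compatible with the k-structures and G-invariant, whose image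
is exactly the subring of G-invariants (so Spec R → Spec B is the quotient morphism X → X/G). Then
for a maximal ideal m of R (a closed point x of X), R is étale over B at m (the local ring R_m is
formally étale over B) if and only if the stabilizer of m in G is trivial. -/
theorem result (k : Type u) [Field k] [IsAlgClosed k] [CharZero k]
    (R : Type v) [CommRing R] [IsDomain R] [IsIntegrallyClosed R] [Algebra k R] [Algebra.FiniteType k R]
    (G : Type w) [Group G] [Finite G] [MulSemiringAction G R] [FaithfulSMul G R] [SMulCommClass G k R]
    (B : Type v) [CommRing B] [Algebra k B] [Algebra B R] [IsScalarTower k B R] [FaithfulSMul B R]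
    [SMulCommClass G B R] [Algebra.IsInvariant B R G]
    (m : Ideal R) [m.IsMaximal] :
    Algebra.IsEtaleAt B m ↔ MulAction.stabilizer G m = ⊥ := by
  classical
  haveI : IsNoetherianRing R := Algebra.FiniteType.isNoetherianRing k R
  haveI : IsJacobsonRing k := inferInstance
  have hsurj : ∀ r : R, ∃ c : k, r - algebraMap k R c ∈ m := by
    intro r
    letI := Ideal.Quotient.field m
    haveI : Algebra.FiniteType k (R ⧸ m) :=
      Algebra.FiniteType.of_surjective (Ideal.Quotient.mkₐ k m) Ideal.Quotient.mk_surjective
    haveI : Module.Finite k (R ⧸ m) := finite_of_finite_type_of_isJacobsonRing k _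
    obtain ⟨c, hc⟩ := (IsAlgClosed.algebraMap_bijective_of_isIntegral (k := k) (K := R ⧸ m)).2 (Ideal.Quotient.mk m r)
    exact ⟨c, Ideal.Quotient.eq.1 hc.symm⟩
  have hmem : ∀ g ∈ MulAction.stabilizer G m, ∀ {a : R}, a ∈ m → g • a ∈ m := fun g hg {a} ha => by
    have h := Ideal.smul_mem_pointwise_smul g a m ha
    rwa [MulAction.mem_stabilizer_iff.1 hg] at h
  have hres : ∀ g ∈ MulAction.stabilizer G m, ∀ r : R, g • r - r ∈ m := fun g hg r => by
    obtain ⟨c, hc⟩ := hsurj r
    have h : g • (r - algebraMap k R c) ∈ m := hmem g hg hc
    rw [smul_sub, smul_algebraMap] at h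
    simpa using m.sub_mem h hc
  constructor
  · intro he
    let L := Localization.AtPrime m
    let M := IsLocalRing.maximalIdeal L
    haveI : Algebra.FormallyEtale B L := he
    refine (Subgroup.eq_bot_iff_forall _).2 fun g hg => ?_
    let φ : R →ₐ[B] L := (IsScalarTower.toAlgHom B R L).comp (MulSemiringAction.toAlgHom B R g)
    have hu : ∀ s : m.primeCompl, IsUnit (φ s) := fun s => by
      refine IsLocalization.map_units L (⟨g • (s : R), fun h => s.2 ?_⟩ : m.primeCompl)
      have h' := m.sub_mem h (hres g hg (s : R))
      simpa using h'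
    let ψ : L →ₐ[B] L := IsLocalization.liftAlgHom hu
    have hψ : ∀ r, ψ (algebraMap R L r) = algebraMap R L (g • r) := fun r => IsLocalization.lift_eq _ r
    have hH : ∀ x, Ideal.Quotient.mk M (ψ x) = Ideal.Quotient.mk M (AlgHom.id B L x) := by
      have h : (Ideal.Quotient.mk M).comp ψ.toRingHom = Ideal.Quotient.mk M := by
        refine IsLocalization.ringHom_ext m.primeCompl (RingHom.ext fun r => ?_)
        show Ideal.Quotient.mk M (ψ (algebraMap R L r)) = Ideal.Quotient.mk M (algebraMap R L r)
        rw [hψ, Ideal.Quotient.eq, ← map_sub]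
        exact (IsLocalization.AtPrime.to_map_mem_maximal_iff L m _).2 (hres g hg r)
      exact fun x => RingHom.congr_fun h x
    have hid : ψ = AlgHom.id B L := Algebra.FormallyUnramified.ext_of_iInf M
      (Ideal.iInf_pow_eq_bot_of_isLocalRing M (IsLocalRing.maximalIdeal.isMaximal L).ne_top) hH
    refine FaithfulSMul.eq_of_smul_eq_smul (α := R) fun r => ?_
    rw [one_smul]
    refine IsLocalization.injective L m.primeCompl_le_nonZeroDivisors ?_
    rw [← hψ, hid, AlgHom.id_apply]
  · intro hst
    have hin : m.inertia G = ⊥ := by
      refine le_bot_iff.1 (hst ▸ fun g hg => ?_)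
      refine MulAction.mem_stabilizer_iff.2 (Ideal.ext fun a => ?_)
      rw [Ideal.mem_pointwise_smul_iff_inv_smul_mem]
      have h : g⁻¹ • a - a ∈ m := (m.inertia G).inv_mem hg a
      exact ⟨fun ha => by simpa using m.sub_mem ha h, fun ha => by simpa using m.add_mem h ha⟩
    let e : Shrink.{v} G ≃* G := Shrink.mulEquiv
    letI : MulSemiringAction (Shrink.{v} G) R := MulSemiringAction.compHom R e.toMonoidHom
    haveI : Finite (Shrink.{v} G) := Finite.of_equiv G (equivShrink.{v} G)
    have hin' : m.inertia (Shrink.{v} G) = ⊥ := (Subgroup.eq_bot_iff_forall _).2 fun g hg => by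
      have h : e g ∈ m.inertia G := hg
      rw [hin, Subgroup.mem_bot] at h
      exact e.map_eq_one_iff.1 h
    obtain ⟨u, hu, het⟩ := S0271.result (Shrink.{v} G) R m
    let T := FixedPoints.subring R (Shrink.{v} G)
    let U := FixedPoints.subring R (m.inertia (Shrink.{v} G))
    have hU : Function.Bijective (algebraMap U R) := ⟨Subtype.val_injective, fun r => ⟨⟨r, fun g => by
      have : g = 1 := Subtype.ext ((Subgroup.eq_bot_iff_forall _).1 hin' _ g.2)
      rw [this, one_smul]⟩, rfl⟩⟩
    haveI : Algebra.FormallyEtale T (Localization.Away u) := het.formallyEtale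
    haveI : Algebra.IsEtaleAt T (m.comap U.subtype) :=
      (Algebra.basicOpen_subset_etaleLocus_iff.2 ‹_›) (show (⟨m.comap U.subtype, inferInstance⟩ : PrimeSpectrum U) ∈ _ from hu)
    haveI : Algebra.FormallyEtale U R := .of_equiv (AlgEquiv.ofBijective (Algebra.ofId U R) hU)
    haveI : Algebra.IsEtaleAt U m := Algebra.FormallyEtale.comp U R _
    haveI : m.LiesOver (m.comap U.subtype) := ⟨rfl⟩
    haveI : IsScalarTower T U R := IsScalarTower.of_algebraMap_eq fun _ => rfl
    haveI : Algebra.FormallyEtale T (Localization.AtPrime m) := Algebra.IsEtaleAt.comp (m.comap U.subtype) m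
    let j : B →+* T := (algebraMap B R).codRestrict T fun b g => smul_algebraMap (e g) b
    letI : Algebra B T := j.toAlgebra
    haveI : IsScalarTower B T (Localization.AtPrime m) := IsScalarTower.of_algebraMap_eq fun b =>
      IsScalarTower.algebraMap_apply B R (Localization.AtPrime m) b
    have hj : Function.Bijective j := ⟨fun a b h => FaithfulSMul.algebraMap_injective B R (congrArg Subtype.val h),
      fun x => by
        obtain ⟨b, hb⟩ := Algebra.IsInvariant.isInvariant (A := B) (G := G) (x : R) fun g => by
          have h : e (e.symm g) • (x : R) = x := x.2 (e.symm g)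
          rwa [e.apply_symm_apply] at h
        exact ⟨b, Subtype.ext hb⟩⟩
    haveI : Algebra.FormallyEtale B T := .of_equiv (AlgEquiv.ofBijective (Algebra.ofId B T) hj)
    exact Algebra.FormallyEtale.comp B T (Localization.AtPrime m)

end Groth.Agent.S19402
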