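import Groth.Statements.S19403
import Groth.Agent.H20ZMT.Basic
-- import your own Groth.Agent.* helpers here

set_option autoImplicit false
universe u
open TensorProduct
open GLin

namespace Groth.Agent.S19403
open Groth.Agent

/-- The equivariant form of Zariski's Main Theorem. Let k be an algebraically closed field of
characteristic zero, A a finitely generated commutative Hopf algebra over k all of whose
finite-dimensional comodules are semisimple (a reductive group G), R and S finitely generated
commutative k-algebras with multiplicative A-coactions (G acting on the affine schemes X = Spec R, Y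
= Spec S), and S → R an algebra map compatible with the coactions (a G-morphism φ : X → Y) which is
quasi-finite. Then there exist a finitely generated commutative k-algebra B with a multiplicative
A-coaction (an affine G-scheme Z), an algebra map ψ : S → B compatible with the coactions and
finite, and an algebra map i : B → R compatible with the coactions such that Spec R → Spec B is an
open immersion, with i ∘ ψ the given map S → R (φ factors as an equivariant open immersion followed
by a finite G-morphism). -/
theorem result (k : Type u) [Field k] [IsAlgClosed k] [CharZero k]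
    (A : Type u) [CommRing A] [HopfAlgebra k A] [Algebra.FiniteType k A] (hG : HopfRep.IsLinearlyReductive k A)
    (S : Type u) [CommRing S] [Algebra k S] [Algebra.FiniteType k S] [HopfRep.Comod k A S] [GLin.IsCoactAlg k A S]
    (R : Type u) [CommRing R] [Algebra k R] [Algebra.FiniteType k R] [HopfRep.Comod k A R] [GLin.IsCoactAlg k A R]
    [Algebra S R] [IsScalarTower k S R] [Algebra.QuasiFinite S R]
    (hequiv : (∀ s : S, HopfRep.Comod.coact (k := k) (A := A) (algebraMap S R s) =
      Algebra.TensorProduct.map (IsScalarTower.toAlgHom k S R) (AlgHom.id k A) (HopfRep.Comod.coact (k := k) (A := A) s))) :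
    ∃ (B : Type u) (_ : CommRing B) (_ : Algebra k B) (_ : HopfRep.Comod k A B) (_ : GLin.IsCoactAlg k A B),
      Algebra.FiniteType k B ∧
      ∃ (ψ : S →ₐ[k] B) (i : B →ₐ[k] R),
        (∀ s : S, HopfRep.Comod.coact (k := k) (A := A) (ψ s) =
        Algebra.TensorProduct.map ψ (AlgHom.id k A) (HopfRep.Comod.coact (k := k) (A := A) s)) ∧
        (∀ s : B, HopfRep.Comod.coact (k := k) (A := A) (i s) =
        Algebra.TensorProduct.map i (AlgHom.id k A) (HopfRep.Comod.coact (k := k) (A := A) s)) ∧
        i.comp ψ = IsScalarTower.toAlgHom k S R ∧ ψ.toRingHom.Finite ∧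
        AlgebraicGeometry.IsOpenImmersion (AlgebraicGeometry.Spec.map (CommRingCat.ofHom i.toRingHom)) := by
  classical
  haveI : _root_.IsReduced A := H19Grp.HopfReduced.isReduced_of_finiteType (k := k) (A := A)
  haveI : Algebra.FiniteType S R := Algebra.FiniteType.of_restrictScalars_finiteType k S R
  have hf : Hoch.IsComodHom A (IsScalarTower.toAlgHom k S R).toLinearMap := LinearMap.ext fun s => hequiv s
  let C : Submodule k R := (Subalgebra.toSubmodule (integralClosure S R)).restrictScalars k
  have hC : HopfRep.IsSubcomod (k := k) (A := A) C := H20ZMT.isSubcomod_integralClosure hf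
  have hz : ∀ p : PrimeSpectrum R, ∃ r : R, r ∉ p.asIdeal ∧ IsIntegral S r ∧ ∀ x, ∃ m, IsIntegral S (r ^ m * x) :=
    fun p => by
      obtain ⟨r, h1, h2, h3⟩ := Algebra.zariskisMainProperty_iff.1
        (Algebra.ZariskisMainProperty.of_finiteType (R := S) p.asIdeal)
      exact ⟨r, h1, h2, h3⟩
  choose r hr hri hrx using hz
  obtain ⟨P, hP⟩ := isCompact_univ.elim_finite_subcover (fun p : PrimeSpectrum R => (PrimeSpectrum.basicOpen (r p) : Set (PrimeSpectrum R)))
    (fun p => (PrimeSpectrum.basicOpen (r p)).isOpen) (fun p _ => Set.mem_iUnion.2 ⟨p, hr p⟩)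
  obtain ⟨X, hX⟩ := Algebra.FiniteType.out (R := k) (A := R)
  let T : Finset R := P.image r ∪ (P ×ˢ X).image fun q => r q.1 ^ (hrx q.1 q.2).choose * q.2
  have hTC : (T : Set R) ⊆ C := by
    intro t ht
    rcases Finset.mem_union.1 ht with h | h
    · obtain ⟨p, -, rfl⟩ := Finset.mem_image.1 h
      exact hri p
    · obtain ⟨q, -, rfl⟩ := Finset.mem_image.1 h
      exact (hrx q.1 q.2).choose_spec
  let W : Submodule k R := H20Comod.gen k A (T : Set R)
  haveI : Module.Finite k W := H20Comod.finite_gen T.finite_toSet
  have hWsub : HopfRep.IsSubcomod (k := k) (A := A) W := H20Comod.isSubcomod_gen _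
  have hWC : W ≤ C := H20Comod.gen_le hC hTC
  obtain ⟨s, hs⟩ := (Module.Finite.iff_fg.1 ‹Module.Finite k W›)
  let B₀ : Subalgebra S R := Algebra.adjoin S (s : Set R)
  let Bk : Subalgebra k R := B₀.restrictScalars k
  have hWB : W ≤ Subalgebra.toSubmodule Bk := by
    rw [← hs, Submodule.span_le]
    exact Algebra.subset_adjoin
  let D : Subalgebra k R := (Algebra.TensorProduct.map Bk.val (AlgHom.id k A)).range.comap (GLin.coactAlgHom k A R)
  have hψD : ∀ x : S, algebraMap S R x ∈ D := by
    intro x
    refine ⟨Algebra.TensorProduct.map ((IsScalarTower.toAlgHom k S R).codRestrict Bk fun y => B₀.algebraMap_mem y)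
      (AlgHom.id k A) (HopfRep.Comod.coact (k := k) (A := A) x), ?_⟩
    show Algebra.TensorProduct.map _ _ _ = HopfRep.Comod.coact (k := k) (A := A) (algebraMap S R x)
    rw [hequiv]
    generalize HopfRep.Comod.coact (k := k) (A := A) x = z
    induction z using TensorProduct.induction_on with
    | zero => simp
    | tmul y a => simp
    | add z z' h h' => simp only [map_add, h, h']
  have hWD : ∀ w ∈ W, w ∈ D := by
    intro w hw
    obtain ⟨z, hz'⟩ := hWsub w hw
    refine ⟨LinearMap.rTensor A (Submodule.inclusion hWB) z, ?_⟩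
    show Algebra.TensorProduct.map _ _ _ = HopfRep.Comod.coact (k := k) (A := A) w
    rw [← hz']
    clear hz'
    induction z using TensorProduct.induction_on with
    | zero => simp
    | tmul y a => rfl
    | add z z' h h' => simp only [map_add, h, h']
  have hBD : ∀ b ∈ Bk, b ∈ D := by
    intro b hb
    refine Algebra.adjoin_induction (fun x hx => hWD x (hs ▸ Submodule.subset_span hx)) hψD
      (fun x y _ _ hx hy => add_mem hx hy) (fun x y _ _ hx hy => mul_mem hx hy) (show b ∈ B₀ from hb)
  have hBsub : HopfRep.IsSubcomod (k := k) (A := A) (Subalgebra.toSubmodule Bk) := by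
    intro b hb
    obtain ⟨z, hz'⟩ := hBD b hb
    exact ⟨z, hz'⟩
  obtain ⟨c, hc, hspec⟩ := H20ZMT.exists_comod_subalgebra (A := A) Bk hBsub
  haveI hfinS : Module.Finite S B₀ := Module.Finite.iff_fg.2 (fg_adjoin_of_finite s.finite_toSet
    fun x hx => hWC (hs ▸ Submodule.subset_span hx))
  haveI : Algebra.FiniteType k B₀ := Algebra.FiniteType.trans (S := S) inferInstance inferInstance
  refine ⟨Bk, inferInstance, inferInstance, c, hc, inferInstanceAs (Algebra.FiniteType k B₀),
    (IsScalarTower.toAlgHom k S R).codRestrict Bk (fun y => B₀.algebraMap_mem y), Bk.val, fun x => ?_, hspec, rfl,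
    RingHom.finite_algebraMap.2 hfinS, ?_⟩
  · refine Module.Flat.rTensor_preserves_injective_linearMap (M := A) Bk.val.toLinearMap Subtype.val_injective ?_
    refine (hspec _).symm.trans ((hequiv x).trans ?_)
    generalize HopfRep.Comod.coact (k := k) (A := A) x = z
    induction z using TensorProduct.induction_on with
    | zero => simp
    | tmul y a => simp
    | add z z' h h' => simp only [map_add, h, h']
  · letI : Algebra Bk R := Bk.val.toRingHom.toAlgebra
    refine H20ZMT.isOpenImmersion_of_cover (B := Bk) (R := R) Subtype.val_injective fun p hp => ?_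
    obtain ⟨q, hqP, hq⟩ := Set.mem_iUnion₂.1 (hP (Set.mem_univ (⟨p, hp⟩ : PrimeSpectrum R)))
    have hTB : ∀ t ∈ T, t ∈ Bk := fun t ht => hWB (H20Comod.subset_gen _ ht)
    have hrB : r q ∈ Bk := hTB _ (Finset.mem_union_left _ (Finset.mem_image_of_mem _ hqP))
    refine ⟨⟨r q, hrB⟩, hq, fun x => ?_⟩
    have hall : ∀ y : R, ∃ m : ℕ, r q ^ m * y ∈ Bk := by
      intro y
      have hy : y ∈ Algebra.adjoin k (X : Set R) := hX ▸ trivial
      induction hy using Algebra.adjoin_induction with
      | mem y hy => exact ⟨_, hTB _ (Finset.mem_union_right _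
          (Finset.mem_image.2 ⟨(q, y), Finset.mem_product.2 ⟨hqP, hy⟩, rfl⟩))⟩
      | algebraMap a => exact ⟨0, by rw [pow_zero, one_mul]; exact Bk.algebraMap_mem a⟩
      | add u v _ _ hu hv =>
        obtain ⟨m, hm⟩ := hu
        obtain ⟨n, hn⟩ := hv
        refine ⟨m + n, ?_⟩
        rw [mul_add, pow_add, show r q ^ m * r q ^ n * u = r q ^ n * (r q ^ m * u) by ring, mul_assoc (r q ^ m)]
        exact add_mem (mul_mem (pow_mem hrB _) hm) (mul_mem (pow_mem hrB _) hn)
      | mul u v _ _ hu hv =>
        obtain ⟨m, hm⟩ := hu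
        obtain ⟨n, hn⟩ := hv
        refine ⟨m + n, ?_⟩
        rw [pow_add, show r q ^ m * r q ^ n * (u * v) = (r q ^ m * u) * (r q ^ n * v) by ring]
        exact mul_mem hm hn
    obtain ⟨m, hm⟩ := hall x
    exact ⟨m, ⟨_, hm⟩, rfl⟩

end Groth.Agent.S19403
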