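import Groth.Statements.S19404
import Groth.Agent.H20Slice.Stab

set_option autoImplicit false
universe u
open TensorProduct
open GLin

namespace Groth.Agent.S19404

/-- Let k be an algebraically closed field of characteristic zero, A a finitely generated commutative
Hopf algebra over k which is an integral domain and all of whose finite-dimensional comodules are
semisimple (a connected reductive group G), R a reduced finitely generated commutative k-algebra
with a multiplicative A-coaction (G acting on the affine variety X = Spec R), and x a k-point of X
whose orbit is closed. Then there is a G-invariant function f on X with f(x) ≠ 0 (so the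
non-vanishing locus X_f is a saturated open neighbourhood of x) such that for every k-point x' of X
with f(x') ≠ 0 whose orbit is closed there is a k-point g of G with the stabilizer ideal of x
contained in the stabilizer ideal of the translate of x' by g: the stabilizer of x' is conjugate to
a subgroup of the stabilizer of x. (The published statement allows any reductive G; the argument in
the source is complete for connected G, which is assumed here.) -/
theorem result (k : Type u) [Field k] [IsAlgClosed k] [CharZero k]
    (A : Type u) [CommRing A] [IsDomain A] [HopfAlgebra k A] [Algebra.FiniteType k A] (hG : HopfRep.IsLinearlyReductive k A)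
    (R : Type u) [CommRing R] [IsReduced R] [Algebra k R] [Algebra.FiniteType k R] [HopfRep.Comod k A R] [GLin.IsCoactAlg k A R]
    (x : R →ₐ[k] k) (hx : GLin.IsClosedOrbit k A x) :
    ∃ f ∈ GLin.invariants k A R, x f ≠ 0 ∧
      ∀ x' : R →ₐ[k] k, x' f ≠ 0 → GLin.IsClosedOrbit k A x' →
        ∃ g : A →ₐ[k] k, GLin.stabIdeal k A x ≤ GLin.stabIdeal k A (GLin.actPt k g x') := by
  obtain ⟨f, hf, hfx, h⟩ := Groth.Agent.H20Slice.exists_nhd_stab_le hG x hx
  exact ⟨f, hf, hfx, fun x' hx' _ => h x' hx'⟩

end Groth.Agent.S19404
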