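import Groth.Statements.S19405
import Groth.Agent.H20Luna.Fundamental
import Mathlib.RingTheory.Ideal.GoingUp

set_option autoImplicit false
universe u
open TensorProduct
open GLin

namespace Groth.Agent.S19405

/-- Let k be an algebraically closed field of characteristic zero, A a finitely generated commutative
Hopf algebra over k which is an integral domain and all of whose finite-dimensional comodules are
semisimple (a connected reductive group G), S and R finitely generated commutative k-algebras which
are integrally closed domains, with multiplicative A-coactions (G acting on the normal irreducible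
affine varieties Y = Spec S and X = Spec R), and S → R an algebra map compatible with the coactions
(a G-morphism θ : X → Y) which is finite. Let S₀ → S and R₀ → R be injective k-algebra maps whose
images are exactly the subrings of invariants, and S₀ → R₀ an algebra map with S₀ → R₀ → R equal to
S₀ → S → R (the induced morphism θ/G : X//G → Y//G). Let x be a k-point of X whose orbit is closed,
m its kernel (a maximal ideal of R), suppose R is étale over S at m (θ étale at x), and suppose
every k-point of G fixing the image point θ(x) fixes x (θ is injective on the orbit of x). Then R₀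
is étale over S₀ at the prime of R₀ under the kernel of x (θ/G is étale at the image of x in X//G).
(The published statement allows any reductive G and normal X, Y; the argument given is for connected
G and irreducible X, Y, assumed here.) -/
theorem result (k : Type u) [Field k] [IsAlgClosed k] [CharZero k]
    (A : Type u) [CommRing A] [IsDomain A] [HopfAlgebra k A] [Algebra.FiniteType k A] (hG : HopfRep.IsLinearlyReductive k A)
    (S : Type u) [CommRing S] [IsDomain S] [IsIntegrallyClosed S] [Algebra k S] [Algebra.FiniteType k S]
    [HopfRep.Comod k A S] [GLin.IsCoactAlg k A S]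
    (R : Type u) [CommRing R] [IsDomain R] [IsIntegrallyClosed R] [Algebra k R] [Algebra.FiniteType k R]
    [HopfRep.Comod k A R] [GLin.IsCoactAlg k A R]
    [Algebra S R] [IsScalarTower k S R] [Module.Finite S R]
    (hequiv : (∀ s : S, HopfRep.Comod.coact (k := k) (A := A) (algebraMap S R s) =
      Algebra.TensorProduct.map (IsScalarTower.toAlgHom k S R) (AlgHom.id k A) (HopfRep.Comod.coact (k := k) (A := A) s)))
    (S₀ : Type u) [CommRing S₀] [Algebra k S₀] [Algebra S₀ S] [IsScalarTower k S₀ S]
    (hS₀i : Function.Injective (algebraMap S₀ S)) (hS₀ : (IsScalarTower.toAlgHom k S₀ S).range = GLin.invariants k A S)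
    (R₀ : Type u) [CommRing R₀] [Algebra k R₀] [Algebra R₀ R] [IsScalarTower k R₀ R]
    (hR₀i : Function.Injective (algebraMap R₀ R)) (hR₀ : (IsScalarTower.toAlgHom k R₀ R).range = GLin.invariants k A R)
    [Algebra S₀ R₀] [Algebra S₀ R] [IsScalarTower S₀ S R] [IsScalarTower S₀ R₀ R]
    (x : R →ₐ[k] k) (hx : GLin.IsClosedOrbit k A x) (m : Ideal R) [m.IsMaximal] (hm : m = RingHom.ker x.toRingHom)
    (het : Algebra.IsEtaleAt S m)
    (hinj : ∀ g : A →ₐ[k] k, GLin.actPt k g (x.comp (IsScalarTower.toAlgHom k S R)) = x.comp (IsScalarTower.toAlgHom k S R) →
      GLin.actPt k g x = x) :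
    Algebra.IsEtaleAt S₀ (Ideal.comap (algebraMap R₀ R) m) := by
  subst hm
  haveI hp : (RingHom.ker x).IsPrime := RingHom.ker_isPrime x
  refine Groth.Agent.H20Luna.isEtaleAt_invariants hequiv x hG hx ?_ hinj het hS₀i hS₀ hR₀i hR₀
  haveI : Algebra.IsIntegral S R := Algebra.IsIntegral.of_finite S R
  have hcl : IsClosedMap (PrimeSpectrum.comap (algebraMap S R)) :=
    PrimeSpectrum.isClosedMap_comap_of_isIntegral _ (algebraMap_isIntegral_iff.2 inferInstance)
  have he : (GLin.orbitHom k A (x.comp (IsScalarTower.toAlgHom k S R))).toRingHom =
      (GLin.orbitHom k A x).toRingHom.comp (algebraMap S R) :=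
    RingHom.ext fun s => (Groth.Agent.H20Luna.orbitHom_algebraMap hequiv x s).symm
  show IsClosed _
  rw [he, PrimeSpectrum.comap_comp]
  erw [Set.range_comp]
  exact hcl _ hx

end Groth.Agent.S19405
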