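import Groth.Statements.S19406
import Groth.Agent.H20Comod.OrbitFun

set_option autoImplicit false
universe u
open TensorProduct
open GLin

namespace Groth.Agent.S19406

/-- Let k be an algebraically closed field of characteristic zero, A a finitely generated commutative
Hopf algebra over k which is an integral domain and all of whose finite-dimensional comodules are
semisimple (a connected reductive group G), R a reduced finitely generated commutative k-algebra
with a multiplicative A-coaction (G acting on the affine variety X = Spec R), and χ a group-like
element of A (a character of G). Then there is a set E of G-invariant functions on X such that, for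
every k-point x of X whose orbit is closed, χ − 1 lies in the stabilizer ideal of x (χ is trivial on
the stabilizer of x) if and only if some member of E does not vanish at x: the set of points of X//G
over which the closed orbit has stabilizer on which χ is trivial is open. (The published statement
allows any reductive G; this row assumes G connected, the case the source's argument covers.) -/
theorem result (k : Type u) [Field k] [IsAlgClosed k] [CharZero k]
    (A : Type u) [CommRing A] [IsDomain A] [HopfAlgebra k A] [Algebra.FiniteType k A] (hG : HopfRep.IsLinearlyReductive k A)
    (R : Type u) [CommRing R] [IsReduced R] [Algebra k R] [Algebra.FiniteType k R] [HopfRep.Comod k A R] [GLin.IsCoactAlg k A R]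
    (χ : A) (hχ : IsGroupLikeElem k χ) :
    ∃ E : Set R, E ⊆ GLin.invariants k A R ∧
      ∀ x : R →ₐ[k] k, GLin.IsClosedOrbit k A x →
        (χ - 1 ∈ GLin.stabIdeal k A x ↔ ∃ f ∈ E, x f ≠ 0) := by
  exact H20Comod.exists_cutting_set hG hχ

end Groth.Agent.S19406
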