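import Groth.Statements.S19407
import Groth.Agent.H20Luna.Saturated

set_option autoImplicit false
universe u
open TensorProduct
open GLin

set_option maxHeartbeats 1000000
set_option synthInstance.maxHeartbeats 100000
set_option backward.isDefEq.respectTransparency false

namespace Groth.Agent.S19407

/-- With explicit neighbourhoods: let k be an algebraically closed field of characteristic zero, A a
finitely generated commutative Hopf algebra over k which is an integral domain and all of whose
finite-dimensional comodules are semisimple (a connected reductive group G), S and R reduced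
finitely generated commutative k-algebras with multiplicative A-coactions (G acting on the affine
varieties Y = Spec S and X = Spec R), S → R an algebra map compatible with the coactions (a
G-morphism θ : X → Y), S₀ → S and R₀ → R injective k-algebra maps whose images are exactly the
subrings of invariants, and S₀ → R₀ an algebra map with S₀ → R₀ → R equal to S₀ → S → R (the
morphism θ/G : X//G → Y//G). Let x be a k-point of X with kernel m such that the local ring of R at
m is an integrally closed domain (X normal at x), R is étale over S at m (θ étale at x), the orbit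
of the image point θ(x) is closed, and every k-point of G fixing θ(x) fixes x (θ injective on the
orbit of x). Then there are f ∈ R₀ and g ∈ S₀ with f and g non-vanishing at x such that, writing h
for the image of f·g in R (so that U = X_h is a saturated affine open neighbourhood of x and V = Y_g
a saturated affine open of Y): every prime of S not containing g is the contraction of a prime of R
not containing h (θ maps U onto V); R is étale over S at every prime not containing h; every k-point
of U with closed orbit maps to a point with closed orbit; R₀ is étale over S₀ at every prime not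
containing f·g (θ/G étale on U//G); and the canonical map S ⊗_{S₀} R₀ → R has every element of its
kernel killed by a power of f·g and every element of R multiplied into its image by a power of h (it
becomes an isomorphism over U//G, i.e. U ≅ V ×_{V//G} U//G): the restriction of θ to U is a strongly
étale G-morphism onto V. (The published statement allows any reductive G; the argument in the source
is complete for connected G, assumed here.) -/
theorem result (k : Type u) [Field k] [IsAlgClosed k] [CharZero k]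
    (A : Type u) [CommRing A] [IsDomain A] [HopfAlgebra k A] [Algebra.FiniteType k A] (hG : HopfRep.IsLinearlyReductive k A)
    (S : Type u) [CommRing S] [IsReduced S] [Algebra k S] [Algebra.FiniteType k S] [HopfRep.Comod k A S] [GLin.IsCoactAlg k A S]
    (R : Type u) [CommRing R] [IsReduced R] [Algebra k R] [Algebra.FiniteType k R] [HopfRep.Comod k A R] [GLin.IsCoactAlg k A R]
    [Algebra S R] [IsScalarTower k S R]
    (hequiv : (∀ s : S, HopfRep.Comod.coact (k := k) (A := A) (algebraMap S R s) =
      Algebra.TensorProduct.map (IsScalarTower.toAlgHom k S R) (AlgHom.id k A) (HopfRep.Comod.coact (k := k) (A := A) s)))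
    (S₀ : Type u) [CommRing S₀] [Algebra k S₀] [Algebra S₀ S] [IsScalarTower k S₀ S]
    (hS₀i : Function.Injective (algebraMap S₀ S)) (hS₀ : (IsScalarTower.toAlgHom k S₀ S).range = GLin.invariants k A S)
    (R₀ : Type u) [CommRing R₀] [Algebra k R₀] [Algebra R₀ R] [IsScalarTower k R₀ R]
    (hR₀i : Function.Injective (algebraMap R₀ R)) (hR₀ : (IsScalarTower.toAlgHom k R₀ R).range = GLin.invariants k A R)
    [Algebra S₀ R₀] [Algebra S₀ R] [IsScalarTower S₀ S R] [IsScalarTower S₀ R₀ R]
    (x : R →ₐ[k] k) (m : Ideal R) [m.IsMaximal] (hm : m = RingHom.ker x.toRingHom)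
    [IsDomain (Localization.AtPrime m)] [IsIntegrallyClosed (Localization.AtPrime m)]
    (het : Algebra.IsEtaleAt S m)
    (hy : GLin.IsClosedOrbit k A (x.comp (IsScalarTower.toAlgHom k S R)))
    (hinj : ∀ g : A →ₐ[k] k, GLin.actPt k g (x.comp (IsScalarTower.toAlgHom k S R)) = x.comp (IsScalarTower.toAlgHom k S R) →
      GLin.actPt k g x = x) :
    ∃ (f : R₀) (g : S₀), x (algebraMap R₀ R (f * algebraMap S₀ R₀ g)) ≠ 0 ∧
      (∀ P : Ideal S, P.IsPrime → algebraMap S₀ S g ∉ P →
        ∃ Q : Ideal R, Q.IsPrime ∧ algebraMap R₀ R (f * algebraMap S₀ R₀ g) ∉ Q ∧ Q.comap (algebraMap S R) = P) ∧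
      (∀ (Q : Ideal R) [Q.IsPrime], algebraMap R₀ R (f * algebraMap S₀ R₀ g) ∉ Q → Algebra.IsEtaleAt S Q) ∧
      (∀ x' : R →ₐ[k] k, x' (algebraMap R₀ R (f * algebraMap S₀ R₀ g)) ≠ 0 → GLin.IsClosedOrbit k A x' →
        GLin.IsClosedOrbit k A (x'.comp (IsScalarTower.toAlgHom k S R))) ∧
      (∀ (q : Ideal R₀) [q.IsPrime], f * algebraMap S₀ R₀ g ∉ q → Algebra.IsEtaleAt S₀ q) ∧
      (∀ z : S ⊗[S₀] R₀, Algebra.TensorProduct.productMap (IsScalarTower.toAlgHom S₀ S R) (IsScalarTower.toAlgHom S₀ R₀ R) z = 0 →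
        ∃ n : ℕ, ((1 : S) ⊗ₜ[S₀] (f * algebraMap S₀ R₀ g)) ^ n * z = 0) ∧
      (∀ r : R, ∃ (n : ℕ) (z : S ⊗[S₀] R₀),
        Algebra.TensorProduct.productMap (IsScalarTower.toAlgHom S₀ S R) (IsScalarTower.toAlgHom S₀ R₀ R) z =
          algebraMap R₀ R (f * algebraMap S₀ R₀ g) ^ n * r) := by
  subst hm
  haveI hp : (RingHom.ker x).IsPrime := RingHom.ker_isPrime x
  replace het : Algebra.IsEtaleAt S (RingHom.ker x) := het
  have hx := Groth.Agent.H20Luna.isClosedOrbit_of_isClosedOrbit_map hequiv x het hy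
  obtain ⟨α, hα, h1⟩ := Groth.Agent.H20Comod.exists_isIntegral_of_isLinearlyReductive hG
  haveI : IsScalarTower k S₀ R₀ := IsScalarTower.of_algebraMap_eq fun c => hR₀i (by
    rw [← IsScalarTower.algebraMap_apply S₀ R₀ R, IsScalarTower.algebraMap_apply S₀ S R,
      ← IsScalarTower.algebraMap_apply k S₀ S, ← IsScalarTower.algebraMap_apply k S R,
      ← IsScalarTower.algebraMap_apply k R₀ R])
  haveI := Groth.Agent.H20Luna.finiteType_invariants (k := k) (A := A) hα h1 hS₀i hS₀
  haveI := Groth.Agent.H20Luna.finiteType_invariants (k := k) (A := A) hα h1 hR₀i hR₀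
  haveI : IsNoetherianRing S₀ := Algebra.FiniteType.isNoetherianRing k S₀
  haveI : Algebra.FiniteType S₀ R₀ := Algebra.FiniteType.of_restrictScalars_finiteType k S₀ R₀
  haveI : Algebra.FinitePresentation S₀ R₀ := Algebra.FinitePresentation.of_finiteType.mp inferInstance
  obtain ⟨a, ha, hker, hrange⟩ :=
    Groth.Agent.H20Luna.exists_cartesian_nhd hequiv hG x hx hy hinj het hS₀i hS₀ hR₀i hR₀
  haveI := Groth.Agent.H20Luna.isEtaleAt_invariants hequiv x hG hx hy hinj het hS₀i hS₀ hR₀i hR₀
  obtain ⟨h, hh, hEt⟩ := Algebra.exists_etale_of_isEtaleAt (R := S₀) ((RingHom.ker x).comap (algebraMap R₀ R))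
  -- the image of a neighbourhood in the quotient is open
  have hopen : IsOpenMap (PrimeSpectrum.comap (algebraMap S₀ (Localization.Away h))) :=
    PrimeSpectrum.isOpenMap_comap_of_hasGoingDown_of_finitePresentation
  have hU := hopen _ (PrimeSpectrum.basicOpen (algebraMap R₀ (Localization.Away h) a)).isOpen
  have hqa : a ∉ (RingHom.ker x).comap (algebraMap R₀ R) := fun hm => by
    rw [Ideal.mem_comap, RingHom.mem_ker, ha] at hm
    exact one_ne_zero hm
  obtain ⟨M, hM⟩ : (⟨(RingHom.ker x).comap (algebraMap R₀ R), Ideal.comap_isPrime _ _⟩ : PrimeSpectrum R₀) ∈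
      Set.range (PrimeSpectrum.comap (algebraMap R₀ (Localization.Away h))) := by
    rw [PrimeSpectrum.localization_away_comap_range _ h]
    exact hh
  have hMq : M.asIdeal.comap (algebraMap R₀ (Localization.Away h)) = (RingHom.ker x).comap (algebraMap R₀ R) :=
    congrArg PrimeSpectrum.asIdeal hM
  have hpU : PrimeSpectrum.comap (algebraMap S₀ (Localization.Away h)) M ∈
      PrimeSpectrum.comap (algebraMap S₀ (Localization.Away h)) ''
        PrimeSpectrum.basicOpen (algebraMap R₀ (Localization.Away h) a) :=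
    Set.mem_image_of_mem _ fun hm => hqa (hMq ▸ hm)
  obtain ⟨_, ⟨_, ⟨g, rfl⟩, rfl⟩, hgp, hgU⟩ :=
    PrimeSpectrum.isBasis_basic_opens.exists_subset_of_mem_open hpU hU
  have hgx : x (algebraMap R₀ R (algebraMap S₀ R₀ g)) ≠ 0 := fun h0 => hgp (by
    show algebraMap S₀ (Localization.Away h) g ∈ M.asIdeal
    rw [IsScalarTower.algebraMap_apply S₀ R₀ (Localization.Away h), ← Ideal.mem_comap, hMq]
    exact h0)
  let F : R₀ := a * h * algebraMap S₀ R₀ g
  letI : Algebra (S ⊗[S₀] R₀) R :=
    (Algebra.TensorProduct.productMap (IsScalarTower.toAlgHom S₀ S R) (IsScalarTower.toAlgHom S₀ R₀ R)).toRingHom.toAlgebra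
  have hψ : ∀ (s : S) (r : R₀), algebraMap (S ⊗[S₀] R₀) R (s ⊗ₜ[S₀] r) = algebraMap S R s * algebraMap R₀ R r :=
    fun s r => by
      show Algebra.TensorProduct.productMap _ _ (s ⊗ₜ[S₀] r) = _
      simp
  haveI : IsScalarTower S (S ⊗[S₀] R₀) R := IsScalarTower.of_algebraMap_eq fun s => by
    rw [Algebra.TensorProduct.algebraMap_apply, Algebra.algebraMap_self, RingHom.id_apply, hψ, map_one, mul_one]
  have hkerF : ∀ z : S ⊗[S₀] R₀, algebraMap (S ⊗[S₀] R₀) R z = 0 → ((1 : S) ⊗ₜ[S₀] F) * z = 0 := fun z hz => by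
    rw [show (1 : S) ⊗ₜ[S₀] F = ((1 : S) ⊗ₜ[S₀] (h * algebraMap S₀ R₀ g)) * ((1 : S) ⊗ₜ[S₀] a) by
      rw [Algebra.TensorProduct.tmul_mul_tmul, one_mul]; congr 1; ring, mul_assoc, hker z hz, mul_zero]
  have hrangeF : ∀ r : R, ∃ (n : ℕ) (z : S ⊗[S₀] R₀),
      algebraMap (S ⊗[S₀] R₀) R z = algebraMap R₀ R F ^ n * r := fun r => by
    obtain ⟨n, z, hz⟩ := hrange r
    refine ⟨n, ((1 : S) ⊗ₜ[S₀] ((h * algebraMap S₀ R₀ g) ^ n)) * z, ?_⟩
    rw [map_mul, hψ, map_one, one_mul, show algebraMap (S ⊗[S₀] R₀) R z = algebraMap R₀ R a ^ n * r from hz]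
    simp only [F, map_mul, map_pow]
    ring
  haveI := Groth.Agent.H20Luna.isLocalization_away_of_cartesian hψ F hkerF hrangeF
  have hsub : (PrimeSpectrum.basicOpen F : Set (PrimeSpectrum R₀)) ⊆ Algebra.etaleLocus S₀ R₀ := fun q hq =>
    Algebra.basicOpen_subset_etaleLocus_iff_etale.2 hEt fun hm =>
      hq (Ideal.mul_mem_right _ _ (Ideal.mul_mem_left _ _ hm))
  haveI : Algebra.FormallyEtale S₀ (Localization.Away F) := Algebra.basicOpen_subset_etaleLocus_iff.1 hsub
  haveI : Algebra.FormallyEtale S (Localization.Away (algebraMap R₀ R F)) :=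
    Groth.Agent.H20Luna.formallyEtale_away (S₀ := S₀) F
  refine ⟨a * h, g, ?_, fun P hP hgP => ?_, fun Q _ hQ => ?_, fun x' hx' hcl => ?_, fun q _ hq => hsub (a := ⟨q, ‹_›⟩) hq,
    fun z hz => ⟨1, by rw [pow_one]; exact hkerF z hz⟩, hrangeF⟩
  · rw [map_mul, map_mul, map_mul, map_mul, ha, one_mul]
    exact mul_ne_zero hh hgx
  · haveI := hP
    obtain ⟨q₁, hq₁, hq₁'⟩ := hgU (a := ⟨P.comap (algebraMap S₀ S), Ideal.comap_isPrime _ _⟩) hgP
    have hc : q₁.asIdeal.comap (algebraMap S₀ (Localization.Away h)) = P.comap (algebraMap S₀ S) :=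
      congrArg PrimeSpectrum.asIdeal hq₁'
    refine Groth.Agent.H20Luna.exists_prime_away (S₀ := S₀) F P (q₁.asIdeal.comap (algebraMap R₀ _)) (fun hm => ?_) ?_
    · rw [Ideal.mem_comap, map_mul, map_mul] at hm
      rcases q₁.isPrime.mem_or_mem hm with hm | hm
      · rcases q₁.isPrime.mem_or_mem hm with hm | hm
        · exact hq₁ hm
        · exact q₁.isPrime.ne_top (Ideal.eq_top_of_isUnit_mem _ hm (IsLocalization.Away.algebraMap_isUnit h))
      · rw [← IsScalarTower.algebraMap_apply S₀ R₀ (Localization.Away h), ← Ideal.mem_comap, hc] at hm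
        exact hgP hm
    · rw [Ideal.comap_comap, ← IsScalarTower.algebraMap_eq, hc]
  · exact (Algebra.basicOpen_subset_etaleLocus_iff.2 ‹_›) (a := ⟨Q, ‹_›⟩) hQ
  · refine Groth.Agent.H20Comod.OrbitPrimes.isClosedOrbit_of_forall _ fun z hz => ?_
    have hzinv : ∀ s : S₀, z (algebraMap S₀ S s) = x' (algebraMap R₀ R (algebraMap S₀ R₀ s)) := fun s => by
      rw [← IsScalarTower.algebraMap_apply S₀ R₀ R, IsScalarTower.algebraMap_apply S₀ S R]
      exact Groth.Agent.H20Comod.apply_eq_of_inOrbitClosure hz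
        (show algebraMap S₀ S s ∈ GLin.invariants k A S from hS₀ ▸ ⟨s, rfl⟩)
    letI : Algebra S₀ k := (z.toRingHom.comp (algebraMap S₀ S)).toAlgebra
    let zT : S ⊗[S₀] R₀ →ₐ[S₀] k := Algebra.TensorProduct.lift
      { z.toRingHom with commutes' := fun s => rfl }
      { x'.toRingHom.comp (algebraMap R₀ R) with commutes' := fun s => (hzinv s).symm }
      fun _ _ => Commute.all _ _
    have hzT : ∀ (s : S) (b : R₀), zT (s ⊗ₜ[S₀] b) = z s * x' (algebraMap R₀ R b) := fun s b =>
      Algebra.TensorProduct.lift_tmul _ _ _ s b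
    have hzF : IsUnit (zT.toRingHom ((1 : S) ⊗ₜ[S₀] F)) := by
      show IsUnit (zT _)
      rw [hzT, map_one, one_mul]
      exact isUnit_iff_ne_zero.2 hx'
    let r₀ : R →+* k := (IsLocalization.Away.lift ((1 : S) ⊗ₜ[S₀] F) hzF :
      Localization.Away (algebraMap R₀ R F) →+* k).comp (algebraMap R (Localization.Away (algebraMap R₀ R F)))
    have hr₀ : ∀ t, r₀ (algebraMap (S ⊗[S₀] R₀) R t) = zT t := fun t => by
      show IsLocalization.Away.lift _ hzF (algebraMap R _ (algebraMap (S ⊗[S₀] R₀) R t)) = _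
      rw [← IsScalarTower.algebraMap_apply, IsLocalization.Away.lift_eq]
      rfl
    have hr₀S : ∀ s : S, r₀ (algebraMap S R s) = z s := fun s => by
      rw [show algebraMap S R s = algebraMap (S ⊗[S₀] R₀) R (s ⊗ₜ[S₀] 1) by rw [hψ, map_one, mul_one], hr₀, hzT,
        map_one, map_one, mul_one]
    let r : R →ₐ[k] k := { r₀ with
      commutes' := fun c => by
        show r₀ (algebraMap k R c) = _
        rw [IsScalarTower.algebraMap_apply k S R, hr₀S, AlgHom.commutes] }
    have hind : ∀ t : S ⊗[S₀] R₀, ∃ s : S,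
        GLin.orbitHom k A x' (algebraMap (S ⊗[S₀] R₀) R t) =
          GLin.orbitHom k A (x'.comp (IsScalarTower.toAlgHom k S R)) s ∧
        r (algebraMap (S ⊗[S₀] R₀) R t) = z s := fun t => by
      induction t using TensorProduct.induction_on with
      | zero => exact ⟨0, by simp, by simp⟩
      | add u v hu hv =>
        obtain ⟨su, hu1, hu2⟩ := hu
        obtain ⟨sv, hv1, hv2⟩ := hv
        exact ⟨su + sv, by rw [map_add, map_add, map_add, hu1, hv1], by rw [map_add, map_add, map_add, hu2, hv2]⟩
      | tmul s b =>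
        refine ⟨x' (algebraMap R₀ R b) • s, ?_, ?_⟩
        · rw [hψ, map_mul, Groth.Agent.H20Comod.orbitHom_of_invariant x' (f := algebraMap R₀ R b) (hR₀ ▸ ⟨b, rfl⟩),
            map_smul, Algebra.smul_def, Groth.Agent.H20Luna.orbitHom_algebraMap hequiv x', mul_comm]
        · show r₀ _ = _
          rw [hr₀, hzT, map_smul, smul_eq_mul, mul_comm]
    obtain ⟨γ, hγ⟩ := Groth.Agent.H20Comod.exists_actPt_eq_of_isClosedOrbit hcl (z := r) fun f hf => by
      obtain ⟨n, t, ht⟩ := hrangeF f
      obtain ⟨s, hs1, hs2⟩ := hind t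
      rw [RingHom.mem_ker] at hf ⊢
      rw [ht, map_mul, hf, mul_zero] at hs1
      have hne : r (algebraMap R₀ R F) ≠ 0 := by
        show r₀ _ ≠ 0
        rw [show algebraMap R₀ R F = algebraMap (S ⊗[S₀] R₀) R ((1 : S) ⊗ₜ[S₀] F) by rw [hψ, map_one, one_mul],
          hr₀]
        exact hzF.ne_zero
      rw [ht, map_mul, map_pow, show z s = 0 from hz hs1.symm] at hs2
      exact (mul_eq_zero.1 hs2).resolve_left (pow_ne_zero n hne)
    refine ⟨γ, AlgHom.ext fun s => ?_⟩
    rw [← hr₀S]
    show r (algebraMap S R s) = γ _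
    rw [hγ]
    show γ (GLin.orbitHom k A x' (algebraMap S R s)) = _
    exact congrArg γ (Groth.Agent.H20Luna.orbitHom_algebraMap hequiv x' s)

end Groth.Agent.S19407
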