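import Groth.Statements.S19408
import Groth.Agent.H20Strict.Core
-- import your own Groth.Agent.* helpers here

set_option autoImplicit false
universe u
open TensorProduct
open GLin

namespace Groth.Agent.S19408
open Groth.Agent

/-- Let k be an algebraically closed field of characteristic zero, A a finitely generated commutative
Hopf algebra over k all of whose finite-dimensional comodules are semisimple (a reductive group G),
S and R finitely generated commutative k-algebras with multiplicative A-coactions (G acting on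
affine Y = Spec S and X = Spec R), S → R an algebra map compatible with the coactions (a G-morphism
θ : X → Y), S₀ → S and R₀ → R injective k-algebra maps whose images are the subrings of invariants,
and S₀ → R₀ an algebra map with S₀ → R₀ → R equal to S₀ → S → R (θ/G). Suppose R is étale over S, R₀
is étale over S₀, and the canonical map S ⊗_{S₀} R₀ → R is bijective (θ and θ/G étale and X ≅ Y
×_{Y//G} X//G). Let J be an ideal of S which is a subcomodule (Y' = V(J) a closed G-invariant
subscheme), let S/J and R/JR carry A-coactions for which the quotient maps are compatible with the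
coactions (the induced actions on Y' and X' = Y' ×_Y X), and let S₁ → S/J and R₁ → R/JR be injective
k-algebra maps whose images are the subrings of invariants, with S₁ → R₁ an algebra map such that S₁
→ R₁ → R/JR equals S₁ → S/J → R/JR. Then R/JR is étale over S/J, R₁ is étale over S₁, and the
canonical map (S/J) ⊗_{S₁} R₁ → R/JR is bijective (θ' : X' → Y' and θ'/G are étale and X' ≅ Y'
×_{Y'//G} X'//G). -/
theorem result (k : Type u) [Field k] [IsAlgClosed k] [CharZero k]
    (A : Type u) [CommRing A] [HopfAlgebra k A] [Algebra.FiniteType k A] (hG : HopfRep.IsLinearlyReductive k A)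
    (S : Type u) [CommRing S] [Algebra k S] [Algebra.FiniteType k S] [HopfRep.Comod k A S] [GLin.IsCoactAlg k A S]
    (R : Type u) [CommRing R] [Algebra k R] [Algebra.FiniteType k R] [HopfRep.Comod k A R] [GLin.IsCoactAlg k A R]
    [Algebra S R] [IsScalarTower k S R]
    (hequiv : (∀ s : S, HopfRep.Comod.coact (k := k) (A := A) (algebraMap S R s) =
      Algebra.TensorProduct.map (IsScalarTower.toAlgHom k S R) (AlgHom.id k A) (HopfRep.Comod.coact (k := k) (A := A) s)))
    (S₀ : Type u) [CommRing S₀] [Algebra k S₀] [Algebra S₀ S] [IsScalarTower k S₀ S]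
    (hS₀i : Function.Injective (algebraMap S₀ S)) (hS₀ : (IsScalarTower.toAlgHom k S₀ S).range = GLin.invariants k A S)
    (R₀ : Type u) [CommRing R₀] [Algebra k R₀] [Algebra R₀ R] [IsScalarTower k R₀ R]
    (hR₀i : Function.Injective (algebraMap R₀ R)) (hR₀ : (IsScalarTower.toAlgHom k R₀ R).range = GLin.invariants k A R)
    [Algebra S₀ R₀] [Algebra S₀ R] [IsScalarTower S₀ S R] [IsScalarTower S₀ R₀ R]
    (het : Algebra.Etale S R) (het₀ : Algebra.Etale S₀ R₀)
    (hcart : Function.Bijective (Algebra.TensorProduct.productMap (IsScalarTower.toAlgHom S₀ S R) (IsScalarTower.toAlgHom S₀ R₀ R)))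
    (J : Ideal S) (hJ : HopfRep.IsSubcomod (k := k) (A := A) (J.restrictScalars k))
    [HopfRep.Comod k A (S ⧸ J)] [GLin.IsCoactAlg k A (S ⧸ J)]
    (hqS : (∀ s : S, HopfRep.Comod.coact (k := k) (A := A) ((Ideal.Quotient.mkₐ k J) s) =
        Algebra.TensorProduct.map (Ideal.Quotient.mkₐ k J) (AlgHom.id k A) (HopfRep.Comod.coact (k := k) (A := A) s)))
    [HopfRep.Comod k A (R ⧸ J.map (algebraMap S R))] [GLin.IsCoactAlg k A (R ⧸ J.map (algebraMap S R))]
    (hqR : (∀ s : R, HopfRep.Comod.coact (k := k) (A := A) ((Ideal.Quotient.mkₐ k (J.map (algebraMap S R))) s) =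
        Algebra.TensorProduct.map (Ideal.Quotient.mkₐ k (J.map (algebraMap S R))) (AlgHom.id k A) (HopfRep.Comod.coact (k := k) (A := A) s)))
    (S₁ : Type u) [CommRing S₁] [Algebra k S₁] [Algebra S₁ (S ⧸ J)] [IsScalarTower k S₁ (S ⧸ J)]
    (hS₁i : Function.Injective (algebraMap S₁ (S ⧸ J)))
    (hS₁ : (IsScalarTower.toAlgHom k S₁ (S ⧸ J)).range = GLin.invariants k A (S ⧸ J))
    (R₁ : Type u) [CommRing R₁] [Algebra k R₁] [Algebra R₁ (R ⧸ J.map (algebraMap S R))] [IsScalarTower k R₁ (R ⧸ J.map (algebraMap S R))]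
    (hR₁i : Function.Injective (algebraMap R₁ (R ⧸ J.map (algebraMap S R))))
    (hR₁ : (IsScalarTower.toAlgHom k R₁ (R ⧸ J.map (algebraMap S R))).range = GLin.invariants k A (R ⧸ J.map (algebraMap S R)))
    [Algebra S₁ R₁] [Algebra S₁ (R ⧸ J.map (algebraMap S R))]
    [IsScalarTower S₁ (S ⧸ J) (R ⧸ J.map (algebraMap S R))] [IsScalarTower S₁ R₁ (R ⧸ J.map (algebraMap S R))] :
    Algebra.Etale (S ⧸ J) (R ⧸ J.map (algebraMap S R)) ∧ Algebra.Etale S₁ R₁ ∧
      Function.Bijective (Algebra.TensorProduct.productMap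
        (IsScalarTower.toAlgHom S₁ (S ⧸ J) (R ⧸ J.map (algebraMap S R)))
        (IsScalarTower.toAlgHom S₁ R₁ (R ⧸ J.map (algebraMap S R)))) := by
  haveI := het₀
  haveI : Module.Flat S₀ R₀ := inferInstance
  haveI : IsScalarTower k S₀ R := IsScalarTower.of_algebraMap_eq fun c => by
    rw [IsScalarTower.algebraMap_apply S₀ S R, ← IsScalarTower.algebraMap_apply k S₀ S,
      ← IsScalarTower.algebraMap_apply k S R]
  have hS₀c : ∀ s : S₀, HopfRep.Comod.coact (k := k) (A := A) (algebraMap S₀ S s) = algebraMap S₀ S s ⊗ₜ[k] (1 : A) :=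
    fun s => show algebraMap S₀ S s ∈ GLin.invariants k A S from hS₀ ▸ ⟨s, rfl⟩
  have hR₀c : ∀ r : R₀, HopfRep.Comod.coact (k := k) (A := A) (algebraMap R₀ R r) = algebraMap R₀ R r ⊗ₜ[k] (1 : A) :=
    fun r => show algebraMap R₀ R r ∈ GLin.invariants k A R from hR₀ ▸ ⟨r, rfl⟩
  have hS₀' : ∀ s : S₀, HopfRep.Comod.coact (k := k) (A := A) (algebraMap S₀ (S ⧸ J) s) =
      algebraMap S₀ (S ⧸ J) s ⊗ₜ[k] (1 : A) := fun s => by
    show HopfRep.Comod.coact (k := k) (A := A) (Ideal.Quotient.mkₐ k J (algebraMap S₀ S s)) = _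
    rw [hqS, hS₀c, Algebra.TensorProduct.map_tmul]
    rfl
  have hs₁ : ∀ s : S₀, ∃ t : S₁, algebraMap S₁ (S ⧸ J) t = algebraMap S₀ (S ⧸ J) s := fun s => by
    have : algebraMap S₀ (S ⧸ J) s ∈ GLin.invariants k A (S ⧸ J) := hS₀' s
    rw [← hS₁] at this
    exact this
  choose g hg using hs₁
  letI : Algebra S₀ S₁ := RingHom.toAlgebra
    { toFun := g
      map_one' := hS₁i (by rw [hg, map_one, map_one])
      map_mul' := fun x y => hS₁i (by rw [hg, map_mul, map_mul, hg, hg])
      map_zero' := hS₁i (by rw [hg, map_zero, map_zero])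
      map_add' := fun x y => hS₁i (by rw [hg, map_add, map_add, hg, hg]) }
  haveI : IsScalarTower S₀ S₁ (S ⧸ J) := IsScalarTower.of_algebraMap_eq fun s => (hg s).symm
  haveI : IsScalarTower S₀ (S ⧸ J) (R ⧸ J.map (algebraMap S R)) := IsScalarTower.of_algebraMap_eq fun s => by
    show Ideal.Quotient.mk _ (algebraMap S₀ R s) = _
    rw [IsScalarTower.algebraMap_apply S₀ S R]
    rfl
  haveI : IsScalarTower k (S ⧸ J) (R ⧸ J.map (algebraMap S R)) := IsScalarTower.of_algebraMap_eq fun s => by
    show Ideal.Quotient.mk _ (algebraMap k R s) = _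
    rw [IsScalarTower.algebraMap_apply k S R]
    rfl
  haveI : IsScalarTower k S₀ (R ⧸ J.map (algebraMap S R)) := IsScalarTower.of_algebraMap_eq fun s => by
    show Ideal.Quotient.mk _ (algebraMap k R s) = _
    rw [IsScalarTower.algebraMap_apply k S₀ R]
    rfl
  refine H20Strict.cartesian_of_flat (A := A) (S₀ := S₀) (R₀ := R₀) ?_ ?_ hS₀' ?_ hS₁i hS₁ hR₁i hR₁
  · intro t
    obtain ⟨s, rfl⟩ := Ideal.Quotient.mkₐ_surjective k J t
    show HopfRep.Comod.coact (k := k) (A := A) (Ideal.Quotient.mkₐ k (J.map (algebraMap S R)) (algebraMap S R s)) = _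
    rw [hqR, hequiv, hqS]
    generalize HopfRep.Comod.coact (k := k) (A := A) s = z
    induction z using TensorProduct.induction_on with
    | zero => simp
    | tmul p a => rfl
    | add z z' h h' => simp only [map_add, h, h']
  · intro r
    show HopfRep.Comod.coact (k := k) (A := A) (Ideal.Quotient.mkₐ k (J.map (algebraMap S R)) (algebraMap R₀ R r)) = _
    rw [hqR, hR₀c, Algebra.TensorProduct.map_tmul]
    rfl
  · let Φ := Algebra.TensorProduct.productMap (IsScalarTower.toAlgHom S₀ (S ⧸ J) (R ⧸ J.map (algebraMap S R)))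
      (IsScalarTower.toAlgHom S₀ R₀ (R ⧸ J.map (algebraMap S R)))
    let e := AlgEquiv.ofBijective _ hcart
    let π := Algebra.TensorProduct.map (Ideal.Quotient.mkₐ S₀ J) (AlgHom.id S₀ R₀)
    have hπs : Function.Surjective π := by
      show Function.Surjective (LinearMap.rTensor R₀ (Ideal.Quotient.mkₐ S₀ J).toLinearMap)
      exact LinearMap.rTensor_surjective R₀ (Ideal.Quotient.mkₐ_surjective S₀ J)
    have hc : ∀ z, Φ (π z) = Ideal.Quotient.mk _ (e z) := by
      intro z
      induction z using TensorProduct.induction_on with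
      | zero => simp
      | tmul s r =>
        show Φ (Ideal.Quotient.mkₐ S₀ J s ⊗ₜ r) = _
        rw [Algebra.TensorProduct.productMap_apply_tmul]
        show _ = Ideal.Quotient.mk _ (Algebra.TensorProduct.productMap _ _ (s ⊗ₜ r))
        rw [Algebra.TensorProduct.productMap_apply_tmul, map_mul]
        rfl
      | add z z' h h' => simp only [map_add, h, h']
    refine ⟨(injective_iff_map_eq_zero _).2 fun w hw => ?_, fun q => ?_⟩
    · obtain ⟨z, rfl⟩ := hπs w
      have h0 : e z ∈ J.map (algebraMap S R) := Ideal.Quotient.eq_zero_iff_mem.1 ((hc z).symm.trans hw)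
      have hle : J.map (algebraMap S R) ≤ RingHom.ker (π.toRingHom.comp e.symm.toRingEquiv.toRingHom) := by
        rw [Ideal.map_le_iff_le_comap]
        intro j hj
        show π (e.symm (algebraMap S R j)) = 0
        have : e.symm (algebraMap S R j) = j ⊗ₜ 1 := by
          rw [AlgEquiv.symm_apply_eq]
          show _ = Algebra.TensorProduct.productMap _ _ (j ⊗ₜ 1)
          simp
        rw [this]
        show Ideal.Quotient.mkₐ S₀ J j ⊗ₜ[S₀] (1 : R₀) = 0
        rw [show Ideal.Quotient.mkₐ S₀ J j = 0 from Ideal.Quotient.eq_zero_iff_mem.2 hj, TensorProduct.zero_tmul]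
      have h1 := hle h0
      rw [RingHom.mem_ker] at h1
      simpa using h1
    · obtain ⟨r, rfl⟩ := Ideal.Quotient.mk_surjective q
      exact ⟨π (e.symm r), by
        show Φ (π (e.symm r)) = _
        rw [hc, AlgEquiv.apply_symm_apply]⟩

end Groth.Agent.S19408
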