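import Groth.Statements.S19409
import Groth.Agent.S19424
import Groth.Agent.S7984
import Groth.Agent.S18824
import Groth.Agent.H19Grp.GoodQuot
import Groth.Agent.H18Torsor.Glue

set_option autoImplicit false
set_option maxHeartbeats 1000000
set_option linter.style.haveILetI false
set_option backward.isDefEq.respectTransparency false
universe u
open CategoryTheory MonoidalCategory CartesianMonoidalCategory MonObj AlgebraicGeometry Topology
open NRQuot

open Topology

namespace Groth.Agent.S19409

variable {k : Type u} [Field k]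

/-- A minimal closed invariant set in a fibre of a good quotient over a rational point. -/
theorem exists_minimal_invariant {G X Y : Over (Spec (CommRingCat.of k))} [GrpObj G]
    [LocallyOfFiniteType X.hom] {a : AlgGrp.Action G X} {φ : X ⟶ Y} (h : NRQuot.IsGoodQuot a φ)
    (y : 𝟙_ (Over (Spec (CommRingCat.of k))) ⟶ Y) :
    ∃ C : Set ↥X.left, IsClosed C ∧ NRQuot.IsInvariantSet a C ∧ C.Nonempty ∧
      C ⊆ φ.left.base ⁻¹' {y.left (IsLocalRing.closedPoint k)} ∧
      ∀ D : Set ↥X.left, IsClosed D → NRQuot.IsInvariantSet a D → D.Nonempty → D ⊆ C → D = C := by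
  haveI := h.affine
  haveI : LocallyOfFiniteType (φ.left ≫ Y.hom) := by rw [Over.w]; infer_instance
  haveI : LocallyOfFiniteType φ.left := locallyOfFiniteType_of_comp _ Y.hom
  let t : Spec (CommRingCat.of k) ⟶ Y.left := y.left
  let P := Limits.pullback φ.left t
  haveI : IsNoetherianRing (CommRingCat.of k) := inferInstanceAs (IsNoetherianRing k)
  haveI : IsLocallyNoetherian P := LocallyOfFiniteType.isLocallyNoetherian (Limits.pullback.snd φ.left t)
  haveI : CompactSpace P := QuasiCompact.compactSpace_of_compactSpace (Limits.pullback.snd φ.left t)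
  haveI : IsNoetherian P := { }
  set F : Set ↥X.left := φ.left.base ⁻¹' {y.left (IsLocalRing.closedPoint k)} with hF
  have hFr : Set.range (Limits.pullback.fst φ.left t) = F := by
    rw [Scheme.Pullback.range_fst, hF]
    congr 1
    exact Set.range_eq_singleton fun p => congr(t $(Subsingleton.elim _ _))
  haveI : TopologicalSpace.NoetherianSpace ↥P := inferInstance
  haveI hN : TopologicalSpace.NoetherianSpace ↥F := by
    rw [← hFr]
    exact TopologicalSpace.NoetherianSpace.range _ (Limits.pullback.fst φ.left t).continuous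
  have hFc : IsClosed F :=
    (H19Grp.isClosed_range_of_section (q := Y.hom) _ (Over.w y)).preimage φ.left.continuous
  let Ω : Set (TopologicalSpace.Closeds ↥F) := {C | (C : Set ↥F).Nonempty ∧
    NRQuot.IsInvariantSet a (Subtype.val '' (C : Set ↥F))}
  obtain ⟨C, ⟨hCne, hCinv⟩, hCmin⟩ := (wellFounded_lt (α := TopologicalSpace.Closeds ↥F)).has_min Ω
    ⟨⊤, by
      obtain ⟨x, hx⟩ := H19Grp.goodQuot_surjective h (y.left (IsLocalRing.closedPoint k))
      refine ⟨⟨⟨x, hx⟩, trivial⟩, ?_⟩
      rw [TopologicalSpace.Closeds.coe_top, Set.image_univ, Subtype.range_coe]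
      exact H19Grp.isInvariantSet_preimage h.inv _⟩
  refine ⟨Subtype.val '' (C : Set ↥F), hFc.isClosedEmbedding_subtypeVal.isClosedMap _ C.isClosed, hCinv,
    hCne.image _, by rintro _ ⟨c, -, rfl⟩; exact c.2, fun D hD hDi hDne hDC => ?_⟩
  have hDF : D ⊆ F := hDC.trans (by rintro _ ⟨c, -, rfl⟩; exact c.2)
  let D' : TopologicalSpace.Closeds ↥F := ⟨Subtype.val ⁻¹' D, hD.preimage continuous_subtype_val⟩
  have hD' : Subtype.val '' (D' : Set ↥F) = D :=
    Set.image_preimage_eq_of_subset (by rw [Subtype.range_coe]; exact hDF)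
  have hle : D' ≤ C := fun z hz => by
    obtain ⟨c, hc, e⟩ := hDC hz
    rwa [← Subtype.ext e]
  have hnl : ¬ D' < C := hCmin D' ⟨by
    obtain ⟨z, hz⟩ := hDne
    exact ⟨⟨z, hDF hz⟩, hz⟩, by rwa [hD']⟩
  rw [← hD', eq_of_le_of_not_lt hle hnl]

/-- The orbit of a closed point of a minimal closed invariant set is that set. -/
theorem orbit_eq_of_minimal {G X : Over (Spec (CommRingCat.of k))} [GrpObj G] [LocallyOfFiniteType G.hom]
    [QuasiCompact G.hom] [LocallyOfFiniteType X.hom] (a : AlgGrp.Action G X)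
    (x : 𝟙_ (Over (Spec (CommRingCat.of k))) ⟶ X) (C : Set ↥X.left)
    (hC : IsClosed C) (hinv : NRQuot.IsInvariantSet a C) (hx : x.left (IsLocalRing.closedPoint k) ∈ C)
    (hmin : ∀ D : Set ↥X.left, IsClosed D → NRQuot.IsInvariantSet a D → D.Nonempty → D ⊆ C → D = C) :
    Set.range (a.orbitMap x).left.base = C := by
  haveI : IsNoetherianRing (CommRingCat.of k) := inferInstanceAs (IsNoetherianRing k)
  haveI : IsLocallyNoetherian X.left := LocallyOfFiniteType.isLocallyNoetherian X.hom
  haveI : CompactSpace G.left := QuasiCompact.compactSpace_of_compactSpace G.hom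
  haveI : LocallyOfFiniteType ((a.orbitMap x).left ≫ X.hom) := by rw [Over.w]; infer_instance
  haveI : LocallyOfFiniteType (a.orbitMap x).left := locallyOfFiniteType_of_comp _ X.hom
  haveI : UniversallyOpen G.hom := inferInstance
  set O := Set.range (a.orbitMap x).left.base with hO
  have hne : O.Nonempty := ⟨_, η[G].left (IsLocalRing.closedPoint k), rfl⟩
  have inv0 : NRQuot.IsInvariantSet a O := H19Grp.isInvariantSet_range_orbitMap (a := a) x
  have inv1 : NRQuot.IsInvariantSet a (closure O) := H19Grp.isInvariantSet_closure (a := a) inv0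
  have hOC : O ⊆ C := by
    rintro _ ⟨g, rfl⟩
    let m : G ⟶ G ⊗ X := lift (𝟙 G) (toUnit G ≫ x)
    show (a.orbitMap x).left g ∈ C
    have e : a.orbitMap x = m ≫ a.act := rfl
    rw [e, Over.comp_left, Scheme.Hom.comp_apply]
    refine hinv _ ?_
    show (snd G X).left (m.left g) ∈ C
    rw [← Scheme.Hom.comp_apply, ← Over.comp_left, lift_snd, Over.comp_left, Scheme.Hom.comp_apply]
    convert hx using 3
    exact Subsingleton.elim (α := ↥(Spec (CommRingCat.of k))) _ _
  have hcl : closure O = C :=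
    hmin _ isClosed_closure inv1 hne.closure (closure_minimal hOC hC)
  haveI : QuasiSeparated X.hom := inferInstance
  haveI : QuasiCompact ((a.orbitMap x).left ≫ X.hom) := by rw [Over.w]; infer_instance
  haveI : QuasiCompact (a.orbitMap x).left := QuasiCompact.of_comp _ X.hom
  obtain ⟨o, ho⟩ := hne
  obtain ⟨W, hW, hoW, -⟩ := exists_isAffineOpen_mem_and_subset (Set.mem_univ o) (U := (⊤ : X.left.Opens))
  haveI : IsAffine (W : Scheme.{u}) := hW
  let f' := (a.orbitMap x).left ∣_ W
  have hrange : W.ι '' Set.range f' = O ∩ W := by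
    apply Set.Subset.antisymm
    · rintro _ ⟨_, ⟨g, rfl⟩, rfl⟩
      refine ⟨⟨g.1, ?_⟩, (f' g).2⟩
      show _ = (f' ≫ W.ι) g
      rw [morphismRestrict_ι]
      rfl
    · rintro _ ⟨⟨g, rfl⟩, hg⟩
      refine ⟨f' ⟨g, hg⟩, ⟨_, rfl⟩, ?_⟩
      show (f' ≫ W.ι) ⟨g, hg⟩ = _
      rw [morphismRestrict_ι]
      rfl
  have hcons : IsConstructible (Set.range f') := by
    have := f'.isConstructible_image (s := Set.univ) IsConstructible.univ
    rwa [Set.image_univ] at this
  obtain ⟨t, ht, htO⟩ := H28Top.exists_finset_isLocallyClosed hcons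
  have hne' : (Set.range f').Nonempty := by
    have : o ∈ O ∩ W := ⟨ho, hoW⟩
    rw [← hrange] at this
    obtain ⟨z, hz, -⟩ := this
    exact ⟨z, hz⟩
  rw [htO] at hne'
  obtain ⟨U', hU', ⟨y', hyU', hy'⟩, hUsub'⟩ := S7984.exists_open_inter_closure_subset t ht hne'
  rw [← htO] at hy' hUsub'
  set U : Set ↥X.left := W.ι '' U' with hUdef
  have hU : IsOpen U := W.ι.isOpenEmbedding.isOpenMap _ hU'
  set y := W.ι y' with hydef
  have hy : y ∈ O := (hrange.subset ⟨y', hy', rfl⟩).1
  have hyU : y ∈ U := ⟨y', hyU', rfl⟩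
  have hUsub : U ∩ C ⊆ O := by
    rintro _ ⟨⟨u, hu, rfl⟩, huC⟩
    rw [← hcl] at huC
    have hu' : u ∈ closure (Set.range f') := by
      rw [W.ι.isOpenEmbedding.isInducing.closure_eq_preimage_closure_image, hrange]
      exact mem_closure_iff.2 fun S hS hmem => by
        obtain ⟨z, ⟨hzS, hzW⟩, hzO⟩ :=
          mem_closure_iff.1 huC (S ∩ W) (hS.inter W.2) ⟨hmem, u.2⟩
        exact ⟨z, hzS, hzO, hzW⟩
    exact (hrange.subset ⟨u, hUsub' ⟨hu, hu'⟩, rfl⟩).1
  obtain ⟨hV, hUV, hVst, -⟩ := S18824.result k G X a U hU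
  set V := a.act.left.base '' ((snd G X).left.base ⁻¹' U) with hVdef
  let σ : G ⊗ X ⟶ G ⊗ X := lift (fst G X)⁻¹ a.act
  have hσs : σ ≫ snd G X = a.act := lift_snd _ _
  have hσa : σ ≫ a.act = snd G X := by
    have := H19Grp.QuotientDesc.mul_act a (fst G X)⁻¹ (fst G X) (snd G X)
    rw [inv_mul_cancel, H19Grp.QuotientDesc.one_act, lift_fst_snd, Category.id_comp] at this
    exact this.symm
  have h1 : ∀ p, (snd G X).left (σ.left p) = a.act.left p := fun p => by
    rw [← Scheme.Hom.comp_apply, ← Over.comp_left, hσs]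
  have h2 : ∀ p, a.act.left (σ.left p) = (snd G X).left p := fun p => by
    rw [← Scheme.Hom.comp_apply, ← Over.comp_left, hσa]
  have hCV : C ⊆ V := by
    by_contra hnot
    obtain ⟨c, hc, hcV⟩ := Set.not_subset.1 hnot
    have := hmin (C ∩ Vᶜ) (hC.inter hV.isClosed_compl) (fun p hp => ⟨hinv p hp.1, fun hq => hp.2 ?_⟩)
      ⟨c, hc, hcV⟩ Set.inter_subset_left
    · have hyD : y ∈ C ∩ Vᶜ := this.symm ▸ hOC hy
      exact hyD.2 (hUV hyU)
    · refine hVst ⟨σ.left p, ?_, h2 p⟩
      show (snd G X).left (σ.left p) ∈ V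
      rw [h1]
      exact hq
  refine Set.Subset.antisymm hOC fun q hq => ?_
  obtain ⟨w, hw, rfl⟩ := hCV hq
  refine inv0 w (hUsub ⟨hw, ?_⟩)
  have h3 := hinv (σ.left w) ((h1 w).symm ▸ hq)
  rwa [h2] at h3

/-- Suppose k is a field that is algebraically closed (its characteristic is arbitrary, since
characteristic zero plays no role in the argument). Consider an algebraic group G over k, i.e. an
affine group scheme of finite type over k, together with an action of G on a k-scheme X that is
locally of finite type, and assume φ : X → Y is a good quotient (meaning φ is affine and invariant,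
on each open of Y the functions are precisely the invariant functions on its preimage, closed
invariant subsets are sent to closed subsets, and taking images commutes with intersecting families
of closed invariant subsets). Given any k-point y of Y, one can find a k-point x of X lying over y
whose orbit (the image of the orbit morphism G → X) is a closed subset of X; moreover, whenever x'
is a k-point of X over y with closed orbit, x' is obtained from x by acting with some k-point of G.
In other words, each fibre of φ over a k-point contains a unique closed orbit. -/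
theorem result
    (k : Type u) [Field k] [IsAlgClosed k]
    (G X Y : Over (Spec (CommRingCat.of k))) [GrpObj G] [IsAffine G.left] [LocallyOfFiniteType G.hom]
    [LocallyOfFiniteType X.hom]
    (a : AlgGrp.Action G X) (φ : X ⟶ Y) (h : NRQuot.IsGoodQuot a φ)
    (y : 𝟙_ (Over (Spec (CommRingCat.of k))) ⟶ Y) :
    ∃ x : 𝟙_ (Over (Spec (CommRingCat.of k))) ⟶ X, x ≫ φ = y ∧ IsClosed (Set.range (a.orbitMap x).left.base) ∧
      ∀ x' : 𝟙_ (Over (Spec (CommRingCat.of k))) ⟶ X, x' ≫ φ = y → IsClosed (Set.range (a.orbitMap x').left.base) →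
        ∃ g : 𝟙_ (Over (Spec (CommRingCat.of k))) ⟶ G, lift g x ≫ a.act = x' := by
  obtain ⟨C, hC, hCinv, hCne, hCF, hCmin⟩ := exists_minimal_invariant h y
  haveI : JacobsonSpace ↥X.left := LocallyOfFiniteType.jacobsonSpace X.hom
  haveI : JacobsonSpace ↥G.left := LocallyOfFiniteType.jacobsonSpace G.hom
  obtain ⟨p, hpC, hpc⟩ := nonempty_inter_closedPoints (X := ↥X.left) hCne hC.isLocallyClosed
  let x : 𝟙_ (Over (Spec (CommRingCat.of k))) ⟶ X :=
    Over.homMk (pointOfClosedPoint X.hom p hpc) (pointOfClosedPoint_comp _ _ _)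
  have hxp : x.left (IsLocalRing.closedPoint k) = p := pointOfClosedPoint_apply _ _ _ _
  have hxy : x ≫ φ = y := by
    apply Over.OverMorphism.ext
    refine H19Grp.section_ext (q := Y.hom) (Over.w _) (Over.w _) ?_
    rw [Over.comp_left, Scheme.Hom.comp_apply]
    exact (congrArg (fun z => φ.left z) hxp).trans (hCF hpC)
  have hcx : IsClosed (Set.range (a.orbitMap x).left.base) := by
    rw [orbit_eq_of_minimal a x C hC hCinv (hxp ▸ hpC) hCmin]
    exact hC
  refine ⟨x, hxy, hcx, fun x₂ hx₂ hcx₂ => ?_⟩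
  obtain ⟨z₀, hz⟩ := (S19424.result k G X Y a φ h x x₂).2 (hxy.trans hx₂.symm)
  rw [hcx.closure_eq, hcx₂.closure_eq] at hz
  obtain ⟨z, hz, hzc⟩ := nonempty_inter_closedPoints (X := ↥X.left)
    ⟨z₀, hz⟩ (hcx.inter hcx₂).isLocallyClosed
  let zp : 𝟙_ (Over (Spec (CommRingCat.of k))) ⟶ X :=
    Over.homMk (pointOfClosedPoint X.hom z hzc) (pointOfClosedPoint_comp _ _ _)
  have key : ∀ x : 𝟙_ (Over (Spec (CommRingCat.of k))) ⟶ X, z ∈ Set.range (a.orbitMap x).left.base →
      ∃ g : 𝟙_ (Over (Spec (CommRingCat.of k))) ⟶ G, lift g x ≫ a.act = zp := by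
    intro x ⟨w, hw⟩
    obtain ⟨v, hv, hvc⟩ := nonempty_inter_closedPoints (X := ↥G.left)
      (Z := (a.orbitMap x).left.base ⁻¹' {z}) ⟨w, hw⟩
      ((hzc : IsClosed {z}).preimage (a.orbitMap x).left.continuous).isLocallyClosed
    let g : 𝟙_ (Over (Spec (CommRingCat.of k))) ⟶ G :=
      Over.homMk (pointOfClosedPoint G.hom v hvc) (pointOfClosedPoint_comp _ _ _)
    refine ⟨g, ?_⟩
    have e : lift g x ≫ a.act = g ≫ a.orbitMap x := by
      rw [AlgGrp.Action.orbitMap, ← Category.assoc g, comp_lift, Category.comp_id, ← Category.assoc g,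
        toUnit_unique (g ≫ toUnit G) (𝟙 _), Category.id_comp]
    rw [e]
    apply Over.OverMorphism.ext
    refine H19Grp.section_ext (q := X.hom) (Over.w _) (Over.w zp) ?_
    change (pointOfClosedPoint G.hom v hvc ≫ (a.orbitMap x).left) (IsLocalRing.closedPoint k) =
      pointOfClosedPoint X.hom z hzc (IsLocalRing.closedPoint k)
    rw [Scheme.Hom.comp_apply, pointOfClosedPoint_apply, pointOfClosedPoint_apply]
    exact hv
  obtain ⟨g₁, hg₁⟩ := key x hz.1
  obtain ⟨g₂, hg₂⟩ := key x₂ hz.2
  refine ⟨g₂⁻¹ * g₁, ?_⟩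
  change H18Torsor.smul a _ x = x₂
  rw [H18Torsor.mul_smul_pt, show H18Torsor.smul a g₁ x = zp from hg₁, ← show H18Torsor.smul a g₂ x₂ = zp from hg₂,
    ← H18Torsor.mul_smul_pt, inv_mul_cancel, H18Torsor.one_smul_pt]


end Groth.Agent.S19409
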