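import Groth.Statements.S19411
import Groth.Agent.H20Hopf.Rosenlicht
import Groth.Agent.H20Comod.Slices
import Groth.Agent.H20Comod.Coconn
import Groth.Agent.H20Comod.Diag

set_option backward.isDefEq.respectTransparency false

set_option autoImplicit false
universe u
open TensorProduct
open GLin

namespace Groth.Agent.S19411

open Groth.Agent.H20Comod

theorem isUnit_of_forall_point_ne_zero {k : Type u} [Field k] [IsAlgClosed k] {R : Type u} [CommRing R]
    [Algebra k R] [Algebra.FiniteType k R] {a : R} (h : ∀ x : R →ₐ[k] k, x a ≠ 0) : IsUnit a := by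
  rw [← Ideal.span_singleton_eq_top]
  by_contra hne
  obtain ⟨x, hx⟩ := exists_point_le_ker (k := k) hne
  exact h x (hx (Ideal.mem_span_singleton_self a))

/-- Let k be an uncountable algebraically closed field of characteristic zero, A a finitely generated
commutative Hopf algebra over k all of whose finite-dimensional comodules are semisimple (a
reductive group G), and R a reduced finitely generated commutative k-algebra whose prime spectrum is
connected, with a multiplicative A-coaction ρ (G acting on the connected affine scheme X = Spec R).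
Let θ ∈ R ⊗ A be such that the map r ↦ ρ(r)·θ from R to R ⊗ A is coassociative and counital (a
structure of G-line bundle on the trivial line bundle of X, θ being the corresponding invertible
function on X × G). Suppose that either every unit of A is a scalar multiple of a group-like element
(every invertible function on G is a constant times a character), or every unit of R is a scalar
(every invertible function on X is constant). Then θ = 1 ⊗ χ for some group-like element χ of A: the
G-line bundle is the one attached to the character χ. (Stated for G-line bundle structures on the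
trivial bundle, the case to which the hypothesis of a trivial Picard group reduces the source's
statement; uncountability of k is what the argument uses in the first case.) -/
theorem result (k : Type u) [Field k] [IsAlgClosed k] [CharZero k] [Uncountable k]
    (A : Type u) [CommRing A] [HopfAlgebra k A] [Algebra.FiniteType k A] (hG : HopfRep.IsLinearlyReductive k A)
    (R : Type u) [CommRing R] [IsReduced R] [Algebra k R] [Algebra.FiniteType k R] [HopfRep.Comod k A R] [GLin.IsCoactAlg k A R]
    [ConnectedSpace (PrimeSpectrum R)]
    (θ : R ⊗[k] A)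
    (hassoc : (TensorProduct.assoc k R A A).toLinearMap ∘ₗ
        ((LinearMap.mulRight k θ) ∘ₗ HopfRep.Comod.coact (k := k) (A := A) (V := R)).rTensor A ∘ₗ
          ((LinearMap.mulRight k θ) ∘ₗ HopfRep.Comod.coact (k := k) (A := A) (V := R)) =
      (CoalgebraStruct.comul (R := k) (A := A)).lTensor R ∘ₗ
        ((LinearMap.mulRight k θ) ∘ₗ HopfRep.Comod.coact (k := k) (A := A) (V := R)))
    (hcounit : (CoalgebraStruct.counit (R := k) (A := A)).lTensor R ∘ₗ
        ((LinearMap.mulRight k θ) ∘ₗ HopfRep.Comod.coact (k := k) (A := A) (V := R)) =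
      (TensorProduct.mk k R k).flip 1)
    (h : (∀ u : Aˣ, ∃ (c : k) (χ : A), IsGroupLikeElem k χ ∧ (u : A) = c • χ) ∨
      (∀ u : Rˣ, (u : R) ∈ Set.range (algebraMap k R))) :
    ∃ χ : A, IsGroupLikeElem k χ ∧ θ = (1 : R) ⊗ₜ[k] χ := by
  classical
  haveI : IsReduced A := H19Grp.HopfReduced.isReduced_of_finiteType (k := k) (A := A)
  set ρ := HopfRep.Comod.coact (k := k) (A := A) (V := R) with hρ
  have hρ1' : ρ 1 = 1 := IsCoactAlg.coact_one (k := k)
  have hρ1 : (LinearMap.mulRight k θ ∘ₗ ρ) 1 = θ := by
    simp [hρ1']
  have h1 : LinearMap.lTensor R (CoalgebraStruct.counit (R := k) (A := A)) θ = (1 : R) ⊗ₜ[k] (1 : k) := by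
    have := LinearMap.congr_fun hcounit 1
    simpa [hρ1'] using this
  have hε : ∀ x : R →ₐ[k] k, CoalgebraStruct.counit (R := k) (sliceL x.toLinearMap θ) = 1 := by
    intro x
    rw [← apply_sliceR_eq_apply_sliceL]
    show x (TensorProduct.rid k R ((CoalgebraStruct.counit (R := k) (A := A)).lTensor R θ)) = 1
    rw [h1]
    simp
  have hco : TensorProduct.assoc k R A A ((LinearMap.mulRight k θ ∘ₗ ρ).rTensor A θ) =
      (CoalgebraStruct.comul (R := k) (A := A)).lTensor R θ := by
    have := LinearMap.congr_fun hassoc 1
    simpa [hρ1'] using this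
  -- the value at a point and a translate
  have hval : ∀ (x : R →ₐ[k] k) (g h : A →ₐ[k] k),
      (WithConv.toConv g * WithConv.toConv h).ofConv (sliceL x.toLinearMap θ) =
        g (sliceL x.toLinearMap θ) *
          h (sliceL ((Algebra.TensorProduct.lmul' k).comp ((Algebra.TensorProduct.map x g).comp
            (coactAlgHom k A R))).toLinearMap θ) := by
    intro x g h
    let F : R ⊗[k] (A ⊗[k] A) →ₗ[k] k :=
      LinearMap.mul' k k ∘ₗ TensorProduct.map x.toLinearMap (LinearMap.mul' k k ∘ₗ
        TensorProduct.map g.toLinearMap h.toLinearMap)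
    have hl : F ((CoalgebraStruct.comul (R := k) (A := A)).lTensor R θ) =
        (WithConv.toConv g * WithConv.toConv h).ofConv (sliceL x.toLinearMap θ) := by
      generalize θ = z
      induction z using TensorProduct.induction_on with
      | zero => simp
      | tmul r a =>
        simp only [F, LinearMap.lTensor_tmul, sliceL_tmul, map_smul, AlgHom.toLinearMap_apply, smul_eq_mul,
          LinearMap.comp_apply, TensorProduct.map_tmul, LinearMap.mul'_apply, AlgHom.convMul_def,
          WithConv.ofConv_toConv, AlgHom.comp_apply, Bialgebra.comulAlgHom_apply]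
        congr 1
      | add u v hu hv => simp only [map_add, hu, hv]
    rw [← hl, ← hco]
    set xg := (Algebra.TensorProduct.lmul' k).comp ((Algebra.TensorProduct.map x g).comp (coactAlgHom k A R)) with hxg
    have hr : ∀ z : R ⊗[k] A, F (TensorProduct.assoc k R A A ((LinearMap.mulRight k θ ∘ₗ ρ).rTensor A z)) =
        g (sliceL x.toLinearMap θ) * h (sliceL xg.toLinearMap z) := by
      intro z
      induction z using TensorProduct.induction_on with
      | zero => simp
      | tmul r a =>
        have hF : ∀ w : R ⊗[k] A, F (TensorProduct.assoc k R A A (w ⊗ₜ[k] a)) =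
            Algebra.TensorProduct.lmul' k (Algebra.TensorProduct.map x g w) * h a := by
          intro w
          induction w using TensorProduct.induction_on with
          | zero => simp
          | tmul p q => simp [F, mul_assoc]
          | add u v hu hv => simp only [TensorProduct.add_tmul, map_add, hu, hv, add_mul]
        have hθ : ∀ z : R ⊗[k] A, Algebra.TensorProduct.lmul' k (Algebra.TensorProduct.map x g z) =
            g (sliceL x.toLinearMap z) := by
          intro z
          induction z using TensorProduct.induction_on with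
          | zero => simp
          | tmul p q => simp
          | add u v hu hv => simp only [map_add, hu, hv]
        rw [LinearMap.rTensor_tmul, hF, LinearMap.comp_apply, LinearMap.mulRight_apply, map_mul, map_mul, hθ θ,
          sliceL_tmul, map_smul, smul_eq_mul]
        show xg r * _ * _ = _ * (xg r * _)
        ring
      | add u v hu hv => simp only [map_add, hu, hv, mul_add]
    exact hr θ
  have hne : ∀ (x : R →ₐ[k] k) (g : A →ₐ[k] k), g (sliceL x.toLinearMap θ) ≠ 0 := by
    intro x g h0
    have := hval x g (g.comp (HopfAlgebra.antipodeAlgHom k A))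
    rw [h0, zero_mul, show (WithConv.toConv g * WithConv.toConv (g.comp (HopfAlgebra.antipodeAlgHom k A))).ofConv =
      Bialgebra.counitAlgHom k A from AlgHom.ext fun a => ?_] at this
    · exact one_ne_zero ((hε x).symm.trans this)
    · simp only [AlgHom.convMul_def, WithConv.ofConv_toConv, AlgHom.comp_apply, Bialgebra.comulAlgHom_apply]
      let Ra := Coalgebra.Repr.arbitrary k a
      rw [← Ra.eq]
      simp only [map_sum, Algebra.TensorProduct.map_tmul, Algebra.TensorProduct.lmul'_apply_tmul,
        AlgHom.comp_apply, ← map_mul, HopfAlgebra.antipodeAlgHom_apply]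
      rw [← map_sum, HopfAlgebra.sum_mul_antipode_eq_algebraMap_counit Ra, AlgHom.commutes]
      rfl
  haveI : Nontrivial R := by
    obtain ⟨p⟩ := (inferInstance : Nonempty (PrimeSpectrum R))
    exact ⟨⟨0, 1, fun h01 => p.2.ne_top ((Ideal.eq_top_iff_one _).2 (h01 ▸ zero_mem _))⟩⟩
  obtain ⟨x₀, -⟩ := exists_point_le_ker (k := k) (R := R) (J := ⊥) bot_ne_top
  have hconst : ∀ x : R →ₐ[k] k, sliceL x.toLinearMap θ = sliceL x₀.toLinearMap θ := by
    intro x
    rcases h with h | h
    · have hgl : ∀ y : R →ₐ[k] k, IsGroupLikeElem k (sliceL y.toLinearMap θ) := by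
        intro y
        obtain ⟨c, χ, hχ, hc⟩ := h (isUnit_of_forall_point_ne_zero (fun g => hne y g)).unit
        rw [IsUnit.unit_spec] at hc
        have := hε y
        rw [hc, map_smul, hχ.counit_eq_one, smul_eq_mul, mul_one] at this
        rwa [hc, this, one_smul]
      obtain ⟨φ, hφ1, hφ0⟩ := exists_dual_groupLike (k := k) (hgl x₀)
      have hev : ∀ y : R →ₐ[k] k, y (sliceR φ θ) = φ (sliceL y.toLinearMap θ) := fun y =>
        apply_sliceR_eq_apply_sliceL y.toLinearMap φ θ
      have hidem : IsIdempotentElem (sliceR φ θ) := by
        refine sub_eq_zero.1 (H20Hopf.Rosenlicht.point_ext (k := k) fun y => ?_)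
        rw [map_sub, map_mul, hev]
        by_cases hy : sliceL y.toLinearMap θ = sliceL x₀.toLinearMap θ
        · rw [hy, hφ1, mul_one, sub_self]
        · rw [hφ0 _ (hgl y) hy, mul_zero, sub_self]
      have hclopen : IsClopen ((PrimeSpectrum.basicOpen (sliceR φ θ) : TopologicalSpace.Opens (PrimeSpectrum R)) :
          Set (PrimeSpectrum R)) := PrimeSpectrum.isClopen_iff.2 ⟨_, hidem, rfl⟩
      have huniv := (hclopen.eq_univ (⟨⟨RingHom.ker x₀.toRingHom, RingHom.ker_isPrime _⟩, ?_⟩))
      · have he : IsUnit (sliceR φ θ) := by
          by_contra hnu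
          obtain ⟨M, hM, hle⟩ := exists_max_ideal_of_mem_nonunits hnu
          haveI := hM.isPrime
          have hmem : (⟨M, inferInstance⟩ : PrimeSpectrum R) ∈ PrimeSpectrum.basicOpen (sliceR φ θ) :=
            Set.eq_univ_iff_forall.1 huniv _
          exact hmem hle
        have he1 : sliceR φ θ = 1 := he.mul_left_cancel (hidem.eq.trans (mul_one _).symm)
        by_contra hne'
        have := hev x
        rw [he1, map_one, hφ0 _ (hgl x) hne'] at this
        exact one_ne_zero this
      · show sliceR φ θ ∉ RingHom.ker x₀.toRingHom
        intro h0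
        have h0' : x₀ (sliceR φ θ) = 0 := h0
        rw [hev, hφ1] at h0'
        exact one_ne_zero h0'
    · refine sub_eq_zero.1 (H20Hopf.Rosenlicht.point_ext (k := k) fun g => ?_)
      have hu : IsUnit (sliceR g.toLinearMap θ) := isUnit_of_forall_point_ne_zero (k := k) fun y => by
        show y.toLinearMap _ ≠ 0
        rw [apply_sliceR_eq_apply_sliceL]
        exact hne y g
      obtain ⟨c, hc⟩ := h hu.unit
      rw [IsUnit.unit_spec] at hc
      show g.toLinearMap (_ - _) = 0
      rw [map_sub, ← apply_sliceR_eq_apply_sliceL, ← apply_sliceR_eq_apply_sliceL, ← hc]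
      simp
  set χ := sliceL x₀.toLinearMap θ with hχdef
  have hθ : θ = (1 : R) ⊗ₜ[k] χ := by
    refine sub_eq_zero.1 (H20Hopf.Rosenlicht.tensor_ext (k := k) fun y => ?_)
    show sliceL y.toLinearMap (θ - (1 : R) ⊗ₜ[k] χ) = 0
    rw [map_sub, sliceL_tmul, hconst y, AlgHom.toLinearMap_apply, map_one, one_smul, sub_self]
  refine ⟨χ, ⟨hε x₀, ?_⟩, hθ⟩
  have := congrArg (sliceL x₀.toLinearMap) hco
  rw [sliceL_lTensor, hθ, LinearMap.rTensor_tmul, LinearMap.comp_apply, LinearMap.mulRight_apply,
    IsCoactAlg.coact_one (k := k), one_mul, TensorProduct.assoc_tmul, sliceL_tmul, sliceL_tmul,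
    AlgHom.toLinearMap_apply, map_one, one_smul, one_smul] at this
  exact this.symm

end Groth.Agent.S19411
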