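import Groth.Statements.S19412
import Groth.Agent.H20Comod.Stability

set_option autoImplicit false
universe u
open TensorProduct
open GLin

namespace Groth.Agent.S19412
theorem closed_iff {k : Type u} [Field k] [IsAlgClosed k]
    {A : Type u} [CommRing A] [HopfAlgebra k A] [Algebra.FiniteType k A]
    {S : Type u} [CommRing S] [Algebra k S] [Algebra.FiniteType k S] [HopfRep.Comod k A S] [GLin.IsCoactAlg k A S]
    {R : Type u} [CommRing R] [Algebra k R] [Algebra.FiniteType k R] [HopfRep.Comod k A R] [GLin.IsCoactAlg k A R]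
    (ι : S →ₐ[k] R)
    (hι : ∀ s : S, HopfRep.Comod.coact (k := k) (A := A) (ι s) =
      Algebra.TensorProduct.map ι (AlgHom.id k A) (HopfRep.Comod.coact (k := k) (A := A) s))
    (hinj : ∀ x w : R →ₐ[k] k, w.comp ι = x.comp ι → (∀ f ∈ GLin.invariants k A R, w f = x f) → w = x)
    (hsur : ∀ (x : R →ₐ[k] k) (w : S →ₐ[k] k), GLin.InOrbitClosure k A (x.comp ι) w →
      ∃ w' : R →ₐ[k] k, w'.comp ι = w ∧ GLin.InOrbitClosure k A x w')
    (x : R →ₐ[k] k) :
    GLin.IsClosedOrbit k A x ↔ GLin.IsClosedOrbit k A (x.comp ι) := by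
  open Groth.Agent.H20Comod Groth.Agent.H20Comod.OrbitPrimes in
  have hnat : ∀ g : A →ₐ[k] k, GLin.actPt k g (x.comp ι) = (GLin.actPt k g x).comp ι := fun g => by
    show g.comp (GLin.orbitHom k A (x.comp ι)) = _
    rw [← orbitHom_natural ι hι]
    rfl
  refine ⟨fun hx => isClosedOrbit_of_forall _ fun w hw => ?_, fun hy => isClosedOrbit_of_forall x fun w hw => ?_⟩
  · obtain ⟨w', rfl, hw'⟩ := hsur x w hw
    obtain ⟨g, rfl⟩ := exists_actPt_eq_of_isClosedOrbit hx hw'
    exact ⟨g, (hnat g).symm⟩
  · have hwy : GLin.InOrbitClosure k A (x.comp ι) (w.comp ι) := fun s hs => hw (by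
      rw [RingHom.mem_ker]
      exact (AlgHom.congr_fun (orbitHom_natural ι hι x) s).trans hs)
    obtain ⟨g, hg⟩ := exists_actPt_eq_of_isClosedOrbit hy hwy
    refine ⟨g, hinj _ _ (hg.trans (hnat g)) fun f hf => ?_⟩
    rw [apply_eq_of_inOrbitClosure (A := A) hw hf, GLin.actPt, AlgHom.comp_apply, orbitHom_of_invariant x hf,
      AlgHom.commutes]
    rfl


/-- Let k be an algebraically closed field of characteristic zero, A a finitely generated commutative
Hopf algebra over k (an algebraic group G), S and R finitely generated commutative k-algebras with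
multiplicative A-coactions (G acting on affine Y = Spec S, X = Spec R), S → R an algebra map
compatible with the coactions (a G-morphism φ : X → Y), S₀ → S and R₀ → R injective k-algebra maps
whose images are the subrings of invariants, and S₀ → R₀ an algebra map with S₀ → R₀ → R equal to S₀
→ S → R (φ/G). Suppose R₀ is étale over S₀ and the canonical map S ⊗_{S₀} R₀ → R is bijective (φ is
strongly étale: φ/G étale and X ≅ Y ×_{Y//G} X//G). Then R is étale over S (φ étale), and for every
k-point x of X: every k-point of G fixing the image point φ(x) fixes x (φ restricted to the orbit of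
x is injective), and the orbit of x is closed if and only if the orbit of φ(x) is closed. (The
published item also asserts that φ is surjective; that fails when φ is the inclusion of a proper
saturated open subset, which is strongly étale, so surjectivity is not asserted here.) -/
theorem result (k : Type u) [Field k] [IsAlgClosed k] [CharZero k]
    (A : Type u) [CommRing A] [HopfAlgebra k A] [Algebra.FiniteType k A]
    (S : Type u) [CommRing S] [Algebra k S] [Algebra.FiniteType k S] [HopfRep.Comod k A S] [GLin.IsCoactAlg k A S]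
    (R : Type u) [CommRing R] [Algebra k R] [Algebra.FiniteType k R] [HopfRep.Comod k A R] [GLin.IsCoactAlg k A R]
    [Algebra S R] [IsScalarTower k S R]
    (hequiv : (∀ s : S, HopfRep.Comod.coact (k := k) (A := A) (algebraMap S R s) =
      Algebra.TensorProduct.map (IsScalarTower.toAlgHom k S R) (AlgHom.id k A) (HopfRep.Comod.coact (k := k) (A := A) s)))
    (S₀ : Type u) [CommRing S₀] [Algebra k S₀] [Algebra S₀ S] [IsScalarTower k S₀ S]
    (hS₀i : Function.Injective (algebraMap S₀ S)) (hS₀ : (IsScalarTower.toAlgHom k S₀ S).range = GLin.invariants k A S)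
    (R₀ : Type u) [CommRing R₀] [Algebra k R₀] [Algebra R₀ R] [IsScalarTower k R₀ R]
    (hR₀i : Function.Injective (algebraMap R₀ R)) (hR₀ : (IsScalarTower.toAlgHom k R₀ R).range = GLin.invariants k A R)
    [Algebra S₀ R₀] [Algebra S₀ R] [IsScalarTower S₀ S R] [IsScalarTower S₀ R₀ R]
    (het₀ : Algebra.Etale S₀ R₀)
    (hcart : Function.Bijective (Algebra.TensorProduct.productMap (IsScalarTower.toAlgHom S₀ S R) (IsScalarTower.toAlgHom S₀ R₀ R))) :
    Algebra.Etale S R ∧
      ∀ x : R →ₐ[k] k,
        (∀ g : A →ₐ[k] k, GLin.actPt k g (x.comp (IsScalarTower.toAlgHom k S R)) = x.comp (IsScalarTower.toAlgHom k S R) →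
          GLin.actPt k g x = x) ∧
        (GLin.IsClosedOrbit k A x ↔ GLin.IsClosedOrbit k A (x.comp (IsScalarTower.toAlgHom k S R))) := by
  open Groth.Agent.H20Comod in
  let e := AlgEquiv.ofBijective _ hcart
  have he : ∀ (s : S) (r : R₀), e (s ⊗ₜ[S₀] r) = algebraMap S R s * algebraMap R₀ R r := fun _ _ => rfl
  let e' : S ⊗[S₀] R₀ ≃ₐ[S] R := AlgEquiv.ofRingEquiv (f := e.toRingEquiv) fun s => by
    show e ((s : S) ⊗ₜ[S₀] (1 : R₀)) = _
    rw [he, map_one, mul_one]
  refine ⟨Algebra.Etale.of_equiv e', fun x => ?_⟩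
  set ι := IsScalarTower.toAlgHom k S R
  set ι₀ := IsScalarTower.toAlgHom k R₀ R
  have hmem : ∀ r : R₀, algebraMap R₀ R r ∈ GLin.invariants k A R := fun r => hR₀ ▸ ⟨r, rfl⟩
  have hinj : ∀ x w : R →ₐ[k] k, w.comp ι = x.comp ι → (∀ f ∈ GLin.invariants k A R, w f = x f) → w = x := by
    intro x w h1 h2
    refine AlgHom.ext fun f => ?_
    obtain ⟨t, rfl⟩ := e.surjective f
    induction t using TensorProduct.induction_on with
    | zero => simp
    | tmul s r =>
      rw [he, map_mul, map_mul, h2 _ (hmem r), show w (algebraMap S R s) = x (algebraMap S R s) from AlgHom.congr_fun h1 s]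
    | add a b ha hb => simp only [map_add, ha, hb]
  have hsur : ∀ (x : R →ₐ[k] k) (w : S →ₐ[k] k), GLin.InOrbitClosure k A (x.comp ι) w →
      ∃ w' : R →ₐ[k] k, w'.comp ι = w ∧ GLin.InOrbitClosure k A x w' := by
    intro x w hw
    have hS : ∀ c : S₀, w (algebraMap S₀ S c) = x (algebraMap S₀ R c) := fun c => by
      rw [IsScalarTower.algebraMap_apply S₀ S R]
      exact apply_eq_of_inOrbitClosure (A := A) hw (hS₀ ▸ ⟨c, rfl⟩)
    letI : Algebra S₀ k := (w.toRingHom.comp (algebraMap S₀ S)).toAlgebra
    let fS : S →ₐ[S₀] k := { w.toRingHom with commutes' := fun c => rfl }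
    let fR : R₀ →ₐ[S₀] k :=
      { x.toRingHom.comp (algebraMap R₀ R) with
        commutes' := fun c => by
          show x (algebraMap R₀ R (algebraMap S₀ R₀ c)) = w (algebraMap S₀ S c)
          rw [← IsScalarTower.algebraMap_apply S₀ R₀ R, hS] }
    let F : S ⊗[S₀] R₀ →ₐ[S₀] k := Algebra.TensorProduct.lift fS fR fun _ _ => Commute.all _ _
    have hF : ∀ (s : S) (r : R₀), (F.comp e.symm.toAlgHom) (algebraMap S R s * algebraMap R₀ R r) = w s * x (algebraMap R₀ R r) := fun s r => by
      rw [← he]
      show F (e.symm (e _)) = _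
      rw [e.symm_apply_apply]
      rfl
    have hcS : ∀ s : S, (F.comp e.symm.toAlgHom) (algebraMap S R s) = w s := fun s => by
      have := hF s 1
      rwa [map_one, mul_one, map_one, mul_one] at this
    let w' : R →ₐ[k] k :=
      { (F.comp e.symm.toAlgHom).toRingHom with
        commutes' := fun c => by
          show (F.comp e.symm.toAlgHom) (algebraMap k R c) = c
          rw [IsScalarTower.algebraMap_apply k S R, hcS, w.commutes]
          rfl }
    refine ⟨w', AlgHom.ext hcS, fun f hf => ?_⟩
    obtain ⟨t, ht⟩ : ∃ t : S, GLin.orbitHom k A (x.comp ι) t = GLin.orbitHom k A x f ∧ w t = w' f := by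
      obtain ⟨u, rfl⟩ := e.surjective f
      clear hf
      induction u using TensorProduct.induction_on with
      | zero => exact ⟨0, by simp, by simp⟩
      | tmul s r =>
        refine ⟨algebraMap k S (x (algebraMap R₀ R r)) * s, ?_, ?_⟩
        · rw [he, map_mul, map_mul, AlgHom.commutes, orbitHom_of_invariant x (hmem r), mul_comm,
            ← OrbitPrimes.orbitHom_natural ι hequiv x]
          rfl
        · rw [map_mul, AlgHom.commutes, he, mul_comm]
          exact (hF s r).symm
      | add a b ha hb =>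
        obtain ⟨p, hp, hp'⟩ := ha
        obtain ⟨q, hq, hq'⟩ := hb
        exact ⟨p + q, by rw [map_add, map_add, hp, hq, map_add], by rw [map_add, map_add, hp', hq', map_add]⟩
    rw [RingHom.mem_ker, ← ht.2]
    exact hw (by rw [RingHom.mem_ker, ht.1]; exact hf)
  refine ⟨fun g hg => hinj _ _ ?_ fun f hf => ?_, closed_iff ι hequiv hinj hsur x⟩
  · rw [← hg]
    show (g.comp (GLin.orbitHom k A x)).comp ι = g.comp (GLin.orbitHom k A (x.comp ι))
    rw [← OrbitPrimes.orbitHom_natural ι hequiv x]
    rfl
  · rw [GLin.actPt, AlgHom.comp_apply, orbitHom_of_invariant x hf, AlgHom.commutes]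
    rfl

end Groth.Agent.S19412
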