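import Groth.Statements.S19416
import Groth.Agent.H3CAlg.IntPoints

set_option autoImplicit false
universe u
open CategoryTheory AlgebraicGeometry
open IntMult

namespace Groth.Agent.S19416

/-- Let k be a field and X a smooth variety over k (the structure morphism X → Spec k smooth, separated
and quasi-compact, X integral) of dimension n, and let V, W ⊆ X be closed irreducible subsets of
dimensions r and s. Then every irreducible component Z of V ∩ W has dimension at least r + s − n,
stated as r + s ≤ dim Z + n with Krull dimensions of the subspaces; equivalently the codimension of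
Z is at most the sum of the codimensions of V and W. The base field is arbitrary here; the same
statement over an algebraically closed field is the classical dimension count for intersections on a
nonsingular variety. -/
theorem result (k : Type u) [Field k] (X : Scheme.{u})
    (f : X ⟶ Spec (CommRingCat.of k)) [Smooth f] [IsSeparated f] [QuasiCompact f] [IsIntegral X]
    (n r s : ℕ) (hn : topologicalKrullDim X = n) (V W : Set X) (hVc : IsClosed V)
    (hVi : IsIrreducible V) (hWc : IsClosed W) (hWi : IsIrreducible W)
    (hr : topologicalKrullDim ↥V = r) (hs : topologicalKrullDim ↥W = s) (Z : Set ↥(V ∩ W))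
    (hZ : Z ∈ irreducibleComponents ↥(V ∩ W)) :
    ((r + s : ℕ) : WithBot ℕ∞) ≤ topologicalKrullDim ↥Z + n := by
  open Groth.Agent.H8Props.FieldDim Groth.Agent.H3CAlg.IntPoints in
  haveI : QuasiSober ↥(V ∩ W) := (hVc.inter hWc).isClosedEmbedding_subtypeVal.quasiSober
  obtain ⟨z, hz⟩ := QuasiSober.sober hZ.1 (isClosed_of_mem_irreducibleComponents Z hZ)
  obtain ⟨x, hx⟩ := QuasiSober.sober hVi hVc
  obtain ⟨y, hy⟩ := QuasiSober.sober hWi hWc
  have himg : Subtype.val '' Z = closure ({z.1} : Set X) := by
    rw [← hz.def, ← (hVc.inter hWc).isClosedEmbedding_subtypeVal.closure_image_eq, Set.image_singleton]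
  have hZd : topologicalKrullDim ↥Z = Groth.Agent.H8Props.FieldDim.cdim z.1 := by
    rw [Groth.Agent.H8Props.FieldDim.cdim, ← himg]
    exact IsHomeomorph.topologicalKrullDim_eq _
      ((Topology.IsEmbedding.subtypeVal.homeomorphImage Z).isHomeomorph)
  have key := Groth.Agent.H3CAlg.IntPoints.cdim_add_le f (hx.specializes z.2.1) (hy.specializes z.2.2)
    fun w hxw hyw hwz => by
      let w' : ↥(V ∩ W) := ⟨w, hxw.mem_closed hVc hx.mem, hyw.mem_closed hWc hy.mem⟩
      have hwz' : w' ⤳ z := (subtype_specializes_iff w' z).mpr hwz
      have h1 : Z ⊆ closure {w'} := hz.def ▸ specializes_iff_closure_subset.mp hwz'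
      have h3 : z ⤳ w' :=
        hz.specializes (hZ.2 isIrreducible_singleton.closure h1 (subset_closure (Set.mem_singleton _)))
      exact (hwz.antisymm ((subtype_specializes_iff z w').mp h3)).eq
  rw [← Groth.Agent.H3CAlg.IntPoints.dim_eq_cdim_of_isGenericPoint hx,
    ← Groth.Agent.H3CAlg.IntPoints.dim_eq_cdim_of_isGenericPoint hy, hr, hs, hn, ← hZd] at key
  exact_mod_cast key

end Groth.Agent.S19416
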