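import Groth.Statements.S19419
import Groth.Agent.H8Props.NilThickTor
import Groth.Agent.H26CDiv.Dim1
import Groth.Agent.S18400
-- import your own Groth.Agent.* helpers here

set_option autoImplicit false
set_option linter.style.haveILetI false
set_option backward.isDefEq.respectTransparency.types false
universe u
open CategoryTheory CategoryTheory.Limits AlgebraicGeometry
open Cyc

namespace Groth.Agent.S19419

theorem length_fibre_eq_one {P Q A B : Scheme.{u}} {g : A ⟶ P} {ψ : A ⟶ B} {m : P ⟶ Q} {Δ : B ⟶ Q}
    [IsClosedImmersion g] [IsClosedImmersion Δ] (sq : IsPullback g ψ m Δ) (x : A)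
    (h₁ : IsField (A.presheaf.stalk x)) (h₂ : IsField (B.presheaf.stalk (ψ x))) :
    (Module.length (P.presheaf.stalk (g x))
      (P.presheaf.stalk (g x) ⧸ Ideal.map (m.stalkMap (g x)).hom
        (IsLocalRing.maximalIdeal (Q.presheaf.stalk (m (g x)))))).toNat = 1 := by
  have hk := H8Props.NilThick.ker_stalkMap_eq sq x
  letI := h₁.toField
  letI := h₂.toField
  have e1 : RingHom.ker (g.stalkMap x).hom = IsLocalRing.maximalIdeal (P.presheaf.stalk (g x)) :=
    IsLocalRing.eq_maximalIdeal (RingHom.ker_isMaximal_of_surjective _ (g.stalkMap_surjective x))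
  have e2 : RingHom.ker (H8Props.NilThick.baseMap sq x).hom = IsLocalRing.maximalIdeal (Q.presheaf.stalk (m (g x))) :=
    IsLocalRing.eq_maximalIdeal (RingHom.ker_isMaximal_of_surjective _ ((Δ.stalkMap_surjective _).comp
      (ConcreteCategory.bijective_of_isIso
        (Q.presheaf.stalkCongr (.of_eq (H8Props.NilThick.base_eq sq x))).hom).2))
  rw [e1, e2] at hk
  rw [← hk]
  haveI : IsSimpleModule (P.presheaf.stalk (g x)) (P.presheaf.stalk (g x) ⧸ IsLocalRing.maximalIdeal (P.presheaf.stalk (g x))) :=
    isSimpleModule_iff_isCoatom.2 (IsLocalRing.maximalIdeal.isMaximal _).out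
  rw [Module.length_eq_one]
  rfl

/-- Let X be a smooth proper integral curve over an algebraically closed field k, with generic point η,
and ψ : X → X a flat endomorphism over k. Let Y = X ×_k X with its two projections, m = ψ × id : Y →
Y (first projection intertwines ψ, second projection unchanged), d : X → Y the diagonal and g = (id,
ψ) : X → Y the graph of ψ. For the dimension function δ on Y induced from weight 0 on Spec k, the
flat pull-back of cycles along m in relative dimension 0 takes the diagonal divisor [Δ], the cycle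
equal to 1 at d(η) and 0 elsewhere, to the graph divisor [Γ_ψ], the cycle equal to 1 at g(η) and 0
elsewhere: (ψ × id)^*[Δ] = [Γ_ψ]. The published statement allows any endomorphism ψ and reads the
pull-back on divisors; flatness of ψ is what the flat pull-back of cycles requires (the intended
case is the Frobenius endomorphism), and iterating gives [Γ_{ψ^n}] = ((ψ × id)^*)^n [Δ]. -/
theorem result (k : Type u) [Field k]
    [IsAlgClosed k] (X : Scheme.{u}) (f : X ⟶ Spec (CommRingCat.of k)) [Smooth f] [IsProper f]
    [IsIntegral X] (hdim : topologicalKrullDim ↥X = 1) (ψ : X ⟶ X) (hψ : ψ ≫ f = f) [Flat ψ]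
    (m : pullback f f ⟶ pullback f f) (hm₁ : m ≫ pullback.fst f f = pullback.fst f f ≫ ψ)
    (hm₂ : m ≫ pullback.snd f f = pullback.snd f f) (g : X ⟶ pullback f f)
    (hg₁ : g ≫ pullback.fst f f = 𝟙 X) (hg₂ : g ≫ pullback.snd f f = ψ)
    (δ : ↥(pullback f f) → ℤ) (hδ : Cyc.DeltaCompat (pullback.fst f f ≫ f) δ (fun _ => 0)) :
    Cyc.pullFun m δ δ 0
        (Set.indicator ({pullback.diagonal f (genericPoint ↥X)} : Set ↥(pullback f f)) (fun _ => (1 : ℤ))) =
      Set.indicator ({g (genericPoint ↥X)} : Set ↥(pullback f f)) (fun _ => (1 : ℤ)) := by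
    classical
  open CategoryTheory.Limits in
  haveI : IsProper ψ := by
    haveI : IsProper (ψ ≫ f) := by rw [hψ]; infer_instance
    exact MorphismProperty.of_postcomp @IsProper (W' := @IsSeparated) ψ f inferInstance inferInstance
  haveI : IsClosedImmersion (g ≫ Limits.pullback.fst f f) := by rw [hg₁]; infer_instance
  haveI : IsClosedImmersion g := IsClosedImmersion.of_comp g (Limits.pullback.fst f f)
  haveI : IsClosedImmersion (Limits.pullback.diagonal f) := inferInstance
  set η := genericPoint ↥X with hη
  have sq : IsPullback g ψ m (Limits.pullback.diagonal f) := by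
    have hw : g ≫ m = ψ ≫ Limits.pullback.diagonal f := by
      apply Limits.pullback.hom_ext
      · simp [hm₁, reassoc_of% hg₁]
      · simp [hm₂, hg₂]
    refine ⟨⟨hw⟩, ⟨Limits.PullbackCone.IsLimit.mk hw (fun s => s.fst ≫ Limits.pullback.fst f f) (fun s => ?_)
      (fun s => ?_) (fun s l h1 h2 => by rw [← h1, Category.assoc, hg₁, Category.comp_id])⟩⟩
    · have h1 : s.fst ≫ Limits.pullback.snd f f = s.snd := by
        simpa [hm₂] using congrArg (· ≫ Limits.pullback.snd f f) s.condition
      have h2 : s.fst ≫ Limits.pullback.fst f f ≫ ψ = s.snd := by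
        simpa [hm₁] using congrArg (· ≫ Limits.pullback.fst f f) s.condition
      apply Limits.pullback.hom_ext
      · rw [Category.assoc, Category.assoc, hg₁, Category.comp_id]
      · rw [Category.assoc, Category.assoc, hg₂, h2, h1]
    · simpa [hm₁] using congrArg (· ≫ Limits.pullback.fst f f) s.condition
  have hψη : ψ η = η := by
    refine ((genericPoint_specializes (ψ η)).antisymm ?_).eq.symm
    obtain ⟨y, hy, hye⟩ := Flat.generalizingMap ψ |>.stableUnderGeneralization_image
      (s := Set.univ) (fun _ _ _ _ => trivial) (genericPoint_specializes (ψ η)) ⟨η, trivial, rfl⟩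
    rw [← hye]
    exact (genericPoint_specializes y).map ψ.continuous
  have hfib : ∀ x, ψ x = η → x = η := fun x hx => by
    by_contra hne
    have hc : IsClosed ({η} : Set X) := by
      have := ψ.isClosedMap _ (H26CDiv.isClosed_singleton_of_ne_genericPoint (le_of_eq hdim) hne)
      rwa [Set.image_singleton, hx] at this
    exact hne ((genericPoint_specializes x).mem_closed hc rfl)
  have hδeq : δ (g η) = δ (Limits.pullback.diagonal f η) := by
    have h1 : Cyc.DeltaCompat (g ≫ Limits.pullback.fst f f ≫ f) (fun x => δ (g x)) (fun _ => 0) :=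
      Groth.Agent.H3Cyc.BCPush.deltaCompat_comp g _ (Groth.Agent.H3Cyc.Reduction.deltaCompat_immersion g δ) hδ
    have h2 : Cyc.DeltaCompat (Limits.pullback.diagonal f ≫ Limits.pullback.fst f f ≫ f)
        (fun x => δ (Limits.pullback.diagonal f x)) (fun _ => 0) :=
      Groth.Agent.H3Cyc.BCPush.deltaCompat_comp _ _
        (Groth.Agent.H3Cyc.Reduction.deltaCompat_immersion (Limits.pullback.diagonal f) δ) hδ
    rw [← Category.assoc, hg₁, Category.id_comp] at h1
    rw [Limits.pullback.diagonal_fst_assoc] at h2
    exact congrFun (Groth.Agent.H3Cyc.OpenSupp.deltaCompat_unique f h1 h2) η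
  have hmg : m (g η) = Limits.pullback.diagonal f η := by
    show (g ≫ m) η = _
    rw [sq.w]
    show (Limits.pullback.diagonal f) (ψ η) = _
    rw [hψη]
  funext z
  by_cases hz : z = g η
  · subst hz
    rw [Set.indicator_of_mem (Set.mem_singleton _), Cyc.pullFun, if_pos (by rw [hmg, hδeq, add_zero]),
      Set.indicator_of_mem (show m (g η) ∈ ({Limits.pullback.diagonal f η} : Set _) from hmg), one_mul]
    have hfld : IsField (X.presheaf.stalk η) := by
      show IsField X.functionField
      exact Field.toIsField _
    rw [length_fibre_eq_one sq η hfld (by rw [hψη]; exact hfld)]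
    rfl
  · rw [Set.indicator_of_notMem (show z ∉ ({g η} : Set _) from hz), Cyc.pullFun]
    split_ifs
    · rw [Set.indicator_of_notMem, zero_mul]
      intro h
      apply hz
      obtain ⟨x, hx, hx'⟩ := Scheme.exists_preimage_of_isPullback sq z η (Set.mem_singleton_iff.1 h)
      rw [← hx]
      exact congrArg _ (hfib x hx')
    · rfl


end Groth.Agent.S19419
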