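import Groth.Statements.S1942
import Groth.Agent.H3Cyc.SheafLen
import Groth.Agent.H3Cyc.C1Api
import Groth.Agent.H3Cyc.FlatRat
import Groth.Agent.H06Mod.StalkFaithful
-- import your own Groth.Agent.* helpers here

set_option autoImplicit false
universe u
open CategoryTheory AlgebraicGeometry
open CategoryTheory.Limits
open Cyc
open Groth.Agent
open Groth.Agent.H3Cyc
open scoped Pointwise

namespace Groth.Agent.S1942

/-- Let (L, s, i : D → X) be an invertible module, a global section and its zero scheme, and F a
coherent O_X-module with δ ≤ k + 1 on its support such that s : F → F ⊗ L is injective (at each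
point, writing s = f·t on a generator t of L_x, multiplication by f is injective on F_x). Then
i^*[F]_{k+1} ∼_rat [i^*F]_k as k-cycles on D. Here i : D → X is the zero scheme of a global section
s of the invertible module L (Cyc.IsZeroSchemeOf), the Gysin map i^* : Z_{k+1}(X) → CH_k(D) is
computed on coefficient functions as c_1(L) ∩ − with the rational sections taken to be s where it is
nonzero (Cyc.gysinChoice) and restricted to the points of D, and classes on D are compared up to
rational equivalence on D for the restricted dimension function. Here a pair (X, δ) satisfying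
Cyc.IsSetup (X locally Noetherian with universally catenary local rings, δ a dimension function)
plays the role of a scheme locally of finite type over a fixed base equipped with a dimension
function. -/
theorem result (X D : Scheme.{u}) (δ : X → ℤ) (hX : Cyc.IsSetup X δ) (L : X.Modules) (hL : PicF.IsInvertible L) (s : L.presheaf.obj (Opposite.op ⊤)) (i : D ⟶ X) [IsClosedImmersion i] (hD : Cyc.IsZeroSchemeOf i L s) (k : ℤ) (F : X.Modules) (hF : Coh.IsCoh F) (hdim : ∀ x : X, Nontrivial (F.presheaf.stalk x) → δ x ≤ k + 1) (hreg : ∀ (x : X) (t : L.presheaf.stalk x) (f : X.presheaf.stalk x), Submodule.span (X.presheaf.stalk x) {t} = ⊤ → (L.presheaf.germ ⊤ x trivial) s = f • t → Function.Injective (fun m : F.presheaf.stalk x => f • m)) (w : (ξ : X) → Cyc.secFibre L ξ) (hw : ∀ ξ, w ξ ≠ 0) (γ : AlgebraicCycle D ℤ) (hγ : ∀ d, γ d = Cyc.c1CapFun δ L (Cyc.sheafFun δ (k + 1) F) (Cyc.gysinChoice L s w) (i d)) (ζ : AlgebraicCycle D ℤ) (hζ : ⇑ζ = Cyc.sheafFun (fun d => δ (i d)) k ((Scheme.Modules.pullback i).obj F)) : Cyc.RatEquiv (fun d => δ (i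 d)) k γ ζ := by
  haveI := hX.1
  classical
  have key : ∀ d, γ d = ζ d := by
    intro d
    rw [hγ, hζ]
    by_cases hx : δ (i d) = k
    swap
    · rw [Cyc.sheafFun, if_neg hx, Cyc.c1CapFun]
      refine (finsum_congr fun ξ => ?_).trans finsum_zero
      rw [Cyc.sheafFun]
      split_ifs with h
      · rw [Cyc.secDivFun, dif_neg fun hh => hx (by have := hh.2; omega), mul_zero]
      · rw [zero_mul]
    rw [Cyc.sheafFun, if_pos hx]
    let x : X := i d
    obtain ⟨V, e, hxV, he⟩ := Groth.Agent.H11Ample.exists_gen hL x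
    obtain ⟨t, f, ht, hft, hker⟩ := hD.2 d
    obtain ⟨u, hu⟩ := (he x hxV).2 t
    obtain ⟨v, hv⟩ := Submodule.mem_span_singleton.mp (ht.symm ▸ Submodule.mem_top :
      L.presheaf.germ V x hxV e ∈ Submodule.span (X.presheaf.stalk x) {t})
    have hvu : IsUnit u := IsUnit.of_mul_eq_one_right v ((he x hxV).1 (by
      show (v * u) • L.presheaf.germ V x hxV e = (1 : X.presheaf.stalk x) • L.presheaf.germ V x hxV e
      rw [mul_smul, show u • L.presheaf.germ V x hxV e = t from hu, hv, one_smul]))
    have hsa : (L.presheaf.germ ⊤ x trivial) s = (f * u) • L.presheaf.germ V x hxV e := by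
      rw [mul_smul, show u • L.presheaf.germ V x hxV e = t from hu]
      exact hft
    have hker' : RingHom.ker (i.stalkMap d).hom = Ideal.span {f * u} :=
      hker.trans (Ideal.span_singleton_mul_right_unit hvu f).symm
    obtain ⟨a, ha⟩ : ∃ a : X.presheaf.stalk x, a = f * u := ⟨_, rfl⟩
    rw [← ha] at hsa hker'
    have hspan : ∀ (z : X) (hzV : z ∈ V),
        Submodule.span (X.presheaf.stalk z) {L.presheaf.germ V z hzV e} = ⊤ := fun z hzV =>
      Submodule.eq_top_iff'.mpr fun m => Submodule.mem_span_singleton.mpr ((he z hzV).2 m)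
    have hsz : ∀ (z : X) (hz : z ⤳ x), (L.presheaf.germ ⊤ z trivial) s =
        X.presheaf.stalkSpecializes hz a • L.presheaf.germ V z (hz.mem_open V.2 hxV) e := fun z hz => by
      rw [← TopCat.Presheaf.germ_stalkSpecializes_apply L.presheaf (U := ⊤) trivial hz s, hsa,
        C1Api.stalkSpecializes_smul, TopCat.Presheaf.germ_stalkSpecializes_apply]
    have hd : ∀ z : X, z ⤳ x → z ≠ x → Nontrivial (F.presheaf.stalk z) → δ z = k + 1 := fun z hz hne hnt => by
      have h1 := (hX.2.2 _ _ hz hne).1
      have h2 := hdim z hnt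
      have h3 : δ x = k := hx
      omega
    have hgen : ∀ z : X, z ⤳ x → z ≠ x → Nontrivial (F.presheaf.stalk z) →
        ∀ w : X, w ⤳ z → Nontrivial (F.presheaf.stalk w) → w = z := fun z hz hne hnt w hw hwt => by
      by_contra hwz
      have h1 := (hX.2.2 _ _ hw hwz).1
      have h2 := hdim w hwt
      have h3 := hd z hz hne hnt
      omega
    have hne : ∀ z (hz : z ⤳ x), z ≠ x → Nontrivial (F.presheaf.stalk z) → Cyc.specMap x z hz a ≠ 0 := by
      intro z hz hzx hnt h0
      have h1 : X.presheaf.stalkSpecializes hz a ∈ IsLocalRing.maximalIdeal (X.presheaf.stalk z) :=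
        (IsLocalRing.residue_eq_zero_iff _).mp h0
      have hinj := hreg z _ _ (hspan z (hz.mem_open V.2 hxV)) (hsz z hz)
      haveI : Module.Finite (X.presheaf.stalk z) (F.presheaf.stalk z) := H3CAlg.ChiStalk.finite_stalk F hF z
      haveI := (isFiniteLength_iff_isNoetherian_isArtinian.mp (Module.length_ne_top_iff.mp
        (H22Alg.CohSupport.length_stalk_lt_top F hF z fun w hw hwz => hgen z hz hzx hnt w hwz hw).ne)).2
      have hsurj := IsArtinian.surjective_of_injective_endomorphism
        (LinearMap.lsmul (X.presheaf.stalk z) (F.presheaf.stalk z) (X.presheaf.stalkSpecializes hz a)) hinj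
      have htop : (⊤ : Submodule (X.presheaf.stalk z) (F.presheaf.stalk z)) = ⊥ :=
        Submodule.eq_bot_of_le_smul_of_le_jacobson_bot (IsLocalRing.maximalIdeal _) _ Module.Finite.fg_top
          (fun m _ => by
            obtain ⟨n, rfl⟩ := hsurj m
            exact Submodule.smul_mem_smul h1 trivial)
          (IsLocalRing.maximalIdeal_le_jacobson _)
      exact not_subsingleton (F.presheaf.stalk z) (Submodule.subsingleton_iff _ |>.mp (subsingleton_of_bot_eq_top htop.symm))
    let T := (SheafLen.finite_gen F hF x hgen).toFinset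
    have hT : ∀ z, z ∈ T ↔ z ⤳ x ∧ z ≠ x ∧ Nontrivial (F.presheaf.stalk z) :=
      fun z => (SheafLen.finite_gen F hF x hgen).mem_toFinset
    have hrega : IsSMulRegular (F.presheaf.stalk x) a := hreg x _ _ (hspan x hxV) hsa
    have hlen : Module.length (D.presheaf.stalk d) (((Scheme.Modules.pullback i).obj F).presheaf.stalk d) =
        Module.length (X.presheaf.stalk x)
          (F.presheaf.stalk x ⧸ a • (⊤ : Submodule (X.presheaf.stalk x) (F.presheaf.stalk x))) := by
      letI := H06Mod.stalkAlgebra i d
      have hs : Function.Surjective (algebraMap (X.presheaf.stalk (i.base d)) (D.presheaf.stalk d)) :=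
        i.stalkMap_surjective d
      let φ : (X.presheaf.stalk x ⧸ Ideal.span {a}) ≃ₗ[X.presheaf.stalk x] D.presheaf.stalk d :=
        (Submodule.quotEquivOfEq _ _ hker'.symm).trans
          (Ideal.quotientKerAlgEquivOfSurjective (f := Algebra.ofId (X.presheaf.stalk (i.base d)) (D.presheaf.stalk d)) hs).toLinearEquiv
      rw [← (H06Mod.pullStalkEquiv i F d).length_eq, ← Module.length_eq_of_surjective (S := X.presheaf.stalk (i.base d))
        (R := D.presheaf.stalk d) hs, ← Submodule.ideal_span_singleton_smul a ⊤]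
      exact ((TensorProduct.congr φ (LinearEquiv.refl _ _)).symm.trans
        (TensorProduct.quotTensorEquivQuotSMul (F.presheaf.stalk x) (Ideal.span {a}))).length_eq
    rw [hlen, SheafLen.length_quot_smul_stalk F hF x hgen T hT a hrega hne, Cyc.c1CapFun,
      finsum_eq_sum_of_support_subset _ (s := T) ?_,
      ← Finset.sum_attach T (fun ξ => Cyc.sheafFun δ (k + 1) F ξ * Cyc.secDivFun δ L ξ (Cyc.gysinChoice L s w ξ) x)]
    · refine Finset.sum_congr rfl fun z _ => ?_
      obtain ⟨hz, hzx, hnt⟩ := (hT z.1).mp z.2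
      have hzd := hd z.1 hz hzx hnt
      have hxd : δ x = k := hx
      have hres : X.residue z.1 (X.presheaf.stalkSpecializes hz a) ≠ 0 := hne z.1 hz hzx hnt
      have hm : (Submodule.Quotient.mk ((L.presheaf.germ ⊤ z.1 trivial) s) : Cyc.secFibre L z.1) ≠ 0 := by
        rw [hsz z.1 hz]
        rw [Submodule.Quotient.mk_smul]
        exact (C1Api.residue_ne_zero_iff he (hz.mem_open V.2 hxV) _).mpr hres
      rw [Cyc.sheafFun, if_pos hzd, Cyc.gysinChoice, if_pos hm, hsz z.1 hz, Submodule.Quotient.mk_smul,
        C1Api.secDivFun_gen he δ (hz.mem_open V.2 hxV) (X.presheaf.stalkSpecializes hz a) hres hxV,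
        Cyc.divFun, dif_pos ⟨hz, by omega⟩]
      congr 1
      haveI := GenStalk.isPrime_ker x z.1 hz
      have hdimq : ringKrullDim (Cyc.LocQuot x z.1 hz) ≤ 1 := by
        haveI : Module.Finite (X.presheaf.stalk x) (F.presheaf.stalk x) := H3CAlg.ChiStalk.finite_stalk F hF x
        refine le_trans ?_ (SheafLen.supportDim_le_one F hF x hgen)
        rw [ringKrullDim_quotient]
        refine Order.krullDim_le_of_strictMono (fun q => ⟨q.1, Module.mem_support_mono (?_ : _ ≤ q.1)
          ((SheafLen.mem_support_iff F hF x z.1 hz).mpr hnt)⟩) fun q q' hq => hq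
        exact fun c hc => q.2 hc
      have h := FlatRat.ordAt_div' x z.1 hz hdimq a 1 (hne z.1 hz hzx hnt) (by rw [map_one]; exact one_ne_zero)
      rw [map_one, div_one, map_one, Ring.ord_one, ENat.toNat_zero, Nat.cast_zero, sub_zero] at h
      exact h
    · intro ξ hξ
      have h1 := C1Api.secDivFun_ne_zero (right_ne_zero_of_mul hξ)
      have h0 := left_ne_zero_of_mul hξ
      rw [Cyc.sheafFun, ne_eq, ite_eq_right_iff, Classical.not_imp] at h0
      refine Finset.mem_coe.mpr ((hT ξ).mpr ⟨h1, fun e => ?_, ?_⟩)
      · have h3 : δ x = k := hx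
        rw [e] at h0
        omega
      · by_contra hn
        rw [not_nontrivial_iff_subsingleton] at hn
        exact h0.2 (by rw [Module.length_eq_zero]; simp)
  refine ⟨PEmpty, fun e => e.elim, fun e => e.elim, fun e => e.elim, fun e => e.elim,
    fun y => ⟨Set.univ, isOpen_univ, trivial, Set.toFinite _⟩, fun y => ?_⟩
  rw [finsum_of_isEmpty]
  show γ y - ζ y = 0
  rw [key, sub_self]

end Groth.Agent.S1942
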