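import Groth.Statements.S19420
import Groth.Agent.H20Forms.Cubic

set_option autoImplicit false
universe u
open TensorProduct LaurentPolynomial
open GIT

namespace Groth.Agent.S19420
open MvPolynomial CoordGrp Groth.Agent.H20Forms in
theorem bad_of_nullform (k : Type u) [Field k] [IsAlgClosed k] [CharZero k] (a : FormIdx 3 3 → k)
    (h : @GLin.IsNullform k _ (SLn 3 k) _ _ (FormIdx 3 3) (act 3 (slHom k 3)) (isCoactAlg_act (slHom k 3)) a) :
    ∃ w : Fin 3 → k, w ≠ 0 ∧ (∀ i : Fin 3, eval w (pderiv i (formPoly a)) = 0) ∧ (hess (formPoly a) w).rank ≤ 1 := by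
  obtain ⟨M₀, hM₀, r₀, hr₀, hw₀⟩ := (isNullform_iff a).1 h
  obtain ⟨P, hP, hperm⟩ := exists_permuted (k := k) (n := 3) (d := 3) (by norm_num) (Tuple.sort r₀)
  let r : Fin 3 → ℤ := r₀ ∘ Tuple.sort r₀
  have hmono : Monotone r := Tuple.monotone_sort r₀
  have hM : (M₀ * P).det = 1 := by rw [Matrix.det_mul, hM₀, hP, one_mul]
  have hwt : ∀ m, move (M₀ * P) a m ≠ 0 → 1 ≤ weight r m := fun m hm =>
    hperm _ r₀ 1 (fun m hm => hw₀ m hm) m (by rwa [move_move])
  have hsum : r 0 + r 1 + r 2 = 0 := by
    rw [← Fin.sum_univ_three r]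
    exact (Equiv.sum_comp (Tuple.sort r₀) r₀).trans hr₀
  have h01 : r 0 ≤ r 1 := hmono (by decide)
  have h12 : r 1 ≤ r 2 := hmono (by decide)
  have hF : ∀ m, (formPoly (move (M₀ * P) a)).coeff m ≠ 0 → m.degree = 2 + 1 ∧ 1 ≤ ∑ i, r i * (m i : ℤ) :=
    fun m hm => weight_pos_of_coeff (fun m hm => hwt m hm) m hm
  have hw : ∀ i, (Pi.single 0 1 : Fin 3 → k) i ≠ 0 → r i ≤ r 0 := fun i hi => by
    by_cases h0 : i = 0
    · rw [h0]
    · rw [Pi.single_eq_of_ne h0] at hi; exact absurd rfl hi
  refine ⟨(M₀ * P).mulVec (Pi.single 0 1), mulVec_ne_zero hM (by simp), ?_, ?_⟩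
  · refine congrFun ((grad_move_eq_zero_iff hM a _).1 (funext fun j => ?_))
    refine eval_pderiv_of_weight (d := 3) _ r 1 (r 0) _ hF hw j ?_
    push_cast
    fin_cases j <;> simp <;> omega
  · rw [← rank_hess_move _ hM]
    refine rank_le_of_rows _ ![(2 : Fin 3)] (Function.injective_of_subsingleton _) fun i hi j => ?_
    have hi2 : i ≠ 2 := fun h2 => hi ⟨0, by simp [h2]⟩
    refine eval_pderiv_pderiv_of_weight (d := 2) _ r 1 (r 0) _ hF hw i j ?_
    push_cast
    fin_cases i <;> fin_cases j <;> simp at hi2 ⊢ <;> omega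

open MvPolynomial CoordGrp Groth.Agent.H20Forms in
theorem nullform_of_bad (k : Type u) [Field k] [IsAlgClosed k] [CharZero k] (a : FormIdx 3 3 → k) {w : Fin 3 → k} (hw : w ≠ 0)
    (hz : ∀ i : Fin 3, eval w (pderiv i (formPoly a)) = 0) (hr : (hess (formPoly a) w).rank ≤ 1) :
    @GLin.IsNullform k _ (SLn 3 k) _ _ (FormIdx 3 3) (act 3 (slHom k 3)) (isCoactAlg_act (slHom k 3)) a := by
  obtain ⟨M, hM, hsupp⟩ := exists_bad_chart (n := 1) a hw hz hr
  refine (isNullform_iff a).2 ⟨M, hM, ![-5, 2, 3], by simp [Fin.sum_univ_three], fun m hm => ?_⟩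
  have hdeg : m.1 0 + m.1 1 + m.1 2 = 3 := by
    rw [← Fin.sum_univ_three (fun i => m.1 i), ← Finsupp.degree_eq_sum, m.2]
  have e : weight ![-5, 2, 3] m = -5 * (m.1 0 : ℤ) + 2 * m.1 1 + 3 * m.1 2 := by simp [weight, Fin.sum_univ_three]
  rw [e]
  rcases hsupp m hm with h | ⟨h, h'⟩ <;> omega

open MvPolynomial CoordGrp Groth.Agent.H20Forms in
theorem rank_hess_le (k : Type u) [Field k] [IsAlgClosed k] [CharZero k] (a : FormIdx 3 3 → k) {w : Fin 3 → k} (hw : w ≠ 0)
    (hz : ∀ i : Fin 3, eval w (pderiv i (formPoly a)) = 0) : (hess (formPoly a) w).rank ≤ 2 := by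
  have hk : (hess (formPoly a) w).mulVec w = 0 := by
    funext i
    show ∑ j, eval w (pderiv i (pderiv j (formPoly a))) * w j = 0
    have hcomm : ∀ j, pderiv i (pderiv j (formPoly a)) = pderiv j (pderiv i (formPoly a)) := fun j => by
      refine MvPolynomial.ext _ _ fun m => ?_
      rw [coeff_pderiv, coeff_pderiv, coeff_pderiv, coeff_pderiv, add_right_comm]
      rcases eq_or_ne i j with rfl | hij
      · ring
      · simp [Finsupp.single_eq_of_ne hij, Finsupp.single_eq_of_ne hij.symm]
        ring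
    have heul := congrArg (eval w) ((isHomogeneous_formPoly a).pderiv (i := i)).sum_X_mul_pderiv
    rw [map_sum, map_nsmul, hz i, smul_zero] at heul
    refine Eq.trans (Finset.sum_congr rfl fun j _ => ?_) heul
    rw [hcomm, map_mul, eval_X, mul_comm]
  have h := LinearMap.finrank_range_add_finrank_ker (hess (formPoly a) w).mulVecLin
  rw [Module.finrank_fintype_fun_eq_card, Fintype.card_fin] at h
  have h1 : 0 < Module.finrank k (LinearMap.ker (hess (formPoly a) w).mulVecLin) := by
    refine Module.finrank_pos_iff_exists_ne_zero.2 ⟨⟨w, hk⟩, fun h0 => hw (congrArg Subtype.val h0)⟩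
  rw [Matrix.rank]
  omega


/-- Let k be an algebraically closed field of characteristic zero and let SL_3 act by substitution on
ternary cubic forms, the point a having the form F = Σ_m (3; m) a_m x^m. Then a is semistable (some
invariant homogeneous polynomial of positive degree in the coefficients is non-zero at a) if and
only if at every non-zero vector w where all first partial derivatives of F vanish, the matrix of
second partial derivatives of F at w has rank 2: every singular point of the plane cubic F = 0 is a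
double point with two distinct tangent lines. (The published statement assumes only that the
characteristic of k is neither 2 nor 3; it is stated here in characteristic zero.) -/
theorem result (k : Type u) [Field k] [IsAlgClosed k] [CharZero k]
    (a : CoordGrp.FormIdx 3 3 → k) :
    @GLin.IsSemistableVec k _ (CoordGrp.SLn 3 k) _ _ (CoordGrp.FormIdx 3 3) (GLin.comodAlong ((CoordGrp.SLn.mkHom 3 k).comp (CoordGrp.Mat.toGLn 3 k)) (CoordGrp.formsCoact k 3 3))
      (GLin.isCoactAlg_comodAlong ((CoordGrp.SLn.mkHom 3 k).comp (CoordGrp.Mat.toGLn 3 k)) (CoordGrp.formsCoact k 3 3)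
        (CoordGrp.formsCoact_isCoactAlg k 3 3))
      a ↔
      ∀ w : Fin 3 → k, w ≠ 0 →
        (∀ i : Fin 3, MvPolynomial.eval w (MvPolynomial.pderiv i (CoordGrp.formPoly a)) = 0) →
          (Matrix.of fun i j : Fin 3 =>
            MvPolynomial.eval w (MvPolynomial.pderiv i (MvPolynomial.pderiv j (CoordGrp.formPoly a)))).rank = 2 := by
  constructor
  · intro hss w hw hz
    have h2 : (Groth.Agent.H20Forms.hess (CoordGrp.formPoly a) w).rank ≤ 2 := rank_hess_le k a hw hz
    by_contra hne
    exact hss (nullform_of_bad k a hw hz (Nat.le_of_lt_succ (lt_of_le_of_ne h2 hne)))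
  · intro h hnull
    obtain ⟨w, hw, hz, hr⟩ := bad_of_nullform k a hnull
    have h2 := h w hw hz
    have h3 : (Groth.Agent.H20Forms.hess (CoordGrp.formPoly a) w).rank = 2 := h2
    omega

end Groth.Agent.S19420
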