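import Groth.Statements.S19421
import Groth.Agent.H20Forms.Singular
import Groth.Agent.H20Forms.Config

set_option autoImplicit false
universe u
open TensorProduct LaurentPolynomial
open GIT

namespace Groth.Agent.S19421
open MvPolynomial CoordGrp Groth.Agent.H20Forms in
/-- A singular plane cubic is destabilised. -/
theorem destabilise (k : Type u) [Field k] [IsAlgClosed k] [CharZero k] (a : FormIdx 3 3 → k) (w : Fin 3 → k) (hw : w ≠ 0)
    (hz : ∀ i : Fin 3, eval w (pderiv i (formPoly a)) = 0)
    (hst : @GLin.IsStableVec k _ (SLn 3 k) _ _ (FormIdx 3 3) (act 3 (slHom k 3)) (isCoactAlg_act (slHom k 3)) a) : False := by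
  classical
  obtain ⟨N, hN, hN0⟩ : ∃ N : Matrix (Fin 3) (Fin 3) k, N.det = 1 ∧ ∀ i : Fin 3, i ≠ 0 → N.mulVec w i = 0 := by
    obtain ⟨M, S, hM, hS, hzero⟩ := exists_adapted (k := k) (n := 3) (by norm_num) (Submodule.span k {w})
    rw [finrank_span_singleton hw, Finset.card_eq_one] at hS
    obtain ⟨i0, rfl⟩ := hS
    obtain ⟨c, hc⟩ := IsAlgClosed.exists_pow_nat_eq (((Equiv.swap (0 : Fin 3) i0).permMatrix k).det)⁻¹ (n := 3) (by norm_num)
    refine ⟨(c • (Equiv.swap (0 : Fin 3) i0).permMatrix k) * M.transpose, ?_, fun i hi => ?_⟩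
    · rw [Matrix.det_mul, Matrix.det_transpose, hM, mul_one, Matrix.det_smul, Fintype.card_fin, hc, inv_mul_cancel₀]
      rw [Matrix.det_permutation]
      rcases Int.units_eq_one_or (Equiv.Perm.sign (Equiv.swap (0 : Fin 3) i0)) with h | h <;> simp [h]
    · rw [← Matrix.mulVec_mulVec, Matrix.smul_mulVec, Pi.smul_apply, Matrix.permMatrix_mulVec, Function.comp_apply,
        hzero w (Submodule.subset_span rfl) _ ?_, smul_zero]
      rw [Finset.mem_singleton]
      intro h
      exact hi ((Equiv.swap (0 : Fin 3) i0).injective (h.trans (Equiv.swap_apply_left 0 i0).symm))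
  set M := N.adjugate with hMdef
  have hMdet : M.det = 1 := by rw [hMdef, Matrix.det_adjugate, hN, one_pow]
  set v := N.mulVec w with hv
  have hMv : M.mulVec v = w := by
    rw [hMdef, hv, Matrix.mulVec_mulVec, Matrix.adjugate_mul, hN, one_smul, Matrix.one_mulVec]
  have hv0 : v ≠ 0 := mulVec_ne_zero hN hw
  have hg : ∀ i, eval v (pderiv i (formPoly (move M a))) = 0 :=
    congrFun ((grad_move_eq_zero_iff hMdet a v).2 (hMv ▸ funext hz))
  have hv00 : v 0 ≠ 0 := fun h => hv0 (funext fun i => by
    by_cases hi : i = 0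
    · subst hi; exact h
    · exact hN0 i hi)
  obtain ⟨m, hm, hneg⟩ := (isStableVec_iff a).1 hst M hMdet ![-2, 1, 1] (by simp [Fin.sum_univ_three]) (by
    intro h; exact absurd (congrFun h 1) (by simp))
  have hdeg : m.1 0 + m.1 1 + m.1 2 = 3 := by
    have := m.2
    rwa [Finsupp.degree_eq_sum, Fin.sum_univ_three] at this
  have hw' : weight ![-2, 1, 1] m = -2 * (m.1 0 : ℤ) + m.1 1 + m.1 2 := by simp [weight, Fin.sum_univ_three]
  rw [hw'] at hneg
  have hc : (formPoly (move M a)).coeff m.1 ≠ 0 := by
    rw [coeff_formPoly]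
    exact mul_ne_zero (multinomial_ne_zero (Nat.cast_ne_zero.2 (Nat.factorial_ne_zero 3)) m) hm
  -- the derivative in the direction carrying the monomial
  obtain ⟨j, hj, hjm⟩ : ∃ j : Fin 3, m.1 j ≠ 0 ∧ ∀ i : Fin 3, i ≠ 0 → (m.1 - Finsupp.single j 1 : Fin 3 →₀ ℕ) i = 0 := by
    by_cases h1 : m.1 1 = 0
    · by_cases h2 : m.1 2 = 0
      · exact ⟨0, by omega, fun i hi => by fin_cases i <;> simp_all⟩
      · exact ⟨2, h2, fun i hi => by fin_cases i <;> simp_all <;> omega⟩
    · exact ⟨1, h1, fun i hi => by fin_cases i <;> simp_all <;> omega⟩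
  refine hc ?_
  have h := hg j
  conv_lhs at h => rw [(formPoly (move M a)).as_sum]
  rw [map_sum, map_sum, Finset.sum_eq_single m.1] at h
  · rw [pderiv_monomial, eval_monomial, Finsupp.prod_fintype _ _ fun i => pow_zero _] at h
    rcases mul_eq_zero.1 h with h | h
    · exact (mul_eq_zero.1 h).resolve_right (Nat.cast_ne_zero.2 hj)
    · obtain ⟨i, -, hi⟩ := Finset.prod_eq_zero_iff.1 h
      obtain ⟨hvi, hexp⟩ := pow_eq_zero_iff'.1 hi
      exact absurd (hjm i fun h0 => hv00 (h0 ▸ hvi)) hexp
  · intro b hb hbm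
    rw [pderiv_monomial, eval_monomial]
    by_cases hbj : b j = 0
    · simp [hbj]
    have hbdeg : b.degree = 3 := by_contra fun hne => (mem_support_iff.1 hb) ((isHomogeneous_formPoly _).coeff_eq_zero hne)
    obtain ⟨i, hi, hne⟩ : ∃ i : Fin 3, i ≠ 0 ∧ (b - Finsupp.single j 1 : Fin 3 →₀ ℕ) i ≠ 0 := by
      by_contra hcon
      push Not at hcon
      have e : ∀ i : Fin 3, i ≠ 0 → b i = m.1 i := fun i hi => by
        have h1 := hcon i hi
        have h2 := hjm i hi
        rw [Finsupp.tsub_apply] at h1 h2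
        by_cases hij : i = j
        · subst hij; rw [Finsupp.single_eq_same] at h1 h2; omega
        · rw [Finsupp.single_eq_of_ne hij] at h1 h2; omega
      refine hbm (Finsupp.ext fun i => ?_)
      rw [Finsupp.degree_eq_sum, Fin.sum_univ_three] at hbdeg
      have := e 1 (by simp); have := e 2 (by simp)
      fin_cases i <;> simp_all <;> omega
    rw [Finsupp.prod_fintype _ _ fun l => pow_zero _, Finset.prod_eq_zero (Finset.mem_univ i) (by
      rw [show v i = 0 from hN0 i hi, zero_pow hne]), mul_zero]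
  · intro hnm
    rw [notMem_support_iff.1 hnm]
    simp


/-- Let k be an algebraically closed field of characteristic zero and let SL_3 act by substitution on
ternary cubic forms, the point a having the form F = Σ_m (3; m) a_m x^m. Then a is stable (its orbit
is closed and its stabiliser finite) if and only if the plane cubic curve F = 0 is smooth: at every
non-zero vector some first partial derivative of F is non-zero. (The published statement assumes
only that the characteristic of k is neither 2 nor 3; it is stated here in characteristic zero.) -/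
theorem result (k : Type u) [Field k] [IsAlgClosed k] [CharZero k]
    (a : CoordGrp.FormIdx 3 3 → k) :
    @GLin.IsStableVec k _ (CoordGrp.SLn 3 k) _ _ (CoordGrp.FormIdx 3 3) (GLin.comodAlong ((CoordGrp.SLn.mkHom 3 k).comp (CoordGrp.Mat.toGLn 3 k)) (CoordGrp.formsCoact k 3 3))
      (GLin.isCoactAlg_comodAlong ((CoordGrp.SLn.mkHom 3 k).comp (CoordGrp.Mat.toGLn 3 k)) (CoordGrp.formsCoact k 3 3)
        (CoordGrp.formsCoact_isCoactAlg k 3 3))
      a ↔
      ∀ w : Fin 3 → k, w ≠ 0 →
        ∃ i : Fin 3, MvPolynomial.eval w (MvPolynomial.pderiv i (CoordGrp.formPoly a)) ≠ 0 := by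
  constructor
  · intro hst w hw
    by_contra h
    push Not at h
    exact destabilise k a w hw h hst
  · intro h
    exact Groth.Agent.H20Forms.isStableVec_of_smooth le_rfl a h

end Groth.Agent.S19421
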