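import Groth.Statements.S19422
import Groth.Agent.H20GmVec.Basic
import Mathlib.RingTheory.MvPolynomial.Homogeneous

set_option autoImplicit false
universe u
open TensorProduct LaurentPolynomial
open GIT

namespace Groth.Agent.S19422
open TensorProduct LaurentPolynomial in
/-- the coaction on monomials -/
theorem coact_monomial {k : Type u} [Field k] {ι : Type u} [Fintype ι]
    [HopfRep.Comod k k[T;T⁻¹] (MvPolynomial ι k)] [GLin.IsCoactAlg k k[T;T⁻¹] (MvPolynomial ι k)] (r : ι → ℤ)
    (hr : ∀ i : ι, HopfRep.Comod.coact (k := k) (A := k[T;T⁻¹]) (MvPolynomial.X i : MvPolynomial ι k) =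
      (MvPolynomial.X i : MvPolynomial ι k) ⊗ₜ[k] (T (r i) : k[T;T⁻¹])) (a : ι →₀ ℕ) :
    HopfRep.Comod.coact (k := k) (A := k[T;T⁻¹]) (MvPolynomial.monomial a (1 : k)) =
      MvPolynomial.monomial a (1 : k) ⊗ₜ[k] T (∑ i, (a i : ℤ) * r i) := by
  rw [← GLin.coactAlgHom_apply]
  induction a using Finsupp.induction_linear with
  | zero => simp only [MvPolynomial.monomial_zero', MvPolynomial.C_1, map_one, Algebra.TensorProduct.one_def, Finsupp.coe_zero, Pi.zero_apply, Nat.cast_zero, zero_mul, Finset.sum_const_zero, LaurentPolynomial.T_zero]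
  | add a b ha hb =>
    rw [show MvPolynomial.monomial (a + b) (1 : k) = MvPolynomial.monomial a 1 * MvPolynomial.monomial b 1 by simp,
      map_mul, ha, hb, Algebra.TensorProduct.tmul_mul_tmul, ← T_add]
    congr 2
    simp only [Finsupp.add_apply, Nat.cast_add, add_mul, Finset.sum_add_distrib]
  | single i e =>
    classical
    rw [← MvPolynomial.X_pow_eq_monomial, map_pow, GLin.coactAlgHom_apply, hr, Algebra.TensorProduct.tmul_pow, T_pow]
    congr 2
    rw [Finset.sum_eq_single i (fun j _ hj => by simp [Finsupp.single_apply, Ne.symm hj]) (by simp)]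
    simp

open TensorProduct LaurentPolynomial in
/-- an invariant has only monomials of weight zero -/
theorem weight_eq_zero {k : Type u} [Field k] {ι : Type u} [Fintype ι]
    [HopfRep.Comod k k[T;T⁻¹] (MvPolynomial ι k)] [GLin.IsCoactAlg k k[T;T⁻¹] (MvPolynomial ι k)] (r : ι → ℤ)
    (hr : ∀ i : ι, HopfRep.Comod.coact (k := k) (A := k[T;T⁻¹]) (MvPolynomial.X i : MvPolynomial ι k) =
      (MvPolynomial.X i : MvPolynomial ι k) ⊗ₜ[k] (T (r i) : k[T;T⁻¹]))
    {F : MvPolynomial ι k} (hF : F ∈ GLin.invariants k k[T;T⁻¹] (MvPolynomial ι k)) {a : ι →₀ ℕ}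
    (ha : MvPolynomial.coeff a F ≠ 0) : ∑ i, (a i : ℤ) * r i = 0 := by
  classical
  by_contra hne
  let w : (ι →₀ ℕ) → ℤ := fun b => ∑ i, (b i : ℤ) * r i
  let φ : MvPolynomial ι k ⊗[k] k[T;T⁻¹] →ₗ[k] MvPolynomial ι k :=
    (TensorProduct.rid k _).toLinearMap ∘ₗ
      LinearMap.lTensor _ (Finsupp.lapply (w a) ∘ₗ (AddMonoidAlgebra.coeffLinearEquiv k).toLinearMap)
  have h1 : ∀ G : MvPolynomial ι k, MvPolynomial.coeff a (φ (HopfRep.Comod.coact (k := k) (A := k[T;T⁻¹]) G)) =
      MvPolynomial.coeff a G := by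
    intro G
    induction G using MvPolynomial.induction_on' with
    | monomial b c =>
      rw [show MvPolynomial.monomial b c = c • MvPolynomial.monomial b (1 : k) by
        rw [MvPolynomial.smul_monomial, smul_eq_mul, mul_one], map_smul, map_smul, coact_monomial r hr b]
      simp only [MvPolynomial.coeff_smul]
      congr 1
      by_cases hab : b = a
      · subst hab; simp [φ, w, LaurentPolynomial.T, -single_eq_C_mul_T]
      · simp [φ, w, LaurentPolynomial.T, MvPolynomial.coeff_monomial, hab, Finsupp.single_apply, -single_eq_C_mul_T]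
        split_ifs <;> simp [hab]
    | add p q hp hq => simp only [map_add, MvPolynomial.coeff_add, hp, hq]
  refine ha ?_
  rw [← h1 F, show HopfRep.Comod.coact (k := k) (A := k[T;T⁻¹]) F = F ⊗ₜ[k] (1 : k[T;T⁻¹]) from hF]
  simp [φ, AddMonoidAlgebra.one_def, Finsupp.single_apply, w, Ne.symm hne, -single_eq_C_mul_T]


/-- Over an algebraically closed field k, let the multiplicative group, whose coordinate Hopf algebra is
the Laurent polynomial ring, act diagonally on affine ι-space, ι finite: the coaction on the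
polynomial ring is multiplicative and sends the coordinate function X_i to X_i ⊗ T^(r_i) for
integers r_i. Then a vector v is semistable (some invariant homogeneous polynomial of positive
degree does not vanish at v) if and only if there are indices i and j, possibly equal, with v_i ≠ 0,
v_j ≠ 0 and r_i ≤ 0 ≤ r_j, i.e. the origin lies in the convex hull of the weights of v. (Stated for
the ambient projective space on its affine cone; the published statement is for a point of a closed
invariant subvariety, whose semistability is that of the point in the ambient space.) -/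
theorem result (k : Type u) [Field k] [IsAlgClosed k]
    (ι : Type u) [Fintype ι] [HopfRep.Comod k k[T;T⁻¹] (MvPolynomial ι k)] [GLin.IsCoactAlg k k[T;T⁻¹] (MvPolynomial ι k)]
    (r : ι → ℤ)
    (hr : ∀ i : ι, HopfRep.Comod.coact (k := k) (A := k[T;T⁻¹]) (MvPolynomial.X i : MvPolynomial ι k) =
      (MvPolynomial.X i : MvPolynomial ι k) ⊗ₜ[k] (T (r i) : k[T;T⁻¹]))
    (v : ι → k) :
    GLin.IsSemistableVec k k[T;T⁻¹] v ↔ ∃ i j : ι, v i ≠ 0 ∧ v j ≠ 0 ∧ r i ≤ 0 ∧ 0 ≤ r j := by
  classical
  unfold GLin.IsSemistableVec GLin.IsNullform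
  constructor
  · intro h
    push_neg at h
    obtain ⟨F, hF, d, hd, hhom, hne⟩ := h
    rw [MvPolynomial.eval_eq'] at hne
    obtain ⟨a, -, ha⟩ := Finset.exists_ne_zero_of_sum_ne_zero hne
    have hc : MvPolynomial.coeff a F ≠ 0 := left_ne_zero_of_mul ha
    have hw := weight_eq_zero r hr hF hc
    have hv : ∀ i, a i ≠ 0 → v i ≠ 0 := fun i hi hvi => by
      refine right_ne_zero_of_mul ha (Finset.prod_eq_zero (Finset.mem_univ i) ?_)
      rw [hvi, zero_pow hi]
    have hdeg : ∃ i, a i ≠ 0 := by
      by_contra h0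
      push_neg at h0
      obtain rfl : a = 0 := Finsupp.ext h0
      have := hhom hc
      simp at this
      omega
    obtain ⟨i, hai, hi⟩ : ∃ i, a i ≠ 0 ∧ r i ≤ 0 := by
      by_contra h0
      push_neg at h0
      obtain ⟨i0, hi0⟩ := hdeg
      have : 0 < ∑ i, (a i : ℤ) * r i := by
        refine Finset.sum_pos' (fun i _ => ?_) ⟨i0, Finset.mem_univ _, ?_⟩
        · by_cases hi : a i = 0
          · simp [hi]
          · exact mul_nonneg (Int.natCast_nonneg _) (h0 i hi).le
        · exact mul_pos (by omega) (h0 i0 hi0)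
      omega
    obtain ⟨j, haj, hj⟩ : ∃ j, a j ≠ 0 ∧ 0 ≤ r j := by
      by_contra h0
      push_neg at h0
      obtain ⟨i0, hi0⟩ := hdeg
      have : ∑ i, (a i : ℤ) * r i < 0 := by
        refine Finset.sum_neg' (fun i _ => ?_) ⟨i0, Finset.mem_univ _, ?_⟩
        · by_cases hi : a i = 0
          · simp [hi]
          · exact mul_nonpos_of_nonneg_of_nonpos (Int.natCast_nonneg _) (h0 i hi).le
        · exact mul_neg_of_pos_of_neg (by omega) (h0 i0 hi0)
      omega
    exact ⟨i, j, hv i hai, hv j haj, hi, hj⟩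
  · rintro ⟨i, j, hvi, hvj, hi, hj⟩ h
    obtain ⟨a, had, haw, hav⟩ : ∃ a : ι →₀ ℕ, 0 < a.degree ∧ ∑ l, (a l : ℤ) * r l = 0 ∧ ∀ l, a l ≠ 0 → v l ≠ 0 := by
      by_cases hi0 : r i = 0
      · refine ⟨Finsupp.single i 1, by simp, ?_, fun l hl => ?_⟩
        · simp [Finsupp.single_apply, hi0]
        · obtain rfl : i = l := by by_contra hne; simp [Finsupp.single_apply, hne] at hl
          exact hvi
      by_cases hj0 : r j = 0
      · refine ⟨Finsupp.single j 1, by simp, ?_, fun l hl => ?_⟩
        · simp [Finsupp.single_apply, hj0]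
        · obtain rfl : j = l := by by_contra hne; simp [Finsupp.single_apply, hne] at hl
          exact hvj
      refine ⟨Finsupp.single i (r j).toNat + Finsupp.single j (-r i).toNat, ?_, ?_, fun l hl => ?_⟩
      · simp; omega
      · simp only [Finsupp.add_apply, Nat.cast_add, add_mul, Finset.sum_add_distrib, Finsupp.single_apply, Nat.cast_ite,
          Nat.cast_zero, ite_mul, zero_mul, Finset.sum_ite_eq, Finset.mem_univ, if_true,
          Int.toNat_of_nonneg hj, Int.toNat_of_nonneg (neg_nonneg.2 hi)]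
        ring
      · by_cases h1 : i = l
        · exact h1 ▸ hvi
        by_cases h2 : j = l
        · exact h2 ▸ hvj
        simp [Finsupp.single_apply, h1, h2] at hl
    have hinv : MvPolynomial.monomial a (1 : k) ∈ GLin.invariants k k[T;T⁻¹] (MvPolynomial ι k) := by
      rw [GLin.mem_invariants_iff, coact_monomial r hr, haw, LaurentPolynomial.T_zero]
    have h0 := h _ hinv a.degree had (MvPolynomial.isHomogeneous_monomial _ rfl)
    rw [MvPolynomial.eval_monomial, one_mul, Finsupp.prod] at h0
    obtain ⟨l, hl, hl0⟩ := Finset.prod_eq_zero_iff.1 h0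
    exact hav l (Finsupp.mem_support_iff.1 hl) (eq_zero_of_pow_eq_zero hl0)

end Groth.Agent.S19422
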