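import Groth.Statements.S19423
import Groth.Agent.H20GmVec.Basic
import Mathlib.RingTheory.Spectrum.Prime.Topology
import Mathlib.RingTheory.IntegralClosure.IsIntegralClosure.Basic
import Mathlib.LinearAlgebra.Dimension.Free

set_option autoImplicit false
universe u
open TensorProduct LaurentPolynomial
open GIT

namespace Groth.Agent.S19423
open TensorProduct LaurentPolynomial in
/-- `k[T,T⁻¹]` is integral over a subring once suitable powers of `T` and `T⁻¹` lie in it -/
theorem isIntegral_of_T_mem {k : Type u} [Field k] {R : Type*} [CommRing R] [Algebra k R] (o : R →ₐ[k] k[T;T⁻¹])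
    {a b : ℕ} (ha : 0 < a) (hb : 0 < b) (hTa : (T a : k[T;T⁻¹]) ∈ o.range) (hTb : (T (-(b : ℤ)) : k[T;T⁻¹]) ∈ o.range) :
    o.toRingHom.IsIntegral := by
  have key : ∀ (e : ℤ) (n : ℕ), 0 < n → (T ((n : ℤ) * e) : k[T;T⁻¹]) ∈ o.range →
      o.toRingHom.IsIntegralElem (T e : k[T;T⁻¹]) := by
    rintro e n hn ⟨c, hc⟩
    refine ⟨Polynomial.X ^ n - Polynomial.C c, Polynomial.monic_X_pow_sub_C c hn.ne', ?_⟩
    simp only [Polynomial.eval₂_sub, Polynomial.eval₂_X_pow, Polynomial.eval₂_C, T_pow]
    exact sub_eq_zero.2 hc.symm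
  intro x
  induction x using LaurentPolynomial.induction_on' with
  | add p q hp hq => exact RingHom.IsIntegralElem.add _ hp hq
  | C_mul_T n c =>
    refine RingHom.IsIntegralElem.mul _ ⟨Polynomial.X - Polynomial.C (algebraMap k R c), Polynomial.monic_X_sub_C _, ?_⟩ ?_
    · simp only [Polynomial.eval₂_sub, Polynomial.eval₂_X, Polynomial.eval₂_C]
      rw [sub_eq_zero, show (C c : k[T;T⁻¹]) = algebraMap k k[T;T⁻¹] c from rfl]
      exact (o.commutes c).symm
    · rcases le_total 0 n with hn | hn
      · obtain ⟨n, rfl⟩ := Int.eq_ofNat_of_zero_le hn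
        refine key _ a ha ?_
        have h := pow_mem hTa n
        rw [T_pow] at h
        rw [mul_comm]
        exact h
      · obtain ⟨m, hm⟩ := Int.eq_ofNat_of_zero_le (neg_nonneg.2 hn)
        refine key _ b hb ?_
        have h := pow_mem hTb m
        rw [T_pow] at h
        rw [show ((b : ℤ) * n) = (m : ℤ) * -(b : ℤ) by rw [← neg_neg n, hm]; simp [mul_comm]]
        exact h

open LaurentPolynomial in
theorem closed_and_finite_iff {k : Type u} [Field k] {ι : Type u} [Fintype ι]
    (r : ι → ℤ) (v : ι → k) (o : MvPolynomial ι k →ₐ[k] k[T;T⁻¹]) (ho : ∀ i, o (MvPolynomial.X i) = v i • T (r i)) :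
    (IsClosed (Set.range (PrimeSpectrum.comap o.toRingHom)) ∧
      Module.Finite k (k[T;T⁻¹] ⧸ Ideal.map o (RingHom.ker (MvPolynomial.aeval v : MvPolynomial ι k →ₐ[k] k)))) ↔
      ∃ i j : ι, v i ≠ 0 ∧ v j ≠ 0 ∧ r i < 0 ∧ 0 < r j := by
  classical
  constructor
  · rintro ⟨hcl, hfin⟩
    obtain ⟨i0, hvi0, hri0⟩ : ∃ i, v i ≠ 0 ∧ r i ≠ 0 := by
      by_contra h0
      push_neg at h0
      have hfix : o = (Algebra.ofId k k[T;T⁻¹]).comp (MvPolynomial.aeval v) := MvPolynomial.algHom_ext fun i => by
        rw [ho, AlgHom.comp_apply, MvPolynomial.aeval_X]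
        by_cases hv : v i = 0
        · simp [hv]
        · rw [h0 i hv, T_zero, ← Algebra.algebraMap_eq_smul_one]; rfl
      have hz : Ideal.map o (RingHom.ker (MvPolynomial.aeval v : MvPolynomial ι k →ₐ[k] k)) = ⊥ := by
        rw [eq_bot_iff, Ideal.map_le_iff_le_comap]
        intro f hf
        rw [Ideal.mem_comap, Ideal.mem_bot, hfix, AlgHom.comp_apply, RingHom.mem_ker.1 hf, map_zero]
      rw [hz] at hfin
      haveI : Module.Finite k k[T;T⁻¹] := Module.Finite.equiv (AlgEquiv.quotientBot k k[T;T⁻¹]).toLinearEquiv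
      haveI : Finite ℤ := Module.Finite.finite_basis (AddMonoidAlgebra.basis ℤ k)
      exact not_finite ℤ
    -- otherwise the orbit has a limit outside it
    have key : ∀ ε : ℤ, (ε = 1 ∨ ε = -1) → (∀ i, v i ≠ 0 → 0 ≤ ε * r i) → False := by
      intro ε hε hsign
      let h : MvPolynomial ι k →ₐ[k] Polynomial k :=
        MvPolynomial.aeval fun i => Polynomial.C (v i) * Polynomial.X ^ (ε * r i).toNat
      let s : k[T;T⁻¹] →ₐ[k] k[T;T⁻¹] := if ε = 1 then AlgHom.id k _ else invert.toAlgHom
      have hs : ∀ n, s (T n) = T (ε * n) := fun n => by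
        rcases hε with rfl | rfl <;> simp [s]
      have hso : (Polynomial.toLaurentAlg (R := k)).comp h = s.comp o := MvPolynomial.algHom_ext fun i => by
        rw [AlgHom.comp_apply, AlgHom.comp_apply, ho, map_smul, hs, MvPolynomial.aeval_X, Polynomial.toLaurentAlg_apply,
          map_mul, Polynomial.toLaurent_C, Polynomial.toLaurent_X_pow, Algebra.smul_def]
        by_cases hv : v i = 0
        · simp [hv]
        · rw [Int.toNat_of_nonneg (hsign i hv)]; rfl
      let y : MvPolynomial ι k →ₐ[k] k := (Polynomial.aeval (0 : k)).comp h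
      haveI hymax : (RingHom.ker y).IsMaximal :=
        RingHom.ker_isMaximal_of_surjective y fun c => ⟨MvPolynomial.C c, by simp [y, h]⟩
      have hmem : (⟨RingHom.ker y, inferInstance⟩ : PrimeSpectrum (MvPolynomial ι k)) ∈
          closure (Set.range (PrimeSpectrum.comap o.toRingHom)) := by
        rw [PrimeSpectrum.closure_range_comap]
        intro f hf
        have hf' : o f = 0 := hf
        have : h f = 0 := Polynomial.toLaurent_injective (by
          have := AlgHom.congr_fun hso f
          simp only [AlgHom.comp_apply, hf', map_zero, Polynomial.toLaurentAlg_apply] at this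
          rw [this, map_zero])
        show y f = 0
        simp [y, this]
      rw [IsClosed.closure_eq hcl] at hmem
      obtain ⟨q, hq⟩ := hmem
      have hy0 : MvPolynomial.X i0 ∈ RingHom.ker y := by
        show y (MvPolynomial.X i0) = 0
        have : (ε * r i0).toNat ≠ 0 := by
          have := hsign i0 hvi0
          rcases hε with rfl | rfl <;> omega
        simp [y, h, zero_pow this]
      have hq' := congrArg PrimeSpectrum.asIdeal hq
      change _ = RingHom.ker y at hq'
      rw [← hq'] at hy0
      have hu : o (MvPolynomial.X i0) ∈ q.asIdeal := hy0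
      refine q.2.ne_top (Ideal.eq_top_of_isUnit_mem _ hu ?_)
      rw [ho, Algebra.smul_def]
      exact ((Ne.isUnit hvi0).map _).mul (isUnit_T _)
    obtain ⟨i, hvi, hri⟩ : ∃ i, v i ≠ 0 ∧ r i < 0 := by
      by_contra h0
      push_neg at h0
      exact key 1 (Or.inl rfl) fun i hi => by simpa using h0 i hi
    obtain ⟨j, hvj, hrj⟩ : ∃ j, v j ≠ 0 ∧ 0 < r j := by
      by_contra h0
      push_neg at h0
      exact key (-1) (Or.inr rfl) fun i hi => by simpa using h0 i hi
    exact ⟨i, j, hvi, hvj, hri, hrj⟩
  · rintro ⟨i, j, hvi, hvj, hri, hrj⟩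
    have hrange : ∀ l, v l ≠ 0 → (T (r l) : k[T;T⁻¹]) ∈ o.range := fun l hl =>
      ⟨(v l)⁻¹ • MvPolynomial.X l, by
        show o _ = _
        rw [map_smul, ho, smul_smul, inv_mul_cancel₀ hl, one_smul]⟩
    have ha : ((r j).toNat : ℤ) = r j := Int.toNat_of_nonneg hrj.le
    have hb : ((-r i).toNat : ℤ) = -r i := Int.toNat_of_nonneg (by omega)
    have hint : o.toRingHom.IsIntegral := isIntegral_of_T_mem o (a := (r j).toNat) (b := (-r i).toNat)
      (by omega) (by omega) (by rw [ha]; exact hrange j hvj) (by rw [hb, neg_neg]; exact hrange i hvi)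
    refine ⟨(PrimeSpectrum.isClosedMap_comap_of_isIntegral _ hint).isClosed_range, ?_⟩
    set I := Ideal.map o (RingHom.ker (MvPolynomial.aeval v : MvPolynomial ι k →ₐ[k] k))
    let π := Ideal.Quotient.mkₐ k I
    have hT : ∀ l, v l ≠ 0 → π (T (r l)) = 1 := fun l hl => by
      have hmem : o (MvPolynomial.X l - MvPolynomial.C (v l)) ∈ I := Ideal.mem_map_of_mem _ (by simp [RingHom.mem_ker])
      have h0 : π (o (MvPolynomial.X l - MvPolynomial.C (v l))) = 0 := Ideal.Quotient.eq_zero_iff_mem.2 hmem
      rw [map_sub, ho, ← MvPolynomial.algebraMap_eq, AlgHom.commutes, map_sub, map_smul, AlgHom.commutes,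
        Algebra.algebraMap_eq_smul_one, ← smul_sub, smul_eq_zero_iff_right hl, sub_eq_zero] at h0
      exact h0
    have hgen : Algebra.adjoin k {π (T 1), π (T (-1))} = ⊤ := by
      rw [eq_top_iff]
      rintro z -
      obtain ⟨x, rfl⟩ := Ideal.Quotient.mk_surjective z
      induction x using LaurentPolynomial.induction_on with
      | h_C a =>
        rw [show (LaurentPolynomial.C a : k[T;T⁻¹]) = algebraMap k k[T;T⁻¹] a from rfl]
        exact (π.commutes a).symm ▸ Subalgebra.algebraMap_mem _ a
      | h_add hp hq => rw [map_add]; exact add_mem hp hq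
      | h_C_mul_T n a h =>
        rw [T_add, ← mul_assoc, map_mul]
        exact mul_mem h (Algebra.subset_adjoin (by simp [π]))
      | h_C_mul_T_Z n a h =>
        rw [sub_eq_add_neg, T_add, ← mul_assoc, map_mul]
        exact mul_mem h (Algebra.subset_adjoin (by simp [π]))
    have hinti : ∀ x ∈ ({π (T 1), π (T (-1))} : Set (k[T;T⁻¹] ⧸ I)), IsIntegral k x := by
      rintro x (rfl | rfl)
      · refine ⟨Polynomial.X ^ (r j).toNat - 1, Polynomial.monic_X_pow_sub_C 1 (by omega), ?_⟩
        simp only [Polynomial.eval₂_sub, Polynomial.eval₂_X_pow, Polynomial.eval₂_one, ← map_pow, T_pow, mul_one, ha,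
          hT j hvj, sub_self]
      · refine ⟨Polynomial.X ^ (-r i).toNat - 1, Polynomial.monic_X_pow_sub_C 1 (by omega), ?_⟩
        simp only [Polynomial.eval₂_sub, Polynomial.eval₂_X_pow, Polynomial.eval₂_one, ← map_pow, T_pow, hb, mul_neg,
          mul_one, neg_neg, hT i hvi, sub_self]
    refine ⟨?_⟩
    rw [← Algebra.top_toSubmodule, ← hgen]
    exact fg_adjoin_of_finite (Set.toFinite _) hinti


/-- Over an algebraically closed field k, let the multiplicative group, whose coordinate Hopf algebra is
the Laurent polynomial ring, act diagonally on affine ι-space, ι finite: the coaction on the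
polynomial ring is multiplicative and sends the coordinate function X_i to X_i ⊗ T^(r_i) for
integers r_i. Then a vector v is stable (the orbit of the point v of affine space is closed and its
stabiliser is a finite group scheme) if and only if there are indices i and j with v_i ≠ 0, v_j ≠ 0
and r_i < 0 < r_j, i.e. the origin is an interior point of the convex hull of the weights of v.
(Stated for the ambient projective space on its affine cone, where stability means a closed orbit
with finite stabiliser in the cone.) -/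
theorem result (k : Type u) [Field k] [IsAlgClosed k]
    (ι : Type u) [Fintype ι] [HopfRep.Comod k k[T;T⁻¹] (MvPolynomial ι k)] [GLin.IsCoactAlg k k[T;T⁻¹] (MvPolynomial ι k)]
    (r : ι → ℤ)
    (hr : ∀ i : ι, HopfRep.Comod.coact (k := k) (A := k[T;T⁻¹]) (MvPolynomial.X i : MvPolynomial ι k) =
      (MvPolynomial.X i : MvPolynomial ι k) ⊗ₜ[k] (T (r i) : k[T;T⁻¹]))
    (v : ι → k) :
    GLin.IsStableVec k k[T;T⁻¹] v ↔ ∃ i j : ι, v i ≠ 0 ∧ v j ≠ 0 ∧ r i < 0 ∧ 0 < r j := by
  exact closed_and_finite_iff r v _ fun i => Groth.Agent.H20GmVec.orbitHom_X_of_eigen (hr i) v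

end Groth.Agent.S19423
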