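import Groth.Statements.S19425
import Groth.Agent.H19Grp.GoodQuot

set_option autoImplicit false
set_option linter.style.haveILetI false
set_option backward.isDefEq.respectTransparency false
universe u
open CategoryTheory MonoidalCategory CartesianMonoidalCategory MonObj AlgebraicGeometry Topology
open NRQuot

namespace Groth.Agent.S19425

/-- Let k be an algebraically closed field, G an affine group scheme of finite type over k acting on a
k-scheme X locally of finite type, φ : X → Y a good quotient (affine and invariant, functions on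
every open of Y are exactly the invariant functions on its preimage, invariant closed subsets have
closed images, and images commute with intersections of families of invariant closed subsets), and U
an open subset of Y. Equip the open subscheme φ⁻¹(U) of X with the restricted action, given here as
an action compatible with the inclusion into X, and let φ_U : φ⁻¹(U) → U be the restriction of φ.
Then φ_U is a good quotient for the restricted action. -/
theorem result
    (k : Type u) [Field k] [IsAlgClosed k]
    (G X Y : Over (Spec (CommRingCat.of k))) [GrpObj G] [IsAffine G.left] [LocallyOfFiniteType G.hom]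
    [LocallyOfFiniteType X.hom]
    (a : AlgGrp.Action G X) (φ : X ⟶ Y) (h : NRQuot.IsGoodQuot a φ)
    (U : Y.left.Opens)
    (aU : AlgGrp.Action G (Over.mk ((φ.left ⁻¹ᵁ U).ι ≫ X.hom)))
    (jU : Over.mk ((φ.left ⁻¹ᵁ U).ι ≫ X.hom) ⟶ X) (hjU : jU.left = (φ.left ⁻¹ᵁ U).ι)
    (haU : aU.act ≫ jU = (G ◁ jU) ≫ a.act)
    (φU : Over.mk ((φ.left ⁻¹ᵁ U).ι ≫ X.hom) ⟶ Over.mk (U.ι ≫ Y.hom))
    (hφU : φU.left ≫ U.ι = (φ.left ⁻¹ᵁ U).ι ≫ φ.left) :
    NRQuot.IsGoodQuot aU φU := by
  have sq : IsPullback (φ.left ⁻¹ᵁ U).ι φU.left φ.left U.ι := by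
    have h0 := isPullback_morphismRestrict φ.left U
    have e : φU.left = φ.left ∣_ U := by
      rw [← cancel_mono U.ι, hφU, morphismRestrict_ι]
    rw [e]
    exact h0.flip
  haveI := h.affine
  let gU : Over.mk (U.ι ≫ Y.hom) ⟶ Y := Over.homMk U.ι rfl
  haveI : IsOpenImmersion gU.left := inferInstanceAs (IsOpenImmersion U.ι)
  have sq' : IsPullback jU φU φ gU := by
    apply IsPullback.of_map (Over.forget _)
    · apply Over.OverMorphism.ext
      rw [Over.comp_left, Over.comp_left, hjU]
      exact sq.w
    · change IsPullback jU.left φU.left φ.left U.ι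
      rw [hjU]
      exact sq
  have hi : GIT.IsInvariant aU φU := by
    have e : φU ≫ gU = jU ≫ φ := sq'.w.symm
    apply Over.OverMorphism.ext
    rw [← cancel_mono gU.left, ← Over.comp_left, ← Over.comp_left]
    congr 1
    rw [Category.assoc, Category.assoc, e, reassoc_of% haU, h.inv, whiskerLeft_snd_assoc]
  haveI : IsOpenImmersion jU.left := by
    rw [hjU]
    exact inferInstanceAs (IsOpenImmersion (φ.left ⁻¹ᵁ U).ι)
  have hcl : ∀ W, IsClosed W → jU.left.base ⁻¹' closure (jU.left.base '' W) = W := by
    intro W hW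
    rw [jU.left.isOpenEmbedding.isInducing.closure_eq_preimage_closure_image W |>.symm, hW.closure_eq]
  have hinv : ∀ W, NRQuot.IsInvariantSet aU W → NRQuot.IsInvariantSet a (closure (jU.left.base '' W)) := by
    intro W hW
    refine H19Grp.isInvariantSet_closure ?_
    rintro p ⟨w, hw, hwp⟩
    have sqG := H20GQ.isPullback_whiskerLeft jU G
    obtain ⟨z, hz1, hz⟩ := Scheme.Pullback.exists_preimage_pullback (f := jU.left)
      (g := (snd G X).left) w p hwp
    refine ⟨aU.act.left (sqG.isoPullback.inv z), hW _ ?_, ?_⟩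
    · show (snd G _).left (sqG.isoPullback.inv z) ∈ W
      rw [← Scheme.Hom.comp_apply, sqG.isoPullback_inv_fst, hz1]
      exact hw
    · show jU.left (aU.act.left (sqG.isoPullback.inv z)) = a.act.left p
      rw [← Scheme.Hom.comp_apply aU.act.left, ← Over.comp_left, haU, Over.comp_left, Scheme.Hom.comp_apply]
      congr 1
      rw [← Scheme.Hom.comp_apply, sqG.isoPullback_inv_snd, hz]
  have hpre : ∀ x, φ.left x ∈ U → x ∈ Set.range jU.left.base := by
    intro x hx
    exact ⟨⟨x, hx⟩, by rw [hjU]; rfl⟩
  have hc : ∀ x, U.ι (φU.left x) = φ.left (jU.left x) := fun x => by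
    show (φU.left ≫ U.ι) x = (jU.left ≫ φ.left) x
    rw [hφU, hjU]
  have himg : ∀ W, IsClosed W → NRQuot.IsInvariantSet aU W →
      φU.left.base '' W = U.ι.base ⁻¹' (φ.left.base '' closure (jU.left.base '' W)) := by
    intro W hW hWi
    apply Set.Subset.antisymm
    · rintro _ ⟨w, hw, rfl⟩
      exact ⟨jU.left w, subset_closure ⟨w, hw, rfl⟩, (hc w).symm⟩
    · rintro y ⟨x, hx, hxy⟩
      obtain ⟨w, rfl⟩ := hpre x (by rw [hxy]; exact y.2)
      refine ⟨w, by rw [← hcl W hW]; exact hx, U.ι.isOpenEmbedding.injective ?_⟩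
      rw [hc]
      exact hxy
  refine ⟨MorphismProperty.of_isPullback (P := @IsAffineHom) sq h.affine, hi,
    fun V => H20GQ.sections_openImmersion h.inv h.sections sq' haU hi V, ?_, ?_⟩
  · intro W hW hWi
    rw [himg W hW hWi]
    exact (h.closed _ isClosed_closure (hinv W hWi)).preimage U.ι.continuous
  · intro J W hW hWi
    refine Set.Subset.antisymm (Set.image_iInter_subset _ _) fun y hy => ?_
    have : U.ι y ∈ φ.left.base '' ⋂ i, closure (jU.left.base '' W i) := by
      rw [h.inter J _ (fun _ => isClosed_closure) (fun i => hinv _ (hWi i)), Set.mem_iInter]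
      intro i
      obtain ⟨w, hw, rfl⟩ := Set.mem_iInter.1 hy i
      exact ⟨jU.left w, subset_closure ⟨w, hw, rfl⟩, (hc w).symm⟩
    obtain ⟨x, hx, hxy⟩ := this
    obtain ⟨w, rfl⟩ := hpre x (by rw [hxy]; exact y.2)
    refine ⟨w, Set.mem_iInter.2 fun i => ?_, U.ι.isOpenEmbedding.injective ?_⟩
    · rw [← hcl (W i) (hW i)]
      exact Set.mem_iInter.1 hx i
    · rw [hc]
      exact hxy

end Groth.Agent.S19425
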