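import Groth.Statements.S19426
import Groth.Agent.H20GIT.Stab
import Groth.Agent.H19Grp.Dimension
import Groth.Agent.H19Grp.GrpToGrpd
import Groth.Agent.H8Props.FibreDimSemicont

set_option autoImplicit false
set_option linter.style.haveILetI false
set_option backward.isDefEq.respectTransparency false
universe u
open CategoryTheory MonoidalCategory CartesianMonoidalCategory MonObj AlgebraicGeometry Topology
open GIT

namespace Groth.Agent.S19426

/-- The fibres of a group scheme have constant local dimension. -/
theorem fibreDimAt_eq_dim_fiber {B : Scheme.{u}} (N : Over B) [GrpObj N] [LocallyOfFiniteType N.hom] (y : N.left) :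
    FlatMor.fibreDimAt N.hom y = topologicalKrullDim ↥(N.hom.fiber (N.hom y)) := by
  let K : Over (Spec (B.residueField (N.hom y))) := (Over.pullback (B.fromSpecResidueField (N.hom y))).obj N
  letI : GrpObj K := Functor.grpObjObj
  haveI hK : LocallyOfFiniteType K.hom := MorphismProperty.pullback_snd N.hom _ inferInstance
  exact @H19Grp.localDim_eq _ (H19Grp.grpToGrpd K) _ _ (Iso.refl _) hK hK (N.hom.asFiber y)

theorem isClosed_setOf_le_fibreDimAt {Z B : Scheme.{u}} (p : Z ⟶ B) [LocallyOfFiniteType p] :
    ∀ n : WithBot ℕ∞, IsClosed {z : Z | n ≤ FlatMor.fibreDimAt p z}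
  | ⊥ => by simp
  | ((0 : ℕ) : ℕ∞) => by
    have : {z : Z | (((0 : ℕ) : ℕ∞) : WithBot ℕ∞) ≤ FlatMor.fibreDimAt p z} = Set.univ := by
      refine Set.eq_univ_of_forall fun z => ?_
      rw [Set.mem_setOf_eq, FlatMor.fibreDimAt, FlatMor.localDim]
      refine le_iInf fun U => ?_
      haveI : Nonempty (U.1 : Set (p.fiber (p z))) := ⟨⟨_, U.2⟩⟩
      haveI : Nonempty (TopologicalSpace.IrreducibleCloseds (U.1 : Set (p.fiber (p z)))) :=
        ⟨⟨closure {⟨_, U.2⟩}, isIrreducible_singleton.closure, isClosed_closure⟩⟩
      exact Order.krullDim_nonneg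
    rw [this]
    exact isClosed_univ
  | ((m + 1 : ℕ) : ℕ∞) => by
    convert (H8Props.FieldDim.isOpen_fibreDimAt_le p m).isClosed_compl using 1
    ext z
    simp only [Set.mem_setOf_eq, Set.mem_compl_iff, not_le]
    rcases FlatMor.fibreDimAt p z with _ | _ | d
    · exact iff_of_false (fun h => WithBot.not_coe_le_bot _ h) not_lt_bot
    · exact iff_of_true le_top (WithBot.coe_lt_coe.mpr (ENat.coe_lt_top m))
    · exact WithBot.coe_le_coe.trans (Nat.cast_le.trans (Nat.lt_iff_add_one_le.symm.trans
        (Nat.cast_lt.symm.trans WithBot.coe_lt_coe.symm)))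
  | (⊤ : ℕ∞) => by
    have h : {z : Z | ((⊤ : ℕ∞) : WithBot ℕ∞) ≤ FlatMor.fibreDimAt p z} =
        ⋂ m : ℕ, {z : Z | FlatMor.fibreDimAt p z ≤ ((m : ℕ∞) : WithBot ℕ∞)}ᶜ := by
      ext z
      simp only [Set.mem_setOf_eq, Set.mem_iInter, Set.mem_compl_iff, not_le]
      refine ⟨fun h m => lt_of_lt_of_le (WithBot.coe_lt_coe.mpr (ENat.coe_lt_top m)) h, fun h => ?_⟩
      generalize hd : FlatMor.fibreDimAt p z = d at h ⊢
      rcases d with _ | _ | d
      · exact absurd (h 0) not_lt_bot
      · exact le_rfl
      · exact absurd (h d) (lt_irrefl _)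
    rw [h]
    exact isClosed_iInter fun m => (H8Props.FieldDim.isOpen_fibreDimAt_le p m).isClosed_compl


/-- Let k be an algebraically closed field, G an affine group scheme of finite type over k acting on a
k-scheme X locally of finite type, and for a point x of X let G_x denote its stabiliser, the group
scheme over the residue field of x obtained as the fibre of (g, t) ↦ (g · x(t), t) over (x, id).
Then for every n the set of points x of X with dim G_x ≥ n is closed: the stabiliser dimension is an
upper semicontinuous function on X. (Stated at all points of the scheme X; the published statement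
is for the closed points of a variety, and also phrases it through the orbit dimension dim G − dim
G_x, which is not restated here.) -/
theorem result
    (k : Type u) [Field k] [IsAlgClosed k]
    (G X : Over (Spec (CommRingCat.of k))) [GrpObj G] [IsAffine G.left] [LocallyOfFiniteType G.hom]
    [LocallyOfFiniteType X.hom]
    (a : AlgGrp.Action G X) (n : WithBot ℕ∞) :
    IsClosed {x : X.left | n ≤ topologicalKrullDim
      (GLinSh.stab a (Over.homMk (X.left.fromSpecResidueField x) rfl :
        Over.mk (X.left.fromSpecResidueField x ≫ X.hom) ⟶ X))} := by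
  obtain ⟨grp, -⟩ := H20GIT.exists_grpObj_stabOver a
  haveI : LocallyOfFiniteType (GLinSh.stabTo a (𝟙 X)) := by
    haveI : LocallyOfFiniteType (G ⊗ X).hom := by
      rw [Over.tensorObj_hom]
      haveI : LocallyOfFiniteType (Limits.pullback.fst G.hom X.hom) :=
        MorphismProperty.pullback_fst G.hom X.hom inferInstance
      infer_instance
    haveI : LocallyOfFiniteType (GIT.psi a (𝟙 X)).left := by
      haveI : LocallyOfFiniteType ((GIT.psi a (𝟙 X)).left ≫ (X ⊗ X).hom) := by rw [Over.w]; infer_instance
      exact locallyOfFiniteType_of_comp _ (X ⊗ X).hom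
    exact MorphismProperty.pullback_snd _ _ inferInstance
  set p := GLinSh.stabTo a (𝟙 X) with hp
  let σ : X.left ⟶ GLinSh.stab a (𝟙 X) := (η[H20GIT.stabOver a] : 𝟙_ (Over X.left) ⟶ _).left
  have hσ : σ ≫ p = 𝟙 X.left := Over.w (η[H20GIT.stabOver a] : 𝟙_ (Over X.left) ⟶ _)
  have hdim : ∀ x : X.left, topologicalKrullDim (GLinSh.stab a (Over.homMk (X.left.fromSpecResidueField x) rfl :
      Over.mk (X.left.fromSpecResidueField x ≫ X.hom) ⟶ X)) = FlatMor.fibreDimAt p (σ x) := by
    intro x
    obtain ⟨m, hm⟩ := H20GIT.exists_isPullback_stab a (Over.homMk (X.left.fromSpecResidueField x) rfl :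
      Over.mk (X.left.fromSpecResidueField x ≫ X.hom) ⟶ X)
    haveI : LocallyOfFiniteType (H20GIT.stabOver a).hom := inferInstanceAs (LocallyOfFiniteType p)
    rw [show FlatMor.fibreDimAt p (σ x) = topologicalKrullDim ↥(p.fiber (p (σ x))) from fibreDimAt_eq_dim_fiber (H20GIT.stabOver a) (σ x)]
    have hx : p (σ x) = x := by rw [← Scheme.Hom.comp_apply, hσ]; rfl
    rw [hx]
    exact IsHomeomorph.topologicalKrullDim_eq _ hm.isoPullback.hom.homeomorph.isHomeomorph
  simp only [hdim]
  refine (isClosed_setOf_le_fibreDimAt p n).preimage σ.continuous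

end Groth.Agent.S19426
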