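import Groth.Statements.S19427
import Groth.Agent.H23MilK.Basic

set_option autoImplicit false
universe u
open MilnorK

namespace Groth.Agent.S19427

/-- For a field F and nonzero b, c with b + c ≠ 0, in the Milnor K-group K_2(F) one has {b, c} + {b + c,
-b/c} = 0, that is {b, c} = -{b + c, -b/c} = {b + c, -c/b}. (The identity as displayed in the source
is {b, c} = {b + c, -b/c}, which differs from this by a sign and fails in general: for b = 3, c = 5
over the rationals the tame symbol at 5 takes the values 3 and 1/3 on the two sides; the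
accompanying derivation from the Steinberg relation b/(b+c) + c/(b+c) = 1 gives exactly the identity
stated here.) -/
theorem result (F : Type u) [Field F] (b c : Fˣ)
    (h : (b : F) + (c : F) ≠ 0) :
    (MilK.symbol ![b, c] : MilK.K F 2) + MilK.symbol ![Units.mk0 ((b : F) + (c : F)) h, -(b / c)] = 0 := by
  open Groth.Agent.H23MilK in
  set s := Units.mk0 ((b : F) + (c : F)) h with hs
  set P : Fˣ → Fˣ → MilK.K F 2 := fun p q => MilK.symbol ![p, q] with hP
  have hl : ∀ p p' q, P (p * p') q = P p q + P p' q := fun p p' q => by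
    have e : ∀ r : Fˣ, (![r, q] : Fin 2 → Fˣ) = Function.update ![1, q] 0 r := fun r => by
      funext i; fin_cases i <;> rfl
    simp only [hP]
    rw [e (p * p'), e p, e p']
    exact Groth.Agent.H23MilK.symbol_update_mul _ _ _ _
  have hr : ∀ p q q', P p (q * q') = P p q + P p q' := fun p q q' => by
    have e : ∀ r : Fˣ, (![p, r] : Fin 2 → Fˣ) = Function.update ![p, 1] 1 r := fun r => by
      funext i; fin_cases i <;> rfl
    simp only [hP]
    rw [e (q * q'), e q, e q']
    exact Groth.Agent.H23MilK.symbol_update_mul _ _ _ _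
  have hl1 : ∀ q, P 1 q = 0 := fun q => by simpa using hl 1 1 q
  have hr1 : ∀ p, P p 1 = 0 := fun p => by simpa using hr p 1 1
  have hli : ∀ p q, P p⁻¹ q = -P p q := fun p q => eq_neg_of_add_eq_zero_left (by
    rw [← hl, inv_mul_cancel, hl1])
  have hri : ∀ p q, P p q⁻¹ = -P p q := fun p q => eq_neg_of_add_eq_zero_left (by
    rw [← hr, inv_mul_cancel, hr1])
  have hanti : ∀ p q, P q p = -P p q := fun p q => by
    have := Groth.Agent.H23MilK.symbol_swap ![p, q] (i := 0) (j := 1) (by simp)
    rw [show (![p, q] : Fin 2 → Fˣ) ∘ Equiv.swap 0 1 = ![q, p] by funext i; fin_cases i <;> simp] at this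
    exact this
  have h0 : P (b * s⁻¹) (c * s⁻¹) = 0 :=
    Groth.Agent.H23MilK.symbol_eq_zero_of_add_eq_one _ (i := 0) (j := 1) (by simp) (by
      simp only [hs, Matrix.cons_val_zero, Matrix.cons_val_one, Units.val_mul, Units.val_inv_eq_inv_val, Units.val_mk0]
      rw [← add_mul, mul_inv_cancel₀ h])
  rw [hl, hr, hr, hri, hli, hli, hri, neg_neg] at h0
  have hss : P s s = P s (-1) := Groth.Agent.H23MilK.symbol_pair_self s
  change P b c + P s (-(b / c)) = 0
  rw [show -(b / c) = b * c⁻¹ * -1 by rw [mul_neg_one, div_eq_mul_inv], hr, hr, hri, ← hss]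
  rw [← h0, hanti s b]
  abel

end Groth.Agent.S19427
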