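import Groth.Statements.S6292
import Mathlib.RingTheory.Artinian.Module
import Mathlib.RingTheory.Finiteness.Ideal
import Mathlib.RingTheory.TensorProduct.Finite
import Mathlib.Algebra.Module.Torsion.Basic

set_option autoImplicit false
universe u
open CAlg

namespace Groth.Agent.S6292

/-- Let R be a ring and m ⊆ R a finitely generated maximal ideal (for instance R Noetherian). If M is a
finite R-module with mⁿM = 0 for some n, then M has finite length. -/
theorem result {R : Type u} [CommRing R] (m : Ideal R) [m.IsMaximal] (hm : m.FG) (M : Type u) [AddCommGroup M] [Module R M] [Module.Finite R M] (n : ℕ) (hn : m ^ n • (⊤ : Submodule R M) = ⊥) : IsFiniteLength R M := by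
  suffices H : ∀ n : ℕ, ∀ N : Submodule R M, N.FG → m ^ n • N = ⊥ → IsFiniteLength R N by
    have := H n ⊤ Module.Finite.fg_top hn
    rw [isFiniteLength_iff_isNoetherian_isArtinian] at this ⊢
    obtain ⟨h1, h2⟩ := this
    exact ⟨isNoetherian_of_linearEquiv Submodule.topEquiv, isArtinian_of_linearEquiv Submodule.topEquiv⟩
  intro n
  induction n with
  | zero =>
    intro N _ hN
    rw [pow_zero, Ideal.one_eq_top, Submodule.top_smul] at hN
    subst hN
    exact IsFiniteLength.of_subsingleton
  | succ k ih =>
    intro N hN h0
    have h1 := ih (m • N) (Submodule.FG.smul hm hN) (by rw [← Submodule.mul_smul, ← pow_succ]; exact h0)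
    haveI : Module.Finite R N := Module.Finite.iff_fg.mpr hN
    let Q := N ⧸ (m • (⊤ : Submodule R N))
    letI : Field (R ⧸ m) := Ideal.Quotient.field m
    haveI : Module.Finite (R ⧸ m) Q := Module.Finite.of_restrictScalars_finite R _ _
    have hQn : IsNoetherian R Q := by
      have : IsNoetherian (R ⧸ m) Q := inferInstance
      refine ⟨fun P => ?_⟩
      let P' : Submodule (R ⧸ m) Q :=
        { toAddSubmonoid := P.toAddSubmonoid
          smul_mem' := fun c x hx => by
            obtain ⟨r, rfl⟩ := Ideal.Quotient.mk_surjective c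
            show Ideal.Quotient.mk m r • x ∈ P
            rw [← Ideal.Quotient.algebraMap_eq, algebraMap_smul]
            exact P.smul_mem r hx }
      obtain ⟨t, ht⟩ := IsNoetherian.noetherian P'
      refine ⟨t, le_antisymm (Submodule.span_le.mpr fun x hx => (ht ▸ Submodule.subset_span hx : x ∈ P')) ?_⟩
      intro x hx
      have : x ∈ Submodule.span (R ⧸ m) (t : Set Q) := ht ▸ (hx : x ∈ P')
      rwa [← SetLike.mem_coe, Submodule.coe_span_eq_span_of_surjective R (R ⧸ m) Ideal.Quotient.mk_surjective] at this
    have hQa : IsArtinian R Q := by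
      have : IsArtinian (R ⧸ m) Q := inferInstance
      exact isArtinian_of_surjective_algebraMap (Ideal.Quotient.mk_surjective (I := m))
    rw [isFiniteLength_iff_isNoetherian_isArtinian] at h1 ⊢
    obtain ⟨h1n, h1a⟩ := h1
    have e : (m • (⊤ : Submodule R N)).map N.subtype = m • N := by
      rw [Submodule.map_smul'', Submodule.map_top, Submodule.range_subtype]
    let e' := ((m • (⊤ : Submodule R N)).equivMapOfInjective N.subtype N.injective_subtype).trans (LinearEquiv.ofEq _ _ e)
    haveI := isNoetherian_of_linearEquiv e'.symm
    haveI := isArtinian_of_linearEquiv e'.symm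
    exact ⟨isNoetherian_of_range_eq_ker (m • (⊤ : Submodule R N)).subtype (Submodule.mkQ (m • (⊤ : Submodule R N))) (by simp),
      isArtinian_of_range_eq_ker (m • (⊤ : Submodule R N)).subtype (Submodule.mkQ (m • (⊤ : Submodule R N))) (by simp)⟩

end Groth.Agent.S6292
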