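import Groth.Statements.S19436
import Mathlib.Algebra.Order.Ring.Star
import Mathlib.Combinatorics.Nullstellensatz
import Mathlib.Data.Rat.Star
import Mathlib.FieldTheory.Finite.Basic
import Mathlib.LinearAlgebra.BilinearForm.Properties
import Mathlib.RepresentationTheory.Invariants
import Mathlib.RingTheory.Flat.TorsionFree
import Mathlib.RingTheory.Henselian
import Mathlib.RingTheory.Ideal.AssociatedPrime.Basic
import Mathlib.RingTheory.RegularLocalRing.Defs
import Mathlib.RingTheory.SimpleRing.Principal

set_option autoImplicit false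
universe u
open CAlg

namespace Groth.Agent.S19436

/-- For a Noetherian local commutative algebra R over a field k, with maximal ideal M, and an ideal I of
R whose quotient R/I is finite-dimensional over k of dimension n, the power M^n lies in I. -/
theorem result (k : Type u) [Field k] (R : Type u) [CommRing R]
    [Algebra k R] [IsNoetherianRing R] [IsLocalRing R] (I : Ideal R) [Module.Finite k (R ⧸ I)] (n : ℕ)
    (hn : Module.finrank k (R ⧸ I) = n) : IsLocalRing.maximalIdeal R ^ n ≤ I := by
  set m := IsLocalRing.maximalIdeal R
  let W : ℕ → Submodule k (R ⧸ I) := fun i => ((m ^ i).map (Ideal.Quotient.mk I)).restrictScalars k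
  have hW : ∀ i, W i = ⊥ ∨ W (i+1) < W i := by
    intro i
    have hle : (m ^ (i+1)).map (Ideal.Quotient.mk I) ≤ (m ^ i).map (Ideal.Quotient.mk I) :=
      Ideal.map_mono (Ideal.pow_le_pow_right (Nat.le_succ i))
    rcases hle.eq_or_lt with h | h
    · left
      have h1 : m ^ i ≤ I ⊔ m • (m ^ i) := by
        intro x hx
        have : Ideal.Quotient.mk I x ∈ (m ^ (i+1)).map (Ideal.Quotient.mk I) := h ▸ Ideal.mem_map_of_mem _ hx
        obtain ⟨y, hy, hxy⟩ := (Ideal.mem_map_iff_of_surjective _ Ideal.Quotient.mk_surjective).mp this
        rw [Ideal.Quotient.mk_eq_mk_iff_sub_mem] at hxy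
        rw [smul_eq_mul, ← pow_succ']
        exact Submodule.mem_sup.mpr ⟨x - y, by simpa using I.neg_mem hxy, y, hy, by ring⟩
      have h2 : m ^ i ≤ I := Submodule.le_of_le_smul_of_le_jacobson_bot (IsNoetherian.noetherian _)
        (IsLocalRing.maximalIdeal_le_jacobson _) h1
      rw [eq_bot_iff]
      rintro x hx
      obtain ⟨y, hy, rfl⟩ := (Ideal.mem_map_iff_of_surjective _ Ideal.Quotient.mk_surjective).mp hx
      exact (Submodule.mem_bot k).mpr (Ideal.Quotient.eq_zero_iff_mem.mpr (h2 hy))
    · right; exact h
  have key : ∀ i, W i = ⊥ ∨ Module.finrank k (W i) + i ≤ n := by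
    intro i
    induction i with
    | zero => right; simpa using hn ▸ Submodule.finrank_le (W 0)
    | succ i ih =>
      rcases hW i with h | h
      · left
        rw [eq_bot_iff, ← h]
        exact Ideal.map_mono (Ideal.pow_le_pow_right (Nat.le_succ i))
      · rcases ih with h' | h'
        · exact absurd h (h' ▸ not_lt_bot)
        · right
          have := Submodule.finrank_lt_finrank_of_lt h
          omega
  have hbot : W n = ⊥ := by
    rcases key n with h | h
    · exact h
    · exact Submodule.finrank_eq_zero.mp (by omega)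
  intro x hx
  have : Ideal.Quotient.mk I x ∈ W n := Ideal.mem_map_of_mem (Ideal.Quotient.mk I) hx
  rw [hbot, Submodule.mem_bot] at this
  exact Ideal.Quotient.eq_zero_iff_mem.mp this

end Groth.Agent.S19436
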