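import Groth.Statements.S19437
import Groth.Agent.H3CAlg.NodeIdeals

set_option autoImplicit false
universe u
open CAlg

namespace Groth.Agent.S19437

/-- Ideals of colength n of the complete local ring of a node. Let k be a field and J an ideal of the
power series ring k[[x,y]] in two variables x, y which contains xy and whose quotient is
finite-dimensional over k of dimension n ≥ 2. Then there are integers a, b ≥ 1 such that either a +
b = n + 1 and J is generated by xy, x^a, y^b, or a + b = n and J is generated by xy and x^a + α y^b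
for some nonzero scalar α. -/
theorem result (k : Type u) [Field k]
    (J : Ideal (MvPowerSeries (Fin 2) k))
    (hxy : (MvPowerSeries.X 0 * MvPowerSeries.X 1 : MvPowerSeries (Fin 2) k) ∈ J)
    [Module.Finite k (MvPowerSeries (Fin 2) k ⧸ J)] (n : ℕ) (hn : Module.finrank k (MvPowerSeries (Fin 2) k ⧸ J) = n)
    (h2 : 2 ≤ n) :
    ∃ a b : ℕ, 1 ≤ a ∧ 1 ≤ b ∧
      ((a + b = n + 1 ∧
        J = Ideal.span {MvPowerSeries.X 0 * MvPowerSeries.X 1, MvPowerSeries.X 0 ^ a, MvPowerSeries.X 1 ^ b}) ∨
       (a + b = n ∧ ∃ α : k, α ≠ 0 ∧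
        J = Ideal.span {MvPowerSeries.X 0 * MvPowerSeries.X 1,
          MvPowerSeries.X 0 ^ a + MvPowerSeries.C α * MvPowerSeries.X 1 ^ b})) := by
  exact Groth.Agent.H3CAlg.NodeIdeals.classification J hxy n hn h2

end Groth.Agent.S19437
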