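import Groth.Statements.S19438
import Groth.Agent.H3CAlg.TorFlat
import Mathlib.Algebra.Algebra.ZMod
import Mathlib.Algebra.Order.Star.Basic
import Mathlib.LinearAlgebra.Matrix.ToLinearEquiv
import Mathlib.RingTheory.Henselian
import Mathlib.RingTheory.MvPolynomial.IrreducibleQuadratic
import Mathlib.RingTheory.RegularLocalRing.Defs
import Mathlib.RingTheory.SimpleRing.Principal
import Mathlib.Tactic.Ring

set_option autoImplicit false
universe u
open CAlg

namespace Groth.Agent.S19438

/-- First assertion: let A be a Noetherian local commutative algebra over a field k with maximal ideal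
M, residue field k (the map from k to A/M is onto) and embedding dimension dim M/M^2 at least 2, and
let I be a proper ideal with A/I finite-dimensional over k. If A/I is generated as a k-algebra by
one element, then some element of I does not lie in M^2; that is, the finite closed subscheme
defined by I lies on a smooth hypersurface germ (it is curvilinear). (The published statement is for
the local ring of a smooth surface at a closed point; only a Noetherian local algebra with residue
field k and embedding dimension at least 2 is assumed here, which is what the published argument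
uses.) -/
theorem result (k : Type u) [Field k]
    (A : Type u) [CommRing A] [Algebra k A] [IsNoetherianRing A] [IsLocalRing A]
    (hres : Function.Surjective (algebraMap k (IsLocalRing.ResidueField A)))
    (hemb : 2 ≤ Module.finrank (IsLocalRing.ResidueField A) (IsLocalRing.CotangentSpace A))
    (I : Ideal A) (hI : I ≠ ⊤) [Module.Finite k (A ⧸ I)]
    (f : A ⧸ I) (hf : Algebra.adjoin k {f} = ⊤) :
    ∃ g ∈ I, g ∉ IsLocalRing.maximalIdeal A ^ 2 := by
  classical
  by_contra hcon
  push_neg at hcon
  let 𝔪 := IsLocalRing.maximalIdeal A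
  obtain ⟨F, rfl⟩ := Ideal.Quotient.mk_surjective f
  obtain ⟨c, hc⟩ := hres (IsLocalRing.residue A F)
  let x := F - algebraMap k A c
  have hx : x ∈ 𝔪 := by
    rw [← IsLocalRing.residue_eq_zero_iff, map_sub, ← hc]
    exact sub_self _
  have hgen : ∀ a ∈ 𝔪, ∃ d : k, a - algebraMap k A d * x ∈ 𝔪 ^ 2 := by
    intro a ha
    have h1 : Ideal.Quotient.mk I a ∈ (Algebra.adjoin k {Ideal.Quotient.mk I F} : Subalgebra k (A ⧸ I)) := hf ▸ trivial
    rw [Algebra.adjoin_singleton_eq_range_aeval] at h1
    obtain ⟨q, hq⟩ := h1
    have h2 : a - Polynomial.aeval F q ∈ 𝔪 ^ 2 := by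
      refine hcon _ (Ideal.Quotient.eq.mp ?_)
      have h3 : Polynomial.aeval (Ideal.Quotient.mk I F) q = Ideal.Quotient.mk I (Polynomial.aeval F q) :=
        Polynomial.aeval_algHom_apply (Ideal.Quotient.mkₐ k I) F q
      rw [← h3, ← hq]
      rfl
    obtain ⟨e, he⟩ := Polynomial.binomExpansion (q.map (algebraMap k A)) (algebraMap k A c) x
    rw [show algebraMap k A c + x = F by simp [x], Polynomial.eval_map, ← Polynomial.aeval_def,
      Polynomial.eval_map, ← Polynomial.aeval_def, Polynomial.aeval_algebraMap_apply,
      Polynomial.derivative_map, Polynomial.eval_map, ← Polynomial.aeval_def,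
      Polynomial.aeval_algebraMap_apply] at he
    have hsq : e * x ^ 2 ∈ 𝔪 ^ 2 := Ideal.mul_mem_left _ _ (Ideal.pow_mem_pow hx 2)
    have h0 : algebraMap k A ((Polynomial.aeval c) q) ∈ 𝔪 := by
      have : algebraMap k A ((Polynomial.aeval c) q) = a - (a - Polynomial.aeval F q) -
          algebraMap k A ((Polynomial.aeval c) (Polynomial.derivative q)) * x - e * x ^ 2 := by
        rw [he]; ring
      rw [this]
      exact sub_mem (sub_mem (sub_mem ha (Ideal.pow_le_self two_ne_zero h2)) (Ideal.mul_mem_left _ _ hx))
        (Ideal.pow_le_self two_ne_zero hsq)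
    have hq0 : (Polynomial.aeval c) q = 0 := by
      by_contra hne
      exact (IsLocalRing.maximalIdeal.isMaximal A).ne_top
        (Ideal.eq_top_of_isUnit_mem _ h0 ((isUnit_iff_ne_zero.mpr hne).map _))
    refine ⟨(Polynomial.aeval c) (Polynomial.derivative q), ?_⟩
    have : a - algebraMap k A ((Polynomial.aeval c) (Polynomial.derivative q)) * x =
        (a - Polynomial.aeval F q) + e * x ^ 2 := by
      rw [he, hq0, map_zero]; ring
    rw [this]
    exact add_mem h2 hsq
  have hle : Module.finrank (IsLocalRing.ResidueField A) (IsLocalRing.CotangentSpace A) ≤ 1 := by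
    refine finrank_le_one (Ideal.toCotangent 𝔪 ⟨x, hx⟩) fun w ↦ ?_
    obtain ⟨⟨a, ha⟩, rfl⟩ := Ideal.toCotangent_surjective 𝔪 w
    obtain ⟨d, hd⟩ := hgen a ha
    refine ⟨IsLocalRing.residue A (algebraMap k A d), ?_⟩
    show (algebraMap k A d) • (𝔪.toCotangent ⟨x, hx⟩) = _
    rw [← map_smul, Ideal.toCotangent_eq]
    show algebraMap k A d * x - a ∈ 𝔪 ^ 2
    rw [← neg_sub]; exact neg_mem hd
  omega

end Groth.Agent.S19438
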