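import Groth.Statements.S19439
import Mathlib.Algebra.Order.Ring.Star
import Mathlib.Algebra.TrivSqZeroExt.Basic
import Mathlib.Order.CompletePartialOrder
import Mathlib.RingTheory.Flat.TorsionFree
import Mathlib.RingTheory.Henselian
import Mathlib.RingTheory.MvPolynomial.IrreducibleQuadratic
import Mathlib.RingTheory.PicardGroup
import Mathlib.RingTheory.RegularLocalRing.Defs
import Mathlib.RingTheory.SimpleRing.Principal
import Mathlib.RingTheory.TotallySplit

set_option autoImplicit false
universe u
open CAlg

namespace Groth.Agent.S19439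

/-- Affine form: for all n and N there is an integer d, that depends only on n and N, such that for
every algebraically closed field k and every ideal I of the polynomial ring in N variables over k
whose quotient has finite dimension n over k, the polynomials of total degree at most d map onto the
quotient. -/
theorem result (n N : ℕ) :
    ∃ d : ℕ, ∀ (k : Type u) [Field k] [IsAlgClosed k] (I : Ideal (MvPolynomial (Fin N) k))
      [Module.Finite k (MvPolynomial (Fin N) k ⧸ I)],
      Module.finrank k (MvPolynomial (Fin N) k ⧸ I) = n →
      Submodule.map (Ideal.Quotient.mkₐ k I).toLinearMap (MvPolynomial.restrictTotalDegree (Fin N) k d) = ⊤ := by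
  refine ⟨n, fun k _ _ I hI hn => ?_⟩
  set V : ℕ → Submodule k (MvPolynomial (Fin N) k ⧸ I) := fun j =>
    Submodule.map (Ideal.Quotient.mkₐ k I).toLinearMap (MvPolynomial.restrictTotalDegree (Fin N) k j)
  show V n = ⊤
  have hmono : Monotone V := fun i j hij => Submodule.map_mono fun p hp => by
    rw [MvPolynomial.mem_restrictTotalDegree] at hp ⊢; omega
  have hone : ∀ j, (1 : MvPolynomial (Fin N) k ⧸ I) ∈ V j := fun j =>
    ⟨1, by simp [MvPolynomial.mem_restrictTotalDegree], map_one (Ideal.Quotient.mkₐ k I)⟩
  have hstable : ∀ j, V (j + 1) ≤ V j → V j = ⊤ := by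
    intro j hj
    rw [eq_top_iff]
    rintro z -
    obtain ⟨p, rfl⟩ := Ideal.Quotient.mk_surjective z
    induction p using MvPolynomial.induction_on with
    | C a =>
      refine ⟨MvPolynomial.C a, ?_, rfl⟩
      simp [MvPolynomial.mem_restrictTotalDegree]
    | add p q hp hq => rw [map_add]; exact add_mem hp hq
    | mul_X p i hp =>
      obtain ⟨q, hq, hqe⟩ := hp
      have : V (j+1) ≤ V j := hj
      refine this ⟨q * MvPolynomial.X i, ?_, ?_⟩
      · rw [SetLike.mem_coe, MvPolynomial.mem_restrictTotalDegree] at hq ⊢
        refine (MvPolynomial.totalDegree_mul _ _).trans ?_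
        rw [MvPolynomial.totalDegree_X]; omega
      · show Ideal.Quotient.mk I (q * MvPolynomial.X i) = _
        rw [map_mul, map_mul]
        exact congrArg (· * _) hqe
  by_cases h : ∃ j ≤ n, V (j + 1) ≤ V j
  · obtain ⟨j, hj, hle⟩ := h
    exact eq_top_iff.mpr ((hstable j hle).symm.le.trans (hmono hj))
  · exfalso
    push_neg at h
    have hlt : ∀ j ≤ n, j ≤ Module.finrank k (V j) ∧ (1 ≤ n → j + 1 ≤ Module.finrank k (V j)) := by
      intro j
      induction j with
      | zero =>
        intro _
        refine ⟨Nat.zero_le _, fun h1 => ?_⟩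
        have : Nontrivial (MvPolynomial (Fin N) k ⧸ I) := Module.nontrivial_of_finrank_pos (R := k) (by omega)
        exact Submodule.one_le_finrank_iff.mpr ((Submodule.ne_bot_iff _).mpr ⟨1, hone 0, one_ne_zero⟩)
      | succ j ih =>
        intro hj
        obtain ⟨h1, h2⟩ := ih (by omega)
        have hl : V j < V (j + 1) := lt_of_le_not_ge (hmono (by omega)) (h j (by omega))
        have := Submodule.finrank_lt_finrank_of_lt hl
        exact ⟨by omega, fun h1 => by have := h2 h1; omega⟩
    rcases Nat.eq_zero_or_pos n with h0 | h0
    · subst h0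
      have : Subsingleton (MvPolynomial (Fin N) k ⧸ I) := Module.finrank_zero_iff.mp hn
      exact h 0 le_rfl (fun x _ => Subsingleton.elim 0 x ▸ Submodule.zero_mem _)
    · have h1 := (hlt n le_rfl).2 h0
      have h2 := Submodule.finrank_le (V n)
      omega

end Groth.Agent.S19439
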