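import Groth.Statements.S19443
import Mathlib.Algebra.Order.Ring.Star
import Mathlib.Combinatorics.Nullstellensatz
import Mathlib.Data.Rat.Star
import Mathlib.FieldTheory.Finite.Basic
import Mathlib.LinearAlgebra.BilinearForm.Properties
import Mathlib.RepresentationTheory.Invariants
import Mathlib.RingTheory.Flat.TorsionFree
import Mathlib.RingTheory.Henselian
import Mathlib.RingTheory.Ideal.AssociatedPrime.Basic
import Mathlib.RingTheory.RegularLocalRing.Defs
import Mathlib.RingTheory.SimpleRing.Principal

set_option autoImplicit false
universe u
open LinAlg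

namespace Groth.Agent.S19443

/-- Algebraic form: let G be a finite group with order invertible in the field k, ρ a linear
representation of G on a k-vector space V, and ω a nondegenerate bilinear form on V invariant under
G. Then ω restricted to the fixed subspace V^G is nondegenerate (for a finite group of symplectic
automorphisms, the fixed subspace is a symplectic subspace). -/
theorem result (k : Type u) [Field k]
    (G : Type u) [Group G] [Finite G] (hG : (Nat.card G : k) ≠ 0)
    (V : Type u) [AddCommGroup V] [Module k V] (ρ : Representation k G V)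
    (ω : LinearMap.BilinForm k V) (hω : ω.Nondegenerate)
    (hinv : ∀ (g : G) (v w : V), ω (ρ g v) (ρ g w) = ω v w) :
    (ω.restrict ρ.invariants).Nondegenerate := by
  cases nonempty_fintype G
  have havg : ∀ w : V, ∑ g : G, ρ g w ∈ ρ.invariants := fun w h => by
    rw [map_sum]
    exact Fintype.sum_equiv (Equiv.mulLeft h) _ _ (fun g => by simp [map_mul])
  have hG' : (Fintype.card G : k) ≠ 0 := by rwa [← Nat.card_eq_fintype_card]
  constructor
  · intro v hv
    apply Subtype.ext
    apply hω.1
    intro w
    have h0 : ω v (∑ g : G, ρ g w) = 0 := hv ⟨_, havg w⟩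
    have h2 : ∀ g : G, ω v (ρ g w) = ω v w := fun g => by
      conv_lhs => rw [← v.2 g]
      rw [hinv]
    rw [map_sum, Finset.sum_congr rfl fun g _ => h2 g, Finset.sum_const, Finset.card_univ, nsmul_eq_mul] at h0
    exact (mul_eq_zero.mp h0).resolve_left hG'
  · intro v hv
    apply Subtype.ext
    apply hω.2
    intro w
    have h0 : ω (∑ g : G, ρ g w) v = 0 := hv ⟨_, havg w⟩
    have h2 : ∀ g : G, ω (ρ g w) v = ω w v := fun g => by
      conv_lhs => rw [← v.2 g]
      rw [hinv]
    rw [map_sum, LinearMap.sum_apply, Finset.sum_congr rfl fun g _ => h2 g, Finset.sum_const, Finset.card_univ, nsmul_eq_mul] at h0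
    exact (mul_eq_zero.mp h0).resolve_left hG'

end Groth.Agent.S19443
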