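import Groth.Statements.S19444
import Mathlib

set_option autoImplicit false
universe u
open SymTen
open scoped TensorProduct

namespace Groth.Agent.S19444

/-- Linearised norm: let A be a commutative ring in which n! is invertible and R a commutative
A-algebra, free of rank n as an A-module. There is a unique A-algebra homomorphism from the
symmetric tensors TS^n_A(R) to A taking r ⊗ ⋯ ⊗ r to the norm of r for every r in R. (The published
corollary is stated for any free algebra of rank n; the construction printed for it divides by n!,
and n! invertible is assumed here.) -/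
theorem result (A : Type u) [CommRing A] (R : Type u) [CommRing R]
    [Algebra A R] [Module.Free A R] [Module.Finite A R] (n : ℕ) (hn : Module.finrank A R = n)
    (hfact : IsUnit ((Nat.factorial n : ℕ) : A)) :
    ∃! φ : SymTen.TS A R n →ₐ[A] A, ∀ r : R, φ (SymTen.tpow A R n r) = Algebra.norm A r := by
  classical
  rcases subsingleton_or_nontrivial A with hA | hA
  · let φ : SymTen.TS A R n →ₐ[A] A :=
      { toFun := fun _ => 0, map_one' := Subsingleton.elim _ _, map_mul' := fun _ _ => Subsingleton.elim _ _,
        map_zero' := rfl, map_add' := fun _ _ => Subsingleton.elim _ _, commutes' := fun _ => Subsingleton.elim _ _ }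
    exact ⟨φ, fun _ => Subsingleton.elim _ _, fun g _ => AlgHom.ext fun _ => Subsingleton.elim _ _⟩
  let b : Module.Basis (Fin n) A R := Module.finBasisOfFinrankEq A R hn
  let T := ⨂[A] _ : Fin n, R
  let ld : T →ₗ[A] A := PiTensorProduct.lift b.det.toMultilinearMap
  have hswap : ∀ (i j : Fin n), i ≠ j → ∀ z : T,
      ld (PiTensorProduct.reindex A (fun _ : Fin n => R) (Equiv.swap i j) z) = -ld z := by
    intro i j hij z
    induction z using PiTensorProduct.induction_on with
    | smul_tprod c f =>
      simp only [map_smul, PiTensorProduct.reindex_tprod, ld, Equiv.symm_swap]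
      rw [show (fun k => f (Equiv.swap i j k)) = f ∘ Equiv.swap i j from rfl]
      erw [PiTensorProduct.lift.tprod, PiTensorProduct.lift.tprod]
      show c • b.det (f ∘ Equiv.swap i j) = -(c • b.det f)
      rw [AlternatingMap.map_swap _ _ hij, smul_neg]
    | add x y hx hy => simp only [map_add, hx, hy]; abel
  have h2 : ∀ i j : Fin n, i ≠ j → IsUnit ((2 : ℕ) : A) := by
    intro i j hij
    obtain ⟨c, hc⟩ : 2 ∣ n.factorial := Nat.dvd_factorial two_pos (by
      by_contra h
      exact hij (Fin.ext (by have := i.2; have := j.2; omega)))
    rw [hc, Nat.cast_mul] at hfact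
    exact isUnit_of_mul_isUnit_left hfact
  have key : ∀ s ∈ SymTen.TS A R n, ∀ z : T, ld (s * z) = ld (s * PiTensorProduct.tprod A b) * ld z := by
    intro s hs
    let M : R [⋀^Fin n]→ₗ[A] A :=
      { (ld ∘ₗ LinearMap.mulLeft A s).compMultilinearMap (PiTensorProduct.tprod A) with
        map_eq_zero_of_eq' := fun v i j hv hij => by
          show ld (s * PiTensorProduct.tprod A v) = 0
          have hfix : PiTensorProduct.reindex A (fun _ : Fin n => R) (Equiv.swap i j) (s * PiTensorProduct.tprod A v) =
              s * PiTensorProduct.tprod A v := by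
            rw [← SymTen.perm_apply, map_mul, SymTen.perm_apply, SymTen.perm_apply, hs, PiTensorProduct.reindex_tprod]
            congr 2
            funext k
            rw [Equiv.symm_swap, Equiv.swap_apply_def]
            split_ifs with h1 h2 <;> simp_all
          have := hswap i j hij (s * PiTensorProduct.tprod A v)
          rw [hfix] at this
          apply (h2 i j hij).mul_left_cancel
          push_cast
          linear_combination this }
    have hM : ∀ v, ld (s * PiTensorProduct.tprod A v) = ld (s * PiTensorProduct.tprod A b) * b.det v := by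
      intro v
      exact congrArg (fun f : R [⋀^Fin n]→ₗ[A] A => f v) (M.eq_smul_basis_det b)
    intro z
    induction z using PiTensorProduct.induction_on with
    | smul_tprod c f =>
      rw [mul_smul_comm, map_smul, map_smul, hM, show ld (PiTensorProduct.tprod A f) = b.det f from
        PiTensorProduct.lift.tprod _, smul_eq_mul, smul_eq_mul]
      ring
    | add x y hx hy => rw [mul_add, map_add, map_add, hx, hy, mul_add]
  have hone : ld (PiTensorProduct.tprod A b) = 1 :=
    (PiTensorProduct.lift.tprod _).trans b.det_self
  let φ : SymTen.TS A R n →ₐ[A] A := AlgHom.ofLinearMap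
    (ld ∘ₗ LinearMap.mulRight A (PiTensorProduct.tprod A b) ∘ₗ (SymTen.TS A R n).val.toLinearMap)
    (by simp only [LinearMap.comp_apply, AlgHom.toLinearMap_apply, map_one, LinearMap.mulRight_apply, one_mul, hone])
    (fun s t => by
      simp only [LinearMap.comp_apply, AlgHom.toLinearMap_apply, map_mul, LinearMap.mulRight_apply]
      rw [mul_assoc]
      exact key _ s.2 _)
  have hφ : ∀ r : R, φ (SymTen.tpow A R n r) = Algebra.norm A r := by
    intro r
    show ld (PiTensorProduct.tprod A (fun _ : Fin n => r) * PiTensorProduct.tprod A b) = _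
    rw [PiTensorProduct.tprod_mul_tprod]
    refine (PiTensorProduct.lift.tprod _).trans ?_
    show b.det (LinearMap.mulLeft A r ∘ b) = _
    rw [b.det_comp, b.det_self, mul_one]
    rfl
  refine ⟨φ, hφ, fun ψ hψ => AlgHom.ext fun t => ?_⟩
  let S : Submodule A T := Submodule.span A (Set.range fun r : R => PiTensorProduct.tprod A fun _ : Fin n => r)
  have hpol : ∀ f : Fin n → R, (∑ σ : Equiv.Perm (Fin n), PiTensorProduct.tprod A (f ∘ σ)) ∈ S := by
    intro f
    have e : ∑ U : Finset (Fin n), (-1 : A) ^ U.card • PiTensorProduct.tprod A (fun _ : Fin n => ∑ i ∈ Uᶜ, f i) =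
        ∑ σ : Equiv.Perm (Fin n), PiTensorProduct.tprod A (f ∘ σ) := by
      have hexp : ∀ U : Finset (Fin n), PiTensorProduct.tprod A (fun _ : Fin n => ∑ i ∈ Uᶜ, f i) =
          ∑ g : Fin n → Fin n, if ∀ a, g a ∉ U then PiTensorProduct.tprod A (f ∘ g) else 0 := by
        intro U
        rw [MultilinearMap.map_sum_finset, ← Finset.sum_filter]
        refine Finset.sum_congr ?_ fun g _ => rfl
        ext g
        simp [Fintype.mem_piFinset]
      simp only [hexp, Finset.smul_sum, smul_ite, smul_zero]
      rw [Finset.sum_comm]
      have hin : ∀ g : Fin n → Fin n,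
          ∑ U : Finset (Fin n), (if ∀ a, g a ∉ U then (-1 : A) ^ U.card • PiTensorProduct.tprod A (f ∘ g) else 0) =
            if Function.Surjective g then PiTensorProduct.tprod A (f ∘ g) else 0 := by
        intro g
        rw [← Finset.sum_filter,
          show (Finset.univ.filter fun U : Finset (Fin n) => ∀ a, g a ∉ U) = ((Finset.univ.image g)ᶜ).powerset by
            ext U
            simp only [Finset.mem_filter, Finset.mem_univ, true_and, Finset.mem_powerset, Finset.subset_iff,
              Finset.mem_compl, Finset.mem_image, not_exists]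
            exact ⟨fun h i hi a ha => h a (ha ▸ hi), fun h a ha => h ha a rfl⟩,
          ← Finset.sum_smul]
        have h := congrArg (Int.cast : ℤ → A) (Finset.sum_powerset_neg_one_pow_card (x := (Finset.univ.image g)ᶜ))
        push_cast at h
        rw [h]
        simp only [Finset.compl_eq_empty_iff, ite_smul, one_smul, zero_smul]
        congr 1
        simp [Finset.eq_univ_iff_forall, Function.Surjective]
      simp only [hin]
      rw [← Finset.sum_filter]
      refine (Finset.sum_bij (fun (σ : Equiv.Perm (Fin n)) _ => (σ : Fin n → Fin n)) (fun σ _ => by simp [σ.surjective])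
        (fun a _ b _ h => Equiv.ext (congrFun h)) (fun g hg => ?_) (fun σ _ => rfl)).symm
      exact ⟨Equiv.ofBijective g ((Finite.surjective_iff_bijective).mp (Finset.mem_filter.mp hg).2), Finset.mem_univ _, rfl⟩
    rw [← e]
    exact sum_mem fun U _ => S.smul_mem _ (Submodule.subset_span ⟨_, rfl⟩)
  have hsym : ∀ z : T, (∑ σ : Equiv.Perm (Fin n), PiTensorProduct.reindex A (fun _ : Fin n => R) σ z) ∈ S := by
    intro z
    induction z using PiTensorProduct.induction_on with
    | smul_tprod c f =>
      simp only [map_smul, PiTensorProduct.reindex_tprod, ← Finset.smul_sum]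
      refine S.smul_mem _ ?_
      rw [← Equiv.sum_comp (Equiv.inv (Equiv.Perm (Fin n)))]
      exact hpol f
    | add x y hx hy =>
      simp only [map_add, Finset.sum_add_distrib]
      exact add_mem hx hy
  obtain ⟨u, hu⟩ := hfact
  have ht : (t : T) ∈ S := by
    have h := hsym t
    rw [Finset.sum_congr rfl (fun σ _ => t.2 σ), Finset.sum_const, Finset.card_univ, Fintype.card_perm,
      Fintype.card_fin, ← Nat.cast_smul_eq_nsmul A, ← hu] at h
    exact (Submodule.smul_mem_iff_of_isUnit S u.isUnit).mp h
  have hle : S ≤ (LinearMap.eqLocus ψ.toLinearMap φ.toLinearMap).map (SymTen.TS A R n).val.toLinearMap :=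
    Submodule.span_le.mpr (by
      rintro _ ⟨r, rfl⟩
      exact ⟨SymTen.tpow A R n r, (hψ r).trans (hφ r).symm, rfl⟩)
  obtain ⟨t', ht', he⟩ := hle ht
  have : t' = t := Subtype.ext he
  exact this ▸ ht'

end Groth.Agent.S19444
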