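import Groth.Statements.S19445
import Groth.Agent.H4Depth.Regular
import Mathlib.RingTheory.Henselian
import Mathlib.RingTheory.SimpleRing.Principal
import Mathlib.Tactic.LinearCombination
import Mathlib.Tactic.Ring

set_option autoImplicit false
universe u
open CAlg

namespace Groth.Agent.S19445

/-- Local form: let k be a field and A a regular local k-algebra with maximal ideal M and residue field
k (k maps onto A/M); let a finite group G whose order is invertible in k act on A by k-algebra
automorphisms. Then A/J is a regular local ring, where J is the ideal generated by the elements g·a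
− a (J defines the fixed-point subscheme, so the fixed locus of G is smooth at the point). The
accompanying identification of its tangent space with the G-invariants of the tangent space of A is
not restated here. -/
theorem result (k : Type u) [Field k] (A : Type u) [CommRing A]
    [Algebra k A] [IsRegularLocalRing A]
    (hres : Function.Surjective (algebraMap k (IsLocalRing.ResidueField A)))
    (G : Type u) [Group G] [Finite G] [MulSemiringAction G A] [SMulCommClass G k A]
    (hG : (Nat.card G : k) ≠ 0) :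
    IsRegularLocalRing (A ⧸ Ideal.span {x : A | ∃ (g : G) (a : A), x = g • a - a}) := by
  classical
  haveI : Fintype G := Fintype.ofFinite G
  set J := Ideal.span {x : A | ∃ (g : G) (a : A), x = g • a - a} with hJ
  let m := IsLocalRing.maximalIdeal A
  let c : k := (Nat.card G : k)⁻¹
  let π : A → A := fun a ↦ c • ∑ g : G, g • a
  let δ : A → A := fun a ↦ a - π a
  have hgalg : ∀ (g : G) (r : k), g • algebraMap k A r = algebraMap k A r := fun g r ↦ by
    rw [Algebra.algebraMap_eq_smul_one, smul_comm, smul_one]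
  have hinv : ∀ (g : G) (a : A), g • π a = π a := fun g a ↦ by
    simp only [π, smul_comm g c, Finset.smul_sum, smul_smul]
    exact Equiv.sum_comp (Equiv.mulLeft g) (fun h ↦ c • h • a)
  have hπadd : ∀ a b, π (a + b) = π a + π b := fun a b ↦ by simp [π, smul_add, Finset.sum_add_distrib]
  have hπmul : ∀ a y, (∀ g : G, g • y = y) → π (a * y) = π a * y := fun a y hy ↦ by
    simp only [π, smul_mul', hy, ← Finset.sum_mul, smul_mul_assoc]
  have hπfix : ∀ y, (∀ g : G, g • y = y) → π y = y := fun y hy ↦ by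
    simp only [π, hy, Finset.sum_const, Finset.card_univ, ← Nat.card_eq_fintype_card, ← Nat.cast_smul_eq_nsmul k, smul_smul, c]
    rw [inv_mul_cancel₀ hG, one_smul]
  have hδadd : ∀ a b, δ (a + b) = δ a + δ b := fun a b ↦ by simp only [δ, hπadd]; ring
  have hδmul : ∀ a y, (∀ g : G, g • y = y) → δ (a * y) = δ a * y := fun a y hy ↦ by simp only [δ, hπmul a y hy]; ring
  have hδJ : ∀ a, δ a ∈ J := fun a ↦ by
    have : δ a = c • ∑ g : G, (a - g • a) := by
      simp only [δ, π, Finset.sum_sub_distrib, smul_sub, Finset.sum_const, Finset.card_univ, ← Nat.card_eq_fintype_card,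
        ← Nat.cast_smul_eq_nsmul k, smul_smul, c, inv_mul_cancel₀ hG, one_smul]
    rw [this, Algebra.smul_def]
    refine J.mul_mem_left _ (sum_mem fun g _ ↦ ?_)
    rw [← neg_sub]
    exact neg_mem (Ideal.subset_span ⟨g, a, rfl⟩)
  have hmg : ∀ (g : G), ∀ a ∈ m, g • a ∈ m := fun g a ha ↦ by
    rw [IsLocalRing.mem_maximalIdeal] at ha ⊢
    intro hu
    exact ha (by simpa using hu.map (MulSemiringAction.toRingHom G A g⁻¹))
  have hπm : ∀ a ∈ m, π a ∈ m := fun a ha ↦ by
    simp only [π, Algebra.smul_def]; exact m.mul_mem_left _ (sum_mem fun g _ ↦ hmg g a ha)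
  have hJm : J ≤ m := Ideal.span_le.mpr fun x ⟨g, a, hx⟩ ↦ by
    obtain ⟨r, hr⟩ := hres (IsLocalRing.residue A a)
    have h0 : a - algebraMap k A r ∈ m := by
      rw [← IsLocalRing.residue_eq_zero_iff, map_sub, ← hr, ← IsLocalRing.ResidueField.algebraMap_eq,
        ← IsScalarTower.algebraMap_apply, sub_self]
    have := sub_mem (hmg g _ h0) h0
    rw [smul_sub, hgalg, sub_sub_sub_cancel_right, ← hx] at this
    exact this
  have hmJ : ∀ z ∈ m * J, π z ∈ m * J := by
    have : ∀ g : G, (m * J).map (MulSemiringAction.toRingHom G A g) ≤ m * J := fun g ↦ by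
      rw [Ideal.map_mul]
      refine Ideal.mul_mono (Ideal.map_le_iff_le_comap.mpr fun a ha ↦ hmg g a ha) ?_
      rw [Ideal.map_span, Ideal.span_le]
      rintro _ ⟨_, ⟨h, a, rfl⟩, rfl⟩
      show g • (h • a - a) ∈ J
      rw [smul_sub, ← mul_smul, ← sub_sub_sub_cancel_right _ _ a]
      exact sub_mem (Ideal.subset_span ⟨_, a, rfl⟩) (Ideal.subset_span ⟨_, a, rfl⟩)
    intro z hz
    simp only [π, Algebra.smul_def]
    exact Ideal.mul_mem_left _ _ (sum_mem fun g _ ↦ this g (Ideal.mem_map_of_mem _ hz))
  let κ := IsLocalRing.ResidueField A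
  let V := IsLocalRing.CotangentSpace A
  let S0 : Set V := Set.range fun a : m ↦ m.toCotangent ⟨δ a, hJm (hδJ a)⟩
  let T0 : Set V := Set.range fun a : m ↦ m.toCotangent ⟨π a, hπm a a.2⟩
  obtain ⟨b1, hb1, hb1s, hb1i⟩ := exists_linearIndependent κ S0
  obtain ⟨b, hbt, hb1b, htb, hbi⟩ := exists_linearIndepOn_id_extension hb1i (Set.subset_union_left (t := T0))
  have hspan : Submodule.span κ b = ⊤ := by
    refine top_unique fun v _ ↦ ?_
    obtain ⟨a, rfl⟩ := m.toCotangent_surjective v
    have : a = (⟨δ a, hJm (hδJ a)⟩ : m) + ⟨π a, hπm a a.2⟩ := Subtype.ext (by simp [δ])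
    rw [this, map_add]
    refine add_mem ?_ (htb (Or.inr ⟨a, rfl⟩))
    have h1 : Submodule.span κ b1 ≤ Submodule.span κ b := Submodule.span_mono hb1b
    exact h1 (hb1s ▸ Submodule.subset_span ⟨a, rfl⟩)
  let B := Module.Basis.mk hbi (by simp only [id]; rw [Subtype.range_coe, hspan])
  haveI : Fintype b := FiniteDimensional.fintypeBasisIndex B
  obtain ⟨d, hd⟩ : ∃ d : ℕ, Module.finrank κ V = d := ⟨_, rfl⟩
  have hdim : ringKrullDim A = d := by
    rw [← hd]; exact ((IsRegularLocalRing.iff_finrank_cotangentSpace A).mp inferInstance).symm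
  let e : Fin d ≃ b := (Fintype.equivFinOfCardEq (by rw [← Module.finrank_eq_card_basis B, hd])).symm
  have hlift : ∀ v : b, ∃ (y : m), m.toCotangent y = (v : V) ∧ (((v : V) ∈ b1 → ∃ a, (y : A) = δ a) ∧ ((v : V) ∉ b1 → ∀ g : G, g • (y : A) = y)) := by
    intro v
    by_cases hv : (v : V) ∈ b1
    · obtain ⟨a, ha⟩ := hb1 hv
      exact ⟨_, ha, fun _ ↦ ⟨a, rfl⟩, fun h ↦ absurd hv h⟩
    · obtain ⟨a, ha⟩ := (hbt v.2).resolve_left hv
      exact ⟨_, ha, fun h ↦ absurd h hv, fun _ g ↦ hinv g a⟩
  choose y hy hy1 hy2 using hlift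
  let x : Fin d → A := fun i ↦ (y (e i) : A)
  have hx : Ideal.span (Set.range x) = m := by
    have h1 : Submodule.span A (Set.range fun i ↦ y (e i)) = ⊤ := by
      rw [← IsLocalRing.CotangentSpace.span_image_eq_top_iff, ← hspan, ← Set.range_comp]
      congr 1
      ext v
      exact ⟨fun ⟨i, hi⟩ ↦ by rw [← hi, Function.comp_apply, hy]; exact (e i).2, fun hv ↦ ⟨e.symm ⟨v, hv⟩, by rw [Function.comp_apply, e.apply_symm_apply]; exact hy ⟨v, hv⟩⟩⟩
    have h2 := congrArg (Submodule.map m.subtype) h1
    rw [Submodule.map_span, Submodule.map_top, Submodule.range_subtype, ← Set.range_comp] at h2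
    exact h2
  let s : Finset (Fin d) := Finset.univ.filter fun i ↦ (e i : V) ∈ b1
  obtain ⟨hreg, -⟩ := Groth.Agent.H4Depth.exists_regular_quotient_of_subset d hdim x hx s
  suffices hIJ : Ideal.span (x '' s) = J by rw [← hIJ]; exact hreg
  have hIJ : Ideal.span (x '' s) ≤ J := Ideal.span_le.mpr (by
    rintro _ ⟨i, hi, rfl⟩
    obtain ⟨a, ha⟩ := hy1 (e i) (Finset.mem_filter.mp hi).2
    exact (ha ▸ hδJ a : (y (e i) : A) ∈ J))
  refine le_antisymm hIJ (Submodule.le_of_le_smul_of_le_jacobson_bot (IsNoetherian.noetherian J)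
    (IsLocalRing.maximalIdeal_le_jacobson _) ?_)
  rw [smul_eq_mul, hJ, Ideal.span_le]
  rintro _ ⟨g, a, rfl⟩
  have hgδ : g • a - a = δ (g • a) - δ a := by
    have : π (g • a) = π a := by
      simp only [π, smul_smul]
      congr 1
      exact Equiv.sum_comp (Equiv.mulRight g) (fun h ↦ h • a)
    simp only [δ, this]; ring
  have key : ∀ z, δ z ∈ Ideal.span (x '' s) ⊔ m * J := by
    intro z
    obtain ⟨r, hr⟩ := hres (IsLocalRing.residue A z)
    have h0 : z - algebraMap k A r ∈ Ideal.span (Set.range x) := by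
      rw [hx, ← IsLocalRing.residue_eq_zero_iff, map_sub, ← hr, ← IsLocalRing.ResidueField.algebraMap_eq,
        ← IsScalarTower.algebraMap_apply, sub_self]
    obtain ⟨q, hq⟩ := Ideal.mem_span_range_iff_exists_fun.mp h0
    have hz : δ z = δ (∑ i, q i * x i) := by
      rw [hq]
      simp only [δ]
      have : π z = π (z - algebraMap k A r) + algebraMap k A r := by
        conv_lhs => rw [← sub_add_cancel z (algebraMap k A r), hπadd, hπfix _ (fun g ↦ hgalg g r)]
      rw [this]; ring
    rw [hz, show δ (∑ i, q i * x i) = ∑ i, δ (q i * x i) from map_sum (AddMonoidHom.mk' δ hδadd) _ _]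
    refine sum_mem fun i _ ↦ ?_
    by_cases hi : (e i : V) ∈ b1
    · obtain ⟨u, hu⟩ := hy1 (e i) hi
      obtain ⟨r', hr'⟩ := hres (IsLocalRing.residue A (q i))
      have h1 : q i - algebraMap k A r' ∈ m := by
        rw [← IsLocalRing.residue_eq_zero_iff, map_sub, ← hr', ← IsLocalRing.ResidueField.algebraMap_eq,
          ← IsScalarTower.algebraMap_apply, sub_self]
      have hxi : x i ∈ J := by show (y (e i) : A) ∈ J; rw [hu]; exact hδJ u
      have hdd : δ (x i) = x i := by
        show δ (y (e i) : A) = (y (e i) : A)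
        rw [hu]
        show δ u - π (δ u) = δ u
        have : π (δ u) = 0 := by
          have := hπadd (δ u) (π u)
          rw [show δ u + π u = u by simp [δ], hπfix _ (fun g ↦ hinv g u)] at this
          linear_combination -this
        rw [this, sub_zero]
      rw [show q i * x i = x i * algebraMap k A r' + (q i - algebraMap k A r') * x i by ring, hδadd,
        hδmul _ _ (fun g ↦ hgalg g r'), hdd]
      refine add_mem (Ideal.mem_sup_left (Ideal.mul_mem_right _ _ (Ideal.subset_span ⟨i, by simp [s, hi], rfl⟩))) ?_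
      exact Ideal.mem_sup_right (sub_mem (Ideal.mul_mem_mul h1 hxi) (hmJ _ (Ideal.mul_mem_mul h1 hxi)))
    · rw [hδmul (q i) (x i) (hy2 (e i) hi), mul_comm (δ (q i))]
      exact Ideal.mem_sup_right (Ideal.mul_mem_mul (y (e i)).2 (hδJ _))
  rw [hgδ]
  exact sub_mem (key _) (key _)

end Groth.Agent.S19445
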