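import Groth.Statements.S19447
import Groth.Agent.H14ConstAct.PseudoRefl

set_option autoImplicit false
universe u
open ConstAct

namespace Groth.Agent.S19447

/-- Let k be an algebraically closed field, A the power series ring in n variables over k with maximal
ideal M, and G a finite group of order invertible in k acting faithfully on A by k-algebra
automorphisms, A being finite over the ring of invariants A^G. Say g is a pseudo-reflection or acts
trivially on the cotangent space when A modulo M^2 and the elements g·a − a has dimension at least n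
over k. If G is generated by such elements, then A is flat over A^G and A^G is a regular local ring:
generation by pseudo-reflections implies the other two conditions of the published criterion (only
this sufficiency half is stated; the converse implication is not part of this statement). -/
theorem result (k : Type u) [Field k]
    [IsAlgClosed k] (n : ℕ) (G : Type u) [Group G] [Finite G] [MulSemiringAction G (MvPowerSeries (Fin n) k)]
    [SMulCommClass G k (MvPowerSeries (Fin n) k)] [FaithfulSMul G (MvPowerSeries (Fin n) k)]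
    (hG : (Nat.card G : k) ≠ 0)
    [Module.Finite (ConstAct.inv k (MvPowerSeries (Fin n) k) G) (MvPowerSeries (Fin n) k)]
    (hgen : Subgroup.closure {g : G | n ≤ Module.finrank k (MvPowerSeries (Fin n) k ⧸
        (Ideal.span {x : MvPowerSeries (Fin n) k | ∃ a, x = g • a - a} ⊔
          IsLocalRing.maximalIdeal (MvPowerSeries (Fin n) k) ^ 2))} = ⊤) :
    Module.Flat (ConstAct.inv k (MvPowerSeries (Fin n) k) G) (MvPowerSeries (Fin n) k) ∧
      IsRegularLocalRing (ConstAct.inv k (MvPowerSeries (Fin n) k) G) := by
  classical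
  haveI : IsRegularLocalRing (MvPowerSeries (Fin n) k) := Groth.Agent.H02CA.PS.isRegularLocalRing_fin n
  let A := MvPowerSeries (Fin n) k
  let M := IsLocalRing.maximalIdeal A
  have hG' : (Nat.card G : k) ≠ 0 := hG
  have hres : ∀ a : A, ∃ c : k, a - algebraMap k A c ∈ M := fun a => by
    refine ⟨MvPowerSeries.constantCoeff a, ?_⟩
    rw [IsLocalRing.mem_maximalIdeal, mem_nonunits_iff, MvPowerSeries.isUnit_iff_constantCoeff,
      isUnit_iff_ne_zero, not_not, map_sub, MvPowerSeries.algebraMap_apply, MvPowerSeries.constantCoeff_C]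
    simp
  let Q : Submodule k A := (M ^ 2).restrictScalars k
  let L : (Option (Fin n) → k) →ₗ[k] A ⧸ Q :=
    Fintype.linearCombination k fun o => Q.mkQ (o.elim (1 : A) fun i => MvPowerSeries.X i)
  have hL : Function.Surjective L := fun y => by
    obtain ⟨a, rfl⟩ := Q.mkQ_surjective y
    obtain ⟨c₀, hc₀⟩ := hres a
    have hc₀' := hc₀
    rw [show M = _ from Groth.Agent.H02CA.PS.maximalIdeal_eq_vars] at hc₀'
    obtain ⟨b, hb⟩ := (Submodule.mem_span_range_iff_exists_fun A).1 hc₀'
    choose c hc using fun i => hres (b i)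
    refine ⟨fun o => o.elim c₀ c, ?_⟩
    rw [Fintype.linearCombination_apply, Fintype.sum_option]
    simp only [Option.elim_none, Option.elim_some, ← map_smul, ← map_sum, ← map_add]
    refine ((Submodule.Quotient.eq Q).2 ?_).symm
    change a - (c₀ • (1 : A) + ∑ i, c i • MvPowerSeries.X i) ∈ M ^ 2
    rw [show a = algebraMap k A c₀ + ∑ i, b i * MvPowerSeries.X i by
      simp only [← smul_eq_mul]; rw [hb]; ring]
    rw [Algebra.algebraMap_eq_smul_one, add_sub_add_left_eq_sub, ← Finset.sum_sub_distrib, pow_two]
    refine Ideal.sum_mem _ fun i _ => ?_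
    rw [Algebra.smul_def, ← sub_mul]
    refine Ideal.mul_mem_mul (hc i) ?_
    rw [show M = _ from Groth.Agent.H02CA.PS.maximalIdeal_eq_vars]
    exact Submodule.subset_span ⟨i, rfl⟩
  haveI : FiniteDimensional k (A ⧸ Q) := Module.Finite.of_surjective L hL
  have hQn : Module.finrank k (A ⧸ Q) ≤ n + 1 := by
    refine (LinearMap.finrank_le_finrank_of_surjective hL).trans ?_
    simp
  haveI : IsDomain A := NoZeroDivisors.to_isDomain A
  let S : Set G := {g : G | n ≤ Module.finrank k (A ⧸ (Ideal.span {x : A | ∃ a, x = g • a - a} ⊔ M ^ 2))} \ {1}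
  have hS : Subgroup.closure S = ⊤ := by
    rw [Subgroup.closure_sdiff_one]
    exact hgen
  haveI := Groth.Agent.H14ConstAct.isNoetherianRing_inv (k := k) (A := A) (G := G) hG'
  haveI := Groth.Agent.H14ConstAct.isLocalRing_inv (k := k) (A := A) (G := G)
  haveI := Groth.Agent.H14ConstAct.isLocalHom_inv (k := k) (A := A) (G := G)
  haveI : Module.Free (ConstAct.inv k A G) A := by
    refine Groth.Agent.H14ConstAct.free_inv hG' S hS fun g hg => ?_
    refine Groth.Agent.H14ConstAct.exists_generator_moveIdeal hG' hres hg.2 fun x hx hx2 y hy => ?_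
    let P : Submodule k A := (Ideal.span {x : A | ∃ a, x = g • a - a} ⊔ M ^ 2).restrictScalars k
    have hQP : Q ≤ P := fun z hz => Submodule.mem_sup_right hz
    let W : Submodule k (A ⧸ Q) := P.map Q.mkQ
    have h1 : n ≤ Module.finrank k ((A ⧸ Q) ⧸ W) := by
      rw [(Submodule.quotientQuotientEquivQuotient Q P hQP).finrank_eq,
        (Submodule.Quotient.restrictScalarsEquiv k _).finrank_eq]
      exact hg.1
    have h2 := Submodule.finrank_quotient_add_finrank W
    have h3 : Module.finrank k W ≤ 1 := by omega
    obtain ⟨v, hv⟩ := finrank_le_one_iff.1 h3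
    obtain ⟨c, hc⟩ := hv ⟨Q.mkQ x, Submodule.mem_map_of_mem (Submodule.mem_sup_left hx)⟩
    obtain ⟨d, hd⟩ := hv ⟨Q.mkQ y, Submodule.mem_map_of_mem (Submodule.mem_sup_left hy)⟩
    have hc0 : c ≠ 0 := fun h => hx2 ((Submodule.Quotient.mk_eq_zero Q).1 (by
      have := congrArg Subtype.val hc
      simpa [h] using this.symm))
    refine ⟨d * c⁻¹, ?_⟩
    change y - algebraMap k A (d * c⁻¹) * x ∈ Q
    rw [← Algebra.smul_def, ← Submodule.Quotient.eq, Submodule.Quotient.mk_smul]
    have hx' : Q.mkQ x = c • (v : A ⧸ Q) := (congrArg Subtype.val hc).symm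
    have hy' : Q.mkQ y = d • (v : A ⧸ Q) := (congrArg Subtype.val hd).symm
    rw [Submodule.mkQ_apply] at hx' hy'
    rw [hy', hx', smul_smul, mul_assoc, inv_mul_cancel₀ hc0, mul_one]
  exact ⟨inferInstance, Groth.Agent.H05EGA4.isRegularLocalRing_of_flat (B := A)⟩

end Groth.Agent.S19447
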