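import Groth.Statements.S19448
import Groth.Agent.H3CAlg.Coherent
import Mathlib.Algebra.Colimit.Ring
import Mathlib.RingTheory.Filtration
import Mathlib.RingTheory.Flat.EquationalCriterion
import Mathlib.RingTheory.Ideal.AssociatedPrime.Basic
import Mathlib.RingTheory.LocalRing.ResidueField.Basic

set_option autoImplicit false
universe u
open CAlg

namespace Groth.Agent.S19448

/-- Let k be a field, A a Noetherian local k-algebra with maximal ideal M and residue field k, and G a
finite group with |G| ≠ 0 in k acting on A by k-algebra automorphisms. An element of G which acts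
trivially on M/M^2 acts trivially on A; in other words the stabilizer acts faithfully on the
cotangent space whenever it acts faithfully on the local ring. -/
theorem result (k : Type u) [Field k] (A : Type u) [CommRing A]
    [Algebra k A] [IsLocalRing A] [IsNoetherianRing A]
    (hres : Function.Surjective (algebraMap k (IsLocalRing.ResidueField A)))
    (G : Type u) [Group G] [Finite G] [MulSemiringAction G A] [SMulCommClass G k A]
    (hG : (Nat.card G : k) ≠ 0) (g : G)
    (hg : ∀ a ∈ IsLocalRing.maximalIdeal A, g • a - a ∈ IsLocalRing.maximalIdeal A ^ 2) (a : A) :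
    g • a = a := by
  classical
  set 𝔪 := IsLocalRing.maximalIdeal A
  set φ : A →+* A := MulSemiringAction.toRingHom G A g
  have hpres : ∀ x ∈ 𝔪, g • x ∈ 𝔪 := fun x hx => by
    have := hg x hx
    exact (sub_add_cancel (g • x) x) ▸ add_mem (Ideal.pow_le_self two_ne_zero this) hx
  have hres' : ∀ x : A, ∃ c : k, x - algebraMap k A c ∈ 𝔪 := fun x => by
    obtain ⟨c, hc⟩ := hres (IsLocalRing.residue A x)
    refine ⟨c, ?_⟩
    rw [← IsLocalRing.residue_eq_zero_iff, map_sub, ← hc, sub_eq_zero]
    rfl
  have hpow : ∀ n, ∀ x ∈ 𝔪 ^ n, g • x ∈ 𝔪 ^ n := by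
    intro n x hx
    have h1 : Ideal.map φ 𝔪 ≤ 𝔪 := Ideal.map_le_iff_le_comap.mpr hpres
    have h2 := Ideal.mem_map_of_mem φ hx
    rw [Ideal.map_pow] at h2
    exact Ideal.pow_right_mono h1 n h2
  have key : ∀ n, 2 ≤ n → ∀ x : A, g • x - x ∈ 𝔪 ^ n := by
    intro n hn
    induction n, hn using Nat.le_induction with
    | base =>
      intro x
      obtain ⟨c, hc⟩ := hres' x
      have := hg _ hc
      rwa [smul_sub, smul_algebraMap, sub_sub_sub_cancel_right] at this
    | succ n hn ih =>
      have hprod : ∀ x ∈ 𝔪 ^ n, g • x - x ∈ 𝔪 ^ (n + 1) := by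
        intro x hx
        obtain ⟨j, rfl⟩ : ∃ j, n = j + 1 + 1 := ⟨n - 2, by omega⟩
        rw [pow_succ _ (j + 1)] at hx
        induction hx using Submodule.mul_induction_on' with
        | mem_mul_mem a ha b hb =>
          rw [smul_mul', show g • a * g • b - a * b = (g • a - a) * b + g • a * (g • b - b) by ring]
          refine add_mem ?_ ?_
          · rw [pow_succ _ (j + 1 + 1)]
            exact Ideal.mul_mem_mul (ih a) hb
          · rw [pow_succ' _ (j + 1 + 1)]
            exact Ideal.mul_mem_mul (hpres a (Ideal.pow_le_self j.succ_ne_zero ha)) (ih b)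
        | add a _ b _ ha hb => rw [smul_add, add_sub_add_comm]; exact add_mem ha hb
      intro x
      have hj : ∀ j : ℕ, g ^ j • x - x - (j : A) * (g • x - x) ∈ 𝔪 ^ (n + 1) := by
        intro j
        induction j with
        | zero => simp
        | succ j hj =>
          have e : g ^ (j + 1) • x - x - ((j + 1 : ℕ) : A) * (g • x - x) =
              g • (g ^ j • x - x - (j : A) * (g • x - x)) + (j : A) * (g • (g • x - x) - (g • x - x)) := by
            rw [pow_succ', mul_smul, smul_sub, smul_sub, smul_mul', smul_sub g (g • x) x]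
            rw [show g • (j : A) = (j : A) from map_natCast φ j]
            push_cast; ring
          rw [e]
          exact add_mem (hpow _ _ hj) (Ideal.mul_mem_left _ _ (hprod _ (ih x)))
      have h1 := hj (Nat.card G)
      rw [pow_card_eq_one', one_smul, sub_self, zero_sub, neg_mem_iff,
        Ideal.unit_mul_mem_iff_mem] at h1
      · exact h1
      · rw [← map_natCast (algebraMap k A)]
        exact (isUnit_iff_ne_zero.mpr hG).map _
  have hz : g • a - a ∈ ⨅ n, 𝔪 ^ n := by
    rw [Submodule.mem_iInf]
    intro n
    exact Ideal.pow_le_pow_right (by omega : n ≤ n + 2) (key (n + 2) (by omega) a)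
  rw [Ideal.iInf_pow_eq_bot_of_isLocalRing _ (IsLocalRing.maximalIdeal.isMaximal A).ne_top, Ideal.mem_bot, sub_eq_zero] at hz
  exact hz

end Groth.Agent.S19448
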