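import Groth.Statements.S19449
import Mathlib.LinearAlgebra.Matrix.Determinant.Basic
import Mathlib.RingTheory.MvPolynomial.Basic
import Mathlib.Data.Prod.Lex
import Mathlib.Algebra.MvPolynomial.Rename

set_option autoImplicit false
universe u
open SymRep

namespace Groth.Agent.S19449

open MvPolynomial

variable (k : Type u) [Field k] (n : ℕ)

/-- The exponent vector of a tuple. -/
noncomputable def mon (p : Fin n → ℕ × ℕ) : Fin n × Fin 2 →₀ ℕ :=
  Finsupp.equivFunOnFinite.symm fun v => if v.2 = 0 then (p v.1).1 else (p v.1).2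

theorem mon_injective : Function.Injective (mon n) := fun p q h => funext fun i => by
  have h0 := DFunLike.congr_fun h (i, 0)
  have h1 := DFunLike.congr_fun h (i, 1)
  simp [mon] at h0 h1
  exact Prod.ext h0 h1

/-- The alternant. -/
noncomputable abbrev alt (p : Fin n → ℕ × ℕ) : MvPolynomial (Fin n × Fin 2) k :=
  (Matrix.of fun i j : Fin n =>
    (X (i, 0) : MvPolynomial (Fin n × Fin 2) k) ^ (p j).1 * X (i, 1) ^ (p j).2).det

theorem monomial_mon (p : Fin n → ℕ × ℕ) :
    monomial (mon n p) (1 : k) = ∏ i, ((X (i, 0) : MvPolynomial (Fin n × Fin 2) k) ^ (p i).1 * X (i, 1) ^ (p i).2) := by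
  rw [monomial_eq, C_1, one_mul, Finsupp.prod_fintype _ _ fun i => pow_zero _, Fintype.prod_prod_type]
  exact Finset.prod_congr rfl fun i _ => by simp [Fin.prod_univ_two, mon]

theorem alt_eq (p : Fin n → ℕ × ℕ) :
    alt k n p = ∑ σ : Equiv.Perm (Fin n), ((Equiv.Perm.sign σ : ℤˣ) : ℤ) • monomial (mon n (p ∘ σ.symm)) (1 : k) := by
  rw [alt, Matrix.det_apply']
  refine Finset.sum_congr rfl fun σ _ => ?_
  rw [monomial_mon, zsmul_eq_mul]
  congr 1
  rw [← Equiv.prod_comp σ fun i => (X (i, 0) : MvPolynomial (Fin n × Fin 2) k) ^ ((p ∘ σ.symm) i).1 *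
    X (i, 1) ^ ((p ∘ σ.symm) i).2]
  simp [Matrix.of_apply]

theorem rename_mon (σ : Equiv.Perm (Fin n)) (p : Fin n → ℕ × ℕ) :
    rename (fun v : Fin n × Fin 2 => (σ v.1, v.2)) (monomial (mon n p) (1 : k)) =
      monomial (mon n (p ∘ σ.symm)) 1 := by
  rw [monomial_mon, monomial_mon, map_prod,
    ← Equiv.prod_comp σ fun i => (X (i, 0) : MvPolynomial (Fin n × Fin 2) k) ^ ((p ∘ σ.symm) i).1 *
      X (i, 1) ^ ((p ∘ σ.symm) i).2]
  simp

theorem rename_alt (τ : Equiv.Perm (Fin n)) (p : Fin n → ℕ × ℕ) :
    rename (fun v : Fin n × Fin 2 => (τ v.1, v.2)) (alt k n p) =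
      ((Equiv.Perm.sign τ : ℤˣ) : ℤ) • alt k n p := by
  rw [alt_eq, map_sum, Finset.smul_sum, ← Equiv.sum_comp (Equiv.mulLeft τ)
    fun σ => ((Equiv.Perm.sign τ : ℤˣ) : ℤ) • ((Equiv.Perm.sign σ : ℤˣ) : ℤ) • monomial (mon n (p ∘ σ.symm)) (1 : k)]
  refine Finset.sum_congr rfl fun σ _ => ?_
  rw [map_zsmul, rename_mon, Equiv.coe_mulLeft, map_mul, Units.val_mul, smul_smul, ← mul_assoc,
    ← Units.val_mul, Int.units_mul_self, Units.val_one, one_mul]
  rfl

theorem sum_rename_mem (f : MvPolynomial (Fin n × Fin 2) k) :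
    ∑ σ : Equiv.Perm (Fin n), ((Equiv.Perm.sign σ : ℤˣ) : ℤ) • rename (fun v : Fin n × Fin 2 => (σ v.1, v.2)) f ∈
      Submodule.span k (Set.range (alt k n)) := by
  induction f using MvPolynomial.induction_on' with
  | monomial m c =>
    let p : Fin n → ℕ × ℕ := fun i => (m (i, 0), m (i, 1))
    have hm : mon n p = m := by
      ext ⟨i, e⟩
      fin_cases e <;> simp [mon, p]
    have : (monomial m c : MvPolynomial (Fin n × Fin 2) k) = c • monomial (mon n p) 1 := by
      rw [hm, smul_monomial, smul_eq_mul, mul_one]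
    rw [this]
    simp only [map_smul, rename_mon, smul_comm (_ : ℤ) c, ← Finset.smul_sum, ← alt_eq]
    exact Submodule.smul_mem _ _ (Submodule.subset_span ⟨p, rfl⟩)
  | add a b ha hb =>
    simp only [map_add, smul_add, Finset.sum_add_distrib]
    exact add_mem ha hb

theorem eq_of_mon_eq {p q : Fin n → ℕ × ℕ} (hp : StrictMono (toLex ∘ p)) (hq : StrictMono (toLex ∘ q))
    {σ : Equiv.Perm (Fin n)} (h : mon n (q ∘ σ) = mon n p) : q = p ∧ σ = 1 := by
  have he := mon_injective n h
  have hr : Set.range (toLex ∘ q) = Set.range (toLex ∘ p) := by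
    rw [← he, ← Function.comp_assoc, σ.surjective.range_comp]
  have hqp : q = p := funext fun i => toLex.injective (congrFun ((hq.range_inj hp).mp hr) i)
  refine ⟨hqp, Equiv.ext fun i => hq.injective ?_⟩
  subst hqp
  exact congrArg toLex (congrFun he i)


/-- Over a field k of characteristic zero, let the symmetric group S_n act on the polynomial ring in the
2n variables x_i, y_i (i < n; the variable (i, 0) is x_i and (i, 1) is y_i) by permuting the index
i, and for an n-tuple p of pairs (p_j, q_j) of exponents let Δ_p be the determinant det(x_i^{p_j}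
y_i^{q_j}). A polynomial is alternating — each permutation acts on it by its sign — exactly when it
is a k-linear combination of the Δ_p; and the Δ_p for p strictly increasing in the lexicographic
order on pairs (one for each n-element set of exponent pairs) are linearly independent. Hence these
Δ_p form a basis of the space of alternating polynomials. -/
theorem result (k : Type u) [Field k] [CharZero k] (n : ℕ) :
    (∀ f : MvPolynomial (Fin n × Fin 2) k,
      (∀ σ : Equiv.Perm (Fin n),
          MvPolynomial.rename (fun v : Fin n × Fin 2 => (σ v.1, v.2)) f = ((Equiv.Perm.sign σ : ℤˣ) : ℤ) • f) ↔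
        f ∈ Submodule.span k (Set.range fun p : Fin n → ℕ × ℕ =>
          (Matrix.of fun i j : Fin n =>
            (MvPolynomial.X (i, 0) : MvPolynomial (Fin n × Fin 2) k) ^ (p j).1 * MvPolynomial.X (i, 1) ^ (p j).2).det)) ∧
    LinearIndependent k (fun p : {p : Fin n → ℕ ×ₗ ℕ // StrictMono p} =>
      (Matrix.of fun i j : Fin n =>
        (MvPolynomial.X (i, 0) : MvPolynomial (Fin n × Fin 2) k) ^ (ofLex (p.1 j)).1 *
          MvPolynomial.X (i, 1) ^ (ofLex (p.1 j)).2).det) := by
  classical
  refine ⟨fun f => ⟨fun h => ?_, fun h σ => ?_⟩, ?_⟩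
  · have h1 := sum_rename_mem k n f
    have h2 : ∑ σ : Equiv.Perm (Fin n), ((Equiv.Perm.sign σ : ℤˣ) : ℤ) •
        MvPolynomial.rename (fun v : Fin n × Fin 2 => (σ v.1, v.2)) f =
        (Fintype.card (Equiv.Perm (Fin n)) : k) • f := by
      rw [Finset.sum_congr rfl fun σ _ => by rw [h σ, smul_smul, ← Units.val_mul, Int.units_mul_self,
        Units.val_one, one_smul], Finset.sum_const, Finset.card_univ, Nat.cast_smul_eq_nsmul]
    rw [h2, Submodule.smul_mem_iff _ (Nat.cast_ne_zero.mpr Fintype.card_ne_zero)] at h1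
    exact h1
  · induction h using Submodule.span_induction with
    | mem z hz => obtain ⟨p, rfl⟩ := hz; exact rename_alt k n σ p
    | zero => rw [map_zero, smul_zero]
    | add a b _ _ ha hb => rw [map_add, smul_add, ha, hb]
    | smul c a _ ha => rw [map_smul, ha, smul_comm]
  · rw [linearIndependent_iff']
    intro s c hc p hp
    let P : {p : Fin n → ℕ ×ₗ ℕ // StrictMono p} → (Fin n → ℕ × ℕ) := fun q j => ofLex (q.1 j)
    have hP : ∀ q, StrictMono (toLex ∘ P q) := fun q => q.2
    have key : ∀ q, MvPolynomial.coeff (mon n (P p)) (alt k n (P q)) = if q = p then 1 else 0 := fun q => by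
      rw [alt_eq, MvPolynomial.coeff_sum, Finset.sum_eq_single (1 : Equiv.Perm (Fin n))]
      · rw [Equiv.Perm.sign_one, Units.val_one, one_smul, MvPolynomial.coeff_monomial]
        refine if_congr ⟨fun h => ?_, fun h => by rw [h]; rfl⟩ rfl rfl
        have h1 := (eq_of_mon_eq n (hP p) (hP q) (σ := (1 : Equiv.Perm (Fin n))) h).1
        exact Subtype.ext (funext fun j => ofLex.injective (congrFun h1 j))
      · intro σ _ hσ
        rw [MvPolynomial.coeff_smul, MvPolynomial.coeff_monomial, if_neg, smul_zero]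
        intro h
        have h1 := (eq_of_mon_eq n (hP p) (hP q) h).2
        exact hσ (inv_eq_one.mp h1)
      · exact fun h => absurd (Finset.mem_univ _) h
    have h0 := congrArg (MvPolynomial.coeff (mon n (P p))) hc
    rw [MvPolynomial.coeff_sum, MvPolynomial.coeff_zero] at h0
    simp only [MvPolynomial.coeff_smul, smul_eq_mul] at h0
    change ∑ q ∈ s, c q * MvPolynomial.coeff (mon n (P p)) (alt k n (P q)) = 0 at h0
    simp only [key, mul_ite, mul_one, mul_zero, Finset.sum_ite_eq', hp, if_true] at h0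
    exact h0

end Groth.Agent.S19449
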