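import Groth.Statements.S19453
import Mathlib.RingTheory.AdjoinRoot
import Mathlib.RingTheory.Henselian
import Mathlib.RingTheory.RegularLocalRing.Defs
import Mathlib.RingTheory.SimpleRing.Principal
import Mathlib.Tactic.LinearCombination
import Mathlib.Tactic.Ring

set_option autoImplicit false
universe u
open CAlg

namespace Groth.Agent.S19453

/-- Converse direction: let k be a field, A a regular local k-algebra of Krull dimension 2 with maximal
ideal M and residue field k, and I an ideal with A/I of finite dimension n ≥ 1 over k. If some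
element of I does not lie in M^2, then A/I is isomorphic as a k-algebra to k[x]/(x^n): a cluster
lying on a smooth curve germ of a smooth surface is curvilinear, with coordinate ring generated by
one element. -/
theorem result (k : Type u) [Field k]
    (A : Type u) [CommRing A] [Algebra k A] [IsRegularLocalRing A] (hdim : ringKrullDim A = 2)
    (hres : Function.Surjective (algebraMap k (IsLocalRing.ResidueField A)))
    (I : Ideal A) [Module.Finite k (A ⧸ I)] (n : ℕ) (hn : Module.finrank k (A ⧸ I) = n) (h1 : 1 ≤ n)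
    (g : A) (hgI : g ∈ I) (hg : g ∉ IsLocalRing.maximalIdeal A ^ 2) :
    Nonempty ((A ⧸ I) ≃ₐ[k] (Polynomial k ⧸ Ideal.span {(Polynomial.X : Polynomial k) ^ n})) := by
  classical
  let 𝔪 := IsLocalRing.maximalIdeal A
  have hI : I ≠ ⊤ := by
    intro h
    subst h
    haveI : Subsingleton (A ⧸ (⊤ : Ideal A)) := Ideal.Quotient.subsingleton_iff.mpr rfl
    rw [Module.finrank_zero_of_subsingleton] at hn
    omega
  have hIm : I ≤ 𝔪 := IsLocalRing.le_maximalIdeal hI
  -- two generators of the maximal ideal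
  have hr : (𝔪.spanFinrank : WithBot ℕ∞) = 2 := (IsRegularLocalRing.spanFinrank_maximalIdeal (R := A)).trans hdim
  have hr2 : 𝔪.spanFinrank = 2 := by exact_mod_cast hr
  obtain ⟨f, hf⟩ := Submodule.FG.exists_span_set_encard_eq_spanFinrank (IsNoetherian.noetherian 𝔪)
  obtain ⟨a, b, -, rfl⟩ := Set.encard_eq_two.mp (by rw [hf.1, hr2]; rfl : f.encard = 2)
  have hab : 𝔪 = Ideal.span {a, b} := hf.2.symm
  obtain ⟨t, htm, ht⟩ : ∃ t, t ∈ 𝔪 ∧ 𝔪 ≤ I ⊔ Ideal.span {t} := by
    obtain ⟨α, β, hαβ⟩ := Ideal.mem_span_pair.mp (hab ▸ hIm hgI)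
    have ha : a ∈ 𝔪 := hab ▸ Ideal.subset_span (Set.mem_insert _ _)
    have hb : b ∈ 𝔪 := hab ▸ Ideal.subset_span (Set.mem_insert_of_mem _ rfl)
    have key : ∀ {u v γ δ : A}, γ * u + δ * v = g → IsUnit γ → u ∈ I ⊔ Ideal.span {v} := by
      intro u v γ δ h hu
      obtain ⟨γ', hγ⟩ := hu.exists_left_inv
      rw [show u = γ' * g + (-(γ' * δ)) * v by linear_combination γ' * h + (-u) * hγ]
      exact Submodule.add_mem_sup (I.mul_mem_left _ hgI) (Ideal.mul_mem_left _ _ (Ideal.mem_span_singleton_self v))
    by_cases hα : IsUnit α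
    · refine ⟨b, hb, hab.trans_le (Ideal.span_le.mpr ?_)⟩
      rintro x (rfl | rfl)
      · exact key hαβ hα
      · exact Submodule.mem_sup_right (Ideal.mem_span_singleton_self x)
    · by_cases hβ : IsUnit β
      · refine ⟨a, ha, hab.trans_le (Ideal.span_le.mpr ?_)⟩
        rintro x (rfl | rfl)
        · exact Submodule.mem_sup_right (Ideal.mem_span_singleton_self x)
        · exact key (by rw [add_comm]; exact hαβ) hβ
      · refine absurd ?_ hg
        rw [← hαβ, sq]
        exact add_mem (Ideal.mul_mem_mul ((IsLocalRing.mem_maximalIdeal _).mpr hα) ha)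
          (Ideal.mul_mem_mul ((IsLocalRing.mem_maximalIdeal _).mpr hβ) hb)
  let R := A ⧸ I
  let τ : R := Ideal.Quotient.mk I t
  -- the maximal ideal of `R` is nilpotent
  haveI : Nontrivial R := Ideal.Quotient.nontrivial_iff.mpr hI
  haveI : IsArtinianRing R := isArtinian_of_tower k (inferInstance : IsArtinian k R)
  haveI : IsLocalRing R := IsLocalRing.of_surjective' _ Ideal.Quotient.mk_surjective
  obtain ⟨N, hN⟩ := IsArtinianRing.isNilpotent_jacobson_bot (R := R)
  rw [IsLocalRing.jacobson_eq_maximalIdeal ⊥ bot_ne_top] at hN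
  -- expansion in powers of `τ`
  let φ : Polynomial k →ₐ[k] R := Polynomial.aeval τ
  have hexp : ∀ j (x : A), ∃ (P : Polynomial k) (y : R), Ideal.Quotient.mk I x = φ P + τ ^ j * y := by
    intro j
    induction j with
    | zero => exact fun x => ⟨0, Ideal.Quotient.mk I x, by simp⟩
    | succ j ih =>
      intro x
      obtain ⟨P, y, hy⟩ := ih x
      obtain ⟨y, rfl⟩ := Ideal.Quotient.mk_surjective y
      obtain ⟨c, hc⟩ := hres (IsLocalRing.residue A y)
      have hyc : y - algebraMap k A c ∈ 𝔪 := by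
        rw [← IsLocalRing.residue_eq_zero_iff, map_sub, ← hc, sub_eq_zero]
        rfl
      obtain ⟨i, hi, z, hz, hiz⟩ := Submodule.mem_sup.mp (ht hyc)
      obtain ⟨w, rfl⟩ := Ideal.mem_span_singleton'.mp hz
      refine ⟨P + Polynomial.C c * Polynomial.X ^ j, Ideal.Quotient.mk I w, ?_⟩
      have hy' : Ideal.Quotient.mk I y = algebraMap k R c + Ideal.Quotient.mk I w * τ := by
        rw [← map_mul, show algebraMap k R c = Ideal.Quotient.mk I (algebraMap k A c) from rfl, ← map_add,
          Ideal.Quotient.eq]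
        convert hi using 1
        linear_combination -hiz
      rw [hy, hy', map_add, map_mul, map_pow, Polynomial.aeval_C, Polynomial.aeval_X]
      ring
  have hτm : τ ∈ IsLocalRing.maximalIdeal R := by
      rw [IsLocalRing.mem_maximalIdeal, mem_nonunits_iff]
      intro hu
      obtain ⟨s, hs⟩ := hu.exists_left_inv
      obtain ⟨s, rfl⟩ := Ideal.Quotient.mk_surjective s
      rw [← map_mul, ← map_one (Ideal.Quotient.mk I), Ideal.Quotient.eq] at hs
      exact (IsLocalRing.maximalIdeal.isMaximal A).ne_top ((Ideal.eq_top_iff_one _).mpr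
        (by have := sub_mem (Ideal.mul_mem_left _ s htm) (hIm hs); rwa [sub_sub_cancel] at this))
  have hτN : τ ^ (N + 1) = 0 := by
    rw [pow_succ, show τ ^ N = 0 from by simpa [hN] using Ideal.pow_mem_pow hτm N, zero_mul]
  have hsurj : Function.Surjective φ := by
    intro r
    obtain ⟨x, rfl⟩ := Ideal.Quotient.mk_surjective r
    obtain ⟨P, y, hy⟩ := hexp (N + 1) x
    exact ⟨P, by rw [hy, hτN, zero_mul, add_zero]⟩
  have hker : (Polynomial.X : Polynomial k) ^ (N + 1) ∈ RingHom.ker φ := by
    rw [RingHom.mem_ker, map_pow, Polynomial.aeval_X, hτN]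
  obtain ⟨p, hp⟩ := (IsPrincipalIdealRing.principal (RingHom.ker φ)).principal
  rw [← Ideal.span] at hp
  rw [hp, Ideal.mem_span_singleton] at hker
  obtain ⟨i, -, hi⟩ := (dvd_prime_pow Polynomial.prime_X _).mp hker
  rw [Ideal.span_singleton_eq_span_singleton.mpr hi] at hp
  let e := (Ideal.quotientEquivAlgOfEq k hp).symm.trans (Ideal.quotientKerAlgEquivOfSurjective hsurj)
  have hfin : i = n := by
    rw [← hn, ← e.toLinearEquiv.finrank_eq, finrank_quotient_span_eq_natDegree, Polynomial.natDegree_X_pow]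
  subst hfin
  exact ⟨e.symm⟩

end Groth.Agent.S19453
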