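import Groth.Statements.S19457
import Groth.Agent.H28Mero.ZeroScheme
-- import your own Groth.Agent.* helpers here

set_option autoImplicit false
universe u
open CategoryTheory CategoryTheory.Limits AlgebraicGeometry TopologicalSpace Opposite
open PicF2

namespace Groth.Agent.S19457


open CategoryTheory AlgebraicGeometry TopologicalSpace Opposite H28Mero

variable {X : Scheme.{u}} [AlgebraicGeometry.IsIntegral X] (L : X.Modules) (hL : PicF.IsInvertible L)
  (s s' : Coh.structureModule X ⟶ L)

include hL in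
theorem dvd_of_zeroScheme_eq (hs : s ≠ 0) (hs' : s' ≠ 0)
    (h : PicF2.zeroScheme L s' = PicF2.zeroScheme L s) (x : X) :
    ∃ r : X.presheaf.stalk x, r • sGerm L s x = sGerm L s' x := by
  obtain ⟨V₁, -, hx₁, -, e₁, c₁, he₁, hc₁⟩ := exists_section_coeff L s hL ⊤ x trivial
  obtain ⟨V, hV, hxV, hV₁, e', c', he', hc'⟩ := exists_section_coeff L s' hL V₁ x hx₁
  let c : Γ(X, V) := X.presheaf.map (homOfLE hV₁).op c₁
  have hc : ∀ (y : X) (hy : y ∈ V), zeroGerm L s y = Ideal.span {X.presheaf.germ V y hy c} := fun y hy => by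
    rw [X.presheaf.germ_res_apply]
    exact zeroGerm_eq_span L s (he₁ y (hV₁ hy)) (hc₁ y (hV₁ hy))
  have hc2 : ∀ (y : X) (hy : y ∈ V), zeroGerm L s' y = Ideal.span {X.presheaf.germ V y hy c'} := fun y hy =>
    zeroGerm_eq_span L s' (he' y hy) (hc' y hy)
  have hspan : (Ideal.span {c'} : Ideal Γ(X, V)) = Ideal.span {c} := by
    rw [← germIdeal_eq_span hV c hc, ← germIdeal_eq_span hV c' hc2,
      ← zeroScheme_ideal L s hL (isRegularSection_of_ne_zero L s hL hs) ⟨V, hV⟩,
      ← zeroScheme_ideal L s' hL (isRegularSection_of_ne_zero L s' hL hs') ⟨V, hV⟩, h]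
  obtain ⟨b, hb⟩ : ∃ b, c' = c * b :=
    Ideal.mem_span_singleton.mp (hspan ▸ Ideal.mem_span_singleton_self c')
  obtain ⟨q, hq⟩ := (he₁ x (hV₁ hxV)).2 (L.presheaf.germ V x hxV e')
  refine ⟨X.presheaf.germ V x hxV b * q, ?_⟩
  rw [hc₁ x (hV₁ hxV), hc' x hxV, hb, map_mul, X.presheaf.germ_res_apply, ← hq, smul_smul, smul_smul]
  ring_nf

include hL in
theorem exists_mul (hs : s ≠ 0) (hs' : s' ≠ 0) (h : PicF2.zeroScheme L s' = PicF2.zeroScheme L s) :
    ∃ r : Γ(X, ⊤), (SecTwist.val s' ⊤ : Γ(L, ⊤)) = r • (SecTwist.val s ⊤ : Γ(L, ⊤)) :=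
  exists_coeff_of_germ (SecTwist.val s ⊤ : Γ(L, ⊤))
    (fun y _ => isRegularSection_of_ne_zero L s hL hs y) _
    (fun y _ => dvd_of_zeroScheme_eq L hL s s' hs hs' h y)



/-- Let X be an integral scheme, L an invertible O_X-module and s, s' two nonzero global sections of L,
given as nonzero morphisms O_X → L. Then the zero schemes Z(s') and Z(s) are equal (as
quasi-coherent ideal sheaves of O_X, that is, as effective Cartier divisors) if and only if s' = h ·
s for some unit h of the ring of global functions Γ(X, O_X). (The published statement is for an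
irreducible variety over an algebraically closed field; this row states it for an arbitrary integral
scheme.) -/
theorem result (X : Scheme.{u}) [AlgebraicGeometry.IsIntegral X]
    (L : X.Modules) (hL : PicF.IsInvertible L) (s s' : Coh.structureModule X ⟶ L) (hs : s ≠ 0) (hs' : s' ≠ 0) :
    PicF2.zeroScheme L s' = PicF2.zeroScheme L s ↔
      ∃ h : Γ(X, ⊤), IsUnit h ∧ (SecTwist.val s' ⊤ : Γ(L, ⊤)) = h • (SecTwist.val s ⊤ : Γ(L, ⊤)) := by

  constructor
  · intro h
    obtain ⟨r, hr⟩ := exists_mul L hL s s' hs hs' h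
    obtain ⟨r', hr'⟩ := exists_mul L hL s' s hs' hs h.symm
    refine ⟨r, IsUnit.of_mul_eq_one r' ?_, hr⟩
    obtain ⟨y⟩ : Nonempty X := inferInstance
    refine AlgebraicGeometry.germ_injective_of_isIntegral X y (U := ⊤) trivial ?_
    refine H28Mero.isRegularSection_of_ne_zero L s hL hs y ?_
    show X.presheaf.germ ⊤ y trivial (r * r') • H28Mero.sGerm L s y =
      X.presheaf.germ ⊤ y trivial 1 • H28Mero.sGerm L s y
    have k1 : X.presheaf.germ ⊤ y trivial r • H28Mero.sGerm L s y = H28Mero.sGerm L s' y :=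
      ((congrArg (L.presheaf.germ ⊤ y trivial) hr).trans (Mero.germ_smul _ _ _ _ _ _)).symm
    have k2 : X.presheaf.germ ⊤ y trivial r' • H28Mero.sGerm L s' y = H28Mero.sGerm L s y :=
      ((congrArg (L.presheaf.germ ⊤ y trivial) hr').trans (Mero.germ_smul _ _ _ _ _ _)).symm
    rw [map_one, one_smul, map_mul, mul_comm, mul_smul]
    exact (congrArg (X.presheaf.germ ⊤ y trivial r' • ·) k1).trans k2
  · rintro ⟨r, hr, he⟩
    have hz : H28Mero.zeroGerm L s' = H28Mero.zeroGerm L s := by
      funext x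
      have hx : H28Mero.sGerm L s' x = X.presheaf.germ ⊤ x trivial r • H28Mero.sGerm L s x := by
        exact (congrArg (L.presheaf.germ ⊤ x trivial) he).trans (Mero.germ_smul _ _ _ _ _ _)
      rw [H28Mero.zeroGerm, H28Mero.zeroGerm, hx,
        Submodule.span_singleton_smul_eq (hr.map (X.presheaf.germ ⊤ x trivial).hom)]
    refine Scheme.IdealSheafData.ext (funext fun V => ?_)
    rw [H28Mero.zeroScheme_ideal L s' hL (H28Mero.isRegularSection_of_ne_zero L s' hL hs'),
      H28Mero.zeroScheme_ideal L s hL (H28Mero.isRegularSection_of_ne_zero L s hL hs), hz]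


end Groth.Agent.S19457
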