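import Groth.Statements.S19458
import Groth.Agent.H28Mero.ZeroScheme

set_option autoImplicit false
universe u
open CategoryTheory CategoryTheory.Limits AlgebraicGeometry TopologicalSpace Opposite
open Mero

namespace Groth.Agent.S19458

/-- Let X be an integral scheme, L an invertible O_X-module and D an effective Cartier divisor on X (a
global section of the sheaf of units of K_X modulo units of O_X whose germ at every point is the
class of a germ of a regular function) such that O_X(D) is isomorphic to L. Then there is a nonzero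
global section s of L, given as a nonzero morphism O_X → L, whose zero scheme Z(s) is D: around
every point of X, on some affine open neighbourhood, the ideal of Z(s) is generated by a regular
function whose classes are the germs of D there. (The published statement is for an irreducible
variety over an algebraically closed field; this row states it for an arbitrary integral scheme.) -/
theorem result (X : Scheme.{u}) [AlgebraicGeometry.IsIntegral X]
    (L : X.Modules) (hL : PicF.IsInvertible L) (D : Mero.Divisor X) (hD : Mero.IsEffective D)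
    (e : L ≅ Mero.divMod D) :
    ∃ s : Coh.structureModule X ⟶ L, s ≠ 0 ∧ Mero.IsDivOfIdeal D (PicF2.zeroScheme L s) := by
  classical
  let one : Γ(Mero.divMod D, ⊤) := ⟨fun _ => 1, (1 : Γ(Mero.kmod X, ⊤)).2, fun y => by
    obtain ⟨g, hg⟩ := QuotientGroup.mk_surjective (D.1 y.1)
    obtain ⟨a, ha⟩ := hD y.1
    obtain ⟨v, hv⟩ := H28Mero.germ_eq_iff.1 (ha.symm.trans hg.symm)
    rw [H28Mero.divCond_iff D y.1 g hg.symm, one_mul]
    exact ⟨a.1 * v, by rw [map_mul, hv]; rfl⟩⟩
  let g : Γ(L, ⊤) := e.inv.app ⊤ one
  let s : Coh.structureModule X ⟶ L := H29Fitt.homSec L g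
  have hval : (SecTwist.val s ⊤ : Γ(L, ⊤)) = g := by
    show s.app ⊤ (1 : Γ(X, ⊤)) = g
    refine (H29Fitt.homSec_app L g ⊤ (1 : Γ(X, ⊤))).trans ?_
    rw [one_smul]
    exact congr($((congrArg L.presheaf.map (Subsingleton.elim _ (𝟙 _))).trans (L.presheaf.map_id _)) g)
  have heg : e.hom.app ⊤ g = one := by
    show e.hom.app ⊤ (e.inv.app ⊤ one) = one
    rw [← ConcreteCategory.comp_apply, ← Scheme.Modules.Hom.comp_app, e.inv_hom_id]
    rfl
  have hs : s ≠ 0 := by
    intro h0
    have h1 : e.hom.app ⊤ (SecTwist.val s ⊤ : Γ(L, ⊤)) = one := by rw [hval, heg]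
    rw [h0] at h1
    obtain ⟨x⟩ : Nonempty X := inferInstance
    have h2 := congrFun (congrArg Subtype.val h1) ⟨x, trivial⟩
    have h3 : (SecTwist.val (0 : Coh.structureModule X ⟶ L) ⊤ : Γ(L, ⊤)) = 0 := rfl
    rw [h3] at h2
    erw [map_zero] at h2
    exact one_ne_zero (α := Mero.KStalk X x) h2.symm
  refine ⟨s, hs, ?_⟩
  obtain ⟨D', hD', -, e', he'⟩ := H28Mero.exists_divisor_zeroScheme L s hL (H28Mero.isRegularSection_of_ne_zero L s hL hs)
  have hDD : D = D' := by
    refine H28Mero.eq_of_iso_one D D' (e.symm ≪≫ e') one rfl ?_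
    have h1 : (e.symm ≪≫ e').hom.app ⊤ one = e'.hom.app ⊤ (SecTwist.val s ⊤ : Γ(L, ⊤)) := by
      rw [hval]
      rfl
    rw [h1]
    exact congrArg Subtype.val he'
  exact hDD ▸ hD'

end Groth.Agent.S19458
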