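import Groth.Statements.S19459
import Groth.Agent.H28Mero.Tensor

set_option autoImplicit false
universe u
open CategoryTheory CategoryTheory.Limits AlgebraicGeometry TopologicalSpace Opposite
open Mero

namespace Groth.Agent.S19459

/-- Let X be an integral scheme, L₁ and L₂ invertible O_X-modules with nonzero global sections s₁ and s₂
(nonzero morphisms O_X → L₁ and O_X → L₂), and let D₁, D₂ be the effective Cartier divisors of the
zero schemes Z(s₁), Z(s₂): divisors on X (global sections of the sheaf of units of K_X modulo units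
of O_X) which around every point, on some affine open neighbourhood, are the class of a regular
function generating the ideal of the zero scheme. Then the divisor D₁ · D₂ (multiplicative notation
for the sum D₁ + D₂) is in the same sense the effective Cartier divisor of the zero scheme of the
global section s₁ ⊗ s₂ of the tensor product L₁ ⊗ L₂; that is, Z(s₁ ⊗ s₂) = Z(s₁) + Z(s₂). (The
published statement is for an irreducible variety over an algebraically closed field; this row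
states it for an arbitrary integral scheme.) -/
theorem result (X : Scheme.{u}) [AlgebraicGeometry.IsIntegral X]
    (L₁ L₂ : X.Modules) (hL₁ : PicF.IsInvertible L₁) (hL₂ : PicF.IsInvertible L₂)
    (s₁ : Coh.structureModule X ⟶ L₁) (s₂ : Coh.structureModule X ⟶ L₂) (hs₁ : s₁ ≠ 0) (hs₂ : s₂ ≠ 0)
    (D₁ D₂ : Mero.Divisor X) (hD₁ : Mero.IsDivOfIdeal D₁ (PicF2.zeroScheme L₁ s₁))
    (hD₂ : Mero.IsDivOfIdeal D₂ (PicF2.zeroScheme L₂ s₂)) :
    Mero.IsDivOfIdeal (D₁ * D₂) (PicF2.zeroScheme (CohB1.tensorMod L₁ L₂) (SecTwist.tmulHom s₁ s₂)) := by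
  have hr₁ := H28Mero.isRegularSection_of_ne_zero L₁ s₁ hL₁ hs₁
  have hr₂ := H28Mero.isRegularSection_of_ne_zero L₂ s₂ hL₂ hs₂
  obtain ⟨E₁, hE₁, hspec₁, -⟩ := H28Mero.exists_divisor_zeroScheme L₁ s₁ hL₁ hr₁
  obtain ⟨E₂, hE₂, hspec₂, -⟩ := H28Mero.exists_divisor_zeroScheme L₂ s₂ hL₂ hr₂
  obtain rfl := H28Mero.isDivOfIdeal_unique hD₁ hE₁
  obtain rfl := H28Mero.isDivOfIdeal_unique hD₂ hE₂
  have hT : PicF.IsInvertible (CohB1.tensorMod L₁ L₂) := H28Mero.isInvertible_tensor hL₁ hL₂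
  let t := SecTwist.tmulHom s₁ s₂
  have hloc : ∀ x : X, ∃ (V : X.Opens) (hxV : x ∈ V) (e₁ : Γ(L₁, V)) (e₂ : Γ(L₂, V)) (c₁ c₂ : Γ(X, V)),
      H28Mero.IsGen L₁ e₁ ∧ H28Mero.IsGen L₂ e₂ ∧
      H28Mero.sGerm L₁ s₁ x = X.presheaf.germ V x hxV c₁ • L₁.presheaf.germ V x hxV e₁ ∧
      H28Mero.sGerm L₂ s₂ x = X.presheaf.germ V x hxV c₂ • L₂.presheaf.germ V x hxV e₂ ∧
      H28Mero.sGerm (CohB1.tensorMod L₁ L₂) t x =
        (X.presheaf.germ V x hxV c₁ * X.presheaf.germ V x hxV c₂) •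
          (CohB1.tensorMod L₁ L₂).presheaf.germ V x hxV (H16Derived.KFlat.Stalk.tensorSect V e₁ e₂) := by
    intro x
    obtain ⟨U, -, hxU, -, e₁, c₁, he₁, hc₁⟩ := H28Mero.exists_section_coeff L₁ s₁ hL₁ ⊤ x trivial
    obtain ⟨V, -, hxV, hVU, e₂, c₂, he₂, hc₂⟩ := H28Mero.exists_section_coeff L₂ s₂ hL₂ U x hxU
    let e₁' : Γ(L₁, V) := L₁.presheaf.map (homOfLE hVU).op e₁
    let c₁' : Γ(X, V) := X.presheaf.map (homOfLE hVU).op c₁
    have he₁' : H28Mero.IsGen L₁ e₁' := fun y hy => by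
      simp only [e₁', L₁.presheaf.germ_res_apply]; exact he₁ y (hVU hy)
    have h1 : H28Mero.sGerm L₁ s₁ x = X.presheaf.germ V x hxV c₁' • L₁.presheaf.germ V x hxV e₁' := by
      simp only [e₁', c₁', L₁.presheaf.germ_res_apply, X.presheaf.germ_res_apply]; exact hc₁ x hxU
    refine ⟨V, hxV, e₁', e₂, c₁', c₂, he₁', he₂, h1, hc₂ x hxV, ?_⟩
    have h2 : H28Mero.sGerm (CohB1.tensorMod L₁ L₂) t x =
        H16Derived.KFlat.Stalk.pair L₁ L₂ x (H28Mero.sGerm L₁ s₁ x) (H28Mero.sGerm L₂ s₂ x) := by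
      rw [H16Derived.KFlat.Stalk.pair_germ]
      show (CohB1.tensorMod L₁ L₂).presheaf.germ ⊤ x trivial (SecTwist.val (SecTwist.tmulHom s₁ s₂) ⊤) = _
      rw [SecTwist.val_tmulHom]
      rfl
    rw [h2, h1, hc₂ x hxV, ← H16Derived.KFlat.Stalk.toStalk_tmul, TensorProduct.smul_tmul_smul, map_smul,
      H16Derived.KFlat.Stalk.toStalk_tmul, H16Derived.KFlat.Stalk.pair_germ]
    rfl
  have hnz : ∀ {L : X.Modules} {s : Coh.structureModule X ⟶ L} (_ : H28Mero.IsRegularSection L s)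
      {x : X} {c : X.presheaf.stalk x} {ε : L.presheaf.stalk x}, H28Mero.sGerm L s x = c • ε → c ≠ 0 := by
    intro L s hr x c ε hc h0
    refine one_ne_zero (hr x (?_ : (1 : X.presheaf.stalk x) • _ = (0 : X.presheaf.stalk x) • _))
    rw [hc, h0, zero_smul, smul_zero, zero_smul]
  have hregT : H28Mero.IsRegularSection (CohB1.tensorMod L₁ L₂) t := by
    intro x r r' hrr
    obtain ⟨V, hxV, e₁, e₂, c₁, c₂, he₁, he₂, h1, h2, h3⟩ := hloc x
    simp only at hrr
    rw [h3, smul_smul, smul_smul] at hrr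
    exact mul_right_cancel₀ (mul_ne_zero (hnz hr₁ h1) (hnz hr₂ h2)) ((H28Mero.isGen_tmul he₁ he₂ x hxV).1 hrr)
  obtain ⟨E, hE, hspec, -⟩ := H28Mero.exists_divisor_zeroScheme (CohB1.tensorMod L₁ L₂) t hT hregT
  suffices D₁ * D₂ = E from this ▸ hE
  refine Subtype.ext (funext fun x => ?_)
  obtain ⟨V, hxV, e₁, e₂, c₁, c₂, he₁, he₂, h1, h2, h3⟩ := hloc x
  have hu : ∀ {L : X.Modules} {s : Coh.structureModule X ⟶ L} (hr : H28Mero.IsRegularSection L s)
      {c : X.presheaf.stalk x} {ε : L.presheaf.stalk x}, H28Mero.sGerm L s x = c • ε →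
        IsUnit (H28Mero.aK x c) := by
    intro L s hr c ε hc
    obtain ⟨W, hW, hxW, -⟩ := exists_isAffineOpen_mem_and_subset (X := X) (x := x) (U := ⊤) trivial
    have hfin : {y : X | y ∈ W ∧ Curv2.IsWeakAssPoint (Coh.structureModule X) y}.Finite :=
      (Set.finite_singleton (genericPoint X)).subset fun y hy =>
        (H28Mero.eq_of_specializes_of_weakAss hy.2 (genericPoint_specializes y)).symm
    have hcmem : c ∈ Mero.regStalk X x := H29Mero.nzd_stalk_le_regStalk hW hfin hxW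
      (mem_nonZeroDivisors_of_ne_zero (hnz hr hc))
    exact IsLocalization.map_units (Mero.KStalk X x) ⟨c, hcmem⟩
  have g3 : IsUnit (H28Mero.aK x (X.presheaf.germ V x hxV c₁ * X.presheaf.germ V x hxV c₂)) := hu hregT h3
  show D₁.1 x * D₂.1 x = E.1 x
  rw [hspec₁ x _ (hu hr₁ h1).unit ((Submodule.span_singleton_eq_top_iff _ _).mpr (he₁ x hxV).2)
      (by rw [IsUnit.unit_spec, h1, ← H28Mero.aK_smul_mk]),
    hspec₂ x _ (hu hr₂ h2).unit ((Submodule.span_singleton_eq_top_iff _ _).mpr (he₂ x hxV).2)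
      (by rw [IsUnit.unit_spec, h2, ← H28Mero.aK_smul_mk]),
    hspec x _ g3.unit ((Submodule.span_singleton_eq_top_iff _ _).mpr (H28Mero.isGen_tmul he₁ he₂ x hxV).2)
      (by rw [IsUnit.unit_spec, h3, ← H28Mero.aK_smul_mk]; rfl),
    ← QuotientGroup.mk_mul]
  exact congrArg _ (Units.ext ((map_mul _ _ _).symm))

end Groth.Agent.S19459
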