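import Groth.Statements.S19460
import Groth.Agent.S10936
import Groth.Agent.H22Alg.GeomRegularAt
import Groth.Agent.H22Alg.FibreCount
import Groth.Agent.H8Props.FieldDimEquidim
import Groth.Agent.H8Props.FieldDimHeight

set_option autoImplicit false
universe u
open CategoryTheory CategoryTheory.Limits AlgebraicGeometry
open Variety

namespace Groth.Agent.S19460

theorem finrank_cotangent {k : Type u} [Field k] {X : Scheme.{u}} [IrreducibleSpace X]
    (q : X ⟶ Spec (CommRingCat.of k)) [Smooth q] (d : ℕ) (hd : topologicalKrullDim X = d)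
    (x : X) (hx : IsClosed ({x} : Set X)) :
    Module.finrank (IsLocalRing.ResidueField (X.presheaf.stalk x))
      (IsLocalRing.CotangentSpace (X.presheaf.stalk x)) = d := by
  haveI := H19Grp.isRegularLocalRing_stalk_of_smooth q x
  have h1 := H8Props.FieldDim.localDim_eq_stalk_add_cdim (k := k) q x
  rw [(H22Alg.FibreCount.isClosed_iff_cdim_eq_zero (k := k) q x).mp hx, add_zero,
    H8Props.FieldDim.localDim_eq_dim_of_irreducible q x, hd] at h1
  have h2 := (IsRegularLocalRing.iff_finrank_cotangentSpace _).mp
    (‹_› : IsRegularLocalRing (X.presheaf.stalk x))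
  exact_mod_cast h2.trans h1.symm

theorem dim_le {k : Type u} [Field k] [IsAlgClosed k] {X Y : Scheme.{u}} [IrreducibleSpace X] [IrreducibleSpace Y]
    (qY : Y ⟶ Spec (CommRingCat.of k)) [Smooth qY] (f : X ⟶ Y) [Smooth (f ≫ qY)] (dX dY : ℕ)
    (hX : topologicalKrullDim X = dX) (hY : topologicalKrullDim Y = dY) (x : X) (hx : IsClosed ({x} : Set X))
    (hinj : Function.Injective (FixPt.cotangentMapAt f x (f.base x) rfl)) : dY ≤ dX := by
  haveI : LocallyOfFiniteType f := locallyOfFiniteType_of_comp f qY
  haveI : JacobsonSpace Y := LocallyOfFiniteType.jacobsonSpace qY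
  have hy : IsClosed ({f x} : Set Y) := by
    have := f.closePoints_subset_preimage_closedPoints (mem_closedPoints_iff.mpr hx)
    exact mem_closedPoints_iff.mp this
  rw [← finrank_cotangent (f ≫ qY) dX hX x hx, ← finrank_cotangent qY dY hY (f x) hy]
  haveI : IsNoetherianRing (Y.presheaf.stalk (f x)) := (H19Grp.isRegularLocalRing_stalk_of_smooth qY (f x)).toIsNoetherian
  haveI : IsNoetherianRing (X.presheaf.stalk x) := (H19Grp.isRegularLocalRing_stalk_of_smooth (f ≫ qY) x).toIsNoetherian
  let A := Y.presheaf.stalk (f x)
  let B := X.presheaf.stalk x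
  let φ : A →+* B := FixPt.stalkMapAt f x (f x) rfl
  haveI : IsLocalHom φ := ⟨fun a ha => by
    have : φ a = f.stalkMap x a := by simp [φ, FixPt.stalkMapAt]
    rw [this] at ha
    exact isUnit_of_map_unit (f.stalkMap x).hom a ha⟩
  let σ : IsLocalRing.ResidueField A →+* IsLocalRing.ResidueField B := IsLocalRing.ResidueField.map φ
  have hσs : Function.Surjective σ := by
    intro b
    letI := (H7SmoothCrit.topAlg (f ≫ qY) x).toAlgebra
    letI := (H7SmoothCrit.topAlg qY (f x)).toAlgebra
    obtain ⟨c, rfl⟩ := (H7SmoothCrit.residueField_bijective (f ≫ qY) x hx).2 b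
    refine ⟨algebraMap _ (IsLocalRing.ResidueField A) c, ?_⟩
    show IsLocalRing.residue B (φ (H7SmoothCrit.topAlg qY (f x) c)) = IsLocalRing.residue B _
    have h := RingHom.congr_fun (H7SmoothCrit.topAlg_comp f qY x) c
    simp only [RingHom.comp_apply] at h
    congr 1
    refine Eq.trans ?_ h.symm
    simp [φ, FixPt.stalkMapAt]
    exact Scheme.Hom.germ_stalkMap_apply f ⊤ x trivial _
  choose s hs using hσs
  let j := (FixPt.cotangentMapAt f x (f x) rfl).toAddMonoidHom
  let bas := Module.finBasis (IsLocalRing.ResidueField A) (IsLocalRing.CotangentSpace A)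
  have hli : LinearIndependent (IsLocalRing.ResidueField B) (⇑j ∘ ⇑bas) :=
    bas.linearIndependent.map_of_injective_injectiveₛ s j (fun a b h => by rw [← hs a, ← hs b, h]) hinj
      fun r m => by
        conv_rhs => rw [← hs r]
        obtain ⟨a, ha⟩ := IsLocalRing.residue_surjective (s r)
        rw [← ha]
        obtain ⟨b, rfl⟩ := Ideal.toCotangent_surjective _ m
        show FixPt.cotangentMapAt f x (f x) rfl ((IsLocalRing.maximalIdeal A).toCotangent (a • b)) =
          σ (IsLocalRing.residue A a) • FixPt.cotangentMapAt f x (f x) rfl ((IsLocalRing.maximalIdeal A).toCotangent b)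
        rw [FixPt.cotangentMapAt, Ideal.mapCotangent_toCotangent, Ideal.mapCotangent_toCotangent]
        show (IsLocalRing.maximalIdeal B).toCotangent _ = IsLocalRing.residue B (φ a) • _
        refine Eq.trans ?_ (show (IsLocalRing.maximalIdeal B).toCotangent (φ a • _) = IsLocalRing.residue B (φ a) • (IsLocalRing.maximalIdeal B).toCotangent _ from rfl)
        congr 1
        exact Subtype.ext (map_mul φ a b.1)
  simpa using hli.fintype_card_le_finrank

/-- Let k be an algebraically closed field, X and Y smooth irreducible varieties over k (integral,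
separated, of finite type and smooth over k) of dimensions dX and dY, and f : X → Y a k-morphism
which is smooth in the sense that at every closed point x of X the tangent map T_x X → T_{f(x)} Y is
surjective, equivalently the cotangent map m_{f(x)}/m_{f(x)}² → m_x/m_x² of the local rings is
injective. Then f is dominant, dY ≤ dX, and for every closed point y of Y in the image of f the
scheme-theoretic fibre X_y is smooth over the residue field κ(y) (which is k) and each of its
irreducible components has dimension dX − dY. (The published statement is for varieties in the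
classical sense, with the fibre carrying its reduced structure, and it also identifies the tangent
space of the fibre at each point with the kernel of the tangent map; that identification is not part
of this row.) -/
theorem result (k : Type u) [Field k] [IsAlgClosed k]
    {X Y : Scheme.{u}} (qX : X ⟶ Spec (CommRingCat.of k)) (qY : Y ⟶ Spec (CommRingCat.of k))
    [AlgebraicGeometry.IsIntegral X] [IsSeparated qX] [LocallyOfFiniteType qX] [QuasiCompact qX] [Smooth qX]
    [AlgebraicGeometry.IsIntegral Y] [IsSeparated qY] [LocallyOfFiniteType qY] [QuasiCompact qY] [Smooth qY]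
    (f : X ⟶ Y) (hf : f ≫ qY = qX) (dX dY : ℕ) (hX : topologicalKrullDim ↥X = dX)
    (hY : topologicalKrullDim ↥Y = dY)
    (hT : ∀ x : X, IsClosed ({x} : Set ↥X) → Function.Injective (FixPt.cotangentMapAt f x (f.base x) rfl)) :
    DenseRange f.base ∧ dY ≤ dX ∧
      ∀ y : Y, IsClosed ({y} : Set ↥Y) → y ∈ Set.range f.base →
        Smooth (f.fiberToSpecResidueField y) ∧
          ∀ Z ∈ irreducibleComponents ↥(f.fiber y),
            topologicalKrullDim ↥Z = ((dX - dY : ℕ) : WithBot ℕ∞) := by
  subst hf
  haveI : LocallyOfFiniteType f := locallyOfFiniteType_of_comp f qY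
  haveI : JacobsonSpace X := LocallyOfFiniteType.jacobsonSpace (f ≫ qY)
  obtain ⟨x₀, -, hx₀⟩ := nonempty_inter_closedPoints (Z := (Set.univ : Set X))
    Set.univ_nonempty isOpen_univ.isLocallyClosed
  rw [mem_closedPoints_iff] at hx₀
  have hle : dY ≤ dX := dim_le (k := k) qY f dX dY hX hY x₀ hx₀ (hT x₀ hx₀)
  obtain ⟨n, rfl⟩ := Nat.exists_eq_add_of_le hle
  haveI : SmoothOfRelativeDimension n f := (S10936.result k (f ≫ qY) qY f rfl n dY hY hX).mpr hT
  haveI : Smooth f := SmoothOfRelativeDimension.smooth n f
  refine ⟨?_, hle, fun y _ _ => ⟨?_, fun Z hZ => ?_⟩⟩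
  · intro y
    rw [mem_closure_iff]
    intro U hU hyU
    have hne : (Set.range f.base).Nonempty := ⟨f x₀, ⟨x₀, rfl⟩⟩
    obtain ⟨z, hz1, hz2⟩ := nonempty_preirreducible_inter hU f.isOpenMap.isOpen_range ⟨y, hyU⟩ hne
    exact ⟨z, hz1, hz2⟩
  · exact MorphismProperty.pullback_snd _ _ inferInstance
  · rw [Nat.add_sub_cancel_left]
    haveI : IrreducibleSpace Y := inferInstance
    exact H8Props.FieldDim.fibres_pure_of_source_pure (f ≫ qY) qY f rfl dY n
      (fun w => (H8Props.FieldDim.localDim_eq_dim_of_irreducible qY w).trans hY)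
      (fun W hW => by
        rw [irreducibleComponents_eq_singleton, Set.mem_singleton_iff] at hW
        subst hW
        exact (IsHomeomorph.topologicalKrullDim_eq _ (Homeomorph.Set.univ X).isHomeomorph).trans hX)
      y Z hZ

end Groth.Agent.S19460
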