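import Groth.Statements.S19461
import Groth.Agent.H06Desc.FlatAlg

set_option autoImplicit false
universe u
open CAlg

namespace Groth.Agent.S19461

/-- The implication from isomorphic completions to flat and unramified. Let A → B be a local
homomorphism of Noetherian local rings and ψ a ring map from the completion of A at its maximal
ideal to that of B whose composite with A → A^ is A → B → B^. If ψ is bijective, then A → B is flat
and the maximal ideal of A generates the maximal ideal of B. (The published statement is the
implication, for a morphism of algebraic varieties over an algebraically closed field, from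
isomorphic induced maps of completed local rings at every point to flat and unramified; its proof is
this local-ring argument, valid for any Noetherian local rings. The converse implication is a
separate result.) -/
theorem result (A B : Type u) [CommRing A]
    [CommRing B] [IsLocalRing A] [IsLocalRing B] [IsNoetherianRing A] [IsNoetherianRing B]
    [Algebra A B] [IsLocalHom (algebraMap A B)]
    (ψ : AdicCompletion (IsLocalRing.maximalIdeal A) A →+* AdicCompletion (IsLocalRing.maximalIdeal B) B)
    (hψ : ψ.comp (algebraMap A (AdicCompletion (IsLocalRing.maximalIdeal A) A)) =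
      (algebraMap B (AdicCompletion (IsLocalRing.maximalIdeal B) B)).comp (algebraMap A B))
    (hbij : Function.Bijective ψ) :
    Module.Flat A B ∧
      Ideal.map (algebraMap A B) (IsLocalRing.maximalIdeal A) = IsLocalRing.maximalIdeal B := by
  let e : AdicCompletion (IsLocalRing.maximalIdeal A) A ≃ₐ[A] AdicCompletion (IsLocalRing.maximalIdeal B) B :=
    AlgEquiv.ofBijective
      ({ ψ with commutes' := fun a => RingHom.congr_fun hψ a } :
        AdicCompletion (IsLocalRing.maximalIdeal A) A →ₐ[A] AdicCompletion (IsLocalRing.maximalIdeal B) B) hbij
  haveI : Module.Flat A (AdicCompletion (IsLocalRing.maximalIdeal A) A) := AdicCompletion.flat_of_isNoetherian _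
  haveI : Module.Flat A (AdicCompletion (IsLocalRing.maximalIdeal B) B) := Module.Flat.of_linearEquiv e.toLinearEquiv.symm
  haveI : Module.Flat B (AdicCompletion (IsLocalRing.maximalIdeal B) B) := AdicCompletion.flat_of_isNoetherian _
  haveI : Module.FaithfullyFlat B (AdicCompletion (IsLocalRing.maximalIdeal B) B) :=
    Module.FaithfullyFlat.of_flat_of_isLocalHom
  refine ⟨Groth.Agent.H06Desc.flat_of_faithfullyFlat_top (T := AdicCompletion (IsLocalRing.maximalIdeal B) B), ?_⟩
  have h : (Ideal.map (algebraMap A B) (IsLocalRing.maximalIdeal A)).map
      (algebraMap B (AdicCompletion (IsLocalRing.maximalIdeal B) B)) =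
      (IsLocalRing.maximalIdeal B).map (algebraMap B (AdicCompletion (IsLocalRing.maximalIdeal B) B)) := by
    rw [Ideal.map_map, ← hψ, ← Ideal.map_map, ← AdicCompletion.maximalIdeal_eq_map,
      ← AdicCompletion.maximalIdeal_eq_map]
    exact IsLocalRing.map_ringEquiv_maximalIdeal (RingEquiv.ofBijective ψ hbij)
  have := congrArg (Ideal.comap (algebraMap B (AdicCompletion (IsLocalRing.maximalIdeal B) B))) h
  rwa [Ideal.comap_map_eq_self_of_faithfullyFlat, Ideal.comap_map_eq_self_of_faithfullyFlat] at this

end Groth.Agent.S19461
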