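import Groth.Statements.S19463
import Groth.Agent.H22Alg.CurveCompact
import Groth.Agent.H22Alg.NefBundle
import Groth.Agent.H22Alg.CurveProj
import Groth.Agent.H29RR.SmoothRegular
import Groth.Agent.H17.NormalizationUP
import Groth.Agent.H28Neron.NormalSmooth
import Groth.Agent.S14519

set_option autoImplicit false
universe u
open CategoryTheory CategoryTheory.Limits AlgebraicGeometry
open Curves

namespace Groth.Agent.S19463

open Groth.Agent.H8Props.FieldDim (cdim)

theorem isNormalScheme_spec_field (k : Type u) [Field k] : Pi1.IsNormalScheme (Spec (CommRingCat.of k)) := fun x => by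
  have h := H8Props.FibreStalk.isField_stalk_Spec (CommRingCat.of k) (Field.toIsField k) x
  exact ⟨h.isDomain, letI := h.toField; inferInstance⟩


/-- Let k be an algebraically closed field and X a smooth curve over k (integral, separated, of finite
type and smooth over k, of dimension one). Then there are a smooth projective curve Y over k
(integral, smooth over k, of dimension one, admitting a closed immersion over k into some P^n_k) and
an open immersion X → Y over k. -/
theorem result (k : Type u) [Field k] [IsAlgClosed k]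
    (X : Scheme.{u}) [X.Over (Spec (CommRingCat.of k))] [IsIntegral X] [IsSeparated (X ↘ (Spec (CommRingCat.of k)))]
    [LocallyOfFiniteType (X ↘ (Spec (CommRingCat.of k)))] [QuasiCompact (X ↘ (Spec (CommRingCat.of k)))] [Smooth (X ↘ (Spec (CommRingCat.of k)))]
    (hdimX : topologicalKrullDim X = 1) :
    ∃ (Y : Scheme.{u}) (_ : Y.Over (Spec (CommRingCat.of k))) (j : X ⟶ Y), IsOpenImmersion j ∧
      j ≫ (Y ↘ (Spec (CommRingCat.of k))) = X ↘ (Spec (CommRingCat.of k)) ∧ IsIntegral Y ∧ Smooth (Y ↘ (Spec (CommRingCat.of k))) ∧ topologicalKrullDim Y = 1 ∧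
      ∃ (n : ℕ) (i : Y ⟶ CohB1.ProjSpace n k), IsClosedImmersion i ∧ i ≫ CohB1.ProjSpace.toSpec n k = Y ↘ (Spec (CommRingCat.of k)) := by
  let pX := X ↘ Spec (CommRingCat.of k)
  haveI := H22Alg.CurveQProj.isNoetherian_of_finType k (X := X)
  obtain ⟨d, Z, c, j, hc, hj, hjc, hdense, hsd, -, -⟩ := H22Alg.CurveCompact.exists_compactification k (X := X) hdimX.le
  haveI := hc
  haveI := hj
  haveI := hsd
  letI : Z.Over (Spec (CommRingCat.of k)) := ⟨c ≫ CohB1.ProjSpace.toSpec d k⟩
  haveI : IsProper (CohB1.ProjSpace.toSpec d k) := inferInstance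
  haveI : IsProper (Z ↘ Spec (CommRingCat.of k)) := inferInstanceAs (IsProper (c ≫ CohB1.ProjSpace.toSpec d k))
  haveI := H28Int.isNoetherian k (X := Z)
  haveI : QuasiCompact j := inferInstance
  haveI : IsReduced Z := IsSchemeTheoreticallyDominant.isReduced j
  haveI : IrreducibleSpace Z := by
    have h1 : IsIrreducible (Set.univ : Set Z) := by
      have := ((IrreducibleSpace.isIrreducible_univ X).image j.base j.continuous.continuousOn).closure
      rwa [Set.image_univ, hdense.closure_eq] at this
    exact (irreducibleSpace_def _).mpr h1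
  haveI : IsIntegral Z := isIntegral_of_irreducibleSpace_of_isReduced Z
  have hjη : j (genericPoint X) = genericPoint Z := genericPoint_eq_of_isOpenImmersion j
  have hZd : topologicalKrullDim Z = 1 := by
    have h := H22Alg.CurveCompact.cdim_map k pX (Z ↘ Spec (CommRingCat.of k)) j hjc (genericPoint X)
    rwa [hjη, H22Alg.VarDim.cdim_genericPoint Z, H22Alg.VarDim.cdim_genericPoint X, hdimX] at h
  haveI : QuasiCompact (Z.fromSpecStalk (genericPoint Z)) := inferInstance
  haveI : QuasiSeparated (Z.fromSpecStalk (genericPoint Z)) := inferInstance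
  haveI : IsFinite (Curv2.normalizationι Z) := H11Curve.isFinite_normalizationι (Z ↘ Spec (CommRingCat.of k))
  obtain ⟨hNint, hνη, hνb⟩ := H11Curve.exists_residueFieldMap_bijective Z
  haveI := hNint
  let N := Curv2.normalization Z
  letI : N.Over (Spec (CommRingCat.of k)) := ⟨Curv2.normalizationι Z ≫ (Z ↘ Spec (CommRingCat.of k))⟩
  haveI : IsProper (N ↘ Spec (CommRingCat.of k)) :=
    inferInstanceAs (IsProper (Curv2.normalizationι Z ≫ (Z ↘ Spec (CommRingCat.of k))))
  have hNreg := H22Alg.NefBundle.isRegularLocalRing_stalk (N := N)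
    fun hV hne => H22Alg.NormalizationDimOne.isDedekindDomain_affineOpen Z hZd hV hne
  haveI : Smooth (N ↘ Spec (CommRingCat.of k)) := H29RR.smooth_of_regular k N hNreg
  have hXn : Pi1.IsNormalScheme X := H28Neron.isNormalScheme_of_smooth pX (isNormalScheme_spec_field k)
  obtain ⟨h, hh, -⟩ := H17.NormalizationUP.existsUnique_lift Z j hXn fun z =>
    (ConcreteCategory.bijective_of_isIso (j.stalkMap z)).1
  have hhk : h ≫ (N ↘ Spec (CommRingCat.of k)) = pX := by
    show h ≫ Curv2.normalizationι Z ≫ (Z ↘ Spec (CommRingCat.of k)) = pX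
    rw [← Category.assoc, hh]
    exact hjc
  haveI : IsPreimmersion h := by
    haveI : IsImmersion (h ≫ Curv2.normalizationι Z) := by rw [hh]; infer_instance
    haveI : IsImmersion h := IsImmersion.of_comp h (Curv2.normalizationι Z)
    infer_instance
  have hcd : cdim (h (genericPoint X)) = ((1 : ℕ) : WithBot ℕ∞) := by
    rw [H22Alg.CurveCompact.cdim_map k pX (N ↘ Spec (CommRingCat.of k)) h hhk, H22Alg.VarDim.cdim_genericPoint X, hdimX]
    rfl
  have hNd : topologicalKrullDim N = 1 := by
    have e := H8Props.FieldDim.cdim_eq_add (N ↘ Spec (CommRingCat.of k)) (Z ↘ Spec (CommRingCat.of k))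
      (Curv2.normalizationι Z) rfl (genericPoint N)
    rwa [H22Alg.VarDim.cdim_genericPoint N, H28Int.Curves.cdim_closed ((S9332.result (Curv2.normalizationι Z) _).2
      (RingHom.Finite.of_surjective _ hνb.2)), hνη,
      H22Alg.VarDim.cdim_genericPoint Z, hZd, Nat.cast_zero, zero_add] at e
  have e : h (genericPoint X) = genericPoint N := by
    by_contra hne
    have hcl := H22Alg.DimOneDiv.isClosed_singleton_of_lt ((genericPoint_spec N).specializes (Set.mem_univ (h (genericPoint X)))) hne
      (show cdim (genericPoint N) ≤ _ by rw [H22Alg.VarDim.cdim_genericPoint N, hNd]; rfl)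
    rw [H28Int.Curves.cdim_closed hcl] at hcd
    norm_num at hcd
  have hbir : Function.Bijective (N.presheaf.stalkSpecializes (specializes_of_eq e) ≫ h.stalkMap (genericPoint X)).hom := by
    refine ⟨RingHom.injective (R := N.functionField) (S := X.functionField) _, ?_⟩
    have hι : Function.Surjective (N.presheaf.stalkSpecializes (specializes_of_eq e)).hom := by
      haveI : IsIso (N.presheaf.stalkSpecializes (specializes_of_eq e)) :=
        ⟨⟨N.presheaf.stalkSpecializes (specializes_of_eq e.symm), by simp, by simp⟩⟩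
      exact (ConcreteCategory.bijective_of_isIso _).2
    have hcomp : Function.Surjective ((Curv2.normalizationι Z).stalkMap (h (genericPoint X)) ≫ h.stalkMap (genericPoint X)).hom := by
      rw [← Scheme.Hom.stalkMap_comp]
      have key : ∀ g : X ⟶ Z, g = j → IsIso (g.stalkMap (genericPoint X)) := by rintro _ rfl; infer_instance
      exact ((ConcreteCategory.isIso_iff_bijective _).mp (key _ hh)).2
    intro v
    obtain ⟨w, hw⟩ := hcomp v
    obtain ⟨w', hw'⟩ := hι ((Curv2.normalizationι Z).stalkMap (h (genericPoint X)) w)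
    exact ⟨w', (congrArg (h.stalkMap (genericPoint X)).hom hw').trans hw⟩
  have hopen := S14519.result k X N hdimX hNd h hhk e hbir
  obtain ⟨L, hL⟩ := H22Alg.CurveQProj.exists_ample k (X := N) hNd.le
  obtain ⟨n, i, hi, hiq⟩ := H22Alg.CurveProj.exists_closedImmersion k N hL
  exact ⟨N, inferInstance, h, hopen, hhk, hNint, inferInstance, hNd, n, i, hi, hiq⟩

end Groth.Agent.S19463
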