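import Groth.Statements.S19464
import Groth.Agent.H28Contr.FactorSeq
import Groth.Agent.H28RR.Blow

set_option autoImplicit false
universe u
open CategoryTheory CategoryTheory.Limits AlgebraicGeometry
open Groth.Agent
open Surf

namespace Groth.Agent.S19464

/-- Let k be an algebraically closed field, X and Y smooth surfaces over k (integral, separated, of
finite type and smooth over k, of dimension two), f : X → Y a proper k-morphism which is an
isomorphism over some nonempty open subset of Y (birational), and y a closed point of Y over no open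
neighbourhood of which f is an isomorphism (y is not in the domain of the inverse rational map).
Then f factors through the blow-up of Y at y: for every π : Y' → Y having the universal property of
the blowing up of Y in the ideal of the reduced closed point y, there is g : X → Y' with g ≫ π = f. -/
theorem result (k : Type u) [Field k] [IsAlgClosed k]
    (X Y : Scheme.{u}) [X.Over (Spec (CommRingCat.of k))] [Y.Over (Spec (CommRingCat.of k))]
    [IsIntegral X] [IsSeparated (X ↘ (Spec (CommRingCat.of k)))] [LocallyOfFiniteType (X ↘ (Spec (CommRingCat.of k)))]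
    [QuasiCompact (X ↘ (Spec (CommRingCat.of k)))] [Smooth (X ↘ (Spec (CommRingCat.of k)))] (hdimX : topologicalKrullDim X = 2)
    [IsIntegral Y] [IsSeparated (Y ↘ (Spec (CommRingCat.of k)))] [LocallyOfFiniteType (Y ↘ (Spec (CommRingCat.of k)))]
    [QuasiCompact (Y ↘ (Spec (CommRingCat.of k)))] [Smooth (Y ↘ (Spec (CommRingCat.of k)))] (hdimY : topologicalKrullDim Y = 2)
    (f : X ⟶ Y) (hf : f ≫ (Y ↘ (Spec (CommRingCat.of k))) = X ↘ (Spec (CommRingCat.of k))) [IsProper f]
    (hbir : ∃ U : Y.Opens, (U : Set Y).Nonempty ∧ IsIso (f ∣_ U))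
    (y : Y) (hy : IsClosed ({y} : Set Y)) (hP : ∀ V : Y.Opens, y ∈ V → ¬ IsIso (f ∣_ V))
    (Y' : Scheme.{u}) (π : Y' ⟶ Y) (hπ : BlowUp.IsBlowUp π (Scheme.IdealSheafData.vanishingIdeal ⟨{y}, hy⟩)) :
    ∃ g : X ⟶ Y', g ≫ π = f := by
  haveI : IsNoetherianRing (CommRingCat.of k) := inferInstanceAs (IsNoetherianRing k)
  haveI : IsLocallyNoetherian X := LocallyOfFiniteType.isLocallyNoetherian (X ↘ Spec (CommRingCat.of k))
  haveI : IsLocallyNoetherian Y := LocallyOfFiniteType.isLocallyNoetherian (Y ↘ Spec (CommRingCat.of k))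
  haveI : CompactSpace X := QuasiCompact.compactSpace_of_compactSpace (X ↘ Spec (CommRingCat.of k))
  haveI : CompactSpace Y := QuasiCompact.compactSpace_of_compactSpace (Y ↘ Spec (CommRingCat.of k))
  haveI : IsNoetherian X := ⟨⟩
  haveI : IsNoetherian Y := ⟨⟩
  obtain ⟨U, hU, hiso⟩ := hbir
  haveI := hiso
  have hX := H19Grp.isRegularLocalRing_stalk_of_smooth (X ↘ Spec (CommRingCat.of k))
  have hY := H19Grp.isRegularLocalRing_stalk_of_smooth (Y ↘ Spec (CommRingCat.of k))
  have hdy : ringKrullDim (Y.presheaf.stalk y) = 2 := by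
    let g := Y ↘ Spec (CommRingCat.of k)
    have h := H8Props.FieldDim.localDim_eq_stalk_add_cdim (k := k) g y
    rw [H8Props.FieldDim.localDim_eq_dim_of_irreducible (k := k) g y, hdimY] at h
    have hc : H8Props.FieldDim.cdim y = 0 := by
      show topologicalKrullDim (closure ({y} : Set Y)) = 0
      rw [hy.closure_eq]
      refine le_antisymm (topologicalKrullDim_zero_of_discreteTopology ({y} : Set Y)) ?_
      haveI : Nonempty (TopologicalSpace.IrreducibleCloseds ({y} : Set Y)) :=
        ⟨⟨{⟨y, rfl⟩}, isIrreducible_singleton, isClosed_discrete _⟩⟩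
      exact Order.krullDim_nonneg (α := TopologicalSpace.IrreducibleCloseds ({y} : Set Y))
    rw [hc, add_zero] at h
    exact h.symm
  have hfield : ¬ IsField (Y.presheaf.stalk y) := fun h => by
    rw [ringKrullDim_eq_zero_of_isField h] at hdy; exact absurd hdy (by decide)
  have hc := (H28Contr.exists_iso_nhd_or_fibreCurve f U hU hy (hY y)).resolve_left fun ⟨V, hV, hi⟩ => hP V hV hi
  obtain ⟨g, hg, -⟩ := hπ.2 X f (H28Contr.isEffCartier_comap_point f U hU hX
    (fun x => (H28Contr.ringKrullDim_stalk_le_top x).trans hdimX.le) hy (hY y) hdy.le hfield hc)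
  exact ⟨g, hg⟩

end Groth.Agent.S19464
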