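import Groth.Statements.S19465
import Groth.Agent.H19Grp.Diagonal
import Groth.Agent.H19Grp.UnramifiedFibres

set_option autoImplicit false
universe u
open CategoryTheory CategoryTheory.Limits MonoidalCategory CartesianMonoidalCategory MonObj GrpObj AlgebraicGeometry
open AlgGrp

namespace Groth.Agent.S19465

/-- Let S be a scheme and G an S-group scheme whose structure morphism G → S is locally of finite type.
Then G → S is an isomorphism (G is the trivial group scheme over S) if and only if every fibre G_s →
Spec κ(s), s ∈ S, is an isomorphism. -/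
theorem result (S : Scheme.{u}) (G : Over S)
    [GrpObj G] [LocallyOfFiniteType G.hom] :
    IsIso G.hom ↔ ∀ s : S, IsIso (G.hom.fiberToSpecResidueField s) := by
  refine ⟨fun _ s => inferInstanceAs (IsIso (pullback.snd G.hom (S.fromSpecResidueField s))), fun h => ?_⟩
  haveI : FormallyUnramified G.hom := by
    refine H19Grp.formallyUnramified_of_fibres G.hom fun s => ?_
    haveI := h s
    infer_instance
  haveI : IsOpenImmersion (η[G]).left :=
    (H19Grp.formallyUnramified_iff_isOpenImmersion_one G).mp inferInstance
  have hinj : ∀ x y : G.left, G.hom x = G.hom y → x = y := by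
    intro x y hxy
    obtain ⟨a, ha⟩ : x ∈ Set.range (G.hom.fiberι (G.hom x)) := by rw [Scheme.Hom.range_fiberι]; rfl
    obtain ⟨b, hb⟩ : y ∈ Set.range (G.hom.fiberι (G.hom x)) := by
      rw [Scheme.Hom.range_fiberι]; exact hxy.symm
    haveI := h (G.hom x)
    have hab : a = b := (G.hom.fiberToSpecResidueField (G.hom x)).isOpenEmbedding.injective
      (Subsingleton.elim _ _)
    rw [← ha, ← hb, hab]
  haveI : Surjective (η[G]).left := ⟨fun x => ⟨G.hom x, hinj _ _ (by
    rw [← Scheme.Hom.comp_apply, Over.w η[G]]; rfl)⟩⟩
  haveI : IsIso (η[G]).left := by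
    rw [isIso_iff_isOpenImmersion_and_surjective]; exact ⟨inferInstance, inferInstance⟩
  have := (IsIso.inv_eq_of_hom_inv_id (Over.w η[G])).symm
  rw [this]
  infer_instance

end Groth.Agent.S19465
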