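import Groth.Statements.S19467
import Groth.Agent.H19Chev.UniKilled

set_option autoImplicit false
set_option maxHeartbeats 1000000
set_option synthInstance.maxHeartbeats 100000
set_option linter.style.haveILetI false
set_option backward.isDefEq.respectTransparency false
universe u
open CategoryTheory MonoidalCategory CartesianMonoidalCategory MonObj GrpObj AlgebraicGeometry CategoryTheory.Limits
open AlgGrp

namespace Groth.Agent.S19467

open Groth.Agent Groth.Agent.H19Chev.LargestMult Groth.Agent.H21Hom WithConv HopfRep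

variable {κ : Type u} [Field κ]

/-- The point given by a composite algebra map. -/
theorem mapMulEquiv_comp {A C : Type u} [CommRing A] [HopfAlgebra κ A] [CommRing C] [HopfAlgebra κ C] {Ω : Type u}
    [CommRing Ω] [Algebra κ Ω] (ψ : A →ₐc[κ] C) (f : C →ₐ[κ] Ω) :
    Spec.mapMulEquiv (R := κ) (toConv f) ≫ specHom ψ =
      Spec.mapMulEquiv (R := κ) (toConv (f.comp (ψ : A →ₐ[κ] C))) := by
  refine Over.OverMorphism.ext ?_
  show Spec.map (CommRingCat.ofHom f.toRingHom) ≫ (specHom ψ).left = Spec.map (CommRingCat.ofHom _)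
  rw [specHom_left, ← Spec.map_comp]
  rfl


/-- Let k be a field, G a commutative affine k-group scheme of finite type, and j : M → G the largest
closed subgroup scheme of multiplicative type (M is of multiplicative type and every closed subgroup
scheme of G of multiplicative type factors through M). Then there is a closed subgroup scheme h : H
→ G such that G = M · H, in the sense that the multiplication M × H → G is surjective, and M ∩ H
(the fibre product of j and h) is finite over k. (The existence of the largest subgroup scheme of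
multiplicative type is taken here as a hypothesis on M.) -/
theorem result (k : Type u) [Field k]
    (G : Over (Spec (CommRingCat.of k))) [GrpObj G] [IsCommMonObj G] [IsAffine G.left]
    [LocallyOfFiniteType G.hom]
    (M : Over (Spec (CommRingCat.of k))) [GrpObj M] (j : M ⟶ G) [IsMonHom j] [IsClosedImmersion j.left]
    (hM : SGA3x.IsMultTypeFT M)
    (hMmax : ∀ (M' : Over (Spec (CommRingCat.of k))) [GrpObj M'] (j' : M' ⟶ G) [IsMonHom j']
      [IsClosedImmersion j'.left], SGA3x.IsMultTypeFT M' → ∃ g : M' ⟶ M, g ≫ j = j') :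
    ∃ (H : Over (Spec (CommRingCat.of k))) (_ : GrpObj H) (h : H ⟶ G), IsMonHom h ∧ IsClosedImmersion h.left ∧
      Surjective ((j ⊗ₘ h) ≫ μ[G]).left ∧
      IsFinite (pullback.fst j.left h.left ≫ M.hom) := by
  obtain ⟨A, iA, iAH, eG, hAc, hAf, hh, hi⟩ := exists_comm_model G
  haveI := hh; haveI := hi; haveI := hAc; haveI := hAf
  obtain ⟨C, iC, iCH, ψ, eM, hMh, hMi, hψ, hcomp, hC, hker⟩ := exists_presentation_of_max j hM hMmax eG
  haveI := hMh; haveI := hMi
  obtain ⟨I, hI, hfin, hpts⟩ := H19Chev.UniKilled.exists_complement ψ hψ hC hker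
  haveI := hI
  let qI : A →ₐc[k] A ⧸ I := Bialgebra.Quotient.mkBialgHom (R := k) I
  let H := specGrp k (A ⧸ I)
  let h : H ⟶ G := specHom qI ≫ eG.inv
  haveI hhm : IsMonHom h := inferInstanceAs (IsMonHom (specHom qI ≫ eG.inv))
  haveI : IsIso eG.inv.left := inferInstanceAs (IsIso ((Over.forget _).map eG.inv))
  haveI : IsIso eG.hom.left := inferInstanceAs (IsIso ((Over.forget _).map eG.hom))
  haveI hhc : IsClosedImmersion h.left := by
    haveI := isClosedImmersion_specHom qI Ideal.Quotient.mk_surjective
    show IsClosedImmersion ((specHom qI).left ≫ eG.inv.left)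
    infer_instance
  refine ⟨H, inferInstance, h, hhm, hhc, ?_, ?_⟩
  · refine ⟨fun p => ?_⟩
    let Ω := AlgebraicClosure (G.left.residueField p)
    let y : Spec (CommRingCat.of Ω) ⟶ G.left :=
      Spec.map (CommRingCat.ofHom (algebraMap (G.left.residueField p) Ω)) ≫ G.left.fromSpecResidueField p
    letI : Algebra k Ω := (Spec.preimage (y ≫ G.hom)).hom.toAlgebra
    let T := (Spec (CommRingCat.of Ω)).asOver (Spec (CommRingCat.of k))
    let y' : T ⟶ G := Over.homMk y (Spec.map_preimage (y ≫ G.hom)).symm
    obtain ⟨x, hx⟩ := (Spec.mapMulEquiv (R := k) (S := A) (T := Ω)).surjective (y' ≫ eG.hom)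
    obtain ⟨m, h', hm, hh', hmh⟩ := hpts Ω x.ofConv
    let mC : C →ₐ[k] Ω := (Ideal.Quotient.liftₐ _ m fun z hz => hm z (hker.le hz)).comp
      (Ideal.quotientKerAlgEquivOfSurjective (f := (ψ : A →ₐ[k] C)) hψ).symm.toAlgHom
    have hmC : mC.comp (ψ : A →ₐ[k] C) = m := AlgHom.ext fun a => by
      have hs : (Ideal.quotientKerAlgEquivOfSurjective (f := (ψ : A →ₐ[k] C)) hψ).symm (ψ a) = Ideal.Quotient.mk _ a :=
        (AlgEquiv.symm_apply_eq _).2 rfl
      exact (congrArg (Ideal.Quotient.liftₐ _ m fun z hz => hm z (hker.le hz)) hs).trans rfl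
    let hI' : A ⧸ I →ₐ[k] Ω := Ideal.Quotient.liftₐ I h' hh'
    let Tm : T ⟶ M := Spec.mapMulEquiv (R := k) (toConv mC) ≫ eM.inv
    let Th : T ⟶ H := Spec.mapMulEquiv (R := k) (toConv hI')
    have key : lift Tm Th ≫ (j ⊗ₘ h) ≫ μ[G] = y' := by
      rw [← cancel_mono eG.hom, lift_map_assoc, ← Hom.mul_def, MonObj.mul_comp]
      have e1 : (Tm ≫ j) ≫ eG.hom = Spec.mapMulEquiv (R := k) (toConv m) := by
        rw [Category.assoc, hcomp]
        show (Spec.mapMulEquiv (R := k) (toConv mC) ≫ eM.inv) ≫ eM.hom ≫ specHom ψ = _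
        rw [Category.assoc, Iso.inv_hom_id_assoc, mapMulEquiv_comp, hmC]
      have e2 : (Th ≫ h) ≫ eG.hom = Spec.mapMulEquiv (R := k) (toConv h') := by
        show (Th ≫ specHom qI ≫ eG.inv) ≫ eG.hom = _
        rw [Category.assoc, Category.assoc, Iso.inv_hom_id, Category.comp_id, mapMulEquiv_comp]
        rfl
      rw [e1, e2, ← map_mul, hmh]
      exact hx
    refine ⟨(lift Tm Th).left (IsLocalRing.closedPoint Ω), ?_⟩
    rw [← Scheme.Hom.comp_apply, ← Over.comp_left, key]
    exact (Scheme.Hom.comp_apply _ _ _).trans (Scheme.fromSpecResidueField_apply _ _)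
  · let P := pullback j.left h.left
    haveI : IsAffine (specGrp k A).left := inferInstanceAs (IsAffine (Spec _))
    let g : P ⟶ Spec (CommRingCat.of A) := pullback.fst j.left h.left ≫ j.left ≫ eG.hom.left
    haveI : IsClosedImmersion (pullback.fst j.left h.left) :=
      MorphismProperty.pullback_fst (P := @IsClosedImmersion) _ _ hhc
    haveI hgc : IsClosedImmersion g := by
      show IsClosedImmersion (pullback.fst j.left h.left ≫ j.left ≫ eG.hom.left)
      infer_instance
    haveI : IsAffine P := isAffine_of_isAffineHom g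
    let f : Spec Γ(P, ⊤) ⟶ Spec (CommRingCat.of A) := P.isoSpec.inv ≫ g
    let ρ : A →+* Γ(P, ⊤) := (Spec.preimage f).hom
    have hρ : Function.Surjective ρ := by
      have hf : IsClosedImmersion (Spec.map (Spec.preimage f)) := by
        rw [Spec.map_preimage]; show IsClosedImmersion (P.isoSpec.inv ≫ g); infer_instance
      have h2 := (HasAffineProperty.iff_of_isAffine (P := @IsClosedImmersion)).mp hf
      exact (RingHom.surjective_respectsIso.arrow_mk_iso_iff (arrowIsoΓSpecOfIsAffine _)).mpr h2.2
    have hfac : ∀ {B : Type u} [CommRing B] [HopfAlgebra k B] (θ : A →ₐc[k] B) (t : P ⟶ Spec (CommRingCat.of B)),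
        g = t ≫ Spec.map (CommRingCat.ofHom (θ : A →ₐ[k] B).toRingHom) → ∀ a, θ a = 0 → ρ a = 0 := by
      intro B _ _ θ t ht a ha
      have h1 : CommRingCat.ofHom (θ : A →ₐ[k] B).toRingHom ≫ Spec.preimage (P.isoSpec.inv ≫ t) = Spec.preimage f :=
        Spec.map_injective (by
          rw [Spec.map_comp, Spec.map_preimage, Spec.map_preimage, Category.assoc, ← ht])
      show (Spec.preimage f).hom a = 0
      rw [← h1]
      show (Spec.preimage (P.isoSpec.inv ≫ t)).hom (θ a) = 0
      rw [ha, map_zero]
    have hJ : ∀ a ∈ H19Chev.LargestMult.multIdeal k A, ρ a = 0 := fun a ha =>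
      hfac ψ (pullback.fst j.left h.left ≫ eM.hom.left) (by
        show pullback.fst j.left h.left ≫ j.left ≫ eG.hom.left = _
        refine Eq.trans ?_ (Category.assoc _ _ _).symm
        exact congrArg (fun z => pullback.fst j.left h.left ≫ z) (congrArg (fun z => z.left) hcomp)) a (RingHom.mem_ker.1 (hker.ge ha))
    have hI0 : ∀ a ∈ I, ρ a = 0 := fun a ha =>
      hfac qI (pullback.snd j.left h.left) (by
        show pullback.fst j.left h.left ≫ j.left ≫ eG.hom.left = _
        rw [← Category.assoc, pullback.condition, Category.assoc, ← Over.comp_left]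
        congr 1
        show (h ≫ eG.hom).left = (specHom qI).left
        simp [h]) a (Ideal.Quotient.eq_zero_iff_mem.2 ha)
    let L := I ⊔ H19Chev.LargestMult.multIdeal k A
    have hL : ∀ a ∈ L, ρ a = 0 := fun a ha => by
      obtain ⟨b, hb, c, hc, rfl⟩ := Submodule.mem_sup.1 ha
      rw [map_add, hI0 b hb, hJ c hc, add_zero]
    let ρ' : A ⧸ L →+* Γ(P, ⊤) := Ideal.Quotient.lift L ρ hL
    have hρ' : Function.Surjective ρ' := fun z => by
      obtain ⟨a, rfl⟩ := hρ z
      exact ⟨Ideal.Quotient.mk L a, rfl⟩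
    have hfinr : (ρ.comp (algebraMap k A)).Finite := by
      have : ρ.comp (algebraMap k A) = ρ'.comp (algebraMap k (A ⧸ L)) := rfl
      rw [this]
      exact (RingHom.Finite.of_surjective ρ' hρ').comp (RingHom.finite_algebraMap.2 hfin)
    have heq : pullback.fst j.left h.left ≫ M.hom =
        P.isoSpec.hom ≫ Spec.map (CommRingCat.ofHom (ρ.comp (algebraMap k A))) := by
      rw [CommRingCat.ofHom_comp, Spec.map_comp]
      show _ = P.isoSpec.hom ≫ Spec.map (Spec.preimage f) ≫ _
      rw [Spec.map_preimage]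
      show _ = P.isoSpec.hom ≫ (P.isoSpec.inv ≫ g) ≫ (specGrp k A).hom
      rw [Category.assoc, Iso.hom_inv_id_assoc]
      show _ = (pullback.fst j.left h.left ≫ j.left ≫ eG.hom.left) ≫ (specGrp k A).hom
      rw [Category.assoc, Category.assoc, Over.w eG.hom, Over.w j]
    rw [heq]
    haveI : IsFinite (Spec.map (CommRingCat.ofHom (ρ.comp (algebraMap k A)))) := (IsFinite.SpecMap_iff _).2 hfinr
    infer_instance

end Groth.Agent.S19467
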