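import Groth.Statements.S19468
import Groth.Agent.H19Chev.MulSurjective
import Groth.Agent.H19Chev.AntiAffineFinite

set_option autoImplicit false
set_option maxHeartbeats 1000000
set_option synthInstance.maxHeartbeats 100000
set_option linter.style.haveILetI false
set_option backward.isDefEq.respectTransparency false
set_option maxHeartbeats 1000000
set_option synthInstance.maxHeartbeats 100000
set_option linter.style.haveILetI false
set_option backward.isDefEq.respectTransparency false
universe u
open CategoryTheory MonoidalCategory CartesianMonoidalCategory MonObj GrpObj AlgebraicGeometry CategoryTheory.Limits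
open AlgGrp

namespace Groth.Agent.S19468

open Groth.Agent Groth.Agent.H19Quot


/-- Let k be a finite field and G a smooth connected k-group scheme of finite type. Then there are a
closed normal subgroup scheme l : L → G with L smooth, connected and affine, and a closed subgroup
scheme a : A → G with A an abelian variety (proper, smooth and connected over k), such that G = L ·
A, in the sense that the multiplication L × A → G is surjective, and L ∩ A (the fibre product of l
and a) is finite over k. (The published statement also asserts that such a decomposition is unique;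
that part is not included here.) -/
theorem result (k : Type u) [Field k] [Finite k]
    (G : Over (Spec (CommRingCat.of k))) [GrpObj G] [Smooth G.hom] [QuasiCompact G.hom]
    [ConnectedSpace ↥G.left] :
    ∃ (L : Over (Spec (CommRingCat.of k))) (_ : GrpObj L) (l : L ⟶ G) (A : Over (Spec (CommRingCat.of k)))
      (_ : GrpObj A) (a : A ⟶ G),
      IsMonHom l ∧ IsClosedImmersion l.left ∧ AlgGrp.IsNormalHom l ∧ Smooth L.hom ∧ ConnectedSpace ↥L.left ∧
        IsAffine L.left ∧
      IsMonHom a ∧ IsClosedImmersion a.left ∧ IsProper A.hom ∧ Smooth A.hom ∧ ConnectedSpace ↥A.left ∧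
      Surjective ((l ⊗ₘ a) ≫ μ[G]).left ∧ IsFinite (pullback.fst l.left a.left ≫ L.hom) := by
  haveI : IsSeparated G.hom := H19Grp.AffineQuotient.isSeparated_of_grp G
  obtain ⟨L, gL, l, A, gA, q, hl, hlc, hLa, hLn, hnorm, hq, hqs, hqf, hqp, hk, hAp, hAs, hAc, hLs⟩ :=
    H19Chev.exists_chevalley_field G
  haveI := hl; haveI := hlc; haveI := hLa; haveI := hLn; haveI := hq; haveI := hqs; haveI := hqf; haveI := hAp
  haveI : Smooth L.hom := hLs inferInstance
  obtain ⟨gM, hm⟩ := H19Grp.AffinizationKernel.exists_grpObj G
  obtain ⟨hM1, hM2, hM3⟩ := H19Grp.AffinizationKernel.smooth_and_connected G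
  let M := H19Grp.AffinizationKernel.N G
  let m := H19Grp.AffinizationKernel.incl G
  haveI : IsClosedImmersion m.left := by
    show IsClosedImmersion (H19Grp.AffinizationKernel.incl G).left
    infer_instance
  haveI : IsMonHom m := hm
  haveI := hM1; haveI := hM2; haveI := hM3
  haveI : LocallyOfFiniteType M.hom := by rw [← Over.w m]; infer_instance
  haveI : QuasiCompact M.hom := by rw [← Over.w m]; infer_instance
  haveI : IsProper M.hom := H19Chev.isProper_of_antiAffine_finite M
  haveI := H19Chev.surjective_incl_comp q
  refine ⟨L, gL, l, M, gM, m, hl, hlc, hnorm, inferInstance, hLn, hLa, inferInstance, inferInstance, inferInstance, hM2,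
    hM3, H19Chev.surjective_mul_right l q hk m, ?_⟩
  haveI : IsAffineHom L.hom := inferInstance
  rw [IsFinite.iff_isProper_and_isAffineHom]
  refine ⟨?_, inferInstance⟩
  rw [← Over.w l, pullback.condition_assoc, Over.w m]
  infer_instance

end Groth.Agent.S19468
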