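import Groth.Statements.S19469
import Groth.Agent.H29CurveFamily.Push

set_option autoImplicit false
universe u
open Curves

namespace Groth.Agent.S19469

open AlgebraicGeometry CategoryTheory CategoryTheory.Limits in
/-- Let f : C → S be a proper smooth morphism of schemes whose fibres are geometrically connected, of
dimension one and of genus g ≥ 2 (g the dimension of H¹ of the structure sheaf of each fibre over
its residue field) — a family of smooth curves of genus g — and let n ≥ 2 be an integer. Then the
formation of f_*(Ω_{C/S}^{⊗n}) commutes with arbitrary base change: for every cartesian square on a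
morphism b : T → S, with projections f' : C' → T and b' : C' → C, the degree-0 base change map b^*
f_*(Ω_{C/S}^{⊗n}) → f'_* b'^*(Ω_{C/S}^{⊗n}) is an isomorphism. (The local-freeness, rank and
higher-direct-image clauses of the published item, and the corresponding base-change statement for
Ω_{C/S} itself, are separate results.) -/
theorem result {C S : Scheme.{u}} (f : C ⟶ S)
    [IsProper f] [Smooth f] [GeometricallyConnected f]
    (hdim : ∀ s : S, topologicalKrullDim ↥(f.fiber s) = 1) (g : ℕ) (hg : 2 ≤ g)
    (hgen : ∀ s : S, letI : (f.fiber s).Over (Spec (S.residueField s)) := ⟨f.fiberToSpecResidueField s⟩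
      Curv2.genus (S.residueField s) (f.fiber s) = g)
    (n : ℕ) (hn : 2 ≤ n)
    (T C' : Scheme.{u}) (b : T ⟶ S) (f' : C' ⟶ T) (b' : C' ⟶ C) (hsq : IsPullback b' f' f b) :
    IsIso (CohBC.bc0 f b f' b' hsq.w (CohB1.tensorPow (Omega.sheaf f) n)) := by
  haveI := H10Coh.enoughInjMod C
  exact (H29CurveFamily.push_pow f hdim g hg hgen n hn).2.2 T C' b f' b' hsq

end Groth.Agent.S19469
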