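import Groth.Statements.S19472
import Groth.Agent.H19Chev.LargestMult
import Groth.Agent.H19Chev.ProperQuotient

set_option autoImplicit false
set_option maxHeartbeats 1000000
set_option synthInstance.maxHeartbeats 100000
set_option linter.style.haveILetI false
set_option backward.isDefEq.respectTransparency false
universe u
open CategoryTheory MonoidalCategory CartesianMonoidalCategory MonObj GrpObj AlgebraicGeometry CategoryTheory.Limits
open AlgGrp

namespace Groth.Agent.S19472

open Groth.Agent Groth.Agent.H19Chev.LargestMult Groth.Agent.H21Hom HopfRep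


/-- Let k be a field and 1 → G₁ → G → G₂ → 1 an exact sequence of commutative affine k-group schemes of
finite type: i : G₁ → G is a closed subgroup scheme and the kernel of a flat surjective homomorphism
q : G → G₂. Let j₁ : M₁ → G₁, j : M → G and j₂ : M₂ → G₂ be the largest closed subgroup schemes of
multiplicative type (each of multiplicative type, every closed subgroup scheme of multiplicative
type factoring through it). Then the induced sequence 1 → M₁ → M → M₂ → 1 is exact: there are u : M₁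
→ M over i and v : M → M₂ over q with u a closed immersion, v flat and surjective, and u the kernel
of v. (The companion statement for the largest unipotent subgroup schemes over a perfect field is
not included; the existence of the largest multiplicative-type subgroups is carried as hypotheses.) -/
theorem result (k : Type u) [Field k]
    (G₁ : Over (Spec (CommRingCat.of k))) [GrpObj G₁] [IsCommMonObj G₁] [IsAffine G₁.left] [LocallyOfFiniteType G₁.hom]
    (G : Over (Spec (CommRingCat.of k))) [GrpObj G] [IsCommMonObj G] [IsAffine G.left] [LocallyOfFiniteType G.hom]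
    (G₂ : Over (Spec (CommRingCat.of k))) [GrpObj G₂] [IsCommMonObj G₂] [IsAffine G₂.left] [LocallyOfFiniteType G₂.hom]
    (i : G₁ ⟶ G) [IsMonHom i] [IsClosedImmersion i.left]
    (q : G ⟶ G₂) [IsMonHom q] [Surjective q.left] [Flat q.left] (hq : AlgGrp.IsKernel i q)
    (M₁ : Over (Spec (CommRingCat.of k))) [GrpObj M₁] (j₁ : M₁ ⟶ G₁) [IsMonHom j₁] [IsClosedImmersion j₁.left]
    (hM₁ : SGA3x.IsMultTypeFT M₁)
    (hM₁max : ∀ (M' : Over (Spec (CommRingCat.of k))) [GrpObj M'] (j' : M' ⟶ G₁) [IsMonHom j']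
      [IsClosedImmersion j'.left], SGA3x.IsMultTypeFT M' → ∃ g : M' ⟶ M₁, g ≫ j₁ = j')
    (M : Over (Spec (CommRingCat.of k))) [GrpObj M] (j : M ⟶ G) [IsMonHom j] [IsClosedImmersion j.left]
    (hM : SGA3x.IsMultTypeFT M)
    (hMmax : ∀ (M' : Over (Spec (CommRingCat.of k))) [GrpObj M'] (j' : M' ⟶ G) [IsMonHom j']
      [IsClosedImmersion j'.left], SGA3x.IsMultTypeFT M' → ∃ g : M' ⟶ M, g ≫ j = j')
    (M₂ : Over (Spec (CommRingCat.of k))) [GrpObj M₂] (j₂ : M₂ ⟶ G₂) [IsMonHom j₂] [IsClosedImmersion j₂.left]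
    (hM₂ : SGA3x.IsMultTypeFT M₂)
    (hM₂max : ∀ (M' : Over (Spec (CommRingCat.of k))) [GrpObj M'] (j' : M' ⟶ G₂) [IsMonHom j']
      [IsClosedImmersion j'.left], SGA3x.IsMultTypeFT M' → ∃ g : M' ⟶ M₂, g ≫ j₂ = j') :
    ∃ (u : M₁ ⟶ M) (v : M ⟶ M₂), u ≫ j = j₁ ≫ i ∧ v ≫ j₂ = j ≫ q ∧
      IsClosedImmersion u.left ∧ Surjective v.left ∧ Flat v.left ∧ AlgGrp.IsKernel u v := by
  obtain ⟨A, iA, iAH, eG, hAc, hAf, hh, hi⟩ := exists_comm_model G
  obtain ⟨A₂, iA₂, iA₂H, eG₂, hA₂c, hA₂f, hh₂, hi₂⟩ := exists_comm_model G₂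
  haveI := hh; haveI := hi; haveI := hh₂; haveI := hi₂; haveI := hAc; haveI := hA₂c; haveI := hAf; haveI := hA₂f
  obtain ⟨C, iC, iCH, ψ, eM, hMh, hMi, hψ, hcomp, -, hker⟩ := exists_presentation_of_max j hM hMmax eG
  obtain ⟨C₂, iC₂, iC₂H, ψ₂, eM₂, hM₂h, hM₂i, hψ₂, hcomp₂, -, hker₂⟩ := exists_presentation_of_max j₂ hM₂ hM₂max eG₂
  haveI := hMh; haveI := hMi; haveI := hM₂h; haveI := hM₂i
  let g : specGrp k A ⟶ specGrp k A₂ := eG.inv ≫ q ≫ eG₂.hom
  obtain ⟨φ, hφ⟩ := exists_bialgHom_of_hom g
  have hg : g = specHom φ := Over.OverMorphism.ext (hφ.trans (specHom_left φ).symm)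
  haveI : IsIso eG.inv.left := inferInstanceAs (IsIso ((Over.forget _).map eG.inv))
  haveI : IsIso eG₂.hom.left := inferInstanceAs (IsIso ((Over.forget _).map eG₂.hom))
  have hφinj : Function.Injective φ := by
    haveI : Surjective g.left := by show Surjective (eG.inv.left ≫ q.left ≫ eG₂.hom.left); infer_instance
    haveI : Flat g.left := by show Flat (eG.inv.left ≫ q.left ≫ eG₂.hom.left); infer_instance
    haveI hs : Surjective (Spec.map (CommRingCat.ofHom (φ : A₂ →ₐ[k] A).toRingHom)) := hφ ▸ ‹Surjective g.left›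
    haveI hf : Flat (Spec.map (CommRingCat.ofHom (φ : A₂ →ₐ[k] A).toRingHom)) := hφ ▸ ‹Flat g.left›
    have hff : (φ : A₂ →ₐ[k] A).toRingHom.FaithfullyFlat := RingHom.FaithfullyFlat.iff_flat_and_comap_surjective.2
      ⟨(HasRingHomProperty.Spec_iff (P := @Flat)).1 hf, hs.surj⟩
    exact hff.injective
  let θ : A₂ →ₐc[k] C := ψ.comp φ
  obtain ⟨χ, hχ⟩ := exists_factor ψ₂ hψ₂ θ (by
    rw [hker₂]
    intro x hx
    refine RingHom.mem_ker.2 ?_
    show ψ (φ x) = 0
    exact RingHom.mem_ker.1 (hker.ge (map_multIdeal φ hx)))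
  have hχinj : Function.Injective χ := (injective_iff_map_eq_zero χ).2 fun c hc => by
    obtain ⟨x, rfl⟩ := hψ₂ c
    rw [hχ] at hc
    have h1 : φ x ∈ multIdeal k A := hker.le (RingHom.mem_ker.2 hc)
    exact RingHom.mem_ker.1 (hker₂.ge (comap_multIdeal φ hφinj h1))
  let v : M ⟶ M₂ := eM.hom ≫ specHom χ ≫ eM₂.inv
  haveI hvm : IsMonHom v := inferInstanceAs (IsMonHom (eM.hom ≫ specHom χ ≫ eM₂.inv))
  have hv : v ≫ j₂ = j ≫ q := by
    haveI : Mono eG₂.hom := inferInstance
    rw [← cancel_mono eG₂.hom]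
    have h1 : specHom χ ≫ specHom ψ₂ = specHom ψ ≫ specHom φ := Over.OverMorphism.ext (by
      rw [Over.comp_left, Over.comp_left, specHom_left, specHom_left, specHom_left, specHom_left, ← Spec.map_comp,
        ← Spec.map_comp, ← CommRingCat.ofHom_comp, ← CommRingCat.ofHom_comp]
      congr 2
      exact RingHom.ext hχ)
    simp only [v, Category.assoc, hcomp₂, Iso.inv_hom_id_assoc]
    rw [h1, ← Category.assoc, ← hcomp, ← hg]
    simp [g]
  haveI : IsIso eM.hom.left := inferInstanceAs (IsIso ((Over.forget _).map eM.hom))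
  haveI : IsIso eM₂.inv.left := inferInstanceAs (IsIso ((Over.forget _).map eM₂.inv))
  have hffχ := H20FF.faithfullyFlat_ringHom χ hχinj
  obtain ⟨hfl, hsu⟩ := RingHom.FaithfullyFlat.iff_flat_and_comap_surjective.1 hffχ
  haveI : Flat (specHom χ).left := by
    rw [specHom_left]; exact (HasRingHomProperty.Spec_iff (P := @Flat)).2 hfl
  haveI : Surjective (specHom χ).left := by rw [specHom_left]; exact ⟨hsu⟩
  have hvf : Flat v.left := by show Flat (eM.hom.left ≫ (specHom χ).left ≫ eM₂.inv.left); infer_instance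
  have hvs : Surjective v.left := by show Surjective (eM.hom.left ≫ (specHom χ).left ≫ eM₂.inv.left); infer_instance
  -- the map on the subgroups of the kernel
  haveI : IsSeparated M.hom := H19Grp.AffineQuotient.isSeparated_of_grp M
  haveI : IsSeparated M₁.hom := H19Grp.AffineQuotient.isSeparated_of_grp M₁
  haveI : IsSeparated G₂.hom := H19Grp.AffineQuotient.isSeparated_of_grp G₂
  haveI : IsSeparated G.hom := H19Grp.AffineQuotient.isSeparated_of_grp G
  haveI : Mono j := Over.mono_of_mono_left _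
  haveI : Mono j₂ := Over.mono_of_mono_left _
  haveI : Mono i := Over.mono_of_mono_left _
  haveI : IsClosedImmersion (j₁ ≫ i).left := by rw [Over.comp_left]; infer_instance
  haveI : IsMonHom (j₁ ≫ i) := inferInstance
  obtain ⟨u, hu⟩ := hMmax M₁ (j₁ ≫ i) hM₁
  haveI hucl : IsClosedImmersion u.left := by
    haveI : IsClosedImmersion (u.left ≫ j.left) := by rw [← Over.comp_left, hu]; infer_instance
    exact IsClosedImmersion.of_comp u.left j.left
  refine ⟨u, v, hu, hv, hucl, hvs, hvf, Groth.Agent.H19Grp.isKernel_of ?_ ?_ ?_⟩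
  · rw [← cancel_mono j₂, Category.assoc, hv, ← Category.assoc, hu, Category.assoc,
      Groth.Agent.H19Grp.kernel_comp_eq_one hq, MonObj.comp_one, MonObj.one_comp]
  · intro W a b hab
    haveI : Mono u := Over.mono_of_mono_left _
    exact (cancel_mono u).1 hab
  · intro W a ha
    haveI : IsSeparated M₂.hom := H19Grp.AffineQuotient.isSeparated_of_grp M₂
    obtain ⟨N, gN, n, hn, hncl, hnk⟩ := H19Grp.AffineQuotient.exists_kernel v
    haveI := hn; haveI := hncl
    obtain ⟨w, hw⟩ := Groth.Agent.H19Grp.kernel_lift hq (n ≫ j) (by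
      rw [Category.assoc, ← hv, ← Category.assoc, Groth.Agent.H19Grp.kernel_comp_eq_one hnk, MonObj.one_comp])
    haveI : IsMonHom (w ≫ i) := by rw [hw]; infer_instance
    haveI : IsMonHom w := H19Chev.isMonHom_of_mono w i
    haveI : IsClosedImmersion w.left := by
      haveI : IsClosedImmersion (w.left ≫ i.left) := by rw [← Over.comp_left, hw, Over.comp_left]; infer_instance
      exact IsClosedImmersion.of_comp w.left i.left
    haveI : Flat N.hom := inferInstance
    haveI : LocallyOfFiniteType M.hom := by rw [← Over.w j]; infer_instance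
    haveI : LocallyOfFiniteType N.hom := by rw [← Over.w n]; infer_instance
    haveI : LocallyOfFinitePresentation N.hom := inferInstance
    obtain ⟨t, ht⟩ := hM₁max N w (isMultTypeFT_of_closed hM n)
    obtain ⟨z, hz⟩ := Groth.Agent.H19Grp.kernel_lift hnk a ha
    refine ⟨z ≫ t, ?_⟩
    rw [← cancel_mono j, Category.assoc, Category.assoc, hu, ← Category.assoc t, ht, hw, ← Category.assoc, hz]

end Groth.Agent.S19472
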