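import Groth.Statements.S19474
import Groth.Agent.H05EGA4.Regular2
import Groth.Agent.H8Props.FlatDepth

set_option autoImplicit false
universe u
open CAlg

namespace Groth.Agent.S19474

/-- Let A be a Noetherian local ring and I an ideal of A different from A. Then the I-adic completion of
A has the same Krull dimension as A, and A is a regular local ring if and only if the I-adic
completion of A is a regular local ring (in particular the completion is then local and Noetherian).
The case where I is the maximal ideal is the classical one; here I is any proper ideal. -/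
theorem result (A : Type u) [CommRing A]
    [IsLocalRing A] [IsNoetherianRing A] (I : Ideal A) (hI : I ≠ ⊤) :
    ringKrullDim (AdicCompletion I A) = ringKrullDim A ∧
      (IsRegularLocalRing A ↔ IsRegularLocalRing (AdicCompletion I A)) := by
  have fg : I.FG := IsNoetherian.noetherian I
  haveI := Groth.Agent.H05EGA4.isNoetherianRing_adicCompletion A I
  haveI := AdicCompletion.isAdicComplete_self I fg
  have hle : I ≤ IsLocalRing.maximalIdeal A := IsLocalRing.le_maximalIdeal hI
  have hmax := AdicCompletion.isMaximal_map_of_le I (IsLocalRing.maximalIdeal A) hle fg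
  have hloc : IsLocalRing (AdicCompletion I A) := by
    refine IsLocalRing.of_unique_max_ideal ⟨_, hmax, fun M hM ↦ ?_⟩
    have h1 : I.map (algebraMap A (AdicCompletion I A)) ≤ M :=
      (IsAdicComplete.le_jacobson_bot _).trans (sInf_le ⟨bot_le, hM⟩)
    let ev := (AdicCompletion.evalOneₐ I).toRingHom
    have hker : RingHom.ker ev ≤ M := (AdicCompletion.ker_evalOneₐ_eq_map I fg).le.trans h1
    have hM' : (M.map ev).IsMaximal := Ideal.IsMaximal.map_of_surjective_of_ker_le (AdicCompletion.evalOneₐ_surjective I) hker
    have hc : (M.comap (algebraMap A (AdicCompletion I A))).IsMaximal := by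
      have : M.comap (algebraMap A (AdicCompletion I A)) = (M.map ev).comap (Ideal.Quotient.mk I) := by
        rw [← AdicCompletion.evalOneₐ_comp_algebraMap_eq_mk, ← Ideal.comap_comap]
        show _ = Ideal.comap _ (Ideal.comap ev (Ideal.map ev M))
        rw [Ideal.comap_map_of_surjective' ev (AdicCompletion.evalOneₐ_surjective I), sup_eq_left.mpr hker]
      exact this ▸ Ideal.comap_isMaximal_of_surjective _ Ideal.Quotient.mk_surjective
    have := Ideal.map_comap_le (f := algebraMap A (AdicCompletion I A)) (K := M)
    rw [IsLocalRing.eq_maximalIdeal hc] at this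
    exact (hmax.eq_of_le hM.ne_top this).symm
  have hm : (IsLocalRing.maximalIdeal A).map (algebraMap A (AdicCompletion I A)) = IsLocalRing.maximalIdeal (AdicCompletion I A) :=
    IsLocalRing.eq_maximalIdeal hmax
  have hlh : IsLocalHom (algebraMap A (AdicCompletion I A)) :=
    ((IsLocalRing.local_hom_TFAE (algebraMap A (AdicCompletion I A))).out 0 2).mpr hm.le
  refine ⟨?_, ⟨fun _ ↦ Groth.Agent.H05EGA4.isRegularLocalRing_of_flat_of_map_eq A _ hm,
    fun _ ↦ Groth.Agent.H05EGA4.isRegularLocalRing_of_flat (B := AdicCompletion I A)⟩⟩
  rw [Groth.Agent.H8Props.FlatDepth.ringKrullDim_eq_add A (AdicCompletion I A)]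
  have : ((IsLocalRing.maximalIdeal A).map (algebraMap A (AdicCompletion I A))).IsMaximal := hmax
  rw [ringKrullDim_eq_zero_of_isField ((Ideal.Quotient.maximal_ideal_iff_isField_quotient _).mp hmax), add_zero]

end Groth.Agent.S19474
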