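import Groth.Statements.S19475
import Mathlib.RingTheory.AdicCompletion.Completeness
import Mathlib.RingTheory.Localization.AtPrime.Basic
import Mathlib.RingTheory.Localization.Submodule

set_option autoImplicit false
universe u
open CAlg

namespace Groth.Agent.S19475

open IsLocalRing in
/-- Let A be a Noetherian ring, B an A-algebra, q a prime ideal of B and p its preimage in A; let A_p
and B_q be the local rings at p and q and Â_p the completion of A_p at its maximal ideal pA_p. Then
the ideal generated by qB_q in B_q ⊗ Â_p is maximal. (The tensor product is formed over A; since A_p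
is a localization of A it agrees with the tensor product over A_p used in the published statement.) -/
theorem result (A B : Type u) [CommRing A] [CommRing B]
    [Algebra A B] [IsNoetherianRing A] (q : Ideal B) [q.IsPrime] :
    ((maximalIdeal (Localization.AtPrime q)).map
      (Algebra.TensorProduct.includeLeftRingHom :
        Localization.AtPrime q →+* TensorProduct A (Localization.AtPrime q)
          (AdicCompletion (maximalIdeal (Localization.AtPrime (q.under A)))
            (Localization.AtPrime (q.under A))))).IsMaximal := by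
  let p := q.under A
  let Bq := Localization.AtPrime q
  let Ap := Localization.AtPrime p
  let 𝔭 := maximalIdeal Ap
  let C := AdicCompletion 𝔭 Ap
  let φ : Ap →ₐ[A] Bq :=
    { Localization.localRingHom p q (algebraMap A B) rfl with
      commutes' := fun a => by
        show Localization.localRingHom p q (algebraMap A B) rfl (algebraMap A Ap a) = algebraMap A Bq a
        rw [Localization.localRingHom_to_map, ← IsScalarTower.algebraMap_apply] }
  let ρ : C →ₐ[A] Ap ⧸ 𝔭 := (AdicCompletion.evalOneₐ 𝔭).restrictScalars A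
  have hφm : ∀ x ∈ 𝔭, φ x ∈ maximalIdeal Bq := fun x hx =>
    map_nonunit (Localization.localRingHom p q (algebraMap A B) rfl) x hx
  let φ' : (Ap ⧸ 𝔭) →ₐ[A] Bq ⧸ maximalIdeal Bq := Ideal.quotientMapₐ (maximalIdeal Bq) φ hφm
  let ψ : TensorProduct A Bq C →ₐ[A] Bq ⧸ maximalIdeal Bq :=
    Algebra.TensorProduct.lift (Ideal.Quotient.mkₐ A (maximalIdeal Bq)) (φ'.comp ρ) fun _ _ => Commute.all _ _
  set J := (maximalIdeal Bq).map (Algebra.TensorProduct.includeLeftRingHom : Bq →+* TensorProduct A Bq C) with hJ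
  have hAp : ∀ x : Ap, (1 : Bq) ⊗ₜ[A] (algebraMap Ap C x) = φ x ⊗ₜ[A] (1 : C) := by
    intro x
    have h : ((Algebra.TensorProduct.includeRight : C →ₐ[A] TensorProduct A Bq C).comp
        (IsScalarTower.toAlgHom A Ap C)) = (Algebra.TensorProduct.includeLeft : Bq →ₐ[A] TensorProduct A Bq C).comp φ :=
      IsLocalization.algHom_ext p.primeCompl (Subsingleton.elim _ _)
    exact AlgHom.congr_fun h x
  have hgen : ∀ z, ∃ b : Bq, z - b ⊗ₜ[A] (1 : C) ∈ J := by
    intro z
    induction z with
    | zero => exact ⟨0, by simp⟩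
    | tmul b c =>
      obtain ⟨x, hx⟩ := Ideal.Quotient.mk_surjective (AdicCompletion.evalOneₐ 𝔭 c)
      have hc : c - algebraMap Ap C x ∈ 𝔭.map (algebraMap Ap C) := by
        rw [← AdicCompletion.ker_evalOneₐ_eq_map _ (IsNoetherian.noetherian 𝔭), RingHom.mem_ker, map_sub]
        show AdicCompletion.evalOneₐ 𝔭 c - AdicCompletion.evalOneₐ 𝔭 (algebraMap Ap C x) = 0
        rw [AlgHom.commutes, ← hx, sub_eq_zero]
        rfl
      have hker : ∀ y ∈ 𝔭.map (algebraMap Ap C), (1 : Bq) ⊗ₜ[A] y ∈ J := by
        intro y hy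
        have : 𝔭.map (algebraMap Ap C) ≤ J.comap (Algebra.TensorProduct.includeRight : C →ₐ[A] TensorProduct A Bq C).toRingHom := by
          refine Ideal.map_le_iff_le_comap.mpr fun w hw => ?_
          show (1 : Bq) ⊗ₜ[A] (algebraMap Ap C w) ∈ J
          rw [hAp]
          exact Ideal.mem_map_of_mem _ (hφm w hw)
        exact this hy
      refine ⟨b * φ x, ?_⟩
      rw [show b ⊗ₜ[A] c - (b * φ x) ⊗ₜ[A] (1 : C) = (b ⊗ₜ[A] (1 : C)) * ((1 : Bq) ⊗ₜ[A] (c - algebraMap Ap C x)) by
        rw [TensorProduct.tmul_sub, hAp, mul_sub, Algebra.TensorProduct.tmul_mul_tmul, Algebra.TensorProduct.tmul_mul_tmul,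
          mul_one, one_mul, mul_one]]
      exact J.mul_mem_left _ (hker _ hc)
    | add u v hu hv =>
      obtain ⟨a, ha⟩ := hu
      obtain ⟨b, hb⟩ := hv
      exact ⟨a + b, by rw [TensorProduct.add_tmul, add_sub_add_comm]; exact add_mem ha hb⟩
  have hψl : ∀ b : Bq, ψ (b ⊗ₜ[A] (1 : C)) = Ideal.Quotient.mk _ b := fun b => by simp [ψ]
  have hJker : J = RingHom.ker ψ.toRingHom := by
    refine le_antisymm (Ideal.map_le_iff_le_comap.mpr fun b hb => ?_) fun z hz => ?_
    · show ψ (b ⊗ₜ[A] (1 : C)) = 0
      rw [hψl, Ideal.Quotient.eq_zero_iff_mem]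
      exact hb
    · obtain ⟨b, hb⟩ := hgen z
      have h0 : ψ (z - b ⊗ₜ[A] (1 : C)) = 0 := by
        have : J ≤ RingHom.ker ψ.toRingHom := Ideal.map_le_iff_le_comap.mpr fun y hy => by
          show ψ (y ⊗ₜ[A] (1 : C)) = 0
          rw [hψl, Ideal.Quotient.eq_zero_iff_mem]
          exact hy
        exact this hb
      rw [map_sub, show ψ z = 0 from hz, zero_sub, neg_eq_zero, hψl, Ideal.Quotient.eq_zero_iff_mem] at h0
      rw [← sub_add_cancel z (b ⊗ₜ[A] (1 : C))]
      exact add_mem hb (Ideal.mem_map_of_mem _ h0)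
  show J.IsMaximal
  rw [hJker]
  letI : Field (Bq ⧸ maximalIdeal Bq) := Ideal.Quotient.field _
  exact RingHom.ker_isMaximal_of_surjective ψ.toRingHom fun y => by
    obtain ⟨b, rfl⟩ := Ideal.Quotient.mk_surjective y
    exact ⟨b ⊗ₜ[A] (1 : C), hψl b⟩

end Groth.Agent.S19475
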