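import Groth.Statements.S19477
import Mathlib
import Groth.Agent.H22Alg.GaloisFibres

set_option autoImplicit false
universe u
open Variety

namespace Groth.Agent.S19477

/-- Let K be a field, B an integral K-algebra of finite type with fraction field F, and L a Galois
extension of K with group Γ = Aut_K(L). Then F ⊗_K L has only finitely many prime ideals and Γ,
acting through the second factor, permutes them transitively: for prime ideals P, Q there is γ ∈ Γ
with Q the preimage of P under id ⊗ γ. (The published statement is the geometric one, that the
points of an algebraic K-scheme X correspond to the Γ-orbits of points of X_L and that these orbits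
are finite; it reduces to this algebraic statement by passing to the fibre over a point, and the
algebraic statement is what is proved.) -/
theorem result (K B L : Type u) [Field K]
    [CommRing B] [IsDomain B] [Algebra K B] [Algebra.FiniteType K B] [Field L] [Algebra K L] [IsGalois K L] :
    Finite (PrimeSpectrum (TensorProduct K (FractionRing B) L)) ∧
      ∀ P Q : PrimeSpectrum (TensorProduct K (FractionRing B) L), ∃ γ : L ≃ₐ[K] L,
        Q.asIdeal = P.asIdeal.comap
          (Algebra.TensorProduct.map (AlgHom.id K (FractionRing B)) (γ : L →ₐ[K] L)) := by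
  open AlgebraicGeometry CategoryTheory CategoryTheory.Limits in
  open scoped TensorProduct in
  constructor
  · haveI : Algebra.EssFiniteType B (FractionRing B) := Algebra.EssFiniteType.of_isLocalization _ (nonZeroDivisors B)
    haveI : Algebra.EssFiniteType K (FractionRing B) := Algebra.EssFiniteType.comp K B (FractionRing B)
    haveI : IsNoetherianRing (L ⊗[K] FractionRing B) := Algebra.EssFiniteType.isNoetherianRing L _
    haveI : IsNoetherianRing (FractionRing B ⊗[K] L) :=
      isNoetherianRing_of_ringEquiv _ (Algebra.TensorProduct.comm K L (FractionRing B)).toRingEquiv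
    have gen : ∀ (R A : Type u) [Field R] [CommRing A] [Algebra R A] [Algebra.IsIntegral R A] [IsNoetherianRing A],
        Finite (PrimeSpectrum A) := by
      intro R A _ _ _ _ _
      haveI : Ring.KrullDimLE 0 A := Ring.KrullDimLE.mk₀ fun I hI => by
        refine Ideal.isMaximal_of_isIntegral_of_isMaximal_comap (R := R) I ?_
        rw [Ideal.eq_bot_of_prime (Ideal.comap (algebraMap R A) I)]
        exact Ideal.bot_isMaximal
      haveI : IsArtinianRing A := isArtinianRing_iff_isNoetherianRing_krullDimLE_zero.mpr ⟨inferInstance, inferInstance⟩
      infer_instance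
    haveI : Algebra.IsIntegral (FractionRing B) (FractionRing B ⊗[K] L) := inferInstance
    exact gen (FractionRing B) _
  · intro P Q
    let f : Spec (CommRingCat.of (FractionRing B)) ⟶ Spec (CommRingCat.of K) :=
      Spec.map (CommRingCat.ofHom (algebraMap K (FractionRing B)))
    let e := pullbackSpecIso K (FractionRing B) L
    have hsub : pullback.fst f _ (e.inv P) = pullback.fst f _ (e.inv Q) := by
      haveI : Subsingleton ↥(Spec (CommRingCat.of (FractionRing B))) :=
        inferInstanceAs (Subsingleton (PrimeSpectrum (FractionRing B)))
      exact Subsingleton.elim _ _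
    obtain ⟨σ, hσ⟩ := Groth.Agent.H22Alg.GaloisFibres.exists_smul_eq f L hsub
    refine ⟨σ, ?_⟩
    have key : Spec.map (CommRingCat.ofHom (Algebra.TensorProduct.map (AlgHom.id K (FractionRing B)) (σ : L →ₐ[K] L)).toRingHom) ≫ e.inv =
        e.inv ≫ Groth.Agent.H22Alg.GaloisFibres.act f L σ := by
      refine pullback.hom_ext ?_ ?_
      · refine Eq.trans ?_ ((Category.assoc _ _ _).trans (congrArg (e.inv ≫ ·) (Groth.Agent.H22Alg.GaloisFibres.act_fst f L σ))).symm
        rw [Category.assoc, pullbackSpecIso_inv_fst, ← Spec.map_comp]
        congr 1
        ext x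
        exact Algebra.TensorProduct.map_tmul _ _ x 1 |>.trans (by simp)
      · refine Eq.trans ?_ ((Category.assoc _ _ _).trans (congrArg (e.inv ≫ ·) (Groth.Agent.H22Alg.GaloisFibres.act_snd f L σ))).symm
        rw [Category.assoc, pullbackSpecIso_inv_snd, pullbackSpecIso_inv_snd_assoc, ← Spec.map_comp, ← Spec.map_comp]
        congr 1
    have h1 : Groth.Agent.H22Alg.GaloisFibres.act f L σ (e.inv P) = e.inv Q := by
      rw [← hσ, Groth.Agent.H22Alg.GaloisFibres.smul_eq, ← Scheme.Hom.comp_apply, ← Groth.Agent.H22Alg.GaloisFibres.act_mul,
        inv_mul_cancel, Groth.Agent.H22Alg.GaloisFibres.act_one]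
      rfl
    have h2 : Spec.map (CommRingCat.ofHom (Algebra.TensorProduct.map (AlgHom.id K (FractionRing B)) (σ : L →ₐ[K] L)).toRingHom) P = Q := by
      apply (e.inv.isOpenEmbedding).injective
      rw [← h1, ← Scheme.Hom.comp_apply, key]
      rfl
    exact (congrArg PrimeSpectrum.asIdeal h2).symm

end Groth.Agent.S19477
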