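import Groth.Statements.S19478
import Groth.Agent.H02CA.PtDual.Point
import Groth.Agent.H16Derived.Dual.Main
import Groth.Agent.H16Derived.ProjFormula.ClosedImm
import Groth.Agent.H19Grp.RegularSmooth
import Groth.Agent.S7822
import Groth.Agent.S0354
import Groth.Agent.LeadDev.Sub
import Groth.Agent.H4DR.Dualizing.GorensteinFibre
import Groth.Agent.S0299
import Groth.Agent.S5170
import Groth.Agent.H02CA.FibreVanish.Main

set_option autoImplicit false
universe u
open CategoryTheory CategoryTheory.Limits MonoidalCategory CartesianMonoidalCategory MonObj GrpObj AlgebraicGeometry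
attribute [local instance] HasDerivedCategory.standard
open AbVar

namespace Groth.Agent.S19478

/-- Let k be an algebraically closed field of characteristic zero and A an abelian variety over k (a
proper smooth k-group scheme with geometrically connected fibres) of dimension g, with unit section
e : Spec k → A, and let k(0) = e_*O_{Spec k} be the skyscraper sheaf at the unit point. Regard k(0)
as a complex in degree 0 and form RHom(k(0), O_A) in the derived category of O_A-modules (the
derived functors involved are assumed to exist); its cohomology sheaves are the sheaves Ext^p(k(0),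
O_A). Then Ext^p(k(0), O_A) = 0 for every natural number p < g, and Ext^g(k(0), O_A) is isomorphic
to k(0) (existence of an isomorphism). -/
theorem result (k : Type u) [Field k] [IsAlgClosed k] [CharZero k]
    (A : Over (Spec (CommRingCat.of k))) [GrpObj A] [IsProper A.hom] [Smooth A.hom] [GeometricallyConnected A.hom]
    (g : ℕ) (hg : topologicalKrullDim ↥A.left = g)
    [DCoh.HasLTensorCx ((HomologicalComplex.single A.left.Modules (ComplexShape.up ℤ) 0).obj ((Scheme.Modules.pushforward η[A].left).obj (Coh.structureModule (Spec (CommRingCat.of k)))))] [DCoh.HasRSheafHom ((HomologicalComplex.single A.left.Modules (ComplexShape.up ℤ) 0).obj ((Scheme.Modules.pushforward η[A].left).obj (Coh.structureModule (Spec (CommRingCat.of k)))))] :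
    (∀ p : ℕ, p < g → IsZero (DCoh.HD ((DCoh.RSheafHom ((HomologicalComplex.single A.left.Modules (ComplexShape.up ℤ) 0).obj ((Scheme.Modules.pushforward η[A].left).obj (Coh.structureModule (Spec (CommRingCat.of k)))))).obj (DCoh.inD A.left (Coh.structureModule A.left))) (p : ℤ))) ∧
      Nonempty ((DCoh.HD ((DCoh.RSheafHom ((HomologicalComplex.single A.left.Modules (ComplexShape.up ℤ) 0).obj ((Scheme.Modules.pushforward η[A].left).obj (Coh.structureModule (Spec (CommRingCat.of k)))))).obj (DCoh.inD A.left (Coh.structureModule A.left))) (g : ℤ)) ≅ ((Scheme.Modules.pushforward η[A].left).obj (Coh.structureModule (Spec (CommRingCat.of k))))) := by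
  open Groth.Agent in
  open Groth.Agent.H16Derived in
  exact (by
    let ee : Spec (CommRingCat.of k) ⟶ A.left := η[A].left
    let x : A.left := ee (IsLocalRing.closedPoint k)
    haveI : IsLocallyNoetherian A.left := LocallyOfFiniteType.isLocallyNoetherian A.hom
    haveI : CompactSpace A.left := QuasiCompact.compactSpace_of_compactSpace A.hom
    haveI : AlgebraicGeometry.IsNoetherian A.left := {}
    haveI hee : IsClosedImmersion ee := by
      haveI : IsClosedImmersion (η[A].left ≫ A.hom) := by
        rw [Over.w η[A]]
        exact inferInstanceAs (IsClosedImmersion (𝟙 (Spec (CommRingCat.of k))))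
      exact IsClosedImmersion.of_comp η[A].left A.hom
    haveI : Subsingleton (Spec (CommRingCat.of k)) := inferInstanceAs (Subsingleton (PrimeSpectrum k))
    have hrange : Set.range ee = {x} := by
      ext y
      exact ⟨fun ⟨q, hq⟩ => hq ▸ congrArg ee (Subsingleton.elim q _), fun h => ⟨_, h.symm⟩⟩
    have hx : IsClosed ({x} : Set A.left) := hrange ▸ ee.isClosedEmbedding.isClosed_range
    have hreg : ∀ y : A.left, IsRegularLocalRing (A.left.presheaf.stalk y) :=
      H19Grp.isRegularLocalRing_stalk_of_smooth A.hom
    have hdim : ∀ V : A.left.Opens, IsAffineOpen V → ringKrullDim Γ(A.left, V) < ⊤ := fun V hV => by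
      letI : Algebra k Γ(A.left, V) := ((Scheme.ΓSpecIso (.of k)).inv ≫
        A.hom.appLE ⊤ V le_top).hom.toAlgebra
      haveI : Algebra.FiniteType k Γ(A.left, V) := by
        refine (RingHom.FiniteType.comp
          (LocallyOfFiniteType.finiteType_appLE A.hom (isAffineOpen_top _) hV le_top)
          (RingHom.FiniteType.of_surjective (Scheme.ΓSpecIso (.of k)).inv.hom ?_) : RingHom.FiniteType _)
        exact (Scheme.ΓSpecIso (.of k)).symm.commRingCatIsoToRingEquiv.surjective
      refine H4DR.Dualizing.ringKrullDim_lt_top_of_finiteType (A := k) ?_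
      rw [ringKrullDim_eq_zero_of_field]
      decide
    have hd : ringKrullDim (A.left.presheaf.stalk x) = g :=
      (H19Grp.ringKrullDim_stalk_ePt (H19Grp.grpToGrpd A) (Iso.refl _)).trans hg
    let F : A.left.Modules := (Scheme.Modules.pushforward ee).obj (Coh.structureModule (Spec (CommRingCat.of k)))
    have hF : Coh.IsCoh F := LeadDev.isCoh_push_structure ee
    have hsF : CohB1.support F ⊆ {x} := fun y hy => by
      by_contra hne
      exact hy (ProjFormula.subsingleton_stalk_push ee _ y fun h => hne (hrange ▸ h))
    let R := A.left.presheaf.stalk x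
    let q : Spec (CommRingCat.of k) := IsLocalRing.closedPoint k
    have hsimple : IsSimpleModule R (F.presheaf.stalk x) := by
      let p := ProjFormula.pushStalk ee (Coh.structureModule (Spec (CommRingCat.of k))) q
      have hp := ProjFormula.pushStalk_bijective ee (Coh.structureModule (Spec (CommRingCat.of k))) q
      have hf : Function.Surjective (ee.stalkMap q).hom := ee.stalkMap_surjective q
      let G := Coh.structureModule (Spec (CommRingCat.of k))
      have hg := H02CA.FibreVanish.bijective_germ_top' G q
      have hfld : IsField Γ(Spec (CommRingCat.of k), ⊤) :=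
        (Scheme.ΓSpecIso (CommRingCat.of k)).commRingCatIsoToRingEquiv.toMulEquiv.isField (Field.toIsField k)
      have key : ∀ a b : F.presheaf.stalk x, a ≠ 0 → ∃ r : R, r • a = b := fun a b ha => by
        obtain ⟨s, hs⟩ := hg.2 (p a)
        obtain ⟨t, ht⟩ := hg.2 (p b)
        have hs0 : (show Γ(Spec (CommRingCat.of k), ⊤) from s) ≠ 0 := fun h0 => ha (hp.1 (by
          rw [← hs, map_zero]
          exact (congrArg (G.presheaf.germ ⊤ q trivial) h0).trans (map_zero _)))
        obtain ⟨s', hs'⟩ := hfld.mul_inv_cancel hs0
        obtain ⟨r, hr⟩ := hf ((Spec (CommRingCat.of k)).presheaf.germ ⊤ q trivial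
          ((show Γ(Spec (CommRingCat.of k), ⊤) from t) * s'))
        refine ⟨r, hp.1 ((ProjFormula.pushStalk_smul ee G q r a).trans ?_)⟩
        refine (congrArg₂ (· • ·) hr hs.symm).trans ((H06Mod.germ_smul G ⊤ (x := q) trivial _ s).symm.trans ?_)
        refine Eq.trans (congrArg (G.presheaf.germ ⊤ q trivial) ?_) ht
        show (show Γ(Spec (CommRingCat.of k), ⊤) from t) * s' * (show Γ(Spec (CommRingCat.of k), ⊤) from s) = _
        rw [_root_.mul_assoc, mul_comm s', hs', _root_.mul_one]
      haveI : Nontrivial (F.presheaf.stalk x) := by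
        obtain ⟨a, ha⟩ := hp.2 (G.presheaf.germ ⊤ q trivial (show Γ(Spec (CommRingCat.of k), ⊤) from 1))
        refine ⟨a, 0, fun h0 => ?_⟩
        subst h0
        rw [map_zero] at ha
        have h1 : (show Γ(Spec (CommRingCat.of k), ⊤) from 1) = 0 := hg.1 (ha.symm.trans (map_zero _).symm)
        exact hfld.exists_pair_ne.elim fun u ⟨v, huv⟩ => huv
          ((_root_.mul_one u).symm.trans ((congrArg (u * ·) h1).trans ((mul_zero u).trans
            ((mul_zero v).symm.trans ((congrArg (v * ·) h1.symm).trans (_root_.mul_one v))))))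
      refine isSimpleModule_iff_toSpanSingleton_surjective.2 ⟨inferInstance, fun a ha b => ?_⟩
      obtain ⟨r, hr⟩ := key a b ha
      exact ⟨r, hr⟩
    have hfl : IsFiniteLength R (F.presheaf.stalk x) := by
      haveI := hsimple
      exact Module.length_ne_top_iff.1 (by rw [Module.length_eq_one R (F.presheaf.stalk x)]; exact ENat.one_ne_top)
    obtain ⟨E, _, _, ιE, hιE⟩ := S0299.result R (IsLocalRing.ResidueField R)
    haveI := hreg x
    have hlen : Module.length R (F.presheaf.stalk x →ₗ[R] E) = 1 := by
      haveI := hsimple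
      rw [S5170.result R E ιE hιE _ hfl]
      exact Module.length_eq_one R _
    haveI hs2 : IsSimpleModule R (F.presheaf.stalk x →ₗ[R] E) := Module.length_eq_one_iff.1 hlen
    obtain ⟨e₁⟩ : Nonempty (F.presheaf.stalk x ≃ₗ[R] (F.presheaf.stalk x →ₗ[R] E)) := by
      haveI := hsimple
      obtain ⟨I, hI, ⟨a⟩⟩ := isSimpleModule_iff_quot_maximal.1 hsimple
      obtain ⟨J, hJ, ⟨b⟩⟩ := isSimpleModule_iff_quot_maximal.1 hs2
      exact ⟨a.trans ((Submodule.quotEquivOfEq _ _ ((IsLocalRing.eq_maximalIdeal hI).trans
        (IsLocalRing.eq_maximalIdeal hJ).symm)).trans b.symm)⟩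
    obtain ⟨er⟩ := H02CA.PtDual.nonempty_ro_iso hreg hdim hx g hd E ιE hιE F F hF hsF hsF e₁
    let W := (HomologicalComplex.single A.left.Modules (ComplexShape.up ℤ) 0).obj F
    let es : (shiftFunctor (DCoh.D A.left) (-(g : ℤ))).obj (DCoh.inD A.left F) ≅
        (DerivedCategory.singleFunctor A.left.Modules (g : ℤ)).obj F :=
      ((DerivedCategory.singleFunctors A.left.Modules).shiftIso (-(g : ℤ)) (g : ℤ) 0 (by omega)).app F
    let e : (DCoh.RSheafHom W).obj (DCoh.inD A.left (Coh.structureModule A.left)) ≅
        (DerivedCategory.singleFunctor A.left.Modules (g : ℤ)).obj F :=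
      Dual.dualIso W ≪≫ Dual.roIso ((DerivedCategory.singleFunctorIsoCompQ A.left.Modules 0).app F) ≪≫ er ≪≫ es
    refine ⟨fun p hp => IsZero.of_iso ?_ ((DerivedCategory.homologyFunctor _ (p : ℤ)).mapIso e), ⟨
      (DerivedCategory.homologyFunctor _ (g : ℤ)).mapIso e ≪≫
        (DerivedCategory.singleFunctorCompHomologyFunctorIso _ (g : ℤ)).app F⟩⟩
    exact DerivedCategory.isZero_of_isGE _ (g : ℤ) (p : ℤ) (by omega))

end Groth.Agent.S19478
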