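import Groth.Statements.S19479
import Groth.Agent.H20Comod.DualMod

set_option autoImplicit false
universe u v w
open HopfRep

namespace Groth.Agent.S19479
open scoped Groth.Agent.H20Comod
open Groth.Agent.H20Comod

open TensorProduct in
/-- Let K be a field, C a K-coalgebra and V a right C-comodule. The following are equivalent: (i) V is
the internal direct sum of a family of simple subcomodules, i.e. there is an independent family of
subcomodules W_i with sum V, each W_i nonzero and having no subcomodules inside it other than 0 and
W_i; (ii) every subcomodule of V has a complementary subcomodule. A subcomodule is a subspace W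
whose coaction lands in the image of W ⊗ C. (The source states this for left comodules; a left
comodule over C is a right comodule over the co-opposite coalgebra, so the statement is the same.) -/
theorem result {K : Type u} {C : Type v} [Field K]
    [AddCommGroup C] [Module K C] [Coalgebra K C] (V : Type w) [AddCommGroup V] [Module K V] [HopfRep.Comod K C V] :
    (∃ (ι : Type w) (W : ι → Submodule K V), iSupIndep W ∧ iSup W = ⊤ ∧ ∀ i,
        HopfRep.IsSubcomod (k := K) (A := C) (W i) ∧ W i ≠ ⊥ ∧
          ∀ W' : Submodule K V, HopfRep.IsSubcomod (k := K) (A := C) W' → W' ≤ W i → W' = ⊥ ∨ W' = W i) ↔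
      HopfRep.IsSemisimpleComod K C V := by
  constructor
  · rintro ⟨ι, W, -, htop, hW⟩
    rw [isSemisimpleComod_iff]
    refine isSemisimpleModule_of_isSemisimpleModule_submodule' (p := fun i => toSub (W i) (hW i).1) (fun i => ?_) ?_
    · haveI : IsSimpleModule (DualAlg K C) ↥(toSub (W i) (hW i).1) := by
        refine isSimpleModule_iff_isAtom.2 ⟨fun e => (hW i).2.1 (by rw [← restrictScalars_toSub (W i) (hW i).1, e]; rfl),
          fun q hq => ?_⟩
        rcases (hW i).2.2 (q.restrictScalars K) (isSubcomod_restrictScalars q) hq.le with e | e
        · exact Submodule.restrictScalars_injective K (DualAlg K C) V (by rw [e]; rfl)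
        · exact absurd (Submodule.restrictScalars_injective K (DualAlg K C) V
            (by rw [e, restrictScalars_toSub])) hq.ne
      infer_instance
    · rw [eq_top_iff]
      intro x _
      have hx : x ∈ ⨆ i, W i := htop ▸ Submodule.mem_top
      induction hx using Submodule.iSup_induction' with
      | mem i y hy => exact Submodule.mem_iSup_of_mem i hy
      | zero => exact zero_mem _
      | add a b _ _ ha hb => exact add_mem (ha trivial) (hb trivial)
  · intro h
    haveI := (isSemisimpleComod_iff (k := K) (A := C)).1 h
    obtain ⟨s, hind, hsup, hs⟩ := IsSemisimpleModule.exists_sSupIndep_sSup_simples_eq_top (DualAlg K C) V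
    refine ⟨s, fun i => (i : Submodule (DualAlg K C) V).restrictScalars K, ?_, ?_, fun i => ?_⟩
    · rw [sSupIndep_iff] at hind
      intro i
      refine disjoint_iff_inf_le.2 fun x hx => ?_
      obtain ⟨hx1, hx2⟩ := hx
      refine (hind i).le_bot ⟨hx1, ?_⟩
      clear hx1
      show x ∈ ⨆ j, ⨆ (_ : j ≠ i), ((j : Submodule (DualAlg K C) V))
      · have := hx2
        clear hx2
        rw [iSup_subtype'] at this ⊢
        induction this using Submodule.iSup_induction' with
        | mem j y hy => exact Submodule.mem_iSup_of_mem j hy
        | zero => exact zero_mem _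
        | add a b _ _ ha hb => exact add_mem ha hb
    · rw [eq_top_iff]
      intro x _
      have hx : x ∈ sSup s := hsup ▸ Submodule.mem_top
      rw [sSup_eq_iSup'] at hx
      induction hx using Submodule.iSup_induction' with
      | mem i y hy => exact Submodule.mem_iSup_of_mem i hy
      | zero => exact zero_mem _
      | add a b _ _ ha hb => exact add_mem (ha trivial) (hb trivial)
    · haveI := hs i.1 i.2
      have hat := isSimpleModule_iff_isAtom.1 (hs i.1 i.2)
      refine ⟨isSubcomod_restrictScalars _, fun e => hat.1 (Submodule.restrictScalars_injective K (DualAlg K C) V (by exact e.trans rfl)),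
        fun W' hW' hle => ?_⟩
      refine (hat.le_iff.1 (show toSub W' hW' ≤ i.1 from hle)).imp (fun e => ?_) (fun e => ?_)
      · rw [← restrictScalars_toSub W' hW', e]; rfl
      · rw [← restrictScalars_toSub W' hW', e]

end Groth.Agent.S19479
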