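import Groth.Statements.S19480
import Groth.Agent.H27Quiet.Frobenius
import Groth.Agent.S5776

set_option autoImplicit false
open CategoryTheory AlgebraicGeometry MvPolynomial
universe u
open Quiet

namespace Groth.Agent.S19480

/-- Let k be a perfect field of prime characteristic p, A a smooth k-algebra of characteristic p and
t_1, …, t_n a regular sequence in A, so that A₀ = A/(t_1^p, …, t_n^p) is a p-good algebra when A has
a system of parameters; let v_1, …, v_m ∈ A[Y_1, …, Y_r] have images forming a regular sequence in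
A₀[Y_1, …, Y_r], and put B_0 = A[Y]/(t_1^p, …, t_n^p, v_1, …, v_m). Identify A^{1/p} with A as a
ring, so that u_i = t_i^p and the Frobenius x ↦ x^p of A[Y] carries the ideal (t_i^p, v_j) into
(u_i^p, v_j^p) = (t_i^{p²}, v_j^p). Then: (ii) (t_1^{p²}, …, t_n^{p²}, v_1^p, …, v_m^p) is a regular
sequence in A[Y]; (iii) the induced ring map β : B_0 → B = A[Y]/(t_i^{p²}, v_j^p) is faithfully flat
and Spec β is an extraction of p-th roots, i.e. every point of Spec B_0 has an affine open
neighbourhood with affine preimage over which the ring map is a tower of finitely many elementary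
extractions R → R[x]/(x^p − a). (The published statement also assumes B_0 faithfully flat and
syntomic over A₀ and A good; these are not used for (ii) and (iii) and are not assumed here. The v_j
are taken in A[Y] rather than in A₀[Y], which is how their p-th powers in A^{1/p}[Y] are meant.) -/
theorem result (p : ℕ) [Fact p.Prime]
    (k : Type u) [Field k] [CharP k p] [PerfectRing k p] (A : Type u) [CommRing A] [Algebra k A]
    [CharP A p] [Algebra.Smooth k A] (n : ℕ) (t : Fin n → A) (ht : RingTheory.Sequence.IsRegular A (List.ofFn t))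
    (r m : ℕ) (v : Fin m → MvPolynomial (Fin r) A)
    (hv : RingTheory.Sequence.IsRegular
      (MvPolynomial (Fin r) A ⧸ Ideal.span (Set.range fun i => C (t i) ^ p))
      (List.ofFn fun j => Ideal.Quotient.mk (Ideal.span (Set.range fun i => C (t i) ^ p)) (v j))) :
    RingTheory.Sequence.IsRegular (MvPolynomial (Fin r) A)
        (List.ofFn (fun i => C (t i) ^ (p ^ 2)) ++ List.ofFn (fun j => v j ^ p)) ∧
      (Ideal.quotientMap ((Ideal.span (Set.range (fun i => C (t i) ^ p) ∪ Set.range v)).map (frobenius (MvPolynomial (Fin r) A) p)) (frobenius (MvPolynomial (Fin r) A) p) Ideal.le_comap_map).FaithfullyFlat ∧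
      Quiet.IsPthRoot p (Spec.map (CommRingCat.ofHom (Ideal.quotientMap ((Ideal.span (Set.range (fun i => C (t i) ^ p) ∪ Set.range v)).map (frobenius (MvPolynomial (Fin r) A) p)) (frobenius (MvPolynomial (Fin r) A) p) Ideal.le_comap_map))) := by
  let P : CommRingCat.{u} := CommRingCat.of (MvPolynomial (Fin r) A)
  have hP : (p : P) = 0 := CharP.cast_eq_zero (MvPolynomial (Fin r) A) p
  haveI : Algebra.Smooth A (MvPolynomial (Fin r) A) := { }
  haveI : Algebra.Smooth k (MvPolynomial (Fin r) A) := Algebra.Smooth.comp k A _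
  have hk : Function.Bijective fun x : k => x ^ p := bijective_frobenius k p
  have hF := Groth.Agent.H27Quiet.locTower_frobC_of_smooth (CommRingCat.of k) (CharP.cast_eq_zero k p) hk P hP
  have eF : frobenius (MvPolynomial (Fin r) A) p = (Groth.Agent.H27Quiet.frobC p P hP).hom :=
    RingHom.ext fun _ => rfl
  have key : ∀ {S T : Type u} [CommRing S] [CommRing T] (f : S →+* T) (rs : List S), f.Flat →
      RingTheory.Sequence.IsWeaklyRegular S rs → RingTheory.Sequence.IsWeaklyRegular T (rs.map f) := by
    intro S T _ _ f rs hf h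
    letI := f.toAlgebra
    haveI : Module.Flat S T := hf
    exact (RingTheory.Sequence.isWeaklyRegular_map_algebraMap_iff T T rs).mpr
      (((TensorProduct.rid S T).isWeaklyRegular_congr rs).mp (h.isWeaklyRegular_lTensor (M₂ := T)))
  set I₀ : Ideal (MvPolynomial (Fin r) A) := Ideal.span (Set.range fun i => C (t i) ^ p) with hI₀
  let L₁ : List (MvPolynomial (Fin r) A) := List.ofFn fun i => C (t i) ^ p
  have hL₁ : Ideal.ofList L₁ = I₀ := by
    rw [hI₀, Ideal.ofList]
    congr 1
    ext x
    simp [L₁, List.mem_ofFn]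
  have h1 : RingTheory.Sequence.IsWeaklyRegular (MvPolynomial (Fin r) A) L₁ := by
    have := key (MvPolynomial.C : A →+* MvPolynomial (Fin r) A) _
      (RingHom.flat_algebraMap_iff.mpr inferInstance)
      (Groth.Agent.S5776.result A A n t (fun _ => p) (fun _ => (Fact.out : p.Prime).one_le) ht.toIsWeaklyRegular)
    simpa [List.map_ofFn, Function.comp_def] using this
  have h2 : RingTheory.Sequence.IsWeaklyRegular (MvPolynomial (Fin r) A) (L₁ ++ List.ofFn v) := by
    rw [RingTheory.Sequence.isWeaklyRegular_append_iff]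
    refine ⟨h1, ?_⟩
    have h3 : RingTheory.Sequence.IsWeaklyRegular (MvPolynomial (Fin r) A ⧸ I₀) (List.ofFn v) := by
      rw [← RingTheory.Sequence.isWeaklyRegular_map_algebraMap_iff (MvPolynomial (Fin r) A ⧸ I₀)
        (MvPolynomial (Fin r) A ⧸ I₀), List.map_ofFn]
      exact hv.toIsWeaklyRegular
    refine ((Submodule.quotEquivOfEq _ _ ?_).isWeaklyRegular_congr _).mp h3
    rw [smul_eq_mul, Ideal.mul_top, hL₁]
  refine ⟨⟨?_, ?_⟩, ?_⟩
  · have := key _ _ hF.flat h2
    simpa [L₁, List.map_append, List.map_ofFn, Function.comp_def, Groth.Agent.H27Quiet.frobC_apply,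
      ← pow_mul, ← sq] using this
  · intro htop
    rw [smul_eq_mul, Ideal.mul_top] at htop
    apply hv.top_ne_smul
    rw [smul_eq_mul, Ideal.mul_top, eq_comm, Ideal.eq_top_iff_one,
      ← map_one (Ideal.Quotient.mk I₀)]
    have hle : Ideal.ofList (List.ofFn (fun i => C (t i) ^ (p ^ 2)) ++ List.ofFn (fun j => v j ^ p)) ≤
        Ideal.comap (Ideal.Quotient.mk I₀) (Ideal.ofList (List.ofFn fun j => Ideal.Quotient.mk I₀ (v j))) := by
      rw [Ideal.ofList, Ideal.span_le]
      intro x hx
      rcases List.mem_append.mp hx with hx | hx <;> obtain ⟨i, rfl⟩ := List.mem_ofFn.mp hx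
      · rw [SetLike.mem_coe, Ideal.mem_comap]
        rw [sq, pow_mul, Ideal.Quotient.eq_zero_iff_mem.mpr
          (Ideal.pow_mem_of_mem _ (hI₀ ▸ Ideal.subset_span ⟨i, rfl⟩) p (Fact.out : p.Prime).pos)]
        exact Ideal.zero_mem _
      · rw [SetLike.mem_coe, Ideal.mem_comap]
        rw [map_pow]
        exact Ideal.pow_mem_of_mem _ (Ideal.subset_span (show Ideal.Quotient.mk I₀ (v i) ∈ {x | x ∈ List.ofFn fun j => Ideal.Quotient.mk I₀ (v j)} from List.mem_ofFn.mpr ⟨i, rfl⟩)) p (Fact.out : p.Prime).pos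
    exact hle (htop ▸ Submodule.mem_top)
  · rw [← hI₀] at *
    set I : Ideal (MvPolynomial (Fin r) A) := Ideal.span (Set.range (fun i => C (t i) ^ p) ∪ Set.range v)
    set J : Ideal (MvPolynomial (Fin r) A) := I.map (frobenius (MvPolynomial (Fin r) A) p)
    let β : CommRingCat.of (MvPolynomial (Fin r) A ⧸ I) ⟶ CommRingCat.of (MvPolynomial (Fin r) A ⧸ J) :=
      CommRingCat.ofHom (Ideal.quotientMap J (frobenius (MvPolynomial (Fin r) A) p) Ideal.le_comap_map)
    let π : P ⟶ CommRingCat.of (MvPolynomial (Fin r) A ⧸ I) := CommRingCat.ofHom (Ideal.Quotient.mk I)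
    let π' : P ⟶ CommRingCat.of (MvPolynomial (Fin r) A ⧸ J) := CommRingCat.ofHom (Ideal.Quotient.mk J)
    have w : Groth.Agent.H27Quiet.frobC p P hP ≫ π' = π ≫ β := by
      apply CommRingCat.hom_ext
      exact RingHom.ext fun _ => rfl
    have hs : ∀ s : Limits.PushoutCocone (Groth.Agent.H27Quiet.frobC p P hP) π,
        ∀ x ∈ J, s.inl.hom x = 0 := by
      intro s x hx
      refine (show J ≤ RingHom.ker s.inl.hom from Ideal.map_le_iff_le_comap.mpr fun y hy => ?_) hx
      change s.inl.hom (Groth.Agent.H27Quiet.frobC p P hP y) = 0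
      refine (congrArg (fun f : P ⟶ s.pt => f y) s.condition).trans ?_
      change s.inr.hom (Ideal.Quotient.mk I y) = 0
      rw [Ideal.Quotient.eq_zero_iff_mem.mpr hy, map_zero]
    have sq : IsPushout (Groth.Agent.H27Quiet.frobC p P hP) π π' β := by
      refine ⟨⟨w⟩, ⟨Limits.PushoutCocone.IsColimit.mk w
        (fun s => CommRingCat.ofHom (Ideal.Quotient.lift J s.inl.hom (hs s))) ?_ ?_ ?_⟩⟩
      · intro s
        rfl
      · intro s
        apply CommRingCat.hom_ext
        refine Ideal.Quotient.ringHom_ext (RingHom.ext fun y => ?_)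
        exact congrArg (fun f : P ⟶ s.pt => f y) s.condition
      · intro s m' h1' h2'
        apply CommRingCat.hom_ext
        refine Ideal.Quotient.ringHom_ext (RingHom.ext fun y => ?_)
        exact congrArg (fun f : P ⟶ s.pt => f y) h1'
    have hβ := hF.baseChange sq
    refine ⟨RingHom.FaithfullyFlat.iff_flat_and_comap_surjective.mpr ⟨hβ.flat, ?_⟩, hβ.isPthRoot⟩
    intro q
    let Q := q.asIdeal.comap (Ideal.Quotient.mk I)
    have hJ : J ≤ Q := Ideal.map_le_iff_le_comap.mpr fun y hy =>
      Ideal.pow_mem_of_mem Q (show Ideal.Quotient.mk I y ∈ q.asIdeal by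
        rw [Ideal.Quotient.eq_zero_iff_mem.mpr hy]; exact Ideal.zero_mem _) p (Fact.out : p.Prime).pos
    have hker : RingHom.ker (Ideal.Quotient.mk J) ≤ Q := by rwa [Ideal.mk_ker]
    haveI : Q.IsPrime := Ideal.comap_isPrime _ _
    refine ⟨⟨Q.map (Ideal.Quotient.mk J), Ideal.map_isPrime_of_surjective Ideal.Quotient.mk_surjective hker⟩,
      PrimeSpectrum.ext (Ideal.ext fun x => ?_)⟩
    obtain ⟨y, rfl⟩ := Ideal.Quotient.mk_surjective x
    change Ideal.Quotient.mk J (y ^ p) ∈ Q.map (Ideal.Quotient.mk J) ↔ Ideal.Quotient.mk I y ∈ q.asIdeal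
    rw [← Ideal.mem_comap, Ideal.comap_map_of_surjective' _ Ideal.Quotient.mk_surjective, sup_eq_left.mpr hker]
    change Ideal.Quotient.mk I (y ^ p) ∈ q.asIdeal ↔ _
    rw [map_pow]
    exact q.isPrime.pow_mem_iff_mem p (Fact.out : p.Prime).pos

end Groth.Agent.S19480
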