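import Groth.Statements.S19481
import Groth.Agent.H3CAlg.GradedVanish

set_option autoImplicit false
universe u
open FiltBl

namespace Groth.Agent.S19481

open LaurentPolynomial in
/-- Let A be a Noetherian local ring that is a quotient of a Gorenstein ring, and F a filtration of
ideals on A (F^0 = A ⊇ F^1 ⊇ ⋯, F^i F^j ⊆ F^{i+j}) with every F^n nonzero and ⋂ F^n = 0, whose Rees
algebra ⊕_{n ≥ 0} F^n X^n is finitely generated over A, with F^1 of height at least 2 and containing
a non-zero-divisor of A. Let R' = ⊕_{n ∈ ℤ} F^n T^n ⊆ A[T, T⁻¹] be the extended Rees algebra, G =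
R'/uR' (u = T⁻¹) the associated graded ring ⊕ F^n/F^{n+1}, and G_+ ⊆ G the ideal generated by the
images of the elements a T^n of R' with n ≥ 1 (the ideal of forms of positive degree). Then for
every integer q ≥ 1: if the local cohomology module H^q_{G_+}(G) vanishes, then H^q_{F^1}(A)
vanishes. (The local cohomology of A here is taken with support in F^1 — equivalently in any ideal
generated by elements of the F^r, r ≥ 1, whose initial forms generate an ideal with radical
containing G_+; it is the local cohomology at the maximal ideal only when F^1 is primary to it. The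
requirement that F^1 contain a non-zero-divisor is the standing assumption of the published text
that no nonzero element of the Rees algebra is killed by a power of its positive-degree ideal.) -/
theorem result (A : Type u) [CommRing A]
    [IsNoetherianRing A] [IsLocalRing A]
    (S : Type u) [CommRing S] [LocCoh.IsGorensteinRing S] (π : S →+* A) (hπ : Function.Surjective π)
    (𝓕 : FiltBl.IdealFiltration A) (hne : ∀ n, 𝓕.F n ≠ ⊥) (hsep : ⨅ n, 𝓕.F n = ⊥)
    (hfg : Algebra.FiniteType A 𝓕.rees) (hht : 2 ≤ (𝓕.F 1).height)
    (hnzd : ∃ x ∈ 𝓕.F 1, x ∈ nonZeroDivisors A)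
    (q : ℕ) (hq : 1 ≤ q)
    (hG : Subsingleton (LocCoh.H
      ((Ideal.span {x : 𝓕.extRees | ∃ n : ℤ, 0 < n ∧ ∃ a : A, (x : A[T;T⁻¹]) = C a * T n}).map
        (Ideal.Quotient.mk (Ideal.span {𝓕.u}))) q 𝓕.Gr)) :
    Subsingleton (LocCoh.H (𝓕.F 1) q A) := by
  exact Groth.Agent.H3CAlg.GradedVanish.subsingleton_H_F_one 𝓕 hfg q hG

end Groth.Agent.S19481
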