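import Groth.Statements.S19482
import Groth.Agent.H23SS.EssFinite

set_option autoImplicit false
universe u
open CategoryTheory CategoryTheory.Limits AlgebraicGeometry
open VBCurve

namespace Groth.Agent.S19482

/-- Let X be a smooth proper integral curve over an algebraically closed field k. Say that a finite
locally free O_X-module E of rank r is essentially finite if it is slope-semistable of degree 0
(degree = χ(E) − r·χ(O_X); semistable: every finite locally free submodule of positive rank has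
degree ≤ 0) and there exist a finite locally free module G which is finite in the sense of Weil —
P(G) ≅ Q(G) for two distinct polynomials P ≠ Q with natural-number coefficients, where P(G) is the
direct sum over i of P_i copies of G^{⊗ i} — and sub-bundles F₂ ⊆ F₁ ⊆ G (monomorphisms F₂ → F₁ → G
whose cokernels are finite locally free), with F₁ and F₂ slope-semistable of degree 0, such that E ≅
F₁/F₂. If E₁ of rank r₁ and E₂ of rank r₂ are essentially finite, then E₁ ⊗ E₂ is finite locally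
free of rank r₁ r₂ and essentially finite. (The predicate is written out in full three times; the
curve is smooth, proper and integral of dimension one over an algebraically closed field, so
slope-semistability has its usual meaning.) -/
theorem result (k : Type u) [Field k] [IsAlgClosed k] (X : Scheme.{u}) [X.Over (Spec (CommRingCat.of k))]
    [IsIntegral X] [IsProper (X ↘ Spec (CommRingCat.of k))] [Smooth (X ↘ Spec (CommRingCat.of k))]
    (hdim : topologicalKrullDim X = 1)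
    (r₁ r₂ : ℕ) (E₁ E₂ : X.Modules) (hE₁ : FlatMod.IsFinLocFreeOfRank r₁ E₁) (hE₂ : FlatMod.IsFinLocFreeOfRank r₂ E₂)
    (h₁ : (Curv2.deg k X E₁ r₁ = 0 ∧ ModFun.IsSlopeSemistable k X E₁ r₁ ∧
      ∃ (s : ℕ) (G : X.Modules) (s₁ : ℕ) (F₁ : X.Modules) (s₂ : ℕ) (F₂ : X.Modules) (i₁ : F₁ ⟶ G) (i₂ : F₂ ⟶ F₁),
        FlatMod.IsFinLocFreeOfRank s G ∧
        (∃ P Q : Polynomial ℕ, P ≠ Q ∧ Nonempty ((∐ fun i : Fin (P.natDegree + 1) => ∐ fun _ : Fin (P.coeff ↑i) => CohB1.tensorPow G ↑i) ≅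
          (∐ fun i : Fin (Q.natDegree + 1) => ∐ fun _ : Fin (Q.coeff ↑i) => CohB1.tensorPow G ↑i))) ∧
        FlatMod.IsFinLocFreeOfRank s₁ F₁ ∧ FlatMod.IsFinLocFreeOfRank s₂ F₂ ∧ Mono i₁ ∧ Mono i₂ ∧
        FlatMod.IsFinLocFree (cokernel i₁) ∧ FlatMod.IsFinLocFree (cokernel i₂) ∧
        Curv2.deg k X F₁ s₁ = 0 ∧ ModFun.IsSlopeSemistable k X F₁ s₁ ∧
        Curv2.deg k X F₂ s₂ = 0 ∧ ModFun.IsSlopeSemistable k X F₂ s₂ ∧
        Nonempty (E₁ ≅ cokernel i₂)))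
    (h₂ : (Curv2.deg k X E₂ r₂ = 0 ∧ ModFun.IsSlopeSemistable k X E₂ r₂ ∧
      ∃ (s : ℕ) (G : X.Modules) (s₁ : ℕ) (F₁ : X.Modules) (s₂ : ℕ) (F₂ : X.Modules) (i₁ : F₁ ⟶ G) (i₂ : F₂ ⟶ F₁),
        FlatMod.IsFinLocFreeOfRank s G ∧
        (∃ P Q : Polynomial ℕ, P ≠ Q ∧ Nonempty ((∐ fun i : Fin (P.natDegree + 1) => ∐ fun _ : Fin (P.coeff ↑i) => CohB1.tensorPow G ↑i) ≅
          (∐ fun i : Fin (Q.natDegree + 1) => ∐ fun _ : Fin (Q.coeff ↑i) => CohB1.tensorPow G ↑i))) ∧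
        FlatMod.IsFinLocFreeOfRank s₁ F₁ ∧ FlatMod.IsFinLocFreeOfRank s₂ F₂ ∧ Mono i₁ ∧ Mono i₂ ∧
        FlatMod.IsFinLocFree (cokernel i₁) ∧ FlatMod.IsFinLocFree (cokernel i₂) ∧
        Curv2.deg k X F₁ s₁ = 0 ∧ ModFun.IsSlopeSemistable k X F₁ s₁ ∧
        Curv2.deg k X F₂ s₂ = 0 ∧ ModFun.IsSlopeSemistable k X F₂ s₂ ∧
        Nonempty (E₂ ≅ cokernel i₂))) :
    FlatMod.IsFinLocFreeOfRank (r₁ * r₂) (CohB1.tensorMod E₁ E₂) ∧
    (Curv2.deg k X (CohB1.tensorMod E₁ E₂) (r₁ * r₂) = 0 ∧ ModFun.IsSlopeSemistable k X (CohB1.tensorMod E₁ E₂) (r₁ * r₂) ∧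
      ∃ (s : ℕ) (G : X.Modules) (s₁ : ℕ) (F₁ : X.Modules) (s₂ : ℕ) (F₂ : X.Modules) (i₁ : F₁ ⟶ G) (i₂ : F₂ ⟶ F₁),
        FlatMod.IsFinLocFreeOfRank s G ∧
        (∃ P Q : Polynomial ℕ, P ≠ Q ∧ Nonempty ((∐ fun i : Fin (P.natDegree + 1) => ∐ fun _ : Fin (P.coeff ↑i) => CohB1.tensorPow G ↑i) ≅
          (∐ fun i : Fin (Q.natDegree + 1) => ∐ fun _ : Fin (Q.coeff ↑i) => CohB1.tensorPow G ↑i))) ∧
        FlatMod.IsFinLocFreeOfRank s₁ F₁ ∧ FlatMod.IsFinLocFreeOfRank s₂ F₂ ∧ Mono i₁ ∧ Mono i₂ ∧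
        FlatMod.IsFinLocFree (cokernel i₁) ∧ FlatMod.IsFinLocFree (cokernel i₂) ∧
        Curv2.deg k X F₁ s₁ = 0 ∧ ModFun.IsSlopeSemistable k X F₁ s₁ ∧
        Curv2.deg k X F₂ s₂ = 0 ∧ ModFun.IsSlopeSemistable k X F₂ s₂ ∧
        Nonempty ((CohB1.tensorMod E₁ E₂) ≅ cokernel i₂)) := by
  exact H23SS.essData_tensor (k := k) hdim hE₁ hE₂ h₁.1 h₂.1 h₁.2.2 h₂.2.2

end Groth.Agent.S19482
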