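import Groth.Statements.S19484
import Groth.Agent.H05EGA4.EtCl.SepPoints

set_option autoImplicit false
set_option backward.isDefEq.respectTransparency false
set_option backward.isDefEq.respectTransparency.types false
universe u
open CategoryTheory CategoryTheory.Limits AlgebraicGeometry
open Curves
open scoped Groth.Agent.H18Et

namespace Groth.Agent.S19484

/-- Let k be a separably closed field and C a curve over k, that is a scheme of finite type over k of
dimension at most one (no connectedness, smoothness, separatedness or properness assumed). Let φ : F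
→ G be a morphism of torsion abelian sheaves on the small étale site of C which induces an
isomorphism on stalks at every geometric point of C lying over a generic point of an irreducible
component (a point admitting no proper generalization). Then the induced map H^q(C_ét, F) →
H^q(C_ét, G) is an isomorphism for all q > 1; if moreover φ is an epimorphism, it is an isomorphism
for q = 1 as well. (The published statement fixes one geometric point over each generic point; the
dimension is taken at most one here.) -/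
theorem result
    (k : Type u) [Field k] [IsSepClosed k] (C : Scheme.{u})
    (f : C ⟶ Spec (CommRingCat.of k)) [LocallyOfFiniteType f] [QuasiCompact f]
    (hdim : topologicalKrullDim C ≤ 1) (F G : EtCoh.Ab C) (hF : EtCoh.IsTorsion F) (hG : EtCoh.IsTorsion G)
    (φ : F ⟶ G)
    (hgen : ∀ (Ω : Type u) [Field Ω] [IsSepClosed Ω] (ξ : Spec (CommRingCat.of Ω) ⟶ C),
      (∀ x ∈ Set.range ξ.base, ∀ y : C, y ⤳ x → y = x) → IsIso ((EtCoh.stalk ξ).map φ)) :
    (∀ q : ℕ, 1 < q → IsIso ((EtCoh.HF C q).map φ)) ∧ (Epi φ → IsIso ((EtCoh.HF C 1).map φ)) := by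
  haveI : CompactSpace C := QuasiCompact.compactSpace_of_compactSpace f
  haveI : IsLocallyNoetherian C := LocallyOfFiniteType.isLocallyNoetherian f
  haveI : AlgebraicGeometry.IsNoetherian C := {}
  have hcl := fun x hx => Groth.Agent.H05EGA4.EtCl.isSepClosed_residueField_of_isClosed f x hx
  have acyc : ∀ (A : EtCoh.Ab C), (∀ (Ω : Type u) [Field Ω] [IsSepClosed Ω] (ξ : Spec (CommRingCat.of Ω) ⟶ C),
      (∀ x ∈ Set.range ξ.base, ∀ y : C, y ⤳ x → y = x) → IsZero ((EtCoh.stalk ξ).obj A)) →
      ∀ n, Subsingleton (EtCoh.H C A (n + 1)) := fun A hA n =>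
    Groth.Agent.H05EGA4.EtCl.subsingleton_H_of_maxPts hdim hcl A
      (fun V s v hv => Groth.Agent.H05EGA4.EtCl.notMem_supp_of_stalks A hA V s v
        ((Groth.Agent.H05EGA4.EtCl.isMaxPt_hom_iff V v).2 hv)) n
  have hK : ∀ n, Subsingleton (EtCoh.H C (kernel φ) (n + 1)) := acyc _ fun Ω _ _ ξ h => by
    haveI := hgen Ω ξ h
    exact (isZero_kernel_of_mono ((EtCoh.stalk ξ).map φ)).of_iso (PreservesKernel.iso (EtCoh.stalk ξ) φ)
  have hC : ∀ n, Subsingleton (EtCoh.H C (cokernel φ) (n + 1)) := acyc _ fun Ω _ _ ξ h => by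
    haveI := hgen Ω ξ h
    exact (isZero_cokernel_of_epi ((EtCoh.stalk ξ).map φ)).of_iso (PreservesCokernel.iso (EtCoh.stalk ξ) φ)
  let g := Abelian.factorThruImage φ
  let m := Abelian.image.ι φ
  have hgm : g ≫ m = φ := Abelian.image.fac φ
  have hS₁ : (ShortComplex.mk (kernel.ι φ) g (by
      rw [← cancel_mono m, Category.assoc, hgm, kernel.condition, zero_comp])).ShortExact := by
    letI S₁ : ShortComplex (EtCoh.Ab C) := ShortComplex.mk (kernel.ι φ) g (by
      rw [← cancel_mono m, Category.assoc, hgm, kernel.condition, zero_comp])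
    haveI : Mono S₁.f := inferInstanceAs (Mono (kernel.ι φ))
    haveI : Epi S₁.g := inferInstanceAs (Epi g)
    refine ⟨ShortComplex.exact_of_f_is_kernel _ (KernelFork.IsLimit.ofι _ _
      (fun x hx => kernel.lift φ x (by rw [← hgm, ← Category.assoc, hx, zero_comp]))
      (fun x hx => kernel.lift_ι _ _ _) (fun x hx l hl => ?_))⟩
    rw [← cancel_mono (kernel.ι φ), kernel.lift_ι]
    exact hl
  have hS₂ : (ShortComplex.mk m (cokernel.π φ) (by
      rw [← cancel_epi g, ← Category.assoc, hgm, cokernel.condition, comp_zero])).ShortExact :=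
    { exact := ShortComplex.exact_kernel (cokernel.π φ), mono_f := inferInstanceAs (Mono m),
      epi_g := inferInstanceAs (Epi (cokernel.π φ)) }
  have comp' : ∀ (q : ℕ) (x : EtCoh.H C F q), ((EtCoh.HF C q).map φ) x =
      (x.comp (Abelian.Ext.mk₀ g) (add_zero q)).comp (Abelian.Ext.mk₀ m) (add_zero q) := fun q x => by
    rw [Abelian.Ext.comp_assoc (a₁₂ := q) (a₂₃ := 0) _ _ _ (add_zero q) (add_zero 0) (by omega),
      Abelian.Ext.mk₀_comp_mk₀, hgm]
    rfl
  have hg : ∀ n, Function.Bijective
      fun x : EtCoh.H C F (n + 1) => x.comp (Abelian.Ext.mk₀ g) (add_zero (n + 1)) := fun n => by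
    refine ⟨fun x y hxy => sub_eq_zero.1 ?_, fun y => ?_⟩
    · obtain ⟨z, hz⟩ := Abelian.Ext.covariant_sequence_exact₂ _ hS₁ (x - y)
        (by rw [sub_eq_add_neg, Abelian.Ext.add_comp, Abelian.Ext.neg_comp, ← sub_eq_add_neg]; exact sub_eq_zero.2 hxy)
      rw [← hz, (hK n).elim z 0, Abelian.Ext.zero_comp]
    · exact Abelian.Ext.covariant_sequence_exact₃ _ hS₁ y (rfl : n + 1 + 1 = n + 2) ((hK (n + 1)).elim _ _)
  refine ⟨fun q hq => ?_, fun hφ => ?_⟩
  · obtain ⟨n, rfl⟩ := Nat.exists_eq_add_of_le' hq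
    refine (ConcreteCategory.isIso_iff_bijective _).2 ?_
    have hm : Function.Bijective
        fun y : EtCoh.H C _ (n + 2) => y.comp (Abelian.Ext.mk₀ m) (add_zero (n + 2)) := by
      refine ⟨fun x y hxy => sub_eq_zero.1 ?_, fun y => ?_⟩
      · obtain ⟨z, hz⟩ := Abelian.Ext.covariant_sequence_exact₁ _ hS₂ (x - y)
          (by rw [sub_eq_add_neg, Abelian.Ext.add_comp, Abelian.Ext.neg_comp, ← sub_eq_add_neg]; exact sub_eq_zero.2 hxy)
          (rfl : n + 1 + 1 = n + 2)
        rw [← hz, (hC n).elim z 0, Abelian.Ext.zero_comp]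
      · exact Abelian.Ext.covariant_sequence_exact₂ _ hS₂ y ((hC (n + 1)).elim _ _)
    exact (funext (comp' (n + 1 + 1)) : _ = _) ▸ hm.comp (hg (n + 1))
  · haveI := hφ
    refine (ConcreteCategory.isIso_iff_bijective _).2 ?_
    haveI : Epi m := epi_of_epi_fac hgm
    haveI : IsIso m := isIso_of_mono_of_epi m
    have hm : Function.Bijective fun y : EtCoh.H C _ 1 => y.comp (Abelian.Ext.mk₀ m) (add_zero 1) :=
      Function.bijective_iff_has_inverse.2 ⟨fun y => y.comp (Abelian.Ext.mk₀ (inv m)) (add_zero 1),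
        fun y => by simp [Abelian.Ext.comp_assoc (a₁₂ := 1) (a₂₃ := 0) (a₃ := 0) _ _ _ (add_zero 1) (add_zero 0) (by omega : 1 + 0 + 0 = 1)],
        fun y => by simp [Abelian.Ext.comp_assoc (a₁₂ := 1) (a₂₃ := 0) (a₃ := 0) _ _ _ (add_zero 1) (add_zero 0) (by omega : 1 + 0 + 0 = 1)]⟩
    exact (funext (comp' 1) : _ = _) ▸ hm.comp (hg 0)

end Groth.Agent.S19484
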