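import Groth.Statements.S19485
import Groth.Agent.H23Crimp.Disk

set_option autoImplicit false
universe u
open Crimp

namespace Groth.Agent.S19485

/-- The criterion for closedness under multiplication on which the description of the stratum rests.
Over R = k⟦t⟧ with k an algebraically closed field of characteristic zero, let S̃ = k⟦x⟧ regarded as
an R-algebra through t ↦ x ^ 3, that is S̃ = R[x] / (x ^ 3 - t). Let m, n be natural numbers with m
not divisible by 3, and let g be a power series with nonzero constant term. Then the R-submodule of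
S̃ spanned by 1 and x ^ m g together with the ideal x ^ n S̃ is closed under multiplication if and
only if n ≤ 2m. (The published proposition goes on to describe the stratum of crimps with these
invariants as irreducible of dimension ⌊(n - m)/3⌋ with a normal form for g; only the closedness
criterion is stated here.) -/
theorem result {k : Type u} [Field k] [IsAlgClosed k] [CharZero k]
    (m n : ℕ) (hm : ¬ 3 ∣ m) (x g : W4c1hurwitzcpt.RootDisk 3 k)
    (hx : W4c1hurwitzcpt.RootDisk.val x = PowerSeries.X) (hg : PowerSeries.order (W4c1hurwitzcpt.RootDisk.val g) = 0)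
    (M : Submodule (PowerSeries k) (W4c1hurwitzcpt.RootDisk 3 k))
    (hM : M = Submodule.span (PowerSeries k) {1, x ^ m * g} ⊔
      (Ideal.span {x ^ n} : Ideal (W4c1hurwitzcpt.RootDisk 3 k)).restrictScalars (PowerSeries k)) :
    (∀ a ∈ M, ∀ b ∈ M, a * b ∈ M) ↔ n ≤ 2 * m := by
  set v : W4c1hurwitzcpt.RootDisk 3 k → PowerSeries k := fun z => W4c1hurwitzcpt.RootDisk.val z
  have hmem : ∀ z, z ∈ M ↔ ∃ (a b : PowerSeries k) (w : W4c1hurwitzcpt.RootDisk 3 k),
      z = a • (1 : W4c1hurwitzcpt.RootDisk 3 k) + b • (x ^ m * g) + x ^ n * w := by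
    intro z
    rw [hM, Submodule.mem_sup]
    constructor
    · rintro ⟨y, hy, w', hw', rfl⟩
      obtain ⟨a, b, rfl⟩ := Submodule.mem_span_pair.mp hy
      obtain ⟨w, rfl⟩ := Ideal.mem_span_singleton.mp hw'
      exact ⟨a, b, w, rfl⟩
    · rintro ⟨a, b, w, rfl⟩
      exact ⟨_, Submodule.mem_span_pair.mpr ⟨a, b, rfl⟩, _, Ideal.mem_span_singleton.mpr (dvd_mul_right _ _), rfl⟩
  constructor
  · intro h
    by_contra hlt
    rw [not_le] at hlt
    have hw : x ^ m * g ∈ M := (hmem _).mpr ⟨0, 1, 0, by simp⟩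
    obtain ⟨a, b, w, hz⟩ := (hmem _).mp (h _ hw _ hw)
    have hz' := congrArg W4c1hurwitzcpt.RootDisk.val hz
    simp only [map_add, map_mul, map_pow, Groth.Agent.H23Crimp.val_smul, Groth.Agent.H23Crimp.val_one, mul_one, hx]
      at hz'
    set G := W4c1hurwitzcpt.RootDisk.val g
    obtain ⟨G0, -⟩ := PowerSeries.order_eq_nat.mp (show G.order = ((0 : ℕ) : ℕ∞) by simpa using hg)
    have hm0 : m % 3 ≠ 0 := fun h0 => hm (Nat.dvd_of_mod_eq_zero h0)
    rw [show PowerSeries.expand 3 (NeZero.ne 3) b * (PowerSeries.X ^ m * G) =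
        PowerSeries.X ^ m * (PowerSeries.expand 3 (NeZero.ne 3) b * G) by ring,
      show (PowerSeries.X : PowerSeries k) ^ m * G * (PowerSeries.X ^ m * G) =
        PowerSeries.X ^ (2 * m) * (G * G) by ring] at hz'
    have key : ∀ d, d < n → ¬ 3 ∣ d → PowerSeries.coeff d (PowerSeries.X ^ (2 * m) * (G * G)) =
        PowerSeries.coeff d (PowerSeries.X ^ m * (PowerSeries.expand 3 (NeZero.ne 3) b * G)) := by
      intro d hd h3
      rw [hz', map_add, map_add, PowerSeries.coeff_expand_of_not_dvd 3 (NeZero.ne 3) _ h3, zero_add,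
        PowerSeries.coeff_X_pow_mul' _ n, if_neg (by omega), add_zero]
    have h2m := key (2 * m) (by omega) (by omega)
    rw [PowerSeries.coeff_X_pow_mul', if_pos le_rfl, PowerSeries.coeff_X_pow_mul', if_pos (by omega),
      show 2 * m - m = m by omega, Nat.sub_self] at h2m
    by_cases hb : b = 0
    · subst hb
      simp [PowerSeries.coeff_zero_eq_constantCoeff] at h2m
      exact G0 (by simpa using h2m)
    obtain ⟨j, hj⟩ := ENat.ne_top_iff_exists.mp (PowerSeries.order_eq_top.not.mpr hb)
    have ho : (PowerSeries.expand 3 (NeZero.ne 3) b * G).order = ((3 * j : ℕ) : ℕ∞) := by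
      rw [PowerSeries.order_mul, PowerSeries.order_expand, hg, ← hj, add_zero, nsmul_eq_mul]
      norm_cast
    rcases lt_or_ge (3 * j) m with hlt' | hge
    · have h3j := key (m + 3 * j) (by omega) (by omega)
      rw [PowerSeries.coeff_X_pow_mul', if_neg (by omega), PowerSeries.coeff_X_pow_mul', if_pos (by omega),
        show m + 3 * j - m = 3 * j by omega] at h3j
      exact (PowerSeries.order_eq_nat.mp ho).1 h3j.symm
    · rw [PowerSeries.coeff_of_lt_order m (by rw [ho, Nat.cast_lt]; omega)] at h2m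
      simp [PowerSeries.coeff_zero_eq_constantCoeff] at h2m
      exact G0 (by simpa using h2m)
  · intro hn a ha b hb
    obtain ⟨a₁, a₂, w, rfl⟩ := (hmem a).mp ha
    obtain ⟨b₁, b₂, w', rfl⟩ := (hmem b).mp hb
    obtain ⟨j, hj⟩ := Nat.exists_eq_add_of_le hn
    refine (hmem _).mpr ⟨a₁ * b₁, a₁ * b₂ + a₂ * b₁,
      algebraMap (PowerSeries k) _ (a₂ * b₂) * (x ^ j * g * g) + a₁ • w' + b₁ • w +
      a₂ • (x ^ m * g * w') + b₂ • (x ^ m * g * w) + x ^ n * w * w', ?_⟩
    have hX : x ^ m * x ^ m = x ^ n * x ^ j := by rw [← pow_add, ← pow_add, ← two_mul, hj]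
    simp only [Algebra.smul_def, map_mul, map_add, mul_one]
    linear_combination (algebraMap (PowerSeries k) (W4c1hurwitzcpt.RootDisk 3 k) a₂ *
      algebraMap (PowerSeries k) (W4c1hurwitzcpt.RootDisk 3 k) b₂ * g * g) * hX

end Groth.Agent.S19485
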