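import Groth.Statements.S19486
import Groth.Agent.H23Crimp.Disk

set_option autoImplicit false
universe u
open Crimp

namespace Groth.Agent.S19486

/-- The emptiness of the stratum rests on the following computation. Over R = k⟦t⟧ with k an
algebraically closed field of characteristic zero, let S̃ = S̃₁ × R where S̃₁ = k⟦x⟧ is regarded as
an R-algebra through t ↦ x ^ 2, that is S̃₁ = R[x] / (x ^ 2 - t), with R embedded diagonally in the
product. Let m be odd, n > 2m, and let g be a power series with nonzero constant term. Then the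
R-submodule of S̃ spanned by 1 = (1, 1) and (x ^ m g, 0) together with the ideal x ^ n S̃₁ × 0 is
not closed under multiplication. (The published item concludes that the corresponding stratum of
crimps is empty; only this computation is stated here, with the ideal read as x ^ n S̃₁ × 0.) -/
theorem result {k : Type u} [Field k] [IsAlgClosed k] [CharZero k]
    (m n : ℕ) (hm : Odd m) (hmn : 2 * m < n) (x g : W4c1hurwitzcpt.RootDisk 2 k)
    (hx : W4c1hurwitzcpt.RootDisk.val x = PowerSeries.X) (hg : PowerSeries.order (W4c1hurwitzcpt.RootDisk.val g) = 0)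
    (M : Submodule (PowerSeries k) (W4c1hurwitzcpt.RootDisk 2 k × PowerSeries k))
    (hM : M = Submodule.span (PowerSeries k) {(1 : W4c1hurwitzcpt.RootDisk 2 k × PowerSeries k), (x ^ m * g, 0)} ⊔
      ((Ideal.span {x ^ n} : Ideal (W4c1hurwitzcpt.RootDisk 2 k)).restrictScalars (PowerSeries k)).prod ⊥) :
    ∃ a ∈ M, ∃ b ∈ M, a * b ∉ M := by
  have hw : ((x ^ m * g, 0) : W4c1hurwitzcpt.RootDisk 2 k × PowerSeries k) ∈ M :=
    hM ▸ Submodule.mem_sup_left (Submodule.subset_span (by simp))
  refine ⟨_, hw, _, hw, fun h => ?_⟩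
  rw [hM, Submodule.mem_sup] at h
  obtain ⟨y, hy, ⟨w', c⟩, ⟨hw', hc⟩, hsum⟩ := h
  obtain ⟨a, b, rfl⟩ := Submodule.mem_span_pair.mp hy
  obtain ⟨w, rfl⟩ := Ideal.mem_span_singleton.mp hw'
  have hc0 : c = 0 := hc
  subst hc0
  obtain ⟨h1, h2⟩ := Prod.ext_iff.mp hsum
  simp at h2
  subst h2
  simp only [Prod.fst_add, Prod.fst_mul, Prod.smul_fst, zero_smul, zero_add] at h1
  have h := congrArg W4c1hurwitzcpt.RootDisk.val h1
  simp only [map_add, map_mul, map_pow, Groth.Agent.H23Crimp.val_smul, hx] at h
  set G := W4c1hurwitzcpt.RootDisk.val g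
  obtain ⟨G0, hG⟩ := PowerSeries.order_eq_nat.mp (show G.order = ((0 : ℕ) : ℕ∞) by simpa using hg)
  have key := congrArg (PowerSeries.coeff (2 * m)) h
  rw [map_add, PowerSeries.coeff_X_pow_mul', if_neg (by omega), add_zero,
    show PowerSeries.expand 2 (NeZero.ne 2) b * (PowerSeries.X ^ m * G) =
      PowerSeries.X ^ m * (PowerSeries.expand 2 (NeZero.ne 2) b * G) by ring,
    show (PowerSeries.X : PowerSeries k) ^ m * G * (PowerSeries.X ^ m * G) = PowerSeries.X ^ (2 * m) * (G * G) by ring,
    PowerSeries.coeff_X_pow_mul', if_pos (by omega), PowerSeries.coeff_X_pow_mul', if_pos le_rfl] at key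
  simp only [show 2 * m - m = m by omega, Nat.sub_self] at key
  by_cases hb : b = 0
  · subst hb
    simp [PowerSeries.coeff_zero_eq_constantCoeff] at key
    exact G0 (by simpa using key)
  obtain ⟨j, hj⟩ := ENat.ne_top_iff_exists.mp (PowerSeries.order_eq_top.not.mpr hb)
  have ho : (PowerSeries.expand 2 (NeZero.ne 2) b * G).order = ((2 * j : ℕ) : ℕ∞) := by
    rw [PowerSeries.order_mul, PowerSeries.order_expand, hg, ← hj, add_zero, nsmul_eq_mul]
    norm_cast
  obtain ⟨mm, rfl⟩ := hm
  rcases lt_or_ge (2 * j) (2 * mm + 1) with hlt | hge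
  · have key2 := congrArg (PowerSeries.coeff (2 * mm + 1 + 2 * j)) h
    rw [map_add, PowerSeries.coeff_X_pow_mul' _ n, if_neg (by omega), add_zero,
      show PowerSeries.expand 2 (NeZero.ne 2) b * (PowerSeries.X ^ (2 * mm + 1) * G) =
        PowerSeries.X ^ (2 * mm + 1) * (PowerSeries.expand 2 (NeZero.ne 2) b * G) by ring,
      show (PowerSeries.X : PowerSeries k) ^ (2 * mm + 1) * G * (PowerSeries.X ^ (2 * mm + 1) * G) =
        PowerSeries.X ^ (2 * (2 * mm + 1)) * (G * G) by ring,
      PowerSeries.coeff_X_pow_mul', if_pos (by omega), PowerSeries.coeff_X_pow_mul', if_neg (by omega),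
      show 2 * mm + 1 + 2 * j - (2 * mm + 1) = 2 * j by omega] at key2
    exact (PowerSeries.order_eq_nat.mp ho).1 key2
  · rw [PowerSeries.coeff_of_lt_order (2 * mm + 1) (by rw [ho, Nat.cast_lt]; omega)] at key
    simp [PowerSeries.coeff_zero_eq_constantCoeff] at key
    exact G0 (by simpa using key)

end Groth.Agent.S19486
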