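import Groth.Statements.S19489
import Mathlib

set_option autoImplicit false
open scoped TensorProduct
open ZeroCyc

namespace Groth.Agent.S19489

universe u

variable (p : ℕ) [hp : Fact p.Prime] (k : Type u) [Field k] [CharP k p] (S : Type u) [CommSemiring S] [Algebra k S]

theorem add_pow_p (k : Type u) [Field k] [CharP k p] (S : Type u) [CommSemiring S] [Algebra k S] (s t : S) :
    (s + t) ^ p = s ^ p + t ^ p := by
  rcases subsingleton_or_nontrivial S with h | h
  · exact Subsingleton.elim _ _
  haveI : CharP S p := charP_of_injective_algebraMap (algebraMap k S).injective p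
  exact add_pow_char s t p

/-- The additive map `s ⊗ a ↦ s ^ p ⊗ a`. -/
noncomputable def frobHom : S ⊗[k] FrobAlg.Twist p k →+ S ⊗[k] k :=
  TensorProduct.liftAddHom
    { toFun := fun s : S =>
        { toFun := fun a : FrobAlg.Twist p k => (s ^ p) ⊗ₜ[k] (FrobAlg.toTwist p k).symm a
          map_zero' := by rw [map_zero, TensorProduct.tmul_zero]
          map_add' := fun a b => by rw [map_add, TensorProduct.tmul_add] }
      map_zero' := AddMonoidHom.ext fun a => by
        show ((0 : S) ^ p) ⊗ₜ[k] (FrobAlg.toTwist p k).symm a = 0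
        rw [zero_pow hp.out.ne_zero, TensorProduct.zero_tmul]
      map_add' := fun s t => AddMonoidHom.ext fun a => by
        show ((s + t) ^ p) ⊗ₜ[k] (FrobAlg.toTwist p k).symm a =
          (s ^ p) ⊗ₜ[k] (FrobAlg.toTwist p k).symm a + (t ^ p) ⊗ₜ[k] (FrobAlg.toTwist p k).symm a
        rw [add_pow_p p k S, TensorProduct.add_tmul] }
    (fun c s a => by
      show ((c • s) ^ p) ⊗ₜ[k] (FrobAlg.toTwist p k).symm a = (s ^ p) ⊗ₜ[k] (FrobAlg.toTwist p k).symm (c • a)
      rw [smul_pow, TensorProduct.smul_tmul, Algebra.smul_def c a, FrobAlg.algebraMap_twist, map_mul,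
        RingEquiv.symm_apply_apply, smul_eq_mul])

theorem frobHom_tmul (s : S) (a : FrobAlg.Twist p k) :
    frobHom p k S (s ⊗ₜ[k] a) = (s ^ p) ⊗ₜ[k] (FrobAlg.toTwist p k).symm a := rfl

/-- The Frobenius law. -/
noncomputable def frobLaw : PolLaw.MulLaw k (FrobAlg.Twist p k) k p where
  law :=
    { toFun' := fun S _ _ => frobHom p k S
      isCompat' := fun {S} _ _ {S'} _ _ φ => by
        funext x
        simp only [Function.comp_apply]
        induction x using TensorProduct.induction_on with
        | zero => simp
        | tmul s a => simp [frobHom_tmul, LinearMap.rTensor_tmul, map_pow]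
        | add x y hx hy => simp [hx, hy] }
  homog := fun S _ _ s x => by
    show frobHom p k S (s • x) = s ^ p • frobHom p k S x
    induction x using TensorProduct.induction_on with
    | zero => simp
    | tmul t a => rw [TensorProduct.smul_tmul', frobHom_tmul, frobHom_tmul, TensorProduct.smul_tmul',
        smul_eq_mul, smul_eq_mul, mul_pow]
    | add x y hx hy => simp [hx, hy]
  mult := fun S _ _ => by
    refine ⟨?_, fun x y => ?_⟩
    · show frobHom p k S 1 = 1
      rw [Algebra.TensorProduct.one_def, frobHom_tmul, one_pow, map_one]; rfl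
    · show frobHom p k S (x * y) = frobHom p k S x * frobHom p k S y
      induction x using TensorProduct.induction_on with
      | zero => simp
      | tmul s a =>
        induction y using TensorProduct.induction_on with
        | zero => simp
        | tmul t b =>
          rw [Algebra.TensorProduct.tmul_mul_tmul, frobHom_tmul, frobHom_tmul, frobHom_tmul,
            Algebra.TensorProduct.tmul_mul_tmul, mul_pow, map_mul]
        | add x y hx hy => simp [mul_add, hx, hy]
      | add x y hx hy => simp [add_mul, hx, hy]

end Groth.Agent.S19489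

namespace Groth.Agent.S19489

/-- Let p be a prime, k = F_p(t_0, t_1, …) the field of rational functions over F_p in countably many
variables, and K = k^{1/p} = F_p(t_0^{1/p}, t_1^{1/p}, …), modelled here as a copy of k made into a
k-algebra through the Frobenius b ↦ b ^ p (under a ↦ a ^ p the extension k ⊆ k^{1/p} becomes this
algebra). Then a ↦ a ^ p is a multiplicative polynomial law from K to k over k, homogeneous of
degree p: there is such a law sending s ⊗ a to s ^ p ⊗ a ^ p on every test algebra S, where a ^ p is
read in k. Every such law has zero kernel, so the support of the corresponding family of zero-cycles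
of degree p on Spec K over Spec k is all of Spec K; and K is not finite over k. Thus the support of
a family of zero-cycles need not be finite over the base. -/
theorem result (p : ℕ) [Fact p.Prime] :
    (∃ F : PolLaw.MulLaw (FractionRing (MvPolynomial ℕ (ZMod p))) (FrobAlg.Twist p (FractionRing (MvPolynomial ℕ (ZMod p)))) (FractionRing (MvPolynomial ℕ (ZMod p))) p,
      ∀ (S : Type) [CommSemiring S] [Algebra (FractionRing (MvPolynomial ℕ (ZMod p))) S] (s : S) (a : FrobAlg.Twist p (FractionRing (MvPolynomial ℕ (ZMod p)))),
        F.law.toFun' S (s ⊗ₜ[FractionRing (MvPolynomial ℕ (ZMod p))] a) =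
          (s ^ p) ⊗ₜ[FractionRing (MvPolynomial ℕ (ZMod p))] (FrobAlg.toTwist p (FractionRing (MvPolynomial ℕ (ZMod p)))).symm a) ∧
    (∀ F : PolLaw.MulLaw (FractionRing (MvPolynomial ℕ (ZMod p))) (FrobAlg.Twist p (FractionRing (MvPolynomial ℕ (ZMod p)))) (FractionRing (MvPolynomial ℕ (ZMod p))) p,
      (∀ (S : Type) [CommSemiring S] [Algebra (FractionRing (MvPolynomial ℕ (ZMod p))) S] (s : S) (a : FrobAlg.Twist p (FractionRing (MvPolynomial ℕ (ZMod p)))),
        F.law.toFun' S (s ⊗ₜ[FractionRing (MvPolynomial ℕ (ZMod p))] a) =
          (s ^ p) ⊗ₜ[FractionRing (MvPolynomial ℕ (ZMod p))] (FrobAlg.toTwist p (FractionRing (MvPolynomial ℕ (ZMod p)))).symm a) →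
      PolLaw.ker F.law = ⊥) ∧
    ¬ Module.Finite (FractionRing (MvPolynomial ℕ (ZMod p))) (FrobAlg.Twist p (FractionRing (MvPolynomial ℕ (ZMod p)))) := by
  classical
  set k := FractionRing (MvPolynomial ℕ (ZMod p)) with hk
  refine ⟨⟨frobLaw p k, fun S _ _ s a => rfl⟩, fun F hF => ?_, fun hfin => ?_⟩
  · rw [eq_bot_iff]
    intro b hb
    have h := hb k (0 : k ⊗[k] FrobAlg.Twist p k) 1
    rw [zero_add, one_mul] at h
    have h1 := hF k 1 b
    have h0 : F.law.toFun' k (0 : k ⊗[k] FrobAlg.Twist p k) = 0 := by
      have := hF k 0 0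
      rw [TensorProduct.zero_tmul] at this
      rw [this, zero_pow (Fact.out : p.Prime).ne_zero, TensorProduct.zero_tmul]
    rw [h1, h0, one_pow] at h
    have h2 := congrArg (TensorProduct.lid k k) h
    rw [TensorProduct.lid_tmul, map_zero, one_smul] at h2
    exact (Submodule.mem_bot _).2 ((FrobAlg.toTwist p k).symm.map_eq_zero_iff.1 h2)
  · let R := MvPolynomial ℕ (ZMod p)
    let v : ℕ → FrobAlg.Twist p k := fun i => FrobAlg.toTwist p k (algebraMap R k (MvPolynomial.X i))
    have hli : LinearIndependent k v := by
      rw [linearIndependent_iff']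
      intro s g hg i hi
      obtain ⟨⟨d, hd⟩, hint⟩ := IsLocalization.exist_integer_multiples (nonZeroDivisors R) s g
      have hd0 : algebraMap R k d ≠ 0 := (map_ne_zero_iff _ (IsFractionRing.injective R k)).2 (nonZeroDivisors.ne_zero hd)
      choose a ha using fun j : s => hint j.1 j.2
      have hsum : ∑ j : s, a j ^ p * MvPolynomial.X j.1 = 0 := by
        apply IsFractionRing.injective R k
        rw [map_sum, map_zero]
        have h1 := congrArg (FrobAlg.toTwist p k).symm hg
        rw [map_zero, map_sum] at h1
        rw [← mul_zero ((algebraMap R k d) ^ p), ← h1, Finset.mul_sum, ← Finset.sum_attach s, Finset.univ_eq_attach]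
        refine Finset.sum_congr rfl fun j _ => ?_
        rw [map_mul, map_pow, ha j, Algebra.smul_def, Algebra.smul_def, FrobAlg.algebraMap_twist, map_mul,
          RingEquiv.symm_apply_apply, mul_pow]
        simp only [v, RingEquiv.symm_apply_apply]
        ring
      have hderiv := congrArg (MvPolynomial.pderiv i) hsum
      rw [map_sum, map_zero, Finset.sum_eq_single (⟨i, hi⟩ : s)] at hderiv
      · rw [MvPolynomial.pderiv_mul, MvPolynomial.pderiv_pow, MvPolynomial.pderiv_X_self,
          show (p : R) = 0 from CharP.cast_eq_zero R p, zero_mul, zero_mul, zero_mul, zero_add, mul_one] at hderiv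
        have h2 := congrArg (algebraMap R k) (eq_zero_of_pow_eq_zero hderiv)
        rw [ha ⟨i, hi⟩, map_zero, Algebra.smul_def] at h2
        exact (mul_eq_zero.1 h2).resolve_left hd0
      · intro j _ hj
        rw [MvPolynomial.pderiv_mul, MvPolynomial.pderiv_pow, MvPolynomial.pderiv_X_of_ne
          (fun e => hj (Subtype.ext e)), show (p : R) = 0 from CharP.cast_eq_zero R p]
        simp
      · simp
    haveI := hfin
    haveI : Finite ℕ := hli.finite
    exact not_finite ℕ

end Groth.Agent.S19489
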