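import Groth.Statements.S1952
import Groth.Agent.S12676
import Groth.Agent.H3Cyc.P1Closed
import Groth.Agent.H3Cyc.KCls
import Groth.Agent.H3Cyc.Limit
import Groth.Agent.H3Cyc.SplitTools
import Groth.Agent.H3CAlg.TorMult
import Groth.Agent.H26Smooth.ProjSmooth
import Groth.Agent.H19Grp.RegularSmooth
import Groth.Agent.S15821

set_option autoImplicit false
set_option linter.all false
set_option backward.isDefEq.respectTransparency.types false
universe u
open CategoryTheory CategoryTheory.Limits AlgebraicGeometry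
attribute [local instance] HasDerivedCategory.standard
open IntMult

namespace Groth.Agent.S1952

open Groth.Agent Groth.Agent.H3Cyc IsLocalRing
open scoped Pointwise Classical

section

variable {Y : Scheme.{u}}

theorem interProd_single (δ : Y → ℤ) (m : ℤ) (a z p : Y) :
    IntMult.interProd δ m (Set.indicator {a} 1) (Set.indicator {z} 1) p =
      if a ⤳ p ∧ z ⤳ p ∧ δ a + δ z - m = δ p then IntMult.mult (IntMult.ptIdeal a) (IntMult.ptIdeal z) p else 0 := by
  classical
  rw [IntMult.interProd]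
  split_ifs with h
  · rw [finsum_eq_single _ ⟨(a, z), h⟩ fun q hq => ?_]
    · simp
    · by_cases h1 : q.1.1 = a
      · have h2 : q.1.2 ≠ z := fun e => hq (Subtype.ext (Prod.ext h1 e))
        rw [Set.indicator_of_notMem (show q.1.2 ∉ ({z} : Set Y) from h2), mul_zero, zero_mul]
      · rw [Set.indicator_of_notMem (show q.1.1 ∉ ({a} : Set Y) from h1), zero_mul, zero_mul]
  · refine finsum_eq_zero_of_forall_eq_zero fun q => ?_
    by_cases h1 : q.1.1 = a
    · by_cases h2 : q.1.2 = z
      · exact absurd (h1 ▸ h2 ▸ q.2) h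
      · rw [Set.indicator_of_notMem (show q.1.2 ∉ ({z} : Set Y) from h2), mul_zero, zero_mul]
    · rw [Set.indicator_of_notMem (show q.1.1 ∉ ({a} : Set Y) from h1), zero_mul, zero_mul]

/-- The multiplicity against a principal ideal. -/
theorem mult_principal (A : Type u) [CommRing A] [IsNoetherianRing A] [IsDomain A] (Q : Ideal A) [Q.IsPrime]
    (c : A) (hc : c ∉ Q) :
    IntMult.chi A (A ⧸ Ideal.span {c}) (A ⧸ Q) = ((Module.length A (A ⧸ (Q ⊔ Ideal.span {c}))).toNat : ℤ) := by
  have hc0 : c ≠ 0 := fun e => hc (e ▸ Q.zero_mem)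
  have hwr : RingTheory.Sequence.IsWeaklyRegular A [c] :=
    (RingTheory.Sequence.isWeaklyRegular_cons_iff _ _ _).mpr
      ⟨fun a b hab => mul_left_cancel₀ hc0 hab, .nil _ _⟩
  have hwq : RingTheory.Sequence.IsWeaklyRegular (A ⧸ Q) [c] := by
    refine (RingTheory.Sequence.isWeaklyRegular_cons_iff _ _ _).mpr ⟨fun a b hab => ?_, .nil _ _⟩
    obtain ⟨a, rfl⟩ := Submodule.Quotient.mk_surjective _ a
    obtain ⟨b, rfl⟩ := Submodule.Quotient.mk_surjective _ b
    rw [Submodule.Quotient.eq]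
    simp only [← Submodule.Quotient.mk_smul, Submodule.Quotient.eq, smul_eq_mul, ← mul_sub] at hab
    exact ((inferInstance : Q.IsPrime).mem_or_mem hab).resolve_left hc
  rw [← Ideal.ofList_singleton c, H3CAlg.TorKoszul.chi_eq_chi _ (Groth.Agent.S15821.result _ _ hwr).1,
    H3CAlg.TorMult.chi_eq_length_of_regular _ _ hwq, H3CAlg.TorMult.length_quot_smul]

end

variable {X : Scheme.{u}} [IsIntegral X]

local notation "P" => CohB1.ProjSpaceOver 1 X
local notation "π" => CohB1.ProjSpaceOver.toBase 1 X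

instance isClosedImmersion_sect (i : Fin (1 + 1)) : IsClosedImmersion (P1.sect X i) := by
  haveI : IsClosedImmersion (P1.sect X i ≫ π) := by rw [P1C.sect_toBase]; infer_instance
  exact IsClosedImmersion.of_comp (P1.sect X i) π

theorem specializes_sect (i : Fin (1 + 1)) (x : X) : P1.sect X i (genericPoint X) ⤳ P1.sect X i x :=
  (genericPoint_specializes x).map (P1.sect X i).continuous

theorem mem_range_of_specializes (i : Fin (1 + 1)) (p : ↥P) (h : P1.sect X i (genericPoint X) ⤳ p) :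
    p ∈ Set.range (P1.sect X i) :=
  h.mem_closed (P1.sect X i).isClosedEmbedding.isClosed_range ⟨_, rfl⟩

variable {δ : X → ℤ} {δP : ↥(CohB1.ProjSpaceOver 1 X) → ℤ} {n k : ℤ}

/-- The value of the intersection with a section, on the section. -/
theorem interProd_sect [IsNoetherian P] (hreg : ∀ p : ↥P, IsRegularLocalRing ((P).presheaf.stalk p))
    (hn : δ (genericPoint X) = n) (hP : Cyc.DeltaCompat π δP δ) (i : Fin (1 + 1)) (a : ↥P) (hak : δP a = k + 1)
    (ha : a ∉ Set.range (P1.sect X i)) (x : X) (hx : δ x = k) :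
    IntMult.interProd δP (n + 1) (Set.indicator {a} 1) (Set.indicator {P1.sect X i (genericPoint X)} 1)
        (P1.sect X i x) =
      Cyc.sheafFun δ k ((Scheme.Modules.pullback (P1.sect X i)).obj (H3CAlg.PrimeMod.primeMod a)) x := by
  classical
  obtain ⟨hU, -⟩ := P1C.mem_U_of_mem_range (i := i) (p := P1.sect X i x) ⟨x, rfl⟩
  rw [interProd_single, Cyc.sheafFun, if_pos hx, P1C.length_stalk_sect i _ x hU]
  by_cases hap : a ⤳ P1.sect X i x
  · rw [if_pos ⟨hap, specializes_sect i x, by rw [hak, P1C.delta_sect hP, P1C.delta_sect hP, hn, hx]; ring⟩]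
    haveI := hreg (P1.sect X i x)
    haveI := H4Depth.isDomain_of_isRegularLocalRing ((P).presheaf.stalk (P1.sect X i x))
    haveI := H3CAlg.IntPt.stalkIdeal_ptIdeal_prime hap
    have hc : P1C.germC i _ hU ∉ IntMult.stalkIdeal (IntMult.ptIdeal a) (P1.sect X i x) := fun hmem => by
      refine ha (P1C.mem_range_sect (hap.mem_open (P1C.U X i).2 hU) ?_)
      show P1C.germC i a _ ∈ maximalIdeal _
      rw [← H3CAlg.IntPt.stalkIdeal_ptIdeal_self a, H29Ref.stalkIdeal_specializes _ hap,
        ← P1C.germC_specializes i hap hU]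
      exact Ideal.mem_map_of_mem _ hmem
    rw [IntMult.mult, S12676.stalk_push_section (P1.sect X i) x, P1C.ker_sect_stalkMap i x hU,
      mult_principal _ _ _ hc]
    obtain ⟨e⟩ := H3CAlg.PrimeMod.stalk_primeMod hap
    congr 2
    rw [← Submodule.ideal_span_singleton_smul,
      (Submodule.Quotient.equiv _ _ e (by rw [Submodule.map_smul'', Submodule.map_top, LinearEquiv.range])).length_eq,
      H3CAlg.TorMult.length_quot_smul]
  · rw [if_neg fun h => hap h.1]
    haveI : Subsingleton ((H3CAlg.PrimeMod.primeMod a).presheaf.stalk (P1.sect X i x)) :=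
      not_nontrivial_iff_subsingleton.mp fun h => hap ((H3CAlg.PrimeMod.nontrivial_iff a _).mp h)
    rw [Module.length_eq_zero]
    rfl

theorem support_interProd (hP : Cyc.DeltaCompat π δP δ) (hn : δ (genericPoint X) = n) (i : Fin (1 + 1))
    (α : ↥P → ℤ) (hα : ∀ a, α a ≠ 0 → δP a = k + 1) (p : ↥P)
    (h : IntMult.interProd δP (n + 1) α (Set.indicator {P1.sect X i (genericPoint X)} 1) p ≠ 0) :
    p ∈ Set.range (P1.sect X i) ∧ δP p = k := by
  obtain ⟨q, hq⟩ : ∃ q : {q : ↥P × ↥P // q.1 ⤳ p ∧ q.2 ⤳ p ∧ δP q.1 + δP q.2 - (n + 1) = δP p},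
      α q.1.1 * Set.indicator {P1.sect X i (genericPoint X)} (1 : ↥P → ℤ) q.1.2 *
        IntMult.mult (IntMult.ptIdeal q.1.1) (IntMult.ptIdeal q.1.2) p ≠ 0 := by
    by_contra hc
    push Not at hc
    exact h (finsum_eq_zero_of_forall_eq_zero hc)
  have h1 := hα _ (left_ne_zero_of_mul (left_ne_zero_of_mul hq))
  have h2 : q.1.2 = P1.sect X i (genericPoint X) :=
    (Set.indicator_apply_ne_zero.mp (right_ne_zero_of_mul (left_ne_zero_of_mul hq))).1
  refine ⟨mem_range_of_specializes i p (h2 ▸ q.2.2.1), ?_⟩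
  have h3 := q.2.2.2
  rw [h1, h2, P1C.delta_sect hP, hn] at h3
  omega


/-- Let α be a (k + 1)-cycle on P^1_X (X a nonsingular variety, P^1_X of dimension n + 1 with dimension
function δP) intersecting the divisors X × 0 and X × ∞ (the images of the two sections, as prime
cycles) properly. Then pr_{X,*}(α · [X × 0] − α · [X × ∞]) ∼_rat 0 as a k-cycle on X (the source's
two distinct closed points a, b of P^1 are taken to be 0 and ∞), for any cycle on P^1_X with the
coefficients of α · [X × 0] − α · [X × ∞]. Here X is a nonsingular variety over the algebraically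
closed field K (smooth, separated, quasi-compact, integral) with dimension function δ (transcendence
degree) and n = dim X; cycles are Mathlib AlgebraicCycles with Cyc.Zk membership, proper
intersection is IntMult.IntersectProperly and α · β is the Tor-formula intersection product on
coefficient functions (IntMult.interProd), bundled where needed as 'any cycle with these
coefficients'. -/
theorem result (K : Type u) [Field K] [IsAlgClosed K] (X : Scheme.{u}) (f : X ⟶ Spec (CommRingCat.of K)) [Smooth f] [IsSeparated f] [QuasiCompact f] [IsIntegral X] (δ : X → ℤ) (hX : Cyc.IsSetup X δ) (hδ : Cyc.DeltaCompat f δ (fun _ => 0)) (n : ℤ) (hn : δ (genericPoint X) = n) (δP : ↥(CohB1.ProjSpaceOver 1 X) → ℤ) (hPX : Cyc.IsSetup (CohB1.ProjSpaceOver 1 X) δP) (hP : Cyc.DeltaCompat (CohB1.ProjSpaceOver.toBase 1 X) δP δ) [QuasiCompact (CohB1.ProjSpaceOver.toBase 1 X)] (k : ℤ) (α : AlgebraicCycle (CohB1.ProjSpaceOver 1 X) ℤ) (hα : α ∈ Cyc.Zk _ δP (k + 1)) (h0 : IntMult.IntersectProperly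 δP (n + 1) ⇑α (Set.indicator {P1.sect X 0 (genericPoint X)} 1)) (h1 : IntMult.IntersectProperly δP (n + 1) ⇑α (Set.indicator {P1.sect X 1 (genericPoint X)} 1)) (γ : AlgebraicCycle (CohB1.ProjSpaceOver 1 X) ℤ) (hγ : ⇑γ = IntMult.interProd δP (n + 1) ⇑α (Set.indicator {P1.sect X 0 (genericPoint X)} 1) - IntMult.interProd δP (n + 1) ⇑α (Set.indicator {P1.sect X 1 (genericPoint X)} 1)) : Cyc.RatEquivZero δ k (AlgebraicCycle.map (CohB1.ProjSpaceOver.toBase 1 X) δP δ γ) := by
  classical
  haveI := hX.1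
  haveI := hPX.1
  haveI : CompactSpace X := (quasiCompact_iff_compactSpace f).mp inferInstance
  haveI : CompactSpace (CohB1.ProjSpaceOver 1 X) :=
    (quasiCompact_iff_compactSpace (CohB1.ProjSpaceOver.toBase 1 X ≫ f)).mp inferInstance
  haveI : IsNoetherian (CohB1.ProjSpaceOver 1 X) := {}
  haveI : IsNoetherian X := {}
  haveI : Smooth (CohB1.ProjSpaceOver.toBase 1 X ≫ f) := inferInstance
  have hreg := fun p => H19Grp.isRegularLocalRing_stalk_of_smooth (CohB1.ProjSpaceOver.toBase 1 X ≫ f) p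
  let z : Fin (1 + 1) → ↥(CohB1.ProjSpaceOver 1 X) := fun i => P1.sect X i (genericPoint X)
  have hαk : ∀ a, α a ≠ 0 → δP a = k + 1 := fun a ha => by_contra fun h => ha (hα a h)
  have hle : ∀ a p, a ⤳ p → δP p ≤ δP a := fun a p h => by
    by_cases e : a = p
    · rw [e]
    · exact ((hPX.2.2 a p h e).1).le
  have hprop : ∀ i : Fin (1 + 1), IntMult.IntersectProperly δP (n + 1) ⇑α (Set.indicator {z i} 1) := fun i => by
    fin_cases i
    · exact h0
    · exact h1
  have hbound : ∀ (a : ↥(CohB1.ProjSpaceOver 1 X)) (i : Fin (1 + 1)) (x : X), α a ≠ 0 → a ⤳ P1.sect X i x → δ x ≤ k := by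
    intro a i x ha h
    have h2 := hprop i a (z i) (P1.sect X i x) ha (by simp) h (specializes_sect i x)
    rw [hαk a ha, P1C.delta_sect hP, P1C.delta_sect hP, hn] at h2
    omega
  have hout : ∀ a (i : Fin (1 + 1)), α a ≠ 0 → a ∉ Set.range (P1.sect X i) := fun a i ha ⟨y, hy⟩ => by
    have h2 := hbound a i y ha (by rw [hy])
    have h3 := hαk a ha
    rw [← hy, P1C.delta_sect hP] at h3
    omega
  have hfin := Limit.finite_support_of_compact α
  let T := ↥hfin.toFinset
  have hT : ∀ a : T, α a.1 ≠ 0 := fun a => hfin.mem_toFinset.mp a.2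
  let F : T → (CohB1.ProjSpaceOver 1 X).Modules := fun a => H3CAlg.PrimeMod.primeMod a.1
  have hF : ∀ a, Coh.IsCoh (F a) := fun a => H3CAlg.PrimeMod.isCoh_primeMod _
  have hsupp : ∀ (a : T) p, Nontrivial ((F a).presheaf.stalk p) → δP p ≤ k + 1 := fun a p h =>
    (hle _ p ((H3CAlg.PrimeMod.nontrivial_iff _ p).mp h)).trans (hαk _ (hT a)).le
  have hfib : ∀ (a : T) (i : Fin (1 + 1)) x,
      Nontrivial (((Scheme.Modules.pullback (P1.sect X i)).obj (F a)).presheaf.stalk x) → δ x ≤ k := fun a i x h =>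
    hbound a.1 i x (hT a) ((H3CAlg.PrimeMod.nontrivial_iff _ _).mp (H3CAlg.ChiPull.nontrivial_of_pullback _ _ _ h))
  have hemb : ∀ (a : T) p, IsAssociatedPrime (maximalIdeal ((CohB1.ProjSpaceOver 1 X).presheaf.stalk p)) ((F a).presheaf.stalk p) →
      p ∉ Set.range (P1.sect X 0) ∪ Set.range (P1.sect X 1) ∨ δP p < k := by
    intro a p hp
    have hn : Nontrivial ((F a).presheaf.stalk p) := by
      by_contra hns
      rw [not_nontrivial_iff_subsingleton] at hns
      obtain ⟨hpr, m, hm⟩ := hp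
      refine hpr.ne_top ?_
      rw [hm, Subsingleton.elim m 0]
      simp
    have hap : a.1 ⤳ p := (H3CAlg.PrimeMod.nontrivial_iff _ p).mp hn
    obtain ⟨e⟩ := H3CAlg.PrimeMod.stalk_primeMod hap
    have hQ := H3CAlg.IntPt.stalkIdeal_ptIdeal_prime hap
    obtain ⟨-, m, hm⟩ := hp
    have hm0 : e m ≠ 0 := fun e0 => by
      rw [e.map_eq_zero_iff.mp e0] at hm
      exact (maximalIdeal.isMaximal _).ne_top (by rw [hm]; simp)
    have heq : IntMult.stalkIdeal (IntMult.ptIdeal a.1) p = maximalIdeal ((CohB1.ProjSpaceOver 1 X).presheaf.stalk p) := by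
      refine le_antisymm (IsLocalRing.le_maximalIdeal hQ.ne_top) fun r hr => ?_
      rw [hm, Ideal.mem_radical_iff] at hr
      obtain ⟨j, hj⟩ := hr
      rw [Submodule.mem_colon_singleton, Submodule.mem_bot] at hj
      have h2 := congrArg e hj
      rw [map_smul, map_zero] at h2
      obtain ⟨t, ht⟩ := Submodule.Quotient.mk_surjective _ (e m)
      rw [← ht, ← Submodule.Quotient.mk_smul, Submodule.Quotient.mk_eq_zero, smul_eq_mul] at h2
      refine hQ.mem_of_pow_mem j ((hQ.mem_or_mem h2).resolve_right fun ht' => hm0 ?_)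
      rw [← ht, Submodule.Quotient.mk_eq_zero]
      exact ht'
    obtain rfl : a.1 = p := H3CAlg.IntPt.stalkIdeal_ptIdeal_injective hap specializes_rfl
      (heq.trans (H3CAlg.IntPt.stalkIdeal_ptIdeal_self p).symm)
    exact Or.inl fun h => h.elim (hout a.1 0 (hT a)) (hout a.1 1 (hT a))
  have hcoh : ∀ (a : T) (i : Fin (1 + 1)), Cyc.CohLe δ k ((Scheme.Modules.pullback (P1.sect X i)).obj (F a)) :=
    fun a i => ⟨H3CAlg.ChiPull.isCoh_pullback _ _ (hF a), hfib a i⟩
  have hst : KFam.Strict δ := KFam.strict_of_isSetup hX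
  let d : Fin (1 + 1) → T → AlgebraicCycle X ℤ := fun i a => KCls.cycle hst (hcoh a i)
  have hdk : ∀ (i : Fin (1 + 1)) (a : T), d i a ∈ Cyc.Zk X δ k := fun i a => KCls.cycle_mem hst (hcoh a i)
  have hrat : ∀ a : T, Cyc.RatEquivZero δ k (d 0 a - d 1 a) := fun a =>
    P1C.ratEquiv_fibres hX hP k (F a) (hF a) (hsupp a) (hfib a) (hemb a) (d 0 a) (d 1 a) (fun x => rfl) fun x => rfl
  have key : Cyc.RatEquivZero δ k (∑ a : T, α a.1 • (d 0 a - d 1 a) : AlgebraicCycle X ℤ) := by
    have hz0 : ∀ a : T, d 0 a - d 1 a ∈ Cyc.Zk X δ k := fun a =>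
      (ChowOps.zk X δ k).sub_mem (hdk 0 a) (hdk 1 a)
    have hz : ∀ a : T, α a.1 • (d 0 a - d 1 a) ∈ Cyc.Zk X δ k :=
      fun a => (ChowOps.zk X δ k).zsmul_mem (hz0 a) _
    refine (Chow.cl_eq_zero_iff (SplitChern.sum_mem Finset.univ fun a _ => hz a)).mp ?_
    have h2 : ∀ a ∈ (Finset.univ : Finset T), SplitChern.sg (α a.1 • (d 0 a - d 1 a)) (hz a) = (0 : Tot.T X δ) :=
      fun a _ => by
        rw [SplitChern.sg_zsmul (hz0 a), SplitChern.sg, (Chow.cl_eq_zero_iff (hz0 a)).mpr (hrat a), Pi.single_zero,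
          smul_zero]
    have h3 := congrFun ((SplitChern.sg_sum Finset.univ hz).trans (Finset.sum_eq_zero h2)) k
    simp only [SplitChern.sg, Tot.single_apply] at h3
    exact h3
  convert key using 1
  refine DFunLike.ext _ _ fun x => ?_
  rw [Function.locallyFinsuppWithin.coe_sum, Finset.sum_apply]
  simp only [Function.locallyFinsuppWithin.coe_zsmul, Function.locallyFinsuppWithin.coe_sub, Pi.smul_apply,
    Pi.sub_apply, smul_eq_mul]
  show ∑ᶠ p ∈ CohB1.ProjSpaceOver.toBase 1 X ⁻¹' {x},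
      γ p * ((AlgebraicCycle.mapCoeff (CohB1.ProjSpaceOver.toBase 1 X) δP δ p : ℕ) : ℤ) = _
  have hγk : ∀ p, γ p ≠ 0 → δP p = k ∧ (p ∈ Set.range (P1.sect X 0) ∨ p ∈ Set.range (P1.sect X 1)) := fun p hp => by
    rw [hγ, Pi.sub_apply] at hp
    by_cases h2 : IntMult.interProd δP (n + 1) ⇑α (Set.indicator {P1.sect X 0 (genericPoint X)} 1) p = 0
    · rw [h2, zero_sub, neg_ne_zero] at hp
      exact ⟨(support_interProd hP hn 1 _ hαk p hp).2, Or.inr (support_interProd hP hn 1 _ hαk p hp).1⟩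
    · exact ⟨(support_interProd hP hn 0 _ hαk p h2).2, Or.inl (support_interProd hP hn 0 _ hαk p h2).1⟩
  by_cases hx : δ x = k
  swap
  · rw [finsum_mem_eq_zero_of_forall_eq_zero fun p hp => ?_, Finset.sum_eq_zero fun a _ => ?_]
    · rw [hdk 0 a x hx, hdk 1 a x hx, sub_zero, mul_zero]
    · by_cases hp0 : γ p = 0
      · rw [hp0, zero_mul]
      · obtain ⟨hd, ⟨y, rfl⟩ | ⟨y, rfl⟩⟩ := hγk p hp0 <;>
        · rw [Set.mem_preimage, P1C.toBase_sect, Set.mem_singleton_iff] at hp
          rw [P1C.delta_sect hP, hp] at hd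
          exact absurd hd hx
  have hS : ∀ i, ((AlgebraicCycle.mapCoeff (CohB1.ProjSpaceOver.toBase 1 X) δP δ (P1.sect X i x) : ℕ) : ℤ) = 1 := fun i => by
    rw [AlgebraicCycle.mapCoeff, if_pos (by rw [P1C.toBase_sect, P1C.delta_sect hP]),
      ← Gysin.residueDegree_immersion_comp (P1.sect X i) (CohB1.ProjSpaceOver.toBase 1 X) x, P1C.sect_toBase,
      Gysin.residueDegree_immersion]
    simp
  have hopp : ∀ {i j : Fin (1 + 1)}, i ≠ j → ∀ y, P1.sect X i x ≠ P1.sect X j y := fun {i j} hij y e => by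
    have h2 := (P1C.mem_U_of_mem_range (i := i) (p := P1.sect X i x) ⟨x, rfl⟩).1
    fin_cases i <;> fin_cases j <;> first
      | exact hij rfl
      | exact P1C.notMem_U_opp (i := 1) ⟨y, rfl⟩ (e ▸ h2)
      | exact P1C.notMem_U_opp (i := 0) ⟨y, rfl⟩ (e ▸ h2)
  have hval : ∀ i : Fin (1 + 1), IntMult.interProd δP (n + 1) ⇑α (Set.indicator {z i} 1) (P1.sect X i x) =
      ∑ a : T, α a.1 * d i a x := fun i => by
    rw [H3CAlg.ChiCycles.interProd_expand δP (n + 1) ⇑α (Set.indicator {z i} 1) (P1.sect X i x)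
      (Finset.univ : Finset T) ({()} : Finset Unit) (fun a => α a.1) (fun a => Set.indicator {a.1} 1) (fun _ => 1)
      (fun _ => Set.indicator {z i} 1) (fun b _ => ?_) (fun b _ => by simp) (fun a _ => ?_) (fun _ _ => ?_)]
    · refine Finset.sum_congr rfl fun a _ => ?_
      rw [Finset.sum_singleton, mul_one, interProd_sect hreg hn hP i a.1 (hαk _ (hT a)) (hout _ i (hT a)) x hx]
      rfl
    · by_cases hb : α b = 0
      · rw [hb]
        refine (Finset.sum_eq_zero fun a _ => ?_).symm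
        rw [Set.indicator_of_notMem (show b ∉ ({a.1} : Set _) from fun e => hT a (by rw [← Set.mem_singleton_iff.mp e]; exact hb)), mul_zero]
      · rw [Finset.sum_eq_single (⟨b, hfin.mem_toFinset.mpr hb⟩ : T) (fun a _ hne => by
          rw [Set.indicator_of_notMem (fun e => hne (Subtype.ext (Set.mem_singleton_iff.mp e).symm)), mul_zero])
          (fun h => absurd (Finset.mem_univ _) h), Set.indicator_of_mem (Set.mem_singleton _), Pi.one_apply, mul_one]
    · exact (Set.finite_singleton a.1).subset fun b hb => (Set.indicator_apply_ne_zero.mp hb.2).1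
    · exact (Set.finite_singleton (z i)).subset fun b hb => (Set.indicator_apply_ne_zero.mp hb.2).1
  have hzero : ∀ {i j : Fin (1 + 1)}, i ≠ j →
      IntMult.interProd δP (n + 1) ⇑α (Set.indicator {z j} 1) (P1.sect X i x) = 0 := fun {i j} hij => by
    by_contra h2
    obtain ⟨y, hy⟩ := (support_interProd hP hn j _ hαk _ h2).1
    exact hopp hij y hy.symm
  have h01 : (0 : Fin (1 + 1)) ≠ 1 := by decide
  have hne01 : P1.sect X 0 x ≠ P1.sect X 1 x := hopp h01 x
  rw [finsum_mem_eq_sum_of_subset _ (t := {P1.sect X 0 x, P1.sect X 1 x}) ?_ ?_, Finset.sum_pair hne01,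
    hS 0, hS 1, mul_one, mul_one, hγ, Pi.sub_apply, Pi.sub_apply, hval 0, hzero h01, hzero h01.symm, hval 1,
    sub_zero, zero_sub, ← Finset.sum_neg_distrib, ← Finset.sum_add_distrib]
  · exact Finset.sum_congr rfl fun a _ => by ring
  · rintro p ⟨hpx, hp⟩
    simp only [Finset.coe_insert, Finset.coe_singleton, Set.mem_insert_iff, Set.mem_singleton_iff]
    obtain ⟨-, ⟨y, rfl⟩ | ⟨y, rfl⟩⟩ := hγk p (left_ne_zero_of_mul hp) <;>
      rw [Set.mem_preimage, P1C.toBase_sect, Set.mem_singleton_iff] at hpx <;> subst hpx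
    · exact Or.inl rfl
    · exact Or.inr rfl
  · intro p hp
    simp only [Finset.coe_insert, Finset.coe_singleton, Set.mem_insert_iff, Set.mem_singleton_iff] at hp
    rcases hp with rfl | rfl <;> exact P1C.toBase_sect _ x

end Groth.Agent.S1952
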