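import Groth.Statements.S1949
import Groth.Agent.S1952
import Groth.Agent.H3Cyc.P1Fam
import Groth.Agent.H3Cyc.SetupLft
import Groth.Agent.H3Cyc.BCPush

set_option autoImplicit false
set_option linter.style.haveILetI false
set_option backward.isDefEq.respectTransparency.types false
universe u
open CategoryTheory CategoryTheory.Limits AlgebraicGeometry
attribute [local instance] HasDerivedCategory.standard
open IntMult

namespace Groth.Agent.S1949

open Groth.Agent Groth.Agent.H3Cyc

/-- The generic point of a family dominating `P¹` lies on no section. -/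
theorem notMem_sect {K : Type u} [Field K] {X W : Scheme.{u}} (f : X ⟶ Spec (CommRingCat.of K)) [IsIntegral W]
    (ιW : W ⟶ CohB1.ProjSpaceOver 1 X) [IsClosedImmersion ιW] [IsSeparated (CohB1.ProjSpaceOver.toBase 1 X)]
    (hdom : ∀ U : (CohB1.ProjSpaceOver 1 (Spec (CommRingCat.of K))).Opens,
      (U : Set ↥(CohB1.ProjSpaceOver 1 (Spec (CommRingCat.of K)))).Nonempty → ∃ w : W, (ιW ≫ P1.toP1 f) w ∈ U)
    (i : Fin (1 + 1)) : ιW (genericPoint W) ∉ Set.range (P1.sect X i) := fun hg => by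
  have hsq : P1.sect X i ≫ P1.toP1 f = f ≫ P1.sect (Spec (CommRingCat.of K)) i := by
    refine P1C.hom_ext _ ?_ ?_
    · rw [Category.assoc, Category.assoc,
        show P1.toP1 f ≫ P1C.toP _ = P1C.toP X from (pullback.lift_fst _ _ _).trans (Category.comp_id _),
        show P1.sect X i ≫ P1C.toP X = specULiftZIsTerminal.from X ≫ P1.point i from pullback.lift_fst _ _ _,
        show P1.sect (Spec (CommRingCat.of K)) i ≫ P1C.toP _ =
          specULiftZIsTerminal.from _ ≫ P1.point i from pullback.lift_fst _ _ _,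
        specULiftZIsTerminal.hom_ext (specULiftZIsTerminal.from X) (f ≫ specULiftZIsTerminal.from _)]
      exact Category.assoc _ _ _
    · rw [Category.assoc, Category.assoc,
        show P1.toP1 f ≫ CohB1.ProjSpaceOver.toBase 1 _ = CohB1.ProjSpaceOver.toBase 1 X ≫ f from pullback.lift_snd _ _ _,
        ← Category.assoc, P1C.sect_toBase, P1C.sect_toBase, Category.id_comp, Category.comp_id]
  obtain ⟨w, hw⟩ := hdom (P1C.U _ (P1C.opp i))
    ⟨P1.sect _ (P1C.opp i) (IsLocalRing.closedPoint K), (P1C.mem_U_of_mem_range ⟨_, rfl⟩).1⟩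
  obtain ⟨y, hy⟩ : ιW w ∈ Set.range (P1.sect X i) := by
    haveI : IsClosedImmersion (P1.sect X i) := P1C.isClosedImmersion_sect i
    exact (((genericPoint_specializes w).map ιW.continuous)).mem_closed (P1.sect X i).isClosedEmbedding.isClosed_range hg
  refine P1C.notMem_U_opp (i := i) (p := (ιW ≫ P1.toP1 f) w) ⟨f y, ?_⟩ hw
  rw [Scheme.Hom.comp_apply, ← hy, ← Scheme.Hom.comp_apply, ← Scheme.Hom.comp_apply, hsq]


/-- Let W → P^1_X be a closed immersion with W integral of dimension s + 1 (for the dimension function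
δP on P^1_X induced from δ) dominating P^1_K (dense image under P^1_X → P^1_K), W_0, W_∞ → X its
pullbacks along the sections at 0 and ∞, and V ⊆ X the closure of a point v with δ(v) = r, such that
[V] intersects [W_0]_s and [W_∞]_s properly. Then [V]·[W_0]_s ∼_rat [V]·[W_∞]_s as (r + s −
n)-cycles on X. (The source allows any two closed points a, b of P^1; they are taken to be 0 and ∞,
to which any two distinct closed points are carried by an automorphism of P^1 over the algebraically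
closed K.) Here X is a nonsingular variety over the algebraically closed field K (smooth, separated,
quasi-compact, integral) with dimension function δ (transcendence degree) and n = dim X; cycles are
Mathlib AlgebraicCycles with Cyc.Zk membership, proper intersection is IntMult.IntersectProperly and
α · β is the Tor-formula intersection product on coefficient functions (IntMult.interProd), bundled
where needed as 'any cycle with these coefficients'. -/
theorem result (K : Type u) [Field K] [IsAlgClosed K] (X : Scheme.{u}) (f : X ⟶ Spec (CommRingCat.of K)) [Smooth f] [IsSeparated f] [QuasiCompact f] [IsIntegral X] (δ : X → ℤ) (hX : Cyc.IsSetup X δ) (hδ : Cyc.DeltaCompat f δ (fun _ => 0)) (n : ℤ) (hn : δ (genericPoint X) = n) (δP : ↥(CohB1.ProjSpaceOver 1 X) → ℤ) (hP : Cyc.DeltaCompat (CohB1.ProjSpaceOver.toBase 1 X) δP δ) (r s : ℤ) (W : Scheme.{u}) [IsIntegral W] (ιW : W ⟶ CohB1.ProjSpaceOver 1 X) [IsClosedImmersion ιW] (hW : δP (ιW (genericPoint W)) = s + 1)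 (hdom : ∀ U : (CohB1.ProjSpaceOver 1 (Spec (CommRingCat.of K))).Opens, (U : Set ↥(CohB1.ProjSpaceOver 1 (Spec (CommRingCat.of K)))).Nonempty → ∃ w : W, (ιW ≫ P1.toP1 f) w ∈ U) (v : X) (hv : δ v = r) (h0 : IntMult.IntersectProperly δ n (Set.indicator {v} 1) (Cyc.subschemeFun δ s (pullback.snd ιW (P1.sect X 0)))) (h1 : IntMult.IntersectProperly δ n (Set.indicator {v} 1) (Cyc.subschemeFun δ s (pullback.snd ιW (P1.sect X 1)))) (γ₀ γ₁ : AlgebraicCycle X ℤ) (hγ₀ : ⇑γ₀ = IntMult.interProd δ n (Set.indicator {v} 1) (Cyc.subschemeFun δ s (pullback.snd ιW (P1.sect X 0)))) (hγ₁ : ⇑γ₁ = IntMult.interProd δ n (Set.indicator {v} 1) (Cyc.subschemeFun δ s (pullback.snd ιW (P1.sect X 1)))) : Cyc.RatEquiv δ (r + s - n) γ₀ γ₁ := by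
  classical
  haveI := hX.1
  have hPX : Cyc.IsSetup (CohB1.ProjSpaceOver 1 X) δP :=
    isSetup_of_locallyOfFiniteType (CohB1.ProjSpaceOver.toBase 1 X) hX hP
  haveI := hPX.1
  haveI : CompactSpace X := (quasiCompact_iff_compactSpace f).mp inferInstance
  haveI : CompactSpace (CohB1.ProjSpaceOver 1 X) :=
    (quasiCompact_iff_compactSpace (CohB1.ProjSpaceOver.toBase 1 X ≫ f)).mp inferInstance
  haveI : IsNoetherian (CohB1.ProjSpaceOver 1 X) := {}
  haveI : IsNoetherian X := {}
  haveI := P1Prod.isIntegral_proj (X := X) f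
  have hPK : Cyc.DeltaCompat (CohB1.ProjSpaceOver.toBase 1 X ≫ f) δP (fun _ => 0) := BCPush.deltaCompat_comp _ f hP hδ
  have hst : KFam.Strict δ := KFam.strict_of_isSetup hX
  let π := CohB1.ProjSpaceOver.toBase 1 X
  let v' := H3CAlg.ProdPt.sig π v
  let w := ιW (genericPoint W)
  let k : ℤ := r + s - n
  let z : Fin (1 + 1) → ↥(CohB1.ProjSpaceOver 1 X) := fun i => P1.sect X i (genericPoint X)
  let G : Fin (1 + 1) → X.Modules := fun i => (Scheme.Modules.pullback (P1.sect X i)).obj (H3CAlg.PrimeMod.primeMod w)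
  have hw' : δP w = s + 1 := hW
  have hwi : ∀ i, w ∉ Set.range (P1.sect X i) := notMem_sect f ιW hdom
  have hz1 : ∀ {T : Scheme.{u}} (a : T), Set.indicator ({a} : Set T) (1 : T → ℤ) a ≠ 0 := fun a => by simp
  have hGfun : ∀ i, Cyc.subschemeFun δ s (pullback.snd ιW (P1.sect X i)) = Cyc.sheafFun δ s (G i) := fun i =>
    funext fun x => (P1Fam.sheafFun_pushO ιW s i x).symm
  have hvp : ∀ q, v' ⤳ q ↔ v ⤳ π q := fun q => P1Prod.specializes_sig_iff v q
  have hprop : ∀ i : Fin (1 + 1), IntMult.IntersectProperly δ n (Set.indicator {v} 1) (Cyc.sheafFun δ s (G i)) :=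
    fun i => by
      rw [← hGfun i]
      fin_cases i
      · exact h0
      · exact h1
  -- the fibres have dimension at most k over v
  have hC : ∀ (i : Fin (1 + 1)) (y : X), v ⤳ y → w ⤳ P1.sect X i y → δ y ≤ k := by
    intro i y hvy hwy
    let S : Set ℤ := {d | ∃ q : X, q ⤳ y ∧ w ⤳ P1.sect X i q ∧ δ q = d}
    have hle : ∀ q : X, w ⤳ P1.sect X i q → δ q ≤ s := fun q h => by
      have h2 := H3CAlg.ChiMain.eq_of_specializes (π ≫ f) δP hPK h
      rw [P1C.delta_sect hP, hw'] at h2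
      by_contra hn'
      exact hwi i ⟨q, (h2.2 (by omega)).symm⟩
    obtain ⟨d, ⟨q, hqy, hwq, hqd⟩, hmax⟩ := Int.exists_greatest_of_bdd (P := fun d => d ∈ S)
      ⟨s, fun d ⟨q, _, h, e⟩ => e ▸ hle q h⟩ ⟨δ y, y, specializes_rfl, hwy, rfl⟩
    have h3 := P1Fam.delta_le f hPK i (δ q) w (P1.sect X i q) hwq ⟨q, rfl⟩ (P1C.delta_sect hP i q) fun η hwη hη hr => by
      obtain ⟨q', rfl⟩ := hr
      rw [P1C.delta_sect hP, hqd]
      have h4 := hη.map π.continuous
      rw [P1C.toBase_sect, P1C.toBase_sect] at h4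
      exact hmax _ ⟨q', h4.trans hqy, hwη, rfl⟩
    have hqs : δ q = s := le_antisymm (hle q hwq) (by omega)
    have hcoh : Cyc.CohLe δ s (G i) :=
      ⟨H3CAlg.ChiPull.isCoh_pullback _ _ (H3CAlg.PrimeMod.isCoh_primeMod w), fun a ha =>
        hle a ((H3CAlg.PrimeMod.nontrivial_iff _ _).mp (H3CAlg.ChiPull.nontrivial_of_pullback _ _ _ ha))⟩
    have hpos : 0 < Cyc.sheafFun δ s (G i) q := (KCls.sheafFun_pos_iff hst hcoh).mpr ⟨hqs, KDev.mem_support.mpr
      (P1C.nontrivial_sect i _ (H3CAlg.PrimeMod.isCoh_primeMod w) q ((H3CAlg.PrimeMod.nontrivial_iff _ _).mpr hwq))⟩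
    have h5 := hprop i v q y (hz1 v) hpos.ne' hvy hqy
    omega
  -- the components of the intersection of dimension k + 1
  let C : ↥(CohB1.ProjSpaceOver 1 X) → Prop := fun η => v' ⤳ η ∧ w ⤳ η
  let good : ↥(CohB1.ProjSpaceOver 1 X) → Prop := fun η =>
    C η ∧ δP η = k + 1 ∧ ∀ ξ, C ξ → ξ ⤳ η → ξ = η
  have hfin : {η | good η}.Finite := by
    have hcl : IsClosed (closure ({v'} : Set ↥(CohB1.ProjSpaceOver 1 X)) ∩ closure {w}) :=
      isClosed_closure.inter isClosed_closure
    obtain ⟨S, hSf, hSc, hSi, hS⟩ := TopologicalSpace.NoetherianSpace.exists_finite_set_isClosed_irreducible hcl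
    refine (hSf.biUnion (t := fun T => {η | IsGenericPoint η T}) fun T _ =>
      Set.Subsingleton.finite fun a ha b hb => ha.eq hb).subset ?_
    rintro η ⟨hη, -, hmax⟩
    have h' : η ∈ ⋃₀ S := hS ▸ ⟨hη.1.mem_closure, hη.2.mem_closure⟩
    obtain ⟨T, hT, hηT⟩ := h'
    have hg := (hSi T hT).isGenericPoint_genericPoint (hSc T hT)
    have hgC : (hSi T hT).genericPoint ∈ closure ({v'} : Set ↥(CohB1.ProjSpaceOver 1 X)) ∩ closure {w} :=
      hS ▸ ⟨T, hT, hg.mem⟩
    have he := hmax _ ⟨specializes_iff_mem_closure.mpr hgC.1, specializes_iff_mem_closure.mpr hgC.2⟩ (hg.specializes hηT)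
    refine Set.mem_biUnion hT ?_
    show IsGenericPoint η T
    rw [← he]
    exact hg
  let αf : ↥(CohB1.ProjSpaceOver 1 X) → ℤ := fun η =>
    if good η then IntMult.mult (IntMult.ptIdeal v') (IntMult.ptIdeal w) η else 0
  have hαg : ∀ η, αf η ≠ 0 → good η := fun η h => by
    by_contra hng
    exact h (if_neg hng)
  let α : AlgebraicCycle (CohB1.ProjSpaceOver 1 X) ℤ :=
    { toFun := αf
      supportWithinDomain' := Set.subset_univ _
      supportLocallyFiniteWithinDomain' := fun x _ =>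
        ⟨Set.univ, Filter.univ_mem, hfin.subset fun η hη => hαg η hη.2⟩ }
  have hαk : α ∈ Cyc.Zk _ δP (k + 1) := fun η hη => if_neg fun h => hη h.2.1
  have hsec : ∀ (i : Fin (1 + 1)) η, C η → η ∈ Set.range (P1.sect X i) → δP η ≤ k := by
    rintro i η ⟨h1', h2⟩ ⟨y, rfl⟩
    rw [P1C.delta_sect hP]
    refine hC i y ?_ h2
    have h3 := (hvp _).mp h1'
    rwa [P1C.toBase_sect] at h3
  have hzr : ∀ (i : Fin (1 + 1)) η, z i ⤳ η → η ∈ Set.range (P1.sect X i) := fun i η h => by
    haveI : IsClosedImmersion (P1.sect X i) := P1C.isClosedImmersion_sect i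
    exact h.mem_closed (P1.sect X i).isClosedEmbedding.isClosed_range ⟨_, rfl⟩
  have hαprop : ∀ i, IntMult.IntersectProperly δP (n + 1) ⇑α (Set.indicator {z i} 1) := by
    intro i ξ η ζ hξ hη hξζ hηζ
    obtain rfl : η = z i := (Set.indicator_apply_ne_zero.mp hη).1
    have hg := hαg ξ hξ
    have h3 := hsec i ζ ⟨hg.1.1.trans hξζ, hg.1.2.trans hξζ⟩ (hzr i ζ hηζ)
    rw [hg.2.1, show δP (z i) = n from (P1C.delta_sect hP i _).trans hn]
    omega
  have hkey : ∀ (i : Fin (1 + 1)) (x : X), δ x = k →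
      IntMult.interProd δP (n + 1) ⇑α (Set.indicator {z i} 1) (P1.sect X i x) =
        IntMult.interProd δ n (Set.indicator {v} 1) (Cyc.sheafFun δ s (G i)) x := by
    intro i x hx
    rw [← P1Fam.interProd_fibre f hδ hX hPK hP n hn r s k rfl v hv w hW i (hwi i) (hC i) x hx,
      H3CAlg.ChiTriple.interProd_comm δP (n + 1) ⇑α]
    have hzx : z i ⤳ P1.sect X i x := (genericPoint_specializes x).map (P1.sect X i).continuous
    rw [H3CAlg.ChiTriple.interProd_single_left δP (n + 1) _ _ _ hzx,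
      H3CAlg.ChiTriple.interProd_single_left δP (n + 1) _ _ _ hzx]
    refine finsum_mem_congr rfl fun η hη => ?_
    congr 1
    have hd : δP η = k + 1 := by
      have h4 := hη.2
      rw [P1C.delta_sect hP, P1C.delta_sect hP, hn, hx] at h4
      omega
    show (if good η then _ else 0) = _
    by_cases hCη : C η
    · have hmax : ∀ ξ, C ξ → ξ ⤳ η → ξ = η := fun ξ hξ hξη => by
        have h5 := P1Fam.delta_le f hPK i k ξ (P1.sect X i x) (hξη.trans hη.1) ⟨x, rfl⟩
          (by rw [P1C.delta_sect hP, hx]) fun q hq _ hr => hsec i q ⟨hξ.1.trans hq, hξ.2.trans hq⟩ hr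
        exact (H3CAlg.ChiMain.eq_of_specializes (π ≫ f) δP hPK hξη).2 (by omega)
      rw [if_pos ⟨hCη, hd, hmax⟩, H3CAlg.ChiTriple.interProd_single_single δP (n + 1) v' w η hCη.1 hCη.2
        (by rw [show δP v' = r + 1 from (P1Prod.delta_sig hP v).trans (by rw [hv]), hW, hd]; omega)]
    · rw [if_neg fun h => hCη h.1]
      by_contra hne
      obtain ⟨a, b, -⟩ := H3CAlg.ChiTriple.interProd_single_single_ne_zero δP (n + 1) _ _ η (Ne.symm hne)
      exact hCη ⟨a, b⟩
  -- the cycle on P¹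
  let γf : ↥(CohB1.ProjSpaceOver 1 X) → ℤ := IntMult.interProd δP (n + 1) ⇑α (Set.indicator {z 0} 1) -
    IntMult.interProd δP (n + 1) ⇑α (Set.indicator {z 1} 1)
  have hαd : ∀ η, α η ≠ 0 → δP η = k + 1 := fun η h => (hαg η h).2.1
  have hγsupp : ∀ p, γf p ≠ 0 → δP p = k ∧ ∃ i x, P1.sect X i x = p ∧
      IntMult.interProd δP (n + 1) ⇑α (Set.indicator {z i} 1) p ≠ 0 := fun p hp => by
    by_cases h2 : IntMult.interProd δP (n + 1) ⇑α (Set.indicator {z 0} 1) p = 0
    · have h3 : IntMult.interProd δP (n + 1) ⇑α (Set.indicator {z 1} 1) p ≠ 0 := fun e => hp (by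
        show _ - _ = (0 : ℤ); rw [h2, e, sub_zero])
      obtain ⟨⟨x, hx⟩, hd⟩ := S1952.support_interProd hP hn 1 _ hαd p h3
      exact ⟨hd, 1, x, hx, h3⟩
    · obtain ⟨⟨x, hx⟩, hd⟩ := S1952.support_interProd hP hn 0 _ hαd p h2
      exact ⟨hd, 0, x, hx, h2⟩
  have hγi : ∀ (i : Fin (1 + 1)), ∃ c : AlgebraicCycle X ℤ, ⇑c = IntMult.interProd δ n (Set.indicator {v} 1)
      (Cyc.sheafFun δ s (G i)) := fun i => by
    rw [← hGfun i]
    fin_cases i
    · exact ⟨γ₀, hγ₀⟩
    · exact ⟨γ₁, hγ₁⟩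
  have hγfin : (Function.support γf).Finite := by
    choose c hc using hγi
    refine ((Set.finite_univ (α := Fin (1 + 1))).biUnion (t := fun i => P1.sect X i '' Function.support ⇑(c i))
      fun i _ => (Limit.finite_support_of_compact (c i)).image _).subset fun p hp => ?_
    obtain ⟨hd, i, x, rfl, hne⟩ := hγsupp p hp
    refine Set.mem_biUnion (Set.mem_univ i) ⟨x, ?_, rfl⟩
    rw [P1C.delta_sect hP] at hd
    show c i x ≠ 0
    rw [hc i, ← hkey i x hd]
    exact hne
  let γ : AlgebraicCycle (CohB1.ProjSpaceOver 1 X) ℤ :=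
    { toFun := γf
      supportWithinDomain' := Set.subset_univ _
      supportLocallyFiniteWithinDomain' := fun x _ =>
        ⟨Set.univ, Filter.univ_mem, hγfin.subset fun η hη => hη.2⟩ }
  have hmain := S1952.result K X f δ hX hδ n hn δP hPX hP k α hαk (hαprop 0) (hαprop 1) γ rfl
  have hγ01 : ∀ x, δ x ≠ k → γ₀ x = 0 ∧ γ₁ x = 0 := fun x hx => by
    constructor
    all_goals
      first | rw [hγ₀] | rw [hγ₁]
      refine H3CAlg.ChiTriple.interProd_single_left_eq_zero δ n v _ x fun η _ _ he => ?_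
      have : δ η ≠ s := fun e => hx (by omega)
      simp [Cyc.subschemeFun, this]
  show Cyc.RatEquivZero δ k (γ₀ - γ₁)
  convert hmain using 1
  refine DFunLike.ext _ _ fun x => ?_
  rw [Function.locallyFinsuppWithin.coe_sub, Pi.sub_apply]
  show _ = ∑ᶠ p ∈ π ⁻¹' {x}, γ p * ((AlgebraicCycle.mapCoeff π δP δ p : ℕ) : ℤ)
  by_cases hx : δ x = k
  swap
  · rw [(hγ01 x hx).1, (hγ01 x hx).2, sub_zero, finsum_mem_eq_zero_of_forall_eq_zero fun p hp => ?_]
    by_cases hp0 : γ p = 0
    · rw [hp0, zero_mul]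
    · obtain ⟨hd, i, y, rfl, -⟩ := hγsupp p hp0
      rw [Set.mem_preimage, P1C.toBase_sect, Set.mem_singleton_iff] at hp
      rw [P1C.delta_sect hP, hp] at hd
      exact absurd hd hx
  have hS : ∀ i, ((AlgebraicCycle.mapCoeff π δP δ (P1.sect X i x) : ℕ) : ℤ) = 1 := fun i => by
    rw [AlgebraicCycle.mapCoeff, if_pos (by rw [P1C.toBase_sect, P1C.delta_sect hP]),
      ← Gysin.residueDegree_immersion_comp (P1.sect X i) π x, P1C.sect_toBase, Gysin.residueDegree_immersion]
    simp
  have hne : ∀ y y' : X, P1.sect X 0 y ≠ P1.sect X 1 y' := fun y y' e =>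
    P1C.notMem_U_opp (i := 1) ⟨y', rfl⟩ (e ▸ (P1C.mem_U_of_mem_range (i := 0) (p := P1.sect X 0 y) ⟨y, rfl⟩).1)
  have hzero0 : IntMult.interProd δP (n + 1) ⇑α (Set.indicator {z 1} 1) (P1.sect X 0 x) = 0 := by
    by_contra h2
    obtain ⟨y, hy⟩ := (S1952.support_interProd hP hn 1 _ hαd _ h2).1
    exact hne x y hy.symm
  have hzero1 : IntMult.interProd δP (n + 1) ⇑α (Set.indicator {z 0} 1) (P1.sect X 1 x) = 0 := by
    by_contra h2
    obtain ⟨y, hy⟩ := (S1952.support_interProd hP hn 0 _ hαd _ h2).1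
    exact hne y x hy
  rw [finsum_mem_eq_sum_of_subset _ (t := {P1.sect X 0 x, P1.sect X 1 x}) ?_ ?_, Finset.sum_pair (hne x x),
    hS 0, hS 1, mul_one, mul_one, hγ₀, hγ₁, hGfun 0, hGfun 1, ← hkey 0 x hx, ← hkey 1 x hx]
  · simp only [show ⇑γ = γf from rfl, γf, Pi.sub_apply]
    rw [hzero0, hzero1]
    ring
  · rintro p ⟨hpx, hp⟩
    simp only [Finset.coe_insert, Finset.coe_singleton, Set.mem_insert_iff, Set.mem_singleton_iff]
    obtain ⟨-, i, y, rfl, -⟩ := hγsupp p (left_ne_zero_of_mul hp)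
    rw [Set.mem_preimage, P1C.toBase_sect, Set.mem_singleton_iff] at hpx
    subst hpx
    fin_cases i
    · exact Or.inl rfl
    · exact Or.inr rfl
  · intro p hp
    simp only [Finset.coe_insert, Finset.coe_singleton, Set.mem_insert_iff, Set.mem_singleton_iff] at hp
    rcases hp with rfl | rfl <;> exact P1C.toBase_sect _ x

end Groth.Agent.S1949
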