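import Groth.Statements.S19492
import Groth.Agent.S7616
import Groth.Agent.S9673
import Groth.Agent.H11Ample.QuasiAffine
import Groth.Agent.H11Ample.RelQuasiAffine
import Groth.Agent.H11Ample.ImmersionPn
import Groth.Agent.H8Props.AmpleBatch
import Groth.Agent.H22Alg.PnBC
import Groth.Agent.H11Ample.AmpleOn

set_option autoImplicit false
universe u
open CategoryTheory AlgebraicGeometry
open Variety

namespace Groth.Agent.S19492

open CategoryTheory.Limits

/-- Over an algebraically closed field k, let X be an irreducible affine variety (an integral affine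
k-scheme of finite type). Then X is an open subvariety of an irreducible projective variety: there
are an integral k-scheme Y admitting a closed immersion over k into a projective space Pⁿ_k and an
open immersion j : X → Y over k. If X is normal (every local ring an integrally closed domain), then
Y can be chosen normal as well. -/
theorem result (k : Type u) [Field k]
    [IsAlgClosed k] (X : Scheme.{u}) (f : X ⟶ Spec (CommRingCat.of k)) [IsAffine X]
    [AlgebraicGeometry.IsIntegral X] [LocallyOfFiniteType f] :
    ∃ (Y : Scheme.{u}) (g : Y ⟶ Spec (CommRingCat.of k)) (n : ℕ) (c : Y ⟶ CohB1.ProjSpace n k)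
      (j : X ⟶ Y), AlgebraicGeometry.IsIntegral Y ∧ IsClosedImmersion c ∧
      c ≫ CohB1.ProjSpace.toSpec n k = g ∧ IsOpenImmersion j ∧ j ≫ g = f ∧
      (Pi1.IsNormalScheme X → Pi1.IsNormalScheme Y) := by
  let Sk := Spec (CommRingCat.of k)
  haveI : X.IsQuasiAffine := inferInstance
  have hX : CohB1.IsAmple (Coh.structureModule X) :=
    Groth.Agent.H11Ample.isAmple_of_isQuasiAffine Groth.Agent.H11Ample.isInvertible_structureModule
  obtain ⟨n, i, hi, hiq⟩ := Groth.Agent.H11Ample.exists_immersion_projSpaceOver f hX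
  haveI := hi
  let P := CohB1.ProjSpaceOver n Sk
  let p : P ⟶ Sk := CohB1.ProjSpaceOver.toBase n Sk
  haveI : IsProper p := inferInstanceAs (IsProper (pullback.snd _ _))
  haveI : QuasiCompact (i ≫ p) := hiq ▸ inferInstance
  haveI : QuasiCompact i := QuasiCompact.of_comp i p
  haveI : LocallyOfFiniteType (i ≫ p) := hiq ▸ inferInstance
  haveI : LocallyOfFiniteType i := locallyOfFiniteType_of_comp i p
  haveI : QuasiSeparated i := inferInstance
  letI : P.Over Sk := ⟨p⟩
  letI : X.Over Sk := ⟨f⟩
  haveI : i.IsOver Sk := ⟨hiq⟩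
  haveI : LocallyOfFiniteType (P ↘ Sk) := inferInstanceAs (LocallyOfFiniteType p)
  haveI : LocallyOfFiniteType (X ↘ Sk) := inferInstanceAs (LocallyOfFiniteType f)
  haveI : IsFinite i.fromNormalization := Groth.Agent.S7616.result k P X i
  let ν := i.fromNormalization
  have hνp : i.toNormalization ≫ ν ≫ p = f := by
    rw [← Category.assoc, i.toNormalization_fromNormalization]
    exact hiq
  haveI : IsProper (ν ≫ p) := inferInstance
  have hS : ∃ N : Sk.Modules, CohB1.IsAmple N :=
    ⟨_, Groth.Agent.H11Ample.isAmple_of_isQuasiAffine Groth.Agent.H11Ample.isInvertible_structureModule⟩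
  obtain ⟨M, hM⟩ := Groth.Agent.H8Props.Ample.exists_isAmple_projSpaceOver n hS
  have hY := Groth.Agent.H11Ample.isAmple_pullback_of_isAffineHom ν hM
  haveI : CompactSpace ↥i.normalization := QuasiCompact.compactSpace_of_compactSpace (ν ≫ p)
  haveI : QuasiSeparatedSpace ↥i.normalization := quasiSeparatedSpace_of_quasiSeparated (ν ≫ p)
  obtain ⟨N, c, hc, hcq⟩ := Groth.Agent.H11Ample.exists_immersion_projSpaceOver (ν ≫ p) hY
  obtain ⟨φ, hφ⟩ := Groth.Agent.H22Alg.PnBC.isPullback_projSpaceOver N k
  haveI := hc
  have hcc : (c ≫ φ.hom) ≫ CohB1.ProjSpace.toSpec N k = ν ≫ p := by rw [Category.assoc, hφ, hcq]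
  haveI : IsImmersion (c ≫ φ.hom) := inferInstance
  haveI : IsProper ((c ≫ φ.hom) ≫ CohB1.ProjSpace.toSpec N k) := hcc ▸ inferInstance
  haveI : IsProper (c ≫ φ.hom) := IsProper.of_comp (c ≫ φ.hom) (CohB1.ProjSpace.toSpec N k)
  haveI hcl : IsClosedImmersion (c ≫ φ.hom) := IsClosedImmersion.of_isPreimmersion _ (c ≫ φ.hom).isClosedMap.isClosed_range
  haveI : IsOpenImmersion i.toNormalization := inferInstance
  refine ⟨i.normalization, ν ≫ p, N, c ≫ φ.hom, i.toNormalization, inferInstance, hcl, hcc, inferInstance, hνp,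
    fun hn => ?_⟩
  haveI : Finite ↑(irreducibleComponents ↥X) := by
    rw [irreducibleComponents_eq_singleton]; infer_instance
  exact (Groth.Agent.S9673.result i hn (locallyFinite_of_finite _)).1

end Groth.Agent.S19492
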