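import Mathlib
import Groth.Statements.S19493
import Groth.Agent.H05EGA4.SchDomAss
import Groth.Agent.H05EGA4.EtaleFac

set_option autoImplicit false
set_option linter.style.haveILetI false
universe u
open CategoryTheory CategoryTheory.Limits AlgebraicGeometry
open Groth.Agent
open EtHull

namespace Groth.Agent.S19493

theorem mem_ass_of_maximal {X : Scheme.{u}} [IsLocallyNoetherian X] {x : X} (hx : ∀ y, y ⤳ x → y = x) :
    x ∈ AssSch.Ass (Coh.structureModule X) := by
  obtain ⟨V, hV, hxV, -⟩ := exists_isAffineOpen_mem_and_subset (X := X) (x := x) (U := ⊤) trivial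
  haveI : IsNoetherianRing Γ(X, V) := IsLocallyNoetherian.component_noetherian ⟨V, hV⟩
  refine (S8871.isAssPoint_iff _ (H29Blow.isQCoh_structureModule _) hV ⟨x, hxV⟩).mpr ?_
  obtain ⟨r, hr, hle⟩ := Ideal.exists_minimalPrimes_le (bot_le : (⊥ : Ideal Γ(X, V)) ≤ (hV.primeIdealOf ⟨x, hxV⟩).asIdeal)
  haveI := hr.1.1
  obtain ⟨w, hw⟩ := H29Blow.exists_primeIdealOf_eq hV ⟨r, inferInstance⟩
  have hwx : w.1 ⤳ x := (H29Blow.primeIdealOf_le_iff hV w ⟨x, hxV⟩).mp (by rw [hw]; exact hle)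
  obtain rfl : w = ⟨x, hxV⟩ := Subtype.ext (hx _ hwx)
  rw [hw]
  refine Module.associatedPrimes.minimalPrimes_annihilator_subset_associatedPrimes Γ(X, V) Γ(X, V) ?_
  rw [Module.annihilator_eq_bot.mpr inferInstance]
  exact hr

theorem ass_preimage {S S' : Scheme.{u}} [IsLocallyNoetherian S] [IsLocallyNoetherian S'] (f : S' ⟶ S)
    [IsIntegralHom f] [UniversallyInjective f] [Surjective f]
    (hemb : ∀ s' : S', (s' ∈ AssSch.Ass (Coh.structureModule S') ∧ ∃ t ∈ AssSch.Ass (Coh.structureModule S'), t ⤳ s' ∧ t ≠ s') ↔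
      (f.base s' ∈ AssSch.Ass (Coh.structureModule S) ∧ ∃ t ∈ AssSch.Ass (Coh.structureModule S), t ⤳ f.base s' ∧ t ≠ f.base s'))
    (s' : S') : s' ∈ AssSch.Ass (Coh.structureModule S') ↔ f.base s' ∈ AssSch.Ass (Coh.structureModule S) := by
  have hemb' : Topology.IsClosedEmbedding f.base := Topology.IsClosedEmbedding.of_continuous_injective_isClosedMap
    f.continuous f.injective f.isClosedMap
  have hsp : ∀ a b : S', a ⤳ b ↔ f.base a ⤳ f.base b := fun a b => hemb'.isInducing.specializes_iff.symm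
  constructor
  · intro hs
    by_cases h : ∃ t ∈ AssSch.Ass (Coh.structureModule S'), t ⤳ s' ∧ t ≠ s'
    · exact ((hemb s').mp ⟨hs, h⟩).1
    push Not at h
    refine mem_ass_of_maximal fun y hy => ?_
    obtain ⟨y', rfl⟩ := f.surjective y
    obtain ⟨γ, hγ, hγm⟩ := H05EGA4.EtaleFac.exists_maximal y'
    have h1 : γ ⤳ s' := hγ.trans ((hsp _ _).mpr hy)
    obtain rfl := h γ (mem_ass_of_maximal hγm) h1
    rw [(Specializes.antisymm ((hsp _ _).mpr hy) hγ).eq]
  · intro hs
    by_cases h : ∃ t ∈ AssSch.Ass (Coh.structureModule S), t ⤳ f.base s' ∧ t ≠ f.base s'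
    · exact ((hemb s').mpr ⟨hs, h⟩).1
    push Not at h
    refine mem_ass_of_maximal fun y hy => ?_
    obtain ⟨γ, hγ, hγm⟩ := H05EGA4.EtaleFac.exists_maximal (f.base y)
    have h1 : γ ⤳ f.base s' := hγ.trans ((hsp _ _).mp hy)
    have h2 := h γ (mem_ass_of_maximal hγm) h1
    subst h2
    exact f.injective (Specializes.antisymm ((hsp _ _).mp hy) hγ).eq

theorem result {X E S S' E' X' : Scheme.{u}}
    [IsLocallyNoetherian S] [IsLocallyNoetherian S'] (f : S' ⟶ S) [IsIntegralHom f]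
    [UniversallyInjective f] [Surjective f]
    (hemb : ∀ s' : S', (s' ∈ AssSch.Ass (Coh.structureModule S') ∧ ∃ t ∈ AssSch.Ass (Coh.structureModule S'), t ⤳ s' ∧ t ≠ s') ↔
      (f.base s' ∈ AssSch.Ass (Coh.structureModule S) ∧ ∃ t ∈ AssSch.Ass (Coh.structureModule S), t ⤳ f.base s' ∧ t ≠ f.base s'))
    (a : X ⟶ S) [Flat a] [Surjective a] (g : E ⟶ S) [Etale g] (u : X ⟶ E) (hu : u ≫ g = a)
    (g' : E' ⟶ S') (φ : E' ⟶ E) (hE : IsPullback φ g' g f)
    (u' : X' ⟶ E') (ψ : X' ⟶ X) (hX : IsPullback ψ u' u φ) :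
    IsSchemeTheoreticallyDominant u ↔ IsSchemeTheoreticallyDominant u' := by
  haveI : Etale g' := MorphismProperty.of_isPullback hE ‹Etale g›
  haveI : Surjective φ := MorphismProperty.of_isPullback hE.flip ‹Surjective f›
  haveI : IsLocallyNoetherian E := LocallyOfFiniteType.isLocallyNoetherian g
  haveI : IsLocallyNoetherian E' := LocallyOfFiniteType.isLocallyNoetherian g'
  haveI : Flat (u ≫ g) := hu ▸ ‹Flat a›
  haveI : Flat u := H05EGA4.SchImageClopen.flat_of_comp u g
  haveI : Flat u' := MorphismProperty.of_isPullback hX ‹Flat u›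
  rw [H05EGA4.SchDomAss.dominant_iff, H05EGA4.SchDomAss.dominant_iff]
  have hass : ∀ e' : E', e' ∈ AssSch.Ass (Coh.structureModule E') ↔ φ.base e' ∈ AssSch.Ass (Coh.structureModule E) := by
    intro e'
    rw [H05EGA4.SchDomAss.mem_ass_iff_of_etale g', H05EGA4.SchDomAss.mem_ass_iff_of_etale g, ass_preimage f hemb]
    have h := congr($(hE.w).base e')
    rw [show g.base (φ.base e') = f.base (g'.base e') from h]
  have hran : ∀ e' : E', e' ∈ Set.range u'.base ↔ φ.base e' ∈ Set.range u.base := by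
    refine fun e' => ⟨?_, ?_⟩
    · rintro ⟨x', rfl⟩
      exact ⟨ψ.base x', congr($(hX.w).base x')⟩
    · rintro ⟨x, hx⟩
      obtain ⟨z, hz1, hz2⟩ := Scheme.Pullback.exists_preimage_pullback (f := u) (g := φ) x e' hx
      refine ⟨hX.isoPullback.inv.base z, ?_⟩
      rw [← Scheme.Hom.comp_apply, hX.isoPullback_inv_snd]
      exact hz2
  constructor
  · intro h e' he'
    exact (hran e').mpr (h ((hass e').mp he'))
  · intro h e he
    obtain ⟨e', rfl⟩ := φ.surjective e
    exact (hran e').mp (h ((hass e').mpr he))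

end Groth.Agent.S19493
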