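import Groth.Statements.S19494
import Groth.Agent.H05EGA4.EtaleFac

set_option autoImplicit false
open CategoryTheory AlgebraicGeometry
universe u
open EtHull

namespace Groth.Agent.S19494

/-- Let S be a Noetherian scheme all of whose local rings are geometrically unibranch and whose
structure sheaf has no embedded associated points, and let f : X → S be flat, surjective and of
finite presentation. Call an admissible factorization a factorization X → E → S of f with E → S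
étale and affine and X → E scheme-theoretically dominant. Then any two admissible factorizations X →
E₁ → S and X → E₂ → S have an infimum: an admissible factorization X → E → S together with
compatible S-morphisms E₁ → E and E₂ → E, such that every admissible factorization X → E' → S
receiving compatible S-morphisms E₁ → E' and E₂ → E' admits a compatible morphism E → E'. (The
source allows X to be an algebraic space; X is a scheme here.) -/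
theorem result {X S : Scheme.{u}} [IsNoetherian S]
    (hS : ∀ s : S, CAlg2.IsGeomUnibranch (S.presheaf.stalk s))
    (hemb : AssSch.NoEmbedded (Coh.structureModule S))
    (f : X ⟶ S) [Flat f] [Surjective f] [LocallyOfFinitePresentation f] [QuasiCompact f]
    [QuasiSeparated f]
    (E₁ E₂ : Scheme.{u}) (g₁ : E₁ ⟶ S) (g₂ : E₂ ⟶ S) (u₁ : X ⟶ E₁) (u₂ : X ⟶ E₂)
    [Etale g₁] [Etale g₂] [IsAffineHom g₁] [IsAffineHom g₂]
    [IsSchemeTheoreticallyDominant u₁] [IsSchemeTheoreticallyDominant u₂]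
    (h₁ : u₁ ≫ g₁ = f) (h₂ : u₂ ≫ g₂ = f) :
    ∃ (E : Scheme.{u}) (g : E ⟶ S) (u : X ⟶ E) (v₁ : E₁ ⟶ E) (v₂ : E₂ ⟶ E),
      Etale g ∧ IsAffineHom g ∧ IsSchemeTheoreticallyDominant u ∧ u ≫ g = f ∧
      u₁ ≫ v₁ = u ∧ u₂ ≫ v₂ = u ∧ v₁ ≫ g = g₁ ∧ v₂ ≫ g = g₂ ∧
      ∀ (E' : Scheme.{u}) (g' : E' ⟶ S) (u' : X ⟶ E') (w₁ : E₁ ⟶ E') (w₂ : E₂ ⟶ E'),
        Etale g' → IsAffineHom g' → IsSchemeTheoreticallyDominant u' → u' ≫ g' = f →
        u₁ ≫ w₁ = u' → u₂ ≫ w₂ = u' → w₁ ≫ g' = g₁ → w₂ ≫ g' = g₂ →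
        ∃ w : E ⟶ E', u ≫ w = u' ∧ v₁ ≫ w = w₁ ∧ v₂ ≫ w = w₂ := by
  let F₁ : Groth.Agent.H05EGA4.EtaleFac.Fac f :=
    ⟨E₁, g₁, u₁, inferInstance, inferInstance, inferInstance, h₁⟩
  let F₂ : Groth.Agent.H05EGA4.EtaleFac.Fac f :=
    ⟨E₂, g₂, u₂, inferInstance, inferInstance, inferInstance, h₂⟩
  obtain ⟨L₀, hL₀⟩ := Groth.Agent.H05EGA4.EtaleFac.exists_trivial (f := f)
  obtain ⟨M, ⟨⟨v₁, hv₁, hv₁'⟩, ⟨v₂, hv₂, hv₂'⟩⟩, hM⟩ :=
    Groth.Agent.H05EGA4.EtaleFac.exists_greatest hS hemb (fun L => F₁.Over L ∧ F₂.Over L) L₀ ⟨hL₀ _, hL₀ _⟩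
      (fun L₁ L₂ N hQ₁ hQ₂ h => ⟨h F₁ hQ₁.1 hQ₂.1, h F₂ hQ₁.2 hQ₂.2⟩)
  haveI := M.dom
  refine ⟨M.E, M.g, M.u, v₁, v₂, M.et, M.aff, M.dom, M.w, hv₁, hv₂, hv₁', hv₂',
    fun E' g' u' w₁ w₂ hg' hga' hu' hug hw₁ hw₂ hw₁' hw₂' => ?_⟩
  haveI := hga'
  obtain ⟨w, hw, hw'⟩ := hM ⟨E', g', u', hg', hga', hu', hug⟩ ⟨⟨w₁, hw₁, hw₁'⟩, ⟨w₂, hw₂, hw₂'⟩⟩
  refine ⟨w, hw, Groth.Agent.H05EGA4.EtaleFac.ext_of_dominant u₁ g' ?_ ?_,
    Groth.Agent.H05EGA4.EtaleFac.ext_of_dominant u₂ g' ?_ ?_⟩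
  · rw [Category.assoc, hw', hv₁', hw₁']
  · rw [reassoc_of% hv₁, hw, hw₁]
  · rw [Category.assoc, hw', hv₂', hw₂']
  · rw [reassoc_of% hv₂, hw, hw₂]

end Groth.Agent.S19494
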