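import Groth.Statements.S19495
import Groth.Agent.S15999
import Groth.Agent.H22Alg.Frobenius

set_option autoImplicit false
open CategoryTheory AlgebraicGeometry
universe u
open EtHull
open Groth.Agent CategoryTheory.Limits

namespace Groth.Agent.S19495

/-- An etale morphism has invertible relative Frobenius. -/
theorem isIso_relFrob (p : ℕ) [Fact p.Prime] {P S : Scheme.{u}} [FrobSch.IsCharP S p] (c : P ⟶ S) [Etale c] :
    IsIso (FrobSch.relFrob c p) := by
  haveI : FrobSch.IsCharP P p := FrobSch.IsCharP.of_hom c p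
  obtain ⟨_, _, _⟩ := (H7Flat.isUnivHomeo_iff _).mp (H22Alg.Frobenius.isUnivHomeo_relFrob (p := p) c)
  haveI : Etale (pullback.snd c (FrobSch.frob S p)) := MorphismProperty.pullback_snd _ _ ‹Etale c›
  haveI : Etale (FrobSch.relFrob c p ≫ pullback.snd c (FrobSch.frob S p)) := by
    rw [FrobSch.relFrob_snd]; infer_instance
  haveI : Etale (FrobSch.relFrob c p) := Etale.of_comp _ (pullback.snd c (FrobSch.frob S p))
  haveI : Surjective (pullback.diagonal (FrobSch.relFrob c p)) :=
    (UniversallyInjective.iff_diagonal _).mp inferInstance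
  haveI : IsIso (pullback.diagonal (FrobSch.relFrob c p)) :=
    (isIso_iff_isOpenImmersion_and_surjective _).mpr ⟨inferInstance, inferInstance⟩
  haveI : Mono (FrobSch.relFrob c p) := (pullback.isIso_diagonal_iff _).mp inferInstance
  haveI := IsOpenImmersion.of_flat_of_mono (FrobSch.relFrob c p)
  exact (isIso_iff_isOpenImmersion_and_surjective _).mpr ⟨inferInstance, inferInstance⟩

/-- The `p`-th power map kills a square zero ideal, hence factors through the quotient. -/
theorem exists_factor_pow (p : ℕ) [Fact p.Prime] {R T : CommRingCat.{u}} (h0 : (p : R) = 0) (φ : R ⟶ T)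
    (hφ : Function.Surjective φ) (hI : RingHom.ker φ.hom ^ 2 = ⊥) :
    ∃ ψ : T ⟶ R, φ ≫ ψ = CommRingCat.ofHom (FrobSch.powHom p R h0) := by
  have hle : RingHom.ker φ.hom ≤ RingHom.ker (FrobSch.powHom p R h0) := fun x hx => by
    rw [RingHom.mem_ker, FrobSch.powHom_apply]
    refine pow_eq_zero_of_le (Fact.out : p.Prime).two_le ?_
    exact Ideal.mem_bot.mp (hI ▸ Ideal.pow_mem_pow hx 2)
  exact ⟨CommRingCat.ofHom (φ.hom.liftOfSurjective hφ ⟨_, hle⟩),
    CommRingCat.hom_ext (RingHom.ext fun x => φ.hom.liftOfRightInverse_comp_apply _ (Function.rightInverse_surjInv hφ) ⟨FrobSch.powHom p R h0, hle⟩ x)⟩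

/-- A relatively perfect morphism is formally unramified. -/
theorem formallyUnramified_of_relFrob (p : ℕ) [Fact p.Prime] {Y S : Scheme.{u}} [FrobSch.IsCharP S p] (b : Y ⟶ S)
    (hb : IsIso (FrobSch.relFrob b p)) : FormallyUnramified b := by
  haveI : FrobSch.IsCharP Y p := FrobSch.IsCharP.of_hom b p
  refine FormallyUnramified.of_hom_ext b fun R T φ hφ hI g₁ g₂ hg hgb => ?_
  haveI : FrobSch.IsCharP (Spec R) p := FrobSch.IsCharP.of_hom g₁ p
  have h0 : (p : R) = 0 := by
    have h := congrArg (Scheme.ΓSpecIso R).hom.hom (FrobSch.IsCharP.natCast_eq_zero (X := Spec R) (p := p))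
    rwa [map_natCast, map_zero] at h
  obtain ⟨ψ, hψ⟩ := exists_factor_pow p h0 φ hφ hI
  have hF : FrobSch.frob (Spec R) p = Spec.map ψ ≫ Spec.map φ := by
    rw [← Spec.map_comp, hψ]
    refine ext_of_isAffine ?_
    refine CommRingCat.hom_ext (RingHom.ext fun z => ?_)
    apply (ConcreteCategory.bijective_of_isIso (Scheme.ΓSpecIso R).hom).1
    have h1 := ConcreteCategory.congr_hom (Scheme.ΓSpecIso_naturality (CommRingCat.ofHom (FrobSch.powHom p R h0))) z
    refine Eq.trans ?_ h1.symm
    show (Scheme.ΓSpecIso R).hom (z ^ p) = ((Scheme.ΓSpecIso R).hom z) ^ p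
    exact map_pow _ _ _
  rw [← cancel_mono (FrobSch.relFrob b p)]
  refine pullback.hom_ext ?_ ?_
  · simp only [Category.assoc, FrobSch.relFrob_fst]
    rw [← FrobSch.frob_comp, ← FrobSch.frob_comp, hF, Category.assoc, Category.assoc, hg]
  · simpa only [Category.assoc, FrobSch.relFrob_snd] using hgb

/-- Let p be a prime and S a Noetherian scheme of characteristic p (p = 0 in O_S); let a : X → S be
flat, surjective and of finite presentation, c : P → S étale, quasi-compact and quasi-separated, and
ϖ : X → P a morphism over S which is initial among S-morphisms from X to étale finitely presented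
S-schemes: for every étale quasi-compact quasi-separated E → S, every S-morphism X → E factors
uniquely through ϖ. Then ϖ is a coperfection of X over S: P is relatively perfect over S (the
relative Frobenius of c is an isomorphism) and for every S-scheme Y → S which is relatively perfect
(relative Frobenius an isomorphism), every S-morphism X → Y factors uniquely through ϖ. (The source
allows algebraic spaces and phrases the hypothesis as the existence of an initial object; schemes
here.) -/
theorem result (p : ℕ) [Fact p.Prime]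
    {X P S : Scheme.{u}} [IsNoetherian S] [FrobSch.IsCharP S p]
    (a : X ⟶ S) [Flat a] [Surjective a] [LocallyOfFinitePresentation a] [QuasiCompact a]
    [QuasiSeparated a] (c : P ⟶ S) [Etale c] [QuasiCompact c] [QuasiSeparated c]
    (ϖ : X ⟶ P) (hϖ : ϖ ≫ c = a)
    (hinit : ∀ (E : Scheme.{u}) (e : E ⟶ S), Etale e → QuasiCompact e → QuasiSeparated e →
      ∀ k : X ⟶ E, k ≫ e = a → ∃! l : P ⟶ E, ϖ ≫ l = k ∧ l ≫ e = c) :
    IsIso (FrobSch.relFrob c p) ∧
      ∀ (Y : Scheme.{u}) (b : Y ⟶ S), IsIso (FrobSch.relFrob b p) →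
        ∀ k : X ⟶ Y, k ≫ b = a → ∃! l : P ⟶ Y, ϖ ≫ l = k ∧ l ≫ b = c := by
  refine ⟨isIso_relFrob p c, fun Y b hb k hk => ?_⟩
  haveI := formallyUnramified_of_relFrob p b hb
  exact S15999.result a c ϖ hϖ hinit Y b k hk

end Groth.Agent.S19495
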