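import Groth.Statements.S19499
import Groth.Agent.H11BlowBC.Main
import Groth.Agent.S1676
import Groth.Agent.H26Smooth.ProjSmooth
import Groth.Agent.H27Weil.Geometry

set_option autoImplicit false
set_option linter.style.haveILetI false
universe u
open CategoryTheory CategoryTheory.Limits AlgebraicGeometry
open IntTh

namespace Groth.Agent.S19499

/-- Formation of M commutes with base change: let f : X ⟶ S be locally projective, flat, surjective and
locally of finite presentation, with every fibre of local dimension n at each of its points, and let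
i : Y ⟶ X be a closed immersion that is regular of constant codimension c ≤ n (locally cut out by a
regular sequence of length c) such that Y ⟶ S is again locally projective, flat, surjective and
locally of finite presentation with fibres of local dimension n − c everywhere. Let b : M ⟶ P¹_X be
a blowing-up of P¹_X in the closed subscheme Y × {∞} (the image of Y under the section at infinity),
given through its universal property. Let S' ⟶ S be any morphism, X' = X ×_S S' and Y' = Y ×_S S'
the base changes with the induced closed immersion i' : Y' ⟶ X', and M' = M ×_{P¹_X} P¹_{X'} with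
projection b' : M' ⟶ P¹_{X'} (so M' = M ×_S S'). Then b' is a blowing-up of P¹_{X'} in Y' × {∞}: the
formation of the deformation to the normal cone commutes with arbitrary base change on S. -/
theorem result
    {S S' X X' Y Y' M M' : Scheme.{u}} (f : X ⟶ S) (n c : ℕ) (hc : c ≤ n)
    (hfproj : RedSub.IsLocallyProjective (Over.mk f))
    [Flat f] [Surjective f] [LocallyOfFinitePresentation f]
    (hfdim : ∀ x : ↥X, FlatMor.fibreDimAt f x = n)
    (i : Y ⟶ X) [IsClosedImmersion i]
    (hi : RegImm.IsRegularImmersionOfCodim RegImm.Kind.regular c i)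
    (hgproj : RedSub.IsLocallyProjective (Over.mk (i ≫ f)))
    [Flat (i ≫ f)] [Surjective (i ≫ f)] [LocallyOfFinitePresentation (i ≫ f)]
    (hgdim : ∀ y : ↥Y, FlatMor.fibreDimAt (i ≫ f) y = ((n - c : ℕ) : WithBot ℕ∞))
    (b : M ⟶ CohB1.ProjSpaceOver 1 X)
    (hb : BlowUp.IsBlowUp b (i ≫ P1.sect X 1).ker)
    (h : S' ⟶ S) (f' : X' ⟶ S') (g : X' ⟶ X) (hX : IsPullback g f' f h)
    (i' : Y' ⟶ X') (gY : Y' ⟶ Y) (hY : IsPullback gY i' i g)
    (b' : M' ⟶ CohB1.ProjSpaceOver 1 X') (μ : M' ⟶ M) (hM : IsPullback μ b' b (P1.toP1 g)) :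
    BlowUp.IsBlowUp b' (i' ≫ P1.sect X' 1).ker := by
  have hs : P1.sect X 1 ≫ CohB1.ProjSpaceOver.toBase 1 X = 𝟙 X := pullback.lift_snd _ _ _
  have hs' : P1.sect X' 1 ≫ CohB1.ProjSpaceOver.toBase 1 X' = 𝟙 X' := pullback.lift_snd _ _ _
  haveI : IsProper (CohB1.ProjSpaceOver.toBase 1 X) := H27Weil.isProper_toBase 1 X
  haveI : IsClosedImmersion (P1.sect X 1) := by
    haveI : IsClosedImmersion (P1.sect X 1 ≫ CohB1.ProjSpaceOver.toBase 1 X) := by rw [hs]; infer_instance
    exact IsClosedImmersion.of_comp _ (CohB1.ProjSpaceOver.toBase 1 X)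
  haveI : Flat ((i ≫ P1.sect X 1) ≫ CohB1.ProjSpaceOver.toBase 1 X ≫ f) := by
    rw [Category.assoc, reassoc_of% hs]; infer_instance
  have hk : RegImm.IsRegularImmersion .koszul (i ≫ P1.sect X 1) := by
    refine H17.KoszComp.comp_isRegularImmersion (P1.sect X 1) i ⟨inferInstance, fun z => ?_⟩
      ⟨inferInstance, fun z => ?_⟩
    · obtain ⟨U, hU, hz, rs, hrs, hker⟩ := (Groth.Agent.S1676.result (CohB1.ProjSpaceOver.toBase 1 X) _ hs).2 z
      exact ⟨⟨U, hU⟩, hz, IsZariskiLocalAtTarget.restrict (P := @IsClosedImmersion) inferInstance U, rs,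
        H29Slice.isKoszulRegular_of_isWeaklyRegular hrs.1, (Scheme.Hom.ker_apply _ ⟨U, hU⟩).symm.trans hker⟩
    · obtain ⟨U, hz, hcl, rs, -, hrs, hker⟩ := hi.2 z
      exact ⟨U, hz, hcl, rs, H29Slice.isKoszulRegular_of_isWeaklyRegular hrs.1, hker⟩
  have e1 : P1.toP1 g ≫ pullback.fst _ _ = pullback.fst _ _ :=
    (pullback.lift_fst _ _ _).trans (Category.comp_id _)
  have e2 : P1.toP1 g ≫ CohB1.ProjSpaceOver.toBase 1 _ = CohB1.ProjSpaceOver.toBase 1 _ ≫ g := pullback.lift_snd _ _ _
  have hP : IsPullback (P1.toP1 g) (CohB1.ProjSpaceOver.toBase 1 X') (CohB1.ProjSpaceOver.toBase 1 X) g := by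
    refine IsPullback.of_right ?_ e2 (IsPullback.of_hasPullback _ _)
    rw [e1, specULiftZIsTerminal.hom_ext (g ≫ specULiftZIsTerminal.from _) (specULiftZIsTerminal.from _)]
    exact IsPullback.of_hasPullback _ _
  have hsec : P1.sect X' 1 ≫ P1.toP1 g = g ≫ P1.sect X 1 := by
    refine pullback.hom_ext ?_ ?_
    · have h1 : ∀ (Z : Scheme.{u}), P1.sect Z 1 ≫ pullback.fst _ _ = specULiftZIsTerminal.from Z ≫ P1.point 1 :=
        fun Z => pullback.lift_fst _ _ _
      refine ((Category.assoc _ _ _).trans ?_).trans (Category.assoc _ _ _).symm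
      refine ((congrArg (P1.sect X' 1 ≫ ·) e1).trans (h1 X')).trans ?_
      refine Eq.trans ?_ (congrArg (g ≫ ·) (h1 X)).symm
      rw [← Category.assoc,
        specULiftZIsTerminal.hom_ext (g ≫ specULiftZIsTerminal.from X) (specULiftZIsTerminal.from X')]
    · show (_ ≫ _) ≫ CohB1.ProjSpaceOver.toBase 1 X = (_ ≫ _) ≫ CohB1.ProjSpaceOver.toBase 1 X
      rw [Category.assoc, e2, reassoc_of% hs', Category.assoc, hs, Category.comp_id]
  have hS : IsPullback g (P1.sect X' 1) (P1.sect X 1) (P1.toP1 g) :=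
    IsPullback.of_bot (by rw [hs', hs]; exact IsPullback.of_vert_isIso ⟨by simp⟩) hsec.symm hP
  have hsq : IsPullback gY (i' ≫ P1.sect X' 1) (i ≫ P1.sect X 1) (P1.toP1 g) := hY.paste_vert hS
  have hker : (i' ≫ P1.sect X' 1).ker = (i ≫ P1.sect X 1).ker.comap (P1.toP1 g) := by
    rw [← Scheme.IdealSheafData.ker_fst_of_isClosedImmersion, ← hsq.flip.isoPullback_hom_fst,
      Scheme.Hom.ker_comp_of_isIso]
  rw [hker]
  exact H11BlowBC.isBlowUp_of_isPullback (CohB1.ProjSpaceOver.toBase 1 X ≫ f) _ hk (hP.paste_vert hX) b hb μ b' hM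

end Groth.Agent.S19499
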