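import Groth.Statements.S1950
import Groth.Agent.H3Cyc.PushLocal
import Groth.Agent.H3Cyc.FlatRat
import Groth.Agent.H3Cyc.Limit
import Groth.Agent.H3CAlg.ChiCycles
-- import your own Groth.Agent.* helpers here

set_option autoImplicit false
set_option backward.isDefEq.respectTransparency.types false
universe u
open CategoryTheory CategoryTheory.Limits AlgebraicGeometry
attribute [local instance] HasDerivedCategory.standard
open IntMult

namespace Groth.Agent.S1950

/-- Let f : X → Y be proper and flat, where X and Y are nonsingular varieties over K of dimensions n and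
m, e = n − m, α an r-cycle on X and β an s-cycle on Y such that α and f^*β intersect properly. The
pushforward f_*α then meets β properly, and on Y the cycle f_*α · β equals f_*(α · f^*β) (flat
pullback and products taken coefficientwise; f_* is Mathlib's pushforward, applied to any cycle with
the coefficients of α · f^*β). Here X is a nonsingular variety over the algebraically closed field K
(smooth, separated, quasi-compact, integral) with dimension function δ (transcendence degree) and n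
= dim X; cycles are Mathlib AlgebraicCycles with Cyc.Zk membership, proper intersection is
IntMult.IntersectProperly and α · β is the Tor-formula intersection product on coefficient functions
(IntMult.interProd), bundled where needed as 'any cycle with these coefficients'. -/
theorem result (K : Type u) [Field K] [IsAlgClosed K] (X Y : Scheme.{u}) (f : X ⟶ Y) (gX : X ⟶ Spec (CommRingCat.of K)) (gY : Y ⟶ Spec (CommRingCat.of K)) (hf : f ≫ gY = gX) [Smooth gX] [IsSeparated gX] [QuasiCompact gX] [IsIntegral X] [Smooth gY] [IsSeparated gY] [QuasiCompact gY] [IsIntegral Y] [Flat f] [IsProper f] (δX : X → ℤ) (δY : Y → ℤ) (hX : Cyc.IsSetup X δX) (hY : Cyc.IsSetup Y δY) (hδX : Cyc.DeltaCompat gX δX (fun _ => 0)) (hδY : Cyc.DeltaCompat gY δY (fun _ => 0)) (hδ : Cyc.DeltaCompat f δX δY) (n m : ℤ) (hn : δX (genericPoint X) = n) (hm : δY (genericPoint Y) = m) (e : ℕ) (he : (e : ℤ) = n - m) (hrel : Cyc.HasRelDim f e) (r s : ℤ) (α : AlgebraicCycle X ℤ) (β : AlgebraicCycle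 Y ℤ) (hα : α ∈ Cyc.Zk X δX r) (hβ : β ∈ Cyc.Zk Y δY s) (hprop : IntMult.IntersectProperly δX n ⇑α (Cyc.pullFun f δX δY e ⇑β)) (γ : AlgebraicCycle X ℤ) (hγ : ⇑γ = IntMult.interProd δX n ⇑α (Cyc.pullFun f δX δY e ⇑β)) : IntMult.IntersectProperly δY m ⇑(AlgebraicCycle.map f δX δY α) ⇑β ∧ IntMult.interProd δY m ⇑(AlgebraicCycle.map f δX δY α) ⇑β = ⇑(AlgebraicCycle.map f δX δY γ) := by
  classical
  haveI : IsLocallyNoetherian X := LocallyOfFiniteType.isLocallyNoetherian gX
  haveI : IsLocallyNoetherian Y := LocallyOfFiniteType.isLocallyNoetherian gY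
  haveI : CompactSpace X := (quasiCompact_iff_compactSpace gX).mp inferInstance
  haveI : CompactSpace Y := (quasiCompact_iff_compactSpace gY).mp inferInstance
  haveI : IsNoetherian X := {}
  haveI : IsNoetherian Y := {}
  have hmem : ∀ {Z : Scheme.{u}} (δ : Z → ℤ) (c : AlgebraicCycle Z ℤ) (t : ℤ), c ∈ Cyc.Zk Z δ t → ∀ v, c v ≠ 0 → δ v = t := by
    intro Z δ c t hc v hv
    by_contra hne
    exact hv (hc v hne)
  have hble := fun x => H22Alg.CycBasic.delta_le_of_hasRelDim f hrel hδ x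
  have hdle := fun x => H22Alg.CycBasic.delta_le f hδ x
  have eqX : ∀ {v x : X}, v ⤳ x → δX x ≤ δX v ∧ (δX v ≤ δX x → v = x) :=
    H3CAlg.ChiMain.eq_of_specializes gX δX hδX
  have eqY : ∀ {v x : Y}, v ⤳ x → δY x ≤ δY v ∧ (δY v ≤ δY x → v = x) :=
    H3CAlg.ChiMain.eq_of_specializes gY δY hδY
  -- dimension bound
  have key : ∀ a b z, α a ≠ 0 → β b ≠ 0 → a ⤳ z → b ⤳ f z → δX z ≤ r + s - m := by
    intro a b z ha hb haz hbz
    obtain ⟨b', hb'z, hfb'⟩ := Flat.generalizingMap f hbz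
    obtain ⟨t, ⟨c, hcb', hfc, rfl⟩, htop⟩ := Int.exists_greatest_of_bdd
      (P := fun t => ∃ c : X, c ⤳ b' ∧ f c = b ∧ δX c = t)
      ⟨δY b + e, fun t ⟨c, _, hfc, hct⟩ => by have := hble c; rw [hfc, hct] at this; exact this⟩
      ⟨δX b', b', specializes_rfl, hfb', rfl⟩
    have hmax : ∀ x', f x' = f c → x' ⤳ c → x' = c := fun x' hx' hs =>
      (eqX hs).2 (htop _ ⟨x', hs.trans hcb', hx'.trans hfc, rfl⟩)
    have hdc := H22Alg.CycBasic.delta_eq_of_maximal f hrel hδ c hmax
    have hpc : Cyc.pullFun f δX δY e ⇑β c ≠ 0 := by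
      rw [Cyc.pullFun, if_pos hdc]
      refine mul_ne_zero (hfc.symm ▸ hb) ?_
      rw [Nat.cast_ne_zero, Ne, ENat.toNat_eq_zero, not_or]
      subst hfc
      refine ⟨fun h0 => ?_, H3Cyc.FlatRat.mult_ne_top f c fun w hw hfw =>
        hmax w (((hw.map f.continuous).antisymm hfw).eq) hw⟩
      rw [Module.length_eq_zero_iff] at h0
      exact not_subsingleton_iff_nontrivial.mpr (Ideal.Quotient.nontrivial_iff.mpr fun h => (IsLocalRing.maximalIdeal.isMaximal (X.presheaf.stalk c)).ne_top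
        (top_le_iff.mp (h ▸ ((IsLocalRing.local_hom_TFAE (f.stalkMap c).hom).out 0 2 rfl rfl).mp inferInstance))) h0
    have h1 := hprop a c z ha hpc haz (hcb'.trans hb'z)
    rw [hmem δX α r hα a ha, hdc, hfc, hmem δY β s hβ b hb] at h1
    omega
  have hmapne : ∀ v, AlgebraicCycle.map f δX δY α v ≠ 0 → ∃ a, f a = v ∧ α a ≠ 0 ∧ δY v = r := by
    intro v hv
    obtain ⟨a, ha, hne⟩ : ∃ a ∈ f ⁻¹' {v}, α a * ((AlgebraicCycle.mapCoeff f δX δY a : ℕ) : ℤ) ≠ 0 := by
      by_contra hno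
      push Not at hno
      exact hv (finsum_mem_eq_zero_of_forall_eq_zero hno)
    refine ⟨a, ha, left_ne_zero_of_mul hne, ?_⟩
    have h2 := right_ne_zero_of_mul hne
    simp only [AlgebraicCycle.mapCoeff, ne_eq, Nat.cast_eq_zero, ite_eq_right_iff, Classical.not_imp] at h2
    rw [← show f a = v from ha, ← h2.1]
    exact hmem δX α r hα a (left_ne_zero_of_mul hne)
  refine ⟨fun ξ η ζ hξ hη h1 h2 => ?_, funext fun y => ?_⟩
  · obtain ⟨a, rfl, ha, hd⟩ := hmapne ξ hξ
    obtain ⟨z, haz, rfl⟩ := f.isClosedMap.specializingMap h1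
    have := key a η z ha hη haz h2
    have := hdle z
    rw [hd, hmem δY β s hβ η hη]
    omega
  -- expansions
  let A := (H3Cyc.Limit.finite_support_of_compact α).toFinset
  let B := (H3Cyc.Limit.finite_support_of_compact β).toFinset
  have hA : ∀ a, a ∈ A ↔ α a ≠ 0 := fun a => Set.Finite.mem_toFinset _
  have hB : ∀ b, b ∈ B ↔ β b ≠ 0 := fun b => Set.Finite.mem_toFinset _
  let P := fun a : X => H3CAlg.PrimeMod.primeMod a
  let Q := fun b : Y => H3CAlg.PrimeMod.primeMod b
  have hP : ∀ a, Coh.IsCoh (P a) := fun a => H3CAlg.PrimeMod.isCoh_primeMod a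
  have hQ : ∀ b, Coh.IsCoh (Q b) := fun b => H3CAlg.PrimeMod.isCoh_primeMod b
  have hPr : ∀ a ∈ A, ∀ x, Nontrivial ((P a).presheaf.stalk x) → δX x ≤ r := fun a ha x h => by
    have := (eqX ((H3CAlg.PrimeMod.nontrivial_iff a x).mp h)).1
    rwa [hmem δX α r hα a ((hA a).mp ha)] at this
  have hQs : ∀ b ∈ B, ∀ y, Nontrivial ((Q b).presheaf.stalk y) → δY y ≤ s := fun b hb y h => by
    have := (eqY ((H3CAlg.PrimeMod.nontrivial_iff b y).mp h)).1
    rwa [hmem δY β s hβ b ((hB b).mp hb)] at this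
  have hone : ∀ {Z : Scheme.{u}} (δ : Z → ℤ) (t : ℤ) (c : Z) (_ : δ c = t)
      (_ : ∀ {v x : Z}, v ⤳ x → δ x ≤ δ v ∧ (δ v ≤ δ x → v = x)) (v : Z),
      Cyc.sheafFun δ t (H3CAlg.PrimeMod.primeMod c) v = if v = c then 1 else 0 := by
    intro Z δ t c hc he v
    split_ifs with h
    · subst h
      rw [Cyc.sheafFun, if_pos hc, H3CAlg.PrimeMod.length_self]
      simp
    · by_contra h0
      obtain ⟨hd, hn⟩ := H3CAlg.ChiMain.nontrivial_of_sheafFun_ne_zero _ _ _ h0
      exact h ((he ((H3CAlg.PrimeMod.nontrivial_iff c v).mp hn)).2 (by rw [hc, hd])).symm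
  have hpush : ∀ a ∈ A, ∀ v, Cyc.sheafFun δY r ((Coh.push f).obj (P a)) v =
      if f a = v then ((AlgebraicCycle.mapCoeff f δX δY a : ℕ) : ℤ) else 0 := by
    intro a ha v
    have hP1 : ⇑(Function.locallyFinsuppWithin.single a (1 : ℤ) : AlgebraicCycle X ℤ) = Cyc.sheafFun δX r (P a) :=
      funext fun x => by
        rw [hone δX r a (hmem δX α r hα a ((hA a).mp ha)) eqX x]
        exact Function.locallyFinsuppWithin.single_apply
    rw [← congrFun (H3Cyc.KPush.map_cycle_eq_sheafFun_push f (H3Cyc.KFam.strict_of_isSetup hX) hδ ⟨hP a, hPr a ha⟩ _ hP1) v]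
    show (∑ᶠ x ∈ f ⁻¹' {v}, _) = _
    simp only [Function.locallyFinsuppWithin.single_apply, ite_mul, one_mul, zero_mul]
    split_ifs with h
    · exact (finsum_mem_eq_finite_toFinset_sum _ (Set.finite_singleton a)).trans (by simp) |> fun e' =>
        (finsum_mem_inter_support_eq' _ _ _ fun x hx => by
          simp only [Function.mem_support, ne_eq, ite_eq_right_iff, Classical.not_imp] at hx
          rw [hx.1]
          exact iff_of_true h rfl).trans e'
    · refine finsum_mem_eq_zero_of_forall_eq_zero fun x hx => ?_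
      rw [if_neg]
      rintro rfl
      exact h hx
  have expMap : ∀ v, v ⤳ y → AlgebraicCycle.map f δX δY α v =
      ∑ a ∈ A, α a * Cyc.sheafFun δY r ((Coh.push f).obj (P a)) v := by
    intro v _
    show (∑ᶠ x ∈ f ⁻¹' {v}, α x * ((AlgebraicCycle.mapCoeff f δX δY x : ℕ) : ℤ)) = _
    rw [finsum_mem_eq_sum_of_inter_support_eq (t := A.filter (f · = v)) _ ?_, Finset.sum_filter]
    · refine Finset.sum_congr rfl fun a ha => ?_
      rw [hpush a ha v, mul_ite, mul_zero]
    · ext x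
      simp only [Finset.coe_filter, Set.mem_inter_iff, Set.mem_preimage, Set.mem_singleton_iff,
        Function.mem_support, Set.mem_setOf_eq, hA, ne_eq, mul_eq_zero, not_or]
      tauto
  have expβ : ∀ w, w ⤳ y → β w = ∑ b ∈ B, β b * Cyc.sheafFun δY s (Q b) w := by
    intro w _
    rw [Finset.sum_congr rfl fun b hb => by rw [hone δY s b (hmem δY β s hβ b ((hB b).mp hb)) eqY w]]
    simp only [mul_ite, mul_one, mul_zero, Finset.sum_ite_eq]
    by_cases hw : β w = 0
    · simp [hw]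
    · rw [if_pos ((hB w).mpr hw)]
  have expα : ∀ x, α x = ∑ a ∈ A, α a * Cyc.sheafFun δX r (P a) x := by
    intro x
    rw [Finset.sum_congr rfl fun a ha => by rw [hone δX r a (hmem δX α r hα a ((hA a).mp ha)) eqX x]]
    simp only [mul_ite, mul_one, mul_zero, Finset.sum_ite_eq]
    by_cases hw : α x = 0
    · simp [hw]
    · rw [if_pos ((hA x).mpr hw)]
  let R := fun b : Y => (Scheme.Modules.pullback f).obj (Q b)
  have hR : ∀ b, Coh.IsCoh (R b) := fun b => H3CAlg.ChiPull.isCoh_pullback f _ (hQ b)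
  have hRs : ∀ b ∈ B, ∀ x, Nontrivial ((R b).presheaf.stalk x) → δX x ≤ s + e := fun b hb x h =>
    H3CAlg.ChiPull.support_bound f _ x hrel hδ s (hQs b hb) h
  have expP : ∀ x, Cyc.pullFun f δX δY e ⇑β x = ∑ b ∈ B, β b * Cyc.sheafFun δX (s + e) (R b) x := by
    intro x
    by_cases hd : δX x = δY (f x) + e
    · rw [Cyc.pullFun, if_pos hd]
      rw [show β (f x) = ∑ b ∈ B, β b * Cyc.sheafFun δY s (Q b) (f x) from by
        rw [Finset.sum_congr rfl fun b hb => by rw [hone δY s b (hmem δY β s hβ b ((hB b).mp hb)) eqY (f x)]]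
        simp only [mul_ite, mul_one, mul_zero, Finset.sum_ite_eq]
        by_cases hw : β (f x) = 0
        · simp [hw]
        · rw [if_pos ((hB _).mpr hw)], Finset.sum_mul]
      refine Finset.sum_congr rfl fun b hb => ?_
      rw [mul_assoc, Cyc.sheafFun, Cyc.sheafFun]
      by_cases ht : δY (f x) = s
      · rw [if_pos ht, if_pos (by omega), H3CAlg.ChiPull.length_pullback, ENat.toNat_mul, Nat.cast_mul]
      · rw [if_neg ht, if_neg (by omega), zero_mul]
    · rw [Cyc.pullFun, if_neg hd]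
      refine (Finset.sum_eq_zero fun b hb => ?_).symm
      rw [mul_eq_zero]
      right
      by_contra h0
      obtain ⟨hta, hna⟩ := H3CAlg.ChiMain.nontrivial_of_sheafFun_ne_zero _ _ _ h0
      have := hQs b hb (f x) (H3CAlg.ChiPull.nontrivial_of_pullback f _ x hna)
      have := hble x
      omega
  have hnepush : ∀ a v, Nontrivial (((Coh.push f).obj (P a)).presheaf.stalk v) → ∃ z, f z = v ∧ a ⤳ z := by
    intro a v hv
    by_contra hno
    push Not at hno
    have hb := H3Cyc.KPush.pc_pi_bijective f (F := P a) (y := v) ∅ (by simp) (fun x hx hs => absurd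
      ((H3CAlg.PrimeMod.nontrivial_iff a x).mp (H3Cyc.KDev.mem_support.mp hs)) (hno x hx)) (by simp) (by simp)
    haveI : IsEmpty ↥(∅ : Finset X) := ⟨fun x => absurd x.2 (Finset.notMem_empty _)⟩
    haveI := (Equiv.ofBijective _ hb).subsingleton
    exact not_subsingleton (((Coh.push f).obj (P a)).presheaf.stalk v) inferInstance
  have hpush_r : ∀ a ∈ A, ∀ v, Nontrivial (((Coh.push f).obj (P a)).presheaf.stalk v) → δY v ≤ r := by
    intro a ha v hv
    obtain ⟨z, rfl, haz⟩ := hnepush a v hv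
    exact (hdle z).trans (hPr a ha z ((H3CAlg.PrimeMod.nontrivial_iff a z).mpr haz))
  have hpushcoh : ∀ a, Coh.IsCoh ((Coh.push f).obj (P a)) := fun a => H24GE.isCoh_pushforward f (hP a)
  let c : X → X → Y → ℤ := fun x a b => IntMult.interProd δX n (Cyc.sheafFun δX r (P a)) (Cyc.sheafFun δX (s + e) (R b)) x
  have hγx : ∀ x, γ x = ∑ a ∈ A, ∑ b ∈ B, α a * β b * c x a b := fun x => by
    rw [hγ]
    exact H3CAlg.ChiCycles.interProd_expand δX n _ _ x A B (fun a => α a) (fun a => Cyc.sheafFun δX r (P a))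
      (fun b => β b) (fun b => Cyc.sheafFun δX (s + e) (R b)) (fun v _ => expα v) (fun v _ => expP v)
      (fun a ha => H3CAlg.ChiCycles.finite_sheafFun gX δX hδX _ (hP a) r (hPr a ha) x)
      (fun b hb => H3CAlg.ChiCycles.finite_sheafFun gX δX hδX _ (hR b) _ (hRs b hb) x)
  have hc0 : ∀ x a b, c x a b ≠ 0 → δX x = r + s - m ∧ a ⤳ x ∧ b ⤳ f x := by
    intro x a b hne
    obtain ⟨⟨⟨v, w⟩, hv, hw, hvw⟩, h0⟩ := not_forall.mp fun h => hne (finsum_eq_zero_of_forall_eq_zero h)
    simp only [mul_eq_zero, not_or, ne_eq] at h0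
    obtain ⟨hdv, hnv⟩ := H3CAlg.ChiMain.nontrivial_of_sheafFun_ne_zero _ _ _ h0.1.1
    obtain ⟨hdw, hnw⟩ := H3CAlg.ChiMain.nontrivial_of_sheafFun_ne_zero _ _ _ h0.1.2
    change δX v + δX w - n = δX x at hvw
    exact ⟨by omega, ((H3CAlg.PrimeMod.nontrivial_iff a v).mp hnv).trans hv,
      ((H3CAlg.PrimeMod.nontrivial_iff b _).mp (H3CAlg.ChiPull.nontrivial_of_pullback f _ w hnw)).trans
        (hw.map f.continuous)⟩
  show _ = ∑ᶠ x ∈ f ⁻¹' {y}, γ x * ((AlgebraicCycle.mapCoeff f δX δY x : ℕ) : ℤ)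
  by_cases hy : δY y = r + s - m
  swap
  · rw [finsum_mem_eq_zero_of_forall_eq_zero, IntMult.interProd, finsum_eq_zero_of_forall_eq_zero]
    · rintro ⟨⟨v, w⟩, hv, hw, hvw⟩
      change δY v + δY w - m = δY y at hvw
      by_contra h0
      simp only [mul_eq_zero, not_or] at h0
      obtain ⟨-, -, -, hd⟩ := hmapne v h0.1.1
      have := hmem δY β s hβ w h0.1.2
      exact hy (by omega)
    · intro x hx
      by_contra h0
      have h2 := right_ne_zero_of_mul h0
      simp only [AlgebraicCycle.mapCoeff, ne_eq, Nat.cast_eq_zero, ite_eq_right_iff, Classical.not_imp] at h2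
      obtain ⟨a, -, h1⟩ := Finset.exists_ne_zero_of_sum_ne_zero ((hγx x) ▸ left_ne_zero_of_mul h0)
      obtain ⟨b, -, h3⟩ := Finset.exists_ne_zero_of_sum_ne_zero h1
      have := (hc0 x a b (right_ne_zero_of_mul h3)).1
      rw [h2.1, show f x = y from hx] at this
      exact hy this
  -- the fibre points
  let T := {x : X | f x = y ∧ δX x = r + s - m ∧ ∃ a ∈ A, ∃ b ∈ B, a ⤳ x ∧ b ⤳ y}
  have hT : T.Finite := by
    refine ((A.finite_toSet).biUnion (t := fun a => {x : X | f x = y ∧ δX x = r + s - m ∧ ∃ b ∈ B, a ⤳ x ∧ b ⤳ y})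
      fun a ha => ?_).subset fun x ⟨h1, h2, a, ha, b, hb, h3, h4⟩ => Set.mem_biUnion ha ⟨h1, h2, b, hb, h3, h4⟩
    by_cases hne : ∃ b ∈ B, b ⤳ y
    swap
    · exact Set.finite_empty.subset fun x ⟨_, _, b, hb, _, h4⟩ => hne ⟨b, hb, h4⟩
    obtain ⟨b, hb, hby⟩ := hne
    have hC : IsClosed (closure {a} ∩ f ⁻¹' closure {y}) := isClosed_closure.inter (isClosed_closure.preimage f.continuous)
    obtain ⟨S, hSf, hSc, hSi, hS⟩ := TopologicalSpace.NoetherianSpace.exists_finite_set_isClosed_irreducible hC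
    refine (hSf.biUnion (t := fun T => {x | IsGenericPoint x T}) fun T hT => ?_).subset fun x ⟨hfx, hdx, _, _, hax, _⟩ => ?_
    · exact Set.Subsingleton.finite fun x hx x' hx' => IsGenericPoint.eq hx hx'
    obtain ⟨T, hT, hxT⟩ : ∃ T ∈ S, x ∈ T :=
      hS.le ⟨specializes_iff_mem_closure.mp hax, show f x ∈ closure {y} from hfx.symm ▸ subset_closure rfl⟩
    have hg := (hSi T hT).isGenericPoint_genericPoint (hSc T hT)
    set ξ := (hSi T hT).genericPoint
    have hξ : ξ ∈ closure {a} ∩ f ⁻¹' closure {y} := hS ▸ Set.mem_sUnion.mpr ⟨T, hT, hg.mem⟩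
    have hξy : f ξ = y := ((((hg.specializes hxT).map f.continuous).trans (specializes_of_eq hfx)).antisymm
      (specializes_iff_mem_closure.mpr hξ.2)).eq
    have hk := key a b ξ ((hA a).mp ha) ((hB b).mp hb) (specializes_iff_mem_closure.mpr hξ.1) (hξy ▸ hby)
    have hxξ : ξ = x := (eqX (hg.specializes hxT)).2 (by omega)
    exact Set.mem_biUnion hT (hxξ ▸ hg)
  rw [finsum_mem_eq_sum_of_inter_support_eq (t := hT.toFinset) _ ?_]
  swap
  · ext x
    simp only [Set.Finite.coe_toFinset, Set.mem_inter_iff, Set.mem_preimage, Set.mem_singleton_iff, Function.mem_support]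
    refine ⟨fun ⟨hx, h0⟩ => ⟨⟨hx, ?_⟩, h0⟩, fun ⟨hx, h0⟩ => ⟨hx.1, h0⟩⟩
    obtain ⟨a, ha, h1⟩ := Finset.exists_ne_zero_of_sum_ne_zero ((hγx x) ▸ left_ne_zero_of_mul h0)
    obtain ⟨b, hb, h3⟩ := Finset.exists_ne_zero_of_sum_ne_zero h1
    obtain ⟨h4, h5, h6⟩ := hc0 x a b (right_ne_zero_of_mul h3)
    exact ⟨h4, a, ha, b, hb, h5, hx ▸ h6⟩
  rw [H3CAlg.ChiCycles.interProd_expand δY m _ _ y A B (fun a => α a)
      (fun a => Cyc.sheafFun δY r ((Coh.push f).obj (P a))) (fun b => β b) (fun b => Cyc.sheafFun δY s (Q b)) expMap expβ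
      (fun a ha => H3CAlg.ChiCycles.finite_sheafFun gY δY hδY _ (hpushcoh a) r (hpush_r a ha) y)
      (fun b hb => H3CAlg.ChiCycles.finite_sheafFun gY δY hδY _ (hQ b) s (hQs b hb) y)]
  simp_rw [hγx, Finset.sum_mul]
  conv_rhs => rw [Finset.sum_comm]
  refine Finset.sum_congr rfl fun a ha => ?_
  conv_rhs => rw [Finset.sum_comm]
  refine Finset.sum_congr rfl fun b hb => ?_
  simp_rw [mul_assoc (α a * β b), ← Finset.mul_sum]
  congr 1
  have ha0 := (hA a).mp ha
  have hb0 := (hB b).mp hb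
  by_cases hby : b ⤳ y
  swap
  · rw [IntMult.interProd, finsum_eq_zero_of_forall_eq_zero, Finset.sum_eq_zero]
    · intro x hx
      by_contra h0
      exact hby ((hT.mem_toFinset.mp hx).1 ▸ (hc0 x a b (left_ne_zero_of_mul h0)).2.2)
    · rintro ⟨⟨v, w⟩, hv, hw, hvw⟩
      by_contra h0
      simp only [mul_eq_zero, not_or] at h0
      obtain ⟨-, hnw⟩ := H3CAlg.ChiMain.nontrivial_of_sheafFun_ne_zero _ _ _ h0.1.2
      exact hby (((H3CAlg.PrimeMod.nontrivial_iff b w).mp hnw).trans hw)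
  haveI : IsRegularLocalRing (Y.presheaf.stalk y) := H19Grp.isRegularLocalRing_stalk_of_smooth gY y
  have hfib : ∀ x, a ⤳ x → f x = y → δX x = δY y := fun x hax hfx => by
    have h1 := key a b x ha0 hb0 hax (hfx ▸ hby)
    have h2 := hdle x
    rw [hfx] at h2
    omega
  rw [← H3CAlg.ChiMain.chi_stalk gY δY hδY m hm _ _ (hpushcoh a) (hQ b) r s (hpush_r a ha) (hQs b hb) y hy ?_,
    H3Cyc.PushLocal.push_chi f hX hδ a y (Q b) (hQ b) hfib ?_]
  rotate_left
  · intro z haz hz hn
    have h1 := key a b z ha0 hb0 haz ((H3CAlg.PrimeMod.nontrivial_iff b _).mp hn)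
    have h2 := hdle z
    exact (eqY hz).2 (by omega)
  · intro v hv1 hv2 hvy
    obtain ⟨z, rfl, haz⟩ := hnepush a v hv1
    have h1 := key a b z ha0 hb0 haz ((H3CAlg.PrimeMod.nontrivial_iff b _).mp hv2)
    have h2 := hdle z
    exact (eqY hvy).2 (by omega)
  have hsub : {x : X | a ⤳ x ∧ f x = y} ⊆ T := fun x ⟨hax, hfx⟩ =>
    ⟨hfx, (hfib x hax hfx).trans hy, a, ha, b, hb, hax, hby⟩
  rw [finsum_mem_eq_finite_toFinset_sum _ (hT.subset hsub)]
  refine (Finset.sum_subset_zero_on_sdiff (Set.Finite.toFinset_mono hsub) (fun x hx => ?_) fun x hx => ?_)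
  · simp only [Finset.mem_sdiff, Set.Finite.mem_toFinset, Set.mem_setOf_eq, not_and] at hx
    by_contra h0
    exact hx.2 (hc0 x a b (left_ne_zero_of_mul h0)).2.1 hx.1.1
  · obtain ⟨hax, hfx⟩ := Set.Finite.mem_toFinset _ |>.mp hx
    have hdx : δX x = r + s - m := (hfib x hax hfx).trans hy
    rw [H3CAlg.ChiMain.chi_stalk gX δX hδX n hn _ _ (hP a) (hR b) r (s + e) (hPr a ha) (hRs b hb) x (by omega)
      (fun v hv1 hv2 hvx => (eqX hvx).2 (by
        have h1 := key a b v ha0 hb0 ((H3CAlg.PrimeMod.nontrivial_iff a v).mp hv1)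
          ((H3CAlg.PrimeMod.nontrivial_iff b _).mp (H3CAlg.ChiPull.nontrivial_of_pullback f _ v hv2))
        omega)), mul_comm]
    congr 1
    simp only [AlgebraicCycle.mapCoeff]
    rw [if_pos]
    show δX x = δY (f x)
    rw [hfx]
    exact hfib x hax hfx

end Groth.Agent.S1950
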