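import Groth.Statements.S19500
import Groth.Agent.H25Cubic.TBridge
import Groth.Agent.H25Cubic.Residual

set_option autoImplicit false
universe u
open Cubic

namespace Groth.Agent.S19500

/-- Let K be an algebraically closed field of characteristic zero and S = V(F) ⊂ P^3_K a cubic surface
(F homogeneous of degree 3) which is irreducible and not a cone (no nonzero vector v has Σ_i v_i
∂F/∂x_i = 0). For a nonzero vector b with F(b) = 0 write ℓ_b = Σ_i ∂F/∂x_i(b) · x_i for the linear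
form of the tangent plane at b; call b a T-point when b is a smooth point of S (some ∂F/∂x_i(b) ≠ 0)
and F is congruent modulo ℓ_b to a product of three linear forms (the plane cubic T_b S ∩ S is
set-theoretically a union of lines). Let a be a smooth point of S which is not a T-point and H ⊂ K^4
the hyperplane ℓ_a = 0 (the tangent plane T_a S). Then T_a S contains only finitely many T-points of
S: the set of one-dimensional subspaces U ≤ H all of whose nonzero vectors are T-points is finite. -/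
theorem result (K : Type u) [Field K] [IsAlgClosed K]
    [CharZero K] (F : MvPolynomial (Fin 4) K) (hF : F.IsHomogeneous 3) (hirr : Irreducible F)
    (hcone : ¬ ∃ v : Fin 4 → K, v ≠ 0 ∧ ∑ i : Fin 4, v i • MvPolynomial.pderiv i F = 0)
    (tp : (Fin 4 → K) → Prop)
    (htp : ∀ b : Fin 4 → K, tp b ↔ (b ≠ 0 ∧ MvPolynomial.eval b F = 0 ∧
      (∃ i : Fin 4, MvPolynomial.eval b (MvPolynomial.pderiv i F) ≠ 0) ∧
      ∃ L₁ L₂ L₃ : MvPolynomial (Fin 4) K, L₁.IsHomogeneous 1 ∧ L₂.IsHomogeneous 1 ∧ L₃.IsHomogeneous 1 ∧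
        F - L₁ * L₂ * L₃ ∈ Ideal.span {∑ i : Fin 4,
          MvPolynomial.C (MvPolynomial.eval b (MvPolynomial.pderiv i F)) * MvPolynomial.X i}))
    (a : Fin 4 → K) (haF : MvPolynomial.eval a F = 0)
    (hsm : ∃ i : Fin 4, MvPolynomial.eval a (MvPolynomial.pderiv i F) ≠ 0) (ha : ¬ tp a)
    (H : Submodule K (Fin 4 → K))
    (hH : ∀ x : Fin 4 → K, x ∈ H ↔ MvPolynomial.eval x (∑ i : Fin 4,
      MvPolynomial.C (MvPolynomial.eval a (MvPolynomial.pderiv i F)) * MvPolynomial.X i) = 0) :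
    Set.Finite {U : Submodule K (Fin 4 → K) | Module.finrank K ↥U = 1 ∧ U ≤ H ∧
      ∀ b ∈ U, b ≠ 0 → tp b} := by
  classical
  have hga : H25Cubic.grad F a ≠ 0 := (H25Cubic.grad_ne_zero_iff hF a).mpr hsm
  have ha0 : a ≠ 0 := fun h => hga (LinearMap.ext fun x => by simp [h])
  have hns : ¬ H25Cubic.Split F (H25Cubic.grad F a) := fun h =>
    ha ((htp a).mpr ⟨ha0, haF, hsm, (H25Cubic.split_iff hF hga).mp h⟩)
  have haaa : H25Cubic.tri F a a a = 0 := (H25Cubic.eval_eq_tri hF a).symm.trans haF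
  obtain ⟨u, w, hu, hw, hli, hspan⟩ := H25Cubic.basis_ker hga ha0 (show H25Cubic.grad F a a = 0 from haaa)
  -- a frame with `q e₂ ≠ 0`
  obtain ⟨e₁, e₂, h1, h2, hspan', hq⟩ : ∃ e₁ e₂, H25Cubic.tri F e₁ a a = 0 ∧ H25Cubic.tri F e₂ a a = 0 ∧
      (∀ x, H25Cubic.tri F x a a = 0 → ∃ r s t : K, x = r • e₁ + s • e₂ + t • a) ∧
      H25Cubic.tri F a e₂ e₂ ≠ 0 := by
    by_cases hww : H25Cubic.tri F a w w = 0
    · by_cases huu : H25Cubic.tri F a u u = 0
      · by_cases huw : H25Cubic.tri F a u w = 0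
        · exact absurd (H25Cubic.split_of_cone hF hga hu hw (show H25Cubic.grad F a a = 0 from haaa)
            (fun x hx => by obtain ⟨r, s, t, rfl⟩ := hspan x hx; exact ⟨s, t, r, by abel⟩)
            (fun x hx => hx) huu huw hww) hns
        · refine ⟨u, u + w, hu, ?_, fun x hx => ?_, ?_⟩
          · rw [← H25Cubic.grad_apply, map_add, hu, hw, add_zero]
          · obtain ⟨r, s, t, rfl⟩ := hspan x hx
            exact ⟨s - t, t, r, by module⟩
          · simp [huu, hww, H25Cubic.tri_swap23 F a w u, huw]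
      · exact ⟨w, u, hw, hu, fun x hx => by obtain ⟨r, s, t, rfl⟩ := hspan x hx; exact ⟨t, s, r, by abel⟩, huu⟩
    · exact ⟨u, w, hu, hw, fun x hx => by obtain ⟨r, s, t, rfl⟩ := hspan x hx; exact ⟨s, t, r, by abel⟩, hww⟩
  have D : H25Cubic.Pencil F a e₁ e₂ := ⟨hF, haF, hga, hns, h1, h2, hspan', hq⟩
  refine D.finite_Tpoints.subset fun U ⟨hU1, hUH, hUT⟩ => ⟨hU1, fun x hx => ?_, fun b hb hb0 => ?_⟩
  · have := (hH x).mp (hUH hx)
    rw [H25Cubic.eval_tangentForm hF] at this
    simpa using this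
  · obtain ⟨-, hbF, hbsm, hb3⟩ := (htp b).mp (hUT b hb hb0)
    exact ⟨hbF, (H25Cubic.split_iff hF ((H25Cubic.grad_ne_zero_iff hF b).mpr hbsm)).mpr hb3⟩

end Groth.Agent.S19500
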