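import Groth.Statements.S19501
import Groth.Agent.H3Cyc.ProdDiv.Cycles
import Groth.Agent.H3Cyc.RelDimBC
import Groth.Agent.H3Cyc.SpFun
import Groth.Agent.H3CAlg.IntPt
import Groth.Agent.H3CAlg.IntPoints
import Groth.Agent.H12Pic.FinKer.CurveProd
import Groth.Agent.H25Rig.GroupMaps
import Groth.Agent.H28Def.DefFunctor
-- import your own Groth.Agent.* helpers here

set_option autoImplicit false
set_option linter.style.haveILetI false
set_option backward.isDefEq.respectTransparency.types false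
universe u
open CategoryTheory MonoidalCategory CartesianMonoidalCategory AlgebraicGeometry CategoryTheory.Limits
open Cyc

namespace Groth.Agent.S19501

theorem exists_relDim (k : Type u) [Field k] (Z : Scheme.{u}) (g : Z ⟶ Spec (CommRingCat.of k))
    [LocallyOfFiniteType g] [IsIntegral Z] : ∃ r : ℕ, Cyc.HasRelDim g r := by
  obtain ⟨δ, hδ⟩ := Groth.Agent.H3Cyc.SpFun.exists_deltaCompat g (fun _ => (0 : ℤ))
  obtain ⟨a, ha, -⟩ := Groth.Agent.H3CAlg.IntPt.delta_eq_cdim g δ hδ (genericPoint Z)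
  rw [Groth.Agent.H3CAlg.IntPoints.cdim_genericPoint] at ha
  refine ⟨a, fun y T hT => ?_⟩
  have hsurj : Function.Surjective (g.fiberι y) := by
    rw [← Set.range_eq_univ, Scheme.Hom.range_fiberι]
    exact Set.eq_univ_of_forall fun x => Subsingleton.elim (α := PrimeSpectrum k) _ _
  have hh : IsHomeomorph (g.fiberι y) :=
    ⟨(g.fiberι y).continuous,
      fun U hU => by
        have := (g.fiberι y).isEmbedding.isInducing.isOpen_iff.1 hU
        obtain ⟨W, hW, rfl⟩ := this
        rwa [Set.image_preimage_eq _ hsurj],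
      (g.fiberι y).isEmbedding.injective, hsurj⟩
  haveI : IrreducibleSpace (g.fiber y) := hh.homeomorph.irreducibleSpace_iff.2 inferInstance
  rw [irreducibleComponents_eq_singleton, Set.mem_singleton_iff] at hT
  subst hT
  rw [(Homeomorph.Set.univ (g.fiber y)).isHomeomorph.topologicalKrullDim_eq, hh.topologicalKrullDim_eq, ha]

/-- Over an algebraically closed field k, let X and Y be normal irreducible varieties (integral normal
separated k-schemes of finite type) and assume X rational: some nonempty open subscheme of X is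
isomorphic over k to an open subscheme of an affine space 𝔸ⁿ_k. Fix dimension functions δX, δY, δP
on X, Y and P = X ×_k Y (each scheme locally Noetherian with universally catenary local rings), with
δP induced from δX along the first projection and from δY along the second, and generic points ηX,
ηY, ηP; write dX = δX(ηX), dY = δY(ηY), dP = δP(ηP), so that codimension-one cycles are the (d −
1)-cycles and the projections are flat of relative δ-dimensions dP − dX and dP − dY. Then the map
(α, β) ↦ p₁^*α + p₂^*β from Cl(X) × Cl(Y) to Cl(X × Y) is bijective: (surjectivity) every (dP −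
1)-cycle γ on P is rationally equivalent to a cycle with coefficient function p₁^*α + p₂^*β for some
(dX − 1)-cycle α on X and (dY − 1)-cycle β on Y; (injectivity) if such a cycle p₁^*α + p₂^*β is
rationally equivalent to zero then α and β are rationally equivalent to zero. -/
theorem result (k : Type u) [Field k] [IsAlgClosed k]
    (X Y : Over (Spec (CommRingCat.of k))) [AlgebraicGeometry.IsIntegral X.left] [IsSeparated X.hom]
    [LocallyOfFiniteType X.hom] [QuasiCompact X.hom]
    [AlgebraicGeometry.IsIntegral Y.left] [IsSeparated Y.hom] [LocallyOfFiniteType Y.hom] [QuasiCompact Y.hom]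
    (hX : Pi1.IsNormalScheme X.left) (hY : Pi1.IsNormalScheme Y.left)
    (hrat : ∃ (U : X.left.Opens) (n : ℕ) (V : (𝔸(ULift.{u} (Fin n); Spec (CommRingCat.of k))).Opens)
      (e : (U : Scheme.{u}) ≅ (V : Scheme.{u})), (U : Set ↥X.left).Nonempty ∧
        e.hom ≫ V.ι ≫ (𝔸(ULift.{u} (Fin n); Spec (CommRingCat.of k)) ↘ Spec (CommRingCat.of k)) = U.ι ≫ X.hom)
    (δX : ↥X.left → ℤ) (δY : ↥Y.left → ℤ) (δP : ↥(X ⊗ Y).left → ℤ)
    (hsX : Cyc.IsSetup X.left δX) (hsY : Cyc.IsSetup Y.left δY) (hsP : Cyc.IsSetup (X ⊗ Y).left δP)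
    (hc₁ : Cyc.DeltaCompat (fst X Y).left δP δX) (hc₂ : Cyc.DeltaCompat (snd X Y).left δP δY)
    (ηX : ↥X.left) (ηY : ↥Y.left) (ηP : ↥(X ⊗ Y).left)
    (hηX : closure ({ηX} : Set ↥X.left) = Set.univ) (hηY : closure ({ηY} : Set ↥Y.left) = Set.univ)
    (hηP : closure ({ηP} : Set ↥(X ⊗ Y).left) = Set.univ) :
    (∀ γ ∈ Cyc.Zk (X ⊗ Y).left δP (δP ηP - 1),
      ∃ α ∈ Cyc.Zk X.left δX (δX ηX - 1), ∃ β ∈ Cyc.Zk Y.left δY (δY ηY - 1),
        ∃ γ' : AlgebraicCycle (X ⊗ Y).left ℤ,
          (∀ z, γ' z = Cyc.pullFun (fst X Y).left δP δX (δP ηP - δX ηX) α z +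
            Cyc.pullFun (snd X Y).left δP δY (δP ηP - δY ηY) β z) ∧
          Cyc.RatEquiv δP (δP ηP - 1) γ γ') ∧
    (∀ α ∈ Cyc.Zk X.left δX (δX ηX - 1), ∀ β ∈ Cyc.Zk Y.left δY (δY ηY - 1),
      ∀ γ' : AlgebraicCycle (X ⊗ Y).left ℤ,
        (∀ z, γ' z = Cyc.pullFun (fst X Y).left δP δX (δP ηP - δX ηX) α z +
            Cyc.pullFun (snd X Y).left δP δY (δP ηP - δY ηY) β z) →
        Cyc.RatEquivZero δP (δP ηP - 1) γ' →
        Cyc.RatEquivZero δX (δX ηX - 1) α ∧ Cyc.RatEquivZero δY (δY ηY - 1) β) := by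
  obtain ⟨U, n, V, e, hU, he⟩ := hrat
  haveI : GeometricallyIntegral X.hom := Groth.Agent.H12Pic.FinKer.geometricallyIntegral_of_isAlgClosed _
  haveI : GeometricallyIntegral Y.hom := Groth.Agent.H12Pic.FinKer.geometricallyIntegral_of_isAlgClosed _
  haveI : Flat X.hom := Groth.Agent.H28Def.flat_of_field _
  haveI : Flat Y.hom := Groth.Agent.H28Def.flat_of_field _
  haveI : GeometricallyIntegral (X ⊗ Y).hom := Groth.Agent.H25Rig.geometricallyIntegral_tensor X Y
  haveI : LocallyOfFiniteType (X ⊗ Y).hom := by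
    rw [Over.tensorObj_hom]; infer_instance
  haveI : IsLocallyNoetherian (X ⊗ Y).left := LocallyOfFiniteType.isLocallyNoetherian (X ⊗ Y).hom
  haveI : IsIntegral (X ⊗ Y).left := GeometricallyIntegral.isIntegral_of_subsingleton (X ⊗ Y).hom
  haveI : QuasiCompact (X ⊗ Y).hom := by
    rw [Over.tensorObj_hom]; infer_instance
  haveI : CompactSpace (X ⊗ Y).left := (quasiCompact_iff_compactSpace (X ⊗ Y).hom).mp inferInstance
  obtain ⟨dX, hdX⟩ := exists_relDim k X.left X.hom
  obtain ⟨dY, hdY⟩ := exists_relDim k Y.left Y.hom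
  let p : (X ⊗ Y).left ⟶ X.left := pullback.fst X.hom Y.hom
  let q : (X ⊗ Y).left ⟶ Y.left := pullback.snd X.hom Y.hom
  have D : Groth.Agent.H3Cyc.ProdDiv.Proj2 p q δP δX δY dY dX :=
    ⟨hsP, hsX, hsY, inferInstanceAs (GeometricallyIntegral (pullback.fst X.hom Y.hom)),
      inferInstanceAs (GeometricallyIntegral (pullback.snd X.hom Y.hom)),
      inferInstanceAs (Flat (pullback.fst X.hom Y.hom)), inferInstanceAs (Flat (pullback.snd X.hom Y.hom)),
      inferInstanceAs (LocallyOfFiniteType (pullback.fst X.hom Y.hom)),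
      inferInstanceAs (LocallyOfFiniteType (pullback.snd X.hom Y.hom)),
      Groth.Agent.H3Cyc.hasRelDim_of_isPullback (IsPullback.of_hasPullback X.hom Y.hom).flip hdY,
      Groth.Agent.H3Cyc.hasRelDim_of_isPullback (IsPullback.of_hasPullback X.hom Y.hom) hdX, hc₁, hc₂,
      fun x y => Scheme.Pullback.exists_preimage_pullback x y (Subsingleton.elim (α := PrimeSpectrum k) _ _)⟩
  have hη : ∀ {Z : Scheme.{u}} [IsIntegral Z] (η : ↥Z), closure ({η} : Set ↥Z) = Set.univ → η = genericPoint Z :=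
    fun {Z} _ η h => (genericPoint_spec Z).eq (show IsGenericPoint η Set.univ from h) |>.symm
  obtain rfl := hη ηP hηP
  have eX : ηX = p (genericPoint (X ⊗ Y).left) := (hη ηX hηX).trans D.fst_gen.symm
  have eY : ηY = q (genericPoint (X ⊗ Y).left) := (hη ηY hηY).trans D.symm.fst_gen.symm
  subst eX eY
  have hr : δP (genericPoint (X ⊗ Y).left) - δX (p (genericPoint (X ⊗ Y).left)) = (dY : ℤ) := by
    have := D.delta_gen; omega
  have hs : δP (genericPoint (X ⊗ Y).left) - δY (q (genericPoint (X ⊗ Y).left)) = (dX : ℤ) := by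
    have := D.symm.delta_gen; omega
  have hK : Groth.Agent.H3Cyc.ProdDiv.Key p q (genericPoint (X ⊗ Y).left) :=
    Groth.Agent.H3Cyc.ProdDiv.key_prod k X Y U n V e hU he _ genericPoint_specializes
  rw [hr, hs]
  refine ⟨fun γ hγ => ?_, fun α hα β hβ γ' hγ' h0 => ?_⟩
  · exact Groth.Agent.H3Cyc.ProdDiv.exists_split D hK (by omega) γ hγ
  · exact Groth.Agent.H3Cyc.ProdDiv.split_zero D hK (by omega) α hα β hβ γ' hγ' h0

end Groth.Agent.S19501
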