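import Groth.Statements.S19502
import Mathlib

set_option autoImplicit false
universe u
open W4c3ghconstell

namespace Groth.Agent.S19502

/-- Let ι index the irreducible representations, θ : ι → ℚ a weight which is negative exactly on the
finite set D₋, h h' : ι → ℕ with h' ≤ h pointwise (the isotypic dimensions of an object and of a
sub-object) and Σ_i θ_i h_i summable. For a finite set D of indices put S_D = Σ_{i ∉ D} θ_i h_i, d =
#(D ∖ D₋) and θ̃_D = Σ_{i ∈ D} θ_i h'_i + (S_D / d) · Σ_{i ∈ D ∖ D₋} h'_i / h_i, the modified weight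
attached to the parameters chosen for D (a quotient by zero is read as zero). Then for finite sets
D₋ ⊆ D ⊆ D̃ contained in the locus θ ≠ 0: (first error term) θ̃_{D̃} − θ̃_D = Σ_{τ ∈ D̃ ∖ D} (θ_τ
h_τ + S_{D̃}/d̃) · (h'_τ/h_τ − (1/d) Σ_{σ ∈ D ∖ D₋} h'_σ/h_σ); (second error term) Σ_i θ_i h'_i −
θ̃_D = Σ_{τ ∉ D} θ_τ h_τ · (h'_τ/h_τ − (1/d) Σ_{σ ∈ D ∖ D₋} h'_σ/h_σ). -/
theorem result {ι : Type u} [DecidableEq ι]
    (θ : ι → ℚ) (h h' : ι → ℕ) (hle : ∀ i, h' i ≤ h i) (hfin : {i | θ i < 0}.Finite)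
    (hsum : Summable (fun i => (θ i : ℝ) * (h i : ℝ))) (D D' : Finset ι)
    (hDm : hfin.toFinset ⊆ D) (hDD' : D ⊆ D') (hsupp : ∀ i ∈ D', θ i ≠ 0) :
    (((∑ i ∈ D', (θ i : ℝ) * (h' i : ℝ)) + ((∑' i, if i ∈ D' then (0 : ℝ) else (θ i : ℝ) * (h i : ℝ)) / ((D' \ hfin.toFinset).card : ℝ)) * (∑ σ ∈ D' \ hfin.toFinset, ((h' σ : ℝ) / (h σ : ℝ)))) - ((∑ i ∈ D, (θ i : ℝ) * (h' i : ℝ)) + ((∑' i, if i ∈ D then (0 : ℝ) else (θ i : ℝ) * (h i : ℝ)) / ((D \ hfin.toFinset).card : ℝ)) * (∑ σ ∈ D \ hfin.toFinset, ((h' σ : ℝ) / (h σ : ℝ)))) =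
      ∑ τ ∈ D' \ D, ((θ τ : ℝ) * (h τ : ℝ) + (∑' i, if i ∈ D' then (0 : ℝ) else (θ i : ℝ) * (h i : ℝ)) / ((D' \ hfin.toFinset).card : ℝ)) *
        (((h' τ : ℝ) / (h τ : ℝ)) - (1 / ((D \ hfin.toFinset).card : ℝ)) * (∑ σ ∈ D \ hfin.toFinset, ((h' σ : ℝ) / (h σ : ℝ))))) ∧
    ((∑' i, (θ i : ℝ) * (h' i : ℝ)) - ((∑ i ∈ D, (θ i : ℝ) * (h' i : ℝ)) + ((∑' i, if i ∈ D then (0 : ℝ) else (θ i : ℝ) * (h i : ℝ)) / ((D \ hfin.toFinset).card : ℝ)) * (∑ σ ∈ D \ hfin.toFinset, ((h' σ : ℝ) / (h σ : ℝ)))) =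
      ∑' τ, if τ ∈ D then (0 : ℝ) else (θ τ : ℝ) * (h τ : ℝ) *
        (((h' τ : ℝ) / (h τ : ℝ)) - (1 / ((D \ hfin.toFinset).card : ℝ)) * (∑ σ ∈ D \ hfin.toFinset, ((h' σ : ℝ) / (h σ : ℝ))))) := by
  classical
  let b : ι → ℝ := fun i => (θ i : ℝ) * (h i : ℝ)
  let a : ι → ℝ := fun i => (θ i : ℝ) * (h' i : ℝ)
  let r : ι → ℝ := fun i => (h' i : ℝ) / (h i : ℝ)
  have hr : ∀ i, a i = b i * r i := fun i => by
    simp only [a, b, r]
    rcases Nat.eq_zero_or_pos (h i) with h0 | h0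
    · simp [h0, show h' i = 0 by have := hle i; omega]
    · field_simp
  have hab : Summable a := Summable.of_norm_bounded hsum.norm fun i => by
    simp only [a, norm_mul, Real.norm_eq_abs, Nat.abs_cast]
    exact mul_le_mul_of_nonneg_left (Nat.cast_le.2 (hle i)) (abs_nonneg _)
  have hb : ∀ (f : ι → ℝ), Summable f → ∀ D : Finset ι,
      (∑' i, if i ∈ D then (0 : ℝ) else f i) = (∑' i, f i) - ∑ i ∈ D, f i := by
    intro f hf D
    have h1 : (fun i => if i ∈ D then (0 : ℝ) else f i) = fun i => f i - (if i ∈ D then f i else 0) := by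
      ext i; split <;> simp
    have h2 : HasSum (fun i => if i ∈ D then f i else 0) (∑ i ∈ D, f i) := by
      have h2' := hasSum_sum_of_ne_finset_zero (s := D) (f := fun i => if i ∈ D then f i else 0)
        (L := SummationFilter.unconditional ι) (fun i hi => if_neg hi)
      rwa [Finset.sum_congr rfl fun i hi => if_pos hi] at h2'
    rw [h1, (hf.hasSum.sub h2).tsum_eq]
  set N := hfin.toFinset
  have hset : D' \ N = (D \ N) ∪ (D' \ D) := by
    ext x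
    simp only [Finset.mem_sdiff, Finset.mem_union]
    by_cases hxD : x ∈ D <;> by_cases hxN : x ∈ N <;> simp [hxD, hxN]
    · exact hDD' hxD
    · exact absurd (hDm hxN) hxD
  have hdj : Disjoint (D \ N) (D' \ D) :=
    Finset.disjoint_left.2 fun x hx hx' => (Finset.mem_sdiff.1 hx').2 (Finset.mem_sdiff.1 hx).1
  constructor
  · rw [hset, Finset.card_union_of_disjoint hdj, Finset.sum_union hdj, hb b hsum D, hb b hsum D',
      ← Finset.sum_sdiff hDD', ← Finset.sum_sdiff hDD' (f := b)]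
    rw [Finset.sum_congr rfl (g := fun τ => b τ * r τ) (fun τ _ => hr τ)]
    simp only [mul_sub, add_mul, Finset.sum_add_distrib, Finset.sum_sub_distrib, ← Finset.sum_mul,
      ← Finset.mul_sum, Finset.sum_const, nsmul_eq_mul]
    push_cast
    have hR0 : ((D \ N).card : ℝ) = 0 → ∑ σ ∈ D \ N, r σ = 0 := fun h0 => by
      simp [Finset.card_eq_zero.1 (Nat.cast_eq_zero.1 h0)]
    have hm0 : ((D \ N).card : ℝ) + ((D' \ D).card : ℝ) = 0 → ((D' \ D).card : ℝ) = 0 := fun h0 => by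
      have : (0 : ℝ) ≤ ((D \ N).card : ℝ) := Nat.cast_nonneg _
      have : (0 : ℝ) ≤ ((D' \ D).card : ℝ) := Nat.cast_nonneg _
      linarith
    simp only [b, r] at hR0 ⊢
    generalize (∑ σ ∈ D \ N, ((h' σ : ℝ) / (h σ : ℝ))) = R at hR0 ⊢
    generalize ((D \ N).card : ℝ) = d at hR0 hm0 ⊢
    generalize ((D' \ D).card : ℝ) = m at hm0 ⊢
    by_cases hd : d = 0
    · simp only [hd, hR0 hd]; ring
    by_cases hd' : d + m = 0
    · rw [hm0 hd'] at hd'; simp [hd] at hd'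
    field_simp
    ring
  · rw [hb b hsum D, show (∑' i, (θ i : ℝ) * (h' i : ℝ)) = ∑' i, a i from rfl,
      ← sub_sub, show (∑' i, a i) - ∑ i ∈ D, (θ i : ℝ) * (h' i : ℝ) =
        ∑' i, if i ∈ D then (0 : ℝ) else a i from (hb a hab D).symm,
      ← hb b hsum D]
    set C := 1 / ((D \ N).card : ℝ) * ∑ σ ∈ D \ N, r σ with hC
    have hs : ∀ {f : ι → ℝ}, Summable f → Summable fun i => if i ∈ D then (0 : ℝ) else f i :=
      fun {f} hf => Summable.of_norm_bounded hf.norm fun i => by split <;> simp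
    rw [show (fun τ => if τ ∈ D then (0 : ℝ) else (θ τ : ℝ) * (h τ : ℝ) * (((h' τ : ℝ) / (h τ : ℝ)) - C)) =
      fun τ => (if τ ∈ D then (0 : ℝ) else a τ) - (if τ ∈ D then (0 : ℝ) else b τ) * C from ?_,
      (hs hab).tsum_sub ((hs hsum).mul_right C), tsum_mul_right]
    · simp only [hC, b, r]; ring
    · ext τ
      split
      · simp
      · rw [hr τ]; simp only [b, r]; ring

end Groth.Agent.S19502
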