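import Groth.Statements.S19505
-- import your own Groth.Agent.* helpers here
import Groth.Agent.S15075
import Groth.Agent.H29RR.Indecomposable
import Groth.Agent.H10Coh.Stab.Simple
import Groth.Agent.H27Weil.Dimension
import Mathlib

set_option autoImplicit false
universe u
open CategoryTheory CategoryTheory.Limits AlgebraicGeometry TopologicalSpace Opposite
open OrdSurf

namespace Groth.Agent.S19505

open TopologicalSpace Limits

set_option backward.isDefEq.respectTransparency.types false
set_option backward.isDefEq.respectTransparency false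

/-- Monomorphisms of sheaves of modules are injective on sections. -/
theorem injective_of_mono {X : Scheme.{u}} {A : Sheaf (Opens.grothendieckTopology X) RingCat.{u}}
    {M N : SheafOfModules.{u} A} (ψ : M ⟶ N) [Mono ψ] (U : (Opens X)ᵒᵖ) : Function.Injective (ψ.val.app U).hom := by
  haveI : Mono ((SheafOfModules.toSheaf A ⋙ sheafToPresheaf _ AddCommGrpCat.{u}).map ψ) := inferInstance
  haveI := NatTrans.mono_iff_mono_app ((SheafOfModules.toSheaf A ⋙ sheafToPresheaf _ AddCommGrpCat.{u}).map ψ) |>.1 ‹_› U
  exact (AddCommGrpCat.mono_iff_injective _).1 ‹_›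

variable {X : Scheme.{u}} {A : Sheaf (Opens.grothendieckTopology X) RingCat.{u}}

/-- Multiplication by a global function, as a map of modules over a central algebra. -/
noncomputable def scal (φ : X.ringCatSheaf ⟶ A)
    (hcen : ∀ (U : (Opens X)ᵒᵖ) (s : X.ringCatSheaf.obj.obj U) (a : A.obj.obj U),
      φ.hom.app U s * a = a * φ.hom.app U s)
    (M : SheafOfModules.{u} A) (g : Coh.Γtop X) : M ⟶ M :=
  ⟨PresheafOfModules.homMk (M₁ := M.val) (M₂ := M.val)
    (Coh.smulAb (id (α := X.Modules) ((SheafOfModules.restrictScalars φ).obj M)) g).hom (by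
      intro U a m
      show (φ.hom.app U).hom (Coh.resTop X U g) • (a • (show M.val.obj U from m)) =
        a • ((φ.hom.app U).hom (Coh.resTop X U g) • (show M.val.obj U from m))
      rw [← mul_smul, ← mul_smul, hcen])⟩

end Groth.Agent.S19505

namespace Groth.Agent.S19505

/-- Let k be an algebraically closed field of characteristic zero and X a smooth projective surface over
k (an integral k-scheme, smooth over k, of dimension two, admitting a closed immersion over k into
some projective space P^n_k), with generic point η. Let A be a sheaf of rings on X with a morphism φ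
: O_X → A of sheaves of rings with central image whose generic stalk A_η is a division ring (simple
as a left module over itself), and let M be a sheaf of A-modules whose underlying O_X-module is
coherent with torsion-free stalks and whose generic stalk M_η is a simple A_η-module. Then M is
simple in the sense that End_A(M) = k: every endomorphism ψ of the sheaf of A-modules M is
multiplication by a scalar c ∈ k, i.e. on every open U it acts on sections as multiplication by the
image of c in Γ(U, O_X) under the structure map, pushed into A by φ. (The published statement takes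
A to be an order on X and M a torsion-free A-module of rank one; only the hypotheses listed are
assumed here, the others playing no role in the argument.) -/
theorem result (k : Type u) [Field k] [IsAlgClosed k] [CharZero k]
    (X : Scheme.{u}) [X.Over (Spec (CommRingCat.of k))] [IsIntegral X]
    [Smooth (X ↘ Spec (CommRingCat.of k))] (hdim : topologicalKrullDim X = 2)
    (hproj : ∃ (n : ℕ) (ι : X ⟶ CohB1.ProjSpace n k), IsClosedImmersion ι ∧
      ι ≫ CohB1.ProjSpace.toSpec n k = X ↘ Spec (CommRingCat.of k))
    (A : Sheaf (Opens.grothendieckTopology X) RingCat.{u}) (φ : X.ringCatSheaf ⟶ A)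
    (hcen : ∀ (U : (Opens X)ᵒᵖ) (s : X.ringCatSheaf.obj.obj U) (a : A.obj.obj U),
      φ.hom.app U s * a = a * φ.hom.app U s)
    (hAη : IsSimpleModule (↑(TopCat.Presheaf.stalk (C := RingCat.{u}) (X := X.carrier) A.obj (genericPoint X))) (↑(TopCat.Presheaf.stalk (C := RingCat.{u}) (X := X.carrier) A.obj (genericPoint X))))
    (M : SheafOfModules.{u} A)
    (hMc : Coh.IsCoh (X := X) ((SheafOfModules.restrictScalars φ).obj M))
    (hMt : TorSh.IsTorsionFree (X := X) ((SheafOfModules.restrictScalars φ).obj M))
    (hMη : IsSimpleModule (↑(TopCat.Presheaf.stalk (C := RingCat.{u}) (X := X.carrier) A.obj (genericPoint X))) (↑(TopCat.Presheaf.stalk (C := Ab.{u}) (X := X.carrier) M.val.presheaf (genericPoint X))))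
    (ψ : M ⟶ M) :
    ∃ c : k, ∀ (U : (Opens X)ᵒᵖ) (m : M.val.obj U),
      (ψ.val.app U).hom m =
        φ.hom.app U ((X.presheaf.map (homOfLE (le_top (a := U.unop))).op)
          (((X ↘ Spec (CommRingCat.of k)).appTop).hom ((Scheme.ΓSpecIso (CommRingCat.of k)).inv.hom c))) • m := by
  classical
  obtain ⟨N, emb, hemb, hembk⟩ := hproj
  haveI : IsProper (CohB1.ProjSpace.toSpec N k) := H27Weil.isProper_toSpec N k
  haveI : IsProper (X ↘ Spec (CommRingCat.of k)) := hembk ▸ inferInstance
  let R := SheafOfModules.restrictScalars φ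
  let Mo : X.Modules := R.obj M
  let σ : k → (M ⟶ M) := fun c => scal φ hcen M (Coh.toGlobal (X ↘ Spec (CommRingCat.of k)) c)
  have hσ : ∀ c, (show Mo ⟶ Mo from R.map (σ c)) = Formal.smulMod k Mo c := fun c => rfl
  suffices h : ∃ c, ψ = σ c by
    obtain ⟨c, rfl⟩ := h
    exact ⟨c, fun U m => rfl⟩
  by_cases h0 : IsZero Mo
  · refine ⟨0, SheafOfModules.Hom.ext (PresheafOfModules.hom_ext fun U => ?_)⟩
    ext m
    exact congrArg (fun F : Mo ⟶ Mo => (F.val.app U).hom m) (h0.eq_of_src (show Mo ⟶ Mo from R.map ψ) (R.map (σ 0)))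
  obtain ⟨c, hc⟩ := H10Coh.Stab.exists_scalar_not_isIso k hMc h0 (show Mo ⟶ Mo from R.map ψ)
  refine ⟨c, sub_eq_zero.1 (by_contra fun hne => hc ?_)⟩
  haveI : Mono (ψ - σ c) := S15075.result k X hdim ⟨N, emb, hemb, hembk⟩ A φ hcen hAη M M hMc hMc hMt hMt hMη hMη _ hne
  let a : Mo ⟶ Mo := R.map (ψ - σ c)
  have ha : a = (show Mo ⟶ Mo from R.map ψ) - Formal.smulMod k Mo c := by
    rw [← hσ]; exact R.map_sub
  haveI : Mono a := S15075.mono_of_injective (A := X.ringCatSheaf) a fun U => injective_of_mono (ψ - σ c) U
  haveI : Module.Finite k (Mo ⟶ Mo) := H29RR.finite_hom hMc hMc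
  let L : (Mo ⟶ Mo) →ₗ[k] (Mo ⟶ Mo) :=
    { toFun := fun e => e ≫ a
      map_add' := fun e e' => Preadditive.add_comp _ _ _ e e' a
      map_smul' := fun r e => Category.assoc _ _ _ }
  have hL : Function.Injective L := fun e e' h => (cancel_mono a).1 h
  obtain ⟨e, he⟩ := (LinearMap.injective_iff_surjective (f := L)).1 hL (𝟙 Mo)
  haveI : IsSplitEpi a := IsSplitEpi.mk' ⟨e, he⟩
  rw [← ha]
  exact isIso_of_mono_of_isSplitEpi a

end Groth.Agent.S19505
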