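import Groth.Statements.S19508
import Groth.Agent.H20Borel.BaseQuot
import Groth.Agent.S3904
import Groth.Agent.H18Descent.Basic

set_option autoImplicit false
universe u
open CategoryTheory MonoidalCategory CartesianMonoidalCategory MonObj GrpObj AlgebraicGeometry
open AGF

namespace Groth.Agent.S19508

/-- Let k be a field, G an affine, smooth, connected k-group scheme, P a smooth connected closed
k-subgroup scheme of G and X = G/P the quotient. Then X is proper over k if and only if, after base
change to an algebraic closure of k (the geometric fibre over the point of Spec k), P contains a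
Borel subgroup of G. (Over an algebraically closed field this is the usual characterisation of
parabolic subgroups; the point here is an arbitrary ground field.) -/
theorem result (k : Type u) [Field k]
    (G : Over (Spec (CommRingCat.of k))) [GrpObj G] [IsAffine G.left] [Smooth G.hom] [ConnectedSpace G.left]
    (P : Over (Spec (CommRingCat.of k))) [GrpObj P] (iP : P ⟶ G) [IsMonHom iP] (hcl : IsClosedImmersion iP.left)
    [Smooth P.hom] [ConnectedSpace P.left]
    (X : Over (Spec (CommRingCat.of k))) (a : AlgGrp.Action G X) (o : 𝟙_ (Over (Spec (CommRingCat.of k))) ⟶ X)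
    (hX : AGF.IsQuotient iP X a o) :
    IsProper X.hom ↔ Red.IsParabolic iP := by
  let s₀ : ↥(Spec (CommRingCat.of k)) := IsLocalRing.closedPoint k
  have key : ∀ s, IsProper X.hom ↔
      Red.IsParabolicOver (AlgebraicClosure ((Spec (CommRingCat.of k)).residueField s))
        ((Over.pullback (Red.geomPt s)).map iP) := by
    intro s
    let z := Red.geomPt s
    haveI := H20Borel.isAffine_bc z G
    haveI := H20Borel.smooth_bc z G
    haveI := H20Borel.connected_bc z G
    haveI := H20Borel.smooth_bc z P
    haveI := hcl
    haveI h1 : IsClosedImmersion ((Over.pullback z).map iP).left :=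
      MorphismProperty.overPullbackMap z iP inferInstance
    obtain ⟨hf, hs, hq⟩ := H20Borel.flat_surjective_point z
    refine Iff.trans ?_ (Groth.Agent.S3904.result _ ((Over.pullback z).obj G) ((Over.pullback z).obj P)
      ((Over.pullback z).map iP) h1 ((Over.pullback z).obj X) (H20Borel.bcAct z a)
      (Functor.LaxMonoidal.ε (Over.pullback z) ≫ (Over.pullback z).map o) (H20Borel.bc_isQuotient z iP a o hX))
    refine ⟨fun h => MorphismProperty.pullback_snd (P := @IsProper) _ _ h, fun h => ?_⟩
    exact MorphismProperty.of_isPullback_of_descendsAlong (P := @IsProper) (Q := Groth.Agent.H18Descent.fpqc.{u})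
      (IsPullback.of_hasPullback X.hom z).flip ⟨⟨hs, hf⟩, hq⟩ h
  exact ⟨fun h => ⟨inferInstance, hcl, inferInstance, fun s => (key s).1 h⟩, fun h => (key s₀).2 (h.2.2.2 s₀)⟩

end Groth.Agent.S19508
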