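import Groth.Statements.S19509
import Groth.Agent.H28NT.ReductionInjectiveDVR

set_option autoImplicit false
universe u
open CategoryTheory MonoidalCategory CartesianMonoidalCategory MonObj GrpObj AlgebraicGeometry
open Neron

namespace Groth.Agent.S19509

/-- Let R be a complete discrete valuation ring whose fraction field K has characteristic zero and whose
residue field k has characteristic p > 0, and let N be a commutative R-group scheme which is a Néron
model of its generic fibre, an abelian variety over K. Then the torsion of order prime to p of N(R)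
= A(K) injects into the special fibre under reduction: a section x with x^n = 1, n ≥ 1 prime to p,
whose value at the closed point of Spec R is the identity point of the special fibre, is the unit
section. -/
theorem result (R : Type u) [CommRing R] [IsDomain R]
    [IsDiscreteValuationRing R] [IsAdicComplete (IsLocalRing.maximalIdeal R) R] (K : Type u) [Field K] [Algebra R K]
    [IsFractionRing R K] [CharZero K] (p : ℕ) [Fact p.Prime] [CharP (IsLocalRing.ResidueField R) p]
    (N : Over (Spec (CommRingCat.of R))) [GrpObj N] [IsCommMonObj N] (hN : SGA7.IsNeron R K N)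
    [IsProper ((SGA7.genFib R K).obj N).hom] [GeometricallyIntegral ((SGA7.genFib R K).obj N).hom]
    (x : 𝟙_ (Over (Spec (CommRingCat.of R))) ⟶ N) (n : ℕ) (hn : 0 < n) (hx : x ^ n = 1)
    (hred : x.left.base (IsLocalRing.closedPoint R) = (η[N]).left.base (IsLocalRing.closedPoint R))
    (hnp : Nat.Coprime n p) : x = 1 := by
  obtain ⟨k, hk⟩ : ∃ k : R, (n : R) * k - 1 ∈ IsLocalRing.maximalIdeal R := by
    have hu : (n : IsLocalRing.ResidueField R) ≠ 0 := by
      rw [Ne, CharP.cast_eq_zero_iff (IsLocalRing.ResidueField R) p]
      intro h
      exact (Fact.out : p.Prime).not_dvd_one (hnp ▸ Nat.dvd_gcd h dvd_rfl)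
    obtain ⟨k, hk⟩ := IsLocalRing.residue_surjective (R := R) ((n : IsLocalRing.ResidueField R)⁻¹)
    refine ⟨k, ?_⟩
    rw [← IsLocalRing.residue_eq_zero_iff, map_sub, map_mul, map_natCast, map_one, hk,
      mul_inv_cancel₀ hu, sub_self]
  refine Groth.Agent.H28NT.eq_one_of_natCast_isUnit ?_ hx hred
  by_contra h
  have h1 : (n : R) * k ∈ IsLocalRing.maximalIdeal R := Ideal.mul_mem_right _ _ h
  exact (IsLocalRing.maximalIdeal.isMaximal R).ne_top
    ((Ideal.eq_top_iff_one _).2 (by simpa using Ideal.sub_mem _ h1 hk))

end Groth.Agent.S19509
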