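import Groth.Statements.S1951
import Groth.Agent.H3CAlg.ProdPt
import Mathlib
import Groth.Agent.H22Alg.VarGeom
import Mathlib
-- import your own Groth.Agent.* helpers here

set_option autoImplicit false
universe u
open CategoryTheory CategoryTheory.Limits AlgebraicGeometry
attribute [local instance] HasDerivedCategory.standard
open IntMult

namespace Groth.Agent.S1951

/-- Let X, Y be nonsingular varieties over K of dimensions n, m, α an r-cycle on X and β an s-cycle on
Y. Then pr_X^*α and pr_Y^*β (flat pullbacks to X ×_K Y, of relative dimensions m and n) intersect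
properly on X ×_K Y and pr_X^*α · pr_Y^*β = α × β as (r + s)-cycles, coefficientwise. Here X is a
nonsingular variety over the algebraically closed field K (smooth, separated, quasi-compact,
integral) with dimension function δ (transcendence degree) and n = dim X; cycles are Mathlib
AlgebraicCycles with Cyc.Zk membership, proper intersection is IntMult.IntersectProperly and α · β
is the Tor-formula intersection product on coefficient functions (IntMult.interProd), bundled where
needed as 'any cycle with these coefficients'. -/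
theorem result (K : Type u) [Field K] [IsAlgClosed K] (X Y : Scheme.{u}) (f : X ⟶ Spec (CommRingCat.of K)) (g : Y ⟶ Spec (CommRingCat.of K)) [Smooth f] [IsSeparated f] [QuasiCompact f] [IsIntegral X] [Smooth g] [IsSeparated g] [QuasiCompact g] [IsIntegral Y] (δX : X → ℤ) (δY : Y → ℤ) (δ : ↥(pullback f g) → ℤ) (hX : Cyc.DeltaCompat f δX (fun _ => 0)) (hY : Cyc.DeltaCompat g δY (fun _ => 0)) (hXY : Cyc.DeltaCompat (pullback.fst f g ≫ f) δ (fun _ => 0)) (n m : ℕ) (hn : δX (genericPoint X) = n) (hm : δY (genericPoint Y) = m) (r s : ℤ) (α : AlgebraicCycle X ℤ) (β : AlgebraicCycle Y ℤ) (hα : α ∈ Cyc.Zk X δX r) (hβ : β ∈ Cyc.Zk Y δY s) : IntMult.IntersectProperly δ (n + m) (Cyc.pullFun (pullback.fst f g) δ δX m ⇑α) (Cyc.pullFun (pullback.snd f g) δ δY n ⇑β) ∧ IntMult.interProd δ (n + m) (Cyc.pullFun (pullback.fst f g) δ δX m ⇑α) (Cyc.pullFun (pullback.snd f g) δ δY n ⇑β) = IntMult.extProd f g δX δY δ ⇑α ⇑β := by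
  haveI : GeometricallyIntegral f := by
    haveI := Groth.Agent.H06Red.geometricallyReduced_of_perfectField f
    haveI := Groth.Agent.H19Grp.geometricallyIrreducible_of_irreducibleSpace f
    exact GeometricallyIntegral.of_geometricallyReduced_of_geometricallyIrreducible f
  haveI : GeometricallyIntegral g := by
    haveI := Groth.Agent.H06Red.geometricallyReduced_of_perfectField g
    haveI := Groth.Agent.H19Grp.geometricallyIrreducible_of_irreducibleSpace g
    exact GeometricallyIntegral.of_geometricallyReduced_of_geometricallyIrreducible g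
  let p := pullback.fst f g
  let q := pullback.snd f g
  have h : IsPullback p q f g := IsPullback.of_hasPullback f g
  have dX := Groth.Agent.H3CAlg.IntPt.delta_eq_cdim f δX hX
  have dY := Groth.Agent.H3CAlg.IntPt.delta_eq_cdim g δY hY
  have dP := Groth.Agent.H3CAlg.IntPt.delta_eq_cdim (p ≫ f) δ hXY
  have hdimX : topologicalKrullDim X = n := by
    obtain ⟨a, ha, ha'⟩ := dX (genericPoint X)
    rw [Groth.Agent.H3CAlg.IntPoints.cdim_genericPoint] at ha
    rw [hn] at ha'
    rw [ha, show a = n by omega]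
  have hdimY : topologicalKrullDim Y = m := by
    obtain ⟨a, ha, ha'⟩ := dY (genericPoint Y)
    rw [Groth.Agent.H3CAlg.IntPoints.cdim_genericPoint] at ha
    rw [hm] at ha'
    rw [ha, show a = m by omega]
  have hle : ∀ z, δ z ≤ δX (p z) + δY (q z) := by
    intro z
    obtain ⟨c, hc, hc'⟩ := dP z
    obtain ⟨a, ha, ha'⟩ := dX (p z)
    obtain ⟨b, hb, hb'⟩ := dY (q z)
    have := Groth.Agent.H06EGA9.cdim_le_add h z
    rw [hc, ha, hb] at this
    have : c ≤ a + b := by exact_mod_cast this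
    omega
  have hmono : ∀ {x x' : X}, x ⤳ x' → δX x' ≤ δX x ∧ (δX x' = δX x → x = x') := by
    intro x x' hs
    obtain ⟨a, ha, ha'⟩ := dX x
    obtain ⟨b, hb, hb'⟩ := dX x'
    by_cases he : x = x'
    · subst he; exact ⟨le_rfl, fun _ => rfl⟩
    · have := Groth.Agent.H8Props.FieldDim.cdim_lt f hs he
      rw [ha, hb] at this
      have : b < a := by exact_mod_cast this
      exact ⟨by omega, fun _ => by omega⟩
  have hmonoY : ∀ {x x' : Y}, x ⤳ x' → δY x' ≤ δY x ∧ (δY x' = δY x → x = x') := by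
    intro x x' hs
    obtain ⟨a, ha, ha'⟩ := dY x
    obtain ⟨b, hb, hb'⟩ := dY x'
    by_cases he : x = x'
    · subst he; exact ⟨le_rfl, fun _ => rfl⟩
    · have := Groth.Agent.H8Props.FieldDim.cdim_lt g hs he
      rw [ha, hb] at this
      have : b < a := by exact_mod_cast this
      exact ⟨by omega, fun _ => by omega⟩
  have hsigX : ∀ a, δ (Groth.Agent.H3CAlg.ProdPt.sig p a) = δX a + m := by
    intro a
    obtain ⟨c, hc, hc'⟩ := dP (Groth.Agent.H3CAlg.ProdPt.sig p a)
    obtain ⟨d, hd, hd'⟩ := dX a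
    rw [Groth.Agent.H3CAlg.ProdPt.cdim_sig p h hdimY, hd] at hc
    have : d + m = c := by exact_mod_cast hc
    omega
  have hsigY : ∀ b, δ (Groth.Agent.H3CAlg.ProdPt.sig q b) = δY b + n := by
    intro b
    obtain ⟨c, hc, hc'⟩ := dP (Groth.Agent.H3CAlg.ProdPt.sig q b)
    obtain ⟨d, hd, hd'⟩ := dY b
    rw [Groth.Agent.H3CAlg.ProdPt.cdim_sig q h.flip hdimX, hd] at hc
    have : d + n = c := by exact_mod_cast hc
    omega
  have hsuppX : ∀ z, Cyc.pullFun p δ δX m ⇑α z ≠ 0 →
      z = Groth.Agent.H3CAlg.ProdPt.sig p (p z) ∧ δ z = δX (p z) + m := by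
    intro z hz
    rw [Cyc.pullFun] at hz
    split_ifs at hz with hd
    · refine ⟨Groth.Agent.H3CAlg.ProdPt.eq_sig p h hdimY z ?_, hd⟩
      obtain ⟨c, hc, hc'⟩ := dP z
      obtain ⟨a, ha, ha'⟩ := dX (p z)
      rw [hc, ha]
      exact_mod_cast (show c = a + m by omega)
    · exact absurd rfl hz
  have hsuppY : ∀ z, Cyc.pullFun q δ δY n ⇑β z ≠ 0 →
      z = Groth.Agent.H3CAlg.ProdPt.sig q (q z) ∧ δ z = δY (q z) + n := by
    intro z hz
    rw [Cyc.pullFun] at hz
    split_ifs at hz with hd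
    · refine ⟨Groth.Agent.H3CAlg.ProdPt.eq_sig q h.flip hdimX z ?_, hd⟩
      obtain ⟨c, hc, hc'⟩ := dP z
      obtain ⟨a, ha, ha'⟩ := dY (q z)
      rw [hc, ha]
      exact_mod_cast (show c = a + n by omega)
    · exact absurd rfl hz
  have hvalX : ∀ a, Cyc.pullFun p δ δX m ⇑α (Groth.Agent.H3CAlg.ProdPt.sig p a) = α a := by
    intro a
    rw [Cyc.pullFun, if_pos (by rw [hsigX, Groth.Agent.H3CAlg.ProdPt.apply_sig]),
      Groth.Agent.H3CAlg.ProdPt.length_sig, Groth.Agent.H3CAlg.ProdPt.apply_sig]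
    simp
  have hvalY : ∀ b, Cyc.pullFun q δ δY n ⇑β (Groth.Agent.H3CAlg.ProdPt.sig q b) = β b := by
    intro b
    rw [Cyc.pullFun, if_pos (by rw [hsigY, Groth.Agent.H3CAlg.ProdPt.apply_sig]),
      Groth.Agent.H3CAlg.ProdPt.length_sig, Groth.Agent.H3CAlg.ProdPt.apply_sig]
    simp
  refine ⟨?_, ?_⟩
  · intro z w ζ hz hw hzζ hwζ
    obtain ⟨-, hdz⟩ := hsuppX z hz
    obtain ⟨-, hdw⟩ := hsuppY w hw
    have := (hmono (hzζ.map p.continuous)).1
    have := (hmonoY (hwζ.map q.continuous)).1
    have := hle ζ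
    omega
  · funext ζ
    rw [IntMult.interProd, IntMult.extProd]
    by_cases hζ : δ ζ = δX (p ζ) + δY (q ζ)
    · rw [if_pos hζ, finsum_eq_single _ ⟨(Groth.Agent.H3CAlg.ProdPt.sig p (p ζ), Groth.Agent.H3CAlg.ProdPt.sig q (q ζ)),
        Groth.Agent.H3CAlg.ProdPt.sig_specializes p rfl, Groth.Agent.H3CAlg.ProdPt.sig_specializes q rfl,
        by rw [hsigX, hsigY, hζ]; omega⟩ ?_]
      · rw [hvalX, hvalY, Groth.Agent.H3CAlg.ProdPt.mult_sig p h ζ]
      · intro x hne
        obtain ⟨⟨z, w⟩, hzζ, hwζ, hd⟩ := x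
        change z ⤳ ζ at hzζ
        change w ⤳ ζ at hwζ
        by_contra h0
        simp only [mul_eq_zero, not_or] at h0
        obtain ⟨ez, hdz⟩ := hsuppX z h0.1.1
        obtain ⟨ew, hdw⟩ := hsuppY w h0.1.2
        obtain ⟨l1, e1⟩ := hmono (hzζ.map p.continuous)
        obtain ⟨l2, e2⟩ := hmonoY (hwζ.map q.continuous)
        simp only at hd
        refine hne (Subtype.ext (Prod.ext ?_ ?_))
        · show z = Groth.Agent.H3CAlg.ProdPt.sig p (p ζ)
          rw [← e1 (by omega)]; exact ez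
        · show w = Groth.Agent.H3CAlg.ProdPt.sig q (q ζ)
          rw [← e2 (by omega)]; exact ew
    · rw [if_neg hζ]
      refine finsum_eq_zero_of_forall_eq_zero ?_
      rintro ⟨⟨z, w⟩, hzζ, hwζ, hd⟩
      change z ⤳ ζ at hzζ
      change w ⤳ ζ at hwζ
      by_contra h0
      simp only [mul_eq_zero, not_or] at h0
      obtain ⟨-, hdz⟩ := hsuppX z h0.1.1
      obtain ⟨-, hdw⟩ := hsuppY w h0.1.2
      have := (hmono (hzζ.map p.continuous)).1
      have := (hmonoY (hwζ.map q.continuous)).1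
      have := hle ζ
      simp only at hd
      omega


end Groth.Agent.S1951
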