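import Groth.Statements.S19515
import Groth.Agent.LeadBC.Fibration

set_option autoImplicit false
universe u
open CategoryTheory CategoryTheory.Limits AlgebraicGeometry
open Variety

namespace Groth.Agent.S19515

/-- Let k be a field and f : X → Y a k-morphism between proper k-schemes which is a fibration, i.e. O_Y
→ f_*O_X is an isomorphism (Γ(V, O_Y) → Γ(f⁻¹V, O_X) bijective for every open V ⊆ Y). If X is
geometrically normal, i.e. its base change to every algebraic closure of k has all local rings
integrally closed domains, then Y is geometrically normal in the same sense. -/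
theorem result (k : Type u) [Field k] (X Y : Scheme.{u})
    [X.Over (Spec (CommRingCat.of k))] [Y.Over (Spec (CommRingCat.of k))] [IsProper (X ↘ Spec (CommRingCat.of k))] [IsProper (Y ↘ Spec (CommRingCat.of k))]
    (f : X ⟶ Y) (hf : f ≫ (Y ↘ Spec (CommRingCat.of k)) = X ↘ Spec (CommRingCat.of k)) (hfib : ∀ V : Y.Opens, IsIso (f.app V))
    (hX : ∀ (K : Type u) [Field K] [Algebra k K] [IsAlgClosure k K],
      Pi1.IsNormalScheme (pullback (X ↘ Spec (CommRingCat.of k)) (Spec.map (CommRingCat.ofHom (algebraMap k K)))))
    (K : Type u) [Field K] [Algebra k K] [IsAlgClosure k K] :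
    Pi1.IsNormalScheme (pullback (Y ↘ Spec (CommRingCat.of k)) (Spec.map (CommRingCat.ofHom (algebraMap k K)))) := by
  haveI : IsProper (f ≫ (Y ↘ Spec (CommRingCat.of k))) := hf ▸ inferInstance
  haveI : IsProper f := IsProper.of_comp f (Y ↘ Spec (CommRingCat.of k))
  exact Groth.Agent.LeadBC.Fibration.isNormalScheme_pullback f hfib _ _ hf _ (hX K)

end Groth.Agent.S19515
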