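import Groth.Statements.S19516
import Groth.Agent.H12Pic.FinField.Descent

set_option autoImplicit false
set_option backward.isDefEq.respectTransparency.types false
universe u
open CategoryTheory CategoryTheory.Limits AlgebraicGeometry
open Pic13

namespace Groth.Agent.S19516

/-- Let k be a field of characteristic p > 0 which is algebraic over its prime field, i.e. every element
x of k satisfies x^(p^n) = x for some n ≥ 1, and let X be a geometrically normal proper k-scheme
(the base change of X to an algebraic closure of k has all local rings integrally closed domains).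
Then every numerically trivial invertible O_X-module L (degree 0 on every closed subscheme of X
integral of dimension one) has finite order: L^{⊗d} ≅ O_X for some d ≥ 1. -/
theorem result
    (p : ℕ) [Fact (Nat.Prime p)] (k : Type u) [Field k] [CharP k p]
    (halg : ∀ x : k, ∃ n : ℕ, 0 < n ∧ x ^ (p ^ n) = x)
    (X : Scheme.{u}) [X.Over (Spec (CommRingCat.of k))] [IsProper (X ↘ Spec (CommRingCat.of k))]
    (hgn : ∀ (K : Type u) [Field K] [Algebra k K] [IsAlgClosure k K],
      Pi1.IsNormalScheme (pullback (X ↘ Spec (CommRingCat.of k)) (Spec.map (CommRingCat.ofHom (algebraMap k K)))))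
    (L : X.Modules) (hL : PicF.IsInvertible L) (hnum : Pic13.IsNumEquivZero k X L) :
    ∃ d : ℕ, 0 < d ∧ Nonempty (CohB1.tensorPow L d ≅ Coh.structureModule X) := by
  exact Groth.Agent.H12Pic.FinField.exists_pow_trivial_algebraic p k halg X ⟨hL, hnum⟩

end Groth.Agent.S19516
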