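import Groth.Statements.S19520
import Groth.Agent.H7SmoothCrit.DiffRank
-- import your own Groth.Agent.* helpers here

set_option autoImplicit false
universe u
open CategoryTheory CategoryTheory.Limits AlgebraicGeometry
open OmegaSh

namespace Groth.Agent.S19520

/-- Let k be a field and f : X → Z a k-morphism between integral proper k-schemes, where X is
geometrically normal (its base change to an algebraic closure of k has integrally closed local
domains) and Z is smooth over k; let Y ⊆ Z be the closure of the image of f, m its dimension, and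
assume the fibre of f over the generic point of Y is geometrically reduced over the residue field
there (the function field extension K(Y) ⊆ K(X) is separable). Let d_Z : O_Z → Ω_Z and d_X : O_X →
Ω_X be universal k-derivations and c : f^*Ω_Z → Ω_X the O_X-linear map compatible with them, and let
U ⊆ X be the largest open subscheme smooth over k. If f^*Ω_Z is a free O_X-module of finite rank,
then there are m sections of Ω_X over U which are linearly independent over Γ(U, O_X); in particular
the space of sections of Ω¹ over U has dimension at least m. (The second estimate of (ii), a nonzero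
section of Ω^m over U, is not stated.) -/
theorem result (k : Type u) [Field k]
    (X Z : Scheme.{u}) [X.Over (Spec (CommRingCat.of k))] [Z.Over (Spec (CommRingCat.of k))]
    [IsProper (X ↘ Spec (CommRingCat.of k))] [IsProper (Z ↘ Spec (CommRingCat.of k))] [IsIntegral X] [IsIntegral Z]
    [Smooth (Z ↘ Spec (CommRingCat.of k))]
    (hgn : ∀ (K : Type u) [Field K] [Algebra k K] [IsAlgClosure k K],
      Pi1.IsNormalScheme (pullback (X ↘ Spec (CommRingCat.of k)) (Spec.map (CommRingCat.ofHom (algebraMap k K)))))
    (f : X ⟶ Z) (hf : f ≫ (Z ↘ Spec (CommRingCat.of k)) = X ↘ Spec (CommRingCat.of k))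
    (η : Z) (hη : closure {η} = closure (Set.range f.base)) (m : ℕ)
    (hm : topologicalKrullDim (closure (Set.range f.base)) = m)
    (hsep : GeometricallyReduced (pullback.snd f (Z.fromSpecResidueField η)))
    (ΩZ : Z.Modules) (dZ : OmegaSh.Der (Z ↘ Spec (CommRingCat.of k)) ΩZ) (hdZ : OmegaSh.IsUniversal dZ)
    (ΩX : X.Modules) (dX : OmegaSh.Der (X ↘ Spec (CommRingCat.of k)) ΩX) (hdX : OmegaSh.IsUniversal dX)
    (c : (Scheme.Modules.pullback f).obj ΩZ ⟶ ΩX) (hc : OmegaSh.IsDiffCompat f dZ dX c)
    (hfree : ∃ d : ℕ, Nonempty ((Scheme.Modules.pullback f).obj ΩZ ≅ FlatMod.freeMod X d))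
    (U : X.Opens) (hU : Smooth (U.ι ≫ (X ↘ Spec (CommRingCat.of k))))
    (hUmax : ∀ V : X.Opens, Smooth (V.ι ≫ (X ↘ Spec (CommRingCat.of k))) → V ≤ U) :
    ∃ s : Fin m → ΩX.val.obj (Opposite.op U),
      LinearIndependent (X.ringCatSheaf.obj.obj (Opposite.op U)) s := by
  obtain ⟨d, ⟨e⟩⟩ := hfree
  haveI : LocallyOfFinitePresentation (X ↘ Spec (CommRingCat.of k)) := inferInstance
  obtain ⟨s, hs⟩ := H7SmoothCrit.exists_linearIndependent_germ k f hf η hη m hm hsep dZ hdZ dX hdX c hc e
  exact ⟨fun i => ΩX.presheaf.map (homOfLE (le_top : U ≤ ⊤)).op (s i),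
    H7SmoothCrit.linearIndependent_res_of_germ ΩX s hs U
      (H7SmoothCrit.genericPoint_mem_of_isMax_smooth k _ (hgn (AlgebraicClosure k)) U hUmax)⟩

end Groth.Agent.S19520
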