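import Groth.Statements.S19521
import Groth.Agent.H26Dual.Apply
-- import your own Groth.Agent.* helpers here

set_option autoImplicit false
universe u
open CategoryTheory CategoryTheory.Limits MonoidalCategory CartesianMonoidalCategory MonObj GrpObj AlgebraicGeometry
open AbDual

open AlgebraicGeometry CategoryTheory CategoryTheory.Limits MonoidalCategory CartesianMonoidalCategory MonObj Groth.Agent Groth.Agent.H26Dual
open Groth.Agent.H25AbCube (PC pc pullP pc_eq_iff pc_tensor pc_one pullP_pc)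
open Groth.Agent.H25Dual (toCl toCl_pc toCl_pullP)

set_option backward.isDefEq.respectTransparency false

namespace Groth.Agent.S19521

/-- Let S be a locally Noetherian scheme and f : A' → A a homomorphism of abelian schemes over S. Let
A^t, A'^t be dual abelian schemes of A, A' (given through φ_A, φ_A', fppf topology, classes
algebraically equivalent to zero on geometric fibres), A^tt, A'^tt dual abelian schemes of A^t, A'^t
(through φ_{A^t}, φ_{A'^t}), ξ and ξ' Poincaré classes on A ×_S A^t and A' ×_S A'^t whose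
factor-swapped classes are algebraically equivalent to zero on the geometric fibres over A and A',
f^t : A^t → A'^t the transpose of f and f^tt : A'^tt → A^tt the transpose of f^t. With κ_A : A →
A^tt and κ_A' : A' → A'^tt the biduality morphisms defined by the swapped Poincaré classes, the
square commutes: f followed by κ_A equals κ_A' followed by f^tt. (The published statement is for
projective abelian schemes over a Noetherian base, where the duals exist as schemes; here the duals
are given as data.) -/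
theorem result {S : Scheme.{u}} [IsLocallyNoetherian S]
    (A At Att A' A't A'tt : Over S) [GrpObj A] [IsCommMonObj A] [IsProper A.hom] [Smooth A.hom] [GeometricallyConnected A.hom] [GrpObj At] [IsCommMonObj At] [IsProper At.hom] [Smooth At.hom] [GeometricallyConnected At.hom] [GrpObj Att] [IsCommMonObj Att] [IsProper Att.hom] [Smooth Att.hom] [GeometricallyConnected Att.hom]
    [GrpObj A'] [IsCommMonObj A'] [IsProper A'.hom] [Smooth A'.hom] [GeometricallyConnected A'.hom] [GrpObj A't] [IsCommMonObj A't] [IsProper A't.hom] [Smooth A't.hom] [GeometricallyConnected A't.hom] [GrpObj A'tt] [IsCommMonObj A'tt] [IsProper A'tt.hom] [Smooth A'tt.hom] [GeometricallyConnected A'tt.hom]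
    (φA : ∀ T : Over S, PicF.Cl (PicF.XT A.hom T) → (T ⟶ At))
    (φAt : ∀ T : Over S, PicF.Cl (PicF.XT At.hom T) → (T ⟶ Att))
    (φA' : ∀ T : Over S, PicF.Cl (PicF.XT A'.hom T) → (T ⟶ A't))
    (φA't : ∀ T : Over S, PicF.Cl (PicF.XT A't.hom T) → (T ⟶ A'tt))
    (hA : AbDual.IsDualAV Scheme.fppfPrecoverage A At φA) (hAt : AbDual.IsDualAV Scheme.fppfPrecoverage At Att φAt)
    (hA' : AbDual.IsDualAV Scheme.fppfPrecoverage A' A't φA') (hA't : AbDual.IsDualAV Scheme.fppfPrecoverage A't A'tt φA't)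
    (ξ : PicF.Cl (PicF.XT A.hom At)) (hξ : AbDual.IsPoincareCl A At φA ξ)
    (hξs : AbDual.IsPicZeroCl At.hom A (PicF.pullCl (pullbackSymmetry At.hom A.hom).hom ξ))
    (ξ' : PicF.Cl (PicF.XT A'.hom A't)) (hξ' : AbDual.IsPoincareCl A' A't φA' ξ')
    (hξ's : AbDual.IsPicZeroCl A't.hom A' (PicF.pullCl (pullbackSymmetry A't.hom A'.hom).hom ξ'))
    (f : A' ⟶ A) [IsMonHom f] (ft : At ⟶ A't) (hft : AbDual.IsTranspose f φA' φA ft)
    (ftt : A'tt ⟶ Att) (hftt : AbDual.IsTranspose ft φAt φA't ftt) :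
    f ≫ φAt A (PicF.pullCl (pullbackSymmetry At.hom A.hom).hom ξ) =
      φA't A' (PicF.pullCl (pullbackSymmetry A't.hom A'.hom).hom ξ') ≫ ftt := by
  haveI := H19Grp.geometricallyReduced_of_smooth_hom A'.hom
  haveI := H19Grp.geometricallyIntegral_of_abScheme A'
  obtain ⟨hξz, hξ1, hξ0⟩ := hξ
  obtain ⟨hξ'z, hξ'1, hξ'0⟩ := hξ'
  obtain ⟨P, rfl, hP, hfib⟩ := hξz
  obtain ⟨Q, rfl, hQ, hfib'⟩ := hξ'z
  have hu : PZ A At (pc P hP) := pz_pc hP ⟨P, rfl, hP, hfib⟩
  have hv : PZ A' A't (pc Q hQ) := pz_pc hQ ⟨Q, rfl, hQ, hfib'⟩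
  have hr0 : ∀ {X Xt : Over S} [GrpObj X] (M : (PicF.XT X.hom Xt).Modules) (hM : PicF.IsInvertible M)
      (_ : PicF.IsTrivialCl (PicF.pullCl (PicF.secT X.hom η[X].left (Over.w η[X]) Xt) (PicF.cl M)))
      [IsProper X.hom] [Smooth X.hom] [GeometricallyIntegral X.hom],
      ev (pc (X := (X ⊗ Xt).left) M hM) (lift (1 : Xt ⟶ X) (𝟙 Xt)) = 0 := by
    intro X Xt _ M hM h _ _ _
    obtain ⟨e⟩ := H12Pic.Sep.iso_of_cl_eq h
    exact (pullP_pc _ M hM (H11Ample.isInvertible_pullback _ hM)).symm.trans (((pc_eq_iff _ _).2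
      ⟨((Scheme.Modules.pullbackCongr (secT_eq (A := X) Xt)).app M).symm ≪≫ e⟩).trans pc_one)
  haveI := H19Grp.geometricallyReduced_of_smooth_hom A.hom
  haveI := H19Grp.geometricallyIntegral_of_abScheme A
  have hru := hr0 P hP hξ0
  have hrv := hr0 Q hQ hξ'0
  have heq : ev (pc (X := (A ⊗ At).left) P hP) (f ▷ At) = ev (pc (X := (A' ⊗ A't).left) Q hQ) (A' ◁ ft) := by
    refine rig_eq hA' (pz_ev_right f hu) (pz_ev_left ft hv) ?_ ?_
    · rw [ev_comp, ev_comp, show lift (1 : At ⟶ A') (𝟙 At) ≫ f ▷ At = lift (1 : At ⟶ A) (𝟙 At) by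
          apply CartesianMonoidalCategory.hom_ext <;> simp [MonObj.one_comp],
        show lift (1 : At ⟶ A') (𝟙 At) ≫ A' ◁ ft = ft ≫ lift (1 : A't ⟶ A') (𝟙 A't) by
          apply CartesianMonoidalCategory.hom_ext <;> simp [MonObj.comp_one],
        hru, ← ev_comp, hrv]
      exact (map_zero _).symm
    · rw [Φ_transpose hft hu, Φ_nat hA' ft hv, Φ_pc, Φ_pc, hξ1, hξ'1, Category.id_comp, Category.comp_id]
  have hcl : ∀ {X Xt : Over S} (M : (PicF.XT X.hom Xt).Modules) (hM : PicF.IsInvertible M),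
      toCl (X := PicF.XT Xt.hom X) (ev (pc (X := (X ⊗ Xt).left) M hM) (lift (snd Xt X) (fst Xt X))) =
        PicF.pullCl (pullbackSymmetry Xt.hom X.hom).hom (PicF.cl M) := by
    intro X Xt M hM
    rw [H26Dual.symm_eq]
    erw [toCl_pullP, toCl_pc]
  rw [← hcl P hP] at hξs ⊢
  rw [← hcl Q hQ] at hξ's ⊢
  show f ≫ Φ φAt A _ = Φ φA't A' _ ≫ ftt
  rw [← Φ_nat hAt f hξs, ← Φ_transpose hftt hξ's, ev_comp, ev_comp]
  have h := congrArg (fun z => ev z (lift (snd At A') (fst At A'))) heq
  simp only [ev_comp] at h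
  convert congrArg (Φ φAt A') h using 3 <;> apply CartesianMonoidalCategory.hom_ext <;> simp

end Groth.Agent.S19521
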