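import Groth.Statements.S19522
import Groth.Agent.H20Comod.Basic

set_option autoImplicit false
universe u
open TensorProduct
open GLin

namespace Groth.Agent.S19522
open Groth.Agent.H20Comod

/-- Let k be a field, A a commutative k-bialgebra coacting multiplicatively on a commutative k-algebra
R, and χ ∈ A a group-like element with an inverse χ' (χχ' = 1). Suppose the polynomial ring R[t]
carries a multiplicative coaction which restricts to the given one on constants and sends t to t ⊗
χ'. Then g ∈ R[t] is coinvariant if and only if, for every r, its r-th coefficient has coaction g_r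
↦ g_r ⊗ χ^r; that is, the ring of invariants of R[t] is the sum over r ≥ 0 of the weight-χ^r
semi-invariants of R times t^r. (The published statement is phrased for an affine variety with an
action of a linear algebraic group over an algebraically closed field of characteristic zero and
identifies the invariants of X × A¹ with the graded ring of invariant sections of the powers of the
linearised trivial bundle; this is its coordinate-ring content, valid over any field.) -/
theorem result (k : Type u) [Field k]
    (A : Type u) [CommRing A] [Bialgebra k A]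
    (R : Type u) [CommRing R] [Algebra k R] [HopfRep.Comod k A R] [GLin.IsCoactAlg k A R]
    [HopfRep.Comod k A (Polynomial R)] [GLin.IsCoactAlg k A (Polynomial R)]
    (χ χ' : A) (hχ : CoalgebraStruct.comul (R := k) (A := A) χ = χ ⊗ₜ[k] χ)
    (hχε : CoalgebraStruct.counit (R := k) (A := A) χ = 1) (hχχ' : χ * χ' = 1)
    (hC : ∀ r : R, HopfRep.Comod.coact (k := k) (A := A) (Polynomial.C r) =
      Algebra.TensorProduct.map (Polynomial.CAlgHom : R →ₐ[k] Polynomial R) (AlgHom.id k A)
        (HopfRep.Comod.coact (k := k) (A := A) r))
    (hX : HopfRep.Comod.coact (k := k) (A := A) (Polynomial.X : Polynomial R) = Polynomial.X ⊗ₜ[k] χ')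
    (g : Polynomial R) :
    g ∈ GLin.invariants k A (Polynomial R) ↔
      ∀ r : ℕ, g.coeff r ∈ HopfRep.eigenspace k A R (χ ^ r) := by
  let c : ℕ → Polynomial R →ₗ[k] R := fun r => (Polynomial.lcoeff R r).restrictScalars k
  let ρ := HopfRep.Comod.coact (k := k) (A := A) (V := Polynomial R)
  have key : ∀ (g : Polynomial R) (r : ℕ), (c r).rTensor A (ρ g) =
      HopfRep.Comod.coact (k := k) (A := A) (g.coeff r) * ((1 : R) ⊗ₜ[k] (χ' ^ r)) := by
    intro g r
    induction g using Polynomial.induction_on' with
    | add p q hp hq => rw [map_add, map_add, hp, hq, Polynomial.coeff_add, map_add, add_mul]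
    | monomial n a =>
      have hXn : ρ ((Polynomial.X : Polynomial R) ^ n) = (Polynomial.X ^ n) ⊗ₜ[k] (χ' ^ n) := by
        have := map_pow (GLin.coactAlgHom k A (Polynomial R)) Polynomial.X n
        rw [GLin.coactAlgHom_apply, GLin.coactAlgHom_apply, hX, Algebra.TensorProduct.tmul_pow] at this
        exact this
      rw [← Polynomial.C_mul_X_pow_eq_monomial, Polynomial.coeff_C_mul_X_pow,
        show ρ (Polynomial.C a * Polynomial.X ^ n) = ρ (Polynomial.C a) * ρ (Polynomial.X ^ n) from
          GLin.IsCoactAlg.coact_mul _ _, hXn, show ρ (Polynomial.C a) = _ from hC a]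
      have h2 : ∀ x : R ⊗[k] A, (c r).rTensor A
          ((Algebra.TensorProduct.map (Polynomial.CAlgHom : R →ₐ[k] Polynomial R) (AlgHom.id k A)) x *
            ((Polynomial.X ^ n) ⊗ₜ[k] (χ' ^ n))) = if r = n then x * ((1 : R) ⊗ₜ[k] (χ' ^ r)) else 0 := by
        intro x
        induction x using TensorProduct.induction_on with
        | zero => simp
        | tmul w b =>
          rw [Algebra.TensorProduct.map_tmul, Algebra.TensorProduct.tmul_mul_tmul, LinearMap.rTensor_tmul,
            show c r (Polynomial.CAlgHom (R := k) w * Polynomial.X ^ n) = if r = n then w else 0 from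
              Polynomial.coeff_C_mul_X_pow w n r]
          split_ifs with h
          · subst h
            simp [Algebra.TensorProduct.tmul_mul_tmul]
          · simp
        | add x y hx hy => rw [map_add, add_mul, map_add, hx, hy]; split_ifs <;> simp [add_mul]
      rw [h2]
      split_ifs <;> simp
  constructor
  · intro hg r
    show HopfRep.Comod.coact (k := k) (A := A) (g.coeff r) = g.coeff r ⊗ₜ[k] (χ ^ r)
    have h1 := key g r
    rw [show ρ g = g ⊗ₜ[k] (1 : A) from hg, LinearMap.rTensor_tmul] at h1
    have h2 := congrArg (· * ((1 : R) ⊗ₜ[k] (χ ^ r))) h1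
    simp only [mul_assoc, Algebra.TensorProduct.tmul_mul_tmul, one_mul, mul_one, ← mul_pow] at h2
    rw [mul_comm χ' χ, hχχ', one_pow, ← Algebra.TensorProduct.one_def, mul_one] at h2
    exact h2.symm
  · intro h
    show ρ g = g ⊗ₜ[k] (1 : A)
    rw [← sub_eq_zero]
    refine eq_zero_of_forall_sliceR fun f => Polynomial.ext fun r => ?_
    show c r (sliceR f _) = _
    rw [← sliceR_rTensor, map_sub, key, h r, LinearMap.rTensor_tmul, Algebra.TensorProduct.tmul_mul_tmul,
      mul_one, ← mul_pow, hχχ', one_pow]
    simp [c]

end Groth.Agent.S19522
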