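import Groth.Statements.S19523
import Groth.Agent.H19Grp.OrbitSmooth

set_option autoImplicit false
set_option linter.style.haveILetI false
set_option backward.isDefEq.respectTransparency false
universe u
open CategoryTheory MonoidalCategory CartesianMonoidalCategory MonObj GrpObj AlgebraicGeometry
open AlgGrp

namespace Groth.Agent.S19523

/-- Let k be a field, G a smooth k-group scheme of finite type acting on a k-scheme X of finite type,
and x a rational point of X. The orbit of x, the image of the orbit map G → X, is locally closed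
(not restated here); if i : O → X is an immersion from a reduced scheme whose image is exactly the
orbit — the orbit with its reduced induced structure — then O is smooth over k. -/
theorem result (k : Type u) [Field k]
    (G X : Over (Spec (CommRingCat.of k))) [GrpObj G] [Smooth G.hom] [QuasiCompact G.hom]
    [LocallyOfFiniteType X.hom] [QuasiCompact X.hom] (a : AlgGrp.Action G X)
    (x : 𝟙_ (Over (Spec (CommRingCat.of k))) ⟶ X)
    (O : Scheme.{u}) (i : O ⟶ X.left) [IsImmersion i] [IsReduced O]
    (hO : Set.range i.base = Set.range (a.orbitMap x).left.base) : Smooth (i ≫ X.hom) := by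
  let O' : Over (Spec (CommRingCat.of k)) := Over.mk (i ≫ X.hom)
  let i' : O' ⟶ X := Over.homMk i
  haveI : IsImmersion i'.left := ‹IsImmersion i›
  haveI : IsReduced O'.left := ‹IsReduced O›
  haveI : GeometricallyReduced G.hom := H19Grp.geometricallyReduced_of_smooth G.hom
  haveI : IsReduced G.left :=
    GeometricallyReduced.isReduced_of_flat_of_isLocallyNoetherian G.hom
  set f := a.orbitMap x with hf
  have hopen : Set.range f.left ⊆ Set.range i.coborderRange.ι := by
    rintro _ hz
    obtain ⟨w, hw⟩ := hO.ge hz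
    refine ⟨i.liftCoborder w, ?_⟩
    rw [← Scheme.Hom.comp_apply, Scheme.Hom.liftCoborder_ι]
    exact hw
  obtain ⟨f₁, hf₁⟩ : ∃ f₁, f₁ ≫ i.coborderRange.ι = f.left :=
    ⟨IsOpenImmersion.lift _ _ hopen, IsOpenImmersion.lift_fac _ _ _⟩
  obtain ⟨g, hg⟩ := H17.exists_lift_of_range_subset f₁ i.liftCoborder (by
    rintro _ ⟨z, rfl⟩
    obtain ⟨w, hw⟩ := hO.ge ⟨z, rfl⟩
    refine ⟨w, i.coborderRange.ι.isOpenEmbedding.injective ?_⟩
    rw [← Scheme.Hom.comp_apply, ← Scheme.Hom.comp_apply, Scheme.Hom.liftCoborder_ι, hf₁]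
    exact hw)
  have hgi : g ≫ i = f.left := by rw [← hf₁, ← hg, Category.assoc, Scheme.Hom.liftCoborder_ι]
  haveI hgs : Surjective g := ⟨fun h => by
    obtain ⟨z, hz⟩ := hO.le ⟨h, rfl⟩
    refine ⟨z, i.isEmbedding.injective ?_⟩
    rw [← Scheme.Hom.comp_apply, hgi]; exact hz⟩
  let g' : G ⟶ O' := Over.homMk g (by
    show g ≫ i ≫ X.hom = G.hom
    rw [← Category.assoc, hgi, Over.w f])
  haveI : Surjective g'.left := hgs
  haveI : LocallyOfFiniteType (i ≫ X.hom) := inferInstance
  haveI : LocallyOfFiniteType O'.hom := ‹LocallyOfFiniteType (i ≫ X.hom)›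
  haveI : IsLocallyNoetherian O := LocallyOfFiniteType.isLocallyNoetherian (i ≫ X.hom)
  haveI : QuasiCompact (g ≫ i ≫ X.hom) := by rw [← Category.assoc, hgi, Over.w f]; infer_instance
  haveI : QuasiCompact g := QuasiCompact.of_comp g (i ≫ X.hom)
  haveI : GeometricallyReduced (g ≫ O'.hom) := by
    show GeometricallyReduced (g ≫ i ≫ X.hom)
    rw [← Category.assoc, hgi, Over.w f]; infer_instance
  haveI : GeometricallyReduced O'.hom := H19Grp.geometricallyReduced_of_surjective g O'.hom
  exact H19Grp.smooth_orbit a x O' i' g' (Over.OverMorphism.ext hgi)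

end Groth.Agent.S19523
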