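import Groth.Statements.S19528
import Groth.Agent.H23TFCurv.ValueSetMain

set_option autoImplicit false
universe u
open CategoryTheory
open TFCurv

namespace Groth.Agent.S19528

/-- Let k be an algebraically closed field and A ≠ k[[t]] a k-subalgebra of k[[t]] that is closed in the
t-adic topology and over which k[[t]] is a finite module (as for the complete local ring of a
unibranch curve singularity inside its normalisation), let Γ ⊆ ℕ be the set of t-orders of the
nonzero elements of A (its value semigroup) with conductor c (every n ≥ c lies in Γ, c ≥ 1, c − 1 ∉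
Γ), and suppose A is not Gorenstein. Let ω be a finitely generated A-submodule of k[[t]] containing
1 whose injective dimension as an A-module is at most one (a canonical ideal of A placed between A
and k[[t]]). Then for every finitely generated A-submodule M of k[[t]] containing 1 (a rank-one
torsion-free module in normal form) the A-linear maps M → ω are the multiplications by power series
u with uM ⊆ ω, and the set of orders of such u is the dual of the value set of M: a natural number n
is the order of some u with uM ⊆ ω if and only if n ≥ c or c − 1 − n is not the order of any element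
of M. (For M = A this is the first assertion, that the value set of ω is the dual of Γ. The
published statement does not exclude the Gorenstein case; this row assumes that A is not Gorenstein,
as the printed argument for the value set of ω does.) -/
theorem result (k : Type u) [Field k] [IsAlgClosed k] (A : Subalgebra k (PowerSeries k)) (hA : Module.Finite ↥A (PowerSeries k)) (hcl : ∀ f : PowerSeries k, (∀ n : ℕ, ∃ g ∈ A, (n : ℕ∞) ≤ PowerSeries.order (f - g)) → f ∈ A) (hsing : A ≠ ⊤) (Γ : Set ℕ) (hΓ : ∀ n : ℕ, n ∈ Γ ↔ ∃ f ∈ A, PowerSeries.order f = n) (c : ℕ) (hc : ∀ n : ℕ, c ≤ n → n ∈ Γ) (hc0 : c ≠ 0) (hc1 : c - 1 ∉ Γ) (hG : ¬ LocCoh.IsGorensteinLocalRing ↥A) (ω : Submodule ↥A (PowerSeries k)) (hω1 : (1 : PowerSeries k) ∈ ω) (hωfg : ω.FG) (hωinj : HasInjectiveDimensionLT (ModuleCat.of ↥A ↥ω) 2) (M : Submodule ↥A (PowerSeries k)) (hMfg : M.FG) (hM1 : (1 : PowerSeries k) ∈ M) (n : ℕ) : (∃ u : PowerSeries k, PowerSeries.order u = n ∧ ∀ m ∈ M, u * m ∈ ω) ↔ (c ≤ n ∨ ¬ ∃ m ∈ M, PowerSeries.order m = ((c - 1 - n : ℕ) : ℕ∞)) := by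
  exact H23TFCurv.valueSet_multipliers A hA hcl Γ hΓ c hc hc0 hc1 ω hω1 hωfg hωinj M hMfg hM1 n

end Groth.Agent.S19528
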