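import Groth.Statements.S19529
import Groth.Agent.H25AbCube.GeomCharPoly
import Mathlib.FieldTheory.Minpoly.IsIntegrallyClosed

set_option autoImplicit false
set_option linter.style.haveILetI false
set_option backward.isDefEq.respectTransparency false
set_option synthInstance.maxHeartbeats 200000
universe u
open CategoryTheory MonoidalCategory CartesianMonoidalCategory MonObj GrpObj AlgebraicGeometry
open AbVar

namespace Groth.Agent.S19529

theorem GeomEndFinite {k : Type u} [Field k] (A : Over (Spec (CommRingCat.of k)))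
    [GrpObj A] [IsCommMonObj A] [IsProper A.hom] [GeometricallyIntegral A.hom] :
    Module.Finite ℤ (EndAV.End A) := by
  haveI : AddGroup.FG (H25AbCube.homs A A) := (AddGroup.fg_iff_addSubgroup_fg _).2 H25AbCube.homs_fg'
  haveI : Module.Finite ℤ (H25AbCube.homs A A) := Module.Finite.iff_addGroup_fg.2 ‹_›
  let Ψ : EndAV.End A →+ H25AbCube.homs A A :=
    { toFun := fun x => ⟨Additive.ofMul x.toHom, (inferInstance : IsMonHom x.toHom)⟩
      map_zero' := rfl
      map_add' := fun _ _ => rfl }
  exact Module.Finite.of_injective Ψ.toIntLinearMap fun x y h =>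
    EndAV.End.ext (congrArg (fun z : H25AbCube.homs A A => z.1.toMul) h)

open Polynomial in
/-- The minimal polynomial of the image of an integral element is defined over the integers. -/
theorem minpoly_lift {l : ℕ} [Fact l.Prime] {R : Type*} [Ring R] {V : Type*} [AddCommGroup V] [Module ℤ_[l] V]
    {d : ℕ} (b : Module.Basis (Fin d) ℤ_[l] V) (Φ : R →+* Module.End ℤ_[l] V)
    (hinj : ∀ x, Φ x = 0 → x = 0)
    (hind : ∀ {r : ℕ} (e : Fin r → R), LinearIndependent ℤ e → LinearIndependent ℤ_[l] (fun i => Φ (e i)))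
    (f : R) (m : ℤ[X]) (hm : m.Monic) (hm0 : eval₂ (algebraMap ℤ R) f m = 0) :
    ∃ P : ℤ[X], P.Monic ∧ minpoly ℤ_[l] (Φ f) = P.map (Int.castRingHom ℤ_[l]) := by
  classical
  haveI : Module.Free ℤ_[l] V := Module.Free.of_basis b
  haveI : Module.Finite ℤ_[l] V := Module.Finite.of_basis b
  let q : Module.End ℤ_[l] V →+* Matrix (Fin d) (Fin d) ℚ_[l] :=
    (PadicInt.Coe.ringHom : ℤ_[l] →+* ℚ_[l]).mapMatrix.comp (LinearMap.toMatrixAlgEquiv b).toRingEquiv.toRingHom
  have hq : Function.Injective q :=
    (Matrix.map_injective (f := ⇑(PadicInt.Coe.ringHom : ℤ_[l] →+* ℚ_[l])) Subtype.val_injective).comp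
      (LinearMap.toMatrixAlgEquiv b).injective
  let M := q (Φ f)
  have hev : ∀ p : ℤ[X], aeval M p = q (Φ (aeval f p)) := fun p => by
    rw [aeval_def, aeval_def, hom_eval₂, hom_eval₂]
    congr 1
    exact RingHom.ext_int _ _
  have hint : _root_.IsIntegral ℤ M := ⟨m, hm, by
    rw [← aeval_def, hev, aeval_def, hm0, map_zero, map_zero]⟩
  let μq := minpoly ℚ M
  obtain ⟨P, hP, hPμq⟩ := H25AbCube.exists_int_lift (minpoly.monic hint.tower_top) hm (n := 1) (by
    rw [pow_one]
    refine minpoly.dvd ℚ M ?_
    rw [show (Int.castRingHom ℚ) = algebraMap ℤ ℚ from rfl, aeval_map_algebraMap, hev, aeval_def, hm0, map_zero, map_zero])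
  have hP0 : aeval f P = 0 := by
    refine hinj _ (hq ?_)
    rw [map_zero, ← hev, ← aeval_map_algebraMap ℚ, show (algebraMap ℤ ℚ) = Int.castRingHom ℚ from rfl, hPμq]
    exact minpoly.aeval ℚ M
  have hdeg : P.natDegree = μq.natDegree := by rw [← hP.natDegree_map (Int.castRingHom ℚ), hPμq]
  have hli : LinearIndependent ℤ (fun i : Fin P.natDegree => f ^ (i : ℕ)) := by
    rw [Fintype.linearIndependent_iff]
    intro c hc i
    let p : ℤ[X] := ∑ j : Fin P.natDegree, C (c j) * X ^ (j : ℕ)
    have hp : aeval f p = 0 := by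
      simpa [p, zsmul_eq_mul] using hc
    have hpM : aeval M (p.map (Int.castRingHom ℚ)) = 0 := by
      rw [show (Int.castRingHom ℚ) = algebraMap ℤ ℚ from rfl, aeval_map_algebraMap, hev, hp, map_zero, map_zero]
    by_contra hne
    have hpne : p.map (Int.castRingHom ℚ) ≠ 0 := fun h => hne (by
      have := congrArg (fun u => Polynomial.coeff u (i : ℕ)) h
      simpa [p, coeff_X_pow, Finset.sum_ite_eq', Fin.val_inj] using this)
    have h1 : μq.natDegree = (minpoly ℚ M).natDegree := rfl
    have h2 := natDegree_le_of_dvd (minpoly.dvd ℚ M hpM) hpne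
    have h3 : (p.map (Int.castRingHom ℚ)).natDegree < P.natDegree :=
      natDegree_map_le.trans_lt (Nat.lt_of_le_pred (i.pos) (natDegree_sum_le_of_forall_le _ _ fun j _ =>
        (natDegree_C_mul_X_pow_le _ _).trans (Nat.le_pred_of_lt j.2)))
    omega
  have key := Fintype.linearIndependent_iff.1 (hind _ hli)
  refine ⟨P, hP, (minpoly.unique' ℤ_[l] (Φ f) (hP.map _) ?_ fun r hr => ?_).symm⟩
  · rw [aeval_def, eval₂_map]
    have := congrArg Φ hP0
    rw [aeval_def, hom_eval₂, map_zero] at this
    convert this using 2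
    all_goals first | rfl | exact RingHom.ext_int _ _
  · by_contra hcon
    rw [not_or, not_ne_iff] at hcon
    obtain ⟨hr0, hre⟩ := hcon
    have hlt : r.natDegree < P.natDegree := by
      rw [← hP.natDegree_map (Int.castRingHom ℤ_[l])]
      exact natDegree_lt_natDegree hr0 hr
    refine hr0 (Polynomial.ext fun i => ?_)
    rw [coeff_zero]
    by_cases hi : i < P.natDegree
    · refine key (fun j => r.coeff j) ?_ ⟨i, hi⟩
      rw [← hre, aeval_eq_sum_range' hlt, Finset.sum_range]
      simp only [map_pow]
    · exact coeff_eq_zero_of_natDegree_lt (lt_of_lt_of_le hlt (not_lt.1 hi))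


/-- Let k be a field with an algebraic closure Ω, l a prime invertible in k, A an abelian variety over k
(a proper, geometrically integral commutative group scheme over k) and α an endomorphism of A (a
homomorphism of group schemes). Let T_l(α) be the induced ℤ_l-linear endomorphism of the l-adic Tate
module of Ω-points of A, which is assumed, as is always the case, to be free of finite rank over
ℤ_l. Then the minimal polynomial of T_l(α) over ℤ_l is defined over ℤ: there is a monic polynomial P
with integer coefficients whose image in ℤ_l[X] is that minimal polynomial. (The companion clause on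
the characteristic polynomial is stated separately for finite and for algebraically closed ground
fields.) -/
theorem result (k Ω : Type u) [Field k] [Field Ω] [Algebra k Ω] [IsAlgClosure k Ω]
    (l : ℕ) [Fact l.Prime] (hl : (l : k) ≠ 0) (A : Over (Spec (CommRingCat.of k)))
    [GrpObj A] [IsCommMonObj A] [IsProper A.hom] [GeometricallyIntegral A.hom]
    (α : A ⟶ A) [IsMonHom α]
    [Module.Free ℤ_[l] (AbDual.TateMod A l (SGA7.pt Ω))] [Module.Finite ℤ_[l] (AbDual.TateMod A l (SGA7.pt Ω))] :
    ∃ P : Polynomial ℤ, P.Monic ∧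
      (minpoly ℤ_[l] (AbDual.tateMapₗ (l := l) (T := SGA7.pt Ω) α)) = P.map (Int.castRingHom ℤ_[l]) := by
  obtain ⟨g, hg⟩ : ∃ g : ℕ, topologicalKrullDim A.left = g := by
    haveI : IsIntegral A.left := GeometricallyIntegral.isIntegral_of_subsingleton A.hom
    exact H25Grp.exists_nat_dim A.hom
  haveI : IsAlgClosed Ω := IsAlgClosure.isAlgClosed k
  haveI : Algebra.IsAlgebraic k Ω := IsAlgClosure.isAlgebraic
  classical
  let f : EndAV.End A := EndAV.End.of α
  let Φ := EndAV.End.tateRep (A := A) l (SGA7.pt Ω)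
  obtain ⟨m, hm, hm0⟩ : _root_.IsIntegral ℤ f := by
    haveI := GeomEndFinite A
    exact Algebra.IsIntegral.isIntegral f
  obtain ⟨b⟩ := H25AbCube.exists_tateBasis_pt (A := A) (Ω := Ω) l hl hg
  refine minpoly_lift (V := AbDual.TateMod A l (SGA7.pt Ω)) b Φ (fun x hx =>
    EndAV.End.ext (H25AbCube.eq_one_of_tateMap_eq_zero (Ω := Ω) l hl x.toHom hx)) (fun e he => ?_) f m hm (by convert hm0 using 2; all_goals first | rfl | exact RingHom.ext_int _ _)
  let Ψ : EndAV.End A →+ Additive (A ⟶ A) :=
    { toFun := fun x => Additive.ofMul x.toHom, map_zero' := rfl, map_add' := fun _ _ => rfl }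
  exact H25AbCube.linearIndependent_tateMap_pt (Ω := Ω) l hl (fun i => (e i).toHom)
    (he.map_injOn Ψ.toIntLinearMap (fun x _ y _ h => EndAV.End.ext (congrArg Additive.toMul h)))

end Groth.Agent.S19529
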