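import Groth.Statements.S1953
import Groth.Agent.H3CAlg.PairPt
import Groth.Agent.H22Alg.CycBasic
import Mathlib
-- import your own Groth.Agent.* helpers here

set_option autoImplicit false
universe u
open CategoryTheory CategoryTheory.Limits AlgebraicGeometry
attribute [local instance] HasDerivedCategory.standard
open IntMult

namespace Groth.Agent.S1953

/-- Let X be a proper nonsingular variety over K, α an r-cycle and β an s-cycle intersecting properly, Δ
⊆ X ×_K X the diagonal (as the prime cycle of its generic point) and α × β the exterior product,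
with dimension function δ₂ on X ×_K X. Then [Δ] and α × β intersect properly and pr_{1,*}([Δ] · (α ×
β)) = α · β coefficientwise, for any cycle on X ×_K X with the coefficients of [Δ] · (α × β). Here X
is a nonsingular variety over the algebraically closed field K (smooth, separated, quasi-compact,
integral) with dimension function δ (transcendence degree) and n = dim X; cycles are Mathlib
AlgebraicCycles with Cyc.Zk membership, proper intersection is IntMult.IntersectProperly and α · β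
is the Tor-formula intersection product on coefficient functions (IntMult.interProd), bundled where
needed as 'any cycle with these coefficients'. -/
theorem result (K : Type u) [Field K] [IsAlgClosed K] (X : Scheme.{u}) (f : X ⟶ Spec (CommRingCat.of K)) [Smooth f] [IsProper f] [IsIntegral X] (δ : X → ℤ) (hX : Cyc.IsSetup X δ) (hδ : Cyc.DeltaCompat f δ (fun _ => 0)) (n : ℤ) (hn : δ (genericPoint X) = n) (δ₂ : ↥(pullback f f) → ℤ) (h₂ : Cyc.DeltaCompat (pullback.fst f f ≫ f) δ₂ (fun _ => 0)) (h₂' : Cyc.DeltaCompat (pullback.fst f f) δ₂ δ) (r s : ℤ) (α β : AlgebraicCycle X ℤ) (hα : α ∈ Cyc.Zk X δ r) (hβ : β ∈ Cyc.Zk X δ s) (hprop : IntMult.IntersectProperly δ n ⇑α ⇑β) (γ : AlgebraicCycle (pullback f f) ℤ) (hγ : ⇑γ = IntMult.interProd δ₂ (n + n) (Set.indicator {pullback.diagonal f (genericPoint X)} 1) (IntMult.extProd f f δ δ δ₂ ⇑α ⇑β)) : IntMult.IntersectProperly δ₂ (n + n) (Set.indicator {pullback.diagonal f (genericPoint X)} 1) (IntMult.extProd f f δ δ δ₂ ⇑α ⇑β) ∧ ⇑(AlgebraicCycle.map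 (pullback.fst f f) δ₂ δ γ) = IntMult.interProd δ n ⇑α ⇑β := by
  classical
  let P := pullback f f
  let p := pullback.fst f f
  let q := pullback.snd f f
  let Δ := pullback.diagonal f
  haveI : IsClosedImmersion Δ := IsSeparated.isClosedImmersion_diagonal
  have dX := Groth.Agent.H3CAlg.IntPt.delta_eq_cdim f δ hδ
  have dP := Groth.Agent.H3CAlg.IntPt.delta_eq_cdim (p ≫ f) δ₂ h₂
  obtain ⟨N, hNc, hNd⟩ := dX (genericPoint X)
  rw [Groth.Agent.H3CAlg.IntPoints.cdim_genericPoint] at hNc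
  rw [hn] at hNd
  have hΔd : ∀ x, δ₂ (Δ x) = δ x := by
    intro x
    obtain ⟨a, ha, ha'⟩ := dX x
    obtain ⟨b, hb, hb'⟩ := dP (Δ x)
    have : Groth.Agent.H8Props.FieldDim.cdim (Δ x) = Groth.Agent.H8Props.FieldDim.cdim x := by
      rw [Groth.Agent.H8Props.FieldDim.cdim, Groth.Agent.H8Props.FieldDim.cdim, ← Set.image_singleton,
        Δ.isClosedEmbedding.closure_image_eq]
      exact (IsHomeomorph.topologicalKrullDim_eq _ (Δ.isEmbedding.homeomorphImage _).isHomeomorph).symm
    rw [ha, hb] at this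
    have : b = a := by exact_mod_cast this
    omega
  have hpd : ∀ a b : X, δ₂ (Groth.Agent.H3CAlg.PairPt.pr f f a b) = δ a + δ b := by
    intro a b
    obtain ⟨i, hi, hi'⟩ := dP (Groth.Agent.H3CAlg.PairPt.pr f f a b)
    obtain ⟨j, hj, hj'⟩ := dX a
    obtain ⟨l, hl, hl'⟩ := dX b
    rw [Groth.Agent.H3CAlg.PairPt.cdim_pr, hj, hl] at hi
    have : j + l = i := by exact_mod_cast hi
    omega
  have hsupp : ∀ w, IntMult.extProd f f δ δ δ₂ ⇑α ⇑β w ≠ 0 →
      w = Groth.Agent.H3CAlg.PairPt.pr f f (p w) (q w) ∧ α (p w) ≠ 0 ∧ β (q w) ≠ 0 := by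
    intro w hw
    rw [IntMult.extProd] at hw
    split_ifs at hw with hd
    · change δ₂ w = δ (p w) + δ (q w) at hd
      obtain ⟨i, hi, hi'⟩ := dP w
      obtain ⟨j, hj, hj'⟩ := dX (p w)
      obtain ⟨l, hl, hl'⟩ := dX (q w)
      simp only [ne_eq, mul_eq_zero, not_or] at hw
      refine ⟨Groth.Agent.H3CAlg.PairPt.eq_pr f f w ?_, hw.1.1, hw.1.2⟩
      rw [hi, hj, hl]
      exact_mod_cast (show i = j + l by omega)
    · exact absurd rfl hw
  have hΔp : ∀ x, p (Δ x) = x := fun x => by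
    rw [← Scheme.Hom.comp_apply, pullback.diagonal_fst]; rfl
  have hΔq : ∀ x, q (Δ x) = x := fun x => by
    rw [← Scheme.Hom.comp_apply, pullback.diagonal_snd]; rfl
  have hind : ∀ z, Set.indicator {Δ (genericPoint X)} (1 : P → ℤ) z ≠ 0 → z = Δ (genericPoint X) := by
    intro z hz
    by_contra hne
    exact hz (Set.indicator_of_notMem (show z ∉ ({Δ (genericPoint X)} : Set P) from hne) _)
  have hind1 : Set.indicator {Δ (genericPoint X)} (1 : P → ℤ) (Δ (genericPoint X)) = 1 := by
    rw [Set.indicator_of_mem (show Δ (genericPoint X) ∈ ({Δ (genericPoint X)} : Set P) from rfl)]; rfl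
  have hrange : ∀ z, Δ (genericPoint X) ⤳ z → ∃ x, Δ x = z := fun z hz =>
    hz.mem_closed Δ.isClosedEmbedding.isClosed_range ⟨_, rfl⟩
  have hoff : ∀ z, (¬ ∃ x, Δ x = z) → IntMult.interProd δ₂ (n + n) (Set.indicator {Δ (genericPoint X)} 1)
      (IntMult.extProd f f δ δ δ₂ ⇑α ⇑β) z = 0 := by
    intro z hz
    refine finsum_eq_zero_of_forall_eq_zero ?_
    rintro ⟨⟨u, w⟩, hu, hw, hd⟩
    by_contra h0
    simp only [mul_eq_zero, not_or] at h0
    have := hind u h0.1.1
    subst this
    exact hz (hrange z hu)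
  have hon : ∀ x, IntMult.interProd δ₂ (n + n) (Set.indicator {Δ (genericPoint X)} 1)
      (IntMult.extProd f f δ δ δ₂ ⇑α ⇑β) (Δ x) = IntMult.interProd δ n ⇑α ⇑β x := by
    intro x
    rw [IntMult.interProd, IntMult.interProd]
    let L := {pr : P × P // pr.1 ⤳ Δ x ∧ pr.2 ⤳ Δ x ∧ δ₂ pr.1 + δ₂ pr.2 - (n + n) = δ₂ (Δ x)}
    let R := {pr : X × X // pr.1 ⤳ x ∧ pr.2 ⤳ x ∧ δ pr.1 + δ pr.2 - n = δ x}
    let φ : R → L := fun ab => ⟨(Δ (genericPoint X), Groth.Agent.H3CAlg.PairPt.pr f f ab.1.1 ab.1.2),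
      (genericPoint_specializes x).map Δ.continuous,
      Groth.Agent.H3CAlg.PairPt.pr_specializes f f _ _ (by rw [hΔp]; exact ab.2.1) (by rw [hΔq]; exact ab.2.2.1),
      by
        have := ab.2.2.2
        show δ₂ (Δ (genericPoint X)) + δ₂ (Groth.Agent.H3CAlg.PairPt.pr f f ab.1.1 ab.1.2) - (n + n) = δ₂ (Δ x)
        rw [hΔd, hΔd, hpd, hn]
        omega⟩
    have hφ : Function.Injective φ := by
      intro s t h
      have h2 := congrArg (fun l : L => (p l.1.2, q l.1.2)) h
      simp only [φ] at h2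
      rw [Prod.mk.injEq, (Groth.Agent.H3CAlg.PairPt.fst_pr f f s.1.1 s.1.2).1,
        (Groth.Agent.H3CAlg.PairPt.fst_pr f f t.1.1 t.1.2).1,
        (Groth.Agent.H3CAlg.PairPt.fst_pr f f s.1.1 s.1.2).2,
        (Groth.Agent.H3CAlg.PairPt.fst_pr f f t.1.1 t.1.2).2] at h2
      exact Subtype.ext (Prod.ext h2.1 h2.2)
    let FL : L → ℤ := fun l => Set.indicator {Δ (genericPoint X)} (1 : P → ℤ) l.1.1 *
      IntMult.extProd f f δ δ δ₂ ⇑α ⇑β l.1.2 * IntMult.mult (IntMult.ptIdeal l.1.1) (IntMult.ptIdeal l.1.2) (Δ x)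
    show ∑ᶠ l : L, FL l = ∑ᶠ r : R, α r.1.1 * β r.1.2 * IntMult.mult (IntMult.ptIdeal r.1.1) (IntMult.ptIdeal r.1.2) x
    have hsub : Function.support FL ⊆ Set.range φ := by
      rintro ⟨⟨u, w⟩, hu, hw, hd⟩ h0
      change w ⤳ Δ x at hw
      simp only [FL, Function.mem_support, ne_eq, mul_eq_zero, not_or] at h0
      have hu' : u = Δ (genericPoint X) := hind u h0.1.1
      obtain ⟨hw', -, -⟩ := hsupp w h0.1.2
      subst hu'
      have h1 := hw.map p.continuous
      have h2 := hw.map q.continuous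
      rw [hΔp] at h1
      rw [hΔq] at h2
      have hdw : δ₂ w = δ (p w) + δ (q w) := by
        have h := hpd (p w) (q w); rwa [← hw'] at h
      change δ₂ (Δ (genericPoint X)) + δ₂ w - (n + n) = δ₂ (Δ x) at hd
      rw [hΔd, hΔd, hn, hdw] at hd
      refine ⟨⟨(p w, q w), h1, h2, by show δ (p w) + δ (q w) - n = δ x; omega⟩, ?_⟩
      exact Subtype.ext (Prod.ext rfl hw'.symm)
    rw [← finsum_mem_univ FL, ← finsum_mem_inter_support, Set.univ_inter,
      show Function.support FL = Set.range φ ∩ Function.support FL from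
        (Set.inter_eq_right.mpr hsub).symm, finsum_mem_inter_support, finsum_mem_range hφ]
    refine finsum_congr fun ab => ?_
    show _ * _ * IntMult.mult (IntMult.ptIdeal (Δ (genericPoint X))) _ (Δ x) = _
    rw [Groth.Agent.H3CAlg.PairPt.mult_diag f N hNc _ _ x ab.2.1 ab.2.2.1]
    show Set.indicator {Δ (genericPoint X)} (1 : P → ℤ) (Δ (genericPoint X)) * _ * _ = _
    rw [hind1, one_mul, Groth.Agent.H3CAlg.PairPt.extProd_pr f f δ δ δ₂ ⇑α ⇑β _ _ (hpd _ _)]
  refine ⟨?_, ?_⟩
  · intro u w ζ hu hw huζ hwζ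
    have := hind u hu
    subst this
    obtain ⟨x, rfl⟩ := hrange ζ huζ
    obtain ⟨hw', ha, hb⟩ := hsupp w hw
    have h1 := hwζ.map p.continuous
    have h2 := hwζ.map q.continuous
    rw [hΔp] at h1
    rw [hΔq] at h2
    have h3 := hprop (p w) (q w) x ha hb h1 h2
    have h4 := hpd (p w) (q w)
    rw [← hw'] at h4
    rw [hΔd, hΔd, hn, h4]
    omega
  · funext y
    rw [← hon y]
    change (AlgebraicCycle.map p δ₂ δ γ) y = _
    simp only [AlgebraicCycle.map, Function.locallyFinsupp.map_apply]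
    rw [finsum_eq_single _ (Δ y) ?_]
    · rw [finsum_eq_if, if_pos (show Δ y ∈ p ⁻¹' {y} from hΔp y)]
      have hdeg : AlgebraicCycle.mapCoeff p δ₂ δ (Δ y) = 1 := by
        rw [AlgebraicCycle.mapCoeff, if_pos (show δ₂ (Δ y) = δ (p (Δ y)) by rw [hΔp, hΔd])]
        have h := Groth.Agent.H22Alg.CycBasic.residueDegree_comp Δ p y
        have key : ∀ (e : X ⟶ X), e = 𝟙 X → e.residueDegree y = 1 := by
          rintro e rfl; exact Scheme.Hom.residueDegree_id y
        rw [key (Δ ≫ p) (pullback.diagonal_fst f)] at h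
        exact (Nat.eq_one_of_mul_eq_one_right h.symm)
      rw [hdeg, Nat.cast_one, mul_one]
      exact congrFun hγ (Δ y)
    · intro z hz
      rw [finsum_eq_if]
      split_ifs with hzy
      · rw [show γ z = 0 from (congrFun hγ z).trans (hoff z ?_), zero_mul]
        rintro ⟨x, rfl⟩
        have : p (Δ x) = y := hzy
        rw [hΔp] at this
        exact hz (by rw [this])
      · rfl


end Groth.Agent.S1953
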