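import Groth.Statements.S19532
import Groth.Agent.H23TFCurv.Monomial

set_option autoImplicit false
universe u
open CategoryTheory
open TFCurv

namespace Groth.Agent.S19532

/-- Let k be an algebraically closed field of characteristic zero, δ ≥ 1, and O ⊂ k[[t]] × k[[t]] the
complete local ring of the simple plane curve singularity A_{2δ−1} (two smooth branches with contact
of order δ, y² = x^{2δ}), namely the k-subalgebra of all pairs (f, g) of power series with f − g
divisible by t^δ. For 0 ≤ j ≤ δ let I_j ⊂ k[[t]] × k[[t]] be the O-submodule generated by (t^j, t^j)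
and (t^δ, 0), so that I_0 = O and I_δ is the conductor; the I_j represent the rank-one torsion-free
O-modules M_j. Then for all 0 ≤ i, j ≤ δ the O-module Ext¹_O(I_i, I_j) has length 2·min(i, j)
(length over O equals k-dimension here). (The one-branch case n = 2δ of the published lemma is
stated separately.) -/
theorem result (k : Type u) [Field k] [IsAlgClosed k] [CharZero k] (δ : ℕ) (hδ : 1 ≤ δ) (O : Subalgebra k (PowerSeries k × PowerSeries k)) (hO : ∀ f : (PowerSeries k × PowerSeries k), f ∈ O ↔ (δ : ℕ∞) ≤ PowerSeries.order (f.1 - f.2)) (i j : ℕ) (hi : i ≤ δ) (hj : j ≤ δ) : Module.length ↥O (Abelian.Ext (ModuleCat.of ↥O ↥(Submodule.span ↥O ({((PowerSeries.X : PowerSeries k) ^ i, (PowerSeries.X : PowerSeries k) ^ i), ((PowerSeries.X : PowerSeries k) ^ δ, 0)} : Set (PowerSeries k × PowerSeries k)))) (ModuleCat.of ↥O ↥(Submodule.span ↥O ({((PowerSeries.X : PowerSeries k) ^ j, (PowerSeries.X : PowerSeries k) ^ j), ((PowerSeries.X : PowerSeries k) ^ δ, 0)} : Set (PowerSeries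 k × PowerSeries k)))) 1) = ((2 * min i j : ℕ) : ℕ∞) := by
  classical
  let X : PowerSeries k := PowerSeries.X
  have hX : ∀ n : ℕ, X ^ n ≠ 0 := fun n => pow_ne_zero _ PowerSeries.X_ne_zero
  have hord : ∀ (n : ℕ) (f : PowerSeries k), (n : ℕ∞) ≤ PowerSeries.order f ↔ X ^ n ∣ f := fun n f => by
    rw [PowerSeries.X_pow_dvd_iff]
    exact ⟨fun h m hm => PowerSeries.coeff_of_lt_order m (lt_of_lt_of_le (by exact_mod_cast hm) h),
      fun h => PowerSeries.nat_le_order _ _ h⟩
  have hO' : ∀ f : PowerSeries k × PowerSeries k, f ∈ O ↔ X ^ δ ∣ f.1 - f.2 := fun f => (hO f).trans (hord δ _)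
  let y : ↥O := ⟨(X ^ δ, 0), (hO' _).mpr (by simp)⟩
  let T : PowerSeries k → ↥O := fun f => ⟨(f, f), (hO' _).mpr (by simp)⟩
  let z : ↥O := ⟨(0, X ^ δ), (hO' _).mpr (by simp)⟩
  -- the ring is local with residue field `k`
  have hu : ∀ a : ↥O, IsUnit a ↔ PowerSeries.constantCoeff a.1.1 ≠ 0 := by
    intro a
    constructor
    · intro h
      exact (h.map ((PowerSeries.constantCoeff : PowerSeries k →+* k).comp
        ((RingHom.fst (PowerSeries k) (PowerSeries k)).comp O.val.toRingHom))).ne_zero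
    · intro h
      have h2 : PowerSeries.constantCoeff a.1.2 ≠ 0 := by
        obtain ⟨d, hd⟩ := (hO' _).mp a.2
        have := congrArg PowerSeries.constantCoeff hd
        rw [map_sub, map_mul, map_pow, PowerSeries.constantCoeff_X, zero_pow (by omega), zero_mul, sub_eq_zero] at this
        rwa [← this]
      refine isUnit_iff_exists_inv.mpr ⟨⟨(a.1.1⁻¹, a.1.2⁻¹), (hO' _).mpr ?_⟩, Subtype.ext (Prod.ext
        (PowerSeries.mul_inv_cancel _ h) (PowerSeries.mul_inv_cancel _ h2))⟩
      have : a.1.1⁻¹ - a.1.2⁻¹ = (a.1.1 - a.1.2) * (-(a.1.1⁻¹ * a.1.2⁻¹)) := by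
        linear_combination a.1.2⁻¹ * PowerSeries.mul_inv_cancel a.1.1 h - a.1.1⁻¹ * PowerSeries.mul_inv_cancel a.1.2 h2
      rw [this]
      exact ((hO' _).mp a.2).mul_right _
  haveI : IsLocalRing ↥O := by
    refine IsLocalRing.of_nonunits_add fun a b ha hb => ?_
    simp only [mem_nonunits_iff, hu, not_not] at ha hb ⊢
    push_cast
    rw [Prod.fst_add, map_add, ha, hb, add_zero]
  have hres : ∀ a : ↥O, ∃ c : k, a - algebraMap k ↥O c ∈ IsLocalRing.maximalIdeal ↥O := fun a =>
    ⟨PowerSeries.constantCoeff a.1.1, by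
      rw [IsLocalRing.mem_maximalIdeal, mem_nonunits_iff, hu, not_not]
      push_cast
      simp [Prod.algebraMap_apply, PowerSeries.algebraMap_apply]⟩
  -- the modules
  have hI : ∀ (l : ℕ), l ≤ δ → ∀ f : PowerSeries k × PowerSeries k,
      f ∈ Submodule.span ↥O ({(X ^ l, X ^ l), (X ^ δ, 0)} : Set (PowerSeries k × PowerSeries k)) ↔
        X ^ l ∣ f.2 ∧ X ^ δ ∣ f.1 - f.2 := by
    intro l hl f
    rw [Submodule.mem_span_pair]
    constructor
    · rintro ⟨a, b, rfl⟩
      refine ⟨⟨a.1.2, ?_⟩, ?_⟩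
      · simp [Subalgebra.smul_def, mul_comm]
      · obtain ⟨d, hd⟩ := (hO' _).mp a.2
        exact ⟨d * X ^ l + b.1.1, by simp [Subalgebra.smul_def]; linear_combination X ^ l * hd⟩
    · rintro ⟨⟨g, hg⟩, ⟨d, hd⟩⟩
      refine ⟨T g, T d, Prod.ext ?_ ?_⟩
      · simp [T, Subalgebra.smul_def]
        linear_combination -hd - hg
      · simp [T, Subalgebra.smul_def]
        linear_combination -hg
  set Ii := Submodule.span ↥O ({(X ^ i, X ^ i), (X ^ δ, 0)} : Set (PowerSeries k × PowerSeries k)) with hIidef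
  set Ij := Submodule.span ↥O ({(X ^ j, X ^ j), (X ^ δ, 0)} : Set (PowerSeries k × PowerSeries k)) with hIjdef
  let π : (↥O × ↥O) →ₗ[↥O] ↥Ii := LinearMap.coprod
    (LinearMap.toSpanSingleton ↥O ↥Ii ⟨(X ^ i, X ^ i), Submodule.subset_span (by simp)⟩)
    (LinearMap.toSpanSingleton ↥O ↥Ii ⟨(X ^ δ, 0), Submodule.subset_span (by simp)⟩)
  have hπval : ∀ v : ↥O × ↥O, (π v : PowerSeries k × PowerSeries k) =
      (v.1.1.1 * X ^ i + v.2.1.1 * X ^ δ, v.1.1.2 * X ^ i) := fun v => by
    simp [π, Subalgebra.smul_def, Prod.mul_def]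
  have hπ : Function.Surjective π := fun x => by
    obtain ⟨a, b, hab⟩ := Submodule.mem_span_pair.mp x.2
    exact ⟨(a, b), Subtype.ext (by simpa [π] using hab)⟩
  obtain ⟨e⟩ := H23TFCurv.nonempty_extOneEquiv (A := ↥O) (F := ↥O × ↥O) (M := ↥Ii) π hπ ↥Ij
  letI : AddCommGroup (LinearMap.ker π →ₗ[↥O] ↥Ij) :=
    @LinearMap.addCommGroup ↥O ↥O (LinearMap.ker π) ↥Ij _ _ _ Ij.addCommGroup _ _ (RingHom.id ↥O)
  rw [← e.length_eq, H23TFCurv.length_eq_of_residue k hres]
  -- the relations
  have hker : ∀ v : LinearMap.ker π, v.1.1.1.1 * X ^ i + v.1.2.1.1 * X ^ δ = 0 ∧ v.1.1.1.2 = 0 := fun v => by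
    have := (hπval v.1).symm.trans (congrArg Subtype.val v.2)
    simp only [ZeroMemClass.coe_zero, Prod.ext_iff, Prod.fst_zero, Prod.snd_zero] at this
    exact ⟨this.1, (mul_eq_zero.mp this.2).resolve_right (hX i)⟩
  let g1 : LinearMap.ker π := ⟨(-y, T (X ^ i)), LinearMap.mem_ker.mpr (Subtype.ext (by
    rw [hπval]
    refine Prod.ext ?_ ?_ <;> simp [y, T]
    ring))⟩
  let g2 : LinearMap.ker π := ⟨(0, z), LinearMap.mem_ker.mpr (Subtype.ext (by rw [hπval]; simp [z]))⟩
  have hb1 : ∀ v : LinearMap.ker π, X ^ i ∣ v.1.2.1.1 := fun v => by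
    obtain ⟨h1, h2⟩ := hker v
    obtain ⟨d, hd⟩ := (hO' _).mp v.1.1.2
    rw [h2, sub_zero] at hd
    refine ⟨-d, mul_left_cancel₀ (hX δ) ?_⟩
    linear_combination h1 - X ^ i * hd
  -- the values at the first relation
  have hval : ∀ φ : LinearMap.ker π →ₗ[↥O] ↥Ij, X ^ i ∣ (φ g1).1.2 := by
    intro φ
    have r1 : y • g2 = 0 := Subtype.ext (Prod.ext (by simp [g2]) (Subtype.ext (Prod.ext (by simp [g2, y, z]) (by simp [g2, y, z]))))
    have r2 : y • g1 + T (X ^ i) • g2 = T (X ^ δ) • g1 := Subtype.ext (Prod.ext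
      (Subtype.ext (Prod.ext (by simp [g1, g2, y, T]) (by simp [g1, g2, y, T])))
      (Subtype.ext (Prod.ext (by simp [g1, g2, y, T, z]) (by simp [g1, g2, y, T, z]; ring))))
    have e1 := congrArg (fun w => (φ w).1.1) r1
    have e2 := congrArg (fun w => (φ w).1.2) r2
    simp [y, T, Subalgebra.smul_def] at e1 e2
    have h1 : (φ g2).1.1 = 0 := e1.resolve_left fun h => PowerSeries.X_ne_zero h.1
    obtain ⟨d, hd⟩ := ((hI j hj _).mp (φ g2).2).2
    rw [h1, zero_sub] at hd
    refine ⟨-d, mul_left_cancel₀ (hX δ) ?_⟩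
    linear_combination -e2 - X ^ i * hd
  have hinj : ∀ φ : LinearMap.ker π →ₗ[↥O] ↥Ij, ∀ v : LinearMap.ker π, ∀ c s : PowerSeries k,
      v.1.2.1.1 = X ^ i * c → (φ g1).1.2 = X ^ i * s → (φ v).1 = (c * (φ g1).1.1, v.1.2.1.2 * s) := by
    intro φ v c s hc hs
    have r3 : T (X ^ i) • v = v.1.2 • g1 := by
      obtain ⟨h1, h2⟩ := hker v
      refine Subtype.ext (Prod.ext (Subtype.ext (Prod.ext ?_ ?_)) (Subtype.ext (Prod.ext ?_ ?_)))
      · simp [g1, T, y]
        linear_combination h1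
      · simp [g1, T, y, h2]
      · simp [g1, T, mul_comm]
      · simp [g1, T, mul_comm]
    have e1 := congrArg (fun w => (φ w).1.1) r3
    have e2 := congrArg (fun w => (φ w).1.2) r3
    simp [T, Subalgebra.smul_def] at e1 e2
    refine Prod.ext (mul_left_cancel₀ (hX i) ?_) (mul_left_cancel₀ (hX i) ?_)
    · linear_combination e1 + (φ g1).1.1 * hc
    · linear_combination e2 + v.1.2.1.2 * hs
  set m := min i j with hm
  set M := max i j with hM
  let Θ : (LinearMap.ker π →ₗ[↥O] ↥Ij) →ₗ[k] (Fin m → k) × (Fin m → k) :=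
    { toFun := fun φ => (fun l => PowerSeries.coeff (M + l.1) (φ g1).1.2,
        fun l => PowerSeries.coeff (δ + l.1) ((φ g1).1.1 - (φ g1).1.2))
      map_add' := fun φ ψ => by
        rw [LinearMap.add_apply, Submodule.coe_add]
        refine Prod.ext ?_ ?_ <;> funext l <;> simp <;> ring
      map_smul' := fun r φ => by
        rw [LinearMap.smul_apply, Submodule.coe_smul_of_tower]
        refine Prod.ext ?_ ?_ <;> funext l <;> simp <;> ring }
  have hsurj : Function.Surjective Θ := by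
    rintro ⟨a, b⟩
    let α : PowerSeries k := PowerSeries.mk fun l => if h : l < m then a ⟨l, h⟩ else 0
    let β : PowerSeries k := PowerSeries.mk fun l => if h : l < m then b ⟨l, h⟩ else 0
    have key : ∀ v : LinearMap.ker π, X ^ i * H23TFCurv.shiftDown i v.1.2.1.1 = v.1.2.1.1 := fun v =>
      H23TFCurv.X_pow_mul_shiftDown fun n hn => PowerSeries.X_pow_dvd_iff.mp (hb1 v) n hn
    let p : PowerSeries k := X ^ δ * β + X ^ M * α
    let s : PowerSeries k := X ^ (M - i) * α
    have hs : X ^ i * s = X ^ M * α := by rw [← mul_assoc, ← pow_add, Nat.add_sub_cancel' (le_max_left i j)]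
    let f : LinearMap.ker π → PowerSeries k × PowerSeries k := fun v =>
      (H23TFCurv.shiftDown i v.1.2.1.1 * p, v.1.2.1.2 * s)
    have hf : ∀ v, f v ∈ Ij := fun v => (hI j hj _).mpr (by
      obtain ⟨d, hd⟩ := (hO' _).mp v.1.2.2
      have hXj : X ^ j ∣ X ^ M := pow_dvd_pow _ (le_max_right i j)
      have hXd : X ^ j ∣ X ^ δ := pow_dvd_pow _ hj
      refine ⟨?_, ⟨H23TFCurv.shiftDown i v.1.2.1.1 * β + d * s, ?_⟩⟩
      · have : (f v).2 = H23TFCurv.shiftDown i v.1.2.1.1 * (X ^ M * α) - X ^ δ * d * s := by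
          show v.1.2.1.2 * s = _
          linear_combination -s * hd - s * key v + H23TFCurv.shiftDown i v.1.2.1.1 * hs
        rw [this]
        exact dvd_sub ((hXj.mul_right _).mul_left _) ((hXd.mul_right _).mul_right _)
      · show H23TFCurv.shiftDown i v.1.2.1.1 * p - v.1.2.1.2 * s = _
        simp only [p]
        linear_combination s * hd + s * key v - H23TFCurv.shiftDown i v.1.2.1.1 * hs)
    let φ : LinearMap.ker π →ₗ[↥O] ↥Ij :=
      { toFun := fun v => ⟨f v, hf v⟩
        map_add' := fun v v' => Subtype.ext (Prod.ext (mul_left_cancel₀ (hX i) (by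
            have e : X ^ i * H23TFCurv.shiftDown i (v + v').1.2.1.1 = v.1.2.1.1 + v'.1.2.1.1 := key (v + v')
            show X ^ i * (H23TFCurv.shiftDown i (v + v').1.2.1.1 * p) =
              X ^ i * (H23TFCurv.shiftDown i v.1.2.1.1 * p + H23TFCurv.shiftDown i v'.1.2.1.1 * p)
            linear_combination p * e - p * key v - p * key v')) (by simp [f, add_mul]))
        map_smul' := fun r v => Subtype.ext (Prod.ext (mul_left_cancel₀ (hX i) (by
            have e : X ^ i * H23TFCurv.shiftDown i (r • v).1.2.1.1 = r.1.1 * v.1.2.1.1 := key (r • v)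
            show X ^ i * (H23TFCurv.shiftDown i (r • v).1.2.1.1 * p) = X ^ i * (r.1.1 * (H23TFCurv.shiftDown i v.1.2.1.1 * p))
            linear_combination p * e - p * r.1.1 * key v)) (by simp [f, Subalgebra.smul_def, mul_assoc])) }
    refine ⟨φ, ?_⟩
    have h1 : (φ g1).1 = (p, X ^ M * α) := by
      refine Prod.ext (mul_left_cancel₀ (hX i) ?_) ?_
      · show X ^ i * (H23TFCurv.shiftDown i g1.1.2.1.1 * p) = _
        rw [← mul_assoc, key g1]
      · exact hs
    refine Prod.ext (funext fun l => ?_) (funext fun l => ?_)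
    · show PowerSeries.coeff (M + l.1) (φ g1).1.2 = a l
      rw [h1, add_comm M, PowerSeries.coeff_X_pow_mul]
      simp [α]
    · show PowerSeries.coeff (δ + l.1) ((φ g1).1.1 - (φ g1).1.2) = b l
      rw [h1]
      simp only [p, add_sub_cancel_right]
      rw [add_comm δ, PowerSeries.coeff_X_pow_mul]
      simp [β]
  have hkerΘ : LinearMap.ker Θ = (LinearMap.range (LinearMap.lcomp ↥O ↥Ij (LinearMap.ker π).subtype)).restrictScalars k := by
    ext φ
    rw [LinearMap.mem_ker, Submodule.restrictScalars_mem, LinearMap.mem_range]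
    constructor
    · intro h
      obtain ⟨hq, hpq⟩ := (hI j hj _).mp (φ g1).2
      have hMq : X ^ M ∣ (φ g1).1.2 := by
        rcases le_total i j with h' | h'
        · rw [hM, max_eq_right h']; exact hq
        · rw [hM, max_eq_left h']; exact hval φ
      obtain ⟨α, hα⟩ := hMq
      obtain ⟨β, hβ⟩ := hpq
      have ha : X ^ m ∣ α := PowerSeries.X_pow_dvd_iff.mpr fun l hl => by
        have h2 : PowerSeries.coeff (M + l) (φ g1).1.2 = 0 := congrFun (Prod.ext_iff.mp h).1 ⟨l, hl⟩
        rwa [hα, add_comm, PowerSeries.coeff_X_pow_mul] at h2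
      have hb : X ^ m ∣ β := PowerSeries.X_pow_dvd_iff.mpr fun l hl => by
        have h2 : PowerSeries.coeff (δ + l) ((φ g1).1.1 - (φ g1).1.2) = 0 := congrFun (Prod.ext_iff.mp h).2 ⟨l, hl⟩
        rwa [hβ, add_comm, PowerSeries.coeff_X_pow_mul] at h2
      obtain ⟨α', rfl⟩ := ha
      obtain ⟨β', rfl⟩ := hb
      have hq' : (φ g1).1.2 = X ^ i * (X ^ j * α') := by
        rw [hα, ← mul_assoc, ← mul_assoc, ← pow_add, ← pow_add, show M + m = i + j by omega]
      -- the map on the free module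
      let u1 : PowerSeries k := if i ≤ j then 0 else -β'
      let u2 : PowerSeries k := if i ≤ j then β' else 0
      have hn1 : ((X ^ j * u1, X ^ j * u1) : PowerSeries k × PowerSeries k) ∈ Ij := (hI j hj _).mpr ⟨dvd_mul_right _ _, by simp⟩
      have hn2 : ((X ^ j * α' + X ^ δ * u2, X ^ j * α') : PowerSeries k × PowerSeries k) ∈ Ij :=
        (hI j hj _).mpr ⟨dvd_mul_right _ _, by simp⟩
      refine ⟨LinearMap.coprod (LinearMap.toSpanSingleton ↥O ↥Ij ⟨_, hn1⟩) (LinearMap.toSpanSingleton ↥O ↥Ij ⟨_, hn2⟩), ?_⟩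
      refine LinearMap.ext fun v => Subtype.ext ?_
      obtain ⟨c, hc⟩ := hb1 v
      obtain ⟨h1, h2⟩ := hker v
      rw [hinj φ v c (X ^ j * α') hc hq']
      have ha1 : v.1.1.1.1 = -(X ^ δ * c) := mul_right_cancel₀ (hX i) (by linear_combination h1 - X ^ δ * hc)
      refine Prod.ext ?_ ?_
      · simp [Subalgebra.smul_def, ha1, hc]
        simp only [u1, u2]
        split_ifs with hij
        · have hmi : m = i := min_eq_left hij
          rw [hmi] at hβ
          linear_combination (norm := (simp only [X]; ring)) -c * hβ - c * hq'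
        · have hmj : m = j := min_eq_right (by omega)
          rw [hmj] at hβ
          linear_combination (norm := (simp only [X]; ring)) -c * hβ - c * hq'
      · simp [Subalgebra.smul_def, h2, X]
    · rintro ⟨n, rfl⟩
      obtain ⟨⟨w1, hw1⟩, ⟨d1, hd1⟩⟩ := (hI j hj _).mp (n (1, 0)).2
      obtain ⟨⟨w2, hw2⟩, ⟨d2, hd2⟩⟩ := (hI j hj _).mp (n (0, 1)).2
      have hv : ((LinearMap.lcomp ↥O ↥Ij (LinearMap.ker π).subtype n) g1).1 =
          (-(X ^ δ * (n (1, 0)).1.1) + X ^ i * (n (0, 1)).1.1, X ^ i * (n (0, 1)).1.2) := by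
        show (n g1.1).1 = _
        rw [show g1.1 = (-y) • ((1, 0) : ↥O × ↥O) + T (X ^ i) • ((0, 1) : ↥O × ↥O) by simp [g1], map_add, map_smul, map_smul]
        simp [y, T, Subalgebra.smul_def, Prod.mul_def]
      refine Prod.ext (funext fun l => ?_) (funext fun l => ?_)
      · show PowerSeries.coeff (M + l.1) _ = 0
        rw [hv]
        exact PowerSeries.X_pow_dvd_iff.mp (show X ^ (i + j) ∣ X ^ i * (n (0, 1)).1.2 from
          ⟨w2, by rw [hw2, pow_add, mul_assoc]⟩) _ (by have := l.2; omega)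
      · show PowerSeries.coeff (δ + l.1) _ = 0
        rw [hv]
        refine PowerSeries.X_pow_dvd_iff.mp (show X ^ (δ + m) ∣
          -(X ^ δ * (n (1, 0)).1.1) + X ^ i * (n (0, 1)).1.1 - X ^ i * (n (0, 1)).1.2 from ?_) _ (by have := l.2; omega)
        have : -(X ^ δ * (n (1, 0)).1.1) + X ^ i * (n (0, 1)).1.1 - X ^ i * (n (0, 1)).1.2 =
            X ^ δ * (-(X ^ δ * d1 + X ^ j * w1) + X ^ i * d2) := by
          linear_combination X ^ i * hd2 - X ^ δ * hd1 - X ^ δ * hw1
        rw [this, pow_add]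
        refine mul_dvd_mul_left _ (dvd_add (dvd_neg.mpr (dvd_add ?_ ?_)) ?_) <;>
          exact (pow_dvd_pow _ (by omega)).mul_right _
  rw [((Submodule.Quotient.restrictScalarsEquiv k _).symm.trans ((Submodule.quotEquivOfEq _ _ hkerΘ.symm).trans
    (Θ.quotKerEquivOfSurjective hsurj))).length_eq, Module.length_eq_finrank, Module.finrank_prod,
    Module.finrank_fin_fun]
  congr 1
  omega

end Groth.Agent.S19532
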