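import Groth.Statements.S19533
import Groth.Agent.H19Grp.PointRigid
import Groth.Agent.H19Grp.GeomConnected
import Groth.Agent.H19Grp.ImageGroup

set_option autoImplicit false
universe u
open CategoryTheory CategoryTheory.Limits MonoidalCategory CartesianMonoidalCategory MonObj GrpObj AlgebraicGeometry
open AbVar

namespace Groth.Agent.S19533

/-- Let k be an algebraically closed field, A an abelian variety over k (a k-group scheme whose
structure morphism is proper, smooth and geometrically connected) with unit point e, Y a scheme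
separated over k and f : A → Y a morphism over k. Write F₀ for the connected component of e in the
fibre f⁻¹(f(e)). Then the k-rational points of F₀ are stable under the group law: if k-points x and
y of A lie in F₀ then so do the product point x·y and the inverse point x⁻¹. (The published
statement is for Y a k-variety and concludes that F₀ with its reduced structure is an abelian
subvariety, together with the translation formula F_a = a + F₀; this row records the closure of
F₀(k) under multiplication and inversion, for Y merely separated over k.) -/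
theorem result (k : Type u) [Field k] [IsAlgClosed k]
    (A : Over (Spec (CommRingCat.of k))) [GrpObj A] [IsProper A.hom] [Smooth A.hom] [GeometricallyConnected A.hom]
    {Y : Scheme.{u}} (q : Y ⟶ Spec (CommRingCat.of k)) [IsSeparated q] (f : A.left ⟶ Y) (hf : f ≫ q = A.hom)
    (x y : 𝟙_ (Over (Spec (CommRingCat.of k))) ⟶ A)
    (hx : x.left (IsLocalRing.closedPoint k) ∈
      connectedComponentIn (f ⁻¹' {f (η[A].left (IsLocalRing.closedPoint k))}) (η[A].left (IsLocalRing.closedPoint k)))
    (hy : y.left (IsLocalRing.closedPoint k) ∈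
      connectedComponentIn (f ⁻¹' {f (η[A].left (IsLocalRing.closedPoint k))}) (η[A].left (IsLocalRing.closedPoint k))) :
    (lift x y ≫ μ[A]).left (IsLocalRing.closedPoint k) ∈
        connectedComponentIn (f ⁻¹' {f (η[A].left (IsLocalRing.closedPoint k))}) (η[A].left (IsLocalRing.closedPoint k)) ∧
      (x ≫ ι[A]).left (IsLocalRing.closedPoint k) ∈
        connectedComponentIn (f ⁻¹' {f (η[A].left (IsLocalRing.closedPoint k))}) (η[A].left (IsLocalRing.closedPoint k)) := by
  let Z : Over (Spec (CommRingCat.of k)) := Over.mk q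
  haveI : IsSeparated Z.hom := inferInstanceAs (IsSeparated q)
  haveI : GeometricallyIntegral A.hom :=
    haveI := Groth.Agent.H19Grp.geometricallyIrreducible_of_geometricallyConnected A
    haveI := Groth.Agent.H19Grp.geometricallyReduced_of_smooth A.hom
    .of_geometricallyReduced_of_geometricallyIrreducible _
  let F : A ⟶ Z := Over.homMk f hf
  let pt := IsLocalRing.closedPoint k
  let e₀ := η[A].left pt
  let C := connectedComponentIn (f ⁻¹' {f e₀}) e₀
  have he₀ : e₀ ∈ C := mem_connectedComponentIn rfl
  have key : ∀ (a : 𝟙_ (Over (Spec (CommRingCat.of k))) ⟶ A), a.left pt ∈ C →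
      (lift (toUnit A ≫ a) (𝟙 A) ≫ μ[A]).left '' C ⊆ C := by
    intro a ha
    refine (Groth.Agent.H19Grp.translate_component_subset F a).trans ?_
    show connectedComponentIn (f ⁻¹' {f (a.left pt)}) (a.left pt) ⊆ C
    rw [(show a.left pt ∈ f ⁻¹' {f e₀} from connectedComponentIn_subset _ _ ha : f (a.left pt) = f e₀), ← connectedComponentIn_eq ha]
  have hmul : ∀ a b : 𝟙_ (Over (Spec (CommRingCat.of k))) ⟶ A,
      b ≫ lift (toUnit A ≫ a) (𝟙 A) ≫ μ[A] = a * b := fun a b => by
    rw [Hom.mul_def, comp_lift_assoc, Category.comp_id, ← Category.assoc b, toUnit_unique (b ≫ toUnit A) (𝟙 _),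
      Category.id_comp]
  have mem_mul : ∀ a b : 𝟙_ (Over (Spec (CommRingCat.of k))) ⟶ A, a.left pt ∈ C → b.left pt ∈ C →
      (a * b).left pt ∈ C := fun a b ha hb => by
    refine key a ha ⟨b.left pt, hb, ?_⟩
    show _ = (a * b).left pt
    rw [← hmul]
    rfl
  refine ⟨by simpa only [Hom.mul_def] using mem_mul x y hx hy, ?_⟩
  rw [← Hom.inv_def]
  haveI : IsLocallyNoetherian A.left := LocallyOfFiniteType.isLocallyNoetherian A.hom
  haveI : CompactSpace A.left := QuasiCompact.compactSpace_of_compactSpace A.hom
  haveI : IsNoetherian A.left := ⟨⟩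
  let τ : (𝟙_ (Over (Spec (CommRingCat.of k))) ⟶ A) → (A ⟶ A) := fun a => lift (toUnit A ≫ a) (𝟙 A) ≫ μ[A]
  have hτ : ∀ a b, τ a ≫ τ b = τ (b * a) := fun a b => by
    show τ a ≫ ((toUnit A ≫ b) * 𝟙 A) = (toUnit A ≫ (b * a)) * 𝟙 A
    rw [MonObj.comp_mul, Category.comp_id, ← Category.assoc, comp_toUnit, MonObj.comp_mul, _root_.mul_assoc]
    rfl
  have hτ1 : τ 1 = 𝟙 A := by
    show (toUnit A ≫ 1) * 𝟙 A = _
    rw [MonObj.comp_one, _root_.one_mul]
  have hiso : ∀ a, IsIso (τ a).left := fun a => by
    haveI : IsIso (τ a) := ⟨τ a⁻¹, by rw [hτ, inv_mul_cancel, hτ1], by rw [hτ, mul_inv_cancel, hτ1]⟩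
    exact inferInstanceAs (IsIso ((Over.forget _).map (τ a)))
  haveI := hiso x
  have hCc : IsClosed C := by
    have hcl : IsClosed ({f e₀} : Set Y) := by
      let σ : Spec (CommRingCat.of k) ⟶ Y := η[A].left ≫ f
      haveI : IsClosedImmersion (σ ≫ q) := by
        rw [show σ ≫ q = 𝟙 _ by rw [Category.assoc, hf]; exact Over.w η[A]]; infer_instance
      haveI : IsClosedImmersion σ := IsClosedImmersion.of_comp σ q
      have : ({f e₀} : Set Y) = Set.range σ := by
        ext z
        refine ⟨fun hz => ⟨pt, (Scheme.Hom.comp_apply _ _ _).trans hz.symm⟩, ?_⟩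
        rintro ⟨w, rfl⟩
        rw [Subsingleton.elim (α := PrimeSpectrum k) w pt]
        exact Scheme.Hom.comp_apply _ _ _
      rw [this]
      exact σ.isClosedEmbedding.isClosed_range
    exact closure_subset_iff_isClosed.1 (isPreconnected_connectedComponentIn.closure.subset_connectedComponentIn
      (subset_closure he₀) (closure_minimal (connectedComponentIn_subset _ _) (hcl.preimage f.continuous)))
  let φ : A.left → A.left := fun z => (τ x).left z
  have hinj : Function.Injective φ := (τ x).left.homeomorph.injective
  have hclosed : ∀ n : ℕ, IsClosed (φ^[n] '' C) := fun n => by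
    induction n with
    | zero => simpa using hCc
    | succ n ih =>
      rw [Function.iterate_succ', Set.image_comp]
      exact (τ x).left.homeomorph.isClosedMap _ ih
  let D : ℕ → TopologicalSpace.Closeds A.left := fun n => ⟨φ^[n] '' C, hclosed n⟩
  have hanti : Antitone D := antitone_nat_of_succ_le fun n => by
    show φ^[n + 1] '' C ⊆ φ^[n] '' C
    rw [Function.iterate_succ, Set.image_comp]
    exact Set.image_mono (key x hx)
  obtain ⟨N, hN⟩ := WellFoundedLT.antitone_chain_condition (α := TopologicalSpace.Closeds A.left) hanti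
  have hCeq : φ '' C = C := by
    have h : φ^[N] '' C = φ^[N + 1] '' C := congrArg TopologicalSpace.Closeds.carrier (hN (N + 1) (by omega))
    rw [Function.iterate_succ, Set.image_comp] at h
    exact ((hinj.iterate N).image_injective h).symm
  obtain ⟨c, hc, hce⟩ : e₀ ∈ φ '' C := hCeq.symm ▸ he₀
  have h2 : φ ((x⁻¹).left pt) = e₀ := by
    have e : x⁻¹ ≫ τ x = η[A] := by
      rw [hmul, mul_inv_cancel, Hom.one_def, toUnit_unique (toUnit _) (𝟙 _), Category.id_comp]
    exact congrArg (fun m : 𝟙_ (Over (Spec (CommRingCat.of k))) ⟶ A => m.left pt) e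
  rwa [hinj (h2.trans hce.symm)]

end Groth.Agent.S19533
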