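import Groth.Statements.S19534
import Groth.Agent.H23KS.RankOne
import Mathlib

set_option autoImplicit false
universe u
open CategoryTheory CategoryTheory.Limits AlgebraicGeometry
open ASBun

namespace Groth.Agent.S19534

open W4c1astiltbs12 in
/-- Let X be a proper, geometrically integral scheme over a field k, K an algebraic closure of k with
projection π : X_K → X, and E a nonzero finite locally free O_X-module which is absolutely
rank-one-isotypical: π^*E ≅ L^{⊕r} for some invertible O_{X_K}-module L and some natural number r.
Then the endomorphism ring of E (multiplication = composition) is a simple ring. (The published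
statement says that this ring is a central simple algebra over k; centrality over k and
finite-dimensionality are not stated here, only simplicity as a ring. Non-vanishing of E is part of
the definition of rank-one-isotypical there, the direct sum having at least one summand.) -/
theorem result (k : Type u) [Field k]
    {X : Scheme.{u}} (p : X ⟶ Spec (CommRingCat.of k)) [IsProper p] [GeometricallyIntegral p]
    (K : Type u) [Field K] [Algebra k K] [IsAlgClosure k K]
    (E : X.Modules) (hE : FlatMod.IsFinLocFree E) (hE0 : ¬ IsZero E)
    (L : (W4bk4gw11416.baseChange p K).Modules) (hL : PicF.IsInvertible L) (r : ℕ)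
    (e : Nonempty (bcMod p K E ≅ pow L r)) :
    IsSimpleRing (CategoryTheory.End E) := by
  letI : X.Over (Spec (CommRingCat.of k)) := ⟨p⟩
  letI : (W4bk4gw11416.baseChange p K).Over (Spec (CommRingCat.of K)) :=
    ⟨pullback.snd p (Spec.map (CommRingCat.ofHom (algebraMap k K)))⟩
  haveI : IsProper (X ↘ Spec (CommRingCat.of k)) := ‹IsProper p›
  haveI : IsProper ((W4bk4gw11416.baseChange p K) ↘ Spec (CommRingCat.of K)) :=
    inferInstanceAs (IsProper (pullback.snd p (Spec.map (CommRingCat.ofHom (algebraMap k K)))))
  haveI : IsAlgClosed K := IsAlgClosure.isAlgClosed k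
  haveI : IsIntegral (W4bk4gw11416.baseChange p K) :=
    GeometricallyIntegral.geometrically_isIntegral _ _ _ (IsPullback.of_hasPullback _ _)
  have hsq := IsPullback.of_hasPullback p (Spec.map (CommRingCat.ofHom (algebraMap k K)))
  have hEc := Groth.Agent.H16Derived.KFlat.Stalk.isCoh_of_isFinLocFree hE
  obtain ⟨a⟩ := e
  haveI : Nontrivial (End E) := ⟨1, 0, fun h => hE0 ((IsZero.iff_id_eq_zero _).2 h)⟩
  refine IsSimpleRing.of_eq_bot_or_eq_top fun I => or_iff_not_imp_left.2 fun hI => ?_
  obtain ⟨f, hfI, hf⟩ : ∃ f ∈ I, f ≠ 0 := by
    by_contra hc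
    push_neg at hc
    exact hI (le_antisymm (fun x hx => (TwoSidedIdeal.mem_bot _).2 (hc x hx)) bot_le)
  exact I.one_mem_iff.1 (Groth.Agent.H23KS.one_mem_of_mem (k := k) (K := K) hsq hEc L hL r a I f hfI hf)

end Groth.Agent.S19534
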