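import Groth.Statements.S19535
import Groth.Agent.H29RR.MonoHom
import Groth.Agent.H29Omega.SmoothInvertible
import Groth.Agent.H17.PrinOmega
import Groth.Agent.H10Coh.Support
import Groth.Agent.H16Derived.KFlat.PerfCoh
import Groth.Agent.H11Ample.Converse
import Groth.Agent.H27CurveDiv.RelDim
import Groth.Agent.H11Tilde.Local

set_option autoImplicit false
universe u
open CategoryTheory CategoryTheory.Limits AlgebraicGeometry TopologicalSpace
open Curves

namespace Groth.Agent.S19535

/-- Dichotomy for the differential of a map of smooth curves: let k be a field, X and Y integral schemes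
each smooth, separated and quasi-compact over Spec k and of dimension one, and φ : X → Y a morphism
over k. Let Ω_Y and Ω_X be sheaves of differentials of Y and of X over k, given as universal
derivations, and c : φ^*Ω_Y → Ω_X the compatible map dφ (sending the pullback of d_Y s to d_X(φ^♯
s)). Then exactly one of two things happens, stated here as a disjunction: either c is the zero map,
or c is a monomorphism of O_X-modules and its cokernel (the sheaf of relative differentials Ω_{X/Y})
restricts to zero on some nonempty open subset of X, so that it is supported at finitely many closed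
points. (The published statement is for smooth curves, which are in addition geometrically
connected; integrality of X and Y is what the argument uses.) -/
theorem result (k : Type u) [Field k] {X Y : Scheme.{u}}
    (pX : X ⟶ Spec (CommRingCat.of k)) (pY : Y ⟶ Spec (CommRingCat.of k)) (φ : X ⟶ Y) (w : φ ≫ pY = pX)
    [IsIntegral X] [Smooth pX] [IsSeparated pX] [QuasiCompact pX] (hdX : topologicalKrullDim X = 1)
    [IsIntegral Y] [Smooth pY] [IsSeparated pY] [QuasiCompact pY] (hdY : topologicalKrullDim Y = 1)
    (ΩY : Y.Modules) (dY : OmegaSh.Der pY ΩY) (hY : OmegaSh.IsUniversal dY)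
    (ΩX : X.Modules) (dX : OmegaSh.Der pX ΩX) (hX : OmegaSh.IsUniversal dX)
    (c : (Scheme.Modules.pullback φ).obj ΩY ⟶ ΩX) (hc : OmegaSh.IsDiffCompat φ dY dX c) :
    c = 0 ∨ (Mono c ∧ ∃ U : X.Opens, (U : Set X).Nonempty ∧ IsZero ((Scheme.Modules.pullback U.ι).obj (cokernel c))) := by
  have uniq : ∀ {Z : Scheme.{u}} (p : Z ⟶ Spec (CommRingCat.of k)) (A B : Z.Modules) (dA : OmegaSh.Der p A) (dB : OmegaSh.Der p B),
      OmegaSh.IsUniversal dA → OmegaSh.IsUniversal dB → Nonempty (A ≅ B) := by
    intro Z p A B dA dB hA hB
    obtain ⟨a, ha, -⟩ := hA B dB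
    obtain ⟨b, hb, -⟩ := hB A dA
    refine ⟨⟨a, b, ?_, ?_⟩⟩
    · refine (hA A dA).unique ?_ ?_
      · refine PresheafOfModules.Derivation.ext (funext fun U => AddMonoidHom.ext fun s => ?_)
        have h1 := congr($(congrArg (fun d : OmegaSh.Der p B => d.app U.unop) ha) s)
        have h2 := congr($(congrArg (fun d : OmegaSh.Der p A => d.app U.unop) hb) s)
        exact (congrArg (b.app U.unop) h1).trans h2
      · exact PresheafOfModules.Derivation.ext (funext fun U => AddMonoidHom.ext fun s => rfl)
    · refine (hB B dB).unique ?_ ?_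
      · refine PresheafOfModules.Derivation.ext (funext fun U => AddMonoidHom.ext fun s => ?_)
        have h1 := congr($(congrArg (fun d : OmegaSh.Der p B => d.app U.unop) ha) s)
        have h2 := congr($(congrArg (fun d : OmegaSh.Der p A => d.app U.unop) hb) s)
        exact (congrArg (a.app U.unop) h2).trans h1
      · exact PresheafOfModules.Derivation.ext (funext fun U => AddMonoidHom.ext fun s => rfl)
  have inv : ∀ {Z : Scheme.{u}} (p : Z ⟶ Spec (CommRingCat.of k)) [IsIntegral Z] [Smooth p] [QuasiCompact p] [IsSeparated p],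
      topologicalKrullDim Z = 1 → ∀ (A : Z.Modules) (dA : OmegaSh.Der p A), OmegaSh.IsUniversal dA → PicF.IsInvertible A := by
    intro Z p _ _ _ _ hZ A dA hA
    letI : Z.Over (Spec (CommRingCat.of k)) := ⟨p⟩
    haveI := H27CurveDiv.smoothOfRelativeDimension_of_dim p 1 hZ
    obtain ⟨e⟩ := uniq p A _ dA _ hA (H17.PrinOmega.isUniversal_dOmega p)
    exact Groth.Agent.H11Tilde.isInvertible_of_iso e.symm (H29Omega.SmoothInvertible.isInvertible_omega_smooth p)
  have : IsLocallyNoetherian X := LocallyOfFiniteType.isLocallyNoetherian pX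
  have hXi := inv pX hdX ΩX dX hX
  have hYi := H11Ample.isInvertible_pullback φ (inv pY hdY ΩY dY hY)
  refine or_iff_not_imp_left.2 fun h0 => ?_
  obtain ⟨hm, hg⟩ := H29RR.mono_of_ne_zero hYi hXi h0
  have hXc : Coh.IsCoh ΩX := H16Derived.KFlat.Stalk.isCoh_of_isFinLocFree (H28Pinch.isFinLocFree_of_isInvertible hXi)
  obtain ⟨U, hU, hz⟩ := H10Coh.exists_nhd_isZero (cokernel c)
    (H16Derived.KFlat.Stalk.isFT_of_epi (cokernel.π c) hXc.2) (genericPoint X) (not_not.1 hg)
  exact ⟨hm, U, ⟨_, hU⟩, hz.of_iso ((Scheme.Modules.restrictFunctorIsoPullback U.ι).app _).symm⟩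

end Groth.Agent.S19535
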