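import Groth.Statements.S1954
import Groth.Agent.H3CAlg.IntPt
import Mathlib
-- import your own Groth.Agent.* helpers here

set_option autoImplicit false
universe u
open CategoryTheory CategoryTheory.Limits AlgebraicGeometry
attribute [local instance] HasDerivedCategory.standard
open IntMult

namespace Groth.Agent.S1954

/-- Let Y, Z → X be closed immersions into a nonsingular variety with δ ≤ r on Y and δ ≤ s on Z, such
that [Y]_r and [Z]_s intersect properly, and let τ be a point of δ-dimension r + s − n lying under Y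
and Z (the generic point of a component of the intersection of components of dimension r and s) at
which the scheme-theoretic intersection Y ×_X Z has multiplicity 1 (its local ring there has length
1). Then the coefficient of the closure of τ in [Y]_r · [Z]_s is 1, and the local rings of Y and Z
at the points over τ are regular. (The published statement has further parts, not restated here.)
Here X is a nonsingular variety over the algebraically closed field K (smooth, separated,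
quasi-compact, integral) with dimension function δ (transcendence degree) and n = dim X; cycles are
Mathlib AlgebraicCycles with Cyc.Zk membership, proper intersection is IntMult.IntersectProperly and
α · β is the Tor-formula intersection product on coefficient functions (IntMult.interProd), bundled
where needed as 'any cycle with these coefficients'. -/
theorem result (K : Type u) [Field K] [IsAlgClosed K] (X : Scheme.{u}) (f : X ⟶ Spec (CommRingCat.of K)) [Smooth f] [IsSeparated f] [QuasiCompact f] [IsIntegral X] (δ : X → ℤ) (hX : Cyc.IsSetup X δ) (hδ : Cyc.DeltaCompat f δ (fun _ => 0)) (n : ℤ) (hn : δ (genericPoint X) = n) (Y Z : Scheme.{u}) (ιY : Y ⟶ X) (ιZ : Z ⟶ X) [IsClosedImmersion ιY] [IsClosedImmersion ιZ] (r s : ℤ) (hY : ∀ y : Y, δ (ιY y) ≤ r) (hZ : ∀ z : Z, δ (ιZ z) ≤ s) (hprop : IntMult.IntersectProperly δ n (Cyc.subschemeFun δ r ιY) (Cyc.subschemeFun δ s ιZ)) (τ : X) (hτ : δ τ = r + s - n) (hξ : ∃ ξ η : X, Cyc.subschemeFun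 δ r ιY ξ ≠ 0 ∧ Cyc.subschemeFun δ s ιZ η ≠ 0 ∧ ξ ⤳ τ ∧ η ⤳ τ) (hmult : Cyc.subschemeFun δ (r + s - n) (pullback.fst ιY ιZ ≫ ιY) τ = 1) : IntMult.interProd δ n (Cyc.subschemeFun δ r ιY) (Cyc.subschemeFun δ s ιZ) τ = 1 ∧ (∀ y : Y, ιY y = τ → IsRegularLocalRing (Y.presheaf.stalk y)) ∧ (∀ z : Z, ιZ z = τ → IsRegularLocalRing (Z.presheaf.stalk z)) := by
  haveI : IsLocallyNoetherian X := LocallyOfFiniteType.isLocallyNoetherian f
  obtain ⟨N, hNc, hNd⟩ := Groth.Agent.H3CAlg.IntPt.delta_eq_cdim f δ hδ (genericPoint X)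
  rw [Groth.Agent.H3CAlg.IntPoints.cdim_genericPoint] at hNc
  rw [hn] at hNd
  obtain ⟨c, hc, hcd⟩ := Groth.Agent.H3CAlg.IntPt.delta_eq_cdim f δ hδ τ
  obtain ⟨dA, hdA, hdAc⟩ := Groth.Agent.H3CAlg.IntLocal.ringKrullDim_stalk f hNc τ hc
  haveI : IsRegularLocalRing (X.presheaf.stalk τ) := Groth.Agent.H19Grp.isRegularLocalRing_stalk_of_smooth f τ
  let m := pullback.fst ιY ιZ ≫ ιY
  obtain ⟨-, w, hw⟩ := Groth.Agent.H3CAlg.IntPt.exists_of_subschemeFun_ne_zero m δ (r + s - n)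
    (x := τ) (by rw [hmult]; exact one_ne_zero)
  have hmax : IntMult.stalkIdeal m.ker τ = IsLocalRing.maximalIdeal (X.presheaf.stalk τ) := by
    subst hw
    rw [Groth.Agent.H3CAlg.IntPt.stalkIdeal_ker m w]
    exact Groth.Agent.H3CAlg.IntPt.ker_eq_maximal_of_subschemeFun m δ _ w hmult
  have hge : IsLocalRing.maximalIdeal (X.presheaf.stalk τ) ≤
      IntMult.stalkIdeal ιY.ker τ ⊔ IntMult.stalkIdeal ιZ.ker τ := by
    rw [← hmax, ← Groth.Agent.H3CAlg.DiagStalk.stalkIdeal_sup]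
    exact Groth.Agent.H3CAlg.IntPt.stalkIdeal_mono (Groth.Agent.H3CAlg.IntPt.ker_inter_le ιY ιZ) τ
  -- both sides
  have side : ∀ ξ η : X, Cyc.subschemeFun δ r ιY ξ ≠ 0 → Cyc.subschemeFun δ s ιZ η ≠ 0 → ξ ⤳ τ → η ⤳ τ →
      IntMult.stalkIdeal ιY.ker τ = IntMult.stalkIdeal (IntMult.ptIdeal ξ) τ ∧
      IntMult.stalkIdeal ιZ.ker τ = IntMult.stalkIdeal (IntMult.ptIdeal η) τ ∧
      IsRegularLocalRing (X.presheaf.stalk τ ⧸ IntMult.stalkIdeal (IntMult.ptIdeal ξ) τ) ∧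
      IsRegularLocalRing (X.presheaf.stalk τ ⧸ IntMult.stalkIdeal (IntMult.ptIdeal η) τ) ∧
      IntMult.mult (IntMult.ptIdeal ξ) (IntMult.ptIdeal η) τ = 1 := by
    intro ξ η hξ0 hη0 hξτ hητ
    obtain ⟨hrξ, y, hy⟩ := Groth.Agent.H3CAlg.IntPt.exists_of_subschemeFun_ne_zero ιY δ r hξ0
    obtain ⟨hsη, z, hz⟩ := Groth.Agent.H3CAlg.IntPt.exists_of_subschemeFun_ne_zero ιZ δ s hη0
    obtain ⟨a, ha, had⟩ := Groth.Agent.H3CAlg.IntPt.delta_eq_cdim f δ hδ ξ
    obtain ⟨b, hb, hbd⟩ := Groth.Agent.H3CAlg.IntPt.delta_eq_cdim f δ hδ η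
    obtain ⟨dP, hdP, hPc⟩ := Groth.Agent.H3CAlg.IntPt.ringKrullDim_quotient_ptIdeal f hξτ ha hc
    obtain ⟨dQ, hdQ, hQc⟩ := Groth.Agent.H3CAlg.IntPt.ringKrullDim_quotient_ptIdeal f hητ hb hc
    have hsum : dP + dQ = dA := by omega
    have hP := Groth.Agent.H3CAlg.IntPt.stalkIdeal_ptIdeal_prime hξτ
    have hQ := Groth.Agent.H3CAlg.IntPt.stalkIdeal_ptIdeal_prime hητ
    have hIP := Groth.Agent.H3CAlg.IntPt.stalkIdeal_le_of_mem_support ιY.ker hξτ
      (hy ▸ ιY.range_subset_ker_support ⟨y, rfl⟩)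
    have hJQ := Groth.Agent.H3CAlg.IntPt.stalkIdeal_le_of_mem_support ιZ.ker hητ
      (hz ▸ ιZ.range_subset_ker_support ⟨z, rfl⟩)
    haveI := hP
    haveI := hQ
    obtain ⟨e1, r1⟩ := Groth.Agent.H3CAlg.IntPt.eq_of_transversal hdA hdP hdQ hsum hIP hQ.ne_top
      (le_antisymm (sup_le (hIP.trans (IsLocalRing.le_maximalIdeal hP.ne_top)) (IsLocalRing.le_maximalIdeal hQ.ne_top))
        (hge.trans (sup_le_sup_left hJQ _)))
    obtain ⟨e2, r2⟩ := Groth.Agent.H3CAlg.IntPt.eq_of_transversal hdA hdQ hdP (by omega) hJQ hP.ne_top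
      (le_antisymm (sup_le (hJQ.trans (IsLocalRing.le_maximalIdeal hQ.ne_top)) (IsLocalRing.le_maximalIdeal hP.ne_top))
        (hge.trans (sup_le (hIP.trans le_sup_right) le_sup_left)))
    refine ⟨e1, e2, r1, r2, ?_⟩
    have hPQ : IntMult.stalkIdeal (IntMult.ptIdeal ξ) τ ⊔ IntMult.stalkIdeal (IntMult.ptIdeal η) τ =
        IsLocalRing.maximalIdeal (X.presheaf.stalk τ) :=
      le_antisymm (sup_le (IsLocalRing.le_maximalIdeal hP.ne_top) (IsLocalRing.le_maximalIdeal hQ.ne_top))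
        (hge.trans (sup_le_sup hIP hJQ))
    refine ((Groth.Agent.H3CAlg.DiagScheme.mult_data f (IntMult.ptIdeal ξ) (IntMult.ptIdeal η) inferInstance hP hQ
      (fun p hp => le_antisymm (IsLocalRing.le_maximalIdeal p.2.ne_top) (hPQ ▸ hp)) hdA hdP hdQ hsum).2 ?_).1
    haveI : IsSimpleModule (X.presheaf.stalk τ) (X.presheaf.stalk τ ⧸ IsLocalRing.maximalIdeal (X.presheaf.stalk τ)) :=
      isSimpleModule_iff_isCoatom.mpr (IsLocalRing.maximalIdeal.isMaximal _).out
    rw [hPQ, Module.length_eq_one]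
  obtain ⟨ξ, η, hξ0, hη0, hξτ, hητ⟩ := hξ
  obtain ⟨e1, e2, r1, r2, hm⟩ := side ξ η hξ0 hη0 hξτ hητ
  refine ⟨?_, ?_, ?_⟩
  · have hcoef : ∀ {W : Scheme.{u}} (ι : W ⟶ X) [IsClosedImmersion ι] (k : ℤ) (p : X),
        Cyc.subschemeFun δ k ι p ≠ 0 → p ⤳ τ →
        IntMult.stalkIdeal ι.ker τ = IntMult.stalkIdeal (IntMult.ptIdeal p) τ → Cyc.subschemeFun δ k ι p = 1 := by
      intro W ι _ k p hp0 hpτ he
      obtain ⟨hk, y, rfl⟩ := Groth.Agent.H3CAlg.IntPt.exists_of_subschemeFun_ne_zero ι δ k hp0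
      refine Groth.Agent.H3CAlg.IntPt.subschemeFun_eq_one ι δ k y hk ?_
      rw [← Groth.Agent.H3CAlg.IntPt.stalkIdeal_ker, Groth.Agent.H29Ref.stalkIdeal_specializes _ hpτ, he,
        ← Groth.Agent.H29Ref.stalkIdeal_specializes _ hpτ, Groth.Agent.H3CAlg.IntPt.stalkIdeal_ptIdeal_self]
    obtain ⟨hrξ, -⟩ := Groth.Agent.H3CAlg.IntPt.exists_of_subschemeFun_ne_zero ιY δ r hξ0
    obtain ⟨hsη, -⟩ := Groth.Agent.H3CAlg.IntPt.exists_of_subschemeFun_ne_zero ιZ δ s hη0
    rw [IntMult.interProd, finsum_eq_single _ ⟨(ξ, η), hξτ, hητ, by rw [hrξ, hsη, hτ]⟩ ?_]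
    · rw [hcoef ιY r ξ hξ0 hξτ e1, hcoef ιZ s η hη0 hητ e2, hm, mul_one, mul_one]
    · intro x hne
      obtain ⟨⟨p, q⟩, hpτ, hqτ, hdpq⟩ := x
      by_contra h0
      simp only [ne_eq, mul_eq_zero, not_or] at h0
      obtain ⟨f1, f2, -, -, -⟩ := side p q h0.1.1 h0.1.2 hpτ hqτ
      refine hne (Subtype.ext (Prod.ext ?_ ?_))
      · exact Groth.Agent.H3CAlg.IntPt.stalkIdeal_ptIdeal_injective hpτ hξτ (f1.symm.trans e1)
      · exact Groth.Agent.H3CAlg.IntPt.stalkIdeal_ptIdeal_injective hqτ hητ (f2.symm.trans e2)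
  · intro y hy
    subst hy
    haveI := r1
    exact IsRegularLocalRing.of_ringEquiv ((Ideal.quotEquivOfEq (e1.symm.trans
      (Groth.Agent.H3CAlg.IntPt.stalkIdeal_ker ιY y))).trans
      (RingHom.quotientKerEquivOfSurjective (ιY.stalkMap_surjective y)))
  · intro z hz
    subst hz
    haveI := r2
    exact IsRegularLocalRing.of_ringEquiv ((Ideal.quotEquivOfEq (e2.symm.trans
      (Groth.Agent.H3CAlg.IntPt.stalkIdeal_ker ιZ z))).trans
      (RingHom.quotientKerEquivOfSurjective (ιZ.stalkMap_surjective z)))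


end Groth.Agent.S1954
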