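import Groth.Statements.S19540
import Mathlib.CategoryTheory.Sites.EpiMono
import Mathlib.CategoryTheory.Sites.Abelian
import Mathlib.Algebra.Homology.ShortComplex.Ab
import Mathlib.CategoryTheory.Sites.Limits

set_option linter.style.haveILetI false
open CategoryTheory CategoryTheory.Limits Opposite

set_option autoImplicit false
open CategoryTheory CategoryTheory.Limits Opposite
universe w v u
open CohSite

namespace Groth.Agent.S19540

/-- Let (C, J) be a site and B a class of objects of C, each weakly contractible (every epimorphism of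
sheaves of sets, valued in a fixed universe, is surjective on sections over it), such that every
object V of C has a covering sieve all of whose arrows factor through some object of B. Then a
three-term complex F ⟶ G ⟶ H of abelian sheaves on (C, J) is exact if and only if for every U in B
the sequence of section groups F(U) ⟶ G(U) ⟶ H(U) is exact. (The published statement is for sheaves
of modules over a sheaf of rings O; this row is the case of the constant sheaf of rings ℤ, i.e.
abelian sheaves, to which exactness questions for O-modules reduce. The universe set-up assumes that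
abelian sheafification exists and inverts exactly the locally bijective maps, as on any small site.) -/
theorem result
    {C : Type u} [Category.{v} C] (J : GrothendieckTopology C) [HasSheafify J AddCommGrpCat.{w}]
    [J.WEqualsLocallyBijective AddCommGrpCat.{w}]
    (B : C → Prop)
    (hB : ∀ U : C, B U → ∀ (P Q : Sheaf J (Type w)) (ψ : P ⟶ Q), Epi ψ → Function.Surjective (ψ.hom.app (op U)))
    (hcov : ∀ V : C, ∃ S : Sieve V, S ∈ J V ∧ ∀ ⦃W : C⦄ (f : W ⟶ V), S.arrows f →
      ∃ (U : C) (g : W ⟶ U) (h : U ⟶ V), B U ∧ g ≫ h = f)
    (S : ShortComplex (Sheaf J AddCommGrpCat.{w})) :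
    S.Exact ↔ ∀ U : C, B U →
      (S.map (sheafToPresheaf J AddCommGrpCat.{w} ⋙ (evaluation Cᵒᵖ AddCommGrpCat.{w}).obj (op U))).Exact := by
  have kexact : ∀ U : C, ((ShortComplex.mk (kernel.ι S.g) S.g (kernel.condition _)).map
      (sheafToPresheaf J AddCommGrpCat.{w} ⋙ (evaluation Cᵒᵖ AddCommGrpCat.{w}).obj (op U))).Exact :=
    fun U => (ShortComplex.exact_of_f_is_kernel _ (kernelIsKernel S.g)).map_of_mono_of_preservesKernel _ inferInstance inferInstance
  have kinj : ∀ U : C, Function.Injective ((kernel.ι S.g).hom.app (op U)) := fun U =>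
    (AddCommGrpCat.mono_iff_injective _).1 (inferInstanceAs (Mono ((sheafToPresheaf J AddCommGrpCat.{w} ⋙ (evaluation Cᵒᵖ AddCommGrpCat.{w}).obj (op U)).map (kernel.ι S.g))))
  have hlift : ∀ (U : C) (a : S.X₁.obj.obj (op U)), (kernel.ι S.g).hom.app (op U) ((kernel.lift S.g S.f S.zero).hom.app (op U) a) = S.f.hom.app (op U) a := fun U a => by
    rw [← ConcreteCategory.comp_apply, ← NatTrans.comp_app, ← ObjectProperty.FullSubcategory.comp_hom, kernel.lift_ι]
  rw [S.exact_iff_epi_kernel_lift, ← Sheaf.isLocallySurjective_iff_epi']
  constructor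
  · intro hs U hU
    rw [ShortComplex.ab_exact_iff]
    intro x hx
    obtain ⟨y, hy⟩ := (ShortComplex.ab_exact_iff _).1 (kexact U) x hx
    haveI := hs
    obtain ⟨a, ha⟩ := hB U hU _ _ ((sheafCompose J (forget AddCommGrpCat.{w})).map (kernel.lift S.g S.f S.zero)) inferInstance y
    refine ⟨a, ?_⟩
    exact ((hlift U a).symm.trans (congrArg _ ha)).trans hy
  · intro h
    refine ⟨fun {V} y => ?_⟩
    obtain ⟨T, hT, hf⟩ := hcov V
    refine J.superset_covering ?_ hT
    intro W f hW
    obtain ⟨U, g, k, hU, rfl⟩ := hf f hW
    have hz : S.g.hom.app (op U) ((kernel.ι S.g).hom.app (op U) ((kernel S.g).obj.map k.op y)) = 0 := by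
      rw [← ConcreteCategory.comp_apply, ← NatTrans.comp_app, ← ObjectProperty.FullSubcategory.comp_hom, kernel.condition]
      rfl
    obtain ⟨a, ha⟩ := (ShortComplex.ab_exact_iff _).1 (h U hU) _ hz
    refine ⟨S.X₁.obj.map g.op a, ?_⟩
    erw [NatTrans.naturality_apply]
    have : (kernel.lift S.g S.f S.zero).hom.app (op U) a = (kernel S.g).obj.map k.op y := kinj U ((hlift U a).trans ha)
    rw [this, ← ConcreteCategory.comp_apply, ← Functor.map_comp]
    rfl

end Groth.Agent.S19540
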