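import Groth.Statements.S19541
import Groth.Agent.H29Curve.Morphism
import Groth.Agent.S9566
import Groth.Agent.H19Grp.RegularSmooth
import Groth.Agent.H05EGA4.CompleteNormalization
import Mathlib

set_option autoImplicit false
universe u
open CategoryTheory CategoryTheory.Limits AlgebraicGeometry TopologicalSpace
open Curves

namespace Groth.Agent.S19541

open CategoryTheory CategoryTheory.Limits AlgebraicGeometry TopologicalSpace

lemma residueFieldMap_bijective_of_isClosed {k : Type u} [Field k] [IsAlgClosed k] {X Y : Scheme.{u}}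
    (pX : X ⟶ Spec (CommRingCat.of k)) (pY : Y ⟶ Spec (CommRingCat.of k)) (φ : X ⟶ Y) (w : φ ≫ pY = pX)
    [LocallyOfFiniteType pX] (x : X) (hx : IsClosed ({x} : Set X)) :
    Function.Bijective (φ.residueFieldMap x).hom := by
  haveI : JacobsonSpace X := LocallyOfFiniteType.jacobsonSpace pX
  haveI := isClosed_singleton_iff_isClosedImmersion.mp hx
  let g := X.fromSpecResidueField x ≫ pX
  haveI : IsFinite g := isFinite_iff_locallyOfFiniteType_of_jacobsonSpace.mpr inferInstance
  obtain ⟨ψ, hψ⟩ := Spec.map_surjective g
  obtain ⟨χ, hχ⟩ := Spec.map_surjective (Y.fromSpecResidueField (φ x) ≫ pY)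
  have e : χ ≫ φ.residueFieldMap x = ψ := by
    apply Spec.map_injective
    rw [Spec.map_comp, hψ, hχ, φ.SpecMap_residueFieldMap_fromSpecResidueField_assoc, w]
  have hfin : ψ.hom.Finite := by
    have h : IsFinite (Spec.map ψ) := hψ ▸ inferInstance
    rwa [IsFinite.SpecMap_iff] at h
  letI := ψ.hom.toAlgebra
  haveI : Module.Finite k (X.residueField x) := hfin
  have hsurj : Function.Surjective ψ.hom :=
    (IsAlgClosed.algebraMap_bijective_of_isIntegral (k := k) (K := X.residueField x)).2
  refine ⟨(φ.residueFieldMap x).hom.injective, ?_⟩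
  rw [← e, CommRingCat.hom_comp] at hsurj
  exact Function.Surjective.of_comp (g := χ.hom) hsurj

lemma not_isClosed_genericPoint {X : Scheme.{u}} [IsIntegral X] (hd : topologicalKrullDim X = 1) :
    ¬ IsClosed ({genericPoint X} : Set X) := by
  intro hc
  have h1 : ∀ y : X, y = genericPoint X := fun y => by
    have h2 : y ∈ closure ({genericPoint X} : Set X) := by
      rw [(genericPoint_spec X).def]; trivial
    rwa [hc.closure_eq] at h2
  haveI : Subsingleton X := ⟨fun a b => (h1 a).trans (h1 b).symm⟩
  have h2 : topologicalKrullDim X ≤ 0 :=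
    (Order.krullDim_nonpos_iff_forall_isMin).2 fun a b hb => le_of_eq (SetLike.ext'
      ((Subsingleton.eq_univ_of_nonempty a.isIrreducible'.nonempty).trans
        (Subsingleton.eq_univ_of_nonempty b.isIrreducible'.nonempty).symm))
  rw [hd] at h2
  exact absurd h2 (by norm_num)



/-- Pointwise criterion for a map of smooth curves to be étale: let k be an algebraically closed field,
X and Y integral schemes each smooth, separated and quasi-compact over Spec k and of dimension one,
φ : X → Y a morphism over k and x a closed point of X. Then φ is étale at x (the restriction of φ to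
some open neighbourhood of x is étale) if and only if the induced homomorphism of stalks O_{Y,φ(x)}
→ O_{X,x} carries the maximal ideal of the discrete valuation ring O_{Y,φ(x)} to an ideal generating
the maximal ideal of O_{X,x}; equivalently a uniformiser at φ(x) pulls back to a uniformiser at x.
(The published statement is for smooth curves, which are in addition geometrically connected;
integrality is what is used. For a constant φ both sides fail.) -/
theorem result (k : Type u) [Field k] [IsAlgClosed k] {X Y : Scheme.{u}}
    (pX : X ⟶ Spec (CommRingCat.of k)) (pY : Y ⟶ Spec (CommRingCat.of k)) (φ : X ⟶ Y) (w : φ ≫ pY = pX)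
    [IsIntegral X] [Smooth pX] [IsSeparated pX] [QuasiCompact pX] (hdX : topologicalKrullDim X = 1)
    [IsIntegral Y] [Smooth pY] [IsSeparated pY] [QuasiCompact pY] (hdY : topologicalKrullDim Y = 1)
    (x : X) (hx : IsClosed ({x} : Set X)) :
    (∃ U : X.Opens, x ∈ U ∧ Etale (U.ι ≫ φ)) ↔
      Ideal.map (φ.stalkMap x).hom (IsLocalRing.maximalIdeal (Y.presheaf.stalk (φ.base x))) =
        IsLocalRing.maximalIdeal (X.presheaf.stalk x) := by
  haveI : IsLocallyNoetherian Y := LocallyOfFiniteType.isLocallyNoetherian pY
  haveI : LocallyOfFiniteType (φ ≫ pY) := by rw [w]; infer_instance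
  haveI : LocallyOfFiniteType φ := locallyOfFiniteType_of_comp φ pY
  rw [Groth.Agent.S9566.result φ x]
  refine ⟨fun h => h.2.1, fun hm => ⟨?_, hm, ?_⟩⟩
  · have hnc : (Set.range φ).Nontrivial := by
      by_contra hnt
      rw [Set.not_nontrivial_iff] at hnt
      have h0 : (IsLocalRing.maximalIdeal (Y.presheaf.stalk (φ.base x))).map (φ.stalkMap x).hom = ⊥ := by
        rw [Ideal.map_eq_bot_iff_le_ker]
        intro a ha
        obtain ⟨U, hU, s, rfl⟩ := Y.presheaf.exists_germ_eq a
        rw [RingHom.mem_ker]
        erw [Scheme.Hom.germ_stalkMap_apply φ U x hU s]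
        have hb : X.basicOpen (φ.app U s) = ⊥ := by
          refine le_bot_iff.1 fun x' hx' => ?_
          rw [← Scheme.preimage_basicOpen] at hx'
          have h1 : φ x ∈ Y.basicOpen s := hnt ⟨x', rfl⟩ ⟨x, rfl⟩ ▸ hx'
          exact ((IsLocalRing.mem_maximalIdeal _).1 ha) ((Y.mem_basicOpen s (φ x) hU).1 h1)
        rw [(basicOpen_eq_bot_iff _).1 hb, map_zero]
      rw [hm] at h0
      refine Groth.Agent.H8Props.FlatDimOneBase.maximalIdeal_stalk_ne_bot x (fun e => ?_) h0
      exact not_isClosed_genericPoint hdX (e ▸ hx)
    haveI : Flat φ := Groth.Agent.H29Curve.flat_of_dominant_normal φ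
      (Groth.Agent.H29Curve.apply_genericPoint_of_nontrivial pX pY φ w hdY.le hnc)
      (fun y => by
        haveI := Groth.Agent.H19Grp.isRegularLocalRing_stalk_of_smooth pY y
        exact Groth.Agent.H05EGA4.isIntegrallyClosed_of_isRegularLocalRing (Y.presheaf.stalk y)) hdY.le
    exact Flat.stalkMap φ x
  · have hb := residueFieldMap_bijective_of_isClosed pX pY φ w x hx
    letI := (φ.residueFieldMap x).hom.toAlgebra
    haveI : Module.Finite (Y.residueField (φ.base x)) (X.residueField x) :=
      Module.Finite.of_surjective (Algebra.linearMap _ _) hb.2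
    refine ⟨this, ⟨fun a => ?_⟩⟩
    obtain ⟨b, rfl⟩ := hb.2 a
    exact isSeparable_algebraMap (K := X.residueField x) b

end Groth.Agent.S19541
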