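import Groth.Statements.S19545
import Groth.Agent.H3CAlg.BassCancel

set_option autoImplicit false
universe u
open CAlg

namespace Groth.Agent.S19545

/-- Let R be a Noetherian ring of Krull dimension d and P, P' finitely generated projective R-modules of
constant rank n > d at every prime which are stably isomorphic, i.e. P ⊕ R^m ≅ P' ⊕ R^m for some m.
Then P ≅ P'. -/
theorem result (R : Type u)
    [CommRing R] [IsNoetherianRing R] (d n : ℕ) (hdim : ringKrullDim R = d)
    (P P' : Type u) [AddCommGroup P] [Module R P] [Module.Finite R P] [Module.Projective R P]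
    [AddCommGroup P'] [Module R P'] [Module.Finite R P'] [Module.Projective R P']
    (hrk : ∀ p : PrimeSpectrum R, Module.rankAtStalk (R := R) P p = n)
    (hrk' : ∀ p : PrimeSpectrum R, Module.rankAtStalk (R := R) P' p = n) (hnd : d < n)
    (m : ℕ) (e : (P × (Fin m → R)) ≃ₗ[R] (P' × (Fin m → R))) :
    Nonempty (P ≃ₗ[R] P') := by
  exact Groth.Agent.H3CAlg.BassCancel.cancel hdim.le (fun x => by rw [hrk x]; omega) m e

end Groth.Agent.S19545
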