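import Groth.Statements.S19546
import Mathlib

set_option autoImplicit false
universe u v w
open scoped TensorProduct
open VBCurve

namespace Groth.Agent.S19546

theorem core (a b r : ℕ) (ha : 0 < a) (hb : 0 < b) (w : Fin r → Fin a → Fin b → ℂ)
    (hw : ∀ u : Fin a → ℂ, ∀ v : Fin b → ℂ, u ≠ 0 → (∀ t, ∑ i, ∑ j, u i * v j * w t i j = 0) → v = 0) :
    a + b ≤ r + 1 := by
  classical
  let z : Fin a × Fin b → (MvPolynomial (Fin a ⊕ Fin b) ℂ) := fun p => MvPolynomial.X (Sum.inl p.1) * MvPolynomial.X (Sum.inr p.2)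
  let R := Algebra.adjoin ℂ (Set.range z)
  haveI : Algebra.FiniteType ℂ R :=
    (Subalgebra.fg_iff_finiteType R).mp (Subalgebra.fg_adjoin_finset (R := ℂ) (Finset.univ.image z) |> fun h => by simpa [R] using h)
  haveI : IsNoetherianRing R := Algebra.FiniteType.isNoetherianRing ℂ R
  haveI : IsJacobsonRing R := isJacobsonRing_of_finiteType (A := ℂ) (B := R)
  let zR : Fin a × Fin b → R := fun p => ⟨z p, Algebra.subset_adjoin ⟨p, rfl⟩⟩
  let f : Fin r → R := fun t => ∑ i, ∑ j, algebraMap ℂ R (w t i j) * zR (i, j)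
  let keep : ℕ → (Fin a ⊕ Fin b) → Prop := fun k => Sum.elim
    (fun i => (i : ℕ) < k) (fun j => 1 ≤ k ∧ ((j : ℕ) = 0 ∨ (j : ℕ) + a ≤ k))
  let ψ : ℕ → (MvPolynomial (Fin a ⊕ Fin b) ℂ) →ₐ[ℂ] (MvPolynomial (Fin a ⊕ Fin b) ℂ) := fun k => MvPolynomial.aeval fun s => if keep k s then MvPolynomial.X s else 0
  let P : ℕ → Ideal R := fun k => RingHom.ker ((ψ k).comp R.val).toRingHom
  have hP : ∀ k, (P k).IsPrime := fun k => RingHom.ker_isPrime _
  have hmono : ∀ k, P (k + 1) ≤ P k := by
    intro k x hx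
    have hcomp : (ψ k).comp (ψ (k + 1)) = ψ k := by
      refine MvPolynomial.algHom_ext fun s => ?_
      simp only [ψ, AlgHom.comp_apply, MvPolynomial.aeval_X]
      by_cases h : keep k s
      · have h' : keep (k + 1) s := by
          rcases s with i | j <;> simp only [keep, Sum.elim_inl, Sum.elim_inr] at h ⊢ <;> omega
        simp [h, h', MvPolynomial.aeval_X]
      · by_cases h' : keep (k + 1) s <;> simp [h, h', MvPolynomial.aeval_X]
    rw [RingHom.mem_ker] at hx ⊢
    change ψ k (x : (MvPolynomial (Fin a ⊕ Fin b) ℂ)) = 0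
    change ψ (k + 1) (x : (MvPolynomial (Fin a ⊕ Fin b) ℂ)) = 0 at hx
    rw [← hcomp, AlgHom.comp_apply, hx, map_zero]
  have hstrict : ∀ k, k < a + b - 1 → P (k + 1) < P k := by
    intro k hk
    refine lt_of_le_of_ne (hmono k) fun he => ?_
    let p : Fin a × Fin b :=
      if h : k < a then (⟨k, h⟩, ⟨0, hb⟩) else (⟨0, ha⟩, ⟨k + 1 - a, by omega⟩)
    have h1 : zR p ∈ P k := by
      rw [RingHom.mem_ker]
      change ψ k (z p) = 0
      simp only [ψ, z, map_mul, MvPolynomial.aeval_X, p]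
      split_ifs <;> simp_all [keep] <;> omega
    have h2 : zR p ∉ P (k + 1) := by
      rw [RingHom.mem_ker]
      change ¬ ψ (k + 1) (z p) = 0
      have hk1 : keep (k + 1) (Sum.inl p.1) ∧ keep (k + 1) (Sum.inr p.2) := by
        simp only [keep, p, Sum.elim_inl, Sum.elim_inr]
        split_ifs <;> simp <;> omega
      simp [ψ, z, hk1.1, hk1.2, MvPolynomial.X_ne_zero]
    exact h2 (he ▸ h1)
  -- every maximal ideal containing the `f t` is `P 0`
  have hzP : ∀ p, zR p ∈ P 0 := fun p => by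
    rw [RingHom.mem_ker]
    change ψ 0 (z p) = 0
    simp [ψ, z, keep]
  let M : Ideal R := Ideal.span (Set.range zR)
  have hfM : Ideal.span (Set.range f) ≤ M := by
    rw [Ideal.span_le]
    rintro _ ⟨t, rfl⟩
    exact Ideal.sum_mem _ fun i _ => Ideal.sum_mem _ fun j _ =>
      Ideal.mul_mem_left _ _ (Ideal.subset_span ⟨(i, j), rfl⟩)
  have hmax : ∀ Q : Ideal R, Q.IsMaximal → Ideal.span (Set.range f) ≤ Q → M ≤ Q := by
    intro Q hQ hfQ
    letI := Ideal.Quotient.field Q
    haveI : Module.Finite ℂ (R ⧸ Q) := finite_of_finite_type_of_isJacobsonRing ℂ (R ⧸ Q)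
    let e : (R ⧸ Q) ≃ₐ[ℂ] ℂ := (AlgEquiv.ofBijective (Algebra.ofId ℂ (R ⧸ Q))
      IsAlgClosed.algebraMap_bijective_of_isIntegral).symm
    let χ : R →ₐ[ℂ] ℂ := e.toAlgHom.comp (Ideal.Quotient.mkₐ ℂ Q)
    rw [Ideal.span_le]
    rintro _ ⟨⟨k, l⟩, rfl⟩
    have hker : ∀ x : R, χ x = 0 ↔ x ∈ Q := fun x => by
      change e (Ideal.Quotient.mk Q x) = 0 ↔ _
      rw [map_eq_zero_iff e e.injective, Ideal.Quotient.eq_zero_iff_mem]
    rw [SetLike.mem_coe, ← hker]
    by_contra hne
    let u : Fin a → ℂ := fun i => χ (zR (i, l))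
    let v : Fin b → ℂ := fun j => χ (zR (k, j)) / χ (zR (k, l))
    have huv : ∀ i j, u i * v j = χ (zR (i, j)) := fun i j => by
      simp only [u, v, mul_div_assoc']
      rw [div_eq_iff hne, ← map_mul, ← map_mul]
      congr 1
      ext1
      simp only [MulMemClass.coe_mul, zR, z]
      ring
    have hv := hw u v (fun h => hne (congrFun h k)) fun t => by
      have h0 : χ (f t) = 0 := (hker _).mpr (hfQ (Ideal.subset_span ⟨t, rfl⟩))
      simp only [f, map_sum, map_mul, AlgHom.commutes] at h0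
      rw [← h0]
      exact Finset.sum_congr rfl fun i _ => Finset.sum_congr rfl fun j _ => by
        rw [huv, mul_comm]; rfl
    have := congrFun hv l
    simp [v, hne] at this
  have hP0 : P 0 = M := by
    refine le_antisymm (fun x hx => ?_) (Ideal.span_le.mpr fun _ ⟨p, hp⟩ => hp ▸ hzP p)
    have key : ∀ y (hy : y ∈ R), ∃ c : ℂ, (⟨y, hy⟩ : R) - algebraMap ℂ R c ∈ M := by
      intro y hy
      induction hy using Algebra.adjoin_induction with
      | mem y hy =>
        obtain ⟨p, rfl⟩ := hy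
        refine ⟨0, ?_⟩
        rw [map_zero, sub_zero]
        exact Ideal.subset_span ⟨p, rfl⟩
      | algebraMap c => exact ⟨c, by
          have : (⟨algebraMap ℂ (MvPolynomial (Fin a ⊕ Fin b) ℂ) c, algebraMap_mem R c⟩ : R) = algebraMap ℂ R c := rfl
          rw [this, sub_self]; exact zero_mem _⟩
      | add y y' hy hy' h h' =>
        obtain ⟨c, hc⟩ := h; obtain ⟨c', hc'⟩ := h'
        refine ⟨c + c', ?_⟩
        convert add_mem hc hc' using 1
        change (⟨y, hy⟩ + ⟨y', hy'⟩ : R) - _ = _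
        rw [map_add]; ring
      | mul y y' hy hy' h h' =>
        obtain ⟨c, hc⟩ := h; obtain ⟨c', hc'⟩ := h'
        refine ⟨c * c', ?_⟩
        convert add_mem (Ideal.mul_mem_right ⟨y', hy'⟩ _ hc) (Ideal.mul_mem_left _ (algebraMap ℂ R c) hc') using 1
        change (⟨y, hy⟩ * ⟨y', hy'⟩ : R) - _ = _
        rw [map_mul]; ring
    obtain ⟨c, hc⟩ := key x.1 x.2
    have hle : M ≤ P 0 := Ideal.span_le.mpr fun _ ⟨p, hp⟩ => hp ▸ hzP p
    have h1 : algebraMap ℂ R c ∈ P 0 := by
      have := sub_mem hx (hle hc)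
      simpa using this
    have h2 : c = 0 := by
      by_contra hc0
      exact (hP 0).ne_top (Ideal.eq_top_of_isUnit_mem _ h1 ((IsUnit.mk0 c hc0).map _))
    simpa [h2] using hc
  have hmin : P 0 ∈ (Ideal.span (Set.range f)).minimalPrimes := by
    refine ⟨⟨hP 0, hP0 ▸ hfM⟩, fun q hq hle => ?_⟩
    rw [hP0, ← hq.1.radical]
    refine le_trans ?_ (Ideal.radical_mono hq.2)
    rw [Ideal.radical_eq_jacobson, Ideal.jacobson]
    exact le_sInf fun Q hQ => hmax Q hQ.2 hQ.1
  have hht := Ideal.height_le_card_of_mem_minimalPrimes_span (Set.finite_range f) hmin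
  let c : LTSeries (PrimeSpectrum R) :=
    { length := a + b - 1
      toFun := fun i => ⟨P (a + b - 1 - i), hP _⟩
      step := fun i => by
        change (⟨P _, hP _⟩ : PrimeSpectrum R) < ⟨P _, hP _⟩
        rw [← PrimeSpectrum.asIdeal_lt_asIdeal]
        have h := hstrict (a + b - 1 - (i + 1)) (by omega)
        convert h using 2 <;> simp <;> omega }
  have hlast : c.last = ⟨P 0, hP 0⟩ := PrimeSpectrum.ext (by simp [c, RelSeries.last])
  have h3 : (c.length : ℕ∞) ≤ (P 0).height := by
    rw [PrimeSpectrum.height_eq_orderHeight ⟨P 0, hP 0⟩]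
    exact Order.length_le_height (le_of_eq hlast)
  have h4 := h3.trans hht
  have h5 : ((Set.range f).ncard : ℕ∞) ≤ r := by
    rw [← Set.image_univ]
    exact_mod_cast (Set.ncard_image_le Set.finite_univ).trans_eq (by simp)
  have h6 : ((a + b - 1 : ℕ) : ℕ∞) ≤ r := h4.trans h5
  have := ENat.coe_le_coe.mp h6
  omega


/-- Let A, B, C be complex vector spaces, A and B finite-dimensional, and ν : A ⊗ B → C a linear map
injective on each factor separately (b ↦ ν(a ⊗ b) is injective for every a ≠ 0 and a ↦ ν(a ⊗ b) is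
injective for every b ≠ 0). Then the image of ν has dimension at least dim A + dim B - 1. (For A = 0
the separate-injectivity hypothesis is empty and the inequality fails as soon as dim B ≥ 2, so A and
B are taken nonzero here, the case the inequality is about.) -/
theorem result
    (A : Type u) (B : Type v) (C : Type w) [AddCommGroup A] [Module ℂ A] [AddCommGroup B] [Module ℂ B]
    [AddCommGroup C] [Module ℂ C] [FiniteDimensional ℂ A] [FiniteDimensional ℂ B]
    [Nontrivial A] [Nontrivial B] (ν : A ⊗[ℂ] B →ₗ[ℂ] C)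
    (hA : ∀ a : A, a ≠ 0 → Function.Injective (fun b : B => ν (a ⊗ₜ[ℂ] b)))
    (hB : ∀ b : B, b ≠ 0 → Function.Injective (fun a : A => ν (a ⊗ₜ[ℂ] b))) :
    Module.finrank ℂ A + Module.finrank ℂ B ≤ Module.finrank ℂ (LinearMap.range ν) + 1 := by
  classical
  let eA := Module.finBasis ℂ A
  let eB := Module.finBasis ℂ B
  let eC := Module.finBasis ℂ (LinearMap.range ν)
  have hAp : 0 < Module.finrank ℂ A := Module.finrank_pos
  have hBp : 0 < Module.finrank ℂ B := Module.finrank_pos
  refine core _ _ _ hAp hBp (fun t i j => eC.repr (ν.rangeRestrict (eA i ⊗ₜ eB j)) t) fun u v hu h => ?_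
  have hzero : ν.rangeRestrict (eA.equivFun.symm u ⊗ₜ eB.equivFun.symm v) = 0 := by
    refine eC.repr.injective (Finsupp.ext fun t => ?_)
    rw [map_zero, Finsupp.zero_apply, ← h t]
    simp only [Module.Basis.equivFun_symm_apply, TensorProduct.sum_tmul, TensorProduct.tmul_sum,
      map_sum, Finsupp.finset_sum_apply, ← TensorProduct.smul_tmul', TensorProduct.tmul_smul,
      map_smul, Finsupp.smul_apply, smul_eq_mul, mul_assoc]
    rw [Finset.sum_comm]; simp only [Finset.mul_sum]; exact Finset.sum_congr rfl fun _ _ => Finset.sum_congr rfl fun _ _ => by ring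
  have hu' : eA.equivFun.symm u ≠ 0 := fun h0 => hu (eA.equivFun.symm.injective (h0.trans (map_zero _).symm))
  have hv : eB.equivFun.symm v = 0 := hA _ hu' (by
    have := congrArg Subtype.val hzero
    simpa using this)
  exact eB.equivFun.symm.injective (hv.trans (map_zero _).symm)

end Groth.Agent.S19546
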