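import Groth.Statements.S19547
import Mathlib.RingTheory.Flat.Equalizer

set_option autoImplicit false
universe u
open TensorProduct
open Desc

namespace Groth.Agent.S19547

/-- Let A → A' be a faithfully flat homomorphism of commutative rings, M' an A'-module and φ : M' ⊗_A A'
→ A' ⊗_A M' an isomorphism of (A' ⊗_A A')-modules for the diagonal actions (x ⊗ y)(u ⊗ z) = xu ⊗ yz
and (x ⊗ y)(z ⊗ u) = xz ⊗ yu, satisfying the cocycle condition φ_13 = φ_23 ∘ φ_12 between the three
pullbacks to A' ⊗_A A' ⊗_A A'. Here linearity over A' ⊗_A A' is stated on the generators x ⊗ 1 and 1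
⊗ y, and the cocycle condition on pure tensors u ⊗ a ⊗ b: writing φ(u ⊗ a) = Σ a_i ⊗ u_i, it says Σ
a_i ⊗ φ(u_i ⊗ b) = Σ b_j ⊗ a ⊗ u'_j where φ(u ⊗ b) = Σ b_j ⊗ u'_j. Let M = {u ∈ M' : φ(u ⊗ 1) = 1 ⊗
u}, an A-submodule of M'. Then the canonical map λ : A' ⊗_A M → M', x ⊗ u ↦ xu, is an isomorphism. -/
theorem result (A A' : Type u) [CommRing A] [CommRing A']
    [Algebra A A'] [Module.FaithfullyFlat A A'] (M' : Type u) [AddCommGroup M'] [Module A M']
    [Module A' M'] [IsScalarTower A A' M']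
    (φ : M' ⊗[A] A' →ₗ[A] A' ⊗[A] M') (hφ : Function.Bijective φ)
    (h1 : ∀ (x : A') (u : M') (z : A'),
      φ ((x • u) ⊗ₜ[A] z) = LinearMap.rTensor M' (LinearMap.mulLeft A x) (φ (u ⊗ₜ[A] z)))
    (h2 : ∀ (y : A') (u : M') (z : A'),
      φ (u ⊗ₜ[A] (y * z)) = LinearMap.lTensor A' (Algebra.lsmul A A M' y) (φ (u ⊗ₜ[A] z)))
    (hcoc : ∀ (u : M') (a b : A'),
      LinearMap.lTensor A' φ (TensorProduct.assoc A A' M' A' (LinearMap.rTensor A' φ ((u ⊗ₜ[A] a) ⊗ₜ[A] b))) =
        LinearMap.lTensor A' (TensorProduct.mk A A' M' a) (φ (u ⊗ₜ[A] b)))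
    (M : Submodule A M') (hM : ∀ u : M', u ∈ M ↔ φ (u ⊗ₜ[A] (1 : A')) = (1 : A') ⊗ₜ[A] u) :
    Function.Bijective
      ((TensorProduct.lift (Algebra.lsmul A A M').toLinearMap) ∘ₗ (LinearMap.lTensor A' M.subtype)) := by
  let α : M' →ₗ[A] A' ⊗[A] M' := φ ∘ₗ (TensorProduct.mk A M' A').flip 1
  let β : M' →ₗ[A] A' ⊗[A] M' := TensorProduct.mk A A' M' 1
  obtain rfl : M = LinearMap.eqLocus α β := Submodule.ext fun u => hM u
  let μ : A' ⊗[A] M' →ₗ[A] M' := TensorProduct.lift (Algebra.lsmul A A M').toLinearMap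
  set i := LinearMap.lTensor A' (LinearMap.eqLocus α β).subtype
  have hi : Function.Injective i :=
    Module.Flat.lTensor_preserves_injective_linearMap (M := A') _ (Submodule.injective_subtype _)
  have hαinj : Function.Injective α := by
    intro u v huv
    have := hφ.1 huv
    have h := congrArg (TensorProduct.lift (Algebra.lsmul A A M').toLinearMap.flip) this
    simpa using h
  have hrange : ∀ u, α u ∈ LinearMap.range i := by
    intro u
    have e : LinearMap.lTensor A' α (α u) = LinearMap.lTensor A' β (α u) := by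
      have aux : ∀ w : A' ⊗[A] M', LinearMap.lTensor A' α w =
          LinearMap.lTensor A' φ (TensorProduct.assoc A A' M' A' (w ⊗ₜ[A] (1 : A'))) := by
        intro w
        induction w with
        | zero => simp
        | add a b ha hb => simp only [map_add, TensorProduct.add_tmul, ha, hb]
        | tmul a m => simp [α]
      rw [aux]
      simpa [α, β] using hcoc u 1 1
    have h := SetLike.ext_iff.mp (Module.Flat.eqLocus_lTensor_eq (R := A) A A' α β) (α u)
    exact h.mp e
  have hαμ : ∀ z, α (μ (i z)) = i z := by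
    intro z
    induction z with
    | zero => simp
    | add a b ha hb => simp only [map_add, ha, hb]
    | tmul a m =>
      have hm : φ ((m : M') ⊗ₜ[A] (1 : A')) = (1 : A') ⊗ₜ[A] (m : M') := m.2
      simp [α, μ, i, h1, hm]
  constructor
  · intro x y hxy
    apply hi
    rw [← hαμ x, ← hαμ y]
    exact congrArg α hxy
  · intro u
    obtain ⟨z, hz⟩ := hrange u
    refine ⟨z, hαinj ?_⟩
    show α (μ (i z)) = α u
    rw [hαμ, hz]

end Groth.Agent.S19547
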