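import Groth.Statements.S19548
import Groth.Agent.H21Root.Inversions

set_option autoImplicit false
universe u
open CategoryTheory AlgebraicGeometry
open RedSub

namespace Groth.Agent.S19548


/-- Let Φ be a finite reduced root system (a reduced root pairing over ℤ on a finite index set) with a
base b, let w = σ_{α_1} ⋯ σ_{α_ℓ} be a reduced decomposition of a Weyl group element into simple
reflections (every α_j in the base, and no shorter word in the simple reflections gives the same
permutation of the roots), and let γ be a positive root with w⁻¹(γ) negative. Then for some i with 1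
≤ i ≤ ℓ one has σ_γ σ_{α_1} ⋯ σ_{α_i} = σ_{α_1} ⋯ σ_{α_{i-1}}. (Indices are shifted by one below:
the word is a list and the prefixes are its first i + 1 and first i letters.) -/
theorem result {idx M N : Type}
    [AddCommGroup M] [AddCommGroup N] [Finite idx]
    (P : RootPairing idx ℤ M N) [P.IsReduced] (b : P.Base) (l : List idx)
    (hl : ∀ a ∈ l, a ∈ b.support)
    (hred : ∀ l' : List idx, (∀ a ∈ l', a ∈ b.support) →
      RedSub.wordPerm P l' = RedSub.wordPerm P l → l.length ≤ l'.length)
    (c : idx) (hc : c ∈ RedSub.posRoots P b) (hneg : (RedSub.wordPerm P l).symm c ∈ RedSub.negRoots P b) :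
    ∃ i : ℕ, i < l.length ∧
      P.reflectionPerm c * RedSub.wordPerm P (l.take (i + 1)) = RedSub.wordPerm P (l.take i) := by
  rw [H21Root.mem_posRoots] at hc
  rw [H21Root.mem_negRoots, H21Root.wordPerm_symm_apply] at hneg
  obtain ⟨i, hi, he⟩ := (H21Root.simpleZ_base b).exchange hl hc hneg
  refine ⟨i, hi, Equiv.ext fun x => ?_⟩
  rw [Equiv.Perm.mul_apply, H21Root.wordPerm_apply, H21Root.wordPerm_apply, ← he, mul_smul]
  rfl

end Groth.Agent.S19548
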