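import Groth.Statements.S19552
import Groth.Agent.H3CAlg.BassCancel

set_option autoImplicit false
universe u
open CAlg

namespace Groth.Agent.S19552

/-- Let R be a Noetherian ring of Krull dimension d and P, Q finitely generated projective R-modules of
constant rank at every prime which have the same class in the Grothendieck group, i.e. are stably
isomorphic: P ⊕ R^m ≅ Q ⊕ R^m for some m. Then there is a positive integer N with P^N ≅ Q^N. (The
two exponents in the published display are read as the same integer N; for modules of positive rank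
an isomorphism between direct powers forces equal exponents.) -/
theorem result (R : Type u) [CommRing R] [IsNoetherianRing R]
    (d n : ℕ) (hdim : ringKrullDim R = d)
    (P Q : Type u) [AddCommGroup P] [Module R P] [Module.Finite R P] [Module.Projective R P]
    [AddCommGroup Q] [Module R Q] [Module.Finite R Q] [Module.Projective R Q]
    (hrk : ∀ p : PrimeSpectrum R, Module.rankAtStalk (R := R) P p = n)
    (hrk' : ∀ p : PrimeSpectrum R, Module.rankAtStalk (R := R) Q p = n)
    (m : ℕ) (e : (P × (Fin m → R)) ≃ₗ[R] (Q × (Fin m → R))) :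
    ∃ N : ℕ, 1 ≤ N ∧ Nonempty ((Fin N → P) ≃ₗ[R] (Fin N → Q)) := by
  rcases Nat.eq_zero_or_pos n with rfl | hn
  · haveI : Subsingleton P := Module.rankAtStalk_eq_zero_iff_subsingleton.mp (funext hrk)
    haveI : Subsingleton Q := Module.rankAtStalk_eq_zero_iff_subsingleton.mp (funext hrk')
    exact ⟨1, le_rfl, ⟨LinearEquiv.ofSubsingleton _ _⟩⟩
  refine ⟨d + 1, Nat.le_add_left 1 d, ?_⟩
  let W := Fin (d + 1) → Fin m → R
  let b : W ≃ₗ[R] (Fin ((d + 1) * m) → R) :=
    (LinearEquiv.curry R R (Fin (d + 1)) (Fin m)).symm ≪≫ₗ LinearEquiv.funCongrLeft R R finProdFinEquiv.symm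
  let sp : ∀ (N : Type u) [AddCommGroup N] [Module R N],
      (Fin (d + 1) → N × (Fin m → R)) ≃ₗ[R] ((Fin (d + 1) → N) × (Fin ((d + 1) * m) → R)) := fun N _ _ =>
    { toFun := fun v => (fun i => (v i).1, b fun i => (v i).2)
      invFun := fun w => fun i => (w.1 i, b.symm w.2 i)
      left_inv := fun v => by simp
      right_inv := fun w => Prod.ext rfl (b.apply_symm_apply w.2)
      map_add' := fun v w => by
        refine Prod.ext rfl ?_
        show b _ = b _ + b _
        rw [← map_add]; rfl
      map_smul' := fun c v => by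
        refine Prod.ext rfl ?_
        show b _ = c • b _
        rw [← map_smul]; rfl }
  haveI : Module.Projective R (Fin (d + 1) → P) :=
    Module.Projective.of_equiv (DFinsupp.linearEquivFunOnFintype : (Π₀ _ : Fin (d + 1), P) ≃ₗ[R] _)
  refine Groth.Agent.H3CAlg.BassCancel.cancel (M := Fin (d + 1) → P) hdim.le (fun x => ?_) _
    ((sp P).symm ≪≫ₗ LinearEquiv.piCongrRight (fun _ : Fin (d + 1) => e) ≪≫ₗ sp Q)
  rw [Module.rankAtStalk_pi, finsum_eq_sum_of_fintype, Finset.sum_congr rfl (fun _ _ => hrk x)]
  simp only [Finset.sum_const, Finset.card_univ, Fintype.card_fin, smul_eq_mul]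
  exact Nat.le_mul_of_pos_right _ hn

end Groth.Agent.S19552
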