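import Groth.Statements.S19560

set_option autoImplicit false
universe u
open W4c1limliniiii

namespace Groth.Agent.S19560

open Polynomial

lemma key {k : Type*} [Field k] (p : ℕ) [CharP k p] (F G : k[X]) (hW : Polynomial.wronskian F G ≠ 0) (a : k) (e : ℕ)
    (he : (Polynomial.wronskian F G).rootMultiplicity a + 1 = e) (hp : p = 0 ∨ e - 1 < p)
    (hF : F.eval a ≠ 0) (hG : G.eval a = 0) :
    W4c1limliniiii.HasRamIdx (Submodule.span k {F, G}) a e ∧ ¬ p ∣ e := by
  have hG0 : G ≠ 0 := fun h => hW (by simp [h, Polynomial.wronskian])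
  obtain ⟨g, hGe, hgd⟩ := G.exists_eq_pow_rootMultiplicity_mul_and_not_dvd hG0 a
  have hm : 0 < G.rootMultiplicity a := (rootMultiplicity_pos hG0).2 hG
  obtain ⟨m, hm'⟩ : ∃ m, G.rootMultiplicity a = m + 1 := ⟨_, (Nat.sub_add_cancel hm).symm⟩
  rw [hm'] at hGe
  obtain ⟨B, hB⟩ : ∃ B, B = F * (C ((m : k) + 1) * g + (X - C a) * derivative g) - derivative F * ((X - C a) * g) :=
    ⟨_, rfl⟩
  have hWB : Polynomial.wronskian F G = (X - C a) ^ m * B := by
    rw [Polynomial.wronskian, hGe, hB, derivative_mul, derivative_pow, derivative_X_sub_C]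
    simp only [Nat.cast_add, Nat.cast_one, Nat.add_sub_cancel, mul_one]
    ring
  have hB0 : B ≠ 0 := fun h => hW (by rw [hWB, h, mul_zero])
  have hord : (Polynomial.wronskian F G).rootMultiplicity a = m + B.rootMultiplicity a := by
    rw [hWB, rootMultiplicity_mul (by rw [← hWB]; exact hW), rootMultiplicity_X_sub_C_pow]
  have hga : g.eval a ≠ 0 := fun h => hgd (dvd_iff_isRoot.2 h)
  have hBa : B.eval a = ((m : k) + 1) * (F.eval a * g.eval a) := by simp [hB]; ring
  have hne : ((m : k) + 1) ≠ 0 := by
    intro h
    have h1 : 0 < B.rootMultiplicity a := (rootMultiplicity_pos hB0).2 (by simp [IsRoot, hBa, h])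
    have h' : ((m + 1 : ℕ) : k) = 0 := by exact_mod_cast h
    rw [CharP.cast_eq_zero_iff k p] at h'
    rcases hp with hp | hp
    · subst hp; simp at h'
    · have := Nat.le_of_dvd (by omega) h'
      omega
  have hB1 : B.rootMultiplicity a = 0 := rootMultiplicity_eq_zero (by simp [IsRoot, hBa, hne, hF, hga])
  have hem : e = G.rootMultiplicity a := by omega
  refine ⟨⟨⟨G, Submodule.subset_span (by simp), hG0, hem.le⟩, fun s hs hs0 => ?_⟩, ?_⟩
  · obtain ⟨x, y, rfl⟩ := Submodule.mem_span_pair.1 hs
    by_cases hx : x = 0
    · subst hx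
      have hy : y ≠ 0 := fun h => hs0 (by simp [h])
      have : (y • G).rootMultiplicity a = G.rootMultiplicity a := by
        rw [smul_eq_C_mul, rootMultiplicity_mul (mul_ne_zero (by simpa using hy) hG0), rootMultiplicity_C, zero_add]
      simp [this, hem]
    · rw [rootMultiplicity_eq_zero (by simp [IsRoot, hG, hx, hF])]
      exact Nat.zero_le _
  · intro h
    have h' : ((e : ℕ) : k) = 0 := (CharP.cast_eq_zero_iff k p e).2 h
    rw [hem, hm'] at h'
    exact hne (by exact_mod_cast h')


open Polynomial in
/-- Let k be an algebraically closed field of characteristic p (a prime or zero) and let F, G be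
polynomials spanning a base-point-free pencil V of degree d (a two-dimensional space of polynomials
of degree at most d containing one of degree d and with no common zero in k), so that V encodes a
degree-d self-map F/G of the projective line up to automorphisms of the target. Suppose the
Wronskian W = F′G − FG′ is non-zero and vanishes at the point a to order exactly e − 1 with e ≥ 1,
and that p = 0 or e − 1 < p. Then the map is tamely ramified at a with index e: the largest order of
vanishing at a of a non-zero member of V is e, and p does not divide e. (The hypothesis W ≠ 0 makes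
the order of vanishing meaningful; for W = 0 the map is inseparable.) -/
theorem result
    (k : Type u) [Field k] [IsAlgClosed k] (p : ℕ) [CharP k p]
    (d : ℕ) (F G : k[X]) (hV : W4c1limliniiii.IsPencil d (Submodule.span k {F, G}))
    (hW : Polynomial.wronskian F G ≠ 0) (a : k) (e : ℕ)
    (he : (Polynomial.wronskian F G).rootMultiplicity a + 1 = e) (hp : p = 0 ∨ e - 1 < p) :
    W4c1limliniiii.HasRamIdx (Submodule.span k {F, G}) a e ∧ ¬ p ∣ e := by
  obtain ⟨-, hdim, -, hnc⟩ := hV
  by_cases hF : F.eval a = 0
  · have hG : G.eval a ≠ 0 := fun hG => by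
      obtain ⟨s, hs, hsa⟩ := hnc a
      obtain ⟨x, y, rfl⟩ := Submodule.mem_span_pair.1 hs
      exact hsa (by simp [hF, hG])
    have hneg := Polynomial.wronskian_neg_eq F G
    rw [Set.pair_comm]
    refine key p G F (by rw [← hneg]; simpa using hW) a e ?_ hp hG hF
    rw [← hneg, neg_eq_neg_one_mul, ← C_1, ← C_neg, rootMultiplicity_mul (mul_ne_zero (by simp) hW),
      rootMultiplicity_C, zero_add, he]
  · have hspan : Submodule.span k {F, G} = Submodule.span k {F, F.eval a • G - G.eval a • F} := by
      refine le_antisymm (Submodule.span_le.2 ?_) (Submodule.span_le.2 ?_) <;>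
        simp only [Set.insert_subset_iff, Set.singleton_subset_iff, SetLike.mem_coe, Submodule.mem_span_pair] <;>
        constructor
      · exact ⟨1, 0, by simp⟩
      · exact ⟨G.eval a / F.eval a, (F.eval a)⁻¹, by simp [smul_sub, smul_smul, hF, div_eq_inv_mul]⟩
      · exact ⟨1, 0, by simp⟩
      · exact ⟨-G.eval a, F.eval a, by rw [neg_smul]; abel⟩
    have hWs : Polynomial.wronskian F (F.eval a • G - G.eval a • F) = C (F.eval a) * Polynomial.wronskian F G := by
      simp only [Polynomial.wronskian, smul_eq_C_mul, derivative_sub, derivative_C_mul]; ring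
    rw [hspan]
    refine key p F _ (by rw [hWs]; exact mul_ne_zero (by simpa using hF) hW) a e ?_ hp hF (by simp [mul_comm])
    rw [hWs, rootMultiplicity_mul (mul_ne_zero (by simpa using hF) hW), rootMultiplicity_C, zero_add, he]

end Groth.Agent.S19560
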