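import Groth.Statements.S19562
import Mathlib

set_option autoImplicit false
universe u
open W4c1limliniiii

namespace Groth.Agent.S19562

lemma key {k : Type u} [Field k] {M N : Type u} [AddCommGroup M] [Module k M] [FiniteDimensional k M]
    [AddCommGroup N] [Module k N] [FiniteDimensional k N] (F : M →ₗ[k] N) (G : N →ₗ[k] M)
    (hFG : F.comp G = 0) (W : Submodule k M) (W' : Submodule k N) (hG : W'.map G ≤ W) (r : ℕ)
    (hW : Module.finrank k W = r) :
    LinearMap.ker F ⊓ W ≤ W'.map G ↔ Module.finrank k (W.map F) + Module.finrank k (W'.map G) = r := by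
  have h1 := LinearMap.finrank_range_add_finrank_ker (F.comp W.subtype)
  rw [LinearMap.range_comp, Submodule.range_subtype, hW] at h1
  have h2 : Module.finrank k (LinearMap.ker (F.comp W.subtype)) = Module.finrank k ↥(LinearMap.ker F ⊓ W) := by
    rw [inf_comm, LinearMap.ker_comp, ← Submodule.map_comap_subtype, Submodule.finrank_map_subtype_eq]
  have hle : W'.map G ≤ LinearMap.ker F ⊓ W := le_inf (by
    rintro _ ⟨x, -, rfl⟩
    exact congr($hFG x)) hG
  constructor
  · intro h
    have := Submodule.finrank_mono h
    have := Submodule.finrank_mono hle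
    omega
  · intro h
    exact (Submodule.eq_of_le_of_finrank_eq hle (by omega)).ge

open TensorProduct in
/-- Let k be a field, 0 < r < d, and f_i, g_i (i < n) linear maps forward and backward between
consecutive ones of n + 1 copies of k^d, forming a linked Grassmannian over Spec k whose scalar s is
zero: every composite f_i ∘ g_i and g_i ∘ f_i vanishes, rank f_i + rank g_i ≥ d, and for consecutive
indices im f_i ∩ ker f_{i+1} = 0 and im g_{i+1} ∩ ker g_i = 0. Let (V_i) be a k-valued point of the
linked Grassmannian of rank-r sub-bundles (subspaces V_i of k ⊗ k^d with quotient of rank d − r,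
with f_i(V_i) ⊆ V_{i+1} and g_i(V_{i+1}) ⊆ V_i). Then (V_i) is exact, meaning ker g_i ∩ V_{i+1} ⊆
f_i(V_i) and ker f_i ∩ V_i ⊆ g_i(V_{i+1}) for all i, if and only if dim f_i(V_i) + dim g_i(V_{i+1})
= r for all i. (The published assertion is for points with values in an arbitrary scheme and also
says that f_i(V_i) and g_i(V_{i+1}) are then sub-bundles; this row is the case of a field, where the
last clause is empty.) -/
theorem result (k : Type u) [Field k]
    (d r n : ℕ) (hr : 0 < r) (hrd : r < d) (f g : Fin n → ((Fin d → k) →ₗ[k] (Fin d → k)))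
    (hI : ∀ i, (f i).comp (g i) = 0 ∧ (g i).comp (f i) = 0)
    (hII : ∀ i, d ≤ Module.finrank k (LinearMap.range (f i)) + Module.finrank k (LinearMap.range (g i)))
    (hIII : ∀ i j : Fin n, i.val + 1 = j.val →
      LinearMap.range (f i) ⊓ LinearMap.ker (f j) = ⊥ ∧
        LinearMap.range (g j) ⊓ LinearMap.ker (g i) = ⊥)
    (V : Fin (n + 1) → Module.Grassmannian k (k ⊗[k] (Fin d → k)) (d - r))
    (hV : V ∈ W4c1limliniiii.LGPoints k d r n f g k) :
    W4c1limliniiii.IsExact k d r n f g k V ↔
      ∀ i : Fin n,
        Module.finrank k ↥(Submodule.map ((f i).baseChange k) (V i.castSucc).toSubmodule) +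
          Module.finrank k ↥(Submodule.map ((g i).baseChange k) (V i.succ).toSubmodule) = r := by
  have hrank : ∀ j, Module.finrank k (V j).toSubmodule = r := fun j => by
    have h1 := (V j).rankAtStalk_eq ⟨⊥, Ideal.isPrime_bot⟩
    rw [Module.rankAtStalk_eq_finrank_of_free] at h1
    have h2 : Module.finrank k (k ⊗[k] (Fin d → k)) = d := by
      rw [Module.finrank_tensorProduct, Module.finrank_self, Module.finrank_fin_fun, one_mul]
    have h3 := Submodule.finrank_quotient_add_finrank (V j).toSubmodule
    simp only [Pi.natCast_apply, Nat.cast_id] at h1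
    omega
  refine forall_congr' fun i => ?_
  have hfg : ((f i).baseChange k).comp ((g i).baseChange k) = 0 := by
    rw [← LinearMap.baseChange_comp, (hI i).1, LinearMap.baseChange_zero]
  have hgf : ((g i).baseChange k).comp ((f i).baseChange k) = 0 := by
    rw [← LinearMap.baseChange_comp, (hI i).2, LinearMap.baseChange_zero]
  have e1 := key ((g i).baseChange k) ((f i).baseChange k) hgf (V i.succ).toSubmodule (V i.castSucc).toSubmodule
    (hV i).1 r (hrank _)
  have e2 := key ((f i).baseChange k) ((g i).baseChange k) hfg (V i.castSucc).toSubmodule (V i.succ).toSubmodule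
    (hV i).2 r (hrank _)
  rw [e1, e2]
  omega

end Groth.Agent.S19562
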