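import Groth.Statements.S19565
import Groth.Agent.H21Root.Simple

set_option autoImplicit false
universe u v w
open RootComb

namespace Groth.Agent.S19565

open Groth.Agent.H21Root RootPairing

/-- Let Φ be a finite reduced crystallographic irreducible root system over a field of characteristic
zero, Δ a base of simple roots, I ⊆ Δ, and suppose the simple roots outside I are split into two
disjoint non-empty sets A and B. Then there are a simple root β ∈ A and a root δ such that δ is a
non-negative integer combination of the simple roots of I ∪ B (a positive root whose support avoids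
A), δ is not in the linear span of I (so δ is not a root of the Levi subsystem of I), and ⟨δ, β^∨⟩ <
0. (The published statement is made for the root system of a semisimple group; for a reducible
system such as A₁ × A₁ with I empty and A, B the two simple roots there is no such δ, and the
argument measures distances in a connected Dynkin diagram, so the root system is taken irreducible
here.) -/
theorem result
    {ι : Type u} [Finite ι] [DecidableEq ι] {k : Type v} [Field k] [CharZero k]
    {M : Type w} [AddCommGroup M] [Module k M] {N : Type w} [AddCommGroup N] [Module k N]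
    (P : RootPairing ι k M N) [P.IsCrystallographic] [P.IsReduced] [P.IsIrreducible] (b : P.Base)
    (I A B : Finset ι) (hcover : I ∪ A ∪ B = b.support) (hIA : Disjoint I A) (hIB : Disjoint I B)
    (hAB : Disjoint A B) (hA : A.Nonempty) (hB : B.Nonempty) :
    ∃ l ∈ A, ∃ j : ι, P.root j ∈ AddSubmonoid.closure (P.root '' ↑(I ∪ B)) ∧
      P.root j ∉ Submodule.span k (P.root '' ↑I) ∧ P.pairingIn ℤ j l < 0 := by
  classical
  have hZ := simpleZ_base b
  let T : Set ι := {j | P.root j ∈ AddSubmonoid.closure (P.root '' ↑(I ∪ B)) ∧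
    P.root j ∉ Submodule.span k (P.root '' ↑I)}
  by_contra hcon
  simp only [not_exists, not_and] at hcon
  have hsub : (↑(I ∪ B) : Set ι) ⊆ ↑b.support := by
    rw [← hcover]; intro x hx; simp at hx ⊢; rcases hx with h | h <;> simp [h]
  have hli : LinearIndepOn k P.root (b.support : Set ι) := b.linearIndepOn_root
  have hnm : ∀ {S : Set ι} {x : ι}, S ⊆ ↑b.support → x ∈ b.support → x ∉ S →
      P.root x ∉ Submodule.span k (P.root '' S) := fun {S x} hS hx hxS =>
    (hli.mono (Set.insert_subset hx hS)).notMem_span_of_insert hxS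
  have hB' : ∀ x ∈ B, x ∈ T := by
    intro x hx
    refine ⟨AddSubmonoid.subset_closure ⟨x, by simp [hx], rfl⟩, ?_⟩
    refine hnm (by intro y hy; exact hsub (by simp at hy ⊢; exact Or.inl hy))
      (hsub (by simp [hx])) (fun h => Finset.disjoint_left.mp hIB h hx)
  -- simple roots occurring in some member of `T`
  let U : Set ι := {s | ∃ j ∈ T, ∃ m : Multiset ι, (∀ a ∈ m, a ∈ I ∪ B) ∧ rsum P m = P.root j ∧ s ∈ m}
  have hUsub : U ⊆ ↑(I ∪ B) := fun s ⟨_, _, m, hm, _, hs⟩ => hm s hs
  have hnonpos : ∀ x ∈ b.support, ∀ y ∈ b.support, x ≠ y → P.pairingIn ℤ x y ≤ 0 :=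
    fun x hx y hy h => b.pairingIn_le_zero_of_ne h hx hy
  have hUorth : ∀ s ∈ U, ∀ l ∈ b.support, l ∉ U → P.pairingIn ℤ s l = 0 := by
    rintro s ⟨j, ⟨hj, hjI⟩, m, hm, he, hs⟩ l hl hlU
    by_contra hne
    have hlm : l ∉ m := fun h => hlU ⟨j, ⟨hj, hjI⟩, m, hm, he, h⟩
    have hneg : P.pairingIn ℤ j l < 0 := by
      obtain ⟨m', rfl⟩ := Multiset.exists_cons_of_mem hs
      rw [← sum_pairingIn_eq P he (j := l) (z := P.pairingIn ℤ j l)
        (by rw [root_coroot'_eq_pairing, cast_pairingIn]), Multiset.map_cons, Multiset.sum_cons]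
      have hsl : s ≠ l := fun e => hlm (e ▸ Multiset.mem_cons_self s m')
      have h1 := lt_of_le_of_ne (hnonpos s (hsub (hm s (Multiset.mem_cons_self s m'))) l hl hsl) hne
      have h2 : ∀ p : Multiset ι, (∀ x ∈ p, x ∈ I ∪ B ∧ x ≠ l) → (p.map fun a => P.pairingIn ℤ a l).sum ≤ 0 := by
        intro p hp
        induction p using Multiset.induction with
        | empty => simp
        | cons x p ih =>
          rw [Multiset.map_cons, Multiset.sum_cons]
          obtain ⟨hx1, hx2⟩ := hp x (Multiset.mem_cons_self x p)
          exact add_nonpos (hnonpos x (hsub hx1) l hl hx2) (ih fun y hy => hp y (Multiset.mem_cons_of_mem hy))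
      have h3 := h2 m' fun x hx => ⟨hm x (Multiset.mem_cons_of_mem hx), fun e => hlm (e ▸ Multiset.mem_cons_of_mem hx)⟩
      lia
    by_cases hlA : l ∈ A
    · exact hcon l hlA j hj hjI hneg
    · have hlIB : l ∈ I ∪ B := by
        rw [← hcover] at hl
        simp only [Finset.mem_union] at hl ⊢
        tauto
      obtain ⟨p, hp⟩ := exists_add_root P hneg fun e => by
        have := (rsum_eq_zero_iff P hZ.li (m := l ::ₘ m) (fun x hx => by
          rcases Multiset.mem_cons.mp hx with rfl | hx
          exacts [hl, hsub (hm x hx)])).mp (by rw [rsum_cons, he, e, add_neg_cancel])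
        exact Multiset.cons_ne_zero this
      have hpI : P.root p ∉ Submodule.span k (P.root '' ↑I) := by
        rw [hp]
        by_cases hlI : l ∈ I
        · exact fun h => hjI ((Submodule.add_mem_iff_left _ (Submodule.subset_span (Set.mem_image_of_mem P.root (Finset.mem_coe.mpr hlI)))).mp h)
        · have hlB : l ∈ B := (Finset.mem_union.mp hlIB).resolve_left hlI
          exact (hlU ⟨l, hB' l hlB, {l}, by simpa using hlIB, by simp, Multiset.mem_singleton_self l⟩).elim
      refine hlU ⟨p, ⟨?_, hpI⟩, l ::ₘ m, fun x hx => ?_, by rw [rsum_cons, he, hp, add_comm],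
        Multiset.mem_cons_self l m⟩
      · rw [hp]
        exact AddSubmonoid.add_mem _ hj (AddSubmonoid.subset_closure ⟨l, hlIB, rfl⟩)
      · rcases Multiset.mem_cons.mp hx with rfl | hx
        exacts [hlIB, hm x hx]
  obtain ⟨x₀, hx₀⟩ := hB
  obtain ⟨a₀, ha₀⟩ := hA
  have hx₀U : x₀ ∈ U := ⟨x₀, hB' x₀ hx₀, {x₀}, by simpa using Or.inr hx₀, by simp, Multiset.mem_singleton_self x₀⟩
  have hinv : ∀ i, Submodule.span k (P.root '' U) ∈ Module.End.invtSubmodule (P.reflection i).toLinearMap := by
    rw [← b.forall_mem_support_invtSubmodule_iff]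
    intro i hi
    rw [Module.End.mem_invtSubmodule, Submodule.span_le]
    rintro _ ⟨s, hs, rfl⟩
    change P.reflection i (P.root s) ∈ Submodule.span k (P.root '' U)
    rw [reflection_apply_root]
    by_cases hiU : i ∈ U
    · exact sub_mem (Submodule.subset_span ⟨s, hs, rfl⟩) (Submodule.smul_mem _ _ (Submodule.subset_span ⟨i, hiU, rfl⟩))
    · rw [← cast_pairingIn, hUorth s hs i hi hiU, Int.cast_zero, zero_smul, sub_zero]
      exact Submodule.subset_span ⟨s, hs, rfl⟩
  have htop := IsIrreducible.eq_top_of_invtSubmodule_reflection (P := P) _ hinv (fun h => by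
    have : P.root x₀ ∈ Submodule.span k (P.root '' U) := Submodule.subset_span ⟨x₀, hx₀U, rfl⟩
    rw [h, Submodule.mem_bot] at this
    exact P.ne_zero x₀ this)
  have ha₀s : a₀ ∈ b.support := by rw [← hcover]; simp [ha₀]
  have ha₀U : a₀ ∉ U := fun h => by
    rcases Finset.mem_union.mp (hUsub h) with h' | h'
    · exact Finset.disjoint_left.mp hIA h' ha₀
    · exact Finset.disjoint_left.mp hAB ha₀ h'
  exact hnm (hUsub.trans hsub) ha₀s ha₀U (htop ▸ Submodule.mem_top)

end Groth.Agent.S19565
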