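import Groth.Statements.S19567
import Groth.Agent.H9Hens.EtNbhd
import Mathlib.RingTheory.Etale.Basic
import Mathlib.RingTheory.Unramified.Finite
-- import your own Groth.Agent.* helpers here

set_option autoImplicit false
universe u
open Hensel

namespace Groth.Agent.S19567

open scoped TensorProduct

/-- Let A be a ring and I an ideal of A, and consider étale A-algebras A' for which the induced map A/I
→ A'/IA' is bijective. (1) For any two such algebras A₁ and A₂ there is a third such algebra A₃
admitting A-algebra maps from both. (2) For any two A-algebra maps f, g : A₁ → A₂ between such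
algebras there are such an algebra A₃ and an A-algebra map h : A₂ → A₃ with h ∘ f = h ∘ g. (All
algebras are taken in the universe of A. Since A itself is such an algebra, (1) and (2) say that the
category of these algebras and A-algebra maps is filtered.) -/
theorem result (A : Type u) [CommRing A] (I : Ideal A) :
    (∀ (A₁ A₂ : Type u) [CommRing A₁] [Algebra A A₁] [Algebra.Etale A A₁] [CommRing A₂] [Algebra A A₂]
        [Algebra.Etale A A₂],
        Function.Bijective (Ideal.quotientMap (I.map (algebraMap A A₁)) (algebraMap A A₁) Ideal.le_comap_map) →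
        Function.Bijective (Ideal.quotientMap (I.map (algebraMap A A₂)) (algebraMap A A₂) Ideal.le_comap_map) →
          ∃ (A₃ : Type u) (_ : CommRing A₃) (_ : Algebra A A₃) (_ : Algebra.Etale A A₃),
            Function.Bijective (Ideal.quotientMap (I.map (algebraMap A A₃)) (algebraMap A A₃) Ideal.le_comap_map) ∧
              Nonempty (A₁ →ₐ[A] A₃) ∧ Nonempty (A₂ →ₐ[A] A₃)) ∧
    (∀ (A₁ A₂ : Type u) [CommRing A₁] [Algebra A A₁] [Algebra.Etale A A₁] [CommRing A₂] [Algebra A A₂]
        [Algebra.Etale A A₂],
        Function.Bijective (Ideal.quotientMap (I.map (algebraMap A A₁)) (algebraMap A A₁) Ideal.le_comap_map) →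
        Function.Bijective (Ideal.quotientMap (I.map (algebraMap A A₂)) (algebraMap A A₂) Ideal.le_comap_map) →
          ∀ (f g : A₁ →ₐ[A] A₂),
            ∃ (A₃ : Type u) (_ : CommRing A₃) (_ : Algebra A A₃) (_ : Algebra.Etale A A₃),
              Function.Bijective (Ideal.quotientMap (I.map (algebraMap A A₃)) (algebraMap A A₃) Ideal.le_comap_map) ∧
                ∃ h : A₂ →ₐ[A] A₃, h.comp f = h.comp g) := by
  refine ⟨fun A₁ A₂ => ?_, fun A₁ A₂ => ?_⟩
  · intro _ _ _ _ _ _ h₁ h₂
    obtain ⟨σ₁⟩ := H9Hens.exists_section_of_bijective h₁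
    obtain ⟨σ₂⟩ := H9Hens.exists_section_of_bijective h₂
    have : Algebra.Etale A (A₁ ⊗[A] A₂) := Algebra.Etale.comp A A₁ (A₁ ⊗[A] A₂)
    obtain ⟨T, _, _, hT, ψ, -, hbij, -⟩ := H9Hens.exists_etale_nbhd (A₁ ⊗[A] A₂)
      (Algebra.TensorProduct.lift σ₁ σ₂ fun _ _ => Commute.all _ _) 1
      (by rw [map_one]; exact isUnit_one)
    exact ⟨T, inferInstance, inferInstance, hT, hbij, ⟨ψ.comp Algebra.TensorProduct.includeLeft⟩,
      ⟨ψ.comp Algebra.TensorProduct.includeRight⟩⟩
  · intro _ _ _ _ _ _ h₁ h₂ f g
    obtain ⟨σ⟩ := H9Hens.exists_section_of_bijective h₂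
    obtain ⟨t, ht, ht1⟩ := Algebra.FormallyUnramified.iff_exists_tensorProduct.mp
      (inferInstance : Algebra.FormallyUnramified A A₁)
    let φ : A₁ ⊗[A] A₁ →ₐ[A] A₂ := Algebra.TensorProduct.lift f g fun _ _ => Commute.all _ _
    have hσ : σ.comp φ = (σ.comp f).comp (Algebra.TensorProduct.lmul' A) := by
      refine Algebra.TensorProduct.ext' fun a b => ?_
      have hb : σ (g b) = σ (f b) := DFunLike.congr_fun (H9Hens.section_unique h₁ (σ.comp g) (σ.comp f)) b
      simp [φ, hb]
    obtain ⟨T, _, _, hT, ψ, -, hbij, -, hu⟩ := H9Hens.exists_etale_nbhd A₂ σ (φ t) (by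
      have := DFunLike.congr_fun hσ t
      simp only [AlgHom.comp_apply, ht1, map_one] at this
      rw [this]; exact isUnit_one)
    refine ⟨T, inferInstance, inferInstance, hT, hbij, ψ, AlgHom.ext fun s => ?_⟩
    have h := congrArg (ψ.comp φ) (ht s)
    simp only [map_mul, map_sub, map_zero, φ, AlgHom.comp_apply, Algebra.TensorProduct.lift_tmul,
      map_one, one_mul, mul_one] at h
    exact (sub_eq_zero.mp (hu.mul_left_eq_zero.mp h)).symm

end Groth.Agent.S19567
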