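import Groth.Statements.S1957
import Groth.Agent.H9Hens.EtNbhd
import Mathlib.RingTheory.Polynomial.UniversalFactorizationRing
-- import your own Groth.Agent.* helpers here

set_option autoImplicit false
universe u
open Polynomial
open EtAlg

namespace Groth.Agent.S1957

/-- Let A be a ring, I an ideal and f a monic polynomial over A. Suppose the image of f in (A/I)[x]
factors as g h where the leading coefficient of g is a unit and g, h generate the unit ideal. Then
there is an etale A-algebra A' such that A/I -> A'/IA' is bijective, together with a factorization f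
= g' h' in A'[x] whose reduction modulo IA' is the image of the given one. -/
theorem result (A : Type u) [CommRing A] (I : Ideal A) (f : A[X]) (hf : f.Monic)
    (g h : (A ⧸ I)[X]) (hgh : f.map (Ideal.Quotient.mk I) = g * h) (hlead : IsUnit g.leadingCoeff)
    (hcop : IsCoprime g h) :
    ∃ (A' : Type u) (_ : CommRing A') (_ : Algebra A A') (_ : Algebra.Etale A A'),
      Function.Bijective (Ideal.quotientMap (I.map (algebraMap A A')) (algebraMap A A') Ideal.le_comap_map) ∧
      ∃ g' h' : A'[X], f.map (algebraMap A A') = g' * h' ∧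
        g'.map (Ideal.Quotient.mk (I.map (algebraMap A A'))) =
          g.map (Ideal.quotientMap (I.map (algebraMap A A')) (algebraMap A A') Ideal.le_comap_map) ∧
        h'.map (Ideal.Quotient.mk (I.map (algebraMap A A'))) =
          h.map (Ideal.quotientMap (I.map (algebraMap A A')) (algebraMap A A') Ideal.le_comap_map) := by
  rcases subsingleton_or_nontrivial (A ⧸ I) with hs | hn
  · obtain ⟨T, _, _, hT, -, -, hbij, -⟩ := H9Hens.exists_etale_nbhd A (Algebra.ofId A (A ⧸ I)) 0
      (isUnit_of_subsingleton _)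
    have : Subsingleton (T ⧸ I.map (algebraMap A T)) := hbij.2.subsingleton
    exact ⟨T, inferInstance, inferInstance, hT, hbij, 1, f.map (algebraMap A T), (one_mul _).symm,
      Subsingleton.elim _ _, Subsingleton.elim _ _⟩
  obtain ⟨c, hc⟩ := hlead
  obtain ⟨s, hs⟩ := Ideal.Quotient.mk_surjective (c : A ⧸ I)
  have hg0 : (Polynomial.C (↑c⁻¹ : A ⧸ I) * g).Monic :=
    Polynomial.monic_C_mul_of_mul_leadingCoeff_eq_one (by rw [← hc, Units.inv_mul])
  have hmul : (Polynomial.C (↑c⁻¹ : A ⧸ I) * g) * (Polynomial.C (c : A ⧸ I) * h) =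
      f.map (Ideal.Quotient.mk I) := by
    rw [mul_mul_mul_comm, ← Polynomial.C_mul, Units.inv_mul, Polynomial.C_1, one_mul, hgh]
  have hh0 : (Polynomial.C (c : A ⧸ I) * h).Monic :=
    hg0.of_mul_monic_left (hmul ▸ hf.map _)
  have hdeg : f.natDegree = (Polynomial.C (↑c⁻¹ : A ⧸ I) * g).natDegree +
      (Polynomial.C (c : A ⧸ I) * h).natDegree := by
    rw [← hg0.natDegree_mul hh0, hmul, hf.natDegree_map]
  have hcop' : IsCoprime (Polynomial.C (↑c⁻¹ : A ⧸ I) * g) (Polynomial.C (c : A ⧸ I) * h) :=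
    (isCoprime_mul_unit_left_left (Polynomial.isUnit_C.mpr (Units.isUnit _)) _ _).mpr
      ((isCoprime_mul_unit_left_right (Polynomial.isUnit_C.mpr (Units.isUnit _)) _ _).mpr hcop)
  let S := Polynomial.UniversalCoprimeFactorizationRing
    (Polynomial.C (↑c⁻¹ : A ⧸ I) * g).natDegree (Polynomial.C (c : A ⧸ I) * h).natDegree hdeg
    (.mk f hf rfl)
  let σ : S →ₐ[A] A ⧸ I :=
    (Polynomial.UniversalCoprimeFactorizationRing.homEquiv (A ⧸ I) _ _ hdeg (.mk f hf rfl)).symm
      ⟨(.mk _ hg0 rfl, .mk _ hh0 rfl), hmul, hcop'⟩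
  obtain ⟨T, _, _, hT, ψ, σT, hbij, hcomp, hu⟩ := H9Hens.exists_etale_nbhd S σ (algebraMap A S s)
    (by rw [σ.commutes, Ideal.Quotient.algebraMap_eq, hs]; exact c.isUnit)
  rw [ψ.commutes] at hu
  have hq := (Polynomial.UniversalCoprimeFactorizationRing.homEquiv T _ _ hdeg (.mk f hf rfl) ψ)
  have h1 := Polynomial.UniversalCoprimeFactorizationRing.homEquiv_comp_fst (S := T)
    _ _ hdeg (.mk f hf rfl) ψ σT
  have h2 := Polynomial.UniversalCoprimeFactorizationRing.homEquiv_comp_snd (S := T)
    _ _ hdeg (.mk f hf rfl) ψ σT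
  rw [hcomp, Equiv.apply_symm_apply] at h1 h2
  generalize hQ : Polynomial.UniversalCoprimeFactorizationRing.homEquiv T _ _ hdeg (.mk f hf rfl) ψ
    = Q at h1 h2
  replace h1 := congrArg Subtype.val h1
  replace h2 := congrArg Subtype.val h2
  simp only [Polynomial.MonicDegreeEq.map_coe] at h1 h2
  change Polynomial.C (↑c⁻¹ : A ⧸ I) * g = _ at h1
  change Polynomial.C (c : A ⧸ I) * h = _ at h2
  have hσc : σT ↑hu.unit = c := by
    rw [IsUnit.unit_spec, σT.commutes, Ideal.Quotient.algebraMap_eq, hs]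
  have hσc' : σT ↑hu.unit⁻¹ = ↑c⁻¹ := by
    rw [← Units.mul_eq_one_iff_eq_inv, ← hσc, ← map_mul, Units.inv_mul, map_one]
  have hk : Ideal.Quotient.mk (I.map (algebraMap A T)) = (Ideal.quotientMap (I.map (algebraMap A T))
      (algebraMap A T) Ideal.le_comap_map).comp σT.toRingHom :=
    RingHom.ext fun x => H9Hens.mk_eq_quotientMap_section hbij.2 σT x
  refine ⟨T, inferInstance, inferInstance, hT, hbij, Polynomial.C (↑hu.unit : T) * Q.1.1.1,
    Polynomial.C (↑hu.unit⁻¹ : T) * Q.1.2.1, ?_, ?_, ?_⟩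
  · rw [mul_mul_mul_comm, ← Polynomial.C_mul, Units.mul_inv, Polynomial.C_1, one_mul, Q.2.1]
    rfl
  · rw [hk, ← Polynomial.map_map, Polynomial.map_mul, Polynomial.map_C, AlgHom.toRingHom_eq_coe,
      RingHom.coe_coe, hσc, ← h1, ← mul_assoc, ← Polynomial.C_mul, Units.mul_inv, Polynomial.C_1,
      one_mul]
  · rw [hk, ← Polynomial.map_map, Polynomial.map_mul, Polynomial.map_C, AlgHom.toRingHom_eq_coe,
      RingHom.coe_coe, hσc', ← h2, ← mul_assoc, ← Polynomial.C_mul, Units.inv_mul, Polynomial.C_1,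
      one_mul]

end Groth.Agent.S1957
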