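import Groth.Statements.S19570
import Groth.Agent.H05EGA4.FinEtaleLift
import Groth.Agent.H06EGA17.SmoothRing

set_option autoImplicit false
universe u
open scoped TensorProduct
open EGA4

namespace Groth.Agent.S19570

/-- `k ⊗_V A ≅ A₀` for a lift `ρ : A → A₀`. -/
theorem exists_tensorEquiv (V : Type u) [CommRing V] [IsLocalRing V] (A₀ : Type u) [CommRing A₀]
    [Algebra (IsLocalRing.ResidueField V) A₀] [Algebra V A₀] [IsScalarTower V (IsLocalRing.ResidueField V) A₀]
    (A : Type u) [CommRing A] [Algebra V A] (ρ : A →ₐ[V] A₀) (hs : Function.Surjective ρ)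
    (hk : ∀ x, ρ x = 0 → x ∈ (IsLocalRing.maximalIdeal V).map (algebraMap V A)) :
    ∃ e : (IsLocalRing.ResidueField V) ⊗[V] A ≃ₐ[IsLocalRing.ResidueField V] A₀,
      ∀ c a, e (c ⊗ₜ a) = algebraMap (IsLocalRing.ResidueField V) A₀ c * ρ a := by
  let φ : (IsLocalRing.ResidueField V) ⊗[V] A →ₐ[IsLocalRing.ResidueField V] A₀ :=
    Algebra.TensorProduct.lift (Algebra.ofId _ A₀) ρ fun _ _ => Commute.all _ _
  have hφ : ∀ c a, φ (c ⊗ₜ a) = algebraMap (IsLocalRing.ResidueField V) A₀ c * ρ a := fun c a =>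
    Algebra.TensorProduct.lift_tmul _ _ _ _ _
  have hφ1 : ∀ a, φ (1 ⊗ₜ a) = ρ a := fun a => by rw [hφ, map_one, one_mul]
  have hone : ∀ z : (IsLocalRing.ResidueField V) ⊗[V] A, ∃ a, z = 1 ⊗ₜ a := fun z => by
    induction z using TensorProduct.induction_on with
    | zero => exact ⟨0, by simp⟩
    | tmul c a =>
      obtain ⟨v, rfl⟩ := IsLocalRing.residue_surjective c
      exact ⟨v • a, by rw [← TensorProduct.smul_tmul, ← Algebra.algebraMap_eq_smul_one]; rfl⟩
    | add x y hx hy =>
      obtain ⟨a, rfl⟩ := hx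
      obtain ⟨b, rfl⟩ := hy
      exact ⟨a + b, (TensorProduct.tmul_add _ _ _).symm⟩
  refine ⟨AlgEquiv.ofBijective φ ⟨(injective_iff_map_eq_zero _).mpr fun z hz => ?_, fun y => ?_⟩, hφ⟩
  · obtain ⟨a, rfl⟩ := hone z
    have hle : (IsLocalRing.maximalIdeal V).map (algebraMap V A) ≤ RingHom.ker
        (Algebra.TensorProduct.includeRight : A →ₐ[V] (IsLocalRing.ResidueField V) ⊗[V] A).toRingHom := by
      rw [Ideal.map_le_iff_le_comap]
      intro v hv
      rw [Ideal.mem_comap, RingHom.mem_ker, AlgHom.toRingHom_eq_coe, RingHom.coe_coe, AlgHom.commutes,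
        Algebra.TensorProduct.algebraMap_apply, IsLocalRing.ResidueField.algebraMap_eq,
        (IsLocalRing.residue_eq_zero_iff v).mpr hv, TensorProduct.zero_tmul]
    exact hle (hk a ((hφ1 a).symm.trans hz))
  · obtain ⟨a, rfl⟩ := hs y
    exact ⟨1 ⊗ₜ a, hφ1 a⟩

/-- Let V be a complete discrete valuation ring of characteristic zero, with maximal ideal 𝔪 and residue
field k, let A₀ be a smooth k-algebra and B₀ a finite étale A₀-algebra. Then A₀ lifts to a smooth
V-algebra A (an isomorphism k ⊗_V A ≅ A₀ of k-algebras), and the finite étale cover lifts over it: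
there is a finite A-algebra B which is a normal ring, with an isomorphism k ⊗_V B ≅ B₀ compatible
with the one for A and with the algebra maps, such that the localization A_T → B_T at T = 1 + 𝔪A is
étale. The published corollary also claims, for the lift it produces, a finite étale lift after
inverting a suitable element and further properties of formal completions of projective closures;
the statement here asserts only that B is finite over A and normal and that A_T → B_T is étale. -/
theorem result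
    (V : Type u) [CommRing V] [IsDomain V] [IsDiscreteValuationRing V] [CharZero V]
    [IsAdicComplete (IsLocalRing.maximalIdeal V) V]
    (A₀ : Type u) [CommRing A₀] [Algebra (IsLocalRing.ResidueField V) A₀]
    [Algebra.Smooth (IsLocalRing.ResidueField V) A₀]
    (B₀ : Type u) [CommRing B₀] [Algebra A₀ B₀] [Algebra (IsLocalRing.ResidueField V) B₀]
    [IsScalarTower (IsLocalRing.ResidueField V) A₀ B₀] [Module.Finite A₀ B₀] [Algebra.Etale A₀ B₀] :
    ∃ (A : Type u) (_ : CommRing A) (_ : Algebra V A) (_ : Algebra.Smooth V A)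
      (e : (IsLocalRing.ResidueField V) ⊗[V] A ≃ₐ[IsLocalRing.ResidueField V] A₀)
      (B : Type u) (_ : CommRing B) (_ : Algebra A B) (_ : Algebra V B) (_ : IsScalarTower V A B)
      (e' : (IsLocalRing.ResidueField V) ⊗[V] B ≃ₐ[IsLocalRing.ResidueField V] B₀),
      Module.Finite A B ∧ EGA4.IsNormalRing B ∧
      (∀ x : (IsLocalRing.ResidueField V) ⊗[V] A,
        e' (Algebra.TensorProduct.map (AlgHom.id (IsLocalRing.ResidueField V) (IsLocalRing.ResidueField V))
          (IsScalarTower.toAlgHom V A B) x) = algebraMap A₀ B₀ (e x)) ∧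
      Algebra.Etale (Localization (MonoidHom.mker (Ideal.Quotient.mk ((IsLocalRing.maximalIdeal V).map (algebraMap V A)))))
        (Localization (Algebra.algebraMapSubmonoid B
          (MonoidHom.mker (Ideal.Quotient.mk ((IsLocalRing.maximalIdeal V).map (algebraMap V A)))))) := by
  classical
  let k := IsLocalRing.ResidueField V
  letI : Algebra V A₀ := ((algebraMap k A₀).comp (algebraMap V k)).toAlgebra
  haveI : IsScalarTower V k A₀ := .of_algebraMap_eq fun _ => rfl
  -- smooth lift
  letI : Algebra (V ⧸ IsLocalRing.maximalIdeal V) A₀ := ‹Algebra (IsLocalRing.ResidueField V) A₀›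
  haveI : IsScalarTower V (V ⧸ IsLocalRing.maximalIdeal V) A₀ := .of_algebraMap_eq fun _ => rfl
  haveI : Algebra.Smooth (V ⧸ IsLocalRing.maximalIdeal V) A₀ := ‹Algebra.Smooth (IsLocalRing.ResidueField V) A₀›
  obtain ⟨A₁, _, _, hA₁, ρ₁, hρ₁s, hρ₁k⟩ := H9Smooth.exists_smooth_lift (IsLocalRing.maximalIdeal V) (A₀ := A₀)
  let I := (IsLocalRing.maximalIdeal V).map (algebraMap V A₁)
  -- `A₁ ⧸ I ≅ A₀`
  have hIρ : ∀ x ∈ I, ρ₁ x = 0 := fun x hx => by
    have h := Ideal.mem_map_of_mem ρ₁.toRingHom hx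
    rw [Ideal.map_map, AlgHom.toRingHom_eq_coe, AlgHom.comp_algebraMap] at h
    have h0 : (IsLocalRing.maximalIdeal V).map (algebraMap V A₀) ≤ ⊥ := by
      rw [Ideal.map_le_iff_le_comap]
      intro v hv
      rw [Ideal.mem_comap, Ideal.mem_bot, IsScalarTower.algebraMap_apply V k A₀,
        IsLocalRing.ResidueField.algebraMap_eq, (IsLocalRing.residue_eq_zero_iff v).mpr hv, map_zero]
    exact (Ideal.mem_bot).mp (h0 h)
  let q : (A₁ ⧸ I) →ₐ[V] A₀ := Ideal.Quotient.liftₐ I ρ₁ hIρ
  have hq : ∀ a, q (Ideal.Quotient.mk I a) = ρ₁ a := fun a => Ideal.Quotient.lift_mk _ _ _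
  have hqb : Function.Bijective q := ⟨(injective_iff_map_eq_zero _).mpr fun x hx => by
      obtain ⟨a, rfl⟩ := Ideal.Quotient.mk_surjective x
      exact Ideal.Quotient.eq_zero_iff_mem.mpr (hρ₁k a ((hq a).symm.trans hx)),
    fun y => by obtain ⟨a, rfl⟩ := hρ₁s y; exact ⟨_, hq a⟩⟩
  letI : Algebra (A₁ ⧸ I) A₀ := q.toRingHom.toAlgebra
  haveI : Algebra.Etale (A₁ ⧸ I) A₀ :=
    Algebra.Etale.of_equiv (AlgEquiv.ofBijective (Algebra.ofId (A₁ ⧸ I) A₀) hqb)
  letI : Algebra (A₁ ⧸ I) B₀ := ((algebraMap A₀ B₀).comp q.toRingHom).toAlgebra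
  haveI : IsScalarTower (A₁ ⧸ I) A₀ B₀ := .of_algebraMap_eq fun _ => rfl
  haveI : Algebra.Etale (A₁ ⧸ I) B₀ := Algebra.Etale.comp (A₁ ⧸ I) A₀ B₀
  haveI : Module.Finite (A₁ ⧸ I) A₀ :=
    Module.Finite.of_surjective (Algebra.linearMap (A₁ ⧸ I) A₀) hqb.2
  haveI : Module.Finite (A₁ ⧸ I) B₀ := Module.Finite.trans A₀ B₀
  letI : Algebra A₁ B₀ := ((algebraMap (A₁ ⧸ I) B₀).comp (Ideal.Quotient.mk I)).toAlgebra
  haveI : IsScalarTower A₁ (A₁ ⧸ I) B₀ := .of_algebraMap_eq fun _ => rfl
  obtain ⟨A, _, _, hA, σ, hσs, hσk, B, _, _, _, _, hfin, het, π, hπs, hπk, hπc⟩ :=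
    H05EGA4.FinEtaleLift.exists_finiteEtale_lift I B₀
  letI : Algebra V A := ((algebraMap A₁ A).comp (algebraMap V A₁)).toAlgebra
  haveI : IsScalarTower V A₁ A := .of_algebraMap_eq fun _ => rfl
  letI : Algebra V B := ((algebraMap A B).comp (algebraMap V A)).toAlgebra
  haveI : IsScalarTower V A B := .of_algebraMap_eq fun _ => rfl
  haveI : Algebra.Smooth V A := Algebra.Smooth.comp V A₁ A
  haveI : Algebra.Smooth V B := Algebra.Smooth.comp V A B
  letI : Algebra V B₀ := ((algebraMap k B₀).comp (algebraMap V k)).toAlgebra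
  haveI : IsScalarTower V k B₀ := .of_algebraMap_eq fun _ => rfl
  have hmA : I.map (algebraMap A₁ A) = (IsLocalRing.maximalIdeal V).map (algebraMap V A) := Ideal.map_map _ _
  have hmB : I.map (algebraMap A₁ B) = (IsLocalRing.maximalIdeal V).map (algebraMap V B) := by
    rw [IsScalarTower.algebraMap_eq A₁ A B, ← Ideal.map_map, hmA, Ideal.map_map]
    rfl
  let ρ : A →ₐ[V] A₀ := q.comp (σ.restrictScalars V)
  have hρk : ∀ x, ρ x = 0 → x ∈ (IsLocalRing.maximalIdeal V).map (algebraMap V A) := fun x hx =>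
    hmA ▸ hσk x ((map_eq_zero_iff q hqb.1).mp hx)
  let π' : B →ₐ[V] B₀ := { π.toRingHom with
    commutes' := fun v => by
      show π (algebraMap A B (algebraMap V A v)) = _
      rw [hπc]
      show algebraMap A₀ B₀ (ρ (algebraMap V A v)) = algebraMap k B₀ (algebraMap V k v)
      rw [AlgHom.commutes, IsScalarTower.algebraMap_apply V k A₀, ← IsScalarTower.algebraMap_apply k A₀ B₀] }
  obtain ⟨e, he⟩ := exists_tensorEquiv V A₀ A ρ (hqb.2.comp hσs) hρk
  obtain ⟨e', he'⟩ := exists_tensorEquiv V B₀ B π' hπs fun x hx => hmB ▸ hπk x hx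
  refine ⟨A, inferInstance, inferInstance, inferInstance, e, B, inferInstance, inferInstance, inferInstance,
    inferInstance, e', hfin, ?_, ?_, ?_⟩
  · exact H06EGA17.isNormalRing_of_smooth V B (H06EGA17.isNormalRing_of_isIntegrallyClosed V)
  · intro x
    induction x using TensorProduct.induction_on with
    | zero => simp
    | tmul c a =>
      rw [Algebra.TensorProduct.map_tmul, he, he', map_mul, IsScalarTower.algebraMap_apply k A₀ B₀]
      congr 1
      exact hπc a
    | add x y hx hy => simp only [map_add, hx, hy]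
  · haveI : Algebra.Etale A B := het
    let T := MonoidHom.mker (Ideal.Quotient.mk ((IsLocalRing.maximalIdeal V).map (algebraMap V A)))
    haveI : Algebra.IsPushout A B (Localization T) (Localization (Algebra.algebraMapSubmonoid B T)) :=
      Algebra.isPushout_of_isLocalization T _ _ _
    haveI : Algebra.IsPushout A (Localization T) B (Localization (Algebra.algebraMapSubmonoid B T)) :=
      Algebra.IsPushout.symm inferInstance
    exact Algebra.Etale.of_equiv
      (Algebra.IsPushout.equiv A (Localization T) B (Localization (Algebra.algebraMapSubmonoid B T)))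

end Groth.Agent.S19570
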