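import Groth.Statements.S19571
import Mathlib

set_option autoImplicit false
universe u
open CategoryTheory AlgebraicGeometry
open EtaPt

namespace Groth.Agent.S19571

/-- Let f : Y → X be a morphism of schemes which is flat, surjective and locally of finite presentation.
Then every affine open U of X is covered by affine opens V each of which is the image f(W) of some
affine open W of Y; stated pointwise: for every x ∈ U there are an affine open V of X with x ∈ V ≤ U
and an affine open W of Y with f(W) = V as sets. (For such V and W the induced ring map Γ(V) → Γ(W)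
is then faithfully flat.) -/
theorem result
    {X Y : Scheme.{u}} (f : Y ⟶ X) [Flat f] [Surjective f] [LocallyOfFinitePresentation f]
    (U : X.affineOpens) (x : X) (hx : x ∈ (U : X.Opens)) :
    ∃ V : X.affineOpens, x ∈ (V : X.Opens) ∧ (V : X.Opens) ≤ (U : X.Opens) ∧
      ∃ W : Y.affineOpens, f.base '' ((W : Y.Opens) : Set Y) = ((V : X.Opens) : Set X) := by
  obtain ⟨y, rfl⟩ := f.surjective x
  obtain ⟨W', hW', hy, hWU⟩ := (TopologicalSpace.Opens.isBasis_iff_nbhd.mp Y.isBasis_affineOpens)
    (show y ∈ f ⁻¹ᵁ (U : X.Opens) from hx)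
  have hopen : IsOpen (f.base '' (W' : Set Y)) := f.isOpenMap _ W'.2
  obtain ⟨r, hrsub, hr⟩ := U.2.exists_basicOpen_le
    (V := ⟨f.base '' (W' : Set Y), hopen⟩) ⟨f.base y, ⟨y, hy, rfl⟩⟩ hx
  refine ⟨⟨X.basicOpen r, U.2.basicOpen r⟩, hr, X.basicOpen_le r,
    ⟨W' ⊓ f ⁻¹ᵁ X.basicOpen r, ?_⟩, ?_⟩
  · rw [Scheme.preimage_basicOpen, ← Scheme.basicOpen_res _ _ (homOfLE hWU).op]
    exact hW'.basicOpen _
  · ext z
    constructor
    · rintro ⟨w, ⟨-, hw⟩, rfl⟩
      exact hw
    · intro hz
      obtain ⟨w, hw, hwz⟩ := hrsub hz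
      exact ⟨w, ⟨hw, show f.base w ∈ X.basicOpen r by rw [hwz]; exact hz⟩, hwz⟩

end Groth.Agent.S19571
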