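import Groth.Statements.S19573
import Groth.Agent.H05EGA4.TopExtPower

set_option autoImplicit false
universe u
open LocInt

namespace Groth.Agent.S19573

open H05EGA4

theorem rank_eq {R : Type u} [CommRing R] {n : ℕ} (a : Fin n → R) (i : Fin n) (p : PrimeSpectrum R)
    (hi : a i ∉ p.asIdeal) :
    Module.rankAtStalk ((Fin n → R) ⧸ Submodule.span R {a}) p = n - 1 := by
  haveI : Nontrivial R := p.nontrivial
  let J := {j : Fin n // j ≠ i}
  let g₀ : (Fin n → R) →ₗ[R] J → R :=
    LinearMap.pi fun j => a i • LinearMap.proj (j : Fin n) - a (j : Fin n) • LinearMap.proj i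
  have hg : Submodule.span R {a} ≤ LinearMap.ker g₀ := by
    rw [Submodule.span_singleton_le_iff_mem, LinearMap.mem_ker]
    ext j
    simp [g₀, mul_comm]
  let g := (Submodule.span R {a}).liftQ g₀ hg
  let ext0 : (J → R) →ₗ[R] Fin n → R :=
    LinearMap.pi fun j => if h : j = i then 0 else LinearMap.proj (R := R) (φ := fun _ : J => R) (⟨j, h⟩ : J)
  let h := (Submodule.span R {a}).mkQ ∘ₗ ext0
  have hgh : g ∘ₗ h = a i • LinearMap.id := by
    refine LinearMap.ext fun y => funext fun j => ?_
    simp [g, h, g₀, ext0, j.2]
  have hhg : h ∘ₗ g = a i • LinearMap.id := by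
    refine Submodule.linearMap_qext _ (LinearMap.ext fun x => ?_)
    show Submodule.Quotient.mk (p := Submodule.span R {a}) (ext0 (g₀ x)) = a i • Submodule.Quotient.mk (p := Submodule.span R {a}) x
    rw [← Submodule.Quotient.mk_smul, Submodule.Quotient.eq, Submodule.mem_span_singleton]
    refine ⟨-x i, funext fun j => ?_⟩
    by_cases hj : j = i
    · subst hj; simp [ext0, mul_comm]
    · simp [ext0, g₀, hj, mul_comm]
  let S := p.asIdeal.primeCompl
  let Rp := Localization.AtPrime p.asIdeal
  obtain ⟨u, hu⟩ := IsLocalization.map_units Rp (⟨a i, hi⟩ : S)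
  let gp := LocalizedModule.map S g
  let hp := LocalizedModule.map S h
  have h1 : ∀ y, gp (hp y) = (u : Rp) • y := fun y => by
    induction y using LocalizedModule.induction_on with
    | h m s =>
      rw [show hp (LocalizedModule.mk m s) = LocalizedModule.mk (h m) s from TopExtPower.map_mk S h m s,
        show gp (LocalizedModule.mk (h m) s) = LocalizedModule.mk (g (h m)) s from TopExtPower.map_mk S g (h m) s]
      simp only [hu, IsScalarTower.algebraMap_smul, LocalizedModule.smul'_mk]
      exact congrArg (LocalizedModule.mk · s) (LinearMap.congr_fun hgh m)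
  have h2 : ∀ y, hp (gp y) = (u : Rp) • y := fun y => by
    induction y using LocalizedModule.induction_on with
    | h m s =>
      rw [show gp (LocalizedModule.mk m s) = LocalizedModule.mk (g m) s from TopExtPower.map_mk S g m s,
        show hp (LocalizedModule.mk (g m) s) = LocalizedModule.mk (h (g m)) s from TopExtPower.map_mk S h (g m) s]
      simp only [hu, IsScalarTower.algebraMap_smul, LocalizedModule.smul'_mk]
      exact congrArg (LocalizedModule.mk · s) (LinearMap.congr_fun hhg m)
  have hbij : Function.Bijective gp := by
    refine ⟨fun x y hxy => ?_, fun y => ⟨(↑u⁻¹ : Rp) • hp y, ?_⟩⟩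
    · have h3 := (h2 x).symm.trans ((congrArg hp hxy).trans (h2 y))
      exact (u.isUnit.smul_left_cancel).1 h3
    · rw [map_smul, h1, smul_smul, Units.inv_mul, one_smul]
  rw [Module.rankAtStalk, (LinearEquiv.ofBijective gp hbij).finrank_eq,
    show Module.finrank (Localization.AtPrime p.asIdeal) (LocalizedModule p.asIdeal.primeCompl (J → R)) =
      Module.rankAtStalk (J → R) p from rfl, Module.rankAtStalk_eq_finrank_of_free]
  simp [J]

/-- The first sentence of the lemma together with the description of the closed subscheme Z given in its
proof, in the local model. Let R be a commutative ring, n ≥ 1, a ∈ R^n, and F = R^n / R·a the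
cokernel of R → R^n, 1 ↦ a (the zeroth homology of the two-term complex R → R^n). Then the
annihilator ideal of the top exterior power ⋀^n F is the ideal generated by the coordinates a_1, …,
a_n of a, and at every prime p of R off the closed set V(a_1, …, a_n) the module F is free of rank n
− 1 after localization at p. (The published statement is for a complex on a scheme which is locally
quasi-isomorphic to such a two-term complex L → E with L invertible and E locally free of rank n,
and says that H^0 restricted to the complement of the closed subscheme cut out by the annihilator of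
its n-th exterior power is locally free of rank n − 1; this row is the local model.) -/
theorem result (R : Type u) [CommRing R]
    (n : ℕ) (hn : 1 ≤ n) (a : Fin n → R) :
    (⋀[R]^n ((Fin n → R) ⧸ Submodule.span R {a})).annihilator = Ideal.span (Set.range a) ∧
    ∀ p : PrimeSpectrum R, ¬ Ideal.span (Set.range a) ≤ p.asIdeal →
      p ∈ Module.freeLocus R ((Fin n → R) ⧸ Submodule.span R {a}) ∧
      Module.rankAtStalk ((Fin n → R) ⧸ Submodule.span R {a}) p = n - 1 := by
  have hrk : ∀ p, Module.rankAtStalk (R := R) (Fin n → R) p = n := fun p => by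
    haveI : Nontrivial R := p.nontrivial
    simp [Module.rankAtStalk_eq_finrank_of_free]
  let q := (Submodule.span R {a}).mkQ
  have hq : Function.Surjective q := Submodule.mkQ_surjective _
  have hker : LinearMap.ker q = Submodule.span R {a} := Submodule.ker_mkQ _
  have hcont : TopExtPower.content a = Ideal.span (Set.range a) := by
    refine le_antisymm ?_ (Ideal.span_le.2 ?_)
    · rintro r ⟨φ, rfl⟩
      show φ a ∈ _
      rw [LinearMap.pi_apply_eq_sum_univ φ a]
      exact Submodule.sum_mem _ fun i _ => Ideal.mul_mem_right _ _ (Ideal.subset_span ⟨i, rfl⟩)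
    · rintro _ ⟨i, rfl⟩
      exact ⟨LinearMap.proj i, rfl⟩
  refine ⟨(TopExtPower.annihilator_extPower hrk q hq a hker).trans hcont, fun p hp => ?_⟩
  obtain ⟨i, hi⟩ : ∃ i, a i ∉ p.asIdeal := by
    by_contra hall
    push Not at hall
    exact hp (Ideal.span_le.2 (Set.range_subset_iff.2 hall))
  have hfree := TopExtPower.free_localized_of_not_mem q hq a hker p (LinearMap.proj i) hi
  exact ⟨hfree, rank_eq a i p hi⟩

end Groth.Agent.S19573
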