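import Groth.Statements.S19574
import Mathlib.RingTheory.Flat.Tensor
import Mathlib.LinearAlgebra.TensorProduct.RightExactness
import Mathlib.Algebra.Homology.ShortComplex.ModuleCat
import Mathlib.Tactic

set_option autoImplicit false
universe u
open CategoryTheory MonoidalCategory
open Lie3Mod

namespace Groth.Agent.S19574

open scoped TensorProduct

theorem flat_of_seq {R : Type u} [CommRing R] {P₃ P₂ P₁ M : Type u} [AddCommGroup P₃] [Module R P₃]
    [AddCommGroup P₂] [Module R P₂] [AddCommGroup P₁] [Module R P₁] [AddCommGroup M] [Module R M]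
    [Module.Flat R P₁] (d₂ : P₂ →ₗ[R] P₁) (ε : P₁ →ₗ[R] M) (d₃ : P₃ →ₗ[R] P₂)
    (hc : d₂ ∘ₗ d₃ = 0) (hε : Function.Surjective ε) (hex : Function.Exact d₂ ε)
    (hbc : ∀ I : Ideal R, ∀ z : (R ⧸ I) ⊗[R] P₂, d₂.lTensor (R ⧸ I) z = 0 →
      ∃ y, d₃.lTensor (R ⧸ I) y = z) :
    Module.Flat R M := by
  rw [Module.Flat.iff_rTensor_injective']
  intro I
  rw [injective_iff_map_eq_zero]
  intro t ht
  obtain ⟨s, rfl⟩ := LinearMap.lTensor_surjective I hε t
  let ι : ∀ (P : Type u) [AddCommGroup P] [Module R P], I ⊗[R] P →ₗ[R] P := fun P _ _ =>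
    (TensorProduct.lid R P).toLinearMap ∘ₗ (I.subtype.rTensor P)
  have hnat : ∀ {P Q : Type u} [AddCommGroup P] [Module R P] [AddCommGroup Q] [Module R Q] (f : P →ₗ[R] Q)
      (w : I ⊗[R] P), ι Q (f.lTensor I w) = f (ι P w) := by
    intro P Q _ _ _ _ f w
    induction w using TensorProduct.induction_on with
    | zero => simp
    | tmul i x => simp [ι]
    | add a b ha hb => simp only [map_add, ha, hb]
  have hm : ε (ι P₁ s) = 0 := by
    rw [← hnat]; simp [ι, ht]
  obtain ⟨p, hp⟩ := (hex _).1 hm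
  have hker : ∀ (P : Type u) [AddCommGroup P] [Module R P] (w : I ⊗[R] P),
      ((1 : R ⧸ I) ⊗ₜ[R] ι P w) = 0 := by
    intro P _ _ w
    induction w using TensorProduct.induction_on with
    | zero => simp
    | tmul i x =>
      simp only [ι, LinearMap.comp_apply, LinearMap.rTensor_tmul, LinearEquiv.coe_coe, TensorProduct.lid_tmul,
        Submodule.subtype_apply]
      rw [← TensorProduct.smul_tmul, ← Algebra.algebraMap_eq_smul_one, Ideal.Quotient.algebraMap_eq,
        Ideal.Quotient.eq_zero_iff_mem.2 i.2, TensorProduct.zero_tmul]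
    | add a b ha hb => rw [map_add, TensorProduct.tmul_add, ha, hb, add_zero]
  obtain ⟨y, hy⟩ := hbc I ((1 : R ⧸ I) ⊗ₜ[R] p) (by
    rw [LinearMap.lTensor_tmul, hp]; exact hker P₁ s)
  obtain ⟨p₃, hp₃⟩ : ∃ p₃ : P₃, ((1 : R ⧸ I) ⊗ₜ[R] p₃) = y := by
    induction y using TensorProduct.induction_on generalizing p with
    | zero => exact ⟨0, by simp⟩
    | tmul r x =>
      obtain ⟨r, rfl⟩ := Ideal.Quotient.mk_surjective r
      refine ⟨r • x, ?_⟩
      rw [← TensorProduct.smul_tmul, ← Algebra.algebraMap_eq_smul_one]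
      rfl
    | add a b ha hb =>
      obtain ⟨a', ha'⟩ : ∃ a' : P₃, ((1 : R ⧸ I) ⊗ₜ[R] a') = a := by
        have := TensorProduct.mk_surjective R P₃ (R ⧸ I) Ideal.Quotient.mk_surjective a
        exact this
      obtain ⟨b', hb'⟩ := TensorProduct.mk_surjective R P₃ (R ⧸ I) Ideal.Quotient.mk_surjective b
      exact ⟨a' + b', by rw [TensorProduct.tmul_add, ha']; exact congrArg (a + ·) hb'⟩
  have h0 : ((1 : R ⧸ I) ⊗ₜ[R] (p - d₃ p₃)) = 0 := by
    rw [TensorProduct.tmul_sub, ← hy, ← hp₃, LinearMap.lTensor_tmul, sub_self]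
  have hexq := rTensor_exact P₂ (Ideal.Quotient.mkₐ R I).toLinearMap.exact_subtype_ker_map
    (show Function.Surjective (Ideal.Quotient.mkₐ R I).toLinearMap from Ideal.Quotient.mk_surjective)
  obtain ⟨w, hw⟩ := (hexq ((1 : R) ⊗ₜ[R] (p - d₃ p₃))).1 (by simpa using h0)
  have hker' : LinearMap.ker (Ideal.Quotient.mkₐ R I).toLinearMap = I := by
    ext r; simp [Ideal.Quotient.eq_zero_iff_mem]
  obtain ⟨w', hw'⟩ : ∃ w' : I ⊗[R] P₂, ι P₂ w' = p - d₃ p₃ := by
    refine ⟨(LinearEquiv.ofEq _ _ hker').toLinearMap.rTensor P₂ w, ?_⟩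
    have h1 := congrArg (TensorProduct.lid R P₂) hw
    rw [TensorProduct.lid_tmul, one_smul] at h1
    rw [← h1]
    simp only [ι, LinearMap.comp_apply, LinearEquiv.coe_coe]
    congr 1
    rw [← LinearMap.comp_apply, ← LinearMap.rTensor_comp]
    rfl
  have hs : s = d₂.lTensor I w' := by
    refine (TensorProduct.lid R P₁).injective.comp (Module.Flat.rTensor_preserves_injective_linearMap I.subtype Subtype.val_injective) ?_
    show ι P₁ s = ι P₁ (d₂.lTensor I w')
    rw [hnat, hw', map_sub, hp, show d₂ (d₃ p₃) = 0 from DFunLike.congr_fun hc p₃, sub_zero]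
  rw [hs, ← LinearMap.comp_apply, ← LinearMap.lTensor_comp, hex.linearMap_comp_eq_zero, LinearMap.lTensor_zero]
  rfl

/-- Let R be a commutative ring and d ≥ 1. Let K be a chain complex of R-modules concentrated in degrees
0, …, d + 1, written … → 0 → P_{d+1} → P_d → … → P_1 → M with M = K_0, which is exact (so 0 →
P_{d+1} → … → P_1 → M → 0 is an exact sequence), such that P_1, …, P_d are flat R-modules and such
that for every ideal I of R the complex obtained by applying (R/I) ⊗_R − termwise is again exact.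
Then M is a flat R-module. (No flatness is assumed for P_{d+1}. The published lemma adds that for R
Noetherian it suffices to test prime ideals I; that refinement is not part of this statement.) -/
theorem result (R : Type u) [CommRing R]
    (d : ℕ) (hd : 1 ≤ d) (K : ChainComplex (ModuleCat.{u} R) ℕ)
    (hzero : ∀ i : ℕ, d + 1 < i → Limits.IsZero (K.X i))
    (hflat : ∀ i : ℕ, 1 ≤ i → i ≤ d → Module.Flat R (K.X i))
    (hK : K.Acyclic)
    (hbc : ∀ I : Ideal R,
      (((tensorLeft (ModuleCat.of R (R ⧸ I))).mapHomologicalComplex (ComplexShape.down ℕ)).obj K).Acyclic) :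
    Module.Flat R (K.X 0) := by
  haveI : Module.Flat R (K.X 1) := hflat 1 le_rfl hd
  have h10 := (HomologicalComplex.exactAt_iff' K 2 1 0 (by simp) (by simp)).1 (hK 1)
  have h00 := (HomologicalComplex.exactAt_iff' K 1 0 0 (by simp) (by simp)).1 (hK 0)
  rw [CategoryTheory.ShortComplex.moduleCat_exact_iff] at h10 h00
  refine flat_of_seq (K.d 2 1).hom (K.d 1 0).hom (K.d 3 2).hom ?_ (fun m => h00 m ?_) ?_ ?_
  · rw [← ModuleCat.hom_comp, K.d_comp_d]; rfl
  · have : K.d 0 0 = 0 := K.shape 0 0 (by simp)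
    show (K.d 0 0).hom m = 0
    rw [this]; rfl
  · intro z
    refine ⟨fun hz => ?_, ?_⟩
    · exact h10 z hz
    · rintro ⟨y, rfl⟩
      show (K.d 1 0).hom ((K.d 2 1).hom y) = 0
      rw [← LinearMap.comp_apply, ← ModuleCat.hom_comp, K.d_comp_d]; rfl
  · intro I z hz
    have h := (HomologicalComplex.exactAt_iff' _ 3 2 1 (by simp) (by simp)).1 (hbc I 2)
    rw [CategoryTheory.ShortComplex.moduleCat_exact_iff] at h
    exact h z hz

end Groth.Agent.S19574
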