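import Groth.Statements.S19575
import Groth.Agent.H23EtaPt.RelLoc

set_option autoImplicit false
universe u
open EtaPt

namespace Groth.Agent.S19575

/-- Let η be the field-endofunctor datum of the pointwise construction, A a commutative ring with
finitely many minimal prime ideals and φ : A → B a ring map inducing a surjection on prime spectra.
If the canonical map A → (B/A)_η (the corestriction of φ onto the subring of B of elements whose
image in ∏_q F(k(q)) comes from M_η(A)) is bijective, then for every f ∈ A the canonical map A_f →
(B_f/A_f)_η attached to the localized map A_f → B_{φ(f)} is bijective as well. -/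
theorem result (η : EtaPt.FieldEndo.{u}) {A B : Type u} [CommRing A] [CommRing B]
    (hA : (minimalPrimes A).Finite) (φ : A →+* B) (hs : Function.Surjective (PrimeSpectrum.comap φ))
    (h : Function.Bijective (η.qRel φ)) (f : A) :
    Function.Bijective (η.qRel (Localization.awayMap φ f)) := by
  have hφ : Function.Injective φ := fun a a' e => h.1 (Subtype.ext e)
  haveI : IsLocalization ((Submonoid.powers f).map φ) (Localization.Away (φ f)) := by
    rw [Submonoid.map_powers]; infer_instance
  refine ⟨fun c c' e => IsLocalization.map_injective_of_injective (Submonoid.powers f) (Localization.Away f)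
    (Localization.Away (φ f)) hφ (congrArg Subtype.val e), fun y => ?_⟩
  obtain ⟨b, hb, n, hn⟩ := Groth.Agent.H23EtaPt.exists_rel_of_away η φ f hA y.2
  obtain ⟨a, ha⟩ := h.2 ⟨b, hb⟩
  have hu := IsLocalization.Away.algebraMap_isUnit (S := Localization.Away f) f
  refine ⟨algebraMap A _ a * ↑(hu.unit⁻¹) ^ n, Subtype.ext ?_⟩
  show Localization.awayMap φ f (algebraMap A _ a * ↑(hu.unit⁻¹) ^ n) = y
  have hm : ∀ c, Localization.awayMap φ f (algebraMap A (Localization.Away f) c) = algebraMap B _ (φ c) :=
    fun c => IsLocalization.map_eq _ c
  have hone : algebraMap B (Localization.Away (φ f)) (φ f) * Localization.awayMap φ f ↑(hu.unit⁻¹) = 1 := by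
    rw [← hm, ← map_mul, IsUnit.mul_val_inv, map_one]
  rw [map_mul, map_pow, hm, show φ a = b from congrArg Subtype.val ha, ← hn, mul_assoc, ← mul_pow, hone, one_pow,
    mul_one]

end Groth.Agent.S19575
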