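import Groth.Statements.S19576
import Groth.Agent.H23EtaPt.RelLoc

set_option autoImplicit false
universe u
open EtaPt

namespace Groth.Agent.S19576

/-- Let η be the field-endofunctor datum of the pointwise construction, A a commutative ring with
finitely many minimal prime ideals and φ : A → B a ring map inducing a surjection on prime spectra.
If finitely many elements f_1, …, f_n of A generate the unit ideal and, for each i, the canonical
map A_{f_i} → (B_{f_i}/A_{f_i})_η attached to the localized map A_{f_i} → B_{φ(f_i)} is bijective,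
then the canonical map A → (B/A)_η is bijective. -/
theorem result (η : EtaPt.FieldEndo.{u}) {A B : Type u} [CommRing A] [CommRing B]
    (hA : (minimalPrimes A).Finite) (φ : A →+* B) (hs : Function.Surjective (PrimeSpectrum.comap φ))
    (s : Finset A) (hspan : Ideal.span (s : Set A) = ⊤)
    (h : ∀ f ∈ s, Function.Bijective (η.qRel (Localization.awayMap φ f))) :
    Function.Bijective (η.qRel φ) := by
  classical
  have key : ∀ P : A → Prop, P 0 → (∀ a b, P a → P b → P (a + b)) → (∀ c a, P a → P (c * a)) →
      (∀ f ∈ s, ∃ n : ℕ, P (f ^ n)) → P 1 := fun P h0 hadd hmul hs' => by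
    let I : Ideal A := ⟨⟨⟨{a | P a}, fun {a b} => hadd a b⟩, h0⟩, fun c {a} => hmul c a⟩
    have hle : Ideal.span (s : Set A) ≤ I.radical := Ideal.span_le.mpr fun f hf => hs' f hf
    have : (1 : A) ∈ I.radical := hle (hspan ▸ Submodule.mem_top)
    obtain ⟨n, hn⟩ := this
    rw [one_pow] at hn
    exact hn
  have hm : ∀ f c, Localization.awayMap φ f (algebraMap A (Localization.Away f) c) = algebraMap B _ (φ c) :=
    fun f c => IsLocalization.map_eq _ c
  refine ⟨fun a a' e => ?_, fun b => ?_⟩
  · refine (one_mul a).symm.trans (Eq.trans ?_ (one_mul a'))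
    refine key (fun c => c * a = c * a') (by simp) (fun c d hc hd => by rw [add_mul, add_mul, hc, hd])
      (fun c d hd => by rw [mul_assoc, hd, mul_assoc]) fun f hf => ?_
    have : algebraMap A (Localization.Away f) a = algebraMap A _ a' :=
      (h f hf).1 (Subtype.ext (show Localization.awayMap φ f _ = Localization.awayMap φ f _ by
        rw [hm, hm, show φ a = φ a' from congrArg Subtype.val e]))
    obtain ⟨⟨_, n, rfl⟩, hn⟩ := (IsLocalization.eq_iff_exists (Submonoid.powers f) _).mp this
    exact ⟨n, hn⟩
  · obtain ⟨a, ha⟩ : ∃ a, φ a = φ 1 * b := by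
      refine key (fun c => ∃ a, φ a = φ c * b) ⟨0, by simp⟩
        (fun c d ⟨a, ha⟩ ⟨a', ha'⟩ => ⟨a + a', by rw [map_add, map_add, ha, ha', add_mul]⟩)
        (fun c d ⟨a, ha⟩ => ⟨c * a, by rw [map_mul, map_mul, ha, mul_assoc]⟩) fun f hf => ?_
      obtain ⟨c, hc⟩ := (h f hf).2 ⟨_, Groth.Agent.H23EtaPt.rel_map_away η φ f b.2⟩
      have hc' : Localization.awayMap φ f c = algebraMap B _ b := congrArg Subtype.val hc
      obtain ⟨n, a, ha⟩ := IsLocalization.Away.surj f c
      have := congrArg (Localization.awayMap φ f) ha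
      rw [map_mul, map_pow, hc', hm, hm, ← map_pow, ← map_mul] at this
      obtain ⟨⟨_, k, rfl⟩, hk⟩ := (IsLocalization.eq_iff_exists (Submonoid.powers (φ f)) _).mp this
      exact ⟨k + n, f ^ k * a, by rw [map_mul, map_pow, map_pow, ← hk, pow_add]; ring⟩
    exact ⟨a, Subtype.ext (show φ a = b by rw [ha, map_one, one_mul])⟩

end Groth.Agent.S19576
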