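import Groth.Statements.S19577
import Groth.Agent.H23EtaPt.Extra

set_option autoImplicit false
universe u
open EtaPt

namespace Groth.Agent.S19577

/-- Let f : A → B be a homomorphism of commutative rings, each with only finitely many minimal primes.
Then M_η(f) : M_η(A) → M_η(B) is integral exactly when f is integral, and Spec M_η(f) is surjective
exactly when Spec f is. Here η is the field-endofunctor datum of the pointwise construction, M_η(A)
⊆ ∏_p F(k(p)) the subring attached to A with q_A : A → M_η(A), and M_η(f) : M_η(A) → M_η(B) the ring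
map induced by N_η(f), pinned here as the ring map g compatible with N_η(f) under the two subring
inclusions. -/
theorem result (η : EtaPt.FieldEndo.{u}) {A B : Type u} [CommRing A] [CommRing B]
    (hA : (minimalPrimes A).Finite) (hB : (minimalPrimes B).Finite) (f : A →+* B)
    (g : η.M A →+* η.M B) (hg : ∀ x : η.M A, ((g x : η.M B) : η.N B) = η.Nmap f (x : η.N A)) :
    (f.IsIntegral ↔ g.IsIntegral) ∧
      (Function.Surjective (PrimeSpectrum.comap f) ↔ Function.Surjective (PrimeSpectrum.comap g)) := by
  have hcomp : g.comp (η.q A) = (η.q B).comp f := RingHom.ext fun a => Subtype.ext ((hg (η.q A a)).trans (η.Nmap_t_apply f a))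
  refine ⟨⟨fun hf => ?_, fun hg' => ?_⟩, ?_⟩
  · refine RingHom.IsIntegral.tower_top (η.q A) g ?_
    rw [hcomp]
    exact RingHom.IsIntegral.trans f (η.q B) hf (Groth.Agent.H23EtaPt.isIntegral_q η hB)
  · intro b
    have h := RingHom.IsIntegral.trans (η.q A) g (Groth.Agent.H23EtaPt.isIntegral_q η hA) hg'
    rw [hcomp] at h
    obtain ⟨P, hP, h0⟩ := h (η.q B b)
    rw [← Polynomial.hom_eval₂] at h0
    obtain ⟨n, hn⟩ := Groth.Agent.H23EtaPt.isNilpotent_of_t_eq_zero η
      (b := P.eval₂ f b) (congrArg Subtype.val h0)
    exact ⟨P ^ n, hP.pow n, by rw [Polynomial.eval₂_pow, hn]⟩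
  · have h : PrimeSpectrum.comap (η.q A) ∘ PrimeSpectrum.comap g = PrimeSpectrum.comap f ∘ PrimeSpectrum.comap (η.q B) := by
      rw [← PrimeSpectrum.comap_comp, ← PrimeSpectrum.comap_comp, hcomp]
    have hbA := Groth.Agent.H23EtaPt.comap_q_bijective η hA
    have hbB := Groth.Agent.H23EtaPt.comap_q_bijective η hB
    rw [← Function.Surjective.of_comp_iff' hbA (PrimeSpectrum.comap g), h]
    exact (hbB.surjective.of_comp_iff _).symm

end Groth.Agent.S19577
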