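import Groth.Statements.S19578
import Groth.Agent.H23EtaPt.Extra

set_option autoImplicit false
universe u
open EtaPt

namespace Groth.Agent.S19578

/-- Let f : A → B be a homomorphism of commutative rings, each with only finitely many minimal primes,
and suppose the induced map M_η(f) : M_η(A) → M_η(B) is an isomorphism. Then Spec f is a bijection
between the prime ideals of B and of A, and for every prime q of B, with p = f⁻¹(q), there is a ring
map φ : k(q) → F(k(p)) whose composite with the residue field map k(p) → k(q) equals η_{k(p)}. Here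
η is the field-endofunctor datum of the pointwise construction, M_η(A) ⊆ ∏_p F(k(p)) the subring
attached to A with q_A : A → M_η(A), and M_η(f) : M_η(A) → M_η(B) the ring map induced by N_η(f),
pinned here as the ring map g compatible with N_η(f) under the two subring inclusions. -/
theorem result (η : EtaPt.FieldEndo.{u}) {A B : Type u} [CommRing A] [CommRing B]
    (hA : (minimalPrimes A).Finite) (hB : (minimalPrimes B).Finite) (f : A →+* B)
    (g : η.M A →+* η.M B) (hg : ∀ x : η.M A, ((g x : η.M B) : η.N B) = η.Nmap f (x : η.N A))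
    (hbij : Function.Bijective g) :
    Function.Bijective (PrimeSpectrum.comap f) ∧
      ∀ Q : PrimeSpectrum B,
        ∃ φ : Q.asIdeal.ResidueField →+* η.obj (PrimeSpectrum.comap f Q).asIdeal.ResidueField,
          φ.comp (Ideal.ResidueField.map (PrimeSpectrum.comap f Q).asIdeal Q.asIdeal f rfl) =
            η.eta (PrimeSpectrum.comap f Q).asIdeal.ResidueField := by
  have hcomp : g.comp (η.q A) = (η.q B).comp f := RingHom.ext fun a => Subtype.ext ((hg (η.q A a)).trans (η.Nmap_t_apply f a))
  let e := RingEquiv.ofBijective g hbij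
  let h : B →+* η.M A := e.symm.toRingHom.comp (η.q B)
  have hh : h.comp f = η.q A := RingHom.ext fun a => by
    show e.symm (η.q B (f a)) = η.q A a
    rw [← RingHom.comp_apply (η.q B) f, ← hcomp]
    exact e.symm_apply_apply _
  have hbA := Groth.Agent.H23EtaPt.comap_q_bijective η hA
  have hbB := Groth.Agent.H23EtaPt.comap_q_bijective η hB
  have hbe : Function.Bijective (PrimeSpectrum.comap g) := (PrimeSpectrum.comapEquiv e).symm.bijective
  have hcmp : PrimeSpectrum.comap (η.q A) ∘ PrimeSpectrum.comap g = PrimeSpectrum.comap f ∘ PrimeSpectrum.comap (η.q B) := by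
    rw [← PrimeSpectrum.comap_comp, ← PrimeSpectrum.comap_comp, hcomp]
  have hbf : Function.Bijective (PrimeSpectrum.comap f) :=
    (Function.Bijective.of_comp_iff _ hbB).mp (hcmp ▸ hbA.comp hbe)
  refine ⟨hbf, (Groth.Agent.H23EtaPt.Nmap_bijective_of_points η f hbf
    (fun Q => (Groth.Agent.H23EtaPt.evM η _).comp h) (fun Q => ?_) fun Q => by
      rw [RingHom.comp_assoc, hh, Groth.Agent.H23EtaPt.evM_comp_q]).1⟩
  have hk : PrimeSpectrum.comap f (Groth.Agent.H23EtaPt.pt ((Groth.Agent.H23EtaPt.evM η (PrimeSpectrum.comap f Q)).comp h)) =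
      PrimeSpectrum.comap f Q := PrimeSpectrum.ext (by
    show (RingHom.ker _).comap f = _
    rw [RingHom.comap_ker, RingHom.comp_assoc, hh, Groth.Agent.H23EtaPt.evM_comp_q, Groth.Agent.H23EtaPt.ker_gpt])
  exact congrArg PrimeSpectrum.asIdeal (hbf.1 hk)

end Groth.Agent.S19578
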