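import Groth.Statements.S19579
import Groth.Agent.H25AbCube.SeesawPoints
import Groth.Agent.H12Pic.Cube.RelSlices


set_option autoImplicit false
set_option linter.style.haveILetI false
set_option backward.isDefEq.respectTransparency false
set_option synthInstance.maxHeartbeats 200000
universe u
open CategoryTheory CategoryTheory.Limits MonoidalCategory CartesianMonoidalCategory MonObj AlgebraicGeometry
open AbVar

namespace Groth.Agent.S19579

/-- The implication from triviality of the Mumford bundle on one fibre to its triviality relative to the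
base, with the identification of the descended bundle. Let X be an abelian variety over a field k
(proper, geometrically integral k-group scheme with multiplication m and unit e), T a connected
locally Noetherian k-scheme and L an invertible module on X ×_k T. On X ×_k X ×_k T let m_T, p_13,
p_23 be the maps to X ×_k T induced by m and by the two projections X × X → X, π the projection to
T, and e_T : T → X ×_k T the unit section. If there is a point t of T over whose fibre X × X × Spec
k(t) the modules m_T^*L and p_13^*L ⊗ p_23^*L become isomorphic (equivalently the Mumford bundle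
Λ(L) = m_T^*L ⊗ p_13^*L⁻¹ ⊗ p_23^*L⁻¹ is trivial on one fibre), then m_T^*L ⊗ π^*(e_T^*L) and
p_13^*L ⊗ p_23^*L are isomorphic on all of X × X × T, i.e. Λ(L) ≅ π^*N with N = e_T^*L⁻¹ (existence
of an isomorphism). -/
theorem result (k : Type u) [Field k]
    (X T : Over (Spec (CommRingCat.of k)))
    [GrpObj X] [IsProper X.hom] [GeometricallyIntegral X.hom]
    [IsLocallyNoetherian T.left] [ConnectedSpace ↥T.left]
    (L : (X ⊗ T).left.Modules) (hL : PicF.IsInvertible L)
    (t : ↥T.left)
    (ht : Nonempty
      ((Scheme.Modules.pullback (pullback.fst (snd (X ⊗ X) T).left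
          (T.left.fromSpecResidueField t))).obj
          ((Scheme.Modules.pullback (μ[X] ▷ T).left).obj L) ≅
       (Scheme.Modules.pullback (pullback.fst (snd (X ⊗ X) T).left
          (T.left.fromSpecResidueField t))).obj
          (CohB1.tensorMod ((Scheme.Modules.pullback (fst X X ▷ T).left).obj L)
            ((Scheme.Modules.pullback (snd X X ▷ T).left).obj L)))) :
    Nonempty
      (CohB1.tensorMod ((Scheme.Modules.pullback (μ[X] ▷ T).left).obj L)
          ((Scheme.Modules.pullback (snd (X ⊗ X) T).left).obj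
            ((Scheme.Modules.pullback (CartesianMonoidalCategory.lift (toUnit T ≫ η[X]) (𝟙 T)).left).obj L)) ≅
        CohB1.tensorMod ((Scheme.Modules.pullback (fst X X ▷ T).left).obj L)
          ((Scheme.Modules.pullback (snd X X ▷ T).left).obj L)) := by
  classical
  haveI : LocallyOfFinitePresentation X.hom := by
    haveI : IsNoetherianRing (CommRingCat.of k) := inferInstanceAs (IsNoetherianRing k)
    exact LocallyOfFinitePresentation.iff_locallyOfFiniteType.2 inferInstance
  haveI : Flat X.hom := inferInstance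
  let ℓ := H25AbCube.pc L hL
  let N := H25AbCube.pullP (CartesianMonoidalCategory.lift (toUnit T ≫ η[X]) (𝟙 T)).left ℓ
  let θ : H25AbCube.PC ((X ⊗ X) ⊗ T).left :=
    H25AbCube.pullP (μ[X] ▷ T).left ℓ + H25AbCube.pullP (snd (X ⊗ X) T).left N -
      (H25AbCube.pullP (fst X X ▷ T).left ℓ + H25AbCube.pullP (snd X X ▷ T).left ℓ)
  obtain ⟨K, hK, hKθ⟩ := H25AbCube.exists_rep θ
  have hev : ∀ {D : Over (Spec (CommRingCat.of k))} (q : D ⟶ (X ⊗ X) ⊗ T),
      H25AbCube.ev θ q = H25AbCube.ev ℓ (lift ((q ≫ fst _ _ ≫ fst _ _) * (q ≫ fst _ _ ≫ snd _ _)) (q ≫ snd _ _)) +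
        H25AbCube.ev ℓ (lift (toUnit D ≫ η[X]) (q ≫ snd _ _)) -
        (H25AbCube.ev ℓ (lift (q ≫ fst _ _ ≫ fst _ _) (q ≫ snd _ _)) +
          H25AbCube.ev ℓ (lift (q ≫ fst _ _ ≫ snd _ _) (q ≫ snd _ _))) := by
    intro D q
    show H25AbCube.pullP q.left θ = _
    simp only [θ, N, map_sub, map_add]
    simp only [H25AbCube.pullP_pullP, ← Over.comp_left, H25AbCube.ev]
    have hμ : μ[X] = fst X X * snd X X := by rw [Hom.mul_def, lift_fst_snd, Category.id_comp]
    congr 4
    all_goals congr 1
    all_goals
      ext1 <;>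
      simp only [Category.assoc, whiskerRight_fst, whiskerRight_snd, lift_fst, lift_snd, Category.comp_id,
        MonObj.comp_mul, comp_toUnit_assoc, hμ]
  have hone : ∀ (D : Over (Spec (CommRingCat.of k))), (toUnit D ≫ η[X] : D ⟶ X) = 1 := fun D => by
    rw [Hom.one_def]
  have htriv : ∀ {D : Scheme.{u}} (l : D ⟶ ((X ⊗ X) ⊗ T).left),
      H25AbCube.pullP l θ = 0 → Groth.Agent.H12Pic.Cube.Triv l K := fun l h => by
    refine (H25AbCube.pc_eq_iff (H11Ample.isInvertible_pullback _ hK) H11Ample.isInvertible_structureModule).1 ?_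
    rw [H25AbCube.pullP_pc _ K hK, hKθ, h, H25AbCube.pc_one]
  let RD : Groth.Agent.H12Pic.Cube.RelData X.hom X.hom T.hom K :=
    { hL := hK
      x := η[X].left
      hx := Over.w η[X]
      y := η[X].left
      hy := Over.w η[X]
      triv_x := fun {D} l hl => htriv l (by
        let D' := Over.mk (l ≫ ((X ⊗ X) ⊗ T).hom)
        let q : D' ⟶ (X ⊗ X) ⊗ T := Over.homMk l rfl
        have ha : q ≫ fst _ _ ≫ fst X X = toUnit D' ≫ η[X] := by
          refine Over.OverMorphism.ext (hl.trans ?_)
          refine congrArg (· ≫ η[X].left) ?_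
          exact (congrArg (l ≫ ·) Limits.pullback.condition.symm)
        show H25AbCube.ev θ q = 0
        rw [hev, ha, hone, _root_.one_mul]
        abel)
      triv_y := fun {D} l hl => htriv l (by
        let D' := Over.mk (l ≫ ((X ⊗ X) ⊗ T).hom)
        let q : D' ⟶ (X ⊗ X) ⊗ T := Over.homMk l rfl
        have hb : q ≫ fst _ _ ≫ snd X X = toUnit D' ≫ η[X] := by
          refine Over.OverMorphism.ext (hl.trans ?_)
          refine congrArg (· ≫ η[X].left) ?_
          exact (congrArg (l ≫ ·) Limits.pullback.condition.symm)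
        show H25AbCube.ev θ q = 0
        rw [hev, hb, hone, _root_.mul_one]
        abel) }
  have hi := H11Ample.isInvertible_pullback (μ[X] ▷ T).left hL
  have he := H11Ample.isInvertible_pullback (CartesianMonoidalCategory.lift (toUnit T ≫ η[X]) (𝟙 T)).left hL
  have hj := H11Ample.isInvertible_pullback (snd (X ⊗ X) T).left he
  have h1 := H11Ample.isInvertible_pullback (fst X X ▷ T).left hL
  have h2 := H11Ample.isInvertible_pullback (snd X X ▷ T).left hL
  have hz : Groth.Agent.H12Pic.Cube.Triv
      ((Groth.Agent.H12Pic.Cube.q₃ X.hom X.hom T.hom).fiberι t) K := by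
    let jt := Limits.pullback.fst (snd (X ⊗ X) T).left (T.left.fromSpecResidueField t)
    refine htriv jt ?_
    have h12 := H11Ample.isInvertible_tensor h1 h2
    have h := (H25AbCube.pc_eq_iff (H11Ample.isInvertible_pullback jt hi) (H11Ample.isInvertible_pullback jt h12)).2 ht
    rw [H25AbCube.pullP_pc jt _ hi, H25AbCube.pullP_pc jt _ h12, H25AbCube.pc_tensor h1 h2 _, H25AbCube.pullP_pc _ L hL,
      H25AbCube.pullP_pc _ L hL, H25AbCube.pullP_pc _ L hL] at h
    haveI : Subsingleton (Spec (T.left.residueField t)) := inferInstanceAs (Subsingleton (PrimeSpectrum (T.left.residueField t)))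
    haveI : Nonempty (Spec (T.left.residueField t)) := inferInstanceAs (Nonempty (PrimeSpectrum (T.left.residueField t)))
    have hN : H25AbCube.pullP jt (H25AbCube.pullP (snd (X ⊗ X) T).left N) = 0 := by
      rw [H25AbCube.pullP_pullP, Limits.pullback.condition, ← H25AbCube.pullP_pullP,
        H25AbCube.eq_zero_of_subsingleton (H25AbCube.pullP (T.left.fromSpecResidueField t) N), map_zero]
    simp only [θ]
    rw [map_sub, map_add, hN, _root_.add_zero]
    exact sub_eq_zero.2 h
  obtain ⟨W, hW, hzW, hT⟩ := Groth.Agent.H12Pic.Cube.exists_clopen_triv RD (z := t) hz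
  have hWtop : W = ⊤ := TopologicalSpace.Opens.ext
    ((isClopen_iff.1 ⟨hW, W.isOpen⟩).resolve_left (Set.nonempty_iff_ne_empty.1 ⟨t, hzW⟩))
  subst hWtop
  obtain ⟨φ⟩ := hT.comp' ((X ⊗ X) ⊗ T).left.topIso.inv ((X ⊗ X) ⊗ T).left.topIso.inv_hom_id
  have h0 : θ = 0 := by
    rw [← hKθ, ← H25AbCube.pc_one]
    exact (H25AbCube.pc_eq_iff hK H11Ample.isInvertible_structureModule).2
      ⟨((Scheme.Modules.pullbackId _).app K).symm ≪≫ φ⟩
  refine (H25AbCube.pc_eq_iff (H11Ample.isInvertible_tensor hi hj) (H11Ample.isInvertible_tensor h1 h2)).1 ?_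
  rw [H25AbCube.pc_tensor hi hj _, H25AbCube.pc_tensor h1 h2 _, H25AbCube.pullP_pc _ _ he, H25AbCube.pullP_pc _ L hL,
    H25AbCube.pullP_pc _ L hL, H25AbCube.pullP_pc _ L hL, H25AbCube.pullP_pc _ L hL]
  exact sub_eq_zero.1 h0

end Groth.Agent.S19579
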