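import Groth.Statements.S19582
import Groth.Agent.H29Blow.Relative
import Groth.Agent.H3Cyc.UnivEquidim

set_option autoImplicit false
set_option backward.isDefEq.respectTransparency.types false
universe u
open Cyc

namespace Groth.Agent.S19582

open CategoryTheory CategoryTheory.Limits AlgebraicGeometry TopologicalSpace

/-- The scheme-theoretic image of a scheme over the fraction field is flat over the DVR. -/
theorem flat_ker {R : Type u} [CommRing R] [IsDomain R] [IsDiscreteValuationRing R]
    {P P₀ : Scheme.{u}} (q : P ⟶ Spec (CommRingCat.of R))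
    (q₀ : P₀ ⟶ Spec (CommRingCat.of (FractionRing R))) (j : P₀ ⟶ P) [QuasiCompact j]
    (h : j ≫ q = q₀ ≫ Spec.map (CommRingCat.ofHom (algebraMap R (FractionRing R)))) :
    Flat (j.ker.subschemeι ≫ q) := by
  rw [H29Blow.flat_subscheme_iff]
  intro x _
  let U : (Spec (CommRingCat.of R)).affineOpens := ⟨⊤, isAffineOpen_top _⟩
  obtain ⟨V, hV, hxV, -⟩ := exists_isAffineOpen_mem_and_subset (Opens.mem_top x)
  refine ⟨U, ⟨V, hV⟩, hxV, fun _ _ => trivial, ?_⟩
  let er : R ≃+* Γ(Spec (CommRingCat.of R), ⊤) :=
    (Scheme.ΓSpecIso (CommRingCat.of R)).symm.commRingCatIsoToRingEquiv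
  haveI : IsDomain Γ(Spec (CommRingCat.of R), U.1) := er.symm.toMulEquiv.isDomain R
  haveI : IsPrincipalIdealRing Γ(Spec (CommRingCat.of R), U.1) :=
    IsPrincipalIdealRing.of_surjective er.toRingHom er.surjective
  letI := ((Ideal.Quotient.mk (j.ker.ideal ⟨V, hV⟩)).comp
    (q.appLE U.1 V (fun _ _ => trivial)).hom).toAlgebra
  show Module.Flat Γ(Spec (CommRingCat.of R), U.1) (Γ(P, V) ⧸ j.ker.ideal ⟨V, hV⟩)
  rw [IsDedekindDomain.flat_iff_torsion_eq_bot, Submodule.eq_bot_iff]
  intro y hy
  obtain ⟨⟨c, hc⟩, hcy⟩ := (Submodule.mem_torsion_iff y).mp hy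
  obtain ⟨a, rfl⟩ := Ideal.Quotient.mk_surjective y
  have hmul : Ideal.Quotient.mk (j.ker.ideal ⟨V, hV⟩) (q.appLE U.1 V (fun _ _ => trivial) c * a) = 0 := by
    rw [map_mul]
    exact hcy
  rw [Ideal.Quotient.eq_zero_iff_mem, Scheme.Hom.ker_apply, RingHom.mem_ker, map_mul] at hmul
  rw [Ideal.Quotient.eq_zero_iff_mem, Scheme.Hom.ker_apply, RingHom.mem_ker]
  refine (IsUnit.mul_right_eq_zero ?_).mp hmul
  -- the image of `c` is pulled back from a nonzero element of the field
  have hK : IsUnit ((Spec.map (CommRingCat.ofHom (algebraMap R (FractionRing R)))).appTop c) := by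
    obtain ⟨r, rfl⟩ := er.surjective c
    have hr : r ≠ 0 := fun hr => by
      subst hr
      rw [map_zero] at hc
      exact zero_notMem_nonZeroDivisors hc
    have hnat := DFunLike.congr_fun (congrArg CommRingCat.Hom.hom
      (Scheme.ΓSpecIso_inv_naturality (CommRingCat.ofHom (algebraMap R (FractionRing R))))) r
    simp only [CommRingCat.hom_comp, RingHom.coe_comp, Function.comp_apply, CommRingCat.hom_ofHom] at hnat
    rw [show (Spec.map (CommRingCat.ofHom (algebraMap R (FractionRing R)))).appTop (er r) = _ from hnat.symm]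
    exact (IsUnit.map _ (isUnit_iff_ne_zero.mpr ((map_ne_zero_iff _
      (IsFractionRing.injective R (FractionRing R))).mpr hr)))
  have h2 : q.appLE U.1 V (fun _ _ => trivial) ≫ j.app V =
      (Spec.map (CommRingCat.ofHom (algebraMap R (FractionRing R)))).appTop ≫
        q₀.appLE (Spec.map (CommRingCat.ofHom (algebraMap R (FractionRing R))) ⁻¹ᵁ ⊤) (j ⁻¹ᵁ V)
          (fun _ _ => trivial) := by
    rw [Scheme.Hom.app_eq_appLE, Scheme.Hom.appLE_comp_appLE, Scheme.Hom.appTop,
      Scheme.Hom.app_eq_appLE]
    simp only [h]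
    exact (Scheme.Hom.appLE_comp_appLE _ _ _ _ _ _ _).symm
  have h3 := DFunLike.congr_fun (congrArg CommRingCat.Hom.hom h2) c
  simp only [CommRingCat.hom_comp, RingHom.coe_comp, Function.comp_apply] at h3
  rw [h3]
  exact hK.map _

end Groth.Agent.S19582

namespace Groth.Agent.S19582

open CategoryTheory CategoryTheory.Limits AlgebraicGeometry in
/-- Let S be a separated Noetherian scheme, p : X → S separated of finite type, z a point of X lying
over a generic point of an irreducible component of S whose closure in its fibre p⁻¹(p z) has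
dimension r, and ι : Z → X a closed immersion from a reduced scheme with image the closure of z. Let
R be a discrete valuation ring with fraction field K and x : Spec R → S a morphism sending the
generic point of Spec R to a generic point of an irreducible component of S, and let q : φ → Spec R
be the flat closure φ = φ_x(Z) of Z along x, i.e. the scheme-theoretic image of Z ×_S Spec K in Z
×_S Spec R, with its projection to Spec R. Then q is universally equidimensional of dimension r: for
every scheme S' and every S' → Spec R, the base change φ ×_R S' → S' has local fibre dimension r at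
every point (the dimension at w of the fibre through w is r) and every irreducible component of φ
×_R S' dominates an irreducible component of S'. -/
theorem result {X S Z : Scheme.{u}} [IsNoetherian S] [S.IsSeparated] [X.IsSeparated]
    (p : X ⟶ S) [LocallyOfFiniteType p] [QuasiCompact p] (z : X) (hz : closure {p.base z} ∈ irreducibleComponents ↥S)
    (r : ℕ) (hr : topologicalKrullDim ↥(closure ({p.asFiber z} : Set ↥(p.fiber (p.base z)))) = r)
    (ι : Z ⟶ X) [IsClosedImmersion ι] [IsReduced Z] (hZ : Set.range ι.base = closure {z})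
    (R : Type u) [CommRing R] [IsDomain R] [IsDiscreteValuationRing R] (x : Spec (CommRingCat.of R) ⟶ S)
    (hx : closure {x.base ⟨⊥, Ideal.isPrime_bot⟩} ∈ irreducibleComponents ↥S)
    (q : (pullback.map (ι ≫ p) (Spec.map (CommRingCat.ofHom (algebraMap R (FractionRing R))) ≫ x) (ι ≫ p) x (𝟙 Z) (Spec.map (CommRingCat.ofHom (algebraMap R (FractionRing R)))) (𝟙 S) ((Category.comp_id _).trans (Category.id_comp _).symm) (Category.comp_id _)).ker.subscheme ⟶ Spec (CommRingCat.of R))
    (hq : q = (pullback.map (ι ≫ p) (Spec.map (CommRingCat.ofHom (algebraMap R (FractionRing R))) ≫ x) (ι ≫ p) x (𝟙 Z) (Spec.map (CommRingCat.ofHom (algebraMap R (FractionRing R)))) (𝟙 S) ((Category.comp_id _).trans (Category.id_comp _).symm) (Category.comp_id _)).ker.subschemeι ≫ pullback.snd (ι ≫ p) x)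
    (S' : Scheme.{u}) (g : S' ⟶ Spec (CommRingCat.of R)) :
    (∀ w : ↥(pullback q g), FlatMor.fibreDimAt (pullback.snd q g) w = r) ∧
      ∀ C ∈ irreducibleComponents ↥(pullback q g),
        closure ((pullback.snd q g).base '' C) ∈ irreducibleComponents ↥S' := by
  subst hq
  set j := pullback.map (ι ≫ p) (Spec.map (CommRingCat.ofHom (algebraMap R (FractionRing R))) ≫ x)
    (ι ≫ p) x (𝟙 Z) (Spec.map (CommRingCat.ofHom (algebraMap R (FractionRing R)))) (𝟙 S)
    ((Category.comp_id _).trans (Category.id_comp _).symm) (Category.comp_id _) with hjdef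
  let sK := Spec.map (CommRingCat.ofHom (algebraMap R (FractionRing R)))
  have hjsnd : j ≫ pullback.snd (ι ≫ p) x = pullback.snd _ _ ≫ sK := pullback.lift_snd _ _ _
  have hjfst : j ≫ pullback.fst (ι ≫ p) x = pullback.fst _ _ :=
    (pullback.lift_fst _ _ _).trans (Category.comp_id _)
  have hsqj : IsPullback j (pullback.snd _ _) (pullback.snd (ι ≫ p) x) sK := by
    refine IsPullback.of_right ?_ hjsnd (IsPullback.of_hasPullback (ι ≫ p) x)
    rw [hjfst]
    exact IsPullback.of_hasPullback _ _
  haveI : QuasiCompact j := MorphismProperty.of_isPullback (P := @QuasiCompact) hsqj.flip inferInstance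
  haveI : Flat (j.ker.subschemeι ≫ pullback.snd (ι ≫ p) x) :=
    flat_ker (pullback.snd (ι ≫ p) x) _ j hjsnd
  refine Groth.Agent.H3Cyc.UnivEquidim.univEquidim (j.ker.subschemeι ≫ pullback.snd (ι ≫ p) x) r
    (fun v hv => ?_) g
  -- `v` lies over the generic point of `Spec R`
  have hqv : (j.ker.subschemeι ≫ pullback.snd (ι ≫ p) x) v = (⟨⊥, Ideal.isPrime_bot⟩ : PrimeSpectrum R) :=
    (hv ⟨⊥, Ideal.isPrime_bot⟩ ((PrimeSpectrum.le_iff_specializes _ _).mp bot_le)).symm
  set w := j.ker.subschemeι v
  have hw : pullback.snd (ι ≫ p) x w = (⟨⊥, Ideal.isPrime_bot⟩ : PrimeSpectrum R) := by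
    exact hqv
  have hfib : ∀ w', pullback.snd (ι ≫ p) x w' = pullback.snd (ι ≫ p) x w →
      w' ∈ Set.range j.ker.subschemeι := by
    intro w' hw'
    rw [Scheme.IdealSheafData.range_subschemeι]
    refine j.range_subset_ker_support ?_
    have : w' ∈ Set.range (pullback.fst (pullback.snd (ι ≫ p) x) sK) := by
      rw [Scheme.Pullback.range_fst]
      refine ⟨IsLocalRing.closedPoint (FractionRing R), ?_⟩
      rw [hw', hw]
      refine PrimeSpectrum.ext ?_
      show Ideal.comap (algebraMap R (FractionRing R)) (IsLocalRing.maximalIdeal _) = ⊥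
      rw [IsLocalRing.maximalIdeal_eq_bot]
      exact Ideal.comap_bot_of_injective _ (IsFractionRing.injective R (FractionRing R))
    obtain ⟨y, rfl⟩ := this
    refine ⟨hsqj.isoPullback.inv y, ?_⟩
    rw [← Scheme.Hom.comp_apply, hsqj.isoPullback_inv_fst]
  rw [Groth.Agent.H3Cyc.UnivEquidim.fibreDimAt_comp_closedImmersion j.ker.subschemeι
    (pullback.snd (ι ≫ p) x) v hfib,
    Groth.Agent.H8Props.FieldDim.fibreDimAt_baseChange (ι ≫ p) (IsPullback.of_hasPullback (ι ≫ p) x)]
  refine Groth.Agent.H3Cyc.UnivEquidim.fibreDimAt_closure_point p z r hr ι hZ _ ?_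
  rw [← Scheme.Hom.comp_apply, pullback.condition, Scheme.Hom.comp_apply, hw]
  obtain ⟨η, hη, hmax⟩ := Groth.Agent.H8Props.FieldDim.mem_irreducibleComponents_iff hx
  obtain rfl := Groth.Agent.H06EGA14.eq_of_closure_singleton_eq hη
  exact hmax

end Groth.Agent.S19582
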