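import Groth.Statements.S19583
import Groth.Agent.H29Blow.Relative
import Mathlib.AlgebraicGeometry.PullbackCarrier

set_option autoImplicit false
set_option backward.isDefEq.respectTransparency.types false
universe u
open Cyc

namespace Groth.Agent.S19583

open CategoryTheory CategoryTheory.Limits AlgebraicGeometry TopologicalSpace

section DVR

variable (R : Type u) [CommRing R] [IsDomain R] [IsDiscreteValuationRing R]

theorem isLocalization_away {ϖ : R} (hϖ : Irreducible ϖ) :
    IsLocalization.Away ϖ (FractionRing R) := by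
  have hle : Submonoid.powers ϖ ≤ nonZeroDivisors R := by
    rintro _ ⟨n, rfl⟩
    exact mem_nonZeroDivisors_of_ne_zero (pow_ne_zero _ hϖ.ne_zero)
  refine ⟨fun y => IsLocalization.map_units (M := nonZeroDivisors R) (FractionRing R) ⟨y.1, hle y.2⟩, fun z => ?_,
    fun {x y} h => ⟨1, by simp [IsFractionRing.injective R (FractionRing R) h]⟩⟩
  obtain ⟨⟨a, b⟩, hab⟩ := IsLocalization.surj (nonZeroDivisors R) z
  obtain ⟨n, w, hw⟩ := IsDiscreteValuationRing.eq_unit_mul_pow_irreducible
    (nonZeroDivisors.ne_zero b.2) hϖ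
  refine ⟨⟨a * (↑w⁻¹ : R), ⟨ϖ ^ n, n, rfl⟩⟩, ?_⟩
  have hb : ϖ ^ n = (b : R) * (↑w⁻¹ : R) := by
    rw [hw, mul_right_comm, Units.mul_inv, one_mul]
  show z * algebraMap R _ (ϖ ^ n) = algebraMap R _ (a * _)
  rw [hb, map_mul, map_mul, ← mul_assoc]
  exact congrArg (· * _) hab

theorem isEffCartierIdeal_of_bot_notMem (I : (Spec (CommRingCat.of R)).IdealSheafData)
    (h : (⟨⊥, Ideal.isPrime_bot⟩ : PrimeSpectrum R) ∉ (I.support : Set ↥(Spec (CommRingCat.of R)))) :
    BlowUp.IsEffCartierIdeal I := by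
  intro x
  let U : (Spec (CommRingCat.of R)).affineOpens := ⟨⊤, isAffineOpen_top _⟩
  let e : R ≃+* Γ(Spec (CommRingCat.of R), ⊤) :=
    (Scheme.ΓSpecIso (CommRingCat.of R)).symm.commRingCatIsoToRingEquiv
  haveI : IsDomain Γ(Spec (CommRingCat.of R), ⊤) := e.symm.toMulEquiv.isDomain R
  haveI : IsPrincipalIdealRing Γ(Spec (CommRingCat.of R), ⊤) :=
    IsPrincipalIdealRing.of_surjective e.toRingHom e.surjective
  obtain ⟨a, ha⟩ := (IsPrincipalIdealRing.principal (I.ideal U)).principal
  refine ⟨U, trivial, a, mem_nonZeroDivisors_of_ne_zero fun ha0 => h ?_, ha⟩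
  change _ ∈ I.support
  rw [Scheme.IdealSheafData.mem_support_iff_of_mem (U := U) trivial]
  rw [ha, ha0, Scheme.mem_zeroLocus_iff]
  intro f hf
  rw [Submodule.span_zero_singleton, SetLike.mem_coe, Submodule.mem_bot] at hf
  rw [hf]
  simp

end DVR

/-- Strict transforms are killed on any morphism avoiding the centre. -/
theorem le_ker_of_avoid {T W : Scheme.{u}} (u : W ⟶ T) (𝓔 : T.IdealSheafData)
    (𝒥 : T.IdealSheafData)
    (h𝒥 : ∀ (V : T.affineOpens) (a : Γ(T, V.1)), a ∈ 𝒥.ideal V →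
      BlowUp.KilledByPowerNear 𝓔 (Coh.structureModule T) V a)
    (hu : ∀ w : W, u w ∉ (𝓔.support : Set ↥T)) : 𝒥 ≤ u.ker := by
  rw [Scheme.Hom.ker, Scheme.IdealSheafData.le_ofIdeals_iff]
  intro V a ha
  rw [RingHom.mem_ker]
  obtain ⟨n, hn⟩ := h𝒥 V a ha
  have hex : ∀ w : ↥(u ⁻¹ᵁ V.1), ∃ e ∈ 𝓔.ideal V, u w.1 ∈ T.basicOpen e := by
    intro w
    have := hu w.1
    change ¬ _ ∈ 𝓔.support at this
    rw [Scheme.IdealSheafData.mem_support_iff_of_mem (U := V) w.2, Scheme.mem_zeroLocus_iff] at this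
    push Not at this
    exact this
  choose e he hwe using hex
  refine W.sheaf.eq_of_locally_eq' (fun w => W.basicOpen (u.app V.1 (e w))) (u ⁻¹ᵁ V.1)
    (fun w => homOfLE (W.basicOpen_le _)) ?_ _ _ fun w => ?_
  · intro w hw
    refine Opens.mem_iSup.mpr ⟨⟨w, hw⟩, ?_⟩
    rw [← Scheme.preimage_basicOpen]
    exact hwe ⟨w, hw⟩
  · have h1 : (e w) ^ n * a = 0 := hn _ (Ideal.pow_mem_pow (he w) n)
    have h2 := congrArg (fun x => (W.presheaf.map (homOfLE (W.basicOpen_le (u.app V.1 (e w)))).op).hom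
      ((u.app V.1).hom x)) h1
    simp only [map_mul, map_pow, map_zero] at h2
    refine Eq.trans ?_ (map_zero _).symm
    exact ((RingedSpace.isUnit_res_basicOpen W.toRingedSpace (u.app V.1 (e w))).pow n).mul_right_eq_zero.mp h2

/-- Schematic density of the generic fibre for flat quotients. -/
theorem ker_le_of_flat {R : Type u} [CommRing R] {P P₀ : Scheme.{u}}
    (q : P ⟶ Spec (CommRingCat.of R)) (ϖ : R) (hϖ : ϖ ∈ nonZeroDivisors R) (j : P₀ ⟶ P)
    [IsOpenImmersion j]
    (hj : q ⁻¹' (PrimeSpectrum.basicOpen ϖ : Set (PrimeSpectrum R)) ⊆ Set.range j)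
    (J : P.IdealSheafData) [Flat (J.subschemeι ≫ q)] : j.ker ≤ J := by
  intro V a ha
  have ha0 : j.app V.1 a = 0 := RingHom.mem_ker.mp (Scheme.IdealSheafData.ideal_ofIdeals_le _ V ha)
  let U : (Spec (CommRingCat.of R)).affineOpens := ⟨⊤, isAffineOpen_top _⟩
  have e : V.1 ≤ q ⁻¹ᵁ U.1 := fun _ _ => trivial
  let ϖ₀ : Γ(Spec (CommRingCat.of R), ⊤) := (Scheme.ΓSpecIso (CommRingCat.of R)).inv ϖ
  let c : Γ(P, V.1) := q.appLE ⊤ V.1 e ϖ₀
  have hD : P.basicOpen c ≤ j.opensRange := by
    intro x hx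
    apply hj
    have : x ∈ q ⁻¹ᵁ (Spec (CommRingCat.of R)).basicOpen ϖ₀ := by
      rw [Scheme.preimage_basicOpen]
      have hx' : x ∈ P.basicOpen ((P.presheaf.map (homOfLE e).op).hom ((q.app ⊤).hom ϖ₀)) := hx
      rw [Scheme.basicOpen_res] at hx'
      exact hx'.2
    rw [show (Spec (CommRingCat.of R)).basicOpen ϖ₀ = PrimeSpectrum.basicOpen ϖ from
      basicOpen_eq_of_affine (R := CommRingCat.of R) ϖ] at this
    exact this
  have hres : (P.presheaf.map (homOfLE (P.basicOpen_le c)).op).hom a = 0 := by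
    haveI := Scheme.Hom.isIso_app j _ hD
    apply (ConcreteCategory.bijective_of_isIso (j.app (P.basicOpen c))).injective
    have := DFunLike.congr_fun (congrArg CommRingCat.Hom.hom
      (j.naturality (homOfLE (P.basicOpen_le c)).op)) a
    simp only [CommRingCat.hom_comp, RingHom.coe_comp, Function.comp_apply] at this
    rw [map_zero]
    refine this.trans ?_
    rw [ha0, map_zero]
  haveI := V.2.isLocalization_basicOpen c
  obtain ⟨⟨_, n, rfl⟩, hn⟩ := (IsLocalization.map_eq_zero_iff (Submonoid.powers c)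
    Γ(P, P.basicOpen c) a).mp hres
  have hflat : ((Ideal.Quotient.mk (J.ideal V)).comp (q.appLE U.1 V.1 e).hom).Flat :=
    (H29Blow.subscheme_appLE_flat_iff q J U V e).mp
      (HasRingHomProperty.appLE @Flat (J.subschemeι ≫ q) inferInstance U
        ⟨_, V.2.preimage J.subschemeι⟩ _)
  have hϖ₀ : ϖ₀ ∈ nonZeroDivisors Γ(Spec (CommRingCat.of R), ⊤) := by
    refine mem_nonZeroDivisors_iff_right.mpr fun y hy => ?_
    have h2 := congrArg (Scheme.ΓSpecIso (CommRingCat.of R)).hom hy
    rw [map_mul, map_zero, show (Scheme.ΓSpecIso (CommRingCat.of R)).hom ϖ₀ = ϖ from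
      Iso.inv_hom_id_apply (Scheme.ΓSpecIso (CommRingCat.of R)) ϖ] at h2
    have h3 := mem_nonZeroDivisors_iff_right.mp hϖ _ h2
    rw [← Iso.hom_inv_id_apply (Scheme.ΓSpecIso (CommRingCat.of R)) y, h3, map_zero]
  have hnzd := H29Blow.mem_nonZeroDivisors_map_of_flat hflat hϖ₀
  rw [← Ideal.Quotient.eq_zero_iff_mem]
  have h2 := congrArg (Ideal.Quotient.mk (J.ideal V)) hn
  rw [map_mul, map_zero, map_pow] at h2
  exact (mul_left_mem_nonZeroDivisors_eq_zero_iff (pow_mem hnzd n)).mp h2

end Groth.Agent.S19583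

namespace Groth.Agent.S19583

open CategoryTheory CategoryTheory.Limits AlgebraicGeometry in
/-- Let S be a separated Noetherian scheme, p : X → S a morphism from a separated scheme X (no
finiteness condition), ι : Z → X a closed immersion, and b : S' → S a blowing up of S in a
quasi-coherent ideal with support S₀ such that (1) b restricts to a bijection between the generic
points of the irreducible components of S' and of S and (2) the strict transform Z~ of Z — the
closed subscheme of Z ×_S S' whose ideal consists, on each affine open, of the functions annihilated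
by a power of the pulled-back centre — is flat over S'. Let R be a discrete valuation ring with
fraction field K and f : Spec R → S a morphism sending the generic point of Spec R into S ∖ S₀. Then
f factors uniquely through b, and for the factorisation f' : Spec R → S' the flat closure φ_f(Z) ⊆ Z
×_S Spec R (the scheme-theoretic image of Z ×_S Spec K) coincides with Spec R ×_{S'} Z~: its ideal
sheaf equals the inverse image of the ideal of Z~ under the map Z ×_S Spec R → Z ×_S S' induced by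
f'. -/
theorem result {X S Z S' : Scheme.{u}} [IsNoetherian S] [S.IsSeparated] [X.IsSeparated]
    (p : X ⟶ S) (ι : Z ⟶ X) [IsClosedImmersion ι]
    (𝓘 : S.IdealSheafData) (b : S' ⟶ S) (hb : BlowUp.IsBlowUp b 𝓘)
    (hgen : Set.BijOn b.base {s' : ↥S' | closure {s'} ∈ irreducibleComponents ↥S'} {s : ↥S | closure {s} ∈ irreducibleComponents ↥S})
    (𝒥 : (pullback (ι ≫ p) b).IdealSheafData)
    (h𝒥 : ∀ (V : (pullback (ι ≫ p) b).affineOpens) (a : Γ(pullback (ι ≫ p) b, V.1)), a ∈ 𝒥.ideal V ↔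
      BlowUp.KilledByPowerNear ((𝓘.comap (ι ≫ p)).comap (pullback.fst (ι ≫ p) b)) (Coh.structureModule (pullback (ι ≫ p) b)) V a)
    [Flat (𝒥.subschemeι ≫ pullback.snd (ι ≫ p) b)]
    (R : Type u) [CommRing R] [IsDomain R] [IsDiscreteValuationRing R] (f : Spec (CommRingCat.of R) ⟶ S)
    (hf : f.base ⟨⊥, Ideal.isPrime_bot⟩ ∉ (𝓘.support : Set ↥S)) :
    (∃! f' : Spec (CommRingCat.of R) ⟶ S', f' ≫ b = f) ∧
      ∀ (f' : Spec (CommRingCat.of R) ⟶ S') (hf' : f' ≫ b = f),
        (pullback.map (ι ≫ p) (Spec.map (CommRingCat.ofHom (algebraMap R (FractionRing R))) ≫ f) (ι ≫ p) f (𝟙 Z) (Spec.map (CommRingCat.ofHom (algebraMap R (FractionRing R)))) (𝟙 S) ((Category.comp_id _).trans (Category.id_comp _).symm) (Category.comp_id _)).ker = 𝒥.comap (pullback.map (ι ≫ p) f (ι ≫ p) b (𝟙 Z) f' (𝟙 S) ((Category.comp_id _).trans (Category.id_comp _).symm) ((Category.comp_id f).trans hf'.symm)) := by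
  have hcart : BlowUp.IsEffCartierIdeal (𝓘.comap f) := by
    refine isEffCartierIdeal_of_bot_notMem R _ ?_
    rw [Scheme.IdealSheafData.support_comap]
    exact hf
  refine ⟨hb.2 _ f hcart, fun f' hf' => ?_⟩
  obtain ⟨ϖ, hϖ⟩ := IsDiscreteValuationRing.exists_irreducible R
  haveI := isLocalization_away R hϖ
  let sK := Spec.map (CommRingCat.ofHom (algebraMap R (FractionRing R)))
  haveI : IsOpenImmersion sK := IsOpenImmersion.of_isLocalization ϖ
  set j := pullback.map (ι ≫ p) (sK ≫ f) (ι ≫ p) f (𝟙 Z) sK (𝟙 S)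
    ((Category.comp_id _).trans (Category.id_comp _).symm) (Category.comp_id _) with hjdef
  set g := pullback.map (ι ≫ p) f (ι ≫ p) b (𝟙 Z) f' (𝟙 S)
    ((Category.comp_id _).trans (Category.id_comp _).symm) ((Category.comp_id f).trans hf'.symm)
    with hgdef
  have hjsnd : j ≫ pullback.snd (ι ≫ p) f = pullback.snd _ _ ≫ sK := pullback.lift_snd _ _ _
  have hgsnd : g ≫ pullback.snd (ι ≫ p) b = pullback.snd _ _ ≫ f' := pullback.lift_snd _ _ _
  have hjfst : j ≫ pullback.fst (ι ≫ p) f = pullback.fst _ _ :=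
    (pullback.lift_fst _ _ _).trans (Category.comp_id _)
  have hgfst : g ≫ pullback.fst (ι ≫ p) b = pullback.fst _ _ :=
    (pullback.lift_fst _ _ _).trans (Category.comp_id _)
  have hsqj : IsPullback j (pullback.snd _ _) (pullback.snd (ι ≫ p) f) sK := by
    refine IsPullback.of_right ?_ hjsnd (IsPullback.of_hasPullback (ι ≫ p) f)
    rw [hjfst]
    exact IsPullback.of_hasPullback _ _
  have hsqg : IsPullback g (pullback.snd _ _) (pullback.snd (ι ≫ p) b) f' := by
    refine IsPullback.of_right ?_ hgsnd (IsPullback.of_hasPullback (ι ≫ p) b)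
    rw [hgfst]
    simpa only [hf'] using IsPullback.of_hasPullback (ι ≫ p) f
  haveI : IsOpenImmersion j :=
    MorphismProperty.of_isPullback (P := @IsOpenImmersion) hsqj.flip ‹_›
  have hbot : ∀ w, (pullback.snd (ι ≫ p) f) (j w) = (⟨⊥, Ideal.isPrime_bot⟩ : PrimeSpectrum R) := by
    intro w
    rw [← Scheme.Hom.comp_apply, hjsnd, Scheme.Hom.comp_apply]
    refine PrimeSpectrum.ext ?_
    show Ideal.comap (algebraMap R (FractionRing R)) _ = ⊥
    rw [((Ideal.eq_bot_or_top _).resolve_right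
      ((pullback.snd (ι ≫ p) (sK ≫ f)) w).isPrime.ne_top)]
    exact Ideal.comap_bot_of_injective _ (IsFractionRing.injective R (FractionRing R))
  refine le_antisymm ?_ ?_
  · -- the flat part
    haveI : Flat ((𝒥.comap g).subschemeι ≫ pullback.snd (ι ≫ p) f) := by
      rw [← Scheme.IdealSheafData.comapIso_hom_fst, Category.assoc]
      have h1 : IsPullback (pullback.snd g 𝒥.subschemeι)
          (pullback.fst g 𝒥.subschemeι ≫ pullback.snd (ι ≫ p) f)
          (𝒥.subschemeι ≫ pullback.snd (ι ≫ p) b) f' :=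
        (IsPullback.of_hasPullback g 𝒥.subschemeι).flip.paste_vert hsqg
      haveI : Flat (pullback.fst g 𝒥.subschemeι ≫ pullback.snd (ι ≫ p) f) :=
        MorphismProperty.of_isPullback (P := @Flat) h1 ‹_›
      infer_instance
    refine ker_le_of_flat (pullback.snd (ι ≫ p) f) ϖ (mem_nonZeroDivisors_of_ne_zero hϖ.ne_zero) j ?_ _
    intro x hx
    have hr : Set.range sK = (PrimeSpectrum.basicOpen ϖ : Set (PrimeSpectrum R)) :=
      PrimeSpectrum.localization_away_comap_range (FractionRing R) ϖ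
    have : x ∈ Set.range (pullback.fst (pullback.snd (ι ≫ p) f) sK) := by
      rw [Scheme.Pullback.range_fst]
      show _ ∈ Set.range sK
      rw [hr]; exact hx
    obtain ⟨y, rfl⟩ := this
    refine ⟨hsqj.isoPullback.inv y, ?_⟩
    rw [← Scheme.Hom.comp_apply, hsqj.isoPullback_inv_fst]
  · rw [← Scheme.IdealSheafData.le_map_iff_comap_le, Scheme.IdealSheafData.map_ker]
    refine le_ker_of_avoid (j ≫ g) _ 𝒥 (fun V a ha => (h𝒥 V a).mp ha) fun w hw => hf ?_
    rw [Scheme.IdealSheafData.support_comap, Scheme.IdealSheafData.support_comap] at hw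
    have hw' : (ι ≫ p) (pullback.fst (ι ≫ p) b ((j ≫ g) w)) ∈ (𝓘.support : Set ↥S) := hw
    rw [← Scheme.Hom.comp_apply, ← Scheme.Hom.comp_apply] at hw'
    have heq : (((j ≫ g) ≫ pullback.fst (ι ≫ p) b) ≫ ι ≫ p) w = f ⟨⊥, Ideal.isPrime_bot⟩ := by
      have : ((j ≫ g) ≫ pullback.fst (ι ≫ p) b) ≫ ι ≫ p =
          (j ≫ pullback.snd (ι ≫ p) f) ≫ f := by
        simp only [Category.assoc, pullback.condition, reassoc_of% hgsnd, hf']
      rw [this, Scheme.Hom.comp_apply, Scheme.Hom.comp_apply, hbot w]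
    rwa [← heq]

end Groth.Agent.S19583
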