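import Groth.Statements.S19584
import Groth.Agent.H29Blow.MaxPoints
import Groth.Agent.H3Cyc.UnivEquidim

set_option autoImplicit false
set_option backward.isDefEq.respectTransparency.types false
universe u
open Cyc

namespace Groth.Agent.S19584

open CategoryTheory CategoryTheory.Limits AlgebraicGeometry in
/-- Let S be a separated Noetherian scheme, p : X → S separated of finite type, z a point of X lying
over a generic point of an irreducible component of S whose closure in its fibre p⁻¹(p z) has
dimension r, and ι : Z → X a closed immersion from a reduced scheme with image the closure of z. Let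
b : S′ → S be a blowing up (S′ Noetherian) such that the strict transform Z~ of Z — the closed
subscheme of Z ×_S S′ whose ideal consists, on each affine open, of the functions annihilated by a
power of the pulled-back centre — is flat over S′. Then Z~ → S′ is universally equidimensional of
dimension r: after any base change S″ → S′ every point of Z~ ×_{S′} S″ has local fibre dimension r
and every irreducible component of Z~ ×_{S′} S″ dominates an irreducible component of S″. (The
published lemma takes a blow-up of the reduced scheme S_red; this statement takes a blow-up of S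
itself, to which the printed argument applies unchanged.) -/
theorem result {X S Z S' : Scheme.{u}} [IsNoetherian S] [S.IsSeparated] [X.IsSeparated]
    (p : X ⟶ S) [LocallyOfFiniteType p] [QuasiCompact p] (z : X) (hz : closure {p.base z} ∈ irreducibleComponents ↥S)
    (r : ℕ) (hr : topologicalKrullDim ↥(closure ({p.asFiber z} : Set ↥(p.fiber (p.base z)))) = r)
    (ι : Z ⟶ X) [IsClosedImmersion ι] [IsReduced Z] (hZ : Set.range ι.base = closure {z})
    [IsNoetherian S'] (𝓘 : S.IdealSheafData) (b : S' ⟶ S) (hb : BlowUp.IsBlowUp b 𝓘)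
    (𝒥 : (pullback (ι ≫ p) b).IdealSheafData)
    (h𝒥 : ∀ (V : (pullback (ι ≫ p) b).affineOpens) (a : Γ(pullback (ι ≫ p) b, V.1)), a ∈ 𝒥.ideal V ↔
      BlowUp.KilledByPowerNear ((𝓘.comap (ι ≫ p)).comap (pullback.fst (ι ≫ p) b)) (Coh.structureModule (pullback (ι ≫ p) b)) V a)
    [Flat (𝒥.subschemeι ≫ pullback.snd (ι ≫ p) b)]
    (S'' : Scheme.{u}) (g : S'' ⟶ S') :
    (∀ w : ↥(pullback (𝒥.subschemeι ≫ pullback.snd (ι ≫ p) b) g),
        FlatMor.fibreDimAt (pullback.snd (𝒥.subschemeι ≫ pullback.snd (ι ≫ p) b) g) w = r) ∧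
      ∀ C ∈ irreducibleComponents ↥(pullback (𝒥.subschemeι ≫ pullback.snd (ι ≫ p) b) g),
        closure ((pullback.snd (𝒥.subschemeι ≫ pullback.snd (ι ≫ p) b) g).base '' C) ∈ irreducibleComponents ↥S'' := by
  let c := 𝒥.subschemeι
  let W := pullback.snd (ι ≫ p) b
  refine Groth.Agent.H3Cyc.UnivEquidim.univEquidim (c ≫ W) r (fun v hv => ?_) g
  obtain ⟨hbmax, hbsupp⟩ := (H29Blow.bijOn_maximalPoints hb).mapsTo
    (show (c ≫ W) v ∈ {x' : S' | ∀ y : S', y ⤳ x' → y = x'} from hv)
  have hover : ∀ w, W w = (c ≫ W) v →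
      (ι ≫ p) (pullback.fst (ι ≫ p) b w) = b ((c ≫ W) v) := by
    intro w hw
    rw [← Scheme.Hom.comp_apply, pullback.condition, Scheme.Hom.comp_apply, hw]
  have hfib : ∀ w, W w = W (c v) → w ∈ Set.range c := by
    intro w hw
    rw [Scheme.IdealSheafData.range_subschemeι]
    obtain ⟨V, hV, hwV, -⟩ := exists_isAffineOpen_mem_and_subset (TopologicalSpace.Opens.mem_top w)
    change w ∈ 𝒥.support
    rw [Scheme.IdealSheafData.mem_support_iff_of_mem (U := ⟨V, hV⟩) hwV, Scheme.mem_zeroLocus_iff]
    intro a ha hwa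
    have hE : w ∉ ((𝓘.comap (ι ≫ p)).comap (pullback.fst (ι ≫ p) b)).support := by
      intro hmem
      rw [← SetLike.mem_coe, Scheme.IdealSheafData.support_comap,
        Scheme.IdealSheafData.support_comap] at hmem
      have h1 := hover w hw
      exact hbsupp (show b ((c ≫ W) v) ∈ 𝓘.support by rw [← h1]; exact hmem)
    rw [Scheme.IdealSheafData.mem_support_iff_of_mem (U := ⟨V, hV⟩) hwV, Scheme.mem_zeroLocus_iff] at hE
    push Not at hE
    obtain ⟨e, he, hwe⟩ := hE
    obtain ⟨n, hn⟩ := (h𝒥 ⟨V, hV⟩ a).mp ha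
    have h0 : e ^ n * a = 0 := hn _ (Ideal.pow_mem_pow he n)
    have hmem : w ∈ (pullback (ι ≫ p) b).basicOpen (e ^ n * a) := by
      rw [Scheme.basicOpen_mul]
      refine ⟨?_, hwa⟩
      rcases Nat.eq_zero_or_pos n with rfl | hn'
      · rw [pow_zero, Scheme.basicOpen_of_isUnit _ isUnit_one]
        exact hwV
      · exact ((pullback (ι ≫ p) b).basicOpen_pow e hn').symm ▸ hwe
    rw [h0, Scheme.basicOpen_zero] at hmem
    exact hmem
  rw [Groth.Agent.H3Cyc.UnivEquidim.fibreDimAt_comp_closedImmersion c W v hfib,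
    Groth.Agent.H8Props.FieldDim.fibreDimAt_baseChange (ι ≫ p) (IsPullback.of_hasPullback (ι ≫ p) b)]
  refine Groth.Agent.H3Cyc.UnivEquidim.fibreDimAt_closure_point p z r hr ι hZ _ ?_
  rw [hover (c v) (Scheme.Hom.comp_apply c W v).symm]
  exact hbmax

end Groth.Agent.S19584
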