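import Groth.Statements.S19586
import Groth.Agent.H05EGA4.HypersurfaceKaehler

set_option autoImplicit false
universe u
open KaehlerDifferential
open LocInt

namespace Groth.Agent.S19586

/-- Let A → B be a smooth ring map with Ω_{B/A} of rank n at every prime of B, g ∈ B a nonzerodivisor
and R = B/gB, so that Spec R is a hypersurface of virtual relative dimension n − 1 over Spec A. Let
J ⊆ R be the annihilator of the n-th exterior power of Ω_{R/A} and Z = V(J) ⊆ Spec R. Then the
underlying set of Z is exactly the set of primes at which R is not smooth over A: for a prime p of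
R, J ⊆ p if and only if the localization R_p is not formally smooth over A. -/
theorem result (A B R : Type u) [CommRing A] [CommRing B] [CommRing R]
    [Algebra A B] [Algebra B R] [Algebra A R] [IsScalarTower A B R] [Algebra.Smooth A B] (n : ℕ)
    (hn : ∀ p : PrimeSpectrum B, Module.rankAtStalk (Ω[B⁄A]) p = n)
    (g : B) (hg : IsSMulRegular B g) (hsurj : Function.Surjective (algebraMap B R))
    (hker : RingHom.ker (algebraMap B R) = Ideal.span {g}) (p : PrimeSpectrum R) :
    (⋀[R]^n (Ω[R⁄A])).annihilator ≤ p.asIdeal ↔ p ∉ Algebra.smoothLocus A R := by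
  rw [Groth.Agent.H05EGA4.HypersurfaceKaehler.annihilator_extPower hsurj hker n hn,
    Groth.Agent.H05EGA4.HypersurfaceKaehler.mem_smoothLocus_iff hsurj hker hg p, not_not]

end Groth.Agent.S19586
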