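import Groth.Statements.S19589
import Groth.Agent.H23Az.Ops

set_option autoImplicit false
universe u v
open Brauer

namespace Groth.Agent.S19589

/-- Let R be a commutative ring and P a finitely generated projective R-module which is faithful. Then
End_R(P) is an Azumaya R-algebra. (The published statement is for a finite locally free sheaf E on a
scheme X and the sheaf of algebras End(E); this row is the case of affine X. Azumaya is taken in the
sense that includes faithfulness over R, which is why P is assumed faithful; the published notion
also admits rank zero.) -/
theorem result (R : Type u) [CommRing R]
    (P : Type v) [AddCommGroup P] [Module R P] [Module.Finite R P] [Module.Projective R P]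
    [FaithfulSMul R P] : IsAzumaya R (Module.End R P) := by
  exact Groth.Agent.H23Az.isAzumaya_end P

end Groth.Agent.S19589
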