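import Groth.Statements.S19590
import Mathlib.LinearAlgebra.Matrix.GeneralLinearGroup.Defs
import Mathlib.GroupTheory.OrderOfElement
import Mathlib.Data.ZMod.Basic
import Mathlib.SetTheory.Cardinal.Finite
import Mathlib.Tactic

set_option autoImplicit false
open BddFin

namespace Groth.Agent.S19590

theorem eq_one_of_prime_order {n : ℕ} (M : Matrix (Fin n) (Fin n) ℤ) (l : ℕ) (hl : l.Prime) (hM : M ^ l = 1)
    (h3 : ∀ i j, (3 : ℤ) ∣ (M - 1) i j) : M = 1 := by
  suffices h : ∀ k : ℕ, ∀ i j, (3 : ℤ) ^ (k + 1) ∣ (M - 1) i j by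
    ext i j
    by_contra hne
    obtain ⟨m, hm⟩ : ∃ m : ℕ, ((M - 1) i j).natAbs < 3 ^ (m + 1) :=
      ⟨((M - 1) i j).natAbs, (Nat.lt_pow_self (by norm_num)).trans (Nat.pow_lt_pow_right (by norm_num) (by omega))⟩
    have := Int.natAbs_dvd_natAbs.mpr (h m i j)
    rw [Int.natAbs_pow] at this
    have hz := Nat.eq_zero_of_dvd_of_lt this hm
    rw [Int.natAbs_eq_zero, Matrix.sub_apply, sub_eq_zero] at hz
    exact hne hz
  intro k
  induction k with
  | zero => simpa using h3
  | succ k ih =>
    choose N hN using ih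
    set c : ℤ := 3 ^ (k + 1) with hc
    let Nm : Matrix (Fin n) (Fin n) ℤ := Matrix.of N
    have hMe : M = 1 + c • Nm := by
      ext i j
      have := hN i j
      simp only [Matrix.sub_apply] at this
      simp only [Matrix.add_apply, Matrix.smul_apply, smul_eq_mul, Nm, Matrix.of_apply]
      linarith
    have hexp : ∀ m : ℕ, ∃ R : Matrix (Fin n) (Fin n) ℤ,
        (1 + c • Nm) ^ m = 1 + ((m : ℤ) * c) • Nm + (c * c) • R ∧
        ∃ S : Matrix (Fin n) (Fin n) ℤ, R = (m.choose 2 : ℤ) • (Nm * Nm) + c • S := by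
      intro m
      induction m with
      | zero => exact ⟨0, by simp, 0, by simp⟩
      | succ m ih =>
        obtain ⟨R, hR, S, hS⟩ := ih
        refine ⟨R + (m : ℤ) • (Nm * Nm) + c • (R * Nm), ?_, S + R * Nm, ?_⟩
        · rw [pow_succ, hR]
          simp only [add_mul, mul_add, mul_one, one_mul, smul_mul_assoc, mul_smul_comm, smul_smul, smul_add,
            Nat.cast_succ, add_smul, add_mul]
          module
        · rw [Nat.choose_succ_succ, Nat.choose_one_right, hS]
          push_cast
          module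
    obtain ⟨R, hR, S, hS⟩ := hexp l
    rw [← hMe, hM] at hR
    intro i j
    suffices h3N : (3 : ℤ) ∣ N i j by
      rw [hN i j, pow_succ]
      exact mul_dvd_mul_left c h3N
    have hij := congrFun (congrFun hR i) j
    simp only [Matrix.add_apply, Matrix.smul_apply, smul_eq_mul, Nm, Matrix.of_apply] at hij
    have hcne : c ≠ 0 := pow_ne_zero _ (by norm_num)
    have h1 : (l : ℤ) * N i j + c * R i j = 0 := by
      have : c * ((l : ℤ) * N i j + c * R i j) = 0 := by linear_combination -hij
      exact (mul_eq_zero.mp this).resolve_left hcne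
    have hc3 : (3 : ℤ) ∣ c := dvd_pow_self _ (Nat.succ_ne_zero k)
    by_cases hl3 : l = 3
    · subst hl3
      have hR3 : R i j = 3 * (Nm * Nm) i j + c * S i j := by
        have := congrFun (congrFun hS i) j
        simpa [-zsmul_eq_mul, Matrix.add_apply, Matrix.smul_apply, Nat.choose] using this
      rw [hR3] at h1
      obtain ⟨d, hd⟩ := hc3
      refine ⟨-(d * (Nm * Nm) i j + d * d * S i j), ?_⟩
      push_cast at h1
      have : (3 : ℤ) * (N i j + c * (Nm * Nm) i j + d * c * S i j) = 0 := by
        linear_combination h1 - (c * S i j) * hd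
      have h' := (mul_eq_zero.mp this).resolve_left (by norm_num)
      linear_combination h' - ((Nm * Nm) i j + d * S i j) * hd
    · have hcop : IsCoprime (3 : ℤ) (l : ℤ) := by
        rw [show (3 : ℤ) = ((3 : ℕ) : ℤ) from rfl, Nat.isCoprime_iff_coprime]
        exact (Nat.coprime_primes Nat.prime_three hl).mpr (Ne.symm hl3)
      refine hcop.dvd_of_dvd_mul_left ?_
      rw [show (l : ℤ) * N i j = -(c * R i j) by linarith]
      exact (hc3.mul_right _).neg_right

/-- For every n, the orders of the finite subgroups of GL_n(ℤ) are bounded: there is B such that every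
finite subgroup of GL_n(ℤ) has at most B elements. -/
theorem result (n : ℕ) :
    ∃ B : ℕ, ∀ H : Subgroup (Matrix.GeneralLinearGroup (Fin n) ℤ), Finite H → Nat.card H ≤ B := by
  classical
  refine ⟨Nat.card (Matrix (Fin n) (Fin n) (ZMod 3)), fun H hH => ?_⟩
  let π : Matrix (Fin n) (Fin n) ℤ →+* Matrix (Fin n) (Fin n) (ZMod 3) := (Int.castRingHom (ZMod 3)).mapMatrix
  let f : H →* Matrix (Fin n) (Fin n) (ZMod 3) :=
    π.toMonoidHom.comp ((Units.coeHom _).comp H.subtype)
  have hker : ∀ h : H, f h = 1 → h = 1 := by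
    intro h hf
    by_contra hne
    obtain ⟨p, hp, hdvd⟩ := Nat.exists_prime_and_dvd (mt orderOf_eq_one_iff.mp hne)
    let g : H := h ^ (orderOf h / p)
    have ho : orderOf g = p := by
      rw [orderOf_pow' h (Nat.ne_of_gt (Nat.div_pos (Nat.le_of_dvd (orderOf_pos h) hdvd) hp.pos))]
      rw [Nat.gcd_eq_right (Nat.div_dvd_of_dvd hdvd), Nat.div_div_self hdvd (orderOf_pos h).ne']
    have hg : f g = 1 := by rw [map_pow, hf, one_pow]
    have hg1 : ((g : Matrix.GeneralLinearGroup (Fin n) ℤ) : Matrix (Fin n) (Fin n) ℤ) = 1 := by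
      refine eq_one_of_prime_order _ p hp ?_ fun i j => ?_
      · have := congrArg (fun x : H => ((x : Matrix.GeneralLinearGroup (Fin n) ℤ) : Matrix (Fin n) (Fin n) ℤ))
          (ho ▸ pow_orderOf_eq_one g : g ^ p = 1)
        simpa using this
      · rw [show (3 : ℤ) = ((3 : ℕ) : ℤ) from rfl, ← ZMod.intCast_zmod_eq_zero_iff_dvd]
        have := congrFun (congrFun hg i) j
        simp only [f, π, MonoidHom.comp_apply, Units.coeHom_apply, RingHom.toMonoidHom_eq_coe, MonoidHom.coe_coe,
          RingHom.mapMatrix_apply, Matrix.map_apply, Subgroup.coe_subtype, eq_intCast] at this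
        rw [Matrix.sub_apply, Int.cast_sub, this]
        by_cases hij : i = j <;> simp [Matrix.one_apply, hij]
    have : g = 1 := Subtype.ext (Units.ext (by simpa using hg1))
    rw [this, orderOf_one] at ho
    exact hp.one_lt.ne ho
  exact Nat.card_le_card_of_injective f ((injective_iff_map_eq_one f).mpr hker)

end Groth.Agent.S19590
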