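import Groth.Statements.S19591
import Mathlib.LinearAlgebra.QuadraticForm.Basic
import Mathlib.FieldTheory.Perfect

set_option autoImplicit false
universe u v
open BddFin

namespace Groth.Agent.S19591

/-- Let K be a perfect field of characteristic 2, V a finite-dimensional K-vector space with dim V > 2
and q a quadratic form on V whose polar bilinear form is non-degenerate. Then q represents zero
non-trivially. (Non-degeneracy of the polar form, which is alternating in characteristic 2, forces
dim V to be even, as the published lemma notes.) -/
theorem result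
    (K : Type u) [Field K] [CharP K 2] [PerfectField K]
    (V : Type v) [AddCommGroup V] [Module K V] [FiniteDimensional K V]
    (hV : 2 < Module.finrank K V) (q : QuadraticForm K V)
    (hq : (QuadraticMap.polarBilin q).Nondegenerate) :
    ∃ v : V, v ≠ 0 ∧ q v = 0 := by
  haveI := PerfectField.toPerfectRing (K := K) 2
  haveI : Nontrivial V := Module.nontrivial_of_finrank_pos (R := K) (by omega)
  obtain ⟨u, hu⟩ := exists_ne (0 : V)
  by_cases hqu : q u = 0
  · exact ⟨u, hu, hqu⟩
  let L : V →ₗ[K] K := QuadraticMap.polarBilin q u
  have h1 : 2 ≤ Module.finrank K (LinearMap.ker L) := by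
    have h2 := L.finrank_range_add_finrank_ker
    have h3 := Submodule.finrank_le (LinearMap.range L)
    rw [Module.finrank_self] at h3
    omega
  obtain ⟨w, hwL, hw⟩ : ∃ w ∈ LinearMap.ker L, w ∉ Submodule.span K {u} := by
    by_contra! hc
    have h4 := (Submodule.finrank_mono (show LinearMap.ker L ≤ Submodule.span K {u} from hc)).trans_eq
      (finrank_span_singleton hu)
    omega
  obtain ⟨a, ha⟩ := surjective_frobenius K 2 (q w / q u)
  rw [frobenius_def] at ha
  refine ⟨a • u + w, fun h => hw ?_, ?_⟩
  · rw [eq_neg_of_add_eq_zero_right h]
    exact neg_mem (Submodule.smul_mem _ a (Submodule.mem_span_singleton_self u))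
  · have hp : QuadraticMap.polar q u w = 0 := hwL
    rw [QuadraticMap.map_add q, QuadraticMap.polar_smul_left, hp, smul_zero, add_zero, QuadraticMap.map_smul,
      smul_eq_mul, ← sq, ha, div_mul_cancel₀ _ hqu]
    exact CharTwo.add_self_eq_zero _

end Groth.Agent.S19591
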