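import Groth.Statements.S19593
import Groth.Agent.H26Base.Finite
import Groth.Agent.H11Sym.VeryAmple
import Mathlib.GroupTheory.CosetCover

set_option autoImplicit false
universe u
open CategoryTheory AlgebraicGeometry
open PicF

namespace Groth.Agent.S19593

open CategoryTheory AlgebraicGeometry TopologicalSpace Opposite Groth.Agent.H26Base Groth.Agent.H11Tilde Groth.Agent.H11Ample

/-- Let k be an infinite field, Y a scheme proper over k with a relatively very ample O_Y-module A (the
pullback of O(1) along an immersion of Y into the Proj of a symmetric algebra over k), and y_1, …,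
y_m finitely many points of Y. Then some global section of A generates A at every y_i. (The
published statement takes Y projective over k and A a very ample line bundle; here Y is proper over
k and A very ample relative to Y → Spec k, which makes Y projective.) -/
theorem result
    (k : Type u) [Field k] [Infinite k] (Y : Scheme.{u}) (f : Y ⟶ Spec (CommRingCat.of k)) [IsProper f]
    (A : Y.Modules) (hA : RelProj.IsRelVeryAmple f A)
    (ι : Type) [Finite ι] (y : ι → ↥Y) :
    ∃ s : Coh.structureModule Y ⟶ A, ∀ i : ι, y i ∈ CohB1.genLocus A s := by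
  classical
  obtain ⟨E, -, u, hu⟩ := Groth.Agent.H11Sym.isRelVeryAmple_iff.1 hA
  have hspan : ∀ z : Y, ∃ g : Γ(A, ⊤), ∃ V : Y.Opens, z ∈ V ∧
      IsGen A (A.presheaf.map (homOfLE (le_top : V ≤ ⊤)).op g) := by
    intro z
    obtain ⟨g, hz⟩ := hu.spans z
    have hU : g.U = ⊤ := by
      refine eq_top_iff.2 fun p _ => ?_
      have := g.le hz
      rwa [Subsingleton.elim p (f z)]
    obtain ⟨U, hU', m, V, le, hg⟩ := g
    subst hU
    exact ⟨Groth.Agent.H11Sym.uSec u m, V, hz, hg⟩
  have hAi : PicF.IsInvertible A := isInvertible_of_gen fun z => by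
    obtain ⟨g, V, hz, hV⟩ := hspan z
    exact ⟨V, _, hz, hV⟩
  let φ : k →+* Γ(Y, ⊤) := ((Scheme.ΓSpecIso (CommRingCat.of k)).inv ≫ f.appTop).hom
  letI : Module k Γ(A, ⊤) := Module.compHom _ φ
  let S : ι → Submodule k Γ(A, ⊤) := fun i =>
    { carrier := {g | y i ∉ gen A g}
      zero_mem' := fun h => by
        have hb := (mem_gen_iff hAi (0 : Γ(A, ⊤)) (y i)).1 h
        rw [map_zero] at hb
        exact zero_ne_one (hb.1 (a₁ := (0 : Y.presheaf.stalk (y i))) (a₂ := 1) (by simp))
      add_mem' := fun {a b} ha hb h => by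
        obtain ⟨V, e, hyV, he⟩ := exists_gen hAi (y i)
        obtain ⟨ca, hca⟩ := exists_coeff he (A.presheaf.map (homOfLE le_top).op a)
        obtain ⟨cb, hcb⟩ := exists_coeff he (A.presheaf.map (homOfLE le_top).op b)
        have hab : A.presheaf.map (homOfLE (le_top : V ≤ ⊤)).op (a + b) = (ca + cb) • e := by
          rw [map_add, hca, hcb, add_smul]
        have h1 := (Y.mem_basicOpen _ _ hyV).1 ((gen_inf_eq_basicOpen he (a + b) _ hab).le ⟨h, hyV⟩)
        rw [map_add] at h1
        rcases IsLocalRing.isUnit_or_isUnit_of_isUnit_add h1 with h2 | h2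
        · exact ha ((gen_inf_eq_basicOpen he a ca hca).ge ((Y.mem_basicOpen _ _ hyV).2 h2)).1
        · exact hb ((gen_inf_eq_basicOpen he b cb hcb).ge ((Y.mem_basicOpen _ _ hyV).2 h2)).1
      smul_mem' := fun c a ha h => by
        obtain ⟨V, e, hyV, he⟩ := exists_gen hAi (y i)
        obtain ⟨ca, hca⟩ := exists_coeff he (A.presheaf.map (homOfLE le_top).op a)
        have hab : A.presheaf.map (homOfLE (le_top : V ≤ ⊤)).op (φ c • a) =
            (Y.presheaf.map (homOfLE (le_top : V ≤ ⊤)).op (φ c) * ca) • e := by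
          rw [Scheme.Modules.map_smul, hca, smul_smul]
        have h1 := (gen_inf_eq_basicOpen he (φ c • a) _ hab).le ⟨h, hyV⟩
        rw [Scheme.basicOpen_mul] at h1
        exact ha ((gen_inf_eq_basicOpen he a ca hca).ge h1.2).1 }
  haveI := Fintype.ofFinite ι
  have hne : ⊤ ∉ Finset.univ.image S := by
    intro h
    obtain ⟨i, -, hi⟩ := Finset.mem_image.1 h
    obtain ⟨g, V, hz, hV⟩ := hspan (y i)
    exact (hi.ge (Submodule.mem_top (x := g))) (mem_gen_of_isGen hV hz)
  obtain ⟨g, hg⟩ := (Set.ne_univ_iff_exists_notMem _).1 (Subspace.biUnion_ne_univ_of_top_notMem hne)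
  refine ⟨homOfGlobal A g, fun i => ?_⟩
  by_contra h
  exact hg (Set.mem_iUnion₂.2 ⟨S i, Finset.mem_image_of_mem S (Finset.mem_univ i), h⟩)

end Groth.Agent.S19593
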