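import Groth.Statements.S19595
import Groth.Agent.H26Node.Length
-- import your own Groth.Agent.* helpers here

set_option autoImplicit false
universe u
open ArLef

namespace Groth.Agent.S19595

/-- In the case of a smooth point lying on the divisorial part of the fixed locus with multiplicity i
strictly between 0 and j, let B be a discrete valuation ring with uniformizer π and residue field k,
B[[t]] the complete local ring of a semi-stable arithmetic surface over B at a point x where the
closed fibre is smooth, and σ a ring automorphism of B[[t]] with σ(π) = π + γ π^j (γ a unit of B, j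
≥ 1) and σ(b) - b ∈ π^j B[[t]] for all b ∈ B (σ lies over an automorphism τ of B with v(τ(π) - π) =
j). Suppose σ(t) - t = π^i f with 0 < i < j and π not dividing f, so that the fixed-point ideal I of
σ is (π^j, π^i f) and its divisorial part near x is the closed fibre with multiplicity i. Then the
residual fixed-point scheme, with ideal (I : π^i), has length (j - i) m at x, where m is the length
of k[[t]]/(f mod π) (the order at x of the derivation induced by σ on the closed fibre). -/
theorem result (B : Type u) [CommRing B] [IsDomain B] [IsDiscreteValuationRing B] (π : B) (hπ : Irreducible π)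
    (j i : ℕ) (hi : 0 < i) (hij : i < j) (γ : B) (hγ : IsUnit γ)
    (σ : PowerSeries B ≃+* PowerSeries B)
    (hσB : ∀ b : B, σ (algebraMap B (PowerSeries B) b) - algebraMap B (PowerSeries B) b ∈
      Ideal.span ({algebraMap B (PowerSeries B) (π ^ j)} : Set (PowerSeries B)))
    (hσπ : σ (algebraMap B (PowerSeries B) π) = algebraMap B (PowerSeries B) (π + γ * π ^ j))
    (f : PowerSeries B) (hf : σ PowerSeries.X - PowerSeries.X = algebraMap B (PowerSeries B) (π ^ i) * f)
    (hfπ : ¬ (algebraMap B (PowerSeries B) π ∣ f)) :
    Module.length (PowerSeries B) (PowerSeries B ⧸ (ArLef.fixIdeal σ).colon ({algebraMap B (PowerSeries B) (π ^ i)} : Set (PowerSeries B))) =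
      ((j - i : ℕ) : ℕ∞) * Module.length (PowerSeries (IsLocalRing.ResidueField B)) (PowerSeries (IsLocalRing.ResidueField B) ⧸
        Ideal.span ({PowerSeries.map (IsLocalRing.residue B) f} : Set (PowerSeries (IsLocalRing.ResidueField B)))) := by
  classical
  open Groth.Agent.H26Node in
  obtain ⟨p, hp⟩ : ∃ p, p = algebraMap B (PowerSeries B) π := ⟨_, rfl⟩
  rw [map_pow, ← hp] at hf
  have h0 : ¬ p ∣ f := hp ▸ hfπ
  rw [map_pow, ← hp]
  have hI : ArLef.fixIdeal σ = Ideal.span {p ^ j, p ^ i * f} := by
    refine le_antisymm (Ideal.span_le.2 ?_) (Ideal.span_le.2 ?_)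
    · rintro _ ⟨r, rfl⟩
      refine sub_mem_gen (Ideal.span {(PowerSeries.X : PowerSeries B)}) (Ideal.span_le.2 ?_)
        {(PowerSeries.X : PowerSeries B)} rfl (Set.range (algebraMap B (PowerSeries B))) (fun r => ?_)
        (σ : PowerSeries B →+* PowerSeries B) _ ?_ ?_ r
      · rintro _ rfl
        rw [SetLike.mem_coe, IsLocalRing.mem_maximalIdeal, mem_nonunits_iff, PowerSeries.isUnit_iff_constantCoeff]
        simp
      · refine ⟨_, ⟨PowerSeries.constantCoeff r, rfl⟩, Ideal.mem_span_singleton.2 (PowerSeries.X_dvd_iff.2 ?_)⟩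
        simp [PowerSeries.algebraMap_apply]
      · rintro _ ⟨b, rfl⟩
        refine Ideal.span_le.2 ?_ (hσB b)
        rintro _ rfl
        exact Ideal.subset_span (Or.inl (by rw [map_pow, hp]))
      · rintro _ rfl
        exact Ideal.subset_span (Or.inr hf)
    · rintro _ (rfl | rfl)
      · have h1 : (σ : PowerSeries B → PowerSeries B) (algebraMap B _ π) - algebraMap B _ π ∈ ArLef.fixIdeal σ :=
          mem_fixIdeal _
        rw [hσπ, map_add, add_sub_cancel_left, map_mul, map_pow, ← hp] at h1
        obtain ⟨g, hg⟩ := (hγ.map (algebraMap B (PowerSeries B)))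
        have h2 := Ideal.mul_mem_left _ (↑g⁻¹ : PowerSeries B) h1
        rwa [← mul_assoc, ← hg, Units.inv_mul, one_mul] at h2
      · rw [← hf]; exact mem_fixIdeal _
  have hp0 : p ≠ 0 := by
    rw [hp]; intro h
    have := congrArg PowerSeries.constantCoeff h
    simp [PowerSeries.algebraMap_apply, hπ.ne_zero] at this
  have hprime : Prime p := by
    have hk : RingHom.ker (PowerSeries.map (IsLocalRing.residue B)) = Ideal.span {p} := by
      ext g
      rw [RingHom.mem_ker, Ideal.mem_span_singleton, hp, PowerSeries.algebraMap_apply, Algebra.algebraMap_self,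
        RingHom.id_apply]
      constructor
      · intro hg
        have hd : ∀ n, π ∣ PowerSeries.coeff n g := fun n => by
          have := congrArg (PowerSeries.coeff n) hg
          rwa [PowerSeries.coeff_map, map_zero, IsLocalRing.residue_eq_zero_iff, hπ.maximalIdeal_eq,
            Ideal.mem_span_singleton] at this
        choose c hc using hd
        exact ⟨PowerSeries.mk c, PowerSeries.ext fun n => by rw [PowerSeries.coeff_C_mul, PowerSeries.coeff_mk, hc]⟩
      · rintro ⟨g', rfl⟩
        rw [map_mul, PowerSeries.map_C, (IsLocalRing.residue_eq_zero_iff π).2 hπ.not_isUnit, map_zero, zero_mul]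
    rw [← Ideal.span_singleton_prime hp0, ← hk]
    exact RingHom.ker_isPrime _
  have hstep : ∀ n : ℕ, Module.length (PowerSeries B) (PowerSeries B ⧸ Ideal.span {p ^ n, f}) =
      (n : ℕ∞) * Module.length (PowerSeries B) (PowerSeries B ⧸ Ideal.span {p, f}) := by
    intro n
    induction n with
    | zero =>
      have : Ideal.span {p ^ 0, f} = ⊤ := Ideal.eq_top_of_isUnit_mem _ (Ideal.subset_span (Or.inl rfl)) (by simp)
      haveI : Subsingleton (PowerSeries B ⧸ Ideal.span {p ^ 0, f}) := Ideal.Quotient.subsingleton_iff.2 this
      rw [Module.length_eq_zero, Nat.cast_zero, zero_mul]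
    | succ n ih =>
      rw [length_step (Ideal.span {p ^ (n + 1), f}) (Ideal.span {p, f}) (p ^ n) (fun y => ?_)]
      · have : Ideal.span {p ^ (n + 1), f} ⊔ Ideal.span {p ^ n} = Ideal.span {p ^ n, f} := by
          refine le_antisymm (sup_le (Ideal.span_le.2 ?_) (Ideal.span_mono (by intro z hz; exact Or.inl hz))) (Ideal.span_le.2 ?_)
          · rintro _ (rfl | rfl)
            · rw [pow_succ]; exact Ideal.mul_mem_right _ _ (Ideal.subset_span (Or.inl rfl))
            · exact Ideal.subset_span (Or.inr rfl)
          · rintro _ (rfl | rfl)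
            · exact Ideal.mem_sup_right (Ideal.mem_span_singleton_self _)
            · exact Ideal.mem_sup_left (Ideal.subset_span (Or.inr rfl))
        rw [this, ih]; push_cast; ring
      · rw [Ideal.mem_span_pair, Ideal.mem_span_pair]
        constructor
        · rintro ⟨u, v, huv⟩
          obtain ⟨v', rfl⟩ := hprime.pow_dvd_of_dvd_mul_right n h0 (a := v)
            (⟨y - u * p, by linear_combination huv⟩)
          exact ⟨u, v', mul_left_cancel₀ (pow_ne_zero n hp0) (by linear_combination huv)⟩
        · rintro ⟨u, v, rfl⟩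
          exact ⟨u, p ^ n * v, by ring⟩
  have hcolon : (ArLef.fixIdeal σ).colon ({p ^ i} : Set (PowerSeries B)) = Ideal.span {p ^ (j - i), f} := by
    ext y
    rw [Submodule.mem_colon_singleton, hI, Ideal.mem_span_pair, Ideal.mem_span_pair]
    constructor
    · rintro ⟨u, v, huv⟩
      refine ⟨u, v, mul_left_cancel₀ (pow_ne_zero i hp0) ?_⟩
      rw [smul_eq_mul, ← Nat.add_sub_of_le hij.le, pow_add] at huv
      linear_combination huv
    · rintro ⟨u, v, rfl⟩
      refine ⟨u, v, ?_⟩
      rw [smul_eq_mul, ← Nat.add_sub_of_le hij.le, pow_add, Nat.add_sub_cancel_left]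
      ring
  rw [hcolon, hstep]
  congr 1
  let φ := PowerSeries.map (IsLocalRing.residue B)
  have hφ : Function.Surjective φ := PowerSeries.map_surjective _ IsLocalRing.residue_surjective
  letI := φ.toAlgebra
  have hker : ∀ g, φ g ∈ Ideal.span {φ f} ↔ g ∈ Ideal.span {p, f} := by
    intro g
    have hpφ : φ p = 0 := by
      rw [hp, PowerSeries.algebraMap_apply, Algebra.algebraMap_self, RingHom.id_apply, PowerSeries.map_C,
        (IsLocalRing.residue_eq_zero_iff π).2 hπ.not_isUnit, map_zero]
    constructor
    · intro hg
      rw [← Set.image_singleton, ← Ideal.map_span, Ideal.mem_map_iff_of_surjective _ hφ] at hg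
      obtain ⟨a, ha, hga⟩ := hg
      have hd : ∀ n, π ∣ PowerSeries.coeff n (g - a) := fun n => by
        have := congrArg (PowerSeries.coeff n) (show φ (g - a) = 0 by rw [map_sub, hga, sub_self])
        rwa [PowerSeries.coeff_map, map_zero, IsLocalRing.residue_eq_zero_iff, hπ.maximalIdeal_eq,
          Ideal.mem_span_singleton] at this
      choose c hc using hd
      rw [show g = p * PowerSeries.mk c + a by
        rw [← sub_eq_iff_eq_add]
        exact PowerSeries.ext fun n => by
          rw [hp, PowerSeries.algebraMap_apply, Algebra.algebraMap_self, RingHom.id_apply, PowerSeries.coeff_C_mul,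
            PowerSeries.coeff_mk, hc]]
      exact add_mem (Ideal.mul_mem_right _ _ (Ideal.subset_span (Or.inl rfl)))
        (Ideal.span_le.2 (by rintro _ rfl; exact Ideal.subset_span (Or.inr rfl)) ha)
    · intro hg
      obtain ⟨u, v, rfl⟩ := Ideal.mem_span_pair.1 hg
      rw [map_add, map_mul, map_mul, hpφ, mul_zero, zero_add]
      exact Ideal.mul_mem_left _ _ (Ideal.mem_span_singleton_self _)
  let K := Ideal.span ({φ f} : Set (PowerSeries (IsLocalRing.ResidueField B)))
  let g : PowerSeries B →ₗ[PowerSeries B] PowerSeries (IsLocalRing.ResidueField B) ⧸ K :=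
    ((Ideal.Quotient.mkₐ (PowerSeries B) K).toLinearMap).comp (Algebra.linearMap (PowerSeries B) _)
  have hgs : Function.Surjective g := fun z => by
    obtain ⟨z, rfl⟩ := Ideal.Quotient.mk_surjective z
    obtain ⟨w, rfl⟩ := hφ z
    exact ⟨w, rfl⟩
  have hgk : LinearMap.ker g = Ideal.span {p, f} := by
    ext z
    exact Ideal.Quotient.eq_zero_iff_mem.trans (hker z)
  rw [← hgk, (g.quotKerEquivOfSurjective hgs).length_eq]
  exact Module.length_eq_of_surjective hφ

end Groth.Agent.S19595
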