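import Groth.Statements.S19596
import Groth.Agent.H26Node.Colon

set_option autoImplicit false
universe u
open ArLef ArLef.NodeAlg

namespace Groth.Agent.S19596

/-- In the cases where σ fixes the two branches through the point, these lie on different components,
and the second branch lies in the divisorial part of the fixed locus with multiplicity i₂ strictly
between 0 and j while the first has multiplicity i₁ ≤ i₂, let B be a discrete valuation ring with
uniformizer π, N = B[[t, e]]/(te - π) the complete local ring of a semi-stable arithmetic surface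
over B at a singular point x of the closed fibre, and σ a ring automorphism of N with σ(π) = π + γ
π^j (γ a unit of B, j ≥ 1) and σ(c) - c ∈ π^j N for all c ∈ B. Suppose σ(t) = α t and σ(e) = β e
with units α, β, and α - 1 = t^{i₁} e^{i₂} a, β - 1 = t^{i₁} e^{i₂} b with i₁ ≤ i₂, 0 < i₂ < j, e
not dividing a and t not dividing b. Then, I being the fixed-point ideal of σ, whose divisorial part
near x is t^{i₁} e^{i₂}, the residual fixed-point scheme with ideal (I : t^{i₁} e^{i₂}) has length 1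
+ (j - i₁)·Leng N/(t, b) + (j - i₂)·Leng N/(e, a) at x; here Leng N/(t, b) + i₂ + 1 and Leng N/(e,
a) + i₁ + 1 are the orders at x of the derivations σ induces on the two components (the fixed-point
multiplicities when the component is outside the divisorial part). -/
theorem result (B : Type u) [CommRing B] [IsDomain B] [IsDiscreteValuationRing B] (π : B) (hπ : Irreducible π)
    (j i₁ i₂ : ℕ) (h12 : i₁ ≤ i₂) (h2 : 0 < i₂) (h2j : i₂ < j) (γ : B) (hγ : IsUnit γ)
    (σ : ArLef.NodeAlg B π ≃+* ArLef.NodeAlg B π)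
    (hσB : ∀ c : B, σ (algebraMap B (ArLef.NodeAlg B π) c) - algebraMap B (ArLef.NodeAlg B π) c ∈
      Ideal.span ({algebraMap B (ArLef.NodeAlg B π) (π ^ j)} : Set (ArLef.NodeAlg B π)))
    (hσπ : σ (algebraMap B (ArLef.NodeAlg B π) π) = algebraMap B (ArLef.NodeAlg B π) (π + γ * π ^ j))
    (α β : (ArLef.NodeAlg B π)ˣ) (ht : σ (ArLef.NodeAlg.t π) = (α : ArLef.NodeAlg B π) * ArLef.NodeAlg.t π) (he : σ (ArLef.NodeAlg.e π) = (β : ArLef.NodeAlg B π) * ArLef.NodeAlg.e π)
    (a b : ArLef.NodeAlg B π) (ha : (α : ArLef.NodeAlg B π) - 1 = ArLef.NodeAlg.t π ^ i₁ * ArLef.NodeAlg.e π ^ i₂ * a) (hb : (β : ArLef.NodeAlg B π) - 1 = ArLef.NodeAlg.t π ^ i₁ * ArLef.NodeAlg.e π ^ i₂ * b)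
    (hea : ¬ (ArLef.NodeAlg.e π ∣ a)) (htb : ¬ (ArLef.NodeAlg.t π ∣ b)) :
    Module.length (ArLef.NodeAlg B π) (ArLef.NodeAlg B π ⧸ (ArLef.fixIdeal σ).colon ({ArLef.NodeAlg.t π ^ i₁ * ArLef.NodeAlg.e π ^ i₂} : Set (ArLef.NodeAlg B π))) =
      1 + ((j - i₁ : ℕ) : ℕ∞) * Module.length (ArLef.NodeAlg B π) (ArLef.NodeAlg B π ⧸ Ideal.span ({ArLef.NodeAlg.t π, b} : Set (ArLef.NodeAlg B π))) +
        ((j - i₂ : ℕ) : ℕ∞) * Module.length (ArLef.NodeAlg B π) (ArLef.NodeAlg B π ⧸ Ideal.span ({ArLef.NodeAlg.e π, a} : Set (ArLef.NodeAlg B π))) := by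
    open Groth.Agent.H26Node in
    have hmax := hπ.maximalIdeal_eq
    have h01 : (0 : Fin 2) ≠ 1 := by decide
    have h10 : (1 : Fin 2) ≠ 0 := by decide
    rw [t_eq, e_eq] at *
    obtain ⟨t, htdef⟩ : ∃ t, t = br π 0 := ⟨_, rfl⟩
    obtain ⟨e, hedef⟩ : ∃ e, e = br π 1 := ⟨_, rfl⟩
    have hte : t * e = algebraMap B (ArLef.NodeAlg B π) π := by rw [htdef, hedef, br_mul_br π h01]
    have hreg : ∀ (n m : ℕ) (x : ArLef.NodeAlg B π), t ^ n * e ^ m * x = 0 → x = 0 := by
      intro n
      induction n with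
      | zero =>
        intro m
        induction m with
        | zero => intro x hx; simpa using hx
        | succ m ih => intro x hx; exact ih x (br_regular hπ.ne_zero 1 (by rw [← hedef]; linear_combination hx))
      | succ n ih =>
        intro m x hx
        exact ih m x (br_regular hπ.ne_zero 0 (by rw [← htdef]; linear_combination hx))
    rw [← htdef] at ht ha hb htb ⊢
    rw [← hedef] at he ha hb hea ⊢
    obtain ⟨A, hA⟩ := Nat.le.dest (show i₁ + 1 ≤ j by omega)
    obtain ⟨C, hC⟩ := Nat.le.dest (show i₂ + 1 ≤ j by omega)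
    have hg := hγ.map (algebraMap B (ArLef.NodeAlg B π))
    obtain ⟨G, hG⟩ : ∃ G, G = algebraMap B (ArLef.NodeAlg B π) γ := ⟨_, rfl⟩
    rw [← hG] at hg
    have hprod : (α : ArLef.NodeAlg B π) * β * (t * e) = t * e + G * (t * e) ^ j := by
      have h1 : σ (t * e) = (α : ArLef.NodeAlg B π) * β * (t * e) := by rw [map_mul, ht, he]; ring
      rw [← h1, hte, hσπ, map_add, map_mul, map_pow, hG]
    have hα : (α : ArLef.NodeAlg B π) = 1 + t ^ i₁ * e ^ i₂ * a := by linear_combination ha
    have hβ : (β : ArLef.NodeAlg B π) = 1 + t ^ i₁ * e ^ i₂ * b := by linear_combination hb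
    have hrel : a + b + t ^ i₁ * e ^ i₂ * a * b = G * (t ^ A * e ^ C) := by
      refine sub_eq_zero.1 (hreg (i₁ + 1) (i₂ + 1) _ ?_)
      have e1 : (t * e) ^ j = t ^ (i₁ + 1 + A) * e ^ (i₂ + 1 + C) := by rw [mul_pow, hA, hC]
      rw [hα, hβ, e1, pow_add, pow_add] at hprod
      linear_combination hprod
    have hI : ArLef.fixIdeal σ = Ideal.span
        {(t * e) ^ j, t ^ (i₁ + 1) * e ^ i₂ * a, t ^ i₁ * e ^ (i₂ + 1) * b} := by
      refine le_antisymm (fixIdeal_le hmax (σ : ArLef.NodeAlg B π →+* ArLef.NodeAlg B π) _ (fun c => ?_) ?_ ?_)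
        (Ideal.span_le.2 ?_)
      · refine Ideal.span_le.2 ?_ (hσB c)
        rintro _ rfl
        exact Ideal.subset_span (Or.inl (by rw [map_pow, ← hte]))
      · refine Ideal.subset_span (Or.inr (Or.inl ?_))
        rw [t_eq, ← htdef]
        show σ t - t = _
        rw [ht, hα]; ring
      · refine Ideal.subset_span (Or.inr (Or.inr ?_))
        rw [e_eq, ← hedef]
        show σ e - e = _
        rw [he, hβ]; ring
      · rintro _ (rfl | rfl | rfl)
        · obtain ⟨g, hg'⟩ := hg
          have h2 : (↑g⁻¹ : ArLef.NodeAlg B π) * (σ (t * e) - t * e) = (t * e) ^ j := by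
            rw [map_mul, ht, he, show (α : ArLef.NodeAlg B π) * t * (β * e) - t * e = G * (t * e) ^ j by
              linear_combination hprod, ← hg', Units.inv_mul_cancel_left]
          rw [← h2]
          exact Ideal.mul_mem_left _ _ (mem_fixIdeal _)
        · rw [show t ^ (i₁ + 1) * e ^ i₂ * a = σ t - t by rw [ht, hα]; ring]
          exact mem_fixIdeal _
        · rw [show t ^ i₁ * e ^ (i₂ + 1) * b = σ e - e by rw [he, hβ]; ring]
          exact mem_fixIdeal _
    have hcolon : (ArLef.fixIdeal σ).colon ({t ^ i₁ * e ^ i₂} : Set (ArLef.NodeAlg B π)) =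
        Ideal.span {e * b, t * a} := by
      ext y
      rw [Submodule.mem_colon_singleton, hI, Ideal.mem_span_pair, smul_eq_mul, Ideal.mem_span_insert]
      constructor
      · rintro ⟨w, z, hz, hw⟩
        obtain ⟨u, v, rfl⟩ := Ideal.mem_span_pair.1 hz
        obtain ⟨g, hg'⟩ := hg
        -- express the first generator in the other two
        refine ⟨v + w * ↑g⁻¹ * t * (1 + t ^ i₁ * e ^ i₂ * a), u + w * ↑g⁻¹ * e,
          (sub_eq_zero.1 (hreg i₁ i₂ _ ?_)).symm⟩
        have e1 : (t * e) ^ j = t ^ i₁ * e ^ i₂ * (t * e * (↑g⁻¹ * (G * (t ^ A * e ^ C)))) := by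
          rw [← hg', Units.inv_mul_cancel_left, mul_pow]
          conv_lhs => rw [← hA]; arg 2; rw [hA, ← hC]
          ring
        rw [e1, ← hrel] at hw
        linear_combination hw
      · rintro ⟨u, v, rfl⟩
        exact ⟨0, u * (t ^ i₁ * e ^ (i₂ + 1) * b) + v * (t ^ (i₁ + 1) * e ^ i₂ * a),
          Ideal.mem_span_pair.2 ⟨v, u, by ring⟩, by ring⟩
    rw [hcolon]
    -- generators and the two coordinates
    have hea' : ¬ e ∣ a := hea
    have heta : ¬ e ∣ t := by rw [hedef, htdef]; exact not_br_dvd_br hmax h10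
    have htte : ¬ t ∣ e := by rw [hedef, htdef]; exact not_br_dvd_br hmax h01
    have hte' : ¬ t ∣ e * b := fun h => by
      rw [htdef] at h htte
      exact htb (dvd_of_dvd_mul hmax h01 htte h |> fun q => htdef ▸ q)
    have hab : Ideal.span {a, b} = Ideal.span {a, t ^ A * e ^ C} := by
      obtain ⟨g, hg'⟩ := hg
      refine le_antisymm (Ideal.span_le.2 ?_) (Ideal.span_le.2 ?_)
      · rintro x (hx | hx) <;> rw [show x = _ from hx]
        · exact Ideal.subset_span (Or.inl rfl)
        · refine Ideal.mem_span_pair.2 ⟨-(↑α⁻¹ : ArLef.NodeAlg B π), ↑α⁻¹ * G, ?_⟩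
          have : (↑α⁻¹ : ArLef.NodeAlg B π) * α = 1 := Units.inv_mul _
          rw [hα] at this
          linear_combination (-(↑α⁻¹ : ArLef.NodeAlg B π)) * hrel + b * this
      · rintro x (hx | hx) <;> rw [show x = _ from hx]
        · exact Ideal.subset_span (Or.inl rfl)
        · refine Ideal.mem_span_pair.2 ⟨↑g⁻¹ * (1 + t ^ i₁ * e ^ i₂ * b), ↑g⁻¹, ?_⟩
          have e2 : (↑g⁻¹ : ArLef.NodeAlg B π) * G = 1 := by rw [← hg', Units.inv_mul]
          linear_combination (↑g⁻¹ : ArLef.NodeAlg B π) * hrel + t ^ A * e ^ C * e2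
    have hta : A ≠ 0 → ¬ t ∣ a ∧ Ideal.span {t, a} = Ideal.span {t, b} := by
      intro hA0
      obtain ⟨A', rfl⟩ := Nat.exists_eq_succ_of_ne_zero hA0
      refine ⟨fun ⟨q, hq⟩ => htb ⟨G * (t ^ A' * e ^ C) * ↑α⁻¹ - q * ↑α⁻¹, ?_⟩, ?_⟩
      · have : (↑α⁻¹ : ArLef.NodeAlg B π) * α = 1 := Units.inv_mul _
        rw [hα] at this
        rw [pow_succ] at hrel
        linear_combination (↑α⁻¹ : ArLef.NodeAlg B π) * hrel - b * this - (↑α⁻¹ : ArLef.NodeAlg B π) * hq
      · rw [pow_succ] at hrel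
        refine le_antisymm (Ideal.span_le.2 ?_) (Ideal.span_le.2 ?_)
        · rintro x (hx | hx) <;> rw [show x = _ from hx]
          · exact Ideal.subset_span (Or.inl rfl)
          · refine Ideal.mem_span_pair.2 ⟨↑β⁻¹ * G * (t ^ A' * e ^ C), -↑β⁻¹, ?_⟩
            have : (↑β⁻¹ : ArLef.NodeAlg B π) * β = 1 := Units.inv_mul _
            rw [hβ] at this
            linear_combination (-(↑β⁻¹ : ArLef.NodeAlg B π)) * hrel + a * this
        · rintro x (hx | hx) <;> rw [show x = _ from hx]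
          · exact Ideal.subset_span (Or.inl rfl)
          · refine Ideal.mem_span_pair.2 ⟨↑α⁻¹ * G * (t ^ A' * e ^ C), -↑α⁻¹, ?_⟩
            have : (↑α⁻¹ : ArLef.NodeAlg B π) * α = 1 := Units.inv_mul _
            rw [hα] at this
            linear_combination (-(↑α⁻¹ : ArLef.NodeAlg B π)) * hrel + b * this
    have L1 := length_pair_mul hπ h01 (a := br π 1 * b) (m := a) (by rw [← htdef, ← hedef]; exact hte')
    have L1' := length_span_br hmax h01 (a := b)
    have L2 := length_pair_mul hπ h10 (a := a) (m := b) (by rw [← hedef]; exact hea')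
    have L3 := length_pair_pow_mul hπ h01 (a := a) (m := e ^ C) A (fun h => by rw [← htdef]; exact (hta h).1)
    have L4 := length_pair_pow_mul hπ h10 (a := a) (m := (1 : ArLef.NodeAlg B π)) C
      (fun _ => by rw [← hedef]; exact hea')
    have h1 : Ideal.span {a, (1 : ArLef.NodeAlg B π)} = ⊤ :=
      Ideal.eq_top_of_isUnit_mem _ (Ideal.subset_span (Or.inr rfl)) isUnit_one
    haveI : Subsingleton (ArLef.NodeAlg B π ⧸ Ideal.span {a, (1 : ArLef.NodeAlg B π)}) :=
      Ideal.Quotient.subsingleton_iff.2 h1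
    rw [← htdef, ← hedef] at L1 L1'
    rw [← hedef] at L2
    rw [← htdef] at L3
    rw [← hedef, mul_one, Module.length_eq_zero (M := ArLef.NodeAlg B π ⧸ Ideal.span {a, (1 : ArLef.NodeAlg B π)}), zero_add] at L4
    rw [Ideal.span_pair_comm (x := e * b) (y := a)] at L1
    rw [L1, L1', L2, hab, L3, L4, show j - i₁ = A + 1 by omega, show j - i₂ = C + 1 by omega]
    have hA' : (A : ℕ∞) * Module.length (ArLef.NodeAlg B π) (ArLef.NodeAlg B π ⧸ Ideal.span {t, a}) =
        (A : ℕ∞) * Module.length (ArLef.NodeAlg B π) (ArLef.NodeAlg B π ⧸ Ideal.span {t, b}) := by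
      by_cases h : A = 0
      · subst h; simp
      · rw [(hta h).2]
    rw [hA']
    push_cast
    ring

end Groth.Agent.S19596
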