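import Groth.Statements.S19597
import Groth.Agent.H26Node.Colon

set_option autoImplicit false
universe u
open ArLef ArLef.NodeAlg

namespace Groth.Agent.S19597

/-- In the cases where σ fixes the two branches through the point, these lie on different components,
the second lies in the divisorial part of the fixed locus with the maximal multiplicity j and the
first with multiplicity i₁ < j, let B be a discrete valuation ring with uniformizer π, N = B[[t,
e]]/(te - π) the complete local ring of a semi-stable arithmetic surface over B at a singular point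
x of the closed fibre, and σ a ring automorphism of N with σ(π) = π + γ π^j (γ a unit of B, j ≥ 1)
and σ(c) - c ∈ π^j N for all c ∈ B. Suppose σ(t) = α t and σ(e) = β e with units α, β, that α - 1 =
t^{i₁} e^j a and β - 1 = t^{i₁} e^{j-1} b with i₁ < j and t not dividing b. Then, I being the
fixed-point ideal of σ, whose divisorial part near x is t^{i₁} e^j, the length l of the residual
fixed-point scheme with ideal (I : t^{i₁} e^j) satisfies l + (j - 1 - i₁) = (j - i₁)·Leng N/(t, b);
for i₁ = 0, Leng N/(t, b) + j is the fixed-point multiplicity s₁ of σ at x on the first component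
and l = j (s₁ - j - 1) + 1. -/
theorem result (B : Type u) [CommRing B] [IsDomain B] [IsDiscreteValuationRing B] (π : B) (hπ : Irreducible π)
    (j i₁ : ℕ) (h1 : i₁ < j) (γ : B) (hγ : IsUnit γ)
    (σ : ArLef.NodeAlg B π ≃+* ArLef.NodeAlg B π)
    (hσB : ∀ c : B, σ (algebraMap B (ArLef.NodeAlg B π) c) - algebraMap B (ArLef.NodeAlg B π) c ∈
      Ideal.span ({algebraMap B (ArLef.NodeAlg B π) (π ^ j)} : Set (ArLef.NodeAlg B π)))
    (hσπ : σ (algebraMap B (ArLef.NodeAlg B π) π) = algebraMap B (ArLef.NodeAlg B π) (π + γ * π ^ j))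
    (α β : (ArLef.NodeAlg B π)ˣ) (ht : σ (ArLef.NodeAlg.t π) = (α : ArLef.NodeAlg B π) * ArLef.NodeAlg.t π) (he : σ (ArLef.NodeAlg.e π) = (β : ArLef.NodeAlg B π) * ArLef.NodeAlg.e π)
    (a b : ArLef.NodeAlg B π) (ha : (α : ArLef.NodeAlg B π) - 1 = ArLef.NodeAlg.t π ^ i₁ * ArLef.NodeAlg.e π ^ j * a) (hb : (β : ArLef.NodeAlg B π) - 1 = ArLef.NodeAlg.t π ^ i₁ * ArLef.NodeAlg.e π ^ (j - 1) * b)
    (htb : ¬ (ArLef.NodeAlg.t π ∣ b)) :
    Module.length (ArLef.NodeAlg B π) (ArLef.NodeAlg B π ⧸ (ArLef.fixIdeal σ).colon ({ArLef.NodeAlg.t π ^ i₁ * ArLef.NodeAlg.e π ^ j} : Set (ArLef.NodeAlg B π))) + ((j - 1 - i₁ : ℕ) : ℕ∞) =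
      ((j - i₁ : ℕ) : ℕ∞) * Module.length (ArLef.NodeAlg B π) (ArLef.NodeAlg B π ⧸ Ideal.span ({ArLef.NodeAlg.t π, b} : Set (ArLef.NodeAlg B π))) := by
    open Groth.Agent.H26Node in
    have hmax := hπ.maximalIdeal_eq
    have h01 : (0 : Fin 2) ≠ 1 := by decide
    have h10 : (1 : Fin 2) ≠ 0 := by decide
    rw [t_eq, e_eq] at *
    obtain ⟨t, htdef⟩ : ∃ t, t = br π 0 := ⟨_, rfl⟩
    obtain ⟨e, hedef⟩ : ∃ e, e = br π 1 := ⟨_, rfl⟩
    have hte : t * e = algebraMap B (ArLef.NodeAlg B π) π := by rw [htdef, hedef, br_mul_br π h01]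
    have hreg : ∀ (n m : ℕ) (x : ArLef.NodeAlg B π), t ^ n * e ^ m * x = 0 → x = 0 := by
      intro n
      induction n with
      | zero =>
        intro m
        induction m with
        | zero => intro x hx; simpa using hx
        | succ m ih => intro x hx; exact ih x (br_regular hπ.ne_zero 1 (by rw [← hedef]; linear_combination hx))
      | succ n ih =>
        intro m x hx
        exact ih m x (br_regular hπ.ne_zero 0 (by rw [← htdef]; linear_combination hx))
    rw [← htdef] at ht ha hb htb ⊢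
    rw [← hedef] at he ha hb ⊢
    obtain ⟨A, hA⟩ := Nat.le.dest (show i₁ + 1 ≤ j by omega)
    obtain ⟨J, rfl⟩ : ∃ J, j = J + 1 := ⟨j - 1, by omega⟩
    rw [Nat.add_sub_cancel] at hb
    have hg := hγ.map (algebraMap B (ArLef.NodeAlg B π))
    obtain ⟨G, hG⟩ : ∃ G, G = algebraMap B (ArLef.NodeAlg B π) γ := ⟨_, rfl⟩
    rw [← hG] at hg
    have hprod : (α : ArLef.NodeAlg B π) * β * (t * e) = t * e + G * (t * e) ^ (J + 1) := by
      have h1 : σ (t * e) = (α : ArLef.NodeAlg B π) * β * (t * e) := by rw [map_mul, ht, he]; ring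
      rw [← h1, hte, hσπ, map_add, map_mul, map_pow, hG]
    have hα : (α : ArLef.NodeAlg B π) = 1 + t ^ i₁ * e ^ (J + 1) * a := by linear_combination ha
    have hβ : (β : ArLef.NodeAlg B π) = 1 + t ^ i₁ * e ^ J * b := by linear_combination hb
    have hpow : (t * e) ^ (J + 1) = t ^ (i₁ + 1 + A) * e ^ (J + 1) := by rw [mul_pow, hA]
    have hrel : e * a + b + t ^ i₁ * e ^ (J + 1) * a * b = G * t ^ A := by
      refine sub_eq_zero.1 (hreg (i₁ + 1) (J + 1) _ ?_)
      rw [hα, hβ, hpow, pow_add t (i₁ + 1) A] at hprod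
      linear_combination hprod
    have hI : ArLef.fixIdeal σ = Ideal.span
        {(t * e) ^ (J + 1), t ^ (i₁ + 1) * e ^ (J + 1) * a, t ^ i₁ * e ^ (J + 1) * b} := by
      refine le_antisymm (fixIdeal_le hmax (σ : ArLef.NodeAlg B π →+* ArLef.NodeAlg B π) _ (fun c => ?_) ?_ ?_)
        (Ideal.span_le.2 ?_)
      · refine Ideal.span_le.2 ?_ (hσB c)
        rintro _ rfl
        exact Ideal.subset_span (Or.inl (by rw [map_pow, ← hte]))
      · refine Ideal.subset_span (Or.inr (Or.inl ?_))
        rw [t_eq, ← htdef]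
        show σ t - t = _
        rw [ht, hα]; ring
      · refine Ideal.subset_span (Or.inr (Or.inr ?_))
        rw [e_eq, ← hedef]
        show σ e - e = _
        rw [he, hβ]; ring
      · rintro _ (rfl | rfl | rfl)
        · obtain ⟨g, hg'⟩ := hg
          have h2 : (↑g⁻¹ : ArLef.NodeAlg B π) * (σ (t * e) - t * e) = (t * e) ^ (J + 1) := by
            rw [map_mul, ht, he, show (α : ArLef.NodeAlg B π) * t * (β * e) - t * e = G * (t * e) ^ (J + 1) by
              linear_combination hprod, ← hg', Units.inv_mul_cancel_left]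
          rw [← h2]
          exact Ideal.mul_mem_left _ _ (mem_fixIdeal _)
        · rw [show t ^ (i₁ + 1) * e ^ (J + 1) * a = σ t - t by rw [ht, hα]; ring]
          exact mem_fixIdeal _
        · rw [show t ^ i₁ * e ^ (J + 1) * b = σ e - e by rw [he, hβ]; ring]
          exact mem_fixIdeal _
    have hcolon : (ArLef.fixIdeal σ).colon ({t ^ i₁ * e ^ (J + 1)} : Set (ArLef.NodeAlg B π)) =
        Ideal.span {b, t * a} := by
      ext y
      rw [Submodule.mem_colon_singleton, hI, Ideal.mem_span_pair, smul_eq_mul, Ideal.mem_span_insert]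
      constructor
      · rintro ⟨w, z, hz, hw⟩
        obtain ⟨u, v, rfl⟩ := Ideal.mem_span_pair.1 hz
        obtain ⟨g, hg'⟩ := hg
        refine ⟨v + w * ↑g⁻¹ * t * (1 + t ^ i₁ * e ^ (J + 1) * a), u + w * ↑g⁻¹ * e,
          (sub_eq_zero.1 (hreg i₁ (J + 1) _ ?_)).symm⟩
        have e1 : (t * e) ^ (J + 1) = t ^ i₁ * e ^ (J + 1) * (t * (↑g⁻¹ * (G * t ^ A))) := by
          rw [← hg', Units.inv_mul_cancel_left, hpow]
          ring
        rw [e1, ← hrel] at hw
        linear_combination hw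
      · rintro ⟨u, v, rfl⟩
        exact ⟨0, u * (t ^ i₁ * e ^ (J + 1) * b) + v * (t ^ (i₁ + 1) * e ^ (J + 1) * a),
          Ideal.mem_span_pair.2 ⟨v, u, by ring⟩, by ring⟩
    rw [hcolon]
    have heb : ¬ e ∣ b := fun ⟨q, hq⟩ => by
      obtain ⟨g, hg'⟩ := hg
      have hp := prime_br hmax h10
      rw [← hedef] at hp
      have h1 : e ∣ G * t ^ A := ⟨a + q + t ^ i₁ * e ^ J * a * b, by linear_combination -hrel + hq⟩
      rcases hp.dvd_or_dvd h1 with h | h
      · exact hp.not_isUnit (isUnit_of_dvd_unit h ⟨g, hg'⟩)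
      · refine not_br_dvd_br hmax h10 ?_
        rw [← hedef, ← htdef]
        exact hp.dvd_of_dvd_pow h
    have hea : Ideal.span {b, e * a} = Ideal.span {b, t ^ A} := by
      obtain ⟨g, hg'⟩ := hg
      refine le_antisymm (Ideal.span_le.2 ?_) (Ideal.span_le.2 ?_)
      · rintro x (hx | hx) <;> rw [show x = _ from hx]
        · exact Ideal.subset_span (Or.inl rfl)
        · refine Ideal.mem_span_pair.2 ⟨-(↑β⁻¹ : ArLef.NodeAlg B π), ↑β⁻¹ * G, ?_⟩
          have : (↑β⁻¹ : ArLef.NodeAlg B π) * β = 1 := Units.inv_mul _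
          rw [hβ] at this
          linear_combination (-(↑β⁻¹ : ArLef.NodeAlg B π)) * hrel + e * a * this
      · rintro x (hx | hx) <;> rw [show x = _ from hx]
        · exact Ideal.subset_span (Or.inl rfl)
        · refine Ideal.mem_span_pair.2 ⟨↑g⁻¹ * (1 + t ^ i₁ * e ^ (J + 1) * a), ↑g⁻¹, ?_⟩
          have e2 : (↑g⁻¹ : ArLef.NodeAlg B π) * G = 1 := by rw [← hg', Units.inv_mul]
          linear_combination (↑g⁻¹ : ArLef.NodeAlg B π) * hrel + t ^ A * e2
    have heq : Ideal.span {e, b} = Ideal.span {e, t ^ A} := by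
      obtain ⟨g, hg'⟩ := hg
      refine le_antisymm (Ideal.span_le.2 ?_) (Ideal.span_le.2 ?_)
      · rintro x (hx | hx) <;> rw [show x = _ from hx]
        · exact Ideal.subset_span (Or.inl rfl)
        · exact Ideal.mem_span_pair.2 ⟨-a - t ^ i₁ * e ^ J * a * b, G, by linear_combination -hrel⟩
      · rintro x (hx | hx) <;> rw [show x = _ from hx]
        · exact Ideal.subset_span (Or.inl rfl)
        · refine Ideal.mem_span_pair.2 ⟨↑g⁻¹ * (a + t ^ i₁ * e ^ J * a * b), ↑g⁻¹, ?_⟩
          have e2 : (↑g⁻¹ : ArLef.NodeAlg B π) * G = 1 := by rw [← hg', Units.inv_mul]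
          linear_combination (↑g⁻¹ : ArLef.NodeAlg B π) * hrel + t ^ A * e2
    have L1 := length_pair_mul hπ h01 (a := b) (m := a) (by rw [← htdef]; exact htb)
    have L2 := length_pair_mul hπ h10 (a := b) (m := a) (by rw [← hedef]; exact heb)
    have L3 := length_pair_pow_mul hπ h01 (a := b) (m := (1 : ArLef.NodeAlg B π)) A
      (fun _ => by rw [← htdef]; exact htb)
    have L5 := length_br_br_pow hπ A
    have h1 : Ideal.span {b, (1 : ArLef.NodeAlg B π)} = ⊤ :=
      Ideal.eq_top_of_isUnit_mem _ (Ideal.subset_span (Or.inr rfl)) isUnit_one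
    haveI : Subsingleton (ArLef.NodeAlg B π ⧸ Ideal.span {b, (1 : ArLef.NodeAlg B π)}) :=
      Ideal.Quotient.subsingleton_iff.2 h1
    rw [← htdef] at L1 L3
    rw [← hedef] at L2
    rw [← htdef, ← hedef] at L5
    rw [mul_one, Module.length_eq_zero (M := ArLef.NodeAlg B π ⧸ Ideal.span {b, (1 : ArLef.NodeAlg B π)}),
      zero_add] at L3
    rw [hea, L3, heq, L5] at L2
    rw [L1, show J + 1 - 1 - i₁ = A by omega, show J + 1 - i₁ = A + 1 by omega]
    push_cast
    rw [add_mul, one_mul, L2]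
    ring

end Groth.Agent.S19597
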