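import Groth.Statements.S19603
import Groth.Agent.H20Comod.OrbitClosure
import Groth.Agent.H20Comod.HilbertFG

set_option autoImplicit false
universe u
open GIT

namespace Groth.Agent.S19603

/-- For the whole projective space U = P(V), let k be an algebraically closed field of arbitrary
characteristic and G = Spec A a linearly reductive affine algebraic group acting linearly on affine
ι-space, and let v be a vector. Then some invariant homogeneous polynomial of positive degree is
non-zero at v (the point of v is semistable) if and only if the origin is not in the closure of the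
orbit of v. -/
theorem result (k : Type u) [Field k] [IsAlgClosed k]
    (A : Type u) [CommRing A] [HopfAlgebra k A] [Algebra.FiniteType k A] (hG : HopfRep.IsLinearlyReductive k A)
    (ι : Type u) [Fintype ι] [HopfRep.Comod k A (MvPolynomial ι k)] [GLin.IsCoactAlg k A (MvPolynomial ι k)]
    (hlin : GLin.IsLinear k A ι) (v : ι → k) :
    GLin.IsSemistableVec k A v ↔
      ¬ GLin.InOrbitClosure k A (GLin.vecPt k ι v) (GLin.vecPt k ι (fun _ => (0 : k))) := by
  classical
  obtain ⟨α, hα, h1⟩ := H20Comod.isLinearlyReductive_iff_exists_isIntegral.1 hG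
  letI := HopfRep.Comod.trivial k A k
  haveI : GLin.IsCoactAlg k A k := ⟨rfl, fun a b => by
    show (a * b) ⊗ₜ[k] (1 : A) = (a ⊗ₜ[k] (1 : A)) * (b ⊗ₜ[k] (1 : A))
    rw [Algebra.TensorProduct.tmul_mul_tmul, one_mul]⟩
  have hE : H20Comod.IsLinExt k A k ι := by
    refine ⟨fun c => (GLin.invariants k A (MvPolynomial ι k)).algebraMap_mem c, fun i => ?_⟩
    obtain ⟨m, hm⟩ := hlin i
    rw [hm]
    exact Submodule.sum_mem _ fun j _ =>
      ⟨(⟨MvPolynomial.X j, Submodule.subset_span ⟨j, rfl⟩⟩ :
        Submodule.span k (Set.range (MvPolynomial.X : ι → MvPolynomial ι k))) ⊗ₜ[k] m j, rfl⟩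
  rw [GLin.IsSemistableVec, not_iff_not]
  constructor
  · intro hnull
    obtain ⟨z, hzv, hz0⟩ := H20Comod.exists_inOrbitClosure_both (x₁ := GLin.vecPt k ι v)
      (x₂ := GLin.vecPt k ι (fun _ => (0 : k))) hα h1 fun F hF => by
        rw [← MvPolynomial.sum_homogeneousComponent F, map_sum, map_sum]
        refine Finset.sum_congr rfl fun d _ => ?_
        have hd : MvPolynomial.homogeneousComponent d F ∈ GLin.invariants k A (MvPolynomial ι k) := by
          rw [← H20Comod.actL_eq_self_of_fixed (v := F) h1 hF, H20Comod.homogeneousComponent_actL hE]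
          exact H20Comod.actL_mem_fixedPts hα h1 _
        have hom := MvPolynomial.homogeneousComponent_isHomogeneous d F
        rcases Nat.eq_zero_or_pos d with rfl | hpos
        · rw [MvPolynomial.homogeneousComponent_zero, MvPolynomial.aeval_C, MvPolynomial.aeval_C]
        · have e1 : MvPolynomial.eval v (MvPolynomial.homogeneousComponent d F) = 0 := hnull _ hd d hpos hom
          show MvPolynomial.aeval v _ = MvPolynomial.aeval (fun _ => (0 : k)) _
          rw [show MvPolynomial.aeval v (MvPolynomial.homogeneousComponent d F) = MvPolynomial.eval v _ from rfl, e1,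
            MvPolynomial.aeval_zero', MvPolynomial.constantCoeff_eq, MvPolynomial.IsHomogeneous.coeff_eq_zero hom (by simp; omega), map_zero]
    have hz : z = GLin.vecPt k ι (fun _ => (0 : k)) := by
      apply MvPolynomial.algHom_ext
      intro i
      rw [MvPolynomial.aeval_X]
      refine hz0 ?_
      show GLin.orbitHom k A _ (MvPolynomial.X i) = 0
      obtain ⟨m, hm⟩ := hlin i
      rw [H20Comod.orbitHom_eq_sliceL, hm, map_sum]
      exact Finset.sum_eq_zero fun j _ => by simp
    exact hz ▸ hzv
  · intro h F hF d hd hhom
    have := H20Comod.apply_eq_of_inOrbitClosure h hF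
    show GLin.vecPt k ι v F = 0
    rw [← this, GLin.vecPt, MvPolynomial.aeval_zero', MvPolynomial.constantCoeff_eq,
      MvPolynomial.IsHomogeneous.coeff_eq_zero hhom (by simp; omega), map_zero]

end Groth.Agent.S19603
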