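import Groth.Statements.S19607
import Groth.Agent.H14AlgSt.InfUnramified

set_option autoImplicit false
set_option backward.isDefEq.respectTransparency false
set_option backward.isDefEq.respectTransparency.types false
universe u
open AlgSt

namespace Groth.Agent.S19607

open CategoryTheory AlgebraicGeometry TrivSqZeroExt in
/-- The kernel of the projection of dual numbers over a field is simple. -/
theorem isSimpleModule_ker (k : Type u) [Field k] :
    IsSimpleModule (DualNumber k) (RingHom.ker (fstHom k k k).toRingHom) := by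
  have h : Ideal.span {(DualNumber.eps : DualNumber k)} = RingHom.ker (fstHom k k k).toRingHom := by
    refine (DualNumber.isMaximal_span_singleton_eps (K := k)).eq_of_le (RingHom.ker_ne_top _) ?_
    rw [Ideal.span_singleton_le_iff_mem, RingHom.mem_ker]
    exact DualNumber.fst_eps
  rw [← h]
  refine isSimpleModule_iff_isAtom.2 ⟨?_, fun J hJ => ?_⟩
  · simp only [ne_eq, Submodule.span_singleton_eq_bot, Ideal.span_singleton_eq_bot]
    intro h0
    simpa using congrArg TrivSqZeroExt.snd h0
  · rcases DualNumber.ideal_trichotomy J with h' | h' | h'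
    · exact h'
    · exact absurd h' hJ.ne
    · exact absurd h' (fun hJ' => by
        rw [hJ'] at hJ
        exact not_top_lt hJ)

open CategoryTheory AlgebraicGeometry in
/-- Let f : 𝒳 → 𝒴 be a functor over (Sch/S) between algebraic stacks for the etale topology which are
locally Noetherian and have separated diagonals over S, with f locally of finite type. Then the
diagonal of f is unramified (f is DM: diagonal representable by algebraic spaces, locally of finite
type and formally unramified) if and only if for every surjection A → A₀ of Artinian local rings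
with kernel a simple module, every x̃ : Spec A → 𝒳 and every 2-automorphism Θ of x̃ which restricts
to the identity over Spec A₀ and maps to the identity under f, Θ is the identity. An automorphism of
a lifting (x̃, β, γ) of an infinitesimal lifting diagram is exactly such a Θ, and every x̃ is a
lifting of the diagram it induces, so this is the criterion 'every automorphism of a lifting is
trivial'. Separatedness of the diagonals is taken over S, which is equivalent to separatedness of
the absolute diagonals. -/
theorem result (S : Scheme.{u}) (𝒳 𝒴 : AlgSt.Cat S)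
    (h𝒳 : AlgSt.IsAlgStack Scheme.etalePrecoverage 𝒳) (h𝒴 : AlgSt.IsAlgStack Scheme.etalePrecoverage 𝒴)
    (hn𝒳 : AlgSt.SmoothLocally (fun T => IsLocallyNoetherian T) 𝒳)
    (hn𝒴 : AlgSt.SmoothLocally (fun T => IsLocallyNoetherian T) 𝒴)
    (hΔ𝒳 : AlgSt.RepByAlgSpWith AlgSp.IsSeparatedMor (FibCat.diag (FibCat.toSelf 𝒳)))
    (hΔ𝒴 : AlgSt.RepByAlgSpWith AlgSp.IsSeparatedMor (FibCat.diag (FibCat.toSelf 𝒴)))
    (f : 𝒳 ⥤ᵇ 𝒴) (hft : AlgSt.LocQ (AlgSp.LocP @LocallyOfFiniteType) f) :
    AlgSt.IsDMMor f ↔
      ∀ (A A₀ : Type u) [CommRing A] [IsArtinianRing A] [IsLocalRing A] [CommRing A₀] [IsLocalRing A₀]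
        (φ : A →+* A₀) (_ : Function.Surjective φ) (_ : IsSimpleModule A (RingHom.ker φ))
        (sA : Spec (CommRingCat.of A) ⟶ S)
        (xt : FibCat.overCat (Over.mk sA) ⥤ᵇ 𝒳) (Θ : xt ≅ xt),
        BasedCategory.whiskerLeft (AlgSt.overMap (Over.homMk (Spec.map (CommRingCat.ofHom φ)) rfl :
            Over.mk (Spec.map (CommRingCat.ofHom φ) ≫ sA) ⟶ Over.mk sA)) Θ.hom =
          𝟙 (BasedFunctor.comp (AlgSt.overMap (Over.homMk (Spec.map (CommRingCat.ofHom φ)) rfl :
            Over.mk (Spec.map (CommRingCat.ofHom φ) ≫ sA) ⟶ Over.mk sA)) xt) →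
        BasedCategory.whiskerRight Θ.hom f = 𝟙 (BasedFunctor.comp xt f) →
        Θ.hom = 𝟙 xt := by
  have hX : FibCat.IsFibGrpd 𝒳.p := h𝒳.isStack.1
  have hY : FibCat.IsFibGrpd 𝒴.p := h𝒴.isStack.1
  constructor
  · intro h A A₀ _ _ _ _ _ φ hφ _ sA
    have : Subsingleton (PrimeSpectrum A) :=
      ⟨fun p q => PrimeSpectrum.ext
        ((IsLocalRing.eq_maximalIdeal (Ideal.IsPrime.isMaximal' p.isPrime)).trans
          (IsLocalRing.eq_maximalIdeal (Ideal.IsPrime.isMaximal' q.isPrime)).symm)⟩
    exact (Groth.Agent.H14AlgSt.trivAlong_iff_whisker hX hY f _).1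
      (Groth.Agent.H14AlgSt.trivAlong_of_isDMMor h𝒳 f h _ fun t =>
        ⟨IsLocalRing.closedPoint A₀, specializes_of_eq (Subsingleton.elim (α := PrimeSpectrum A) _ _)⟩)
  · intro H
    refine Groth.Agent.H14AlgSt.isDMMor_of_trivAlong h𝒳 h𝒴 f fun k _ sA => ?_
    have : Module.Finite k (DualNumber k) := inferInstanceAs (Module.Finite k (k × k))
    have : IsArtinianRing (DualNumber k) := IsArtinianRing.of_finite k (DualNumber k)
    exact (Groth.Agent.H14AlgSt.trivAlong_iff_whisker hX hY f _).2
      (H (DualNumber k) k (TrivSqZeroExt.fstHom k k k).toRingHom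
        (fun c => ⟨TrivSqZeroExt.inl c, rfl⟩) (isSimpleModule_ker k) sA)

end Groth.Agent.S19607
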