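import Groth.Statements.S19609
import Groth.Agent.H17.Imports
import Mathlib.AlgebraicGeometry.ZariskisMainTheorem

set_option autoImplicit false
universe u
open CartMod

namespace Groth.Agent.S19609

open CategoryTheory Limits AlgebraicGeometry TopologicalSpace

/-- Let p be a prime and u : A → B a ring homomorphism between commutative rings which are complete and
separated for the p-adic topology and have no p-torsion (flat over the p-adic base). If u induces a
bijection A/pA → B/pB (injectivity: u a ∈ pB forces a ∈ pA; surjectivity: every b ∈ B is congruent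
to some u a modulo pB), then u is bijective. (The published statement is for a morphism of flat
p-adic formal schemes over the Witt vectors of a perfect field: if its special fibre is an
isomorphism, so is the morphism; this row is its affine, ring-level case.) -/
theorem result (p : ℕ) [Fact p.Prime]
    {A B : Type u} [CommRing A] [CommRing B]
    [IsAdicComplete (Ideal.span {(p : A)}) A] [IsAdicComplete (Ideal.span {(p : B)}) B]
    (hA : IsSMulRegular A (p : A)) (hB : IsSMulRegular B (p : B)) (u : A →+* B)
    (hinj : ∀ a : A, u a ∈ Ideal.span {(p : B)} → a ∈ Ideal.span {(p : A)})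
    (hsurj : ∀ b : B, ∃ a : A, b - u a ∈ Ideal.span {(p : B)}) :
    Function.Bijective u := by
  have memA : ∀ n (a : A), a ≡ 0 [SMOD ((Ideal.span {(p : A)}) ^ n • ⊤ : Submodule A A)] ↔ (p : A) ^ n ∣ a := fun n a => by
    rw [SModEq.zero, Ideal.span_singleton_pow, smul_eq_mul, Ideal.mul_top, Ideal.mem_span_singleton]
  have memB : ∀ n (a : B), a ≡ 0 [SMOD ((Ideal.span {(p : B)}) ^ n • ⊤ : Submodule B B)] ↔ (p : B) ^ n ∣ a := fun n a => by
    rw [SModEq.zero, Ideal.span_singleton_pow, smul_eq_mul, Ideal.mul_top, Ideal.mem_span_singleton]
  refine ⟨(injective_iff_map_eq_zero u).mpr fun a ha => ?_, fun b => ?_⟩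
  · have key : ∀ n, ∀ a : A, u a = 0 → (p : A) ^ n ∣ a := fun n => by
      induction n with
      | zero => intro a _; simp
      | succ n ih =>
        intro a ha
        obtain ⟨c, rfl⟩ := Ideal.mem_span_singleton.mp (hinj a (by rw [ha]; exact zero_mem _))
        rw [map_mul, map_natCast] at ha
        rw [pow_succ']
        exact mul_dvd_mul_left _ (ih c (hB (show (p : B) • u c = (p : B) • 0 by rw [smul_eq_mul, smul_eq_mul, ha, mul_zero])))
    exact IsHausdorff.haus inferInstance a fun n => (memA n a).mpr (key n a ha)
  · choose g hg using fun b : B => (hsurj b).imp fun a ha => Ideal.mem_span_singleton.mp ha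
    choose r hr using hg
    let bs : ℕ → B := fun n => n.rec b fun _ x => r x
    let as : ℕ → A := fun n => ∑ i ∈ Finset.range n, (p : A) ^ i * g (bs i)
    have has : ∀ n, b = u (as n) + (p : B) ^ n * bs n := fun n => by
      induction n with
      | zero => simp [as, bs]
      | succ n ih =>
        have hbs : bs n - u (g (bs n)) = (p : B) * bs (n + 1) := hr (bs n)
        simp only [as, Finset.sum_range_succ, map_add, map_mul, map_pow, map_natCast]
        rw [pow_succ, mul_assoc, ← hbs]
        linear_combination ih
    obtain ⟨a, ha⟩ := IsPrecomplete.prec (I := Ideal.span {(p : A)}) inferInstance (f := as) (fun {m n} hmn => by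
      rw [← sub_smodEq_zero, memA]
      rw [show as m - as n = -∑ i ∈ Finset.Ico m n, (p : A) ^ i * g (bs i) by
        rw [Finset.sum_Ico_eq_sub _ hmn]; ring]
      exact (Finset.dvd_sum fun i hi => (pow_dvd_pow _ (Finset.mem_Ico.mp hi).1).mul_right _).neg_right)
    refine ⟨a, (sub_eq_zero.mp (IsHausdorff.haus (I := Ideal.span {(p : B)}) inferInstance (b - u a) fun n => (memB n _).mpr ?_)).symm⟩
    obtain ⟨c, hc⟩ := (memA n _).mp (sub_smodEq_zero.mpr (ha n))
    refine ⟨bs n + u c, ?_⟩
    have h1 : u (as n) - u a = (p : B) ^ n * u c := by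
      rw [← map_sub, hc, map_mul, map_pow, map_natCast]
    linear_combination has n + h1

end Groth.Agent.S19609
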