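import Groth.Statements.S19610
import Groth.Agent.H17.Imports
import Mathlib.RingTheory.AdicCompletion.Basic
import Mathlib.RingTheory.WittVector.DiscreteValuationRing
import Mathlib.RingTheory.Flat.TorsionFree
import Mathlib.RingTheory.Flat.EquationalCriterion
import Mathlib.LinearAlgebra.TensorProduct.Quotient

set_option autoImplicit false
universe u
open scoped TensorProduct
open CartMod

namespace Groth.Agent.S19610

open CategoryTheory Limits AlgebraicGeometry TopologicalSpace
open scoped TensorProduct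

/-- Let p be a prime and B a commutative algebra over the commutative ring A, both complete and
separated for the p-adic topology and both without p-torsion (flat over the p-adic base). If B/pB is
flat over A/pA, then B/p^nB is flat over A/p^nA for every n ≥ 1 (the quotients are written as base
changes (A/p^n) ⊗_A B). (The published statement is for a morphism of flat p-adic formal schemes
over the Witt vectors of a perfect field: if its special fibre is flat, so are the induced morphisms
of schemes modulo every power of p; this row is its affine, ring-level case.) -/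
theorem result (p : ℕ) [Fact p.Prime]
    {A B : Type u} [CommRing A] [CommRing B] [Algebra A B]
    [IsAdicComplete (Ideal.span {(p : A)}) A] [IsAdicComplete (Ideal.span {(p : B)}) B]
    (hA : IsSMulRegular A (p : A)) (hB : IsSMulRegular B (p : B))
    (h : Module.Flat (A ⧸ Ideal.span {(p : A)}) ((A ⧸ Ideal.span {(p : A)}) ⊗[A] B))
    (n : ℕ) (hn : 1 ≤ n) :
    Module.Flat (A ⧸ (Ideal.span {(p : A)} ^ n)) ((A ⧸ (Ideal.span {(p : A)} ^ n)) ⊗[A] B) := by
  classical
  let q : A := (p : A)
  have hq : IsSMulRegular B q := fun x y hxy => hB (by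
    simpa [q, Algebra.smul_def, smul_eq_mul] using hxy)
  -- `1 ⊗ x = 0` iff `x` is divisible
  have hzero : ∀ (k : ℕ) (x : B), ((1 : A ⧸ Ideal.span {q ^ k}) ⊗ₜ[A] x = 0) ↔ ∃ x', q ^ k • x' = x := by
    intro k x
    rw [← (TensorProduct.quotTensorEquivQuotSMul B (Ideal.span {q ^ k})).map_eq_zero_iff,
      show (1 : A ⧸ Ideal.span {q ^ k}) = Ideal.Quotient.mk _ 1 from rfl,
      TensorProduct.quotTensorEquivQuotSMul_mk_tmul, one_smul, Submodule.Quotient.mk_eq_zero,
      Submodule.ideal_span_singleton_smul, Submodule.mem_smul_pointwise_iff_exists]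
    simp
  have hsurj : ∀ (k : ℕ) (z : (A ⧸ Ideal.span {q ^ k}) ⊗[A] B), ∃ x, (1 : A ⧸ Ideal.span {q ^ k}) ⊗ₜ[A] x = z := by
    intro k z
    induction z using TensorProduct.induction_on with
    | zero => exact ⟨0, TensorProduct.tmul_zero _ _⟩
    | tmul r x =>
      obtain ⟨r, rfl⟩ := Ideal.Quotient.mk_surjective r
      refine ⟨r • x, ?_⟩
      rw [← TensorProduct.smul_tmul, Algebra.smul_def, mul_one]; rfl
    | add a b ha hb =>
      obtain ⟨x, rfl⟩ := ha; obtain ⟨y, rfl⟩ := hb
      exact ⟨x + y, TensorProduct.tmul_add _ _ _⟩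
  -- flatness modulo `p` in equational form
  have htriv : ∀ {ι : Type u} [Fintype ι] (a : ι → A) (m : ι → B), (∃ w, q • w = ∑ k, a k • m k) →
      ∃ (κ : Type) (_ : Fintype κ) (c : ι → κ → A) (y : κ → B) (b : κ → A) (v : ι → B),
        (∀ k, m k = (∑ j, c k j • y j) + q • v k) ∧ ∀ j, ∑ k, a k * c k j = q * b j := by
    intro ι _ a m ⟨w, hw⟩
    have h1 : Ideal.span {q ^ 1} = Ideal.span {(p : A)} := by rw [pow_one]
    have hf : Module.Flat (A ⧸ Ideal.span {q ^ 1}) ((A ⧸ Ideal.span {q ^ 1}) ⊗[A] B) := by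
      rw [h1]; exact h
    have hrel : ∑ k, Ideal.Quotient.mk (Ideal.span {q ^ 1}) (a k) • ((1 : A ⧸ Ideal.span {q ^ 1}) ⊗ₜ[A] m k) = 0 := by
      have : ∀ k, Ideal.Quotient.mk (Ideal.span {q ^ 1}) (a k) • ((1 : A ⧸ Ideal.span {q ^ 1}) ⊗ₜ[A] m k) =
          (1 : A ⧸ Ideal.span {q ^ 1}) ⊗ₜ[A] (a k • m k) := fun k => by
        rw [TensorProduct.smul_tmul', ← TensorProduct.smul_tmul, Algebra.smul_def]; rfl
      rw [Finset.sum_congr rfl (fun k _ => this k), ← TensorProduct.tmul_sum, hzero]
      exact ⟨w, by rw [pow_one, hw]⟩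
    obtain ⟨κ, c, y, hm, hc⟩ := Module.Flat.isTrivialRelation_of_sum_smul_eq_zero hrel
    choose c' hc' using fun k j => Ideal.Quotient.mk_surjective (c k j)
    choose y' hy' using fun j => hsurj 1 (y j)
    have hb : ∀ j, ∃ b, ∑ k, a k * c' k j = q * b := fun j => by
      have := hc j
      simp only [← hc', ← map_mul, ← map_sum, Ideal.Quotient.eq_zero_iff_mem, pow_one,
        Ideal.mem_span_singleton'] at this
      obtain ⟨b, hb⟩ := this
      exact ⟨b, by rw [← hb, mul_comm]⟩
    choose b hb using hb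
    have hv : ∀ k, ∃ v, m k = (∑ j, c' k j • y' j) + q • v := fun k => by
      have h0 : (1 : A ⧸ Ideal.span {q ^ 1}) ⊗ₜ[A] (m k - ∑ j, c' k j • y' j) = 0 := by
        rw [TensorProduct.tmul_sub, TensorProduct.tmul_sum, sub_eq_zero]
        refine (hm k).trans ?_
        refine Finset.sum_congr rfl fun j _ => ?_
        rw [← hy', ← hc', TensorProduct.smul_tmul', ← TensorProduct.smul_tmul, Algebra.smul_def]; rfl
      obtain ⟨v, hv⟩ := (hzero 1 _).mp h0
      exact ⟨v, by rw [← pow_one q, hv]; abel⟩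
    choose v hv using hv
    exact ⟨Fin κ, inferInstance, c', y', b, v, hv, hb⟩
  rw [Ideal.span_singleton_pow]
  rw [Module.Flat.iff_rTensor_injective']
  intro J
  let R := A ⧸ Ideal.span {q ^ n}
  let π : A →+* R := Ideal.Quotient.mk (Ideal.span {q ^ n})
  have key : ∀ (d i : ℕ), i + d = n → ∀ {ι : Type u} [Fintype ι] (a : ι → A) (m : ι → B)
      (ha : ∀ k, π (q ^ i * a k) ∈ J), (∃ w, q ^ n • w = q ^ i • ∑ k, a k • m k) →
      ∑ k, (⟨π (q ^ i * a k), ha k⟩ : J) ⊗ₜ[R] ((1 : R) ⊗ₜ[A] m k) = 0 := by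
    intro d
    induction d with
    | zero =>
      intro i hi ι _ a m ha _
      refine Finset.sum_eq_zero fun k _ => ?_
      have : (⟨π (q ^ i * a k), ha k⟩ : J) = 0 := Subtype.ext (Ideal.Quotient.eq_zero_iff_mem.mpr
        (Ideal.mem_span_singleton'.mpr ⟨a k, by rw [mul_comm, show i = n by omega]⟩))
      rw [this, TensorProduct.zero_tmul]
    | succ d ih =>
      intro i hi ι _ a m ha ⟨w, hw⟩
      obtain ⟨κ, _, c, y, b, v, hm, hb⟩ := htriv a m ⟨q ^ (n - i - 1) • w, (hq.pow i) (by
        show q ^ i • q • q ^ (n - i - 1) • w = q ^ i • ∑ k, a k • m k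
        rw [← hw, smul_smul, smul_smul, ← pow_succ, ← pow_add, show i + 1 + (n - i - 1) = n by omega])⟩
      have hb' : ∀ j, π (q ^ (i + 1) * b j) ∈ J := fun j => by
        rw [pow_succ, mul_assoc, ← hb, Finset.mul_sum, map_sum]
        refine sum_mem fun k _ => ?_
        rw [← mul_assoc, map_mul]
        exact J.mul_mem_right _ (ha k)
      have ha' : ∀ k, π (q ^ (i + 1) * a k) ∈ J := fun k => by
        rw [pow_succ, mul_right_comm, map_mul]; exact J.mul_mem_right _ (ha k)
      have htmul : ∀ (x : A) (e : B) (r : A) (hx : π x ∈ J),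
          (⟨π x, hx⟩ : J) ⊗ₜ[R] ((1 : R) ⊗ₜ[A] (r • e)) =
          (⟨π (x * r), by rw [map_mul]; exact J.mul_mem_right _ hx⟩ : J) ⊗ₜ[R] ((1 : R) ⊗ₜ[A] e) := by
        intro x e r hx
        have h1 : (1 : R) ⊗ₜ[A] (r • e) = π r • ((1 : R) ⊗ₜ[A] e) := by
          rw [TensorProduct.smul_tmul', ← TensorProduct.smul_tmul, Algebra.smul_def]; rfl
        rw [h1, ← TensorProduct.smul_tmul]
        congr 1
        exact Subtype.ext (by simp [map_mul, mul_comm])
      have hterm : ∀ k, (⟨π (q ^ i * a k), ha k⟩ : J) ⊗ₜ[R] ((1 : R) ⊗ₜ[A] m k) =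
          (∑ j, (⟨π (q ^ i * a k * c k j), by rw [map_mul]; exact J.mul_mem_right _ (ha k)⟩ : J) ⊗ₜ[R] ((1 : R) ⊗ₜ[A] y j)) +
          (⟨π (q ^ (i + 1) * a k), ha' k⟩ : J) ⊗ₜ[R] ((1 : R) ⊗ₜ[A] v k) := by
        intro k
        rw [hm k, TensorProduct.tmul_add, TensorProduct.tmul_sum, TensorProduct.tmul_add, TensorProduct.tmul_sum]
        congr 1
        · exact Finset.sum_congr rfl fun j _ => htmul _ _ _ _
        · rw [htmul]
          congr 1
          exact Subtype.ext (congrArg π (by ring))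
      rw [Finset.sum_congr rfl (fun k _ => hterm k), Finset.sum_add_distrib, Finset.sum_comm]
      have hcol : ∀ j, ∑ k, (⟨π (q ^ i * a k * c k j), by rw [map_mul]; exact J.mul_mem_right _ (ha k)⟩ : J) ⊗ₜ[R] ((1 : R) ⊗ₜ[A] y j) =
          (⟨π (q ^ (i + 1) * b j), hb' j⟩ : J) ⊗ₜ[R] ((1 : R) ⊗ₜ[A] y j) := by
        intro j
        rw [← TensorProduct.sum_tmul]
        congr 1
        refine Subtype.ext ?_
        rw [Submodule.coe_sum, ← map_sum]
        refine congrArg π ?_
        rw [pow_succ, mul_assoc (q ^ i) q, ← hb, Finset.mul_sum]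
        exact Finset.sum_congr rfl fun k _ => by ring
      rw [Finset.sum_congr rfl (fun j _ => hcol j)]
      -- both sums together form a relation of level `i + 1`
      have := ih (i + 1) (by omega) (ι := κ ⊕ ι) (Sum.elim b a) (Sum.elim y v)
        (fun s => s.rec hb' ha') ⟨w, by
          rw [hw, Fintype.sum_sum_type, pow_succ, mul_smul]
          congr 1
          simp only [Sum.elim_inl, Sum.elim_inr, smul_add, Finset.smul_sum]
          rw [show ∑ j, q • b j • y j = ∑ j, ∑ k, a k • c k j • y j from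
            Finset.sum_congr rfl fun j _ => by simp only [smul_smul, ← hb j, Finset.sum_smul],
            Finset.sum_comm, ← Finset.sum_add_distrib]
          exact Finset.sum_congr rfl fun k _ => by rw [hm k, smul_add, Finset.smul_sum, smul_comm (a k) q]⟩
      rw [Fintype.sum_sum_type] at this
      exact this
  rw [injective_iff_map_eq_zero]
  intro z hz
  obtain ⟨S, hS⟩ := TensorProduct.exists_finset z
  choose a ha using fun s : S => Ideal.Quotient.mk_surjective (s.1.1 : R)
  choose m hm using fun s : S => hsurj n s.1.2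
  have hz' : z = ∑ s : S, (⟨π (q ^ 0 * a s), by rw [pow_zero, one_mul]; exact (ha s).symm ▸ s.1.1.2⟩ : J) ⊗ₜ[R] ((1 : R) ⊗ₜ[A] m s) := by
    rw [hS, ← Finset.sum_coe_sort]
    refine Finset.sum_congr rfl fun s _ => ?_
    congr 1
    · exact Subtype.ext (by show _ = π (q ^ 0 * a s); rw [pow_zero, one_mul]; exact (ha s).symm)
    · exact (hm s).symm
  rw [hz'] at hz ⊢
  refine key n 0 (zero_add n) _ _ _ ?_
  have h0 : (1 : R) ⊗ₜ[A] (∑ s : S, a s • m s) = 0 := by
    have := congrArg (TensorProduct.lid R (R ⊗[A] B)) hz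
    simp only [map_sum, map_zero] at this
    refine Eq.trans ?_ this
    rw [TensorProduct.tmul_sum]
    refine Finset.sum_congr rfl fun s _ => ?_
    show (1 : R) ⊗ₜ[A] (a s • m s) = π (q ^ 0 * a s) • ((1 : R) ⊗ₜ[A] m s)
    rw [pow_zero, one_mul, TensorProduct.smul_tmul', ← TensorProduct.smul_tmul, Algebra.smul_def]; rfl
  obtain ⟨w, hw⟩ := (hzero n _).mp h0
  exact ⟨w, by rw [hw, pow_zero, one_smul]⟩

end Groth.Agent.S19610
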