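import Groth.Statements.S19612
import Groth.Agent.H17.Imports
import Mathlib.RingTheory.AdicCompletion.Basic
import Mathlib.RingTheory.WittVector.DiscreteValuationRing
import Mathlib.RingTheory.Flat.TorsionFree
import Mathlib.RingTheory.Flat.EquationalCriterion
import Mathlib.LinearAlgebra.TensorProduct.Quotient

set_option autoImplicit false
universe u
open scoped TensorProduct
open CartMod

namespace Groth.Agent.S19612

open CategoryTheory Limits AlgebraicGeometry TopologicalSpace
open scoped TensorProduct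

/-- Let k be a perfect field of characteristic p, W = W(k) the ring of Witt vectors of k, and A a
commutative W-algebra which is complete and separated for the p-adic topology (an adic W-algebra).
Then flatness of A over W is equivalent to flatness of A/p^nA = (W/p^nW) ⊗_W A over W/p^nW for every
n ≥ 1. -/
theorem result (p : ℕ) [Fact p.Prime] (k : Type u) [Field k]
    [CharP k p] [PerfectRing k p] (A : Type u) [CommRing A] [Algebra (WittVector p k) A]
    [IsAdicComplete (Ideal.span {(p : WittVector p k)}) A] :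
    Module.Flat (WittVector p k) A ↔
      ∀ n : ℕ, 1 ≤ n →
        Module.Flat (WittVector p k ⧸ (Ideal.span {(p : WittVector p k)} ^ n))
          ((WittVector p k ⧸ (Ideal.span {(p : WittVector p k)} ^ n)) ⊗[WittVector p k] A) := by
  refine ⟨fun _ n _ => inferInstance, fun h => ?_⟩
  let W := WittVector p k
  let q : W := (p : W)
  have hzero : ∀ (n : ℕ) (x : A), ((1 : W ⧸ Ideal.span {q} ^ n) ⊗ₜ[W] x = 0) ↔ x ∈ Ideal.span {q} ^ n • (⊤ : Submodule W A) := by
    intro n x
    rw [← (TensorProduct.quotTensorEquivQuotSMul A (Ideal.span {q} ^ n)).map_eq_zero_iff,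
      show (1 : W ⧸ Ideal.span {q} ^ n) = Ideal.Quotient.mk _ 1 from rfl,
      TensorProduct.quotTensorEquivQuotSMul_mk_tmul, one_smul, Submodule.Quotient.mk_eq_zero]
  have hreg : ∀ x : A, q • x = 0 → x = 0 := by
    intro x hx
    refine IsHausdorff.haus (inferInstance : IsHausdorff (Ideal.span {q}) A) x fun n => ?_
    rw [SModEq.zero]
    have hflat := h (n + 1) (Nat.le_add_left 1 n)
    have hrel : ∑ _ : Fin 1, Ideal.Quotient.mk (Ideal.span {q} ^ (n + 1)) q • ((1 : W ⧸ Ideal.span {q} ^ (n + 1)) ⊗ₜ[W] x) = 0 := by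
      rw [Finset.sum_const, Finset.card_univ, Fintype.card_fin, one_smul,
        TensorProduct.smul_tmul', smul_eq_mul, mul_one,
        show Ideal.Quotient.mk (Ideal.span {q} ^ (n + 1)) q = q • (1 : W ⧸ Ideal.span {q} ^ (n + 1)) by rw [Algebra.smul_def, mul_one]; rfl,
        TensorProduct.smul_tmul, hx, TensorProduct.tmul_zero]
    obtain ⟨κ, c, y, hm, hc⟩ := Module.Flat.isTrivialRelation_of_sum_smul_eq_zero hrel
    have hmem : (1 : W ⧸ Ideal.span {q} ^ (n + 1)) ⊗ₜ[W] x ∈
        Ideal.span {Ideal.Quotient.mk (Ideal.span {q} ^ (n + 1)) (q ^ n)} • (⊤ : Submodule (W ⧸ Ideal.span {q} ^ (n + 1)) _) := by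
      rw [show (1 : W ⧸ Ideal.span {q} ^ (n + 1)) ⊗ₜ[W] x = ∑ j, c 0 j • y j from hm 0]
      refine sum_mem fun j _ => Submodule.smul_mem_smul ?_ trivial
      obtain ⟨c', hc'⟩ := Ideal.Quotient.mk_surjective (c 0 j)
      have h0 := hc j
      rw [Fin.sum_univ_one, ← hc', ← map_mul, Ideal.Quotient.eq_zero_iff_mem, Ideal.span_singleton_pow,
        Ideal.mem_span_singleton'] at h0
      obtain ⟨d, hd⟩ := h0
      have : c' = d * q ^ n := mul_left_cancel₀ (WittVector.p_nonzero p k) (by rw [← hd]; ring)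
      rw [← hc', this, map_mul]
      exact Ideal.mul_mem_left _ _ (Ideal.mem_span_singleton_self _)
    rw [Submodule.ideal_span_singleton_smul, Submodule.mem_smul_pointwise_iff_exists] at hmem
    obtain ⟨z, -, hz⟩ := hmem
    obtain ⟨z', hz'⟩ : ∃ z', (1 : W ⧸ Ideal.span {q} ^ (n + 1)) ⊗ₜ[W] z' = z := by
      clear hz
      induction z using TensorProduct.induction_on with
      | zero => exact ⟨0, TensorProduct.tmul_zero _ _⟩
      | tmul r x =>
        obtain ⟨r, rfl⟩ := Ideal.Quotient.mk_surjective r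
        exact ⟨r • x, by rw [← TensorProduct.smul_tmul, Algebra.smul_def, mul_one]; rfl⟩
      | add a b ha hb =>
        obtain ⟨x, rfl⟩ := ha; obtain ⟨y, rfl⟩ := hb
        exact ⟨x + y, TensorProduct.tmul_add _ _ _⟩
    have h1 : (1 : W ⧸ Ideal.span {q} ^ (n + 1)) ⊗ₜ[W] (x - q ^ n • z') = 0 := by
      rw [TensorProduct.tmul_sub, sub_eq_zero, ← hz, ← hz', TensorProduct.smul_tmul', ← TensorProduct.smul_tmul, Algebra.smul_def]
      rfl
    have h2 := Submodule.smul_mono_left (Ideal.pow_le_pow_right (Nat.le_succ n)) ((hzero (n + 1) _).mp h1)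
    have h3 : q ^ n • z' ∈ Ideal.span {q} ^ n • (⊤ : Submodule W A) :=
      Submodule.smul_mem_smul (Ideal.pow_mem_pow (Ideal.mem_span_singleton_self q) n) trivial
    simpa using add_mem h2 h3
  rw [IsDedekindDomain.flat_iff_torsion_eq_bot, eq_bot_iff]
  rintro x ⟨⟨a, ha⟩, hax⟩
  obtain ⟨m, b, rfl⟩ := WittVector.exists_eq_pow_p_mul' a (nonZeroDivisors.ne_zero ha)
  change ((q ^ m * (b : W)) • x = 0) at hax
  rw [mul_comm, mul_smul, b.isUnit.smul_eq_zero] at hax
  rw [Submodule.mem_bot]
  clear ha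
  induction m with
  | zero => simpa using hax
  | succ m ih => exact ih (hreg _ (by rwa [pow_succ', mul_smul] at hax))

end Groth.Agent.S19612
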