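import Groth.Statements.S19618
import Groth.Agent.H11Div.DimDivisor
import Mathlib.RingTheory.Ideal.KrullsHeightTheorem

set_option autoImplicit false
universe u
open CategoryTheory CategoryTheory.Limits AlgebraicGeometry Opposite TopologicalSpace
open BlowUp

namespace Groth.Agent.S19618

/-- Let X be a locally Noetherian scheme, Y an effective Cartier divisor on X (a quasi-coherent ideal
sheaf which, near every point, is generated on some affine open by one nonzerodivisor; Y is its
support) and Z a closed integral subscheme (a closed immersion i from an integral scheme with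
generic point ξ). If Y and Z intersect properly — every point ζ of Y ∩ Z which is maximal under
generization inside Y ∩ Z satisfies dim O_{X,ζ} = codim(Y,X) + codim(Z,X), where codim(Y,X) is the
infimum over y ∈ Y of dim O_{X,y} and codim(Z,X) = dim O_{X,i(ξ)} — then Z is not contained in Y. -/
theorem result {X Z : Scheme.{u}}
    [IsLocallyNoetherian X] (𝓘 : X.IdealSheafData) (hY : BlowUp.IsEffCartierIdeal 𝓘)
    (i : Z ⟶ X) [IsClosedImmersion i] [IsIntegral Z]
    (hprop : ∀ ζ : ↥X, ζ ∈ (𝓘.support : Set ↥X) ∩ Set.range i.base →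
        (∀ ζ' : ↥X, ζ' ∈ (𝓘.support : Set ↥X) ∩ Set.range i.base → ζ' ⤳ ζ → ζ' = ζ) →
        ringKrullDim ↑(X.presheaf.stalk ζ) =
          (⨅ y : (𝓘.support : Set ↥X), ringKrullDim ↑(X.presheaf.stalk y.1)) +
            ringKrullDim ↑(X.presheaf.stalk (i (genericPoint ↥Z)))) :
    ¬ Set.range i.base ⊆ (𝓘.support : Set ↥X) := by
  intro hsub
  let ξ : X := i (genericPoint Z)
  have hξ : ξ ∈ Set.range i.base := ⟨genericPoint Z, rfl⟩
  have hmax : ∀ ζ' ∈ (𝓘.support : Set X) ∩ Set.range i.base, ζ' ⤳ ξ → ζ' = ξ := by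
    rintro _ ⟨-, z, rfl⟩ hz
    exact (hz.antisymm ((genericPoint_specializes z).map i.continuous)).eq
  have h := hprop ξ ⟨hsub hξ, hξ⟩ hmax
  have hone : (1 : WithBot ℕ∞) ≤ ⨅ y : (𝓘.support : Set X), ringKrullDim (X.presheaf.stalk y.1) := by
    refine le_iInf fun y => ?_
    obtain ⟨U, hyU, f, hf, hU⟩ := hY y.1
    haveI : IsNoetherianRing Γ(X, U.1) := IsLocallyNoetherian.component_noetherian U
    rw [H11Div.ringKrullDim_stalk_eq_height U ⟨y.1, hyU⟩]
    have hle := (H11Div.mem_support_iff_ideal_le 𝓘 U ⟨y.1, hyU⟩).1 y.2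
    rw [hU] at hle
    have hnu : ¬ IsUnit f := fun hu => (U.2.primeIdealOf ⟨y.1, hyU⟩).isPrime.ne_top
      (top_le_iff.1 ((Ideal.span_singleton_eq_top.2 hu).ge.trans hle))
    exact_mod_cast (Ideal.height_span_singleton_eq_one_of_mem_nonZeroDivisors hf hnu).ge.trans
      (Ideal.height_mono hle)
  haveI : IsNoetherianRing (X.presheaf.stalk ξ) := inferInstance
  obtain ⟨n, hn⟩ : ∃ n : ℕ, ringKrullDim (X.presheaf.stalk ξ) = n :=
    ⟨_, Order.krullDim_eq_length_of_finiteDimensionalOrder⟩
  rw [show i (genericPoint Z) = ξ from rfl, hn] at h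
  have h2 : ((1 + n : ℕ) : WithBot ℕ∞) ≤ (n : WithBot ℕ∞) := by
    rw [Nat.cast_add, Nat.cast_one]
    calc (1 : WithBot ℕ∞) + n ≤ _ := add_le_add hone le_rfl
      _ = _ := h.symm
  have : 1 + n ≤ n := by exact_mod_cast h2
  omega

end Groth.Agent.S19618
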