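import Groth.Statements.S19620
import Groth.Agent.H16Derived.KFlat.GammaDerived
import Groth.Agent.H17.FPExt.Colimit
import Groth.Agent.H16Derived.Dual.Local

set_option autoImplicit false
universe u
open CategoryTheory CategoryTheory.Limits AlgebraicGeometry
attribute [local instance] HasDerivedCategory.standard
open DCoh

namespace Groth.Agent.S19620


theorem exists_hd_restrict_iso {X : Scheme.{u}} (V : X.Opens) (E : DCoh.D X) (i : ℤ) :
    Nonempty (DCoh.HD ((DCoh.restrictD V.ι).obj E) i ≅
      (Scheme.Modules.restrictFunctor V.ι).obj (DCoh.HD E i)) := by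
  let C := DerivedCategory.Q.objPreimage E
  let e : DerivedCategory.Q.obj C ≅ E := DerivedCategory.Q.objObjPreimageIso E
  let R := Scheme.Modules.restrictFunctor V.ι
  exact ⟨(DerivedCategory.homologyFunctor _ i).mapIso
      ((DCoh.restrictD V.ι).mapIso e.symm ≪≫ R.mapDerivedCategoryFactors.app C) ≪≫
    (DerivedCategory.homologyFunctorFactors _ i).app _ ≪≫ (C.sc i).mapHomologyIso R ≪≫
    R.mapIso (((DerivedCategory.homologyFunctorFactors _ i).app C).symm ≪≫
      (DerivedCategory.homologyFunctor _ i).mapIso e)⟩

theorem isZero_of_hd {X : Scheme.{u}} (E : DCoh.D X) (h : ∀ i, IsZero (DCoh.HD E i)) : IsZero E := by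
  let C := DerivedCategory.Q.objPreimage E
  let e : DerivedCategory.Q.obj C ≅ E := DerivedCategory.Q.objObjPreimageIso E
  haveI : QuasiIso (0 : C ⟶ C) := ⟨fun i => by
    rw [quasiIsoAt_iff_isIso_homologyMap]
    have hz : IsZero (C.homology i) := (h i).of_iso
      (((DerivedCategory.homologyFunctorFactors _ i).app C).symm ≪≫
        (DerivedCategory.homologyFunctor _ i).mapIso e)
    exact ⟨0, hz.eq_of_src _ _, hz.eq_of_src _ _⟩⟩
  haveI : IsIso (DerivedCategory.Q.map (0 : C ⟶ C)) := inferInstance
  refine IsZero.of_iso ?_ e.symm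
  rw [Functor.map_zero] at this
  exact (IsZero.iff_id_eq_zero _).2 (((isIsoZeroEquiv _ _).toFun this).1)


open Groth.Agent.H16Derived.KFlat in
open Groth.Agent.H16Derived.KFlat.Stalk in

/-- Let f : X → Y be a proper morphism of schemes, with Rf_* the total right derived functor of f_* on
the unbounded derived categories of modules (assumed to exist), let Z ⊆ X be a closed subset and E
an object of D(O_X) whose cohomology sheaves are all supported in Z (every stalk at a point outside
Z is trivial). Then the cohomology sheaves of Rf_*E are supported in the closed subset f(Z) of Y.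
(The published statement, made in a setting where all schemes are separated and of finite type over
a regular base, takes f proper and perfect and concludes that Rf_* carries perfect complexes acyclic
outside Z to perfect complexes acyclic outside f(Z); the perfectness of Rf_*E is a separate result,
and the support inclusion, which is what the published proof establishes, holds for every proper f
and every E and is stated in that generality.) -/
theorem result {X Y : Scheme.{u}} (f : X ⟶ Y) [IsProper f]
    [DCoh.HasRpush f] (Z : Set ↥X) (hZ : IsClosed Z) (E : DCoh.D X)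
    (hE : ∀ i : ℤ, CohB1.support (DCoh.HD E i) ⊆ Z) (i : ℤ) :
    CohB1.support (DCoh.HD ((DCoh.Rpush f).obj E) i) ⊆ f.base '' Z := by
  intro y hy
  by_contra hyZ
  have hcl : IsClosed (f.base '' Z) := f.isClosedMap Z hZ
  let V : Y.Opens := ⟨(f.base '' Z)ᶜ, hcl.isOpen_compl⟩
  let U : X.Opens := f ⁻¹ᵁ V
  haveI := GammaAcyclic.hasRpush (f ∣_ V)
  obtain ⟨a⟩ := nonempty_restrictD_rpush_iso f V
  have hE0 : IsZero ((DCoh.restrictD U.ι).obj E) := by
    refine isZero_of_hd _ fun j => ?_
    obtain ⟨e⟩ := exists_hd_restrict_iso U E j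
    refine IsZero.of_iso ?_ e
    refine H17.FPExt.isZero_of_stalk _ fun x => ?_
    let s := ((Scheme.Modules.restrictStalkNatIso U.ι x).app (DCoh.HD E j)).addCommGroupIsoToAddEquiv
    have : Subsingleton ((DCoh.HD E j).presheaf.stalk (U.ι.base x)) := by
      by_contra hc
      exact x.2 ⟨_, hE j hc, rfl⟩
    exact @Equiv.subsingleton _ _ s.toEquiv this
  letI := rpushCommShift (f ∣_ V)
  haveI := rpush_isTriangulated (f ∣_ V)
  have h0 : IsZero ((DCoh.restrictD V.ι).obj ((DCoh.Rpush f).obj E)) :=
    (Functor.map_isZero (DCoh.Rpush (f ∣_ V)) hE0).of_iso (a.app E)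
  obtain ⟨e⟩ := exists_hd_restrict_iso V ((DCoh.Rpush f).obj E) i
  have h1 := ((DerivedCategory.homologyFunctor _ i).map_isZero h0).of_iso e.symm
  have h2 := ((DerSch.stalkFunctor _ (⟨y, hyZ⟩ : V)).map_isZero h1)
  refine hy ?_
  let s := ((Scheme.Modules.restrictStalkNatIso V.ι (⟨y, hyZ⟩ : V)).app
    (DCoh.HD ((DCoh.Rpush f).obj E) i)).addCommGroupIsoToAddEquiv
  haveI := ModuleCat.subsingleton_of_isZero h2
  exact @Equiv.subsingleton _ _ s.symm.toEquiv (ModuleCat.subsingleton_of_isZero h2)

end Groth.Agent.S19620
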