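import Groth.Statements.S19621
import Groth.Agent.H16Derived.CofiniteLemmas
import Mathlib.Algebra.Order.BigOperators.Ring.Finset
import Mathlib.Data.Nat.Factorization.Induction

set_option autoImplicit false
universe v
open IndCof

namespace Groth.Agent.S19621

open CategoryTheory CategoryTheory.Limits Groth.Agent.H16Derived.Cofinite

open CategoryTheory CategoryTheory.Limits in
/-- Let C be a small abelian category all of whose objects are Artinian and killed by some positive
integer, and A an ind-object of C of cofinite type (A[n] is isomorphic to an object of C for every n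
≥ 1). Then the following are equivalent: (i) the inverse system of copies of A indexed by the
positive integers ordered by divisibility, with transition map from the m-th to the n-th copy
multiplication by m/n, is Mittag-Leffler (for every n the images of these maps in the n-th copy are
eventually constant): A is divisibly ML; (ii) A has a divisible sub-object B' (multiplication by
every positive integer is an epimorphism of B') such that A/B' is isomorphic to an object of C;
(iii) multiplication by p on A is an epimorphism for all but finitely many primes p. (The published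
statement phrases (ii) as: A modulo its divisible part lies in C, and (iii) as: the p-primary part
of A is divisible for almost all p; the divisible part is the largest divisible sub-object, and
multiplication by p on A is an epimorphism exactly when it is one on the p-primary part, the other
primary parts being uniquely p-divisible.) -/
theorem result {C : Type v} [SmallCategory C] [Abelian C]
    (hart : ∀ X : C, IsArtinianObject X)
    (htor : ∀ X : C, ∃ n : ℕ, 0 < n ∧ n • 𝟙 X = 0)
    (A : Ind C) (hA : ∀ n : ℕ, 0 < n → (Ind.yoneda (C := C)).essImage (kernel (n • 𝟙 A))) :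
    ((∀ n : ℕ, 0 < n → ∃ m : ℕ, 0 < m ∧ n ∣ m ∧ ∀ m' : ℕ, 0 < m' → m ∣ m' →
        imageSubobject ((m' / n) • 𝟙 A) = imageSubobject ((m / n) • 𝟙 A)) ↔
      ∃ B' : Subobject A, (∀ k : ℕ, 0 < k → Epi (k • 𝟙 (B' : Ind C))) ∧
        (Ind.yoneda (C := C)).essImage (cokernel B'.arrow)) ∧
    ((∃ B' : Subobject A, (∀ k : ℕ, 0 < k → Epi (k • 𝟙 (B' : Ind C))) ∧
        (Ind.yoneda (C := C)).essImage (cokernel B'.arrow)) ↔
      {p : ℕ | p.Prime ∧ ¬ Epi (p • 𝟙 A)}.Finite) := by
  have kill : ∀ (Q : Ind C), (Ind.yoneda (C := C)).essImage Q → ∃ M, 0 < M ∧ M • 𝟙 Q = 0 := by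
    intro Q hQ
    obtain ⟨X, ⟨e⟩⟩ := hQ
    obtain ⟨M, hM, hM'⟩ := htor X
    refine ⟨M, hM, ?_⟩
    have h1 := congrArg (fun f => e.inv ≫ Ind.yoneda.map f ≫ e.hom) hM'
    simpa [Functor.map_nsmul, Preadditive.nsmul_comp, Preadditive.comp_nsmul] using h1
  have h12 : (∀ n : ℕ, 0 < n → ∃ m : ℕ, 0 < m ∧ n ∣ m ∧ ∀ m' : ℕ, 0 < m' → m ∣ m' →
      imageSubobject ((m' / n) • 𝟙 A) = imageSubobject ((m / n) • 𝟙 A)) →
      ∃ B' : Subobject A, (∀ k : ℕ, 0 < k → Epi (k • 𝟙 (B' : Ind C))) ∧
        (Ind.yoneda (C := C)).essImage (cokernel B'.arrow) := by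
    intro h
    obtain ⟨m, hm, -, hm'⟩ := h 1 one_pos
    refine ⟨img m A, fun k hk => epi_nsmul_img m k ?_, ?_⟩
    · have h2 := hm' (m * k) (Nat.mul_pos hm hk) (dvd_mul_right _ _)
      simp only [Nat.div_one] at h2
      exact h2.ge
    · have h2 := cokernel_mem (hyp_of_torsion hart htor m) (A := A)
        (fun k => hA _ (pow_pos hm k)) 1
      simp only [pow_one] at h2
      refine Functor.essImage.ofIso ?_ h2
      exact cokernelIsoOfEq (imageSubobject_arrow_comp _).symm ≪≫ cokernelEpiComp _ _
  have h23 : (∃ B' : Subobject A, (∀ k : ℕ, 0 < k → Epi (k • 𝟙 (B' : Ind C))) ∧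
      (Ind.yoneda (C := C)).essImage (cokernel B'.arrow)) →
      {p : ℕ | p.Prime ∧ ¬ Epi (p • 𝟙 A)}.Finite := by
    rintro ⟨B', hB', hQ⟩
    obtain ⟨M, hM, hM'⟩ := kill _ hQ
    refine (Set.finite_le_nat M).subset ?_
    rintro p ⟨hp, hne⟩
    refine Nat.le_of_dvd hM (by_contra fun hpM => hne ?_)
    rw [epi_nsmul_iff]
    intro T x
    obtain ⟨s, t, hst⟩ : IsCoprime (p : ℤ) (M : ℤ) :=
      Nat.Coprime.isCoprime ((Nat.Prime.coprime_iff_not_dvd hp).2 hpM)
    have hMx : B'.Factors (M • x) := by
      have h1 : (M • x) ≫ cokernel.π B'.arrow = 0 := by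
        rw [Preadditive.nsmul_comp, ← Category.comp_id (cokernel.π B'.arrow),
          ← Preadditive.comp_nsmul, ← Preadditive.comp_nsmul, hM', comp_zero, comp_zero]
      have h2 := factors_of_comp_cokernelπ B'.arrow h1
      rwa [imageSubobject_mono, Subobject.mk_arrow] at h2
    obtain ⟨T', π, hπ, z, -, hz⟩ := (epi_nsmul_subobject_iff p B').1 (hB' p hp.pos) _ hMx
    refine ⟨T', π, hπ, s • (π ≫ x) + t • z, ?_⟩
    rw [smul_add, smul_comm, smul_comm p t, ← hz, Preadditive.comp_nsmul, ← natCast_zsmul,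
      ← natCast_zsmul (π ≫ x) M, smul_smul, smul_smul, ← add_smul, hst, one_smul]
  have h31 : {p : ℕ | p.Prime ∧ ¬ Epi (p • 𝟙 A)}.Finite →
      (∀ n : ℕ, 0 < n → ∃ m : ℕ, 0 < m ∧ n ∣ m ∧ ∀ m' : ℕ, 0 < m' → m ∣ m' →
        imageSubobject ((m' / n) • 𝟙 A) = imageSubobject ((m / n) • 𝟙 A)) := by
    intro hfin
    let n0 : ℕ := ∏ p ∈ hfin.toFinset, p
    have hn0 : 0 < n0 := Finset.prod_pos fun p hp => by
      rw [Set.Finite.mem_toFinset] at hp
      exact hp.1.pos
    obtain ⟨N, hN⟩ := stabilize (hyp_of_torsion hart htor n0) (A := A)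
      (fun k => hA _ (pow_pos hn0 k))
    have hP : ∀ k : ℕ, 0 < k → Epi (k • 𝟙 ((img (n0 ^ N) A : Subobject A) : Ind C)) := by
      intro k
      induction k using Nat.recOnMul with
      | zero => simp
      | one => intro _; rw [one_smul]; infer_instance
      | mul a b iha ihb =>
        intro hab
        have := iha (Nat.pos_of_mul_pos_right hab)
        have := ihb (Nat.pos_of_mul_pos_left hab)
        rw [show (a * b) • 𝟙 ((img (n0 ^ N) A : Subobject A) : Ind C) =
          (a • 𝟙 _) ≫ (b • 𝟙 _) by simp [Preadditive.comp_nsmul, smul_smul, mul_comm]]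
        infer_instance
      | prime p hp =>
        intro _
        by_cases hpe : Epi (p • 𝟙 A)
        · rw [epi_nsmul_subobject_iff]
          intro T x hx
          obtain ⟨T', π, hπ, z, hz⟩ := (img_factors_iff _ _).1 hx
          obtain ⟨T'', ρ, hρ, w, hw⟩ := (epi_nsmul_iff p).1 hpe z
          exact ⟨T'', ρ ≫ π, inferInstance, (n0 ^ N) • w, img_smul _ _, by
            rw [Category.assoc, hz, Preadditive.comp_nsmul, hw, smul_comm]⟩
        · have hd : p ∣ n0 := Finset.dvd_prod_of_mem _
            ((Set.Finite.mem_toFinset hfin).2 ⟨hp, hpe⟩)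
          obtain ⟨c, hc⟩ := hd
          refine epi_nsmul_img _ p ((hN (N + 1) (by lia)).ge.trans ?_)
          rw [pow_succ, hc, ← mul_assoc]
          exact img_mul_le _ _
    intro n hn
    refine ⟨n * n0 ^ N, Nat.mul_pos hn (pow_pos hn0 N), dvd_mul_right _ _, fun m' hm' hdvd => ?_⟩
    obtain ⟨t, rfl⟩ := hdvd
    have := hP t (Nat.pos_of_mul_pos_left hm')
    rw [mul_assoc, Nat.mul_div_cancel_left _ hn, Nat.mul_div_cancel_left _ hn]
    exact le_antisymm (img_mul_le _ _) (img_le_of_epi _ _)
  exact ⟨⟨h12, fun h => h31 (h23 h)⟩, ⟨h23, fun h => h12 (h31 h)⟩⟩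

end Groth.Agent.S19621
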