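import Groth.Statements.S19622
import Groth.Agent.H16Derived.CofiniteLemmas
import Mathlib.CategoryTheory.Abelian.GrothendieckAxioms.Indization
import Mathlib.CategoryTheory.Abelian.GrothendieckCategory.Basic

set_option autoImplicit false
universe v
open IndCof

namespace Groth.Agent.S19622

open CategoryTheory CategoryTheory.Limits Groth.Agent.H16Derived.Cofinite
open Groth.Agent.H16Derived.SubLattice

open CategoryTheory CategoryTheory.Limits in
/-- Let C be a small abelian category all of whose objects are Artinian and killed by some positive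
integer, and A an ind-object of C of cofinite type (A[n] is isomorphic to an object of C for every n
≥ 1). Then A has a largest divisible sub-object D — multiplication by every positive integer is an
epimorphism of D, and D contains every sub-object of A with this property — and both D and A/D are
of cofinite type, so that 0 → D → A → A/D → 0 is an exact sequence of ind-objects of cofinite type.
(The published statement also describes A/D as the largest quotient of A all of whose primary parts
lie in C; that clause is not included here.) -/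
theorem result {C : Type v} [SmallCategory C] [Abelian C]
    (hart : ∀ X : C, IsArtinianObject X)
    (htor : ∀ X : C, ∃ n : ℕ, 0 < n ∧ n • 𝟙 X = 0)
    (A : Ind C) (hA : ∀ n : ℕ, 0 < n → (Ind.yoneda (C := C)).essImage (kernel (n • 𝟙 A))) :
    ∃ D : Subobject A, (∀ k : ℕ, 0 < k → Epi (k • 𝟙 (D : Ind C))) ∧
      (∀ D' : Subobject A, (∀ k : ℕ, 0 < k → Epi (k • 𝟙 (D' : Ind C))) → D' ≤ D) ∧
      (∀ n : ℕ, 0 < n → (Ind.yoneda (C := C)).essImage (kernel (n • 𝟙 (D : Ind C)))) ∧
      (∀ n : ℕ, 0 < n → (Ind.yoneda (C := C)).essImage (kernel (n • 𝟙 (cokernel D.arrow)))) := by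
  let ι := Shrink.{v} {U : Subobject A // ∀ k : ℕ, 0 < k → Epi (k • 𝟙 (U : Ind C))}
  let U : ι → Subobject A := fun i => ((equivShrink _).symm i).1
  let σ : (∐ fun i => (U i : Ind C)) ⟶ A := Sigma.desc fun i => (U i).arrow
  let D : Subobject A := imageSubobject σ
  have hdiv : ∀ k : ℕ, 0 < k → Epi (k • 𝟙 (D : Ind C)) := fun k hk => by
    suffices h0 : cokernel.π (k • 𝟙 (D : Ind C)) = 0 from Preadditive.epi_of_cokernel_zero h0
    rw [← cancel_epi (factorThruImageSubobject σ), comp_zero]
    refine Sigma.hom_ext _ _ fun i => ?_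
    have := ((equivShrink _).symm i).2 k hk
    rw [comp_zero]
    refine (cancel_epi (k • 𝟙 (U i : Ind C))).1 ?_
    rw [comp_zero, Preadditive.nsmul_comp, Category.id_comp, ← Preadditive.comp_nsmul,
      ← Preadditive.comp_nsmul]
    have h1 := cokernel.condition (k • 𝟙 (D : Ind C))
    rw [Preadditive.nsmul_comp, Category.id_comp] at h1
    rw [h1, comp_zero, comp_zero]
  have hmax : ∀ D' : Subobject A, (∀ k : ℕ, 0 < k → Epi (k • 𝟙 (D' : Ind C))) → D' ≤ D := by
    intro D' hD'
    refine le_of_forall fun T x hx => ?_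
    obtain ⟨i, hi⟩ : ∃ i, U i = D' := ⟨equivShrink _ ⟨D', hD'⟩, by simp [U]⟩
    subst hi
    rw [← Subobject.factorThru_arrow _ x hx]
    refine (imageSubobject_factors_iff _ _).2
      ⟨T, 𝟙 T, inferInstance, (U i).factorThru x hx ≫ Sigma.ι (fun i => (U i : Ind C)) i, ?_⟩
    simp [σ]
  have htor' : ∀ n : ℕ, 0 < n → (Ind.yoneda (C := C)).essImage (kernel (n • 𝟙 (D : Ind C))) := by
    intro n hn
    have h := hyp_of_torsion hart htor n
    have hA' : IsCof (Ind.yoneda (C := C)) n A := fun k => hA _ (pow_pos hn k)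
    obtain ⟨N, hN⟩ := stabilize h hA'
    have hI : Epi (n • 𝟙 ((img (n ^ N) A : Subobject A) : Ind C)) := epi_nsmul_img _ n (by
      rw [← pow_succ]; exact (hN _ (by lia)).ge)
    obtain ⟨E, -, hEd, hEt⟩ := exists_divisible_of_img (img (n ^ N) A) hI
    have hDI : D ≤ img (n ^ N) A := le_img_of_epi D _ (hdiv _ (pow_pos hn N))
    have hI' := isCof_imageSubobject h hA' hA' ((n ^ N) • 𝟙 A) 1
    simp only [pow_one] at hI'
    let a : kernel (n • 𝟙 (D : Ind C)) ⟶ kernel (n • 𝟙 ((img (n ^ N) A : Subobject A) : Ind C)) :=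
      mapTor n (Subobject.ofLE _ _ hDI)
    have hxD : D.Factors (kernel.ι (n • 𝟙 ((img (n ^ N) A : Subobject A) : Ind C)) ≫
        (img (n ^ N) A).arrow) := Subobject.factors_of_le _ (hmax E hEd) (hEt _
      (by rw [← Preadditive.nsmul_comp, kernel_nsmul_ι, zero_comp])
      (Subobject.factors_comp_arrow _))
    let b : kernel (n • 𝟙 ((img (n ^ N) A : Subobject A) : Ind C)) ⟶ kernel (n • 𝟙 (D : Ind C)) :=
      liftTor n (D.factorThru _ hxD) (by
        rw [← cancel_mono D.arrow, Preadditive.nsmul_comp, Subobject.factorThru_arrow,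
          ← Preadditive.nsmul_comp, kernel_nsmul_ι, zero_comp, zero_comp])
    refine Functor.essImage.ofIso ⟨b, a, ?_, ?_⟩ hI'
    · rw [← cancel_mono (kernel.ι _), ← cancel_mono (img (n ^ N) A).arrow]
      simp [a, b]
    · rw [← cancel_mono (kernel.ι _), ← cancel_mono D.arrow]
      simp [a, b]
  refine ⟨D, hdiv, hmax, htor', fun n hn => ?_⟩
  have h := isCof_cokernel_of_mono (hyp_of_torsion hart htor n)
    (fun k => htor' _ (pow_pos hn k)) (fun k => hA _ (pow_pos hn k)) D.arrow 1
  simpa only [pow_one] using h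

end Groth.Agent.S19622
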