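import Groth.Statements.S19624
import Groth.Agent.H22Alg.DetLengthGeneral
import Mathlib.RingTheory.DiscreteValuationRing.Basic
import Mathlib.LinearAlgebra.Basis.Basic

set_option autoImplicit false
universe u v
open IntTh

namespace Groth.Agent.S19624

/-- Let B be a discrete valuation ring with its normalised additive valuation v (so v(0) = ∞) and ω a
ring automorphism of B. For each i in a finite index set let M_i and N_i be free B-modules with
chosen bases indexed by one and the same finite type, and χ_i : M_i → N_i an additive map which is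
ω-semilinear, χ_i(b·x) = ω(b)·χ_i(x); write A_i for the matrix of χ_i in the chosen bases. Then the
length over B of the cokernel of the direct sum χ = ⊕_i χ_i : ⊕_i M_i → ⊕_i N_i (the quotient of ⊕_i
N_i by the submodule generated by the image of χ) equals v(∏_i det A_i); in particular both sides
are infinite exactly when some det A_i is zero. -/
theorem result {B : Type u} [CommRing B] [IsDomain B]
    [IsDiscreteValuationRing B] (ω : B ≃+* B) {n : ℕ} (r : Fin n → ℕ)
    (M N : Fin n → Type v) [∀ i, AddCommGroup (M i)] [∀ i, Module B (M i)]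
    [∀ i, AddCommGroup (N i)] [∀ i, Module B (N i)]
    (bM : ∀ i, Module.Basis (Fin (r i)) B (M i)) (bN : ∀ i, Module.Basis (Fin (r i)) B (N i))
    (χ : ∀ i, M i →+ N i) (hχ : ∀ i (b : B) (x : M i), χ i (b • x) = ω b • χ i x) :
    Module.length B ((∀ i, N i) ⧸ Submodule.span B (Set.range (fun (x : ∀ i, M i) (i : Fin n) => χ i (x i)))) =
      IsDiscreteValuationRing.addVal B (∏ i, Matrix.det
        (Matrix.of fun (a c : Fin (r i)) => (bN i).repr (χ i (bM i c)) a)) := by
  have hord : ∀ x : B, Ring.ord B x = IsDiscreteValuationRing.addVal B x := by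
    intro x
    obtain ⟨ϖ, hϖ⟩ := IsDiscreteValuationRing.exists_irreducible B
    by_cases hx : x = 0
    · subst hx
      rw [IsDiscreteValuationRing.addVal_zero, Ring.ord, Ideal.span_singleton_eq_bot.mpr rfl]
      by_contra h
      have hart := (isFiniteLength_iff_isNoetherian_isArtinian.mp (Module.length_ne_top_iff.mp h)).2
      have : IsArtinianRing B := isArtinian_of_linearEquiv (Submodule.quotEquivOfEqBot (⊥ : Submodule B B) rfl)
      exact IsDiscreteValuationRing.not_isField B (IsArtinianRing.isField_of_isDomain B)
    obtain ⟨k, u, rfl⟩ := IsDiscreteValuationRing.eq_unit_mul_pow_irreducible hx hϖ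
    rw [Ring.ord_mul_of_isUnit_left u.isUnit, Ring.ord_pow (mem_nonZeroDivisors_of_ne_zero hϖ.ne_zero),
      AddValuation.map_mul, IsDiscreteValuationRing.addVal_eq_zero_of_unit, zero_add, hϖ.addVal_pow]
    have : Ring.ord B ϖ = 1 := by
      rw [Ring.ord, Module.length_eq_one_iff, isSimpleModule_iff_isCoatom, ← Ideal.isMaximal_def]
      exact hϖ.maximalIdeal_eq ▸ IsLocalRing.maximalIdeal.isMaximal B
    simp [this]
  set A : ∀ i, Matrix (Fin (r i)) (Fin (r i)) B :=
    fun i => Matrix.of fun (a c : Fin (r i)) => (bN i).repr (χ i (bM i c)) a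
  have hmem : ∀ (i : Fin n) (w : N i), w ∈ Set.range (χ i) ↔
      (fun a => (bN i).repr w a) ∈ LinearMap.range (A i).mulVecLin := by
    intro i w
    constructor
    · rintro ⟨x, rfl⟩
      refine ⟨fun c => ω ((bM i).repr x c), ?_⟩
      funext a
      have e : χ i x = ∑ c, ω ((bM i).repr x c) • χ i (bM i c) := by
        conv_lhs => rw [← (bM i).sum_repr x]
        simp only [map_sum, hχ]
      simp [A, Matrix.mulVec, dotProduct, e, mul_comm]
    · rintro ⟨v, hv⟩
      refine ⟨∑ c, ω.symm (v c) • bM i c, (bN i).repr.injective (Finsupp.ext fun a => ?_)⟩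
      rw [← congrFun hv a]
      simp [A, Matrix.mulVec, dotProduct, map_sum, hχ, mul_comm]
  have hspan : Submodule.span B (Set.range (fun (x : ∀ i, M i) (i : Fin n) => χ i (x i))) =
      Submodule.pi Set.univ (fun i => (LinearMap.range (A i).mulVecLin).comap (bN i).equivFun.toLinearMap) := by
    apply le_antisymm
    · rw [Submodule.span_le]
      rintro _ ⟨x, rfl⟩ i _
      exact (hmem i _).mp ⟨x i, rfl⟩
    · intro w hw
      choose x hx using fun i => (hmem i (w i)).mpr (hw i (Set.mem_univ i))
      exact Submodule.subset_span ⟨x, funext hx⟩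
  have hlen : ∀ i, Module.length B (N i ⧸ (LinearMap.range (A i).mulVecLin).comap (bN i).equivFun.toLinearMap) =
      IsDiscreteValuationRing.addVal B (A i).det := by
    intro i
    rw [LinearEquiv.length_eq (Submodule.Quotient.equiv _ (LinearMap.range (A i).mulVecLin) (bN i).equivFun
      (Submodule.map_comap_eq_of_surjective (bN i).equivFun.surjective _))]
    by_cases hd : (A i).det = 0
    · rw [hd, IsDiscreteValuationRing.addVal_zero]
      by_contra h
      apply Groth.Agent.H22Alg.isFiniteLength_quotient_det (A i) h
      rw [hd, hord, IsDiscreteValuationRing.addVal_zero]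
    · rw [← hord]
      exact Groth.Agent.H22Alg.cokerLength_eq_ord_det _ (mem_nonZeroDivisors_of_ne_zero hd)
  rw [hspan, LinearEquiv.length_eq (Submodule.quotientPi _), Module.length_pi_of_fintype,
    Finset.sum_congr rfl (fun i _ => hlen i)]
  induction (Finset.univ : Finset (Fin n)) using Finset.induction_on with
  | empty => simp
  | insert a s ha ih => rw [Finset.sum_insert ha, Finset.prod_insert ha, AddValuation.map_mul, ih]

end Groth.Agent.S19624
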