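import Groth.Statements.S19625
import Groth.Agent.H28Int.Divisor
import Groth.Agent.H27Weil.Geometry
import Groth.Agent.H11Sym.InvertibleInverse

set_option autoImplicit false
universe u
set_option linter.style.haveILetI false
set_option backward.isDefEq.respectTransparency.types false
open CategoryTheory CategoryTheory.Limits AlgebraicGeometry
open Surf

namespace Groth.Agent.S19625

/-- Let k be a field and S an integral surface (dimension two) which is smooth over k and projective (a
closed immersion into some P^n_k over k). Let i : C → S be the closed immersion of an integral curve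
(dimension one) all of whose local rings are regular, with ideal sheaf I ⊆ O_S, and let N =
Hom(i^*I, O_C) be the normal sheaf of C in S, the dual of the conormal sheaf i^*I (the sheaf Hom,
assumed to exist as the right adjoint of tensoring with i^*I). Then the self-intersection number
C·C, namely the intersection number of O_S(C) with itself computed as the alternating sum χ(O_S) −
2χ(I) + χ(I ⊗ I) with the inverse I = O_S(−C) of O_S(C) (packaged as FGA.intNum), equals the degree
of N on C, the degree of a module M on C being χ(M) − χ(O_C). -/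
theorem result (k : Type u) [Field k] (S : Scheme.{u}) [S.Over (Spec (CommRingCat.of k))]
    [IsIntegral S] (hdim : topologicalKrullDim S = 2) [Smooth (S ↘ (Spec (CommRingCat.of k)))]
    (hproj : ∃ (n : ℕ) (ι : S ⟶ CohB1.ProjSpace n k), IsClosedImmersion ι ∧ ι ≫ CohB1.ProjSpace.toSpec n k = (S ↘ (Spec (CommRingCat.of k))))
    (C : Scheme.{u}) (i : C ⟶ S) [IsClosedImmersion i] [IsIntegral C] (hC : topologicalKrullDim C = 1)
    (hCreg : ∀ c : C, IsRegularLocalRing (C.presheaf.stalk c))
    [DCoh.HasSheafHom (Omega.conormal i)] :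
    letI : C.Over (Spec (CommRingCat.of k)) := ⟨i ≫ (S ↘ (Spec (CommRingCat.of k)))⟩
    FGA.intNum k S 2 ![ClSub.idealMod i.ker, ClSub.idealMod i.ker] (Coh.structureModule S) =
      Curv2.deg k C ((DCoh.sheafHom (Omega.conormal i)).obj (Coh.structureModule C)) 1 := by
  letI : C.Over (Spec (CommRingCat.of k)) := ⟨i ≫ (S ↘ (Spec (CommRingCat.of k)))⟩
  haveI : IsProper (S ↘ (Spec (CommRingCat.of k))) := by
    obtain ⟨n, ι, hι, hιS⟩ := hproj
    haveI := hι
    exact hιS ▸ inferInstanceAs (IsProper (ι ≫ CohB1.ProjSpace.toSpec n k))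
  haveI : IsProper (C ↘ (Spec (CommRingCat.of k))) :=
    inferInstanceAs (IsProper (i ≫ (S ↘ (Spec (CommRingCat.of k)))))
  have hI := H28Int.isInvertible_idealMod_curve k hdim i hC
  obtain ⟨L, hL, ⟨e₀⟩⟩ := H11Sym.exists_inverse hI
  let e : CohB1.tensorMod L (ClSub.idealMod i.ker) ≅ Coh.structureModule S := e₀
  rw [H28Int.intNum_curve k hdim i rfl hI hC hL hI e]
  let F := Scheme.Modules.pullback i
  obtain ⟨d⟩ := H28Int.nonempty_sheafHom_iso_inverse (M := Omega.conormal i) (M' := F.obj L)
    (((H16Derived.KFlat.Stalk.pullTensorLIso i L).app (ClSub.idealMod i.ker)).symm ≪≫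
      F.mapIso (H10Coh.Tw.commIso _ _ ≪≫ e₀) ≪≫ H16Derived.KFlat.Stalk.structurePullbackIso i)
  show Curv2.euler k C _ - _ = Curv2.euler k C _ - _
  rw [H25Euler.euler_congr d]

end Groth.Agent.S19625
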