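import Groth.Statements.S19627
import Groth.Agent.H27LogComp.Global

set_option autoImplicit false
universe u
open LogNCD

namespace Groth.Agent.S19627

open CategoryTheory AlgebraicGeometry Opposite TopologicalSpace in
/-- Let k be a field of characteristic zero, X̄ a smooth variety over k (here: smooth, separated and
quasi-compact over k), D = D_1 + ⋯ + D_r a simple normal crossings divisor on X̄ and U = X̄ ∖ D. Let
(Ω', d) be a universal receptacle for the differentials of X̄ over k, Ω¹(log D) the pinned module of
differentials with logarithmic poles along D with its residues, and K a de Rham complex for the log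
receptacle, i.e. the complex Ω•_X̄⟨D⟩ of differentials with log poles. Then for every integer n the
restriction map H^n(X̄, K) → H^n(U, K|_U) on hypercohomology is bijective; since K restricted to U
is the de Rham complex of U, this says that the hypercohomology of the log complex is the algebraic
de Rham cohomology H^n_dR(U/k), the isomorphism being induced by the inclusion of the log complex in
the direct image of the de Rham complex of U. (The published statement takes X̄ projective; this row
assumes only that X̄ is smooth, separated and quasi-compact over k.) -/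
theorem result (k : Type u) [Field k] [CharZero k]
    (X : Scheme.{u}) (f : X ⟶ Spec (CommRingCat.of k)) [Smooth f] [IsSeparated f] [QuasiCompact f]
    {Ω' : X.Modules} (d : OmegaSh.Der f Ω') (hd : OmegaSh.IsUniversal d)
    {r : ℕ} (D : Fin r → X.IdealSheafData) (hD : LogNCD.IsNCD D f) (Λ : LogNCD.LogMod d D)
    (K : DeRhamSh.Cx f Λ.L (LogNCD.der Λ))
    [HasDerivedCategory.{u} (Sheaf (Opens.grothendieckTopology ↥X) AddCommGrpCat.{u})]
    (U : X.Opens) (hU : (U : Set ↥X) = (⋃ i, ((D i).support : Set ↥X))ᶜ) (n : ℤ) :
    Function.Bijective
      (CohCx.HDUres (DerivedCategory.Q.obj K.KZ) n (homOfLE (le_top : U ≤ ⊤))) := by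
  classical
  haveI : X.IsSeparated := ⟨by
    rw [← CategoryTheory.Limits.terminal.comp_from f]
    infer_instance⟩
  haveI : CompactSpace X := QuasiCompact.compactSpace_of_compactSpace f
  have hunit : ∀ (W : X.Opens) (m : ℕ), m ≠ 0 → IsUnit (m : Γ(X, W)) := fun W m hm => by
    have h := (isUnit_iff_ne_zero.2 (Nat.cast_ne_zero.2 hm) : IsUnit (m : k)).map
      ((f.appLE ⊤ W (by simp)).hom.comp (Scheme.ΓSpecIso (CommRingCat.of k)).inv.hom)
    simpa using h
  rcases isEmpty_or_nonempty X with hX | hX
  · obtain rfl : U = ⊤ := TopologicalSpace.Opens.ext (Set.ext fun x => (hX.false x).elim)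
    have h : CohCx.HDUres (DerivedCategory.Q.obj K.KZ) n (homOfLE (le_top : (⊤ : X.Opens) ≤ ⊤)) = AddMonoidHom.id _ := by
      refine AddMonoidHom.ext fun z => ?_
      show (DerivedCategory.singleFunctor _ 0).map (CohCx.freeSheafMap _ (𝟙 (⊤ : X.Opens))) ≫ z = z
      simp [CohCx.freeSheafMap]
    rw [h]
    exact Function.bijective_id
  · have key : ∀ (W : X.Opens) (h : W ≤ ⊤), W = ⊤ ⊓ U →
        Function.Bijective (CohCx.HDUres (DerivedCategory.Q.obj K.KZ) n (homOfLE h)) := by
      rintro W h rfl
      exact Groth.Agent.H27LogComp.resBij_top K hd hunit hD U hU n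
    exact key U le_top (top_inf_eq U).symm

end Groth.Agent.S19627
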