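import Groth.Statements.S19628
import Groth.Agent.H27DR.Basic
import Groth.Agent.S15295
import Mathlib

set_option autoImplicit false
universe u
open DeRham

namespace Groth.Agent.S19628

open exteriorPower in
/-- In the affine case, at ring level, let k ⊆ K be an extension of fields of characteristic zero, A a
smooth k-algebra and A' = K ⊗_k A (a pushout square of commutative rings with the scalar-tower
conventions). Let d be the de Rham differential of A over k, d' that of A' over K, and ψ the map of
de Rham complexes induced by A → A', assumed compatible with d and d'. Then for every p the K-span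
of ψ(closed p-forms of A/k) is the module of closed p-forms of A'/K, and the K-span of ψ(exact
p-forms of A/k) is the module of exact p-forms of A'/K. Together with the degreewise base-change
bijection for exterior powers of differentials, this says that the natural map H^p_dR(A/k) ⊗_k K →
H^p_dR(A'/K) is an isomorphism. (The source states the isomorphism H^i_dR(X) ⊗_k K ≅ H^i_dR(X_K) for
a smooth variety X, induced by a quasi-isomorphism of complexes; this row is the case of an affine
X, phrased through closed and exact forms.) -/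
theorem result
    (k K : Type u) [Field k] [Field K] [CharZero k] [Algebra k K]
    (A A' : Type u) [CommRing A] [CommRing A'] [Algebra k A] [Algebra.Smooth k A]
    [Algebra A A'] [Algebra k A'] [IsScalarTower k A A'] [Algebra K A'] [IsScalarTower k K A']
    [Algebra.IsPushout k K A A']
    (d : ∀ p : ℕ, ↥(⋀[A]^p (Ω[A⁄k])) →ₗ[k] ↥(⋀[A]^(p + 1) (Ω[A⁄k])))
    (hd : DeRham.IsDiff (KaehlerDifferential.D k A) d)
    (d' : ∀ p : ℕ, ↥(⋀[A']^p (Ω[A'⁄K])) →ₗ[K] ↥(⋀[A']^(p + 1) (Ω[A'⁄K])))
    (hd' : DeRham.IsDiff (KaehlerDifferential.D K A') d')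
    (ψ : ∀ p : ℕ, ↥(⋀[A]^p (Ω[A⁄k])) →+ ↥(⋀[A']^p (Ω[A'⁄K])))
    (hψ : DeRham.IsCxMap (KaehlerDifferential.D k A) (KaehlerDifferential.D K A') (algebraMap A A') ψ)
    (hcomm : ∀ (p : ℕ) (x : ↥(⋀[A]^p (Ω[A⁄k]))), ψ (p + 1) (d p x) = d' p (ψ p x))
    (p : ℕ) :
    Submodule.span K (ψ p '' (DeRham.cocycles d p : Set ↥(⋀[A]^p (Ω[A⁄k])))) = DeRham.cocycles d' p ∧
      Submodule.span K (ψ p '' (DeRham.coboundaries d p : Set ↥(⋀[A]^p (Ω[A⁄k])))) =
        DeRham.coboundaries d' p := by
  have hψs : ∀ (q : ℕ) (r : k) (x : ↥(⋀[A]^q (Ω[A⁄k]))), ψ q (r • x) = algebraMap k K r • ψ q x := by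
    intro q r x
    refine Groth.Agent.H27DR.gen_induction _ (KaehlerDifferential.span_range_derivation k A) q
      (P := fun x => ψ q (r • x) = algebraMap k K r • ψ q x) ?_ (by simp)
      (fun a b ha hb => by rw [smul_add, map_add, map_add, smul_add, ha, hb]) x
    intro b₀ b
    have : r • DeRham.gen (KaehlerDifferential.D k A) q b₀ b =
        DeRham.gen (KaehlerDifferential.D k A) q (r • b₀) b := by
      simp only [DeRham.gen, smul_assoc]
    rw [this, hψ, hψ]
    simp only [DeRham.gen, Algebra.smul_def r b₀, map_mul, mul_smul]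
    rw [← IsScalarTower.algebraMap_apply, IsScalarTower.algebraMap_apply k K A',
      IsScalarTower.algebraMap_smul]
  let Φ : ∀ q, TensorProduct k K ↥(⋀[A]^q (Ω[A⁄k])) →+ ↥(⋀[A']^q (Ω[A'⁄K])) := fun q =>
    TensorProduct.liftAddHom
      (AddMonoidHom.mk' (fun s : K => AddMonoidHom.mk' (fun x => s • ψ q x)
        (fun a b => by rw [map_add, smul_add]))
        (fun s t => AddMonoidHom.ext fun x => add_smul s t _))
      (fun r s x => by
        show (r • s) • ψ q x = s • ψ q (r • x)
        rw [hψs, Algebra.smul_def, mul_comm, mul_smul])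
  have hΦ : ∀ q (s : K) x, Φ q (TensorProduct.tmul k s x) = s • ψ q x := fun q s x => rfl
  have hbij : ∀ q, Function.Bijective (Φ q) := fun q =>
    Groth.Agent.S15295.result k K A A' ψ hψ q (Φ q) (hΦ q)
  have hdΦ : ∀ q (z : TensorProduct k K ↥(⋀[A]^q (Ω[A⁄k]))),
      d' q (Φ q z) = Φ (q + 1) ((d q).lTensor K z) := by
    intro q z
    induction z using TensorProduct.induction_on with
    | zero => simp
    | add a b ha hb => simp only [map_add, ha, hb]
    | tmul s x => rw [hΦ, LinearMap.lTensor_tmul, hΦ, map_smul, hcomm]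
  have hspan : ∀ q (W : Submodule k ↥(⋀[A]^q (Ω[A⁄k]))) (z : TensorProduct k K W),
      Φ q (W.subtype.lTensor K z) ∈ Submodule.span K (ψ q '' (W : Set _)) := by
    intro q W z
    induction z using TensorProduct.induction_on with
    | zero => simp
    | add a b ha hb => simp only [map_add]; exact add_mem ha hb
    | tmul s x =>
      rw [LinearMap.lTensor_tmul, hΦ]
      exact Submodule.smul_mem _ _ (Submodule.subset_span ⟨x, x.2, rfl⟩)
  constructor
  · refine le_antisymm (Submodule.span_le.mpr ?_) fun y hy => ?_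
    · rintro _ ⟨x, hx, rfl⟩
      show d' p (ψ p x) = 0
      rw [← hcomm, show d p x = 0 from hx, map_zero]
    · obtain ⟨z, rfl⟩ := (hbij p).2 y
      have h0 : (d p).lTensor K z = 0 := by
        apply (hbij (p + 1)).1
        rw [← hdΦ, map_zero]
        exact hy
      obtain ⟨w, rfl⟩ := ((Module.Flat.lTensor_exact (N := ↥(LinearMap.ker (d p))) (N' := ↥(⋀[A]^p (Ω[A⁄k])))
        (N'' := ↥(⋀[A]^(p + 1) (Ω[A⁄k]))) (f := (LinearMap.ker (d p)).subtype) (g := d p) K
        (LinearMap.exact_subtype_ker_map (d p))) z).mp h0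
      exact hspan p (LinearMap.ker (d p)) w
  · cases p with
    | zero => simp [DeRham.coboundaries]
    | succ q =>
      refine le_antisymm (Submodule.span_le.mpr ?_) fun y hy => ?_
      · rintro _ ⟨x, ⟨u, rfl⟩, rfl⟩
        exact ⟨ψ q u, (hcomm q u).symm⟩
      · obtain ⟨v, rfl⟩ := hy
        obtain ⟨z, rfl⟩ := (hbij q).2 v
        rw [hdΦ]
        have h1 : (d q).lTensor K z =
            (LinearMap.range (d q)).subtype.lTensor K ((d q).rangeRestrict.lTensor K z) := by
          rw [← LinearMap.lTensor_comp_apply, show (LinearMap.range (d q)).subtype ∘ₗ (d q).rangeRestrict = d q from LinearMap.ext fun _ => rfl]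
        rw [h1]
        exact hspan (q + 1) (LinearMap.range (d q)) _

end Groth.Agent.S19628
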