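import Groth.Statements.S19629
import Mathlib

set_option autoImplicit false
universe u
open DeRham

namespace Groth.Agent.S19629

open exteriorPower in
/-- In the chart case reached in its proof, let k be a field of characteristic zero and A a smooth
k-algebra carrying functions t_1, …, t_d whose differentials form a basis of Ω_{A/k} (a global
system of étale coordinates on X = Spec A), and let D_1, …, D_n be the coordinate hyperplanes
t_{e(1)} = 0, …, t_{e(n)} = 0 for an injection e, so that D = D_1 ∪ ⋯ ∪ D_n is a simple normal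
crossings divisor. For I ⊆ {1, …, n} write A_I = A/(t_{e(i)} : i ∈ I) for the coordinate ring of D_I
= ⋂_{i ∈ I} D_i, and let ψ_{I,J} (I ⊆ J) be the maps of de Rham complexes induced by the surjections
A_I → A_J. Then whenever s + 1 + m = d, the Čech differential ∏_{|I| = s} Ω^m_{A_I/k} → ∏_{|J| =
s+1} Ω^m_{A_J/k}, (ω_I) ↦ (Σ_{j ∈ J} ± ψ_{J∖j,J}(ω_{J∖j}))_J with the usual alternating signs, is
surjective; for s = 0 this is the surjectivity of Ω^{d-1}(X) → ⊕_i Ω^{d-1}(D_i). (The source states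
the surjectivity for a smooth affine variety X of dimension d with a simple normal crossings divisor
and reduces to this chart case étale-locally; here A_∅ is A/0 rather than A.) -/
theorem result
    (k : Type u) [Field k] [CharZero k] (A : Type u) [CommRing A] [Algebra k A] [Algebra.Smooth k A]
    (d n : ℕ) (t : Fin d → A) (e : Fin n ↪ Fin d)
    (b : Module.Basis (Fin d) A (Ω[A⁄k])) (hb : ∀ i, b i = KaehlerDifferential.D k A (t i))
    (ψ : ∀ (I J : Finset (Fin n)) (p : ℕ), ↥(⋀[(A ⧸ (⨆ i ∈ I, Ideal.span {t (e i)} : Ideal A))]^p (Ω[(A ⧸ (⨆ i ∈ I, Ideal.span {t (e i)} : Ideal A))⁄k])) →+ ↥(⋀[(A ⧸ (⨆ i ∈ J, Ideal.span {t (e i)} : Ideal A))]^p (Ω[(A ⧸ (⨆ i ∈ J, Ideal.span {t (e i)} : Ideal A))⁄k])))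
    (hψ : ∀ (I J : Finset (Fin n)) (h : I ⊆ J),
      DeRham.IsCxMap (KaehlerDifferential.D k (A ⧸ (⨆ i ∈ I, Ideal.span {t (e i)} : Ideal A))) (KaehlerDifferential.D k (A ⧸ (⨆ i ∈ J, Ideal.span {t (e i)} : Ideal A)))
        (Ideal.Quotient.factor (biSup_mono h)) (ψ I J))
    (s m : ℕ) (hs : s + 1 + m = d)
    (g : ∀ J : Finset (Fin n), ↥(⋀[(A ⧸ (⨆ i ∈ J, Ideal.span {t (e i)} : Ideal A))]^m (Ω[(A ⧸ (⨆ i ∈ J, Ideal.span {t (e i)} : Ideal A))⁄k]))) :
    ∃ ω : ∀ I : Finset (Fin n), ↥(⋀[(A ⧸ (⨆ i ∈ I, Ideal.span {t (e i)} : Ideal A))]^m (Ω[(A ⧸ (⨆ i ∈ I, Ideal.span {t (e i)} : Ideal A))⁄k])),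
      ∀ J : Finset (Fin n), J.card = s + 1 →
        (∑ j ∈ J.attach,
          ((-1 : ℤ) ^ (J.filter (fun i => i < j.1)).card) •
            ψ (J.erase j.1) J m (ω (J.erase j.1))) = g J := by
  classical
  -- coordinates on the strata
  have hcard : ∀ J : Finset (Fin n), J.card = s + 1 → ((J.map e)ᶜ).card = m := by
    intro J hJ
    rw [Finset.card_compl, Finset.card_map, hJ, Fintype.card_fin]
    omega
  let f : ∀ J : Finset (Fin n), J.card = s + 1 → Fin m → Fin d := fun J hJ r =>
    ((J.map e)ᶜ).orderEmbOfFin (hcard J hJ) r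
  have hf : ∀ J hJ, ∀ i : Fin d, i ∉ J.map e → ∃ r, f J hJ r = i := by
    intro J hJ i hi
    have : i ∈ Set.range (((J.map e)ᶜ).orderEmbOfFin (hcard J hJ)) := by
      rw [Finset.range_orderEmbOfFin]; simpa using hi
    exact this
  have hkill : ∀ (J : Finset (Fin n)) (j : Fin n), j ∈ J →
      Ideal.Quotient.mk (⨆ i ∈ J, Ideal.span {t (e i)} : Ideal A) (t (e j)) = 0 := by
    intro J j hj
    rw [Ideal.Quotient.eq_zero_iff_mem]
    exact (le_biSup (fun i => Ideal.span {t (e i)}) hj) (Ideal.mem_span_singleton_self _)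
  let w : ∀ (I J : Finset (Fin n)), J.card = s + 1 →
      ↥(⋀[(A ⧸ (⨆ i ∈ I, Ideal.span {t (e i)} : Ideal A))]^m (Ω[(A ⧸ (⨆ i ∈ I, Ideal.span {t (e i)} : Ideal A))⁄k])) :=
    fun I J hJ => ιMulti _ m fun r => KaehlerDifferential.D k (A ⧸ (⨆ i ∈ I, Ideal.span {t (e i)} : Ideal A))
      (Ideal.Quotient.mk _ (t (f J hJ r)))
  -- top forms on a stratum are multiples of one form
  have hgen : ∀ (J : Finset (Fin n)) (hJ : J.card = s + 1), ∃ a : A,
      g J = Ideal.Quotient.mk (⨆ i ∈ J, Ideal.span {t (e i)} : Ideal A) a • w J J hJ := by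
    intro J hJ
    let Q := A ⧸ (⨆ i ∈ J, Ideal.span {t (e i)} : Ideal A)
    let v : Fin m → Ω[Q⁄k] := fun r => KaehlerDifferential.D k Q (Ideal.Quotient.mk _ (t (f J hJ r)))
    have hv : Submodule.span Q (Set.range v) = ⊤ := by
      rw [eq_top_iff, ← KaehlerDifferential.span_range_derivation k Q, Submodule.span_le]
      rintro _ ⟨x, rfl⟩
      obtain ⟨x, rfl⟩ := Ideal.Quotient.mk_surjective x
      have h : KaehlerDifferential.D k A x ∈ Submodule.span A (Set.range b) :=
        b.span_eq ▸ Submodule.mem_top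
      have h' := Submodule.mem_map_of_mem (f := KaehlerDifferential.map k k A Q) h
      rw [KaehlerDifferential.map_D, Submodule.map_span] at h'
      have hle : Submodule.span A (⇑(KaehlerDifferential.map k k A Q) '' Set.range b) ≤
          (Submodule.span Q (Set.range v)).restrictScalars A := by
        rw [Submodule.span_le]
        rintro _ ⟨_, ⟨i, rfl⟩, rfl⟩
        rw [hb, KaehlerDifferential.map_D]
        by_cases hi : i ∈ J.map e
        · obtain ⟨j, hj, rfl⟩ := Finset.mem_map.mp hi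
          show _ ∈ Submodule.span Q (Set.range v)
          rw [show algebraMap A Q (t (e j)) = 0 from hkill J j hj, map_zero]
          exact zero_mem _
        · obtain ⟨r, rfl⟩ := hf J hJ i hi
          exact Submodule.subset_span ⟨r, rfl⟩
      exact hle h'
    have htop : Submodule.span Q {ιMulti Q m v} = ⊤ := by
      rw [eq_top_iff, ← exteriorPower.ιMulti_span_of_span Q m _ hv, Submodule.span_le]
      rintro _ ⟨c, hc, rfl⟩
      have : ∀ i, ∃ r, v r = c i := fun i => hc ⟨i, rfl⟩
      choose σ hσ using this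
      rw [show c = v ∘ σ from funext fun i => (hσ i).symm]
      by_cases hinj : Function.Injective σ
      · rw [show v ∘ σ = v ∘ (Equiv.ofBijective σ (Finite.injective_iff_bijective.mp hinj) : Fin m → Fin m) from rfl,
          AlternatingMap.map_perm]
        exact Submodule.smul_of_tower_mem _ _ (Submodule.mem_span_singleton_self _)
      · obtain ⟨i, i', hii, hne⟩ : ∃ i i', σ i = σ i' ∧ i ≠ i' := by
          simpa [Function.Injective, and_comm] using hinj
        rw [AlternatingMap.map_eq_zero_of_eq (ιMulti Q m) (v ∘ σ) (i := i) (j := i') (congrArg v hii) hne]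
        exact zero_mem _
    obtain ⟨q, hq⟩ := Submodule.mem_span_singleton.mp (htop ▸ Submodule.mem_top : g J ∈ Submodule.span Q {ιMulti Q m v})
    obtain ⟨a, rfl⟩ := Ideal.Quotient.mk_surjective q
    exact ⟨a, hq.symm⟩
  choose a ha using hgen
  refine ⟨fun I => ∑ j : Fin n, if h : j ∉ I ∧ (∀ i ∈ I, j < i) ∧ (insert j I).card = s + 1
    then Ideal.Quotient.mk (⨆ i ∈ I, Ideal.span {t (e i)} : Ideal A) (a (insert j I) h.2.2) •
      w I (insert j I) h.2.2 else 0, fun J hJ => ?_⟩
  have hne : J.Nonempty := Finset.card_pos.mp (by omega)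
  have key : ∀ (I : Finset (Fin n)) (hIJ : I ⊆ J) (J' : Finset (Fin n)) (hJ' : J'.card = s + 1) (x : A),
      ψ I J m (Ideal.Quotient.mk (⨆ i ∈ I, Ideal.span {t (e i)} : Ideal A) x • w I J' hJ') =
        Ideal.Quotient.mk (⨆ i ∈ J, Ideal.span {t (e i)} : Ideal A) x • w J J' hJ' := by
    intro I hIJ J' hJ' x
    exact hψ I J hIJ m _ _
  have zero' : ∀ (J' : Finset (Fin n)) (hJ' : J'.card = s + 1) (j : Fin n), j ∈ J → j ∉ J' →
      w J J' hJ' = 0 := by
    intro J' hJ' j hj hj'
    obtain ⟨r, hr⟩ := hf J' hJ' (e j) (by simpa using hj')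
    refine AlternatingMap.map_coord_zero _ r ?_
    show KaehlerDifferential.D k _ (Ideal.Quotient.mk _ (t (f J' hJ' r))) = 0
    rw [hr, hkill J j hj, map_zero]
  let j₀ := J.min' hne
  rw [Finset.sum_eq_single (⟨j₀, J.min'_mem hne⟩ : {x // x ∈ J})]
  · have h0 : (J.filter (fun i => i < j₀)).card = 0 := by
      rw [Finset.card_eq_zero, Finset.filter_eq_empty_iff]
      exact fun i hi => not_lt.mpr (J.min'_le i hi)
    simp only [h0, pow_zero, one_smul]
    have hins : insert j₀ (J.erase j₀) = J := Finset.insert_erase (J.min'_mem hne)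
    rw [map_sum, Finset.sum_eq_single j₀]
    · have hc : j₀ ∉ J.erase j₀ ∧ (∀ i ∈ J.erase j₀, j₀ < i) ∧ (insert j₀ (J.erase j₀)).card = s + 1 :=
        ⟨Finset.notMem_erase _ _, fun i hi => lt_of_le_of_ne (J.min'_le i (Finset.mem_of_mem_erase hi))
          (Finset.ne_of_mem_erase hi).symm, hins.symm ▸ hJ⟩
      rw [dif_pos hc, key _ (Finset.erase_subset _ _) _ hc.2.2]
      have : ∀ (J' : Finset (Fin n)) (h' : J'.card = s + 1), J' = J →
          Ideal.Quotient.mk (⨆ i ∈ J, Ideal.span {t (e i)} : Ideal A) (a J' h') • w J J' h' = g J := by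
        rintro _ h' rfl
        exact (ha _ h').symm
      exact this _ _ hins
    · intro j _ hj
      split_ifs with hc
      · rw [key _ (Finset.erase_subset _ _) _ hc.2.2, zero' _ hc.2.2 j₀ (J.min'_mem hne), smul_zero]
        simp [Finset.mem_insert, hj.symm]
      · exact map_zero _
    · simp
  · intro j _ hj
    have hj' : j.1 ≠ j₀ := fun h => hj (Subtype.ext h)
    rw [map_sum, Finset.sum_eq_zero, smul_zero]
    intro i _
    split_ifs with hc
    · have hij : i ≠ j.1 := fun h => by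
        have := hc.2.1 j₀ (Finset.mem_erase.mpr ⟨hj'.symm, J.min'_mem hne⟩)
        rw [h] at this
        exact absurd (J.min'_le j.1 j.2) (not_le.mpr this)
      rw [key _ (Finset.erase_subset _ _) _ hc.2.2, zero' _ hc.2.2 j.1 j.2 (by simp [Finset.mem_insert, hij.symm]),
        smul_zero]
    · exact map_zero _
  · simp

end Groth.Agent.S19629
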