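import Groth.Statements.S1963
import Groth.Agent.H9Hens.PtValuation
import Mathlib.RingTheory.Flat.FaithfullyFlat.Algebra
-- import your own Groth.Agent.* helpers here

set_option autoImplicit false
universe u
open EtAlg

namespace Groth.Agent.S1963

/-- Let A be a valuation ring, B an etale A-algebra and m a prime of B lying over the maximal ideal of
A. Then the localization B_m is a valuation ring, the map A -> B_m is injective and local, and the
extension is weakly unramified: every nonzero element of B_m is a unit multiple of the image of an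
element of A. -/
theorem result (A B : Type u) [CommRing A] [IsDomain A] [ValuationRing A]
    [CommRing B] [Algebra A B] [Algebra.Etale A B] (m : Ideal B) [m.IsPrime]
    (hm : m.comap (algebraMap A B) = IsLocalRing.maximalIdeal A) :
    IsDomain (Localization.AtPrime m) ∧ (∀ _ : IsDomain (Localization.AtPrime m), ValuationRing (Localization.AtPrime m)) ∧
    Function.Injective (algebraMap A (Localization.AtPrime m)) ∧ IsLocalHom (algebraMap A (Localization.AtPrime m)) ∧
    ∀ b : Localization.AtPrime m, b ≠ 0 → ∃ (a : A) (u : (Localization.AtPrime m)ˣ),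
      b = u * algebraMap A (Localization.AtPrime m) a := by
  classical
  let S := Localization.AtPrime m
  haveI hloc : IsLocalHom (algebraMap A S) := ⟨fun a ha => by
    by_contra h
    have h1 : a ∈ m.comap (algebraMap A B) := hm ▸ (IsLocalRing.mem_maximalIdeal a).mpr h
    rw [IsScalarTower.algebraMap_apply A B S] at ha
    exact (IsLocalization.AtPrime.isUnit_to_map_iff S m (algebraMap A B a)).mp ha h1⟩
  haveI : Module.Flat A S := Module.Flat.trans A B S
  haveI : Module.FaithfullyFlat A S := Module.FaithfullyFlat.of_flat_of_isLocalHom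
  have hinj : Function.Injective (algebraMap A S) := FaithfulSMul.algebraMap_injective A S
  have key : ∀ x : S, ∃ (a : A) (u : Sˣ), x = u * algebraMap A S a := by
    intro x
    obtain ⟨⟨y, s⟩, hys⟩ := IsLocalization.surj m.primeCompl x
    have : Algebra.IsEtaleAt A m := inferInstance
    obtain ⟨f, hf, hstd⟩ := Algebra.IsEtaleAt.exists_isStandardEtale (R := A) m
    obtain ⟨P⟩ := hstd.nonempty_standardEtalePresentation
    let φ : B →ₐ[A] S := IsScalarTower.toAlgHom A B S
    have hfu : IsUnit (φ f) := IsLocalization.map_units S (⟨f, hf⟩ : m.primeCompl)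
    let ψ : Localization.Away f →ₐ[A] S := IsLocalization.Away.liftAlgHom f (f := φ) hfu
    have hψ : ψ (algebraMap B _ y) = φ y := IsLocalization.Away.lift_eq f hfu y
    obtain ⟨h, n, hn⟩ := P.exists_mul_aeval_x_g_pow_eq_aeval_x (algebraMap B _ y)
    obtain ⟨a, ⟨c₁, hc₁⟩, ⟨c₂, hc₂⟩⟩ := Groth.Agent.H9Hens.exists_dvd_dvd_aeval P.monic_f (α := ψ P.x)
      (by rw [Polynomial.aeval_algHom_apply, P.hasMap.1, map_zero])
      (by rw [Polynomial.aeval_algHom_apply]; exact P.hasMap.isUnit_derivative_f.map ψ) h
    have hug : IsUnit (Polynomial.aeval (ψ P.x) P.g ^ n) := by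
      rw [Polynomial.aeval_algHom_apply]; exact (P.hasMap.2.map ψ).pow n
    have hyh : φ y * Polynomial.aeval (ψ P.x) P.g ^ n = Polynomial.aeval (ψ P.x) h := by
      rw [← hψ, Polynomial.aeval_algHom_apply, Polynomial.aeval_algHom_apply, ← map_pow, ← map_mul, hn]
    have hsu : IsUnit (algebraMap B S s) := IsLocalization.map_units S s
    have hu := hsu.mul hug
    have hx : x * (algebraMap B S s * Polynomial.aeval (ψ P.x) P.g ^ n) = Polynomial.aeval (ψ P.x) h := by
      rw [← hyh, ← mul_assoc]
      exact congrArg (· * _) hys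
    obtain ⟨v, hv⟩ := hu
    by_cases hc : IsUnit c₂
    · obtain ⟨c, hc'⟩ := hc
      refine ⟨a, c * v⁻¹, ?_⟩
      rw [← hv, hc₂, ← hc'] at hx
      rw [Units.val_mul, mul_right_comm, mul_comm (c : S), ← hx, mul_assoc, Units.mul_inv, mul_one]
    · have hw0 : Polynomial.aeval (ψ P.x) h = 0 := by
        have h1 : Polynomial.aeval (ψ P.x) h * (1 - c₁ * c₂) = 0 := by
          rw [mul_sub, mul_one, ← mul_assoc, ← hc₁, ← hc₂, sub_self]
        refine (IsLocalRing.isUnit_one_sub_self_of_mem_nonunits _ ?_).mul_left_eq_zero.mp h1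
        exact fun hu' => hc (isUnit_of_mul_isUnit_right hu')
      refine ⟨0, 1, ?_⟩
      rw [map_zero, mul_zero]
      rw [← hv, hw0] at hx
      exact (Units.mul_left_eq_zero v).mp hx
  have hdom : IsDomain S := by
    have : NoZeroDivisors S := ⟨fun {x y} hxy => by
      obtain ⟨a, u, rfl⟩ := key x
      obtain ⟨b, v, rfl⟩ := key y
      have h1 : algebraMap A S (a * b) = 0 := by
        rw [mul_mul_mul_comm, ← map_mul, ← Units.val_mul, Units.mul_right_eq_zero] at hxy
        exact hxy
      rcases mul_eq_zero.mp (hinj (h1.trans (map_zero _).symm)) with rfl | rfl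
      · exact Or.inl (by simp)
      · exact Or.inr (by simp)⟩
    exact NoZeroDivisors.to_isDomain S
  refine ⟨hdom, fun _ => ValuationRing.iff_dvd_total.mpr ⟨fun x y => ?_⟩, hinj, hloc, fun b _ => key b⟩
  obtain ⟨a, u, rfl⟩ := key x
  obtain ⟨b, v, rfl⟩ := key y
  simp only [Units.mul_left_dvd, Units.dvd_mul_left]
  exact (ValuationRing.dvd_total a b).imp (map_dvd _) (map_dvd _)

end Groth.Agent.S1963
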