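import Groth.Statements.S19631
import Mathlib
import Groth.Agent.H15Site.CoskLib

open Groth.Agent.H15Site

set_option linter.style.haveILetI false
open CategoryTheory CategoryTheory.Limits Opposite Simplicial

set_option autoImplicit false
universe u
open Hyper

namespace Groth.Agent.S19631

section
open AlgebraicGeometry

lemma cechNerveTerminalFrom_isCoskeletal {C : Type*} [Category C] [HasFiniteProducts C]
    (A : C) (n : ℕ) : SimplicialObject.IsCoskeletal (cechNerveTerminalFrom A) n := by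
  apply isCoskeletal_of_isPointwise
  rintro ⟨Δ⟩
  refine IsLimit.ofExistsUnique fun s ↦ ?_
  induction Δ using SimplexCategory.rec with | _ m
  have key : ∀ {i : ℕ} (f : ⦋i⦌ ⟶ ⦋m⦌) (hi : i ≤ n) (x : Fin (i + 1)),
      s.π.app (arrowMk f hi) ≫ Pi.π (fun _ : Fin (i + 1) ↦ A) x =
        s.π.app (arrowMk (SimplexCategory.const ⦋0⦌ ⦋m⦌ (f.toOrderHom x)) (Nat.zero_le n)) ≫
          Pi.π (fun _ : Fin 1 ↦ A) 0 := by
    intro i f hi x
    have : SimplexCategory.const ⦋0⦌ ⦋m⦌ (f.toOrderHom x) =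
        SimplexCategory.const ⦋0⦌ ⦋i⦌ x ≫ f := by ext; rfl
    rw [this, cone_w s f hi]
    refine Eq.trans ?_ (Category.assoc _ _ _).symm
    congr 1
    exact (Pi.lift_π (fun k : Fin 1 ↦ Pi.π (fun _ : Fin (i + 1) ↦ A)
      ((SimplexCategory.const ⦋0⦌ ⦋i⦌ x).toOrderHom k)) 0).symm
  refine ⟨Pi.lift (fun i ↦ s.π.app (arrowMk (SimplexCategory.const ⦋0⦌ ⦋m⦌ i) (Nat.zero_le n)) ≫
      Pi.π (fun _ : Fin 1 ↦ A) 0), fun j ↦ ?_, fun l hl ↦ ?_⟩
  · obtain ⟨i, hi, f, rfl⟩ := exists_eq_arrowMk j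
    refine Pi.hom_ext _ _ fun (x : Fin (i + 1)) ↦ ?_
    refine Eq.trans ?_ (key f hi x).symm
    change (Pi.lift _ ≫ (Pi.lift _ ≫ 𝟙 _)) ≫ Pi.π _ _ = _
    rw [Category.comp_id, Category.assoc, Pi.lift_π, Pi.lift_π]
    rfl
  · refine Pi.hom_ext _ _ fun (i : Fin (m + 1)) ↦ ?_
    have h1 := congrArg (· ≫ Pi.π (fun _ : Fin 1 ↦ A) 0)
      (hl (arrowMk (SimplexCategory.const ⦋0⦌ ⦋m⦌ i) (Nat.zero_le n)))
    change (l ≫ Pi.lift (fun k : Fin 1 ↦ Pi.π (fun _ : Fin (m + 1) ↦ A)
      ((SimplexCategory.const ⦋0⦌ ⦋m⦌ i).toOrderHom k)) ≫ 𝟙 _) ≫ Pi.π (fun _ : Fin 1 ↦ A) 0 = _ at h1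
    rw [Category.comp_id, Category.assoc] at h1
    refine ((congrArg (l ≫ ·) (Pi.lift_π (fun k : Fin 1 ↦ Pi.π (fun _ : Fin (m + 1) ↦ A)
      ((SimplexCategory.const ⦋0⦌ ⦋m⦌ i).toOrderHom k)) 0)).symm.trans h1).trans ?_
    exact (Pi.lift_π (fun i ↦ s.π.app (arrowMk (SimplexCategory.const ⦋0⦌ ⦋m⦌ i) (Nat.zero_le n)) ≫
      Pi.π (fun _ : Fin 1 ↦ A) 0) i).symm
end

open CategoryTheory CategoryTheory.Limits AlgebraicGeometry in
/-- Let f : X → Y be a morphism of schemes and X_• = cosk_0^Y(X) its Čech nerve, the simplicial scheme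
over Y with X_p = X ×_Y ⋯ ×_Y X (p + 1 factors), face maps the projections forgetting one factor and
degeneracies induced by diagonals. Then X_•, as a simplicial object of the category of schemes over
Y, is n-coskeletal for every n, i.e. the adjunction morphisms X_• → cosk_n sk_n X_• (coskeleta
relative to Y) are isomorphisms. In the source this is phrased as: for a class S of covering maps of
varieties containing the identities, X_• → Y is an S-hypercover whenever X → Y lies in S, the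
adjunction maps X_p → (cosk_{p-1} sk_{p-1} X_•)_p being isomorphisms for p ≥ 1 and X_0 → Y being f.
(Stated for arbitrary schemes; the source has varieties over a field.) -/
theorem result (X Y : Scheme.{u}) (f : X ⟶ Y) (n : ℕ) :
    SimplicialObject.IsCoskeletal (cechNerveTerminalFrom (Over.mk f)) n := by
  exact cechNerveTerminalFrom_isCoskeletal _ n

end Groth.Agent.S19631
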