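import Groth.Statements.S19632
import Groth.Agent.H27DR.Laurent

set_option autoImplicit false
universe u
open DeRham

namespace Groth.Agent.S19632

/-- Let k be a field of characteristic zero and G_m = Spec k[t, t⁻¹] the multiplicative group. The
kernel of the differential d : k[t, t⁻¹] → Ω¹ of the de Rham complex of G_m consists of the
constants: for a Laurent polynomial f, df = 0 if and only if f lies in the image of k. Equivalently
H^0_dR(G_m/k) = k. (Characteristic zero is used: in characteristic p the element t^p is closed.) -/
theorem result (k : Type u) [Field k] [CharZero k]
    (f : LaurentPolynomial k) :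
    KaehlerDifferential.D k (LaurentPolynomial k) f = 0 ↔ f ∈ Set.range (algebraMap k (LaurentPolynomial k)) := by
  exact H27DR.laurent_D_eq_zero_iff k f

end Groth.Agent.S19632
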