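import Groth.Statements.S19633
import Groth.Agent.H27DR.Laurent

set_option autoImplicit false
universe u
open DeRham

namespace Groth.Agent.S19633

open exteriorPower in
/-- Let k be a field of characteristic zero, G_m = Spec k[t, t⁻¹], and d the de Rham differential of
k[t, t⁻¹] over k. Then: every 1-form is closed; the exact 1-forms and the k-line spanned by t⁻¹ dt
are complementary subspaces of the 1-forms, and t⁻¹ dt is not exact — so H^1_dR(G_m/k) is
one-dimensional, generated by the class of dt/t (the isomorphism with k being the residue); and for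
every i ≥ 2 the closed i-forms are exact, so H^i_dR(G_m/k) = 0 for i > 1. (Characteristic zero is
used in the computation of the exact forms.) -/
theorem result (k : Type u) [Field k] [CharZero k]
    (d : ∀ p : ℕ, ↥(⋀[LaurentPolynomial k]^p (Ω[LaurentPolynomial k⁄k])) →ₗ[k] ↥(⋀[LaurentPolynomial k]^(p + 1) (Ω[LaurentPolynomial k⁄k])))
    (hd : DeRham.IsDiff (KaehlerDifferential.D k (LaurentPolynomial k)) d) :
    DeRham.cocycles d 1 = ⊤ ∧
    IsCompl (DeRham.coboundaries d 1)
      (Submodule.span k {DeRham.gen (KaehlerDifferential.D k (LaurentPolynomial k)) 1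
        (LaurentPolynomial.T (-1)) (fun _ => LaurentPolynomial.T 1)}) ∧
    DeRham.gen (KaehlerDifferential.D k (LaurentPolynomial k)) 1
        (LaurentPolynomial.T (-1)) (fun _ => LaurentPolynomial.T 1) ∉ DeRham.coboundaries d 1 ∧
    ∀ i : ℕ, DeRham.cocycles d (i + 2) ≤ DeRham.coboundaries d (i + 2) := by
  exact H27DR.laurent_H1 k d hd.1

end Groth.Agent.S19633
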