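import Groth.Statements.S19644
import Groth.Agent.H14QCoh.CompAff
import Groth.Agent.H14QCoh.ToBase
import Groth.Agent.H14AlgSt.PointsSpace
import Groth.Agent.H14Quot.Basic

set_option autoImplicit false
set_option backward.isDefEq.respectTransparency false
set_option backward.isDefEq.respectTransparency.types false
universe u
open CategoryTheory AlgebraicGeometry MonoidalCategory
open StMod

namespace Groth.Agent.S19644

/-- In the case of a point over the base itself with affine fppf stabilizer, let `S` be a
quasi-separated scheme, `𝒳` an algebraic stack over `(Sch/S)` for the fppf topology whose structure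
functor `𝒳 ⟶ S` is quasi-compact, quasi-separated and cohomologically affine (pushforward along it
takes surjections of quasi-coherent modules to maps surjective on sections over every affine scheme
etale over `S`), `x : (Sch/S) ⟶ 𝒳` a functor over `(Sch/S)` (an `S`-point), `G` an affine, flat,
locally finitely presented group scheme over `S` representing the automorphism presheaf of `x` (the
stabilizer of `x`), and `ι : BG ⟶ 𝒳` a monomorphism over `(Sch/S)` from the classifying stack of
fppf `G`-torsors that are schemes, whose composite with the canonical `S ⟶ BG` is isomorphic to `x`.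
If `ι` is affine (representable by algebraic spaces and affine), then `G` is linearly reductive over
`S`: the structure functor `BG ⟶ S`, assumed quasi-compact and quasi-separated, is cohomologically
affine. (The source states this for a point with values in any scheme `T` over `S`, with target `𝒳
×_S T` and the stabilizer any fppf group scheme; this is its case `T = S` with affine stabilizer,
the case in which the classifying stack of scheme torsors is the whole classifying stack.) -/
theorem result
    (S : Scheme.{u}) [QuasiSeparatedSpace S]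
    (𝒳 : AlgSt.Cat S) (h𝒳 : AlgSt.IsAlgStack Scheme.fppfPrecoverage 𝒳)
    (σ𝒳 : 𝒳 ⥤ᵇ AlgSt.ofSch (Over.mk (𝟙 S)))
    (h𝒳qc : AlgSt.IsQuasiCompactMor Scheme.fppfPrecoverage σ𝒳) (h𝒳qs : AlgSt.IsQuasiSeparatedMor σ𝒳)
    (h𝒳ca : StMod.IsCohAffine σ𝒳)
    (x : FibCat.overCat (Over.mk (𝟙 S)) ⥤ᵇ 𝒳)
    (G : Over S) [GrpObj G] [IsAffineHom G.hom] [Flat G.hom] [LocallyOfFinitePresentation G.hom]
    (r : Gerb.AutRep x (Gerb.ptsGrp (Over.mk (𝟙 S)) G))
    (ι : AlgSt.BG Scheme.fppfPrecoverage G ⥤ᵇ 𝒳) (hι : AlgSt.IsMono ι)
    (eι : BasedFunctor.comp (AlgSt.quotMap Scheme.fppfPrecoverage G (AlgSt.trivAction G)) ι ≅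
      BasedFunctor.comp (AlgSt.toOverCat (Over.mk (𝟙 S))) x)
    (hιa : AlgSt.RepByAlgSpWith AlgSp.IsAffineMor ι)
    (σ : AlgSt.BG Scheme.fppfPrecoverage G ⥤ᵇ AlgSt.ofSch (Over.mk (𝟙 S)))
    (hqc : AlgSt.IsQuasiCompactMor Scheme.fppfPrecoverage σ) (hqs : AlgSt.IsQuasiSeparatedMor σ) :
    StMod.IsCohAffine σ := by
  have hBG : FibCat.IsFibGrpd (AlgSt.BG Scheme.fppfPrecoverage G).p := Groth.Agent.H14Quot.quotSt_fibGrpd
  exact (Groth.Agent.H14QCoh.toBase_unique (BasedFunctor.comp ι σ𝒳) σ) ▸
    Groth.Agent.H14QCoh.isCohAffine_comp_affine σ𝒳 hιa hBG h𝒳.isStack.1 h𝒳ca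

end Groth.Agent.S19644
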