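import Groth.Statements.S19645
import Groth.Agent.H15Magnet.EtaleFace
import Groth.Agent.H15Magnet.AffineRep
import Groth.Agent.S18289
import Groth.Agent.S18294
-- import your own Groth.Agent.* helpers here

set_option autoImplicit false
universe u
open CategoryTheory MonoidalCategory CartesianMonoidalCategory AlgebraicGeometry Opposite
open Magnet

set_option linter.style.haveILetI false
set_option backward.isDefEq.respectTransparency false
set_option backward.isDefEq.respectTransparency.types false

open CategoryTheory MonoidalCategory CartesianMonoidalCategory Opposite Magnet in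
theorem Groth.Agent.S19645.evalAt_postcomp {C : Type*} [Category C] [CartesianMonoidalCategory C]
    {A B X Y : C} [MonObj A] (ρ : MonAct A B) {a : MonAct A X} {b : MonAct A Y} (f : X ⟶ Y)
    (hf : MonAct.IsEquivariant a b f) (e : 𝟙_ C ⟶ B) {T : Cᵒᵖ} (φ : (MonAct.eqvHom ρ a).obj T) :
    (MonAct.eqvHom.evalAt ρ b e).app T ((MonAct.eqvHom.postcomp ρ f hf).app T φ) =
      (MonAct.eqvHom.evalAt ρ a e).app T φ ≫ f := by
  exact (Category.assoc _ _ _).symm

open CategoryTheory CategoryTheory.Limits MonoidalCategory CartesianMonoidalCategory MonObj AlgebraicGeometry Opposite Magnet in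
set_option maxHeartbeats 1600000 in
/-- One inclusion between the images of attractors. -/
theorem Groth.Agent.S19645.range_subset (S : Scheme.{u}) (M : Type) [AddCommGroup M]
    [AddGroup.FG M] {X : Over S} [IsSeparated X.hom] [LocallyOfFinitePresentation X.hom]
    (a : MonAct (AMonS S M) X) (U : Over S) [IsAffineHom U.hom]
    (aU : MonAct (AMonS S M) U) (g : U ⟶ X) (hg : MonAct.IsEquivariant aU a g)
    [Etale g.left] [Surjective g.left]
    (hgZ : ∀ Z : AddSubgroup M, MonAct.IsEquivariant
      (aU.restrict (AMonS.map S (QuotientAddGroup.mk' Z)))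
      (a.restrict (AMonS.map S (QuotientAddGroup.mk' Z))) g)
    (hfpr : ∀ Z : AddSubgroup M, IsPullback (MonAct.fixedPsh.map g (hgZ Z))
      (MonAct.fixedPshι (aU.restrict (AMonS.map S (QuotientAddGroup.mk' Z))))
      (MonAct.fixedPshι (a.restrict (AMonS.map S (QuotientAddGroup.mk' Z)))) (yoneda.map g))
    (N L : AddSubmonoid M)
    (hU : ∀ T : Over S, Set.range (fun φ => (attrToX aU N).app (op T) φ) ⊆
      Set.range (fun φ => (attrToX aU L).app (op T) φ)) (T : Over S) (φ : (attr a N).obj (op T)) :
    ∃ ψ : (attr a L).obj (op T), (attrToX a L).app (op T) ψ = (attrToX a N).app (op T) φ := by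
  let Z : AddSubgroup M :=
    { unitFace N with
      neg_mem' := fun {m} hm => by
        obtain ⟨h, y, hy, hxy⟩ := hm
        have : y = -m := eq_neg_of_add_eq_zero_right hxy
        exact ⟨this ▸ hy, m, h, by simp⟩ }
  have hQ : IsFace N Z.toAddSubmonoid := isFace_unitFace N
  obtain ⟨θU, hθU⟩ := Groth.Agent.S18289.result S M Z U ⟨aU.act, aU.one_act, aU.mul_act⟩
  obtain ⟨θX, hθX⟩ := Groth.Agent.S18289.result S M Z X ⟨a.act, a.one_act, a.mul_act⟩
  let φs := (attrFace a hQ).app (op T) φ
  let y : T ⟶ X := (attrToX a Z.toAddSubmonoid).app (op T) φs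
  let T' : Over S := Over.mk (pullback.fst y.left g.left ≫ T.hom)
  let t : T' ⟶ T := Over.homMk (pullback.fst y.left g.left) rfl
  let u' : T' ⟶ U := Over.homMk (pullback.snd y.left g.left) (by
    show pullback.snd _ _ ≫ U.hom = pullback.fst _ _ ≫ T.hom
    rw [← Over.w g, ← pullback.condition_assoc, Over.w y])
  have htu : t ≫ y = u' ≫ g := Over.OverMorphism.ext pullback.condition
  haveI : Etale t.left := inferInstanceAs (Etale (pullback.fst y.left g.left))
  haveI : Surjective t.left := inferInstanceAs (Surjective (pullback.fst y.left g.left))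
  -- `u'` is a fixed point by reflection of fixed points
  have hyfix : (MonAct.fixedPshι _).app (op T) (θX.hom.app (op T) φs) = y :=
    ConcreteCategory.congr_hom (NatTrans.congr_app hθX (op T)) φs
  have hcomp : (MonAct.fixedPshι _).app (op T')
      ((MonAct.fixedPsh (a.restrict (AMonS.map S (QuotientAddGroup.mk' Z)))).map t.op (θX.hom.app (op T) φs)) =
      u' ≫ g := by
    refine Eq.trans ?_ htu
    exact (congrArg (t ≫ ·) hyfix)
  obtain ⟨w, hw1, hw2⟩ := Types.exists_of_isPullback
    ((hfpr Z).map ((evaluation (Over S)ᵒᵖ (Type u)).obj (op T'))) _ u' hcomp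
  let p : (attr aU Z.toAddSubmonoid).obj (op T') := θU.inv.app (op T') w
  have hp : (attrToX aU Z.toAddSubmonoid).app (op T') p = u' := by
    refine (ConcreteCategory.congr_hom (NatTrans.congr_app hθU (op T')) p).symm.trans ?_
    refine Eq.trans ?_ hw2
    exact congrArg (fun z => (MonAct.fixedPshι
      (aU.restrict (AMonS.map S (QuotientAddGroup.mk' Z)))).app (op T') z)
      (ConcreteCategory.congr_hom (θU.inv_hom_id_app (op T')) w)
  let φ' := (attr a N).map t.op φ
  have hc : (AMonS.faceMap S hQ ▷ T') ≫ φ'.1 = p.1 ≫ g := by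
    refine congrArg Subtype.val (H15Magnet.attrToX_injective a Z.toAddSubmonoid T'
      (a₁ := (attrFace a hQ).app (op T') φ')
      (a₂ := (MonAct.eqvHom.postcomp (subAct S M Z.toAddSubmonoid) g hg).app (op T') p) ?_)
    have h1 : (attrFace a hQ).app (op T') φ' = (attr a Z.toAddSubmonoid).map t.op φs :=
      ConcreteCategory.congr_hom ((attrFace a hQ).naturality t.op) φ
    have h2 : (attrToX a Z.toAddSubmonoid).app (op T') ((attr a Z.toAddSubmonoid).map t.op φs) = t ≫ y :=
      H15Magnet.toX_map a Z.toAddSubmonoid t φs
    refine ((congrArg (fun z => (attrToX a Z.toAddSubmonoid).app (op T') z) h1).trans h2).trans (htu.trans ?_)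
    exact ((evalAt_postcomp (subAct S M Z.toAddSubmonoid) g hg η[AMonS S Z.toAddSubmonoid] p).trans
      (congrArg (fun z : T' ⟶ U => z ≫ g) hp)).symm
  obtain ⟨x, ⟨hx, -⟩, -⟩ := H15Magnet.EtaleFace.good a aU g hg hQ (Or.inr ⟨inferInstance, inferInstance⟩)
    T' φ' p hc
  obtain ⟨ψ₀, hψ₀⟩ := hU T' ⟨x, rfl⟩
  let ψ' := (MonAct.eqvHom.postcomp (subAct S M L) g hg).app (op T') ψ₀
  have hψ' : (attrToX a L).app (op T') ψ' = t ≫ (attrToX a N).app (op T) φ := by
    refine (evalAt_postcomp (subAct S M L) g hg η[AMonS S L] ψ₀).trans ?_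
    refine (congrArg (fun z : T' ⟶ U => z ≫ g) hψ₀).trans ?_
    refine Eq.trans ?_ (H15Magnet.toX_map a N t φ)
    refine (evalAt_postcomp (subAct S M N) g hg η[AMonS S N] x).symm.trans ?_
    exact congrArg ((attrToX a N).app (op T')) (Subtype.ext hx)
  have hsh : Presheaf.IsSheaf (Scheme.fppfTopology.over S) (attr a L) :=
    Groth.Agent.S18294.result S _ _ X _ _
  have hfor := H15Magnet.AffineRep.isSheafFor_singleton_over (attr a L) hsh t
  rw [Presieve.isSheafFor_singleton] at hfor
  obtain ⟨ψ, hψ, -⟩ := hfor ψ' fun p₁ p₂ hp => H15Magnet.attrToX_injective a L _ (by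
    show (attrToX a L).app _ ((attr a L).map p₁.op ψ') = (attrToX a L).app _ ((attr a L).map p₂.op ψ')
    rw [H15Magnet.toX_map, H15Magnet.toX_map, hψ', ← Category.assoc, ← Category.assoc, hp])
  refine ⟨ψ, Over.OverMorphism.ext ?_⟩
  have he : t ≫ (attrToX a L).app (op T) ψ = t ≫ (attrToX a N).app (op T) φ := by
    rw [← H15Magnet.toX_map a L t ψ, hψ, hψ']
  exact (cancel_epi t.left).1 (congrArg CommaMorphism.left he)

namespace Groth.Agent.S19645

/-- Let S be a scheme, M a finitely generated abelian group and X an S-scheme separated and locally of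
finite presentation over S with an action of the diagonalizable group scheme D(M)_S. Let g : U → X
be an S-affine strongly-FPR atlas: U is affine over S with a D(M)_S-action, g is equivariant, étale
and surjective, and for every subgroup Z of M the square of fixed-point subfunctors for the actions
restricted along D(M/Z)_S → D(M)_S, with top U^{D(M/Z)} → X^{D(M/Z)} and bottom U → X, is cartesian.
Then for submonoids (magnets) N and L of M, if the attractors U^N and U^L have the same image in U
(on T-points, for every S-scheme T), the attractors X^N and X^L have the same image in X. (The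
source states this for X a separated algebraic space, inside an argument in which X is of finite
presentation over S, and for an arbitrary abelian group M; here X is a scheme, of X only
separatedness and local finite presentation over S are used, and M is finitely generated, as in the
representability and base-change results for attractors along FPR atlases on which the argument
rests.) -/
theorem result (S : Scheme.{u}) (M : Type) [AddCommGroup M]
    [AddGroup.FG M] {X : Over S} [IsSeparated X.hom] [LocallyOfFinitePresentation X.hom]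
    (a : Magnet.MonAct (Magnet.AMonS S M) X) (U : Over S) [IsAffineHom U.hom]
    (aU : Magnet.MonAct (Magnet.AMonS S M) U) (g : U ⟶ X) (hg : Magnet.MonAct.IsEquivariant aU a g)
    [Etale g.left] [Surjective g.left]
    (hgZ : ∀ Z : AddSubgroup M, Magnet.MonAct.IsEquivariant
      (aU.restrict (Magnet.AMonS.map S (QuotientAddGroup.mk' Z)))
      (a.restrict (Magnet.AMonS.map S (QuotientAddGroup.mk' Z))) g)
    (hfpr : ∀ Z : AddSubgroup M, IsPullback (Magnet.MonAct.fixedPsh.map g (hgZ Z))
      (Magnet.MonAct.fixedPshι (aU.restrict (Magnet.AMonS.map S (QuotientAddGroup.mk' Z))))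
      (Magnet.MonAct.fixedPshι (a.restrict (Magnet.AMonS.map S (QuotientAddGroup.mk' Z)))) (yoneda.map g))
    (N L : AddSubmonoid M)
    (hU : ∀ T : Over S, Set.range (fun φ => (Magnet.attrToX aU N).app (op T) φ) =
      Set.range (fun φ => (Magnet.attrToX aU L).app (op T) φ)) (T : Over S) :
    Set.range (fun φ => (Magnet.attrToX a N).app (op T) φ) =
      Set.range (fun φ => (Magnet.attrToX a L).app (op T) φ) := by
  refine Set.Subset.antisymm ?_ ?_
  · rintro _ ⟨φ, rfl⟩
    exact range_subset S M a U aU g hg hgZ hfpr N L (fun T => (hU T).subset) T φ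
  · rintro _ ⟨φ, rfl⟩
    exact range_subset S M a U aU g hg hgZ hfpr L N (fun T => (hU T).symm.subset) T φ

end Groth.Agent.S19645
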