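import Groth.Statements.S1965
import Mathlib
import Groth.Agent.H9Hens.Newton
-- import your own Groth.Agent.* helpers here

set_option autoImplicit false
universe u
open Polynomial
open EtAlg

namespace Groth.Agent.S1965

/-- Let A be a complete Noetherian local domain of Krull dimension 1 with maximal ideal m, P a
polynomial over A and α a root of P which is not a root of the derivative P'. Then for every c there
is an n such that for every polynomial Q all of whose coefficients lie in m^n, the polynomial P + Q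
has a root β with β - α in m^c. -/
theorem result (A : Type u) [CommRing A] [IsDomain A] [IsLocalRing A] [IsNoetherianRing A]
    [IsAdicComplete (IsLocalRing.maximalIdeal A) A] (hdim : ringKrullDim A = 1) (P : A[X]) (α : A)
    (hα : P.eval α = 0) (hα' : (derivative P).eval α ≠ 0) (c : ℕ) :
    ∃ n : ℕ, ∀ Q : A[X], (∀ i, Q.coeff i ∈ IsLocalRing.maximalIdeal A ^ n) →
      ∃ β : A, (P + Q).eval β = 0 ∧ β - α ∈ IsLocalRing.maximalIdeal A ^ c := by
  set m := IsLocalRing.maximalIdeal A with hm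
  set δ := (derivative P).eval α with hδdef
  have : Ring.KrullDimLE 1 A := Ring.krullDimLE_iff.mpr (by rw [hdim]; rfl)
  obtain ⟨k, hk⟩ : ∃ k : ℕ, m ^ k ≤ Ideal.span {δ} := by
    by_cases hu : IsUnit δ
    · exact ⟨0, by rw [Ideal.span_singleton_eq_top.mpr hu]; exact le_top⟩
    refine Ideal.exists_pow_le_of_le_radical_of_fg ?_ (IsNoetherian.noetherian m)
    rw [Ideal.radical_eq_sInf]
    refine le_sInf fun q ⟨hq, hqp⟩ => ?_
    have hq0 : q ≠ ⊥ := fun h => hα' (by simpa [h] using hq (Ideal.mem_span_singleton_self δ))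
    have := Ring.krullDimLE_one_iff_of_isPrime_bot.mp ‹_› q hq0 hqp
    exact (IsLocalRing.eq_maximalIdeal this).ge
  let c' := c + 1
  refine ⟨k + k + c', fun Q hQ => ?_⟩
  have hmem : ∀ (F : A[X]) (x : A), (∀ i, F.coeff i ∈ m ^ (k + k + c')) →
      F.eval x ∈ m ^ (k + k + c') := fun F x hF => by
    rw [eval_eq_sum, Polynomial.sum_def]
    exact Ideal.sum_mem _ fun i _ => Ideal.mul_mem_right _ _ (hF i)
  have h2 : m ^ (k + k + c') ≤ Ideal.span {δ * δ} * m ^ c' := by
    rw [pow_add, pow_add, ← Ideal.span_singleton_mul_span_singleton]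
    exact Ideal.mul_mono (Ideal.mul_mono hk hk) le_rfl
  obtain ⟨q₀, hq₀, hq₀'⟩ := Ideal.mem_span_singleton_mul.mp (h2 (hmem Q α hQ))
  have hdQ : (derivative Q).eval α ∈ m ^ (k + k + c') := hmem _ α fun i => by
    rw [coeff_derivative]; exact Ideal.mul_mem_right _ _ (hQ _)
  obtain ⟨r₁, hr₁, hr₁'⟩ := Ideal.mem_span_singleton_mul.mp (h2 hdQ)
  set q₁ := δ * r₁ with hq₁def
  have hq₁ : q₁ ∈ m ^ c' := Ideal.mul_mem_left _ _ hr₁
  set T := taylor α (P + Q) with hT
  set R := T.divX.divX with hR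
  have hT0 : T.coeff 0 = δ * δ * q₀ := by
    rw [hT, taylor_coeff_zero, eval_add, hα, zero_add, hq₀']
  have hT1 : T.coeff 1 = δ * (1 + q₁) := by
    rw [hT, taylor_coeff_one, derivative_add, eval_add, ← hδdef, ← hr₁', hq₁def]; ring
  have hTe : ∀ y : A, T.eval y = T.coeff 0 + T.coeff 1 * y + y * y * R.eval y := fun y => by
    conv_lhs => rw [← divX_mul_X_add T, ← divX_mul_X_add T.divX]
    simp only [eval_add, eval_mul, eval_X, eval_C, coeff_divX, ← hR]
    ring
  let G : MvPolynomial (Fin 1) A := MvPolynomial.C q₀ + MvPolynomial.C (1 + q₁) * MvPolynomial.X 0 +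
    MvPolynomial.X 0 * (MvPolynomial.X 0 * Polynomial.aeval (MvPolynomial.C δ * MvPolynomial.X 0) R)
  have hGe : ∀ a : Fin 1 → A, MvPolynomial.eval a G =
      q₀ + (1 + q₁) * a 0 + a 0 * (a 0 * R.eval (δ * a 0)) := fun a => by
    have hh : MvPolynomial.eval a (Polynomial.aeval (MvPolynomial.C δ * MvPolynomial.X 0) R) =
        R.eval (δ * a 0) := by
      have := (Polynomial.aeval_algHom_apply (MvPolynomial.aeval a)
        (MvPolynomial.C δ * MvPolynomial.X (0 : Fin 1)) R).symm
      simpa [MvPolynomial.coe_aeval_eq_eval, Polynomial.coe_aeval_eq_eval] using this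
    simp [G, hh]
  have hle : m ^ c' ≤ m := Ideal.pow_le_self (Nat.succ_ne_zero c)
  have : HenselianRing A m := inferInstance
  obtain ⟨a, ha, ha'⟩ := H9Hens.exists_zero_of_jacobian (I := m) (fun _ => G) (fun _ => 0)
    (fun _ => by rw [hGe]; simpa using hle hq₀)
    (by
      simp only [Matrix.det_unique, Matrix.of_apply, G]
      simp [Ideal.Quotient.eq_zero_iff_mem.mpr (hle hq₁)])
  have hsum : IsUnit (1 + q₁ + a 0 * R.eval (δ * a 0)) := by
    have ha0 : a 0 ∈ m := by simpa using ha' 0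
    rw [add_assoc]
    refine IsLocalRing.notMem_maximalIdeal.mp fun h => ?_
    exact (IsLocalRing.maximalIdeal.isMaximal A).ne_top ((Ideal.eq_top_iff_one _).mpr
      ((Submodule.add_mem_iff_left _ (Ideal.add_mem _ (hle hq₁) (Ideal.mul_mem_right _ _ ha0))).mp h))
  have h0 := ha 0
  rw [hGe] at h0
  have hta : a 0 ∈ m ^ c' := by
    rw [← Ideal.mul_unit_mem_iff_mem _ hsum,
      show a 0 * (1 + q₁ + a 0 * R.eval (δ * a 0)) = -q₀ by linear_combination h0]
    exact Submodule.neg_mem _ hq₀
  refine ⟨α + δ * a 0, ?_, ?_⟩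
  · rw [add_comm α, ← taylor_eval, ← hT, hTe, hT0, hT1]
    linear_combination (δ * δ) * h0
  · rw [add_sub_cancel_left]
    exact Ideal.mul_mem_left _ _ (Ideal.pow_le_pow_right (Nat.le_succ c) hta)

end Groth.Agent.S1965
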