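import Groth.Statements.S19651
import Mathlib.RingTheory.Coprime.Basic
import Mathlib.Algebra.Polynomial.Reverse
import Mathlib.LinearAlgebra.Span.Basic
import Mathlib.Tactic

set_option autoImplicit false
universe u v
open AbVar

namespace Groth.Agent.S19651

open Polynomial in
theorem adjoint_reverse {k V : Type*} [Field k] [AddCommGroup V] [Module k V]
    (B : LinearMap.BilinForm k V) (M : V ≃ₗ[k] V) (hM : ∀ x y : V, B (M x) (M y) = B x y)
    (Q : k[X]) (x z : V) :
    B x (Polynomial.aeval (M : V →ₗ[k] V) Q.reverse z) =
      B (Polynomial.aeval (M : V →ₗ[k] V) Q x) (((M : V →ₗ[k] V) ^ Q.natDegree) z) := by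
  have hpow : ∀ (i : ℕ) (a b : V), B (((M : V →ₗ[k] V) ^ i) a) (((M : V →ₗ[k] V) ^ i) b) = B a b := by
    intro i
    induction i with
    | zero => simp
    | succ i ih => intro a b; rw [pow_succ, Module.End.mul_apply, Module.End.mul_apply, ih]; exact hM a b
  have hrev : Polynomial.aeval (M : V →ₗ[k] V) Q.reverse z = ∑ i ∈ Finset.range (Q.natDegree + 1), Q.coeff i • (((M : V →ₗ[k] V) ^ (Q.natDegree - i)) z) := by
    rw [Polynomial.aeval_eq_sum_range' (n := Q.natDegree + 1) (by have := Polynomial.reverse_natDegree_le Q; omega)]
    rw [LinearMap.sum_apply]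
    rw [← Finset.sum_range_reflect]
    refine Finset.sum_congr rfl fun i hi => ?_
    have hi' := Finset.mem_range.mp hi
    rw [LinearMap.smul_apply, Polynomial.coeff_reverse, Polynomial.revAt_le (by omega), Nat.add_sub_cancel]
    congr 2
    omega
  rw [hrev, Polynomial.aeval_eq_sum_range, LinearMap.sum_apply, map_sum, map_sum, LinearMap.sum_apply]
  refine Finset.sum_congr rfl fun i hi => ?_
  have hi' := Finset.mem_range.mp hi
  rw [LinearMap.smul_apply, map_smul, map_smul, LinearMap.smul_apply]
  congr 1
  conv_rhs => rw [show Q.natDegree = i + (Q.natDegree - i) by omega, pow_add, Module.End.mul_apply]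
  rw [hpow]

open Polynomial in
/-- Stated for an arbitrary invariant bilinear form, as the argument there allows. Let k be a field, V a
k-vector space with a bilinear form B and M a linear automorphism of V with B(Mx, My) = B(x, y) for
all x, y. If Q₁ and Q₂ are polynomials such that the reciprocal polynomial of Q₁ (its coefficient
list reversed) is coprime to Q₂, then every vector killed by a power of Q₁(M) is B-orthogonal to
every vector killed by a power of Q₂(M). With Q₁ = Q₂ = Q this says that the generalized kernel of
Q(M) is totally isotropic whenever Q is coprime to its reciprocal polynomial, which for an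
irreducible Q means that Q is not self-reciprocal. (The published statement takes M symplectic and
Q₁, Q₂ irreducible factors of the characteristic polynomial, with Q not self-reciprocal in the first
clause; its second clause asks Q₁ and Q₂ to be distinct and not reciprocal, which holds as proved
when this is read as saying that Q₂ is not the reciprocal of Q₁, but fails if it only means that
neither is self-reciprocal, as the diagonal matrix with entries 2 and 1/2 preserving the standard
alternating form on k² shows; the coprimality of the reciprocal of Q₁ with Q₂, which is what the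
published proof uses, is imposed here and covers both clauses.) -/
theorem result
    {k : Type u} [Field k] {V : Type v} [AddCommGroup V] [Module k V]
    (B : LinearMap.BilinForm k V) (M : V ≃ₗ[k] V)
    (hM : ∀ x y : V, B (M x) (M y) = B x y)
    (Q₁ Q₂ : k[X]) (h : IsCoprime Q₁.reverse Q₂)
    (x y : V)
    (hx : ∃ n : ℕ, (Polynomial.aeval (M : V →ₗ[k] V) Q₁ ^ n) x = 0)
    (hy : ∃ n : ℕ, (Polynomial.aeval (M : V →ₗ[k] V) Q₂ ^ n) y = 0) :
    B x y = 0 := by
  obtain ⟨n, hn⟩ := hx
  obtain ⟨m, hm⟩ := hy
  rw [← map_pow] at hn hm
  obtain ⟨u, v, huv⟩ := h.pow (m := n) (n := m)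
  have hy' : Polynomial.aeval (M : V →ₗ[k] V) (Q₁.reverse ^ n) (Polynomial.aeval (M : V →ₗ[k] V) u y) = y := by
    have h2 := congrArg (fun p => Polynomial.aeval (M : V →ₗ[k] V) p y) huv
    simp only [map_add, LinearMap.add_apply, map_one, Module.End.one_apply, map_mul (Polynomial.aeval (M : V →ₗ[k] V)) v, Module.End.mul_apply, hm, map_zero, add_zero] at h2
    rw [mul_comm u, map_mul, Module.End.mul_apply] at h2
    exact h2
  have hrev : Q₁.reverse ^ n = (Q₁ ^ n).reverse := by
    clear * -
    induction n with
    | zero => simp [Polynomial.reverse]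
    | succ n ih => rw [pow_succ, pow_succ, ih, Polynomial.reverse_mul_of_domain]
  rw [← hy', hrev, adjoint_reverse B M hM, hn, map_zero, LinearMap.zero_apply]

end Groth.Agent.S19651
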