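import Groth.Statements.S19652
import Mathlib

set_option autoImplicit false
universe u v
open AbVar

namespace Groth.Agent.S19652

open Polynomial in

open Polynomial in
/-- Stated for an arbitrary invariant nondegenerate bilinear form, as the argument there allows. Let k
be a field, V a finite-dimensional k-vector space with a nondegenerate bilinear form B and M a
linear automorphism of V with B(Mx, My) = B(x, y) for all x, y. If Q is a polynomial associated to
its own reciprocal polynomial (its coefficient list reversed), then B restricted to the generalized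
kernel of Q(M), the union of the kernels of the powers Q(M)^n, is nondegenerate. (The published
statement takes M symplectic and Q a self-reciprocal divisor of the characteristic polynomial;
divisibility plays no role and is not assumed.) -/
theorem result
    {k : Type u} [Field k] {V : Type v} [AddCommGroup V] [Module k V] [FiniteDimensional k V]
    (B : LinearMap.BilinForm k V) (hB : B.Nondegenerate) (M : V ≃ₗ[k] V)
    (hM : ∀ x y : V, B (M x) (M y) = B x y)
    (Q : k[X]) (hQ : Associated Q Q.reverse) :
    (B.restrict (⨆ n : ℕ, LinearMap.ker (Polynomial.aeval (M : V →ₗ[k] V) Q ^ n))).Nondegenerate := by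
  classical
  set T : V →ₗ[k] V := (M : V →ₗ[k] V) with hT
  set Ti : V →ₗ[k] V := (M.symm : V →ₗ[k] V) with hTi
  have hTiT : Ti * T = 1 := by ext x; simp [hT, hTi]
  have hadj : ∀ (B' : LinearMap.BilinForm k V), (∀ x y : V, B' (M x) (M y) = B' x y) →
      ∀ (p : k[X]) (x z : V), B' x (aeval T p z) = B' (aeval Ti p x) z := by
    intro B' hM' p
    induction p using Polynomial.induction_on with
    | C a => intro x z; simp [Module.algebraMap_end_apply]
    | add p q hp hq => intro x z; simp [map_add, hp, hq]
    | monomial n a ih =>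
      intro x z
      rw [pow_succ, ← mul_assoc, map_mul (aeval T), aeval_X, Module.End.mul_apply, ih,
        show aeval Ti (C a * X ^ n * X) = Ti * aeval Ti (C a * X ^ n) by
          rw [mul_comm (C a * X ^ n) X, map_mul, aeval_X], Module.End.mul_apply]
      rw [← hM' (Ti _) z]
      simp [hT, hTi]
  obtain ⟨N, hN⟩ := Filter.eventually_atTop.mp
    ((aeval T Q).eventually_iSup_ker_pow_eq.and (aeval T Q).eventually_isCompl_ker_pow_range_pow)
  obtain ⟨hsup, hc⟩ := hN N le_rfl
  -- `Q(M⁻¹)` and `Q(M)` have the same kernels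
  obtain ⟨u, hu⟩ := hQ
  obtain ⟨c, hcu, hc'⟩ := Polynomial.isUnit_iff.mp u.isUnit
  have hkey : T ^ Q.natDegree * aeval Ti Q = aeval T Q.reverse := by
    rw [aeval_eq_sum_range (S := Module.End k V) (p := Q) Ti,
      aeval_eq_sum_range' (S := Module.End k V) (n := Q.natDegree + 1)
        (Nat.lt_succ_of_le (reverse_natDegree_le Q)) T, Finset.mul_sum]
    conv_rhs => rw [← Finset.sum_range_reflect]
    refine Finset.sum_congr rfl fun i hi => ?_
    have hi' : i ≤ Q.natDegree := Nat.lt_succ_iff.mp (Finset.mem_range.mp hi)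
    rw [coeff_reverse, revAt_le (by omega),
      show Q.natDegree - (Q.natDegree + 1 - 1 - i) = i by omega,
      show Q.natDegree + 1 - 1 - i = Q.natDegree - i by omega]
    conv_lhs => rw [← Nat.sub_add_cancel hi', pow_add, mul_smul_comm, mul_assoc]
    have hcomm : Commute T Ti := by
      show T * Ti = Ti * T
      ext x; simp [hT, hTi]
    rw [← hcomm.mul_pow, show T * Ti = 1 by ext x; simp [hT, hTi], one_pow, mul_one]
  have hkill : ∀ x, (aeval T Q ^ N) x = 0 → (aeval Ti Q ^ N) x = 0 := by
    intro x hx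
    have hcommQ : Commute (T ^ Q.natDegree) (aeval Ti Q) := by
      refine (Commute.pow_left ?_ _)
      rw [aeval_eq_sum_range (S := Module.End k V) (p := Q) Ti]
      refine Commute.sum_right _ _ _ fun i _ => Commute.smul_right (Commute.pow_right ?_ i) _
      show T * Ti = Ti * T
      ext y; simp [hT, hTi]
    have h1 : (T ^ Q.natDegree) ^ N * aeval Ti Q ^ N = algebraMap k _ (c ^ N) * aeval T Q ^ N := by
      rw [← hcommQ.mul_pow, hkey, ← hu, ← hc', map_mul, aeval_C, ← map_pow,
        ← (Algebra.commutes c (aeval T Q)), map_pow]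
      rw [map_pow]
      exact (Algebra.commute_algebraMap_left c (aeval T Q)).mul_pow N
    have h2 : ((T ^ Q.natDegree) ^ N) ((aeval Ti Q ^ N) x) = 0 := by
      rw [← Module.End.mul_apply, h1, Module.End.mul_apply, hx, map_zero]
    have hinj : ∀ j, Function.Injective (⇑(T ^ j)) := fun j => by
      rw [Module.End.coe_pow]; exact M.injective.iterate j
    rw [← pow_mul] at h2
    exact hinj _ (h2.trans (map_zero _).symm)
  have hpow : ∀ (S : Module.End k V), aeval S Q ^ N = aeval S (Q ^ N) := fun S =>
    (map_pow (aeval S) Q N).symm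
  rw [hsup]
  refine ⟨fun x hx => Subtype.ext (hB.1 x.1 fun y => ?_),
    fun x hx => Subtype.ext (hB.2 x.1 fun y => ?_)⟩
  · obtain ⟨s, t, hs, ht, rfl⟩ := Submodule.mem_sup.mp
      (hc.sup_eq_top ▸ Submodule.mem_top : y ∈ _ ⊔ _) |> fun ⟨s, hs, t, ht, e⟩ =>
        (⟨s, t, hs, ht, e.symm⟩ : ∃ s t, s ∈ LinearMap.ker (aeval T Q ^ N) ∧
          t ∈ LinearMap.range (aeval T Q ^ N) ∧ y = s + t)
    obtain ⟨z, rfl⟩ := ht
    have h0 : B x.1 s = 0 := hx ⟨s, hs⟩
    rw [map_add, h0, zero_add, show (aeval T Q ^ N) z = aeval T (Q ^ N) z by rw [hpow],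
      hadj B hM, ← hpow, hkill _ x.2, map_zero, LinearMap.zero_apply]
  · obtain ⟨s, t, hs, ht, rfl⟩ := Submodule.mem_sup.mp
      (hc.sup_eq_top ▸ Submodule.mem_top : y ∈ _ ⊔ _) |> fun ⟨s, hs, t, ht, e⟩ =>
        (⟨s, t, hs, ht, e.symm⟩ : ∃ s t, s ∈ LinearMap.ker (aeval T Q ^ N) ∧
          t ∈ LinearMap.range (aeval T Q ^ N) ∧ y = s + t)
    obtain ⟨z, rfl⟩ := ht
    have h0 : B s x.1 = 0 := hx ⟨s, hs⟩
    have hadj' : ∀ (p : k[X]) (a b : V), B (aeval T p a) b = B a (aeval Ti p b) :=
      fun p a b => hadj B.flip (fun u v => hM v u) p b a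
    rw [map_add, LinearMap.add_apply, h0, zero_add,
      show (aeval T Q ^ N) z = aeval T (Q ^ N) z by rw [hpow], hadj', ← hpow, hkill _ x.2, map_zero]

end Groth.Agent.S19652
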