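import Groth.Statements.S19654
import Groth.Agent.H28AbExt.Main

set_option autoImplicit false
set_option linter.style.haveILetI false
set_option backward.isDefEq.respectTransparency false
set_option backward.isDefEq.respectTransparency.types false
universe u
open Groth.Agent
open CategoryTheory CategoryTheory.Limits MonoidalCategory CartesianMonoidalCategory AlgebraicGeometry
open AbSch

namespace Groth.Agent.S19654

/-- Let S be a scheme and A an abelian scheme over S, that is an S-group scheme which is proper, smooth
and has geometrically connected fibres. Let T be a regular scheme (locally Noetherian with regular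
local rings) with a morphism t : T → S, U a dense open subscheme of T and g : U → A a morphism
compatible with the maps to S. Then there is a unique S-morphism T → A restricting to g on U; in
other words a rational S-map from a regular scheme to an abelian scheme is defined everywhere. -/
theorem result
    {S : Scheme.{u}} (A : Over S) [GrpObj A] [IsProper A.hom] [Smooth A.hom]
    [GeometricallyConnected A.hom]
    (T : Scheme.{u}) (t : T ⟶ S) [IsLocallyNoetherian T] (hT : Models.IsRegularScheme T)
    (U : T.Opens) (hU : Dense (U : Set T))
    (g : (U : Scheme.{u}) ⟶ A.left) (hg : g ≫ A.hom = U.ι ≫ t) :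
    ∃! g' : T ⟶ A.left, g' ≫ A.hom = t ∧ U.ι ≫ g' = g := by
  have hred : IsReduced T := by
    haveI : ∀ x : T, IsDomain (T.presheaf.stalk x) := fun x => by
      haveI := hT x
      exact H4Depth.isDomain_of_isRegularLocalRing _
    haveI : ∀ x : T, _root_.IsReduced (T.presheaf.stalk x) := fun x => inferInstance
    exact isReduced_of_isReduced_stalk T
  have hp := (H28AbExt.noP1_abScheme A).of_isPullback (IsPullback.of_hasPullback A.hom t)
  obtain ⟨g₀, hg₀, hUg⟩ := H28AbExt.exists_extension hT (pullback.snd A.hom t) hp U hU
    (pullback.lift g U.ι hg) (pullback.lift_snd _ _ _)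
  refine ⟨g₀ ≫ pullback.fst A.hom t, ⟨?_, ?_⟩, ?_⟩
  · rw [Category.assoc, pullback.condition, reassoc_of% hg₀]
  · rw [reassoc_of% hUg, pullback.lift_fst]
  · rintro g' ⟨h1, h2⟩
    haveI : IsDominant U.ι := ⟨by rw [DenseRange, Scheme.Opens.range_ι]; exact hU⟩
    refine ext_of_isDominant_of_isSeparated A.hom ?_ U.ι ?_
    · rw [h1, Category.assoc, pullback.condition, reassoc_of% hg₀]
    · rw [h2, reassoc_of% hUg, pullback.lift_fst]

end Groth.Agent.S19654
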