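import Groth.Statements.S19655
import Groth.Agent.H28Neron.Spread

set_option autoImplicit false
universe u
open CategoryTheory CategoryTheory.Limits MonoidalCategory CartesianMonoidalCategory AlgebraicGeometry
open Neron

namespace Groth.Agent.S19655

/-- Let R be a Dedekind domain with fraction field K, A an abelian variety over K (a proper smooth
geometrically connected K-group scheme) and N a Néron model of A over Spec R. Then for every smooth
R-scheme Y, every K-morphism to A defined on a dense open subscheme of the generic fibre of Y is the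
restriction of exactly one R-morphism Y → N: K-rational maps from smooth R-schemes to A extend
uniquely to the Néron model. (The text works over a connected Dedekind scheme; the affine case is
stated.) -/
theorem result
    (R : Type u) [CommRing R] [IsDedekindDomain R]
    (N : Over (Spec (CommRingCat.of R))) (A : Over (Spec (CommRingCat.of (FractionRing R))))
    (e : (Neron.genericFibre R).obj N ≅ A) (hN : Neron.IsNeronModelOf R N A e)
    [GrpObj A] [IsProper A.hom] [Smooth A.hom] [GeometricallyConnected A.hom]
    (Y : Over (Spec (CommRingCat.of R))) [Smooth Y.hom]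
    (W : ((Neron.genericFibre R).obj Y).left.Opens) (hW : Dense (W : Set ↥((Neron.genericFibre R).obj Y).left))
    (g : (W : Scheme.{u}) ⟶ A.left) (hg : g ≫ A.hom = W.ι ≫ ((Neron.genericFibre R).obj Y).hom) :
    ∃! h : Y ⟶ N, W.ι ≫ ((Neron.genericFibre R).map h ≫ e.hom).left = g := by
  obtain ⟨-, -, -, -, hbij⟩ := hN
  haveI : GrpObj (Over.mk A.hom) := ‹GrpObj A›
  haveI hYK : Smooth ((Neron.genericFibre R).obj Y).hom :=
    MorphismProperty.of_isPullback (CategoryTheory.IsPullback.of_hasPullback Y.hom (Neron.genPt R)) ‹_›
  have hfib : ∀ x : ((Neron.genericFibre R).obj Y).left, x ∈ closure ((W : Set _) ∩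
      {y | ((Neron.genericFibre R).obj Y).hom y = ((Neron.genericFibre R).obj Y).hom x}) := fun x => by
    have hsub : (W : Set _) ⊆ {y | ((Neron.genericFibre R).obj Y).hom y = ((Neron.genericFibre R).obj Y).hom x} :=
      fun y _ => Subsingleton.elim (α := PrimeSpectrum (FractionRing R)) _ _
    rw [Set.inter_eq_left.mpr hsub]
    exact hW x
  obtain ⟨k, ⟨hk1, hk2⟩, huniq⟩ := Groth.Agent.H28Neron.extension_to_proper_group
    ((Neron.genericFibre R).obj Y).hom A.hom W hfib g hg
  obtain ⟨h, hh⟩ := (hbij Y ‹_›).2 (Over.homMk k hk1)
  refine ⟨h, ?_, fun h' hh' => (hbij Y ‹_›).1 ?_⟩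
  · simp only at hh ⊢
    rw [hh]
    exact hk2
  · refine Eq.trans ?_ hh.symm
    ext1
    exact huniq _ ⟨Over.w ((Neron.genericFibre R).map h' ≫ e.hom), hh'⟩

end Groth.Agent.S19655
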