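import Groth.Statements.S19658
import Groth.Agent.H28Neron.HenselSection
import Groth.Agent.H19Grp.EtaleFibres
import Groth.Agent.H19Grp.UnramifiedEndo

set_option autoImplicit false
set_option backward.isDefEq.respectTransparency false
set_option linter.style.haveILetI false
universe u
open CategoryTheory CategoryTheory.Limits MonoidalCategory CartesianMonoidalCategory AlgebraicGeometry MonObj
open Neron

namespace Groth.Agent.S19658

/-- The first display of the lemma, in the generality its argument gives. Let R be a henselian local
ring with residue field k, G a commutative group scheme over Spec R that is smooth, separated and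
quasi-compact, and N a natural number which is a unit in R. Then every k-valued point of G killed by
N lifts to exactly one R-valued point of G killed by N; that is, reduction G(R)[N] → G(k)[N] is a
bijection on N-torsion. (The text applies this to the Néron model of an abelian variety over a
henselian discrete valuation ring, where G(R) = A(K).) -/
theorem result
    (R : Type u) [CommRing R] [HenselianLocalRing R]
    (G : Over (Spec (CommRingCat.of R))) [GrpObj G] [IsCommMonObj G]
    [Smooth G.hom] [IsSeparated G.hom] [QuasiCompact G.hom]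
    (N : ℕ) (hN : IsUnit (N : R))
    (τ : Over.mk (Spec.map (CommRingCat.ofHom (IsLocalRing.residue R))) ⟶ G)
    (hτ : τ ∈ AbDual.torsPts G N (Over.mk (Spec.map (CommRingCat.ofHom (IsLocalRing.residue R))))) :
    ∃! σ : Over.mk (𝟙 (Spec (CommRingCat.of R))) ⟶ G,
      σ ∈ AbDual.torsPts G N (Over.mk (𝟙 (Spec (CommRingCat.of R)))) ∧
        Over.homMk (Spec.map (CommRingCat.ofHom (IsLocalRing.residue R))) (Category.comp_id _) ≫ σ = τ := by
  classical
  set p : G ⟶ G := (𝟙 G : G ⟶ G) ^ N with hp
  haveI : Smooth (p.left ≫ G.hom) := by rw [Over.w p]; infer_instance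
  haveI het : Etale p.left := by
    refine H19Grp.etale_of_etale_fibres p.left G.hom fun K _ x => ?_
    let F := Over.pullback x
    let GK : Over (Spec (CommRingCat.of K)) := F.obj G
    letI : GrpObj GK := Functor.grpObjObj
    haveI : IsCommMonObj GK := inferInstanceAs (IsCommMonObj (F.obj G))
    haveI : Smooth GK.hom := inferInstanceAs (Smooth (pullback.snd G.hom x))
    have hnK : ((N : ℤ) : K) ≠ 0 := by
      have h := hN.map ((Scheme.ΓSpecIso (CommRingCat.of K)).hom.hom.comp
        (x.appTop.hom.comp (Scheme.ΓSpecIso (CommRingCat.of R)).inv.hom))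
      rw [map_natCast] at h
      exact_mod_cast h.ne_zero
    haveI := H19Grp.etale_zpow_field GK (N : ℤ) hnK
    have hmap : F.map p = 𝟙 GK ^ (N : ℤ) := by
      have := map_pow (Functor.homMonoidHom F (X := G) (M := G)) (𝟙 G) N
      rw [zpow_natCast]
      simpa using this
    haveI : Etale (F.map p).left := by rw [hmap]; infer_instance
    have hsq : IsPullback (pullback.fst G.hom x) (F.map p).left p.left (pullback.fst G.hom x) := by
      refine IsPullback.of_bot ?_ ?_ (IsPullback.of_hasPullback G.hom x)
      · rw [Over.w p]
        erw [Over.w (F.map p)]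
        exact IsPullback.of_hasPullback G.hom x
      · simp [F, Over.pullback]
    rw [show pullback.snd p.left (pullback.fst G.hom x) = hsq.isoPullback.inv ≫ (F.map p).left
      from hsq.isoPullback_inv_snd.symm]
    infer_instance
  have hone : ∀ (T : Over (Spec (CommRingCat.of R))), (1 : T ⟶ G).left = T.hom ≫ (η[G]).left := fun T => rfl
  have hpts : ∀ {T : Over (Spec (CommRingCat.of R))} (b : T ⟶ G),
      b ∈ AbDual.torsPts G N T ↔ b.left ≫ p.left = T.hom ≫ (η[G]).left := by
    intro T b
    rw [AbDual.mem_torsPts, ← Over.comp_left, ← hone]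
    have : b ≫ p = b ^ N := by rw [hp, comp_pow, Category.comp_id]
    rw [this]
    exact ⟨fun h => by rw [h], fun h => Over.OverMorphism.ext h⟩
  let g := pullback.snd p.left (η[G]).left
  haveI : Etale g := inferInstanceAs (Etale (pullback.snd p.left (η[G]).left))
  let a := pullback.lift (f := p.left) (g := (η[G]).left) τ.left (Spec.map (CommRingCat.ofHom (IsLocalRing.residue R))) ((hpts τ).1 hτ)
  obtain ⟨s, ⟨hs1, hs2⟩, hsu⟩ := H28Neron.existsUnique_section g a (pullback.lift_snd _ _ _)
  have hηw : (η[G]).left ≫ G.hom = 𝟙 (Spec (CommRingCat.of R)) := Over.w η[G]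
  have hfg : pullback.fst p.left (η[G]).left ≫ G.hom = g := by
    rw [← Over.w p, pullback.condition_assoc, hηw]; exact Category.comp_id _
  refine ⟨Over.homMk (s ≫ pullback.fst p.left (η[G]).left) (by rw [Category.assoc, hfg, hs1]; rfl), ⟨(hpts _).2 ?_, ?_⟩, ?_⟩
  · show (s ≫ pullback.fst p.left (η[G]).left) ≫ p.left = 𝟙 _ ≫ (η[G]).left
    rw [Category.assoc, pullback.condition, ← Category.assoc]; erw [hs1]; rfl
  · refine Over.OverMorphism.ext ?_
    show Spec.map (CommRingCat.ofHom (IsLocalRing.residue R)) ≫ s ≫ pullback.fst p.left (η[G]).left = τ.left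
    rw [← Category.assoc, hs2]
    exact pullback.lift_fst _ _ _
  · rintro σ ⟨hσ, hστ⟩
    let s' := pullback.lift (f := p.left) (g := (η[G]).left) σ.left (𝟙 _) ((hpts σ).1 hσ)
    have hs' : s' = s := hsu s' ⟨pullback.lift_snd _ _ _, by
      apply pullback.hom_ext
      · rw [Category.assoc, pullback.lift_fst, pullback.lift_fst]
        exact congrArg (fun m => m.left) hστ
      · rw [Category.assoc, pullback.lift_snd, pullback.lift_snd]; exact Category.comp_id _⟩
    refine Over.OverMorphism.ext ?_
    show σ.left = s ≫ pullback.fst p.left (η[G]).left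
    rw [← hs']
    exact (pullback.lift_fst _ _ _).symm

end Groth.Agent.S19658
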