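import Groth.Statements.S19659
import Mathlib
import Groth.Agent.H8Props.FibreIsoLocus
import Groth.Agent.H19Grp.HomFlat

set_option autoImplicit false
set_option linter.style.haveILetI false
set_option backward.isDefEq.respectTransparency false
universe u
open CategoryTheory CategoryTheory.Limits MonoidalCategory CartesianMonoidalCategory MonObj GrpObj AlgebraicGeometry
open AbSch

namespace Groth.Agent.S19659

/-- Let S be a scheme, A and B abelian schemes over S (proper smooth S-group schemes with geometrically
connected fibres) and f : A → B a homomorphism. Then f is flat exactly when it is surjective. -/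
theorem result
    {S : Scheme.{u}} (A B : Over S) [GrpObj A] [IsProper A.hom] [Smooth A.hom] [GeometricallyConnected A.hom]
    [GrpObj B] [IsProper B.hom] [Smooth B.hom] [GeometricallyConnected B.hom]
    (f : A ⟶ B) [IsMonHom f] :
    Flat f.left ↔ Surjective f.left := by
  haveI : IsProper f.left := by
    haveI : IsProper (f.left ≫ B.hom) := by rw [Over.w f]; infer_instance
    exact IsProper.of_comp f.left B.hom
  haveI : LocallyOfFinitePresentation (f.left ≫ B.hom) := by rw [Over.w f]; infer_instance
  haveI : LocallyOfFinitePresentation f.left := Groth.Agent.H12AlgSp.lfp_of_comp f.left B.hom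
  constructor
  · intro _
    refine ⟨fun b => ?_⟩
    let s := B.hom b
    have hclo : IsClopen (B.hom.fiberι s ⁻¹' Set.range f.left) :=
      ⟨f.left.isClosedMap.isClosed_range.preimage (B.hom.fiberι s).continuous,
        f.left.isOpenMap.isOpen_range.preimage (B.hom.fiberι s).continuous⟩
    have hb : (η[B]).left s = f.left ((η[A]).left s) := by
      rw [← Scheme.Hom.comp_apply, ← Over.comp_left, IsMonHom.one_hom (f := f)]
    have hs : B.hom ((η[B]).left s) = s := by
      rw [← Scheme.Hom.comp_apply, Over.w η[B]]; rfl
    obtain ⟨z, hz⟩ : (η[B]).left s ∈ Set.range (B.hom.fiberι s) := by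
      rw [Scheme.Hom.range_fiberι]; exact hs
    obtain ⟨w, hw⟩ : b ∈ Set.range (B.hom.fiberι s) := by
      rw [Scheme.Hom.range_fiberι]; rfl
    have huniv := hclo.eq_univ ⟨z, (η[A]).left s, (hb.symm.trans hz.symm)⟩
    have := Set.eq_univ_iff_forall.1 huniv w
    rw [Set.mem_preimage, hw] at this
    exact this
  · intro _
    have e : f.left ≫ B.hom = A.hom := Over.w f
    haveI : LocallyOfFinitePresentation (f.left ≫ B.hom) := by rw [e]; infer_instance
    haveI : Flat (f.left ≫ B.hom) := by rw [e]; infer_instance
    refine Flat.of_stalkMap f.left fun x => ?_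
    let s := (f.left ≫ B.hom) x
    let σs := S.fromSpecResidueField s
    let F := Over.pullback σs
    let : GrpObj (F.obj A) := Functor.grpObjObj
    let : GrpObj (F.obj B) := Functor.grpObjObj
    haveI : IsMonHom (F.map f) := inferInstance
    haveI : LocallyOfFiniteType (F.obj A).hom :=
      inferInstanceAs (LocallyOfFiniteType (pullback.snd A.hom σs))
    haveI : Smooth (F.obj B).hom := inferInstanceAs (Smooth (pullback.snd B.hom σs))
    have hsq : IsPullback (pullback.fst A.hom σs) (F.map f).left f.left (pullback.fst B.hom σs) := by
      refine IsPullback.of_bot ?_ ?_ (IsPullback.of_hasPullback B.hom σs)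
      · simpa [F] using IsPullback.of_hasPullback A.hom σs
      · simp [F]
    haveI : QuasiCompact (F.map f).left := MorphismProperty.of_isPullback hsq inferInstance
    haveI : Surjective (F.map f).left := MorphismProperty.of_isPullback hsq inferInstance
    haveI : Flat (F.map f).left := H19Grp.flat_of_surjective (K := S.residueField s) (F.map f)
    have h2 : Flat (pullback.snd f.left (B.hom.fiberι s)) := by
      rw [← MorphismProperty.cancel_left_of_respectsIso @Flat hsq.isoPullback.hom]
      show Flat (hsq.isoPullback.hom ≫ pullback.snd f.left (pullback.fst B.hom σs))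
      rw [hsq.isoPullback_hom_snd]
      infer_instance
    haveI : Flat (MoreMor.fiberMap f.left B.hom s) :=
      H8Props.FibreCriterion.fiberMap_of_snd f.left B.hom s h2
    have h3 := H8Props.FibreCriterion.flat_stalkMap_of_fiberMap f.left B.hom s
      ((f.left ≫ B.hom).asFiber x) (Flat.stalkMap _ _)
    rw [Scheme.Hom.fiberι_asFiber] at h3
    exact h3.1

end Groth.Agent.S19659
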