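import Groth.Statements.S1966
import Groth.Agent.H9Hens.Limits
-- import your own Groth.Agent.* helpers here

set_option autoImplicit false
universe u
open EtAlg

namespace Groth.Agent.S1966

/-- Towers indexed by the natural numbers: let (A_k) be rings with surjective transition maps A_{k+1} ->
A_k whose kernels consist of nilpotent elements, and let A be a ring with compatible projections p_k
: A -> A_k identifying A with the set of compatible sequences (p is jointly injective and every
compatible sequence comes from an element of A). Then for every k the pair (A, ker p_k) is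
henselian. -/
theorem result (A : Type u) [CommRing A] (As : ℕ → Type u) [∀ k, CommRing (As k)]
    (t : ∀ k, As (k + 1) →+* As k) (ht : ∀ k, Function.Surjective (t k))
    (hnil : ∀ k (x : As (k + 1)), t k x = 0 → IsNilpotent x)
    (p : ∀ k, A →+* As k) (hp : ∀ k, (t k).comp (p (k + 1)) = p k)
    (hinj : ∀ a b : A, (∀ k, p k a = p k b) → a = b)
    (hsurj : ∀ x : ∀ k, As k, (∀ k, t k (x (k + 1)) = x k) → ∃ a : A, ∀ k, p k a = x k) (k : ℕ) :
    HenselianRing A (RingHom.ker (p k)) := by
  have hz : ∀ a ∈ RingHom.ker (p k), ∀ m, IsNilpotent (p m a) := by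
    intro a ha m
    have hlow : ∀ d m, m + d = k → p m a = 0 := by
      intro d
      induction d with
      | zero => intro m hm; obtain rfl : m = k := by omega
                exact RingHom.mem_ker.mp ha
      | succ d ih =>
        intro m hm
        rw [← hp m, RingHom.comp_apply, ih (m + 1) (by omega), map_zero]
    induction m with
    | zero => rw [hlow k 0 (by omega)]; exact IsNilpotent.zero
    | succ m ih =>
      obtain ⟨N, hN⟩ := ih
      rw [← hp m, RingHom.comp_apply, ← map_pow] at hN
      obtain ⟨M, hM⟩ := hnil m _ hN
      exact ⟨N * M, by rw [pow_mul, hM]⟩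
  have hJ : ∀ m, HenselianRing (As m) ((RingHom.ker (p k)).map (p m)) := fun m =>
    H9Hens.henselianRing_of_isNilpotent fun x hx => mem_nilradical.mp
      ((Ideal.map_le_iff_le_comap.mpr (fun a ha => (mem_nilradical.mpr (hz a ha m) : a ∈ (nilradical (As m)).comap (p m))) : _ ≤ nilradical (As m)) hx)
  have h := H9Hens.henselianRing_of_components p _ hJ (fun m => m + 1) id t
    (fun m => (le_of_eq (Ideal.map_map _ _)).trans (le_of_eq (by rw [hp m]; rfl))) hp hinj hsurj
  have he : RingHom.ker (p k) = ⨅ m, ((RingHom.ker (p k)).map (p m)).comap (p m) := by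
    refine le_antisymm (le_iInf fun m => Ideal.le_comap_map) ((iInf_le _ k).trans ?_)
    rw [(Ideal.map_eq_bot_iff_le_ker (p k)).mpr le_rfl, ← RingHom.ker_eq_comap_bot]
  rw [he]; exact h

end Groth.Agent.S1966
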