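import Groth.Statements.S19660
import Mathlib

set_option autoImplicit false
universe u v
open AbVar

namespace Groth.Agent.S19660

section
variable {k : Type u} [Field k] {V : Type v} [AddCommGroup V] [Module k V] (B : LinearMap.BilinForm k V)
  (q : k) (M : V ≃ₗ[k] V)

lemma orth_of_ne (hM : ∀ x y : V, B (M x) (M y) = q * B x y) {a b : k} (hab : a * b ≠ q) :
    ∀ (n : ℕ) (x y : V) (n₁ n₂ : ℕ), n₁ + n₂ ≤ n → (((M : Module.End k V) - a • 1) ^ n₁) x = 0 →
      (((M : Module.End k V) - b • 1) ^ n₂) y = 0 → B x y = 0 := by
  intro n
  induction n with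
  | zero =>
    intro x y n₁ n₂ h hx _
    obtain rfl : n₁ = 0 := by omega
    simp only [pow_zero, Module.End.one_apply] at hx
    simp [hx]
  | succ n ih =>
    intro x y n₁ n₂ h hx hy
    rcases n₁ with _ | n₁
    · simp only [pow_zero, Module.End.one_apply] at hx
      simp [hx]
    rcases n₂ with _ | n₂
    · simp only [pow_zero, Module.End.one_apply] at hy
      simp [hy]
    have hx' : (((M : Module.End k V) - a • 1) ^ n₁) (((M : Module.End k V) - a • 1) x) = 0 := by
      rw [← Module.End.mul_apply, ← pow_succ]; exact hx
    have hy' : (((M : Module.End k V) - b • 1) ^ n₂) (((M : Module.End k V) - b • 1) y) = 0 := by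
      rw [← Module.End.mul_apply, ← pow_succ]; exact hy
    have hMy : (((M : Module.End k V) - b • 1) ^ (n₂ + 1)) (M y) = 0 := by
      have hc : Commute (((M : Module.End k V) - b • 1) ^ (n₂ + 1)) (M : Module.End k V) :=
        ((Commute.refl _).sub_left ((Commute.one_left _).smul_left b)).pow_left _
      exact (congr($hc y)).trans (by rw [Module.End.mul_apply, hy, map_zero])
    have h1 := ih _ (M y) n₁ (n₂ + 1) (by omega) hx' hMy
    have h2 := ih x _ (n₁ + 1) n₂ (by omega) hx hy'
    simp only [LinearMap.sub_apply, LinearMap.smul_apply, Module.End.one_apply, LinearEquiv.coe_coe, map_sub,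
      map_smul, smul_eq_mul, hM] at h1 h2
    have : (q - a * b) * B x y = 0 := by linear_combination h1 + a * h2
    exact (mul_eq_zero.1 this).resolve_left (sub_ne_zero.2 fun h => hab h.symm)

lemma adjoint_pow (hM : ∀ x y : V, B (M x) (M y) = q * B x y) {a b : k} (hab : a * b = q) :
    ∀ (n : ℕ) (x z : V), B x ((((M : Module.End k V) - b • 1) ^ n) z) =
      (-b) ^ n * B ((((M.symm : Module.End k V) * ((M : Module.End k V) - a • 1)) ^ n) x) z := by
  intro n
  induction n with
  | zero => simp
  | succ n ih =>
    intro x z
    rw [pow_succ', Module.End.mul_apply, pow_succ (-b), pow_succ ((M.symm : Module.End k V) * _),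
      Module.End.mul_apply]
    have key : ∀ x w : V, B x (((M : Module.End k V) - b • 1) w) =
        -b * B (((M.symm : Module.End k V) * ((M : Module.End k V) - a • 1)) x) w := by
      intro x w
      have h1 := hM (M.symm x) w
      rw [M.apply_symm_apply] at h1
      simp only [Module.End.mul_apply, LinearMap.sub_apply, LinearMap.smul_apply, Module.End.one_apply,
        LinearEquiv.coe_coe, map_sub, map_smul, smul_eq_mul, M.symm_apply_apply]
      linear_combination h1 - (B (M.symm x) w) * hab
    rw [key, ih]
    ring

lemma eq_zero_of_orth [FiniteDimensional k V] (hB : ∀ x, (∀ y, B x y = 0) → x = 0)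
    (hM : ∀ x y : V, B (M x) (M y) = q * B x y) {a b : k} (hab : a * b = q) {x : V}
    (hx : x ∈ Module.End.maxGenEigenspace (M : Module.End k V) a)
    (h : ∀ y ∈ Module.End.maxGenEigenspace (M : Module.End k V) b, B x y = 0) : x = 0 := by
  obtain ⟨n, hn⟩ := Module.End.mem_maxGenEigenspace _ _ _ |>.1 hx
  obtain ⟨N, hN⟩ := Filter.eventually_atTop.1
    (LinearMap.eventually_isCompl_ker_pow_range_pow ((M : Module.End k V) - b • 1))
  refine hB x fun y => ?_
  obtain ⟨y₁, hy₁, y₂, ⟨z, rfl⟩, rfl⟩ := Submodule.mem_sup.1
    ((hN (N + n) (by omega)).sup_eq_top ▸ Submodule.mem_top : y ∈ LinearMap.ker _ ⊔ LinearMap.range _)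
  rw [map_add, h y₁ ((Module.End.mem_maxGenEigenspace _ _ _).2 ⟨N + n, hy₁⟩), adjoint_pow B q M hM hab]
  have hc : Commute (M.symm : Module.End k V) ((M : Module.End k V) - a • 1) := by
    refine Commute.sub_right ?_ ((Commute.one_right _).smul_right a)
    ext v
    simp
  rw [hc.mul_pow, Module.End.mul_apply, pow_add ((M : Module.End k V) - a • 1) N n, Module.End.mul_apply, hn]
  simp

end

/-- The text applies this to the Frobenius acting on the points of prime order of a principally
polarised abelian variety over a finite field with q elements and to their Weil pairing. Let k be a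
field, V a finite-dimensional k-vector space with a nondegenerate bilinear form B, q a nonzero
element of k and M a linear automorphism of V with B(Mx, My) = q·B(x, y) for all x, y. Write V₁ and
V_q for the generalized eigenspaces of M at 1 and at q. Then every vector of V₁ that is B-orthogonal
to all of V_q is zero, every vector of V_q that is B-orthogonal (on the right) to all of V₁ is zero,
and when q ≠ 1 the form B vanishes identically on V₁ × V₁ and on V_q × V_q. (The text asserts this
as the evident adaptation, to a form scaled by q, of the orthogonality and nondegeneracy facts for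
generalized kernels of an automorphism preserving a form; the abstract statement is recorded here,
the application to the Weil pairing needing that pairing's formalism.) -/
theorem result
    {k : Type u} [Field k] {V : Type v} [AddCommGroup V] [Module k V] [FiniteDimensional k V]
    (B : LinearMap.BilinForm k V) (hB : B.Nondegenerate) (q : k) (hq : q ≠ 0)
    (M : V ≃ₗ[k] V) (hM : ∀ x y : V, B (M x) (M y) = q * B x y) :
    (∀ x ∈ Module.End.maxGenEigenspace (M : Module.End k V) 1,
        (∀ y ∈ Module.End.maxGenEigenspace (M : Module.End k V) q, B x y = 0) → x = 0) ∧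
      (∀ y ∈ Module.End.maxGenEigenspace (M : Module.End k V) q,
        (∀ x ∈ Module.End.maxGenEigenspace (M : Module.End k V) 1, B x y = 0) → y = 0) ∧
      (q ≠ 1 → ∀ x ∈ Module.End.maxGenEigenspace (M : Module.End k V) 1,
        ∀ x' ∈ Module.End.maxGenEigenspace (M : Module.End k V) 1, B x x' = 0) ∧
      (q ≠ 1 → ∀ y ∈ Module.End.maxGenEigenspace (M : Module.End k V) q,
        ∀ y' ∈ Module.End.maxGenEigenspace (M : Module.End k V) q, B y y' = 0) := by
  refine ⟨fun x hx h => eq_zero_of_orth B q M (fun x hx => hB.1 x hx) hM (one_mul q) hx h,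
    fun y hy h => eq_zero_of_orth B.flip q M (fun x hx => hB.2 x hx) (fun x y => hM y x) (mul_one q) hy h,
    fun hq1 x hx x' hx' => ?_, fun hq1 x hx x' hx' => ?_⟩
  all_goals
    obtain ⟨n₁, h₁⟩ := Module.End.mem_maxGenEigenspace _ _ _ |>.1 hx
    obtain ⟨n₂, h₂⟩ := Module.End.mem_maxGenEigenspace _ _ _ |>.1 hx'
    refine orth_of_ne B q M hM ?_ _ x x' n₁ n₂ le_rfl h₁ h₂
  · rw [one_mul]; exact fun h => hq1 h.symm
  · intro h
    exact hq1 (mul_left_cancel₀ hq (by rw [h, mul_one]))

end Groth.Agent.S19660
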