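import Groth.Statements.S19662
import Groth.Agent.H26Gr.FreeGrass
import Groth.Agent.H26Gr.Quotient
import Groth.Agent.H26Gr.Local
import Groth.Agent.H10Coh.FinType2

set_option autoImplicit false
universe u
open CategoryTheory CategoryTheory.Limits AlgebraicGeometry
open Grass

namespace Groth.Agent.S19662

/-- Let `X` be a scheme, `E` a quasi-coherent `O_X`-module of finite type and `e ≥ 0`. Then there is a
Grassmannian of rank-`e` locally free quotients of `E`: a scheme `G` over `X` with a finite locally
free quotient `q : π^* E ⟶ Q` of rank `e` such that every rank-`e` locally free quotient of the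
inverse image of `E` on any scheme over `X` is the base change of `q` along a unique morphism to `G`
over `X`, up to a compatible isomorphism. (The published statement is for an arbitrary
quasi-coherent module; the printed argument treats modules of finite type, the case stated here. The
base is an arbitrary scheme; the form over an affine base through points in affine schemes is a
separate statement.) -/
theorem result (X : Scheme.{u}) (E : X.Modules) (hE : Coh.IsCoh E) (e : ℕ) :
    ∃ (G : Scheme.{u}) (π : G ⟶ X) (Q : G.Modules) (q : (Scheme.Modules.pullback π).obj E ⟶ Q),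
      Grass.IsGrass π E e Q q := by
    have key : ∀ x : X, ∃ (U : X.Opens), x ∈ U ∧ ∃ (G : Scheme.{u}) (π : G ⟶ (U : Scheme.{u})) (Q : G.Modules)
        (q : (Scheme.Modules.pullback π).obj ((Scheme.Modules.pullback U.ι).obj E) ⟶ Q),
          Grass.IsGrass π ((Scheme.Modules.pullback U.ι).obj E) e Q q := by
      intro x
      obtain ⟨U, hx, S, hS⟩ := Groth.Agent.H10Coh.exists_generators_nhd E hE.2 x
      haveI : Finite S.I := hS
      haveI := Fintype.ofFinite S.I
      haveI : Epi S.π := S.epi
      let n := Fintype.card S.I
      let v := (Sigma.whiskerEquiv (f := fun _ : S.I => Coh.structureModule (U : Scheme.{u}))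
        (g := fun _ : Fin n => Coh.structureModule (U : Scheme.{u})) (Fintype.equivFin S.I)
        fun _ => Iso.refl _).inv ≫ S.π
      haveI : Epi v := by refine @epi_comp _ _ _ _ _ _ ?_ _ ?_; exacts [inferInstance, S.epi]
      obtain ⟨G₁, π₁, Q₁, q₁, hG₁⟩ := Groth.Agent.H26Gr.exists_isGrass_of_isRepresentable
        (Groth.Agent.H26Gr.isRepresentable_qfun_free (U : Scheme.{u}) n e)
      exact ⟨U, hx, Groth.Agent.H26Gr.exists_isGrass_of_epi (Groth.Agent.H29Fitt.isQuasicoherent_freeMod _ n)
        (Groth.Agent.H29Fitt.isQCoh_pullback U.ι E hE.1)
        (v ≫ ((Scheme.Modules.restrictFunctorIsoPullback U.ι).app E).hom) hG₁⟩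
    choose U hU hG using key
    exact Groth.Agent.H26Gr.exists_isGrass_of_isRepresentable
      (Groth.Agent.H26Gr.isRepresentable_of_local U (fun x => ⟨x, hU x⟩) hG)

end Groth.Agent.S19662
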