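import Groth.Statements.S7143
import Groth.Agent.H9WE.WeakDim
-- import your own Groth.Agent.* helpers here

set_option autoImplicit false
universe u
open CategoryTheory
open EtAlg

namespace Groth.Agent.S7143

/-- Every normal domain A with fraction field K is the fibre product V ×_L K for suitable rings V and L
with maps A → V, V → L, K → L (together with the given A → K), where every ideal of V is flat (weak
dimension at most one) and V → L is flat, injective and an epimorphism of rings. -/
theorem result (A K : Type u) [CommRing A] [IsDomain A] [Field K] [Algebra A K]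
    [IsFractionRing A K] [IsIntegrallyClosed A] :
    ∃ (V L : Type u) (_ : CommRing V) (_ : CommRing L) (f : A →+* V) (g : V →+* L) (h : K →+* L),
      g.comp f = h.comp (algebraMap A K) ∧
      (∀ I : Ideal V, Module.Flat V I) ∧ g.Flat ∧ Function.Injective g ∧ Epi (CommRingCat.ofHom g) ∧
      ∀ (v : V) (k : K), g v = h k → ∃! a : A, f a = v ∧ algebraMap A K a = k := by
  let W : {V : ValuationSubring K // Set.range (algebraMap A K) ⊆ V.toSubring} → ValuationSubring K :=
    Subtype.val
  let h : K →+* ({V : ValuationSubring K // Set.range (algebraMap A K) ⊆ V.toSubring} → K) :=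
    RingHom.pi fun _ => RingHom.id K
  let f : A →+* ∀ V, W V :=
    RingHom.pi fun V => (algebraMap A K).codRestrict _ fun a => V.2 ⟨a, rfl⟩
  obtain ⟨hflat, hepi⟩ := H9WE.piInclusion_flat_epi W
  refine ⟨_, _, inferInstance, inferInstance, f, H9WE.piInclusion W, h, RingHom.ext fun a => rfl,
    H9WE.idealsFlat_pi_valuationSubring W, hflat, H9WE.piInclusion_injective W, hepi, fun v k hvk => ?_⟩
  obtain ⟨a, ha, huniq⟩ := H9WE.exists_unique_of_forall_mem (A := A) (k := k) fun V hV => by
    have h1 : ((v ⟨V, hV⟩ : W ⟨V, hV⟩) : K) = k := congrFun hvk ⟨V, hV⟩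
    rw [← h1]
    exact SetLike.coe_mem (v ⟨V, hV⟩)
  exact ⟨a, ⟨funext fun V => Subtype.ext (ha.trans (congrFun hvk V).symm), ha⟩, fun b hb => huniq b hb.2⟩

end Groth.Agent.S7143
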