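import Groth.Statements.S1967
import Groth.Agent.S7143
import Groth.Agent.H9WE.WeakDim
import Mathlib.RingTheory.Flat.Basic
import Mathlib.RingTheory.RingHom.Flat
-- import your own Groth.Agent.* helpers here

set_option autoImplicit false
universe u
open TensorProduct
open EtAlg

namespace Groth.Agent.S1967

open CategoryTheory
open scoped TensorProduct

/-- If A is an integrally closed domain with fraction field K and B is weakly etale over A, then every
element of B ⊗_A K that is integral over B (via b ↦ b ⊗ 1) already comes from B. -/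
theorem result (A : Type u) [CommRing A] [IsDomain A] [IsIntegrallyClosed A]
    (K : Type u) [Field K] [Algebra A K] [IsFractionRing A K] (B : Type u) [CommRing B] [Algebra A B]
    [Algebra.WeaklyEtale A B] :
    IsIntegrallyClosedIn B (B ⊗[A] K) := by
  obtain ⟨V, L, _, _, f, g, h, hcomm, hV, hgflat, hginj, hgepi, huniq⟩ := S7143.result A K
  letI : Algebra A V := f.toAlgebra
  letI : Algebra A L := (g.comp f).toAlgebra
  let g' : V →ₐ[A] L := { g with commutes' := fun _ => rfl }
  let h' : K →ₐ[A] L := { h with commutes' := fun a => (RingHom.congr_fun hcomm a).symm }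
  let γ : V ⊗[A] B →ₐ[A] L ⊗[A] B := Algebra.TensorProduct.map g' (AlgHom.id A B)
  letI : Algebra (V ⊗[A] B) (L ⊗[A] B) := γ.toRingHom.toAlgebra
  haveI : Module.Flat (V ⊗[A] B) (L ⊗[A] B) :=
    RingHom.Flat.tensorProductMap (f := g') (g := AlgHom.id A B) hgflat (RingHom.Flat.id B)
  have hγinj : Function.Injective γ :=
    Module.Flat.rTensor_preserves_injective_linearMap g'.toLinearMap hginj
  have hepi : Epi (CommRingCat.ofHom (algebraMap (V ⊗[A] B) (L ⊗[A] B))) := by
    refine ⟨fun {Z} φ ψ e => ?_⟩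
    have e' : ∀ t, φ.hom (γ t) = ψ.hom (γ t) := fun t => ConcreteCategory.congr_hom e t
    let incl : L →+* L ⊗[A] B := (Algebra.TensorProduct.includeLeft : L →ₐ[A] L ⊗[A] B).toRingHom
    have hL : CommRingCat.ofHom incl ≫ φ = CommRingCat.ofHom incl ≫ ψ :=
      hgepi.left_cancellation _ _ (CommRingCat.hom_ext (RingHom.ext fun v => by
        simpa [γ, incl, g'] using e' (v ⊗ₜ 1)))
    refine CommRingCat.hom_ext (RingHom.ext fun (t : L ⊗[A] B) => ?_)
    induction t using TensorProduct.induction_on with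
    | zero => exact (map_zero φ.hom).trans (map_zero ψ.hom).symm
    | tmul l b =>
      rw [show l ⊗ₜ[A] b = (l ⊗ₜ[A] (1 : B)) * γ ((1 : V) ⊗ₜ b) by simp [γ, g', Algebra.TensorProduct.tmul_mul_tmul],
        map_mul, map_mul, e']
      congr 1
      exact ConcreteCategory.congr_hom hL l
    | add a b ha hb => rw [map_add, map_add, ha, hb]
  haveI : IsIntegrallyClosedIn (V ⊗[A] B) (L ⊗[A] B) :=
    S1997.result _ _ (H9WE.IdealsFlat.of_weaklyEtale (A := V) hV) hγinj hepi
  have hinj : Function.Injective (algebraMap B (B ⊗[A] K)) :=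
    Algebra.TensorProduct.includeLeft_injective (S := A) (IsFractionRing.injective A K)
  rw [isIntegrallyClosedIn_iff]
  refine ⟨hinj, fun {x} hx => ?_⟩
  let σ : B ⊗[A] K →ₐ[A] L ⊗[A] B :=
    (Algebra.TensorProduct.map h' (AlgHom.id A B)).comp (Algebra.TensorProduct.comm A B K).toAlgHom
  have hσ : IsIntegral (V ⊗[A] B) (σ x) :=
    hx.map_of_comp_eq (Algebra.TensorProduct.includeRight : B →ₐ[A] V ⊗[A] B).toRingHom σ.toRingHom
      (RingHom.ext fun b => by
        show γ ((1 : V) ⊗ₜ b) = σ (b ⊗ₜ 1)
        simp [γ, σ])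
  obtain ⟨y, hy⟩ := IsIntegrallyClosedIn.isIntegral_iff.mp hσ
  change γ y = σ x at hy
  let ι : A →ₗ[A] V × K := (Algebra.linearMap A V).prod (Algebra.linearMap A K)
  let δ : V × K →ₗ[A] L := g'.toLinearMap ∘ₗ LinearMap.fst A V K - h'.toLinearMap ∘ₗ LinearMap.snd A V K
  have hex : Function.Exact ι δ := by
    rintro ⟨v, k⟩
    refine ⟨fun he => ?_, ?_⟩
    · obtain ⟨a, ⟨h1, h2⟩, -⟩ := huniq v k (sub_eq_zero.mp he)
      exact ⟨a, Prod.ext h1 h2⟩
    · rintro ⟨a, ha⟩
      rw [← ha]
      show g (f a) - h (algebraMap A K a) = 0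
      exact sub_eq_zero.mpr (RingHom.congr_fun hcomm a)
  let z := LinearMap.lTensor B (LinearMap.inl A V K) (Algebra.TensorProduct.comm A V B y) +
    LinearMap.lTensor B (LinearMap.inr A V K) x
  have h1 : ∀ t : V ⊗[A] B, TensorProduct.comm A B L (LinearMap.lTensor B δ
      (LinearMap.lTensor B (LinearMap.inl A V K) (Algebra.TensorProduct.comm A V B t))) = γ t := fun t => by
    induction t with
    | zero => simp
    | tmul v b => simp [γ, δ]
    | add a b ha hb => simp only [map_add, ha, hb]
  have h2 : ∀ t : B ⊗[A] K, TensorProduct.comm A B L (LinearMap.lTensor B δ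
      (LinearMap.lTensor B (LinearMap.inr A V K) t)) = - σ t := fun t => by
    induction t with
    | zero => simp
    | tmul b k => simp [σ, δ, TensorProduct.tmul_neg, TensorProduct.neg_tmul]
    | add a b ha hb => simp only [map_add, ha, hb, neg_add_rev]; abel
  have hz : LinearMap.lTensor B δ z = 0 := (TensorProduct.comm A B L).injective (by
    rw [map_zero, map_add, map_add, h1, h2, hy, add_neg_cancel])
  obtain ⟨w, hw⟩ := (Module.Flat.lTensor_exact B hex z).mp hz
  refine ⟨TensorProduct.rid A B w, ?_⟩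
  have h3 : LinearMap.lTensor B (LinearMap.snd A V K) z = x := by
    rw [map_add, ← LinearMap.comp_apply, ← LinearMap.lTensor_comp, ← LinearMap.comp_apply,
      ← LinearMap.lTensor_comp, LinearMap.snd_comp_inl, LinearMap.snd_comp_inr]
    simp
  rw [← h3, ← hw, ← LinearMap.comp_apply, ← LinearMap.lTensor_comp]
  clear hw
  induction w with
  | zero => simp
  | tmul b a =>
    rw [TensorProduct.rid_tmul, LinearMap.lTensor_tmul, Algebra.TensorProduct.algebraMap_apply,
      Algebra.algebraMap_self, RingHom.id_apply]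
    show (a • b) ⊗ₜ[A] (1 : K) = b ⊗ₜ[A] (algebraMap A K a)
    rw [Algebra.algebraMap_eq_smul_one, TensorProduct.smul_tmul]
  | add a b ha hb => simp only [map_add, ha, hb]

end Groth.Agent.S1967
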