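import Groth.Statements.S19673
import Groth.Agent.H7CB.Ext
-- import your own Groth.Agent.* helpers here

set_option autoImplicit false
universe u
open CategoryTheory CategoryTheory.Limits AlgebraicGeometry
open AdjLin

namespace Groth.Agent.S19673

/-- Let k be an algebraically closed field of characteristic zero and X a smooth projective surface over
k (irreducible, proper, smooth of dimension 2, with an ample invertible module); let M be an
invertible O_X-module and Z ⊆ X a finite set of closed points, viewed as a reduced finite subscheme
with ideal sheaf I_Z (the vanishing ideal of the closed set Z), regarded as an O_X-module. Then the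
following are equivalent: (a) there is a short exact sequence 0 → M → F → I_Z → 0 of O_X-modules
with F finite locally free (an extension class of I_Z by M whose middle term is a vector bundle; in
the source the extensions are of L ⊗ I_Z by O_X, here tensored with M = L⁻¹); (b) for every proper
subset Z' of Z, the empty one included, with vanishing ideal I_{Z'} ⊇ I_Z and φ : I_Z → I_{Z'} the
inclusion (the map commuting with the two inclusions into O_X), the map Ext¹(I_{Z'}, M) → Ext¹(I_Z,
M) given by precomposition with φ is not surjective. Ext groups are taken in the category of all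
O_X-modules (the Ext instance is the stated hypothesis; it holds). -/
theorem result (k : Type u) [Field k]
    [IsAlgClosed k] [CharZero k]
    (X : Scheme.{u}) [X.Over (Spec (CommRingCat.of k))] [IsProper (X ↘ (Spec (CommRingCat.of k)))]
    [Smooth (X ↘ (Spec (CommRingCat.of k)))] [IrreducibleSpace X] (hdim : topologicalKrullDim X = 2)
    (H : X.Modules) (hH : CohB1.IsAmple H)
    (M : X.Modules) (hM : PicF.IsInvertible M)
    (Z : Finset X) (hZc : IsClosed ((Z : Set X))) (hZ : ∀ z ∈ Z, IsClosed ({z} : Set X))
    [HasExt.{u} X.Modules] :
    (∃ (F : X.Modules) (a : M ⟶ F)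
        (b : F ⟶ ClSub.idealMod (Scheme.IdealSheafData.vanishingIdeal ⟨(Z : Set X), hZc⟩)) (w : a ≫ b = 0),
        (ShortComplex.mk a b w).ShortExact ∧ FlatMod.IsFinLocFree F) ↔
      ∀ (Z' : Finset X) (hZ'c : IsClosed ((Z' : Set X))), Z' ⊂ Z →
        ∀ φ : ClSub.idealMod (Scheme.IdealSheafData.vanishingIdeal ⟨(Z : Set X), hZc⟩) ⟶
            ClSub.idealMod (Scheme.IdealSheafData.vanishingIdeal ⟨(Z' : Set X), hZ'c⟩),
          φ ≫ ClSub.idealModι (Scheme.IdealSheafData.vanishingIdeal ⟨(Z' : Set X), hZ'c⟩) =
              ClSub.idealModι (Scheme.IdealSheafData.vanishingIdeal ⟨(Z : Set X), hZc⟩) →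
            ¬ Function.Surjective ((Abelian.Ext.mk₀ φ).precomp M (zero_add 1)) := by
  haveI : Nonempty X := IrreducibleSpace.toNonempty
  haveI : IsIntegral X := H8Props.DvrCurve.isIntegral_of_smooth_connected (X ↘ Spec (CommRingCat.of k))
  exact H7CB.ext_main (k := k) (by exact_mod_cast hdim)
    (fun x => H19Grp.isRegularLocalRing_stalk_of_smooth (k := k) (X ↘ Spec (CommRingCat.of k)) x) M hM Z hZ

end Groth.Agent.S19673
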