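import Groth.Statements.S19679
import Groth.Agent.H19Grp.BalProd

set_option autoImplicit false
set_option maxHeartbeats 1000000
set_option synthInstance.maxHeartbeats 100000
set_option linter.style.haveILetI false
set_option backward.isDefEq.respectTransparency false
universe u
open CategoryTheory MonoidalCategory CartesianMonoidalCategory MonObj AlgebraicGeometry
open ChGrp

namespace Groth.Agent.S19679

/-- Let k be an algebraically closed field of characteristic zero, G and H affine group schemes of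
finite type over k (algebraic groups) with i : H → G a homomorphism which is a closed immersion, and
Z a reduced affine k-scheme of finite type (an affine variety) with an action of H. Let Y, with its
G-action and j : G × Z → Y, be the balanced product G ×^H Z for the fppf topology: j is
G-equivariant for left translation on the first factor, it is a torsor for the twisted H-action
h·(g, z) = (g i(h)⁻¹, h·z), and it has sections fppf-locally on Y. If π_Z : Z → P is a categorical
quotient of Z by H and π_Y : Y → Q a categorical quotient of Y by G, then the projection G × Z → Z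
induces an isomorphism Q ≅ P, inverse to the morphism induced by the H-invariant map z ↦ π_Y(j(e,
z)): there are mutually inverse φ : P → Q and χ : Q → P with π_Z followed by φ equal to z ↦ π_Y(j(e,
z)) and j followed by π_Y and χ equal to the projection followed by π_Z (so Y//G ≅ Z//H). (The
source assumes G and H reductive and defines G ×^H Z as the quotient (G × Z)//H, a principal
H-bundle; here the quotients are part of the data, the balanced product is taken in its torsor form,
and reductivity is not needed.) -/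
theorem result
    (k : Type u) [Field k] [IsAlgClosed k] [CharZero k]
    (G H Z Y P Q : Over (Spec (CommRingCat.of k))) [GrpObj G] [GrpObj H]
    [IsAffine G.left] [LocallyOfFiniteType G.hom] [IsAffine H.left] [LocallyOfFiniteType H.hom]
    (i : H ⟶ G) [IsMonHom i] [IsClosedImmersion i.left]
    [IsAffine Z.left] [LocallyOfFiniteType Z.hom] [IsReduced Z.left]
    (aZ : AlgGrp.Action H Z) (aY : AlgGrp.Action G Y) (j : G ⊗ Z ⟶ Y)
    (hY : ChGrp.IsBalProd Scheme.fppfPrecoverage i aZ aY j)
    (πZ : Z ⟶ P) (hP : GIT.IsCatQuot aZ πZ) (πY : Y ⟶ Q) (hQ : GIT.IsCatQuot aY πY) :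
    ∃ (φ : P ⟶ Q) (χ : Q ⟶ P), φ ≫ χ = 𝟙 P ∧ χ ≫ φ = 𝟙 Q ∧
      πZ ≫ φ = lift (toUnit Z ≫ η[G]) (𝟙 Z) ≫ j ≫ πY ∧ j ≫ πY ≫ χ = snd G Z ≫ πZ := by
  let ψφ : Z ⟶ Q := lift (toUnit Z ≫ η[G]) (𝟙 Z) ≫ j ≫ πY
  have hψφ : ∀ {T : Over (Spec (CommRingCat.of k))} (z : T ⟶ Z), z ≫ ψφ = lift (1 : T ⟶ G) z ≫ j ≫ πY := by
    intro T z
    simp only [ψφ]
    rw [← Category.assoc, comp_lift, Category.comp_id, Hom.one_def, ← Category.assoc z (toUnit Z), toUnit_unique (z ≫ toUnit Z) (toUnit T)]
  have hYinv : ∀ {T : Over (Spec (CommRingCat.of k))} (g : T ⟶ G) (y : T ⟶ Y), lift g y ≫ aY.act ≫ πY = y ≫ πY := by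
    intro T g y
    rw [show aY.act ≫ πY = snd G Y ≫ πY from hQ.1, lift_snd_assoc]
  have hZinv : ∀ {T : Over (Spec (CommRingCat.of k))} (h : T ⟶ H) (z : T ⟶ Z), lift h z ≫ aZ.act ≫ πZ = z ≫ πZ := by
    intro T h z
    rw [show aZ.act ≫ πZ = snd H Z ≫ πZ from hP.1, lift_snd_assoc]
  have hinvφ : GIT.IsInvariant aZ ψφ := by
    refine AlgGrp.Action.hom_ext_lift₂ fun T h z => ?_
    rw [lift_snd_assoc, ← Category.assoc, hψφ, hψφ]
    have e1 : lift (1 : T ⟶ G) (lift h z ≫ aZ.act) ≫ j = lift (h ≫ i) z ≫ j := by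
      rw [← H19Grp.BalProd.twist_j hY h (h ≫ i) z, mul_inv_cancel]
    rw [← Category.assoc, e1, ← H19Grp.BalProd.act_j_one hY]
    simp only [Category.assoc, hYinv]
  obtain ⟨φ, hφ, -⟩ := hP.2 Q ψφ hinvφ
  obtain ⟨χ₀, hχ₀⟩ := H19Grp.BalProd.exists_desc hY (snd G Z ≫ πZ) (fun {T} h g z => by
    rw [lift_snd_assoc, lift_snd_assoc, Category.assoc, hZinv])
  have hχ₀inv : GIT.IsInvariant aY χ₀ := by
    refine AlgGrp.Action.hom_ext_lift₂ fun T g y => ?_
    refine H19Grp.BalProd.hom_ext_local ((H19Grp.BalProd.locally_eq hY y).mono fun V f ⟨g', z, hz⟩ => ?_)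
    rw [lift_snd_assoc, ← Category.assoc f (lift g y), comp_lift, ← hz, ← Category.assoc (lift _ _) aY.act,
      H19Grp.BalProd.act_j hY, Category.assoc, hχ₀, lift_snd_assoc, ← Category.assoc f y, ← hz, Category.assoc, hχ₀,
      lift_snd_assoc]
  obtain ⟨χ, hχ, -⟩ := hQ.2 P χ₀ hχ₀inv
  have hjχ : j ≫ πY ≫ χ = snd G Z ≫ πZ := by rw [hχ, hχ₀]
  refine ⟨φ, χ, ?_, ?_, hφ, hjχ⟩
  · obtain ⟨w, -, huniq⟩ := hP.2 P πZ hP.1
    have e1 : πZ ≫ φ ≫ χ = πZ := by
      rw [← Category.assoc, hφ]
      simp only [ψφ, Category.assoc]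
      rw [hjχ, lift_snd_assoc, Category.id_comp]
    exact (huniq _ e1).trans (huniq _ (Category.comp_id _)).symm
  · obtain ⟨w, -, huniq⟩ := hQ.2 Q πY hQ.1
    have e1 : πY ≫ χ ≫ φ = πY := by
      refine H19Grp.BalProd.hom_ext hY (AlgGrp.Action.hom_ext_lift₂ fun T g z => ?_)
      rw [← Category.assoc j, ← Category.assoc (j ≫ πY), Category.assoc j, hjχ, Category.assoc, hφ, lift_snd_assoc,
        hψφ, ← Category.assoc, ← Category.assoc _ j πY, ← H19Grp.BalProd.act_j_one hY g z, Category.assoc,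
        Category.assoc, hYinv, Category.assoc]
    exact (huniq _ e1).trans (huniq _ (Category.comp_id _)).symm

end Groth.Agent.S19679
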