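import Groth.Statements.S19681
import Groth.Agent.H19Grp.BalProd

set_option autoImplicit false
set_option maxHeartbeats 1000000
set_option synthInstance.maxHeartbeats 100000
set_option linter.style.haveILetI false
set_option backward.isDefEq.respectTransparency false
universe u
open CategoryTheory MonoidalCategory CartesianMonoidalCategory MonObj AlgebraicGeometry
open ChGrp

namespace Groth.Agent.S19681

/-- Let k be an algebraically closed field of characteristic zero, G and H affine group schemes of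
finite type over k with i : H → G a homomorphism which is a closed immersion, and Z a reduced affine
k-scheme of finite type with an action of H. Let Y, with its G-action and j : G × Z → Y, be the
balanced product G ×^H Z for the fppf topology (j is G-equivariant for left translation on the first
factor, a torsor for the twisted H-action h·(g, z) = (g i(h)⁻¹, h·z), with sections fppf-locally on
Y). Let c : Y' → Y be a closed immersion from a reduced scheme Y' with a G-action making c
equivariant (a closed G-invariant subvariety of Y). Then Y' is again a balanced product: there are a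
closed immersion c' : Z' → Z, an H-action on Z' for which c' is equivariant (a closed H-invariant
subscheme of Z), and a morphism j' : G × Z' → Y' with j' followed by c equal to G × c' followed by
j, such that j' makes Y' the balanced product G ×^H Z' for the fppf topology. (The source assumes G
and H reductive and defines G ×^H Z as the quotient (G × Z)//H, a principal H-bundle; here the
balanced product is taken in its torsor form and reductivity is not needed.) -/
theorem result
    (k : Type u) [Field k] [IsAlgClosed k] [CharZero k]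
    (G H Z Y Y' : Over (Spec (CommRingCat.of k))) [GrpObj G] [GrpObj H]
    [IsAffine G.left] [LocallyOfFiniteType G.hom] [IsAffine H.left] [LocallyOfFiniteType H.hom]
    (i : H ⟶ G) [IsMonHom i] [IsClosedImmersion i.left]
    [IsAffine Z.left] [LocallyOfFiniteType Z.hom] [IsReduced Z.left]
    (aZ : AlgGrp.Action H Z) (aY : AlgGrp.Action G Y) (j : G ⊗ Z ⟶ Y)
    (hY : ChGrp.IsBalProd Scheme.fppfPrecoverage i aZ aY j)
    (c : Y' ⟶ Y) [IsClosedImmersion c.left] [IsReduced Y'.left]
    (aY' : AlgGrp.Action G Y') (hc : AlgGrp.Action.IsEquivariant aY' aY c) :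
    ∃ (Z' : Over (Spec (CommRingCat.of k))) (c' : Z' ⟶ Z) (aZ' : AlgGrp.Action H Z') (j' : G ⊗ Z' ⟶ Y'),
      IsClosedImmersion c'.left ∧ AlgGrp.Action.IsEquivariant aZ' aZ c' ∧
      j' ≫ c = (G ◁ c') ≫ j ∧ ChGrp.IsBalProd Scheme.fppfPrecoverage i aZ' aY' j' := by
  let ι₁ : Z ⟶ Y := lift (toUnit Z ≫ η[G]) (𝟙 Z) ≫ j
  have hι₁ : ∀ {T : Over (Spec (CommRingCat.of k))} (z : T ⟶ Z), z ≫ ι₁ = lift (1 : T ⟶ G) z ≫ j := by
    intro T z
    simp only [ι₁]
    rw [← Category.assoc, comp_lift, Category.comp_id, Hom.one_def, ← Category.assoc z (toUnit Z),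
      toUnit_unique (z ≫ toUnit Z) (toUnit T)]
  have hιH : ∀ {T : Over (Spec (CommRingCat.of k))} (h : T ⟶ H) (z : T ⟶ Z),
      (lift h z ≫ aZ.act) ≫ ι₁ = lift (h ≫ i) (z ≫ ι₁) ≫ aY.act := by
    intro T h z
    rw [hι₁, hι₁, H19Grp.BalProd.act_j_one hY, ← H19Grp.BalProd.twist_j hY h (h ≫ i) z, mul_inv_cancel]
  haveI : Mono c := (Over.forget _).mono_of_mono_map (f := c) (by dsimp; infer_instance)
  have hcG : ∀ {T : Over (Spec (CommRingCat.of k))} (g : T ⟶ G) (y : T ⟶ Y'),
      (lift g y ≫ aY'.act) ≫ c = lift g (y ≫ c) ≫ aY.act := by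
    intro T g y
    rw [Category.assoc, show aY'.act ≫ c = (G ◁ c) ≫ aY.act from hc, lift_whiskerLeft_assoc]
  let Z' := Limits.pullback ι₁ c
  let c' : Z' ⟶ Z := Limits.pullback.fst ι₁ c
  let p₁ : Z' ⟶ Y' := Limits.pullback.snd ι₁ c
  have hsq : c' ≫ ι₁ = p₁ ≫ c := Limits.pullback.condition
  have hc'ci : IsClosedImmersion c'.left :=
    MorphismProperty.of_isPullback (P := @IsClosedImmersion)
      ((IsPullback.of_hasPullback ι₁ c).map (Over.forget _)).flip ‹IsClosedImmersion c.left›
  haveI := hc'ci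
  haveI : Mono c' := (Over.forget _).mono_of_mono_map (f := c') (by dsimp; infer_instance)
  let act' : H ⊗ Z' ⟶ Z' := Limits.pullback.lift ((H ◁ c') ≫ aZ.act) (lift (fst H Z' ≫ i) (snd H Z' ≫ p₁) ≫ aY'.act) (by
    rw [hcG, Category.assoc (snd H Z'), ← hsq, ← Category.assoc (snd H Z'), ← hιH]
    congr 2)
  have hact' : act' ≫ c' = (H ◁ c') ≫ aZ.act := Limits.pullback.lift_fst _ _ _
  have hactP : ∀ {T : Over (Spec (CommRingCat.of k))} (h : T ⟶ H) (z : T ⟶ Z'),
      (lift h z ≫ act') ≫ c' = lift h (z ≫ c') ≫ aZ.act := by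
    intro T h z
    rw [Category.assoc, hact', lift_whiskerLeft_assoc]
  let aZ' : AlgGrp.Action H Z' :=
    { act := act'
      one_act := by
        rw [← cancel_mono c', Category.assoc, hact', ← MonoidalCategory.whisker_exchange_assoc, aZ.one_act]
        exact (MonoidalCategory.leftUnitor_naturality c')
      mul_act := by
        rw [← cancel_mono c']
        refine AlgGrp.Action.hom_ext_lift₃ fun T h h' z => ?_
        simp only [Category.assoc, lift_whiskerRight_assoc, lift_lift_associator_hom_assoc, lift_whiskerLeft_assoc]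
        rw [← Hom.mul_def, ← Category.assoc (lift _ _) act', hactP, ← Category.assoc (lift h _) act', hactP, hactP,
          AlgGrp.Action.lift_mul_act] }
  let j' : G ⊗ Z' ⟶ Y' := lift (fst G Z') (snd G Z' ≫ p₁) ≫ aY'.act
  have hj'P : ∀ {T : Over (Spec (CommRingCat.of k))} (g : T ⟶ G) (z : T ⟶ Z'),
      lift g z ≫ j' = lift g (z ≫ p₁) ≫ aY'.act := by
    intro T g z
    simp only [j']
    rw [← Category.assoc, comp_lift, lift_fst, lift_snd_assoc]
  have hj'cP : ∀ {T : Over (Spec (CommRingCat.of k))} (g : T ⟶ G) (z : T ⟶ Z'),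
      (lift g z ≫ j') ≫ c = lift g (z ≫ c') ≫ j := by
    intro T g z
    rw [hj'P, hcG, Category.assoc z p₁, ← hsq, ← Category.assoc z c', hι₁, H19Grp.BalProd.act_j_one hY]
  have hj'c : j' ≫ c = (G ◁ c') ≫ j := AlgGrp.Action.hom_ext_lift₂ fun T g z => by
    rw [← Category.assoc, hj'cP, lift_whiskerLeft_assoc]
  refine ⟨Z', c', aZ', j', hc'ci, hact', hj'c, ?_, ?_, ?_⟩
  · rw [AlgGrp.Action.IsEquivariant, ← cancel_mono c]
    refine AlgGrp.Action.hom_ext_lift₂ fun T g p => ?_
    have hp : p = lift (p ≫ fst G Z') (p ≫ snd G Z') := by rw [← comp_lift, lift_fst_snd, Category.comp_id]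
    rw [hp, ← Category.assoc, ← Category.assoc, AlgGrp.Action.lift_prod_act, AlgGrp.Action.lift_trivial_act, hj'cP]
    simp only [Category.assoc, lift_whiskerLeft_assoc]
    rw [← Category.assoc _ aY'.act c, hcG, hj'cP, H19Grp.BalProd.act_j hY]
    rfl
  · refine ⟨⟨?_⟩, ⟨?_⟩⟩
    · rw [← cancel_mono c]
      refine AlgGrp.Action.hom_ext_lift₂ fun T h p => ?_
      have hp : p = lift (p ≫ fst G Z') (p ≫ snd G Z') := by rw [← comp_lift, lift_fst_snd, Category.comp_id]
      rw [hp, ← Category.assoc, ← Category.assoc, ChGrp.lift_twist_act, hj'cP, Category.assoc, hact',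
        lift_whiskerLeft_assoc, H19Grp.BalProd.twist_j hY]
      simp only [Category.assoc, lift_snd_assoc]
      rw [← Category.assoc _ j' c, hj'cP, Category.assoc]
    · refine Limits.PullbackCone.IsLimit.mk _ (fun s => ?_) (fun s => ?_) (fun s => ?_) (fun s m h₁ h₂ => ?_)
      · exact lift (hY.2.1.lift (s.fst ≫ (G ◁ c')) (s.snd ≫ (G ◁ c')) (by
          rw [Category.assoc, Category.assoc, ← hj'c]
          exact (Category.assoc _ _ _).symm.trans ((congrArg (· ≫ c) s.condition).trans (Category.assoc _ _ _))) ≫ fst H _) s.snd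
      · set l := hY.2.1.lift (s.fst ≫ (G ◁ c')) (s.snd ≫ (G ◁ c')) _ with hldef
        have hl₁ : l ≫ (ChGrp.twist i aZ).act = s.fst ≫ (G ◁ c') := hY.2.1.lift_fst _ _ _
        have hl₂ : l ≫ snd H (G ⊗ Z) = s.snd ≫ (G ◁ c') := hY.2.1.lift_snd _ _ _
        haveI : Mono (G ◁ c') := ⟨fun a b hab => CartesianMonoidalCategory.hom_ext _ _
          (by simpa using congrArg (· ≫ fst G Z) hab)
          ((cancel_mono c').mp (by simpa using congrArg (· ≫ snd G Z) hab))⟩
        rw [← cancel_mono (G ◁ c'), ← hl₁]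
        have hl : l = lift (l ≫ fst H (G ⊗ Z)) (lift (s.snd ≫ fst G Z') ((s.snd ≫ snd G Z') ≫ c')) := by
          have e : s.snd ≫ (G ◁ c') = lift (s.snd ≫ fst G Z') ((s.snd ≫ snd G Z') ≫ c') := by
            ext <;> simp
          rw [← e, ← hl₂, ← comp_lift, lift_fst_snd, Category.comp_id]
        have hs : s.snd = lift (s.snd ≫ fst G Z') (s.snd ≫ snd G Z') := by
          rw [← comp_lift, lift_fst_snd, Category.comp_id]
        conv_rhs => rw [hl, ChGrp.lift_twist_act]
        conv_lhs => rw [hs, ChGrp.lift_twist_act, lift_whiskerLeft, hactP]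
      · exact lift_snd _ _
      · haveI : Mono (G ◁ c') := ⟨fun a b hab => CartesianMonoidalCategory.hom_ext _ _
          (by simpa using congrArg (· ≫ fst G Z) hab)
          ((cancel_mono c').mp (by simpa using congrArg (· ≫ snd G Z) hab))⟩
        refine CartesianMonoidalCategory.hom_ext _ _ ?_ (h₂.trans (lift_snd _ _).symm)
        rw [lift_fst]
        have key : m ≫ (H ◁ (G ◁ c')) = hY.2.1.lift (s.fst ≫ (G ◁ c')) (s.snd ≫ (G ◁ c')) (by
          rw [Category.assoc, Category.assoc, ← hj'c]
          exact (Category.assoc _ _ _).symm.trans ((congrArg (· ≫ c) s.condition).trans (Category.assoc _ _ _))) := by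
          apply hY.2.1.hom_ext
          · rw [hY.2.1.lift_fst, ← h₁, Category.assoc, Category.assoc]
            congr 1
            refine AlgGrp.Action.hom_ext_lift₂ fun T h p => ?_
            have hp : p = lift (p ≫ fst G Z') (p ≫ snd G Z') := by rw [← comp_lift, lift_fst_snd, Category.comp_id]
            rw [hp, lift_whiskerLeft_assoc, lift_whiskerLeft, ChGrp.lift_twist_act, ← Category.assoc,
              ChGrp.lift_twist_act, lift_whiskerLeft, hactP]
          · rw [hY.2.1.lift_snd, ← h₂, Category.assoc, whiskerLeft_snd, Category.assoc]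
        rw [← key, Category.assoc, whiskerLeft_fst]
  · obtain ⟨R₀, hR₀, hs⟩ := hY.2.2
    obtain ⟨κ, W, g, rfl⟩ := Presieve.exists_eq_ofArrows R₀
    refine ⟨_, Scheme.fppfPrecoverage.mem_coverings_of_isPullback g hR₀ c.left
      (fun e => Limits.pullback.fst c.left (g e)) (fun e => Limits.pullback.snd c.left (g e))
      (fun e => IsPullback.of_hasPullback _ _), ?_⟩
    rintro S' f ⟨e⟩
    obtain ⟨s, hs₁⟩ := hs (g e) ⟨e⟩
    change s ≫ j.left = g e at hs₁
    let V : Over (Spec (CommRingCat.of k)) := Over.mk (Limits.pullback.fst c.left (g e) ≫ Y'.hom)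
    let y' : V ⟶ Y' := Over.homMk (Limits.pullback.fst c.left (g e)) rfl
    let σ : V ⟶ G ⊗ Z := Over.homMk (Limits.pullback.snd c.left (g e) ≫ s) (by
      change (_ ≫ s) ≫ (G ⊗ Z).hom = _ ≫ Y'.hom
      rw [← Over.w j, Category.assoc, reassoc_of% hs₁, ← Category.assoc, ← Limits.pullback.condition,
        Category.assoc, Over.w c])
    have hσ : σ ≫ j = y' ≫ c := Over.OverMorphism.ext (by
      change (_ ≫ s) ≫ j.left = _ ≫ c.left
      rw [Category.assoc, hs₁]
      exact Limits.pullback.condition.symm)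
    have hσ' : lift (σ ≫ fst G Z) (σ ≫ snd G Z) = σ := by rw [← comp_lift, lift_fst_snd, Category.comp_id]
    let y₁ : V ⟶ Y' := lift (σ ≫ fst G Z)⁻¹ y' ≫ aY'.act
    have hy₁ : (σ ≫ snd G Z) ≫ ι₁ = y₁ ≫ c := by
      rw [hι₁, hcG, ← hσ, ← hσ', H19Grp.BalProd.act_j hY, hσ', inv_mul_cancel]
    let z' : V ⟶ Z' := Limits.pullback.lift (σ ≫ snd G Z) y₁ hy₁
    refine ⟨(lift (σ ≫ fst G Z) z').left, ?_⟩
    change (lift (σ ≫ fst G Z) z').left ≫ j'.left = _
    rw [← Over.comp_left]
    have : lift (σ ≫ fst G Z) z' ≫ j' = y' := by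
      rw [← cancel_mono c, hj'cP, show z' ≫ c' = σ ≫ snd G Z from Limits.pullback.lift_fst _ _ _, hσ', hσ]
    rw [this]
    rfl

end Groth.Agent.S19681
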