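import Groth.Statements.S19686
import Groth.Agent.H19Grp.ClopenTrivial

set_option autoImplicit false
set_option maxHeartbeats 1000000
set_option synthInstance.maxHeartbeats 100000
set_option linter.style.haveILetI false
set_option backward.isDefEq.respectTransparency false
universe u
open CategoryTheory CategoryTheory.Limits MonoidalCategory CartesianMonoidalCategory MonObj AlgebraicGeometry
open AbSch

namespace Groth.Agent.S19686

open CategoryTheory Opposite in
theorem exists_universal {D : Type (u + 1)} [Category.{u} D] {J : GrothendieckTopology D}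
    {P Q G : Sheaf J AddCommGrpCat.{u + 1}} (B : Biext J P Q G) (f : Biext.Hom J B B) (T0 : D)
    (p0 : P.obj.obj (op T0)) (q0 : Q.obj.obj (op T0)) :
    ∃ h0 : G.obj.obj (op T0),
      (∀ (T : D) (l : T ⟶ T0), P.obj.map l.op p0 = 0 → G.obj.map l.op h0 = 0) ∧
      (∀ (T : D) (l : T ⟶ T0), Q.obj.map l.op q0 = 0 → G.obj.map l.op h0 = 0) ∧
      ∀ (T : D) (x : B.E.obj.obj (op T)) (l : T ⟶ T0), P.obj.map l.op p0 = B.πP T x → Q.obj.map l.op q0 = B.πQ T x →
        f.map T x = B.act T (G.obj.map l.op h0) x := by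
  have hP : ∀ T x, B.πP T (f.map T x) = B.πP T x := fun T x => f.πP_map T x
  have hQ : ∀ T x, B.πQ T (f.map T x) = B.πQ T x := fun T x => f.πQ_map T x
  choose gx hgx hu using fun T x => B.existsUnique_act T x (f.map T x) (hP T x).symm (hQ T x).symm
  have hpq : ∀ T x y, B.πP T x = B.πP T y → B.πQ T x = B.πQ T y → gx T y = gx T x := by
    intro T x y h1 h2
    obtain ⟨g, hg, -⟩ := B.existsUnique_act T x y h1 h2
    refine (hu T y _ ?_).symm
    show B.act T (gx T x) y = f.map T y
    rw [← hg, ← B.add_act, add_comm, B.add_act, hgx, f.map_act]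
    rfl
  have hnat : ∀ {T T' : D} (r : T' ⟶ T) x, gx T' (B.E.obj.map r.op x) = G.obj.map r.op (gx T x) := by
    intro T T' r x
    refine (hu T' _ _ ?_).symm
    show B.act T' _ _ = _
    rw [← B.act_map, hgx, f.map_res]
  have hact₁ : ∀ T g g' x z (h : B.πQ T x = B.πQ T z),
      B.add₁ T (B.act T g x) (B.act T g' z) ((B.πQ_act T g x).trans (h.trans (B.πQ_act T g' z).symm)) =
        B.act T (g + g') (B.add₁ T x z h) := by
    intro T g g' x z h
    rw [B.add₁_act T g x _ (h.trans (B.πQ_act T g' z).symm), B.add₁_comm T x _ (h.trans (B.πQ_act T g' z).symm),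
      B.add₁_act T g' z x h.symm, B.add₁_comm T z x h.symm, B.add_act]
  have hact₂ : ∀ T g g' x z (h : B.πP T x = B.πP T z),
      B.add₂ T (B.act T g x) (B.act T g' z) ((B.πP_act T g x).trans (h.trans (B.πP_act T g' z).symm)) =
        B.act T (g + g') (B.add₂ T x z h) := by
    intro T g g' x z h
    rw [B.add₂_act T g x _ (h.trans (B.πP_act T g' z).symm), B.add₂_comm T x _ (h.trans (B.πP_act T g' z).symm),
      B.add₂_act T g' z x h.symm, B.add₂_comm T z x h.symm, B.add_act]
  have hP0 : ∀ T x, B.πP T x = 0 → gx T x = 0 := by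
    intro T x hx
    let y := B.add₁ T x x rfl
    have h1 : gx T y = gx T x := hpq T x y (by rw [B.πP_add₁, hx, add_zero]) (B.πQ_add₁ T x x rfl).symm
    have h2 : gx T y = gx T x + gx T x := by
      refine (hu T y _ ?_).symm
      show B.act T _ (B.add₁ T x x rfl) = f.map T (B.add₁ T x x rfl)
      rw [f.map_add₁]
      simp only [← hgx]
      exact (hact₁ T _ _ x x rfl).symm
    exact left_eq_add.mp (h1.symm.trans h2)
  have hQ0 : ∀ T x, B.πQ T x = 0 → gx T x = 0 := by
    intro T x hx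
    let y := B.add₂ T x x rfl
    have h1 : gx T y = gx T x := hpq T x y (B.πP_add₂ T x x rfl).symm (by rw [B.πQ_add₂, hx, add_zero])
    have h2 : gx T y = gx T x + gx T x := by
      refine (hu T y _ ?_).symm
      show B.act T _ (B.add₂ T x x rfl) = f.map T (B.add₂ T x x rfl)
      rw [f.map_add₂]
      simp only [← hgx]
      exact (hact₂ T _ _ x x rfl).symm
    exact left_eq_add.mp (h1.symm.trans h2)
  obtain ⟨R, hR, hlift⟩ := B.locallySurjective T0 p0 q0
  choose xf hxP hxQ using hlift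
  have hsh : Presieve.IsSheaf J (G.obj ⋙ forget AddCommGrpCat.{u + 1}) :=
    (isSheaf_iff_isSheaf_of_type _ _).1 ((sheafCompose J (forget AddCommGrpCat.{u + 1})).obj G).property
  let fam : Presieve.FamilyOfElements (G.obj ⋙ forget AddCommGrpCat.{u + 1}) R.arrows := fun T' r hr => gx T' (xf r hr)
  have hfam : fam.Compatible := by
    intro Y₁ Y₂ Z g₁ g₂ f₁ f₂ h₁ h₂ hg
    show G.obj.map g₁.op (gx Y₁ _) = G.obj.map g₂.op (gx Y₂ _)
    rw [← hnat, ← hnat]
    refine (hpq Z _ _ ?_ ?_).symm
    · rw [B.πP_map, B.πP_map, hxP, hxP, ← ConcreteCategory.comp_apply, ← ConcreteCategory.comp_apply,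
        ← P.obj.map_comp, ← P.obj.map_comp, ← op_comp, ← op_comp, hg]
    · rw [B.πQ_map, B.πQ_map, hxQ, hxQ, ← ConcreteCategory.comp_apply, ← ConcreteCategory.comp_apply,
        ← Q.obj.map_comp, ← Q.obj.map_comp, ← op_comp, ← op_comp, hg]
  obtain ⟨h0, hh0, -⟩ := hsh R hR fam hfam
  have hloc : ∀ (T : D) (l : T ⟶ T0) (g : G.obj.obj (op T)),
      (∀ ⦃T' : D⦄ (r : T' ⟶ T) (hr : R (r ≫ l)), G.obj.map r.op g = gx T' (xf (r ≫ l) hr)) →
      G.obj.map l.op h0 = g := by
    intro T l g hg
    refine (hsh (R.pullback l) (J.pullback_stable l hR)).isSeparatedFor.ext fun T' r hr => ?_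
    show G.obj.map r.op (G.obj.map l.op h0) = G.obj.map r.op g
    rw [hg r hr, ← ConcreteCategory.comp_apply, ← G.obj.map_comp, ← op_comp]
    exact hh0 (r ≫ l) hr
  refine ⟨h0, fun T l hl => hloc T l 0 fun T' r hr => ?_, fun T l hl => hloc T l 0 fun T' r hr => ?_, ?_⟩
  · rw [map_zero, hP0]
    rw [hxP, op_comp, P.obj.map_comp, ConcreteCategory.comp_apply, hl, map_zero]
  · rw [map_zero, hQ0]
    rw [hxQ, op_comp, Q.obj.map_comp, ConcreteCategory.comp_apply, hl, map_zero]
  · intro T x l hp hq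
    rw [hloc T l (gx T x) fun T' r hr => ?_, hgx]
    rw [← hnat]
    refine (hpq T' _ _ ?_ ?_).symm
    · rw [B.πP_map, hxP, op_comp, P.obj.map_comp, ConcreteCategory.comp_apply, hp]
    · rw [B.πQ_map, hxQ, op_comp, Q.obj.map_comp, ConcreteCategory.comp_apply, hq]

open CategoryTheory CategoryTheory.Limits MonoidalCategory CartesianMonoidalCategory MonObj AlgebraicGeometry Opposite in
theorem main {S : Scheme.{u}} (A B C : Over S) [GrpObj A] [IsCommMonObj A] [Smooth A.hom] [IsProper A.hom]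
    (hA : ∀ s : S, ConnectedSpace ↥(A.hom.fiber s)) [GrpObj B] [IsCommMonObj B]
    (hB : ∀ s : S, ConnectedSpace ↥(B.hom.fiber s)) [GrpObj C] [IsCommMonObj C] [IsSeparated C.hom]
    (E : Biext (QuotSh.J Scheme.fppfPrecoverage S) (CGrpSh.pts Scheme.fppfPrecoverage A)
      (CGrpSh.pts Scheme.fppfPrecoverage B) (CGrpSh.pts Scheme.fppfPrecoverage C))
    (f : Biext.Hom (QuotSh.J Scheme.fppfPrecoverage S) E E) :
    f = Biext.HomOver.id (QuotSh.J Scheme.fppfPrecoverage S) E := by
  haveI := H19Grp.geometricallyIntegral_of_connected_fibres A hA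
  obtain ⟨h0, hP, hQ, h⟩ := exists_universal E f (A ⊗ B) (ULift.up (Additive.ofMul (fst A B)))
    (ULift.up (Additive.ofMul (snd A B)))
  have e1 : h0.down.toMul = (1 : A ⊗ B ⟶ C) := by
    refine H19Grp.eq_one_of_axes η[A] η[B] hB _ ?_ ?_
    · exact congrArg (fun x : ULift (Additive (B ⟶ C)) => x.down.toMul)
        (hP B (lift (toUnit B ≫ η[A]) (𝟙 B)) (ULift.ext _ _ (congrArg Additive.ofMul (lift_fst _ _))))
    · exact congrArg (fun x : ULift (Additive (A ⟶ C)) => x.down.toMul)
        (hQ A (lift (𝟙 A) (toUnit A ≫ η[B])) (ULift.ext _ _ (congrArg Additive.ofMul (lift_snd _ _))))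
  refine Biext.HomOver.ext' (QuotSh.J Scheme.fppfPrecoverage S) fun T x => ?_
  rw [h T x (lift (E.πP T x).down.toMul (E.πQ T x).down.toMul) (ULift.ext _ _ (congrArg Additive.ofMul (lift_fst _ _)))
    (ULift.ext _ _ (congrArg Additive.ofMul (lift_snd _ _)))]
  have h00 : h0 = 0 := ULift.ext _ _ (congrArg Additive.ofMul e1)
  rw [h00, map_zero, E.zero_act]
  rfl


/-- Let S be a scheme and A₁, A₂, A₃ abelian S-schemes (smooth, proper, connected fibres). Then the
category of biextensions of (A₁, A₂) by A₃ is rigid: for every biextension B of (A₁, A₂) by A₃,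
formed with the sheaves of points on the big fppf site of all S-schemes, the only endomorphism of B
inducing the identity on A₁, A₂ and A₃ is the identity (equivalently, there is no non-zero
biadditive morphism from A₁ × A₂ to A₃). The source also asserts that every such biextension is
trivial; that assertion is not part of this statement. -/
theorem result {S : Scheme.{u}} (A₁ A₂ A₃ : Over S)
    [GrpObj A₁] [IsCommMonObj A₁] [Smooth A₁.hom] [IsProper A₁.hom]
    (hA₁ : ∀ s : S, ConnectedSpace ↥(A₁.hom.fiber s))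
    [GrpObj A₂] [IsCommMonObj A₂] [Smooth A₂.hom] [IsProper A₂.hom]
    (hA₂ : ∀ s : S, ConnectedSpace ↥(A₂.hom.fiber s))
    [GrpObj A₃] [IsCommMonObj A₃] [Smooth A₃.hom] [IsProper A₃.hom]
    (hA₃ : ∀ s : S, ConnectedSpace ↥(A₃.hom.fiber s))
    (B : Biext (QuotSh.J Scheme.fppfPrecoverage S) (CGrpSh.pts Scheme.fppfPrecoverage A₁) (CGrpSh.pts Scheme.fppfPrecoverage A₂) (CGrpSh.pts Scheme.fppfPrecoverage A₃))
    (f : Biext.Hom (QuotSh.J Scheme.fppfPrecoverage S) B B) : f = Biext.HomOver.id (QuotSh.J Scheme.fppfPrecoverage S) B := by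
  exact main A₁ A₂ A₃ hA₁ hA₂ B f

end Groth.Agent.S19686
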