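import Groth.Statements.S19693
import Groth.Agent.H25FinCov.Cover
import Groth.Agent.S8255

set_option autoImplicit false
universe u
open CategoryTheory CategoryTheory.Limits AlgebraicGeometry Opposite
open FinCov

namespace Groth.Agent.S19693

open Groth.Agent.H25FinCov

/-- Let X be a scheme and A a quasi-coherent O_X-algebra whose underlying O_X-module is locally free of
rank d. Then the structure morphism Spec(A) → X of the relative spectrum of A is a cover of degree
d: finite, flat, locally of finite presentation and of rank d at every point of X. (This is the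
quasi-inverse direction of the equivalence between degree-d covers of X and O_X-algebras locally
free of rank d; the other direction and the identification of the direct-image algebra of Spec(A)
with A are separate statements.) -/
theorem result {X : Scheme.{u}} (A : RelSpec.QCAlg X) (d : ℕ)
    (hA : FlatMod.IsFinLocFreeOfRank d A.toModule) : FinCov.IsCover A.π d := by
  refine isCover_of_basis A.π d fun x => ?_
  haveI : IsIso A.gammaMap := Groth.Agent.S8255.result A
  obtain ⟨W, hxW, ⟨e⟩⟩ := hA x
  obtain ⟨V, hV, hxV, hle⟩ := exists_isAffineOpen_mem_and_subset (U := W) (x := x) hxW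
  obtain ⟨c⟩ := Groth.Agent.H8Props.FinLocFree.exists_basis_of_chart A.toModule e hle
  refine ⟨V, hV, hxV, ?_⟩
  letI := (A.π.app V).hom.toAlgebra
  letI := secAlg A V
  let c' : Module.Basis (Fin d) Γ(X, V) (A.presheaf.obj (op V)) := c
  let g : Γ(A.spec, A.π ⁻¹ᵁ V) →+* A.presheaf.obj (op V) := (A.gammaMap.app (op V)).hom
  have hg : Function.Bijective g := ConcreteCategory.bijective_of_isIso (A.gammaMap.app (op V))
  let E : Γ(A.spec, A.π ⁻¹ᵁ V) ≃ₗ[Γ(X, V)] A.presheaf.obj (op V) :=
    LinearEquiv.ofBijective
      { toFun := g
        map_add' := map_add g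
        map_smul' := fun r s => (map_mul g _ _).trans
          (congrArg (· * g s) (congr($(NatTrans.congr_app A.π_c_gammaMap (op V)) r))) } hg
  exact ⟨c'.map E.symm⟩

end Groth.Agent.S19693
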