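import Groth.Statements.S19695
import Groth.Agent.H25FinCov.Trace

set_option autoImplicit false
universe u
open CategoryTheory CategoryTheory.Limits AlgebraicGeometry Opposite
open FinCov

namespace Groth.Agent.S19695

open Groth.Agent.H25FinCov Groth.Agent.H8Props.FinLocFree

theorem app_nsmul_id {X : Scheme.{u}} (M : X.Modules) (n : ℕ) (V : X.Opens) (s : Γ(M, V)) :
    (n • 𝟙 M : M ⟶ M).app V s = n • s := by
  induction n with
  | zero => simp only [zero_nsmul]; rfl
  | succ n ih => rw [succ_nsmul, succ_nsmul, Scheme.Modules.Hom.add_app]; exact congrArg₂ (· + ·) ih rfl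

/-- Let X be a scheme, A a quasi-coherent O_X-algebra which is locally free of rank d as an O_X-module,
and τ : A → O_X its trace (the O_X-linear map which over every affine open where A is finite free is
the trace of the regular representation). Then the structure map O_X → A followed by τ equals
multiplication by d on O_X. -/
theorem result {X : Scheme.{u}} (A : RelSpec.QCAlg X) (d : ℕ)
    (hA : FlatMod.IsFinLocFreeOfRank d A.toModule)
    (τ : A.toModule ⟶ Coh.structureModule X) (hτ : FinCov.IsTrace A τ) :
    FinCov.strMod A ≫ τ = d • 𝟙 (Coh.structureModule X) := by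
  classical
  refine Scheme.Modules.hom_ext _ _ fun W => ?_
  ext r
  refine ext_locally (Coh.structureModule X) fun x hx => ?_
  obtain ⟨U, hxU, ⟨e⟩⟩ := hA x
  obtain ⟨V, hV, hxV, hle⟩ := exists_isAffineOpen_mem_and_subset (U := W ⊓ U) (x := x) ⟨hx, hxU⟩
  have hVW : V ≤ W := le_trans hle inf_le_left
  refine ⟨V, hVW, hxV, ?_⟩
  rw [← H17.PrinOmega.app_res, ← H17.PrinOmega.app_res]
  generalize (Coh.structureModule X).presheaf.map (homOfLE hVW).op r = s
  obtain ⟨b⟩ := exists_basis_of_chart A.toModule e (le_trans hle inf_le_right)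
  letI := secAlg A V
  let b' : Module.Basis (Fin d) Γ(X, V) (A.presheaf.obj (op V)) := b
  have hgood : IsGood A V := ⟨hV, Module.Free.of_basis b', Module.Finite.of_basis b'⟩
  rw [Scheme.Modules.Hom.comp_app, ConcreteCategory.comp_apply, app_eq_tr A hτ hgood]
  change Algebra.trace Γ(X, V) (A.presheaf.obj (op V)) (algebraMap Γ(X, V) (A.presheaf.obj (op V)) s) = _
  rw [Algebra.trace_algebraMap_of_basis b', Fintype.card_fin]
  exact (app_nsmul_id (Coh.structureModule X) d V s).symm

end Groth.Agent.S19695
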