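import Groth.Statements.S19696
import Groth.Agent.H25FinCov.Trace
import Groth.Agent.S19695
import Groth.Agent.H29Fitt.FreeLocal
import Groth.Agent.H10Coh.QCohOps

set_option autoImplicit false
universe u
open CategoryTheory CategoryTheory.Limits AlgebraicGeometry Opposite
open FinCov

namespace Groth.Agent.S19696

open Groth.Agent.H25FinCov Groth.Agent.H8Props.FinLocFree

/-- The linear map on sections. -/
noncomputable def appLin {X : Scheme.{u}} {M N : X.Modules} (φ : M ⟶ N) (V : X.Opens) : Γ(M, V) →ₗ[Γ(X, V)] Γ(N, V) where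
  toFun := φ.app V
  map_add' := map_add _
  map_smul' := φ.app_smul

/-- Let X be a scheme, A a quasi-coherent O_X-algebra which is locally free of rank d as an O_X-module,
and τ : A → O_X its trace (the O_X-linear map which over every affine open where A is finite free is
the trace of the regular representation). If d is invertible in O_X(X), then τ is a split
epimorphism of O_X-modules — so 0 → ker τ → A → O_X → 0 is split exact — and its kernel ker τ is
locally free of rank d − 1 as an O_X-module. -/
theorem result {X : Scheme.{u}}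
    (A : RelSpec.QCAlg X) (d : ℕ) (hA : FlatMod.IsFinLocFreeOfRank d A.toModule)
    (τ : A.toModule ⟶ Coh.structureModule X) (hτ : FinCov.IsTrace A τ)
    (hd : IsUnit ((d : Γ(X, ⊤)))) :
    IsSplitEpi τ ∧ FlatMod.IsFinLocFreeOfRank (d - 1) (kernel τ) := by
  classical
  have hA' : FlatMod.IsFinLocFree A.toModule := fun x => (hA x).elim fun U h => ⟨U, d, h⟩
  let u : Γ(X, ⊤) := ↑hd.unit⁻¹
  let s : Coh.structureModule X ⟶ A.toModule :=
    H29Fitt.homSec A.toModule ((FinCov.strMod A).app ⊤ u)
  have hnsmul : ∀ (n : ℕ) (M : X.Modules) (V : X.Opens) (z : Γ(M, V)), (n • 𝟙 M : M ⟶ M).app V z = n • z :=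
    fun n M V z => Groth.Agent.S19695.app_nsmul_id M n V z
  have hs : s ≫ τ = 𝟙 _ := by
    refine Scheme.Modules.hom_ext _ _ fun V => ?_
    ext r
    rw [Scheme.Modules.Hom.comp_app, ConcreteCategory.comp_apply, H29Fitt.homSec_app, Scheme.Modules.Hom.app_smul,
      H17.PrinOmega.app_res]
    have h1 : τ.app ⊤ ((FinCov.strMod A).app ⊤ u) = (1 : Γ(X, ⊤)) := by
      rw [← ConcreteCategory.comp_apply, ← Scheme.Modules.Hom.comp_app, Groth.Agent.S19695.result A d hA τ hτ,
        hnsmul]
      exact (nsmul_eq_mul d u).trans hd.mul_val_inv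
    rw [h1]
    show (show Γ(X, V) from r) * X.presheaf.map (homOfLE (le_top : V ≤ ⊤)).op 1 = (show Γ(X, V) from r)
    rw [map_one, mul_one]
  refine ⟨⟨⟨⟨s, hs⟩⟩⟩, ?_⟩
  let i := kernel.ι τ
  let p : A.toModule ⟶ kernel τ := kernel.lift τ (𝟙 _ - τ ≫ s) (by
    rw [Preadditive.sub_comp, Category.id_comp, Category.assoc, hs, Category.comp_id, sub_self])
  have hpi : p ≫ i = 𝟙 _ - τ ≫ s := kernel.lift_ι _ _ _
  have hip : i ≫ p = 𝟙 _ := by
    rw [← cancel_mono i, Category.assoc, hpi, Preadditive.comp_sub, Category.comp_id,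
      kernel.condition_assoc, zero_comp, sub_zero, Category.id_comp]
  haveI : (A.toModule).IsQuasicoherent := isQCoh_of_isFinLocFree _ hA'
  haveI : (Coh.structureModule X).IsQuasicoherent := H10Coh.isQuasicoherent_unit
  have hq : Coh.IsQCoh (kernel τ) := H10Coh.isQuasicoherent_kernel τ
  have hip' : ∀ (V : X.Opens) (k : Γ(kernel τ, V)), p.app V (i.app V k) = k := fun V k =>
    congrArg (fun φ : kernel τ ⟶ kernel τ => φ.app V k) hip
  have hker : FlatMod.IsFinLocFree (kernel τ) := isFinLocFree_of_sections _ hq fun x => by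
    obtain ⟨V, hV, hxV, -⟩ := exists_isAffineOpen_mem_and_subset (X := X) (U := ⊤) (x := x) trivial
    obtain ⟨hf, hp⟩ := finite_projective_sections A.toModule hA' hV
    haveI := hf; haveI := hp
    haveI : Module.Projective Γ(X, V) Γ(kernel τ, V) :=
      Module.Projective.of_split (appLin i V) (appLin p V) (LinearMap.ext (hip' V))
    haveI : Module.Finite Γ(X, V) Γ(kernel τ, V) :=
      Module.Finite.of_surjective (appLin p V) fun k => ⟨_, hip' V k⟩
    exact ⟨V, hV, hxV, Module.finitePresentation_of_projective _ _, inferInstance⟩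
  intro x
  obtain ⟨W, n, hxW, ⟨e⟩⟩ := hker x
  obtain ⟨U, hxU, ⟨f⟩⟩ := hA x
  obtain ⟨V, hV, hxV, hle⟩ := exists_isAffineOpen_mem_and_subset (U := W ⊓ U) (x := x) ⟨hxW, hxU⟩
  obtain ⟨c⟩ := exists_basis_of_chart _ e (le_trans hle inf_le_left)
  obtain ⟨b⟩ := exists_basis_of_chart _ f (le_trans hle inf_le_right)
  haveI : Nontrivial Γ(X, V) := (X.presheaf.germ V x hxV).hom.domain_nontrivial
  have hsum : ∀ a : Γ(A.toModule, V), i.app V (p.app V a) = a - s.app V (τ.app V a) := fun a =>
    congrArg (fun φ : A.toModule ⟶ A.toModule => φ.app V a) hpi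
  have hτi : ∀ k, τ.app V (i.app V k) = 0 := fun k =>
    congrArg (fun φ : kernel τ ⟶ Coh.structureModule X => φ.app V k) (kernel.condition τ)
  have hτs : ∀ r, τ.app V (s.app V r) = r := fun r =>
    congrArg (fun φ : Coh.structureModule X ⟶ Coh.structureModule X => φ.app V r) hs
  let L : Γ(A.toModule, V) ≃ₗ[Γ(X, V)] Γ(Coh.structureModule X, V) × Γ(kernel τ, V) :=
    LinearEquiv.ofBijective ((appLin τ V).prod (appLin p V)) ⟨fun a a' h => by
        obtain ⟨h1, h2⟩ := Prod.ext_iff.mp h
        have h3 : i.app V (p.app V a) = i.app V (p.app V a') := congrArg (i.app V) h2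
        rw [hsum, hsum, show τ.app V a = τ.app V a' from h1] at h3
        exact sub_left_injective h3,
      fun z => ⟨s.app V z.1 + i.app V z.2, by
        refine Prod.ext ?_ ?_
        · show τ.app V (s.app V z.1 + i.app V z.2) = z.1
          rw [map_add, hτs, hτi, add_zero]
        · show p.app V (s.app V z.1 + i.app V z.2) = z.2
          have h0 : p.app V (s.app V z.1) = 0 := by
            have hz : i.app V (p.app V (s.app V z.1)) = 0 := by rw [hsum, hτs, sub_self]
            rw [← hip' V (p.app V (s.app V z.1)), hz, map_zero]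
          rw [map_add, h0, hip', zero_add]⟩⟩
  let u1 : Module.Basis (Fin 1) Γ(X, V) Γ(Coh.structureModule X, V) :=
    (Module.Basis.singleton (Fin 1) Γ(X, V))
  have hcard := (Module.finrank_eq_card_basis (b.map L)).symm.trans (Module.finrank_eq_card_basis (u1.prod c))
  simp only [Fintype.card_fin, Fintype.card_sum] at hcard
  obtain rfl : n = d - 1 := by omega
  exact ⟨W, hxW, ⟨e⟩⟩

end Groth.Agent.S19696
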