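import Groth.Statements.S19699
import Groth.Agent.H25FinCov.Trace
import Groth.Agent.S19695
import Groth.Agent.H11Ample.Restrict
import Groth.Agent.LeadDev.Generic

set_option autoImplicit false
universe u
open CategoryTheory CategoryTheory.Limits AlgebraicGeometry Opposite
open FinCov

namespace Groth.Agent.S19699

open Groth.Agent.H25FinCov Groth.Agent.H8Props.FinLocFree

theorem matrix_sq {R : Type*} [CommRing R] (M : Matrix (Fin 2) (Fin 2) R) (h : M 0 0 + M 1 1 = 0) :
    M * M = (M 0 0 * M 0 0 + M 0 1 * M 1 0) • (1 : Matrix (Fin 2) (Fin 2) R) := by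
  have h1 : M 1 1 = - M 0 0 := eq_neg_of_add_eq_zero_right h
  ext i j
  fin_cases i <;> fin_cases j <;> simp [Matrix.mul_apply, Fin.sum_univ_two, h1] <;> ring

theorem sq_eq {R S : Type*} [CommRing R] [CommRing S] [Algebra R S] (b : Module.Basis (Fin 2) R S) {a : S}
    (ha : Algebra.trace R S a = 0) : ∃ c : R, a * a = algebraMap R S c := by
  classical
  rw [Algebra.trace_eq_matrix_trace b, Matrix.trace, Fin.sum_univ_two] at ha
  let M := Algebra.leftMulMatrix b a
  refine ⟨M 0 0 * M 0 0 + M 0 1 * M 1 0, Algebra.leftMulMatrix_injective b ?_⟩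
  rw [map_mul, AlgHom.commutes, matrix_sq _ ha, Algebra.algebraMap_eq_smul_one]

theorem mul_eq {R S : Type*} [CommRing R] [CommRing S] [Algebra R S] (bs : Module.Basis (Fin 2) R S) {a b : S}
    (ha : Algebra.trace R S a = 0) (hb : Algebra.trace R S b = 0) (u : R) (hu : u * 2 = 1) :
    a * b = algebraMap R S (u * Algebra.trace R S (a * b)) := by
  obtain ⟨c1, h1⟩ := sq_eq bs ha
  obtain ⟨c2, h2⟩ := sq_eq bs hb
  obtain ⟨c3, h3⟩ := sq_eq bs (a := a + b) (by rw [map_add, ha, hb, add_zero])
  have hu' : algebraMap R S u * 2 = 1 := by rw [← map_ofNat (algebraMap R S) 2, ← map_mul, hu, map_one]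
  have e : a * b = algebraMap R S (u * (c3 - c1 - c2)) := by
    rw [map_mul, map_sub, map_sub, ← h1, ← h2, ← h3]
    linear_combination (-(a * b)) * hu'
  have h4 : u * Algebra.trace R S (a * b) = u * (c3 - c1 - c2) := by
    rw [e, Algebra.trace_algebraMap_of_basis bs, Fintype.card_fin, nsmul_eq_mul, Nat.cast_ofNat]
    linear_combination (u * (c3 - c1 - c2)) * hu
  rw [h4, e]

/-- Let X be a scheme with 2 invertible in O_X(X), A a quasi-coherent O_X-algebra which is locally free
of rank 2 as an O_X-module, and τ : A → O_X its trace (the O_X-linear map which over every affine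
open where A is finite free is the trace of the regular representation). Then there is a
homomorphism of O_X-modules m : ker τ ⊗ ker τ → O_X such that A, with the inclusion ker τ → A, is
the algebra O_X ⊕ ker τ with product given by m: over every open subset, every section of A is
uniquely s·1 + l with s a function and l a section of ker τ, and l·l' = m(l ⊗ l')·1 for sections l,
l' of ker τ. -/
theorem result {X : Scheme.{u}} (A : RelSpec.QCAlg X)
    (hA : FlatMod.IsFinLocFreeOfRank 2 A.toModule)
    (τ : A.toModule ⟶ Coh.structureModule X) (hτ : FinCov.IsTrace A τ) (h2 : IsUnit (2 : Γ(X, ⊤))) :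
    ∃ m : CohB1.tensorMod (kernel τ) (kernel τ) ⟶ Coh.structureModule X,
      FinCov.IsDblAlg (kernel τ) m A (kernel.ι τ) := by
  classical
  have hA' : FlatMod.IsFinLocFree A.toModule := fun x => (hA x).elim fun U h => ⟨U, 2, h⟩
  let u : ∀ U : X.Opens, Γ(X, U) := fun U => X.presheaf.map (homOfLE (le_top : U ≤ ⊤)).op ↑h2.unit⁻¹
  have hu : ∀ U, u U * 2 = 1 := fun U => by
    have h := congrArg (X.presheaf.map (homOfLE (le_top : U ≤ ⊤)).op) (h2.val_inv_mul)
    rw [map_mul, map_one, map_ofNat] at h
    exact h
  have hures : ∀ (U V : X.Opens) (h : V ≤ U), X.presheaf.map (homOfLE h).op (u U) = u V :=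
    fun U V h => H10Coh.rres_rres _ _ _
  let ι := kernel.ι τ
  have hι0 : ∀ (U : X.Opens) (l : Γ(kernel τ, U)), τ.app U (ι.app U l) = 0 := fun U l =>
    congrArg (fun φ : kernel τ ⟶ Coh.structureModule X => φ.app U l) (kernel.condition τ)
  have hτs : ∀ (U : X.Opens) (s : Γ(X, U)), τ.app U ((FinCov.strMod A).app U s) = (2 * s : Γ(X, U)) :=
    fun U s => by
      rw [← ConcreteCategory.comp_apply, ← Scheme.Modules.Hom.comp_app, Groth.Agent.S19695.result A 2 hA τ hτ,
        Groth.Agent.S19695.app_nsmul_id (Coh.structureModule X) 2 U s, two_nsmul]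
      exact (two_mul s).symm
  let sec : ∀ (U : X.Opens) (l : Γ(kernel τ, U)), A.presheaf.obj (op U) := fun U l => ι.app U l
  have hres : ∀ (U V : X.Opens) (h : V ≤ U) (l : Γ(kernel τ, U)),
      A.presheaf.map (homOfLE h).op (sec U l) = sec V ((kernel τ).presheaf.map (homOfLE h).op l) :=
    fun U V h l => (H17.PrinOmega.app_res ι h l).symm
  have hsmul : ∀ (U : X.Opens) (r : Γ(X, U)) (l : Γ(kernel τ, U)),
      sec U (r • l) = (A.str.app (op U)).hom r * sec U l := fun U r l => Scheme.Modules.Hom.app_smul ι r l
  let t : ∀ U : X.Opens, A.presheaf.obj (op U) → Γ(X, U) := fun U a => τ.app U (show Γ(A.toModule, U) from a)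
  have tadd : ∀ U a a', t U (a + a') = t U a + t U a' := fun U a a' => map_add (τ.app U).hom _ _
  have tsmul : ∀ (U : X.Opens) (r : Γ(X, U)) a, t U ((A.str.app (op U)).hom r * a) = r * t U a :=
    fun U r a => Scheme.Modules.Hom.app_smul τ r (show Γ(A.toModule, U) from a)
  let β : H11Tilde.Pairing (kernel τ) (kernel τ) (Coh.structureModule X) :=
    { toFun := fun U l l' => (u U * t U (sec U l * sec U l') : Γ(X, U))
      add_left := fun U l l₂ l' => by
        rw [show sec U (l + l₂) = sec U l + sec U l₂ from map_add _ _ _, add_mul, tadd, mul_add]; rfl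
      smul_left := fun U r l l' => by
        rw [hsmul, mul_assoc, tsmul]
        exact mul_left_comm (u U) r _
      add_right := fun U l l' l₂ => by
        rw [show sec U (l' + l₂) = sec U l' + sec U l₂ from map_add _ _ _, mul_add, tadd, mul_add]; rfl
      smul_right := fun U r l l' => by
        rw [hsmul, mul_left_comm, tsmul]
        exact mul_left_comm (u U) r _
      res := fun U V h l l' => by
        change X.presheaf.map (homOfLE h).op (u U * _) = _
        rw [map_mul, hures, ← hres, ← hres, ← map_mul]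
        exact congrArg (u V * ·) (H17.PrinOmega.app_res τ h _).symm }
  refine ⟨H11Tilde.tensorDesc β, fun U => ?_, fun U l l' => ?_⟩
  · constructor
    · rintro ⟨s, l⟩ ⟨s', l'⟩ h
      have h' : (FinCov.strMod A).app U s + ι.app U l = (FinCov.strMod A).app U s' + ι.app U l' := h
      have e := congrArg (τ.app U) h'
      rw [map_add, map_add, hι0, hι0, add_zero, add_zero, hτs, hτs] at e
      obtain rfl : s = s' := by
        calc s = u U * (2 * s) := by rw [← mul_assoc, hu, one_mul]
          _ = u U * (2 * s') := congrArg (u U * ·) e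
          _ = s' := by rw [← mul_assoc, hu, one_mul]
      exact Prod.ext rfl (H10Coh.injective_app_of_mono' ι U (add_left_cancel h'))
    · intro a
      let a' : Γ(A.toModule, U) := a
      obtain ⟨k, hk⟩ := LeadDev.exists_kernel_section τ U
        (a' - (FinCov.strMod A).app U (u U * (show Γ(X, U) from τ.app U a'))) (by
          rw [map_sub, hτs, ← mul_assoc, mul_comm 2 (u U), hu, one_mul]; exact sub_self _)
      refine ⟨(u U * (show Γ(X, U) from τ.app U a'), k), ?_⟩
      show (FinCov.strMod A).app U (u U * (show Γ(X, U) from τ.app U a')) + ι.app U k = a'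
      rw [hk]; exact add_sub_cancel _ _
  · show sec U l * sec U l' = (A.str.app (op U)).hom ((H11Tilde.tensorDesc β).app U (H11Ample.tm l l'))
    rw [H11Ample.tensorDesc_tm]
    refine ext_locally A.toModule fun x hx => ?_
    obtain ⟨W, hxW, ⟨e⟩⟩ := hA x
    obtain ⟨V, hV, hxV, hle⟩ := exists_isAffineOpen_mem_and_subset (U := U ⊓ W) (x := x) ⟨hx, hxW⟩
    have hVU : V ≤ U := le_trans hle inf_le_left
    refine ⟨V, hVU, hxV, ?_⟩
    change A.presheaf.map (homOfLE hVU).op (sec U l * sec U l') =
      A.presheaf.map (homOfLE hVU).op ((A.str.app (op U)) (β.toFun U l l'))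
    rw [map_mul, hres, hres, res_str, show X.presheaf.map (homOfLE hVU).op (β.toFun U l l') = _ from β.res U V hVU l l']
    generalize (kernel τ).presheaf.map (homOfLE hVU).op l = p
    generalize (kernel τ).presheaf.map (homOfLE hVU).op l' = q
    obtain ⟨b⟩ := exists_basis_of_chart A.toModule e (le_trans hle inf_le_right)
    letI := secAlg A V
    let b' : Module.Basis (Fin 2) Γ(X, V) (A.presheaf.obj (op V)) := b
    have hgood : IsGood A V := ⟨hV, Module.Free.of_basis b', Module.Finite.of_basis b'⟩
    have htr : ∀ a, t V a = Algebra.trace Γ(X, V) (A.presheaf.obj (op V)) a := fun a => app_eq_tr A hτ hgood a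
    show sec V p * sec V q = algebraMap Γ(X, V) (A.presheaf.obj (op V)) (u V * t V (sec V p * sec V q))
    rw [htr]
    exact mul_eq b' ((htr _).symm.trans (hι0 V p)) ((htr _).symm.trans (hι0 V q)) (u V) (hu V)

end Groth.Agent.S19699
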