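import Groth.Statements.S19700
import Groth.Agent.H25FinCov.Dbl
import Groth.Agent.S19695

set_option autoImplicit false
universe u
open CategoryTheory CategoryTheory.Limits AlgebraicGeometry Opposite
open FinCov

namespace Groth.Agent.S19700

open Groth.Agent.H25FinCov

/-- Let X be a scheme with 2 invertible in O_X(X), L an invertible O_X-module, m : L ⊗ L → O_X a
homomorphism of O_X-modules, (A, j : L → A) a quasi-coherent O_X-algebra presented as O_X ⊕ L with
product given by m (every section of A is uniquely s·1 + j(l), and j(l)·j(l') = m(l ⊗ l')·1), and τ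
: A → O_X the trace of A (the O_X-linear map which over every affine open where A is finite free is
the trace of the regular representation; A is locally free of rank 2 here). Then for every open
subset U of X and every section a of A over U, τ(a) = 0 if and only if a lies in the image of j over
U: the kernel of the trace is exactly j(L). -/
theorem result {X : Scheme.{u}} (L : X.Modules) (hL : PicF.IsInvertible L)
    (m : CohB1.tensorMod L L ⟶ Coh.structureModule X) (A : RelSpec.QCAlg X) (j : L ⟶ A.toModule)
    (h : FinCov.IsDblAlg L m A j) (h2 : IsUnit (2 : Γ(X, ⊤)))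
    (τ : A.toModule ⟶ Coh.structureModule X) (hτ : FinCov.IsTrace A τ)
    (U : X.Opens) (a : A.toModule.val.obj (op U)) :
    (τ.val.app (op U)).hom a = 0 ↔ a ∈ Set.range (j.val.app (op U)).hom := by
  have hA := isFinLocFreeOfRank_two h hL
  have hs : ∀ s : Γ(X, U), τ.app U ((FinCov.strMod A).app U s) = 2 • s := fun s => by
    rw [← ConcreteCategory.comp_apply, ← Scheme.Modules.Hom.comp_app,
      Groth.Agent.S19695.result A 2 hA τ hτ]
    exact Groth.Agent.S19695.app_nsmul_id (Coh.structureModule X) 2 U s
  constructor
  · intro h0
    obtain ⟨⟨s, l⟩, rfl⟩ := (h.1 U).2 a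
    have h1 : τ.app U ((FinCov.strMod A).app U s + j.app U l) = 0 := h0
    rw [map_add, hs, trace_j_eq_zero h hL hτ, add_zero] at h1
    have hu : IsUnit (2 : Γ(X, U)) := by
      have := h2.map (X.presheaf.map (homOfLE (le_top : U ≤ ⊤)).op).hom
      rwa [map_ofNat] at this
    have hs0 : s = 0 := hu.mul_right_eq_zero.mp (by
      rw [two_mul]; exact (two_nsmul s).symm.trans h1)
    subst hs0
    exact ⟨l, ((congrArg (· + _) (map_zero (A.str.app (op U)).hom)).trans (zero_add _)).symm⟩
  · rintro ⟨l, rfl⟩
    exact trace_j_eq_zero h hL hτ U l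

end Groth.Agent.S19700
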