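import Groth.Statements.S19701
import Groth.Agent.H29DoubleCover.Equation.Cover
import Groth.Agent.H26Smooth.ProjSmooth
import Groth.Agent.H29DoubleCover.Separable
import Groth.Agent.H29DoubleCover.Connected
import Groth.Agent.H10Coh.AffinePush
import Groth.Agent.H28Int.Push
import Groth.Agent.H19Grp.AlgClosedGeom

set_option autoImplicit false
universe u
open CategoryTheory CategoryTheory.Limits AlgebraicGeometry Opposite
open Curves

namespace Groth.Agent.S19701

/-- Let k be an algebraically closed field of characteristic different from 2 and X a hyperelliptic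
curve of genus g over k: X → Spec k is smooth and proper, X is connected of dimension one with g =
dim_k H¹(X, O_X) ≥ 2, and h : X → P¹_k is a k-morphism which is a double cover (finite, flat,
locally of finite presentation, of rank 2 at every point). Let τ : h_*O_X → O_{P¹} be the trace of h
(the O-linear map which over every affine open of P¹_k where h_*O_X is finite free is the trace of
the regular representation). Then the kernel of τ — an invertible sheaf on P¹_k — has degree −g − 1,
the degree of a rank-one sheaf E on P¹_k being χ(E) − χ(O). (On P¹_k this says that ker τ is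
isomorphic to O(−g − 1); only the degree is asserted here.) -/
theorem result (k : Type u) [Field k] [IsAlgClosed k]
    (h2 : (2 : k) ≠ 0) {X : Scheme.{u}} (p : X ⟶ Spec (CommRingCat.of k)) [IsProper p] [Smooth p]
    [ConnectedSpace ↥X] (hX : topologicalKrullDim ↥X = 1) (hg : 2 ≤ @Curv2.genus k _ X ⟨p⟩)
    (h : X ⟶ CohB1.ProjSpace 1 k) (hh : h ≫ CohB1.ProjSpace.toSpec 1 k = p)
    [IsFinite h] [Flat h] [LocallyOfFinitePresentation h]
    (hr : ∀ y : ↥(CohB1.ProjSpace 1 k), h.finrank y = 2)
    (τ : (Scheme.Modules.pushforward h).obj (Coh.structureModule X) ⟶ Coh.structureModule (CohB1.ProjSpace 1 k))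
    (hτ : FinCov.IsTraceHom h τ) :
    @Curv2.deg k _ (CohB1.ProjSpace 1 k) ⟨CohB1.ProjSpace.toSpec 1 k⟩ (kernel τ) 1 =
      -((@Curv2.genus k _ X ⟨p⟩ : ℤ) + 1) := by
  classical
  letI : X.Over (Spec (CommRingCat.of k)) := ⟨p⟩
  let P := CohB1.ProjSpace 1 k
  letI := H29RR.PnPic.overSpec 1 k
  haveI : IsProper (P ↘ Spec (CommRingCat.of k)) := H27Weil.isProper_toSpec 1 k
  haveI : IsProper (X ↘ Spec (CommRingCat.of k)) := ‹IsProper p›
  haveI : IsProper (CohB1.ProjSpace.toSpec 1 k) := H27Weil.isProper_toSpec 1 k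
  haveI : IsLocallyNoetherian P := LocallyOfFiniteType.isLocallyNoetherian (CohB1.ProjSpace.toSpec 1 k)
  haveI := (H28Curve.projLine_facts k).1
  haveI : GeometricallyConnected p := H19Grp.geometricallyConnected_of_connectedSpace p
  have h00 := H29DoubleCover.finrank_h0_structure p
  let O := Coh.structureModule P
  let A := (Scheme.Modules.pushforward h).obj (Coh.structureModule X)
  let half : Γ(X, ⊤) := H10Coh.globA (A := k) (X := X) (2 : k)⁻¹
  let σ : O ⟶ A := H11Tilde.homOfGlobal A (half : Γ(A, ⊤))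
  have hτ1 : τ.app ⊤ (half : Γ(A, ⊤)) = (1 : Γ(P, ⊤)) := by
    refine H11Tilde.eq_of_locally _ _ fun y _ => ?_
    obtain ⟨i, hi⟩ := H11Ample.exists_mem_basicOpen_X (n := 1) (R := k) y
    refine ⟨LefPen.chart 1 k i, le_top, hi, ?_⟩
    let D := LefPen.chart 1 k i
    have hD : IsAffineOpen D := H29DoubleCover.isAffineOpen_chart k i
    haveI : Nonempty D := ⟨⟨y, hi⟩⟩
    letI := (h.app D).hom.toAlgebra
    haveI : Module.Finite Γ(P, D) Γ(X, h ⁻¹ᵁ D) := IsFinite.finite_app h D hD
    haveI : Flat (Spec.map (h.app D)) :=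
      MorphismProperty.of_isPullback (H22Alg.FiniteDegree.isPullback_fromSpec h hD) inferInstance
    haveI : Module.Flat Γ(P, D) Γ(X, h ⁻¹ᵁ D) := Flat.SpecMap_iff.mp ‹_›
    haveI : IsPrincipalIdealRing Γ(P, D) := by
      obtain ⟨ρ, hρ, -, -⟩ := H29DoubleCover.exists_chartPoly k i (i + 1) (by fin_cases i <;> decide)
      exact IsPrincipalIdealRing.of_surjective ρ hρ.2
    haveI : Module.Free Γ(P, D) Γ(X, h ⁻¹ᵁ D) := Module.free_of_finite_type_torsion_free'
    have hrk : Module.finrank Γ(P, D) Γ(X, h ⁻¹ᵁ D) = 2 := by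
      have h3 := H22Alg.FiniteDegree.finrank_eq_rankAtStalk h hD ⟨y, hi⟩
      rw [Module.rankAtStalk_eq_finrank_of_free, hr] at h3
      exact h3.symm
    rw [← H11Tilde.app_map_apply]
    refine (hτ D hD inferInstance inferInstance _).trans ?_
    have hhalf : (X.presheaf.map ((TopologicalSpace.Opens.map h.base).map (homOfLE (le_top : D ≤ ⊤))).op half) =
        algebraMap Γ(P, D) Γ(X, h ⁻¹ᵁ D) (LeadFF.scal (CohB1.ProjSpace.toSpec 1 k) D (2 : k)⁻¹) := by
      show _ = h.app D (P.presheaf.map (homOfLE le_top).op (LeadFF.glob (CohB1.ProjSpace.toSpec 1 k) (2 : k)⁻¹))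
      rw [← ConcreteCategory.comp_apply, h.naturality, ConcreteCategory.comp_apply]
      refine congrArg _ ?_
      show p.appTop _ = h.appTop ((CohB1.ProjSpace.toSpec 1 k).appTop _)
      rw [← ConcreteCategory.comp_apply _ h.appTop, ← Scheme.Hom.comp_appTop, hh]
    refine (congrArg (Algebra.trace Γ(P, D) Γ(X, h ⁻¹ᵁ D)) hhalf).trans ?_
    rw [Algebra.trace_algebraMap, hrk, nsmul_eq_mul, ← map_natCast (LeadFF.scal (CohB1.ProjSpace.toSpec 1 k) D) 2,
      ← map_mul, Nat.cast_ofNat, mul_inv_cancel₀ h2, map_one]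
    exact (map_one (P.presheaf.map (homOfLE (le_top : D ≤ ⊤)).op).hom).symm
  have hστ : σ ≫ τ = 𝟙 O := by
    refine Scheme.Modules.hom_ext _ _ fun V => ?_
    ext r
    show τ.app V ((show Γ(P, V) from r) • A.presheaf.map (homOfLE le_top).op (half : Γ(A, ⊤))) = r
    rw [Scheme.Modules.Hom.app_smul, H11Tilde.app_map_apply, hτ1]
    show (show Γ(P, V) from r) * P.presheaf.map (homOfLE le_top).op (1 : Γ(P, ⊤)) = r
    rw [map_one]
    exact mul_one (show Γ(P, V) from r)
  haveI : IsSplitEpi τ := IsSplitEpi.mk' ⟨σ, hστ⟩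
  have hS : (ShortComplex.mk (kernel.ι τ) τ (kernel.condition τ)).ShortExact :=
    { exact := ShortComplex.exact_kernel _ }
  have hOX : Coh.IsCoh (Coh.structureModule X) := by
    haveI := H29RR.isNoetherian_of_proper (k := k) (X := X)
    exact H10Coh.isCoh_structureModule' X
  have hA : Coh.IsCoh A := H10Coh.isCoh_push_of_isFinite h _ hOX
  have hO : Coh.IsCoh O := H10Coh.isCoh_structureModule' P
  have he := H25Euler.euler_add (k := k) hS (H10Coh.isCoh_kernel τ hA hO.1) hA hO
  haveI : (Coh.structureModule X).IsQuasicoherent := hOX.1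
  have hpush : Curv2.euler k P A = Curv2.euler k X (Coh.structureModule X) :=
    H28Int.Push.euler_push k h hh _
  have hX' : Curv2.euler k X (Coh.structureModule X) = 1 - (Curv2.genus k X : ℤ) := by
    rw [H29RR.euler_eq_sub (k := k) hX.le, h00]; rfl
  have hP : Curv2.euler k P O = 1 := by
    rw [H29RR.euler_eq_sub (k := k) (H28Curve.projLine_facts k).2.2.le]
    have h0 : Curv2.genus k P = 0 := H29DoubleCover.genus_projLine k
    have h1 : Module.finrank k (Coh.HH P O 0) = 1 := by
      haveI : GeometricallyConnected (P ↘ Spec (CommRingCat.of k)) := H19Grp.geometricallyConnected_of_connectedSpace _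
      haveI : Smooth (P ↘ Spec (CommRingCat.of k)) := inferInstanceAs (Smooth (CohB1.ProjSpace.toSpec 1 k))
      exact H29DoubleCover.finrank_h0_structure (P ↘ Spec (CommRingCat.of k))
    rw [Curv2.genus] at h0
    rw [h0, h1]; rfl
  have he' : Curv2.euler k P A = Curv2.euler k P (kernel τ) + Curv2.euler k P O := he
  rw [Curv2.deg, Nat.cast_one, one_mul]
  change Curv2.euler k P (kernel τ) - Curv2.euler k P O = -((Curv2.genus k X : ℤ) + 1)
  omega

end Groth.Agent.S19701
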