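import Groth.Statements.S19702
import Groth.Agent.H19Grp.AntiAffineGroup
import Groth.Agent.H19Grp.QuotientDesc
import Groth.Agent.H19Grp.Kernel

set_option autoImplicit false
set_option maxHeartbeats 1000000
set_option synthInstance.maxHeartbeats 100000
set_option linter.style.haveILetI false
set_option backward.isDefEq.respectTransparency false
universe u
open CategoryTheory MonoidalCategory CartesianMonoidalCategory MonObj GrpObj AlgebraicGeometry CategoryTheory.Limits
open AlgGrp

namespace Groth.Agent.S19702

/-- Let k be a field, K a field extension of k and G a k-group scheme of finite type. Then G is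
anti-affine, i.e. O(G) = k, if and only if the base change G_K is anti-affine, i.e. O(G_K) = K. -/
theorem result (k : Type u) [Field k] (K : Type u) [Field K] [Algebra k K]
    (G : Over (Spec (CommRingCat.of k))) [GrpObj G] [LocallyOfFiniteType G.hom] [QuasiCompact G.hom] :
    Function.Bijective ((Scheme.ΓSpecIso (CommRingCat.of k)).inv ≫ G.hom.appTop).hom ↔
      Function.Bijective ((Scheme.ΓSpecIso (CommRingCat.of K)).inv ≫ (Red.bc (Spec.map (CommRingCat.ofHom (algebraMap k K))) G).hom.appTop).hom := by
  haveI : IsNoetherianRing (CommRingCat.of k) := inferInstanceAs (IsNoetherianRing k)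
  haveI : IsLocallyNoetherian G.left := LocallyOfFiniteType.isLocallyNoetherian G.hom
  haveI : QuasiSeparated G.hom := inferInstance
  let π := Spec.map (CommRingCat.ofHom (algebraMap k K))
  rw [← Groth.Agent.H19Grp.AntiAffine.isIso_appTop_iff, ← Groth.Agent.H19Grp.AntiAffine.isIso_appTop_iff]
  have hsq : IsPullback (pullback.snd G.hom π) (pullback.fst G.hom π) π G.hom := (IsPullback.of_hasPullback G.hom π).flip
  constructor
  · intro h
    exact Groth.Agent.H19Grp.AntiAffine.isIso_appTop_baseChange hsq
  · intro h
    haveI : CompactSpace G.left := QuasiCompact.compactSpace_of_compactSpace G.hom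
    haveI : QuasiSeparatedSpace G.left := quasiSeparatedSpace_of_quasiSeparated G.hom
    have hp := Groth.Agent.H19Grp.AntiAffine.isPushout_of_flat_affine hsq
    haveI : IsIso (pullback.snd G.hom π).appTop := h
    haveI : Nontrivial Γ(Spec (CommRingCat.of K), ⊤) :=
      (Scheme.ΓSpecIso (CommRingCat.of K)).commRingCatIsoToRingEquiv.toEquiv.nontrivial
    rw [ConcreteCategory.isIso_iff_bijective]
    exact Groth.Agent.H19Grp.AntiAffine.bijective_of_isPushout (Groth.Agent.H19Grp.AntiAffine.isField_Γ_Spec k) hp

end Groth.Agent.S19702
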