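import Groth.Statements.S1971
import Groth.Agent.H9Hens.PairOps
-- import your own Groth.Agent.* helpers here

set_option autoImplicit false
universe u
open EtAlg

namespace Groth.Agent.S1971

/-- Let A be a ring with ideals I and J having the same zero locus in Spec A. Then an A-algebra is a
henselization of the pair (A, I) if and only if it is a henselization of the pair (A, J). -/
theorem result (A : Type u) [CommRing A] (I J : Ideal A)
    (h : PrimeSpectrum.zeroLocus (I : Set A) = PrimeSpectrum.zeroLocus (J : Set A)) (B : Type u) [CommRing B] [Algebra A B] :
    Hens2.IsPairHenselization A I B ↔ Hens2.IsPairHenselization A J B := by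
  have key : ∀ I J : Ideal A, I.radical = J.radical →
      Hens2.IsPairHenselization A I B → Hens2.IsPairHenselization A J B := by
    intro I J h hB
    have := hB.1
    have hJI : J ≤ I.radical := Ideal.le_radical.trans h.ge
    have hIJ : I ≤ J.radical := Ideal.le_radical.trans h.le
    have : HenselianRing B (I.map (algebraMap A B)).radical := H9Hens.henselianRing_radical
    refine ⟨H9Hens.henselianRing_of_le (J := (I.map (algebraMap A B)).radical)
      (le_trans (Ideal.map_mono hJI) (Ideal.map_radical_le _)), ?_⟩
    intro C _ J' f hC hf
    refine hB.2 C J'.radical f H9Hens.henselianRing_radical ?_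
    calc I.map f ≤ J.radical.map f := Ideal.map_mono hIJ
      _ ≤ (J.map f).radical := Ideal.map_radical_le _
      _ ≤ J'.radical := Ideal.radical_mono hf
  have h' : I.radical = J.radical := by
    rw [← PrimeSpectrum.vanishingIdeal_zeroLocus_eq_radical, h,
      PrimeSpectrum.vanishingIdeal_zeroLocus_eq_radical]
  exact ⟨key I J h', key J I h'.symm⟩

end Groth.Agent.S1971
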