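import Groth.Statements.S19711
import Mathlib.RingTheory.Spectrum.Prime.FreeLocus
-- import your own Groth.Agent.* helpers here

set_option autoImplicit false
universe u
open CategoryTheory
open Coh

namespace Groth.Agent.S19711


/-- a quotient which is free at a prime splits up to a scalar outside that prime. -/
theorem exists_retraction {A : Type*} [CommRing A] {F : Type*} [AddCommGroup F] [Module A F]
    (K : Submodule A F) [Module.FinitePresentation A (F ⧸ K)] (S : Submonoid A)
    [Module.Projective (Localization S) (LocalizedModule S (F ⧸ K))] :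
    ∃ (t : A) (r : F →ₗ[A] F), t ∈ S ∧ (∀ x, r x ∈ K) ∧ ∀ x ∈ K, r x = t • x := by
  let π : F →ₗ[A] F ⧸ K := K.mkQ
  let πS : LocalizedModule S F →ₗ[Localization S] LocalizedModule S (F ⧸ K) := LocalizedModule.map S π
  have hπS : Function.Surjective πS := IsLocalizedModule.map_surjective S
    (LocalizedModule.mkLinearMap S F) (LocalizedModule.mkLinearMap S (F ⧸ K)) π K.mkQ_surjective
  obtain ⟨σ, hσ⟩ := Module.projective_lifting_property πS LinearMap.id hπS
  let g : (F ⧸ K) →ₗ[A] LocalizedModule S F :=
    (σ.restrictScalars A).comp (LocalizedModule.mkLinearMap S (F ⧸ K))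
  obtain ⟨h, t₁, ht₁⟩ := Module.FinitePresentation.exists_lift_of_isLocalizedModule S
    (LocalizedModule.mkLinearMap S F) g
  have hcomp : (LocalizedModule.mkLinearMap S (F ⧸ K)).comp (π.comp h) =
      (LocalizedModule.mkLinearMap S (F ⧸ K)).comp ((t₁ : A) • LinearMap.id) := by
    refine LinearMap.ext fun q => ?_
    have h1 : LocalizedModule.mkLinearMap S (F ⧸ K) (π (h q)) =
        πS (LocalizedModule.mkLinearMap S F (h q)) :=
      (IsLocalizedModule.map_apply S (LocalizedModule.mkLinearMap S F)
        (LocalizedModule.mkLinearMap S (F ⧸ K)) π (h q)).symm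
    have h2 : LocalizedModule.mkLinearMap S F (h q) = (t₁ : A) • g q := LinearMap.congr_fun ht₁ q
    have h3 : πS (g q) = LocalizedModule.mkLinearMap S (F ⧸ K) q := LinearMap.congr_fun hσ _
    simp only [LinearMap.comp_apply, LinearMap.smul_apply, LinearMap.id_apply, map_smul]
    rw [h1, h2, LinearMap.map_smul_of_tower, h3]
  obtain ⟨t₂, ht₂⟩ := Module.Finite.exists_smul_of_comp_eq_of_isLocalizedModule S
    (LocalizedModule.mkLinearMap S (F ⧸ K)) _ _ hcomp
  refine ⟨t₂ * t₁, ((t₂ : A) * t₁) • LinearMap.id - ((t₂ : A) • h).comp π, S.mul_mem t₂.2 t₁.2,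
    fun x => ?_, fun x hx => ?_⟩
  · have h4 : (t₂ : A) • π (h (π x)) = (t₂ : A) • ((t₁ : A) • π x) := LinearMap.congr_fun ht₂ (π x)
    rw [← Submodule.Quotient.mk_eq_zero]
    show π _ = 0
    simp only [LinearMap.sub_apply, LinearMap.smul_apply, LinearMap.id_apply, LinearMap.comp_apply,
      map_sub, map_smul, h4, mul_smul, sub_self]
  · have : π x = 0 := (Submodule.Quotient.mk_eq_zero K).mpr hx
    simp [this]



/-- Let A be a Noetherian integral domain and F an A-linear additive functor from A-modules to A-modules
with F(A) a finitely generated A-module. Call such a functor generically injective when there is a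
dense open subset U of Spec A such that for every point u of U whose residue field κ(u) is a
finitely generated A-algebra the comparison map F(A) ⊗_A κ(u) → F(κ(u)) is injective; since F is
A-linear this injectivity says: every m in F(A) whose image under F(A → κ(u)) vanishes satisfies s·m
∈ u·F(A) for some s outside u. If F is generically injective then so is every A-linear additive
subfunctor K ⊆ F (a natural transformation K → F with injective components). (The published
statement is over a reduced Noetherian affine scheme, for additive functors on quasi-coherent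
sheaves with values in abelian groups and the induced A-action, assumes F weakly bounded (F(A/p)
finitely generated for every prime ideal p) and also records that K is again weakly bounded; only
the finite generation of F(A), which its argument uses, is assumed here, and the integral case with
A-linear functors stated here is the one its argument by generic flatness treats.) -/
theorem result {A : Type u} [CommRing A] [IsNoetherianRing A] [IsDomain A]
    (F K : ModuleCat.{u} A ⥤ ModuleCat.{u} A) [F.Additive] [F.Linear A] [K.Additive] [K.Linear A]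
    (ι : K ⟶ F) (hι : ∀ X : ModuleCat.{u} A, Function.Injective (ι.app X).hom)
    (hfin : Module.Finite A (F.obj (ModuleCat.of A A)))
    (hGI : ∃ U : Set (PrimeSpectrum A), IsOpen U ∧ Dense U ∧ ∀ u ∈ U, Algebra.FiniteType A u.asIdeal.ResidueField →
        ∀ m : F.obj (ModuleCat.of A A),
          (F.map (ModuleCat.ofHom (Algebra.linearMap A u.asIdeal.ResidueField))).hom m = 0 →
            ∃ s ∉ u.asIdeal, s • m ∈ u.asIdeal • (⊤ : Submodule A (F.obj (ModuleCat.of A A)))) :
    ∃ U : Set (PrimeSpectrum A), IsOpen U ∧ Dense U ∧ ∀ u ∈ U, Algebra.FiniteType A u.asIdeal.ResidueField →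
        ∀ m : K.obj (ModuleCat.of A A),
          (K.map (ModuleCat.ofHom (Algebra.linearMap A u.asIdeal.ResidueField))).hom m = 0 →
            ∃ s ∉ u.asIdeal, s • m ∈ u.asIdeal • (⊤ : Submodule A (K.obj (ModuleCat.of A A))) := by

  obtain ⟨U, hU, hUd, hUI⟩ := hGI
  let FA := F.obj (ModuleCat.of A A)
  let i : K.obj (ModuleCat.of A A) →ₗ[A] FA := (ι.app _).hom
  let Q := FA ⧸ LinearMap.range i
  have : Module.FinitePresentation A Q := Module.finitePresentation_of_finite A Q
  have hne : (⟨⊥, Ideal.isPrime_bot⟩ : PrimeSpectrum A) ∈ Module.freeLocus A Q := by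
    rw [Module.mem_freeLocus]
    have hf : IsField (Localization.AtPrime (⊥ : Ideal A)) := by
      rw [IsLocalRing.isField_iff_maximalIdeal_eq, ← Localization.AtPrime.map_eq_maximalIdeal,
        Ideal.map_bot]
    let := hf.toField
    exact Module.Free.of_divisionRing (Localization.AtPrime (⊥ : Ideal A))
      (LocalizedModule (⊥ : Ideal A).primeCompl Q)
  refine ⟨U ∩ Module.freeLocus A Q, hU.inter Module.isOpen_freeLocus,
    hUd.inter_of_isOpen_left (Module.isOpen_freeLocus.dense ⟨_, hne⟩) hU, fun u hu hft m hm => ?_⟩
  obtain ⟨s, hs, hsm⟩ := hUI u hu.1 hft (i m) (by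
    have hnat := LinearMap.congr_fun (congrArg ModuleCat.Hom.hom
      (ι.naturality (ModuleCat.ofHom (Algebra.linearMap A u.asIdeal.ResidueField)))) m
    simp only [ModuleCat.hom_comp, LinearMap.comp_apply] at hnat
    rw [← hnat, hm, map_zero])
  have : Module.Free (Localization.AtPrime u.asIdeal) (LocalizedModule u.asIdeal.primeCompl Q) :=
    Module.mem_freeLocus.mp hu.2
  have : Module.Projective (Localization u.asIdeal.primeCompl)
      (LocalizedModule u.asIdeal.primeCompl (FA ⧸ LinearMap.range i)) :=
    Module.Projective.of_free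
  obtain ⟨t, r, ht, hr1, hr2⟩ := exists_retraction (LinearMap.range i) u.asIdeal.primeCompl
  let e := LinearEquiv.ofInjective i (hι _)
  let r' : FA →ₗ[A] K.obj (ModuleCat.of A A) :=
    e.symm.toLinearMap.comp (r.codRestrict (LinearMap.range i) hr1)
  refine ⟨t * s, fun hmem => (u.isPrime.mem_or_mem hmem).elim ht hs, ?_⟩
  have hr' : r' (s • i m) = (t * s) • m := by
    apply hι _
    show i (r' (s • i m)) = i ((t * s) • m)
    have h1 : i (r' (s • i m)) = r (s • i m) := by
      simp only [r', LinearMap.comp_apply, LinearEquiv.coe_coe]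
      exact LinearEquiv.ofInjective_symm_apply ..
    rw [h1, map_smul, map_smul, hr2 _ (LinearMap.mem_range_self i m), mul_comm t s, mul_smul]
  rw [← hr']
  exact Submodule.smul_top_le_comap_smul_top u.asIdeal r' hsm


end Groth.Agent.S19711
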