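import Groth.Statements.S19712
import Groth.Agent.H22Alg.DivCut
import Groth.Agent.H17.DualSh.Dim
import Groth.Agent.H12Pic.NumTriv.Basic
import Groth.Agent.H10Coh.ExtPowFree

set_option autoImplicit false
universe u
open CategoryTheory AlgebraicGeometry
open Variety

namespace Groth.Agent.S19712

open AlgebraicGeometry.Scheme.Modules in
/-- Uniform cohomology bound on intersections of divisors: let X be an integral scheme, proper over an
algebraically closed field k of characteristic zero and admitting an ample invertible module, of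
dimension n (the source works over the complex numbers); let A be an invertible O_X-module which is
very ample (A ≅ i^*O(1) for an immersion into some P^N_k) and such that A ⊗ P' is very ample for
every invertible P' numerically equivalent to zero, D any invertible O_X-module and 1 ≤ k ≤ n. Then
there is a constant C > 0, determined by X, A and D, such that: for every invertible P numerically
equivalent to zero, every k global sections s_1, …, s_k of A ⊗ P, and every closed subscheme Z of X
whose ideal is generated by the zero-scheme ideals of the s_j (Z = E_1 ∩ ⋯ ∩ E_k with E_j the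
divisor of s_j), if Z is reduced and all its irreducible components have dimension n − k, then dim_k
H^i(Z, (D^{⊗m})|_Z) ≤ C · m^{n−k} for every m ≥ 1 and every i. -/
theorem result
    (k : Type u) [Field k] [IsAlgClosed k] [CharZero k] (X : Scheme.{u})
    [X.Over (Spec (CommRingCat.of k))] [AlgebraicGeometry.IsIntegral X]
    [IsProper (X ↘ Spec (CommRingCat.of k))] (hproj : ∃ A : X.Modules, CohB1.IsAmple A)
    (n : ℕ) (hn : topologicalKrullDim ↥X = n)
    (A : X.Modules) (hA : PicF.IsInvertible A) (hAva : RelAmple.IsRelVeryAmplePn (X ↘ Spec (CommRingCat.of k)) A)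
    (hAP : ∀ P' : X.Modules, PicF.IsInvertible P' → Pic13.IsNumEquivZero k X P' →
      RelAmple.IsRelVeryAmplePn (X ↘ Spec (CommRingCat.of k)) (CohB1.tensorMod A P'))
    (D : X.Modules) (hD : PicF.IsInvertible D) (kk : ℕ) (hk1 : 1 ≤ kk) (hkn : kk ≤ n) :
    ∃ C : ℝ, 0 < C ∧ ∀ (P : X.Modules), PicF.IsInvertible P → Pic13.IsNumEquivZero k X P →
      ∀ (s : Fin kk → (Coh.structureModule X ⟶ CohB1.tensorMod A P))
        (Z : Scheme.{u}) [Z.Over (Spec (CommRingCat.of k))] (ι : Z ⟶ X) [IsClosedImmersion ι],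
        ι ≫ (X ↘ Spec (CommRingCat.of k)) = Z ↘ Spec (CommRingCat.of k) →
        (∀ U : X.affineOpens, ι.ker.ideal U = ⨆ j, (PicF2.zeroScheme (CohB1.tensorMod A P) (s j)).ideal U) →
        AlgebraicGeometry.IsReduced Z →
        (∀ W ∈ irreducibleComponents ↥Z, topologicalKrullDim ↥W = ((n - kk : ℕ) : WithBot ℕ∞)) →
        ∀ (m : ℕ), 1 ≤ m → ∀ i : ℕ,
          (Module.finrank k (Coh.HH Z ((pullback ι).obj (CohB1.tensorPow D m)) i) : ℝ) ≤ C * (m : ℝ) ^ (n - kk) := by
  obtain ⟨C, hC⟩ := H22Alg.DivCut.exists_bound k hAva (H11Ample.isInvertible_tensor hA hA) hD (kk * (n + 1))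
  refine ⟨(C : ℝ) + 1, by positivity, fun P hP hPnum s Z _ ι _ hι hI hred hcomp m hm i => ?_⟩
  haveI := H28Int.isNoetherian k (X := X)
  haveI : Infinite k := IsAlgClosed.instInfinite
  rcases isEmpty_or_nonempty Z with hZ | hZ
  · haveI : Subsingleton (Coh.HH Z ((pullback ι).obj (CohB1.tensorPow D m)) i) :=
      H10Coh.ExtPowFree.subsingleton_HH_of_isZero
        (H16Derived.KFlat.Stalk.isZero_of_stalk fun z => (IsEmpty.false z).elim) i
    rw [Module.finrank_zero_of_subsingleton, Nat.cast_zero]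
    positivity
  obtain ⟨P', hP', ⟨eP⟩⟩ := H12Pic.NumTriv.NT.exists_inverse k (L := P) ⟨hP, hPnum⟩
  have hAP' := H11Ample.isInvertible_tensor hA hP'.inv
  have hAPi := H11Ample.isInvertible_tensor hA hP
  obtain ⟨N, v, hv⟩ := H11Proj.exists_globalVA_of_isRelVeryAmplePn (X ↘ Spec (CommRingCat.of k)) (hAP P' hP'.inv hP'.num)
  obtain ⟨g, hg⟩ := H22Alg.ZeroFam.exists_cover k hAP' (fun x => (hv.cover x).elim fun l hl => ⟨v l, hl⟩) (n + 1)
    isClosed_univ (by
      rw [(Homeomorph.Set.univ ↥X).isHomeomorph.topologicalKrullDim_eq, hn]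
      exact_mod_cast Nat.lt_succ_self n)
  let φ : CohB1.tensorMod (CohB1.tensorMod A P) (CohB1.tensorMod A P') ≅ CohB1.tensorMod A A :=
    H10Coh.Tw.assoc A P _ ≪≫ PicGrp.tensorModIso (Iso.refl A)
      ((H10Coh.Tw.assoc P A P').symm ≪≫ PicGrp.tensorModIso (H10Coh.Tw.commIso P A) (Iso.refl P') ≪≫
        H10Coh.Tw.assoc A P P' ≪≫ PicGrp.tensorModIso (Iso.refl A) eP ≪≫ H10Coh.Tw.rightUnitIso A)
  let w : Fin (kk * (n + 1)) → (Coh.structureModule X ⟶ CohB1.tensorMod A A) := fun p =>
    H11Tilde.homOfGlobal _ (H11Ample.tm (H22Alg.ZeroFam.sval (s (finProdFinEquiv.symm p).1))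
      (g (finProdFinEquiv.symm p).2)) ≫ φ.hom
  have hker : ι.ker = ⨆ l, PicF2.zeroScheme (CohB1.tensorMod A A) (w l) := by
    have h1 : ι.ker = ⨆ j, PicF2.zeroScheme (CohB1.tensorMod A P) (s j) :=
      Scheme.IdealSheafData.ext (funext fun U => by rw [Scheme.IdealSheafData.ideal_iSup, iSup_apply]; exact hI U)
    rw [h1, ← finProdFinEquiv.iSup_comp, iSup_prod]
    refine iSup_congr fun j => ?_
    simp only [w, Equiv.symm_apply_apply, H22Alg.ZeroFam.comp_iso (H11Ample.isInvertible_tensor hAPi hAP') φ,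
      H22Alg.ZeroFam.iSup_tm hAPi hAP' _ g (fun x => hg x trivial), H22Alg.ZeroFam.homOfGlobal_sval]
  have hdim : topologicalKrullDim ↥Z = ((n - kk : ℕ) : WithBot ℕ∞) := by
    refine le_antisymm (H17.DualSh.dim_le_of_components hcomp) ?_
    obtain ⟨W, hW, -⟩ := exists_mem_irreducibleComponents_subset_of_isIrreducible (closure ({Classical.arbitrary ↥Z} : Set ↥Z))
      isIrreducible_singleton.closure
    exact (hcomp W hW).ge.trans (Topology.IsInducing.subtypeVal.topologicalKrullDim_le)
  have h := hC w Z ι hι hker (n - kk) hdim m hm i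
  calc (Module.finrank k (Coh.HH Z ((pullback ι).obj (CohB1.tensorPow D m)) i) : ℝ)
      ≤ ((C * m ^ (n - kk) : ℕ) : ℝ) := Nat.cast_le.2 h
    _ ≤ ((C : ℝ) + 1) * (m : ℝ) ^ (n - kk) := by
        push_cast
        nlinarith [pow_nonneg (Nat.cast_nonneg m : (0 : ℝ) ≤ (m : ℝ)) (n - kk)]

end Groth.Agent.S19712
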