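import Groth.Agent.H14QCoh.GerbeDense
import Groth.Agent.H14QCoh.TypeDescent
import Groth.Statements.S19717
-- import your own Groth.Agent.* helpers here

set_option autoImplicit false
universe u
open TwSh

namespace Groth.Agent.S19717

open CategoryTheory AlgebraicGeometry in
/-- Second assertion: let π : 𝒳 → 𝒴 be an fppf A-gerbe of algebraic stacks, for a presheaf of groups A
on schemes over S acting through the inertia of 𝒳, and let G be a quasi-coherent module on 𝒴. Then G
is of finite type if and only if its inverse image along π is; likewise for finite presentation, and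
for being locally free of finite type. (The published statement is for all modules on a gerbe over a
locally ringed site and for any property preserved by pullback along morphisms of sites, naming also
quasi-coherence, flatness and local freeness; this row is its quasi-coherent form for the three
properties named, local freeness being taken together with finite type.) -/
theorem result (S : Scheme.{u}) (𝒳 𝒴 : AlgSt.Cat S) (h𝒳 : AlgSt.IsAlgStack Scheme.fppfPrecoverage 𝒳) (h𝒴 : AlgSt.IsAlgStack Scheme.fppfPrecoverage 𝒴) (A : (Over S)ᵒᵖ ⥤ GrpCat.{u}) (π : 𝒳 ⥤ᵇ 𝒴) (ι : TwSh.BandHom 𝒳 A) (hπ : TwSh.IsBandedGerbe (QuotSh.J Scheme.fppfPrecoverage S) π ι) (G : StMod.QCoh 𝒴) : (G.obj.IsFinType ↔ ((StMod.comapQ π).obj G).obj.IsFinType) ∧ (G.obj.IsFinPres ↔ ((StMod.comapQ π).obj G).obj.IsFinPres) ∧ ((G.obj.IsLocFree ∧ G.obj.IsFinType) ↔ (((StMod.comapQ π).obj G).obj.IsLocFree ∧ ((StMod.comapQ π).obj G).obj.IsFinType)) := by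
  have hc := Groth.Agent.H14QCoh.exists_cov_of_gerbe h𝒳 h𝒴 hπ.1
  refine ⟨⟨fun h x => (Groth.Agent.H14QCoh.isFT_castMod _ _).2 (h _),
      Groth.Agent.H14QCoh.isFinType_of_comap π h𝒴.isStack.1 hc G⟩,
    ⟨fun h x => (Groth.Agent.H14QCoh.isFP_castMod _ _).2 (h _),
      Groth.Agent.H14QCoh.isFinPres_of_comap π h𝒴.isStack.1 hc G⟩,
    ⟨fun h => ⟨fun x => (Groth.Agent.H14QCoh.isLF_castMod _ _).2 (h.1 _),
      fun x => (Groth.Agent.H14QCoh.isFT_castMod _ _).2 (h.2 _)⟩,
      fun h => Groth.Agent.H14QCoh.isLocFree_of_comap π h𝒴.isStack.1 hc G h.1 h.2⟩⟩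

end Groth.Agent.S19717
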