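import Groth.Statements.S19722
import Groth.Agent.H10Coh.Secant.Main

set_option autoImplicit false
set_option maxHeartbeats 1000000
set_option linter.style.haveILetI false
set_option backward.isDefEq.respectTransparency.types false
universe u
open CategoryTheory CategoryTheory.Limits AlgebraicGeometry
open TautSh

namespace Groth.Agent.S19722

/-- Let `k` be an algebraically closed field of characteristic zero, `X` an integral scheme smooth and
proper over `k`, `L` an O_X-module locally free of rank one which is `3`-very ample, `(H, Z)` a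
universal pair for the Hilbert functor of two points of `X` over `k`, `(PE, πE, OE, qE)` a
projective bundle of the rank-two tautological bundle `E_L = L^[2]` over `H`, `(P, π, O1, qP)` a
projective bundle of `H^0(X, L)` over `k`, `h : PE ⟶ P` the morphism over `k` classifying the secant
quotient (the secant map, whose image is the secant variety of `X ⊆ P`), and `φ : X ⟶ P` the
morphism classifying the evaluation quotient `H^0(X, L) ⊗ O_X ⟶ L`. If two `k`-points `a, b` of `PE`
have the same image under `h`, and this image is not the image under `φ` of a `k`-point of `X`, then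
`a = b`. (The published statement asserts that `h` is an isomorphism onto its image away from the
preimage of `X`; the source argues bijectivity on points and takes the immersion property from the
literature, so only injectivity on `k`-points off `X` is stated.) -/
theorem result (k : Type u) [Field k] [IsAlgClosed k] [CharZero k] (X : Scheme.{u}) [X.Over (Spec (CommRingCat.of k))] [AlgebraicGeometry.IsIntegral X] [Smooth (X ↘ Spec (CommRingCat.of k))] [IsProper (X ↘ Spec (CommRingCat.of k))] (L : X.Modules) (hL : FlatMod.IsFinLocFreeOfRank 1 L) (hva : TautSh.IsKVeryAmple k X L 3) (H : Over (Spec (CommRingCat.of k))) (Z : HilbD.Obj (X ↘ Spec (CommRingCat.of k)) 2 H) (hU : HilbD.IsUniversal (X ↘ Spec (CommRingCat.of k)) 2 H Z) {PE : Scheme.{u}} (πE : PE ⟶ H.left) (OE : PE.Modules) (qE : (Scheme.Modules.pullback πE).obj (TautSh.taut (X ↘ Spec (CommRingCat.of k)) H Z.1 L) ⟶ OE) (hPE : KRR.IsProjBundle πE (TautSh.taut (X ↘ Spec (CommRingCat.of k)) H Z.1 L) OE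 qE) {P : Scheme.{u}} (π : P ⟶ Spec (CommRingCat.of k)) (O1 : P.Modules) (qP : (Scheme.Modules.pullback π).obj ((Scheme.Modules.pushforward (X ↘ Spec (CommRingCat.of k))).obj L) ⟶ O1) (hP : KRR.IsProjBundle π ((Scheme.Modules.pushforward (X ↘ Spec (CommRingCat.of k))).obj L) O1 qP) (h : PE ⟶ P) (hh : TautSh.IsMapOfQuot π ((Scheme.Modules.pushforward (X ↘ Spec (CommRingCat.of k))).obj L) O1 qP (πE ≫ H.hom) OE (TautSh.secantQuot (X ↘ Spec (CommRingCat.of k)) H Z.1 L πE OE qE) h) (φ : X ⟶ P) (hφ : TautSh.IsMapOfQuot π ((Scheme.Modules.pushforward (X ↘ Spec (CommRingCat.of k))).obj L) O1 qP (X ↘ Spec (CommRingCat.of k)) L (TautSh.linSysQuot (X ↘ Spec (CommRingCat.of k)) L) φ) (a b : Spec (CommRingCat.of k) ⟶ PE) (ha : a ≫ πE ≫ H.hom = 𝟙 _) (hb : b ≫ πE ≫ H.hom = 𝟙 _) (hab : a ≫ h = b ≫ h) (hX : ∀ x : Spec (CommRingCat.of k) ⟶ X, x ≫ (X ↘ Spec (CommRingCat.of k)) = 𝟙 _ → x ≫ φ ≠ a ≫ h) : a = b := by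
  let f := X ↘ Spec (CommRingCat.of k)
  have hLi := H10Coh.Secant.isInvertible_of_rankOne hL
  haveI : L.IsQuasicoherent := H28Mero.isQCoh_of_isInvertible hLi
  obtain ⟨f₁, l₁⟩ := (H10Coh.Secant.deg_iff_slen f).1
    (H10Coh.Secant.fibIdeal_deg f Z (a ≫ πE) (by rw [Category.assoc, ha]))
  have hne : ∀ x : X, ¬ IsClosed ({x} : Set X) ∨ closure ({x} : Set X) ≠ Set.univ := by
    intro x
    by_contra hcon
    push Not at hcon
    have h := H10Coh.Secant.slen_le_one (f := f) hcon.1 hcon.2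
      (H10Coh.Secant.fibIdeal f Z (a ≫ πE) (by rw [Category.assoc, ha]))
    omega
  have hpts := H10Coh.Secant.exists_point_notMem (f := f) hne
  have hres := fun J hJ hm => H10Coh.Secant.resSect_surjective_of_slen_le hva hpts (J := J) hJ hm
  have hz : ∀ x, H10Coh.Secant.Zer f Z L πE qE a x ↔ H10Coh.Secant.Zer f Z L πE qE b x := fun x => by
    rw [← H10Coh.Secant.zer_iff_of_comp_eq hh a x, ← H10Coh.Secant.zer_iff_of_comp_eq hh b x, hab]
  rcases H10Coh.Secant.dichotomy hU hPE (fun J hJ hm => hres J hJ (by omega)) a b ha hb hz with e | ⟨J, hJ, hlt, hfac⟩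
  · exact e
  exfalso
  obtain ⟨J', hle, hJ', hl'⟩ := H10Coh.Secant.exists_le_of_slen hpts hJ 1 (Nat.lt_succ_iff.1 hlt)
  obtain ⟨⟨i1, i2, i3⟩, i4⟩ := (H10Coh.Secant.deg_iff_slen f).2 ⟨hJ', hl'⟩
  haveI := i1; haveI := i2; haveI := i3
  haveI : IsIso (J'.subschemeι ≫ f) := (Scheme.Hom.isIso_iff_finrank_eq _).mpr (funext i4)
  let x : Spec (CommRingCat.of k) ⟶ X := inv (J'.subschemeι ≫ f) ≫ J'.subschemeι
  have hx : x ≫ f = 𝟙 _ := by rw [Category.assoc]; exact IsIso.inv_hom_id _
  have hxz : ∀ y, OmegaSh.pullSect x L ⊤ y = 0 → H10Coh.Secant.Zer f Z L πE qE a y := fun y hy =>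
    hfac y (H10Coh.Secant.resSect_zero_of_le L hle y
      ((H10Coh.Secant.pullSect_iso_comp_iff (asIso (J'.subschemeι ≫ f)).symm J'.subschemeι L y).1 hy))
  let Λ := H10Coh.Secant.evAt f L (πE ≫ H.hom) (TautSh.secantQuot f H Z.1 L πE OE qE) a ha
  let ψ := H10Coh.Secant.evAt f L f (TautSh.linSysQuot f L) x hx
  have hψ : ∀ y, ψ.app (⊤ : (Spec (CommRingCat.of k)).Opens) y = OmegaSh.pullSect x L ⊤ y := fun y =>
    (H10Coh.Secant.evAt_app f L f _ x hx y).trans (congrArg _ (H10Coh.Secant.linSysQuot_app f L y))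
  obtain ⟨y₀, hy₀⟩ := H10Coh.Secant.exists_not_zer hPE a ha (hres _ f₁ (l₁.le.trans (by omega)))
  have hline : PicF.IsInvertible ((Scheme.Modules.pullback x).obj L) :=
    H10Coh.Secant.isInvertible_of_rankOne (H26Gr.isFinLocFreeOfRank_pullback x hL)
  have h1 : ∃ y, Λ.app (⊤ : (Spec (CommRingCat.of k)).Opens) y ≠ 0 :=
    ⟨y₀, fun h0 => hy₀ ((H10Coh.Secant.evAt_secant a ha y₀).1 h0)⟩
  have h2 : ∀ y : Γ(L, (⊤ : X.Opens)), ψ.app (⊤ : (Spec (CommRingCat.of k)).Opens) y = 0 →
      Λ.app (⊤ : (Spec (CommRingCat.of k)).Opens) y = 0 :=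
    fun y hy => (H10Coh.Secant.evAt_secant a ha y).2 (hxz y ((hψ y).symm.trans hy))
  have hker : ∀ y : Γ(L, (⊤ : X.Opens)), Λ.app (⊤ : (Spec (CommRingCat.of k)).Opens) y = 0 ↔
      ψ.app (⊤ : (Spec (CommRingCat.of k)).Opens) y = 0 :=
    H10Coh.Secant.ker_eq_of_le hline Λ ψ h1 h2
  haveI : ((Scheme.Modules.pushforward f).obj L).IsQuasicoherent := H10Coh.isQuasicoherent_pushforward f L
  refine hX x hx (H10Coh.Secant.point_ext ((Scheme.Modules.pushforward f).obj L) π O1 qP hP (x ≫ φ) (a ≫ h)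
    (t := 𝟙 _) ?_ ?_ (fun y : Γ(L, (⊤ : X.Opens)) => y) ?_ fun y => ?_)
  · obtain ⟨hg, -⟩ := hφ
    rw [Category.assoc, hg]; exact hx
  · obtain ⟨hg, -⟩ := hh
    rw [Category.assoc, hg]; exact ha
  · exact (H17.PullSect.bijective_pullSect (𝟙 _) _ (fun z _ => ⟨z, rfl⟩)).2
  · rw [H10Coh.Secant.isMapOfQuot_eq_zero_iff π _ qP f L _ φ hφ x y, H10Coh.Secant.linSysQuot_app f L y,
      H10Coh.Secant.zer_iff_of_comp_eq hh a y, ← hψ y, ← H10Coh.Secant.evAt_secant a ha y]
    exact (hker y).symm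

end Groth.Agent.S19722
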