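import Groth.Statements.S19724
import Groth.Agent.H10Coh.Secant.Main

set_option autoImplicit false
set_option maxHeartbeats 1000000
set_option linter.style.haveILetI false
set_option backward.isDefEq.respectTransparency.types false
universe u
open CategoryTheory CategoryTheory.Limits AlgebraicGeometry
open TautSh

namespace Groth.Agent.S19724

/-- Let `k` be an algebraically closed field of characteristic zero, `X` an integral scheme smooth and
proper over `k` of dimension one, `n` a natural number, `L` an O_X-module locally free of rank one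
which is `(2n+1)`-very ample, `(H, Z)` and `(H', Z')` universal pairs for the Hilbert functors of `n
+ 1` and of `n` points of `X` over `k`, `(PE, πE, OE, qE)` and `(PE', πE', OE', qE')` projective
bundles of the tautological bundles `L^[n+1]` over `H` and `L^[n]` over `H'`, `(P, π, O1, qP)` a
projective bundle of `H^0(X, L)` over `k`, and `h : PE ⟶ P`, `h' : PE' ⟶ P` the morphisms over `k`
classifying the secant quotients (the image of `h` is the variety of `(n+1)`-secant `n`-planes, that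
of `h'` the variety of `n`-secant `(n-1)`-planes). If two `k`-points `a, b` of `PE` have the same
image under `h`, and this image is not the image under `h'` of a `k`-point of `PE'`, then `a = b`.
(The published statement asserts that `h` is an isomorphism onto its image away from the preimage of
the lower secant variety; the source argues bijectivity on points and takes the immersion property
from the literature, so only injectivity on `k`-points off the lower secant variety is stated.) -/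
theorem result (k : Type u) [Field k] [IsAlgClosed k] [CharZero k] (X : Scheme.{u}) [X.Over (Spec (CommRingCat.of k))] [AlgebraicGeometry.IsIntegral X] [Smooth (X ↘ Spec (CommRingCat.of k))] [IsProper (X ↘ Spec (CommRingCat.of k))] (hdim : topologicalKrullDim X = 1) (n : ℕ) (L : X.Modules) (hL : FlatMod.IsFinLocFreeOfRank 1 L) (hva : TautSh.IsKVeryAmple k X L (2 * n + 1)) (H : Over (Spec (CommRingCat.of k))) (Z : HilbD.Obj (X ↘ Spec (CommRingCat.of k)) (n + 1) H) (hU : HilbD.IsUniversal (X ↘ Spec (CommRingCat.of k)) (n + 1) H Z) (H' : Over (Spec (CommRingCat.of k))) (Z' : HilbD.Obj (X ↘ Spec (CommRingCat.of k)) n H') (hU' : HilbD.IsUniversal (X ↘ Spec (CommRingCat.of k)) n H' Z') {PE : Scheme.{u}} (πE : PE ⟶ H.left) (OE : PE.Modules) (qE : (Scheme.Modules.pullback πE).obj (TautSh.taut (X ↘ Spec (CommRingCat.of k)) H Z.1 L) ⟶ OE) (hPE : KRR.IsProjBundle πE (TautSh.taut (X ↘ Spec (CommRingCat.of k)) H Z.1 L) OE qE) {PE' : Scheme.{u}} (πE' : PE' ⟶ H'.left) (OE' : PE'.Modules) (qE'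 : (Scheme.Modules.pullback πE').obj (TautSh.taut (X ↘ Spec (CommRingCat.of k)) H' Z'.1 L) ⟶ OE') (hPE' : KRR.IsProjBundle πE' (TautSh.taut (X ↘ Spec (CommRingCat.of k)) H' Z'.1 L) OE' qE') {P : Scheme.{u}} (π : P ⟶ Spec (CommRingCat.of k)) (O1 : P.Modules) (qP : (Scheme.Modules.pullback π).obj ((Scheme.Modules.pushforward (X ↘ Spec (CommRingCat.of k))).obj L) ⟶ O1) (hP : KRR.IsProjBundle π ((Scheme.Modules.pushforward (X ↘ Spec (CommRingCat.of k))).obj L) O1 qP) (h : PE ⟶ P) (hh : TautSh.IsMapOfQuot π ((Scheme.Modules.pushforward (X ↘ Spec (CommRingCat.of k))).obj L) O1 qP (πE ≫ H.hom) OE (TautSh.secantQuot (X ↘ Spec (CommRingCat.of k)) H Z.1 L πE OE qE) h) (h' : PE' ⟶ P) (hh' : TautSh.IsMapOfQuot π ((Scheme.Modules.pushforward (X ↘ Spec (CommRingCat.of k))).obj L) O1 qP (πE' ≫ H'.hom) OE' (TautSh.secantQuot (X ↘ Spec (CommRingCat.of k)) H' Z'.1 L πE' OE' qE') h') (a b : Spec (CommRingCat.of k) ⟶ PE) (ha : a ≫ πE ≫ H.hom = 𝟙 _) (hb : b ≫ πE ≫ H.hom = 𝟙 _) (hab : a ≫ h = b ≫ h)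 (hlow : ∀ c : Spec (CommRingCat.of k) ⟶ PE', c ≫ πE' ≫ H'.hom = 𝟙 _ → c ≫ h' ≠ a ≫ h) : a = b := by
  let f := X ↘ Spec (CommRingCat.of k)
  have hLi := H10Coh.Secant.isInvertible_of_rankOne hL
  haveI : L.IsQuasicoherent := H28Mero.isQCoh_of_isInvertible hLi
  have hne : ∀ x : X, ¬ IsClosed ({x} : Set X) ∨ closure ({x} : Set X) ≠ Set.univ := by
    intro x
    by_contra hcon
    push Not at hcon
    have hu : ({x} : Set X) = Set.univ := hcon.1.closure_eq.symm.trans hcon.2
    haveI : Subsingleton X := ⟨fun y z => (hu.ge (Set.mem_univ y) : y = x).trans (hu.ge (Set.mem_univ z) : z = x).symm⟩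
    have h0 : topologicalKrullDim X ≤ 0 := topologicalKrullDim_zero_of_discreteTopology X
    rw [hdim] at h0
    exact absurd h0 (by decide)
  have hpts := H10Coh.Secant.exists_point_notMem (f := f) hne
  have hres := fun J hJ hm => H10Coh.Secant.resSect_surjective_of_slen_le hva hpts (J := J) hJ hm
  have hz : ∀ x, H10Coh.Secant.Zer f Z L πE qE a x ↔ H10Coh.Secant.Zer f Z L πE qE b x := fun x => by
    rw [← H10Coh.Secant.zer_iff_of_comp_eq hh a x, ← H10Coh.Secant.zer_iff_of_comp_eq hh b x, hab]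
  rcases H10Coh.Secant.dichotomy hU hPE (fun J hJ hm => hres J hJ (by omega)) a b ha hb hz with e | ⟨J, hJ, hlt, hfac⟩
  · exact e
  exfalso
  obtain ⟨J', hle, hJ', hl'⟩ := H10Coh.Secant.exists_le_of_slen hpts hJ n (Nat.lt_succ_iff.1 hlt)
  obtain ⟨f₁, l₁⟩ := (H10Coh.Secant.deg_iff_slen f).1
    (H10Coh.Secant.fibIdeal_deg f Z (a ≫ πE) (by rw [Category.assoc, ha]))
  obtain ⟨y₀, hy₀⟩ := H10Coh.Secant.exists_not_zer hPE a ha (hres _ f₁ (l₁.le.trans (by omega)))
  let Λ := H10Coh.Secant.evAt f L (πE ≫ H.hom) (TautSh.secantQuot f H Z.1 L πE OE qE) a ha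
  obtain ⟨c, hc, hcz⟩ := H10Coh.Secant.exists_point_of_factor hU' hPE' J' ((H10Coh.Secant.deg_iff_slen f).2 ⟨hJ', hl'⟩)
    (hres _ hJ' (hl'.le.trans (by omega))) _ (H26Gr.isFinLocFreeOfRank_pullback a hPE.invertible) Λ
    ⟨y₀, fun h0 => hy₀ ((H10Coh.Secant.evAt_secant a ha y₀).1 h0)⟩
    (fun y hy => (H10Coh.Secant.evAt_secant a ha y).2 (hfac y (H10Coh.Secant.resSect_zero_of_le L hle y hy)))
  haveI : ((Scheme.Modules.pushforward f).obj L).IsQuasicoherent := H10Coh.isQuasicoherent_pushforward f L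
  refine hlow c hc (H10Coh.Secant.point_ext ((Scheme.Modules.pushforward f).obj L) π O1 qP hP (c ≫ h') (a ≫ h)
    (t := 𝟙 _) ?_ ?_ (fun y : Γ(L, (⊤ : X.Opens)) => y) ?_ fun y => ?_)
  · obtain ⟨hg, -⟩ := hh'
    rw [Category.assoc, hg]; exact hc
  · obtain ⟨hg, -⟩ := hh
    rw [Category.assoc, hg]; exact ha
  · exact (H17.PullSect.bijective_pullSect (𝟙 _) _ (fun z _ => ⟨z, rfl⟩)).2
  · rw [H10Coh.Secant.zer_iff_of_comp_eq hh' c y, H10Coh.Secant.zer_iff_of_comp_eq hh a y, hcz y]
    exact H10Coh.Secant.evAt_secant a ha y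

end Groth.Agent.S19724
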