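import Groth.Statements.S19728
import Groth.Agent.H28Num.Form

set_option autoImplicit false
universe u
open CategoryTheory CategoryTheory.Limits AlgebraicGeometry TopologicalSpace
open Groth.Agent
open Surf

namespace Groth.Agent.S19728

/-- Let k be an algebraically closed field of characteristic zero and X a smooth projective surface over
k (integral, proper and smooth over k, of dimension 2, with an ample invertible module); the notes
work over the complex numbers. Fix a group law on the Picard set of X, and let B be the intersection
form on N¹(X)_ℝ = ℝ ⊗ (Pic X modulo numerical equivalence), the real bilinear form whose value on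
the classes of invertible modules L, M is (L·M) = χ(O_X) − χ(L) − χ(M) + χ(L ⊗ M); assume N¹(X)_ℝ is
finite-dimensional (the notes take the Picard number finite). Let H be an ample invertible module
and C₊ = {x : B(x, x) > 0, B(x, [H]) > 0} the positive cone. If x lies in C₊ and y satisfies B(y, y)
≥ 0 and B(y, [H]) > 0 (equivalently, y is a nonzero point of the closure of C₊), then B(x, y) > 0.
(Part (b) of the published statement, B(x, y) < 0 for nonzero y in the closure of the opposite
component −C₊, follows by replacing y with −y and is not restated.) -/
theorem result (k : Type u) [Field k] [IsAlgClosed k] [CharZero k]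
    (X : Scheme.{u}) [X.Over (Spec (CommRingCat.of k))] [IsProper (X ↘ (Spec (CommRingCat.of k)))]
    [Smooth (X ↘ (Spec (CommRingCat.of k)))] [AlgebraicGeometry.IsIntegral X] (hdim : topologicalKrullDim X = 2)
    (hproj : ∃ H : X.Modules, CohB1.IsAmple H) [PicGrp.Law X] [Module.Finite ℝ (NumR.N1R k X)]
    (B : NumR.N1R k X →ₗ[ℝ] NumR.N1R k X →ₗ[ℝ] ℝ) (hB : NumR.IsIntForm₂ k X B) (H : X.Modules) (hH : CohB1.IsAmple H)
    (x y : NumR.N1R k X) (hx : x ∈ NumR.posCone k X B H hH.1) (hy : 0 ≤ B y y)
    (hyH : 0 < B y (NumR.clR k X H hH.1)) :
    0 < B x y := by
  exact H28Num.pos_of_mem k hdim hB hH hx hy hyH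

end Groth.Agent.S19728
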