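import Groth.Statements.S1973
import Groth.Agent.H02CA.SmoothRegular
import Mathlib.RingTheory.DedekindDomain.Dvr
import Mathlib.RingTheory.Unramified.LocalRing
import Mathlib.RingTheory.Etale.Basic
import Mathlib.RingTheory.Smooth.Flat
import Mathlib.RingTheory.Flat.Localization
import Mathlib.RingTheory.Filtration
import Mathlib.RingTheory.Flat.TorsionFree
import Mathlib.RingTheory.DiscreteValuationRing.TFAE
import Mathlib.RingTheory.Ideal.MinimalPrime.Noetherian
import Mathlib.RingTheory.Ideal.Quotient.Operations
-- import your own Groth.Agent.* helpers here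

set_option autoImplicit false
universe u
open EtAlg

namespace Groth.Agent.S1973

theorem isDomain_of_regular_uniformizer {R : Type*} [CommRing R] [IsLocalRing R] [IsNoetherianRing R]
    (π : R) (hπ : IsLocalRing.maximalIdeal R = Ideal.span {π}) (hreg : π = 0 ∨ ∀ x, π * x = 0 → x = 0) :
    IsDomain R := by
  rcases hreg with h0 | hreg
  · have : IsField R := IsLocalRing.isField_iff_maximalIdeal_eq.mpr (by rw [hπ, h0, Ideal.span_singleton_zero])
    exact this.isDomain
  have hpow : ∀ (n : ℕ) (x : R), π ^ n * x = 0 → x = 0 := fun n => by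
    induction n with
    | zero => intro x hx; simpa using hx
    | succ n ih => intro x hx; exact hreg x (ih _ (by rw [← mul_assoc, ← pow_succ]; exact hx))
  have hfac : ∀ x : R, x ≠ 0 → ∃ n u, IsUnit u ∧ x = π ^ n * u := by
    intro x hx
    have hnot : x ∉ ⨅ n : ℕ, IsLocalRing.maximalIdeal R ^ n := by
      rw [Ideal.iInf_pow_eq_bot_of_isLocalRing _ (IsLocalRing.maximalIdeal.isMaximal R).ne_top]
      simpa using hx
    rw [Ideal.mem_iInf, not_forall] at hnot
    classical
    let k := Nat.find hnot
    have hk : x ∉ IsLocalRing.maximalIdeal R ^ k := Nat.find_spec hnot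
    obtain ⟨n, hn⟩ : ∃ n, k = n + 1 := Nat.exists_eq_succ_of_ne_zero fun h => hk (by simp [h])
    have hmem : x ∈ IsLocalRing.maximalIdeal R ^ n := not_not.mp (Nat.find_min hnot (by omega : n < k))
    rw [hπ, Ideal.span_singleton_pow, Ideal.mem_span_singleton] at hmem
    obtain ⟨u, hu⟩ := hmem
    refine ⟨n, u, IsLocalRing.notMem_maximalIdeal.mp fun h => hk ?_, hu⟩
    rw [hπ, Ideal.mem_span_singleton] at h
    obtain ⟨v, rfl⟩ := h
    rw [hn, hπ, Ideal.span_singleton_pow, Ideal.mem_span_singleton]
    exact ⟨v, by rw [hu]; ring⟩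
  haveI : NoZeroDivisors R := by
    refine ⟨fun {a b} hab => ?_⟩
    by_contra hne
    rw [not_or] at hne
    obtain ⟨n, u, hu, rfl⟩ := hfac a hne.1
    obtain ⟨m, v, hv, rfl⟩ := hfac b hne.2
    refine (hu.mul hv).ne_zero (hpow (n + m) _ ?_)
    rw [← hab]; ring
  exact NoZeroDivisors.to_isDomain R

theorem local_props (A B : Type u) [CommRing A] [IsDedekindDomain A] [CommRing B] [Algebra A B]
    [Algebra.Etale A B] (q : Ideal B) [q.IsPrime] : IsDomain (Localization.AtPrime q) ∧
      ∃ π : Localization.AtPrime q, IsLocalRing.maximalIdeal (Localization.AtPrime q) = Ideal.span {π} := by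
  let p := q.under A
  letI := Localization.AtPrime.algebraOfLiesOver p q
  haveI : IsNoetherianRing B := Algebra.FiniteType.isNoetherianRing A B
  haveI : IsNoetherianRing (Localization.AtPrime q) := IsLocalization.isNoetherianRing q.primeCompl _ inferInstance
  haveI : Algebra.FormallyUnramified B (Localization.AtPrime q) := .of_isLocalization q.primeCompl
  haveI : Algebra.FormallyUnramified A (Localization.AtPrime q) := .comp A B _
  haveI : Algebra.FormallyUnramified (Localization.AtPrime p) (Localization.AtPrime q) := .of_restrictScalars A _ _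
  haveI : Algebra.EssFiniteType (Localization.AtPrime p) (Localization.AtPrime q) := .of_comp A _ _
  haveI : IsLocalHom (algebraMap (Localization.AtPrime p) (Localization.AtPrime q)) := by
    rw [Localization.AtPrime.IsLiesOverAlgebra.algebraMap_eq]
    infer_instance
  haveI : IsDedekindDomain (Localization.AtPrime p) :=
    IsLocalization.isDedekindDomain A p.primeCompl_le_nonZeroDivisors _
  obtain ⟨⟨π₀, hπ₀⟩⟩ := maximalIdeal_isPrincipal_of_isDedekindDomain (R := Localization.AtPrime p)
  let π := algebraMap (Localization.AtPrime p) (Localization.AtPrime q) π₀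
  have hmap : IsLocalRing.maximalIdeal (Localization.AtPrime q) = Ideal.span {π} := by
    rw [← Algebra.FormallyUnramified.map_maximalIdeal (R := Localization.AtPrime p) (S := Localization.AtPrime q),
      hπ₀, Ideal.submodule_span_eq, Ideal.map_span, Set.image_singleton]
  refine ⟨isDomain_of_regular_uniformizer π hmap ?_, π, hmap⟩
  by_cases h0 : π₀ = 0
  · exact Or.inl (by simp [π, h0])
  · refine Or.inr fun x hx => ?_
    haveI : Module.IsTorsionFree (Localization.AtPrime p) (Localization.AtPrime q) := inferInstance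
    exact (smul_eq_zero.mp (by rw [Algebra.smul_def]; exact hx : π₀ • x = 0)).resolve_left h0

theorem quotient_dvr (A B : Type u) [CommRing A] [IsDedekindDomain A] [CommRing B] [Algebra A B]
    [Algebra.Etale A B] (P : Ideal B) [P.IsPrime] (hP : P ∈ minimalPrimes B)
    (huniq : ∀ (q : Ideal B) [q.IsPrime] (P₁ P₂ : Ideal B), P₁ ∈ minimalPrimes B → P₂ ∈ minimalPrimes B →
        P₁ ≤ q → P₂ ≤ q → P₁ = P₂)
    (r : Ideal (B ⧸ P)) [r.IsPrime] (hr : r ≠ ⊥) : IsDiscreteValuationRing (Localization.AtPrime r) := by
  let q := r.comap (Ideal.Quotient.mk P)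
  haveI : IsNoetherianRing B := Algebra.FiniteType.isNoetherianRing A B
  obtain ⟨hdom, π, hπ⟩ := local_props A B q
  haveI := hdom
  let f : Localization.AtPrime q →+* Localization.AtPrime r :=
    Localization.localRingHom q r (Ideal.Quotient.mk P) rfl
  have hf : Function.Surjective f := by
    intro y
    obtain ⟨a, s, rfl⟩ := IsLocalization.exists_mk'_eq r.primeCompl y
    obtain ⟨a, rfl⟩ := Ideal.Quotient.mk_surjective a
    obtain ⟨s', hs'⟩ := Ideal.Quotient.mk_surjective (s : B ⧸ P)
    refine ⟨IsLocalization.mk' _ a (⟨s', fun h => s.2 (hs' ▸ (h : Ideal.Quotient.mk P s' ∈ r))⟩ : q.primeCompl), ?_⟩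
    rw [Localization.localRingHom_mk']
    congr 1
    exact Subtype.ext hs'
  have hmax : IsLocalRing.maximalIdeal (Localization.AtPrime r) = Ideal.span {f π} := by
    rw [← Set.image_singleton, ← Ideal.map_span, ← hπ]
    exact ((Ideal.map_eq_top_or_isMaximal_of_surjective f hf (IsLocalRing.maximalIdeal.isMaximal _)).resolve_left
      fun h => by
        have h1 : (IsLocalRing.maximalIdeal (Localization.AtPrime q)).map f ≤ IsLocalRing.maximalIdeal _ :=
          ((IsLocalRing.local_hom_TFAE f).out 0 2).mp (Localization.isLocalHom_localRingHom q r _ rfl)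
        exact (IsLocalRing.maximalIdeal.isMaximal _).ne_top (top_le_iff.mp (h ▸ h1))) |>
      fun h => (IsLocalRing.eq_maximalIdeal h).symm
  haveI : IsNoetherianRing (Localization.AtPrime r) := IsLocalization.isNoetherianRing r.primeCompl _ inferInstance
  have key : (IsLocalRing.maximalIdeal (Localization.AtPrime r)).IsPrincipal → IsDiscreteValuationRing (Localization.AtPrime r) :=
    ((IsDiscreteValuationRing.TFAE (Localization.AtPrime r) (IsLocalization.AtPrime.not_isField (B ⧸ P) hr _)).out 4 0).mp
  exact key ⟨⟨f π, hmax⟩⟩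


/-- Let A be a Dedekind domain and B an etale A-algebra. Then B is isomorphic as a ring to a finite
product of Dedekind domains, and for every maximal ideal q of B whose localization is not a field,
the localization B_q is a discrete valuation ring. (The source states the last claim for all maximal
ideals; it fails for field factors, e.g. A a DVR with uniformizer π and B = A[1/π], so the guard is
needed.) -/
theorem result (A B : Type u) [CommRing A] [IsDedekindDomain A] [CommRing B] [Algebra A B]
    [Algebra.Etale A B] :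
    (∃ (n : ℕ) (D : Fin n → Type u) (_ : ∀ i, CommRing (D i)) (_ : ∀ i, IsDedekindDomain (D i)),
      Nonempty (B ≃+* ∀ i, D i)) ∧
    ∀ (q : Ideal B) [q.IsMaximal], ¬ IsField (Localization.AtPrime q) →
      ∃ _ : IsDomain (Localization.AtPrime q), IsDiscreteValuationRing (Localization.AtPrime q) := by
  haveI : IsNoetherianRing B := Algebra.FiniteType.isNoetherianRing A B
  haveI : IsReduced B := H02CA.isReduced_of_smooth A B
  have hloc : ∀ (q : Ideal B) [q.IsPrime], IsDomain (Localization.AtPrime q) ∧
      ∃ π : Localization.AtPrime q, IsLocalRing.maximalIdeal (Localization.AtPrime q) = Ideal.span {π} :=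
    fun q _ => local_props A B q
  refine ⟨?_, fun q _ hnf => ?_⟩
  · classical
    haveI : Fintype (minimalPrimes B) := (minimalPrimes.finite_of_isNoetherianRing B).fintype
    let e := (Fintype.equivFin (minimalPrimes B)).symm
    let P : Fin (Fintype.card (minimalPrimes B)) → Ideal B := fun i => (e i).1
    haveI hP : ∀ i, (P i).IsPrime := fun i => (e i).2.1.1
    have huniq : ∀ (q : Ideal B) [q.IsPrime] (P₁ P₂ : Ideal B), P₁ ∈ minimalPrimes B → P₂ ∈ minimalPrimes B →
        P₁ ≤ q → P₂ ≤ q → P₁ = P₂ := by
      intro q _ P₁ P₂ h₁ h₂ hle₁ hle₂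
      haveI := (hloc q).1
      suffices ∀ P ∈ minimalPrimes B, P ≤ q → P = Ideal.comap (algebraMap B (Localization.AtPrime q)) ⊥ by
        rw [this P₁ h₁ hle₁, this P₂ h₂ hle₂]
      intro P hP hle
      haveI := hP.1.1
      refine le_antisymm (hP.2 ⟨Ideal.comap_isPrime _ _, bot_le⟩ ?_) ?_
      · intro x hx
        rw [Ideal.mem_comap, Ideal.mem_bot, IsLocalization.map_eq_zero_iff q.primeCompl] at hx
        obtain ⟨s, hs⟩ := hx
        exact (Ideal.IsPrime.mem_or_mem inferInstance (hs ▸ zero_mem P : (s : B) * x ∈ P)).resolve_left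
          fun h => s.2 (hle h)
      · intro x hx
        rw [Ideal.mem_comap, Ideal.mem_bot, IsLocalization.map_eq_zero_iff q.primeCompl] at hx
        obtain ⟨s, hs⟩ := hx
        exact (Ideal.IsPrime.mem_or_mem inferInstance (hs ▸ zero_mem P : (s : B) * x ∈ P)).resolve_left
          fun h => s.2 (hle h)
    have hcop : Pairwise fun i j => IsCoprime (P i) (P j) := fun i j hij => by
      show IsCoprime (P i) (P j)
      rw [Ideal.isCoprime_iff_sup_eq]
      by_contra hne
      obtain ⟨m, hm, hle⟩ := Ideal.exists_le_maximal _ hne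
      refine hij (e.injective (Subtype.ext (huniq m _ _ (e i).2 (e j).2 ?_ ?_)))
      · exact le_sup_left.trans hle
      · exact le_sup_right.trans hle
    have hinf : ⨅ i, P i = ⊥ := by
      rw [eq_bot_iff]
      intro x hx
      refine (nilpotent_iff_mem_prime.mpr fun q hq => ?_ : IsNilpotent x).eq_zero
      haveI := hq
      obtain ⟨p, hp, hpq⟩ := Ideal.exists_minimalPrimes_le (bot_le : ⊥ ≤ q)
      have h1 := (Ideal.mem_iInf.mp hx) (e.symm ⟨p, hp⟩)
      simp only [P, Equiv.apply_symm_apply] at h1
      exact hpq h1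
    have hD : ∀ i, IsDedekindDomain (B ⧸ P i) := fun i => by
      haveI : IsDedekindDomainDvr (B ⧸ P i) :=
        { is_dvr_at_nonzero_prime := fun r hr _ => quotient_dvr A B (P i) (e i).2 huniq r hr }
      infer_instance
    exact ⟨_, fun i => B ⧸ P i, inferInstance, hD, ⟨(RingEquiv.quotientBot B).symm.trans
      ((Ideal.quotEquivOfEq hinf.symm).trans (Ideal.quotientInfRingEquivPiQuotient P hcop))⟩⟩
  · obtain ⟨hdom, π, hπ⟩ := hloc q
    have key : (IsLocalRing.maximalIdeal (Localization.AtPrime q)).IsPrincipal → IsDiscreteValuationRing (Localization.AtPrime q) :=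
      ((IsDiscreteValuationRing.TFAE (Localization.AtPrime q) hnf).out 4 0).mp
    exact ⟨hdom, key ⟨⟨π, hπ⟩⟩⟩

end Groth.Agent.S1973
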