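import Groth.Statements.S19730
import Groth.Agent.H28Num.Cone

set_option autoImplicit false
universe u
open CategoryTheory CategoryTheory.Limits AlgebraicGeometry TopologicalSpace
open Groth.Agent
open Surf

namespace Groth.Agent.S19730

/-- Let k be an algebraically closed field of characteristic zero and X a smooth projective surface over
k (integral, proper and smooth over k, of dimension 2, with an ample invertible module); the notes
work over the complex numbers. Fix a group law on the Picard set of X, and let B be the intersection
form on N¹(X)_ℝ = ℝ ⊗ (Pic X modulo numerical equivalence), the real bilinear form whose value on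
the classes of invertible modules L, M is (L·M) = χ(O_X) − χ(L) − χ(M) + χ(L ⊗ M); assume N¹(X)_ℝ is
finite-dimensional. If x ∈ N¹(X)_ℝ is nef, meaning B(x, [C]) ≥ 0 for every integral curve C ⊆ X
(every quasi-coherent ideal with integral closed subscheme of one-dimensional support and invertible
ideal module, [C] being minus the class of the ideal), then B(x, x) ≥ 0. (The published statement is
for nef real divisors; nefness and self-intersection depend only on the class.) -/
theorem result (k : Type u) [Field k] [IsAlgClosed k] [CharZero k]
    (X : Scheme.{u}) [X.Over (Spec (CommRingCat.of k))] [IsProper (X ↘ (Spec (CommRingCat.of k)))]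
    [Smooth (X ↘ (Spec (CommRingCat.of k)))] [AlgebraicGeometry.IsIntegral X] (hdim : topologicalKrullDim X = 2)
    (hproj : ∃ H : X.Modules, CohB1.IsAmple H) [PicGrp.Law X] [Module.Finite ℝ (NumR.N1R k X)]
    (B : NumR.N1R k X →ₗ[ℝ] NumR.N1R k X →ₗ[ℝ] ℝ) (hB : NumR.IsIntForm₂ k X B)
    (x : NumR.N1R k X) (hx : x ∈ NumR.nefCone₂ k X B) :
    0 ≤ B x x := by
  obtain ⟨H, hH⟩ := hproj
  exact H28Num.nef_self_nonneg k hdim hB hH hx

end Groth.Agent.S19730
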