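import Groth.Statements.S19731
import Groth.Agent.H28Num.Cone

set_option autoImplicit false
universe u
open CategoryTheory CategoryTheory.Limits AlgebraicGeometry TopologicalSpace
open Groth.Agent
open Surf

namespace Groth.Agent.S19731

/-- Let k be an algebraically closed field of characteristic zero and X a smooth projective surface over
k (integral, proper and smooth over k, of dimension 2, with an ample invertible module); the notes
work over the complex numbers. Fix a group law on the Picard set of X, and let B be the intersection
form on N¹(X)_ℝ = ℝ ⊗ (Pic X modulo numerical equivalence), the real bilinear form whose value on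
the classes of invertible modules L, M is (L·M) = χ(O_X) − χ(L) − χ(M) + χ(L ⊗ M); assume N¹(X)_ℝ is
finite-dimensional. If x ∈ N¹(X)_ℝ is nef (B(x, [C]) ≥ 0 for every integral curve C ⊆ X with
invertible ideal module) and y lies in the ample cone A(X) (the convex cone spanned by the classes
of ample invertible modules), then x + y ∈ A(X). (The published statement is for a nef real divisor
and an ample real divisor; a real divisor is ample exactly when its class lies in A(X), so the
statement is one about classes.) -/
theorem result (k : Type u) [Field k] [IsAlgClosed k] [CharZero k]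
    (X : Scheme.{u}) [X.Over (Spec (CommRingCat.of k))] [IsProper (X ↘ (Spec (CommRingCat.of k)))]
    [Smooth (X ↘ (Spec (CommRingCat.of k)))] [AlgebraicGeometry.IsIntegral X] (hdim : topologicalKrullDim X = 2)
    (hproj : ∃ H : X.Modules, CohB1.IsAmple H) [PicGrp.Law X] [Module.Finite ℝ (NumR.N1R k X)]
    (B : NumR.N1R k X →ₗ[ℝ] NumR.N1R k X →ₗ[ℝ] ℝ) (hB : NumR.IsIntForm₂ k X B)
    (x y : NumR.N1R k X) (hx : x ∈ NumR.nefCone₂ k X B) (hy : y ∈ (NumR.ampleCone k X : Set (NumR.N1R k X))) :
    x + y ∈ (NumR.ampleCone k X : Set (NumR.N1R k X)) := by
  obtain ⟨H, hH⟩ := hproj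
  exact H28Num.nef_add_mem k hdim hB hH hx hy

end Groth.Agent.S19731
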