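import Groth.Statements.S19732
import Groth.Agent.H28Num.Cone

set_option autoImplicit false
universe u
open CategoryTheory CategoryTheory.Limits AlgebraicGeometry TopologicalSpace
open Groth.Agent
open Surf

namespace Groth.Agent.S19732

/-- Let k be an algebraically closed field of characteristic zero and X a smooth projective surface over
k (integral, proper and smooth over k, of dimension 2, with an ample invertible module); the notes
work over the complex numbers. Fix a group law on the Picard set of X, and let B be the intersection
form on N¹(X)_ℝ = ℝ ⊗ (Pic X modulo numerical equivalence), the real bilinear form whose value on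
the classes of invertible modules L, M is (L·M) = χ(O_X) − χ(L) − χ(M) + χ(L ⊗ M); assume N¹(X)_ℝ is
finite-dimensional. A class x ∈ N¹(X)_ℝ lies in the ample cone A(X) (the convex cone spanned by the
classes of ample invertible modules) if and only if B(x, x) > 0 and B(x, [C]) > 0 for every integral
curve C ⊆ X (every quasi-coherent ideal with integral closed subscheme of one-dimensional support
and invertible ideal module, [C] being minus the class of the ideal). The published notes state this
description of A(X) twice, first without proof and then with the proof followed here. -/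
theorem result (k : Type u) [Field k] [IsAlgClosed k] [CharZero k]
    (X : Scheme.{u}) [X.Over (Spec (CommRingCat.of k))] [IsProper (X ↘ (Spec (CommRingCat.of k)))]
    [Smooth (X ↘ (Spec (CommRingCat.of k)))] [AlgebraicGeometry.IsIntegral X] (hdim : topologicalKrullDim X = 2)
    (hproj : ∃ H : X.Modules, CohB1.IsAmple H) [PicGrp.Law X] [Module.Finite ℝ (NumR.N1R k X)]
    (B : NumR.N1R k X →ₗ[ℝ] NumR.N1R k X →ₗ[ℝ] ℝ) (hB : NumR.IsIntForm₂ k X B) (x : NumR.N1R k X) :
    x ∈ (NumR.ampleCone k X : Set (NumR.N1R k X)) ↔
      (0 < B x x ∧ ∀ (I : X.IdealSheafData), AlgebraicGeometry.IsIntegral I.subscheme →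
        topologicalKrullDim (I.support : Set X) = 1 → ∀ hI : PicF.IsInvertible (ClSub.idealMod I),
          0 < B x (NumR.curveCl k X I hI)) := by
  obtain ⟨H, hH⟩ := hproj
  exact ⟨fun hx => ⟨(H28Num.ampleCone_subset_posCone k hdim hB hH hx).1,
      fun I a b c => H28Num.curve_pos_of_mem k hdim hB hx a b c⟩,
    fun h => H28Num.mem_ampleCone_of_criterion k hdim hB hH h.1 h.2⟩

end Groth.Agent.S19732
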