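import Groth.Statements.S19736
import Groth.Agent.H28Surf.NegDef
import Groth.Agent.H28Int.Surface
import Groth.Agent.H28Int.Num
import Groth.Agent.H11Sym.InvertibleInverse

set_option autoImplicit false
universe u
open CategoryTheory CategoryTheory.Limits AlgebraicGeometry TopologicalSpace
open Surf

namespace Groth.Agent.S19736

/-- Let k be an algebraically closed field of characteristic zero and X a smooth projective surface over
k (integral, proper and smooth over k, of dimension 2, with an ample invertible module); the notes
work over the complex numbers. Fix a group law on the Picard set of X, and let B be the intersection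
form on N¹(X)_ℝ = ℝ ⊗ (Pic X modulo numerical equivalence), the real bilinear form whose value on
the classes of invertible modules L, M is (L·M) = χ(O_X) − χ(L) − χ(M) + χ(L ⊗ M); assume N¹(X)_ℝ is
finite-dimensional, of dimension the Picard number ρ. If C_1, …, C_r are pairwise distinct integral
curves on X (quasi-coherent ideals I_i with integral closed subscheme of one-dimensional support and
invertible ideal module) spanning a negative definite sublattice, Σ_{i,j} a_i a_j (I_i·I_j) < 0 for
every nonzero integer vector a with (I_i·I_j) = χ(O_X) − χ(I_i) − χ(I_j) + χ(I_i ⊗ I_j), then r ≤ ρ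
− 1. (The published corollary adds that the walls of curves of negative self-intersection form a
locally finite family along the closure of the ample cone in the positive cone; no argument is given
for that clause and it is not restated.) -/
theorem result (k : Type u) [Field k] [IsAlgClosed k] [CharZero k]
    (X : Scheme.{u}) [X.Over (Spec (CommRingCat.of k))] [IsProper (X ↘ (Spec (CommRingCat.of k)))]
    [Smooth (X ↘ (Spec (CommRingCat.of k)))] [AlgebraicGeometry.IsIntegral X] (hdim : topologicalKrullDim X = 2)
    (hproj : ∃ H : X.Modules, CohB1.IsAmple H) [PicGrp.Law X] [Module.Finite ℝ (NumR.N1R k X)]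
    (B : NumR.N1R k X →ₗ[ℝ] NumR.N1R k X →ₗ[ℝ] ℝ) (hB : NumR.IsIntForm₂ k X B)
    (r : ℕ) (C : Fin r → X.IdealSheafData) (hC : Function.Injective C)
    (hCi : ∀ i, AlgebraicGeometry.IsIntegral (C i).subscheme) (hCd : ∀ i, topologicalKrullDim ((C i).support : Set X) = 1)
    (hCinv : ∀ i, PicF.IsInvertible (ClSub.idealMod (C i)))
    (hneg : ∀ a : Fin r → ℤ, a ≠ 0 →
      ∑ i, ∑ j, a i * a j * FGA.intNum k X 2 ![(ClSub.idealMod (C i)), (ClSub.idealMod (C j))] (Coh.structureModule X) < 0) :
    r + 1 ≤ Module.finrank ℝ (NumR.N1R k X) := by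
  classical
  obtain ⟨H, hH⟩ := hproj
  obtain ⟨H', -, ⟨e'⟩⟩ := H11Sym.exists_inverse hH.1
  let eH := H10Coh.Tw.commIso H H' ≪≫ e'
  have hH' : PicF.IsInvertible H' := H17.InvertibleTensor.isInvertible_of_tensor_iso H' H e'
  haveI := H28Int.isNoetherian k (X := X)
  have hO := H10Coh.isCoh_structureModule' X
  have hd2 : topologicalKrullDim X ≤ ((2 : ℕ) : WithBot ℕ∞) := hdim.le
  have hdO : topologicalKrullDim (CohB1.support (Coh.structureModule X)) ≤ ((2 : ℕ) : WithBot ℕ∞) :=
    Topology.IsInducing.subtypeVal.topologicalKrullDim_le.trans hd2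
  have hposO : 0 < H28Int.D k [H', H'] (Coh.structureModule X) := by
    refine (H28Int.pos_of_ample k [H', H'] (by
      intro A hA
      simp only [List.mem_cons, List.mem_singleton, List.not_mem_nil, or_false, or_self] at hA
      subst hA
      exact ⟨H, hH, ⟨eH⟩⟩) _ hO hdO).2 ⟨genericPoint X, ?_, ?_⟩
    · rw [H28Int.Surface.support_structure k]; trivial
    · rw [H28Int.Surface.cdim_genericPoint, hdim]; rfl
  have hHH : 0 < FGA.intNum k X 2 ![H, H] (Coh.structureModule X) := by
    rw [H28Int.intNum_eq k hd2 _ (fun i => by fin_cases i <;> exact hH.1) hO]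
    have hflip : ∀ B : X.Modules, PicF.IsInvertible B →
        H28Int.D k [H, B] (Coh.structureModule X) = - H28Int.D k [H', B] (Coh.structureModule X) := by
      intro B hB
      have hl : ∀ A ∈ [B], PicF.IsInvertible A := List.forall_mem_singleton.2 hB
      have h1 := H28Int.D_cons_tensor k (l := [B]) hl hH.1 hH' hO hdO
      have h2 := H28Int.D_cons_structure k (l := [B]) hl (Coh.structureModule X)
      have h3 : H28Int.D k [CohB1.tensorMod H H', B] (Coh.structureModule X) =
          H28Int.D k [Coh.structureModule X, B] (Coh.structureModule X) := by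
        show H28Int.D k [B] _ - H28Int.D k [B] _ = H28Int.D k [B] _ - H28Int.D k [B] _
        rw [(H28Int.isAddFn_D k [B] hl).congr (PicGrp.tensorModIso eH (Iso.refl (Coh.structureModule X)))]
      omega
    show 0 < H28Int.D k [H, H] (Coh.structureModule X)
    rw [hflip H hH.1, H28Int.Num.D_swap k (l := []) (by simp), hflip H' hH', neg_neg]
    exact hposO
  let v : Fin r → NumR.N1R k X := fun i => NumR.clR k X (ClSub.idealMod (C i)) (hCinv i)
  let h := NumR.clR k X H hH.1
  let M : Fin r → Fin r → ℤ := fun i j =>
    FGA.intNum k X 2 ![(ClSub.idealMod (C i)), (ClSub.idealMod (C j))] (Coh.structureModule X)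
  have hBvv : ∀ i j, B (v i) (v j) = (M i j : ℝ) := fun i j => hB _ _ _ _
  have hv : LinearIndependent ℝ v := Fintype.linearIndependent_iff.2 fun c hc => by
    have h0 : c = 0 := H28Surf.eq_zero_of_mulVec hneg fun i => by
      have h1 := congrArg (B (v i)) hc
      simpa [map_sum, hBvv] using h1
    exact fun i => congrFun h0 i
  have hnot : h ∉ Submodule.span ℝ (Set.range v) := by
    intro hmem
    obtain ⟨c, hc⟩ := (Submodule.mem_span_range_iff_exists_fun ℝ).1 hmem
    have h1 : B h h = ∑ i, ∑ j, c i * c j * (M i j : ℝ) := by
      rw [← hc]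
      simp only [map_sum, map_smul, LinearMap.sum_apply, LinearMap.smul_apply, smul_eq_mul, hBvv, Finset.mul_sum]
      rw [Finset.sum_comm]
      exact Finset.sum_congr rfl fun i _ => Finset.sum_congr rfl fun j _ => by ring
    have h2 : B h h = (FGA.intNum k X 2 ![H, H] (Coh.structureModule X) : ℝ) := hB _ _ _ _
    have h3 := H28Surf.quad_nonpos hneg c
    rw [← h1, h2] at h3
    exact absurd h3 (not_le.2 (by exact_mod_cast hHH))
  have := (linearIndependent_fin_cons.2 ⟨hv, hnot⟩).fintype_card_le_finrank
  rwa [Fintype.card_fin] at this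

end Groth.Agent.S19736
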