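import Groth.Statements.S19737
import Groth.Agent.H28RR.NumTriv

set_option autoImplicit false
universe u
open CategoryTheory CategoryTheory.Limits AlgebraicGeometry TopologicalSpace
open Groth.Agent
open Surf

namespace Groth.Agent.S19737

/-- With the preceding proposition: let k be an algebraically closed field of characteristic zero and X
a smooth projective surface over k (integral, proper and smooth over k, of dimension 2, with an
ample invertible module); the notes work over the complex numbers. Let x be a closed point of X and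
π : X′ → X a blowing up of X in the ideal of x (characterised by its universal property), where X′
is again integral of dimension 2 with an ample invertible module and its structure morphism to Spec
k is π followed by that of X, proper and smooth. Fix group laws on the Picard sets of X and X′ such
that pullback along π is multiplicative on classes, and let N¹(−)_ℝ = ℝ ⊗ (Pic modulo numerical
equivalence). If N¹(X)_ℝ is finite-dimensional, then N¹(X′)_ℝ is finite-dimensional and dim_ℝ
N¹(X′)_ℝ = dim_ℝ N¹(X)_ℝ + 1: the Picard number goes up by one, N¹(X′) being the direct sum of the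
pullback of N¹(X) and the class of the exceptional curve. -/
theorem result (k : Type u) [Field k] [IsAlgClosed k] [CharZero k]
    (X : Scheme.{u}) [X.Over (Spec (CommRingCat.of k))] [IsProper (X ↘ (Spec (CommRingCat.of k)))]
    [Smooth (X ↘ (Spec (CommRingCat.of k)))] [AlgebraicGeometry.IsIntegral X] (hdim : topologicalKrullDim X = 2)
    (hproj : ∃ H : X.Modules, CohB1.IsAmple H)
    (x : X) (hx : IsClosed ({x} : Set X))
    (X' : Scheme.{u}) [X'.Over (Spec (CommRingCat.of k))] (π : X' ⟶ X)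
    (hover : X' ↘ (Spec (CommRingCat.of k)) = π ≫ (X ↘ (Spec (CommRingCat.of k))))
    (hπ : BlowUp.IsBlowUp π (Scheme.IdealSheafData.vanishingIdeal ⟨{x}, hx⟩))
    [AlgebraicGeometry.IsIntegral X'] (hdim' : topologicalKrullDim X' = 2) (hproj' : ∃ H' : X'.Modules, CohB1.IsAmple H')
    [IsProper (X' ↘ (Spec (CommRingCat.of k)))] [Smooth (X' ↘ (Spec (CommRingCat.of k)))]
    [PicGrp.Law X] [PicGrp.Law X'] (hπm : PicGrp.PullMul π) [Module.Finite ℝ (NumR.N1R k X)] :
    Module.Finite ℝ (NumR.N1R k X') ∧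
      Module.finrank ℝ (NumR.N1R k X') = Module.finrank ℝ (NumR.N1R k X) + 1 := by
  letI : Algebra ℤ ℝ := inferInstance
  have hπk : π ≫ (X ↘ Spec (CommRingCat.of k)) = X' ↘ Spec (CommRingCat.of k) := hover.symm
  have hI := H28Surf.isInvertible_ideal k (H28Surf.isEffCartier_curve k hdim' (H28RR.exc_isCurve k hdim hπ))
  have hEE := H28RR.pr_exc_self k hdim hdim' hπ
  have hLE := fun (L : X.Modules) (hL : PicF.IsInvertible L) => H28RR.pr_pullback_exc k hdim hdim' hπk hπ hL
  have hdec := H28RR.pic_decomp k hdim hdim' hπk hπ hI hπm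
  generalize ClSub.idealMod (BlowUp.exceptional π (Scheme.IdealSheafData.vanishingIdeal ⟨{x}, hx⟩)) = I at hI hEE hLE hdec
  -- pairing with a fixed class, as a homomorphism
  have mkH : ∀ (Y : Scheme.{u}) [Y.Over (Spec (CommRingCat.of k))] [IsProper (Y ↘ Spec (CommRingCat.of k))]
      [PicGrp.Law Y], topologicalKrullDim Y = 2 → ∀ M : Y.Modules, PicF.IsInvertible M →
      ∃ h : PicLoc.PicSet Y →* Multiplicative ℤ, ∀ (L : Y.Modules) (hL : PicF.IsInvertible L),
        h (PicGrp.cls L hL) = Multiplicative.ofAdd (H28Surf.pr k L M) := by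
    intro Y _ _ _ hd M hM
    have hwd : ∀ (c : PicLoc.PicSet Y) (L : Y.Modules) (hL : PicF.IsInvertible L), c = PicGrp.cls L hL →
        H28Surf.pr k (PicGrp.exists_eq_cls c).choose M = H28Surf.pr k L M := fun c L hL hc => by
      obtain ⟨hL', h'⟩ := (PicGrp.exists_eq_cls c).choose_spec
      obtain ⟨e⟩ := (PicGrp.cls_eq_cls_iff hL' hL).1 (h'.symm.trans hc)
      exact H28Surf.pr_congr_left k hM e
    refine ⟨{ toFun := fun c => Multiplicative.ofAdd (H28Surf.pr k (PicGrp.exists_eq_cls c).choose M)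
              map_one' := ?_
              map_mul' := fun a b => ?_ }, fun L hL => congrArg Multiplicative.ofAdd (hwd _ L hL rfl)⟩
    · rw [hwd 1 _ (PicLoc.isInvertible_structureModule Y) PicGrp.cls_structureModule_eq_one.symm,
        H28Surf.pr_structure_left k hM]
      rfl
    · obtain ⟨L, hL, rfl⟩ := PicGrp.exists_eq_cls a
      obtain ⟨N, hN, rfl⟩ := PicGrp.exists_eq_cls b
      have hLN := H11Ample.isInvertible_tensor hL hN
      rw [hwd _ _ hLN (Subtype.ext (PicGrp.cls_mul_cls_val hL hN)), hwd _ L hL rfl, hwd _ N hN rfl,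
        H28Surf.pr_tensor_left k hd hL hN hM]
      rfl
  choose hh hh' using fun (M : X.Modules) (hM : PicF.IsInvertible M) => mkH X hdim M hM
  choose gh gh' using fun (M : X'.Modules) (hM : PicF.IsInvertible M) => mkH X' hdim' M hM
  -- the subgroup of numerically trivial classes
  have hker : ∀ (c : PicLoc.PicSet X), c ∈ PicGrp.subCl (Y := X) (Pic13.IsNumEquivZero k X) ↔
      ∀ M hM, hh M hM c = 1 := fun c => H28RR.mem_subCl_iff k hdim hh hh' c
  have hker' : ∀ (c : PicLoc.PicSet X'), c ∈ PicGrp.subCl (Y := X') (Pic13.IsNumEquivZero k X') ↔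
      ∀ M hM, gh M hM c = 1 := fun c => H28RR.mem_subCl_iff k hdim' gh gh' c
  let e₀ := PicGrp.cls I hI
  let pb := PicGrp.pullHom π hπm
  have hpb : ∀ (L : X.Modules) (hL : PicF.IsInvertible L),
      pb (PicGrp.cls L hL) = PicGrp.cls _ (H11Ample.isInvertible_pullback π hL) := fun L hL => Subtype.ext rfl
  have hval : ∀ (L : X.Modules) (hL : PicF.IsInvertible L) (M : X.Modules) (hM : PicF.IsInvertible M),
      gh _ (H11Ample.isInvertible_pullback π hM) (pb (PicGrp.cls L hL)) = hh M hM (PicGrp.cls L hL) := by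
    intro L hL M hM
    rw [hpb, gh', hh', H28RR.pr_pullback k hdim hdim' hπk hπ hL hM]
  have hvalI : ∀ c : PicLoc.PicSet X, gh I hI (pb c) = 1 := fun c => by
    obtain ⟨L, hL, rfl⟩ := PicGrp.exists_eq_cls c
    rw [hpb, gh', hLE L hL]
    rfl
  have hvalI' : ∀ (M : X.Modules) (hM : PicF.IsInvertible M), gh _ (H11Ample.isInvertible_pullback π hM) e₀ = 1 :=
    fun M hM => by
      rw [gh', H28Surf.pr_symm k, hLE M hM]
      rfl
  -- the map
  let F : PicLoc.PicSet X × Multiplicative ℤ →* PicGrp.modCl (Y := X') (Pic13.IsNumEquivZero k X') :=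
    (QuotientGroup.mk' _).comp (pb.coprod (zpowersHom _ e₀))
  have hF : ∀ p, F p = 1 ↔ p.1 ∈ PicGrp.subCl (Y := X) (Pic13.IsNumEquivZero k X) ∧ p.2 = 1 := by
    rintro ⟨c, n⟩
    refine (QuotientGroup.eq_one_iff _).trans ((hker' _).trans ⟨fun h => ?_, fun h M hM => ?_⟩)
    · have h1 := h I hI
      simp only [MonoidHom.coprod_apply, map_mul, zpowersHom_apply, map_zpow, hvalI, one_mul, e₀, gh', hEE] at h1
      have hn : n = 1 := by
        have h2 := congrArg Multiplicative.toAdd h1
        simp only [toAdd_zpow, toAdd_ofAdd, toAdd_one, smul_eq_mul] at h2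
        exact Multiplicative.toAdd.injective (show Multiplicative.toAdd n = 0 by omega)
      refine ⟨(hker c).2 fun M hM => ?_, hn⟩
      have h3 := h _ (H11Ample.isInvertible_pullback π hM)
      obtain ⟨L, hL, rfl⟩ := PicGrp.exists_eq_cls c
      rw [hn] at h3
      simp only [MonoidHom.coprod_apply, map_one, mul_one] at h3
      exact (hval L hL M hM).symm.trans h3
    · obtain ⟨hc, hn⟩ := h
      dsimp only at hc hn
      subst hn
      obtain ⟨d, j, hdj⟩ := hdec (PicGrp.cls M hM)
      obtain ⟨L, hL, rfl⟩ := PicGrp.exists_eq_cls c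
      obtain ⟨N, hN, rfl⟩ := PicGrp.exists_eq_cls d
      simp only [MonoidHom.coprod_apply, map_one, mul_one]
      rw [hpb, gh', H28Surf.pr_symm k, ← gh' _ (H11Ample.isInvertible_pullback π hL) M hM, hdj, map_mul, map_zpow,
        hvalI' L hL, one_zpow, mul_one, hval N hN L hL, hh', H28Surf.pr_symm k, ← hh' N hN L hL]
      exact (hker _).1 hc N hN
  have hFs : Function.Surjective F := fun y => by
    obtain ⟨c, rfl⟩ := QuotientGroup.mk'_surjective _ y
    obtain ⟨d, j, rfl⟩ := hdec c
    exact ⟨(d, Multiplicative.ofAdd j), by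
      simp only [F, MonoidHom.comp_apply, MonoidHom.coprod_apply, zpowersHom_apply, toAdd_ofAdd]; rfl⟩
  let f₁ : NumR.N1 k X →+ NumR.N1 k X' := MonoidHom.toAdditive (QuotientGroup.lift _
    (F.comp (MonoidHom.inl _ _)) fun c hc => (hF (c, 1)).2 ⟨hc, rfl⟩)
  let g : NumR.N1 k X × ℤ →+ NumR.N1 k X' :=
    f₁.coprod (zmultiplesHom _ (Additive.ofMul (F (1, Multiplicative.ofAdd 1))))
  have hg : ∀ (c : PicLoc.PicSet X) (n : ℤ), g (Additive.ofMul (QuotientGroup.mk' _ c), n) =
      Additive.ofMul (F (c, Multiplicative.ofAdd n)) := fun c n => by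
    simp only [g, f₁, AddMonoidHom.coprod_apply, zmultiplesHom_apply]
    show Additive.ofMul (F (c, 1)) + n • Additive.ofMul (F (1, Multiplicative.ofAdd 1)) = _
    rw [← ofMul_zpow, ← ofMul_mul, ← map_zpow, ← map_mul]
    refine congrArg (fun p => Additive.ofMul (F p)) (Prod.ext (by simp) ?_)
    show 1 * (Multiplicative.ofAdd (1 : ℤ)) ^ n = _
    rw [one_mul, ← ofAdd_zsmul, smul_eq_mul, mul_one]
  have hgb : Function.Bijective g := by
    refine ⟨(injective_iff_map_eq_zero g).2 ?_, fun y => ?_⟩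
    · rintro ⟨a, n⟩ h
      obtain ⟨c, hc⟩ := QuotientGroup.mk'_surjective _ (Additive.toMul a)
      obtain rfl : a = Additive.ofMul (QuotientGroup.mk' _ c) := (congrArg Additive.ofMul hc).symm
      rw [hg] at h
      obtain ⟨h1, h2⟩ := (hF _).1 h
      refine Prod.ext ?_ (by exact congrArg Multiplicative.toAdd h2)
      exact (QuotientGroup.eq_one_iff c).2 h1
    · obtain ⟨⟨c, n⟩, h⟩ := hFs (Additive.toMul y)
      exact ⟨(Additive.ofMul (QuotientGroup.mk' _ c), Multiplicative.toAdd n), (hg c _).trans h⟩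
  let e₁ : (NumR.N1 k X × ℤ) ≃ₗ[ℤ] NumR.N1 k X' := (AddEquiv.ofBijective g hgb).toIntLinearEquiv
  haveI : Module.Finite ℝ (TensorProduct ℤ ℝ (NumR.N1 k X)) :=
    ‹Module.Finite ℝ (NumR.N1R k X)›
  let E : TensorProduct ℤ ℝ (NumR.N1 k X') ≃ₗ[ℝ] TensorProduct ℤ ℝ (NumR.N1 k X) × ℝ :=
    (LinearEquiv.baseChange ℤ ℝ _ _ e₁.symm).trans ((TensorProduct.prodRight ℤ ℝ ℝ (NumR.N1 k X) ℤ).trans
      ((LinearEquiv.refl ℝ (TensorProduct ℤ ℝ (NumR.N1 k X))).prodCongr (TensorProduct.AlgebraTensorModule.rid ℤ ℝ ℝ)))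
  refine ⟨Module.Finite.equiv (M := TensorProduct ℤ ℝ (NumR.N1 k X) × ℝ) E.symm, ?_⟩
  show Module.finrank ℝ (TensorProduct ℤ ℝ (NumR.N1 k X')) = Module.finrank ℝ (TensorProduct ℤ ℝ (NumR.N1 k X)) + 1
  rw [E.finrank_eq, Module.finrank_prod, Module.finrank_self]

end Groth.Agent.S19737
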