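import Groth.Statements.S1974
import Groth.Agent.H9WE.Field
import Mathlib.RingTheory.LocalRing.ResidueField.Ideal
import Mathlib.RingTheory.TensorProduct.Maps
-- import your own Groth.Agent.* helpers here

set_option autoImplicit false
universe u
open EtAlg

namespace Groth.Agent.S1974

open scoped TensorProduct

/-- Let A -> B be weakly etale and q a prime of B lying over the prime p of A. Then the residue field of
q is a separable algebraic extension of the residue field of p. -/
theorem result (A B : Type u) [CommRing A] [CommRing B] [Algebra A B]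
    [Algebra.WeaklyEtale A B] (p : Ideal A) [p.IsPrime] (q : Ideal B) [q.IsPrime] [q.LiesOver p]
    [Algebra (Localization.AtPrime p) (Localization.AtPrime q)] [Localization.AtPrime.IsLiesOverAlgebra p q] :
    Algebra.IsSeparable p.ResidueField q.ResidueField := by
  let f : p.ResidueField ⊗[A] B →ₐ[p.ResidueField] q.ResidueField :=
    Algebra.TensorProduct.lift (Algebra.ofId _ _) (IsScalarTower.toAlgHom A B q.ResidueField) fun _ _ => .all _ _
  let C := f.range
  have hC : H9WE.VNR C := (H9WE.vnr_of_weaklyEtale p.ResidueField (p.ResidueField ⊗[A] B)).of_surjective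
    f.rangeRestrict.toRingHom f.rangeRestrict_surjective
  haveI : Algebra.WeaklyEtale p.ResidueField C :=
    H9WE.weaklyEtale_of_surjective f.rangeRestrict f.rangeRestrict_surjective
  have hinv : ∀ x ∈ C, x⁻¹ ∈ C := by
    intro x hx
    by_cases h0 : x = 0
    · rw [h0, inv_zero]; exact zero_mem _
    obtain ⟨c, hc⟩ := hC ⟨x, hx⟩
    have h1 : x = x * x * (c : q.ResidueField) := congrArg Subtype.val hc
    rw [show x⁻¹ = (c : q.ResidueField) from inv_eq_of_mul_eq_one_right (mul_left_cancel₀ h0 (by
      rw [mul_one, ← mul_assoc, ← h1]))]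
    exact c.2
  have hB : ∀ b : B, algebraMap B q.ResidueField b ∈ C := fun b => ⟨(1 : p.ResidueField) ⊗ₜ b, by
    simp [f]⟩
  refine ⟨fun x => ?_⟩
  have hx : x ∈ C := by
    obtain ⟨a, b, _, rfl⟩ := IsFractionRing.div_surjective (A := B ⧸ q) x
    obtain ⟨a, rfl⟩ := Ideal.Quotient.mk_surjective a
    obtain ⟨b, rfl⟩ := Ideal.Quotient.mk_surjective b
    rw [div_eq_mul_inv, ← Ideal.Quotient.algebraMap_eq, ← IsScalarTower.algebraMap_apply,
      ← IsScalarTower.algebraMap_apply]
    exact mul_mem (hB a) (hinv _ (hB b))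
  obtain ⟨P, hP, hP0⟩ := (H9WE.isSep_of_weaklyEtale p.ResidueField (⟨x, hx⟩ : C)).map C.val
  exact hP.of_dvd (minpoly.dvd _ _ hP0)

end Groth.Agent.S1974
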