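import Groth.Statements.S19741
import Mathlib

set_option autoImplicit false
universe w u
open EssDim

namespace Groth.Agent.S19741

theorem trdeg_adjoin_le (k K L : Type u) [Field k] [Field K] [Field L] [Algebra k K] [Algebra k L] [Algebra K L]
    [IsScalarTower k K L] (K₀ : IntermediateField k L) :
    Algebra.trdeg K (IntermediateField.adjoin K (K₀ : Set L)) ≤ Algebra.trdeg k K₀ := by
  obtain ⟨s, hs⟩ := exists_isTranscendenceBasis k K₀
  haveI := hs.isAlgebraic_field
  rw [← hs.cardinalMk_eq_trdeg]
  let K₁ := IntermediateField.adjoin K (K₀ : Set L)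
  let ι : K₀ → K₁ := fun x => ⟨x.1, IntermediateField.subset_adjoin K _ x.2⟩
  let t : Set K₁ := Set.range fun i : s => ι i.1
  let F := IntermediateField.adjoin K t
  let incl : K₀ →+* K₁ :=
    { toFun := ι, map_one' := rfl, map_mul' := fun _ _ => rfl, map_zero' := rfl, map_add' := fun _ _ => rfl }
  let F₀ := IntermediateField.adjoin k (Set.range ((↑) : s → K₀))
  have hmap : ∀ a ∈ F₀, incl a ∈ F := by
    intro a ha
    induction ha using IntermediateField.adjoin_induction with
    | mem x hx => obtain ⟨i, rfl⟩ := hx; exact IntermediateField.subset_adjoin K t ⟨i, rfl⟩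
    | algebraMap r =>
      have : incl (algebraMap k K₀ r) = algebraMap K K₁ (algebraMap k K r) :=
        Subtype.ext (IsScalarTower.algebraMap_apply k K L r)
      rw [this]; exact F.algebraMap_mem _
    | add x y _ _ hx hy => rw [map_add]; exact add_mem hx hy
    | inv x _ hx => rw [map_inv₀]; exact inv_mem hx
    | mul x y _ _ hx hy => rw [map_mul]; exact mul_mem hx hy
  have halg : ∀ x : K₀, IsAlgebraic F (ι x) := fun x => by
    obtain ⟨p, hp0, hp⟩ := Algebra.IsAlgebraic.isAlgebraic (R := F₀) x
    let φ : F₀ →+* F :=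
      { toFun := fun a => ⟨incl a.1, hmap a.1 a.2⟩
        map_one' := rfl, map_mul' := fun _ _ => rfl, map_zero' := rfl, map_add' := fun _ _ => rfl }
    refine ⟨p.map φ, (Polynomial.map_ne_zero_iff φ.injective).mpr hp0, ?_⟩
    rw [Polynomial.aeval_def, Polynomial.eval₂_map]
    exact (Polynomial.hom_eval₂ p _ incl x).symm.trans (congrArg incl hp |>.trans incl.map_zero)
  have htop : ∀ z : K₁, IsAlgebraic F z := by
    intro z
    have hle : K₁ ≤ ((algebraicClosure F K₁).restrictScalars K).map K₁.val := by
      rw [IntermediateField.adjoin_le_iff]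
      intro y hy
      exact ⟨ι ⟨y, hy⟩, mem_algebraicClosure_iff.mpr (halg ⟨y, hy⟩), rfl⟩
    obtain ⟨z', hz', e⟩ := hle z.2
    rw [← show z' = z from Subtype.ext e]
    exact mem_algebraicClosure_iff.mp hz'
  haveI : Algebra.IsAlgebraic (Algebra.adjoin K t) K₁ :=
    ⟨fun z => IntermediateField.isAlgebraic_adjoin_iff.mp (htop z)⟩
  refine (Algebra.IsAlgebraic.trdeg_le_cardinalMk K t).trans ?_
  exact Cardinal.mk_range_le

open CategoryTheory AlgebraicGeometry in
/-- For a field extension `K` of `k` and a presheaf of sets `P` on schemes over `k`, restrict `P` to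
schemes over `K` by viewing a scheme over `Spec K` as a scheme over `Spec k`; then the essential
dimension over `K` of the restricted presheaf is at most the essential dimension of `P` over `k`.
(The source states this for an algebraic stack over `k` and its base change to `K`, through the
presheaf of isomorphism classes of objects, whose restriction to schemes over `K` is the presheaf of
classes of the base-changed stack; the inequality is stated here for an arbitrary presheaf, which is
what the argument with composita of fields of definition gives.) -/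
theorem result (k : Type u) [Field k] (K : Type u) [Field K] [Algebra k K]
    (P : (Over (Spec (CommRingCat.of k)))ᵒᵖ ⥤ Type w) :
    EssDim.ed (k := K) ((Over.map (Spec.map (CommRingCat.ofHom (algebraMap k K)))).op ⋙ P) ≤ EssDim.ed P := by
  refine iSup_le fun L => iSup_le fun iL => iSup_le fun iA => iSup_le fun ξ => ?_
  letI : Field L := iL
  letI : Algebra K L := iA
  letI : Algebra k L := ((algebraMap K L).comp (algebraMap k K)).toAlgebra
  haveI : IsScalarTower k K L := .of_algebraMap_eq fun _ => rfl
  let σ := Spec.map (CommRingCat.ofHom (algebraMap k K))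
  have hw : ∀ (L' : Type u) [Field L'] [Algebra K L'] [Algebra k L'] [IsScalarTower k K L'],
      Spec.map (CommRingCat.ofHom (algebraMap K L')) ≫ σ = Spec.map (CommRingCat.ofHom (algebraMap k L')) :=
    fun L' _ _ _ _ => by
      rw [← Spec.map_comp, ← CommRingCat.ofHom_comp, ← IsScalarTower.algebraMap_eq]
  let e : (Over.map σ).obj (SGA7.pt (K := K) L) ≅ SGA7.pt (K := k) L := Over.isoMk (Iso.refl _) (by
    exact (Category.id_comp _).trans (hw L).symm)
  let ξ' : EssDim.FPt P L := P.map e.inv.op ξ
  refine le_trans ?_ (EssDim.edAt_le_ed ξ')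
  rw [WithBot.coe_le_coe]
  refine le_iInf fun ⟨K₀, ξ₀, hξ₀⟩ => ?_
  let K₁ := IntermediateField.adjoin K (K₀ : Set L)
  let a : (Over.map σ).obj (SGA7.pt (K := K) K₁) ⟶ SGA7.pt (K := k) K₀ :=
    Over.homMk (Spec.map (CommRingCat.ofHom
      { toFun := fun x : K₀ => (⟨x.1, IntermediateField.subset_adjoin K _ x.2⟩ : K₁)
        map_one' := rfl, map_mul' := fun _ _ => rfl, map_zero' := rfl, map_add' := fun _ _ => rfl }))
      (by
        show Spec.map _ ≫ Spec.map _ = Spec.map _ ≫ σ
        rw [hw K₁, ← Spec.map_comp]
        congr 1)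
  refine le_trans (EssDim.edAt_le_of_descends (K := K₁) ⟨P.map a.op ξ₀, ?_⟩) ?_
  · show P.map ((Over.map σ).map (EssDim.resPt K₁.val)).op (P.map a.op ξ₀) = ξ
    have hcomm : (Over.map σ).map (EssDim.resPt K₁.val) ≫ a = e.hom ≫ EssDim.resPt K₀.val := by
      refine Over.OverMorphism.ext ?_
      show Spec.map _ ≫ Spec.map _ = 𝟙 _ ≫ Spec.map _
      rw [Category.id_comp, ← Spec.map_comp]
      rfl
    rw [← FunctorToTypes.map_comp_apply, ← op_comp, hcomm, op_comp, FunctorToTypes.map_comp_apply]
    change P.map e.hom.op (EssDim.fmap K₀.val ξ₀) = ξ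
    rw [hξ₀, ← FunctorToTypes.map_comp_apply, ← op_comp, Iso.hom_inv_id, op_id, FunctorToTypes.map_id_apply]
  · exact OrderHomClass.mono Cardinal.toENat (trdeg_adjoin_le k K L K₀)

end Groth.Agent.S19741
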