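import Groth.Statements.S19742
import Groth.Agent.H25EssDim.Point
import Groth.Agent.H14Fib.Yoneda

set_option autoImplicit false
universe u
open EssDim

namespace Groth.Agent.S19742

open CategoryTheory AlgebraicGeometry in
/-- Let `𝒳` and `𝒴` be algebraic stacks over a field `k` and `F : 𝒳 ⟶ 𝒴` a morphism over `(Sch/k)` which
is representable by algebraic spaces, quasi-separated, locally of finite type and of fibre dimension
at most `d`: for every scheme `U` over `k` and every `(Sch/U) ⟶ 𝒴` the 2-fibre product with `𝒳` is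
an algebraic space whose morphism to `U` is quasi-separated, locally of finite type and of relative
dimension at most `d` (local dimension of the fibre at most `d` at every point). Then for a field
`L` over `k` and an object `x` of `𝒳` over `Spec L`, the essential dimension of `x` is at most the
essential dimension of its image `F(x)` plus `d`. (Quasi-separatedness of `F` is an added
hypothesis: the published statement asks only representable, locally of finite type and of fibre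
dimension at most `d`, in a framework where representable morphisms of algebraic stacks are
quasi-separated; the argument uses residue fields of points of the algebraic space `Spec K ×_𝒴 𝒳`,
which are available when that space is quasi-separated.) -/
theorem result (k : Type u) [Field k]
    (𝒳 𝒴 : AlgSt.Cat (Spec (CommRingCat.of k)))
    (h𝒳 : AlgSt.IsAlgStack Scheme.fppfPrecoverage 𝒳) (h𝒴 : AlgSt.IsAlgStack Scheme.fppfPrecoverage 𝒴)
    [FibCat.IsFibGrpd 𝒳.p] [FibCat.IsFibGrpd 𝒴.p]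
    (F : 𝒳 ⥤ᵇ 𝒴) (d : ℕ)
    (hF : AlgSt.RepByAlgSpWith
      (AlgSp.LocP @LocallyOfFiniteType ⊓ AlgSp.IsQuasiSeparatedMor ⊓ fun _ _ g => CurvSt.RelDimLE d g) F)
    (L : Type u) [Field L] [Algebra k L] (x : StkCnt.pts 𝒳 L) :
    EssDim.edStAt 𝒳 x ≤ EssDim.edStAt 𝒴 ⟨F.obj x.1, (F.w_obj x.1).trans x.2⟩ + d := by
  refine le_trans (le_of_eq rfl) ?_
  unfold EssDim.edStAt EssDim.edAt
  rw [ENat.iInf_add]
  refine le_iInf fun ⟨K, hK⟩ => ?_
  obtain ⟨y₀, φ, hφ⟩ := (EssDim.descends_isoCl_iff 𝒴 _ K).1 hK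
  haveI : 𝒴.p.IsFibered := Groth.Agent.H14Fib.isFibered_of_fibGrpd (p := 𝒴.p) inferInstance
  obtain ⟨yU, e₀, -, he₀⟩ := Groth.Agent.H14Fib.exists_fromOver (𝒳 := 𝒴) y₀.2
  obtain ⟨Z, e, he, ⟨hft, hqs⟩, hd⟩ := hF (SGA7.pt (K := k) K) yU
  -- the object of the fibre product over the point
  let gK : SGA7.pt (K := k) L ⟶ SGA7.pt (K := k) K := EssDim.resPt K.val
  let t : (FibCat.overCat (SGA7.pt (K := k) K)).obj := Over.mk gK
  let φ' : yU.obj t ⟶ y₀.1 := yU.map (Groth.Agent.H14Fib.toTop t) ≫ e₀.hom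
  have hφ' : 𝒴.p.IsHomLift gK φ' := by
    have h1 : (FibCat.overCat (SGA7.pt (K := k) K)).p.IsHomLift gK (Groth.Agent.H14Fib.toTop t) :=
      Groth.Agent.H14Fib.overCat_isHomLift (Groth.Agent.H14Fib.toTop t)
    have h2 : 𝒴.p.IsHomLift gK (yU.map (Groth.Agent.H14Fib.toTop t)) :=
      BasedFunctor.preserves_isHomLift yU gK (Groth.Agent.H14Fib.toTop t)
    exact (inferInstance : 𝒴.p.IsHomLift gK (yU.map (Groth.Agent.H14Fib.toTop t) ≫ e₀.hom))
  haveI := hφ'
  haveI := hφ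
  haveI : 𝒴.p.IsStronglyCartesian gK φ := Groth.Agent.H14Fib.sc_of_fibGrpd (p := 𝒴.p) inferInstance gK φ
  haveI : 𝒴.p.IsStronglyCartesian gK φ' := Groth.Agent.H14Fib.sc_of_fibGrpd (p := 𝒴.p) inferInstance gK φ'
  let i : yU.obj t ≅ F.obj x.1 :=
    Functor.IsCartesian.domainUniqueUpToIso 𝒴.p gK φ φ'
  have hi : 𝒴.p.IsHomLift (𝟙 (SGA7.pt (K := k) L)) i.hom := inferInstance
  let o : (FibCat.fp yU F).obj := ⟨⟨t, x.1, i⟩, hi⟩
  obtain ⟨G, -, ⟨η⟩⟩ := he
  let w := G.obj o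
  have hwb : w.base = SGA7.pt (K := k) L := G.w_obj o
  let w₁ : (AlgSt.ofSp Z.obj).obj := ⟨SGA7.pt (K := k) L, Z.obj.obj.map (eqToHom hwb.symm).op w.sec⟩
  obtain ⟨E, s₀, hs₀, hE⟩ := Groth.Agent.H25EssDim.exists_descend Z.property
    (AlgSt.spMapOfOver (BasedFunctor.comp e (FibCat.fpFst yU F))) hft hqs d hd w₁.sec
  let w₂ : (AlgSt.ofSp Z.obj).obj := ⟨SGA7.pt (K := k) E, s₀⟩
  let ψ : w ⟶ w₂ := ⟨eqToHom hwb ≫ EssDim.resPt E.val, by
    show Z.obj.obj.map (eqToHom hwb ≫ EssDim.resPt E.val).op s₀ = w.sec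
    rw [op_comp, FunctorToTypes.map_comp_apply, hs₀, ← FunctorToTypes.map_comp_apply, ← op_comp, eqToHom_trans,
      eqToHom_refl, op_id, FunctorToTypes.map_id_apply]⟩
  have hψ : (AlgSt.ofSp Z.obj).p.IsHomLift (eqToHom hwb ≫ EssDim.resPt E.val) ψ :=
    inferInstanceAs ((AlgSt.ofSp Z.obj).p.IsHomLift ((AlgSt.ofSp Z.obj).p.map ψ) ψ)
  haveI := hψ
  haveI : (AlgSt.ofSp Z.obj).p.IsHomLift (EssDim.resPt E.val) ψ :=
    IsHomLift.of_fac' (AlgSt.ofSp Z.obj).p _ _ hwb rfl (by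
      show eqToHom hwb ≫ EssDim.resPt E.val = _
      simp)
  let H := BasedFunctor.comp e (FibCat.fpSnd yU F)
  have hη : (FibCat.fp yU F).p.IsHomLift (𝟙 (SGA7.pt (K := k) L)) (η.inv.toNatTrans.app o) :=
    BasedNatTrans.isHomLift η.inv rfl
  haveI := hη
  let χ : x.1 ⟶ H.obj w₂ := (FibCat.fpSnd yU F).map (η.inv.toNatTrans.app o) ≫ H.map ψ
  have hχ : 𝒳.p.IsHomLift (EssDim.resPt E.val) χ := by
    haveI h1 : 𝒳.p.IsHomLift (𝟙 (SGA7.pt (K := k) L)) ((FibCat.fpSnd yU F).map (η.inv.toNatTrans.app o)) :=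
      BasedFunctor.preserves_isHomLift (FibCat.fpSnd yU F) _ _
    haveI h2 : 𝒳.p.IsHomLift (EssDim.resPt E.val) (H.map ψ) :=
      BasedFunctor.preserves_isHomLift H _ _
    have := @IsHomLift.comp _ _ _ _ 𝒳.p _ _ _ _ (H.obj w) _ (𝟙 (SGA7.pt (K := k) L)) (EssDim.resPt E.val)
      ((FibCat.fpSnd yU F).map (η.inv.toNatTrans.app o)) (H.map ψ) h1 h2
    rwa [Category.id_comp] at this
  refine le_trans (iInf_le _ ⟨E, (EssDim.descends_isoCl_iff 𝒳 x E).2 ⟨⟨H.obj w₂, H.w_obj w₂⟩, χ, hχ⟩⟩) ?_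
  exact hE

end Groth.Agent.S19742
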