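import Groth.Statements.S19745
import Groth.Agent.H17.GenusZeroSt.Main
-- import your own Groth.Agent.* helpers here

set_option autoImplicit false
universe u
open EssDim

namespace Groth.Agent.S19745

open CategoryTheory AlgebraicGeometry in
/-- Over a field `k` of characteristic zero, the stack of smooth genus-`0` curves with one marked point
and the stack of smooth genus-`0` curves with two (distinct) marked points both have essential
dimension `0`: they have objects over some field, and every smooth proper geometrically irreducible
curve of genus `0` over a field `L ⊇ k` with one or two rational points descends, with its points,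
to a subfield of `L` algebraic over `k`. -/
theorem result (k : Type u) [Field k] [CharZero k]
    [FibCat.IsFibGrpd (CurvSt.Mgn (Spec (CommRingCat.of k)) 0 1).p]
    [FibCat.IsFibGrpd (CurvSt.Mgn (Spec (CommRingCat.of k)) 0 2).p] :
    EssDim.edSt (CurvSt.Mgn (Spec (CommRingCat.of k)) 0 1) = 0 ∧
      EssDim.edSt (CurvSt.Mgn (Spec (CommRingCat.of k)) 0 2) = 0 := by
  exact ⟨Groth.Agent.H17.GenusZeroSt.edSt_eq_zero le_rfl one_le_two, Groth.Agent.H17.GenusZeroSt.edSt_eq_zero one_le_two le_rfl⟩

end Groth.Agent.S19745
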