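import Groth.Statements.S19748
import Groth.Agent.H4Segre.Diag
import Mathlib.RingTheory.FiniteStability

set_option autoImplicit false
universe u
open scoped TensorProduct
open GrSegre

namespace Groth.Agent.S19748

/-- Let R and S be graded rings defined over a field k with Segre product T = R # S, M a graded R-module
and N a graded S-module. Suppose that multiplication by some homogeneous element f ∈ R_d of positive
degree d is bijective on M and multiplication by some homogeneous g ∈ S_e of positive degree e is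
bijective on N. Then multiplication by some homogeneous element of T of positive degree is bijective
on M # N. Here a graded ring defined over k is a commutative k-algebra of finite type, graded in
nonnegative degrees by k-subspaces with degree-zero part k·1; the Segre product T = R # S = ⊕_n R_n
⊗_k S_n is presented abstractly as a graded k-algebra T with an injective k-algebra homomorphism ψ :
T → R ⊗_k S carrying T_n onto the k-span of the elementary tensors a ⊗ b with a ∈ R_n, b ∈ S_n; the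
Segre product M # N = ⊕_n M_n ⊗_k N_n of a graded R-module M and a graded S-module N is presented
abstractly as a graded T-module P with an injective k-linear map φ : P → M ⊗_k N carrying P_n onto
the k-span of the tensors x ⊗ y with x ∈ M_n, y ∈ N_n and turning the action of t ∈ T into that of
ψ(t) (acting factorwise on M ⊗_k N). -/
theorem result (k : Type u) [Field k] (R : Type u) [CommRing R] [Algebra k R] (𝒜 : ℤ → Submodule k R) [GradedAlgebra 𝒜] (hposR : ∀ n : ℤ, n < 0 → 𝒜 n = ⊥) (h0R : 𝒜 0 = Submodule.span k {(1 : R)}) [Algebra.FiniteType k R] (S : Type u) [CommRing S] [Algebra k S] (ℬ : ℤ → Submodule k S) [GradedAlgebra ℬ] (hposS : ∀ n : ℤ, n < 0 → ℬ n = ⊥) (h0S : ℬ 0 = Submodule.span k {(1 : S)}) [Algebra.FiniteType k S] (T : Type u) [CommRing T] [Algebra k T] (𝒯 : ℤ → Submodule k T) [GradedAlgebra 𝒯] (ψ : T →ₐ[k] TensorProduct k R S) (hT : GrSeg.IsSegreRing 𝒜 ℬ 𝒯 ψ) (M : Type u) [AddCommGroup M] [Module R M] [Module k M] [IsScalarTower k R M] (ℳ : ℤ → AddSubgroup M) [DirectSum.Decomposition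 ℳ] [SetLike.GradedSMul 𝒜 ℳ] (N : Type u) [AddCommGroup N] [Module S N] [Module k N] [IsScalarTower k S N] (𝒩 : ℤ → AddSubgroup N) [DirectSum.Decomposition 𝒩] [SetLike.GradedSMul ℬ 𝒩] (P : Type u) [AddCommGroup P] [Module T P] [Module k P] [IsScalarTower k T P] (𝒬 : ℤ → AddSubgroup P) [DirectSum.Decomposition 𝒬] (φ : P →ₗ[k] TensorProduct k M N) (hP : GrSeg.IsSegreMod ψ ℳ 𝒩 𝒬 φ) (d : ℕ) (hd : 0 < d) (f : R) (hf : f ∈ 𝒜 (d : ℤ)) (hfM : Function.Bijective (fun x : M => f • x)) (e : ℕ) (he : 0 < e) (g : S) (hg : g ∈ ℬ (e : ℤ)) (hgN : Function.Bijective (fun y : N => g • y)) : ∃ (c : ℤ) (t : T), 0 < c ∧ t ∈ 𝒯 c ∧ Function.Bijective (fun p : P => t • p) := by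
  set a := f ^ e with hadef
  set b := g ^ d with hbdef
  have ha : a ∈ 𝒜 ((e * d : ℕ) : ℤ) := by
    have h := SetLike.pow_mem_graded e hf
    rwa [show e • (d : ℤ) = ((e * d : ℕ) : ℤ) by push_cast; rw [nsmul_eq_mul]] at h
  have hb : b ∈ ℬ ((e * d : ℕ) : ℤ) := by
    have h := SetLike.pow_mem_graded d hg
    rwa [show d • (e : ℤ) = ((e * d : ℕ) : ℤ) by push_cast; rw [nsmul_eq_mul, mul_comm]] at h
  obtain ⟨t, ht, htψ⟩ : ∃ t ∈ 𝒯 ((e * d : ℕ) : ℤ), ψ t = a ⊗ₜ[k] b :=
    (hT.2 ((e * d : ℕ) : ℤ)).ge (Submodule.subset_span ⟨a, ha, b, hb, rfl⟩)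
  refine ⟨((e * d : ℕ) : ℤ), t, by exact_mod_cast Nat.mul_pos he hd, ht, ?_⟩
  have hpow : ∀ {A X : Type u} [CommRing A] [AddCommGroup X] [Module A X] (c : A),
      Function.Bijective (fun x : X => c • x) → ∀ n : ℕ, Function.Bijective (fun x : X => c ^ n • x) := by
    intro A X _ _ _ c hc n
    induction n with
    | zero => convert Function.bijective_id using 1; funext x; simp
    | succ n ih =>
      have h := ih.comp hc
      convert h using 1
      funext x
      simp [pow_succ, mul_smul]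
  let U : M ≃ₗ[k] M := LinearEquiv.ofBijective (Algebra.lsmul k k M a) (hpow f hfM e)
  let V : N ≃ₗ[k] N := LinearEquiv.ofBijective (Algebra.lsmul k k N b) (hpow g hgN d)
  let W := TensorProduct.congr U V
  have hW : ∀ z, GrSeg.act k R S M N (a ⊗ₜ[k] b) z = W z := fun z => by
    induction z using TensorProduct.induction_on with
    | zero => simp
    | add x y hx hy => rw [map_add, map_add, hx, hy]
    | tmul x y => rw [GrSeg.act_tmul]; rfl
  have hact : ∀ p, φ (t • p) = W (φ p) := fun p => by rw [hP.map_smul, htψ, hW]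
  refine ⟨fun p q h => hP.injective (W.injective ?_), fun q => ?_⟩
  · rw [← hact, ← hact]; exact congrArg φ h
  · obtain ⟨p, hp⟩ := (Groth.Agent.H4Segre.mem_range_iff_mod ℳ 𝒩 hP).2
      (Groth.Agent.H4Segre.diag_mem_iSup 𝒜 ℳ ℬ 𝒩 (W.symm (φ q)))
    refine ⟨p, hP.injective ?_⟩
    show φ (t • p) = φ q
    rw [hact, hp, ← hW, ← Groth.Agent.H4Segre.diag_act' 𝒜 ℳ ℬ 𝒩 ha hb, hW, W.apply_symm_apply,
      Groth.Agent.H4Segre.diag_of_mem_iSup 𝒜 ℳ ℬ 𝒩 ((Groth.Agent.H4Segre.mem_range_iff_mod ℳ 𝒩 hP).1 ⟨q, rfl⟩)]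

end Groth.Agent.S19748
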