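import Groth.Statements.S1975
import Groth.Agent.H9Hens.PtValuation
import Groth.Agent.H9Hens.LocalHens
import Groth.Agent.H9Hens.StrictHens
-- import your own Groth.Agent.* helpers here

set_option autoImplicit false
universe u
open EtAlg

namespace Groth.Agent.S1975

/-- Let A be a valuation ring and S a henselization or strict henselization of A. Then S is a valuation
ring, A -> S is injective, and every nonzero element of S is a unit multiple of the image of an
element of A (the value groups agree). -/
theorem result (A S : Type u) [CommRing A] [IsDomain A] [ValuationRing A] [CommRing S]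
    [IsLocalRing S] [Algebra A S] [IsLocalHom (algebraMap A S)]
    (h : Hensel.IsHenselization A S ∨ Hensel.IsStrictHenselization A S) :
    IsDomain S ∧ (∀ _ : IsDomain S, ValuationRing S) ∧ Function.Injective (algebraMap A S) ∧
      ∀ s : S, s ≠ 0 → ∃ (a : A) (u : Sˣ), s = u * algebraMap A S a := by
  have key : ∀ (k : Type u) [Field k] [Algebra A k] (π : S →ₐ[A] k),
      RingHom.ker (algebraMap A k) = IsLocalRing.maximalIdeal A → H9Hens.IsPtColim π →
      IsDomain S ∧ (∀ _ : IsDomain S, ValuationRing S) ∧ Function.Injective (algebraMap A S) ∧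
        ∀ s : S, s ≠ 0 → ∃ (a : A) (u : Sˣ), s = u * algebraMap A S a := by
    intro k _ _ π hk hπ
    have := hπ.faithfullyFlat hk
    have hinj : Function.Injective (algebraMap A S) := FaithfulSMul.algebraMap_injective A S
    exact ⟨(hπ.valuationRing hinj).1, (hπ.valuationRing hinj).2, hinj,
      fun s _ => hπ.exists_eq_unit_mul_algebraMap s⟩
  rcases h with h | h
  · obtain ⟨π, hπ⟩ := H9Hens.exists_isPtColim_of_isHenselization (R := A) S
    exact key _ π H9Hens.ker_algebraMap_residueField hπ
  · obtain ⟨k, _, _, _, _, _, π, hπ⟩ := H9Hens.exists_isPtColim_of_isStrictHenselization (R := A) S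
    exact key k π (H9Hens.ker_algebraMap_of_tower (R := A) (k := k)) hπ

end Groth.Agent.S1975
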