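import Groth.Statements.S19752
import Groth.Agent.H4GD.Alg

set_option autoImplicit false
universe u
open GrDual

namespace Groth.Agent.S19752

/-- Let R = ⊕_{n ≥ 0} R_n be a Noetherian graded ring with R_0 = k a field, m = R_+ and k = R/m. Then
the graded k-dual R^* = ⊕_n Hom_k(R_{−n}, k) is the injective envelope of R/m in the category of
graded R-modules: for every injective homomorphism of graded R-modules e : R/m → R^*, the module R^*
is an injective object of the graded category and every nonzero graded submodule of R^* meets the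
image of e. Here a graded ring defined over k is a commutative k-algebra of finite type, graded in
nonnegative degrees by k-subspaces with degree-zero part k·1, and R_+ is the ideal spanned by the
R_n with n > 0 (a Noetherian such ring is the same as one of finite type over k); the graded k-dual
M^* = ⊕_n Hom_k(M_{−n}, k) of a graded R-module M (with r ∈ R acting by (r f)(x) = f(r x)) is
presented abstractly as a graded R-module D with a k-bilinear pairing β : D × M → k compatible with
the R-actions, under which D_n pairs to zero with M_m for m ≠ −n and is identified with the full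
dual space of M_{−n}. -/
theorem result (k : Type u) [Field k] (R : Type u) [CommRing R] [Algebra k R] (𝒜 : ℤ → Submodule k R) [GradedAlgebra 𝒜] (hposR : ∀ n : ℤ, n < 0 → 𝒜 n = ⊥) (h0R : 𝒜 0 = Submodule.span k {(1 : R)}) [Algebra.FiniteType k R] (mR : HomogeneousIdeal 𝒜) (hmR : mR.toIdeal = Ideal.span (⋃ n ∈ Set.Ioi (0 : ℤ), (𝒜 n : Set R))) (D : Type u) [AddCommGroup D] [Module R D] [Module k D] [IsScalarTower k R D] (𝒟 : ℤ → AddSubgroup D) [DirectSum.Decomposition 𝒟] [SetLike.GradedSMul 𝒜 𝒟] (β : D →ₗ[k] R →ₗ[k] k) (hD : GrSeg.IsGDual R 𝒜 𝒟 β) (e : (R ⧸ mR.toIdeal) →ₗ[R] D) (he : Function.Injective e) (hegr : GrLC.IsGrHom (GrLC.quotGr 𝒜 mR) 𝒟 e) : GrLC.IsStarInjHull 𝒜 (GrLC.quotGr 𝒜 mR) 𝒟 e := by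
  cases subsingleton_or_nontrivial R with
  | inl h =>
    haveI := Module.subsingleton R D
    refine ⟨⟨he, hegr, fun P _ hP0 => absurd (Subsingleton.elim P ⊥) hP0⟩,
      fun A B a _ _ g _ => ⟨0, fun i x _ => by rw [LinearMap.zero_apply]; exact zero_mem _, Subsingleton.elim _ _⟩⟩
  | inr h =>
    obtain ⟨⟨hi, hg, hess⟩, hinj⟩ := H4GD.isStarInjHull_gdual H4GD.addGr_hk (H4GD.addGr_hsurj h0R)
      (H4GD.addGr_hpos hposR) (H4KS.idealA 𝒜 mR) hmR (H4GD.gdual_addGr hD) he
      (fun i x hx => hegr i x hx)
    exact ⟨⟨he, hegr, hess⟩, (H4KS.starInj_iff 𝒜 𝒟).1 hinj⟩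

end Groth.Agent.S19752
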