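import Groth.Statements.S19753
import Groth.Agent.H4Segre.DimApps

set_option autoImplicit false
universe u
open scoped TensorProduct
open GrSegre

namespace Groth.Agent.S19753

/-- Let R and S be graded rings defined over a field k, both generated over k by their degree-one parts
and of positive Krull dimension, T = R # S, and let M and N be finitely generated graded modules
over R and S respectively, neither of them Artinian. Then dim (M # N) = dim M + dim N − 1,
dimensions being Krull dimensions of supports. Here a graded ring defined over k is a commutative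
k-algebra of finite type, graded in nonnegative degrees by k-subspaces with degree-zero part k·1;
the Segre product T = R # S = ⊕_n R_n ⊗_k S_n is presented abstractly as a graded k-algebra T with
an injective k-algebra homomorphism ψ : T → R ⊗_k S carrying T_n onto the k-span of the elementary
tensors a ⊗ b with a ∈ R_n, b ∈ S_n; the Segre product M # N = ⊕_n M_n ⊗_k N_n of a graded R-module
M and a graded S-module N is presented abstractly as a graded T-module P with an injective k-linear
map φ : P → M ⊗_k N carrying P_n onto the k-span of the tensors x ⊗ y with x ∈ M_n, y ∈ N_n and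
turning the action of t ∈ T into that of ψ(t) (acting factorwise on M ⊗_k N). -/
theorem result (k : Type u) [Field k] (R : Type u) [CommRing R] [Algebra k R] (𝒜 : ℤ → Submodule k R) [GradedAlgebra 𝒜] (hposR : ∀ n : ℤ, n < 0 → 𝒜 n = ⊥) (h0R : 𝒜 0 = Submodule.span k {(1 : R)}) [Algebra.FiniteType k R] (S : Type u) [CommRing S] [Algebra k S] (ℬ : ℤ → Submodule k S) [GradedAlgebra ℬ] (hposS : ∀ n : ℤ, n < 0 → ℬ n = ⊥) (h0S : ℬ 0 = Submodule.span k {(1 : S)}) [Algebra.FiniteType k S] (T : Type u) [CommRing T] [Algebra k T] (𝒯 : ℤ → Submodule k T) [GradedAlgebra 𝒯] (ψ : T →ₐ[k] TensorProduct k R S) (hT : GrSeg.IsSegreRing 𝒜 ℬ 𝒯 ψ) (hstdR : Ideal.span (⋃ n ∈ Set.Ioi (0 : ℤ), (𝒜 n : Set R)) = Ideal.span ((𝒜 1 : Submodule k R) : Set R)) (hstdS : Ideal.span (⋃ n ∈ Set.Ioi (0 : ℤ), (ℬ n : Set S)) = Ideal.span ((ℬ 1 : Submodule k S) : Set S)) (hr1 : 1 ≤ ringKrullDim R) (hs1 : 1 ≤ ringKrullDim S) (M : Type u) [AddCommGroup M] [Module R M] [Module k M] [IsScalarTower k R M] (ℳ : ℤ → AddSubgroup M) [DirectSum.Decomposition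 ℳ] [SetLike.GradedSMul 𝒜 ℳ] [Module.Finite R M] (N : Type u) [AddCommGroup N] [Module S N] [Module k N] [IsScalarTower k S N] (𝒩 : ℤ → AddSubgroup N) [DirectSum.Decomposition 𝒩] [SetLike.GradedSMul ℬ 𝒩] [Module.Finite S N] (P : Type u) [AddCommGroup P] [Module T P] [Module k P] [IsScalarTower k T P] (𝒬 : ℤ → AddSubgroup P) [DirectSum.Decomposition 𝒬] (φ : P →ₗ[k] TensorProduct k M N) (hP : GrSeg.IsSegreMod ψ ℳ 𝒩 𝒬 φ) (dM dN : ℕ) (hdM : Module.supportDim R M = dM) (hdN : Module.supportDim S N = dN) (hMA : ¬ IsArtinian R M) (hNA : ¬ IsArtinian S N) : Module.supportDim T P = ((dM + dN - 1 : ℕ) : WithBot ℕ∞) := by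
  have hpos : ∀ {A X : Type u} [CommRing A] [AddCommGroup X] [Module A X] [IsNoetherianRing A] [Module.Finite A X]
      (d : ℕ), Module.supportDim A X = d → ¬ IsArtinian A X → 1 ≤ d := by
    intro A X _ _ _ _ _ d hd hA
    by_contra hlt
    obtain rfl : d = 0 := by omega
    rw [Module.supportDim_eq_ringKrullDim_quotient_annihilator] at hd
    haveI : Ring.KrullDimLE 0 (A ⧸ Module.annihilator A X) := ⟨hd.le⟩
    haveI : IsArtinianRing (A ⧸ Module.annihilator A X) :=
      isArtinianRing_iff_isNoetherianRing_krullDimLE_zero.2 ⟨inferInstance, inferInstance⟩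
    haveI hX : Module.IsTorsionBySet A X (Module.annihilator A X : Set A) :=
      fun x a => Module.mem_annihilator.1 a.2 x
    letI := hX.module
    haveI : Module.Finite (A ⧸ Module.annihilator A X) X := Module.Finite.of_restrictScalars_finite A _ _
    exact hA ((LinearMap.isArtinian_iff_of_bijective (σ := Ideal.Quotient.mk (Module.annihilator A X))
      { toFun := id, map_add' := fun _ _ => rfl, map_smul' := fun _ _ => rfl } Function.bijective_id).2 inferInstance)
  haveI : IsNoetherianRing R := Algebra.FiniteType.isNoetherianRing k R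
  haveI : IsNoetherianRing S := Algebra.FiniteType.isNoetherianRing k S
  have h1 := hpos dM hdM hMA
  have h2 := hpos dN hdN hNA
  obtain ⟨g, hg⟩ := Groth.Agent.H4Segre.exists_maxDim_degree 𝒜 ℳ hposR h0R hstdR h1 hdM
  obtain ⟨g', hg'⟩ := Groth.Agent.H4Segre.exists_maxDim_degree ℬ 𝒩 hposS h0S hstdS h2 hdN
  obtain ⟨m, hm, hdm⟩ := hg (max g g') (le_max_left _ _)
  obtain ⟨n, hn, hdn⟩ := hg' (max g g') (le_max_right _ _)
  exact Groth.Agent.H4Segre.supportDim_segre 𝒜 ℳ ℬ 𝒩 hposR h0R hposS h0S hT.1 hT.2 hP dM dN hdM hdN h1 h2 hm hn hdm hdn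

end Groth.Agent.S19753
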