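import Groth.Statements.S19757
import Groth.Agent.H4KS.SegCanon

set_option autoImplicit false
universe u
open scoped TensorProduct
open GrSegre

namespace Groth.Agent.S19757

/-- Let R and S be graded rings defined over a field k of dimensions r ≥ 2 and s ≥ 2 and T = R # S their
Segre product (of dimension r + s − 1). Then K_T ≅ K_R # K_S: the Segre product of canonical modules
of R and S is a canonical module of T. Here a graded ring defined over k is a commutative k-algebra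
of finite type, graded in nonnegative degrees by k-subspaces with degree-zero part k·1; the Segre
product T = R # S = ⊕_n R_n ⊗_k S_n is presented abstractly as a graded k-algebra T with an
injective k-algebra homomorphism ψ : T → R ⊗_k S carrying T_n onto the k-span of the elementary
tensors a ⊗ b with a ∈ R_n, b ∈ S_n; the Segre product M # N = ⊕_n M_n ⊗_k N_n of a graded R-module
M and a graded S-module N is presented abstractly as a graded T-module P with an injective k-linear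
map φ : P → M ⊗_k N carrying P_n onto the k-span of the tensors x ⊗ y with x ∈ M_n, y ∈ N_n and
turning the action of t ∈ T into that of ψ(t) (acting factorwise on M ⊗_k N); the canonical module
of a graded ring A defined over k with irrelevant ideal A_+ and dim A = d (the graded k-dual of
H^d_{A_+}(A)) is represented by a finitely generated graded A-module C together with an A-linear
isomorphism from Hom_A(C, E) onto H^d_{A_+}(A) sending maps homogeneous of degree j to classes of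
degree j, where E is a *injective envelope of A/A_+ in the graded category and H^d_{A_+}(A) is
computed from a *injective resolution of A in the graded category. (A degree-by-degree dimension
count of the same result is stated separately; this is the module form.) -/
theorem result (k : Type u) [Field k] (R : Type u) [CommRing R] [Algebra k R] (𝒜 : ℤ → Submodule k R) [GradedAlgebra 𝒜] (hposR : ∀ n : ℤ, n < 0 → 𝒜 n = ⊥) (h0R : 𝒜 0 = Submodule.span k {(1 : R)}) [Algebra.FiniteType k R] (S : Type u) [CommRing S] [Algebra k S] (ℬ : ℤ → Submodule k S) [GradedAlgebra ℬ] (hposS : ∀ n : ℤ, n < 0 → ℬ n = ⊥) (h0S : ℬ 0 = Submodule.span k {(1 : S)}) [Algebra.FiniteType k S] (T : Type u) [CommRing T] [Algebra k T] (𝒯 : ℤ → Submodule k T) [GradedAlgebra 𝒯] (ψ : T →ₐ[k] TensorProduct k R S) (hT : GrSeg.IsSegreRing 𝒜 ℬ 𝒯 ψ) (mR : HomogeneousIdeal 𝒜) (hmR : mR.toIdeal = Ideal.span (⋃ n ∈ Set.Ioi (0 : ℤ), (𝒜 n : Set R))) (I : GrLC.StarInjRes 𝒜 𝒜) (mS : HomogeneousIdeal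 ℬ) (hmS : mS.toIdeal = Ideal.span (⋃ n ∈ Set.Ioi (0 : ℤ), (ℬ n : Set S))) (J : GrLC.StarInjRes ℬ ℬ) (mT : HomogeneousIdeal 𝒯) (hmT : mT.toIdeal = Ideal.span (⋃ n ∈ Set.Ioi (0 : ℤ), (𝒯 n : Set T))) (IT : GrLC.StarInjRes 𝒯 𝒯) (r s : ℕ) (hr : ringKrullDim R = r) (hs : ringKrullDim S = s) (h2r : 2 ≤ r) (h2s : 2 ≤ s) (ER : Type u) [AddCommGroup ER] [Module R ER] (𝓔R : ℤ → AddSubgroup ER) [DirectSum.Decomposition 𝓔R] [SetLike.GradedSMul 𝒜 𝓔R] (eR : (R ⧸ mR.toIdeal) →ₗ[R] ER) (heR : GrLC.IsStarInjHull 𝒜 (GrLC.quotGr 𝒜 mR) 𝓔R eR) (CR : Type u) [AddCommGroup CR] [Module R CR] [Module k CR] [IsScalarTower k R CR] (𝒞R : ℤ → AddSubgroup CR) [DirectSum.Decomposition 𝒞R] [SetLike.GradedSMul 𝒜 𝒞R] (hCR : GrLC.IsStarCanonical 𝒜 𝒞R 𝓔R mR r I) (ES : Type u) [AddCommGroup ES] [Module S ES] (𝓔S : ℤ → AddSubgroup ES) [DirectSum.Decomposition 𝓔S] [SetLike.GradedSMul ℬ 𝓔S] (eS : (S ⧸ mS.toIdeal) →ₗ[S] ES) (heS : GrLC.IsStarInjHull ℬ (GrLC.quotGr ℬ mS) 𝓔S eS) (CS : Type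 u) [AddCommGroup CS] [Module S CS] [Module k CS] [IsScalarTower k S CS] (𝒞S : ℤ → AddSubgroup CS) [DirectSum.Decomposition 𝒞S] [SetLike.GradedSMul ℬ 𝒞S] (hCS : GrLC.IsStarCanonical ℬ 𝒞S 𝓔S mS s J) (ET : Type u) [AddCommGroup ET] [Module T ET] (𝓔T : ℤ → AddSubgroup ET) [DirectSum.Decomposition 𝓔T] [SetLike.GradedSMul 𝒯 𝓔T] (eT : (T ⧸ mT.toIdeal) →ₗ[T] ET) (heT : GrLC.IsStarInjHull 𝒯 (GrLC.quotGr 𝒯 mT) 𝓔T eT) (P : Type u) [AddCommGroup P] [Module T P] [Module k P] [IsScalarTower k T P] (𝒬 : ℤ → AddSubgroup P) [DirectSum.Decomposition 𝒬] [SetLike.GradedSMul 𝒯 𝒬] (φ : P →ₗ[k] TensorProduct k CR CS) (hP : GrSeg.IsSegreMod ψ 𝒞R 𝒞S 𝒬 φ) : GrLC.IsStarCanonical 𝒯 𝒬 𝓔T mT (r + s - 1) IT := by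
  open Groth.Agent in
  obtain ⟨p, rfl⟩ : ∃ p, r = p + 2 := ⟨r - 2, by omega⟩
  obtain ⟨q, rfl⟩ : ∃ q, s = q + 2 := ⟨s - 2, by omega⟩
  haveI : Nontrivial R := by
    by_contra h
    rw [not_nontrivial_iff_subsingleton] at h
    rw [ringKrullDim_eq_bot_of_subsingleton] at hr
    exact WithBot.bot_ne_coe hr
  haveI : Nontrivial S := by
    by_contra h
    rw [not_nontrivial_iff_subsingleton] at h
    rw [ringKrullDim_eq_bot_of_subsingleton] at hs
    exact WithBot.bot_ne_coe hs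
  rw [show p + 2 + (q + 2) - 1 = p + q + 3 by omega]
  exact H4KS.isStarCanonical_segre hposR h0R hposS h0S hT mR hmR mS hmS mT hmT I J IT hr hs heR hCR heS hCS heT hP

end Groth.Agent.S19757
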