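import Groth.Statements.S19758
import Groth.Agent.H4KS.SegUnit

set_option autoImplicit false
universe u
open scoped TensorProduct
open GrSegre

namespace Groth.Agent.S19758

/-- Let R and S be graded rings defined over a field k with m = R_+, T = R # S with irrelevant ideal
T_+, M a graded R-module and N a graded S-module on which multiplication by some homogeneous element
of S of positive degree is bijective. Then H^q_{T_+}(M # N) ≅ H^q_m(M) # N as graded T-modules for
every q. Stated here as the existence of an injective k-linear map H^q_{T_+}(M # N) → H^q_m(M) ⊗_k N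
presenting the left side as the Segre product of H^q_m(M) and N (existence of such a presentation
only; the published isomorphism is the one induced by a resolution). Here a graded ring defined over
k is a commutative k-algebra of finite type, graded in nonnegative degrees by k-subspaces with
degree-zero part k·1; the Segre product T = R # S = ⊕_n R_n ⊗_k S_n is presented abstractly as a
graded k-algebra T with an injective k-algebra homomorphism ψ : T → R ⊗_k S carrying T_n onto the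
k-span of the elementary tensors a ⊗ b with a ∈ R_n, b ∈ S_n; the Segre product M # N = ⊕_n M_n ⊗_k
N_n of a graded R-module M and a graded S-module N is presented abstractly as a graded T-module P
with an injective k-linear map φ : P → M ⊗_k N carrying P_n onto the k-span of the tensors x ⊗ y
with x ∈ M_n, y ∈ N_n and turning the action of t ∈ T into that of ψ(t) (acting factorwise on M ⊗_k
N); graded local cohomology and its homogeneous pieces are computed from *injective resolutions in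
the graded categories of R and T, and carry the k-vector space structures given. -/
theorem result (k : Type u) [Field k] (R : Type u) [CommRing R] [Algebra k R] (𝒜 : ℤ → Submodule k R) [GradedAlgebra 𝒜] (hposR : ∀ n : ℤ, n < 0 → 𝒜 n = ⊥) (h0R : 𝒜 0 = Submodule.span k {(1 : R)}) [Algebra.FiniteType k R] (S : Type u) [CommRing S] [Algebra k S] (ℬ : ℤ → Submodule k S) [GradedAlgebra ℬ] (hposS : ∀ n : ℤ, n < 0 → ℬ n = ⊥) (h0S : ℬ 0 = Submodule.span k {(1 : S)}) [Algebra.FiniteType k S] (T : Type u) [CommRing T] [Algebra k T] (𝒯 : ℤ → Submodule k T) [GradedAlgebra 𝒯] (ψ : T →ₐ[k] TensorProduct k R S) (hT : GrSeg.IsSegreRing 𝒜 ℬ 𝒯 ψ) (mR : HomogeneousIdeal 𝒜) (hmR : mR.toIdeal = Ideal.span (⋃ n ∈ Set.Ioi (0 : ℤ), (𝒜 n : Set R))) (mT : HomogeneousIdeal 𝒯) (hmT : mT.toIdeal = Ideal.span (⋃ n ∈ Set.Ioi (0 : ℤ), (𝒯 n : Set T))) (M : Type u) [AddCommGroup M] [Module R M] [Module k M] [IsScalarTower k R M] (ℳ : ℤ → AddSubgroup M) [DirectSum.Decomposition ℳ] [SetLike.GradedSMul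 𝒜 ℳ] (EM : GrLC.StarInjRes 𝒜 ℳ) (N : Type u) [AddCommGroup N] [Module S N] [Module k N] [IsScalarTower k S N] (𝒩 : ℤ → AddSubgroup N) [DirectSum.Decomposition 𝒩] [SetLike.GradedSMul ℬ 𝒩] (e : ℕ) (he : 0 < e) (g : S) (hg : g ∈ ℬ (e : ℤ)) (hgN : Function.Bijective (fun y : N => g • y)) (P : Type u) [AddCommGroup P] [Module T P] [Module k P] [IsScalarTower k T P] (𝒬 : ℤ → AddSubgroup P) [DirectSum.Decomposition 𝒬] [SetLike.GradedSMul 𝒯 𝒬] (φ : P →ₗ[k] TensorProduct k M N) (hP : GrSeg.IsSegreMod ψ ℳ 𝒩 𝒬 φ) (EP : GrLC.StarInjRes 𝒯 𝒬) (q : ℕ) [Module k (EM.H mR q)] [IsScalarTower k R (EM.H mR q)] [Module k (EP.H mT q)] [IsScalarTower k T (EP.H mT q)] [DirectSum.Decomposition (EP.Hgr mT q)] : ∃ φ' : EP.H mT q →ₗ[k] TensorProduct k (EM.H mR q) N, GrSeg.IsSegreMod ψ (EM.Hgr mR q) 𝒩 (EP.Hgr mT q) φ' := by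
  classical
  haveI : Groth.Agent.H4KS.SegreHom ψ 𝒜 ℬ 𝒯 := ⟨hT⟩
  haveI : IsNoetherianRing R := Algebra.FiniteType.isNoetherianRing k R
  haveI := Groth.Agent.H4KS.isNoetherianRing_T hT
  obtain ⟨r, D, hD, f, hf, hrad⟩ : ∃ (r D : ℕ), 0 < D ∧ ∃ f : Fin r → R,
      (∀ l, f l ∈ 𝒜 ((D * e : ℕ) : ℤ)) ∧ mR.toIdeal ≤ (Ideal.span (Set.range f)).radical := by
    rcases subsingleton_or_nontrivial R with hR | hR
    · exact ⟨0, 1, one_pos, Fin.elim0, fun l => l.elim0,
        fun x _ => by rw [Subsingleton.elim x 0]; exact zero_mem _⟩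
    · obtain ⟨r, D, hD, h⟩ := Groth.Agent.H4KS.exists_degree_params hposR h0R
      obtain ⟨f, hf, hrad⟩ := h e he
      exact ⟨r, D, hD, f, hf, (le_of_eq hmR).trans hrad⟩
  obtain ⟨j, hj, hjb⟩ := Groth.Agent.H4KS.exists_segre_iso (ψ := ψ) (𝒯 := 𝒯) (𝒜 := 𝒜) (ℬ := ℬ) hP
  let Y := GrLC.GMod.of (Groth.Agent.H4KS.addGr ℬ) N 𝒩
  have hbY : ∀ n : ℕ, Function.Bijective fun y : Y.carrier => g ^ n • y := fun n => by
    induction n with
    | zero => simp only [pow_zero, one_smul]; exact Function.bijective_id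
    | succ n ih =>
      rw [show (fun y : Y.carrier => g ^ (n + 1) • y) = (fun y => g ^ n • y) ∘ fun y => g • y from
        funext fun y => by rw [pow_succ, mul_smul]; rfl]
      exact ih.comp (show Function.Bijective fun y : Y.carrier => g • y from hgN)
  obtain ⟨L, hLi, hLs, hLp⟩ := Groth.Agent.H4KS.exists_H_seg_unit ψ (Groth.Agent.H4KS.idealA 𝒜 mR)
    (Groth.Agent.H4KS.resA 𝒜 ℳ EM) (fun n hn x hx => hmR ▸ Ideal.subset_span (Set.mem_iUnion₂.2 ⟨n, hn, hx⟩))
    (Groth.Agent.H4KS.idealA 𝒯 mT) hmT (Groth.Agent.H4KS.resA 𝒯 𝒬 EP) f (D := ((D * e : ℕ) : ℤ))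
    (by exact_mod_cast Nat.mul_pos hD he) hf hrad (b := g ^ D)
    (by rw [show ((D * e : ℕ) : ℤ) = D • (e : ℤ) by rw [nsmul_eq_mul]; push_cast; ring]
        exact SetLike.pow_mem_graded D hg) Y (hbY D) j hj hjb q
  let cH : (Groth.Agent.H4KS.resA 𝒜 ℳ EM).H (Groth.Agent.H4KS.idealA 𝒜 mR) q ≃ₗ[k] EM.H mR q :=
    { toFun := fun z => z, invFun := fun z => z, map_add' := fun _ _ => rfl,
      map_smul' := fun c z => by
        obtain ⟨z, rfl⟩ := Submodule.mkQ_surjective _ z
        exact IsScalarTower.algebraMap_smul R c (show EM.H mR q from Submodule.Quotient.mk z) }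
  let cY : Y.carrier ≃ₗ[k] N :=
    { toFun := fun z => z, invFun := fun z => z, map_add' := fun _ _ => rfl,
      map_smul' := fun c z => IsScalarTower.algebraMap_smul S c (show N from z) }
  let θ := TensorProduct.congr cH cY
  have hact : ∀ u z, θ (GrSeg.act k R S _ _ u z) = GrSeg.act k R S (EM.H mR q) N u (θ z) :=
    Groth.Agent.H4KS.map_act cH.toLinearMap cY.toLinearMap (fun _ _ => rfl) (fun _ _ => rfl)
  have hpiece : ∀ n, (GrSeg.segrePiece k ((Groth.Agent.H4KS.resA 𝒜 ℳ EM).Hgr (Groth.Agent.H4KS.idealA 𝒜 mR) q)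
      Y.gr n).map θ.toLinearMap = GrSeg.segrePiece k (EM.Hgr mR q) 𝒩 n := fun n => by
    rw [GrSeg.segrePiece, GrSeg.segrePiece, Submodule.map_span]
    congr 1
    ext w
    constructor
    · rintro ⟨_, ⟨x, hx, y, hy, rfl⟩, rfl⟩
      exact ⟨cH x, hx, cY y, hy, TensorProduct.congr_tmul _ _ _ _⟩
    · rintro ⟨x, hx, y, hy, rfl⟩
      exact ⟨cH.symm x ⊗ₜ[k] cY.symm y, ⟨cH.symm x, hx, cY.symm y, hy, rfl⟩, by
        rw [LinearEquiv.coe_coe, TensorProduct.congr_tmul, LinearEquiv.apply_symm_apply, LinearEquiv.apply_symm_apply]⟩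
  refine ⟨{ toFun := fun h => θ (L h)
            map_add' := fun a b => by
              show θ (L (a + b)) = _
              exact (congrArg θ (map_add L a b)).trans (map_add θ _ _)
            map_smul' := fun c h => ?_ }, θ.injective.comp hLi, fun n => ?_, fun t h => ?_⟩
  · rw [← IsScalarTower.algebraMap_smul T c h]
    exact ((congrArg θ (hLs _ h)).trans (hact _ _)).trans (Groth.Agent.H4KS.act_one_smul ψ c _)
  · rw [← hpiece n]
    ext w
    constructor
    · rintro ⟨h, hh, rfl⟩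
      exact ⟨L h, (hLp n).subset ⟨h, hh, rfl⟩, rfl⟩
    · rintro ⟨v, hv, rfl⟩
      obtain ⟨h, hh, rfl⟩ := (hLp n).superset hv
      exact ⟨h, hh, rfl⟩
  · exact (congrArg θ (hLs t h)).trans (hact _ _)

end Groth.Agent.S19758
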