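import Groth.Statements.S1976
import Groth.Agent.H9WE.Field
import Mathlib.CategoryTheory.Limits.Constructions.Over.Connected
import Mathlib.Algebra.Category.Ring.FilteredColimits
import Mathlib.CategoryTheory.Limits.ConcreteCategory.Basic
import Mathlib.CategoryTheory.Filtered.Basic
-- import your own Groth.Agent.* helpers here

set_option autoImplicit false
universe u
open CategoryTheory
open EtAlg

namespace Groth.Agent.S1976

open CategoryTheory Limits

/-- (2) ⇔ (3): a K-algebra B over a field K is weakly etale exactly when it can be written as a filtered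
colimit of etale K-algebras, and in that case its finitely generated K-subalgebras are etale. -/
theorem result (K : Type u) [Field K] (B : Type u) [CommRing B] [Algebra K B] :
    (Algebra.WeaklyEtale K B ↔ EtPBC.IsIndEtale K B) ∧
    (Algebra.WeaklyEtale K B → ∀ S : Subalgebra K B, S.FG → Algebra.Etale K S) := by
  classical
  refine ⟨⟨fun h => ?_, fun h => ?_⟩, fun h S hS => ?_⟩
  · have hSep : ∀ b : B, H9WE.IsSep K b := H9WE.isSep_of_weaklyEtale K
    let R : Finset B → Subalgebra K B := fun s => Algebra.adjoin K (s : Set B)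
    have hmono : ∀ {s t : Finset B}, s ≤ t → R s ≤ R t := fun h => Algebra.adjoin_mono (Finset.coe_subset.mpr h)
    let D : Finset B ⥤ Under (CommRingCat.of K) :=
      { obj := fun s => Under.mk (CommRingCat.ofHom (algebraMap K (R s)))
        map := fun f => Under.homMk (CommRingCat.ofHom (Subalgebra.inclusion (hmono (leOfHom f))).toRingHom)
          (CommRingCat.hom_ext (RingHom.ext fun a => rfl))
        map_id := fun s => Under.UnderMorphism.ext (CommRingCat.hom_ext (RingHom.ext fun x => rfl))
        map_comp := fun f g => Under.UnderMorphism.ext (CommRingCat.hom_ext (RingHom.ext fun x => rfl)) }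
    let c : Cocone D :=
      { pt := Under.mk (CommRingCat.ofHom (algebraMap K B))
        ι := { app := fun s => Under.homMk (CommRingCat.ofHom (R s).val.toRingHom)
                (CommRingCat.hom_ext (RingHom.ext fun a => rfl))
               naturality := fun s t f => Under.UnderMorphism.ext (CommRingCat.hom_ext (RingHom.ext fun x => rfl)) } }
    have hdesc : ∀ σ : Cocone D, ∃ g : B →+* σ.pt.right, ∀ (s : Finset B) (x : R s),
        g x = (σ.ι.app s).right.hom x := by
      intro σ
      have hnat : ∀ {s t : Finset B} (h : s ≤ t) (x : R s),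
          (σ.ι.app t).right.hom (⟨x, hmono h x.2⟩ : R t) = (σ.ι.app s).right.hom x := fun {s t} h x =>
        ConcreteCategory.congr_hom (congrArg CommaMorphism.right (σ.w (homOfLE h))) x
      let g0 : B → σ.pt.right := fun x =>
        (σ.ι.app {x}).right.hom (⟨x, Algebra.subset_adjoin (by simp)⟩ : R {x})
      have key : ∀ (s : Finset B) (x : B) (hx : x ∈ R s), g0 x = (σ.ι.app s).right.hom (⟨x, hx⟩ : R s) :=
        fun s x hx => (hnat (t := s ∪ {x}) Finset.subset_union_right ⟨x, _⟩).symm.trans
          (hnat (t := s ∪ {x}) Finset.subset_union_left ⟨x, hx⟩)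
      have hm : ∀ x : B, ∀ s : Finset B, x ∈ s → x ∈ R s := fun x s h => Algebra.subset_adjoin (Finset.mem_coe.mpr h)
      refine ⟨{ toFun := g0, map_one' := ?_, map_mul' := fun x y => ?_, map_zero' := ?_, map_add' := fun x y => ?_ },
        fun s x => key s x x.2⟩
      · rw [key ∅ 1 (one_mem _)]; exact map_one (σ.ι.app ∅).right.hom
      · rw [key {x, y} x (hm _ _ (by simp)), key {x, y} y (hm _ _ (by simp)),
          key {x, y} (x * y) (mul_mem (hm _ _ (by simp)) (hm _ _ (by simp))), ← map_mul]
        rfl
      · rw [key ∅ 0 (zero_mem _)]; exact map_zero (σ.ι.app ∅).right.hom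
      · rw [key {x, y} x (hm _ _ (by simp)), key {x, y} y (hm _ _ (by simp)),
          key {x, y} (x + y) (add_mem (hm _ _ (by simp)) (hm _ _ (by simp))), ← map_add]
        rfl
    choose g hg using hdesc
    refine ⟨Finset B, inferInstance, inferInstance, D, c,
      { desc := fun σ => Under.homMk (CommRingCat.ofHom (g σ)) (CommRingCat.hom_ext (RingHom.ext fun a => ?_))
        fac := fun σ s => Under.UnderMorphism.ext (CommRingCat.hom_ext (RingHom.ext fun x => hg σ s x))
        uniq := fun σ m hm => Under.UnderMorphism.ext (CommRingCat.hom_ext (RingHom.ext fun (x : B) => ?_)) },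
      fun s => ?_, ⟨Iso.refl _⟩⟩
    · exact (hg σ ∅ (algebraMap K (R ∅) a)).trans
        (ConcreteCategory.congr_hom (Under.w (σ.ι.app ∅)) a)
    · exact (ConcreteCategory.congr_hom (congrArg CommaMorphism.right (hm {x}))
        (⟨x, Algebra.subset_adjoin (by simp)⟩ : R {x})).trans
        (hg σ {x} ⟨x, _⟩).symm
    · exact (Algebra.algebra_ext _ _ fun _ => rfl : (algebraMap K (R s)).toAlgebra =
        (inferInstance : Algebra K (R s))) ▸ H9WE.etale_adjoin_of_isSep s.finite_toSet fun b _ => hSep b
  · obtain ⟨J, _, _, D, c, hc, hD, ⟨e⟩⟩ := h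
    haveI : IsConnected J := IsFiltered.isConnected J
    refine H9WE.weaklyEtale_iff_forall_isSep.mpr fun b => ?_
    obtain ⟨j, x, hx⟩ : ∃ (j : J) (x : (D.obj j).right), (c.ι.app j).right.hom x = e.inv.right.hom b :=
      Concrete.isColimit_exists_rep (D ⋙ Under.forget _)
      (isColimitOfPreserves (Under.forget _) hc) (e.inv.right.hom b)
    letI : Algebra K (D.obj j).right := (D.obj j).hom.hom.toAlgebra
    haveI := hD j
    let φ : (D.obj j).right →ₐ[K] B :=
      { toRingHom := e.hom.right.hom.comp (c.ι.app j).right.hom
        commutes' := fun a => ConcreteCategory.congr_hom (Under.w (c.ι.app j ≫ e.hom)) a }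
    have hφ : φ x = b := by
      show e.hom.right.hom ((c.ι.app j).right.hom x) = b
      refine (congrArg e.hom.right.hom hx).trans ?_
      exact ConcreteCategory.congr_hom (congrArg CommaMorphism.right e.inv_hom_id) b
    rw [← hφ]
    exact (H9WE.isSep_of_weaklyEtale K x).map φ
  · obtain ⟨s, rfl⟩ := hS
    exact H9WE.etale_adjoin_of_isSep s.finite_toSet fun b _ => H9WE.isSep_of_weaklyEtale K b

end Groth.Agent.S1976
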