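import Groth.Statements.S19770
import Groth.Agent.H25Theta.Basic

set_option autoImplicit false
universe u
open CategoryTheory MonoidalCategory CartesianMonoidalCategory MonObj GrpObj AlgebraicGeometry
open AbVar

namespace Groth.Agent.S19770

/-- Let X be an abelian variety over a field k (a proper, geometrically integral k-group scheme), L an
invertible O_X-module, i : K → X a closed immersion exhibiting K as K(L) (the maximal closed
subscheme over which the Mumford bundle m^*L ⊗ p_1^*L⁻¹ ⊗ p_2^*L⁻¹, restricted to X ×_k K, is the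
inverse image of an invertible module on K, with its universal property), and B a k-group scheme
with a homomorphism j : B → X that factors through i. Write M = j^*L. Then M ⊗ [-1]^*M ≅ O_B, where
[-1] : B → B is the inversion (existence of an isomorphism). (The published statement assumes k
algebraically closed and takes for B the reduced identity component of K(L), an abelian subvariety;
the argument — restrict the Mumford bundle to B × B and pull back along (1, -1) — applies to any
group scheme over k mapping homomorphically into K(L).) -/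
theorem result (k : Type u) [Field k] (X : Over (Spec (CommRingCat.of k)))
    [GrpObj X] [IsProper X.hom] [GeometricallyIntegral X.hom] (L : X.left.Modules) (hL : PicF.IsInvertible L)
    (K : Over (Spec (CommRingCat.of k))) (i : K ⟶ X) (hK : ThetaGrp.IsKL X L i)
    (B : Over (Spec (CommRingCat.of k))) [GrpObj B] (j : B ⟶ X) [IsMonHom j] (hj : ∃ y : B ⟶ K, y ≫ i = j) :
    Nonempty (CohB1.tensorMod ((Scheme.Modules.pullback j.left).obj L)
        ((Scheme.Modules.pullback ((𝟙 B)⁻¹ ≫ j).left).obj L) ≅ Coh.structureModule B.left) := by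
  obtain ⟨y, hy⟩ := hj
  obtain ⟨M, hM, h⟩ := (hK.univ K i).2 ⟨𝟙 K, Category.id_comp i⟩
  obtain ⟨e⟩ := Groth.Agent.H25Theta.eq_pullback_of_translEq X L hL i _ ((Groth.Agent.H25Theta.lambda_iff X L i M).1 h)
  obtain ⟨c⟩ := Groth.Agent.H25Theta.cancel_right (Groth.Agent.H11Ample.isInvertible_pullback i.left hL)
    (⟨e ≪≫ (Groth.Agent.H10Coh.Tw.leftUnitIso _).symm⟩ : Nonempty (CohB1.tensorMod M _ ≅
      CohB1.tensorMod (Coh.structureModule K.left) _))
  obtain ⟨φ⟩ := h
  let g : B ⟶ X ⊗ K := lift j ((𝟙 B)⁻¹ ≫ y)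
  have e1 : g.left ≫ (fst X K).left = j.left := by
    rw [← Over.comp_left]; exact congrArg CommaMorphism.left (lift_fst _ _)
  have e2 : g.left ≫ (snd X K ≫ i).left = ((𝟙 B)⁻¹ ≫ j).left := by
    rw [← Over.comp_left]
    refine congrArg CommaMorphism.left ?_
    rw [lift_snd_assoc, Category.assoc, hy]
  have e3 : g.left ≫ ((X ◁ i) ≫ μ[X]).left = (toUnit B).left ≫ η[X].left := by
    rw [← Over.comp_left, ← Over.comp_left]
    refine congrArg CommaMorphism.left ?_
    rw [lift_whiskerLeft_assoc, Category.assoc, hy, GrpObj.inv_comp, Category.id_comp]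
    show j * j⁻¹ = 1
    exact _root_.mul_inv_cancel j
  haveI : Subsingleton (𝟙_ (Over (Spec (CommRingCat.of k)))).left := inferInstanceAs (Subsingleton (PrimeSpectrum k))
  haveI : Nonempty (𝟙_ (Over (Spec (CommRingCat.of k)))).left := inferInstanceAs (Nonempty (PrimeSpectrum k))
  obtain ⟨u⟩ := Groth.Agent.H25Theta.nonempty_iso_of_subsingleton
    (Groth.Agent.H11Ample.isInvertible_pullback η[X].left hL)
  exact ⟨Groth.Agent.H25Theta.tI
      ((Groth.Agent.H10Coh.Tw.leftUnitIso _).symm ≪≫
        Groth.Agent.H25Theta.tI (Groth.Agent.H25Theta.pO g.left).symm (Groth.Agent.H25Theta.pC _ _ e1 L).symm ≪≫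
        (Groth.Agent.H25Theta.pT g.left _ _).symm)
      (Groth.Agent.H25Theta.pC _ _ e2 L).symm ≪≫
    (Groth.Agent.H25Theta.pT g.left _ _).symm ≪≫
    (Scheme.Modules.pullback g.left).mapIso (Groth.Agent.H25Theta.tI (Groth.Agent.H25Theta.tI
      ((Scheme.Modules.pullback _).mapIso c ≪≫ Groth.Agent.H25Theta.pO _).symm (CategoryTheory.Iso.refl _))
      (CategoryTheory.Iso.refl _) ≪≫ φ) ≪≫
    Groth.Agent.H25Theta.pC _ _ e3 L ≪≫ (Groth.Agent.H25Theta.pC (toUnit B).left η[X].left rfl L).symm ≪≫
    (Scheme.Modules.pullback _).mapIso u ≪≫ Groth.Agent.H25Theta.pO _⟩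

end Groth.Agent.S19770
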