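import Groth.Statements.S19772
import Groth.Agent.H25Index.DimFixing
import Groth.Agent.H25Index.BaseChange
import Groth.Agent.H25Hat.BaseK
import Groth.Agent.H8Props.FieldDimScheme
attribute [local instance] CategoryTheory.Functor.grpObjObj Groth.Agent.H25AbCube.overOf

set_option autoImplicit false
set_option linter.style.haveILetI false
set_option backward.isDefEq.respectTransparency false
set_option synthInstance.maxHeartbeats 200000
universe u
open CategoryTheory MonoidalCategory CartesianMonoidalCategory MonObj GrpObj AlgebraicGeometry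
open AbVar

namespace Groth.Agent.S19772

/-- Let X be an abelian variety over a field k (a proper, geometrically integral k-group scheme), L an
invertible O_X-module, H an ample invertible O_X-module, and Φ the Hilbert polynomial of L with
respect to H: the rational polynomial with Φ(n) = χ(X, L ⊗ H^{⊗ n}) for every natural number n. Let
i : K → X be a closed immersion exhibiting K as K(L) (the maximal closed subscheme over which the
Mumford bundle m^*L ⊗ p_1^*L⁻¹ ⊗ p_2^*L⁻¹, restricted to X ×_k K, is the inverse image of an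
invertible module on K, with its universal property). Then the dimension of K (the Krull dimension
of its underlying space) equals the root multiplicity of Φ at 0. -/
theorem result (k : Type u) [Field k] (X : Over (Spec (CommRingCat.of k)))
    [GrpObj X] [IsProper X.hom] [GeometricallyIntegral X.hom] (L : X.left.Modules) (hL : PicF.IsInvertible L)
    (K : Over (Spec (CommRingCat.of k))) (i : K ⟶ X) (hK : ThetaGrp.IsKL X L i)
    (H : X.left.Modules) (hH : CohB1.IsAmple H) (Φ : Polynomial ℚ)
    (hΦ : ∀ n : ℕ, Φ.eval (n : ℚ) =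
      (@Curv2.euler k _ X.left ⟨X.hom⟩ (CohB1.tensorMod L (CohB1.tensorPow H n)) : ℚ)) :
    topologicalKrullDim ↥K.left = ((Φ.rootMultiplicity 0 : ℕ) : WithBot ℕ∞) := by
  haveI : IsCommMonObj X := Groth.Agent.H25AbCube.isCommMonObj_of_av
  haveI : IsClosedImmersion i.left := hK.closed
  haveI : IsProper K.hom := by rw [← Over.w i]; infer_instance
  haveI : IsAffineHom (Groth.Agent.H25Index.gp X) := MorphismProperty.pullback_fst _ _
    (inferInstanceAs (IsAffineHom (Groth.Agent.H25AbCube.GeomTate.σ k (Groth.Agent.H25Index.Kbar k))))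
  haveI : IsIntegral X.left := GeometricallyIntegral.isIntegral_of_subsingleton X.hom
  have hKu := fun T a => Groth.Agent.H25Hat.kl_iff L hL hK T a
  let Ω := Groth.Agent.H25Index.Kbar k
  let X' := Groth.Agent.H25Index.gX X
  let K' := Groth.Agent.H25Index.gX K
  let i' : K' ⟶ X' := (Groth.Agent.H25AbCube.GeomTate.bc k Ω).map i
  have hK' := fun T a => Groth.Agent.H25Hat.kl_bc Ω (Groth.Agent.H25AbCube.pc L hL) i hKu T a
  haveI : IsClosedImmersion i'.left :=
    MorphismProperty.of_isPullback (P := @IsClosedImmersion) (Groth.Agent.H25Hat.isPullback_bc Ω i) ‹_›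
  haveI : Mono i' := Over.mono_of_mono_left i'
  haveI : IsCommMonObj X' := Groth.Agent.H25AbCube.isCommMonObj_of_av
  obtain ⟨K₁, gK₁, j, hj, hjc, hK₁⟩ := Groth.Agent.H25Hat.exists_fixing (A := X')
    (Groth.Agent.H25AbCube.pullP (Limits.pullback.fst X.hom (Groth.Agent.H25AbCube.GeomTate.σ k Ω)) (Groth.Agent.H25AbCube.pc L hL))
  haveI := hj; haveI := hjc
  haveI : Mono j := Over.mono_of_mono_left j
  obtain ⟨v, hv⟩ := (hK₁ K' i').2 ((hK' K' i').1 ⟨𝟙 _, Category.id_comp _⟩)
  obtain ⟨w, hw⟩ := (hK' K₁ j).2 ((hK₁ K₁ j).1 ⟨𝟙 _, Category.id_comp _⟩)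
  let e : K' ≅ K₁ := ⟨v, w, (cancel_mono i').1 (by rw [Category.assoc, hw, hv, Category.id_comp]),
    (cancel_mono j).1 (by rw [Category.assoc, hv, hw, Category.id_comp])⟩
  have hH' : CohB1.IsAmple (Groth.Agent.H25Index.gM H) :=
    Groth.Agent.H11Ample.isAmple_pullback_of_isAffineHom (Groth.Agent.H25Index.gp X) hH
  obtain ⟨g, hg⟩ := Groth.Agent.H25Grp.exists_nat_dim X.hom
  have hgK : topologicalKrullDim X'.left = g := Groth.Agent.H25AbCube.GeomTate.dim_bc (Ω := Ω) X hg
  obtain ⟨Q, -, hQ⟩ := Groth.Agent.H25AbCube.exists_line_poly (k := Ω) hgK _ hH'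
    (Groth.Agent.H25AbCube.pullP (Limits.pullback.fst X.hom (Groth.Agent.H25AbCube.GeomTate.σ k Ω)) (Groth.Agent.H25AbCube.pc L hL))
  have hΦQ : Φ = Q := by
    refine Polynomial.eq_of_infinite_eval_eq _ _ ((Set.infinite_range_of_injective
      (f := fun n : ℕ => (n : ℚ)) Nat.cast_injective).mono ?_)
    rintro _ ⟨n, rfl⟩
    show Φ.eval (n : ℚ) = Q.eval (n : ℚ)
    have hP := Groth.Agent.H11Ample.isInvertible_tensorPow hH.1 n
    have hT := Groth.Agent.H11Ample.isInvertible_tensor hL hP
    have hT' := Groth.Agent.H11Ample.isInvertible_pullback (Groth.Agent.H25Index.gp X) hT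
    rw [hΦ n, ← Groth.Agent.H25Index.euler_gM _ (Groth.Agent.H11Ample.isCoh_of_isInvertible hT),
      ← Groth.Agent.H25AbCube.chiCls_pc (k := Ω) _ hT', Groth.Agent.H25AbCube.pullP_pc _ _ hT,
      Groth.Agent.H25AbCube.pc_tensor hL hP, Groth.Agent.H25Pic0.pc_tensorPow H hH.1 n, map_add, map_nsmul,
      ← Groth.Agent.H25AbCube.pullP_pc _ H hH.1 hH'.1, ← Int.cast_natCast n, ← hQ, natCast_zsmul]
    rfl
  have h := Groth.Agent.H25Index.dim_fixing _ j hK₁ hH' (Φ := Φ) (hΦQ ▸ hQ)
  rw [← h]
  refine Eq.trans ?_ (Scheme.homeoOfIso ((Over.forget _).mapIso e)).isHomeomorph.topologicalKrullDim_eq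
  haveI : LocallyOfFiniteType K.hom := inferInstance
  exact (Groth.Agent.H8Props.FieldDim.dim_baseChange (k := k) (K := Ω) _ _ _
    (IsPullback.of_hasPullback K.hom (Groth.Agent.H25AbCube.GeomTate.σ k Ω))).symm

end Groth.Agent.S19772
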