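import Groth.Statements.S19774
import Groth.Agent.H25FM.AV
import Groth.Agent.H25FM.Kernel
import Groth.Agent.H25Hat.Universal
import Groth.Agent.H25Hat.BaseK
import Groth.Agent.H25Pic0.Util
open Groth.Agent Groth.Agent.H25AbCube Groth.Agent.H25Dual Groth.Agent.H25FM
open Groth.Agent.H16Derived Groth.Agent.H16Derived.KFlat Groth.Agent.H16Derived.KFlat.Stalk

set_option autoImplicit false
set_option linter.style.haveILetI false
set_option backward.isDefEq.respectTransparency false
set_option synthInstance.maxHeartbeats 200000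
universe u
open CategoryTheory CategoryTheory.Limits MonoidalCategory CartesianMonoidalCategory MonObj GrpObj AlgebraicGeometry
attribute [local instance] HasDerivedCategory.standard
open AbVar

namespace Groth.Agent.S19774

/-- Let k be an algebraically closed field, A an abelian variety over k (a proper smooth k-group scheme
with geometrically connected fibres) of dimension g, with group law m : A × A → A, projections p_1,
p_2 and inversion [-1]; let L be an invertible O_A-module with an inverse L' (L ⊗ L' ≅ O_A), and i :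
K → A a closed immersion exhibiting K as K(L) (the maximal closed subscheme over which the Mumford
bundle m^*L ⊗ p_1^*L⁻¹ ⊗ p_2^*L⁻¹, restricted to A ×_k K, is the inverse image of an invertible
module on K, with its universal property). Assume L non-degenerate: K is finite over k. Then the
convolution L ∗ [-1]^*L⁻¹ = Rm_*(p_1^*L ⊗ p_2^*[-1]^*L') is isomorphic, in D(O_A), to
Ri_*(L|_K)[-g], the direct image of the restriction of L to K placed in degree g (existence of an
isomorphism; the derived direct images along m and i are assumed to exist). (The published lemma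
allows any line bundle L; for L the structure sheaf and g ≥ 1 the left side is O_A ⊗ RΓ(A, O_A),
with non-zero cohomology in degree 0, while the right side is O_A[-g], so the two are not
isomorphic; the printed argument identifies an inverse image of the skyscraper at the origin of the
dual with the structure sheaf of the kernel of φ_L, which is correct when φ_L is flat, that is for L
non-degenerate — the case stated here and the one used afterwards.) -/
theorem result (k : Type u) [Field k] [IsAlgClosed k]
    (A : Over (Spec (CommRingCat.of k))) [GrpObj A] [IsProper A.hom] [Smooth A.hom] [GeometricallyConnected A.hom]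
    (g : ℕ) (hg : topologicalKrullDim ↥A.left = g)
    (L : A.left.Modules) (hL : PicF.IsInvertible L) (L' : A.left.Modules)
    (hL' : Nonempty (CohB1.tensorMod L L' ≅ Coh.structureModule A.left))
    (K : Over (Spec (CommRingCat.of k))) (i : K ⟶ A) (hK : ThetaGrp.IsKL A L i) [IsFinite K.hom]
    [DCoh.HasRpush μ[A].left] [DCoh.HasRpush i.left] :
    Nonempty ((DCoh.Rpush μ[A].left).obj
        (DCoh.inD (A ⊗ A).left (CohB1.tensorMod ((Scheme.Modules.pullback (fst A A).left).obj L)
          ((Scheme.Modules.pullback (snd A A ≫ (𝟙 A)⁻¹).left).obj L'))) ≅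
      (shiftFunctor (DCoh.D A.left) (-(g : ℤ))).obj
        ((DCoh.Rpush i.left).obj (DCoh.inD K.left ((Scheme.Modules.pullback i.left).obj L)))) := by
  haveI : GeometricallyIntegral A.hom := geometricallyIntegral_of_smooth A
  haveI : IsCommMonObj A := isCommMonObj_of_av
  haveI := hK.closed
  obtain ⟨hL'i, hsum⟩ := H25Pic0.pc_of_tensor_trivial L L' hL hL'
  let l : PC A.left := pc L hL
  have hkl := H25Hat.kl_iff L hL hK
  haveI : Mono i := Over.mono_of_mono_left i
  obtain ⟨B, gB, hBp, hBi, q, hqh, hqfin, hqf, hqs, hqlfp, hdim, hker, P, hP, hPq, -, -, hU⟩ :=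
    H25Hat.exists_universal_of_finite A l (fun K' _ i' _ hic h => by
      obtain ⟨z, hz⟩ := (hkl K' i').2 h
      haveI := hic
      haveI : IsClosedImmersion (z.left ≫ i.left) := by rw [← Over.comp_left, hz]; exact hic
      haveI : IsClosedImmersion z.left := IsClosedImmersion.of_comp z.left i.left
      rw [← Over.w z]; infer_instance)
  haveI := hqh; haveI := hqf; haveI := hqfin; haveI := hBp; haveI := hBi
  let u : PC (A ⊗ B).left := pc P hP
  have hB : topologicalKrullDim B.left = (g : WithBot ℕ∞) := hdim.trans hg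
  haveI : HasInjectiveResolutions (A ⊗ B).left.Modules := QCohD.hasInjectiveResolutions_modules
  obtain ⟨-, -, hvan, ⟨etop⟩⟩ := H25Poinc.global_factsU P hP hU g hg hB le_rfl
  -- the two projections and the shear
  let s : A ⊗ A ⟶ A ⊗ A := lift (fst A A * snd A A) ((fst A A)⁻¹)
  haveI : IsIso s := by
    refine ⟨lift ((snd A A)⁻¹) (fst A A * snd A A), ?_, ?_⟩
    · apply CartesianMonoidalCategory.hom_ext
      · rw [Category.assoc, lift_fst, GrpObj.comp_inv, lift_snd, _root_.inv_inv, Category.id_comp]
      · rw [Category.assoc, lift_snd, MonObj.comp_mul, lift_fst, lift_snd, Category.id_comp,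
          mul_inv_cancel_comm]
    · apply CartesianMonoidalCategory.hom_ext
      · rw [Category.assoc, lift_fst, MonObj.comp_mul, lift_fst, lift_snd, Category.id_comp,
          mul_comm (fst A A) (snd A A), inv_mul_cancel_left]
      · rw [Category.assoc, lift_snd, GrpObj.comp_inv, lift_fst, _root_.inv_inv, Category.id_comp]
  haveI : IsIso s.left := inferInstanceAs (IsIso ((Over.forget _).map s))
  have hsμ : s ≫ μ[A] = snd A A := by
    rw [show μ[A] = fst A A * snd A A from ((congrArg (· ≫ μ[A]) lift_fst_snd).trans (Category.id_comp _)).symm,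
      MonObj.comp_mul, lift_fst, lift_snd, mul_inv_cancel_comm]
  let p2 := (snd A A).left
  let m := μ[A].left
  let n2 := (snd A A ≫ (𝟙 A)⁻¹).left
  let g' := (A ◁ q).left
  let qB := (snd A B).left
  have hp1L := H11Ample.isInvertible_pullback (fst A A).left hL
  have hn2L' := H11Ample.isInvertible_pullback n2 hL'i
  have hM0 := H11Ample.isInvertible_tensor hp1L hn2L'
  let M0 := CohB1.tensorMod ((Scheme.Modules.pullback (fst A A).left).obj L) ((Scheme.Modules.pullback n2).obj L')
  have hgP := H11Ample.isInvertible_pullback g' hP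
  have hp2L := H11Ample.isInvertible_pullback p2 hL
  have key : Nonempty ((Scheme.Modules.pullback s.left).obj M0 ≅
      CohB1.tensorMod ((Scheme.Modules.pullback g').obj P) ((Scheme.Modules.pullback p2).obj L)) := by
    refine (pc_eq_iff (H11Ample.isInvertible_pullback s.left hM0) (H11Ample.isInvertible_tensor hgP hp2L)).1 ?_
    rw [pullP_pc s.left M0 hM0, pc_tensor hp1L hn2L', pc_tensor hgP hp2L, pullP_pc _ L hL, pullP_pc _ L' hL'i,
      pullP_pc g' P hP, pullP_pc p2 L hL, map_add, eq_neg_of_add_eq_zero_right hsum, map_neg, map_neg]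
    show ev (ev l (fst A A)) s + -ev (ev l (snd A A ≫ (𝟙 A)⁻¹)) s = ev u (A ◁ q) + ev l (snd A A)
    rw [hPq, theta, ev_comp, ev_comp, lift_fst, ← Category.assoc, lift_snd, GrpObj.comp_inv, Category.comp_id,
      _root_.inv_inv]
    abel
  obtain ⟨key⟩ := key
  haveI : DCoh.HasLpull s.left := hasLpull _
  haveI : DCoh.HasLpull (𝟙 A.left) := hasLpull _
  haveI : DCoh.HasRpush p2 := GammaAcyclic.hasRpush _
  haveI : DCoh.HasRpush qB := GammaAcyclic.hasRpush _
  haveI : DCoh.HasLpull g' := hasLpull _
  haveI : DCoh.HasLpull q.left := hasLpull _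
  haveI : DCoh.HasLpull K.hom := hasLpull _
  haveI : DCoh.HasLTensorMod L := hasLTensorMod _
  haveI : DCoh.HasLTensorMod ((Scheme.Modules.pullback i.left).obj L) := hasLTensorMod _
  haveI : DCoh.HasLTensorMod ((Scheme.Modules.pullback p2).obj L) := hasLTensorMod _
  let e : Spec (CommRingCat.of k) ⟶ B.left := (η[B] : 𝟙_ _ ⟶ B).left
  haveI : DCoh.HasRpush e := GammaAcyclic.hasRpush _
  haveI : IsClosedImmersion e := by
    haveI : IsClosedImmersion (e ≫ B.hom) := by
      rw [show e ≫ B.hom = 𝟙 _ from Over.w (η[B] : 𝟙_ _ ⟶ B)]; infer_instance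
    exact IsClosedImmersion.of_comp e B.hom
  haveI : HasInjectiveResolutions (Spec (CommRingCat.of k)).Modules := QCohD.hasInjectiveResolutions_modules
  have qc : ∀ {Z : Scheme.{u}} {N : Z.Modules}, PicF.IsInvertible N → Coh.IsQCoh N := fun h =>
    H8Props.FinLocFree.isQCoh_of_isFinLocFree _ (H22Alg.KPullLam.finLocFree_of_rank (H22Alg.PB.rank_one_of_isInvertible h))
  let O1 := Coh.structureModule (Spec (CommRingCat.of k))
  haveI : O1.IsQuasicoherent := qc H11Ample.isInvertible_structureModule
  -- Step 1: move along the shear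
  let c0 : (DCoh.IsQCohD (X := (A ⊗ A).left)).FullSubcategory := ⟨DCoh.inD _ M0, isQCohD_inD (qc hM0)⟩
  haveI : QuasiCompact m := by
    haveI : QuasiCompact (m ≫ A.hom) := by rw [show m ≫ A.hom = (A ⊗ A).hom from Over.w μ[A]]; infer_instance
    exact QuasiCompact.of_comp m A.hom
  haveI : QuasiSeparated m := by
    haveI : QuasiSeparated (m ≫ A.hom) := by rw [show m ≫ A.hom = (A ⊗ A).hom from Over.w μ[A]]; infer_instance
    exact QuasiSeparated.of_comp m A.hom
  have hsq1 : IsPullback s.left p2 m (𝟙 A.left) := IsPullback.of_horiz_isIso ⟨by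
    rw [← Over.comp_left, hsμ, Category.comp_id]⟩
  obtain ⟨b1⟩ := nonempty_baseChange (ObjectProperty.ι (DCoh.IsQCohD (X := (A ⊗ A).left))) (fun d => d.property)
    hsq1 (BaseChange.ti_of_flat' m (𝟙 A.left))
  obtain ⟨b0⟩ := nonempty_lpull_id A.left
  obtain ⟨a1⟩ := nonempty_lpull_inD s.left (isFlat_invertible hM0)
  obtain ⟨a2⟩ := nonempty_ltensorMod_inD ((Scheme.Modules.pullback g').obj P) ((Scheme.Modules.pullback p2).obj L)
    (isFlat_invertible hp2L)
  obtain ⟨a3⟩ := nonempty_lpull_inD g' (isFlat_invertible hP)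
  obtain ⟨a4⟩ := nonempty_projection p2 hL
  -- Step 2: the Poincaré module
  haveI : Flat qB := inferInstanceAs (Flat (pullback.snd A.hom B.hom))
  haveI : QuasiCompact qB := inferInstanceAs (QuasiCompact (pullback.snd A.hom B.hom))
  haveI : QuasiSeparated qB := inferInstanceAs (QuasiSeparated (pullback.snd A.hom B.hom))
  let c1 : (DCoh.IsQCohD (X := (A ⊗ B).left)).FullSubcategory := ⟨DCoh.inD _ P, isQCohD_inD (qc hP)⟩
  obtain ⟨b2⟩ := nonempty_baseChange (ObjectProperty.ι (DCoh.IsQCohD (X := (A ⊗ B).left))) (fun d => d.property)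
    (isPullback_whiskerLeft A q) (BaseChange.ti_of_flat qB q.left)
  obtain ⟨a5⟩ := nonempty_rpush_shift qB P g hvan etop
  obtain ⟨a6⟩ := nonempty_rpush_affine e O1
  -- Step 3: the kernel
  have hη : ∀ {T : Over (Spec (CommRingCat.of k))}, (1 : T ⟶ B) = toUnit T ≫ η[B] := rfl
  have hiq : i ≫ q = 1 := (hker K i).2 ((hkl K i).1 ⟨𝟙 K, Category.id_comp i⟩)
  have hk0 : IsPullback (toUnit K) i η[B] q := by
    have lf : ∀ c : PullbackCone η[B] q, ∃ z : c.pt ⟶ K, z ≫ i = c.snd := fun c => (hkl _ _).2 ((hker _ _).1 (by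
      rw [← c.condition, hη, toUnit_unique c.fst (toUnit _)]))
    exact ⟨⟨by rw [hiq, hη]⟩, ⟨PullbackCone.IsLimit.mk _ (fun c => (lf c).choose)
      (fun c => toUnit_unique _ _) (fun c => (lf c).choose_spec)
      (fun c z _ h2 => (cancel_mono i).1 (h2.trans (lf c).choose_spec.symm))⟩⟩
  have hk1 : IsPullback K.hom i.left e q.left := by
    have h := hk0.map (Over.forget _)
    simpa only [Over.forget_map, Over.toUnit_left] using h
  let c2 : (DCoh.IsQCohD (X := Spec (CommRingCat.of k))).FullSubcategory :=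
    ⟨DCoh.inD _ O1, isQCohD_inD (qc H11Ample.isInvertible_structureModule)⟩
  obtain ⟨b3⟩ := nonempty_baseChange (ObjectProperty.ι (DCoh.IsQCohD (X := Spec (CommRingCat.of k)))) (fun d => d.property)
    hk1 (BaseChange.ti_of_flat' e q.left)
  obtain ⟨a7⟩ := nonempty_lpull_inD K.hom (isFlat_structure (Spec (CommRingCat.of k)))
  obtain ⟨a8⟩ := nonempty_projection i.left hL
  obtain ⟨a9⟩ := nonempty_ltensorMod_inD ((Scheme.Modules.pullback K.hom).obj O1)
    ((Scheme.Modules.pullback i.left).obj L) (isFlat_invertible (H11Ample.isInvertible_pullback i.left hL))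
  letI := lpullCommShift q.left
  letI := ltensorModCommShift L
  let N := (DCoh.Rpush e).obj (DCoh.inD _ O1)
  exact ⟨(b0.app _).symm ≪≫ b1.app c0 ≪≫
    (DCoh.Rpush p2).mapIso (a1 ≪≫ (DerivedCategory.singleFunctor _ 0).mapIso key ≪≫ a2.symm ≪≫
      (DCoh.LTensorMod ((Scheme.Modules.pullback p2).obj L)).mapIso a3.symm) ≪≫
    (a4.app ((DCoh.Lpull g').obj (DCoh.inD _ P))).symm ≪≫
    (DCoh.LTensorMod L).mapIso ((b2.app c1).symm ≪≫
      (DCoh.Lpull q.left).mapIso (a5 ≪≫ (shiftFunctor _ (-(g : ℤ))).mapIso a6.symm) ≪≫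
      ((DCoh.Lpull q.left).commShiftIso (-(g : ℤ))).app N) ≪≫
    ((DCoh.LTensorMod L).commShiftIso (-(g : ℤ))).app _ ≪≫
    (shiftFunctor _ (-(g : ℤ))).mapIso ((DCoh.LTensorMod L).mapIso (b3.app c2 ≪≫ (DCoh.Rpush i.left).mapIso a7) ≪≫
      a8.app _ ≪≫ (DCoh.Rpush i.left).mapIso (a9 ≪≫ (DerivedCategory.singleFunctor _ 0).mapIso
        (PicGrp.tensorModIso (PicLoc.pullbackStructureIso K.hom) (Iso.refl _) ≪≫ H10Coh.Tw.leftUnitIso _)))⟩

end Groth.Agent.S19774
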