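import Groth.Statements.S19775
import Groth.Agent.H25Dual.Mumford


set_option autoImplicit false
set_option linter.style.haveILetI false
set_option backward.isDefEq.respectTransparency false
set_option synthInstance.maxHeartbeats 200000
universe u
open CategoryTheory MonoidalCategory CartesianMonoidalCategory MonObj GrpObj AlgebraicGeometry
open AbVar

namespace Groth.Agent.S19775

/-- Let X be an abelian variety over a field k (a proper, geometrically integral k-group scheme), (X^t,
φ) a given dual abelian variety of X for the fppf topology (φ sends classes of modules on X ×_k T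
algebraically trivial on the geometric fibres to T-valued points of X^t), L an invertible
O_X-module, and λ : X → X^t the homomorphism φ_L attached to L through φ (the X-valued point of X^t
that φ assigns to the class of an invertible module N on X ×_k X with N ⊗ p_1^*L ⊗ p_2^*L ≅ m^*L, a
Mumford module of L). Let i : K → X be a closed immersion exhibiting K as K(L) (the maximal closed
subscheme over which the Mumford bundle, restricted to X ×_k K, is the inverse image of an
invertible module on K, with its universal property). Then K(L) is the kernel of φ_L: the square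
with sides i, K → Spec k, λ and the unit Spec k → X^t is cartesian. (The published statement makes
this assertion for L ample, together with φ_L being an isogeny and the dimension count for the dual;
the kernel identification is the translation description of the points of K(L) read through the
Picard functor and holds for every invertible L, as stated here; the isogeny and dimension
assertions are not part of this row.) -/
theorem result (k : Type u) [Field k] (X Xt : Over (Spec (CommRingCat.of k)))
    [GrpObj X] [IsProper X.hom] [GeometricallyIntegral X.hom]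
    [GrpObj Xt] [IsProper Xt.hom] [GeometricallyIntegral Xt.hom]
    (φ : ∀ T : Over (Spec (CommRingCat.of k)), PicF.Cl (PicF.XT X.hom T) → (T ⟶ Xt))
    (hφ : AbDual.IsDualAV Scheme.fppfPrecoverage X Xt φ)
    (L : X.left.Modules) (hL : PicF.IsInvertible L) (lam : X ⟶ Xt) (hlam : AgPol.IsLambda X Xt φ L lam)
    (K : Over (Spec (CommRingCat.of k))) (i : K ⟶ X) (hK : ThetaGrp.IsKL X L i) :
    AlgGrp.IsKernel i lam := by
  obtain ⟨N, hNi, hN1, hlamN⟩ := hlam
  have hN0 := Groth.Agent.H25Dual.picZero_mumford hL hNi hN1
  have key : ∀ (T : Over (Spec (CommRingCat.of k))) (x : T ⟶ X), ThetaGrp.IsMumfordTriv X L x ↔ x ≫ lam = 1 := by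
    intro T x
    let Nx : (PicF.XT X.hom T).Modules := (Scheme.Modules.pullback (PicF.XTmap X.hom x)).obj N
    have hx0 : AbDual.IsPicZeroCl X.hom T (PicF.cl Nx) := Groth.Agent.H25Dual.picZero_XTmap x hN0
    have hxi : PicF.IsInvertible Nx := Groth.Agent.H11Ample.isInvertible_pullback _ hNi
    have hxr : Groth.Agent.H25Dual.IsRigidified T Nx :=
      Groth.Agent.H25Dual.isRigidified_pull x (Groth.Agent.H25Dual.isRigidified_mumford hL hN1)
    have hlamx : φ T (PicF.cl Nx) = x ≫ lam := by
      rw [← hlamN]; exact hφ.relPic.natural X T x _ hN0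
    obtain ⟨ex⟩ := Groth.Agent.H25Dual.mumford_pull hN1 (fst X T) (snd X T ≫ x)
    have hlift : (lift (fst X T) (snd X T ≫ x)).left = PicF.XTmap X.hom x := by
      rw [Groth.Agent.H25Dual.XTmap_eq]
      congr 1
    have ex' : CohB1.tensorMod (CohB1.tensorMod Nx ((Scheme.Modules.pullback (fst X T).left).obj L))
        ((Scheme.Modules.pullback (snd X T ≫ x).left).obj L) ≅
          (Scheme.Modules.pullback ((X ◁ x) ≫ μ[X]).left).obj L :=
      Groth.Agent.H25Theta.tI (Groth.Agent.H25Theta.tI ((Scheme.Modules.pullbackCongr hlift).app N).symm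
        (Iso.refl _)) (Iso.refl _) ≪≫ ex ≪≫ (Scheme.Modules.pullbackCongr (by
          congr 1)).app L
    constructor
    · rintro ⟨M, hM, ⟨eM⟩⟩
      obtain ⟨a⟩ := Groth.Agent.H25Theta.cancel_right
        (Groth.Agent.H11Ample.isInvertible_pullback (fst X T).left hL)
        (Groth.Agent.H25Theta.cancel_right (Groth.Agent.H11Ample.isInvertible_pullback (snd X T ≫ x).left hL)
          ⟨ex' ≪≫ eM.symm⟩)
      obtain ⟨r⟩ := hxr
      let m : M ≅ Coh.structureModule T.left :=
        (Groth.Agent.H25Theta.pI _ rfl M).symm ≪≫
          (Groth.Agent.H25Theta.pC (PicF.secT X.hom η[X].left (Over.w η[X]) T) (snd X T).left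
            (Groth.Agent.H12Pic.RigDescent.secT_snd X.hom (Over.w η[X]) T) M).symm ≪≫
          (Scheme.Modules.pullback _).mapIso a.symm ≪≫ r
      have : PicF.cl Nx = PicF.cl (Coh.structureModule _) :=
        Quot.sound ⟨a ≪≫ (Scheme.Modules.pullback _).mapIso m ≪≫ Groth.Agent.H25Theta.pO _⟩
      rw [← hlamx, this, Groth.Agent.H25Dual.phi_structure hφ T]
    · intro h
      have hO : PicF.IsInvertible (Coh.structureModule (PicF.XT X.hom T)) :=
        fun y => ⟨⊤, trivial, ⟨Scheme.Modules.restrictUnitIso _⟩⟩
      obtain ⟨a⟩ := Groth.Agent.H25Dual.rig_injective hφ T hxi hO hx0 (Groth.Agent.H25Dual.picZero_structure T) hxr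
        (Groth.Agent.H25Dual.isRigidified_structure T)
        (by rw [hlamx, h, Groth.Agent.H25Dual.phi_structure hφ T])
      exact ⟨Coh.structureModule T.left, fun y => ⟨⊤, trivial, ⟨Scheme.Modules.restrictUnitIso _⟩⟩,
        ⟨Groth.Agent.H25Theta.tI (Groth.Agent.H25Theta.tI (Groth.Agent.H25Theta.pO _ ≪≫ a.symm) (Iso.refl _))
          (Iso.refl _) ≪≫ ex'⟩⟩
  haveI := hK.closed
  haveI : Mono i := (Over.forget _).mono_of_mono_map (inferInstanceAs (Mono i.left))
  have hi : i ≫ lam = toUnit K ≫ η[Xt] := by
    rw [(key K i).1 ((hK.univ K i).2 ⟨𝟙 K, Category.id_comp i⟩)]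
    rfl
  have hy : ∀ s : Limits.PullbackCone lam η[Xt], ∃ y : s.pt ⟶ K, y ≫ i = s.fst := fun s => by
    refine (hK.univ s.pt s.fst).1 ((key s.pt s.fst).2 ?_)
    rw [s.condition, toUnit_unique s.snd (toUnit _)]
    rfl
  refine IsPullback.of_isLimit' ⟨hi⟩ ?_
  exact Limits.PullbackCone.IsLimit.mk _ (fun s => (hy s).choose) (fun s => (hy s).choose_spec)
    (fun s => toUnit_unique _ _) (fun s m hm _ => (cancel_mono i).1 (hm.trans (hy s).choose_spec.symm))

end Groth.Agent.S19775
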