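import Groth.Statements.S19778
import Groth.Agent.H3CAlg.DenseLocInst

set_option autoImplicit false
universe u
open TensorProduct
open CAlg

namespace Groth.Agent.S19778

/-- For general linear groups, in the case A[1/t] → Â[1/t], let A be a commutative ring and t ∈ A with
(A, tA) a Henselian pair and the t-power torsion of A bounded, let Â be the t-adic completion and
give Â[1/t] the A[1/t]-algebra structure of the canonical map. Then every finitely generated
projective Â[1/t]-module is the base change of a finitely generated projective A[1/t]-module. (The
published statement is the bijection H¹(A[1/t], G) ≅ H¹(Â[1/t], G) for every quasi-affine smooth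
group G; this row is the case of the general linear groups, stated as essential surjectivity of base
change on finitely generated projective modules of arbitrary rank.) -/
theorem result (A : Type u) [CommRing A]
    (t : A) [HenselianRing A (Ideal.span {t})]
    (hbd : ∃ N : ℕ, ∀ a : A, (∃ m : ℕ, t ^ m * a = 0) → t ^ N * a = 0)
    [Algebra (Localization.Away t) (Localization.Away (algebraMap A (AdicCompletion (Ideal.span {t}) A) t))]
    (halg : algebraMap (Localization.Away t) (Localization.Away (algebraMap A (AdicCompletion (Ideal.span {t}) A) t)) = Localization.awayMap (algebraMap A (AdicCompletion (Ideal.span {t}) A)) t)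
    (M' : Type u) [AddCommGroup M'] [Module (Localization.Away (algebraMap A (AdicCompletion (Ideal.span {t}) A) t)) M']
    [Module.Finite (Localization.Away (algebraMap A (AdicCompletion (Ideal.span {t}) A) t)) M'] [Module.Projective (Localization.Away (algebraMap A (AdicCompletion (Ideal.span {t}) A) t)) M'] :
    ∃ (M : Type u) (_ : AddCommGroup M) (_ : Module (Localization.Away t) M),
      Module.Finite (Localization.Away t) M ∧ Module.Projective (Localization.Away t) M ∧
      Nonempty ((Localization.Away (algebraMap A (AdicCompletion (Ideal.span {t}) A) t)) ⊗[Localization.Away t] M ≃ₗ[Localization.Away (algebraMap A (AdicCompletion (Ideal.span {t}) A) t)] M') := by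
  have hι : ∀ x, algebraMap (Localization.Away t) (Localization.Away (algebraMap A (AdicCompletion (Ideal.span {t}) A) t))
      (algebraMap A (Localization.Away t) x) =
      algebraMap (AdicCompletion (Ideal.span {t}) A) _ (algebraMap A _ x) := fun x => by
    rw [halg]; exact IsLocalization.map_eq _ x
  have D := Groth.Agent.H3CAlg.DenseLocInst.data_adic
    (HenselianRing.jac (I := Ideal.span {t}) (Ideal.mem_span_singleton_self t)) _ hι
  exact Groth.Agent.H3CAlg.DenseLoc.exists_projective D M'

end Groth.Agent.S19778
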