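import Groth.Statements.S1978
import Groth.Agent.H9WE.BaseChange
import Mathlib
-- import your own Groth.Agent.* helpers here

set_option autoImplicit false
universe u
open TensorProduct
open EtAlg

namespace Groth.Agent.S1978

open Polynomial in
theorem isSep_include {K L A : Type u} [Field K] [Field L] [Algebra K L] [CommRing A] [Algebra K A] {a : A}
    (ha : H9WE.IsSep K a) : H9WE.IsSep L ((Algebra.TensorProduct.includeRight : A →ₐ[K] L ⊗[K] A) a) := by
  obtain ⟨P, hP, h0⟩ := ha
  exact ⟨P.map (algebraMap K L), hP.map, by rw [aeval_map_algebraMap, aeval_algHom_apply, h0, map_zero]⟩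

theorem isSep_range {K L A : Type u} [Field K] [Field L] [Algebra K L] [CommRing A] [Algebra K A]
    (z : L ⊗[K] H9WE.sepSubalgebra K A) :
    H9WE.IsSep L ((H9WE.sepSubalgebra K A).val.toLinearMap.lTensor L z) := by
  show _ ∈ H9WE.sepSubalgebra L (L ⊗[K] A)
  induction z with
  | zero => rw [map_zero]; exact zero_mem _
  | tmul c s =>
    show c ⊗ₜ[K] (s : A) ∈ _
    rw [show c ⊗ₜ[K] (s : A) = c • ((1 : L) ⊗ₜ[K] (s : A)) by rw [smul_tmul', smul_eq_mul, mul_one]]
    exact Subalgebra.smul_mem _ (isSep_include s.2) c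
  | add u v hu hv => rw [map_add]; exact add_mem hu hv

/-- Let L/K be a field extension and A a K-algebra. Then the largest weakly etale L-subalgebra of L ⊗_K
A is the L-subalgebra generated by the image of the largest weakly etale K-subalgebra of A. -/
theorem result (K L : Type u) [Field K] [Field L] [Algebra K L] (A : Type u) [CommRing A] [Algebra K A] :
    EtAlgD.maxWeaklyEtale L (L ⊗[K] A) =
      Algebra.adjoin L ((Algebra.TensorProduct.includeRight : A →ₐ[K] L ⊗[K] A) '' (EtAlgD.maxWeaklyEtale K A : Set A)) := by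
  refine le_antisymm (fun x hx => ?_) (Algebra.adjoin_le ?_)
  · obtain ⟨z, rfl⟩ := H9WE.BaseChange.inS_of_isSep (H9WE.mem_maxWeaklyEtale.mp hx)
    induction z with
    | zero => rw [map_zero]; exact zero_mem _
    | tmul c s =>
      show c ⊗ₜ[K] (s : A) ∈ _
      rw [show c ⊗ₜ[K] (s : A) = c • ((1 : L) ⊗ₜ[K] (s : A)) by rw [smul_tmul', smul_eq_mul, mul_one]]
      exact Subalgebra.smul_mem _ (Algebra.subset_adjoin (Set.mem_image_of_mem _ (H9WE.mem_maxWeaklyEtale.mpr s.2))) c
    | add u v hu hv =>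
      rw [map_add]
      exact add_mem (hu (H9WE.mem_maxWeaklyEtale.mpr (isSep_range u)))
        (hv (H9WE.mem_maxWeaklyEtale.mpr (isSep_range v)))
  · rintro _ ⟨a, ha, rfl⟩
    exact H9WE.mem_maxWeaklyEtale.mpr (isSep_include (H9WE.mem_maxWeaklyEtale.mp ha))

end Groth.Agent.S1978
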