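import Groth.Statements.S19785
import Groth.Agent.H20Mu.Para

set_option autoImplicit false
universe u
open CategoryTheory MonoidalCategory CartesianMonoidalCategory MonObj AlgebraicGeometry Opposite
open GIT

namespace Groth.Agent.S19785

/-- Let k be an algebraically closed field, G a connected reductive algebraic group over k acting by σ
on a scheme X proper over k, L a G-linearised line bundle on X in total-space form, x a k-point of X
and λ : 𝔾_m → G a one-parameter subgroup. Let γ be a k-point of G lying in the parabolic subgroup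
P(λ), i.e. such that the morphism u ↦ λ(u)·γ·λ(u)⁻¹ from 𝔾_m to G extends to the affine line
(λ(u)γλ(u)⁻¹ has a limit in G as u → 0), and let λ' be the conjugate one-parameter subgroup u ↦
γ⁻¹·λ(u)·γ. Then μ^L(x, λ) = μ^L(x, λ'): the numerical function (the limit of λ(u)·x as u → 0 exists
and 𝔾_m acts on the fibre of L over it with exponent m) takes the same values at (x, λ) and at (x,
λ'). (The published statement is for any reductive G; this row takes G connected.) -/
theorem result (k : Type u) [Field k] [IsAlgClosed k]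
    (G X : Over (Spec (CommRingCat.of k))) [GrpObj G] (hG : Red.IsReductive G) [IsProper X.hom]
    (a : AlgGrp.Action G X) (B : GLinSh.LinBun G a) (x : 𝟙_ (Over (Spec (CommRingCat.of k))) ⟶ X)
    (l : Red.Gm (Spec (CommRingCat.of k)) ⟶ G) [IsMonHom l] (g₀ : 𝟙_ (Over (Spec (CommRingCat.of k))) ⟶ G)
    (hg₀ : ∃ f : HMNum.A1 (Spec (CommRingCat.of k)) ⟶ G, HMNum.incl (Spec (CommRingCat.of k)) ≫ f = l * (toUnit _ ≫ g₀) * l⁻¹)
    (l' : Red.Gm (Spec (CommRingCat.of k)) ⟶ G) [IsMonHom l'] (hl' : l' = (toUnit _ ≫ g₀)⁻¹ * l * (toUnit _ ≫ g₀))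
    (m : ℤ) : HMNum.IsMu B l x m ↔ HMNum.IsMu B l' x m := by
  obtain ⟨f, hf⟩ := hg₀
  have : Subsingleton (Spec (CommRingCat.of k)) := inferInstanceAs (Subsingleton (PrimeSpectrum k))
  have : Nonempty (Spec (CommRingCat.of k)) := inferInstanceAs (Nonempty (PrimeSpectrum k))
  have : IsAffineHom G.hom := hG.1
  have e : lift (toUnit (𝟙_ (Over (Spec (CommRingCat.of k)))) ≫ g₀) x ≫ a.act = lift g₀ x ≫ a.act := by
    rw [toUnit_unique (toUnit _) (𝟙 _), Category.id_comp]
  rw [← H20Mu.isMu_act_iff B l g₀ x m (fun x₁ => H20Mu.exists_chart B x₁) l'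
    (by rw [H20Mu.comp_conj]; exact hl'), e]
  refine ⟨H20Mu.isMu_parabolic l g₀ f hf B x m, fun h => ?_⟩
  have hf' : HMNum.incl (Spec (CommRingCat.of k)) ≫ f⁻¹ = l * (toUnit _ ≫ g₀⁻¹) * l⁻¹ := by
    rw [GrpObj.comp_inv, hf, GrpObj.comp_inv]
    group
  have h2 := H20Mu.isMu_parabolic l g₀⁻¹ f⁻¹ hf' B (lift g₀ x ≫ a.act) m h
  rwa [H20Mu.inv_act_act] at h2

end Groth.Agent.S19785
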