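import Groth.Statements.S19790
import Groth.Agent.H20Mu.Torus
import Groth.Agent.H20Conj.Cochar
import Groth.Agent.H20Conj.MaxConv
import Groth.Agent.H20Conj.Bound

set_option backward.isDefEq.respectTransparency false

set_option autoImplicit false
universe u
open CategoryTheory MonoidalCategory CartesianMonoidalCategory MonObj AlgebraicGeometry Opposite
open GIT

namespace Groth.Agent.S19790

/-- Let k be an algebraically closed field, G a connected reductive algebraic group over k, i : T → G a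
maximal torus, X a scheme proper over k on which G acts by σ, and L an ample G-linearised line
bundle on X in total-space form. Fix a norm on one-parameter subgroups as for the flag complex: a
symmetric biadditive form b on the one-parameter subgroups of T (a group under pointwise product)
with rational values, positive on every non-trivial one-parameter subgroup, and a real function ‖·‖
on the one-parameter subgroups of G such that for every one-parameter subgroup λ of T and every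
k-point γ of G the conjugate u ↦ γ·i(λ(u))·γ⁻¹ has ‖γ·(i∘λ)·γ⁻¹‖ ≥ 0 and ‖γ·(i∘λ)·γ⁻¹‖² = b(λ, λ)
(every one-parameter subgroup of G is conjugate under G(k) to one of T, so this determines ‖·‖ on
all of them; consistency forces b to be invariant under the Weyl group, and such forms exist). Then
there is a constant K such that |μ^L(x, λ)| ≤ K·‖λ‖ for every k-point x of X and every one-parameter
subgroup λ of G: whenever the numerical function of x at λ (the limit of λ(u)·x as u → 0 exists and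
𝔾_m acts on the fibre of L over it with exponent m) takes the value m, |m| ≤ K·‖λ‖. In other words
the normalised function ν^L(x, λ) = μ^L(x, λ)/‖λ‖ is bounded in absolute value, uniformly in x and
λ. (The published statement is for any reductive G; this row takes G connected.) -/
theorem result (k : Type u) [Field k] [IsAlgClosed k]
    (G X T : Over (Spec (CommRingCat.of k))) [GrpObj G] [GrpObj T] (hG : Red.IsReductive G)
    (i : T ⟶ G) [IsMonHom i] (hi : Red.IsMaximalTorus i) [IsProper X.hom]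
    (a : AlgGrp.Action G X) (B : GLinSh.LinBun G a) (hB : HMNum.AmpleCover B)
    (b : (Red.Gm (Spec (CommRingCat.of k)) ⟶ T) → (Red.Gm (Spec (CommRingCat.of k)) ⟶ T) → ℚ)
    (hb_add : ∀ (l₁ l₂ l₃ : Red.Gm (Spec (CommRingCat.of k)) ⟶ T) [IsMonHom l₁] [IsMonHom l₂] [IsMonHom l₃],
      b (l₁ * l₂) l₃ = b l₁ l₃ + b l₂ l₃)
    (hb_symm : ∀ (l₁ l₂ : Red.Gm (Spec (CommRingCat.of k)) ⟶ T) [IsMonHom l₁] [IsMonHom l₂], b l₁ l₂ = b l₂ l₁)
    (hb_pos : ∀ (l : Red.Gm (Spec (CommRingCat.of k)) ⟶ T) [IsMonHom l], l ≠ 1 → 0 < b l l)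
    (nrm : (Red.Gm (Spec (CommRingCat.of k)) ⟶ G) → ℝ)
    (hnrm : ∀ (l : Red.Gm (Spec (CommRingCat.of k)) ⟶ T) [IsMonHom l] (g : 𝟙_ (Over (Spec (CommRingCat.of k))) ⟶ G),
      0 ≤ nrm ((toUnit _ ≫ g) * (l ≫ i) * (toUnit _ ≫ g)⁻¹) ∧
        nrm ((toUnit _ ≫ g) * (l ≫ i) * (toUnit _ ≫ g)⁻¹) ^ 2 = ((b l l : ℚ) : ℝ)) :
    ∃ K : ℝ, ∀ (x : 𝟙_ (Over (Spec (CommRingCat.of k))) ⟶ X) (l : Red.Gm (Spec (CommRingCat.of k)) ⟶ G) [IsMonHom l] (m : ℤ),
      HMNum.IsMu B l x m → |(m : ℝ)| ≤ K * nrm l := by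
  classical
  have hTor := hi.2.2.1
  haveI : IsAffineHom G.hom := hG.1
  haveI : IsAffine G.left := isAffine_of_isAffineHom G.hom
  haveI : Smooth G.hom := hG.2.1
  have hmax := H20Conj.isMaxTorus_of_isMaximalTorus hi
  haveI : Mono i := hi.2.1
  obtain ⟨n, ℓ, hadd, hmu⟩ := H20Mu.exists_functionals B i hTor hB
  obtain ⟨r, W, hW, hWadd, hW0, hWsurj⟩ := H20Conj.exists_lattice T hTor
  have hβadd : ∀ a c e, b (W (a + c)) (W e) = b (W a) (W e) + b (W c) (W e) := fun a c e => by
    haveI := hW a; haveI := hW c; haveI := hW e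
    rw [hWadd]; exact hb_add _ _ _
  have hb1 : ∀ e, b (W 0) (W e) = 0 := fun e => by
    have := hβadd 0 0 e
    rw [add_zero] at this
    linarith
  have hpos : ∀ a, 0 ≤ b (W a) (W a) ∧ (b (W a) (W a) = 0 → W a = 1) := fun a => by
    haveI := hW a
    by_cases h1 : W a = 1
    · refine ⟨le_of_eq ?_, fun _ => h1⟩
      rw [h1, ← hW0, hb1]
    · exact ⟨(hb_pos _ h1).le, fun h0 => absurd h0 (hb_pos _ h1).ne'⟩
  have hK : ∀ j, ∃ K : ℝ, 0 ≤ K ∧ ∀ a, |((ℓ j (W a) : ℚ) : ℝ)| ≤ K * Real.sqrt (b (W a) (W a)) := by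
    intro j
    let f : (Fin r → ℤ) →+ ℚ := AddMonoidHom.mk' (fun a => ℓ j (W a)) fun a c => by
      haveI := hW a; haveI := hW c
      show ℓ j (W (a + c)) = _
      rw [hWadd]; exact hadd j _ _
    have hf : ∀ a, b (W a) (W a) = 0 → f a = 0 := fun a ha => by
      show ℓ j (W a) = 0
      rw [(hpos a).2 ha, ← hW0]
      exact f.map_zero
    exact H20Conj.exists_bound (fun a c => b (W a) (W c)) f hβadd
      (fun a c => haveI := hW a; haveI := hW c; hb_symm _ _) (fun a => (hpos a).1) hf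
  choose K hK0 hK using hK
  refine ⟨∑ j, K j, fun x l _ m hm => ?_⟩
  obtain ⟨g, hg⟩ := H20Conj.exists_conj_factor hmax (fun _ : Fin 1 => l) (fun _ _ s t => by
    rw [Commute, SemiconjBy, ← MonObj.mul_comp, ← MonObj.mul_comp]
    exact congrArg (· ≫ l) (H20Mu.gm_comm s t))
  obtain ⟨d, hd⟩ := hg 0
  rw [H20Conj.conjBy_eq] at hd
  haveI : IsMonHom (d ≫ i) := hd ▸ inferInstance
  haveI : IsMonHom d := Groth.Agent.H21Diag.isMonHom_of_comp_mono d i
  have hl : l = (d ≫ i) ≫ H20Mu.conj g := by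
    rw [hd, Category.assoc]
    have := H20Mu.comp_conj_conj g⁻¹ l
    rw [inv_inv, Category.assoc] at this
    exact this.symm
  have hm' : HMNum.IsMu B (d ≫ i) (lift (toUnit _ ≫ g) x ≫ a.act) m :=
    (H20Mu.isMu_act_iff B (d ≫ i) g x m (fun x₁ => H20Mu.exists_chart' B x₁) l hl).mpr hm
  obtain ⟨I, hI⟩ := hmu (lift (toUnit _ ≫ g) x ≫ a.act)
  obtain ⟨w, hw, j, -, hwj, -⟩ := hI d
  obtain rfl := (hw m).mp hm'
  obtain ⟨q, rfl⟩ := hWsurj d inferInstance
  have hn := hnrm (W q) g⁻¹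
  have hl' : l = (toUnit _ ≫ g⁻¹) * (W q ≫ i) * (toUnit _ ≫ g⁻¹)⁻¹ := by
    rw [hl, H20Mu.comp_conj, GrpObj.comp_inv, inv_inv]
  rw [← hl'] at hn
  have hs : Real.sqrt ((b (W q) (W q) : ℚ) : ℝ) = nrm l := by rw [← hn.2, Real.sqrt_sq hn.1]
  calc |(m : ℝ)| = |((ℓ j (W q) : ℚ) : ℝ)| := by rw [← hwj, Rat.cast_intCast]
    _ ≤ K j * nrm l := hs ▸ hK j q
    _ ≤ _ := mul_le_mul_of_nonneg_right
        (Finset.single_le_sum (fun j _ => hK0 j) (Finset.mem_univ j)) hn.1

end Groth.Agent.S19790
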