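import Groth.Statements.S19791
import Groth.Agent.H20Mu.Conj

set_option autoImplicit false
universe u
open CategoryTheory MonoidalCategory CartesianMonoidalCategory MonObj AlgebraicGeometry Opposite
open GIT

namespace Groth.Agent.S19791

/-- Let k be an algebraically closed field, G a connected reductive algebraic group over k acting by σ
on a scheme X proper over k, L an ample G-linearised line bundle on X in total-space form, and ‖·‖ a
real-valued function on the one-parameter subgroups of G invariant under conjugation by k-points of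
G (‖γ·λ·γ⁻¹‖ = ‖λ‖; nothing else is assumed of ‖·‖). For a k-point x of X consider the set of real
numbers μ^L(x, λ)/‖λ‖, where λ runs over the non-trivial one-parameter subgroups of G and μ^L(x, λ)
= m means that the limit of λ(u)·x as u → 0 exists and 𝔾_m acts on the fibre of L over it with
exponent m; its infimum is the number M^L(x). Then for every k-point g of G the sets attached to g·x
and to x coincide, so that M^L(g·x) = M^L(x). (The published statement is for any reductive G, not
necessarily connected, acting on a projective variety; this row takes G connected and X any scheme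
proper over k.) -/
theorem result (k : Type u) [Field k] [IsAlgClosed k]
    (G X : Over (Spec (CommRingCat.of k))) [GrpObj G] (hG : Red.IsReductive G) [IsProper X.hom]
    (a : AlgGrp.Action G X) (B : GLinSh.LinBun G a) (hB : HMNum.AmpleCover B)
    (nrm : (Red.Gm (Spec (CommRingCat.of k)) ⟶ G) → ℝ)
    (hnrm : ∀ (l : Red.Gm (Spec (CommRingCat.of k)) ⟶ G) [IsMonHom l] (g : 𝟙_ (Over (Spec (CommRingCat.of k))) ⟶ G),
      nrm ((toUnit _ ≫ g) * l * (toUnit _ ≫ g)⁻¹) = nrm l)
    (x : 𝟙_ (Over (Spec (CommRingCat.of k))) ⟶ X) (g : 𝟙_ (Over (Spec (CommRingCat.of k))) ⟶ G) (q : ℝ) :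
    (∃ (l : Red.Gm (Spec (CommRingCat.of k)) ⟶ G) (_ : IsMonHom l) (m : ℤ),
        l ≠ 1 ∧ HMNum.IsMu B l (lift g x ≫ a.act) m ∧ q = (m : ℝ) / nrm l) ↔
      ∃ (l : Red.Gm (Spec (CommRingCat.of k)) ⟶ G) (_ : IsMonHom l) (m : ℤ),
        l ≠ 1 ∧ HMNum.IsMu B l x m ∧ q = (m : ℝ) / nrm l := by
  have : Subsingleton (Spec (CommRingCat.of k)) := inferInstanceAs (Subsingleton (PrimeSpectrum k))
  have : Nonempty (Spec (CommRingCat.of k)) := inferInstanceAs (Nonempty (PrimeSpectrum k))
  have hgx : lift (toUnit (𝟙_ (Over (Spec (CommRingCat.of k)))) ≫ g) x ≫ a.act = lift g x ≫ a.act := by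
    rw [toUnit_unique (toUnit _) (𝟙 _), Category.id_comp]
  have hmu : ∀ (l : Red.Gm (Spec (CommRingCat.of k)) ⟶ G) [IsMonHom l] (m : ℤ),
      HMNum.IsMu B l (lift g x ≫ a.act) m ↔ HMNum.IsMu B (l ≫ H20Mu.conj g) x m := by
    intro l _ m
    rw [← H20Mu.isMu_act_iff B l g x m (fun x₁ => H20Mu.exists_chart B x₁) (l ≫ H20Mu.conj g) rfl,
      hgx]
  have hn : ∀ (l : Red.Gm (Spec (CommRingCat.of k)) ⟶ G) [IsMonHom l], nrm (l ≫ H20Mu.conj g) = nrm l := by
    intro l _
    have h := hnrm l g⁻¹
    rw [GrpObj.comp_inv, inv_inv] at h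
    rwa [H20Mu.comp_conj]
  have h1 : ∀ (l : Red.Gm (Spec (CommRingCat.of k)) ⟶ G), l ≫ H20Mu.conj g = 1 ↔ l = 1 := by
    intro l
    rw [H20Mu.comp_conj]
    constructor
    · intro h
      calc l = (toUnit _ ≫ g) * ((toUnit _ ≫ g)⁻¹ * l * (toUnit _ ≫ g)) * (toUnit _ ≫ g)⁻¹ := by group
        _ = 1 := by rw [h]; group
    · rintro rfl
      simp
  constructor
  · rintro ⟨l, hl, m, hl1, hm, hq⟩
    exact ⟨l ≫ H20Mu.conj g, inferInstance, m, fun e => hl1 ((h1 l).1 e), (hmu l m).1 hm,
      by rw [hn l]; exact hq⟩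
  · rintro ⟨l, hl, m, hl1, hm, hq⟩
    have e : (l ≫ H20Mu.conj g⁻¹) ≫ H20Mu.conj g = l := by
      have := H20Mu.comp_conj_conj g⁻¹ l
      rwa [inv_inv] at this
    refine ⟨l ≫ H20Mu.conj g⁻¹, inferInstance, m, fun h => hl1 ?_, ?_, ?_⟩
    · rw [← e, (h1 _).2 h]
    · rw [hmu]
      convert hm
    · have := hn (l ≫ H20Mu.conj g⁻¹)
      rw [← this, e]
      exact hq

end Groth.Agent.S19791
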