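import Groth.Statements.S19795
import Groth.Agent.H21NormExt.Gm
-- import your own Groth.Agent.* helpers here

set_option autoImplicit false
open CategoryTheory MonoidalCategory CartesianMonoidalCategory MonObj GrpObj AlgebraicGeometry
universe u
open SGA3x

namespace Groth.Agent.S19795

set_option backward.isDefEq.respectTransparency false

/-- Let S be an integral, normal, locally Noetherian scheme with function field K, f : Spec K ⟶ S the
inclusion of the generic point, and T an S-torus. Then X_*(T)(S) = X_*(T)(K): every homomorphism of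
K-groups (𝔾_{m,S}) ×_S Spec K ⟶ T ×_S Spec K is the base change along f of exactly one homomorphism
of S-groups 𝔾_{m,S} ⟶ T. (The published statement assumes S connected, normal and locally
Noetherian, which makes S integral.) -/
theorem result {S : Scheme.{u}} [IsIntegral S]
    [IsLocallyNoetherian S] (hnorm : ∀ x : ↥S, IsDomain (S.presheaf.stalk x) ∧ IsIntegrallyClosed (S.presheaf.stalk x))
    {T : Over S} [GrpObj T] (hT : Red.IsTorus T)
    (lamK : Red.bc (S.fromSpecStalk (genericPoint S)) (Red.Gm S) ⟶ Red.bc (S.fromSpecStalk (genericPoint S)) T)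
    [IsMonHom lamK] :
    ∃! lam : Red.Gm S ⟶ T, IsMonHom lam ∧ (Over.pullback (S.fromSpecStalk (genericPoint S))).map lam = lamK := by
  let η₀ := genericPoint S
  let p₁ := S.fromSpecStalk η₀
  let r : Spec (S.residueField η₀) ⟶ Spec (S.presheaf.stalk η₀) := Spec.map (S.residue η₀)
  let p₂ := S.fromSpecResidueField η₀
  haveI : IsIso (S.residue η₀) := (ConcreteCategory.isIso_iff_bijective _).mpr
    ⟨(RingHom.injective_iff_ker_eq_bot _).mpr ((IsLocalRing.ker_residue).trans
      (IsLocalRing.isField_iff_maximalIdeal_eq.mp (Field.toIsField S.functionField))), IsLocalRing.residue_surjective⟩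
  haveI hT' := H21Diag.isMultTypeFT_of_isTorus hT
  haveI : IsAffineHom T.hom := H21Diag.isAffineHom_of_multTypeFT hT'
  let α := H21Diag.bcCompIso r p₁ (Red.Gm S)
  let β := H21Diag.bcCompIso r p₁ T
  let uη : Red.bc p₂ (Red.Gm S) ⟶ Red.bc p₂ T :=
    α.hom.hom.hom ≫ (Over.pullback r).map lamK ≫ β.inv.hom.hom
  have hβ : β.inv.hom.hom ≫ β.hom.hom.hom = 𝟙 _ := congrArg (fun f => f.hom.hom) β.inv_hom_id
  have hα : α.inv.hom.hom ≫ α.hom.hom.hom = 𝟙 _ := congrArg (fun f => f.hom.hom) α.inv_hom_id
  haveI : IsMonHom uη := inferInstanceAs (IsMonHom (α.hom.hom.hom ≫ (Over.pullback r).map lamK ≫ β.inv.hom.hom))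
  have hnat : ∀ f : Red.Gm S ⟶ T, (Over.pullback p₂).map f ≫ β.hom.hom.hom =
      α.hom.hom.hom ≫ (Over.pullback r).map ((Over.pullback p₁).map f) := fun f => by
    change (Over.pullback p₂).map f ≫ ((Over.pullbackComp r p₁).hom.app T ≫ 𝟙 _) =
      ((Over.pullbackComp r p₁).hom.app (Red.Gm S) ≫ 𝟙 _) ≫ _
    rw [Category.comp_id, Category.comp_id]
    exact (Over.pullbackComp r p₁).hom.naturality f
  have hiff : ∀ f : Red.Gm S ⟶ T, (Over.pullback p₁).map f = lamK ↔ (Over.pullback p₂).map f = uη := fun f => by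
    constructor
    · intro h
      have := congrArg (· ≫ β.inv.hom.hom) (hnat f)
      rw [h] at this
      have hβ' : β.hom.hom.hom ≫ β.inv.hom.hom = 𝟙 _ := congrArg (fun f => f.hom.hom) β.hom_inv_id
      rw [Category.assoc, hβ', Category.assoc] at this
      exact (Category.comp_id _).symm.trans this
    · intro h
      have h2 := hnat f
      rw [h] at h2
      simp only [uη, Category.assoc, hβ, Category.comp_id] at h2
      have h3 := congrArg (α.inv.hom.hom ≫ ·) h2
      simp only [← Category.assoc, hα, Category.id_comp] at h3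
      have h4 := congrArg (fun k => k.left ≫ Limits.pullback.fst _ r) h3
      have e : ∀ g : Red.bc p₁ (Red.Gm S) ⟶ Red.bc p₁ T, ((Over.pullback r).map g).left ≫ Limits.pullback.fst _ r =
          Limits.pullback.fst _ r ≫ g.left := fun g => Limits.pullback.lift_fst _ _ _
      have hid := fun (g : Red.bc r (Red.bc p₁ (Red.Gm S)) ⟶ Red.bc r (Red.bc p₁ T)) => congrArg (fun k => k.left ≫ Limits.pullback.fst _ r) (Category.comp_id g)
      replace h4 := (hid _).symm.trans h4
      exact (Over.OverMorphism.ext ((cancel_epi _).mp ((e _).symm.trans (h4.trans (e _))))).symm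
  obtain ⟨lam, hlam, hlamη⟩ := H21NormExt.exists_hom_extend_generic uη (fun x => (hnorm x).2)
    (H21NormExt.smooth_Gm S) H21NormExt.connectedSpace_fiber_Gm hT'
  refine ⟨lam, ⟨hlam, (hiff lam).mpr hlamη⟩, fun f hf => ?_⟩
  haveI : Smooth (Red.Gm S).hom := H21NormExt.smooth_Gm S
  refine H21NormExt.eq_of_generic (fun x => (hnorm x).2) f lam (Over.OverMorphism.ext ?_)
  have e : ∀ g : Red.Gm S ⟶ T, ((Over.pullback p₂).map g).left ≫ Limits.pullback.fst _ p₂ =
      Limits.pullback.fst _ p₂ ≫ g.left := fun g => Limits.pullback.lift_fst _ _ _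
  exact (e f).symm.trans ((congrArg (fun k => k.left ≫ Limits.pullback.fst _ p₂)
    (((hiff f).mp hf.2).trans hlamη.symm)).trans (e lam))

end Groth.Agent.S19795
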