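import Groth.Statements.S19799
import Groth.Agent.H3CAlg.FiniteAlg
import Mathlib.Algebra.Module.StablyFree.Basic
import Mathlib.Algebra.Order.Star.Basic
import Mathlib.LinearAlgebra.FreeModule.PID
import Mathlib.RingTheory.Flat.TorsionFree
import Mathlib.RingTheory.PicardGroup
import Mathlib.RingTheory.RegularLocalRing.Defs
import Mathlib.RingTheory.SimpleRing.Principal
import Mathlib.RingTheory.TotallySplit

set_option autoImplicit false
universe u v w
open scoped TensorProduct
open CAlg

namespace Groth.Agent.S19799

/-- Let k be an algebraically closed field and A, B commutative k-algebras, each finite-dimensional as a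
k-vector space. Then reduction commutes with tensor products: the kernel of the canonical surjection
A ⊗_k B ⟶ (A/nilradical A) ⊗_k (B/nilradical B) equals the nilradical of A ⊗_k B, so that this
surjection induces an isomorphism (A ⊗_k B)_red ≅ A_red ⊗_k B_red and in particular A_red ⊗_k B_red
is reduced. -/
theorem result (k : Type u) [Field k]
    [IsAlgClosed k] (A : Type v) [CommRing A] [Algebra k A] [Module.Finite k A]
    (B : Type w) [CommRing B] [Algebra k B] [Module.Finite k B] :
    RingHom.ker (Algebra.TensorProduct.map (Ideal.Quotient.mkₐ k (nilradical A))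
      (Ideal.Quotient.mkₐ k (nilradical B))).toRingHom = nilradical (A ⊗[k] B) := by
  have : IsReduced (A ⧸ nilradical A) := by
    rw [← Ideal.isRadical_iff_quotient_reduced]; exact Ideal.radical_isRadical _
  have : IsReduced (B ⧸ nilradical B) := by
    rw [← Ideal.isRadical_iff_quotient_reduced]; exact Ideal.radical_isRadical _
  have := Groth.Agent.H3CAlg.formallyEtale_of_finite_isReduced k (A ⧸ nilradical A)
  have := Groth.Agent.H3CAlg.formallyEtale_of_finite_isReduced k (B ⧸ nilradical B)
  have : Algebra.FormallyUnramified k ((A ⧸ nilradical A) ⊗[k] (B ⧸ nilradical B)) :=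
    Algebra.FormallyUnramified.comp k (A ⧸ nilradical A) _
  have := Algebra.FormallyUnramified.isReduced_of_field k ((A ⧸ nilradical A) ⊗[k] (B ⧸ nilradical B))
  apply le_antisymm
  · rw [AlgHom.toRingHom_eq_coe]
    refine (Algebra.TensorProduct.map_ker _ _ Ideal.Quotient.mk_surjective Ideal.Quotient.mk_surjective).le.trans ?_
    rw [sup_le_iff, Ideal.map_le_iff_le_comap, Ideal.map_le_iff_le_comap]
    constructor <;> intro x hx <;>
    · simp only [Ideal.mem_comap, mem_nilradical]
      refine IsNilpotent.map ?_ _
      simpa [Ideal.Quotient.eq_zero_iff_mem, mem_nilradical] using hx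
  · intro x hx
    rw [RingHom.mem_ker]
    exact IsReduced.eq_zero _ (IsNilpotent.map hx _)

end Groth.Agent.S19799
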