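import Groth.Statements.S19805
import Groth.Agent.H22Alg.VolBig

set_option autoImplicit false
universe u
open CategoryTheory CategoryTheory.Limits AlgebraicGeometry
open scoped ENNReal
open Variety

namespace Groth.Agent.S19805

/-- Let X be a projective variety of dimension d over a field k (a geometrically integral scheme, proper
over k, admitting an ample invertible module, with dim X = d) and L an invertible O_X-module; write
vol(L) for the upper limit of dim_k H^0(X, L^m) / m^d as m → ∞, taken in the extended non-negative
reals (the volume of L up to the factor d!). Then for every integer a ≥ 1 the volume is homogeneous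
of degree d: vol(L^a) = a^d · vol(L). -/
theorem result (k : Type u) [Field k] (X : Scheme.{u})
    [X.Over (Spec (CommRingCat.of k))] [IsIntegral X] [GeometricallyIntegral (X ↘ Spec (CommRingCat.of k))]
    [IsProper (X ↘ Spec (CommRingCat.of k))]
    (hproj : ∃ A : X.Modules, CohB1.IsAmple A) (d : ℕ) (hd : topologicalKrullDim X = d)
    (L : X.Modules) (hL : PicF.IsInvertible L) (a : ℕ) (ha : 0 < a) :
    Filter.limsup (fun m : ℕ => (Module.finrank k (Coh.HH X (CohB1.tensorPow (CohB1.tensorPow L a) m) 0) : ℝ≥0∞) /
        (m : ℝ≥0∞) ^ d) Filter.atTop =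
      (a : ℝ≥0∞) ^ d * Filter.limsup (fun m : ℕ => (Module.finrank k (Coh.HH X (CohB1.tensorPow L m) 0) : ℝ≥0∞) /
        (m : ℝ≥0∞) ^ d) Filter.atTop := by
  open Groth.Agent.H22Alg in
  have h : (fun m => Groth.Agent.H25Index.hd k (CohB1.tensorPow L (a * m)) 0) =
      fun m => Groth.Agent.H25Index.hd k (CohB1.tensorPow (CohB1.tensorPow L a) m) 0 := funext fun m =>
    (Groth.Agent.H25Index.hd_congr (NakaiGen.nonempty_tensorPow_mul L a m).some 0).symm
  open Groth.Agent.H22Alg in
  exact (congrArg (VolLimsup.vol d) h).symm.trans (VolLimsup.vol_mul (fun m r hr => VolBig.hd0_pow_add k hL m r hr) ha)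

end Groth.Agent.S19805
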