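import Groth.Statements.S19809
import Groth.Agent.H3CAlg.FormsDim

set_option autoImplicit false
universe u
open RatCurv

namespace Groth.Agent.S19809

open MvPolynomial in
theorem exists_quad_factor {K : Type u} [Field K] [IsAlgClosed K] {g : MvPolynomial (Fin 2) K}
    (hg : g ∈ MvPolynomial.homogeneousSubmodule (Fin 2) K 3) :
    ∃ e l : MvPolynomial (Fin 2) K, e ∈ MvPolynomial.homogeneousSubmodule (Fin 2) K 2 ∧
      l ∈ MvPolynomial.homogeneousSubmodule (Fin 2) K 1 ∧ g = e * l := by
  classical
  let m : ℕ → (Fin 2 →₀ ℕ) := fun i => Finsupp.single 0 i + Finsupp.single 1 (3 - i)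
  let c : ℕ → K := fun i => coeff (m i) g
  have hg3 : g = C (c 3) * X 0 ^ 3 + C (c 2) * (X 0 ^ 2 * X 1) + C (c 1) * (X 0 * X 1 ^ 2) + C (c 0) * X 1 ^ 3 := by
    ext d
    simp only [coeff_add, coeff_C_mul]
    rw [show (X 0 ^ 3 : MvPolynomial (Fin 2) K) = monomial (m 3) 1 by simp [m, X_pow_eq_monomial],
      show (X 0 ^ 2 * X 1 : MvPolynomial (Fin 2) K) = monomial (Finsupp.single 0 2 + Finsupp.single 1 1) 1 by
        rw [X_pow_eq_monomial, X, monomial_mul, one_mul],
      show (X 0 * X 1 ^ 2 : MvPolynomial (Fin 2) K) = monomial (Finsupp.single 0 1 + Finsupp.single 1 2) 1 by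
        rw [X_pow_eq_monomial, X, monomial_mul, one_mul],
      show (X 1 ^ 3 : MvPolynomial (Fin 2) K) = monomial (m 0) 1 by simp [m, X_pow_eq_monomial]]
    rw [show (Finsupp.single 0 2 + Finsupp.single 1 1 : Fin 2 →₀ ℕ) = m 2 from rfl,
      show (Finsupp.single 0 1 + Finsupp.single 1 2 : Fin 2 →₀ ℕ) = m 1 from rfl]
    simp only [coeff_monomial]
    by_cases hd : d 0 + d 1 = 3
    · have he : d = m (d 0) := by
        ext i; fin_cases i <;> simp [m] <;> omega
      have hd0 : d 0 ≤ 3 := by omega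
      have hne : ∀ i j, i ≠ j → m i ≠ m j := fun i j hij h => hij (by
        simpa [m] using DFunLike.congr_fun h 0)
      generalize d 0 = i at he hd0
      subst he
      interval_cases i <;> simp [c, hne]
    · have h0 : coeff d g = 0 := by
        by_contra h
        have := hg h
        simp [Finsupp.weight_apply, Finsupp.sum_fintype, Fin.sum_univ_two] at this
        exact hd this
      have hne : ∀ i, i ≤ 3 → m i ≠ d := fun i hi h => hd (by subst h; simp [m]; omega)
      simp [h0, hne 3 le_rfl, hne 2 (by omega), hne 1 (by omega), hne 0 (by omega)]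
  have h2 : ∀ a b c : K, C a * X 0 ^ 2 + C b * (X 0 * X 1) + C c * X 1 ^ 2 ∈
      MvPolynomial.homogeneousSubmodule (Fin 2) K 2 := fun a b c =>
    ((IsHomogeneous.C_mul (isHomogeneous_X_pow _ _) _).add
      (IsHomogeneous.C_mul ((isHomogeneous_X _ _).mul (isHomogeneous_X _ _)) _)).add
      (IsHomogeneous.C_mul (isHomogeneous_X_pow _ _) _)
  by_cases h3 : c 3 = 0
  · refine ⟨_, X 1, h2 (c 2) (c 1) (c 0), isHomogeneous_X _ _, ?_⟩
    conv_lhs => rw [hg3, h3, map_zero]
    ring
  · obtain ⟨a, ha⟩ := IsAlgClosed.exists_root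
      (Polynomial.C (c 3) * Polynomial.X ^ 3 + Polynomial.C (c 2) * Polynomial.X ^ 2 +
        Polynomial.C (c 1) * Polynomial.X + Polynomial.C (c 0))
      (by rw [Polynomial.degree_cubic h3]; decide)
    simp only [Polynomial.IsRoot, Polynomial.eval_add, Polynomial.eval_mul, Polynomial.eval_C, Polynomial.eval_pow,
      Polynomial.eval_X] at ha
    refine ⟨_, X 0 - C a * X 1, h2 (c 3) (c 2 + a * c 3) (c 1 + a * c 2 + a ^ 2 * c 3),
      (isHomogeneous_X _ _).sub (isHomogeneous_C_mul_X _ _), ?_⟩
    conv_lhs => rw [hg3]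
    have ha' : C (c 0) = (C (-(c 3 * a ^ 3 + c 2 * a ^ 2 + c 1 * a)) : MvPolynomial (Fin 2) K) :=
      congrArg C (by linear_combination ha)
    rw [ha']
    simp only [map_add, map_mul, map_neg, map_pow]
    ring

/-- A smooth rational quintic curve C ⊂ P^3 has a one-parameter family of 3-secant lines. Stated, as for
the nondegenerate case, through binary forms: C is the image of P^1 under a 4-dimensional linear
series V of binary quintic forms which separates every length-2 subscheme of P^1 (for every nonzero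
quadratic form e, the forms of V together with the multiples of e span all quintic forms), so that
P^1 → P(V^*) = P^3 is a closed embedding; the linear forms on P^3 are the elements of V, a line L ⊂
P^3 is the 2-dimensional space of linear forms vanishing on it, and L ∩ C has length at least 3
exactly when that space is contained in g · K[s,t]_2 for a cubic form g. The conclusion: there are
infinitely many pairwise non-proportional nonzero cubic forms g with dim (V ∩ g · K[s,t]_2) ≥ 2,
i.e. for every finite set of cubics there is such a g proportional to none of them. (The ground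
field is algebraically closed of characteristic zero in place of the complex numbers; the third
printed assertion, on curves all of whose 3-secants are 4-secant, is not stated.) -/
theorem result (K : Type u) [Field K] [IsAlgClosed K]
    [CharZero K] (V : Submodule K (MvPolynomial (Fin 2) K))
    (hV : V ≤ MvPolynomial.homogeneousSubmodule (Fin 2) K 5) (hdim : Module.finrank K ↥V = 4)
    (hsep : ∀ e ∈ MvPolynomial.homogeneousSubmodule (Fin 2) K 2, e ≠ 0 →
      ∀ F ∈ MvPolynomial.homogeneousSubmodule (Fin 2) K 5, ∃ v ∈ V,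
        ∃ h ∈ MvPolynomial.homogeneousSubmodule (Fin 2) K 3, F = v + e * h)
    (F : Finset (MvPolynomial (Fin 2) K)) :
    ∃ g ∈ MvPolynomial.homogeneousSubmodule (Fin 2) K 3, g ≠ 0 ∧
      2 ≤ Module.finrank K ↥(V ⊓ (MvPolynomial.homogeneousSubmodule (Fin 2) K 2).map (LinearMap.mulLeft K g)) ∧
      ∀ g' ∈ F, ∀ c : K, g ≠ c • g' := by
    classical
    let Q := fun n => MvPolynomial.homogeneousSubmodule (Fin 2) K n
    haveI : ∀ n, Module.Finite K (Q n) := fun n => (H3CAlg.finrank_homogeneous 1 n).1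
    have hQ : ∀ n, Module.finrank K (Q n) = n + 1 := fun n => by
      rw [(H3CAlg.finrank_homogeneous 1 n).2, Nat.choose_one_right]
    let V₅ : Submodule K (Q 5) := V.comap (Q 5).subtype
    have hV₅ : Module.finrank K V₅ = 4 := by rw [(Submodule.comapSubtypeEquivOfLe hV).finrank_eq, hdim]
    have h2 : Module.finrank K (Q 5 ⧸ V₅) = Module.finrank K (Fin 2 → K) := by
      have h := Submodule.finrank_quotient_add_finrank V₅
      rw [hV₅, hQ] at h
      simp; omega
    let ψ := (LinearEquiv.ofFinrankEq _ _ h2).toLinearMap.comp V₅.mkQ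
    have hψ : ∀ x : Q 5, ψ x = 0 ↔ x.1 ∈ V := fun x => by
      simp [ψ, V₅]
    let μ : Q 3 →ₗ[K] Q 2 →ₗ[K] Q 5 := LinearMap.mk₂ K
      (fun g q => ⟨g.1 * q.1, MvPolynomial.IsHomogeneous.mul g.2 q.2⟩)
      (fun _ _ _ => Subtype.ext (add_mul _ _ _)) (fun _ _ _ => Subtype.ext (smul_mul_assoc _ _ _))
      (fun _ _ _ => Subtype.ext (mul_add _ _ _)) (fun _ _ _ => Subtype.ext (mul_smul_comm _ _ _))
    let L : K → (Fin 2 → K) →ₗ[K] K := fun t => LinearMap.proj 0 + t • LinearMap.proj 1
    have hex : ∀ t : K, ∃ g : Q 3, g ≠ 0 ∧ ∀ q, L t (ψ (μ g q)) = 0 := by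
      intro t
      let Φ : Q 3 →ₗ[K] (Q 2 →ₗ[K] K) := (LinearMap.compRight K ((L t).comp ψ)).comp μ
      have h : Φ.ker ≠ ⊥ := LinearMap.ker_ne_bot_of_finrank_lt (by
        rw [Module.finrank_linearMap, hQ, hQ, Module.finrank_self]; norm_num)
      obtain ⟨g, hg, hg0⟩ := Submodule.exists_mem_ne_zero_of_ne_bot h
      exact ⟨g, hg0, fun q => LinearMap.congr_fun hg q⟩
    have hnotV : ∀ g : Q 3, g ≠ 0 → ∃ q, ψ (μ g q) ≠ 0 := by
      intro g hg
      by_contra h
      push Not at h
      obtain ⟨e, l, he, hl, hel⟩ := exists_quad_factor g.2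
      have he0 : e ≠ 0 := fun h0 => hg (Subtype.ext (by rw [hel, h0, zero_mul]; rfl))
      let μe : Q 3 →ₗ[K] Q 5 :=
        { toFun := fun h => ⟨e * h.1, MvPolynomial.IsHomogeneous.mul he h.2⟩
          map_add' := fun _ _ => Subtype.ext (mul_add _ _ _)
          map_smul' := fun _ _ => Subtype.ext (mul_smul_comm _ _ _) }
      have hμe : Function.Injective μe := fun x y hxy => Subtype.ext (mul_left_cancel₀ he0 (congrArg Subtype.val hxy))
      have htop : V₅ ⊔ μe.range = ⊤ := by
        refine eq_top_iff.2 fun F _ => ?_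
        obtain ⟨v, hv, h3, hh3, hF⟩ := hsep e he he0 F.1 F.2
        rw [show F = (⟨v, hV hv⟩ : Q 5) + μe ⟨h3, hh3⟩ from Subtype.ext hF]
        exact Submodule.add_mem_sup hv ⟨_, rfl⟩
      have hinj : Function.Injective (μ g) := fun x y hxy => Subtype.ext
        (mul_left_cancel₀ (fun h0 => hg (Subtype.ext h0)) (congrArg Subtype.val hxy))
      have hle : (μ g).range ≤ V₅ ⊓ μe.range := by
        rintro _ ⟨q, rfl⟩
        exact ⟨(hψ _).1 (h q), ⟨⟨l * q.1, MvPolynomial.IsHomogeneous.mul hl q.2⟩,
          Subtype.ext (by show e * (l * q.1) = g.1 * q.1; rw [hel, mul_assoc])⟩⟩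
      have h1 := Submodule.finrank_sup_add_finrank_inf_eq V₅ μe.range
      rw [htop, finrank_top, hQ, hV₅, LinearMap.finrank_range_of_inj hμe, hQ] at h1
      have h2 := Submodule.finrank_mono hle
      rw [LinearMap.finrank_range_of_inj hinj, hQ] at h2
      omega
    choose gt hgt0 hgt using hex
    suffices ∃ t, ∀ g' ∈ F, ∀ c : K, (gt t).1 ≠ c • g' by
      obtain ⟨t, ht⟩ := this
      refine ⟨(gt t).1, (gt t).2, fun h => hgt0 t (Subtype.ext h), ?_, ht⟩
      let M := ψ.comp (μ (gt t))
      have hr : M.range ≠ ⊤ := fun h => by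
        obtain ⟨q, hq⟩ := (LinearMap.range_eq_top.1 h) (fun i => if i = 0 then 1 else 0)
        have h' := hgt t q
        rw [show ψ (μ (gt t) q) = M q from rfl, hq] at h'
        simp [L] at h'
      have h1 := Submodule.finrank_lt hr
      rw [Module.finrank_fin_fun] at h1
      have h3 := M.finrank_range_add_finrank_ker
      rw [hQ] at h3
      let j : M.ker →ₗ[K] MvPolynomial (Fin 2) K := (LinearMap.mulLeft K (gt t).1).comp ((Q 2).subtype.comp M.ker.subtype)
      have hj : Function.Injective j := fun x y hxy =>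
        Subtype.ext (Subtype.ext (mul_left_cancel₀ (fun h0 => hgt0 t (Subtype.ext h0)) hxy))
      haveI : Module.Finite K V := Module.finite_of_finrank_eq_succ hdim
      haveI : FiniteDimensional K ↥(V ⊓ (Q 2).map (LinearMap.mulLeft K (gt t).1)) :=
        Submodule.finiteDimensional_inf_left _ _
      have h4 : Module.finrank K j.range ≤ Module.finrank K ↥(V ⊓ (Q 2).map (LinearMap.mulLeft K (gt t).1)) := by
        refine Submodule.finrank_mono ?_
        rintro _ ⟨x, rfl⟩
        exact ⟨(hψ _).1 x.2, Submodule.mem_map_of_mem x.1.2⟩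
      rw [LinearMap.finrank_range_of_inj hj] at h4
      exact le_trans (by omega) h4
    by_contra h
    push Not at h
    choose g' hg' c hc using h
    haveI : Infinite K := inferInstance
    obtain ⟨t₁, t₂, hne, heq⟩ := Finite.exists_ne_map_eq_of_infinite (fun t : K => (⟨g' t, hg' t⟩ : (↑F : Set _)))
    have heq' : g' t₁ = g' t₂ := congrArg Subtype.val heq
    have hc2 : c t₂ ≠ 0 := fun h0 => hgt0 t₂ (Subtype.ext (by rw [hc t₂, h0, zero_smul]; rfl))
    have hprop : gt t₁ = (c t₁ / c t₂) • gt t₂ := Subtype.ext (by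
      show (gt t₁).1 = (c t₁ / c t₂) • (gt t₂).1
      rw [hc t₁, hc t₂, heq', smul_smul, div_mul_cancel₀ _ hc2])
    have hc1 : c t₁ / c t₂ ≠ 0 := fun h0 => hgt0 t₁ (by rw [hprop, h0, zero_smul])
    obtain ⟨q, hq⟩ := hnotV (gt t₁) (hgt0 t₁)
    have e1 := hgt t₁ q
    have e2 := hgt t₂ q
    have e3 : ψ (μ (gt t₁) q) = (c t₁ / c t₂) • ψ (μ (gt t₂) q) := by
      rw [hprop, map_smul, LinearMap.smul_apply, map_smul]
    have e4 : L t₂ (ψ (μ (gt t₁) q)) = 0 := by rw [e3, map_smul, e2, smul_zero]
    refine hq (funext fun i => ?_)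
    simp only [L, LinearMap.add_apply, LinearMap.smul_apply, LinearMap.proj_apply, smul_eq_mul] at e1 e4
    have e5 : ψ (μ (gt t₁) q) 1 = 0 :=
      (mul_eq_zero.1 (show (t₁ - t₂) * ψ (μ (gt t₁) q) 1 = 0 by linear_combination e1 - e4)).resolve_left (sub_ne_zero.2 hne)
    fin_cases i
    · show ψ (μ (gt t₁) q) 0 = 0
      linear_combination e1 - t₁ * e5
    · exact e5

end Groth.Agent.S19809
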