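import Groth.Statements.S19816
import Groth.Agent.H26Nori.Basic
-- import your own Groth.Agent.* helpers here

set_option autoImplicit false
universe u
open CategoryTheory CategoryTheory.Limits MonoidalCategory CartesianMonoidalCategory MonObj GrpObj AlgebraicGeometry
open NoriFGS

set_option backward.isDefEq.respectTransparency false
set_option linter.style.haveILetI false

namespace Groth.Agent.S19816

/-- Let X be a quasi-compact scheme over a field k with a rational point x which possesses a fundamental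
group scheme with its universal pointed torsor. Let G, G₁, G₂ be finite group schemes over k with
homomorphisms φ₁ : G₁ → G and φ₂ : G₂ → G, and let T, T₁, T₂ be torsors over X (locally trivial for
the fpqc topology) under the base changes to X of G, G₁, G₂, each pointed by a k-point lying over x;
let f₁ : T₁ → T and f₂ : T₂ → T be morphisms of pointed torsors along φ₁ and φ₂. Let Q be the fibre
product group scheme G₁ ×_G G₂ with its projections π₁, π₂. Then the fibre product T₁ ×_T T₂ carries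
an action of the base change of Q for which both projections to T₁ and T₂ are equivariant (along π₁,
π₂) and which makes it a torsor over X, locally trivial for the fpqc topology: the category of
pointed finite torsors over X is closed under fibre products. (The published statement is an
equivalence; this row is the implication from possessing a fundamental group scheme. The source's
standing convention for that chapter assumes the base field has characteristic p > 0; the printed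
proof uses no characteristic hypothesis, so the row states it for any field.) -/
theorem result
    (k : Type u) [Field k] (X : Scheme.{u}) [X.Over (Spec (CommRingCat.of k))]
    (x : Spec (CommRingCat.of k) ⟶ X) (hx : x ≫ (X ↘ Spec (CommRingCat.of k)) = 𝟙 _)
    (πN : Over (Spec (CommRingCat.of k))) [GrpObj πN] (P : Over X)
    (a : AlgGrp.Action (Red.bc (X ↘ Spec (CommRingCat.of k)) πN) P) (p : Spec (CommRingCat.of k) ⟶ P.left)
    (hP : NoriFGS.IsFGS x πN a p) [CompactSpace X]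
    (G G₁ G₂ : Over (Spec (CommRingCat.of k))) [GrpObj G] [GrpObj G₁] [GrpObj G₂]
    [IsFinite G.hom] [IsFinite G₁.hom] [IsFinite G₂.hom]
    (φ₁ : G₁ ⟶ G) (φ₂ : G₂ ⟶ G) [IsMonHom φ₁] [IsMonHom φ₂]
    (T T₁ T₂ : Over X)
    (b : AlgGrp.Action (Red.bc (X ↘ Spec (CommRingCat.of k)) G) T)
    (b₁ : AlgGrp.Action (Red.bc (X ↘ Spec (CommRingCat.of k)) G₁) T₁)
    (b₂ : AlgGrp.Action (Red.bc (X ↘ Spec (CommRingCat.of k)) G₂) T₂)
    (hT : NonAbH1.IsTorsorFor Scheme.fpqcPrecoverage b)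
    (hT₁ : NonAbH1.IsTorsorFor Scheme.fpqcPrecoverage b₁)
    (hT₂ : NonAbH1.IsTorsorFor Scheme.fpqcPrecoverage b₂)
    (t : Spec (CommRingCat.of k) ⟶ T.left) (t₁ : Spec (CommRingCat.of k) ⟶ T₁.left) (t₂ : Spec (CommRingCat.of k) ⟶ T₂.left)
    (ht : t ≫ T.hom = x) (ht₁ : t₁ ≫ T₁.hom = x) (ht₂ : t₂ ≫ T₂.hom = x)
    (f₁ : T₁ ⟶ T) (f₂ : T₂ ⟶ T)
    (hf₁ : NoriFGS.IsPtTorsorHom b₁ t₁ b t φ₁ f₁) (hf₂ : NoriFGS.IsPtTorsorHom b₂ t₂ b t φ₂ f₂)
    (Q : Over (Spec (CommRingCat.of k))) [GrpObj Q] (π₁ : Q ⟶ G₁) (π₂ : Q ⟶ G₂) [IsMonHom π₁] [IsMonHom π₂]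
    (hQ : IsPullback π₁ π₂ φ₁ φ₂) :
    ∃ c : AlgGrp.Action (Red.bc (X ↘ Spec (CommRingCat.of k)) Q) (pullback f₁ f₂),
      AlgGrp.Action.IsEquivariant c (b₁.restrict ((Over.pullback (X ↘ Spec (CommRingCat.of k))).map π₁)) (pullback.fst f₁ f₂) ∧
      AlgGrp.Action.IsEquivariant c (b₂.restrict ((Over.pullback (X ↘ Spec (CommRingCat.of k))).map π₂)) (pullback.snd f₁ f₂) ∧
      NonAbH1.IsTorsorFor Scheme.fpqcPrecoverage c := by
  have hQ' : IsPullback ((Over.pullback (X ↘ Spec (CommRingCat.of k))).map π₁)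
      ((Over.pullback (X ↘ Spec (CommRingCat.of k))).map π₂)
      ((Over.pullback (X ↘ Spec (CommRingCat.of k))).map φ₁)
      ((Over.pullback (X ↘ Spec (CommRingCat.of k))).map φ₂) := hQ.map _
  obtain ⟨c, hc₁, hc₂, hc⟩ := H26Nori.exists_action_pullback hf₁.1 hf₂.1 hQ' hT.1 hT₁.1 hT₂.1
  refine ⟨c, hc₁, hc₂, hc, ?_⟩
  obtain ⟨-, hPt, -, huniv⟩ := hP
  obtain ⟨ψ₁, _, g₁, ⟨hg₁, hg₁p⟩, -⟩ := huniv G₁ T₁ b₁ t₁ hT₁ ht₁
  obtain ⟨ψ₂, _, g₂, ⟨hg₂, hg₂p⟩, -⟩ := huniv G₂ T₂ b₂ t₂ hT₂ ht₂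
  obtain ⟨ψ, _, g, -, hu⟩ := huniv G T b t hT ht
  have key : ∀ {G' : Over (Spec (CommRingCat.of k))} [GrpObj G'] {T' : Over X}
      {b' : AlgGrp.Action (Red.bc (X ↘ Spec (CommRingCat.of k)) G') T'} {t' : Spec (CommRingCat.of k) ⟶ T'.left}
      {φ' : G' ⟶ G} [IsMonHom φ'] {f' : T' ⟶ T} (_ : NoriFGS.IsPtTorsorHom b' t' b t φ' f')
      {ψ' : πN ⟶ G'} [IsMonHom ψ'] {g' : P ⟶ T'} (_ : NoriFGS.IsPtTorsorHom a p b' t' ψ' g'),
      g' ≫ f' = g := by
    intro G' _ T' b' t' φ' _ f' hf' ψ' _ g' hg'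
    refine (hu (ψ' ≫ φ') (g' ≫ f') ⟨?_, ?_⟩).2
    · simp only [Functor.map_comp]
      exact H26Nori.equivariant_comp hg'.1 hf'.1
    · rw [Over.comp_left, ← Category.assoc, hg'.2, hf'.2]
  obtain ⟨R, hR, hsec⟩ := hPt.2
  refine ⟨R, hR, fun S' f hf => ?_⟩
  obtain ⟨s, hs⟩ := hsec f hf
  let σ : P ⟶ pullback f₁ f₂ := pullback.lift g₁ g₂
    ((key hf₁ ⟨hg₁, hg₁p⟩).trans (key hf₂ ⟨hg₂, hg₂p⟩).symm)
  exact ⟨s ≫ σ.left, by rw [Category.assoc, Over.w, hs]⟩

end Groth.Agent.S19816
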