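import Groth.Statements.S19822
import Groth.Agent.H4Rel.GorLocal

set_option autoImplicit false
set_option linter.style.haveILetI false
set_option synthInstance.maxHeartbeats 400000
set_option maxHeartbeats 1000000
universe u
open QGor

namespace Groth.Agent.S19822

open CategoryTheory AlgebraicGeometry in
/-- For a proper S₂-morphism Y → Spec A to a Noetherian affine base, of pure relative dimension d, whose
fibres are Gorenstein in codimension one (at every point outside the relative Gorenstein locus the
local ring of the fibre has dimension ≥ 2), the relative canonical sheaf ω (characterised by the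
d-dualizing property over A) is reflexive: the canonical map ω → ω^{**} is an isomorphism. -/
theorem result
    (A : Type u) [CommRing A] [IsNoetherianRing A] (Y : Scheme.{u}) [Y.Over (Spec (CommRingCat.of A))]
    [IsProper (Y ↘ Spec (CommRingCat.of A))] (d : ℕ)
    (hS : RelCanon.IsSkMor (Y ↘ Spec (CommRingCat.of A)) 2) (hd : Cyc.HasRelDim (Y ↘ Spec (CommRingCat.of A)) d)
    (ω : Y.Modules) (hω : RelCanon.IsDualizingSheaf A Y d ω)
    (hG : ∀ y : Y, y ∉ RelCanon.gorLocus (Y ↘ Spec (CommRingCat.of A)) →
      (2 : WithBot ℕ∞) ≤ ringKrullDim (((Y ↘ Spec (CommRingCat.of A)).fiber ((Y ↘ Spec (CommRingCat.of A)) y)).presheaf.stalk ((Y ↘ Spec (CommRingCat.of A)).asFiber y))) :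
    RefHull.IsReflexive ω := by
  exact H4Rel.isReflexive_omega A Y d hd hω hS hG

end Groth.Agent.S19822
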