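import Groth.Statements.S19824
import Groth.Agent.H4Rel.RefPowBC

set_option autoImplicit false
set_option linter.style.haveILetI false
set_option synthInstance.maxHeartbeats 400000
set_option maxHeartbeats 1000000
universe u
open QGor

namespace Groth.Agent.S19824

open CategoryTheory AlgebraicGeometry in
/-- For a proper S₂-morphism Y → Spec A to a Noetherian affine base, of pure relative dimension d, whose
fibres are Gorenstein in codimension one (outside the relative Gorenstein locus the local rings of
the fibres have dimension ≥ 2), with relative canonical sheaf ω (characterised by the d-dualizing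
property over A): for every Noetherian ring B, ring map A → B, cartesian square Y' → Y over Spec B →
Spec A with projection p, and relative canonical sheaf ω' of Y' over B (any O_{Y'}-module with the
d-dualizing property over B), and every m ∈ ℤ, the double dual of p^*(ω^{[m]}) is isomorphic to
ω'^{[m]}; if moreover ω^{[m]} satisfies relative S₂ over Spec A, then p^*(ω^{[m]}) ≅ ω'^{[m]}. Here
F^{[m]} is the double dual of the m-th tensor power of F (of its dual, for m < 0). The source's
isomorphisms are induced by the base change map; only the existence of isomorphisms is stated here. -/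
theorem result
    (A : Type u) [CommRing A] [IsNoetherianRing A] (Y : Scheme.{u}) [Y.Over (Spec (CommRingCat.of A))]
    [IsProper (Y ↘ Spec (CommRingCat.of A))] (d : ℕ)
    (hS : RelCanon.IsSkMor (Y ↘ Spec (CommRingCat.of A)) 2) (hd : Cyc.HasRelDim (Y ↘ Spec (CommRingCat.of A)) d)
    (ω : Y.Modules) (hω : RelCanon.IsDualizingSheaf A Y d ω)
    (hG : ∀ y : Y, y ∉ RelCanon.gorLocus (Y ↘ Spec (CommRingCat.of A)) →
      (2 : WithBot ℕ∞) ≤ ringKrullDim (((Y ↘ Spec (CommRingCat.of A)).fiber ((Y ↘ Spec (CommRingCat.of A)) y)).presheaf.stalk ((Y ↘ Spec (CommRingCat.of A)).asFiber y)))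
    (B : Type u) [CommRing B] [IsNoetherianRing B] (φ : A →+* B)
    (Y' : Scheme.{u}) [Y'.Over (Spec (CommRingCat.of B))] (p : Y' ⟶ Y)
    (hp : IsPullback p (Y' ↘ Spec (CommRingCat.of B)) (Y ↘ Spec (CommRingCat.of A)) (Spec.map (CommRingCat.ofHom φ)))
    (ω' : Y'.Modules) (hω' : RelCanon.IsDualizingSheaf B Y' d ω') (m : ℤ) :
    Nonempty (RefHull.ddual ((Scheme.Modules.pullback p).obj (RelCanon.refPowZ ω m)) ≅ RelCanon.refPowZ ω' m) ∧
    (RelCanon.RelSk (Y ↘ Spec (CommRingCat.of A)) 2 (RelCanon.refPowZ ω m) →
      Nonempty ((Scheme.Modules.pullback p).obj (RelCanon.refPowZ ω m) ≅ RelCanon.refPowZ ω' m)) := by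
  exact H4Rel.nonempty_refPowZ_bc A Y d hd hω hS hG hp hω' m

end Groth.Agent.S19824
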