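import Groth.Statements.S19825
import Groth.Agent.H4RSH.DualBC
import Groth.Agent.H4RSH.ProperField

set_option autoImplicit false
set_option synthInstance.maxHeartbeats 400000
set_option maxHeartbeats 1000000
set_option linter.style.haveILetI false
universe u
open QGor

namespace Groth.Agent.S19825

open CategoryTheory AlgebraicGeometry in
/-- For a proper S₂-morphism Y → Spec A to a Noetherian affine base, of pure relative dimension d, with
relative canonical sheaf ω (characterised by the d-dualizing property over A), and a flat base
change: for every Noetherian ring B, flat ring map A → B and cartesian square Y' → Y over Spec B →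
Spec A with projection p, the module p^*ω is d-dualizing for Y' over B, i.e. it is the relative
canonical sheaf of Y' over B (stated through the characterising property, hence as the existence of
an isomorphism ω_{Y'/B} ≅ p^*ω). -/
theorem result
    (A : Type u) [CommRing A] [IsNoetherianRing A] (Y : Scheme.{u}) [Y.Over (Spec (CommRingCat.of A))]
    [IsProper (Y ↘ Spec (CommRingCat.of A))] (d : ℕ)
    (hS : RelCanon.IsSkMor (Y ↘ Spec (CommRingCat.of A)) 2) (hd : Cyc.HasRelDim (Y ↘ Spec (CommRingCat.of A)) d)
    (ω : Y.Modules) (hω : RelCanon.IsDualizingSheaf A Y d ω)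
    (B : Type u) [CommRing B] [IsNoetherianRing B] (φ : A →+* B) (hφ : φ.Flat)
    (Y' : Scheme.{u}) [Y'.Over (Spec (CommRingCat.of B))] (p : Y' ⟶ Y)
    (hp : IsPullback p (Y' ↘ Spec (CommRingCat.of B)) (Y ↘ Spec (CommRingCat.of A)) (Spec.map (CommRingCat.ofHom φ))) :
    RelCanon.IsDualizingSheaf B Y' d ((Scheme.Modules.pullback p).obj ω) := by
  letI := φ.toAlgebra
  haveI : Module.Flat A B := hφ
  haveI : ω.IsQuasicoherent := by obtain ⟨t, ht, -⟩ := hω; exact ht
  exact H4RSH.DualBC.isDualizingSheaf_pullback hp
    (fun y => H4RSH.ProperLocal.dim_le_of_components fun Z hZ => (hd y Z hZ).le) hω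

end Groth.Agent.S19825
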