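import Groth.Statements.S19827
import Groth.Agent.H4Rel.CMFib

set_option autoImplicit false
set_option linter.style.haveILetI false
set_option synthInstance.maxHeartbeats 400000
set_option maxHeartbeats 1000000
universe u
open QGor

namespace Groth.Agent.S19827

open CategoryTheory AlgebraicGeometry in
/-- With the remark preceding it: for a proper Cohen–Macaulay morphism Y → Spec A to a Noetherian affine
base (flat, with Cohen–Macaulay local rings of the fibres at every point) of pure relative dimension
d, and ω its relative dualizing sheaf (an O_Y-module with the d-dualizing property over A): ω is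
flat over the base at every point of Y; its restriction to each fibre Y_t is d-dualizing for Y_t
over κ(t) (existence form of ω ⊗ O_{Y_t} ≅ ω_{Y_t/κ(t)}); and the relative Gorenstein locus is
exactly the set of points at which ω is invertible (isomorphic to the structure sheaf on some open
neighbourhood). -/
theorem result
    (A : Type u) [CommRing A] [IsNoetherianRing A] (Y : Scheme.{u}) [Y.Over (Spec (CommRingCat.of A))]
    [IsProper (Y ↘ Spec (CommRingCat.of A))] (d : ℕ)
    (hCM : ∀ y : Y, MoreMor.IsCMAt (Y ↘ Spec (CommRingCat.of A)) y) (hd : Cyc.HasRelDim (Y ↘ Spec (CommRingCat.of A)) d)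
    (ω : Y.Modules) (hω : RelCanon.IsDualizingSheaf A Y d ω) :
    FlatMod.IsFlatOver (Y ↘ Spec (CommRingCat.of A)) ω ∧
    (∀ t : Spec (CommRingCat.of A), RelCanon.IsDualizingSheafFib (Y ↘ Spec (CommRingCat.of A)) d ω t) ∧
    (∀ y : Y, y ∈ RelCanon.gorLocus (Y ↘ Spec (CommRingCat.of A)) ↔ RelCanon.InvertibleAt ω y) := by
  exact ⟨(H4Rel.isCoh_and_isFlatOver A Y d hCM hd hω).2, H4Rel.isDualizingSheafFib A Y d hCM hd hω,
    H4Rel.gorenstein_iff_invertibleAt A Y d hCM hd hω⟩

end Groth.Agent.S19827
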