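import Groth.Statements.S19828
import Groth.Agent.H4Rel.CanonTwist

set_option autoImplicit false
set_option backward.isDefEq.respectTransparency false
set_option linter.style.haveILetI false
set_option synthInstance.maxHeartbeats 400000
set_option maxHeartbeats 1000000
universe u
open QGor

namespace Groth.Agent.S19828

open CategoryTheory AlgebraicGeometry in
/-- Let Y → Spec A be a proper S₂-morphism to a Noetherian affine base, of pure relative dimension d,
with relative canonical sheaf ω (characterised by the d-dualizing property over A); let L be a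
coherent O_Y-module, M = 𝓗om(L, ω), U an open subset of Y and t a point of Spec A, and assume: (i)
the local ring of the fibre Y_t at every point outside U has dimension ≥ 2; (ii) L is flat over the
base at every point of Y and its restriction to Y_t is d-dualizing over κ(t) (that is, L ⊗ O_{Y_t}
is isomorphic to the canonical sheaf of the fibre); (iii) either Y_t satisfies S₃ at every point and
its local ring at every point outside U has dimension ≥ 3, or for some integer r > 0 whose image in
κ(t) is non-zero the reflexive powers L^{[r]} and ω^{[r]} are invertible at every point of Y_t. Then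
at every point y of Y_t the module M is invertible near y and ω satisfies relative S₂ over the base
at y; M ⊗ O_{Y_t} ≅ O_{Y_t}; the restriction of ω to Y_t is d-dualizing over κ(t); and there is an
open subset containing Y_t on which L ⊗ M and ω are isomorphic. (The source concludes that the
canonical map L ⊗ M → ω is an isomorphism along Y_t and that the base change map of ω to the fibre
is an isomorphism; those maps are not named here, so the last three clauses are stated as existence
of isomorphisms, and the base change conclusion is given in its equivalent form, relative S₂ of ω at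
the points of Y_t. The open subset U enters only (i) and the codimension clause of (iii)(a), so the
case U = Y, in which these hold automatically and (iii)(a) reads 'Y_t satisfies S₃', implies the
case of every other U; the criterion is printed with this auxiliary U, and its proof draws the
codimension bounds it uses from the relative Cohen–Macaulay locus, whose complement meets each S₂
fibre in codimension at least 3, so no hypothesis on the Gorenstein locus of the fibre is needed.) -/
theorem result
    (A : Type u) [CommRing A] [IsNoetherianRing A] (Y : Scheme.{u}) [Y.Over (Spec (CommRingCat.of A))]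
    [IsProper (Y ↘ Spec (CommRingCat.of A))] (d : ℕ)
    (hS : RelCanon.IsSkMor (Y ↘ Spec (CommRingCat.of A)) 2) (hd : Cyc.HasRelDim (Y ↘ Spec (CommRingCat.of A)) d)
    (ω : Y.Modules) (hω : RelCanon.IsDualizingSheaf A Y d ω)
    (L : Y.Modules) (hL : Coh.IsCoh L) (hLf : FlatMod.IsFlatOver (Y ↘ Spec (CommRingCat.of A)) L)
    (U : Y.Opens) (t : (Spec (CommRingCat.of A)))
    (h1 : ∀ y : Y, (Y ↘ Spec (CommRingCat.of A)) y = t → y ∉ U → (2 : WithBot ℕ∞) ≤ ringKrullDim (((Y ↘ Spec (CommRingCat.of A)).fiber ((Y ↘ Spec (CommRingCat.of A)) y)).presheaf.stalk ((Y ↘ Spec (CommRingCat.of A)).asFiber y)))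
    (h2 : RelCanon.IsDualizingSheafFib (Y ↘ Spec (CommRingCat.of A)) d L t)
    (h3 : (∀ y : Y, (Y ↘ Spec (CommRingCat.of A)) y = t →
        RelCanon.SkAt 3 (Coh.structureModule ((Y ↘ Spec (CommRingCat.of A)).fiber ((Y ↘ Spec (CommRingCat.of A)) y))) ((Y ↘ Spec (CommRingCat.of A)).asFiber y) ∧
        (y ∉ U → (3 : WithBot ℕ∞) ≤ ringKrullDim (((Y ↘ Spec (CommRingCat.of A)).fiber ((Y ↘ Spec (CommRingCat.of A)) y)).presheaf.stalk ((Y ↘ Spec (CommRingCat.of A)).asFiber y)))) ∨
      (∃ r : ℕ, 0 < r ∧ (r : (Spec (CommRingCat.of A)).residueField t) ≠ 0 ∧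
        ∀ y : Y, (Y ↘ Spec (CommRingCat.of A)) y = t →
          RelCanon.InvertibleAt (RelCanon.refPowZ L r) y ∧ RelCanon.InvertibleAt (RelCanon.refPowZ ω r) y)) :
    (∀ y : Y, (Y ↘ Spec (CommRingCat.of A)) y = t →
      RelCanon.InvertibleAt (RefHull.homSh L ω) y ∧ RelCanon.RelSkAt (Y ↘ Spec (CommRingCat.of A)) 2 ω y) ∧
    Nonempty ((Scheme.Modules.pullback ((Y ↘ Spec (CommRingCat.of A)).fiberι t)).obj (RefHull.homSh L ω) ≅
      Coh.structureModule ((Y ↘ Spec (CommRingCat.of A)).fiber t)) ∧
    RelCanon.IsDualizingSheafFib (Y ↘ Spec (CommRingCat.of A)) d ω t ∧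
    (∃ V : Y.Opens, (∀ y : Y, (Y ↘ Spec (CommRingCat.of A)) y = t → y ∈ V) ∧
      Nonempty ((CohB1.tensorMod L (RefHull.homSh L ω)).restrict V.ι ≅ ω.restrict V.ι)) := by
  let f := Y ↘ Spec (CommRingCat.of A)
  refine Groth.Agent.H4Rel.twist_core A Y d hd hω hS hL hLf t h2 ?_
  rcases h3 with h | ⟨r, hr0, hrne, hr⟩
  · exact Or.inl fun z => Groth.Agent.H4Rel.forall_fiber_of A Y t
      (P := fun s w => RelCanon.SkAt 3 (Coh.structureModule (f.fiber s)) w) (fun y hy => (h y hy).1) z
  · exact Or.inr ⟨r, hr0, hrne, fun z => hr _ ((f.range_fiberι t).subset (Set.mem_range_self z))⟩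

end Groth.Agent.S19828
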