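import Groth.Statements.S19829
import Groth.Agent.H4Rel.FibreFree

set_option autoImplicit false
set_option backward.isDefEq.respectTransparency false
set_option linter.style.haveILetI false
set_option synthInstance.maxHeartbeats 400000
set_option maxHeartbeats 1000000
universe u
open QGor

namespace Groth.Agent.S19829

open CategoryTheory AlgebraicGeometry in
/-- Let Y → Spec A be a proper S₂-morphism to a Noetherian affine base, of pure relative dimension d,
with relative canonical sheaf ω (characterised by the d-dualizing property over A), which is naively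
ℚ-Gorenstein: every fibre is Gorenstein in codimension one and ℚ-Gorenstein (for every t and every
d-dualizing module ω_t on the fibre Y_t over κ(t) — its canonical sheaf — some reflexive power
ω_t^{[r]}, r > 0, is invertible at each point), and some ω^{[r]}, r > 0, is invertible at each point
of Y. For a point y over t, with ω_t the canonical sheaf of Y_t as above, let m be the relative
Gorenstein index at y (least r > 0 with ω^{[r]} invertible at y) and r the Gorenstein index of Y_t
at y (least r > 0 with ω_t^{[r]} invertible at y). Assume the morphism is ℚ-Gorenstein at y: on an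
open neighbourhood of y every reflexive power ω^{[k]}, k ∈ ℤ, satisfies relative S₂ over the base.
Then m = r. -/
theorem result
    (A : Type u) [CommRing A] [IsNoetherianRing A] (Y : Scheme.{u}) [Y.Over (Spec (CommRingCat.of A))]
    [IsProper (Y ↘ Spec (CommRingCat.of A))] (d : ℕ)
    (hS : RelCanon.IsSkMor (Y ↘ Spec (CommRingCat.of A)) 2) (hd : Cyc.HasRelDim (Y ↘ Spec (CommRingCat.of A)) d)
    (ω : Y.Modules) (hω : RelCanon.IsDualizingSheaf A Y d ω)
    (hG : ∀ y : Y, y ∉ RelCanon.gorLocus (Y ↘ Spec (CommRingCat.of A)) →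
      (2 : WithBot ℕ∞) ≤ ringKrullDim (((Y ↘ Spec (CommRingCat.of A)).fiber ((Y ↘ Spec (CommRingCat.of A)) y)).presheaf.stalk ((Y ↘ Spec (CommRingCat.of A)).asFiber y)))
    (hQf : ∀ (t : (Spec (CommRingCat.of A))) (ωt : ((Y ↘ Spec (CommRingCat.of A)).fiber t).Modules), @RelCanon.IsDualizingSheaf ((Spec (CommRingCat.of A)).residueField t) _ ((Y ↘ Spec (CommRingCat.of A)).fiber t) ⟨(Y ↘ Spec (CommRingCat.of A)).fiberToSpecResidueField t⟩ d ωt → RelCanon.IsQGorWith ωt)
    (hN : RelCanon.IsQGorWith ω)
    (y : Y) (ωy : ((Y ↘ Spec (CommRingCat.of A)).fiber ((Y ↘ Spec (CommRingCat.of A)) y)).Modules) (hωy : @RelCanon.IsDualizingSheaf ((Spec (CommRingCat.of A)).residueField ((Y ↘ Spec (CommRingCat.of A)) y)) _ ((Y ↘ Spec (CommRingCat.of A)).fiber ((Y ↘ Spec (CommRingCat.of A)) y)) ⟨(Y ↘ Spec (CommRingCat.of A)).fiberToSpecResidueField ((Y ↘ Spec (CommRingCat.of A)) y)⟩ d ωy)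
    (hQ : RelCanon.IsQGorMorWithAt (Y ↘ Spec (CommRingCat.of A)) ω y) :
    RelCanon.gorIndexWithAt ω y = RelCanon.gorIndexWithAt ωy ((Y ↘ Spec (CommRingCat.of A)).asFiber y) := by
  let f := Y ↘ Spec (CommRingCat.of A)
  let K := (Spec (CommRingCat.of A)).residueField (f y)
  letI : (f.fiber (f y)).Over (Spec (CommRingCat.of K)) := ⟨f.fiberToSpecResidueField (f y)⟩
  haveI : IsProper (f.fiber (f y) ↘ Spec (CommRingCat.of K)) :=
    MorphismProperty.pullback_snd (P := @IsProper) _ _ inferInstance
  haveI := H4Rel.isNoetherian_of_proper A Y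
  have hsq : IsPullback (f.fiberι (f y)) (f.fiber (f y) ↘ Spec (CommRingCat.of K)) f
      ((Spec (CommRingCat.of A)).fromSpecResidueField (f y)) := IsPullback.of_hasPullback _ _
  obtain ⟨U, hyU, hU⟩ := hQ
  have hzy : f.fiberι (f y) (f.asFiber y) = y := f.fiberι_asFiber y
  have key : ∀ k : ℕ, RelCanon.InvertibleAt (RelCanon.refPowZ ω k) y ↔
      RelCanon.InvertibleAt (RelCanon.refPowZ ωy k) (f.asFiber y) := by
    intro k
    obtain ⟨E⟩ := (H4Rel.nonempty_refPowZ_bc_local A Y d hd hS U (fun x _ hx => hG x hx) hω hsq hωy k).2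
      fun x hx _ => hU k x hx
    have hmem : f.asFiber y ∈ f.fiberι (f y) ⁻¹ᵁ U := show _ ∈ U by rw [hzy]; exact hyU
    refine ⟨fun h => ?_, fun h => ?_⟩
    · exact H4Rel.invertibleAt_bc_local A Y d hd hS U (fun x _ hx => hG x hx) hω hsq hωy k (f.asFiber y) hmem
        (by rw [hzy]; exact h)
    · obtain ⟨G, hG', eG⟩ := H4Rel.exists_refPowZ_eq (H4Rel.isCoh_and_two_le_depth A Y d hd hω).1 (k : ℤ)
      exact H4Rel.invertibleAt_of_fibre f (eG.symm ▸ H29Ref.isCoh_ddual G hG') y (hU k y hyU).1 (f y) (f.asFiber y)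
        hzy (H4Rel.invertibleAt_of_restrict_iso ⟨E⟩ hmem h)
  exact congrArg sInf (Set.ext fun k => and_congr_right fun _ => key k)

end Groth.Agent.S19829
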