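import Groth.Statements.S1983
import Groth.Agent.H9Ram.LocalExt
import Groth.Agent.H9Ram.ValSub
import Groth.Agent.S7132
import Mathlib.RingTheory.Artinian.Ring
import Mathlib.LinearAlgebra.TensorProduct.Associator
-- import your own Groth.Agent.* helpers here

set_option autoImplicit false
universe u
open EtAlg IsLocalRing
open scoped TensorProduct

namespace Groth.Agent.S1983

/-- Suppose A -> B makes the discrete valuation ring B an extension of the discrete valuation ring A,
with fraction fields K ⊂ L, and that this extension is weakly unramified with separable, i.e.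
geometrically reduced and possibly transcendental, residue field extension (formally smooth for the
adic topology). Then every finite extension K₁/K is a solution for A -> B. -/
theorem result (A B K L : Type u) [CommRing A] [IsDomain A] [IsDiscreteValuationRing A]
    [CommRing B] [IsDomain B] [IsDiscreteValuationRing B] [Algebra A B] [IsLocalHom (algebraMap A B)]
    (hinj : Function.Injective (algebraMap A B))
    [Field K] [Field L] [Algebra A K] [IsFractionRing A K] [Algebra B L] [IsFractionRing B L]
    [Algebra K L] [Algebra A L] [IsScalarTower A K L] [IsScalarTower A B L]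
    (hw : EtRam.IsWeaklyUnramified A B) [Algebra.IsGeometricallyReduced (IsLocalRing.ResidueField A) (IsLocalRing.ResidueField B)]
    (K₁ : Type u) [Field K₁] [Algebra K K₁] [FiniteDimensional K K₁] : EtRam.IsSolution B K L K₁ := by
  intro M _ _ _ _ _ _ hgen W hW
  have hfinM : FiniteDimensional L M := by
    let ψ : L ⊗[K] K₁ →ₐ[L] M :=
      Algebra.TensorProduct.lift (Algebra.ofId L M) (IsScalarTower.toAlgHom K K₁ M) fun _ _ => Commute.all _ _
    refine Module.Finite.of_surjective ψ.toLinearMap fun x => ?_
    have hle : Algebra.adjoin L (Set.range (algebraMap K₁ M)) ≤ ψ.range :=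
      Algebra.adjoin_le fun _ ⟨c, hc⟩ => ⟨1 ⊗ₜ c, by simp [ψ, hc]⟩
    exact hle (hgen ▸ Algebra.mem_top)
  have := H9Ram.LocalExt.isDVR (A := B) (K := L) hW
  let V := W.comap (algebraMap K₁ M)
  have hV : EtRam.Dominates A ((algebraMap K K₁).comp (algebraMap A K)) V := by
    refine H9Ram.Dom.comap _ ?_
    have h2 := H9Ram.Dom.trans (algebraMap A B) hW
    rwa [RingHom.comp_assoc, ← IsScalarTower.algebraMap_eq A B L, IsScalarTower.algebraMap_eq A K L,
      ← RingHom.comp_assoc, ← IsScalarTower.algebraMap_eq K L M, IsScalarTower.algebraMap_eq K K₁ M,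
      RingHom.comp_assoc] at h2
  have := H9Ram.LocalExt.isDVR hV
  let : Algebra A V := (RingHom.codRestrict ((algebraMap K K₁).comp (algebraMap A K)) V hV.1).toAlgebra
  have : IsLocalHom (algebraMap A V) := H9Ram.Dom.isLocalHom hV
  let : Algebra A K₁ := ((algebraMap K K₁).comp (algebraMap A K)).toAlgebra
  have : IsScalarTower A K K₁ := IsScalarTower.of_algebraMap_eq fun _ => rfl
  have : IsScalarTower A V K₁ := IsScalarTower.of_algebraMap_eq fun _ => rfl
  have hiV : Function.Injective (algebraMap A V) := fun a b e =>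
    IsFractionRing.injective A K ((algebraMap K K₁).injective (congrArg Subtype.val e))
  obtain ⟨hfin, -⟩ := S7132.result A V K K₁ hiV
  let jB : B →+* W := RingHom.codRestrict ((algebraMap L M).comp (algebraMap B L)) W hW.1
  let : Algebra A W := (jB.comp (algebraMap A B)).toAlgebra
  let iV : V →ₐ[A] W :=
    { EtRam.inclOfComap W (algebraMap K₁ M) with
      commutes' := fun a => Subtype.ext (by
        show algebraMap K₁ M (algebraMap K K₁ (algebraMap A K a)) = algebraMap L M (algebraMap B L (algebraMap A B a))
        rw [← IsScalarTower.algebraMap_apply K K₁ M, ← IsScalarTower.algebraMap_apply A B L,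
          IsScalarTower.algebraMap_apply A K L, ← IsScalarTower.algebraMap_apply K L M]) }
  let iB : B →ₐ[A] W := { jB with commutes' := fun _ => rfl }
  let φ : V ⊗[A] B →ₐ[A] W := Algebra.TensorProduct.lift iV iB fun _ _ => Commute.all _ _
  let k := ResidueField A
  let k' := ResidueField V
  let l := ResidueField B
  have : TensorProduct.CompatibleSMul A k k' l :=
    TensorProduct.CompatibleSMul.of_algebraMap_surjective _ _ residue_surjective
  have : TensorProduct.CompatibleSMul k A k' l := inferInstance
  let q₀ : V ⊗[A] B →ₐ[A] k' ⊗[A] l :=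
    Algebra.TensorProduct.map (IsScalarTower.toAlgHom A V k') (IsScalarTower.toAlgHom A B l)
  let e : k' ⊗[A] l ≃ₐ[A] k' ⊗[k] l := Algebra.TensorProduct.equivOfCompatibleSMul k A A k' l
  let q : V ⊗[A] B →+* k' ⊗[k] l := e.toRingEquiv.toRingHom.comp q₀.toRingHom
  have hgr : Algebra.IsGeometricallyReduced k' (k' ⊗[k] l) := by
    rw [Algebra.isGeometricallyReduced_field_iff]
    have : Algebra.IsAlgebraic k (AlgebraicClosure k') := Algebra.IsAlgebraic.trans k k' _
    exact isReduced_of_injective _
      (Algebra.TensorProduct.cancelBaseChange k k' k' (AlgebraicClosure k') l).injective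
  have : IsReduced (k' ⊗[k] l) := Algebra.isReduced_of_isGeometricallyReduced k'
  have : IsArtinianRing (k' ⊗[k] l) := by
    have : IsArtinianRing (l ⊗[k] k') := IsArtinianRing.of_finite l _
    exact (Algebra.TensorProduct.comm k l k').toRingEquiv.isArtinianRing
  obtain ⟨t, ht⟩ := IsDiscreteValuationRing.exists_irreducible V
  have htW : EtRam.inclOfComap W (algebraMap K₁ M) t ∈ maximalIdeal W :=
    map_nonunit _ t ((mem_maximalIdeal t).mpr ht.not_isUnit)
  have hφt : φ (t ⊗ₜ 1) = EtRam.inclOfComap W (algebraMap K₁ M) t := by simp [φ]; rfl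
  have hq : Function.Surjective q :=
    e.surjective.comp (TensorProduct.map_surjective residue_surjective residue_surjective)
  have hker : RingHom.ker q ≤ Ideal.span {t ⊗ₜ[A] (1 : B)} := fun x hx => by
    have hx0 : x ∈ RingHom.ker q₀ := e.injective (hx.trans (map_zero e).symm)
    rw [Algebra.TensorProduct.map_ker _ _ residue_surjective residue_surjective] at hx0
    refine SetLike.le_def.mp (sup_le ?_ ?_) hx0
    · rw [Ideal.map_le_iff_le_comap]
      intro v hv
      have hv' : v ∈ maximalIdeal V := (residue_eq_zero_iff v).mp hv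
      rw [ht.maximalIdeal_eq, Ideal.mem_span_singleton] at hv'
      obtain ⟨c, rfl⟩ := hv'
      refine Ideal.mem_span_singleton.mpr ⟨c ⊗ₜ 1, ?_⟩
      rw [Algebra.TensorProduct.tmul_mul_tmul, mul_one]
      rfl
    · rw [Ideal.map_le_iff_le_comap]
      intro b hb
      have hb' : b ∈ maximalIdeal B := (residue_eq_zero_iff b).mp hb
      rw [← hw] at hb'
      refine Ideal.map_le_iff_le_comap.mpr ?_ hb'
      intro a ha
      have ha' : algebraMap A V a ∈ maximalIdeal V := map_nonunit _ a ha
      rw [ht.maximalIdeal_eq, Ideal.mem_span_singleton] at ha'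
      obtain ⟨c, hc⟩ := ha'
      refine Ideal.mem_span_singleton.mpr ⟨c ⊗ₜ 1, ?_⟩
      show (1 : V) ⊗ₜ[A] algebraMap A B a = _
      rw [← Algebra.TensorProduct.tmul_one_eq_one_tmul, hc, Algebra.TensorProduct.tmul_mul_tmul, mul_one]
  have hgenT : ∀ x : M, x ∈ Subfield.closure (Set.range fun a => ((φ a : W) : M)) := by
    intro x
    have hx : x ∈ Algebra.adjoin L (Set.range (algebraMap K₁ M)) := hgen ▸ Algebra.mem_top
    induction hx using Algebra.adjoin_induction with
    | mem x hx =>
      obtain ⟨c, rfl⟩ := hx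
      obtain ⟨a, b, -, rfl⟩ := IsFractionRing.div_surjective V c
      rw [map_div₀]
      exact div_mem (Subfield.subset_closure ⟨a ⊗ₜ 1, by simp [φ]; rfl⟩)
        (Subfield.subset_closure ⟨b ⊗ₜ 1, by simp [φ]; rfl⟩)
    | algebraMap c =>
      obtain ⟨a, b, -, rfl⟩ := IsFractionRing.div_surjective B c
      rw [map_div₀]
      exact div_mem (Subfield.subset_closure ⟨1 ⊗ₜ a, by simp [φ]; rfl⟩)
        (Subfield.subset_closure ⟨1 ⊗ₜ b, by simp [φ]; rfl⟩)
    | add x y _ _ hx hy => exact add_mem hx hy
    | mul x y _ _ hx hy => exact mul_mem hx hy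
  obtain ⟨hm, ψ, hψ, hψs, r, hr1, hr0⟩ := H9Ram.LocalExt.generated φ.toRingHom q (τ := t ⊗ₜ 1)
    (hφt ▸ htW) (fun h0 => ht.ne_zero (H9Ram.ValSub.inclOfComap_injective _ W
      ((hφt.symm.trans h0).trans (map_zero _).symm))) hgenT hq hker
  refine ⟨?_, ?_⟩
  · show (maximalIdeal V).map (EtRam.inclOfComap W (algebraMap K₁ M)) = maximalIdeal W
    rw [ht.maximalIdeal_eq, Ideal.map_span, Set.image_singleton, hm]
    exact congrArg (fun z => Ideal.span {z}) hφt.symm
  · let : Algebra k' (ResidueField W) :=
      (ResidueField.map (EtRam.inclOfComap W (algebraMap K₁ M))).toAlgebra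
    let ψa : k' ⊗[k] l →ₐ[k'] ResidueField W :=
      { ψ with
        commutes' := fun c => by
          obtain ⟨v, rfl⟩ := residue_surjective c
          show ψ (residue V v ⊗ₜ 1) = residue W (EtRam.inclOfComap W (algebraMap K₁ M) v)
          have h1 : q (v ⊗ₜ 1) = residue V v ⊗ₜ 1 := by simp [q, q₀, e]; rfl
          rw [← h1, ← RingHom.comp_apply ψ q, hψ]
          show residue W (φ (v ⊗ₜ 1)) = _
          simp [φ]; rfl }
    exact H9Ram.LocalExt.geomReduced_quotient ψa hψs r hr1 hr0

end Groth.Agent.S1983
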