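import Groth.Statements.S19830
import Groth.Agent.H4Rel.DepthThreeApply

set_option autoImplicit false
set_option backward.isDefEq.respectTransparency false
set_option linter.style.haveILetI false
set_option synthInstance.maxHeartbeats 400000
set_option maxHeartbeats 1000000
universe u
open QGor

namespace Groth.Agent.S19830

open CategoryTheory AlgebraicGeometry in
/-- Let Y → Spec A be a proper S₂-morphism to a Noetherian affine base, of pure relative dimension d,
with relative canonical sheaf ω (characterised by the d-dualizing property over A), which is naively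
ℚ-Gorenstein: every fibre is Gorenstein in codimension one and ℚ-Gorenstein (for every t and every
d-dualizing module ω_t on the fibre Y_t over κ(t) — its canonical sheaf — some reflexive power
ω_t^{[r]}, r > 0, is invertible at each point), and some ω^{[r]}, r > 0, is invertible at each point
of Y. For a point y over t, with ω_t the canonical sheaf of Y_t as above, let m be the relative
Gorenstein index at y (least r > 0 with ω^{[r]} invertible at y) and r the Gorenstein index of Y_t
at y (least r > 0 with ω_t^{[r]} invertible at y). Assume the fibre Y_t is Gorenstein in codimension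
two (at every point of Y_t outside the relative Gorenstein locus the local ring of Y_t has dimension
≥ 3) and satisfies S₃ at y. Then m = r. -/
theorem result
    (A : Type u) [CommRing A] [IsNoetherianRing A] (Y : Scheme.{u}) [Y.Over (Spec (CommRingCat.of A))]
    [IsProper (Y ↘ Spec (CommRingCat.of A))] (d : ℕ)
    (hS : RelCanon.IsSkMor (Y ↘ Spec (CommRingCat.of A)) 2) (hd : Cyc.HasRelDim (Y ↘ Spec (CommRingCat.of A)) d)
    (ω : Y.Modules) (hω : RelCanon.IsDualizingSheaf A Y d ω)
    (hG : ∀ y : Y, y ∉ RelCanon.gorLocus (Y ↘ Spec (CommRingCat.of A)) →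
      (2 : WithBot ℕ∞) ≤ ringKrullDim (((Y ↘ Spec (CommRingCat.of A)).fiber ((Y ↘ Spec (CommRingCat.of A)) y)).presheaf.stalk ((Y ↘ Spec (CommRingCat.of A)).asFiber y)))
    (hQf : ∀ (t : (Spec (CommRingCat.of A))) (ωt : ((Y ↘ Spec (CommRingCat.of A)).fiber t).Modules), @RelCanon.IsDualizingSheaf ((Spec (CommRingCat.of A)).residueField t) _ ((Y ↘ Spec (CommRingCat.of A)).fiber t) ⟨(Y ↘ Spec (CommRingCat.of A)).fiberToSpecResidueField t⟩ d ωt → RelCanon.IsQGorWith ωt)
    (hN : RelCanon.IsQGorWith ω)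
    (y : Y) (ωy : ((Y ↘ Spec (CommRingCat.of A)).fiber ((Y ↘ Spec (CommRingCat.of A)) y)).Modules) (hωy : @RelCanon.IsDualizingSheaf ((Spec (CommRingCat.of A)).residueField ((Y ↘ Spec (CommRingCat.of A)) y)) _ ((Y ↘ Spec (CommRingCat.of A)).fiber ((Y ↘ Spec (CommRingCat.of A)) y)) ⟨(Y ↘ Spec (CommRingCat.of A)).fiberToSpecResidueField ((Y ↘ Spec (CommRingCat.of A)) y)⟩ d ωy)
    (hG2 : ∀ y' : Y, (Y ↘ Spec (CommRingCat.of A)) y' = (Y ↘ Spec (CommRingCat.of A)) y → y' ∉ RelCanon.gorLocus (Y ↘ Spec (CommRingCat.of A)) →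
      (3 : WithBot ℕ∞) ≤ ringKrullDim (((Y ↘ Spec (CommRingCat.of A)).fiber ((Y ↘ Spec (CommRingCat.of A)) y')).presheaf.stalk ((Y ↘ Spec (CommRingCat.of A)).asFiber y')))
    (hS3 : RelCanon.SkAt 3 (Coh.structureModule ((Y ↘ Spec (CommRingCat.of A)).fiber ((Y ↘ Spec (CommRingCat.of A)) y))) ((Y ↘ Spec (CommRingCat.of A)).asFiber y)) :
    RelCanon.gorIndexWithAt ω y = RelCanon.gorIndexWithAt ωy ((Y ↘ Spec (CommRingCat.of A)).asFiber y) := by
  let f := Y ↘ Spec (CommRingCat.of A)
  let K := (Spec (CommRingCat.of A)).residueField (f y)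
  letI : (f.fiber (f y)).Over (Spec (CommRingCat.of K)) := ⟨f.fiberToSpecResidueField (f y)⟩
  haveI : IsProper (f.fiber (f y) ↘ Spec (CommRingCat.of K)) :=
    MorphismProperty.pullback_snd (P := @IsProper) _ _ inferInstance
  haveI := H4Rel.isNoetherian_of_proper A Y
  haveI := H4Rel.isNoetherian_of_proper K (f.fiber (f y))
  have hsq : IsPullback (f.fiberι (f y)) (f.fiber (f y) ↘ Spec (CommRingCat.of K)) f
      ((Spec (CommRingCat.of A)).fromSpecResidueField (f y)) := IsPullback.of_hasPullback _ _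
  have hzy : f.fiberι (f y) (f.asFiber y) = y := f.fiberι_asFiber y
  have key : ∀ k : ℕ, RelCanon.InvertibleAt (RelCanon.refPowZ ω k) y ↔
      RelCanon.InvertibleAt (RelCanon.refPowZ ωy k) (f.asFiber y) := by
    intro k
    refine ⟨fun h => H4Rel.invertibleAt_bc_local A Y d hd hS ⊤ (fun x _ hx => hG x hx) hω hsq hωy k (f.asFiber y)
      trivial (by rw [hzy]; exact h), fun h => ?_⟩
    rw [← hzy]
    refine (H4Rel.relSkAt_of_depth_three A Y d hd hω hS ⊤ (fun x _ hx => hG x hx) (f y) (f.asFiber y) trivial hωy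
      k (fun w hwz hw => ?_)).2 h
    obtain ⟨W, hW, e⟩ := h
    obtain ⟨G, hG', eG⟩ := H4Rel.exists_refPowZ_eq
      (H4Rel.isCoh_and_two_le_depth K (f.fiber (f y)) d (H4Rel.hasRelDim_of_isPullback hsq hd) hωy).1 (k : ℤ)
    obtain ⟨ew⟩ := H4Rel.nonempty_stalk_equiv_of_invertibleAt (eG.symm ▸ H29Ref.isCoh_ddual G hG').1
      (show RelCanon.InvertibleAt (RelCanon.refPowZ ωy k) w from ⟨W, hwz.mem_open W.2 hW, e⟩)
    rw [H4Depth.depth_congr ew]
    refine H4Rel.le_depth_stalk_of_skAt 3 hS3 hwz ?_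
    rw [H4Rel.ringKrullDim_fiber_stalk A Y (f y) w]
    exact hG2 _ ((f.range_fiberι (f y)).subset (Set.mem_range_self w)) hw
  exact congrArg sInf (Set.ext fun k => and_congr_right fun _ => key k)

end Groth.Agent.S19830
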