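import Groth.Statements.S19831
import Groth.Agent.H4Rel.RootScheme

set_option autoImplicit false
set_option backward.isDefEq.respectTransparency false
set_option linter.style.haveILetI false
set_option synthInstance.maxHeartbeats 400000
set_option maxHeartbeats 1000000
universe u
open QGor

namespace Groth.Agent.S19831

open CategoryTheory AlgebraicGeometry in
/-- Let Y → Spec A be a proper S₂-morphism to a Noetherian affine base, of pure relative dimension d,
with relative canonical sheaf ω (characterised by the d-dualizing property over A), which is naively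
ℚ-Gorenstein: every fibre is Gorenstein in codimension one and ℚ-Gorenstein (for every t and every
d-dualizing module ω_t on the fibre Y_t over κ(t) — its canonical sheaf — some reflexive power
ω_t^{[r]}, r > 0, is invertible at each point), and some ω^{[r]}, r > 0, is invertible at each point
of Y. For a point y over t, with ω_t the canonical sheaf of Y_t as above, let m be the relative
Gorenstein index at y (least r > 0 with ω^{[r]} invertible at y) and r the Gorenstein index of Y_t
at y (least r > 0 with ω_t^{[r]} invertible at y). Assume the image of m in κ(t) is non-zero (m is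
prime to the characteristic of the residue field). Then m = r. -/
theorem result
    (A : Type u) [CommRing A] [IsNoetherianRing A] (Y : Scheme.{u}) [Y.Over (Spec (CommRingCat.of A))]
    [IsProper (Y ↘ Spec (CommRingCat.of A))] (d : ℕ)
    (hS : RelCanon.IsSkMor (Y ↘ Spec (CommRingCat.of A)) 2) (hd : Cyc.HasRelDim (Y ↘ Spec (CommRingCat.of A)) d)
    (ω : Y.Modules) (hω : RelCanon.IsDualizingSheaf A Y d ω)
    (hG : ∀ y : Y, y ∉ RelCanon.gorLocus (Y ↘ Spec (CommRingCat.of A)) →
      (2 : WithBot ℕ∞) ≤ ringKrullDim (((Y ↘ Spec (CommRingCat.of A)).fiber ((Y ↘ Spec (CommRingCat.of A)) y)).presheaf.stalk ((Y ↘ Spec (CommRingCat.of A)).asFiber y)))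
    (hQf : ∀ (t : (Spec (CommRingCat.of A))) (ωt : ((Y ↘ Spec (CommRingCat.of A)).fiber t).Modules), @RelCanon.IsDualizingSheaf ((Spec (CommRingCat.of A)).residueField t) _ ((Y ↘ Spec (CommRingCat.of A)).fiber t) ⟨(Y ↘ Spec (CommRingCat.of A)).fiberToSpecResidueField t⟩ d ωt → RelCanon.IsQGorWith ωt)
    (hN : RelCanon.IsQGorWith ω)
    (y : Y) (ωy : ((Y ↘ Spec (CommRingCat.of A)).fiber ((Y ↘ Spec (CommRingCat.of A)) y)).Modules) (hωy : @RelCanon.IsDualizingSheaf ((Spec (CommRingCat.of A)).residueField ((Y ↘ Spec (CommRingCat.of A)) y)) _ ((Y ↘ Spec (CommRingCat.of A)).fiber ((Y ↘ Spec (CommRingCat.of A)) y)) ⟨(Y ↘ Spec (CommRingCat.of A)).fiberToSpecResidueField ((Y ↘ Spec (CommRingCat.of A)) y)⟩ d ωy)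
    (hm : (RelCanon.gorIndexWithAt ω y : (Spec (CommRingCat.of A)).residueField ((Y ↘ Spec (CommRingCat.of A)) y)) ≠ 0) :
    RelCanon.gorIndexWithAt ω y = RelCanon.gorIndexWithAt ωy ((Y ↘ Spec (CommRingCat.of A)).asFiber y) := by
  let f := Y ↘ Spec (CommRingCat.of A)
  have hzy : f.fiberι (f y) (f.asFiber y) = y := f.fiberι_asFiber y
  obtain ⟨hm0, hinv⟩ : 0 < RelCanon.gorIndexWithAt ω y ∧
      RelCanon.InvertibleAt (RelCanon.refPowZ ω (RelCanon.gorIndexWithAt ω y)) y :=
    Nat.sInf_mem (s := {s : ℕ | 0 < s ∧ RelCanon.InvertibleAt (RelCanon.refPowZ ω s) y}) (hN y)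
  obtain ⟨-, q, hq⟩ := H4Rel.qGor_fibre_of_invertibleAt A Y d hd hω hS ⊤ (fun x _ hx => hG x hx) _ hm0 y trivial
    hinv ωy hωy
  obtain ⟨hr0, hrinv⟩ : 0 < RelCanon.gorIndexWithAt ωy (f.asFiber y) ∧
      RelCanon.InvertibleAt (RelCanon.refPowZ ωy (RelCanon.gorIndexWithAt ωy (f.asFiber y))) (f.asFiber y) :=
    Nat.sInf_mem (s := {s : ℕ | 0 < s ∧ RelCanon.InvertibleAt (RelCanon.refPowZ ωy s) (f.asFiber y)})
      (hQf (f y) ωy hωy (f.asFiber y))
  obtain ⟨k, rfl⟩ : ∃ k, q = k + 1 := Nat.exists_eq_succ_of_ne_zero (by rintro rfl; rw [hq] at hm0; simp at hm0)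
  refine le_antisymm (Nat.sInf_le ⟨hr0, ?_⟩) (Nat.le_of_dvd hm0 ⟨_, hq⟩)
  have h := H4Rel.invertibleAt_refPowZ_of_root A Y d hd hω hS ⊤ (fun x _ hx => hG x hx) (f y) (f.asFiber y) trivial
    hωy _ k hrinv (fun h0 => hm (by rw [hq, Nat.cast_mul, h0, mul_zero])) (by rw [hzy, ← hq]; exact hinv)
  rwa [hzy] at h

end Groth.Agent.S19831
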