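import Groth.Statements.S19833
import Groth.Agent.H4Rel.Index

set_option autoImplicit false
set_option linter.style.haveILetI false
set_option synthInstance.maxHeartbeats 400000
set_option maxHeartbeats 1000000
universe u
open QGor

namespace Groth.Agent.S19833

open CategoryTheory AlgebraicGeometry in
/-- Conditions (i)+(ii) ⟺ (v), and (i)+(ii) ⟹ (iii), in the following form: let Y → Spec A be a proper
S₂-morphism to a Noetherian affine base, of pure relative dimension d, with relative canonical sheaf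
ω (characterised by the d-dualizing property over A); let Y° be the relative Gorenstein locus, as an
open subset with inclusion j, let y be a point and r > 0. The following are equivalent. (A) The
local ring of the fibre through y has dimension ≥ 2 at every point of that fibre outside Y° which
specializes to y (local codimension of the non-Gorenstein locus of the fibre at y is ≥ 2), and the
direct image j_*((ω|_{Y°})^{⊗ r}) is invertible at y. (B) On some open neighbourhood U of y: ω^{[r]}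
(the double dual of ω^{⊗ r}) is invertible at every point; at every point of U outside Y° the local
ring of the fibre has dimension ≥ 2; and at every z ∈ U, for every d-dualizing module ω' on the
fibre through z over κ(f(z)) (the canonical sheaf of the fibre), some ω'^{[s]} with s > 0 is
invertible at z and the least such s divides r (the fibre is ℚ-Gorenstein at z of index dividing r).
(The source takes Y° to be any open subset of the relative Gorenstein locus; for the implication (B)
⟹ (A) the whole locus is needed — with Y° empty and Y = Spec A the condition in (A) on the fibre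
fails — so Y° is the full relative Gorenstein locus here.) -/
theorem result
    (A : Type u) [CommRing A] [IsNoetherianRing A] (Y : Scheme.{u}) [Y.Over (Spec (CommRingCat.of A))]
    [IsProper (Y ↘ Spec (CommRingCat.of A))] (d : ℕ)
    (hS : RelCanon.IsSkMor (Y ↘ Spec (CommRingCat.of A)) 2) (hd : Cyc.HasRelDim (Y ↘ Spec (CommRingCat.of A)) d)
    (ω : Y.Modules) (hω : RelCanon.IsDualizingSheaf A Y d ω)
    (Yo : Y.Opens) (hYo : (Yo : Set Y) = RelCanon.gorLocus (Y ↘ Spec (CommRingCat.of A))) (y : Y) (r : ℕ) (hr : 0 < r) :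
    ((∀ z : Y, (Y ↘ Spec (CommRingCat.of A)) z = (Y ↘ Spec (CommRingCat.of A)) y → z ∉ Yo → z ⤳ y → (2 : WithBot ℕ∞) ≤ ringKrullDim (((Y ↘ Spec (CommRingCat.of A)).fiber ((Y ↘ Spec (CommRingCat.of A)) z)).presheaf.stalk ((Y ↘ Spec (CommRingCat.of A)).asFiber z))) ∧
      RelCanon.InvertibleAt ((Scheme.Modules.pushforward Yo.ι).obj (CohB1.tensorPow (ω.restrict Yo.ι) r)) y) ↔
    (∃ U : Y.Opens, y ∈ U ∧ ∀ z : Y, z ∈ U →
      RelCanon.InvertibleAt (RelCanon.refPowZ ω r) z ∧
      (z ∉ Yo → (2 : WithBot ℕ∞) ≤ ringKrullDim (((Y ↘ Spec (CommRingCat.of A)).fiber ((Y ↘ Spec (CommRingCat.of A)) z)).presheaf.stalk ((Y ↘ Spec (CommRingCat.of A)).asFiber z))) ∧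
      ∀ ωz : ((Y ↘ Spec (CommRingCat.of A)).fiber ((Y ↘ Spec (CommRingCat.of A)) z)).Modules, @RelCanon.IsDualizingSheaf ((Spec (CommRingCat.of A)).residueField ((Y ↘ Spec (CommRingCat.of A)) z)) _ ((Y ↘ Spec (CommRingCat.of A)).fiber ((Y ↘ Spec (CommRingCat.of A)) z)) ⟨(Y ↘ Spec (CommRingCat.of A)).fiberToSpecResidueField ((Y ↘ Spec (CommRingCat.of A)) z)⟩ d ωz →
        RelCanon.IsQGorWithAt ωz ((Y ↘ Spec (CommRingCat.of A)).asFiber z) ∧ RelCanon.gorIndexWithAt ωz ((Y ↘ Spec (CommRingCat.of A)).asFiber z) ∣ r) := by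
  let f := Y ↘ Spec (CommRingCat.of A)
  let V : Y.Opens := ⟨_, H4Rel.isOpen_goodCodim A Y d hd ((Yo : Set Y)ᶜ) Yo.2.isClosed_compl 2⟩
  have hnG : ∀ x : Y, x ∉ Yo ↔ x ∉ RelCanon.gorLocus f := fun x => by rw [← hYo]; rfl
  have hV : ∀ x ∈ V, x ∉ RelCanon.gorLocus f → 2 ≤ H4Rel.fibDim A Y x :=
    fun x hx hxg => hx x rfl ((hnG x).2 hxg) specializes_rfl
  obtain ⟨e⟩ := H4Rel.nonempty_pushforward_gor_iso A Y d hd hω hS V hV Yo hYo r
  constructor
  · rintro ⟨hcod, hP⟩
    have hy : y ∈ V := fun z hz hz' hzy => hcod z hz hz' hzy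
    obtain ⟨W, hW, eW⟩ := H4Rel.invertibleAt_of_restrict_iso ⟨e.symm⟩ hy hP
    refine ⟨W ⊓ V, ⟨hW, hy⟩, fun z hz => ⟨⟨W, hz.1, eW⟩, fun hz' => hV z hz.2 ((hnG z).1 hz'), fun ωz hωz => ?_⟩⟩
    obtain ⟨h1, h2⟩ := H4Rel.qGor_fibre_of_invertibleAt A Y d hd hω hS V hV r hr z hz.2 ⟨W, hz.1, eW⟩ ωz hωz
    exact ⟨⟨r, hr, h1⟩, h2⟩
  · rintro ⟨U, hy, hU⟩
    have hyV : y ∈ V := fun z _ hz' hzy => (hU z (hzy.mem_open U.2 hy)).2.1 hz'
    exact ⟨fun z _ hz' hzy => (hU z (hzy.mem_open U.2 hy)).2.1 hz',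
      H4Rel.invertibleAt_of_restrict_iso ⟨e⟩ hyV (hU y hy).1⟩

end Groth.Agent.S19833
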