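import Groth.Statements.S19835
import Groth.Agent.H4Rel.FibreCase

set_option autoImplicit false
set_option linter.style.haveILetI false
set_option synthInstance.maxHeartbeats 400000
set_option maxHeartbeats 1000000
universe u
open QGor

namespace Groth.Agent.S19835

open CategoryTheory AlgebraicGeometry in
/-- For a proper S₂-morphism Y → Spec A to a Noetherian affine base, of pure relative dimension d, whose
fibres are Gorenstein in codimension one, with relative canonical sheaf ω (characterised by the
d-dualizing property over A): if ω is invertible, then the morphism is ℚ-Gorenstein with respect to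
ω (every reflexive power ω^{[m]}, m ∈ ℤ, satisfies relative S₂ over the base at every point: flat
over the base with S₂ restriction to the fibre), and every fibre is ℚ-Gorenstein of Gorenstein index
one, i.e. for every t every d-dualizing module on the fibre Y_t over κ(t) (the canonical sheaf of
the fibre) is invertible. -/
theorem result
    (A : Type u) [CommRing A] [IsNoetherianRing A] (Y : Scheme.{u}) [Y.Over (Spec (CommRingCat.of A))]
    [IsProper (Y ↘ Spec (CommRingCat.of A))] (d : ℕ)
    (hS : RelCanon.IsSkMor (Y ↘ Spec (CommRingCat.of A)) 2) (hd : Cyc.HasRelDim (Y ↘ Spec (CommRingCat.of A)) d)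
    (ω : Y.Modules) (hω : RelCanon.IsDualizingSheaf A Y d ω)
    (hG : ∀ y : Y, y ∉ RelCanon.gorLocus (Y ↘ Spec (CommRingCat.of A)) →
      (2 : WithBot ℕ∞) ≤ ringKrullDim (((Y ↘ Spec (CommRingCat.of A)).fiber ((Y ↘ Spec (CommRingCat.of A)) y)).presheaf.stalk ((Y ↘ Spec (CommRingCat.of A)).asFiber y)))
    (hinv : PicF.IsInvertible ω) :
    RelCanon.IsQGorMorWith (Y ↘ Spec (CommRingCat.of A)) ω ∧
    ∀ (t : (Spec (CommRingCat.of A))) (ωt : ((Y ↘ Spec (CommRingCat.of A)).fiber t).Modules), @RelCanon.IsDualizingSheaf ((Spec (CommRingCat.of A)).residueField t) _ ((Y ↘ Spec (CommRingCat.of A)).fiber t) ⟨(Y ↘ Spec (CommRingCat.of A)).fiberToSpecResidueField t⟩ d ωt → PicF.IsInvertible ωt := by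
  exact ⟨fun m => H4Rel.relSk_of_isInvertible A Y hS (H4Rel.isInvertible_refPowZ hinv m),
    fun t ωt hωt => H4Rel.isInvertible_fibre_dualizing A Y d hd hω hS hinv t ωt hωt⟩

end Groth.Agent.S19835
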