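import Groth.Statements.S19837
import Groth.Agent.H4Rel.TwistPowers

set_option autoImplicit false
set_option backward.isDefEq.respectTransparency false
set_option linter.style.haveILetI false
set_option synthInstance.maxHeartbeats 400000
set_option maxHeartbeats 1000000
universe u
open QGor

namespace Groth.Agent.S19837

open CategoryTheory AlgebraicGeometry in
/-- Let Y → Spec A be a proper S₂-morphism to a Noetherian affine base, of pure relative dimension d,
with fibres Gorenstein in codimension one and relative canonical sheaf ω (characterised by the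
d-dualizing property over A). Let t be a point of Spec A and L a coherent reflexive O_Y-module whose
reflexive powers L^{[m]} (m ∈ ℤ) all satisfy relative S₂ over the base at every point and whose
restriction to the fibre Y_t is d-dualizing over κ(t) (L ⊗ O_{Y_t} is isomorphic to the canonical
sheaf of the fibre); this is the normalised form of 'virtually ℚ-Gorenstein along Y_t' with a global
L. If either (a) Y_t satisfies S₃ at every point, or (b) some ω^{[r]} with r > 0 and r non-zero in
κ(t) is invertible at every point of Y_t, then for every m ∈ ℤ the reflexive power ω^{[m]} satisfies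
relative S₂ over the base at every point of Y_t (the morphism is ℚ-Gorenstein along Y_t). -/
theorem result
    (A : Type u) [CommRing A] [IsNoetherianRing A] (Y : Scheme.{u}) [Y.Over (Spec (CommRingCat.of A))]
    [IsProper (Y ↘ Spec (CommRingCat.of A))] (d : ℕ)
    (hS : RelCanon.IsSkMor (Y ↘ Spec (CommRingCat.of A)) 2) (hd : Cyc.HasRelDim (Y ↘ Spec (CommRingCat.of A)) d)
    (ω : Y.Modules) (hω : RelCanon.IsDualizingSheaf A Y d ω)
    (hG : ∀ y : Y, y ∉ RelCanon.gorLocus (Y ↘ Spec (CommRingCat.of A)) →
      (2 : WithBot ℕ∞) ≤ ringKrullDim (((Y ↘ Spec (CommRingCat.of A)).fiber ((Y ↘ Spec (CommRingCat.of A)) y)).presheaf.stalk ((Y ↘ Spec (CommRingCat.of A)).asFiber y)))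
    (t : (Spec (CommRingCat.of A))) (L : Y.Modules) (hL : Coh.IsCoh L) (hLr : RefHull.IsReflexive L)
    (hL2 : ∀ m : ℤ, RelCanon.RelSk (Y ↘ Spec (CommRingCat.of A)) 2 (RelCanon.refPowZ L m))
    (hLt : RelCanon.IsDualizingSheafFib (Y ↘ Spec (CommRingCat.of A)) d L t)
    (hab : (∀ y : Y, (Y ↘ Spec (CommRingCat.of A)) y = t → RelCanon.SkAt 3 (Coh.structureModule ((Y ↘ Spec (CommRingCat.of A)).fiber ((Y ↘ Spec (CommRingCat.of A)) y))) ((Y ↘ Spec (CommRingCat.of A)).asFiber y)) ∨
      (∃ r : ℕ, 0 < r ∧ (r : (Spec (CommRingCat.of A)).residueField t) ≠ 0 ∧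
        ∀ y : Y, (Y ↘ Spec (CommRingCat.of A)) y = t → RelCanon.InvertibleAt (RelCanon.refPowZ ω r) y)) :
    ∀ m : ℤ, ∀ y : Y, (Y ↘ Spec (CommRingCat.of A)) y = t → RelCanon.RelSkAt (Y ↘ Spec (CommRingCat.of A)) 2 (RelCanon.refPowZ ω m) y := by
  let f := Y ↘ Spec (CommRingCat.of A)
  refine Groth.Agent.H4Rel.relSkAt_refPowZ_of_twist A Y d hd hω hS hG t hL hLr hL2 hLt ?_
  rcases hab with h | ⟨r, hr0, hrne, hr⟩
  · exact Or.inl fun z => Groth.Agent.H4Rel.forall_fiber_of A Y t
      (P := fun s w => RelCanon.SkAt 3 (Coh.structureModule (f.fiber s)) w) h z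
  · exact Or.inr ⟨r, hr0, hrne, fun z => hr _ ((f.range_fiberι t).subset (Set.mem_range_self z))⟩

end Groth.Agent.S19837
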