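import Groth.Statements.S19838
import Groth.Agent.H4Rel.RootScheme
import Groth.Agent.H4Rel.GoodCodim

set_option autoImplicit false
set_option backward.isDefEq.respectTransparency false
set_option linter.style.haveILetI false
set_option synthInstance.maxHeartbeats 400000
set_option maxHeartbeats 1000000
universe u
open QGor

namespace Groth.Agent.S19838

open CategoryTheory AlgebraicGeometry in
/-- Let Y → Spec A be a proper S₂-morphism to a Noetherian affine base, of pure relative dimension d,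
with relative canonical sheaf ω (characterised by the d-dualizing property over A), and t a point of
Spec A whose fibre Y_t is Gorenstein in codimension one and quasi-Gorenstein (every d-dualizing
module on Y_t over κ(t), i.e. its canonical sheaf, is invertible). If ω^{[r]} is invertible for some
r > 0 whose image in κ(t) is non-zero, then for every m ∈ ℤ the reflexive power ω^{[m]} satisfies
relative S₂ over the base at every point of Y_t (the morphism is ℚ-Gorenstein along Y_t). -/
theorem result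
    (A : Type u) [CommRing A] [IsNoetherianRing A] (Y : Scheme.{u}) [Y.Over (Spec (CommRingCat.of A))]
    [IsProper (Y ↘ Spec (CommRingCat.of A))] (d : ℕ)
    (hS : RelCanon.IsSkMor (Y ↘ Spec (CommRingCat.of A)) 2) (hd : Cyc.HasRelDim (Y ↘ Spec (CommRingCat.of A)) d)
    (ω : Y.Modules) (hω : RelCanon.IsDualizingSheaf A Y d ω)
    (t : (Spec (CommRingCat.of A)))
    (hG1 : ∀ y : Y, (Y ↘ Spec (CommRingCat.of A)) y = t → y ∉ RelCanon.gorLocus (Y ↘ Spec (CommRingCat.of A)) → (2 : WithBot ℕ∞) ≤ ringKrullDim (((Y ↘ Spec (CommRingCat.of A)).fiber ((Y ↘ Spec (CommRingCat.of A)) y)).presheaf.stalk ((Y ↘ Spec (CommRingCat.of A)).asFiber y)))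
    (hqg : ∀ ωt : ((Y ↘ Spec (CommRingCat.of A)).fiber t).Modules, @RelCanon.IsDualizingSheaf ((Spec (CommRingCat.of A)).residueField t) _ ((Y ↘ Spec (CommRingCat.of A)).fiber t) ⟨(Y ↘ Spec (CommRingCat.of A)).fiberToSpecResidueField t⟩ d ωt → PicF.IsInvertible ωt)
    (r : ℕ) (hr : 0 < r) (hrk : (r : (Spec (CommRingCat.of A)).residueField t) ≠ 0)
    (hinv : PicF.IsInvertible (RelCanon.refPowZ ω r)) :
    ∀ m : ℤ, ∀ y : Y, (Y ↘ Spec (CommRingCat.of A)) y = t → RelCanon.RelSkAt (Y ↘ Spec (CommRingCat.of A)) 2 (RelCanon.refPowZ ω m) y := by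
  let f := Y ↘ Spec (CommRingCat.of A)
  haveI := H4Rel.isNoetherian_of_proper A Y
  haveI : Flat f := hS.1
  haveI : LocallyOfFinitePresentation f := inferInstance
  let U : Y.Opens := ⟨_, S3617.result Y _ f⟩
  let V : Y.Opens := ⟨_, H4Rel.isOpen_goodCodim A Y d hd ((U : Set Y)ᶜ) U.2.isClosed_compl 2⟩
  have hV : ∀ x ∈ V, x ∉ RelCanon.gorLocus f → 2 ≤ H4Rel.fibDim A Y x :=
    fun x hx hxg => hx x rfl hxg specializes_rfl
  intro m y hy
  have hyV : y ∈ V := fun z hz hz' _ => hG1 z (hz.trans hy) hz'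
  let K := (Spec (CommRingCat.of A)).residueField t
  letI : (f.fiber t).Over (Spec (CommRingCat.of K)) := ⟨f.fiberToSpecResidueField t⟩
  haveI : IsProper (f.fiber t ↘ Spec (CommRingCat.of K)) :=
    MorphismProperty.pullback_snd (P := @IsProper) _ _ inferInstance
  have hsq : IsPullback (f.fiberι t) (f.fiber t ↘ Spec (CommRingCat.of K)) f
      ((Spec (CommRingCat.of A)).fromSpecResidueField t) := IsPullback.of_hasPullback _ _
  obtain ⟨ωt, hωt⟩ := H4Rel.exists_isDualizingSheaf K (f.fiber t) d (H4Rel.hasRelDim_of_isPullback hsq hd)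
  obtain ⟨z, rfl⟩ : y ∈ Set.range (f.fiberι t) := by rw [f.range_fiberι]; exact hy
  obtain ⟨k, rfl⟩ := Nat.exists_eq_succ_of_ne_zero hr.ne'
  have hω1 : RelCanon.InvertibleAt ω (f.fiberι t z) :=
    H4Rel.invertibleAt_of_root A Y d hd hω hS V hV t z hyV hωt (hqg ωt hωt z) k hrk (hinv _)
  obtain ⟨W, hW, ⟨e⟩⟩ := hω1
  obtain ⟨eW⟩ := H4Rel.nonempty_restrict_refPowZ W ω m
  obtain ⟨G, hG, eG⟩ := H4Rel.exists_refPowZ_eq (H4Rel.isCoh_and_two_le_depth A Y d hd hω).1 m
  exact H4Rel.relSkAt_of_invertibleAt A Y hS (eG.symm ▸ H29Ref.isCoh_ddual G hG).1 _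
    (H4Rel.invertibleAt_of_isInvertible_restrict (H11Tilde.isInvertible_of_iso eW.symm
      (H4Rel.isInvertible_refPowZ (H11Tilde.isInvertible_of_iso e.symm
        (H11Ample.isInvertible_structureModule (X := (W : Scheme.{u})))) m)) hW)

end Groth.Agent.S19838
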