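import Groth.Statements.S19839
import Groth.Agent.H4Rel.QGorBC

set_option autoImplicit false
set_option linter.style.haveILetI false
set_option synthInstance.maxHeartbeats 400000
set_option maxHeartbeats 1000000
universe u
open QGor

namespace Groth.Agent.S19839

open CategoryTheory AlgebraicGeometry in
/-- Let Y → Spec A be a proper S₂-morphism to a Noetherian affine base, of pure relative dimension d,
with fibres Gorenstein in codimension one and relative canonical sheaf ω (characterised by the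
d-dualizing property over A); let B be Noetherian, A → B a ring map, Y' → Y a cartesian square over
Spec B → Spec A with projection p, and ω' the relative canonical sheaf of Y' over B (any module with
the d-dualizing property over B). (1) If the morphism is naively ℚ-Gorenstein (some ω^{[r]}, r > 0,
invertible at each point) then so is the base change, and if ω^{[r]} is invertible for some r > 0
then ω'^{[r]} ≅ p^*(ω^{[r]}). (3) If every fibre of Y over Spec A is ℚ-Gorenstein (w.r.t. its
canonical sheaf) then so is every fibre of Y' over Spec B. (5) If every ω^{[m]}, m ∈ ℤ, satisfies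
relative S₂ over Spec A, then every ω'^{[m]} satisfies relative S₂ over Spec B and ω'^{[m]} ≅
p^*(ω^{[m]}). (Isomorphisms in existence form.) -/
theorem result
    (A : Type u) [CommRing A] [IsNoetherianRing A] (Y : Scheme.{u}) [Y.Over (Spec (CommRingCat.of A))]
    [IsProper (Y ↘ Spec (CommRingCat.of A))] (d : ℕ)
    (hS : RelCanon.IsSkMor (Y ↘ Spec (CommRingCat.of A)) 2) (hd : Cyc.HasRelDim (Y ↘ Spec (CommRingCat.of A)) d)
    (ω : Y.Modules) (hω : RelCanon.IsDualizingSheaf A Y d ω)
    (hG : ∀ y : Y, y ∉ RelCanon.gorLocus (Y ↘ Spec (CommRingCat.of A)) →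
      (2 : WithBot ℕ∞) ≤ ringKrullDim (((Y ↘ Spec (CommRingCat.of A)).fiber ((Y ↘ Spec (CommRingCat.of A)) y)).presheaf.stalk ((Y ↘ Spec (CommRingCat.of A)).asFiber y)))
    (B : Type u) [CommRing B] [IsNoetherianRing B] (φ : A →+* B)
    (Y' : Scheme.{u}) [Y'.Over (Spec (CommRingCat.of B))] (p : Y' ⟶ Y)
    (hp : IsPullback p (Y' ↘ Spec (CommRingCat.of B)) (Y ↘ Spec (CommRingCat.of A)) (Spec.map (CommRingCat.ofHom φ)))
    (ω' : Y'.Modules) (hω' : RelCanon.IsDualizingSheaf B Y' d ω') :
    (RelCanon.IsQGorWith ω → RelCanon.IsQGorWith ω') ∧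
    (∀ r : ℕ, 0 < r → PicF.IsInvertible (RelCanon.refPowZ ω r) →
      Nonempty (RelCanon.refPowZ ω' r ≅ (Scheme.Modules.pullback p).obj (RelCanon.refPowZ ω r))) ∧
    ((∀ (t : (Spec (CommRingCat.of A))) (ωt : ((Y ↘ Spec (CommRingCat.of A)).fiber t).Modules), @RelCanon.IsDualizingSheaf ((Spec (CommRingCat.of A)).residueField t) _ ((Y ↘ Spec (CommRingCat.of A)).fiber t) ⟨(Y ↘ Spec (CommRingCat.of A)).fiberToSpecResidueField t⟩ d ωt → RelCanon.IsQGorWith ωt) →
      ∀ (t' : Spec (CommRingCat.of B)) (ωt' : ((Y' ↘ Spec (CommRingCat.of B)).fiber t').Modules),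
        @RelCanon.IsDualizingSheaf ((Spec (CommRingCat.of B)).residueField t') _ ((Y' ↘ Spec (CommRingCat.of B)).fiber t') ⟨(Y' ↘ Spec (CommRingCat.of B)).fiberToSpecResidueField t'⟩ d ωt' →
        RelCanon.IsQGorWith ωt') ∧
    (RelCanon.IsQGorMorWith (Y ↘ Spec (CommRingCat.of A)) ω → RelCanon.IsQGorMorWith (Y' ↘ Spec (CommRingCat.of B)) ω' ∧
      ∀ m : ℤ, Nonempty (RelCanon.refPowZ ω' m ≅ (Scheme.Modules.pullback p).obj (RelCanon.refPowZ ω m))) := by
  refine ⟨fun h y' => ?_, fun r _ h => ?_, fun hQ t' ωt' h => ?_, fun h => ⟨fun m => ?_, fun m => ?_⟩⟩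
  · obtain ⟨r, hr, hi⟩ := h (p y')
    exact ⟨r, hr, H4Rel.invertibleAt_bc A Y d hd hω hS hG hp hω' r y' hi⟩
  · exact H4Rel.nonempty_iso_bc_of_isInvertible A Y d hd hω hS hG hp hω' r h
  · exact H4Rel.isQGorWith_fiber_bc A Y d hd hS hG hp hQ t' ωt' h
  · exact H4Rel.relSk_refPowZ_bc A Y d hd hω hS hG hp hω' m (h m)
  · exact ((H4Rel.nonempty_refPowZ_bc A Y d hd hω hS hG hp hω' m).2 (h m)).map Iso.symm

end Groth.Agent.S19839
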