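import Groth.Statements.S1984
import Groth.Agent.H9Ram.TotRam
import Mathlib.LinearAlgebra.Dimension.Constructions
import Mathlib.RingTheory.Ideal.Quotient.Operations
-- import your own Groth.Agent.* helpers here

set_option autoImplicit false
universe u
open EtAlg

namespace Groth.Agent.S1984

open TensorProduct in
/-- Let A -> B be a weakly unramified extension of discrete valuation rings with fraction fields K ⊂ L,
and K₁/K a finite separable extension which is totally ramified with respect to A. Then L ⊗_K K₁ is
a field and K₁ is a weak solution for A -> B (the valuation ring of L ⊗_K K₁ over B is weakly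
unramified over that of K₁ over A). -/
theorem result (A B K L : Type u) [CommRing A] [IsDomain A] [IsDiscreteValuationRing A]
    [CommRing B] [IsDomain B] [IsDiscreteValuationRing B] [Algebra A B] [IsLocalHom (algebraMap A B)]
    (hinj : Function.Injective (algebraMap A B))
    [Field K] [Field L] [Algebra A K] [IsFractionRing A K] [Algebra B L] [IsFractionRing B L]
    [Algebra K L] [Algebra A L] [IsScalarTower A K L] [IsScalarTower A B L]
    (hw : EtRam.IsWeaklyUnramified A B) (K₁ : Type u) [Field K₁] [Algebra K K₁] [FiniteDimensional K K₁]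
    [Algebra.IsSeparable K K₁] (ht : EtRam.IsTotallyRamified A ((algebraMap K K₁).comp (algebraMap A K))) :
    IsField (L ⊗[K] K₁) ∧ EtRam.IsWeakSolution B K L K₁ := by
  refine ⟨?_, fun M _ _ _ _ _ _ hgen W hW => (H9Ram.TotRam.compositum hinj hw ht hgen W hW).1⟩
  have : Nontrivial (L ⊗[K] K₁) :=
    (Algebra.TensorProduct.includeLeft_injective (R := K) (S := K) (A := L) (B := K₁)
      (algebraMap K K₁).injective).nontrivial
  obtain ⟨P, hP⟩ := Ideal.exists_maximal (L ⊗[K] K₁)
  let := Ideal.Quotient.field P
  let M := (L ⊗[K] K₁) ⧸ P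
  let : Algebra K₁ M := ((Ideal.Quotient.mk P).comp
    (Algebra.TensorProduct.includeRight : K₁ →ₐ[K] L ⊗[K] K₁).toRingHom).toAlgebra
  have : IsScalarTower K K₁ M := IsScalarTower.of_algebraMap_eq fun c =>
    congrArg (Ideal.Quotient.mk P) (Algebra.TensorProduct.includeRight.commutes c).symm
  have hgen : Algebra.adjoin L (Set.range (algebraMap K₁ M)) = ⊤ := by
    refine eq_top_iff.mpr ?_
    intro x _
    obtain ⟨y, rfl⟩ := Ideal.Quotient.mk_surjective x
    induction y with
    | zero => rw [map_zero]; exact zero_mem _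
    | add x y hx hy => rw [map_add]; exact add_mem (hx trivial) (hy trivial)
    | tmul l c =>
      rw [show Ideal.Quotient.mk P (l ⊗ₜ c) = algebraMap L M l * algebraMap K₁ M c by
        show _ = Ideal.Quotient.mk P (l ⊗ₜ 1) * Ideal.Quotient.mk P (1 ⊗ₜ c)
        rw [← map_mul, Algebra.TensorProduct.tmul_mul_tmul, mul_one, one_mul]]
      exact mul_mem (Subalgebra.algebraMap_mem _ _) (Algebra.subset_adjoin ⟨c, rfl⟩)
  obtain ⟨W, hW⟩ : ∃ W : ValuationSubring M, EtRam.Dominates B ((algebraMap L M).comp (algebraMap B L)) W := by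
    let B' := H12AlgSp.rangeValuationSubring B L
    have hB' : EtRam.Dominates B (algebraMap B L) B' := by
      refine ⟨fun b => ⟨b, rfl⟩, fun b hb => ?_⟩
      show B'.valuation ((⟨algebraMap B L b, ⟨b, rfl⟩⟩ : B') : L) < 1
      rw [← ValuationSubring.valuation_lt_one_iff, IsLocalRing.mem_maximalIdeal]
      intro hu
      obtain ⟨w, hw'⟩ := hu.exists_right_inv
      obtain ⟨c, hc⟩ := w.2
      exact (IsLocalRing.mem_maximalIdeal b).mp hb (IsUnit.of_mul_eq_one c (IsFractionRing.injective B L (by
        rw [map_mul, map_one, hc]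
        exact congrArg Subtype.val hw')))
    obtain ⟨W, hWB⟩ := H9Ram.ValSub.exists_comap_eq (algebraMap L M) B'
    refine ⟨W, fun b => ?_, ?_⟩
    · show algebraMap B L b ∈ W.comap (algebraMap L M)
      rw [← hWB]; exact hB'.1 b
    · rw [hWB] at hB'
      have := H9Ram.Dom.isLocalHom hB'
      exact (H9Ram.Dom.trans (RingHom.codRestrict (algebraMap B L) _ hB'.1)
        (H9Ram.Dom.self (algebraMap L M) W)).2
  obtain ⟨-, hle⟩ := H9Ram.TotRam.compositum hinj hw ht hgen W hW
  let π := (Ideal.Quotient.mkₐ L P).toLinearMap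
  have hπ : Function.Surjective π := Ideal.Quotient.mk_surjective
  have hR : Module.finrank L (L ⊗[K] K₁) = Module.finrank K K₁ := Module.finrank_baseChange
  have hM : Module.finrank L (L ⊗[K] K₁) = Module.finrank L M :=
    le_antisymm (hR.trans_le hle) (LinearMap.finrank_le_finrank_of_surjective hπ)
  exact MulEquiv.isField (Field.toIsField M) (RingEquiv.ofBijective (Ideal.Quotient.mk P)
    ⟨(LinearMap.injective_iff_surjective_of_finrank_eq_finrank hM).mpr hπ, hπ⟩).toMulEquiv

end Groth.Agent.S1984
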