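import Groth.Statements.S19842
import Groth.Agent.H4Rel.LevelCriterion

set_option autoImplicit false
set_option backward.isDefEq.respectTransparency false
set_option linter.style.haveILetI false
set_option synthInstance.maxHeartbeats 400000
set_option maxHeartbeats 1000000
universe u
open QGor

namespace Groth.Agent.S19842

open CategoryTheory AlgebraicGeometry in
/-- (iii) ⇔ (iv): in the same situation — Y → Spec A a proper S₂-morphism to a Noetherian affine base,
of pure relative dimension d, fibres Gorenstein in codimension one, relative canonical sheaf ω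
characterised by the d-dualizing property over A, a point y over t with Y_t ℚ-Gorenstein at y
(w.r.t. its canonical sheaf), m > 0 —, the reflexive power ω^{[m]} is invertible at y if and only if
for every Artinian local ring A', every surjective ring map from the local ring A_t onto A', every
cartesian square Y' → Y over Spec A' → Spec A with projection p, every module ω' with the
d-dualizing property for Y' over A' and every point y' of Y' mapping to y, ω'^{[m]} is invertible at
y'. -/
theorem result
    (A : Type u) [CommRing A] [IsNoetherianRing A] (Y : Scheme.{u}) [Y.Over (Spec (CommRingCat.of A))]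
    [IsProper (Y ↘ Spec (CommRingCat.of A))] (d : ℕ)
    (hS : RelCanon.IsSkMor (Y ↘ Spec (CommRingCat.of A)) 2) (hd : Cyc.HasRelDim (Y ↘ Spec (CommRingCat.of A)) d)
    (ω : Y.Modules) (hω : RelCanon.IsDualizingSheaf A Y d ω)
    (hG : ∀ y : Y, y ∉ RelCanon.gorLocus (Y ↘ Spec (CommRingCat.of A)) →
      (2 : WithBot ℕ∞) ≤ ringKrullDim (((Y ↘ Spec (CommRingCat.of A)).fiber ((Y ↘ Spec (CommRingCat.of A)) y)).presheaf.stalk ((Y ↘ Spec (CommRingCat.of A)).asFiber y)))
    (y : Y) (t : (Spec (CommRingCat.of A))) (ht : (Y ↘ Spec (CommRingCat.of A)) y = t)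
    (hQy : ∀ ωt : ((Y ↘ Spec (CommRingCat.of A)).fiber ((Y ↘ Spec (CommRingCat.of A)) y)).Modules, @RelCanon.IsDualizingSheaf ((Spec (CommRingCat.of A)).residueField ((Y ↘ Spec (CommRingCat.of A)) y)) _ ((Y ↘ Spec (CommRingCat.of A)).fiber ((Y ↘ Spec (CommRingCat.of A)) y)) ⟨(Y ↘ Spec (CommRingCat.of A)).fiberToSpecResidueField ((Y ↘ Spec (CommRingCat.of A)) y)⟩ d ωt → RelCanon.IsQGorWithAt ωt ((Y ↘ Spec (CommRingCat.of A)).asFiber y))
    (m : ℕ) (hm : 0 < m) :
    RelCanon.InvertibleAt (RelCanon.refPowZ ω m) y ↔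
    ∀ (A' : Type u) [CommRing A'] [IsArtinianRing A'] [IsLocalRing A']
      (ψ : Localization.AtPrime t.asIdeal →+* A') (hψ : Function.Surjective ψ)
      (Y' : Scheme.{u}) [Y'.Over (Spec (CommRingCat.of A'))] (p : Y' ⟶ Y)
      (hp : IsPullback p (Y' ↘ Spec (CommRingCat.of A')) (Y ↘ Spec (CommRingCat.of A))
        (Spec.map (CommRingCat.ofHom (ψ.comp (algebraMap A (Localization.AtPrime t.asIdeal))))))
      (ω' : Y'.Modules) (hω' : RelCanon.IsDualizingSheaf A' Y' d ω') (y' : Y') (hy' : p y' = y),
      RelCanon.InvertibleAt (RelCanon.refPowZ ω' m) y' := by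
  subst ht
  rw [← H4Rel.atLevels_iff A Y d _ y (fun A' _ _ Y' _ ω' y' => RelCanon.InvertibleAt (RelCanon.refPowZ ω' m) y')]
  refine ⟨fun h => ?_, H4Rel.invertibleAt_of_levels A Y d hd hω hS hG m y⟩
  intro B _ _ _ φ hφ Y' _ p hp ω' hω' y' hy'
  exact H4Rel.invertibleAt_bc A Y d hd hω hS hG hp hω' m y' (hy'.symm ▸ h)

end Groth.Agent.S19842
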