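import Groth.Statements.S19846
import Groth.Agent.H4Rel.LiftApply

set_option autoImplicit false
set_option backward.isDefEq.respectTransparency false
set_option linter.style.haveILetI false
set_option synthInstance.maxHeartbeats 400000
set_option maxHeartbeats 1000000
universe u
open QGor

namespace Groth.Agent.S19846

open CategoryTheory AlgebraicGeometry in
/-- Let Y → Spec A be a proper S₂-morphism to a Noetherian affine base, of pure relative dimension d,
with relative canonical sheaf ω (characterised by the d-dualizing property over A); let Y° be the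
relative Gorenstein locus, t a point of Spec A and ω_t a d-dualizing module on the fibre Y_t over
κ(t) (its canonical sheaf), with Y_t ℚ-Gorenstein: Gorenstein in codimension one (local rings of Y_t
of dimension ≥ 2 at points outside Y°) and some ω_t^{[r]}, r > 0, invertible at each point. If for
every m ≥ 1 there is a coherent O_Y-module M_m with M_m ⊗ O_{Y_t} ≅ ω_t^{[m]} and M_m|_{Y°} ≅
(ω|_{Y°})^{⊗ m}, then for every m ≥ 0 the reflexive power ω^{[m]} satisfies relative S₂ over the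
base at every point of Y_t. (The printed conclusion is that the morphism is ℚ-Gorenstein along Y_t;
the printed argument establishes the relative S₂ property for the non-negative powers, which is what
is stated.) -/
theorem result
    (A : Type u) [CommRing A] [IsNoetherianRing A] (Y : Scheme.{u}) [Y.Over (Spec (CommRingCat.of A))]
    [IsProper (Y ↘ Spec (CommRingCat.of A))] (d : ℕ)
    (hS : RelCanon.IsSkMor (Y ↘ Spec (CommRingCat.of A)) 2) (hd : Cyc.HasRelDim (Y ↘ Spec (CommRingCat.of A)) d)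
    (ω : Y.Modules) (hω : RelCanon.IsDualizingSheaf A Y d ω)
    (Yo : Y.Opens) (hYo : (Yo : Set Y) = RelCanon.gorLocus (Y ↘ Spec (CommRingCat.of A)))
    (t : (Spec (CommRingCat.of A))) (ωt : ((Y ↘ Spec (CommRingCat.of A)).fiber t).Modules) (hωt : @RelCanon.IsDualizingSheaf ((Spec (CommRingCat.of A)).residueField t) _ ((Y ↘ Spec (CommRingCat.of A)).fiber t) ⟨(Y ↘ Spec (CommRingCat.of A)).fiberToSpecResidueField t⟩ d ωt)
    (hG1 : ∀ y : Y, (Y ↘ Spec (CommRingCat.of A)) y = t → y ∉ Yo → (2 : WithBot ℕ∞) ≤ ringKrullDim (((Y ↘ Spec (CommRingCat.of A)).fiber ((Y ↘ Spec (CommRingCat.of A)) y)).presheaf.stalk ((Y ↘ Spec (CommRingCat.of A)).asFiber y)))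
    (hQ : RelCanon.IsQGorWith ωt)
    (M : ℕ → Y.Modules) (hMc : ∀ m : ℕ, 1 ≤ m → Coh.IsCoh (M m))
    (hMt : ∀ m : ℕ, 1 ≤ m →
      Nonempty ((Scheme.Modules.pullback ((Y ↘ Spec (CommRingCat.of A)).fiberι t)).obj (M m) ≅ RelCanon.refPowZ ωt m))
    (hMo : ∀ m : ℕ, 1 ≤ m → Nonempty ((M m).restrict Yo.ι ≅ CohB1.tensorPow (ω.restrict Yo.ι) m)) :
    ∀ (m : ℕ) (y : Y), (Y ↘ Spec (CommRingCat.of A)) y = t → RelCanon.RelSkAt (Y ↘ Spec (CommRingCat.of A)) 2 (RelCanon.refPowZ ω m) y := by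
  let f := Y ↘ Spec (CommRingCat.of A)
  let V : Y.Opens := ⟨_, H4Rel.isOpen_goodCodim A Y d hd ((Yo : Set Y)ᶜ) Yo.2.isClosed_compl 2⟩
  have hnG : ∀ x : Y, x ∉ Yo ↔ x ∉ RelCanon.gorLocus f := fun x => by rw [← hYo]; rfl
  have hV : ∀ x ∈ V, x ∉ RelCanon.gorLocus f → 2 ≤ H4Rel.fibDim A Y x :=
    fun x hx hxg => hx x rfl ((hnG x).2 hxg) specializes_rfl
  intro m y hy
  have hyV : y ∈ V := fun z hz hz' _ => hG1 z (hz.trans hy) hz'
  haveI := H4Rel.isNoetherian_of_proper A Y
  haveI : Flat f := hS.1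
  rcases Nat.eq_zero_or_pos m with rfl | hm
  · obtain ⟨e⟩ := H4Rel.nonempty_ddual_of_isInvertible (H11Ample.isInvertible_structureModule (X := Y))
    have hinv : PicF.IsInvertible (RelCanon.refPowZ ω ((0 : ℕ) : ℤ)) :=
      H11Tilde.isInvertible_of_iso e.symm (H11Ample.isInvertible_structureModule (X := Y))
    exact H4Rel.relSk_of_isInvertible A Y hS hinv y
  obtain ⟨eM⟩ := hMo m hm
  obtain ⟨eR⟩ := H4Rel.nonempty_restrict_refPowZ Yo ω (m : ℤ)
  have hL : PicF.IsInvertible (ω.restrict Yo.ι) := by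
    obtain rfl : Yo = ⟨_, S3617.result Y _ f⟩ := TopologicalSpace.Opens.ext hYo
    exact H4Rel.isInvertible_restrict_gor A Y d hd hω hS.1
  obtain ⟨eL⟩ := H4Rel.nonempty_ddual_of_isInvertible (H11Ample.isInvertible_tensorPow hL m)
  obtain ⟨et⟩ := hMt m hm
  let K := (Spec (CommRingCat.of A)).residueField t
  letI : (f.fiber t).Over (Spec (CommRingCat.of K)) := ⟨f.fiberToSpecResidueField t⟩
  haveI : IsProper (f.fiber t ↘ Spec (CommRingCat.of K)) :=
    MorphismProperty.pullback_snd (P := @IsProper) _ _ inferInstance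
  have hsq : IsPullback (f.fiberι t) (f.fiber t ↘ Spec (CommRingCat.of K)) f
      ((Spec (CommRingCat.of A)).fromSpecResidueField t) := IsPullback.of_hasPullback _ _
  haveI := H4Rel.isNoetherian_of_proper K (f.fiber t)
  obtain ⟨G, hG, eG⟩ := H4Rel.exists_refPowZ_eq
    (H4Rel.isCoh_and_two_le_depth K (f.fiber t) d (H4Rel.hasRelDim_of_isPullback hsq hd) hωt).1 (m : ℤ)
  obtain ⟨z, rfl⟩ : y ∈ Set.range (f.fiberι t) := by rw [f.range_fiberι]; exact hy
  exact H4Rel.relSkAt_of_lift A Y d hd hω hS V hV (m : ℤ) (M m) (hMc m hm) Yo hYo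
    (eM ≪≫ eL.symm ≪≫ eR.symm) t z hyV G hG (et ≪≫ eqToIso eG)

end Groth.Agent.S19846
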