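import Groth.Statements.S19849
import Groth.Agent.H26Hyper.DR
import Groth.Agent.H26Hyper.Linear
import Groth.Agent.H10Coh.Proper2
import Groth.Agent.H22Alg.ExtPowHom
import Groth.Agent.H29Omega.SheafFinite
import Groth.Agent.S0002

set_option autoImplicit false
universe u
open DeRhamSh

namespace Groth.Agent.S19849

open CategoryTheory CategoryTheory.Limits AlgebraicGeometry TopologicalSpace in
theorem isCoh_term {A : Type u} [CommRing A] [IsNoetherianRing A] {X : Scheme.{u}}
    (f : X ⟶ Spec (CommRingCat.of A)) [IsProper f] (D : DeRhamSh.OmegaCx f) (p : ℕ) : Coh.IsCoh (D.term p) := by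
  refine (H10Coh.isCoh_iff_finite_sections (D.term p)).2
    ⟨H22Alg.ExtPowHom.isQCoh_of_isExtPow (H29Omega.isQCoh_sheaf f) (D.isExtPow p), fun U hU => ?_⟩
  haveI := H29Omega.finite_sections_sheaf f hU (isAffineOpen_top _) (le_top : U ≤ f ⁻¹ᵁ ⊤)
  exact Module.Finite.equiv (D.loc p ⟨U, hU⟩).symm

open CategoryTheory CategoryTheory.Limits AlgebraicGeometry TopologicalSpace in
theorem finite_single {A : Type u} [CommRing A] {X : Scheme.{u}} {f : X ⟶ Spec (CommRingCat.of A)}
    {Ω' : X.Modules} {δ : OmegaSh.Der f Ω'} (D : DeRhamSh.Cx f Ω' δ)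
    (h : KLinDR.TermwiseLinear (Coh.toGlobal f) D.K D.term D.iso)
    [HasDerivedCategory.{u} (Sheaf (Opens.grothendieckTopology X) AddCommGrpCat.{u})] (n : ℤ) (p q : ℕ)
    (hpq : (p : ℤ) + q = n)
    (hfin : letI : X.Over (Spec (CommRingCat.of A)) := ⟨f⟩; Module.Finite A (Coh.HH X (D.term p) q)) :
    Module.Finite A (KLinDR.HTρ (CohCx.freeSheaf (Opens.grothendieckTopology X) ⊤)
      ((HomologicalComplex.single _ (ComplexShape.up ℤ) (p : ℤ)).obj (D.KZ.X (p : ℤ)))
      (H26Hyper.actSingle D.KZ (KLinDR.scalar h) (p : ℤ)) n) := by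
  letI : X.Over (Spec (CommRingCat.of A)) := ⟨f⟩
  let e₂ := E1Deg.freeSheafIsoConstant (Opens.grothendieckTopology X) (isTerminalTop : IsTerminal (⊤ : X.Opens))
  let E : KLinDR.HTρ (CohCx.freeSheaf (Opens.grothendieckTopology X) ⊤)
      ((HomologicalComplex.single _ (ComplexShape.up ℤ) (p : ℤ)).obj (D.KZ.X (p : ℤ)))
      (H26Hyper.actSingle D.KZ (KLinDR.scalar h) (p : ℤ)) n ≃+ Coh.HH X (D.term p) q :=
    (KLinDR.HTρ.toHT.trans (E1Deg.HTsingleEquiv _ _ (p : ℤ) n q hpq)).trans
      ((E1Deg.extCongrRight _ (H26Hyper.kzXIso D p) q).trans (E1Deg.extCongrLeft e₂ _ q))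
  have hE : ∀ (a : A) x, E (a • x) = a • E x := by
    intro a x
    have h1 : ((KLinDR.scalar h a : D.KZ ⟶ D.KZ).f (p : ℤ)) ≫ (H26Hyper.kzXIso D p).hom =
        (H26Hyper.kzXIso D p).hom ≫ Coh.smulAb (D.term p) (Coh.toGlobal f a) := by
      show (KLinDR.scalar h a : D.K.extend ComplexShape.embeddingUpNat ⟶ _).f (p : ℤ) ≫ _ = _
      rw [KLinDR.scalar_f]
      simp [H26Hyper.kzXIso, KLinDR.scalarEnd]
    show (Abelian.Ext.mk₀ e₂.inv).comp
        ((E1Deg.HTsingleEquiv _ _ (p : ℤ) n q hpq (E1Deg.HTmap _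
          ((HomologicalComplex.single _ (ComplexShape.up ℤ) (p : ℤ)).map ((KLinDR.scalar h a : D.KZ ⟶ D.KZ).f (p : ℤ)))
          n (KLinDR.HTρ.toHT x))).comp (Abelian.Ext.mk₀ (H26Hyper.kzXIso D p).hom) (add_zero q)) (zero_add q) =
      ((Abelian.Ext.mk₀ e₂.inv).comp
        ((E1Deg.HTsingleEquiv _ _ (p : ℤ) n q hpq (KLinDR.HTρ.toHT x)).comp
          (Abelian.Ext.mk₀ (H26Hyper.kzXIso D p).hom) (add_zero q)) (zero_add q)).comp
        (Abelian.Ext.mk₀ (Coh.smulAb (D.term p) (Coh.toGlobal f a))) (add_zero q)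
    rw [H26Hyper.HTsingleEquiv_naturality]
    simp only [Abelian.Ext.comp_assoc_of_third_deg_zero, Abelian.Ext.mk₀_comp_mk₀]
    rw [h1]
  let L : KLinDR.HTρ (CohCx.freeSheaf (Opens.grothendieckTopology X) ⊤)
      ((HomologicalComplex.single _ (ComplexShape.up ℤ) (p : ℤ)).obj (D.KZ.X (p : ℤ)))
      (H26Hyper.actSingle D.KZ (KLinDR.scalar h) (p : ℤ)) n ≃ₗ[A] Coh.HH X (D.term p) q :=
    { E with map_smul' := hE }
  exact Module.Finite.equiv L.symm

open CategoryTheory AlgebraicGeometry TopologicalSpace in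
/-- Let A be a Noetherian ring and f : X → Spec A a proper morphism; let D be a de Rham complex of the
sheaf of differentials of f whose differentials are A-linear for the action of A through f. Then for
every integer i the algebraic de Rham cohomology H^i_dR(X/A) = H^i(X, D), as an A-module, is
finitely generated. (The A-linearity of the differentials holds for the de Rham complex and is
carried as a hypothesis because the complex is given by its characterising data.) -/
theorem result (A : Type u) [CommRing A] [IsNoetherianRing A] (X : Scheme.{u})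
    (f : X ⟶ Spec (CommRingCat.of A)) [IsProper f]
    (D : DeRhamSh.OmegaCx f)
    (h : KLinDR.TermwiseLinear (Coh.toGlobal f) D.K D.term D.iso)
    [HasDerivedCategory.{u} (Sheaf (Opens.grothendieckTopology X) AddCommGrpCat.{u})] (i : ℤ) :
    Module.Finite A (KLinDR.HdR (Coh.toGlobal f) D h i) := by
  refine H26Hyper.finite_HTρ (T := CohCx.freeSheaf (Opens.grothendieckTopology X) ⊤) D.KZ (KLinDR.scalar h) 0 i
    (fun m hm => H26Hyper.isZero_KZ_neg D hm) fun p q hpq hp => ?_
  obtain ⟨p, rfl⟩ := Int.eq_ofNat_of_zero_le hp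
  refine finite_single D h i p q hpq ?_
  letI : X.Over (Spec (CommRingCat.of A)) := ⟨f⟩
  haveI : IsProper (X ↘ Spec (CommRingCat.of A)) := ‹IsProper f›
  exact Groth.Agent.S0002.result A X (D.term p) (isCoh_term f D p) q

end Groth.Agent.S19849
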