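import Groth.Statements.S9635
import Groth.Agent.H06Red.Algebra

set_option autoImplicit false
universe u
open CAlg

namespace Groth.Agent.S9635

open TensorProduct in
/-- `K ⊗[k] k'` is reduced for a separable algebraic extension `k'/k`. -/
theorem isReduced_tensor_separable {k k' : Type u} [Field k] [Field k'] [Algebra k k']
    [Algebra.IsSeparable k k'] (K : Type u) [Field K] [Algebra k K] : IsReduced (K ⊗[k] k') := by
  refine H06Red.isReduced_of_subalgebras k K k' fun C _ _ hC f hf => ?_
  haveI : IsDomain C := hf.isDomain f.toRingHom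
  haveI : Algebra.IsIntegral k C :=
    ⟨fun x => (isIntegral_algHom_iff f hf).1 (Algebra.IsIntegral.isIntegral (f x))⟩
  letI : Field C := (isField_of_isIntegral_of_isField' (Field.toIsField k) : IsField C).toField
  haveI : Module.Finite k C := Algebra.IsIntegral.finite
  haveI : Algebra.IsSeparable k C :=
    ⟨fun x => IsSeparable.of_algHom f (Algebra.IsSeparable.isSeparable k (f x))⟩
  haveI : Algebra.FormallyUnramified k C := Algebra.FormallyUnramified.of_isSeparable k C
  exact Algebra.FormallyUnramified.isReduced_of_field K _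

open Polynomial in
/-- If `a`, `b` are roots of a separable polynomial and `a` lies in a field mapping to `T`, then
`a - b` generates an ideal generated by an idempotent. -/
theorem exists_sub_eq_sq_mul {F T : Type*} [Field F] [CommRing T] (g : Polynomial F)
    (hg : g.Separable) (a : F) (ha : g.eval a = 0) (i : F →+* T) (t : T)
    (ht : (g.map i).eval t = 0) : ∃ v, t - i a = (t - i a) ^ 2 * v := by
  obtain ⟨h, rfl⟩ := dvd_iff_isRoot.mpr ha
  have hha : h.eval a ≠ 0 := by
    intro h0
    obtain ⟨u, v, huv⟩ := hg
    have := congrArg (Polynomial.eval a) huv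
    simp [h0, derivative_mul] at this
  have h1 : (h.map i).eval (i a) = i (h.eval a) := by rw [eval_map, eval₂_hom]
  obtain ⟨u, hu⟩ := Polynomial.sub_dvd_eval_sub t (i a) (h.map i)
  rw [Polynomial.map_mul, eval_mul, Polynomial.map_sub, map_X, map_C, eval_sub, eval_X, eval_C]
    at ht
  refine ⟨-(u * i (h.eval a)⁻¹), ?_⟩
  have h2 : i (h.eval a) * i (h.eval a)⁻¹ = 1 := by rw [← map_mul, mul_inv_cancel₀ hha, map_one]
  rw [h1] at hu
  linear_combination (i (h.eval a)⁻¹) * ht - (t - i a) * h2 - (t - i a) * i (h.eval a)⁻¹ * hu

open TensorProduct in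
/-- Let k ⊆ k' be fields with k' separable algebraic over k, and A a k'-algebra. Then A is geometrically
reduced over k (K ⊗_k A reduced for all field extensions K/k) if and only if A is geometrically
reduced over k' (K ⊗_{k'} A reduced for all field extensions K/k'). Here the test fields K range
over field extensions (of k, respectively of k') in the common universe of k and k'; this is
equivalent to the unrestricted notions, since an algebraic closure of the base field suffices as a
test. -/
theorem result {k k' A : Type u} [Field k] [Field k'] [Algebra k k'] [Algebra.IsSeparable k k'] [CommRing A] [Algebra k' A] [Algebra k A] [IsScalarTower k k' A] :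
    (∀ (K : Type u) [Field K] [Algebra k K], IsReduced (K ⊗[k] A)) ↔
      ∀ (K : Type u) [Field K] [Algebra k' K], IsReduced (K ⊗[k'] A) := by
  constructor
  · intro hA K _ _
    letI : Algebra k K := ((algebraMap k' K).comp (algebraMap k k')).toAlgebra
    haveI : IsScalarTower k k' K := IsScalarTower.of_algebraMap_eq fun _ => rfl
    haveI := hA K
    let T := K ⊗[k] A
    let iK : K →+* T := Algebra.TensorProduct.includeLeftRingHom
    let iA : A →ₐ[k] T := Algebra.TensorProduct.includeRight
    let D : k' → T := fun l => iA (algebraMap k' A l) - iK (algebraMap k' K l)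
    let J : Ideal T := Ideal.span (Set.range D)
    let φ : T →ₐ[k] K ⊗[k'] A :=
      Algebra.TensorProduct.lift (Algebra.TensorProduct.includeLeft : K →ₐ[k] K ⊗[k'] A)
        ((Algebra.TensorProduct.includeRight : A →ₐ[k'] K ⊗[k'] A).restrictScalars k)
        (fun _ _ => Commute.all _ _)
    have hφ : ∀ (c : K) (a : A), φ (c ⊗ₜ[k] a) = c ⊗ₜ[k'] a := fun c a => by
      change (c ⊗ₜ[k'] (1 : A)) * ((1 : K) ⊗ₜ[k'] a) = _
      rw [Algebra.TensorProduct.tmul_mul_tmul, mul_one, one_mul]
    have hiK : ∀ c : K, iK c = c ⊗ₜ[k] (1 : A) := fun _ => rfl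
    have hiA : ∀ a : A, iA a = (1 : K) ⊗ₜ[k] a := fun _ => rfl
    have hkey : ∀ z ∈ J, ∃ e ∈ J, e * e = e ∧ z = e * z := by
      intro z hz
      refine Submodule.span_induction ?_ ⟨0, J.zero_mem, by simp, by simp⟩ ?_ ?_ hz
      · rintro _ ⟨l, rfl⟩
        obtain ⟨v, hv⟩ := exists_sub_eq_sq_mul ((minpoly k l).map (algebraMap k K))
          (Polynomial.Separable.map (Algebra.IsSeparable.isSeparable k l)) (algebraMap k' K l)
          (by rw [Polynomial.eval_map, ← Polynomial.aeval_def, Polynomial.aeval_algebraMap_apply,
            minpoly.aeval, map_zero])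
          iK (iA (algebraMap k' A l))
          (by
            rw [Polynomial.map_map, show iK.comp (algebraMap k K) = algebraMap k T from
                (Algebra.TensorProduct.includeLeft : K →ₐ[k] T).comp_algebraMap,
              Polynomial.eval_map, ← Polynomial.aeval_def, Polynomial.aeval_algHom_apply,
              Polynomial.aeval_algebraMap_apply, minpoly.aeval, map_zero, map_zero])
        refine ⟨D l * v, J.mul_mem_right _ (Ideal.subset_span ⟨l, rfl⟩), ?_, ?_⟩
        · linear_combination (-v) * hv
        · linear_combination hv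
      · rintro x y - - ⟨e, he, hee, hx⟩ ⟨e', he', hee', hy⟩
        refine ⟨e + e' - e * e', J.sub_mem (J.add_mem he he') (J.mul_mem_right _ he), ?_, ?_⟩
        · linear_combination (1 - 2 * e' + e' * e') * hee + (1 - e) * hee'
        · linear_combination (1 - e') * hx + (1 - e) * hy
      · rintro c x - ⟨e, he, hee, hx⟩
        refine ⟨e, he, hee, ?_⟩
        rw [smul_eq_mul]
        linear_combination c * hx
    let f : K →+ A →+ T ⧸ J :=
      AddMonoidHom.mk' (fun c => AddMonoidHom.mk' (fun a => Ideal.Quotient.mk J (c ⊗ₜ[k] a))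
        (fun a a' => by rw [TensorProduct.tmul_add, map_add]))
        (fun c c' => by ext a; simp [TensorProduct.add_tmul])
    have hf : ∀ (r : k') (c : K) (a : A), f (r • c) a = f c (r • a) := by
      intro r c a
      rw [eq_comm]
      change Ideal.Quotient.mk J (c ⊗ₜ[k] (r • a)) = Ideal.Quotient.mk J ((r • c) ⊗ₜ[k] a)
      rw [Ideal.Quotient.eq]
      have : c ⊗ₜ[k] (r • a) - (r • c) ⊗ₜ[k] a = (c ⊗ₜ[k] a) * D r := by
        simp [D, hiA, hiK, mul_sub, Algebra.smul_def, mul_comm]
      rw [this]
      exact J.mul_mem_left _ (Ideal.subset_span ⟨r, rfl⟩)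
    have hψ : ∀ z : T, TensorProduct.liftAddHom f hf (φ z) = Ideal.Quotient.mk J z := by
      intro z
      induction z using TensorProduct.induction_on with
      | zero => simp
      | tmul c a => rw [hφ, TensorProduct.liftAddHom_tmul]; rfl
      | add x y hx hy => rw [map_add, map_add, map_add, hx, hy]
    have hsurj : ∀ y, ∃ x, φ x = y := by
      intro y
      induction y using TensorProduct.induction_on with
      | zero => exact ⟨0, map_zero φ⟩
      | tmul c a => exact ⟨c ⊗ₜ a, hφ c a⟩
      | add x y hx hy =>
        obtain ⟨c, rfl⟩ := hx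
        obtain ⟨s, rfl⟩ := hy
        exact ⟨c + s, map_add φ c s⟩
    refine ⟨fun y ⟨n, hn⟩ => ?_⟩
    obtain ⟨x, rfl⟩ := hsurj y
    have hxJ : x ^ n ∈ J := by
      rw [← Ideal.Quotient.eq_zero_iff_mem, ← hψ, map_pow, hn, map_zero]
    obtain ⟨e, he, hee, hxe⟩ := hkey _ hxJ
    have h1 : (1 - e) * x = 0 := by
      refine IsReduced.eq_zero _ ⟨n + 1, ?_⟩
      rw [mul_pow, pow_succ x n, pow_succ (1 - e) n]
      linear_combination ((1 - e) ^ n * x) * hxe
    have h2 : φ e = 0 := by
      refine Submodule.span_induction ?_ (map_zero φ) (fun a b _ _ ha hb => by rw [map_add, ha, hb, add_zero])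
        (fun c a _ ha => by rw [smul_eq_mul, map_mul, ha, mul_zero]) he
      rintro _ ⟨l, rfl⟩
      rw [show D l = (1 : K) ⊗ₜ[k] algebraMap k' A l - algebraMap k' K l ⊗ₜ[k] (1 : A) from rfl,
        map_sub, hφ, hφ, Algebra.algebraMap_eq_smul_one (A := A) l, Algebra.algebraMap_eq_smul_one (A := K) l,
        TensorProduct.smul_tmul, sub_self]
    have : x = e * x := by linear_combination h1
    rw [this, map_mul, h2, zero_mul]
  · intro hA K _ _
    haveI : Algebra.IsGeometricallyReduced k' A := by
      rw [Algebra.isGeometricallyReduced_field_iff]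
      exact hA _
    haveI := isReduced_tensor_separable (k := k) (k' := k') K
    haveI : IsReduced (k' ⊗[k] K) :=
      H06Red.isReduced_comm k K k' inferInstance
    haveI := H06Red.isReduced_tensor k' A (k' ⊗[k] K)
    exact H06Red.isReduced_comm k A K (isReduced_of_injective
      (Algebra.TensorProduct.cancelBaseChange k k' k' A K).symm.toRingEquiv.toRingHom
      (Algebra.TensorProduct.cancelBaseChange k k' k' A K).symm.injective)

end Groth.Agent.S9635
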