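import Groth.Statements.S1985
import Groth.Agent.H05EGA4.DimOneN2
import Groth.Agent.H17.NagataNorm
import Groth.Agent.S9635

set_option autoImplicit false
universe u
open EtAlg

namespace Groth.Agent.S1985

open TensorProduct in
/-- Finiteness of the integral closure in a finite extension descends along a separable extension of
discrete valuation rings to a Nagata one. -/
theorem finite_integralClosure (A B K L : Type u) [CommRing A] [IsDomain A] [IsDiscreteValuationRing A]
    [CommRing B] [IsDomain B] [IsDiscreteValuationRing B] [Algebra A B] [IsLocalHom (algebraMap A B)]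
    (hinj : Function.Injective (algebraMap A B))
    [Field K] [Field L] [Algebra A K] [IsFractionRing A K] [Algebra B L] [IsFractionRing B L]
    [Algebra K L] [Algebra A L] [IsScalarTower A K L] [IsScalarTower A B L] [Algebra.IsSeparable K L]
    (hB : CAlg.IsNagata B)
    (K' : Type u) [Field K'] [Algebra A K'] [Algebra K K'] [IsScalarTower A K K'] [FiniteDimensional K K'] :
    Module.Finite A (integralClosure A K') := by
  haveI : FaithfulSMul A B := (faithfulSMul_iff_algebraMap_injective A B).2 hinj
  haveI : Module.IsTorsionFree A B := inferInstance
  haveI : Module.FaithfullyFlat A B := Module.FaithfullyFlat.of_flat_of_isLocalHom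
  haveI : Module.Flat A K := IsLocalization.flat K (nonZeroDivisors A)
  haveI : Module.Flat A K' := Module.Flat.trans A K K'
  let C := integralClosure A K'
  let D := L ⊗[K] K'
  haveI : IsReduced (K' ⊗[K] L) := Groth.Agent.S9635.isReduced_tensor_separable K'
  haveI : IsReduced D :=
    isReduced_of_injective (Algebra.TensorProduct.comm K L K').toRingHom (Algebra.TensorProduct.comm K L K').injective
  haveI : IsArtinianRing D := isArtinian_of_tower L (inferInstanceAs (IsArtinian L D))
  haveI : Module.Finite B (integralClosure B D) := by
    refine Groth.Agent.H17.NagataNorm.finite_integralClosure_of_jointly_injective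
      (ι := MaximalSpectrum D) B D hB (fun i => IsLocalRing.ResidueField (Localization.AtPrime i.asIdeal))
      (fun i => (IsLocalRing.residue _).comp (algebraMap D _)) (fun i => ?_) (fun a ha => ?_)
    · rw [RingHom.comp_assoc]
      refine RingHom.EssFiniteType.comp (RingHom.EssFiniteType.comp ?_ ?_)
        (RingHom.FiniteType.of_surjective _ IsLocalRing.residue_surjective).essFiniteType
      · haveI : Algebra.EssFiniteType B L := Algebra.EssFiniteType.of_isLocalization L (nonZeroDivisors B)
        haveI : Algebra.EssFiniteType B D := Algebra.EssFiniteType.comp B L D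
        exact RingHom.essFiniteType_algebraMap.mpr inferInstance
      · exact RingHom.essFiniteType_algebraMap.mpr
          (Algebra.EssFiniteType.of_isLocalization _ i.asIdeal.primeCompl)
    · have hnil : IsNilpotent a := by
        rw [nilpotent_iff_mem_prime]
        intro P hP
        haveI := IsArtinianRing.isMaximal_of_isPrime P
        have h := ha ⟨P, inferInstance⟩
        rw [RingHom.comp_apply, IsLocalRing.residue_eq_zero_iff,
          IsLocalization.AtPrime.to_map_mem_maximal_iff _ P] at h
        exact h
      exact hnil.eq_zero
  let f : B ⊗[A] C →ₐ[B] D :=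
    Algebra.TensorProduct.lift (IsScalarTower.toAlgHom B L D |>.comp (Algebra.ofId B L))
      (((Algebra.TensorProduct.includeRight : K' →ₐ[K] D).restrictScalars A).comp C.val)
      (fun _ _ => Commute.all _ _)
  have hf : Function.Injective f := by
    haveI : Module.Flat A L := Module.Flat.trans A K L
    let g : B ⊗[A] C →ₗ[A] L ⊗[A] K' :=
      TensorProduct.map (IsScalarTower.toAlgHom A B L).toLinearMap C.val.toLinearMap
    have hg : Function.Injective g := by
      have h : g = ((IsScalarTower.toAlgHom A B L).toLinearMap.rTensor K').comp (C.val.toLinearMap.lTensor B) := by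
        rw [LinearMap.rTensor_comp_lTensor]
      rw [h]
      exact (Module.Flat.rTensor_preserves_injective_linearMap _ (IsFractionRing.injective B L)).comp
        (Module.Flat.lTensor_preserves_injective_linearMap _ Subtype.val_injective)
    haveI : IsLocalizedModule (nonZeroDivisors A) (Algebra.linearMap A K) := inferInstance
    haveI : TensorProduct.CompatibleSMul A K L K' :=
      IsLocalization.tensorProduct_compatibleSMul (nonZeroDivisors A) K L K'
    let e : D ≃ₗ[K] L ⊗[A] K' := TensorProduct.equivOfCompatibleSMul A K K L K'
    have hfg : ∀ z, e (f z) = g z := by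
      intro z
      induction z with
      | zero => simp
      | add x y hx hy => rw [map_add, map_add, map_add, hx, hy]
      | tmul b c =>
        change e ((algebraMap B L b ⊗ₜ[K] (1 : K')) * ((1 : L) ⊗ₜ[K] (c : K'))) = _
        rw [Algebra.TensorProduct.tmul_mul_tmul, mul_one, one_mul]
        rfl
    exact fun x y h => hg (by rw [← hfg, ← hfg, h])
  have hmem : ∀ z, f z ∈ integralClosure B D := by
    intro z
    induction z with
    | zero => rw [map_zero]; exact zero_mem _
    | add x y hx hy => rw [map_add]; exact add_mem hx hy
    | tmul b c =>
      have hc : f (b ⊗ₜ[A] c) = b • f (1 ⊗ₜ[A] c) := by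
        rw [← map_smul, TensorProduct.smul_tmul', smul_eq_mul, mul_one]
      rw [hc]
      refine Subalgebra.smul_mem _ ?_ b
      exact ((c.2.map (((Algebra.TensorProduct.includeRight : K' →ₐ[K] D).restrictScalars A))).tower_top :
        IsIntegral B _) |> fun h => by simpa [f, mem_integralClosure_iff] using h
  let f' : B ⊗[A] C →ₗ[B] integralClosure B D :=
    LinearMap.codRestrict (Subalgebra.toSubmodule (integralClosure B D)) f.toLinearMap hmem
  haveI : Module.Finite B (B ⊗[A] C) :=
    Module.Finite.of_injective f' fun x y h => hf (congrArg Subtype.val h)
  exact Module.Finite.of_finite_tensorProduct_of_faithfullyFlat B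

/-- Let A -> B be an extension of discrete valuation rings whose extension of fraction fields L/K is
separable. If B is a Nagata ring then so is A. -/
theorem result (A B K L : Type u) [CommRing A] [IsDomain A] [IsDiscreteValuationRing A]
    [CommRing B] [IsDomain B] [IsDiscreteValuationRing B] [Algebra A B] [IsLocalHom (algebraMap A B)]
    (hinj : Function.Injective (algebraMap A B))
    [Field K] [Field L] [Algebra A K] [IsFractionRing A K] [Algebra B L] [IsFractionRing B L]
    [Algebra K L] [Algebra A L] [IsScalarTower A K L] [IsScalarTower A B L] [Algebra.IsSeparable K L] (hB : CAlg.IsNagata B) :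
    CAlg.IsNagata A := by
  refine Groth.Agent.H05EGA4.DimOneN2.isNagata_of_isN2
    (IsPrincipalIdealRing.ringKrullDim_eq_one A (IsDiscreteValuationRing.not_isField A)) fun K' _ _ _ _ hfin => ?_
  let e := FractionRing.algEquiv A K
  letI : Algebra K K' := ((algebraMap (FractionRing A) K').comp e.symm.toRingHom).toAlgebra
  haveI : IsScalarTower A K K' := IsScalarTower.of_algebraMap_eq fun a => by
    change _ = algebraMap (FractionRing A) K' (e.symm (algebraMap A K a))
    rw [e.symm.commutes, ← IsScalarTower.algebraMap_apply]
  letI : Algebra K (FractionRing A) := e.symm.toRingHom.toAlgebra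
  haveI : IsScalarTower K (FractionRing A) K' := IsScalarTower.of_algebraMap_eq fun _ => rfl
  haveI : Module.Finite K (FractionRing A) :=
    Module.Finite.of_surjective (Algebra.linearMap K _) e.symm.surjective
  haveI : FiniteDimensional (FractionRing A) K' := hfin
  haveI : FiniteDimensional K K' := Module.Finite.trans (FractionRing A) K'
  exact finite_integralClosure A B K L hinj hB K'

end Groth.Agent.S1985
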