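import Groth.Statements.S19856
import Mathlib.RingTheory.IntegralDomain
import Mathlib.RingTheory.RegularLocalRing.Defs
import Mathlib.RingTheory.SimpleRing.Principal
import Mathlib.Tactic.Ring

set_option autoImplicit false
universe u v
open CAlg

namespace Groth.Agent.S19856

/-- Ring-level form: let O be a discrete valuation ring and G a finite group acting faithfully on O by
ring automorphisms, such that every element of G acts trivially on the residue field of O (that is,
g • a - a lies in the maximal ideal for all a) and such that the order of G is nonzero in the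
residue field of O. Then G is cyclic. (The source states this for a finite group of order invertible
in an algebraically closed field k acting faithfully on a smooth connected k-variety and the
subgroup of elements fixing pointwise a codimension-one irreducible component of the ramification
locus, applied to the local ring at the generic point of that component; it is stated here for an
arbitrary discrete valuation ring with a faithful action. The source also shows that this subgroup
is nontrivial; that geometric part is not stated.) -/
theorem result
    (O : Type u) [CommRing O] [IsDomain O] [IsDiscreteValuationRing O]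
    (G : Type v) [Group G] [Finite G] [MulSemiringAction G O] [FaithfulSMul G O]
    (htriv : ∀ (g : G) (a : O), g • a - a ∈ IsLocalRing.maximalIdeal O)
    (hcard : ((Nat.card G : ℕ) : IsLocalRing.ResidueField O) ≠ 0) :
    IsCyclic G := by
  classical
  obtain ⟨π, hπ⟩ := IsDiscreteValuationRing.exists_irreducible O
  have hm : IsLocalRing.maximalIdeal O = Ideal.span {π} := hπ.maximalIdeal_eq
  let res := IsLocalRing.residue O
  have hres : ∀ (g : G) (a : O), res (g • a) = res a := fun g a ↦ Ideal.Quotient.eq.mpr (htriv g a)
  have hex : ∀ g : G, ∃ u : O, g • π = u * π := fun g ↦ by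
    have h : g • π ∈ Ideal.span {π} := by
      rw [← hm, ← Ideal.Quotient.eq_zero_iff_mem]
      show res (g • π) = 0
      rw [hres]
      exact Ideal.Quotient.eq_zero_iff_mem.mpr (hm ▸ Ideal.mem_span_singleton_self π)
    obtain ⟨u, hu⟩ := Ideal.mem_span_singleton'.mp h
    exact ⟨u, hu.symm⟩
  choose u hu using hex
  let θ : G →* IsLocalRing.ResidueField O :=
    { toFun := fun g ↦ res (u g)
      map_one' := by
        have h1 := hu 1
        rw [one_smul] at h1
        rw [show u 1 = 1 from mul_right_cancel₀ hπ.ne_zero (by rw [← h1, one_mul]), map_one]
      map_mul' := fun g h ↦ by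
        have h1 : u (g * h) * π = (g • u h) * (u g) * π := by
          rw [← hu, mul_smul, hu h, smul_mul', hu g]; ring
        rw [mul_right_cancel₀ hπ.ne_zero h1, map_mul, hres, mul_comm] }
  have hker : ∀ g, θ g = 1 → g = 1 := by
    intro g hg
    refine FaithfulSMul.eq_of_smul_eq_smul (α := O) fun a ↦ ?_
    rw [one_smul, ← sub_eq_zero]
    have hfix : ∀ i, ∀ d ∈ IsLocalRing.maximalIdeal O ^ i, g • d - d ∈ IsLocalRing.maximalIdeal O ^ (i + 1) := by
      intro i d hd
      rw [hm, Ideal.span_singleton_pow, Ideal.mem_span_singleton'] at hd
      obtain ⟨c, rfl⟩ := hd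
      rw [smul_mul', smul_pow', hu, mul_pow,
        show g • c * (u g ^ i * π ^ i) - c * π ^ i = (g • c * u g ^ i - c) * π ^ i by ring, hm, pow_succ',
        Ideal.span_singleton_pow]
      refine Ideal.mul_mem_mul ?_ (Ideal.mem_span_singleton_self _)
      rw [← hm, ← Ideal.Quotient.eq_zero_iff_mem]
      show res (g • c * u g ^ i - c) = 0
      rw [map_sub, map_mul, map_pow, hres, show res (u g) = 1 from hg, one_pow, mul_one, sub_self]
    have hall : ∀ i, ∀ a : O, g • a - a ∈ IsLocalRing.maximalIdeal O ^ i := by
      intro i
      induction i with
      | zero => simp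
      | succ i ih =>
        intro a
        have hk : ∀ k : ℕ, (g ^ k) • a - a - k • (g • a - a) ∈ IsLocalRing.maximalIdeal O ^ (i + 1) := by
          intro k
          induction k with
          | zero => simp
          | succ k hk =>
            have h1 := hfix i _ (ih a)
            have h2 : g • ((g ^ k) • a - a - k • (g • a - a)) ∈ IsLocalRing.maximalIdeal O ^ (i + 1) := by
              have h3 := hfix (i + 1) _ hk
              simpa using add_mem (Ideal.pow_le_pow_right (Nat.le_succ _) h3) hk
            rw [smul_sub, smul_sub, ← mul_smul, ← pow_succ', smul_comm g k (g • a - a)] at h2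
            have h4 := add_mem h2 (nsmul_mem h1 k)
            have e : (g ^ (k + 1)) • a - a - (k + 1) • (g • a - a) =
                (g ^ (k + 1) • a - g • a - k • g • (g • a - a)) + k • (g • (g • a - a) - (g • a - a)) := by
              rw [smul_sub k (g • (g • a - a)) (g • a - a), succ_nsmul]; abel
            rw [e]; exact h4
        have h5 := hk (Nat.card G)
        rw [pow_card_eq_one', one_smul, sub_self, zero_sub, neg_mem_iff, nsmul_eq_mul] at h5
        have hun : IsUnit ((Nat.card G : ℕ) : O) := by
          rw [← IsLocalRing.residue_ne_zero_iff_isUnit, map_natCast]; exact hcard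
        exact (Ideal.unit_mul_mem_iff_mem _ hun).mp h5
    have h0 : g • a - a ∈ (⨅ i, IsLocalRing.maximalIdeal O ^ i : Ideal O) :=
      Submodule.mem_iInf _ |>.mpr fun i ↦ hall i a
    rwa [Ideal.iInf_pow_eq_bot_of_isLocalRing _ (IsLocalRing.maximalIdeal.isMaximal O).ne_top,
      Ideal.mem_bot] at h0
  exact isCyclic_of_injective_ringHom θ ((injective_iff_map_eq_one θ).mpr hker)

end Groth.Agent.S19856
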