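import Groth.Statements.S19857
import Groth.Agent.H9CI.SyntomicScheme
import Groth.Agent.H9CI.SmoothGraph
-- import your own Groth.Agent.* helpers here

set_option autoImplicit false
universe u
open Synt

namespace Groth.Agent.S19857

open CategoryTheory AlgebraicGeometry in
/-- Let S be a scheme, p : X ⟶ S and q : Y ⟶ S smooth morphisms and f : X ⟶ Y a morphism over S (f ≫ q =
p) which is flat. Then f is syntomic (affine-locally given by flat ring maps of finite presentation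
whose fibres are local complete intersections). -/
theorem result {X Y S : Scheme.{u}}
    (p : X ⟶ S) (q : Y ⟶ S) [Smooth p] [Smooth q] (f : X ⟶ Y) (hf : f ≫ q = p) [Flat f] :
    Synt.IsSyntomicMor f := by
  intro x
  obtain ⟨W, hW, V, hV, hyV, e, hstd⟩ := Smooth.exists_isStandardSmooth q (f x)
  obtain ⟨U, (hU : IsAffineOpen U), hxU, hUV⟩ := TopologicalSpace.Opens.isBasis_iff_nbhd.mp X.isBasis_affineOpens
    (show x ∈ f ⁻¹ᵁ V from hyV)
  refine ⟨⟨U, hU⟩, ⟨V, hV⟩, hUV, hxU, ?_⟩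
  have epW : U ≤ p ⁻¹ᵁ W := by
    rw [← hf, Scheme.Hom.comp_preimage]
    exact hUV.trans (f.preimage_mono e)
  letI algRA := (q.appLE W V e).hom.toAlgebra
  letI algAB := (f.appLE V U hUV).hom.toAlgebra
  letI algRB := (p.appLE W U epW).hom.toAlgebra
  haveI : IsScalarTower Γ(S, W) Γ(Y, V) Γ(X, U) := IsScalarTower.of_algebraMap_eq' (by
    show (p.appLE W U epW).hom = (f.appLE V U hUV).hom.comp (q.appLE W V e).hom
    rw [← CommRingCat.hom_comp, Scheme.Hom.appLE_comp_appLE]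
    subst hf
    rfl)
  haveI : Algebra.IsStandardSmooth Γ(S, W) Γ(Y, V) := hstd
  haveI : Algebra.Smooth Γ(S, W) Γ(X, U) := HasRingHomProperty.appLE @Smooth p inferInstance ⟨W, hW⟩ ⟨U, hU⟩ epW
  haveI : Module.Flat Γ(Y, V) Γ(X, U) := HasRingHomProperty.appLE @Flat f inferInstance ⟨V, hV⟩ ⟨U, hU⟩ hUV
  obtain ⟨ι, σ, _, _, ⟨P⟩⟩ := Algebra.IsStandardSmooth.out (R := Γ(S, W)) (S := Γ(Y, V))
  haveI : Algebra.IsStandardSmoothOfRelativeDimension P.dimension Γ(S, W) Γ(Y, V) := ⟨ι, σ, _, inferInstance, ⟨P, rfl⟩⟩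
  exact H9CI.isSyntomic_of_flat_smooth (R := Γ(S, W)) P.dimension

end Groth.Agent.S19857
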