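import Groth.Statements.S19860
import Groth.Agent.H22Alg.HilbertFlat

set_option autoImplicit false
universe u
open CategoryTheory CategoryTheory.Limits AlgebraicGeometry
open Variety

namespace Groth.Agent.S19860

/-- Let A be a Noetherian local integral domain, f : X ⟶ Spec A a proper morphism, L an invertible
O_X-module ample relative to f and F a coherent O_X-module. Then F is flat over Spec A if and only
if the Hilbert polynomials of F on the generic fibre and on the closed fibre coincide: for every n ≥
0 the Euler characteristic, over the fraction field, of the pullback of F ⊗ L^{⊗n} to the fibre over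
the generic point equals the Euler characteristic, over the residue field, of its pullback to the
fibre over the closed point. (The source works with k-schemes of finite type over an algebraically
closed field of characteristic zero, A a local integral k-algebra and f projective with a relatively
very ample O(1); the argument uses only that A is a Noetherian local domain and that some power of L
is relatively very ample, so it is stated here for proper f with an f-ample L and no base field.) -/
theorem result
    (A : Type u) [CommRing A] [IsDomain A] [IsNoetherianRing A] [IsLocalRing A]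
    (X : Scheme.{u}) (f : X ⟶ Spec (CommRingCat.of A)) [IsProper f]
    (L : X.Modules) (hL : RelAmple.IsRelAmple f L) (F : X.Modules) (hF : Coh.IsCoh F) :
    FlatMod.IsFlatOver f F ↔
      ∀ n : ℕ,
        @Curv2.euler ((Spec (CommRingCat.of A)).residueField (⊥ : PrimeSpectrum A)) _ (f.fiber (⊥ : PrimeSpectrum A))
          ⟨f.fiberToSpecResidueField (⊥ : PrimeSpectrum A)⟩
          ((Scheme.Modules.pullback (f.fiberι (⊥ : PrimeSpectrum A))).obj (CohB1.tensorMod F (CohB1.tensorPow L n))) =
        @Curv2.euler ((Spec (CommRingCat.of A)).residueField (IsLocalRing.closedPoint A)) _ (f.fiber (IsLocalRing.closedPoint A))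
          ⟨f.fiberToSpecResidueField (IsLocalRing.closedPoint A)⟩
          ((Scheme.Modules.pullback (f.fiberι (IsLocalRing.closedPoint A))).obj (CohB1.tensorMod F (CohB1.tensorPow L n))) := by
  constructor
  · intro hfl n
    obtain ⟨U, hU, h⟩ := H22Alg.HilbertFlat.exists_nhd_fibEuler_eq f (H11Ample.isInvertible_of_isRelAmple hL) hF hfl
      (IsLocalRing.closedPoint A : PrimeSpectrum A)
    refine h _ ?_ n
    exact ((PrimeSpectrum.le_iff_specializes (⊥ : PrimeSpectrum A) (IsLocalRing.closedPoint A)).1 bot_le).mem_open
      U.2 hU
  · intro h
    letI : X.Over (Spec (CommRingCat.of A)) := ⟨f⟩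
    haveI : IsProper (X ↘ Spec (CommRingCat.of A)) := inferInstanceAs (IsProper f)
    have hA : CohB1.IsAmple L := (H11Ample.ampleOn_top_iff L).1
      ((H11Ample.isAmple_restrict_iff L (f ⁻¹ᵁ ⊤)).1 (hL.2 ⟨⊤, isAffineOpen_top _⟩))
    refine H22Alg.HilbertFlat.isFlatOver_of_euler_eq hA F hF fun q hq n => ?_
    have hq' : q = ⊥ := PrimeSpectrum.ext (by rwa [IsDomain.minimalPrimes_eq_singleton_bot, Set.mem_singleton_iff] at hq)
    subst hq'
    exact h n

end Groth.Agent.S19860
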