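import Groth.Statements.S19863
import Mathlib
import Groth.Agent.H05EGA4.Rk
import Groth.Agent.H05EGA4.Regular2

set_option autoImplicit false
set_option maxHeartbeats 800000
universe u
open EGA4

open IsLocalRing PrimeSpectrum TensorProduct Groth.Agent.H05EGA4 Groth.Agent

namespace Groth.Agent.S19863

/-- Let A be a Noetherian ring, J a proper ideal of A, Â the J-adic completion and A_T the localization
of A at T = 1 + J. If the canonical map A → Â is a regular homomorphism (flat, with Noetherian
geometrically regular fibres), then A_T is a regular ring if and only if Â is a regular ring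
(Noetherian, with regular local rings at all primes). (The cases of the henselization of the pair
and of the weak completion are not stated here.) -/
theorem result
    (A : Type u) [CommRing A] [IsNoetherianRing A] (J : Ideal A) (hJ : J ≠ ⊤)
    (hf : CAlg.IsRegularHom A (AdicCompletion J A))
    (T : Submonoid A) (hT : T = MonoidHom.mker (Ideal.Quotient.mk J)) :
    IsRegularRing (Localization T) ↔ IsRegularRing (AdicCompletion J A) := by
  subst hT
  set T := MonoidHom.mker (Ideal.Quotient.mk J)
  have fg : J.FG := IsNoetherian.noetherian J
  have hdisj : ∀ m : Ideal A, J ≤ m → m ≠ ⊤ → Disjoint (T : Set A) m := fun m hm hne =>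
    Set.disjoint_left.mpr fun t ht htm => hne (by
      rw [Ideal.eq_top_iff_one]
      have h1 : t - 1 ∈ J := by
        rw [← Ideal.Quotient.eq_zero_iff_mem, map_sub, map_one, sub_eq_zero]
        exact ht
      simpa using m.sub_mem htm (hm h1))
  constructor
  · intro h
    refine isRegularRing_adicCompletion' A J fun m hm hJm => ?_
    have hd := hdisj m hJm hm.ne_top
    have hP := IsLocalization.isPrime_of_isPrime_disjoint T (Localization T) m hm.isPrime hd
    have hc := IsLocalization.under_map_of_isPrime_disjoint T (Localization T) hm.isPrime hd
    exact (isRegularLocalRing_localization_congr hc).mp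
      ((isRegularLocalRing_localization_iff T (Localization T) _).mp
        (IsRegularRing.isRegularLocalRing_localization (m.map (algebraMap A (Localization T)))))
  · intro h
    have := IsLocalization.isNoetherianRing T (Localization T) inferInstance
    refine isRegularRing_of_forall_isMaximal _ fun M hM => ?_
    rw [isRegularLocalRing_localization_iff T (Localization T) M]
    set p := M.comap (algebraMap A (Localization T))
    have hne : p ⊔ J ≠ ⊤ := by
      intro htop
      obtain ⟨a, ha, b, hb, hab⟩ := Submodule.mem_sup.mp ((Ideal.eq_top_iff_one _).mp htop)
      have haT : a ∈ T := by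
        show Ideal.Quotient.mk J a = 1
        rw [← map_one (Ideal.Quotient.mk J), ← hab, map_add,
          Ideal.Quotient.eq_zero_iff_mem.mpr hb, add_zero]
      exact hM.ne_top (Ideal.eq_top_of_isUnit_mem _ ha
        (IsLocalization.map_units (Localization T) ⟨a, haT⟩))
    obtain ⟨m, hm, hle⟩ := Ideal.exists_le_maximal _ hne
    have hJm : J ≤ m := le_sup_right.trans hle
    have hMax := AdicCompletion.isMaximal_map_of_le J m hJm fg
    have : (m.map (algebraMap A (AdicCompletion J A))).LiesOver m :=
      ⟨hm.eq_of_le (Ideal.IsPrime.comap _).ne_top Ideal.le_comap_map⟩
    have := isRegularLocalRing_comap_of_flat m (m.map (algebraMap A (AdicCompletion J A)))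
    exact isRegularLocalRing_of_le (le_sup_left.trans hle)


end Groth.Agent.S19863
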