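import Groth.Statements.S19864
import Groth.Agent.H05EGA4.RegHomFS
import Groth.Agent.H05EGA4.GRing

set_option autoImplicit false
set_option linter.style.haveILetI false
universe u
open CAlg

open IsLocalRing TensorProduct Groth.Agent CAlgX Groth.Agent.H05EGA4

namespace Groth.Agent.S19864

/-- Let A and B be Noetherian rings and B an A-algebra. Then A → B is a regular homomorphism (flat with
Noetherian, geometrically regular fibres) if and only if for every prime q of B lying over the prime
p of A the induced local homomorphism A_p → B_q is formally smooth for the adic topologies of the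
maximal ideals (equivalently, for the adic topology of the maximal ideal of B_q). -/
theorem result (A B : Type u)
    [CommRing A] [CommRing B] [Algebra A B] [IsNoetherianRing A] [IsNoetherianRing B] :
    CAlg.IsRegularHom A B ↔
      ∀ (q : Ideal B) [q.IsPrime],
        letI := (Localization.localRingHom (Ideal.comap (algebraMap A B) q) q (algebraMap A B) rfl).toAlgebra
        CAlgX.IsAdicFormallySmooth (Localization.AtPrime (Ideal.comap (algebraMap A B) q))
          (Localization.AtPrime q) (IsLocalRing.maximalIdeal (Localization.AtPrime q)) := by
  refine ⟨fun h q _ => ?_, isRegularHom_of_forall_isAdicFormallySmooth A B⟩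
  letI := (Localization.localRingHom (Ideal.comap (algebraMap A B) q) q (algebraMap A B) rfl).toAlgebra
  haveI : q.LiesOver (Ideal.comap (algebraMap A B) q) := ⟨rfl⟩
  haveI : IsScalarTower A (Localization.AtPrime (Ideal.comap (algebraMap A B) q)) (Localization.AtPrime q) :=
    .of_algebraMap_eq fun r => (Localization.localRingHom_to_map _ _ _ rfl r).symm
  haveI : Localization.AtPrime.IsLiesOverAlgebra (Ideal.comap (algebraMap A B) q) q := ⟨rfl⟩
  exact isAdicFormallySmooth_of_isRegularHom h _ q


end Groth.Agent.S19864
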