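import Groth.Statements.S19868
import Groth.Agent.H20PLie.Deform

set_option autoImplicit false
universe u v
open PLie

namespace Groth.Agent.S19868

open DualNumber in
/-- Let K be a field of prime characteristic p, K[ε] the ring of dual numbers (taken with its
characteristic-p structure) and a, …, i ∈ K. Let L be a Lie algebra over K[ε], free as a module with
basis x = bs 0, y = bs 1, z = bs 2 and brackets [x,y] = aε x + bε y + cε z, [x,z] = dε x + eε y + fε
z, [y,z] = (1 + gε) x + hε y + iε z, a first-order deformation of the Heisenberg algebra (the Jacobi
identity forces b + f = 0). Then L carries a p-mapping over K[ε] if and only if b = c = e = 0 when p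
= 2; for odd p there is no condition. (The published statement is about the singularity of the point
h_3 in the restrictable locus of the rank-one-centre stratum of the moduli scheme of based
three-dimensional Lie algebras over the prime field; this row states the restrictability criterion
for the first-order deformations of h_3 asserted in its proof, over any field of characteristic p in
place of the prime field.) -/
theorem result (K : Type u) [Field K] (p : ℕ) [Fact p.Prime] [CharP K p]
    [CharP (DualNumber K) p] (a b c d e f g h i : K)
    (L : Type v) [LieRing L] [LieAlgebra (DualNumber K) L] (bs : Module.Basis (Fin 3) (DualNumber K) L)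
    (hxy : ⁅bs 0, bs 1⁆ = (a • ε : DualNumber K) • bs 0 + (b • ε : DualNumber K) • bs 1 + (c • ε : DualNumber K) • bs 2)
    (hxz : ⁅bs 0, bs 2⁆ = (d • ε : DualNumber K) • bs 0 + (e • ε : DualNumber K) • bs 1 + (f • ε : DualNumber K) • bs 2)
    (hyz : ⁅bs 1, bs 2⁆ = (1 + g • ε : DualNumber K) • bs 0 + (h • ε : DualNumber K) • bs 1 + (i • ε : DualNumber K) • bs 2) :
    Nonempty (PLie.PMap (DualNumber K) p L) ↔ (p = 2 → b = 0 ∧ c = 0 ∧ e = 0) := by
  exact H20PLie.h3_deformation bs a b c d e f g h i hxy hxz hyz

end Groth.Agent.S19868
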