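import Groth.Statements.S19869
import Groth.Agent.H24FMod.PullSys
import Groth.Agent.S3855

set_option autoImplicit false
set_option linter.style.haveILetI false
open CategoryTheory CategoryTheory.Limits AlgebraicGeometry
universe u
open FCompl

attribute [-instance] CategoryTheory.catToReflQuiver
open Groth.Agent
namespace Groth.Agent.S19869

/-- Let A and B be adic Noetherian rings with ideals of definition I and K, ψ : B → A a ring
homomorphism with ψ(K) ⊆ I, 𝔛 = Spf A and 𝔜 = Spf B the formal spectra (the systems of the spectra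
of A/I^(k+1) and B/K^(k+1)), f̂ : 𝔛 ⟶ 𝔜 the induced morphism with levels f_k, u_k : X_k ⟶ 𝔛 and v_k
: Y_k ⟶ 𝔜 the canonical morphisms of ringed spaces from the levels, and 𝔐 = (M_k) a system of
coherent modules on the levels of 𝔜 with transition isomorphisms, with module M = lim_k (v_k)_* M_k
on 𝔜. Then f̂^* M is canonically isomorphic to lim_k (u_k)_* f_k^* M_k, the module of the levelwise
inverse-image system. The isomorphism e is pinned: its adjunct M ⟶ f̂_* lim_k (u_k)_* f_k^* M_k,
followed by f̂_* of the k-th projection and the identification f̂_* (u_k)_* = (v_k)_* (f_k)_*, is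
the k-th projection of M followed by (v_k)_* of the unit M_k ⟶ (f_k)_* f_k^* M_k, for every k. (The
published statement is the isomorphism f̂^*(N^Δ) ≅ (N ⊗_B A)^Δ for a B-module N of finite type;
every coherent system on Spf B being of the form N^Δ, this row is that statement for systems, the
identification of the two sides with completed modules of sheaves on Spec A and Spec B being left
aside.) -/
theorem result (A B : Type u) [CommRing A] [CommRing B] [IsNoetherianRing A]
    [IsNoetherianRing B] (I : Ideal A) (K : Ideal B) [IsAdicComplete I A] [IsAdicComplete K B]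
    (ψ : B →+* A) (hψ : K ≤ I.comap ψ) (hX : (FSch.spf A I).IsFormal) (hY : (FSch.spf B K).IsFormal)
    (𝔐 : FSch.ModSys (FSch.spf B K)) (h𝔐 : 𝔐.IsCoh) :
    ∃ e : (FSch.pullF (FSch.spfMap I K ψ hψ) hX hY).obj (𝔐.realMod hY) ≅
        (FSch.ModSys.pullback (FSch.spfMap I K ψ hψ) 𝔐).realMod hX,
      ∀ k : ℕ, (FSch.homMor (FSch.spfMap I K ψ hψ) hX hY).adj.homEquiv _ _ e.hom ≫
          (FSch.pushF (FSch.spfMap I K ψ hψ) hX hY).map
            (FSch.realProj (FSch.spf A I) hX _ _ k) ≫
          (FSch.lvPushSq (FSch.spfMap I K ψ hψ) hX hY k).hom.app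
            ((FSch.ModSys.pullback (FSch.spfMap I K ψ hψ) 𝔐).F k) =
        FSch.realProj (FSch.spf B K) hY _ _ k ≫
          (FSch.levelMor (FSch.spf B K) hY k).push.map
            ((ModSite.RMor.ofScheme ((FSch.spfMap I K ψ hψ : FSch.Hom _ _).app k)).adj.unit.app
              (𝔐.F k)) := by
    exact H24FMod.exists_pullF_iso (FSch.spfMap I K ψ hψ) (Groth.Agent.S3855.result A I)
      (Groth.Agent.S3855.result B K) h𝔐

end Groth.Agent.S19869
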