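import Groth.Statements.S19878
import Groth.Agent.H27LVCorr.Fixed
import Mathlib

set_option autoImplicit false
universe u
open LVCorr

namespace Groth.Agent.S19878

open AlgebraicGeometry CategoryTheory CategoryTheory.Limits in
/-- Let k be a field, C a k-scheme of finite type, X a k-scheme and c = (c₁, c₂) : C → X ×_k X a
correspondence; let Fix(c) = C ×_{X ×_k X} X be its scheme of fixed points (pullback along the
diagonal), with projections i : Fix(c) → C and δ : Fix(c) → X. Let Z ⊂ X be the closed subscheme of
a quasi-coherent ideal I and suppose c is contracting near Z in a neighbourhood of the fixed points: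
there is an open W ⊆ C containing the image of Fix(c) such that on W the inverse image ideal of I
under c₁ is contained in the inverse image ideal of I under c₂ (c stabilizes Z on W) and some power
(I·O_W via c₁)^k₀ is contained in (I·O_W via c₂)^(k₀+1). Then every connected open subset β of
Fix(c) whose image under δ meets Z is contained, as a set, in δ⁻¹(Z). (The source works with
separated schemes of finite type over an algebraically closed field; this row assumes only that C is
of finite type over a field k.) -/
theorem result {C X Fx : Scheme.{u}} (k : Type u) [Field k]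
    (pC : C ⟶ Spec (CommRingCat.of k)) [LocallyOfFiniteType pC] [QuasiCompact pC]
    (pX : X ⟶ Spec (CommRingCat.of k)) (c₁ c₂ : C ⟶ X) (hc : c₁ ≫ pX = c₂ ≫ pX)
    (i : Fx ⟶ C) (δ : Fx ⟶ X) (hF : IsPullback i δ (pullback.lift c₁ c₂ hc) (pullback.diagonal pX))
    (I : X.IdealSheafData) (W : C.Opens) (hW : Set.range i.base ⊆ (W : Set C))
    (hle : I.comap (W.ι ≫ c₁) ≤ I.comap (W.ι ≫ c₂))
    (k₀ : ℕ) (hpow : I.comap (W.ι ≫ c₁) ^ k₀ ≤ I.comap (W.ι ≫ c₂) ^ (k₀ + 1))
    (β : Fx.Opens) (hβ : _root_.IsConnected (β : Set Fx))
    (hβZ : (δ.base '' (β : Set Fx) ∩ (I.support : Set X)).Nonempty) :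
    (β : Set Fx) ⊆ δ.base ⁻¹' (I.support : Set X) := by
  haveI : IsImmersion (Limits.pullback.diagonal pX) := inferInstance
  haveI : IsImmersion i := MorphismProperty.of_isPullback hF.flip inferInstance
  haveI : IsLocallyNoetherian C := LocallyOfFiniteType.isLocallyNoetherian pC
  haveI : IsLocallyNoetherian Fx := LocallyOfFiniteType.isLocallyNoetherian i
  have h₁ : i ≫ c₁ = δ := by
    have h := congrArg (· ≫ Limits.pullback.fst pX pX) hF.w
    simp only [Category.assoc] at h
    erw [Limits.pullback.lift_fst, Limits.pullback.diagonal_fst, Category.comp_id] at h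
    exact h
  have h₂ : i ≫ c₂ = δ := by
    have h := congrArg (· ≫ Limits.pullback.snd pX pX) hF.w
    simp only [Category.assoc] at h
    erw [Limits.pullback.lift_snd, Limits.pullback.diagonal_snd, Category.comp_id] at h
    exact h
  have hcl := Groth.Agent.H27LVCorr.isClopen_fix c₁ c₂ i δ h₁ h₂ I W hW k₀ hpow
  obtain ⟨_, ⟨z, hz, rfl⟩, hzI⟩ := hβZ
  exact hβ.isPreconnected.subset_isClopen hcl ⟨z, hz, hzI⟩

end Groth.Agent.S19878
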