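import Groth.Statements.S19879
import Groth.Agent.H27LVCorr.Fixed
import Mathlib

set_option autoImplicit false
universe u
open LVCorr

namespace Groth.Agent.S19879

open AlgebraicGeometry CategoryTheory CategoryTheory.Limits in
/-- Let k₀ be a finite field with p^e elements, K an algebraic closure of k₀, C₀ a scheme of finite type
over k₀, C = C₀ ×_{k₀} Spec K with its projections, and Fr : C → C the n-th power of the geometric
Frobenius (over K, compatible with the (e·n)-th power of the absolute p-Frobenius of C₀). Let X be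
locally of finite type over K and c₁, c₂ : C → X morphisms over K with c₂ locally quasi-finite, and
let d < p^(e n) be such that for every closed point x of X, with J_x the inverse image under c₂ of
the ideal sheaf of the reduced point x, one has (√J_x)^d ⊂ J_x (so p^(e n) exceeds the ramification
degree of c₂). Then the scheme of fixed points of the twisted correspondence (c₁ ∘ Fr, c₂), namely
the pullback of (c₁ ∘ Fr, c₂) : C → X ×_K X along the diagonal of X, has finite and discrete
underlying topological space. (In the source X, c₁ and c₂ are also defined over k₀ and all schemes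
are separated; neither is needed here.) -/
theorem result {C C₀ X Fx : Scheme.{u}}
    (p : ℕ) [Fact p.Prime] (k₀ : Type u) [Field k₀] [Fintype k₀] [CharP k₀ p] (e : ℕ)
    (hq : Fintype.card k₀ = p ^ e) (K : Type u) [Field K] [Algebra k₀ K] [IsAlgClosure k₀ K]
    (f₀ : C₀ ⟶ Spec (CommRingCat.of k₀)) [LocallyOfFiniteType f₀] [QuasiCompact f₀] [FrobSch.IsCharP C₀ p]
    (πC₀ : C ⟶ C₀) (πK : C ⟶ Spec (CommRingCat.of K))
    (hC : IsPullback πC₀ πK f₀ (Spec.map (CommRingCat.ofHom (algebraMap k₀ K))))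
    (n : ℕ) (Fr : C ⟶ C)
    (hFr₀ : Fr ≫ πC₀ = πC₀ ≫ End.asHom (End.of (FrobSch.frob C₀ p) ^ (e * n)))
    (hFrK : Fr ≫ πK = πK)
    (pX : X ⟶ Spec (CommRingCat.of K)) [LocallyOfFiniteType pX]
    (c₁ c₂ : C ⟶ X) (hc₁ : c₁ ≫ pX = πK) (hc₂ : c₂ ≫ pX = πK)
    [LocallyQuasiFinite c₂] [LocallyOfFiniteType c₂]
    (hcomm : (Fr ≫ c₁) ≫ pX = c₂ ≫ pX) (d : ℕ) (hn : d < p ^ (e * n))
    (hd : ∀ (x : X) (hx : IsClosed ({x} : Set X)),
      ((Scheme.IdealSheafData.vanishingIdeal ⟨{x}, hx⟩).comap c₂).radical ^ d ≤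
        (Scheme.IdealSheafData.vanishingIdeal ⟨{x}, hx⟩).comap c₂)
    (i : Fx ⟶ C) (δ : Fx ⟶ X) (hF : IsPullback i δ (pullback.lift (Fr ≫ c₁) c₂ hcomm) (pullback.diagonal pX)) :
    Finite Fx ∧ DiscreteTopology Fx := by
  haveI : FrobSch.IsCharP C p := FrobSch.IsCharP.of_hom πC₀ p
  obtain ⟨G, rfl⟩ := Groth.Agent.H27LVCorr.exists_twist p k₀ e hq K f₀ πC₀ πK hC n Fr hFr₀ hFrK
  let s := Spec.map (CommRingCat.ofHom (algebraMap k₀ K))
  haveI : LocallyOfFiniteType πK := MorphismProperty.of_isPullback hC inferInstance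
  haveI : QuasiCompact πK := MorphismProperty.of_isPullback hC inferInstance
  haveI : IsLocallyNoetherian C := LocallyOfFiniteType.isLocallyNoetherian πK
  haveI : CompactSpace C := QuasiCompact.compactSpace_of_compactSpace πK
  haveI : IsNoetherian C := ⟨⟩
  haveI : IsImmersion (Limits.pullback.diagonal pX) := inferInstance
  haveI : IsImmersion i := MorphismProperty.of_isPullback hF.flip inferInstance
  haveI : IsLocallyNoetherian Fx := LocallyOfFiniteType.isLocallyNoetherian i
  haveI : IsAlgClosed K := IsAlgClosure.isAlgClosed k₀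
  haveI : LocallyOfFiniteType (i ≫ πK) := inferInstance
  haveI : JacobsonSpace Fx := LocallyOfFiniteType.jacobsonSpace (i ≫ πK)
  haveI : TopologicalSpace.NoetherianSpace Fx := i.isEmbedding.toIsInducing.noetherianSpace
  have h₁ : i ≫ (Groth.Agent.H27LVCorr.fm p C (e * n) ≫ G) ≫ c₁ = δ := by
    have h := congrArg (· ≫ Limits.pullback.fst pX pX) hF.w
    simp only [Category.assoc] at h
    erw [Limits.pullback.lift_fst, Limits.pullback.diagonal_fst, Category.comp_id] at h
    exact h
  have h₂ : i ≫ c₂ = δ := by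
    have h := congrArg (· ≫ Limits.pullback.snd pX pX) hF.w
    simp only [Category.assoc] at h
    erw [Limits.pullback.lift_snd, Limits.pullback.diagonal_snd, Category.comp_id] at h
    exact h
  have hopen : ∀ y : Fx, IsClosed ({y} : Set Fx) → IsOpen ({y} : Set Fx) := by
    intro y hy
    let P := pointOfClosedPoint (i ≫ πK) y hy
    have hP : (P ≫ δ) ≫ pX = 𝟙 _ := by
      rw [Category.assoc, ← h₂, Category.assoc, hc₂]
      exact pointOfClosedPoint_comp _ _ _
    have hx : IsClosed ({δ y} : Set X) := by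
      have := ((pointEquivClosedPoint pX) ⟨P ≫ δ, hP⟩).2
      rwa [pointEquivClosedPoint_apply_coe, Scheme.Hom.comp_apply, pointOfClosedPoint_apply] at this
    obtain ⟨W, hW, -, h2⟩ := Groth.Agent.H27LVCorr.exists_contracting_open p (e * n) G c₁ c₂ d hn (δ y) hx (hd _ hx)
    have hrange : Set.range i.base ⊆ (W : Set C) := by
      rintro _ ⟨z, rfl⟩
      refine hW _ ?_
      rw [← Scheme.Hom.comp_apply, h₁, ← Scheme.Hom.comp_apply, h₂]
    have hcl := (Groth.Agent.H27LVCorr.isClopen_fix ((Groth.Agent.H27LVCorr.fm p C (e * n) ≫ G) ≫ c₁) c₂ i δ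
      h₁ h₂ _ W hrange d h2).isOpen
    have hT : δ.base ⁻¹' ((Scheme.IdealSheafData.vanishingIdeal ⟨{δ y}, hx⟩).support : Set X) = i.base ⁻¹' (c₂.base ⁻¹' {δ y}) := by
      ext z
      simp [← h₂]
    rw [hT] at hcl
    have hd' : _root_.IsDiscrete (i.base ⁻¹' (c₂.base ⁻¹' {δ y})) :=
      (c₂.isDiscrete_preimage_singleton (δ y)).preimage i.continuous.continuousOn i.isEmbedding.injective
    obtain ⟨U, hU, hUy⟩ := isDiscrete_iff_forall_exists_isOpen.mp hd' y (show c₂ (i y) = δ y by rw [← Scheme.Hom.comp_apply, h₂])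
    exact hUy ▸ hU.inter hcl
  haveI hdisc : DiscreteTopology Fx := by
    refine discreteTopology_iff_isOpen_singleton.mpr fun z => ?_
    obtain ⟨y, hy, hyc⟩ := nonempty_inter_closedPoints (X := Fx) (Z := closure {z})
      ⟨z, subset_closure rfl⟩ isClosed_closure.isLocallyClosed
    obtain ⟨w, hw1, hw2⟩ := mem_closure_iff.mp hy {y} (hopen y hyc) rfl
    rw [Set.mem_singleton_iff] at hw1 hw2
    subst hw1
    subst hw2
    exact hopen _ hyc
  exact ⟨finite_of_compact_of_discrete, hdisc⟩

end Groth.Agent.S19879
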