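import Groth.Statements.S19881
import Groth.Agent.H4Gr.LinearSop
import Groth.Agent.H4Gr.Dim

set_option autoImplicit false
universe u
open GrLC

namespace Groth.Agent.S19881

/-- Let R = ⊕_{n ≥ 0} R_n be a (Noetherian) positively ℤ-graded ring which is standard graded
(irrelevant ideal generated by R_1), with R_0 Artinian, *local with unique homogeneous maximal ideal
m, Cohen–Macaulay of Krull dimension d, and with infinite residue field R/m. If the a-invariant of R
equals −d, i.e. the end (largest nonzero degree) of the graded local cohomology module H^d_m(R),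
computed from any *injective resolution of R in the graded category, is −d, then R is a polynomial
ring over R_0 in d variables of degree one: there is an R_0-algebra isomorphism R_0[T_1, …, T_d] ≅ R
mapping every variable into R_1. (The published statement asserts the equivalence of a(R) = −d with
R ≅ R_0[T_1, …, T_d] without the residue-field hypothesis; its argument treats the case of an
infinite residue field, which is the case stated here, and only the forward implication is stated.) -/
theorem result (R : Type u) [CommRing R]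
    [LocCoh.IsCohenMacaulayRing R] (𝒜 : ℤ → AddSubgroup R) [GradedRing 𝒜]
    (hpos : ∀ n : ℤ, n < 0 → 𝒜 n = ⊥)
    (hstd : Ideal.span (⋃ n ∈ Set.Ioi (0 : ℤ), (𝒜 n : Set R)) = Ideal.span ((𝒜 1 : AddSubgroup R) : Set R))
    [IsArtinianRing (GrLC.deg0 𝒜)] (m : HomogeneousIdeal 𝒜) (hm : GrLC.IsStarLocal 𝒜 m)
    (hinf : Infinite (R ⧸ m.toIdeal)) (d : ℕ) (hd : ringKrullDim R = d) (I : GrLC.StarInjRes 𝒜 𝒜)
    (ha : GrLC.endDeg (I.Hgr m d) = (((-(d : ℤ) : ℤ) : WithTop ℤ) : WithBot (WithTop ℤ))) :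
    ∃ e : MvPolynomial (Fin d) (GrLC.deg0 𝒜) ≃ₐ[GrLC.deg0 𝒜] R, ∀ t : Fin d, e (MvPolynomial.X t) ∈ 𝒜 1 := by
  open Groth.Agent.H4Gr in
  let X := GrLC.GMod.of 𝒜 R 𝒜
  obtain ⟨l, hlen, hl1, hreg, hdim⟩ := exists_linear_sop hpos m hm hstd hinf d X (⊥ : Ideal R) LinearMap.id
    (fun g x hx => hx) Function.surjective_id LinearMap.ker_id
    (fun E j hj y => H_eq_zero_of_lt_dim hpos hm hd hj E y)
    (le_of_eq ((ringKrullDim_eq_of_ringEquiv (RingEquiv.quotientBot R)).trans hd))
  rw [bot_sup_eq] at hdim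
  subst hlen
  let L : Ideal R := Ideal.ofList l
  let v : Fin l.length → R := l.get
  have hLv : L = Ideal.span (Set.range v) := congrArg Ideal.span (by ext y; simp [v, List.mem_iff_get])
  have hLh : L.IsHomogeneous 𝒜 := Ideal.homogeneous_span 𝒜 _ fun y hy => ⟨1, hl1 y hy⟩
  let Y := quotMod 𝒜 (ℳ := 𝒜) (L : Submodule R R) hLh
  let q : R →ₗ[R] Y.carrier := Submodule.mkQ L
  obtain ⟨F⟩ := nonempty_starInjRes (𝒜 := 𝒜) (ℳ := Y.gr)
  have hpm : ∀ g : ℤ, 0 < g → ∀ x ∈ 𝒜 g, x ∈ m.toIdeal := fun g hg x hx => pos_mem_of_isStarLocal hpos hm hg hx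
  let p2 : List (R × ℤ) := l.map fun y => (y, 1)
  have hfst : p2.map Prod.fst = l := by simp [p2, Function.comp_def]
  have hsum : (p2.map Prod.snd).sum = (l.length : ℤ) := by simp [p2, Function.comp_def]
  have hend := endDeg_quot_list 𝒜 hpos m p2 (fun p hp => by
      obtain ⟨y, hy, rfl⟩ := List.mem_map.1 hp
      exact ⟨hl1 y hy, hpm 1 one_pos y (hl1 y hy)⟩) X (by rw [hfst]; exact hreg) l.length
    (by simp [p2]) I (fun j hj y => H_eq_zero_of_lt_dim hpos hm hd hj I y) Y q
    (isGrHom_mkQ (ℳ := 𝒜) (L : Submodule R R)) (Submodule.mkQ_surjective L)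
    (by rw [hfst]; exact (Submodule.ker_mkQ L).trans (Ideal.mul_top L).symm) F
  rw [hsum, show p2.length = l.length from List.length_map _, Nat.sub_self] at hend
  replace hend := hend.trans (congrArg (· + ((((l.length : ℤ)) : WithTop ℤ) : WithBot (WithTop ℤ))) ha)
  simp only [← WithBot.coe_add, ← WithTop.coe_add, neg_add_cancel] at hend
  have hrad : m.toIdeal ≤ L.radical := by
    rw [Ideal.radical_eq_sInf]
    refine le_sInf fun p ⟨hLp, hp⟩ => ?_
    let c := p.homogeneousCore 𝒜
    haveI : c.toIdeal.IsPrime := hp.homogeneousCore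
    have hLc : L ≤ c.toIdeal := by
      rw [← hLh.toIdeal_homogeneousCore_eq_self]
      exact Ideal.homogeneousCore_mono 𝒜 hLp
    haveI : Ring.KrullDimLE 0 (R ⧸ L) := Ring.krullDimLE_iff.2 hdim
    haveI hcp : (c.toIdeal.map (Ideal.Quotient.mk L)).IsPrime :=
      Ideal.map_isPrime_of_surjective Ideal.Quotient.mk_surjective (by rwa [Ideal.mk_ker])
    haveI : (c.toIdeal.map (Ideal.Quotient.mk L)).IsMaximal := hcp.isMaximal'
    have hcmax : c.toIdeal.IsMaximal := by
      have h := Ideal.comap_isMaximal_of_surjective (Ideal.Quotient.mk L) Ideal.Quotient.mk_surjective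
        (K := c.toIdeal.map (Ideal.Quotient.mk L))
      rwa [Ideal.comap_map_of_surjective _ Ideal.Quotient.mk_surjective, ← RingHom.ker_eq_comap_bot,
        Ideal.mk_ker, sup_eq_left.2 hLc] at h
    have hcm : c.toIdeal ≤ m.toIdeal := fun r hr => by
      classical
      rw [← DirectSum.sum_support_decompose 𝒜 r]
      exact sum_mem fun i _ => mem_of_isStarLocal hm (p := c.toIdeal) i _ (SetLike.coe_mem _) (c.isHomogeneous i hr)
    rw [← hcmax.eq_of_le (isMaximal_of_isStarLocal hpos hm).ne_top hcm]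
    exact Ideal.toIdeal_homogeneousCore_le 𝒜 p
  obtain ⟨k, hk⟩ := Ideal.exists_pow_le_of_le_radical_of_fg hrad (IsNoetherian.noetherian m.toIdeal)
  have h1L : ∀ x ∈ 𝒜 1, x ∈ L := fun x hx => by
    have hz : q x ∈ GrLC.gam m.toIdeal Y.carrier := by
      refine ⟨k, fun r hr => ?_⟩
      rw [← map_smul]
      exact (Submodule.Quotient.mk_eq_zero _).2 (L.mul_mem_right x (hk hr))
    have hbot := (endDeg_le_iff' 0).1 hend.le 1 one_pos
    rw [Hgr_eq_bot_iff, Hcomp_zero_eq_bot_iff] at hbot
    exact (Submodule.Quotient.mk_eq_zero _).1 (hbot (q x) (isGrHom_mkQ (ℳ := 𝒜) (L : Submodule R R) 1 x hx) hz)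
  have hv : ∀ x ∈ 𝒜 1, x ∈ Submodule.span (GrLC.deg0 𝒜) (Set.range v) := by
    intro x hx
    have key : ∀ y ∈ Ideal.span (Set.range v), ∀ c : R,
        proj 𝒜 1 (y * c) ∈ Submodule.span (GrLC.deg0 𝒜) (Set.range v) := fun y hy => by
      induction hy using Submodule.span_induction with
      | mem z hz =>
        obtain ⟨i, rfl⟩ := hz
        intro c
        rw [proj_one_mul hpos, proj_ne (hl1 _ (List.get_mem l i)) one_ne_zero, proj_same (hl1 _ (List.get_mem l i)),
          zero_mul, zero_add, mul_comm]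
        exact Submodule.smul_mem _ (⟨proj 𝒜 0 c, proj_mem 𝒜 0 c⟩ : GrLC.deg0 𝒜) (Submodule.subset_span ⟨i, rfl⟩)
      | zero => intro c; rw [zero_mul, map_zero]; exact zero_mem _
      | add y z _ _ hy hz => intro c; rw [add_mul, map_add]; exact add_mem (hy c) (hz c)
      | smul s y _ hy => intro c; rw [smul_eq_mul, mul_assoc, mul_left_comm]; exact hy (s * c)
    have h := key x (hLv ▸ h1L x hx) 1
    rwa [mul_one, proj_same hx] at h
  have hA : ∀ c : GrLC.deg0 𝒜, algebraMap (GrLC.deg0 𝒜) R c ∈ Ideal.ofList (List.ofFn v) → c = 0 := fun c hc => by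
    have key : ∀ y ∈ Ideal.span (Set.range v), ∀ z : R, proj 𝒜 0 (y * z) = 0 := fun y hy => by
      induction hy using Submodule.span_induction with
      | mem w hw =>
        obtain ⟨i, rfl⟩ := hw
        intro z
        rw [← smul_eq_mul, proj_smul (ℳ := 𝒜) (hl1 _ (List.get_mem l i)), smul_eq_mul]
        have := proj_mem 𝒜 (0 - 1) z
        rw [hpos _ (by omega), AddSubgroup.mem_bot] at this
        rw [this, mul_zero]
      | zero => intro z; rw [zero_mul, map_zero]
      | add y z _ _ hy hz => intro w; rw [add_mul, map_add, hy w, hz w, add_zero]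
      | smul s y _ hy => intro w; rw [smul_eq_mul, mul_assoc, mul_left_comm]; exact hy (s * w)
    rw [List.ofFn_get] at hc
    have h := key _ (hLv.le hc) 1
    rw [mul_one] at h
    exact Subtype.ext ((proj_same (show (c : R) ∈ 𝒜 0 from c.2)).symm.trans h)
  let a : HomogeneousIdeal 𝒜 := ⟨Ideal.span ((𝒜 1 : AddSubgroup R) : Set R),
    Ideal.homogeneous_span 𝒜 _ fun y hy => ⟨1, hy⟩⟩
  have hsurj := aeval_surjective hpos (a := a) rfl (fun n hn r hr =>
    hstd.le (Ideal.subset_span (Set.mem_iUnion₂.2 ⟨n, hn, hr⟩))) v hv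
  have hinj := aeval_injective_of_isWeaklyRegular l.length R v (by rw [List.ofFn_get]; exact hreg) hA
  exact ⟨AlgEquiv.ofBijective _ ⟨hinj, hsurj⟩, fun t => by
    rw [AlgEquiv.ofBijective_apply, MvPolynomial.aeval_X]
    exact hl1 _ (List.get_mem l t)⟩

end Groth.Agent.S19881
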