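import Groth.Statements.S19886
import Groth.Agent.H18AS.Main
import Groth.Agent.S0469

set_option autoImplicit false
universe u
open CategoryTheory CategoryTheory.Limits AlgebraicGeometry
open EtCoh

namespace Groth.Agent.S19886

/-- Let k be a separably closed field of characteristic p > 0 and X a scheme proper over k of dimension
d. Then the étale cohomology groups H^q(X_et, Z/p) with constant coefficients vanish for all q > d.
(The same vanishing for X separated of finite type over an algebraically closed field is a separate
statement; here the field is only separably closed and X is proper.) -/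
theorem result (k : Type u) [Field k] [IsSepClosed k]
    (p : ℕ) [Fact p.Prime] [CharP k p]
    (X : Scheme.{u}) (f : X ⟶ Spec (CommRingCat.of k)) [IsProper f]
    (d : ℕ) (hd : topologicalKrullDim X = d) (q : ℕ) (hq : d + 1 ≤ q) :
    Subsingleton (EtCoh.H X (EtCoh.const X (ZMod p)) q) := by
  letI : X.Over (Spec (CommRingCat.of k)) := ⟨f⟩
  haveI : IsProper (X ↘ Spec (CommRingCat.of k)) := ‹IsProper f›
  have h0 := H18AS.natCast_eq_zero p f
  haveI : Nontrivial Γ(X, ⊤) := by
    by_contra hc
    rw [not_nontrivial_iff_subsingleton] at hc
    haveI : IsEmpty X := ⟨fun x => not_subsingleton_iff_nontrivial.2 (X.evaluation ⊤ x trivial).hom.domain_nontrivial hc⟩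
    haveI : IsEmpty (TopologicalSpace.IrreducibleCloseds X) :=
      ⟨fun Z => Z.isIrreducible.nonempty.elim fun x _ => isEmptyElim (α := X) x⟩
    rw [topologicalKrullDim, Order.krullDim_eq_bot] at hd
    exact WithBot.bot_ne_coe hd
  haveI : CharP Γ(X, ⊤) p := (CharP.charP_iff_prime_eq_zero (Fact.out : p.Prime)).2 h0
  haveI : CompactSpace X := QuasiCompact.compactSpace_of_compactSpace f
  haveI : QuasiSeparatedSpace X := quasiSeparatedSpace_of_quasiSeparated f
  haveI : Subsingleton (EtCoh.H X (EtCoh.Ga X) q) := by
    obtain ⟨e⟩ := Groth.Agent.H9Et.nonempty_H_Ga_equiv (S := X) q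
    haveI : SpectralSpace (X.toPresheafedSpace.carrier) := ({} : SpectralSpace X)
    haveI : Subsingleton (Coh.HH X (Coh.structureModule X) q) :=
      Groth.Agent.S0469.result d hd.le (Coh.toAb (Coh.structureModule X)) q (by omega)
    exact e.injective.subsingleton
  exact (H18AS.injective_map_toGa p h0 (k := k) q).subsingleton

end Groth.Agent.S19886
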