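import Groth.Statements.S19887
import Groth.Agent.H27Corr.Compactify
import Groth.Agent.H17.OpenPushout

set_option autoImplicit false
universe u
open LVCorr

namespace Groth.Agent.S19887

open AlgebraicGeometry CategoryTheory CategoryTheory.Limits in
/-- Let k be a field and R a discrete valuation ring with a k-algebra structure, with generic point η
(an open point of Spec R). Let X be a separated k-scheme of finite type, X_R = X ×_k Spec R, and let
(X̃, φ) be a lift of X over R: X̃ is a separated R-scheme of finite type (locally of finite type and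
quasi-compact over R) and φ : X̃ → X_R an R-morphism inducing an isomorphism over η. Then there
exist a scheme Ỹ and a proper morphism ψ : Ỹ → X̃ such that (1) (Ỹ, ψ ∘ φ) is a lift of X, i.e. ψ ∘
φ is an isomorphism over η, (2) Ỹ is proper over X̃, and (3) for every compactification of X, i.e.
every open immersion of X over k into a proper k-scheme X̄ (with X̄_R = X̄ ×_k Spec R and the
induced morphism X_R → X̄_R), Ỹ embeds by an open immersion into a scheme Ỹ(X̄) proper over R and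
lifting X̄ (an R-morphism Ỹ(X̄) → X̄_R that is an isomorphism over η) such that Ỹ → Ỹ(X̄) → X̄_R
equals Ỹ → X̃ → X_R → X̄_R. (The source works over an algebraically closed field k and a discrete
valuation ring over k with residue field k, and its compactifications are dense open immersions;
none of this is used.) -/
theorem result
    (k : Type u) [Field k] (R : Type u) [CommRing R] [IsDomain R] [IsDiscreteValuationRing R] [Algebra k R]
    (η : (Spec (CommRingCat.of R)).Opens) (hη : (η : Set ↥(Spec (CommRingCat.of R))) = {genericPoint ↥(Spec (CommRingCat.of R))})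
    (X : Scheme.{u}) (pX : X ⟶ Spec (CommRingCat.of k)) [IsSeparated pX] [LocallyOfFiniteType pX] [QuasiCompact pX]
    (XR : Scheme.{u}) (a : XR ⟶ X) (b : XR ⟶ Spec (CommRingCat.of R)) (hXR : IsPullback a b pX (Spec.map (CommRingCat.ofHom (algebraMap k R))))
    (Xt : Scheme.{u}) (q : Xt ⟶ Spec (CommRingCat.of R)) [IsSeparated q] [LocallyOfFiniteType q] [QuasiCompact q]
    (φ : Xt ⟶ XR) (hφ : φ ≫ b = q) (hφη : IsIso (φ ∣_ (b ⁻¹ᵁ η))) :
    ∃ (Y : Scheme.{u}) (ψ : Y ⟶ Xt), IsProper ψ ∧ IsIso ((ψ ≫ φ) ∣_ (b ⁻¹ᵁ η)) ∧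
      ∀ (Xb : Scheme.{u}) (pXb : Xb ⟶ Spec (CommRingCat.of k)) [IsProper pXb] (jX : X ⟶ Xb) [IsOpenImmersion jX]
        (hj : jX ≫ pXb = pX)
        (XbR : Scheme.{u}) (ab : XbR ⟶ Xb) (bb : XbR ⟶ Spec (CommRingCat.of R)) (hXbR : IsPullback ab bb pXb (Spec.map (CommRingCat.ofHom (algebraMap k R))))
        (jR : XR ⟶ XbR) (hjR₁ : jR ≫ ab = a ≫ jX) (hjR₂ : jR ≫ bb = b),
        ∃ (Yb : Scheme.{u}) (qb : Yb ⟶ Spec (CommRingCat.of R)) (_ : IsProper qb) (φb : Yb ⟶ XbR) (_ : φb ≫ bb = qb)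
          (_ : IsIso (φb ∣_ (bb ⁻¹ᵁ η))) (e : Y ⟶ Yb) (_ : IsOpenImmersion e),
          e ≫ φb = ψ ≫ φ ≫ jR := by
  refine ⟨Xt, 𝟙 Xt, inferInstance, by rw [Category.id_comp]; exact hφη, ?_⟩
  intro Xb pXb _ jX _ hj XbR ab bb hXbR jR hjR₁ hjR₂
  haveI : IsProper bb := MorphismProperty.of_isPullback hXbR inferInstance
  haveI : IsOpenImmersion jR := by
    have hcomp : IsPullback a (jR ≫ bb) (jX ≫ pXb) (Spec.map (CommRingCat.ofHom (algebraMap k R))) := by
      rw [hjR₂, hj]; exact hXR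
    exact MorphismProperty.of_isPullback (P := @IsOpenImmersion)
      (IsPullback.of_bot hcomp hjR₁.symm hXbR) inferInstance
  let O : XbR.Opens := bb ⁻¹ᵁ η
  let f₀ : Xt ⟶ XbR := φ ≫ jR
  haveI : IsSeparated (φ ≫ b) := by rw [hφ]; infer_instance
  haveI : LocallyOfFiniteType (φ ≫ b) := by rw [hφ]; infer_instance
  haveI : IsSeparated (f₀ ≫ bb) := by rw [Category.assoc, hjR₂]; infer_instance
  haveI : LocallyOfFiniteType (f₀ ≫ bb) := by rw [Category.assoc, hjR₂]; infer_instance
  haveI : IsSeparated f₀ := IsSeparated.of_comp f₀ bb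
  haveI : LocallyOfFiniteType f₀ := locallyOfFiniteType_of_comp f₀ bb
  let W : Xt.Opens := f₀ ⁻¹ᵁ O
  have hWeq : φ ⁻¹ᵁ (b ⁻¹ᵁ η) = W := by
    show φ ⁻¹ᵁ (b ⁻¹ᵁ η) = (φ ≫ jR) ⁻¹ᵁ (bb ⁻¹ᵁ η)
    rw [← hjR₂]; rfl
  haveI : IsOpenImmersion (f₀ ∣_ O) := by
    haveI : IsIso (φ ∣_ jR ⁻¹ᵁ O) := by
      rw [show jR ⁻¹ᵁ O = b ⁻¹ᵁ η by rw [← hjR₂]; rfl]; exact hφη
    show IsOpenImmersion ((φ ≫ jR) ∣_ O)
    rw [morphismRestrict_comp]
    haveI : IsOpenImmersion (φ ∣_ jR ⁻¹ᵁ O) := inferInstance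
    haveI : IsOpenImmersion (jR ∣_ O) := IsZariskiLocalAtTarget.restrict ‹IsOpenImmersion jR› O
    exact MorphismProperty.comp_mem _ _ _ ‹_› ‹_›
  let A := W.ι
  let B := f₀ ∣_ O
  have hAB : A ≫ f₀ = B ≫ O.ι := (morphismRestrict_ι f₀ O).symm
  let P := Limits.pushout A B
  let p : P ⟶ XbR := Limits.pushout.desc f₀ O.ι hAB
  haveI : IsSeparated p := H17.OpenPushout.isSeparated_desc A B f₀ O.ι hAB (by
    have hl : Limits.pullback.lift A B hAB = ((isPullback_morphismRestrict f₀ O).flip.isoPullback).hom := by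
      apply Limits.pullback.hom_ext
      · rw [Limits.pullback.lift_fst, IsPullback.isoPullback_hom_fst]
      · rw [Limits.pullback.lift_snd, IsPullback.isoPullback_hom_snd]
    rw [hl]
    exact ((isPullback_morphismRestrict f₀ O).flip.isoPullback).hom.isClosedEmbedding.isClosed_range)
  haveI : LocallyOfFiniteType p := H17.OpenPushout.locallyOfFiniteType_desc A B f₀ O.ι hAB
  haveI : IsNoetherian (Spec (CommRingCat.of R)) := inferInstance
  haveI : IsLocallyNoetherian XbR := LocallyOfFiniteType.isLocallyNoetherian bb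
  haveI : CompactSpace XbR := QuasiCompact.compactSpace_of_compactSpace bb
  haveI : IsNoetherian XbR := ⟨⟩
  haveI : CompactSpace Xt := QuasiCompact.compactSpace_of_compactSpace q
  haveI : CompactSpace O.toScheme := isCompact_iff_compactSpace.mp (TopologicalSpace.NoetherianSpace.isCompact (O : Set XbR))
  haveI : CompactSpace P := H17.OpenPushout.compactSpace A B
  haveI : QuasiSeparatedSpace XbR := quasiSeparatedSpace_of_quasiSeparated bb
  haveI : QuasiCompact (p ≫ terminal.from XbR) := inferInstance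
  haveI : QuasiCompact p := QuasiCompact.of_comp p (terminal.from XbR)
  obtain ⟨Yb, j, g, hj', hg, hd, hjg⟩ := H27Corr.exists_dense p
  haveI := hj'; haveI := hg
  refine ⟨Yb, g ≫ bb, inferInstance, g, rfl, ?_, Limits.pushout.inl A B ≫ j, inferInstance,
    by rw [Category.assoc, hjg, Limits.pushout.inl_desc, Category.id_comp]⟩
  -- the section over the open part
  let s : O.toScheme ⟶ Yb := Limits.pushout.inr A B ≫ j
  have hs : s ≫ g = O.ι := by rw [Category.assoc, hjg, Limits.pushout.inr_desc]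
  let s' : O.toScheme ⟶ (g ⁻¹ᵁ O).toScheme := IsOpenImmersion.lift (g ⁻¹ᵁ O).ι s (by
    rintro _ ⟨z, rfl⟩
    rw [Scheme.Opens.range_ι]
    show g.base (s.base z) ∈ O
    rw [← Scheme.Hom.comp_apply, hs]
    exact z.2)
  have hs' : s' ≫ (g ⁻¹ᵁ O).ι = s := IsOpenImmersion.lift_fac _ _ _
  have hsg : s' ≫ (g ∣_ O) = 𝟙 _ := by
    rw [← cancel_mono O.ι, Category.assoc, morphismRestrict_ι, ← Category.assoc, hs', hs, Category.id_comp]
  haveI : IsProper (s' ≫ (g ∣_ O)) := by rw [hsg]; infer_instance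
  haveI : IsProper s' := IsProper.of_comp s' (g ∣_ O)
  haveI : IsOpenImmersion (s' ≫ (g ⁻¹ᵁ O).ι) := by rw [hs']; infer_instance
  haveI : IsOpenImmersion s' := IsOpenImmersion.of_comp s' (g ⁻¹ᵁ O).ι
  have hsurj : Function.Surjective s'.base := fun y => by
    by_contra hy
    have ho := (g ⁻¹ᵁ O).ι.isOpenEmbedding.isOpenMap _ s'.isClosedMap.isClosed_range.isOpen_compl
    obtain ⟨_, ⟨w, hw, rfl⟩, z, hz⟩ := hd.inter_open_nonempty _ ho ⟨_, y, fun ⟨v, hv⟩ => hy ⟨v, hv⟩, rfl⟩
    have hzO : p.base z ∈ O := by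
      show (p.base z) ∈ O
      rw [← hjg, Scheme.Hom.comp_apply, hz]
      exact w.2
    obtain ⟨o, ho'⟩ : ∃ o, (Limits.pushout.inr A B).base o = z := by
      rcases H17.OpenPushout.inl_or_inr A B z with ⟨x, hx⟩ | h
      · have hxW : x ∈ W := by
          show f₀.base x ∈ O
          rw [← Limits.pushout.inl_desc (f := A) (g := B) f₀ O.ι hAB, Scheme.Hom.comp_apply, hx]
          exact hzO
        refine ⟨B.base ⟨x, hxW⟩, ?_⟩
        rw [← Scheme.Hom.comp_apply, ← Limits.pushout.condition, Scheme.Hom.comp_apply]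
        exact hx
      · exact h
    refine hw ⟨o, (g ⁻¹ᵁ O).ι.isOpenEmbedding.injective ?_⟩
    rw [← Scheme.Hom.comp_apply, hs', Scheme.Hom.comp_apply, ho', hz]
  haveI : Surjective s' := ⟨hsurj⟩
  haveI : IsIso s' := (isIso_iff_isOpenImmersion_and_surjective s').2 ⟨inferInstance, inferInstance⟩
  exact IsIso.of_isIso_fac_left (f := s') (g := g ∣_ O) (h := 𝟙 _) hsg

end Groth.Agent.S19887
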