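import Groth.Statements.S19889
import Groth.Agent.H19Grp.Neutral
import Groth.Agent.H19Quot.AbelianCat
import Groth.Agent.H8Props.PiZeroTorsion.Basic

set_option autoImplicit false
universe u
open CategoryTheory CategoryTheory.Limits MonoidalCategory CartesianMonoidalCategory MonObj GrpObj AlgebraicGeometry
open GrpSch

namespace Groth.Agent.S19889

/-- Let k be an algebraically closed field, G a commutative group scheme locally of finite type over k,
and i : G⁰ → G its identity component (a homomorphism that is an open immersion onto the connected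
component of the unit point). Then the natural map from the torsion subgroup of G(k) to the torsion
subgroup of G(k)/G⁰(k) is surjective: if g is a k-point of G and gⁿ lies in G⁰(k) for some n ≥ 1,
then there is a k-point t of G of finite order such that t⁻¹ g lies in G⁰(k). -/
theorem result (k : Type u) [Field k] [IsAlgClosed k]
    {G G0 : Over (Spec (CommRingCat.of k))} [GrpObj G] [IsCommMonObj G] [GrpObj G0]
    [LocallyOfFiniteType G.hom] (i : G0 ⟶ G) [IsMonHom i] (hi : AutSch.IsIdComp i)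
    (g : 𝟙_ (Over (Spec (CommRingCat.of k))) ⟶ G) (n : ℕ) (hn : 0 < n)
    (hg : g ^ n ∈ AutSch.ptsRange i) :
    ∃ t : 𝟙_ (Over (Spec (CommRingCat.of k))) ⟶ G, IsOfFinOrder t ∧ t⁻¹ * g ∈ AutSch.ptsRange i := by
  classical
  obtain ⟨hmon, hopen, hrange⟩ := id hi
  haveI := hopen
  haveI : Mono i.left := inferInstance
  haveI : Mono i := ⟨fun a b h => Over.OverMorphism.ext ((cancel_mono i.left).1 (congrArg CommaMorphism.left h))⟩
  haveI : IsCommMonObj G0 := H19Quot.AbelianCat.comm_of_mono i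
  have hrange' : Set.range i.left.base = connectedComponent (AutSch.unitPt G) := by
    rw [hrange, AutSch.neutralSet_eq_connectedComponent]
  haveI : LocallyOfFiniteType G0.hom := by rw [← Over.w i]; infer_instance
  have hemb := i.left.isOpenEmbedding.isInducing
  haveI : CompactSpace G0.left := ⟨by
    rw [hemb.isCompact_iff, Set.image_univ, hrange']
    exact H19Grp.isCompact_component_ept G⟩
  haveI : IrreducibleSpace G0.left := by
    have h1 : IsIrreducible (Set.univ : Set G0.left) := by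
      have h := (H19Grp.isIrreducible_component G).preimage i.left.isOpenEmbedding
      rw [show (i.left : G0.left → G.left) ⁻¹' connectedComponent (H19Grp.ept G) = Set.univ from by
        show i.left.base ⁻¹' connectedComponent (AutSch.unitPt G) = Set.univ
        rw [← hrange', Set.preimage_range]] at h
      exact h (by obtain ⟨x, hx⟩ := hrange'.ge (mem_connectedComponent (x := AutSch.unitPt G)); exact ⟨_, (by rw [show i.left x = H19Grp.ept G from hx]; exact mem_connectedComponent), ⟨x, rfl⟩⟩)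
    exact (irreducibleSpace_def G0.left).2 h1
  haveI : QuasiCompact G0.hom := (quasiCompact_iff_compactSpace G0.hom).2 inferInstance
  haveI := LocallyOfFiniteType.jacobsonSpace G0.hom
  haveI : IsLocallyNoetherian G0.left := LocallyOfFiniteType.isLocallyNoetherian G0.hom
  haveI : IsNoetherian G0.left := {}
  let cp := IsLocalRing.closedPoint k
  let base : (𝟙_ (Over (Spec (CommRingCat.of k))) ⟶ G0) → G0.left := fun q => q.left cp
  have hext : ∀ a b, base a = base b → a = b := fun a b h =>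
    Over.OverMorphism.ext (ext_of_apply_closedPoint_eq G0.hom (Over.w a) (Over.w b) h)
  have hpt : ∀ x : G0.left, IsClosed ({x} : Set G0.left) → ∃ q, base q = x := fun x hx =>
    ⟨Over.homMk (pointOfClosedPoint G0.hom x hx) (pointOfClosedPoint_comp _ _ _), pointOfClosedPoint_apply _ _ _ _⟩
  -- the images of the power maps
  let ψ : ℕ → (G0 ⟶ G0) := fun m => (𝟙 G0) ^ m
  have hψ : ∀ (m : ℕ) (q : 𝟙_ (Over (Spec (CommRingCat.of k))) ⟶ G0), q ≫ ψ m = q ^ m := fun m q => by
    rw [MonObj.comp_pow, Category.comp_id]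
  haveI hψft : ∀ m, LocallyOfFiniteType (ψ m).left := fun m => by
    haveI : LocallyOfFiniteType ((ψ m).left ≫ G0.hom) := by rw [Over.w]; infer_instance
    exact locallyOfFiniteType_of_comp (ψ m).left G0.hom
  let E : ℕ → Set G0.left := fun j => Set.range (ψ (n ^ j)).left
  have hE : ∀ j, Topology.IsConstructible (E j) := fun j => by
    haveI : LocallyOfFinitePresentation (ψ (n ^ j)).left := inferInstance
    show Topology.IsConstructible (Set.range (ψ (n ^ j)).left)
    rw [← Set.image_univ]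
    exact (ψ (n ^ j)).left.isConstructible_image Topology.IsConstructible.univ
  have hmem : ∀ j y, base y ∈ E j ↔ ∃ q, q ^ n ^ j = y := fun j y => by
    constructor
    · rintro ⟨z, hz⟩
      have hcl : IsClosed ({base y} : Set G0.left) := ((pointEquivClosedPoint G0.hom) ⟨y.left, Over.w y⟩).2
      obtain ⟨w, hw, hwc⟩ := nonempty_inter_closedPoints (Z := (ψ (n ^ j)).left ⁻¹' {base y})
        ⟨z, hz⟩ (hcl.preimage (ψ (n ^ j)).left.continuous).isLocallyClosed
      obtain ⟨q, hq⟩ := hpt w hwc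
      refine ⟨q, hext _ _ ?_⟩
      rw [← hψ]
      show (ψ (n ^ j)).left (base q) = base y
      rw [hq]; exact hw
    · rintro ⟨q, rfl⟩
      exact ⟨base q, by rw [← hψ]; rfl⟩
  obtain ⟨Z, ⟨j₀, rfl⟩, hmin⟩ := exists_minimal_of_wellFoundedLT (fun Z : TopologicalSpace.Closeds G0.left => ∃ j, Z = ⟨closure (E j), isClosed_closure⟩) ⟨_, 0, rfl⟩
  have hsub : ∀ j, E (j + 1) ⊆ E j := fun j => by
    have h : ψ (n ^ (j + 1)) = ψ n ≫ ψ (n ^ j) := by
      simp only [ψ, MonObj.comp_pow, Category.comp_id, pow_succ', pow_mul]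
    show Set.range (ψ (n ^ (j + 1))).left ⊆ _
    rw [h, Over.comp_left, Scheme.Hom.comp_base, TopCat.coe_comp]
    exact Set.range_comp_subset_range _ _
  have hcl : closure (E (j₀ + 1)) = closure (E j₀) :=
    Set.Subset.antisymm (closure_mono (hsub j₀))
      (hmin ⟨j₀ + 1, rfl⟩ (closure_mono (hsub j₀) : closure (E (j₀ + 1)) ⊆ closure (E j₀)))
  -- every element of the stable image is an n-th power there
  have hkey : ∀ x, base x ∈ E j₀ → base x ∈ E (j₀ + 1) := fun x hx => by
    let φ : G0 ⟶ G0 := (toUnit G0 ≫ x) * (𝟙 G0)⁻¹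
    have hφ : ∀ q : 𝟙_ (Over (Spec (CommRingCat.of k))) ⟶ G0, q ≫ φ = x * q⁻¹ := fun q => by
      rw [MonObj.comp_mul, GrpObj.comp_inv, Category.comp_id, ← Category.assoc,
        show q ≫ toUnit G0 = 𝟙 _ from Subsingleton.elim _ _, Category.id_comp]
    have hJ : closure (E j₀ ∩ closedPoints G0.left) = closure (E j₀) := by
      refine Set.Subset.antisymm (closure_mono Set.inter_subset_left) (closure_minimal ?_ isClosed_closure)
      intro z hz
      by_contra hz'
      obtain ⟨w, hw, hwc⟩ := H8Props.PiZeroTorsion.exists_closedPoint (hE j₀) isClosed_closure hz hz'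
      exact hw.2 (subset_closure ⟨hw.1, hwc⟩)
    have hφZ : φ.left '' closure (E j₀) ⊆ closure (E j₀) := by
      rw [← hJ]
      refine (image_closure_subset_closure_image φ.left.continuous).trans (closure_mono ?_)
      rintro _ ⟨w, ⟨hwE, hwc⟩, rfl⟩
      obtain ⟨q, rfl⟩ := hpt w hwc
      have h1 : base (q ≫ φ) ∈ E j₀ := by
        obtain ⟨a, rfl⟩ := (hmem j₀ _).1 hwE
        obtain ⟨b, hb⟩ := (hmem j₀ _).1 hx
        exact (hmem j₀ _).2 ⟨b * a⁻¹, by rw [hφ, mul_pow, inv_pow, hb]⟩
      exact ⟨h1, ((pointEquivClosedPoint G0.hom) ⟨(q ≫ φ).left, Over.w _⟩).2⟩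
    have hirr : IsIrreducible (closure (E (j₀ + 1))) := by
      refine IsIrreducible.closure ?_
      show IsIrreducible (Set.range (ψ (n ^ (j₀ + 1))).left)
      rw [← Set.image_univ]
      exact (irreducibleSpace_def G0.left).1 inferInstance |>.image _ (ψ (n ^ (j₀ + 1))).left.continuous.continuousOn
    obtain ⟨U, hU, hUne, hUE⟩ := H8Props.PiZeroTorsion.exists_open_inter_subset (hE (j₀ + 1)) hirr
      ⟨_, ⟨Classical.arbitrary G0.left, rfl⟩⟩
    -- `U` and its translate meet
    have hU' : ((φ.left ⁻¹' U) ∩ closure (E (j₀ + 1))).Nonempty := by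
      obtain ⟨z, hz, hzU⟩ := hUne
      have hinv : ∀ w, φ.left (φ.left w) = w := fun w => by
        have h : φ ≫ φ = 𝟙 G0 := by
          rw [show φ ≫ φ = (φ ≫ toUnit G0 ≫ x) * (φ ≫ (𝟙 G0)⁻¹) from MonObj.comp_mul _ _ _, GrpObj.comp_inv,
            Category.comp_id, ← Category.assoc, show φ ≫ toUnit G0 = toUnit G0 from Subsingleton.elim _ _]
          simp only [φ, _root_.mul_inv_rev, _root_.inv_inv]
          rw [mul_comm (toUnit G0 ≫ x), _root_.mul_assoc, mul_comm ((toUnit G0 ≫ x))⁻¹]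
          simp
        have h2 := congrArg (fun f => f.left w) h
        simpa using h2
      refine ⟨φ.left z, ?_, ?_⟩
      · show φ.left (φ.left z) ∈ U
        rw [hinv]; exact hzU
      · rw [hcl] at hz ⊢; exact hφZ ⟨z, hz, rfl⟩
    obtain ⟨z, hzZ, hzU, hzφ⟩ := hirr.2 U (φ.left ⁻¹' U) hU (hU.preimage φ.left.continuous)
      hUne (hU'.mono fun _ h => ⟨h.2, h.1⟩)
    obtain ⟨w, ⟨⟨hwZ, hwU⟩, hwφ⟩, hwc⟩ := nonempty_inter_closedPoints
      (Z := (closure (E (j₀ + 1)) ∩ U) ∩ φ.left ⁻¹' U) ⟨z, ⟨hzZ, hzU⟩, hzφ⟩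
      ((isClosed_closure.isLocallyClosed.inter hU.isLocallyClosed).inter (hU.preimage φ.left.continuous).isLocallyClosed)
    obtain ⟨q, rfl⟩ := hpt w hwc
    have h1 : base q ∈ E (j₀ + 1) := hUE ⟨hwZ, hwU⟩
    have h2 : base (q ≫ φ) ∈ E (j₀ + 1) := hUE ⟨by
      rw [hcl] at hwZ ⊢; exact hφZ ⟨base q, hwZ, rfl⟩, hwφ⟩
    obtain ⟨a, ha⟩ := (hmem _ _).1 h1
    obtain ⟨b, hb⟩ := (hmem _ _).1 h2
    exact (hmem _ _).2 ⟨a * b, by rw [mul_pow, ha, hb, hφ, mul_comm x, mul_inv_cancel_left]⟩
  obtain ⟨g0, hg0⟩ := (AutSch.mem_ptsRange_iff i _).1 hg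
  obtain ⟨q, hq⟩ := (hmem _ _).1 (hkey (g0 ^ n ^ j₀) ((hmem _ _).2 ⟨g0, rfl⟩))
  refine ⟨g * (q ≫ i)⁻¹, isOfFinOrder_iff_pow_eq_one.2 ⟨n ^ (j₀ + 1), pow_pos hn _, ?_⟩, ?_⟩
  · rw [mul_pow, inv_pow, ← MonObj.pow_comp, hq, MonObj.pow_comp, hg0, ← pow_mul, pow_succ', mul_inv_cancel]
  · refine (AutSch.mem_ptsRange_iff i _).2 ⟨q, ?_⟩
    rw [_root_.mul_inv_rev, _root_.inv_inv, _root_.mul_assoc, inv_mul_cancel, _root_.mul_one]

end Groth.Agent.S19889
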