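import Groth.Statements.S19890
import Mathlib.Algebra.MvPolynomial.Funext
import Mathlib.FieldTheory.IsAlgClosed.Basic
import Mathlib.LinearAlgebra.Matrix.Permutation
import Mathlib.RingTheory.Flat.EquationalCriterion
import Mathlib.RingTheory.Flat.FaithfullyFlat.Algebra
import Mathlib.RingTheory.IntegralClosure.IntegrallyClosed
import Mathlib.RingTheory.SimpleRing.Principal
import Groth.Agent.S17722

set_option autoImplicit false
universe u
open CAlg

namespace Groth.Agent.S19890

/-- Let R → R' be a faithfully flat ring map between Noetherian integrally closed local domains. Then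
unique factorization descends along this map: when R' is a UFD, so is R. (The first assertion of the
lemma, descent of principality for an ideal whose extension to R' is principal, is a separate
statement.) -/
theorem result
    (R R' : Type u) [CommRing R] [CommRing R'] [IsDomain R] [IsDomain R']
    [IsNoetherianRing R] [IsNoetherianRing R'] [IsLocalRing R] [IsLocalRing R']
    [IsIntegrallyClosed R] [IsIntegrallyClosed R']
    [Algebra R R'] [Module.FaithfullyFlat R R'] [UniqueFactorizationMonoid R'] :
    UniqueFactorizationMonoid R := by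
  classical
  have hprin : ∀ a b : R, ∃ m : R, ∀ z, (a ∣ z ∧ b ∣ z) ↔ m ∣ z := by
    intro a b
    let I : Ideal R := Ideal.span {a} ⊓ Ideal.span {b}
    have hI : I.map (algebraMap R R') = Ideal.span {algebraMap R R' a} ⊓ Ideal.span {algebraMap R R' b} := by
      refine le_antisymm ?_ ?_
      · refine le_inf ?_ ?_
        · exact (Ideal.map_mono inf_le_left).trans (by rw [Ideal.map_span, Set.image_singleton])
        · exact (Ideal.map_mono inf_le_right).trans (by rw [Ideal.map_span, Set.image_singleton])
      · rintro z ⟨hza, hzb⟩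
        obtain ⟨u, rfl⟩ := Ideal.mem_span_singleton'.mp hza
        obtain ⟨v, hv⟩ := Ideal.mem_span_singleton'.mp hzb
        obtain ⟨κ, c, y, hy, hc⟩ := Module.Flat.isTrivialRelation_of_sum_smul_eq_zero (R := R) (M := R')
          (f := ![a, -b]) (x := ![u, v]) (by
            simp [Fin.sum_univ_two, Algebra.smul_def]
            linear_combination -hv)
        have h0 : u = ∑ j, c 0 j • y j := hy 0
        rw [h0, Finset.sum_mul]
        refine Ideal.sum_mem _ fun j _ => ?_
        rw [Algebra.smul_def, mul_right_comm, ← map_mul]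
        refine Ideal.mul_mem_right _ _ (Ideal.mem_map_of_mem _ ⟨?_, ?_⟩)
        · exact Ideal.mul_mem_left _ _ (Ideal.mem_span_singleton_self a)
        · have := hc j
          simp [Fin.sum_univ_two] at this
          exact Ideal.mem_span_singleton.mpr ⟨c 1 j, by linear_combination this⟩
    letI : GCDMonoid R' := UniqueFactorizationMonoid.toGCDMonoid R'
    have hP : (I.map (algebraMap R R')).IsPrincipal := by
      rw [hI]
      refine ⟨lcm (algebraMap R R' a) (algebraMap R R' b), ?_⟩
      ext z
      show z ∈ Ideal.span _ ⊓ Ideal.span _ ↔ z ∈ Ideal.span _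
      rw [Ideal.mem_inf, Ideal.mem_span_singleton, Ideal.mem_span_singleton, Ideal.mem_span_singleton, lcm_dvd_iff]
    obtain ⟨m, hm⟩ := Groth.Agent.S17722.result R R' I hP
    refine ⟨m, fun z => ?_⟩
    rw [← Ideal.mem_span_singleton, ← Ideal.mem_span_singleton, ← Ideal.mem_span_singleton]
    show z ∈ I ↔ z ∈ Submodule.span R {m}
    rw [← hm]
  refine { irreducible_iff_prime := fun {a} => ⟨fun ha => ⟨ha.ne_zero, ha.not_isUnit, fun b c hbc => ?_⟩, Prime.irreducible⟩ }
  by_contra h
  push Not at h
  obtain ⟨hb, hc⟩ := h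
  have hb0 : b ≠ 0 := fun h0 => hb (h0 ▸ dvd_zero a)
  obtain ⟨m, hm⟩ := hprin a b
  obtain ⟨⟨x, hx⟩, ⟨y, hy⟩⟩ := (hm m).mpr dvd_rfl
  obtain ⟨d, hd⟩ := (hm (a * b)).mp ⟨dvd_mul_right a b, dvd_mul_left b a⟩
  have hay : a = y * d := by
    refine mul_right_cancel₀ hb0 ?_
    rw [hd, hy]; ring
  rcases ha.isUnit_or_isUnit hay with hu | hu
  · apply hb
    have : m ∣ b := by rw [hy]; exact (hu.mul_right_dvd).mpr dvd_rfl
    exact ((hm b).mpr this).1
  · apply hc
    have h1 : a * b ∣ m := by rw [hd]; exact (hu.mul_right_dvd).mpr dvd_rfl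
    have h2 : a * b ∣ b * c := h1.trans ((hm (b * c)).mp ⟨hbc, dvd_mul_right b c⟩)
    rw [mul_comm b c] at h2
    exact (mul_dvd_mul_iff_right hb0).mp h2

end Groth.Agent.S19890
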