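import Groth.Statements.S19895
import Groth.Agent.H25Verl.Verlinde

set_option autoImplicit false
open Complex
open VerlindeComb

namespace Groth.Agent.S19895

/-- Fix integers r ≥ 2 and k ≥ 1, and two partitions λ, λ' with k ≥ λ_1 ≥ ⋯ ≥ λ_{r-1} ≥ λ_r = 0 and k ≥
λ'_1 ≥ ⋯ ≥ λ'_{r-1} ≥ λ'_r = 0 such that λ is not equivalent to the dual partition λ'* = (k − λ'_r,
…, k − λ'_1), two integer vectors being equivalent when their difference is a constant vector (a, …,
a). For an integer vector v with r + k > v_1 > ⋯ > v_{r-1} > v_r = 0 put z(v)_j = exp(2πi v_j / (r +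
k)), let S_μ(v) = det(z(v)_j^{μ_i + r − i}) / det(z(v)_j^{r − i}) be the Schur value and P(v) =
∏_{i<j} (2 sin(π (v_i − v_j)/(r + k)))². Then the sum over all such v of exp(−2πi (|λ| + |λ'|) (v_1
+ ⋯ + v_r) / (r (r + k))) · S_λ(v) · S_{λ'}(v) · P(v) vanishes; that is, the genus-zero Verlinde
number of rank r, degree 0 and level k with two parabolic points of types λ, λ' is zero. (Only the
vanishing case is stated; the complementary case, where the number equals 1, is not part of this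
statement. The source allows r = 1, where the non-equivalence hypothesis cannot hold.) Indices are
0-based below: lam i stands for λ_{i+1}. -/
theorem result (r k : ℕ) (hr : 2 ≤ r)
    (hk : 1 ≤ k) (lam lam' : Fin r → ℕ) (hlam : Antitone lam) (hlamk : ∀ i, lam i ≤ k)
    (hlam0 : ∀ i : Fin r, (i : ℕ) = r - 1 → lam i = 0)
    (hlam' : Antitone lam') (hlam'k : ∀ i, lam' i ≤ k) (hlam'0 : ∀ i : Fin r, (i : ℕ) = r - 1 → lam' i = 0)
    (hne : ¬ ∃ a : ℤ, ∀ i, (lam i : ℤ) - ((k - lam' (Fin.rev i) : ℕ) : ℤ) = a)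
    (z : (Fin r → ℕ) → Fin r → ℂ)
    (hz : ∀ v j, z v j = Complex.exp (2 * Real.pi * Complex.I * (v j : ℂ) / ((r : ℂ) + k)))
    (S : (Fin r → ℕ) → (Fin r → ℕ) → ℂ)
    (hS : ∀ μ v, S μ v = (Matrix.of fun i j : Fin r => z v j ^ (μ i + (r - 1 - (i : ℕ)))).det /
        (Matrix.of fun i j : Fin r => z v j ^ (r - 1 - (i : ℕ))).det)
    (P : (Fin r → ℕ) → ℝ)
    (hP : ∀ v, P v = ∏ p ∈ (Finset.univ : Finset (Fin r × Fin r)).filter (fun p => p.1 < p.2),
        ((2 : ℝ) * Real.sin (Real.pi * ((v p.1 : ℝ) - (v p.2 : ℝ)) / ((r : ℝ) + k))) ^ 2) :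
    (∑ v ∈ (Finset.univ : Finset (Fin r → Fin (r + k))).filter
        (fun v : Fin r → Fin (r + k) => StrictAnti v ∧ ∀ i : Fin r, (i : ℕ) = r - 1 → (v i : ℕ) = 0),
      Complex.exp (-(2 * Real.pi * Complex.I * (((∑ i, lam i) + (∑ i, lam' i) : ℕ) : ℂ) *
          ((∑ j, (v j : ℕ) : ℕ) : ℂ) / ((r : ℂ) * ((r : ℂ) + k)))) *
        S lam (fun j => (v j : ℕ)) * S lam' (fun j => (v j : ℕ)) * (P (fun j => (v j : ℕ)) : ℂ)) = 0 := by
  exact Groth.Agent.H25Verl.twisted_pair r k hr hk lam lam' hlam hlamk hlam' hlam'k hne z hz S hS P hP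

end Groth.Agent.S19895
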