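import Groth.Statements.S1990
import Groth.Agent.H9Ram.TowerExt
-- import your own Groth.Agent.* helpers here

set_option autoImplicit false
universe u
open EtAlg

namespace Groth.Agent.S1990

/-- Let K be the fraction field of a discrete valuation ring A, and K ⊂ L ⊂ M finite separable
extensions. If L/K is tamely ramified (resp. unramified) with respect to A and M/L is tamely
ramified (resp. unramified) with respect to every valuation subring of L dominating A, then M/K is
tamely ramified (resp. unramified) with respect to A. -/
theorem result (A K : Type u) [CommRing A] [IsDomain A] [IsDiscreteValuationRing A] [Field K] [Algebra A K] [IsFractionRing A K] (L M : Type u) [Field L] [Field M]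
    [Algebra K L] [Algebra K M] [Algebra L M] [IsScalarTower K L M] [FiniteDimensional K M] [Algebra.IsSeparable K M] :
    (EtRam.IsTamelyRamified A ((algebraMap K L).comp (algebraMap A K)) →
      (∀ (V : ValuationSubring L), EtRam.Dominates A ((algebraMap K L).comp (algebraMap A K)) V →
        EtRam.IsTamelyRamified V ((algebraMap L M).comp V.subtype)) →
      EtRam.IsTamelyRamified A ((algebraMap K M).comp (algebraMap A K))) ∧
    (EtRam.IsUnramifiedExt A ((algebraMap K L).comp (algebraMap A K)) →
      (∀ (V : ValuationSubring L), EtRam.Dominates A ((algebraMap K L).comp (algebraMap A K)) V →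
        EtRam.IsUnramifiedExt V ((algebraMap L M).comp V.subtype)) →
      EtRam.IsUnramifiedExt A ((algebraMap K M).comp (algebraMap A K))) := by
  constructor
  · intro hL hM W hW
    exact (H9Ram.TowerExt.tower_iff (L := L) W hW).1.mpr
      ⟨hL _ (H9Ram.TowerExt.restrict W hW),
        hM _ (H9Ram.TowerExt.restrict W hW) W (H9Ram.Dom.self (algebraMap L M) W)⟩
  · intro hL hM W hW
    exact (H9Ram.TowerExt.tower_iff (L := L) W hW).2.mpr
      ⟨hL _ (H9Ram.TowerExt.restrict W hW),
        hM _ (H9Ram.TowerExt.restrict W hW) W (H9Ram.Dom.self (algebraMap L M) W)⟩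

end Groth.Agent.S1990
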