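import Groth.Statements.S19901
import Groth.Agent.H8Props.AlgSpLci.SmoothLocal
import Groth.Agent.H14AlgSt.LocQ3
import Groth.Agent.H14AlgSt.LargestSmooth

set_option autoImplicit false
set_option backward.isDefEq.respectTransparency false
set_option backward.isDefEq.respectTransparency.types false
universe u
open CategoryTheory AlgebraicGeometry
open AlgSt

namespace Groth.Agent.S19901

/-- Let f : 𝒳 → 𝒴, q : 𝒴 → 𝒵 and p : 𝒳 → 𝒵 be morphisms of algebraic stacks forming a 2-commutative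
triangle (a 2-isomorphism between q ∘ f and p is given). If q is smooth and p is a local complete
intersection morphism (Koszul), then f is a local complete intersection morphism. Smooth and local
complete intersection morphisms of algebraic stacks are read on one square of smooth scheme charts. -/
theorem result
    (S : Scheme.{u}) (𝒳 : AlgSt.Cat S) (𝒴 : AlgSt.Cat S) (𝒵 : AlgSt.Cat S)
    (h𝒳 : AlgSt.IsAlgStack Scheme.fppfPrecoverage 𝒳)
    (h𝒴 : AlgSt.IsAlgStack Scheme.fppfPrecoverage 𝒴)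
    (h𝒵 : AlgSt.IsAlgStack Scheme.fppfPrecoverage 𝒵)
    (f : 𝒳 ⥤ᵇ 𝒴) (q : 𝒴 ⥤ᵇ 𝒵) (p : 𝒳 ⥤ᵇ 𝒵) (e : BasedFunctor.comp f q ≅ p)
    (hq : AlgSt.LocQ (AlgSp.LocP @Smooth) q) (hp : AlgSt.LocQ AlgSp.IsLCIMor p) :
    AlgSt.LocQ AlgSp.IsLCIMor f := by
  obtain ⟨A, B, C, h, c, z, b, y, a, Θ, hz, hb, hy, ha, hΘ, ⟨jh⟩, ⟨jc⟩, ⟨jt⟩⟩ :=
    Groth.Agent.H14AlgSt.exists_tower h𝒳 h𝒴 h𝒵 f q
  have hp' : AlgSt.LocQ AlgSp.IsLCIMor (BasedFunctor.comp f q) := by
    obtain ⟨U, V, x, v, k, α, h1, h2, h3, h4⟩ := hp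
    exact ⟨U, V, x, v, k, (Stk.restr x _).mapIso e ≪≫ α, h1, h2, h3, h4⟩
  refine Groth.Agent.H14AlgSt.locQ_of_atlas h𝒳.isStack.1 h𝒴.isStack.1 hy.1 hy.2 ha.1 ha.2 jh
    ((Groth.Agent.H8Props.AlgSpLci.isLCIMor_yon_iff _).2 ?_)
  have hc : AlgSp.lci (h.left ≫ c.left) := by
    rw [← Over.comp_left]
    exact (Groth.Agent.H8Props.AlgSpLci.isLCIMor_yon_iff _).1 (Groth.Agent.H14AlgSt.prop_of_locQ
      Groth.Agent.H8Props.AlgSpLci.smLocal_lci hp' hz.1 Θ hΘ.1 jt)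
  exact Groth.Agent.H8Props.AlgSpLci.lci_of_comp_smooth h.left c.left hc
    (AlgSp.locP_yon_map (Groth.Agent.H14AlgSt.prop_of_locQ Groth.Agent.H14AlgSt.smLocal_smooth hq hz.1 b hb.1 jc))

end Groth.Agent.S19901
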