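import Groth.Statements.S19904
import Groth.Agent.H24Art.Double

set_option autoImplicit false
universe u v
open CategoryTheory
open ArtFun

namespace Groth.Agent.S19904

/-- For functors F, G, G' on Artinian local Λ-algebras with residue field k and morphisms φ : F → G, ψ :
G' → G: if φ is smooth then the base change F ×_G G' → G' (second projection of the fibre product of
functors) is smooth. -/
theorem result {Λ : Type u} {k : Type u} [CommRing Λ] [Field k] [Algebra Λ k]
    [IsNoetherianRing Λ] [Module.Finite Λ k]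
    {F G G' : ArtFun.Art Λ k ⥤ Type v} (φ : F ⟶ G) (ψ : G' ⟶ G) (hφ : ArtFun.IsSmooth φ) :
    ArtFun.IsSmooth (Limits.pullback.snd φ ψ) := by
  rintro B A μ hμ ⟨⟨z, b⟩, hzb⟩
  have hzb : (Limits.pullback.snd φ ψ).app A z = G'.map μ b := hzb
  obtain ⟨x, hx⟩ := hφ μ hμ ⟨((Limits.pullback.fst φ ψ).app A z, ψ.app B b), by
    rw [Groth.Agent.H24Art.pullback_elt_w, hzb, Groth.Agent.H24Art.nat']⟩
  have hx₁ : F.map μ x = (Limits.pullback.fst φ ψ).app A z := congrArg (fun w => w.1.1) hx
  have hx₂ : φ.app B x = ψ.app B b := congrArg (fun w => w.1.2) hx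
  obtain ⟨w, hw₁, hw₂⟩ := Groth.Agent.H24Art.exists_pullback_elt φ ψ x b hx₂
  refine ⟨w, Subtype.ext (Prod.ext (Groth.Agent.H24Art.pullback_elt_ext φ ψ ?_ ?_) hw₂)⟩
  · change (Limits.pullback.fst φ ψ).app A ((Limits.pullback φ ψ).map μ w) = _
    rw [Groth.Agent.H24Art.nat', hw₁, hx₁]
  · change (Limits.pullback.snd φ ψ).app A ((Limits.pullback φ ψ).map μ w) = _
    rw [Groth.Agent.H24Art.nat', hw₂, hzb]

end Groth.Agent.S19904
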