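import Groth.Statements.S1991
import Groth.Agent.H9Ram.Compositum
-- import your own Groth.Agent.* helpers here

set_option autoImplicit false
universe u
open EtAlg

namespace Groth.Agent.S1991

/-- Let A be a discrete valuation ring with fraction field K. A finite separable extension L/K that is
unramified (resp. tamely ramified) with respect to A embeds over K into a finite Galois extension of
K that is unramified (resp. tamely ramified) with respect to A; and two finite separable extensions
of K that are unramified (resp. tamely ramified) with respect to A embed over K into a common finite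
separable extension with the same property. -/
theorem result (A K : Type u) [CommRing A] [IsDomain A] [IsDiscreteValuationRing A] [Field K] [Algebra A K] [IsFractionRing A K] :
    (∀ (L : Type u) [Field L] [Algebra K L] [FiniteDimensional K L] [Algebra.IsSeparable K L],
      (EtRam.IsUnramifiedExt A ((algebraMap K L).comp (algebraMap A K)) →
        ∃ (M : Type u) (_ : Field M) (_ : Algebra K M) (_ : FiniteDimensional K M) (_ : IsGalois K M) (_ : L →ₐ[K] M),
          EtRam.IsUnramifiedExt A ((algebraMap K M).comp (algebraMap A K))) ∧
      (EtRam.IsTamelyRamified A ((algebraMap K L).comp (algebraMap A K)) →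
        ∃ (M : Type u) (_ : Field M) (_ : Algebra K M) (_ : FiniteDimensional K M) (_ : IsGalois K M) (_ : L →ₐ[K] M),
          EtRam.IsTamelyRamified A ((algebraMap K M).comp (algebraMap A K)))) ∧
    (∀ (L₁ L₂ : Type u) [Field L₁] [Field L₂] [Algebra K L₁] [Algebra K L₂] [FiniteDimensional K L₁] [FiniteDimensional K L₂]
      [Algebra.IsSeparable K L₁] [Algebra.IsSeparable K L₂],
      (EtRam.IsUnramifiedExt A ((algebraMap K L₁).comp (algebraMap A K)) →
        EtRam.IsUnramifiedExt A ((algebraMap K L₂).comp (algebraMap A K)) →
        ∃ (M : Type u) (_ : Field M) (_ : Algebra K M) (_ : FiniteDimensional K M) (_ : Algebra.IsSeparable K M)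
          (_ : L₁ →ₐ[K] M) (_ : L₂ →ₐ[K] M), EtRam.IsUnramifiedExt A ((algebraMap K M).comp (algebraMap A K))) ∧
      (EtRam.IsTamelyRamified A ((algebraMap K L₁).comp (algebraMap A K)) →
        EtRam.IsTamelyRamified A ((algebraMap K L₂).comp (algebraMap A K)) →
        ∃ (M : Type u) (_ : Field M) (_ : Algebra K M) (_ : FiniteDimensional K M) (_ : Algebra.IsSeparable K M)
          (_ : L₁ →ₐ[K] M) (_ : L₂ →ₐ[K] M), EtRam.IsTamelyRamified A ((algebraMap K M).comp (algebraMap A K)))) := by
  refine ⟨fun L _ _ _ _ => ?_, fun L₁ L₂ _ _ _ _ _ _ _ _ => ?_⟩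
  · let Ω := SeparableClosure K
    let N : IntermediateField K Ω := IntermediateField.normalClosure K L Ω
    have : IsGalois K Ω := IsSepClosure.isGalois
    have : Normal K N := normalClosure.normal K L Ω
    have : Algebra.IsSeparable K N := Algebra.isSeparable_tower_bot_of_isSeparable K N Ω
    have : IsGalois K N := ⟨⟩
    have : FiniteDimensional K N := normalClosure.is_finiteDimensional K L Ω
    let σ₀ : L →ₐ[K] Ω := IsSepClosed.lift
    let e : L →ₐ[K] N :=
      (IntermediateField.inclusion (AlgHom.fieldRange_le_normalClosure σ₀)).comp σ₀.rangeRestrict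
    constructor
    · intro hL
      refine ⟨N, inferInstance, inferInstance, inferInstance, inferInstance, e, ?_⟩
      refine H9Ram.Compositum.normalClosure_induction L
        (fun E => EtRam.IsUnramifiedExt A ((algebraMap K E).comp (algebraMap A K))) (fun σ => ?_)
        fun E _ σ hE => ?_
      · have h := (H9Ram.Compositum.sup (A := A) σ σ).2 hL hL
        rwa [sup_idem] at h
      · have h := (H9Ram.Compositum.sup (A := A) E.val σ).2 hE hL
        rwa [IntermediateField.fieldRange_val] at h
    · intro hL
      refine ⟨N, inferInstance, inferInstance, inferInstance, inferInstance, e, ?_⟩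
      refine H9Ram.Compositum.normalClosure_induction L
        (fun E => EtRam.IsTamelyRamified A ((algebraMap K E).comp (algebraMap A K))) (fun σ => ?_)
        fun E _ σ hE => ?_
      · have h := (H9Ram.Compositum.sup (A := A) σ σ).1 hL hL
        rwa [sup_idem] at h
      · have h := (H9Ram.Compositum.sup (A := A) E.val σ).1 hE hL
        rwa [IntermediateField.fieldRange_val] at h
  · let Ω := SeparableClosure K
    let f₁ : L₁ →ₐ[K] Ω := IsSepClosed.lift
    let f₂ : L₂ →ₐ[K] Ω := IsSepClosed.lift
    have : FiniteDimensional K f₁.fieldRange :=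
      Module.Finite.of_surjective f₁.rangeRestrict.toLinearMap f₁.rangeRestrict_surjective
    have : FiniteDimensional K f₂.fieldRange :=
      Module.Finite.of_surjective f₂.rangeRestrict.toLinearMap f₂.rangeRestrict_surjective
    let M : IntermediateField K Ω := f₁.fieldRange ⊔ f₂.fieldRange
    have : Algebra.IsSeparable K M := Algebra.isSeparable_tower_bot_of_isSeparable K M Ω
    let g₁ : L₁ →ₐ[K] M := (IntermediateField.inclusion le_sup_left).comp f₁.rangeRestrict
    let g₂ : L₂ →ₐ[K] M := (IntermediateField.inclusion le_sup_right).comp f₂.rangeRestrict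
    exact ⟨fun h₁ h₂ => ⟨M, inferInstance, inferInstance, inferInstance, inferInstance, g₁, g₂,
        (H9Ram.Compositum.sup f₁ f₂).2 h₁ h₂⟩,
      fun h₁ h₂ => ⟨M, inferInstance, inferInstance, inferInstance, inferInstance, g₁, g₂,
        (H9Ram.Compositum.sup f₁ f₂).1 h₁ h₂⟩⟩

end Groth.Agent.S1991
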