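import Groth.Statements.S19912
import Groth.Agent.H02CA.RegularQuotient

set_option autoImplicit false
universe u
open CategoryTheory CategoryTheory.Limits AlgebraicGeometry
open Models

open CategoryTheory AlgebraicGeometry

namespace Groth.Agent.S19912

/-- Let R be a discrete valuation ring with fraction field K and YR a scheme over Spec R. Let V be a
discrete valuation ring which is an R-algebra in such a way that the maximal ideal of R generates
the maximal ideal of V (ramification index one), and let σ : Spec V -> YR be a morphism over Spec R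
sending the closed point of Spec V to y. If the local ring of YR at y is regular, then the local
ring at y of the special fibre of YR, namely O_{YR,y}/𝔪_R O_{YR,y}, is regular. (The published
statement takes YR a normal projective flat model of a smooth projective geometrically connected
curve Y over K and phrases the hypothesis through a point Q of Y rational over an extension L of K
unramified over K with y in the closure of Q: by the valuative criterion such a point yields a
morphism as above from the spectrum of the localization of the integral closure of R in L at a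
maximal ideal over y, which is the form used here.) -/
theorem result
    (R : Type u) [CommRing R] [IsDomain R] [IsDiscreteValuationRing R]
    (YR : Over (Spec (CommRingCat.of R)))
    (V : Type u) [CommRing V] [IsDomain V] [IsDiscreteValuationRing V] [Algebra R V]
    (hV : Ideal.map (algebraMap R V) (IsLocalRing.maximalIdeal R) = IsLocalRing.maximalIdeal V)
    (σ : Spec (CommRingCat.of V) ⟶ YR.left)
    (hσ : σ ≫ YR.hom = Spec.map (CommRingCat.ofHom (algebraMap R V)))
    (y : YR.left) (hy : σ.base (IsLocalRing.closedPoint V) = y)
    (hreg : IsRegularLocalRing (YR.left.presheaf.stalk y)) :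
    IsRegularLocalRing (YR.left.presheaf.stalk y ⧸
      Ideal.map (Models.stalkHom R YR y) (IsLocalRing.maximalIdeal R)) := by
  classical
  subst hy
  obtain ⟨ϖ, hϖ⟩ := IsDiscreteValuationRing.exists_irreducible R
  rw [hϖ.maximalIdeal_eq, Ideal.map_span, Set.image_singleton] at hV ⊢
  let ρ := (Scheme.stalkClosedPointTo σ).hom
  have key : ∀ (h : Spec (CommRingCat.of V) ⟶ Spec (CommRingCat.of R)), h = Spec.map (CommRingCat.ofHom (algebraMap R V)) →
      (Spec (CommRingCat.of R)).presheaf.germ ⊤ _ trivial ≫ Scheme.stalkClosedPointTo h =
        (Scheme.ΓSpecIso (CommRingCat.of R)).hom ≫ CommRingCat.ofHom (algebraMap R V) := by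
    rintro h rfl
    exact Scheme.germ_stalkClosedPointTo_Spec _
  have hρ : ∀ r, ρ (Models.stalkHom R YR (σ.base (IsLocalRing.closedPoint V)) r) = algebraMap R V r := by
    intro r
    have h2 := key _ hσ
    erw [Scheme.stalkClosedPointTo_comp, Scheme.Hom.germ_stalkMap_assoc] at h2
    have h3 := congrArg (fun m => (Scheme.ΓSpecIso (CommRingCat.of R)).inv ≫ m) h2
    simp only [Iso.inv_hom_id_assoc] at h3
    exact congr($(h3).hom r)
  set π' := Models.stalkHom R YR (σ.base (IsLocalRing.closedPoint V)) ϖ
  have hmemV : algebraMap R V ϖ ∈ IsLocalRing.maximalIdeal V := hV ▸ Ideal.mem_span_singleton_self _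
  have hnz : algebraMap R V ϖ ≠ 0 := by
    intro h
    rw [h] at hV
    exact IsDiscreteValuationRing.not_a_field V (hV.symm.trans (Ideal.span_singleton_eq_bot.2 rfl))
  have hnu : ∀ x, x ∈ IsLocalRing.maximalIdeal (YR.left.presheaf.stalk (σ.base (IsLocalRing.closedPoint V))) → ρ x ∈ IsLocalRing.maximalIdeal V :=
    fun x hx => map_nonunit ρ x hx
  have hmem : π' ∈ IsLocalRing.maximalIdeal (YR.left.presheaf.stalk (σ.base (IsLocalRing.closedPoint V))) := by
    refine fun h : IsUnit π' => hmemV ?_
    rw [← hρ]
    exact h.map ρ
  have hind : ∀ a : Fin 1 → YR.left.presheaf.stalk (σ.base (IsLocalRing.closedPoint V)), ∑ j, a j * (fun _ => π') j ∈ IsLocalRing.maximalIdeal _ ^ 2 → ∀ j, a j ∈ IsLocalRing.maximalIdeal (YR.left.presheaf.stalk (σ.base (IsLocalRing.closedPoint V))) := by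
    intro a ha j
    fin_cases j
    by_contra hu
    have hau : IsUnit (a 0) := by simpa [mem_nonunits_iff] using hu
    simp only [Fin.sum_univ_one, Ideal.unit_mul_mem_iff_mem _ hau] at ha
    have hle : (IsLocalRing.maximalIdeal (YR.left.presheaf.stalk (σ.base (IsLocalRing.closedPoint V))) ^ 2).map ρ ≤ IsLocalRing.maximalIdeal V ^ 2 :=
      (Ideal.map_pow ρ _ 2).trans_le (Ideal.pow_right_mono (Ideal.map_le_iff_le_comap.2 hnu) 2)
    have h2 := hle (Ideal.mem_map_of_mem ρ ha)
    rw [hρ, ← hV, Ideal.span_singleton_pow, Ideal.mem_span_singleton'] at h2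
    obtain ⟨c, hc⟩ := h2
    have : (c * algebraMap R V ϖ - 1) * algebraMap R V ϖ = 0 := by linear_combination hc
    rcases mul_eq_zero.1 this with h | h
    · exact hmemV (IsUnit.of_mul_eq_one_right c (sub_eq_zero.1 h))
    · exact hnz h
  have := (Groth.Agent.H02CA.regular_quotient_of_independent (fun _ : Fin 1 => π') (fun _ => hmem) hind).1
  rwa [Set.range_const] at this

end Groth.Agent.S19912
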