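import Groth.Statements.S19913
import Groth.Agent.H19Unip.Normal
import Groth.Agent.H21Diag.CentrePiece
import Groth.Agent.H21Diag.SmoothLift

set_option autoImplicit false
universe u
open CategoryTheory MonoidalCategory CartesianMonoidalCategory MonObj GrpObj AlgebraicGeometry
open AGF

namespace Groth.Agent.S19913

set_option linter.style.haveILetI false
set_option backward.isDefEq.respectTransparency false
set_option synthInstance.maxHeartbeats 400000
set_option maxHeartbeats 4000000
open CategoryTheory.Limits Groth.Agent.H27Witt H20Mu H20Conj H20Borel H21Chev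

section Fibre

variable {K : Type u} [Field K] [IsAlgClosed K]

/-- Over an algebraically closed field: a common point of the centre and a unipotent subgroup is the unit. -/
theorem centre_unip_aux {G Z U : Over (Sk K)} [GrpObj G] [GrpObj U] [IsAffine U.left] [Smooth U.hom]
    [ConnectedSpace U.left] (hG : Red.IsReductiveOver K G) (z : Z ⟶ G)
    (hz : ∀ (X : Over (Sk K)) (a : X ⟶ Z) (g : X ⟶ G), (a ≫ z) * g = g * (a ≫ z))
    (hns : Red.HasNoSubtorus K U) (u : U ⟶ G) [IsMonHom u] [IsClosedImmersion u.left]
    (X : Over (Sk K)) (a : X ⟶ Z) (b : X ⟶ U) (hab : a ≫ z = b ≫ u) : b ≫ u = 1 := by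
  classical
  obtain ⟨ha, hs, hc, hR⟩ := hG
  haveI := ha; haveI := hs; haveI := hc
  haveI : LocallyOfFiniteType G.hom := inferInstance
  haveI : LocallyOfFiniteType U.hom := inferInstance
  haveI : AlgebraicGeometry.IsReduced U.left := Groth.Agent.H13AlgSp.isReduced_of_smooth_mor U.hom
  -- a Borel subgroup containing the unipotent group
  haveI := isSolvable_pts_of_hasNoSubtorus U hns
  haveI : Group.IsSolvable (postHom u).range :=
    Group.isSolvable_of_surjective (f := (postHom u).rangeRestrict) (MonoidHom.rangeRestrict_surjective _)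
  obtain ⟨B, gB, iB, hB, hpts⟩ := exists_isBorelOver_ge (postHom u).range (isPrime_range u)
    (Group.isSolvable_of_isSolvable_injective (f := Subgroup.inclusion (fun x hx => clo_range_le u hx))
      (Subgroup.inclusion_injective _))
  letI := gB; haveI := hB.1; haveI := hB.2.1; haveI := hB.2.2.1; haveI := hB.2.2.2.1
  haveI : IsAffine B.left := isAffine_of_isAffineHom iB.left
  haveI : Mono iB := Over.mono_of_mono_left _
  obtain ⟨fU, hfU⟩ := exists_factor_pts iB u fun w => hpts _ ⟨w, rfl⟩
  haveI : IsMonHom fU := by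
    haveI : IsMonHom (fU ≫ iB) := by rw [hfU]; infer_instance
    exact Groth.Agent.H21Diag.isMonHom_of_comp_mono fU iB
  obtain ⟨T, C, gT, gC, iT, c, cB, tC, hT, hcC, hcB, htC⟩ := exists_cartan_le iB hB
  letI := gT; letI := gC
  haveI := hT.1; haveI := hT.2.1
  let t : T ⟶ B := tC ≫ cB
  have ht : t ≫ iB = iT := by rw [Category.assoc, hcB, htC]
  haveI : IsMonHom t := by
    haveI : IsMonHom (t ≫ iB) := by rw [ht]; infer_instance
    exact Groth.Agent.H21Diag.isMonHom_of_comp_mono t iB
  haveI : Mono t := by
    haveI : Mono (t ≫ iB) := by rw [ht]; infer_instance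
    exact mono_of_mono t iB
  obtain ⟨n, hn⟩ := hB.2.2.2.2.1
  have hsolB : Group.IsSolvable (𝟙_ (Over (Sk K)) ⟶ B) := ⟨n, hn _⟩
  -- the retraction onto the torus
  obtain ⟨r, e, co, he, hco, hprod, hcomm⟩ := exists_cochars T hT.2.2.1
  choose χ hχ hext using fun l => haveI := hco l; exists_char_extend hsolB hT.2.2.1 t (co l)
  let ρ : B ⟶ T := (List.ofFn fun l => χ l ≫ e l).prod
  have hρcomp : ∀ {P : Over (Sk K)} (q : P ⟶ B), q ≫ ρ = (List.ofFn fun l => (q ≫ χ l) ≫ e l).prod := fun q => by
    let φ : (B ⟶ T) →* (_ ⟶ T) :=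
      { toFun := fun m => q ≫ m, map_one' := MonObj.comp_one q, map_mul' := MonObj.comp_mul q }
    show φ ρ = _
    rw [map_list_prod, List.map_ofFn]
    simp [φ, Function.comp_def]
  have hρt : t ≫ ρ = 𝟙 T := by
    rw [hρcomp, ← hprod]
    exact congrArg List.prod (congrArg List.ofFn (funext fun l => by rw [hext]))
  have hρU : fU ≫ ρ = 1 := by
    rw [hρcomp]
    refine List.prod_eq_one fun x hx => ?_
    obtain ⟨l, rfl⟩ := List.mem_ofFn.mp hx
    haveI := hχ l; haveI := he l
    rw [char_eq_one U hns (fU ≫ χ l), MonObj.one_comp]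
  -- the centre is in the torus
  have hself := H21Chev.isCentralizerOf_self (G := G)
    (fun W _ i _ hci hs hc hn hns => hR W i hci hs hc hn hns) hT
  obtain ⟨w, hw⟩ := (hself.2.2 X (a ≫ z)).mpr fun X' x q => by
    rw [← Category.assoc x a z]; exact hz X' (x ≫ a) (q ≫ iT)
  have h1 : w ≫ t = b ≫ fU := (cancel_mono iB).mp (by rw [Category.assoc, ht, hw, hab, Category.assoc, hfU])
  have h2 : w = 1 := by
    calc w = (w ≫ t) ≫ ρ := by rw [Category.assoc, hρt, Category.comp_id]
      _ = 1 := by rw [h1, Category.assoc, hρU, MonObj.comp_one]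
  rw [← hab, ← hw, h2, MonObj.one_comp]

end Fibre


/-- Let p be a prime, k a field of characteristic p, G a reductive k-group scheme (affine, smooth,
connected reductive geometric fibre), z : Z ⟶ G its scheme-theoretic centre, and u : U ⟶ G a closed
subgroup scheme which is affine, smooth and connected and whose geometric fibre contains no
non-trivial subtorus (a smooth connected unipotent k-subgroup). Then Z ∩ U = 1 scheme-theoretically:
for every k-scheme X and all X-valued points a of Z and b of U with the same image in G(X), that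
image is the identity. (The published assertion allows any smooth unipotent k-subgroup U; it is
stated here for connected U. The consequence that U maps by a closed immersion into the quotient of
G by Z is not restated.) -/
theorem result (p : ℕ) [Fact p.Prime]
    (k : Type u) [Field k] [CharP k p]
    (G : Over (Spec (CommRingCat.of k))) [GrpObj G] (hG : Red.IsReductive G)
    (Z : Over (Spec (CommRingCat.of k))) [GrpObj Z] (z : Z ⟶ G) (hz : Red.IsCentre z)
    (U : Over (Spec (CommRingCat.of k))) [GrpObj U] [IsAffine U.left] [Smooth U.hom] [ConnectedSpace ↥U.left]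
    (hU : ∀ s : ↥(Spec (CommRingCat.of k)),
      Red.HasNoSubtorus (AlgebraicClosure ((Spec (CommRingCat.of k)).residueField s)) (Red.geomFibre s U))
    (u : U ⟶ G) [IsMonHom u] (hu : IsClosedImmersion u.left)
    (X : Over (Spec (CommRingCat.of k))) (a : X ⟶ Z) (b : X ⟶ U) (hab : a ≫ z = b ≫ u) :
    b ≫ u = 1 := by
  haveI := hu; haveI := hG.1; haveI := hG.2.1
  obtain ⟨s⟩ : Nonempty ↥(Spec (CommRingCat.of k)) := inferInstance
  let v := Red.geomPt s
  haveI : Surjective v := ⟨fun x => ⟨default, Subsingleton.elim _ _⟩⟩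
  haveI : Flat v := inferInstance
  haveI : IsMonHom ((Over.pullback v).map u : Red.bc v U ⟶ Red.bc v G) := Groth.Agent.H21Diag.isMonHom_bcMap _ u
  haveI : IsClosedImmersion ((Over.pullback v).map u : Red.bc v U ⟶ Red.bc v G).left :=
    MorphismProperty.baseChange_map v u hu
  haveI : IsAffine (Red.bc v U).left := inferInstanceAs (IsAffine (pullback U.hom v))
  haveI : Smooth (Red.bc v U).hom := inferInstanceAs (Smooth (pullback.snd U.hom v))
  haveI : LocallyOfFiniteType U.hom := inferInstance
  haveI := Groth.Agent.H19Grp.geometricallyIrreducible_of_connectedSpace_group U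
  haveI : IrreducibleSpace (Red.bc v U).left :=
    GeometricallyIrreducible.geometrically_irreducibleSpace _ _ _ (IsPullback.of_hasPullback U.hom v)
  let q : (Over.map v).obj (Red.bc v X) ⟶ X := (Groth.Agent.H21Diag.bcEquiv v X _).symm (𝟙 _)
  have hq : q.left = pullback.fst X.hom v := by
    have h := Groth.Agent.H21Diag.bcEquiv_left_fst v X (Red.bc v X) q
    rw [show Groth.Agent.H21Diag.bcEquiv v X _ q = 𝟙 _ from Equiv.apply_symm_apply _ _] at h
    exact h.symm.trans (Category.id_comp _)
  haveI : Flat q.left := by rw [hq]; infer_instance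
  haveI : Surjective q.left := by rw [hq]; infer_instance
  haveI : Epi q.left := Flat.epi_of_flat_of_surjective q.left
  haveI : Epi q := Over.epi_of_epi_left _
  let F := Over.pullback v
  have hcen : ∀ (Y : Over (Spec (CommRingCat.of _))) (a' : Y ⟶ Red.bc v Z) (g : Y ⟶ Red.bc v G),
      (a' ≫ F.map z) * g = g * (a' ≫ F.map z) := fun Y a' g => by
    have h := ((Groth.Agent.H21Dyn.centralizer_bc v (𝟙 G) z hz.2.2 Y (a' ≫ F.map z)).mp ⟨a', rfl⟩) Y (𝟙 Y) g
    simpa [F] using h
  have h := centre_unip_aux (hG.2.2 s) (F.map z) hcen (hU s) (F.map u : Red.bc v U ⟶ Red.bc v G)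
    (Red.bc v X) (F.map a) (F.map b) (by rw [← F.map_comp, ← F.map_comp, hab])
  rw [← F.map_comp] at h
  refine (cancel_epi q).mp ?_
  have h' := congrArg (Groth.Agent.H21Diag.bcEquiv v G (Red.bc v X)).symm h
  have e : (Groth.Agent.H21Diag.bcEquiv v G (Red.bc v X)).symm (𝟙 _ ≫ F.map (b ≫ u)) = q ≫ b ≫ u :=
    Groth.Agent.H21Diag.bcEquiv_symm_comp_map v _ _ _
  rw [Category.id_comp] at e
  rw [← e, h', MonObj.comp_one]
  exact map_one (Groth.Agent.H21Diag.bcHom v G (Red.bc v X))

end Groth.Agent.S19913
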