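import Groth.Statements.S19917
import Groth.Agent.H23Tame.Basic

set_option autoImplicit false
universe u
open CategoryTheory CategoryTheory.Limits AlgebraicGeometry MonObj
open SGA7 IntermediateField

namespace Groth.Agent.S19917

/-- Let R be a discrete valuation ring with fraction field K and residue field k, Ω a separable closure
of K and W a valuation subring of Ω lying over R. Assume that every K-automorphism of Ω belongs to
the inertia group at W, i.e. K coincides with its maximal extension inside Ω at which the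
restriction of W is unramified over R. Let r ≥ 1 be an integer whose image in k is non-zero. Then
there is exactly one intermediate field L of Ω over K with [L : K] = r and L Galois over K; moreover
every such L is totally (and tamely) ramified over R: every maximal ideal of the integral closure of
R in L has ramification index r over R. -/
theorem result (R K Ω : Type u) [CommRing R] [IsDomain R]
    [IsDiscreteValuationRing R] [Field K] [Algebra R K] [IsFractionRing R K] [Field Ω] [Algebra K Ω]
    [IsSepClosure K Ω] [Algebra R Ω] [IsScalarTower R K Ω]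
    (W : ValuationSubring Ω) (hW : SGA7.LiesOver K R W)
    (hI : ∀ σ : Ω ≃ₐ[K] Ω, SGA7.IsInertia W σ)
    (r : ℕ) (hr : 0 < r) (hrk : (r : IsLocalRing.ResidueField R) ≠ 0) :
    (∃! L : IntermediateField K Ω, Module.finrank K L = r ∧ IsGalois K L) ∧
      ∀ L : IntermediateField K Ω, Module.finrank K L = r → IsGalois K L →
        ∀ P : Ideal (integralClosure R L), P.IsMaximal → P.ramificationIdx R = r := by
  obtain ⟨π, hπ⟩ := IsDiscreteValuationRing.exists_irreducible R
  obtain ⟨y, hy⟩ := H23Tame.exists_pow_eq hW hrk (algebraMap K Ω (algebraMap R K π))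
  have hd0 : Module.finrank K K⟮y⟯ = r := H23Tame.finrank_adjoin_root hπ hr.ne' hy
  haveI : FiniteDimensional K K⟮y⟯ := FiniteDimensional.of_finrank_pos (by omega)
  have hgen : (⟨y, mem_adjoin_simple_self K y⟩ : K⟮y⟯) ^ r = algebraMap K K⟮y⟯ (algebraMap R K π) :=
    Subtype.ext hy
  have htop : IntermediateField.adjoin K {(⟨y, mem_adjoin_simple_self K y⟩ : K⟮y⟯)} = ⊤ :=
    IntermediateField.lift_injective K⟮y⟯ (by rw [IntermediateField.lift_adjoin_simple, IntermediateField.lift_top])
  have hG0 : IsGalois K K⟮y⟯ := by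
    obtain ⟨ζ, hζ⟩ := H23Tame.primitiveRoots_nonempty hW hI hrk
    have hK : (primitiveRoots (Module.finrank K K⟮y⟯) K).Nonempty :=
      ⟨ζ, (mem_primitiveRoots (by omega)).mpr (by rwa [hd0])⟩
    have h20 := ((isCyclic_tfae K K⟮y⟯ hK).out 2 0 rfl rfl)
    refine (h20.mp ?_).1
    refine ⟨⟨y, mem_adjoin_simple_self K y⟩, ⟨algebraMap R K π, ?_⟩, htop⟩
    rw [hd0]; exact hgen.symm
  have hun : ∀ L : IntermediateField K Ω, Module.finrank K L = r → IsGalois K L → L = K⟮y⟯ :=
    fun L hd hG => eq_of_le_of_finrank_eq (H23Tame.le_adjoin_root hW hI hrk hπ hy L hd hG) (by rw [hd, hd0])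
  refine ⟨⟨K⟮y⟯, ⟨hd0, hG0⟩, fun L hL => hun L hL.1 hL.2⟩, fun L hd hG P hP => ?_⟩
  obtain rfl := hun L hd hG
  have hy' : (⟨y, mem_adjoin_simple_self K y⟩ : K⟮y⟯) ^ r = algebraMap R K⟮y⟯ π := by
    rw [hgen, ← IsScalarTower.algebraMap_apply]
  exact H23Tame.ramificationIdx_eq (K := K) hπ hr.ne' hd0 hy' P hP

end Groth.Agent.S19917
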