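import Groth.Statements.S19918
import Groth.Agent.H28Vert.VertGroup

set_option autoImplicit false
universe u
open CategoryTheory CategoryTheory.Limits AlgebraicGeometry
open Models

namespace Groth.Agent.S19918

/-- Kernel of Pic(X)[n] → Pic(C)[n]: let R be a discrete valuation ring with fraction field K, C a
smooth proper curve over K with H^0(C, O_C) = K, X a regular proper model of C with generic-fibre
inclusion g : C → X, Γ_1, …, Γ_n the irreducible components of the closed fibre with multiplicities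
m_1, …, m_n, d = gcd(m_1, …, m_n), and L_i invertible O_X-modules with L_i ⊗ I(Γ_i) ≅ O_X (that is,
L_i = O_X(Γ_i)). Let h ≥ 1 and put e = gcd(h, d). If M is an invertible O_X-module with M^{⊗h} ≅ O_X
whose pullback to C is trivial, then there is exactly one natural number k < e with M ≅ L_1^{k
m_1/e} ⊗ ⋯ ⊗ L_n^{k m_n/e} = O_X(k·(1/e)·X_s). In other words the kernel of Pic(X)[h] → Pic(C)[h] is
cyclic of order gcd(h, d), generated by the class of O_X((1/e)·X_s). -/
theorem result (R : Type u) [CommRing R] [IsDomain R] [IsDiscreteValuationRing R]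
    (C X : Scheme.{u}) (f : C ⟶ Spec (CommRingCat.of (FractionRing R))) (p : X ⟶ Spec (CommRingCat.of R))
    (hC : Curve.IsSmoothProperCurve (FractionRing R) C f) (hH0 : IsIso f.appTop)
    (hX : Models.IsRegularProperModel R X p C f)
    {n : ℕ} (Γ : Fin n → ArSurf.VertComp R (Over.mk p)) (hΓ : Models.IsComponentList R (Over.mk p) Γ)
    (g : C ⟶ X) (hg : IsPullback g f p (Spec.map (CommRingCat.ofHom (algebraMap R (FractionRing R)))))
    (L : Fin n → X.Modules) (hL : ∀ i, ClSub.IsInverseOf (L i) (ClSub.idealMod (Γ i).ι.ker))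
    (h : ℕ) (hh : 0 < h)
    (M : X.Modules) (hM : PicF.IsInvertible M)
    (htors : Nonempty (CohB1.tensorPow M h ≅ Coh.structureModule X))
    (htriv : Nonempty ((Scheme.Modules.pullback g).obj M ≅ Coh.structureModule C)) :
    ∃! k : ℕ, k < Nat.gcd h (Models.multGcd R (Over.mk p) Γ) ∧
      Nonempty (M ≅ FGA.multiTwist L (fun i => k * (Models.mult R (Over.mk p) (Γ i) / Nat.gcd h (Models.multGcd R (Over.mk p) Γ)))) := by
  classical
  obtain ⟨⟨hfl, hlft, -, g₀, hg₀⟩, hp, hreg⟩ := id hX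
  haveI : IsProper p := hp
  haveI : Flat p := hfl
  haveI : IsProper (Over.mk p).hom := hp
  haveI : Flat (Over.mk p).hom := hfl
  letI := H28Vert.picLaw X
  letI := H28Vert.picLaw C
  haveI : LocallyOfFiniteType p := hlft
  haveI : IsLocallyNoetherian (Over.mk p).left := LocallyOfFiniteType.isLocallyNoetherian p
  haveI : IsIntegral C := hC.2.2.1
  have hn := H28Vert.pos_of_isComponentList p g hΓ
  let d := Models.multGcd R (Over.mk p) Γ
  let e := Nat.gcd h d
  let m : Fin n → ℕ := fun i => Models.mult R (Over.mk p) (Γ i)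
  have he : 0 < e := Nat.gcd_pos_of_pos_left d hh
  have hw : ∀ i, e * (m i / e) = m i := fun i =>
    Nat.mul_div_cancel' ((Nat.gcd_dvd_right h d).trans (H28Vert.multGcd_dvd i))
  let w : Fin n → ℤ := fun i => ((m i / e : ℕ) : ℤ)
  obtain ⟨a, ha⟩ := H28Vert.exists_vcls_of_trivial hL hX hΓ g hg M hM htriv
  have h1 := (H28Vert.nonempty_tensorPow_iff hM h).1 htors
  rw [ha, ← zpow_natCast, ← H28Vert.vcls_smul, H28Vert.vcls_eq_one_iff hL hC hH0 hX hΓ] at h1
  obtain ⟨c, hc⟩ := h1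
  simp only [Pi.smul_apply, smul_eq_mul] at hc
  have hcd : (h : ℤ) ∣ c * (d : ℤ) := by
    have h2 : h ∣ Finset.univ.gcd fun i => c.natAbs * m i := by
      refine Finset.dvd_gcd fun i _ => ⟨a i, ?_⟩
      have h3 := congrArg Int.natAbs (hc i)
      simpa [Int.natAbs_mul] using h3.symm
    rw [Finset.gcd_mul_left, normalize_eq] at h2
    exact Int.natCast_dvd.2 (show h ∣ (c * (d : ℤ)).natAbs by rw [Int.natAbs_mul, Int.natAbs_natCast]; exact h2)
  obtain ⟨u, hu⟩ : ((h / e : ℕ) : ℤ) ∣ c := by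
    have hcop : IsCoprime ((h / e : ℕ) : ℤ) ((d / e : ℕ) : ℤ) :=
      Int.isCoprime_iff_nat_coprime.2 (by simp only [Int.natAbs_natCast]; exact Nat.coprime_div_gcd_div_gcd he)
    have hne : (e : ℤ) ≠ 0 := by exact_mod_cast he.ne'
    refine hcop.dvd_of_dvd_mul_right ((mul_dvd_mul_iff_right hne).1 ?_)
    rw [← Nat.cast_mul, Nat.div_mul_cancel (Nat.gcd_dvd_left h d), mul_assoc, ← Nat.cast_mul,
      Nat.div_mul_cancel (Nat.gcd_dvd_right h d)]
    exact hcd
  have hau : ∀ i, (a i : ℤ) = u * w i := fun i => by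
    have hh' : (h : ℤ) = ((h / e : ℕ) : ℤ) * (e : ℤ) := by
      rw [← Nat.cast_mul, Nat.div_mul_cancel (Nat.gcd_dvd_left h d)]
    have h4 : ((h / e : ℕ) : ℤ) * (e : ℤ) * ((a i : ℤ) - u * w i) = 0 := by
      have h5 : (e : ℤ) * w i = (m i : ℤ) := by
        show (e : ℤ) * ((m i / e : ℕ) : ℤ) = _
        rw [← Nat.cast_mul, hw i]
      have h6 : (h : ℤ) * (a i : ℤ) = c * (m i : ℤ) := hc i
      rw [hh', hu, ← h5] at h6
      linear_combination h6
    have h7 : (h : ℤ) * ((a i : ℤ) - u * w i) = 0 := by rw [hh']; exact h4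
    exact sub_eq_zero.1 ((mul_eq_zero.1 h7).resolve_left (by exact_mod_cast hh.ne'))
  have hwe : H28Vert.vcls hL w ^ (e : ℤ) = 1 := by
    rw [← H28Vert.vcls_smul, H28Vert.vcls_eq_one_iff hL hC hH0 hX hΓ]
    refine ⟨1, fun i => ?_⟩
    show (e : ℤ) * ((m i / e : ℕ) : ℤ) = 1 * (m i : ℤ)
    rw [← Nat.cast_mul, hw i, one_mul]
  have hMw : PicGrp.cls M hM = H28Vert.vcls hL w ^ u := by
    rw [ha, ← H28Vert.vcls_smul]
    exact congrArg _ (funext hau)
  have hk : ∀ k : ℕ, Nonempty (M ≅ FGA.multiTwist L fun i => k * (m i / e)) ↔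
      PicGrp.cls M hM = H28Vert.vcls hL w ^ (k : ℤ) := fun k => by
    obtain ⟨hi, hcl⟩ := H28Vert.vcls_natCast hL fun i => k * (m i / e)
    rw [← PicGrp.cls_eq_cls_iff hM hi, hcl, ← H28Vert.vcls_smul]
    refine Eq.to_iff (congrArg _ (congrArg _ (funext fun i => ?_)))
    exact Nat.cast_mul _ _
  let k := (u % (e : ℤ)).toNat
  have hk0 : ((k : ℕ) : ℤ) = u % (e : ℤ) := Int.toNat_of_nonneg (Int.emod_nonneg _ (by exact_mod_cast he.ne'))
  refine ⟨k, ⟨?_, (hk k).2 ?_⟩, ?_⟩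
  · have h8 : u % (e : ℤ) < (e : ℤ) := Int.emod_lt_of_pos _ (by exact_mod_cast he)
    show k < e
    omega
  · rw [hMw, hk0]
    conv_lhs => rw [← Int.mul_ediv_add_emod u (e : ℤ), zpow_add, zpow_mul, hwe, one_zpow, one_mul]
  · rintro j ⟨hj, hjiso⟩
    have h9 : H28Vert.vcls hL w ^ ((j : ℤ) - u % (e : ℤ)) = 1 := by
      rw [zpow_sub, ← (hk j).1 hjiso, hMw]
      conv_lhs => lhs; rw [← Int.mul_ediv_add_emod u (e : ℤ), zpow_add, zpow_mul, hwe, one_zpow, one_mul]
      rw [mul_inv_cancel]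
    rw [← H28Vert.vcls_smul, H28Vert.vcls_eq_one_iff hL hC hH0 hX hΓ] at h9
    obtain ⟨t, ht⟩ := h9
    have h10 := ht ⟨0, hn⟩
    have hpos : 0 < m ⟨0, hn⟩ / e := Nat.pos_of_ne_zero fun h0 =>
      (H28Vert.mult_pos hΓ ⟨0, hn⟩).ne' (by show m ⟨0, hn⟩ = 0; rw [← hw ⟨0, hn⟩, h0, mul_zero])
    have h11 : ((j : ℤ) - u % (e : ℤ)) * ((m ⟨0, hn⟩ / e : ℕ) : ℤ) = t * (e : ℤ) * ((m ⟨0, hn⟩ / e : ℕ) : ℤ) := by
      rw [mul_assoc, ← Nat.cast_mul, hw ⟨0, hn⟩]
      exact h10
    have h12 := mul_right_cancel₀ (by exact_mod_cast hpos.ne') h11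
    have h13 : (j : ℤ) < (e : ℤ) := by exact_mod_cast hj
    have h14 : u % (e : ℤ) < (e : ℤ) := Int.emod_lt_of_pos _ (by exact_mod_cast he)
    have ht0 : t = 0 := by nlinarith [Int.natCast_nonneg j, Int.natCast_nonneg k]
    subst ht0
    omega

end Groth.Agent.S19918
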