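import Groth.Statements.S19919
import Groth.Agent.H27DPow.FreeMap

set_option autoImplicit false
universe u v w
open DPow

namespace Groth.Agent.S19919

/-- Let R be a commutative ring and P = R⟨X_1, …, X_N⟩ the divided power polynomial algebra over R,
presented concretely as an R-algebra P with elements x i n = X_i^[n] (i < N, n ≥ 0) such that
X_i^[0] = 1, X_i^[n] · X_i^[m] = C(n+m, n) X_i^[n+m], and the monomials ∏_i X_i^[e_i] form an
R-basis of P; let P_+ be the ideal generated by the X_i^[n] with n ≥ 1 and γ the divided power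
structure on P_+ with γ_n(X_i^[1]) = X_i^[n]. Then (P, P_+, γ) is the free divided power R-algebra
on N variables: for every commutative R-algebra S, every ideal J of S with a divided power structure
δ and every family s_1, …, s_N of elements of J there is exactly one R-algebra homomorphism φ : P →
S that is a divided power morphism from (P_+, γ) to (J, δ) and satisfies φ(X_i^[1]) = s_i for all i. -/
theorem result (R : Type u) [CommRing R] (N : ℕ)
    (P : Type v) [CommRing P] [Algebra R P] (x : Fin N → ℕ → P)
    (hx0 : ∀ i, x i 0 = 1)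
    (hxmul : ∀ i n m, x i n * x i m = ((n + m).choose n : P) * x i (n + m))
    (b : Module.Basis (Fin N →₀ ℕ) R P) (hb : ∀ e : Fin N →₀ ℕ, b e = e.prod (fun i k => x i k))
    (γ : DividedPowers (Ideal.span {y : P | ∃ (i : Fin N) (n : ℕ), 1 ≤ n ∧ y = x i n}))
    (hγ : ∀ (i : Fin N) (n : ℕ), γ.dpow n (x i 1) = x i n)
    (S : Type w) [CommRing S] [Algebra R S] (J : Ideal S) (δ : DividedPowers J)
    (s : Fin N → S) (hs : ∀ i, s i ∈ J) :
    ∃! φ : P →ₐ[R] S, γ.IsDPMorphism δ φ.toRingHom ∧ ∀ i, φ (x i 1) = s i := by
  exact Groth.Agent.H27DPow.existsUnique_map hx0 hxmul b hb γ hγ J δ s hs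

end Groth.Agent.S19919
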