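import Groth.Statements.S1992
import Mathlib.RingTheory.Localization.Integral
import Mathlib.RingTheory.Henselian
import Mathlib.FieldTheory.IsSepClosed
-- import your own Groth.Agent.* helpers here

set_option autoImplicit false
universe u
open Polynomial
open EtAlg

namespace Groth.Agent.S1992

/-- A monic polynomial over a localization has its roots scaled to those of a monic polynomial. -/
theorem exists_split_scaleRoots (A : Type u) [CommRing A]
    (hA : ∀ f : A[X], f.Monic → ∃ s : Multiset A, f = (s.map fun a => X - C a).prod)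
    (p : Ideal A) [p.IsPrime] (f : (Localization.AtPrime p)[X]) (hf : f.Monic) :
    ∃ (d : Localization.AtPrime p) (t : Multiset (Localization.AtPrime p)), IsUnit d ∧
      Multiset.card t = f.natDegree ∧
      ∀ x, d ^ f.natDegree * f.eval x = (t.map fun a => d * x - a).prod := by
  let d := IsLocalization.commonDenom p.primeCompl f.support f.coeff
  let dd : Localization.AtPrime p := algebraMap A _ d.1
  have hdd : IsUnit dd := IsLocalization.map_units _ d
  have hmem : f.scaleRoots dd ∈ Polynomial.lifts (algebraMap A (Localization.AtPrime p)) :=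
    IsLocalization.scaleRoots_commonDenom_mem_lifts p.primeCompl f
      (by rw [hf.leadingCoeff]; exact one_mem _)
  obtain ⟨g, hg, hgdeg, hgm⟩ := Polynomial.lifts_and_natDegree_eq_and_monic hmem
    ((Polynomial.monic_scaleRoots_iff _).mpr hf)
  obtain ⟨s, hs⟩ := hA g hgm
  rcases subsingleton_or_nontrivial A with h | h
  · exact absurd ((Ideal.eq_top_iff_one p).mpr (Subsingleton.elim (0 : A) 1 ▸ p.zero_mem))
      Ideal.IsPrime.ne_top'
  refine ⟨dd, s.map (algebraMap A _), hdd, ?_, fun x => ?_⟩
  · rw [Multiset.card_map, ← Polynomial.natDegree_scaleRoots f dd, ← hgdeg, hs,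
      Polynomial.natDegree_multiset_prod_X_sub_C_eq_card]
  · have h1 : (f.scaleRoots dd).eval (dd * x) = dd ^ f.natDegree * f.eval x := by
      have := Polynomial.scaleRoots_eval₂_mul (p := f) (RingHom.id (Localization.AtPrime p)) x dd
      simpa using this
    rw [← h1, ← hg, hs, Polynomial.map_multiset_prod, Polynomial.eval_multiset_prod]
    simp [Multiset.map_map, Function.comp_def]


/-- Let A be an absolutely integrally closed ring, i.e. every monic polynomial over A is a product of
linear factors X - a. Then for every prime p of A the localization A_p is a strictly henselian local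
ring (henselian with separably closed residue field). -/
theorem result (A : Type u) [CommRing A]
    (hA : ∀ f : A[X], f.Monic → ∃ s : Multiset A, f = (s.map fun a => X - C a).prod)
    (p : Ideal A) [p.IsPrime] :
    EtCoh.IsStrictlyHenselianLocalRing (Localization.AtPrime p) := by
  have key := fun f hf => exists_split_scaleRoots A hA p f hf
  have hH : HenselianLocalRing (Localization.AtPrime p) := by
    refine { (inferInstance : IsLocalRing (Localization.AtPrime p)) with is_henselian := ?_ }
    intro f hf a₀ ha₀ _
    obtain ⟨d, t, hd, _, ht⟩ := key f hf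
    have h1 : (t.map fun a => d * a₀ - a).prod ∈ IsLocalRing.maximalIdeal _ :=
      ht a₀ ▸ Ideal.mul_mem_left _ _ ha₀
    obtain ⟨y, hy, hym⟩ := (IsLocalRing.maximalIdeal.isMaximal _).isPrime.multiset_prod_mem_iff_exists_mem _ |>.mp h1
    obtain ⟨a, ha, rfl⟩ := Multiset.mem_map.mp hy
    obtain ⟨u, rfl⟩ := hd
    refine ⟨↑u⁻¹ * a, ?_, ?_⟩
    · refine (u.isUnit.pow f.natDegree).mul_right_eq_zero.mp ?_
      rw [ht]
      exact Multiset.prod_eq_zero (Multiset.mem_map.mpr ⟨a, ha, by simp⟩)
    · have : ↑u⁻¹ * a - a₀ = -↑u⁻¹ * (↑u * a₀ - a) := by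
        rw [mul_sub, neg_mul, ← mul_assoc, Units.inv_mul, one_mul]; ring
      rw [this]
      exact Ideal.mul_mem_left _ _ hym
  refine ⟨hH, ?_⟩
  have : IsAlgClosed (IsLocalRing.ResidueField (Localization.AtPrime p)) := by
    refine IsAlgClosed.of_exists_root _ fun g hg hirr => ?_
    obtain ⟨F, hF, hFd, hFm⟩ := Polynomial.lifts_and_natDegree_eq_and_monic
      ((Polynomial.mem_lifts g).mpr (Polynomial.map_surjective _ IsLocalRing.residue_surjective g)) hg
    obtain ⟨d, t, hd, hcard, ht⟩ := key F hFm
    have hpos : 0 < Multiset.card t := by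
      rw [hcard, hFd]; exact hirr.natDegree_pos
    obtain ⟨a, ha⟩ := Multiset.card_pos_iff_exists_mem.mp hpos
    obtain ⟨u, rfl⟩ := hd
    refine ⟨IsLocalRing.residue _ (↑u⁻¹ * a), ?_⟩
    have h0 : F.eval (↑u⁻¹ * a) = 0 := by
      refine (u.isUnit.pow F.natDegree).mul_right_eq_zero.mp ?_
      rw [ht]
      exact Multiset.prod_eq_zero (Multiset.mem_map.mpr ⟨a, ha, by simp⟩)
    rw [← hF, Polynomial.eval_map, Polynomial.eval₂_hom, h0, map_zero]
  infer_instance

end Groth.Agent.S1992
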