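import Groth.Statements.S19920
import Groth.Agent.H28Index.IndexPoint

set_option autoImplicit false
universe u
open CategoryTheory CategoryTheory.Limits AlgebraicGeometry
open Models

namespace Groth.Agent.S19920

/-- Let R be a discrete valuation ring that is Henselian, whose residue field k is algebraically closed,
with fraction field K, and let 𝒳 be an R-scheme of finite type, flat over R, whose generic fibre is
X (𝒳 is a model of the K-scheme X) and special fibre Y = 𝒳 ⊗_R k. Then the index of X over K (the
greatest common divisor of the degrees of its closed points) divides the multiplicity of Y (the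
greatest common divisor of the lengths of the local rings of Y at its points of codimension 0): for
every point η of Y which is maximal for specialization, the local ring O_{Y,η} has finite length ℓ
and ℓ lies in the subgroup of ℤ generated by the degrees of the closed points of X. -/
theorem result (R : Type u) [CommRing R]
    [IsDomain R] [IsDiscreteValuationRing R] [HenselianLocalRing R] (hk : IsAlgClosed (IsLocalRing.ResidueField R))
    (X : Scheme.{u}) (f : X ⟶ Spec (CommRingCat.of (FractionRing R)))
    (𝒳 : Scheme.{u}) (p : 𝒳 ⟶ Spec (CommRingCat.of R)) (h𝒳 : Models.IsModel R 𝒳 p X f)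
    (η : ↥(Models.specialFibre R 𝒳 p)) (hη : ∀ y : ↥(Models.specialFibre R 𝒳 p), y ⤳ η → y = η) :
    ∃ ℓ : ℕ, Module.length ((Models.specialFibre R 𝒳 p).presheaf.stalk η) ((Models.specialFibre R 𝒳 p).presheaf.stalk η) = ℓ ∧
      (ℓ : ℤ) ∈ Curv2.indexSubgroup f := by
  haveI := hk
  exact Groth.Agent.H28Index.length_stalk_mem R X f 𝒳 p h𝒳 η hη

end Groth.Agent.S19920
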