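import Groth.Statements.S19923
import Groth.Agent.H25Dual.Biduality


set_option autoImplicit false
set_option linter.style.haveILetI false
set_option backward.isDefEq.respectTransparency false
set_option synthInstance.maxHeartbeats 200000
universe u
open CategoryTheory CategoryTheory.Limits MonoidalCategory CartesianMonoidalCategory MonObj GrpObj AlgebraicGeometry
open AbVar

namespace Groth.Agent.S19923

/-- Let A be an abelian variety over a field k (a proper, geometrically integral commutative k-group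
scheme; k arbitrary), given with a dual (Â, φ_A) and a dual (Â̂, φ_Â) of Â — each represents the
fppf-sheafified functor of invertible classes algebraically equivalent to zero on geometric fibres,
with φ multiplicative — and with a Poincaré class ξ on A ×_k Â whose transpose ξ' on Â ×_k A lies in
Pic⁰ on the fibres over A; put ι_A = φ_Â(ξ') : A → Â̂ (the double-duality morphism). Let L be an
invertible O_A-module with an inverse L⁻¹, and let Λ be a module on A ×_k A isomorphic to m^*L ⊗
p₁^*L⁻¹ ⊗ p₂^*L⁻¹ (m the group law, p₁, p₂ the projections) whose class lies in Pic⁰ on the fibres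
over the second factor, so that φ_L := φ_A(Λ) : A → Â is the homomorphism a ↦ t_a^*L ⊗ L⁻¹. If φ̂_L
: Â̂ → Â is a transpose of φ_L (φ_A of the pull-back of a Pic⁰ class c along (φ_L)_T equals φ_Â(c)
followed by φ̂_L), then φ_L = ι_A followed by φ̂_L: the homomorphism φ_L is symmetric. -/
theorem result (K : Type u) [Field K]
    (A At Att : Over (Spec (CommRingCat.of K)))
    [GrpObj A] [IsCommMonObj A] [IsProper A.hom] [GeometricallyIntegral A.hom]
    [GrpObj At] [IsCommMonObj At] [IsProper At.hom] [GeometricallyIntegral At.hom]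
    [GrpObj Att] [IsCommMonObj Att] [IsProper Att.hom] [GeometricallyIntegral Att.hom]
    (φA : ∀ T : Over (Spec (CommRingCat.of K)), PicF.Cl (PicF.XT A.hom T) → (T ⟶ At))
    (hAt : AbDual.IsDualAV Scheme.fppfPrecoverage A At φA)
    (φAt : ∀ T : Over (Spec (CommRingCat.of K)), PicF.Cl (PicF.XT At.hom T) → (T ⟶ Att))
    (hAtt : AbDual.IsDualAV Scheme.fppfPrecoverage At Att φAt)
    (ξ : PicF.Cl (PicF.XT A.hom At)) (hξ : AbDual.IsPoincareCl A At φA ξ)
    (hξ' : AbDual.IsPicZeroCl At.hom A (PicF.pullCl (pullbackSymmetry At.hom A.hom).hom ξ))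
    (L Linv : A.left.Modules) (hL : PicF.IsInvertible L)
    (hLinv : Nonempty (CohB1.tensorMod L Linv ≅ Coh.structureModule A.left))
    (Λ : (PicF.XT A.hom A).Modules)
    (hΛ : Nonempty (Λ ≅ CohB1.tensorMod (CohB1.tensorMod ((Scheme.Modules.pullback (μ[A]).left).obj L)
      ((Scheme.Modules.pullback (fst A A).left).obj Linv)) ((Scheme.Modules.pullback (snd A A).left).obj Linv)))
    (hΛ0 : AbDual.IsPicZeroCl A.hom A (PicF.cl Λ))
    (tl : Att ⟶ At) [IsMonHom tl]
    (htl : AbDual.IsTranspose (φA A (PicF.cl Λ)) φA φAt tl) :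
    φA A (PicF.cl Λ) = φAt A (PicF.pullCl (pullbackSymmetry At.hom A.hom).hom ξ) ≫ tl := by
  obtain ⟨hLi, eLi⟩ := Groth.Agent.H25Dual.pc_inverse hL hLinv
  obtain ⟨Λ', hΛe, hΛi', hΛfib⟩ := hΛ0
  obtain ⟨j⟩ := Groth.Agent.H12Pic.Sep.iso_of_cl_eq hΛe
  have hΛi : PicF.IsInvertible Λ := Groth.Agent.H11Tilde.isInvertible_of_iso j hΛi'
  let u : Groth.Agent.H25AbCube.PC (A ⊗ A).left := Groth.Agent.H25AbCube.pc Λ hΛi
  let l : Groth.Agent.H25AbCube.PC A.left := Groth.Agent.H25AbCube.pc L hL
  have hu : Groth.Agent.H25Dual.PZ A A u :=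
    Groth.Agent.H25Dual.pz_pc hΛi (hΛe ▸ ⟨Λ', rfl, hΛi', hΛfib⟩)
  have hm : PicF.IsInvertible ((Scheme.Modules.pullback (μ[A]).left).obj L) :=
    Groth.Agent.H11Ample.isInvertible_pullback _ hL
  have hp : PicF.IsInvertible ((Scheme.Modules.pullback (fst A A).left).obj Linv) :=
    Groth.Agent.H11Ample.isInvertible_pullback _ hLi
  have hq : PicF.IsInvertible ((Scheme.Modules.pullback (snd A A).left).obj Linv) :=
    Groth.Agent.H11Ample.isInvertible_pullback _ hLi
  have hmp := Groth.Agent.H11Ample.isInvertible_tensor hm hp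
  have eu : u = Groth.Agent.H25AbCube.ev l μ[A] - Groth.Agent.H25AbCube.ev l (fst A A) -
      Groth.Agent.H25AbCube.ev l (snd A A) := by
    refine ((Groth.Agent.H25AbCube.pc_eq_iff hΛi
      (Groth.Agent.H11Ample.isInvertible_tensor hmp hq)).2 hΛ).trans ?_
    rw [Groth.Agent.H25AbCube.pc_tensor hmp hq, Groth.Agent.H25AbCube.pc_tensor hm hp,
      Groth.Agent.H25AbCube.pullP_pc _ L hL hm, Groth.Agent.H25AbCube.pullP_pc _ Linv hLi hp,
      Groth.Agent.H25AbCube.pullP_pc _ Linv hLi hq, eLi, map_neg, map_neg, ← sub_eq_add_neg, ← sub_eq_add_neg]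
    rfl
  have hur : Groth.Agent.H25AbCube.ev u (lift (1 : A ⟶ A) (𝟙 A)) = 0 := by
    rw [eu, Groth.Agent.H25Dual.ev_sub, Groth.Agent.H25Dual.ev_sub, Groth.Agent.H25AbCube.ev_comp,
      Groth.Agent.H25AbCube.ev_comp, Groth.Agent.H25AbCube.ev_comp, lift_fst, lift_snd,
      show lift (1 : A ⟶ A) (𝟙 A) ≫ μ[A] = (1 : A ⟶ A) * 𝟙 A from rfl, _root_.one_mul,
      show Groth.Agent.H25AbCube.ev l (1 : A ⟶ A) = 0 from Groth.Agent.H25AbCube.ev_toUnit l η[A]]
    simp
  have hsym : Groth.Agent.H25AbCube.ev u (lift (snd A A) (fst A A)) = u := by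
    rw [eu, Groth.Agent.H25Dual.ev_sub, Groth.Agent.H25Dual.ev_sub, Groth.Agent.H25AbCube.ev_comp,
      Groth.Agent.H25AbCube.ev_comp, Groth.Agent.H25AbCube.ev_comp, lift_fst, lift_snd,
      show lift (snd A A) (fst A A) ≫ μ[A] = μ[A] by
        show snd A A * fst A A = μ[A]
        rw [_root_.mul_comm]
        show lift (fst A A) (snd A A) ≫ μ[A] = μ[A]
        simp]
    abel
  exact Groth.Agent.H25Dual.self_symm hAt hξ hξ' u hu hur hsym _
    (Groth.Agent.H25Dual.Φ_pc A Λ hΛi) htl

end Groth.Agent.S19923
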