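import Groth.Statements.S19924
import Groth.Agent.H28Vert.VertGroup

set_option autoImplicit false
universe u
open CategoryTheory CategoryTheory.Limits AlgebraicGeometry
open Models

namespace Groth.Agent.S19924

/-- Let R be a discrete valuation ring with fraction field K, C a smooth proper curve over K with H^0(C,
O_C) = K, X a regular proper model of C with generic-fibre inclusion g : C → X, Γ_1, …, Γ_n the
irreducible components of the closed fibre with multiplicities m_1, …, m_n, and L_i invertible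
O_X-modules with L_i ⊗ I(Γ_i) ≅ O_X. Let h ≥ 1, let N be an invertible O_C-module with N^{⊗h} ≅ O_C,
let M be an invertible O_X-module whose pullback to C is N, and let a, b be exponent vectors with
M^{⊗h} ⊗ L_1^{a_1} ⊗ ⋯ ⊗ L_n^{a_n} ≅ L_1^{b_1} ⊗ ⋯ ⊗ L_n^{b_n}, i.e. M^{⊗h} ≅ O_X(Σ (b_i − a_i)
Γ_i). Then N is the pullback of some invertible O_X-module M' with M'^{⊗h} ≅ O_X if and only if
there are integers c_1, …, c_n and e with b_i − a_i = h c_i + e m_i for all i: the class of Σ (b_i −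
a_i) Γ_i modulo h ℤ^n + ℤ·(m_1, …, m_n) is the obstruction to lifting the h-torsion class N to an
h-torsion class on X. -/
theorem result (R : Type u) [CommRing R] [IsDomain R] [IsDiscreteValuationRing R]
    (C X : Scheme.{u}) (f : C ⟶ Spec (CommRingCat.of (FractionRing R))) (p : X ⟶ Spec (CommRingCat.of R))
    (hC : Curve.IsSmoothProperCurve (FractionRing R) C f) (hH0 : IsIso f.appTop)
    (hX : Models.IsRegularProperModel R X p C f)
    {n : ℕ} (Γ : Fin n → ArSurf.VertComp R (Over.mk p)) (hΓ : Models.IsComponentList R (Over.mk p) Γ)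
    (g : C ⟶ X) (hg : IsPullback g f p (Spec.map (CommRingCat.ofHom (algebraMap R (FractionRing R)))))
    (L : Fin n → X.Modules) (hL : ∀ i, ClSub.IsInverseOf (L i) (ClSub.idealMod (Γ i).ι.ker))
    (h : ℕ) (hh : 0 < h)
    (N : C.Modules) (hN : PicF.IsInvertible N) (hNt : Nonempty (CohB1.tensorPow N h ≅ Coh.structureModule C))
    (M : X.Modules) (hM : PicF.IsInvertible M) (hMN : Nonempty ((Scheme.Modules.pullback g).obj M ≅ N))
    (a b : Fin n → ℕ)
    (hab : Nonempty (CohB1.tensorMod (CohB1.tensorPow M h) (FGA.multiTwist L a) ≅ FGA.multiTwist L b)) :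
    (∃ M' : X.Modules, PicF.IsInvertible M' ∧ Nonempty (CohB1.tensorPow M' h ≅ Coh.structureModule X) ∧
        Nonempty ((Scheme.Modules.pullback g).obj M' ≅ N)) ↔
      ∃ (c : Fin n → ℤ) (e : ℤ), ∀ i, ((b i : ℤ) - (a i : ℤ)) = (h : ℤ) * c i + e * (Models.mult R (Over.mk p) (Γ i) : ℤ) := by
  classical
  obtain ⟨⟨hfl, hlft, -, g₀, hg₀⟩, hp, hreg⟩ := id hX
  haveI : IsProper p := hp
  haveI : Flat p := hfl
  haveI : IsProper (Over.mk p).hom := hp
  haveI : Flat (Over.mk p).hom := hfl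
  letI := H28Vert.picLaw X
  letI := H28Vert.picLaw C
  haveI : LocallyOfFiniteType p := hlft
  haveI : IsLocallyNoetherian (Over.mk p).left := LocallyOfFiniteType.isLocallyNoetherian p
  let P := PicGrp.pullHom g (H28Vert.pullMul g)
  have hP := H28Vert.pullHom_vcls hL hX hΓ g hg
  obtain ⟨hA, ea⟩ := H28Vert.vcls_natCast hL a
  obtain ⟨hB, eb⟩ := H28Vert.vcls_natCast hL b
  have hMh : PicF.IsInvertible (CohB1.tensorPow M h) := H28Vert.isInvertible_tensorPow hM h
  have hrel : PicGrp.cls M hM ^ h * H28Vert.vcls hL (fun i => (a i : ℤ)) = H28Vert.vcls hL fun i => (b i : ℤ) := by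
    rw [← H28Vert.cls_tensorPow hM h, ← ea, ← eb, ← (PicGrp.cls_eq_cls_iff (H11Ample.isInvertible_tensor hMh hA) hB).2 hab]
    exact Subtype.ext (PicGrp.cls_mul_cls_val hMh hA)
  constructor
  · rintro ⟨M', hM', htors, hpb⟩
    obtain ⟨Q, hQ, hQc⟩ := PicGrp.exists_eq_cls (PicGrp.cls M' hM' * (PicGrp.cls M hM)⁻¹)
    have hQtriv : Nonempty ((Scheme.Modules.pullback g).obj Q ≅ Coh.structureModule C) := by
      rw [H28Vert.nonempty_pullback_iff hQ (PicLoc.isInvertible_structureModule C), ← hQc,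
        PicGrp.cls_structureModule_eq_one, map_mul, map_inv, (H28Vert.nonempty_pullback_iff hM' hN).1 hpb,
        (H28Vert.nonempty_pullback_iff hM hN).1 hMN, mul_inv_cancel]
    obtain ⟨c, hc⟩ := H28Vert.exists_vcls_of_trivial hL hX hΓ g hg Q hQ hQtriv
    rw [← hQc, mul_inv_eq_iff_eq_mul] at hc
    have h1 := (H28Vert.nonempty_tensorPow_iff hM' h).1 htors
    rw [hc, mul_pow, eq_mul_inv_of_mul_eq hrel, ← H28Vert.vcls_neg, ← zpow_natCast, ← H28Vert.vcls_smul,
      ← H28Vert.vcls_add, ← H28Vert.vcls_add, H28Vert.vcls_eq_one_iff hL hC hH0 hX hΓ] at h1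
    obtain ⟨e, he⟩ := h1
    refine ⟨fun i => -(c i : ℤ), e, fun i => ?_⟩
    have h2 := he i
    simp only [Pi.add_apply, Pi.neg_apply, Pi.smul_apply, smul_eq_mul] at h2
    linear_combination h2
  · rintro ⟨c, e, hce⟩
    obtain ⟨M', hM', hM'c⟩ := PicGrp.exists_eq_cls (PicGrp.cls M hM * H28Vert.vcls hL (-c))
    refine ⟨M', hM', (H28Vert.nonempty_tensorPow_iff hM' h).2 ?_, ?_⟩
    · rw [← hM'c, mul_pow, eq_mul_inv_of_mul_eq hrel, ← H28Vert.vcls_neg, ← zpow_natCast, ← H28Vert.vcls_smul,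
        ← H28Vert.vcls_add, ← H28Vert.vcls_add, H28Vert.vcls_eq_one_iff hL hC hH0 hX hΓ]
      refine ⟨e, fun i => ?_⟩
      simp only [Pi.add_apply, Pi.neg_apply, Pi.smul_apply, smul_eq_mul]
      linear_combination hce i
    · rw [H28Vert.nonempty_pullback_iff hM' hN, ← hM'c, map_mul, hP, mul_one]
      exact (H28Vert.nonempty_pullback_iff hM hN).1 hMN

end Groth.Agent.S19924
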