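import Groth.Statements.S19944
import Groth.Agent.H26Theta.Charts
import Groth.Agent.H26Theta.ExistsKL

set_option autoImplicit false
universe u
open CategoryTheory MonoidalCategory CartesianMonoidalCategory MonObj GrpObj AlgebraicGeometry
open ThetaGrp

set_option backward.isDefEq.respectTransparency false
set_option backward.isDefEq.respectTransparency.types false

namespace Groth.Agent.S19944

/-- Let X be an abelian variety over a field k (a proper, geometrically integral, commutative k-group
scheme) and L an invertible O_X-module. For a k-scheme T the group G(L)(T) consists of the pairs (x,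
φ) with x a T-valued point of X and φ : L_T ≅ t_x^*L_T an isomorphism (L_T the inverse image of L on
X ×_k T, t_x the translation by x), with the product (x₁, φ₁)(x₂, φ₂) = (x₁ + x₂, t_{x₂}^*φ₁ ∘ φ₂).
Then the group functor T ↦ G(L)(T) is representable by a k-group scheme: there are a k-group scheme
G and a point u ∈ G(L)(G) such that every point of G(L)(T), for every k-scheme T, is the base change
of u along exactly one k-morphism T → G, u has a unique base change along every such morphism, and
base change takes products of points of G to products in G(L)(T). (The identification of the kernel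
of G(L) → X with the multiplicative group is not part of this statement.) -/
theorem result (k : Type u) [Field k]
    (A : Over (Spec (CommRingCat.of k))) [GrpObj A] [IsCommMonObj A] [IsProper A.hom] [GeometricallyIntegral A.hom]
    (L : A.left.Modules) (hL : PicF.IsInvertible L) :
    ∃ (G : Over (Spec (CommRingCat.of k))) (_ : GrpObj G) (u : ThetaGrp.thetaPts A L G),
      ThetaGrp.IsThetaGrpSch A L G u := by
  obtain ⟨K, iK, hK⟩ := Groth.Agent.H26Theta.exists_isKL L hL
  obtain ⟨G, ⟨e⟩⟩ := Groth.Agent.H26Theta.isRepresentable_thetaFunctor hL hK
  letI := GrpObj.ofRepresentableBy G (Groth.Agent.H26Theta.thetaFunctor A L) e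
  let u : ThetaGrp.thetaPts A L G := e.homEquiv (𝟙 G)
  have he : ∀ (T : Over (Spec (CommRingCat.of k))) (g : T ⟶ G),
      (e.homEquiv g : ThetaGrp.thetaPts A L T) = Groth.Agent.H26Theta.bcPt g u := fun T g => e.homEquiv_eq g
  refine ⟨G, inferInstance, u, ⟨fun T β => ?_, fun T g => Groth.Agent.H26Theta.existsUnique_baseChange g u, ?_⟩⟩
  · refine ⟨e.homEquiv.symm β, ?_, fun g hg => ?_⟩
    · have h := Groth.Agent.H26Theta.isBaseChange_bcPt (e.homEquiv.symm β) u
      rw [← he] at h
      erw [Equiv.apply_symm_apply] at h
      exact h
    · apply e.homEquiv.injective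
      erw [Equiv.apply_symm_apply, he]
      exact (Groth.Agent.H26Theta.eq_bcPt hg).symm
  · intro T g h β₁ β₂ h1 h2
    let F := Groth.Agent.H26Theta.thetaFunctor A L
    have hm : (e.homEquiv (g * h) : ThetaGrp.thetaPts A L T) =
        (e.homEquiv g : ThetaGrp.thetaPts A L T) * e.homEquiv h :=
      map_mul ((yonedaGrpObjIsoOfRepresentableBy G F e).hom.app (Opposite.op T)).hom g h
    rw [Groth.Agent.H26Theta.eq_bcPt h1, Groth.Agent.H26Theta.eq_bcPt h2, ← he, ← he, ← hm, he]
    exact Groth.Agent.H26Theta.isBaseChange_bcPt (g * h) u

end Groth.Agent.S19944
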