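import Groth.Statements.S19946
import Groth.Agent.H26Theta.Pairing
-- import your own Groth.Agent.* helpers here

set_option autoImplicit false
universe u
open CategoryTheory MonoidalCategory CartesianMonoidalCategory MonObj GrpObj AlgebraicGeometry
open ThetaGrp

open CategoryTheory.Limits Groth.Agent Groth.Agent.H26Theta
open Groth.Agent.H25Theta (pC pO)

set_option backward.isDefEq.respectTransparency false
set_option backward.isDefEq.respectTransparency.types false
set_option maxHeartbeats 1600000

namespace Groth.Agent.S19946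

/-- Let X be an abelian variety over a field k (a proper, geometrically integral, commutative k-group
scheme) and L an invertible O_X-module whose subscheme K(L) is all of X: the identity of X has the
universal property of K(L), i.e. for every k-scheme Z and every Z-valued point z of X the Mumford
bundle m^*L ⊗ p_1^*L⁻¹ ⊗ p_2^*L⁻¹ restricted along X ×_k Z → X ×_k X is the inverse image of an
invertible module on Z (equivalently, the class of L lies in Pic⁰_{X/k}). Then the commutator
pairing e_L of the theta group is identically 1: for every k-scheme T, any two points (x₁, φ₁), (x₂,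
φ₂) of G(L)(T) (x_i a T-valued point of X, φ_i : L_T ≅ t_{x_i}^*L_T) commute. -/
theorem result (k : Type u) [Field k]
    (A : Over (Spec (CommRingCat.of k))) [GrpObj A] [IsCommMonObj A] [IsProper A.hom] [GeometricallyIntegral A.hom]
    (L : A.left.Modules) (hL : PicF.IsInvertible L)
    (hK : ThetaGrp.IsKL A L (𝟙 A))
    (T : Over (Spec (CommRingCat.of k))) (β₁ β₂ : ThetaGrp.thetaPts A L T) :
    β₁ * β₂ = β₂ * β₁ := by
  obtain ⟨x₁, h₁⟩ := β₁.2
  obtain ⟨x₂, h₂⟩ := β₂.2
  let S := A ⊗ T
  -- local points over the first projection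
  choose V hV hVL using hL
  let U : A.left → S.left.Opens := fun a => (fst A T).left ⁻¹ᵁ (V a)
  have hU : ∀ s : S.left, ∃ a, s ∈ U a := fun s => ⟨(fst A T).left.base s, hV _⟩
  have hLinv : PicF.IsInvertible L := fun a => ⟨V a, hV a, hVL a⟩
  obtain ⟨M, hM, hMe⟩ := (H25Theta.mumford_iff A L hLinv (fst A T)).1
    ((hK.univ S _).2 ⟨fst A T, Category.comp_id _⟩)
  have hβ : ∀ a, ∃ β : thetaPts A L (sub S (U a)), IsOverPt β (incl S (U a) ≫ fst A T) := fun a => by
    obtain ⟨N, hN, hNe⟩ := (H25Theta.mumford_iff A L hLinv (incl S (U a) ≫ fst A T)).1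
      ((hK.univ _ _).2 ⟨_, Category.comp_id _⟩)
    obtain ⟨e⟩ := H25Theta.eq_pullback_of_translEq A L hLinv _ N hNe
    refine (exists_pt_iff A L _).2 (H25Theta.isTranslEq_congr A L (Classical.choice ?_) hNe)
    obtain ⟨ν⟩ := hVL a
    have hfac : (U a).ι ≫ (fst A T).left = ((fst A T).left ∣_ V a) ≫ (V a).ι := (morphismRestrict_ι _ _).symm
    exact ⟨e ≪≫ (pC _ _ (by rw [Over.comp_left]; exact hfac.symm) L).symm ≪≫
      (Scheme.Modules.pullback _).mapIso (((Scheme.Modules.restrictFunctorIsoPullback (V a).ι).app L).symm ≪≫ ν) ≪≫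
      pO _⟩
  choose β hβx using hβ
  choose δ hδx hδb using fun a => exists_baseChange (incl S (U a) ≫ snd A T) h₂
  choose c hc using fun a => exists_val hLinv (β a) (δ a)
  -- the values glue
  obtain ⟨g, hg, -⟩ := TopCat.Sheaf.existsUnique_gluing' S.left.sheaf U ⊤ (fun a => homOfLE le_top)
    (fun s _ => TopologicalSpace.Opens.mem_iSup.2 (hU s)) (fun a => (U a).topIso.hom (c a)) (by
      intro a b
      obtain ⟨β', hβ', -⟩ := exists_baseChange (inclLE S (inf_le_left : U a ⊓ U b ≤ U a)) (hβx a)
      obtain ⟨δ', hδ', -⟩ := exists_baseChange (inclLE S (inf_le_left : U a ⊓ U b ≤ U a)) (hδx a)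
      have ea := val_baseChange' hLinv (inclLE S (inf_le_left : U a ⊓ U b ≤ U a)) (hβx a) (hδx a) hβ' hδ' (hc a)
      have eb := val_baseChange' hLinv (inclLE S (inf_le_right : U a ⊓ U b ≤ U b)) (hβx b) (hδx b)
        (β' := β') (δ' := δ')
        (by rw [← Category.assoc, inclLE_incl]; rw [← Category.assoc, inclLE_incl] at hβ'; exact hβ')
        (by simp only [← Category.assoc, inclLE_incl] at hδ' ⊢; exact hδ') (hc b)
      have := congrArg (U a ⊓ U b).topIso.hom (val_unique hLinv ea eb)
      rw [topIso_inclLE, topIso_inclLE] at this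
      exact this)
  have hgc : ∀ a, (incl S (U a)).left.appTop g = c a := fun a =>
    (ConcreteCategory.bijective_of_isIso (U a).topIso.hom).1 ((topIso_incl S (U a) g).trans (hg a))
  -- evaluation along a section
  have key : ∀ (x : T ⟶ A) (γ' : thetaPts A L T) (t : Γ(T.left, ⊤)), IsOverPt γ' x → Val γ' β₂ t →
      (lift x (𝟙 T)).left.appTop g = t := fun x γ' t hx ht => by
    refine eq_of_incl T (fun a => (lift x (𝟙 T)).left ⁻¹ᵁ (U a)) (fun s => hU _) fun a => ?_
    let l := lift x (𝟙 T)
    let W := l.left ⁻¹ᵁ (U a)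
    let h : sub T W ⟶ sub S (U a) := Over.homMk (l.left ∣_ U a) (by
      show (l.left ∣_ U a) ≫ (U a).ι ≫ S.hom = W.ι ≫ T.hom
      rw [morphismRestrict_ι_assoc, Over.w l])
    have hh : h ≫ incl S (U a) = incl T W ≫ l := Over.OverMorphism.ext (morphismRestrict_ι _ _)
    obtain ⟨γw, hγw, -⟩ := exists_baseChange (incl T W) hx
    obtain ⟨δw, hδw, -⟩ := exists_baseChange (incl T W) h₂
    have e1 := val_baseChange' hLinv (incl T W) hx h₂ hγw hδw ht
    have e2 := val_baseChange' hLinv h (hβx a) (hδx a) (β' := γw) (δ' := δw)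
      (by rw [reassoc_of% hh, lift_fst]; exact hγw)
      (by simp only [Category.assoc]; rw [reassoc_of% hh, lift_snd_assoc, Category.id_comp]; exact hδw) (hc a)
    rw [val_unique hLinv e1 e2, ← hgc a]
    exact (congrArg (fun m : sub T W ⟶ S => m.left.appTop g) hh).symm
  obtain ⟨s, hs⟩ := exists_appTop_snd T g
  have hsec : ∀ x : T ⟶ A, (lift x (𝟙 T)).left.appTop g = s := fun x => by
    rw [← hs]
    erw [← CommRingCat.comp_apply, ← Scheme.Hom.comp_appTop]
    rw [← Over.comp_left, lift_snd, Over.id_left, Scheme.Hom.id_appTop]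
    rfl
  have h1 : s = 1 := (hsec 1).symm.trans (key 1 1 1 isOverPt_one
    ((val_one_iff hLinv _ _).2 (by rw [_root_.one_mul, _root_.mul_one])))
  obtain ⟨t, ht⟩ := exists_val hLinv β₁ β₂
  rw [show t = 1 from ((key x₁ β₁ t h₁ ht).symm.trans (hsec x₁)).trans h1] at ht
  exact (val_one_iff hLinv _ _).1 ht

end Groth.Agent.S19946
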