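import Groth.Statements.S19953
import Groth.Agent.H26Theta.Cart
-- import your own Groth.Agent.* helpers here

set_option autoImplicit false
universe u
open CategoryTheory MonoidalCategory CartesianMonoidalCategory MonObj GrpObj AlgebraicGeometry
open ThetaGrp

open CategoryTheory.Limits Groth.Agent Groth.Agent.H26Theta

set_option backward.isDefEq.respectTransparency false
set_option backward.isDefEq.respectTransparency.types false

namespace Groth.Agent.S19953

/-- Let f : X → Y be a surjective homomorphism of abelian varieties over a field k (proper,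
geometrically integral, commutative k-group schemes), i : N → X its kernel (a homomorphism forming a
cartesian square with the unit section of Y), L an invertible O_X-module, M an invertible O_Y-module
with f^*M ≅ L, and G a k-group scheme with a point u ∈ G(L)(G) representing the theta group of L
(every point of G(L)(T) is the base change of u along a unique T → G, multiplicatively). Then there
is a level subgroup of G(L) whose image in K(L) is Ker(f): a homomorphism of group schemes j : N → G
that is an immersion, such that a point of N whose image lies over the identity translation is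
trivial, and that lies over i (for every k-scheme T and T-valued point n of N, the base change of u
along j(n) lies over the translation by i(n)). -/
theorem result (k : Type u) [Field k]
    (A : Over (Spec (CommRingCat.of k))) [GrpObj A] [IsCommMonObj A] [IsProper A.hom] [GeometricallyIntegral A.hom]
    (B : Over (Spec (CommRingCat.of k))) [GrpObj B] [IsCommMonObj B] [IsProper B.hom] [GeometricallyIntegral B.hom]
    (f : A ⟶ B) [IsMonHom f] (hf : Surjective f.left)
    (N : Over (Spec (CommRingCat.of k))) [GrpObj N] (i : N ⟶ A) [IsMonHom i] (hN : AlgGrp.IsKernel i f)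
    (L : A.left.Modules) (hL : PicF.IsInvertible L)
    (M : B.left.Modules) (hM : PicF.IsInvertible M)
    (hLM : Nonempty ((Scheme.Modules.pullback f.left).obj M ≅ L))
    (G : Over (Spec (CommRingCat.of k))) [GrpObj G] (u : ThetaGrp.thetaPts A L G)
    (hG : ThetaGrp.IsThetaGrpSch A L G u) :
    ∃ j : N ⟶ G, IsMonHom j ∧ ThetaGrp.IsLevelSubgrp u j ∧
      ∀ (T : Over (Spec (CommRingCat.of k))) (n : T ⟶ N) (β : ThetaGrp.thetaPts A L T),
        ThetaGrp.IsBaseChange β (n ≫ j) u → ThetaGrp.IsOverPt β (n ≫ i) := by
  obtain ⟨eL⟩ := hLM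
  haveI : IsSeparated B.hom := inferInstance
  have hif : i ≫ f = (1 : N ⟶ B) := hN.w.trans (by rw [Hom.one_def])
  let x : ∀ {T : Over (Spec (CommRingCat.of k))}, (T ⟶ N) → (T ⟶ A) := fun n => n ≫ i
  let q : (⟨A.left, L⟩ : Pairs.{u}) ⟶ ⟨B.left, M⟩ := { base := f.left, fiber := eL.inv }
  haveI hq : IsIso (fib q) := inferInstanceAs (IsIso eL.inv)
  let p : ∀ T : Over (Spec (CommRingCat.of k)), thetaObj A L T ⟶ (⟨B.left, M⟩ : Pairs.{u}) :=
    fun T => proj A L T ≫ q
  haveI hp : ∀ T, IsIso (fib (p T)) := fun T => cart_comp _ _ (isIso_fib_toPair _ _) hq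
  have hw : ∀ {T : Over (Spec (CommRingCat.of k))} (n : T ⟶ N),
      (transl A (x n)).left ≫ (p T).base = (p T).base := fun {T} n => by
    show (transl A (x n)).left ≫ (fst A T).left ≫ f.left = (fst A T).left ≫ f.left
    rw [← Over.comp_left, ← Over.comp_left, ← Category.assoc, transl_fst, MonObj.mul_comp,
      Category.assoc, Category.assoc, hif, MonObj.comp_one, MonObj.comp_one, _root_.mul_one]
  choose β hβx hβp using fun {T : Over (Spec (CommRingCat.of k))} (n : T ⟶ N) =>
    exists_pt_lift A L (x n) (p T) (p T) (hw n)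
  -- the lifts are multiplicative and compatible with base change
  have hmul : ∀ {T : Over (Spec (CommRingCat.of k))} (n n' : T ⟶ N), β n * β n' = β (n * n') := fun {T} n n' => by
    apply Subtype.ext
    apply Aut.ext
    refine cart_ext (p T) ?_ ?_
    · have h1 := isOverPt_mul (hβx n) (hβx n')
      rw [show x n' * x n = x (n * n') by simp only [x]; rw [mul_comm, MonObj.mul_comp]] at h1
      exact h1.trans (hβx _).symm
    · rw [show ((β n * β n').1).hom = (β n').1.hom ≫ (β n).1.hom from rfl, Category.assoc, hβp, hβp, hβp]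
  have hpbc : ∀ {T T' : Over (Spec (CommRingCat.of k))} (g : T' ⟶ T), bcLift A L g ≫ p T = p T' := fun g => by
    simp only [p, ← Category.assoc, bcLift_proj]
  have hbc : ∀ {T T' : Over (Spec (CommRingCat.of k))} (g : T' ⟶ T) (n : T ⟶ N),
      IsBaseChange (β (g ≫ n)) g (β n) := fun {T T'} g n => by
    refine cart_ext (p T) ?_ ?_
    · show (β (g ≫ n)).1.hom.base ≫ (A ◁ g).left = (A ◁ g).left ≫ (β n).1.hom.base
      rw [hβx, hβx, ← Over.comp_left, ← Over.comp_left, ← whiskerLeft_transl]
      simp only [x, Category.assoc]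
    · rw [Category.assoc, Category.assoc, hpbc, hβp, hβp, hpbc]
  obtain ⟨j, hj, -⟩ := hG.univ N (β (𝟙 N))
  have hjn : ∀ {T : Over (Spec (CommRingCat.of k))} (n : T ⟶ N), IsBaseChange (β n) (n ≫ j) u := fun n => by
    have h := hbc n (𝟙 N)
    rw [Category.comp_id] at h
    exact isBaseChange_comp h hj
  have huniq : ∀ {T : Over (Spec (CommRingCat.of k))} {γ' : thetaPts A L T} {g g' : T ⟶ G},
      IsBaseChange γ' g u → IsBaseChange γ' g' u → g = g' := fun h h' => (hG.univ _ _).unique h h'
  have hjmul : ∀ {T : Over (Spec (CommRingCat.of k))} (n n' : T ⟶ N), (n * n') ≫ j = (n ≫ j) * (n' ≫ j) :=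
    fun n n' => huniq (hjn _) (hmul n n' ▸ hG.mul _ _ _ _ _ (hjn n) (hjn n'))
  have hone : η[N] ≫ j = η[G] := by
    have h := hjmul (1 : 𝟙_ (Over (Spec (CommRingCat.of k))) ⟶ N) 1
    rw [_root_.mul_one, left_eq_mul] at h
    simpa [Hom.one_def] using h
  haveI hjm : IsMonHom j := ⟨hone, by
    have h := hjmul (fst N N) (snd N N)
    rw [show μ[N] = fst N N * snd N N by simp [Hom.mul_def], h]
    simp [Hom.mul_def]⟩
  obtain ⟨xu, hxu⟩ := u.2
  have hover : ∀ {T : Over (Spec (CommRingCat.of k))} (n : T ⟶ N) (γ' : thetaPts A L T),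
      IsBaseChange γ' (n ≫ j) u → IsOverPt γ' (n ≫ i) := fun n γ' h => by
    rw [(hG.exists_bc _ _).unique h (hjn n)]
    exact hβx n
  refine ⟨j, hjm, ⟨?_, hjm, fun T n γ' h h1 => ?_⟩, fun T n γ' h => hover n γ' h⟩
  · have hji : j ≫ xu = i := by
      have h1 := isOverPt_baseChange (hjn (𝟙 N)) hxu
      have h2 := isOverPt_unique h1 (hover (𝟙 N) _ (hjn (𝟙 N)))
      simpa using h2
    haveI : IsClosedImmersion η[B].left := by
      haveI : IsClosedImmersion (η[B].left ≫ B.hom) := by
        rw [Over.w η[B]]; exact inferInstanceAs (IsClosedImmersion (𝟙 _))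
      exact IsClosedImmersion.of_comp η[B].left B.hom
    haveI : IsClosedImmersion i.left :=
      MorphismProperty.of_isPullback (P := @IsClosedImmersion) (hN.map (Over.forget _)).flip
        (inferInstanceAs (IsClosedImmersion η[B].left))
    haveI : IsImmersion (j.left ≫ xu.left) := by
      rw [← Over.comp_left, hji]; infer_instance
    exact MorphismProperty.of_postcomp @IsImmersion (W' := ⊤) j.left xu.left trivial inferInstance
  · have hn : n ≫ i = 1 := isOverPt_unique (hover n γ' h) h1
    haveI : Mono i := by
      haveI : IsSplitMono η[B] := IsSplitMono.mk' ⟨toUnit B, toUnit_unique _ _⟩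
      exact MorphismProperty.of_isPullback (P := MorphismProperty.monomorphisms _) hN.flip
        (inferInstanceAs (Mono η[B]))
    rw [← cancel_mono i, hn, MonObj.one_comp]

end Groth.Agent.S19953
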