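import Groth.Statements.S19948
import Groth.Agent.H26Theta.FinSplit
import Groth.Agent.H26Theta.Effective
import Groth.Agent.S19944
import Groth.Agent.S19953

set_option autoImplicit false
universe u
open CategoryTheory MonoidalCategory CartesianMonoidalCategory MonObj GrpObj AlgebraicGeometry
open ThetaGrp
open Groth.Agent Groth.Agent.H26Theta CategoryTheory.Limits

set_option backward.isDefEq.respectTransparency false
set_option backward.isDefEq.respectTransparency.types false
set_option linter.style.haveILetI false

namespace Groth.Agent.S19948

/-- Let k be an algebraically closed field, f : X → Y an isogeny of abelian varieties over k (X, Y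
proper, geometrically integral, commutative k-group schemes; f a finite surjective homomorphism), i
: N → X the kernel of f (a homomorphism forming a cartesian square with the unit section of Y), L an
invertible O_X-module and i_K : K → X a closed immersion exhibiting K as K(L), the maximal closed
subscheme of X over which the Mumford bundle m^*L ⊗ p_1^*L⁻¹ ⊗ p_2^*L⁻¹, restricted to X ×_k K, is
the inverse image of an invertible module on K, with its universal property. Then L is the inverse
image of an invertible O_Y-module (there is an invertible M on Y with f^*M ≅ L) if and only if the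
kernel of f lies inside K(L) as a subgroup scheme and the commutator pairing e_L is trivial on it: i
factors through i_K, and for every k-scheme T any two points (x₁, φ₁), (x₂, φ₂) of G(L)(T) whose
translations are by points of N commute. (Algebraic closedness is used for the converse; over other
fields an isotropic kernel descends in general only after a finite extension of k.) -/
theorem result (k : Type u) [Field k] [IsAlgClosed k]
    (A : Over (Spec (CommRingCat.of k))) [GrpObj A] [IsCommMonObj A] [IsProper A.hom] [GeometricallyIntegral A.hom]
    (B : Over (Spec (CommRingCat.of k))) [GrpObj B] [IsCommMonObj B] [IsProper B.hom] [GeometricallyIntegral B.hom]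
    (f : A ⟶ B) [IsMonHom f] [IsFinite f.left] (hf : Surjective f.left)
    (N : Over (Spec (CommRingCat.of k))) [GrpObj N] (i : N ⟶ A) [IsMonHom i] (hN : AlgGrp.IsKernel i f)
    (L : A.left.Modules) (hL : PicF.IsInvertible L)
    (K : Over (Spec (CommRingCat.of k))) (iK : K ⟶ A) (hK : ThetaGrp.IsKL A L iK) :
    (∃ M : B.left.Modules, PicF.IsInvertible M ∧ Nonempty ((Scheme.Modules.pullback f.left).obj M ≅ L)) ↔
      ((∃ y : N ⟶ K, y ≫ iK = i) ∧ ThetaGrp.IsIsotropic L i) := by
  haveI : Mono i := ⟨fun n n' h => hN.hom_ext h (toUnit_unique _ _)⟩
  constructor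
  · rintro ⟨M, hM, hLM⟩
    obtain ⟨G, gG, u, hG⟩ := Groth.Agent.S19944.result k A L hL
    obtain ⟨j, hj, hjlev, hover⟩ := Groth.Agent.S19953.result k A B f hf N i hN L hL M hM hLM G u hG
    haveI := hj
    have hpt : ∀ {T : Over (Spec (CommRingCat.of k))} (n : T ⟶ N), IsOverPt (bcPt (n ≫ j) u) (n ≫ i) :=
      fun n => hover _ n _ (isBaseChange_bcPt _ _)
    refine ⟨(hK.univ _ i).1 ?_, fun T x y β₁ β₂ h₁ h₂ => ?_⟩
    · have h := hpt (𝟙 N)
      rw [Category.id_comp i] at h
      exact mumford_of_isOverPt hL h
    · refine commute_congr hL (hpt x) h₁ (hpt y) h₂ ?_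
      have hm : ∀ a b : T ⟶ N, bcPt (a ≫ j) u * bcPt (b ≫ j) u = bcPt ((a * b) ≫ j) u := fun a b =>
        eq_bcPt (by rw [MonObj.mul_comp]; exact hG.mul _ _ _ _ _ (isBaseChange_bcPt _ _) (isBaseChange_bcPt _ _))
      rw [hm, hm, show x * y = y * x by rw [← cancel_mono i, MonObj.mul_comp, MonObj.mul_comp, mul_comm]]
  · rintro ⟨⟨y, hy⟩, hiso⟩
    haveI : IsFinite N.hom := by
      have h : IsFinite (toUnit N).left := MorphismProperty.of_isPullback (hN.map (Over.forget _)) ‹IsFinite f.left›
      rw [← Over.w (toUnit N)]
      haveI := h
      show IsFinite ((toUnit N).left ≫ 𝟙 _)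
      infer_instance
    obtain ⟨β, hover, hmul, hbc⟩ := exists_family hL i ((hK.univ _ i).2 ⟨y, hy⟩) hiso
    exact exists_descended_module hf hN hL β hover hmul hbc

end Groth.Agent.S19948
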