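import Groth.Statements.S1995
import Groth.Agent.H9Hens.PairOps
import Groth.Agent.H9Hens.PairHens
-- import your own Groth.Agent.* helpers here

set_option autoImplicit false
universe u
open EtAlg

namespace Groth.Agent.S1995

/-- Let I_1, …, I_n be pairwise comaximal ideals of a ring A, B a henselization of the pair (A, I_1 ∩ …
∩ I_n) and B_i a henselization of (A, I_i) for each i. Then B is isomorphic as an A-algebra to the
product of the B_i (any such isomorphism is the natural comparison map, by the universal property). -/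
theorem result (A : Type u) [CommRing A] {n : ℕ} (I : Fin n → Ideal A)
    (hI : Pairwise fun i j => I i ⊔ I j = ⊤) (B : Type u) [CommRing B] [Algebra A B]
    (hB : Hens2.IsPairHenselization A (⨅ i, I i) B) (Bi : Fin n → Type u) [∀ i, CommRing (Bi i)] [∀ i, Algebra A (Bi i)]
    (hBi : ∀ i, Hens2.IsPairHenselization A (I i) (Bi i)) :
    Nonempty (B ≃ₐ[A] ∀ i, Bi i) := by
  classical
  have hcop : Pairwise (Function.onFun IsCoprime I) := fun i j hij =>
    Ideal.isCoprime_iff_sup_eq.mpr (hI hij)
  choose e he using fun i : Fin n =>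
    Ideal.pi_quotient_surjective hcop (fun j => if j = i then 1 else 0)
  have he1 : ∀ i, e i - 1 ∈ I i := fun i => by
    rw [← Ideal.Quotient.eq, map_one]; exact (he i i).trans (if_pos rfl)
  have he0 : ∀ i j, j ≠ i → e i ∈ I j := fun i j h => by
    rw [← Ideal.Quotient.eq_zero_iff_mem]; exact (he i j).trans (if_neg h)
  set I₀ := ⨅ i, I i with hI₀
  have hmem : ∀ x, (∀ j, x ∈ I j) → algebraMap A B x ∈ I₀.map (algebraMap A B) := fun x hx =>
    Ideal.mem_map_of_mem _ (Submodule.mem_iInf _ |>.mpr hx)
  have := hB.1
  have hjac := hB.1.jac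
  have hidem : ∀ i, ∀ j, e i * e i - e i ∈ I j := fun i j => by
    rcases eq_or_ne j i with rfl | h
    · rw [show e j * e j - e j = e j * (e j - 1) by ring]
      exact Ideal.mul_mem_left _ _ (he1 j)
    · exact Ideal.sub_mem _ (Ideal.mul_mem_left _ _ (he0 i j h)) (he0 i j h)
  have hlift : ∀ i, ∃ ε : B, IsIdempotentElem ε ∧ ε - algebraMap A B (e i) ∈ I₀.map (algebraMap A B) := by
    intro i
    obtain ⟨ε, h1, h2⟩ := H9Hens.exists_idem_lift (A := B) (I := I₀.map (algebraMap A B)) (B := B)
      (algebraMap A B (e i)) (by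
        rw [Algebra.algebraMap_self, Ideal.map_id, ← map_mul, ← map_sub]
        exact hmem _ (hidem i))
    rw [Algebra.algebraMap_self, Ideal.map_id] at h2
    exact ⟨ε, h1, h2⟩
  choose ε hε hεe using hlift
  have hortho : ∀ i j, i ≠ j → ε i * ε j = 0 := by
    intro i j hij
    have h1 : ε i * ε j ∈ I₀.map (algebraMap A B) := by
      have h2 : algebraMap A B (e i * e j) ∈ I₀.map (algebraMap A B) := hmem _ fun l => by
        rcases eq_or_ne l i with rfl | h
        · exact Ideal.mul_mem_left _ _ (he0 j l hij)
        · exact Ideal.mul_mem_right _ _ (he0 i l h)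
      have h3 : ε i * ε j - algebraMap A B (e i * e j) ∈ I₀.map (algebraMap A B) := by
        rw [map_mul, show ε i * ε j - algebraMap A B (e i) * algebraMap A B (e j) =
          (ε i - algebraMap A B (e i)) * ε j + algebraMap A B (e i) * (ε j - algebraMap A B (e j))
          by ring]
        exact Ideal.add_mem _ (Ideal.mul_mem_right _ _ (hεe i)) (Ideal.mul_mem_left _ _ (hεe j))
      simpa using Ideal.add_mem _ h3 h2
    have hu := Ideal.mem_jacobson_bot.mp (hjac h1) (-1)
    have hid : (ε i * ε j) * (ε i * ε j) = ε i * ε j := ((hε i).mul (hε j)).eq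
    refine (hu.mul_left_eq_zero).mp ?_
    linear_combination -hid
  have hsum : IsUnit (∑ i, ε i) := by
    have h1 : (∑ i, ε i) - 1 ∈ I₀.map (algebraMap A B) := by
      have h2 : algebraMap A B ((∑ i, e i) - 1) ∈ I₀.map (algebraMap A B) := hmem _ fun l => by
        rw [← Finset.add_sum_erase _ _ (Finset.mem_univ l), add_sub_right_comm]
        exact Ideal.add_mem _ (he1 l) (Ideal.sum_mem _ fun i hi =>
          he0 i l (Finset.ne_of_mem_erase hi).symm)
      have h3 : (∑ i, ε i) - ∑ i, algebraMap A B (e i) ∈ I₀.map (algebraMap A B) := by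
        rw [← Finset.sum_sub_distrib]; exact Ideal.sum_mem _ fun i _ => hεe i
      rw [map_sub, map_sum, map_one] at h2
      simpa using Ideal.add_mem _ h3 h2
    simpa using Ideal.mem_jacobson_bot.mp (hjac h1) 1
  let K : Fin n → Ideal B := fun i => Ideal.span {1 - ε i}
  have hQ : ∀ i, Hens2.IsPairHenselization A (I i) (B ⧸ K i) := by
    intro i
    refine ⟨?_, fun C _ J f hC hf => ?_⟩
    · have := H9Hens.henselianRing_quotient (J := I₀.map (algebraMap A B)) (K i)
      refine H9Hens.henselianRing_of_le
        (J := (I₀.map (algebraMap A B)).map (Ideal.Quotient.mk (K i)))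
        (Ideal.map_le_iff_le_comap.mpr fun a ha => ?_)
      have h1 : algebraMap A B a * ε i ∈ I₀.map (algebraMap A B) := by
        have h2 : algebraMap A B (a * e i) ∈ I₀.map (algebraMap A B) := hmem _ fun l => by
          rcases eq_or_ne l i with rfl | h
          · exact Ideal.mul_mem_right _ _ ha
          · exact Ideal.mul_mem_left _ _ (he0 i l h)
        rw [map_mul] at h2
        have := Ideal.add_mem _ (Ideal.mul_mem_left _ (algebraMap A B a) (hεe i)) h2
        rwa [← mul_add, sub_add_cancel] at this
      have h3 := Ideal.mem_map_of_mem (Ideal.Quotient.mk (K i)) h1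
      have h4 : Ideal.Quotient.mk (K i) (ε i) = 1 := by
        rw [← map_one (Ideal.Quotient.mk (K i)), eq_comm, Ideal.Quotient.eq]
        exact Ideal.mem_span_singleton_self _
      rw [map_mul, h4, mul_one] at h3
      exact h3
    · have hle : I₀ ≤ I i := iInf_le _ i
      obtain ⟨g, hg, hgu⟩ := hB.2 C J f hC ((Ideal.map_mono hle).trans hf)
      have hgε : g (ε i) = 1 := by
        have h1 : g (ε i) - 1 ∈ J := by
          have h2 : g (ε i - algebraMap A B (e i)) ∈ J := by
            have h5 := Ideal.mem_map_of_mem g (hεe i)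
            rw [Ideal.map_map, hg] at h5
            exact (Ideal.map_mono hle).trans hf h5
          have h3 : f (e i - 1) ∈ J := hf (Ideal.mem_map_of_mem f (he1 i))
          rw [map_sub, ← RingHom.comp_apply, hg] at h2
          rw [map_sub, map_one] at h3
          simpa using J.add_mem h2 h3
        have hu : IsUnit (g (ε i)) := by
          simpa using Ideal.mem_jacobson_bot.mp (hC.jac h1) 1
        exact hu.mul_eq_left.mp ((hε i).map g)
      have hK : ∀ x ∈ K i, g x = 0 := fun x hx => by
        obtain ⟨c, rfl⟩ := Ideal.mem_span_singleton.mp hx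
        rw [map_mul, map_sub, map_one, hgε, sub_self, zero_mul]
      refine ⟨Ideal.Quotient.lift (K i) g hK, RingHom.ext fun a => RingHom.congr_fun hg a,
        fun g' hg' => Ideal.Quotient.ringHom_ext ?_⟩
      exact (hgu (g'.comp (Ideal.Quotient.mk (K i)))
        (RingHom.ext fun a => RingHom.congr_fun hg' a)).trans (Ideal.Quotient.lift_comp_mk _ _ _).symm
  choose E hE using fun i => (⟨(H9Hens.pairHenselization_algEquiv (hQ i) (hBi i)).some, trivial⟩ :
    ∃ _ : (B ⧸ K i) ≃ₐ[A] Bi i, True)
  let F : B →ₐ[A] ∀ i, B ⧸ K i := AlgHom.pi fun i => Ideal.Quotient.mkₐ A (K i)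
  have hF : Function.Bijective F := by
    constructor
    · rw [injective_iff_map_eq_zero]
      intro x hx
      refine hsum.mul_right_eq_zero.mp ?_
      rw [Finset.sum_mul]
      refine Finset.sum_eq_zero fun i _ => ?_
      obtain ⟨c, hc⟩ := Ideal.mem_span_singleton.mp (Ideal.Quotient.eq_zero_iff_mem.mp (congrFun hx i))
      rw [hc, ← mul_assoc, mul_sub, mul_one, (hε i).eq, sub_self, zero_mul]
    · intro y
      obtain ⟨x, hx⟩ := Ideal.pi_quotient_surjective (I := K) (fun i j hij => by
        rw [Function.onFun, Ideal.isCoprime_span_singleton_iff]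
        exact ⟨1, ε i, by linear_combination -hortho i j hij⟩) y
      exact ⟨x, funext hx⟩
  exact ⟨(AlgEquiv.ofBijective F hF).trans (AlgEquiv.piCongrRight E)⟩

end Groth.Agent.S1995
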