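import Groth.Statements.S19950
import Groth.Agent.H26Theta.PerpRank
import Groth.Agent.H26Theta.KGroup

set_option autoImplicit false
universe u
open CategoryTheory MonoidalCategory CartesianMonoidalCategory MonObj GrpObj AlgebraicGeometry
open ThetaGrp
open Groth.Agent Groth.Agent.H26Theta CategoryTheory.Limits

set_option backward.isDefEq.respectTransparency false
set_option backward.isDefEq.respectTransparency.types false
set_option linter.style.haveILetI false
set_option maxHeartbeats 1600000

namespace Groth.Agent.S19950

/-- Let k be an algebraically closed field, X an abelian variety over k (a proper, geometrically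
integral, commutative k-group scheme) and L a non-degenerate invertible O_X-module: for a closed
immersion i : K → X exhibiting K as K(L) (the maximal closed subscheme of X over which the Mumford
bundle m^*L ⊗ p_1^*L⁻¹ ⊗ p_2^*L⁻¹, restricted to X ×_k K, is the inverse image of an invertible
module on K, with its universal property) the scheme K is finite over k. Then the theta group G(L)
is non-degenerate, in the form: the multiplicative group is the whole centre of G(L), i.e. the
commutator pairing e_L on K(L) has trivial kernel. Concretely, for a k-scheme T and a T-valued point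
y of K such that i(y) is orthogonal to every point of K(L) — after every base change T' → T, every
point of G(L)(T') lying over the translation by i(y) commutes with every point lying over the
translation by a point of K — the point i(y) is the unit. (The source states the corollary over any
field, as an isomorphism K(L) ≅ K(L)^D; it is given here over an algebraically closed field, where
the argument through a maximal totally isotropic subgroup applies, and in the centre form, which for
finite K(L) the source notes is equivalent.) -/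
theorem result (k : Type u) [Field k] [IsAlgClosed k]
    (A : Over (Spec (CommRingCat.of k))) [GrpObj A] [IsCommMonObj A] [IsProper A.hom] [GeometricallyIntegral A.hom]
    (L : A.left.Modules) (hL : PicF.IsInvertible L)
    (K : Over (Spec (CommRingCat.of k))) (iK : K ⟶ A) (hK : ThetaGrp.IsKL A L iK) [IsFinite K.hom]
    (T : Over (Spec (CommRingCat.of k))) (y : T ⟶ K)
    (hy : ThetaGrp.IsPerpPt L iK (y ≫ iK)) :
    y ≫ iK = 1 := by
  obtain ⟨gK, hiK⟩ := exists_grpObj_KL hL hK
  letI := gK; haveI := hiK; haveI := hK.closed
  haveI : Nonempty K.left := ⟨(η[K]).left (IsLocalRing.closedPoint k)⟩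
  haveI : Mono iK := Over.mono_of_mono_left iK
  obtain ⟨βK, hβK⟩ := exists_finite_lift hL iK ((hK.univ _ iK).2 ⟨𝟙 K, Category.id_comp iK⟩)
  obtain ⟨C, gC, j, hj, hjc, hjf, hC⟩ := exists_perp hL hβK hβK
  haveI := hj; haveI := hjc
  obtain ⟨⟨zC, hzC⟩, hperp⟩ := (hC C j).1 ⟨𝟙 C, Category.id_comp j⟩
  have hiso : IsIsotropic L j := fun T' a b β₁ β₂ h₁ h₂ =>
    hperp T' a (b ≫ zC) β₁ β₂ h₁ (by rw [Category.assoc, hzC]; exact h₂)
  obtain ⟨B, gB, _, _, _, f, hf, hff, hffl, M, hM, e, KM, iM, hKMf, d, hKM, hfs, hker, hCf, hd, hCd, hiff, hrk⟩ :=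
    exists_quotient_perp hL hK j ⟨zC, hzC⟩ hiso
  haveI := hf; haveI := hff; haveI := hffl; haveI := hfs; haveI := hKM.closed; haveI := hKMf
  haveI : Mono iM := Over.mono_of_mono_left iM
  obtain ⟨p, hp⟩ := (hiff K iK).2 ⟨⟨𝟙 K, Category.id_comp iK⟩, fun T' g c β₁ β₂ h₁ h₂ => by
    obtain ⟨-, hc⟩ := (hC T' (c ≫ j)).1 ⟨c, rfl⟩
    exact (hc T' (𝟙 T') g β₂ β₁ (by rw [Category.id_comp]; exact h₂) h₁).symm⟩
  have hsq : IsPullback iK p f iM := by
    have key : ∀ c : PullbackCone f iM, ∃ z : c.pt ⟶ K, z ≫ iK = c.fst := fun c =>
      ((hiff _ c.fst).1 ⟨c.snd, c.condition.symm⟩).1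
    choose z hz using key
    refine ⟨⟨hp.symm⟩, ⟨PullbackCone.IsLimit.mk _ z hz (fun c => ?_) (fun c m h₁ _ => ?_)⟩⟩
    · rw [← cancel_mono iM, Category.assoc, hp, reassoc_of% (hz c), c.condition]
    · rw [← cancel_mono iK, h₁, hz]
  have hsq' := hsq.map (Over.forget _)
  haveI : IsFinite p.left := MorphismProperty.of_isPullback (P := @IsFinite) hsq' hff
  haveI : Flat p.left := MorphismProperty.of_isPullback (P := @Flat) hsq' hffl
  have hpd : ∀ y, p.left.finrank y = d := fun y => by
    rw [Scheme.Hom.finrank_of_isPullback iK.left p.left f.left iM.left hsq' y, hd]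
  let s : ↥(Spec (CommRingCat.of k)) := IsLocalRing.closedPoint k
  have hcomp : K.hom.finrank s = d * KM.hom.finrank s := by
    rw [← Over.w p, finrank_comp_field p.left KM.hom d hpd s]
  have hd1 : d = 1 := by
    have h2 := (hrk s).symm.trans hcomp
    have hr : 1 ≤ KM.hom.finrank s := by
      have h := KM.hom.one_le_finrank_map (p.left (Classical.arbitrary K.left))
      rwa [show KM.hom (p.left (Classical.arbitrary K.left)) = s from Subsingleton.elim (α := PrimeSpectrum k) _ _] at h
    have hd0 : 1 ≤ d := by
      rw [← hCd s, show s = C.hom ((η[C]).left (IsLocalRing.closedPoint k)) from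
        Subsingleton.elim (α := PrimeSpectrum k) _ _]
      exact C.hom.one_le_finrank_map _
    nlinarith
  haveI : IsIso f.left := (Scheme.Hom.isIso_iff_finrank_eq f.left).2 (funext fun b => (hd b).trans hd1)
  haveI : IsIso f := by
    haveI : IsIso ((Over.forget _).map f) := ‹IsIso f.left›
    exact isIso_of_reflects_iso f (Over.forget _)
  obtain ⟨c, hc⟩ := (hC T (y ≫ iK)).2 ⟨⟨y, rfl⟩, hy⟩
  have hjf1 : j ≫ f = 1 := H19Grp.kernel_comp_eq_one hker
  rw [← cancel_mono f, MonObj.one_comp, ← hc, Category.assoc, hjf1, MonObj.comp_one]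

end Groth.Agent.S19950
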