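import Groth.Statements.S19951
import Groth.Agent.H26Theta.PerpRank
import Groth.Agent.H26Theta.KGroup
import Groth.Agent.H19Quot.LargestNormal

set_option autoImplicit false
universe u
open CategoryTheory MonoidalCategory CartesianMonoidalCategory MonObj GrpObj AlgebraicGeometry
open ThetaGrp
open Groth.Agent Groth.Agent.H26Theta CategoryTheory.Limits

set_option backward.isDefEq.respectTransparency false
set_option backward.isDefEq.respectTransparency.types false
set_option linter.style.haveILetI false
set_option maxHeartbeats 1600000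

namespace Groth.Agent.S19951

/-- Let k be an algebraically closed field, X an abelian variety over k (a proper, geometrically
integral, commutative k-group scheme) and L a non-degenerate invertible O_X-module: for a closed
immersion i_K : K → X exhibiting K as K(L) (the maximal closed subscheme of X over which the Mumford
bundle m^*L ⊗ p_1^*L⁻¹ ⊗ p_2^*L⁻¹, restricted to X ×_k K, is the inverse image of an invertible
module on K, with its universal property) the scheme K is finite over k. Let i_H : H → X be a closed
subgroup scheme (H a k-group scheme, i_H a homomorphism and a closed immersion) contained in K(L)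
and totally isotropic for the commutator pairing e_L — for every k-scheme T, any two points of
G(L)(T) lying over translations by points of H commute — and maximal: every closed subgroup scheme
of K(L) that is totally isotropic and contains H is contained in H. Then H = H^⊥: a T-valued point x
of X factors through i_H if and only if it factors through i_K and is orthogonal to H (after every
base change T' → T, every point of G(L)(T') over the translation by x commutes with every point over
a translation by a point of H); moreover H is finite over k and rank(H)² = rank(K(L)) (ranks of the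
finite k-schemes H and K). (The published statement is over an arbitrary field and its argument
begins by passing to an algebraic closure; but maximality is not preserved by that passage: for an
elliptic curve E over a field k and a prime ℓ such that E[ℓ] has no k-rational subgroup scheme of
order ℓ, with L of degree ℓ so that K(L) = E[ℓ] and e_L is the Weil pairing, the trivial subgroup is
maximal totally isotropic while its orthogonal is all of E[ℓ]. The statement is therefore given over
an algebraically closed field, where the printed argument applies.) -/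
theorem result (k : Type u) [Field k] [IsAlgClosed k]
    (A : Over (Spec (CommRingCat.of k))) [GrpObj A] [IsCommMonObj A] [IsProper A.hom] [GeometricallyIntegral A.hom]
    (L : A.left.Modules) (hL : PicF.IsInvertible L)
    (K : Over (Spec (CommRingCat.of k))) (iK : K ⟶ A) (hK : ThetaGrp.IsKL A L iK) [IsFinite K.hom]
    (H : Over (Spec (CommRingCat.of k))) [GrpObj H] (iH : H ⟶ A) [IsMonHom iH] [IsClosedImmersion iH.left]
    (hHK : ∃ y : H ⟶ K, y ≫ iK = iH) (hiso : ThetaGrp.IsIsotropic L iH)
    (hmax : ∀ (H' : Over (Spec (CommRingCat.of k))) [GrpObj H'] (iH' : H' ⟶ A) [IsMonHom iH']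
      [IsClosedImmersion iH'.left], (∃ y' : H' ⟶ K, y' ≫ iK = iH') → ThetaGrp.IsIsotropic L iH' →
      (∃ z : H ⟶ H', z ≫ iH' = iH) → ∃ z' : H' ⟶ H, z' ≫ iH = iH') :
    (∀ (T : Over (Spec (CommRingCat.of k))) (x : T ⟶ A),
        ((∃ y : T ⟶ K, y ≫ iK = x) ∧ ThetaGrp.IsPerpPt L iH x) ↔ ∃ z : T ⟶ H, z ≫ iH = x) ∧
      IsFinite H.hom ∧
      ∀ s : ↥(Spec (CommRingCat.of k)), Scheme.Hom.finrank H.hom s ^ 2 = Scheme.Hom.finrank K.hom s := by
  obtain ⟨B, gB, _, _, _, f, hf, hff, hffl, M, hM, e, KM, iM, hKMf, d, hKM, hfs, hker, hHf, hd, hHd, hiff, hrk⟩ :=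
    exists_quotient_perp hL hK iH hHK hiso
  haveI := hf; haveI := hff; haveI := hffl; haveI := hfs; haveI := hKM.closed; haveI := hKMf
  haveI := hK.closed
  haveI : Mono iM := Over.mono_of_mono_left iM
  have hHf1 : iH ≫ f = 1 := H19Grp.kernel_comp_eq_one hker
  obtain ⟨gM, hiMh⟩ := exists_grpObj_KL hM hKM
  letI := gM; haveI := hiMh
  have hM1 : iM = 1 := by
    by_contra hne
    obtain ⟨βM, hβM⟩ := exists_finite_lift hM iM ((hKM.univ _ iM).2 ⟨𝟙 KM, Category.id_comp iM⟩)
    obtain ⟨P, gP, jP, hjP, hjPc, hjPf, hjPne, hPiso, zP, hzP⟩ := exists_isotropic_sub hM hβM hne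
    haveI := hjP; haveI := hjPc; haveI := hjPf
    obtain ⟨E, gE, jE, q', hjE, hq', hjEc, sq⟩ := H19Quot.exists_preimageGroup f jP
    haveI := hjE; haveI := hjEc
    have hEK : ∃ z : E ⟶ K, z ≫ iK = jE :=
      ((hiff E jE).1 ⟨q' ≫ zP, by rw [Category.assoc, hzP, sq.w]⟩).1
    obtain ⟨βP, hβP⟩ := exists_finite_lift hM jP ((hKM.univ _ jP).2 ⟨zP, hzP⟩)
    have hEiso : IsIsotropic L jE := fun T a b β₁ β₂ h₁ h₂ => by
      have hlift : ∀ a : T ⟶ E, IsOverPt (bcPt (a ≫ q') βP) ((a ≫ jE) ≫ f) := fun a => by
        rw [Category.assoc, ← sq.w, ← Category.assoc]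
        exact isOverPt_baseChange (isBaseChange_bcPt _ _) hβP
      obtain ⟨γa, hγa, qa⟩ := exists_lift_pt (hlift a)
      obtain ⟨γb, hγb, qb⟩ := exists_lift_pt (hlift b)
      have h := commute_lifts hγa hγb qa qb (hPiso T (a ≫ q') (b ≫ q') _ _
        (by rw [Category.assoc]; exact isOverPt_baseChange (g := a ≫ q') (isBaseChange_bcPt _ _) hβP |>.trans (by rw [Category.assoc]))
        (by rw [Category.assoc]; exact isOverPt_baseChange (g := b ≫ q') (isBaseChange_bcPt _ _) hβP |>.trans (by rw [Category.assoc])))
      obtain ⟨F, hF⟩ := exists_conj e T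
      refine commute_congr hL ((hF _ _).2 hγa) h₁ ((hF _ _).2 hγb) h₂ ?_
      rw [← map_mul, ← map_mul, h]
    obtain ⟨z, hz⟩ := sq.exists_lift (1 : H ⟶ P) iH (by rw [hHf1, MonObj.one_comp]) |>.imp fun l hl => hl.2
    obtain ⟨z', hz'⟩ := hmax E jE hEK hEiso ⟨z, hz⟩
    haveI : Flat q'.left := MorphismProperty.of_isPullback (P := @Flat) (sq.map (Over.forget _)).flip hffl
    haveI : Surjective q'.left := MorphismProperty.of_isPullback (P := @Surjective) (sq.map (Over.forget _)).flip hfs
    haveI : Epi q'.left := Flat.epi_of_flat_of_surjective q'.left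
    haveI : Epi q' := Over.epi_of_epi_left q'
    apply hjPne
    rw [← cancel_epi q', MonObj.comp_one, sq.w, ← hz', Category.assoc, hHf1, MonObj.comp_one]
  have hKM1 : ∀ s, KM.hom.finrank s = 1 := by
    have h1 : toUnit KM ≫ η[KM] = 𝟙 KM := by
      rw [← cancel_mono iM, Category.id_comp, Category.assoc, IsMonHom.one_hom, ← Hom.one_def]
      exact hM1.symm
    haveI : IsIso (toUnit KM) := ⟨η[KM], h1, toUnit_unique _ _⟩
    haveI : IsIso KM.hom := by
      haveI : IsIso (toUnit KM).left := inferInstanceAs (IsIso ((Over.forget _).map (toUnit KM)))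
      rw [← Over.w (toUnit KM)]
      show IsIso ((toUnit KM).left ≫ 𝟙 _)
      infer_instance
    exact fun s => congrFun (Scheme.Hom.finrank_eq_one_of_isIso KM.hom) s
  refine ⟨fun T x => ?_, hHf, fun s => ?_⟩
  · constructor
    · intro hx
      obtain ⟨y, hy⟩ := (hiff T x).2 hx
      have hxf : x ≫ f = 1 := by rw [← hy, hM1, MonObj.comp_one]
      exact H19Grp.kernel_lift hker x hxf
    · rintro ⟨z, rfl⟩
      refine ⟨?_, fun T' g y β₁ β₂ h₁ h₂ => hiso T' (g ≫ z) y β₁ β₂ (by rw [Category.assoc]; exact h₁) h₂⟩
      obtain ⟨w, hw⟩ := hHK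
      exact ⟨z ≫ w, by rw [Category.assoc, hw]⟩
  · rw [hHd s, hrk s, hKM1 s, _root_.mul_one]

end Groth.Agent.S19951
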