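import Groth.Statements.S19952
import Groth.Agent.H26Theta.TorsorChart
import Groth.Agent.H26Theta.Effective
import Groth.Agent.H26Theta.ExistsKL
import Groth.Agent.H25Hat.Quotient
import Groth.Agent.H19Grp.QuasiFiniteHom

set_option autoImplicit false
universe u
open CategoryTheory MonoidalCategory CartesianMonoidalCategory MonObj GrpObj AlgebraicGeometry
open ThetaGrp
open Groth.Agent Groth.Agent.H26Theta CategoryTheory.Limits

set_option backward.isDefEq.respectTransparency false
set_option backward.isDefEq.respectTransparency.types false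
set_option maxHeartbeats 1600000
set_option linter.style.haveILetI false

namespace Groth.Agent.S19952

/-- Let X be an abelian variety over a field k (a proper, geometrically integral, commutative k-group
scheme), L an invertible O_X-module, and G a k-group scheme with a point u ∈ G(L)(G) representing
the theta group of L (every point of G(L)(T) is the base change of u along a unique T → G,
multiplicatively). Let j : H → G be a level subgroup — H a k-group scheme, j a homomorphism of group
schemes and an immersion, such that a point of H whose image lies over the identity translation is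
trivial — and let i_H : H → X be the morphism it lies over: for every k-scheme T and T-valued point
h of H the base change of u along j(h) lies over the translation by i_H(h). Then there are an
abelian variety Y over k (proper, geometrically integral k-group scheme), a surjective homomorphism
f : X → Y whose kernel is i_H (i_H and f form a cartesian square with the unit section of Y), and an
invertible O_Y-module M with f^*M ≅ L. (The source states a bijection between level subgroups and
isomorphism classes of such pairs (f, M); this row is the existence of a pair for a given level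
subgroup.) -/
theorem result (k : Type u) [Field k]
    (A : Over (Spec (CommRingCat.of k))) [GrpObj A] [IsCommMonObj A] [IsProper A.hom] [GeometricallyIntegral A.hom]
    (L : A.left.Modules) (hL : PicF.IsInvertible L)
    (G : Over (Spec (CommRingCat.of k))) [GrpObj G] (u : ThetaGrp.thetaPts A L G)
    (hG : ThetaGrp.IsThetaGrpSch A L G u)
    (H : Over (Spec (CommRingCat.of k))) [GrpObj H] (j : H ⟶ G) (hj : ThetaGrp.IsLevelSubgrp u j)
    (iH : H ⟶ A)
    (hover : ∀ (T : Over (Spec (CommRingCat.of k))) (h : T ⟶ H) (β : ThetaGrp.thetaPts A L T),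
      ThetaGrp.IsBaseChange β (h ≫ j) u → ThetaGrp.IsOverPt β (h ≫ iH)) :
    ∃ (B : Over (Spec (CommRingCat.of k))) (_ : GrpObj B) (f : A ⟶ B),
      IsProper B.hom ∧ GeometricallyIntegral B.hom ∧ IsMonHom f ∧ Surjective f.left ∧
      AlgGrp.IsKernel iH f ∧
      ∃ M : B.left.Modules, PicF.IsInvertible M ∧ Nonempty ((Scheme.Modules.pullback f.left).obj M ≅ L) := by
  obtain ⟨K, iK, hK⟩ := exists_isKL L hL
  obtain ⟨x, hx⟩ := u.2
  obtain ⟨hjimm, hjhom, hjlev⟩ := hj
  haveI := hjhom; haveI := hjimm
  let β : ∀ {T : Over (Spec (CommRingCat.of k))}, (T ⟶ H) → ThetaGrp.thetaPts A L T := fun n => bcPt (n ≫ j) u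
  have hβ : ∀ {T : Over (Spec (CommRingCat.of k))} (n : T ⟶ H), IsOverPt (β n) (n ≫ iH) :=
    fun n => hover _ n _ (isBaseChange_bcPt _ _)
  have hiH : iH = j ≫ x := by
    have h1 := hβ (𝟙 H)
    rw [Category.id_comp] at h1
    refine isOverPt_unique h1 ?_
    have h2 : IsOverPt (β (𝟙 H)) ((𝟙 H ≫ j) ≫ x) := isOverPt_baseChange (isBaseChange_bcPt _ _) hx
    rwa [Category.id_comp] at h2
  have hmul : ∀ {T : Over (Spec (CommRingCat.of k))} (n n' : T ⟶ H), β n * β n' = β (n * n') := fun n n' =>
    eq_bcPt (by rw [MonObj.mul_comp]; exact hG.mul _ _ _ _ _ (isBaseChange_bcPt _ _) (isBaseChange_bcPt _ _))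
  have hbc : ∀ {T T' : Over (Spec (CommRingCat.of k))} (g : T' ⟶ T) (n : T ⟶ H),
      IsBaseChange (β (g ≫ n)) g (β n) := fun g n => by
    show IsBaseChange (bcPt ((g ≫ n) ≫ j) u) g (bcPt (n ≫ j) u)
    rw [Category.assoc, bcPt_comp]
    exact isBaseChange_bcPt _ _
  have himul : ∀ {T : Over (Spec (CommRingCat.of k))} (n n' : T ⟶ H),
      (n * n') ≫ iH = (n ≫ iH) * (n' ≫ iH) := fun n n' => by
    have h := isOverPt_mul (hβ n) (hβ n')
    rw [hmul] at h
    rw [isOverPt_unique (hβ (n * n')) h, mul_comm]
  haveI : IsMonHom iH := by
    refine ⟨?_, ?_⟩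
    · have h := himul (1 : 𝟙_ (Over (Spec (CommRingCat.of k))) ⟶ H) 1
      rw [_root_.mul_one, left_eq_mul] at h
      simpa [Hom.one_def] using h
    · have h := himul (fst H H) (snd H H)
      rw [MonObj.mul_eq_mul, h]
      simp [Hom.mul_def]
  haveI : Mono iH := ⟨fun {T} n n' h => by
    have e : (n * n'⁻¹) ≫ iH = 1 := by rw [MonObj.mul_comp, GrpObj.inv_comp, h, mul_inv_cancel]
    refine mul_inv_eq_one.1 (hjlev T (n * n'⁻¹) (β (n * n'⁻¹)) (isBaseChange_bcPt _ _) ?_)
    have h2 := hβ (n * n'⁻¹)
    rwa [e] at h2⟩
  haveI : Mono iH.left := inferInstanceAs (Mono ((Over.forget _).map iH))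
  obtain ⟨hxa, hxt⟩ := isAffineHom_pointMap hL hK hG hx
  haveI := hxa; haveI := hxt
  haveI : LocallyOfFiniteType G.hom := by rw [← Over.w x]; infer_instance
  haveI : QuasiCompact G.hom := by rw [← Over.w x]; infer_instance
  haveI : IsLocallyNoetherian G.left := LocallyOfFiniteType.isLocallyNoetherian G.hom
  haveI : CompactSpace G.left := QuasiCompact.compactSpace_of_compactSpace G.hom
  haveI : IsNoetherian G.left := {}
  haveI : LocallyOfFiniteType H.hom := by rw [← Over.w j]; infer_instance
  haveI : TopologicalSpace.NoetherianSpace H.left := j.left.isEmbedding.toIsInducing.noetherianSpace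
  haveI : QuasiCompact j.left := ⟨fun _ _ _ => TopologicalSpace.NoetherianSpace.isCompact _⟩
  haveI : QuasiCompact iH.left := by rw [hiH, Over.comp_left]; infer_instance
  haveI : IsClosedImmersion iH.left := Groth.Agent.H19Grp.QuasiFiniteHom.isClosedImmersion_of_mono iH
  obtain ⟨B, gB, q, hq, hBt, hBc, hqf, hqs, hqp, hker⟩ :=
    H19Quot.exists_quotientGroup iH (H19Quot.AbelianCat.normal_of_comm iH)
  haveI := hq; haveI := hBt; haveI := hBc; haveI := hqf; haveI := hqs; haveI := hqp
  haveI : IsSeparated B.hom := H19Grp.AffineQuotient.isSeparated_of_grp B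
  haveI : IsProper B.hom := by
    haveI : UniversallyClosed (q.left ≫ B.hom) := by rw [Over.w q]; infer_instance
    haveI : UniversallyClosed B.hom := UniversallyClosed.of_comp_surjective q.left B.hom
    exact {}
  haveI : QuasiCompact q.left := by
    haveI : QuasiCompact (q.left ≫ B.hom) := by rw [Over.w q]; infer_instance
    exact QuasiCompact.of_comp q.left B.hom
  haveI : IsIntegral A.left := GeometricallyIntegral.isIntegral_of_subsingleton A.hom
  haveI : IsReduced B.left := H13Desc.isReduced_of_flat_surjective q.left
  haveI : GeometricallyReduced (q.left ≫ B.hom) := by rw [Over.w q]; infer_instance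
  haveI : GeometricallyReduced B.hom := H19Grp.geometricallyReduced_of_surjective q.left B.hom
  haveI : ConnectedSpace ↥B.left := q.left.surjective.connectedSpace q.left.continuous
  haveI : GeometricallyIntegral B.hom := H25AbCube.geometricallyIntegral_of_connected B
  haveI : IsCommMonObj B := H25AbCube.isCommMonObj_of_av
  obtain ⟨M, hM, hMe⟩ := exists_descended_module hqs hker hL β hβ hmul hbc
  exact ⟨B, gB, q, inferInstance, inferInstance, hq, hqs, hker, M, hM, hMe⟩

end Groth.Agent.S19952
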