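import Groth.Statements.S19954
import Groth.Agent.H26Theta.Scalar
-- import your own Groth.Agent.* helpers here

set_option autoImplicit false
universe u
open CategoryTheory MonoidalCategory CartesianMonoidalCategory MonObj GrpObj AlgebraicGeometry
open ThetaGrp

open CategoryTheory.Limits Groth.Agent Groth.Agent.H26Theta
open Groth.Agent.H25Theta (pb pC pT tI)

set_option backward.isDefEq.respectTransparency false
set_option backward.isDefEq.respectTransparency.types false
set_option maxHeartbeats 1600000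

namespace Groth.Agent.S19954

/-- Let f : X → Y be a homomorphism of abelian varieties over a field k (proper, geometrically integral,
commutative k-group schemes), L an invertible O_Y-module, and i_K : K → Y a closed immersion
exhibiting K as K(L), the maximal closed subscheme of Y over which the Mumford bundle m^*L ⊗
p_1^*L⁻¹ ⊗ p_2^*L⁻¹, restricted to Y ×_k K, is the inverse image of an invertible module on K, with
its universal property. The identity e_{f^*L} = e_L ∘ (f, f) on f⁻¹(K(L)) is stated here through the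
vanishing of the two commutator pairings: for a k-scheme H and a k-morphism i_H : H → X such that f
∘ i_H factors through i_K, the pairing e_L is trivial on the image of H in Y — for every k-scheme T,
any two points of G(L)(T) lying over the translations by f(i_H(h₁)), f(i_H(h₂)) for T-valued points
h₁, h₂ of H commute — if and only if e_{f^*L} is trivial on H: any two points of G(f^*L)(T) lying
over the translations by i_H(h₁), i_H(h₂) commute. -/
theorem result (k : Type u) [Field k]
    (A : Over (Spec (CommRingCat.of k))) [GrpObj A] [IsCommMonObj A] [IsProper A.hom] [GeometricallyIntegral A.hom]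
    (B : Over (Spec (CommRingCat.of k))) [GrpObj B] [IsCommMonObj B] [IsProper B.hom] [GeometricallyIntegral B.hom]
    (f : A ⟶ B) [IsMonHom f]
    (L : B.left.Modules) (hL : PicF.IsInvertible L)
    (K : Over (Spec (CommRingCat.of k))) (iK : K ⟶ B) (hK : ThetaGrp.IsKL B L iK)
    (H : Over (Spec (CommRingCat.of k))) (iH : H ⟶ A) (hH : ∃ y : H ⟶ K, y ≫ iK = iH ≫ f) :
    ThetaGrp.IsIsotropic L (iH ≫ f) ↔
      ThetaGrp.IsIsotropic ((Scheme.Modules.pullback f.left).obj L) iH := by
  obtain ⟨yK, hyK⟩ := hH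
  let L' := pb f.left L
  have hL' : PicF.IsInvertible L' := H11Ample.isInvertible_pullback _ hL
  have hqex : ∀ T : Over (Spec (CommRingCat.of k)), ∃ q : thetaObj A L' T ⟶ thetaObj B L T,
      q.base = (f ▷ T).left ∧ q ≫ proj B L T = proj A L' T ≫ toPair f.left L := fun T =>
    exists_lift (proj A L' T ≫ toPair f.left L) (proj B L T) (f ▷ T).left
      (by show (f ▷ T).left ≫ (fst B T).left = (fst A T).left ≫ f.left
          rw [← Over.comp_left, ← Over.comp_left, whiskerRight_fst])
  choose q hqb hqp using hqex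
  haveI hqi : ∀ T, IsIso (fib (q T)) := fun T => cart_of_comp _ (proj B L T)
    (by rw [hqp]; exact cart_comp _ _ (isIso_fib_toPair _ _) (isIso_fib_toPair _ _)) (isIso_fib_toPair _ _)
  have hsq : ∀ {T : Over (Spec (CommRingCat.of k))} (x : T ⟶ A),
      f ▷ T ≫ transl B (x ≫ f) = transl A x ≫ f ▷ T := fun {T} x => by
    apply CartesianMonoidalCategory.hom_ext
    · rw [Category.assoc, Category.assoc, transl_fst, whiskerRight_fst, MonObj.comp_mul, whiskerRight_fst,
        whiskerRight_snd_assoc, ← Category.assoc (transl A x), transl_fst, MonObj.mul_comp, Category.assoc]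
    · rw [Category.assoc, Category.assoc, transl_snd, whiskerRight_snd, transl_snd]
  -- lifting of points
  have hlift : ∀ {T : Over (Spec (CommRingCat.of k))} (x : T ⟶ A) (β : thetaPts B L T), IsOverPt β (x ≫ f) →
      ∃ β' : thetaPts A L' T, IsOverPt β' x ∧ β'.1.hom ≫ q T = q T ≫ β.1.hom := fun {T} x β hβ => by
    haveI : IsIso (fib (q T ≫ β.1.hom)) := cart_comp _ _ (hqi T) (isIso_fib β.1)
    refine exists_pt_lift A L' x (q T ≫ β.1.hom) (q T) ?_
    show (transl A x).left ≫ (q T).base = (q T).base ≫ β.1.hom.base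
    rw [hqb, hβ, ← Over.comp_left, ← Over.comp_left, hsq]
  have hinj : ∀ {T : Over (Spec (CommRingCat.of k))} (β γ' : thetaPts B L T) (w : T ⟶ B),
      IsOverPt β w → IsOverPt γ' w → q T ≫ β.1.hom = q T ≫ γ'.1.hom → β = γ' := fun {T β γ'} w h h' he => by
    haveI := isIso_fib γ'.1
    obtain ⟨r, hr⟩ := exists_premul_eq (H11Ample.isInvertible_pullback _ hL) β.1.hom γ'.1.hom (h.trans h'.symm)
    obtain ⟨t, rfl⟩ := exists_appTop_snd (A := B) T r
    rw [hr, comp_premul] at he
    have hs : (q T).base.appTop ((snd B T).left.appTop t) = (snd A T).left.appTop t := by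
      rw [← CommRingCat.comp_apply, ← Scheme.Hom.comp_appTop]
      congr 3
      rw [hqb, ← Over.comp_left, whiskerRight_snd]
    rw [hs] at he
    haveI : IsIso (fib (q T ≫ γ'.1.hom)) := cart_comp _ _ (hqi T) (isIso_fib γ'.1)
    have ht := premul_injective (H11Ample.isInvertible_pullback _ hL') (q T ≫ γ'.1.hom)
      (he.trans (premul_one _).symm)
    have ht' : t = 1 := appTop_snd_injective (A := A) T (ht.trans (map_one _).symm)
    apply Subtype.ext
    apply Aut.ext
    rw [hr, ht', map_one, premul_one]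
  constructor
  · -- from `B` to `A`: points over points of `H` lift to `B`
    intro hiso T x y β₁ β₂ h₁ h₂
    have hdec : ∀ (x : T ⟶ H) (β : thetaPts A L' T), IsOverPt β (x ≫ iH) → ∃ (c β' : thetaPts A L' T)
        (δ : thetaPts B L T), IsOverPt c 1 ∧ IsOverPt δ (x ≫ iH ≫ f) ∧ IsOverPt β' (x ≫ iH) ∧
        β'.1.hom ≫ q T = q T ≫ δ.1.hom ∧ β = c * β' := fun x β hβ => by
      obtain ⟨M, hM, hMe⟩ := (H25Theta.mumford_iff B L hL (x ≫ iH ≫ f)).1
        ((hK.univ T _).2 ⟨x ≫ yK, by rw [Category.assoc, hyK]⟩)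
      -- the twist becomes trivial
      obtain ⟨e⟩ := hMe
      let w := f ▷ T
      have e1 : w.left ≫ (fst B T).left = (fst A T).left ≫ f.left := by
        rw [← Over.comp_left, ← Over.comp_left, whiskerRight_fst]
      have e2 : w.left ≫ (snd B T).left = (snd A T).left := by rw [← Over.comp_left, whiskerRight_snd]
      have e3 : w.left ≫ (transl B (x ≫ iH ≫ f) ≫ fst B T).left = (transl A (x ≫ iH) ≫ fst A T).left ≫ f.left := by
        rw [← Over.comp_left, ← Over.comp_left, ← Category.assoc, ← Category.assoc x, hsq, Category.assoc,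
          Category.assoc, whiskerRight_fst]
      have hA : H25Theta.IsTranslEq A L' (x ≫ iH) M :=
        ⟨tI (pC _ _ rfl L ≪≫ (pC _ _ e1 L).symm) (pC _ _ e2 M).symm ≪≫ (pT _ _ _).symm ≪≫
          (Scheme.Modules.pullback w.left).mapIso e ≪≫ pC _ _ e3 L ≪≫ (pC _ _ rfl L).symm⟩
      obtain ⟨a⟩ := H25Theta.eq_pullback_of_translEq A L' hL' (x ≫ iH) M hA
      obtain ⟨b⟩ := H25Theta.eq_pullback_of_translEq A L' hL' (x ≫ iH) _ ((exists_pt_iff A L' _).1 ⟨β, hβ⟩)
      obtain ⟨δ, hδ⟩ := (exists_pt_iff B L _).2 (H25Theta.isTranslEq_congr B L (a ≪≫ b.symm) ⟨e⟩)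
      obtain ⟨β', hβ', hq'⟩ := hlift (x ≫ iH) δ (by rw [Category.assoc]; exact hδ)
      refine ⟨β * β'⁻¹, β', δ, ?_, hδ, hβ', hq', (inv_mul_cancel_right β β').symm⟩
      obtain ⟨v, hv⟩ := (β'⁻¹).2
      have h1 := isOverPt_mul hv hβ'
      rw [inv_mul_cancel] at h1
      have h1' : (x ≫ iH) * v = 1 := isOverPt_unique h1 (by
        show (1 : Aut (thetaObj A L' T)).hom.base = _; rw [transl_one]; rfl)
      have h2 := isOverPt_mul hβ hv
      rwa [show v * (x ≫ iH) = 1 by rw [mul_comm]; exact h1'] at h2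
    obtain ⟨c₁, β₁', δ₁, hc₁, hδ₁, hb₁, hq₁, rfl⟩ := hdec x β₁ h₁
    obtain ⟨c₂, β₂', δ₂, hc₂, hδ₂, hb₂, hq₂, rfl⟩ := hdec y β₂ h₂
    have hcomm : δ₁ * δ₂ = δ₂ * δ₁ := hiso T x y δ₁ δ₂ hδ₁ hδ₂
    have hb : Commute β₁' β₂' := by
      show β₁' * β₂' = β₂' * β₁'
      apply Subtype.ext
      apply Aut.ext
      refine cart_ext (q T) ?_ ?_
      · have ha := isOverPt_mul hb₁ hb₂
        have hb := isOverPt_mul hb₂ hb₁
        rw [mul_comm] at hb
        exact ha.trans hb.symm
      · show (β₂'.1.hom ≫ β₁'.1.hom) ≫ q T = (β₁'.1.hom ≫ β₂'.1.hom) ≫ q T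
        rw [Category.assoc, Category.assoc, hq₁, hq₂, reassoc_of% hq₁, reassoc_of% hq₂]
        exact congrArg (q T ≫ ·) (congrArg (fun z => z.1.hom) hcomm)
    have k₁ : Commute c₁ (c₂ * β₂') := commute_of_isOverPt_one hL' hc₁ _
    have k₂ : Commute β₁' c₂ := (commute_of_isOverPt_one hL' hc₂ β₁').symm
    exact (k₁.mul_left (k₂.mul_right hb)).eq
  · intro hiso T x y β₁ β₂ h₁ h₂
    obtain ⟨β₁', hb₁, hq₁⟩ := hlift (x ≫ iH) β₁ (by rw [Category.assoc]; exact h₁)
    obtain ⟨β₂', hb₂, hq₂⟩ := hlift (y ≫ iH) β₂ (by rw [Category.assoc]; exact h₂)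
    have hcomm := hiso T x y β₁' β₂' hb₁ hb₂
    have hB := isOverPt_mul h₂ h₁
    rw [mul_comm] at hB
    refine hinj _ _ _ (isOverPt_mul h₁ h₂) hB ?_
    show q T ≫ (β₂.1.hom ≫ β₁.1.hom) = q T ≫ (β₁.1.hom ≫ β₂.1.hom)
    rw [← reassoc_of% hq₁, ← reassoc_of% hq₂, ← hq₁, ← hq₂, ← Category.assoc, ← Category.assoc]
    exact congrArg (· ≫ q T) (congrArg (fun z => z.1.hom) hcomm)

end Groth.Agent.S19954
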