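import Groth.Statements.S19955
import Groth.Agent.H26Theta.Scalar
import Groth.Agent.H26Theta.Hom
import Groth.Agent.H25Theta.Cls
import Groth.Agent.H25Rig.GroupMaps
-- import your own Groth.Agent.* helpers here

set_option autoImplicit false
universe u
open CategoryTheory MonoidalCategory CartesianMonoidalCategory MonObj GrpObj AlgebraicGeometry
open ThetaGrp

open CategoryTheory.Limits Groth.Agent Groth.Agent.H26Theta
open Groth.Agent.H25Theta (pb pC pI pO cls pull cls_eq isUnit_cls pull_pull pull_id)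

set_option backward.isDefEq.respectTransparency false
set_option backward.isDefEq.respectTransparency.types false
set_option maxHeartbeats 1600000

namespace Groth.Agent.S19955

/-- Let A be an abelian variety over a field k (a proper, geometrically integral, commutative k-group
scheme), L an invertible O_A-module, and Λ an invertible module on A ×_k A which is the Mumford
bundle of L, stated without inverses: Λ ⊗ p_1^*L ⊗ p_2^*L ≅ m^*L for the group law m and the
projections p_1, p_2. Let i : K → A be a closed subgroup scheme exhibiting K as K(L) (the maximal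
closed subscheme of A over which Λ, restricted to A ×_k K, is the inverse image of an invertible
module on K, with its universal property), and let G be a k-group scheme with a point u ∈ G(Λ)(G)
representing the theta group of Λ on the k-group scheme A ×_k A (every point of G(Λ)(T) — a T-valued
point z of A × A with an isomorphism Λ_T ≅ t_z^*Λ_T — is the base change of u along a unique T → G,
multiplicatively). Then the action of K × {e} on A × A by translations lifts to Λ compatibly with
the group law of K: there is a homomorphism of group schemes j : K → G such that for every k-scheme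
T and every T-valued point y of K, the base change of u along j(y) lies over the translation by the
point (i(y), e) of A × A. (In the source L is a fixed ample invertible module and the equivariant
structure is moreover shown to be unique once an isomorphism of the fibre of L at e with k is fixed;
the argument for existence uses only that L is invertible, and the uniqueness is not part of this
statement.) -/
theorem result (k : Type u) [Field k]
    (A : Over (Spec (CommRingCat.of k))) [GrpObj A] [IsCommMonObj A] [IsProper A.hom] [GeometricallyIntegral A.hom]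
    (L : A.left.Modules) (hL : PicF.IsInvertible L)
    (Λ : (A ⊗ A).left.Modules) (hΛi : PicF.IsInvertible Λ)
    (hΛ : AgPol.IsLambdaSheaf μ[A].left (fst A A).left (snd A A).left L Λ)
    (K : Over (Spec (CommRingCat.of k))) [GrpObj K] (iK : K ⟶ A) [IsMonHom iK] (hK : ThetaGrp.IsKL A L iK)
    (G : Over (Spec (CommRingCat.of k))) [GrpObj G] (u : ThetaGrp.thetaPts (A ⊗ A) Λ G)
    (hG : ThetaGrp.IsThetaGrpSch (A ⊗ A) Λ G u) :
    ∃ j : K ⟶ G, IsMonHom j ∧
      ∀ (T : Over (Spec (CommRingCat.of k))) (y : T ⟶ K) (β : ThetaGrp.thetaPts (A ⊗ A) Λ T),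
        ThetaGrp.IsBaseChange β (y ≫ j) u → ThetaGrp.IsOverPt β (y ≫ lift iK (1 : K ⟶ A)) := by
  haveI : IsProper (A ⊗ A).hom := inferInstanceAs (IsProper (pullback.fst A.hom A.hom ≫ A.hom))
  haveI : GeometricallyIntegral (A ⊗ A).hom := H25Rig.geometricallyIntegral_tensor A A
  let ι₁ : A ⟶ A ⊗ A := lift (𝟙 A) 1
  let Λ₁ := pb ι₁.left Λ
  have hΛ₁i : PicF.IsInvertible Λ₁ := H11Ample.isInvertible_pullback _ hΛi
  -- the restriction to the first factor is trivial
  obtain ⟨eΛ⟩ := hΛ
  have hcl : cls Λ * pull (fst A A).left (cls L) * pull (snd A A).left (cls L) = pull μ[A].left (cls L) :=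
    Quot.sound ⟨eΛ⟩
  have hη : pull η[A].left (cls L) = 1 := by
    haveI : Subsingleton (𝟙_ (Over (Spec (CommRingCat.of k)))).left := inferInstanceAs (Subsingleton (PrimeSpectrum k))
    haveI : Nonempty (𝟙_ (Over (Spec (CommRingCat.of k)))).left := inferInstanceAs (Nonempty (PrimeSpectrum k))
    exact cls_eq.2 (H25Theta.nonempty_iso_of_subsingleton (H11Ample.isInvertible_pullback η[A].left hL))
  obtain ⟨eΛ₁⟩ : Nonempty (Λ₁ ≅ pb A.hom (Coh.structureModule (Spec (CommRingCat.of k)))) := by
    have h := congrArg (pull ι₁.left) hcl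
    simp only [map_mul, pull_pull, ← Over.comp_left] at h
    rw [show ι₁ ≫ fst A A = 𝟙 A from lift_fst _ _, show ι₁ ≫ snd A A = 1 from lift_snd _ _,
      show ι₁ ≫ μ[A] = 𝟙 A from by rw [show μ[A] = fst A A * snd A A by simp [Hom.mul_def], MonObj.comp_mul,
        lift_fst, lift_snd, _root_.mul_one],
      show (1 : A ⟶ A) = toUnit A ≫ η[A] from rfl, Over.comp_left, ← pull_pull, hη, map_one, _root_.mul_one,
      Over.id_left, pull_id] at h
    obtain ⟨e⟩ := cls_eq.1 ((isUnit_cls hL).mul_eq_right.1 h : cls Λ₁ = 1)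
    exact ⟨e ≪≫ (pO _).symm⟩
  let p0 : (⟨A.left, Λ₁⟩ : Pairs.{u}) ⟶ ⟨Spec (CommRingCat.of k), Coh.structureModule _⟩ :=
    { base := A.hom, fiber := eΛ₁.hom }
  let p : ∀ T : Over (Spec (CommRingCat.of k)), thetaObj A Λ₁ T ⟶ _ := fun T => proj A Λ₁ T ≫ p0
  haveI hp : ∀ T, IsIso (fib (p T)) := fun T =>
    cart_comp _ p0 (isIso_fib_toPair _ _) (inferInstanceAs (IsIso eΛ₁.hom))
  have hσex : ∀ T : Over (Spec (CommRingCat.of k)), ∃ σ : thetaObj A Λ₁ T ⟶ thetaObj (A ⊗ A) Λ T,
      σ.base = (ι₁ ▷ T).left ∧ σ ≫ proj (A ⊗ A) Λ T = proj A Λ₁ T ≫ toPair ι₁.left Λ := fun T =>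
    exists_lift (proj A Λ₁ T ≫ toPair ι₁.left Λ) (proj (A ⊗ A) Λ T) (ι₁ ▷ T).left
      (by show (ι₁ ▷ T).left ≫ (fst (A ⊗ A) T).left = (fst A T).left ≫ ι₁.left
          rw [← Over.comp_left, ← Over.comp_left, whiskerRight_fst])
  choose σ hσb hσp using hσex
  haveI hσi : ∀ T, IsIso (fib (σ T)) := fun T => cart_of_comp _ (proj (A ⊗ A) Λ T)
    (by rw [hσp]; exact cart_comp _ _ (isIso_fib_toPair _ _) (isIso_fib_toPair _ _)) (isIso_fib_toPair _ _)
  have hσsnd : ∀ (T : Over (Spec (CommRingCat.of k))) (t : Γ(T.left, ⊤)),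
      (σ T).base.appTop ((snd (A ⊗ A) T).left.appTop t) = (snd A T).left.appTop t := fun T t => by
    rw [← CommRingCat.comp_apply, ← Scheme.Hom.comp_appTop]
    congr 3
    rw [hσb, ← Over.comp_left, whiskerRight_snd]
  -- translations
  let x : ∀ {T : Over (Spec (CommRingCat.of k))}, (T ⟶ K) → (T ⟶ A) := fun y => y ≫ iK
  let z : ∀ {T : Over (Spec (CommRingCat.of k))}, (T ⟶ K) → (T ⟶ A ⊗ A) := fun y => y ≫ lift iK 1
  have hz : ∀ {T : Over (Spec (CommRingCat.of k))} (y : T ⟶ K), z y = lift (x y) 1 := fun y => by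
    simp only [z, x]; rw [comp_lift, MonObj.comp_one]
  have hsq : ∀ {T : Over (Spec (CommRingCat.of k))} (y : T ⟶ K),
      ι₁ ▷ T ≫ transl (A ⊗ A) (z y) = transl A (x y) ≫ ι₁ ▷ T := fun {T} y => by
    apply CartesianMonoidalCategory.hom_ext
    · rw [Category.assoc, Category.assoc, transl_fst, whiskerRight_fst, MonObj.comp_mul, whiskerRight_fst,
        whiskerRight_snd_assoc, hz]
      apply CartesianMonoidalCategory.hom_ext <;>
        simp [ι₁, MonObj.mul_comp, MonObj.comp_one, transl]
    · rw [Category.assoc, Category.assoc, transl_snd, whiskerRight_snd, transl_snd]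
  choose δ hδx hδp using fun {T : Over (Spec (CommRingCat.of k))} (y : T ⟶ K) =>
    exists_pt_lift A Λ₁ (x y) (p T) (p T) (by
      show (transl A (x y)).left ≫ (fst A T).left ≫ A.hom = (fst A T).left ≫ A.hom
      rw [Over.w (fst A T)]; exact Over.w _)
  -- points over the translations exist
  have hex : ∀ {T : Over (Spec (CommRingCat.of k))} (y : T ⟶ K),
      ∃ β : thetaPts (A ⊗ A) Λ T, IsOverPt β (z y) := fun {T} y => by
    obtain ⟨M, hM, ⟨h⟩⟩ := (H25Theta.mumford_iff A L hL (x y)).1 ((hK.univ T _).2 ⟨y, rfl⟩)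
    have hc : pull (transl A (x y) ≫ fst A T).left (cls L) =
        pull (fst A T).left (cls L) * pull (snd A T).left (cls M) := (Quot.sound ⟨h⟩ : _ = _).symm
    let a : (A ⊗ A) ⊗ T ⟶ A := fst _ _ ≫ fst A A
    let b : (A ⊗ A) ⊗ T ⟶ A := fst _ _ ≫ snd A A
    have key : ∀ w : (A ⊗ A) ⊗ T ⟶ A, pull (w * (snd _ _ ≫ x y)).left (cls L) =
        pull w.left (cls L) * pull (snd (A ⊗ A) T).left (cls M) := fun w => by
      have h' := congrArg (pull (lift w (snd (A ⊗ A) T)).left) hc
      rw [map_mul, pull_pull, pull_pull, pull_pull, ← Over.comp_left, ← Over.comp_left, ← Over.comp_left,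
        transl_fst, MonObj.comp_mul, lift_fst, lift_snd_assoc, lift_snd] at h'
      exact h'
    have h1 := congrArg (pull (fst (A ⊗ A) T).left) hcl
    have h2 := congrArg (pull (transl (A ⊗ A) (z y) ≫ fst (A ⊗ A) T).left) hcl
    simp only [map_mul, pull_pull, ← Over.comp_left] at h1 h2
    rw [show fst (A ⊗ A) T ≫ μ[A] = a * b by simp [a, b, Hom.mul_def]] at h1
    have ha' : (transl (A ⊗ A) (z y) ≫ fst (A ⊗ A) T) ≫ fst A A = a * (snd _ _ ≫ x y) := by
      rw [transl_fst, MonObj.mul_comp, Category.assoc, hz, lift_fst]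
    have hb' : (transl (A ⊗ A) (z y) ≫ fst (A ⊗ A) T) ≫ snd A A = b := by
      rw [transl_fst, MonObj.mul_comp, Category.assoc, hz, lift_snd, MonObj.comp_one, _root_.mul_one]
    rw [show μ[A] = fst A A * snd A A by simp [Hom.mul_def], MonObj.comp_mul, ha', hb', key,
      mul_right_comm a, key, ← h1] at h2
    have heq : pull (transl (A ⊗ A) (z y) ≫ fst (A ⊗ A) T).left (cls Λ) =
        pull (fst (A ⊗ A) T).left (cls Λ) := by
      refine ((((isUnit_cls hL).map (pull a.left)).mul ((isUnit_cls hM).map (pull (snd (A ⊗ A) T).left))).mul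
        ((isUnit_cls hL).map (pull b.left))).mul_left_inj.1 ?_
      have comm : ∀ {C : Type (u + 1)} [CommMonoid C] (X Y P Q R : C),
          X * (P * R) * Q = Y * P * Q * R → X * (P * R * Q) = Y * (P * R * Q) := fun X Y P Q R h => by
        calc X * (P * R * Q) = X * (P * R) * Q := by ac_rfl
          _ = Y * P * Q * R := h
          _ = Y * (P * R * Q) := by ac_rfl
      exact comm _ _ _ _ _ h2
    obtain ⟨e⟩ := cls_eq.1 heq
    exact ⟨mkPt (A ⊗ A) Λ (z y) (e.symm ≪≫ (pC (transl (A ⊗ A) (z y)).left (fst (A ⊗ A) T).left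
      (by rw [Over.comp_left]) Λ).symm), rfl⟩
  -- normalisation
  have huniq : ∀ {T : Over (Spec (CommRingCat.of k))} {β β' : thetaPts (A ⊗ A) Λ T} {w : T ⟶ A ⊗ A},
      IsOverPt β w → IsOverPt β' w → σ T ≫ β.1.hom = σ T ≫ β'.1.hom → β = β' := fun {T β β' w} h h' he => by
    haveI := isIso_fib β'.1
    obtain ⟨r, hr⟩ := exists_premul_eq (H11Ample.isInvertible_pullback _ hΛi) β.1.hom β'.1.hom (h.trans h'.symm)
    obtain ⟨t, rfl⟩ := exists_appTop_snd (A := A ⊗ A) T r
    rw [hr, comp_premul, hσsnd] at he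
    haveI : IsIso (fib (σ T ≫ β'.1.hom)) := cart_comp _ _ (hσi T) (isIso_fib β'.1)
    have ht := premul_injective (H11Ample.isInvertible_pullback _ hΛ₁i) (σ T ≫ β'.1.hom)
      (he.trans (premul_one _).symm)
    have ht' : t = 1 := appTop_snd_injective (A := A) T (ht.trans (map_one _).symm)
    apply Subtype.ext
    apply Aut.ext
    rw [hr, ht', map_one, premul_one]
  have hnorm : ∀ {T : Over (Spec (CommRingCat.of k))} (y : T ⟶ K),
      ∃ β : thetaPts (A ⊗ A) Λ T, IsOverPt β (z y) ∧ σ T ≫ β.1.hom = (δ y).1.hom ≫ σ T := fun {T} y => by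
    obtain ⟨β, hβ⟩ := hex y
    haveI := isIso_fib β.1
    haveI : IsIso (fib (σ T ≫ β.1.hom)) := cart_comp _ _ (hσi T) (isIso_fib β.1)
    haveI : IsIso (fib ((δ y).1.hom ≫ σ T)) := cart_comp _ _ (isIso_fib (δ y).1) (hσi T)
    have hb : (σ T ≫ β.1.hom).base = ((δ y).1.hom ≫ σ T).base := by
      show (σ T).base ≫ β.1.hom.base = (δ y).1.hom.base ≫ (σ T).base
      rw [hσb, hβ, hδx, ← Over.comp_left, ← Over.comp_left, hsq]
    have hinv : PicF.IsInvertible (pb (fst A T).left Λ₁) :=
      H11Ample.isInvertible_pullback _ hΛ₁i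
    obtain ⟨r, hr⟩ := exists_premul_eq hinv (σ T ≫ β.1.hom) ((δ y).1.hom ≫ σ T) hb
    obtain ⟨r', hr'⟩ := exists_premul_eq hinv ((δ y).1.hom ≫ σ T) (σ T ≫ β.1.hom) hb.symm
    obtain ⟨t, rfl⟩ := exists_appTop_snd (A := A) T r
    obtain ⟨t', rfl⟩ := exists_appTop_snd (A := A) T r'
    have htt : t' * t = 1 := appTop_snd_injective (A := A) T (premul_injective hinv (σ T ≫ β.1.hom) (by
      rw [map_mul, map_one, ← premul_premul, ← hr', ← hr, premul_one]))
    let g := premul β.1.hom ((snd (A ⊗ A) T).left.appTop t')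
    haveI : IsIso (fib g) := isIso_fib_premul (s := (snd (A ⊗ A) T).left.appTop t) β.1.hom
      (by rw [← map_mul, htt, map_one])
    haveI : IsIso g.base := by show IsIso β.1.hom.base; rw [hβ]; exact isIso_transl_left _ _
    haveI := isIso_of_components g
    refine ⟨⟨asIso g, z y, hβ⟩, hβ, ?_⟩
    show σ T ≫ g = _
    rw [comp_premul, hσsnd, ← hr']
  choose β hβz hβσ using @hnorm
  -- multiplicativity and base change
  have hmul : ∀ {T : Over (Spec (CommRingCat.of k))} (y y' : T ⟶ K), β y * β y' = β (y * y') := fun {T} y y' => by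
    refine huniq (w := z (y * y')) ?_ (hβz _) ?_
    · have h := isOverPt_mul (hβz y) (hβz y')
      rwa [show z y' * z y = z (y * y') by rw [hz, hz, hz, mul_comm]; simp only [x, MonObj.mul_comp]; apply
        CartesianMonoidalCategory.hom_ext <;> simp [MonObj.mul_comp]] at h
    · have hδm : δ y * δ y' = δ (y * y') := by
        apply Subtype.ext
        apply Aut.ext
        refine cart_ext (p T) ?_ ?_
        · have h := isOverPt_mul (hδx y) (hδx y')
          rw [show x y' * x y = x (y * y') by rw [mul_comm]; simp only [x, MonObj.mul_comp]] at h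
          exact h.trans (hδx _).symm
        · rw [show ((δ y * δ y').1).hom = (δ y').1.hom ≫ (δ y).1.hom from rfl, Category.assoc, hδp, hδp, hδp]
      rw [show ((β y * β y').1).hom = (β y').1.hom ≫ (β y).1.hom from rfl, reassoc_of% hβσ, hβσ, hβσ, ← hδm,
        show ((δ y * δ y').1).hom = (δ y').1.hom ≫ (δ y).1.hom from rfl, Category.assoc]
  have hbc : ∀ {T T' : Over (Spec (CommRingCat.of k))} (g : T' ⟶ T) (y : T ⟶ K),
      IsBaseChange (β (g ≫ y)) g (β y) := fun {T T'} g y => by
    have hσbc : bcLift A Λ₁ g ≫ σ T = σ T' ≫ bcLift (A ⊗ A) Λ g := by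
      refine cart_ext (proj (A ⊗ A) Λ T) ?_ ?_
      · show (A ◁ g).left ≫ (σ T).base = (σ T').base ≫ ((A ⊗ A) ◁ g).left
        rw [hσb, hσb, ← Over.comp_left, ← Over.comp_left, whisker_exchange]
      · rw [Category.assoc, Category.assoc, hσp, bcLift_proj, hσp, ← Category.assoc, bcLift_proj]
    have hpbc : bcLift A Λ₁ g ≫ p T = p T' := by simp only [p, ← Category.assoc, bcLift_proj]
    have hδbc : (δ (g ≫ y)).1.hom ≫ bcLift A Λ₁ g = bcLift A Λ₁ g ≫ (δ y).1.hom := by
      refine cart_ext (p T) ?_ ?_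
      · show (δ (g ≫ y)).1.hom.base ≫ (A ◁ g).left = (A ◁ g).left ≫ (δ y).1.hom.base
        rw [hδx, hδx, ← Over.comp_left, ← Over.comp_left, ← whiskerLeft_transl]
        simp only [x, Category.assoc]
      · rw [Category.assoc, Category.assoc, hpbc, hδp, hδp, hpbc]
    -- both sides agree after restriction, hence agree
    haveI := isIso_fib_bcLift (A ⊗ A) Λ g
    haveI : IsIso (fib (bcLift (A ⊗ A) Λ g ≫ (β y).1.hom)) :=
      cart_comp _ _ (isIso_fib_bcLift _ _ g) (isIso_fib (β y).1)
    obtain ⟨β', hβ', hβ'p⟩ := exists_pt_lift (A ⊗ A) Λ (g ≫ z y) (bcLift (A ⊗ A) Λ g ≫ (β y).1.hom)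
      (bcLift (A ⊗ A) Λ g) (by
      show (transl (A ⊗ A) (g ≫ z y)).left ≫ ((A ⊗ A) ◁ g).left = ((A ⊗ A) ◁ g).left ≫ (β y).1.hom.base
      rw [hβz, ← Over.comp_left, ← Over.comp_left, ← whiskerLeft_transl])
    have : β' = β (g ≫ y) := by
      have hz' : g ≫ z y = z (g ≫ y) := by simp only [z, Category.assoc]
      rw [hz'] at hβ'
      refine huniq hβ' (hβz _) ?_
      haveI := isIso_fib_bcLift (A ⊗ A) Λ g
      refine cart_ext (bcLift (A ⊗ A) Λ g) ?_ ?_
      · show (σ T').base ≫ β'.1.hom.base = (σ T').base ≫ (β (g ≫ y)).1.hom.base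
        rw [hβ', hβz]
      · rw [Category.assoc, Category.assoc, hβ'p, ← reassoc_of% hσbc, hβσ, ← reassoc_of% hδbc, hσbc,
          reassoc_of% hβσ]
    exact this ▸ hβ'p
  obtain ⟨j, hj, hjn⟩ := exists_hom_of_family hG @β hmul hbc
  refine ⟨j, hj, fun T y γ' h => ?_⟩
  rw [(hjn y γ').1 h]
  exact hβz y

end Groth.Agent.S19955
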