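import Groth.Statements.S19956
import Groth.Agent.H26Theta.DescendPt
-- import your own Groth.Agent.* helpers here

set_option autoImplicit false
universe u
open CategoryTheory MonoidalCategory CartesianMonoidalCategory MonObj GrpObj AlgebraicGeometry
open ThetaGrp

open CategoryTheory.Limits Groth.Agent Groth.Agent.H26Theta
open Groth.Agent.H25Theta (pb)

set_option backward.isDefEq.respectTransparency false
set_option backward.isDefEq.respectTransparency.types false
set_option maxHeartbeats 1600000

namespace Groth.Agent.S19956

/-- Let f : X → Y be a surjective homomorphism of abelian varieties over a field k (proper,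
geometrically integral, commutative k-group schemes), i : N → X its kernel (a homomorphism forming a
cartesian square with the unit section of Y), M an invertible O_Y-module and L = f^*M. Let G be a
k-group scheme with a point u ∈ G(L)(G) representing the theta group of L (every point of G(L)(T) is
the base change of u along a unique T → G, multiplicatively), and j : N → G a level subgroup lying
over i: a homomorphism of group schemes and an immersion such that a point of N whose image lies
over the identity translation is trivial, and such that for every T-valued point n of N the base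
change of u along j(n) lies over the translation by i(n). Let i_M : K_M → Y be a closed immersion
exhibiting K_M as K(M) (the maximal closed subscheme of Y over which the Mumford bundle of M,
restricted to Y ×_k K_M, is the inverse image of an invertible module on K_M, with its universal
property). For a k-scheme T, a T-valued point g of G and the T-valued point x of X under it (the
base change of u along g lies over the translation by x): g lies in the centralizer of j(N) — for
every T' → T and every T'-valued point n of N, the restriction of g commutes with j(n) in the group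
G(T') — if and only if f(x) factors through i_M. (The source states this for the level subgroup
attached to the descent M; by the source's description of f⁻¹(K(M)) as Ker(f)^⊥ both sides depend
only on Ker(f), so it is stated for any level structure over i. The identification of G(M) with the
centralizer modulo j(N) is not part of this statement.) -/
theorem result (k : Type u) [Field k]
    (A : Over (Spec (CommRingCat.of k))) [GrpObj A] [IsCommMonObj A] [IsProper A.hom] [GeometricallyIntegral A.hom]
    (B : Over (Spec (CommRingCat.of k))) [GrpObj B] [IsCommMonObj B] [IsProper B.hom] [GeometricallyIntegral B.hom]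
    (f : A ⟶ B) [IsMonHom f] (hf : Surjective f.left)
    (N : Over (Spec (CommRingCat.of k))) [GrpObj N] (i : N ⟶ A) [IsMonHom i] (hN : AlgGrp.IsKernel i f)
    (M : B.left.Modules) (hM : PicF.IsInvertible M)
    (G : Over (Spec (CommRingCat.of k))) [GrpObj G]
    (u : ThetaGrp.thetaPts A ((Scheme.Modules.pullback f.left).obj M) G)
    (hG : ThetaGrp.IsThetaGrpSch A ((Scheme.Modules.pullback f.left).obj M) G u)
    (j : N ⟶ G) [IsMonHom j] (hj : ThetaGrp.IsLevelSubgrp u j)
    (hover : ∀ (T : Over (Spec (CommRingCat.of k))) (n : T ⟶ N)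
      (β : ThetaGrp.thetaPts A ((Scheme.Modules.pullback f.left).obj M) T),
      ThetaGrp.IsBaseChange β (n ≫ j) u → ThetaGrp.IsOverPt β (n ≫ i))
    (KM : Over (Spec (CommRingCat.of k))) (iM : KM ⟶ B) (hKM : ThetaGrp.IsKL B M iM)
    (T : Over (Spec (CommRingCat.of k))) (g : T ⟶ G) (x : T ⟶ A)
    (β : ThetaGrp.thetaPts A ((Scheme.Modules.pullback f.left).obj M) T)
    (hβ : ThetaGrp.IsBaseChange β g u) (hx : ThetaGrp.IsOverPt β x) :
    (∀ (T' : Over (Spec (CommRingCat.of k))) (t : T' ⟶ T) (n : T' ⟶ N),
        (t ≫ g) * (n ≫ j) = (n ≫ j) * (t ≫ g)) ↔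
      ∃ y : T ⟶ KM, y ≫ iM = x ≫ f := by
  let L := pb f.left M
  have hL : PicF.IsInvertible L := H11Ample.isInvertible_pullback _ hM
  have hif : i ≫ f = (1 : N ⟶ B) := hN.w.trans (by rw [Hom.one_def])
  -- commutation of points of `G` and of the points of the theta group
  have hcom : ∀ {T' : Over (Spec (CommRingCat.of k))} {a b : T' ⟶ G} {β₁ β₂ : thetaPts A L T'},
      IsBaseChange β₁ a u → IsBaseChange β₂ b u → (a * b = b * a ↔ β₁ * β₂ = β₂ * β₁) :=
    fun ha hb => ⟨fun h => (hG.exists_bc _ _).unique (hG.mul _ _ _ _ _ ha hb) (h ▸ hG.mul _ _ _ _ _ hb ha),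
      fun h => (hG.univ _ _).unique (hG.mul _ _ _ _ _ ha hb) (h ▸ hG.mul _ _ _ _ _ hb ha)⟩
  constructor
  · intro hc
    suffices h : ∃ δ : thetaPts B M T, IsOverPt δ (x ≫ f) by
      obtain ⟨δ, hδ⟩ := h
      refine (hKM.univ T _).1 ((H25Theta.mumford_iff B M hM _).2
        ⟨_, H11Ample.isInvertible_structureModule, (exists_pt_iff B M _).1 ⟨δ, hδ⟩⟩)
    refine exists_descended_pt hf hN hM hx fun β' γn h₁ h₂ => ?_
    obtain ⟨β₁, hβ₁, hb₁⟩ := exists_baseChange (snd N T) hx
    obtain ⟨β₂, hb₂, -⟩ := hG.exists_bc _ (fst N T ≫ j)
    exact commute_congr hL hβ₁ h₁ (hover _ _ _ hb₂) h₂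
      ((hcom (isBaseChange_comp hb₁ hβ) hb₂).1 (hc _ (snd N T) (fst N T)))
  · rintro ⟨y, hy⟩ T' t n
    obtain ⟨β₁, hβ₁, hb₁⟩ := exists_baseChange t hx
    obtain ⟨β₂, hb₂, -⟩ := hG.exists_bc _ (n ≫ j)
    refine (hcom (isBaseChange_comp hb₁ hβ) hb₂).2 ?_
    obtain ⟨N₀, hN₀, hNe⟩ := (H25Theta.mumford_iff B M hM ((t ≫ x) ≫ f)).1
      ((hKM.univ T' _).2 ⟨t ≫ y, by simp only [Category.assoc, hy]⟩)
    obtain ⟨δ, hδ⟩ := exists_pushed_pt hM hNe hβ₁
    obtain ⟨γ₁, hγ₁, q₁⟩ := exists_lift_pt hδ
    obtain ⟨γ₂, hγ₂, q₂⟩ := exists_lift_pt (f := f) (M := M) (x := n ≫ i)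
      (δ := (1 : thetaPts B M T')) (by rw [Category.assoc, hif, MonObj.comp_one]; exact isOverPt_one)
    exact commute_congr hL hγ₁ hβ₁ hγ₂ (hover _ _ _ hb₂)
      (commute_lifts hγ₁ hγ₂ q₁ q₂ (by rw [_root_.mul_one, _root_.one_mul]))

end Groth.Agent.S19956
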