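import Groth.Statements.S19960
import Groth.Agent.H10Coh.FamEnd.Open
import Groth.Agent.S11738
import Groth.Agent.H10Coh.RelRes.Cover
import Groth.Agent.H10Coh.Stab.Basic
import Groth.Agent.H25Euler.ParOne
import Groth.Agent.H11Ample.AmpleOn

set_option autoImplicit false
open CategoryTheory CategoryTheory.Limits AlgebraicGeometry Polynomial
universe u
open ShStab

namespace Groth.Agent.S19960

set_option backward.isDefEq.respectTransparency.types false
set_option linter.style.haveILetI false

/-- Two presentations of the product of a closed subscheme of projective space with a base. -/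
theorem exists_embedding' {k : Type u} [Field k] {N : ℕ} {X : Scheme.{u}} (ι : X ⟶ CohB1.ProjSpace N k)
    [IsClosedImmersion ι] (fX : X ⟶ Spec (CommRingCat.of k)) (hι : ι ≫ CohB1.ProjSpace.toSpec N k = fX)
    {S T : Scheme.{u}} (q : S ⟶ Spec (CommRingCat.of k)) (t : T ⟶ S) :
    ∃ j : pullback (pullback.snd fX q) t ⟶ KRR.PY N T,
      IsClosedImmersion j ∧ j ≫ KRR.pr N T = pullback.snd _ _ := by
  subst hι
  obtain ⟨j, hj, hjf⟩ := Groth.Agent.S11738.exists_embedding k ι (t ≫ q)
  have h := ((IsPullback.of_hasPullback (pullback.snd (ι ≫ CohB1.ProjSpace.toSpec N k) q) t).flip.paste_vert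
    (IsPullback.of_hasPullback (ι ≫ CohB1.ProjSpace.toSpec N k) q).flip).flip
  haveI := hj
  refine ⟨h.isoPullback.hom ≫ j, inferInstance, ?_⟩
  rw [Category.assoc, hjf]
  exact h.isoPullback_hom_snd

theorem hom_eq_smulMod_iff {K : Type u} [CommRing K] {Z : Scheme.{u}} (p : Z ⟶ Spec (CommRingCat.of K))
    (M : Z.Modules) (φ : M ⟶ M) (c : K) :
    letI : Z.Over (Spec (CommRingCat.of K)) := ⟨p⟩
    (∀ (V : Z.Opens) (x : M.val.obj (Opposite.op V)),
        (φ.app V) x = (Z.ringCatSheaf.obj.map (homOfLE (le_top : V ≤ ⊤)).op (Coh.toGlobal p c)) • x) ↔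
      φ = Formal.smulMod K M c := by
  letI : Z.Over (Spec (CommRingCat.of K)) := ⟨p⟩
  exact ⟨fun h => Groth.Agent.LeadFF.hom_ext_sections _ _ fun U m => h U m, fun h V x => by subst h; rfl⟩

/-- Let k be a field and X an integral scheme, smooth and proper over k, with a closed immersion ι into
projective N-space over k compatible with the structure maps, polarised by the ample O_X(1) =
ι^*O(1). Let S be a k-scheme of finite type and F a coherent sheaf on X ×_k S, flat over S, whose
fibres F_s on X_s = (X ×_k S) ×_S Spec κ(s) have a fixed Hilbert polynomial P with respect to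
O_X(1)|_{X_s}. Then the set of points s of S for which F_s is simple over κ(s) is open, where F_s
simple means that End(F_s) is one-dimensional over κ(s): F_s is nonzero and every endomorphism of
F_s is multiplication by a scalar c ∈ κ(s) on the sections over every open of X_s. -/
theorem result (k : Type u) [Field k]
    (X : Scheme.{u}) [X.Over (Spec (CommRingCat.of k))] [IsIntegral X]
    [Smooth (X ↘ Spec (CommRingCat.of k))] [IsProper (X ↘ Spec (CommRingCat.of k))]
    (N : ℕ) (ι : X ⟶ CohB1.ProjSpace N k) [IsClosedImmersion ι]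
    (hι : ι ≫ CohB1.ProjSpace.toSpec N k = X ↘ Spec (CommRingCat.of k))
    (hL : CohB1.IsAmple ((Scheme.Modules.pullback ι).obj (Twist.twistProjSpace N k 1)))
    (S : Scheme.{u}) (q : S ⟶ Spec (CommRingCat.of k)) [LocallyOfFiniteType q] [CompactSpace S]
    (F : (pullback (X ↘ Spec (CommRingCat.of k)) q).Modules) (hF : Coh.IsCoh F)
    (hfl : FlatMod.IsFlatOver (pullback.snd (X ↘ Spec (CommRingCat.of k)) q) F) (P : ℚ[X])
    (hP : ∀ s : S, ShStab.IsHilbPoly (S.residueField s) (Over.mk ((pullback.snd (X ↘ Spec (CommRingCat.of k)) q).fiberToSpecResidueField s)).left (CohIII.fiberMod (pullback.snd (X ↘ Spec (CommRingCat.of k)) q) ((Scheme.Modules.pullback (pullback.fst (X ↘ Spec (CommRingCat.of k)) q)).obj ((Scheme.Modules.pullback ι).obj (Twist.twistProjSpace N k 1))) s) (CohIII.fiberMod (pullback.snd (X ↘ Spec (CommRingCat.of k)) q) F s) P) :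
    IsOpen {s : S | ¬ IsZero (CohIII.fiberMod (pullback.snd (X ↘ Spec (CommRingCat.of k)) q) F s) ∧
      ∀ φ : (CohIII.fiberMod (pullback.snd (X ↘ Spec (CommRingCat.of k)) q) F s) ⟶ (CohIII.fiberMod (pullback.snd (X ↘ Spec (CommRingCat.of k)) q) F s), ∃ c : ↥(S.residueField s),
        ∀ (V : ((pullback.snd (X ↘ Spec (CommRingCat.of k)) q).fiber s).Opens) (x : (CohIII.fiberMod (pullback.snd (X ↘ Spec (CommRingCat.of k)) q) F s).val.obj (Opposite.op V)),
          (φ.app V) x = (((pullback.snd (X ↘ Spec (CommRingCat.of k)) q).fiber s).ringCatSheaf.obj.map (homOfLE (le_top : V ≤ ⊤)).op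
            (Coh.toGlobal ((pullback.snd (X ↘ Spec (CommRingCat.of k)) q).fiberToSpecResidueField s) c)) • x} := by
  let fX := X ↘ Spec (CommRingCat.of k)
  let f := pullback.snd fX q
  haveI : IsLocallyNoetherian S := LocallyOfFiniteType.isLocallyNoetherian q
  haveI : IsProper f := MorphismProperty.pullback_snd (P := @IsProper) _ _ inferInstance
  haveI : IsLocallyNoetherian (pullback fX q) := LocallyOfFiniteType.isLocallyNoetherian f
  let LS := (Scheme.Modules.pullback (pullback.fst fX q)).obj
    ((Scheme.Modules.pullback ι).obj (Twist.twistProjSpace N k 1))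
  by_cases hP0 : P = 0
  · have hz : ∀ s : S, IsZero (CohIII.fiberMod f F s) := fun s => by
      letI : (f.fiber s).Over (Spec (CommRingCat.of (S.residueField s))) := ⟨f.fiberToSpecResidueField s⟩
      haveI : IsProper (f.fiber s ↘ Spec (CommRingCat.of (S.residueField s))) :=
        MorphismProperty.pullback_snd (P := @IsProper) f (S.fromSpecResidueField s) inferInstance
      have hc : IsPullback (f.fiberι s ≫ pullback.fst fX q) (f.fiberToSpecResidueField s) fX
          (S.fromSpecResidueField s ≫ q) :=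
        ((IsPullback.of_hasPullback f (S.fromSpecResidueField s)).flip.paste_vert
          (IsPullback.of_hasPullback fX q).flip).flip
      haveI : IsAffineHom (f.fiberι s ≫ pullback.fst fX q) :=
        MorphismProperty.of_isPullback (P := @IsAffineHom) hc.flip inferInstance
      have hA : CohB1.IsAmple (CohIII.fiberMod f LS s) :=
        Groth.Agent.H11Ample.isAmple_of_iso ((Scheme.Modules.pullbackComp _ _).app _).symm
          (Groth.Agent.H11Ample.isAmple_pullback_of_isAffineHom (f.fiberι s ≫ pullback.fst fX q) hL)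
      have hP' : ShStab.IsHilbPoly (S.residueField s) (f.fiber s) (CohIII.fiberMod f LS s) (CohIII.fiberMod f F s) P :=
        hP s
      subst hP0
      exact Groth.Agent.H10Coh.Stab.isZero_of_hilbPoly_zero hA (Groth.Agent.H17.ConsProp.isCoh_pullback _ hF) hP'
    convert isOpen_empty
    exact Set.eq_empty_iff_forall_notMem.2 fun s hs => hs.1 (hz s)
  have hne : ∀ s : S, ¬ IsZero (CohIII.fiberMod f F s) := fun s h => by
    letI : (f.fiber s).Over (Spec (CommRingCat.of (S.residueField s))) := ⟨f.fiberToSpecResidueField s⟩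
    haveI : IsProper (f.fiber s ↘ Spec (CommRingCat.of (S.residueField s))) :=
      MorphismProperty.pullback_snd (P := @IsProper) f (S.fromSpecResidueField s) inferInstance
    have h0 := Groth.Agent.H25Euler.hilbPoly_zero (k := S.residueField s) (L := CohIII.fiberMod f LS s) h
    refine hP0 (Polynomial.funext fun r => ?_)
    have hev : ∀ m : ℕ, P.eval (m : ℚ) = 0 := fun m => by
      rw [← hP s m]; exact (h0 m).trans (Polynomial.eval_zero)
    rw [Polynomial.eq_zero_of_infinite_isRoot P (Set.Infinite.mono (fun x hx => by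
      obtain ⟨m, rfl⟩ := hx; exact hev m) (Set.infinite_range_of_injective Nat.cast_injective))]
  have hpres : ∀ (V : S.Opens) (hV : IsAffineOpen V),
      ∃ (E₀ E₁ : (pullback f hV.fromSpec).Modules) (v : E₁ ⟶ E₀)
        (π : E₀ ⟶ (Scheme.Modules.pullback (pullback.fst f hV.fromSpec)).obj F) (w : v ≫ π = 0),
        FlatMod.IsFinLocFree E₀ ∧ FlatMod.IsFinLocFree E₁ ∧ Epi π ∧ (ShortComplex.mk v π w).Exact := by
    intro V hV
    haveI : IsNoetherianRing Γ(S, V) := IsLocallyNoetherian.component_noetherian ⟨V, hV⟩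
    obtain ⟨j, hj, hjf⟩ := exists_embedding' ι fX hι q hV.fromSpec
    haveI := hj
    haveI : IsLocallyNoetherian (pullback f hV.fromSpec) :=
      LocallyOfFiniteType.isLocallyNoetherian (pullback.snd f hV.fromSpec)
    let F' := (Scheme.Modules.pullback (pullback.fst f hV.fromSpec)).obj F
    have hF' : Coh.IsCoh F' := Groth.Agent.H17.ConsProp.isCoh_pullback _ hF
    have hfl' : FlatMod.IsFlatOver (pullback.snd f hV.fromSpec) F' :=
      Groth.Agent.H16Derived.BaseChange.isFlatOver_pullback (IsPullback.of_hasPullback f hV.fromSpec) hfl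
    obtain ⟨E₀, π, h₀, hπ⟩ := Groth.Agent.H10Coh.RelRes.exists_cover_closed j hjf hF' hfl'
    haveI := hπ
    have hS : (ShortComplex.mk (kernel.ι π) π (kernel.condition π)).ShortExact :=
      { exact := ShortComplex.exact_kernel π }
    have hK : Coh.IsCoh (kernel π) :=
      Groth.Agent.H10Coh.isCoh_kernel π (Groth.Agent.H16Derived.KFlat.Stalk.isCoh_of_isFinLocFree h₀) hF'.1
    have hKfl : FlatMod.IsFlatOver (pullback.snd f hV.fromSpec) (kernel π) :=
      Groth.Agent.H16Derived.TorTest.isFlatOver_left hS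
        (Groth.Agent.H10Coh.SheafHom.isFlatOver_of_isFinLocFree _ E₀ h₀) hfl'
    obtain ⟨E₁, p, h₁, hp⟩ := Groth.Agent.H10Coh.RelRes.exists_cover_closed j hjf hK hKfl
    haveI := hp
    refine ⟨E₀, E₁, p ≫ kernel.ι π, π, by rw [Category.assoc, kernel.condition, Limits.comp_zero], h₀, h₁, hπ, ?_⟩
    exact (ShortComplex.exact_iff_of_epi_of_isIso_of_mono
      (φ := ({ τ₁ := p, τ₂ := 𝟙 E₀, τ₃ := 𝟙 _ } :
        ShortComplex.mk (p ≫ kernel.ι π) π (by rw [Category.assoc, kernel.condition, Limits.comp_zero]) ⟶
          ShortComplex.mk (kernel.ι π) π (kernel.condition π)))).2 hS.exact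
  haveI : Flat (pullback.snd fX q) := MorphismProperty.pullback_snd (P := @Flat) _ _ inferInstance
  convert Groth.Agent.H10Coh.FamEnd.isOpen_scalarAt f F hF hfl hpres hne using 1
  ext s
  exact ⟨fun h φ => (h.2 φ).imp fun c hc => (hom_eq_smulMod_iff _ _ φ c).1 hc,
    fun h => ⟨hne s, fun φ => (h φ).imp fun c hc => (hom_eq_smulMod_iff _ _ φ c).2 hc⟩⟩

end Groth.Agent.S19960
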