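import Groth.Statements.S19964
import Groth.Agent.H28Neron.ClosureSubgroup
import Groth.Agent.H12AlgSp.UnivInj

set_option autoImplicit false
set_option backward.isDefEq.respectTransparency false
set_option linter.style.haveILetI false
set_option synthInstance.maxHeartbeats 400000
set_option maxHeartbeats 1000000
universe u
open CategoryTheory MonoidalCategory CartesianMonoidalCategory MonObj GrpObj AlgebraicGeometry CategoryTheory.Limits
open Neron

namespace Groth.Agent.S19964

/-- Let R be a Dedekind domain with fraction field K, G a group scheme over Spec R and i : H_K → G_K a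
closed subgroup scheme of the generic fibre G_K = G ×_R K (a homomorphism which is a closed
immersion). Then there are a group scheme H over Spec R, flat over Spec R, and a homomorphism j : H
→ G which is a closed immersion, together with a morphism H_K → H presenting H_K as the generic
fibre H ×_R K compatibly with i and the embedding G_K → G, and with trivial kernel ideal sheaf (H_K
is schematically dense in H). In words: the schematic closure in G of a closed K-subgroup of the
generic fibre is a flat closed R-subgroup scheme of G. (The source states this for group algebraic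
spaces over a connected Dedekind scheme; the case of schemes over an affine base is stated.) -/
theorem result
    (R : Type u) [CommRing R] [IsDedekindDomain R]
    (G : Over (Spec (CommRingCat.of R))) [GrpObj G]
    (HK : Over (Spec (CommRingCat.of (FractionRing R)))) [GrpObj HK]
    (i : HK ⟶ Red.bc (Neron.genPt R) G) [IsMonHom i] [IsClosedImmersion i.left] :
    ∃ (H : Over (Spec (CommRingCat.of R))) (_ : GrpObj H) (j : H ⟶ G) (φ : HK.left ⟶ H.left),
      IsMonHom j ∧ IsClosedImmersion j.left ∧ Flat H.hom ∧
      IsPullback φ HK.hom H.hom (Neron.genPt R) ∧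
      φ ≫ j.left = i.left ≫ pullback.fst G.hom (Neron.genPt R) ∧
      φ.ker = ⊥ := by
  let g := Neron.genPt R
  haveI : IsAffineHom g := by dsimp [g, Neron.genPt]; infer_instance
  haveI : Flat g := by
    dsimp [g, Neron.genPt]
    rw [Flat.SpecMap_iff]
    exact RingHom.flat_algebraMap_iff.2 (IsLocalization.flat (FractionRing R) (nonZeroDivisors R))
  haveI : Mono g := by
    haveI : IsPreimmersion g := IsPreimmersion.of_isLocalization (S := FractionRing R) (nonZeroDivisors R)
    infer_instance
  let π := pullback.fst G.hom g
  haveI : QuasiCompact π := inferInstanceAs (QuasiCompact (pullback.fst G.hom (Neron.genPt R)))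
  let f : HK.left ⟶ G.left := i.left ≫ π
  haveI : QuasiCompact f := inferInstanceAs (QuasiCompact (i.left ≫ π))
  have hfq : f ≫ G.hom = HK.hom ≫ g := by
    show (i.left ≫ π) ≫ G.hom = HK.hom ≫ g
    rw [← Over.w i, Category.assoc, pullback.condition]
    exact (Category.assoc _ _ _).symm
  haveI : Flat HK.hom := H12AlgSp.flat_to_field HK.hom
  haveI : Flat (f ≫ G.hom) := by rw [hfq]; infer_instance
  let j : (Over.mk (f.imageι ≫ G.hom) : Over (Spec (CommRingCat.of R))) ⟶ G := Over.homMk f.imageι rfl
  let H : Over (Spec (CommRingCat.of R)) := Over.mk (f.imageι ≫ G.hom)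
  haveI : Flat H.hom := H8Props.ImageTorsionFree.flat_imageι G.hom f
  haveI : IsClosedImmersion j.left := inferInstanceAs (IsClosedImmersion f.imageι)
  haveI : Mono j := Over.mono_of_mono_left j
  haveI : IsSchemeTheoreticallyDominant f.toImage := ⟨H17.ker_toImage f⟩
  let φ : HK.left ⟶ H.left := f.toImage
  have hφj : φ ≫ j.left = i.left ≫ π := f.toImage_imageι
  have hsq : CommSq φ HK.hom H.hom g := ⟨by
    show f.toImage ≫ f.imageι ≫ G.hom = _
    rw [f.toImage_imageι_assoc, hfq]⟩
  let ψ : HK.left ⟶ pullback H.hom g := pullback.lift φ HK.hom hsq.w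
  let jK : pullback H.hom g ⟶ pullback G.hom g :=
    pullback.map H.hom g G.hom g j.left (𝟙 _) (𝟙 _) (by rw [Category.comp_id, Over.w j]) (by simp)
  have hψj : ψ ≫ jK = i.left := by
    apply pullback.hom_ext
    · rw [Category.assoc, pullback.lift_fst, pullback.lift_fst_assoc]; exact hφj
    · rw [Category.assoc, pullback.lift_snd, Category.comp_id, pullback.lift_snd]; exact (Over.w i).symm
  haveI : IsClosedImmersion jK := by
    haveI : IsPullback (pullback.fst H.hom g) jK j.left π := IsPullback.of_bot
      (by rw [show jK ≫ pullback.snd G.hom g = pullback.snd H.hom g by simp [jK], Over.w j]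
          exact IsPullback.of_hasPullback H.hom g)
      (by simp [jK, π]) (IsPullback.of_hasPullback G.hom g)
    exact MorphismProperty.of_isPullback (P := @IsClosedImmersion) this inferInstance
  haveI : IsClosedImmersion (ψ ≫ jK) := by rw [hψj]; infer_instance
  haveI : IsClosedImmersion ψ := .of_comp ψ jK
  haveI : QuasiCompact φ := inferInstanceAs (QuasiCompact f.toImage)
  haveI : Flat (pullback.fst H.hom g) := inferInstance
  haveI : IsSchemeTheoreticallyDominant ψ := by
    haveI : Mono (pullback.fst H.hom g) := inferInstance
    exact IsSchemeTheoreticallyDominant.of_isPullback (f := φ) (g := pullback.fst H.hom g)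
      (IsPullback.of_horiz_isIso_mono (fst := 𝟙 _) (snd := ψ) (f := φ) (g := pullback.fst H.hom g)
        ⟨by rw [Category.id_comp, pullback.lift_fst]⟩)
  haveI : IsIso ψ := IsClosedImmersion.isIso_iff_ker_eq_bot.2 (Scheme.Hom.ker_eq_bot ψ)
  let e : Red.bc g H ≅ HK := (Over.isoMk (asIso ψ) (pullback.lift_snd _ _ _) : HK ≅ Red.bc g H).symm
  have he : e.hom ≫ i = (Over.pullback g).map j := by
    rw [← e.eq_inv_comp]
    refine Over.OverMorphism.ext ?_
    show i.left = ψ ≫ pullback.lift _ _ _
    apply pullback.hom_ext
    · rw [Category.assoc, pullback.lift_fst, pullback.lift_fst_assoc]; exact hφj.symm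
    · rw [Category.assoc, pullback.lift_snd, pullback.lift_snd]; exact Over.w i
  have hfac : ∀ {T : Over (Spec (CommRingCat.of R))} (_ : Flat T.hom) (a : T ⟶ G)
      (b : Red.bc g T ⟶ HK), b ≫ i = (Over.pullback g).map a → ∃ c : T ⟶ H, c ≫ j = a := by
    intro T hT a b hb
    refine H28Neron.Closure.exists_factor j a (b.left ≫ φ) ?_
    rw [Category.assoc, hφj, ← Category.assoc, ← Over.comp_left, hb]
    exact pullback.lift_fst _ _ _
  haveI : Flat (H ⊗ H).hom := inferInstanceAs (Flat (pullback.fst H.hom H.hom ≫ H.hom))
  obtain ⟨inst, hinst⟩ := H28Neron.Closure.exists_grpObj j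
    (hfac (inferInstanceAs (Flat (𝟙 (Spec (CommRingCat.of R))))) η[G]
      1 (by
        rw [MonObj.one_comp, show η[G] = (1 : 𝟙_ (Over (Spec (CommRingCat.of R))) ⟶ G) by
          rw [Hom.one_def, toUnit_unique (toUnit (𝟙_ (Over (Spec (CommRingCat.of R))))) (𝟙 _), Category.id_comp]]
        exact (Functor.map_one _).symm))
    (hfac inferInstance _
      (((Over.pullback g).map (fst H H) ≫ e.hom) * ((Over.pullback g).map (snd H H) ≫ e.hom)) (by
        rw [mul_comp, Category.assoc, Category.assoc, he, Functor.map_mul, Functor.map_comp,
          Functor.map_comp]))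
    (hfac inferInstance _ (e.hom⁻¹) (by
        rw [GrpObj.inv_comp, he]
        exact (MonoidHom.map_inv (Functor.homMonoidHom (Over.pullback g) (X := H) (M := G)) j).symm))
  refine ⟨H, inst, j, φ, hinst, inferInstance, inferInstance, ?_, hφj, H17.ker_toImage f⟩
  exact IsPullback.of_iso (IsPullback.of_hasPullback H.hom g) (asIso ψ).symm (Iso.refl _) (Iso.refl _)
    (Iso.refl _) (by simp [ψ]) (by simp [ψ]) (by simp) (by simp [g])

end Groth.Agent.S19964
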