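import Groth.Statements.S19966
import Groth.Agent.H14KM.FLQuot
import Groth.Agent.H14KM.WNATop
import Groth.Agent.H14KM.WNASep2
import Groth.Agent.H14KM.WNABase

set_option autoImplicit false
set_option backward.isDefEq.respectTransparency false
set_option backward.isDefEq.respectTransparency.types false
universe u
open AlgSt

namespace Groth.Agent.S19966

open CategoryTheory AlgebraicGeometry in
/-- Let S be a scheme and 𝒳 an algebraic stack over S for the fppf topology whose diagonal over S is
quasi-compact and separated, and suppose there is a finite locally free surjective morphism (Sch/U)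
→ 𝒳 (representable, finite, flat, locally of finite presentation and surjective) from a scheme U
which is quasi-projective Zariski-locally over S. Then there are a scheme Y over S and a morphism π
from 𝒳 to (the stack of) Y which is a coarse moduli space: universal for morphisms to algebraic
spaces over S and bijective on isomorphism classes of objects over every algebraically closed field.
Moreover π is separated and a universal homeomorphism; for every algebraic space M' and every flat
M' → Y the base change of π to M' is again a coarse moduli space; if 𝒳 is separated over S then Y →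
S is separated; and if S is locally Noetherian and 𝒳 is locally of finite type over S then Y → S is
locally of finite type. (The source allows any finite locally free scheme cover in which every orbit
lies in an affine open of U, of which a cover quasi-projective Zariski-locally over S is the stated
instance, takes the diagonal condition absolutely, and also records that π is proper when 𝒳 is
locally of finite type; that clause is not restated.) -/
theorem result
    (S : Scheme.{u}) (𝒳 : AlgSt.Cat S) (h𝒳 : AlgSt.IsAlgStack Scheme.fppfPrecoverage 𝒳)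
    (hΔ : AlgSt.RepByAlgSpWith (AlgSp.IsSeparatedMor ⊓ AlgSp.IsQuasiCompactMor) (FibCat.diag (FibCat.toSelf 𝒳)))
    (U : Over S) (hU : RedSub.IsLocallyQuasiProjective U) (c : FibCat.overCat U ⥤ᵇ 𝒳)
    (hc : AlgSt.RepByAlgSpWith
      (AlgSp.IsFiniteMor ⊓ AlgSp.LocP (@Flat ⊓ @LocallyOfFinitePresentation) ⊓ AlgSp.IsSurjectiveMor) c) :
    ∃ (Y : Over S) (π : 𝒳 ⥤ᵇ AlgSt.ofSch Y),
      AlgSt.IsCoarseModuli π ∧ AlgSt.IsSeparatedMor π ∧ AlgSt.IsUnivHomeo Scheme.fppfPrecoverage π ∧
      (∀ (M' : AlgSp.Sp S), AlgSp.IsAlgSpace M' → ∀ g : M' ⟶ (AlgSp.yon S).obj Y, AlgSp.LocP @Flat g →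
        AlgSt.IsCoarseModuli (FibCat.fpFst (AlgSt.ofSpMap g) π)) ∧
      (AlgSt.IsSeparatedOver 𝒳 → IsSeparated Y.hom) ∧
      (IsLocallyNoetherian S → AlgSt.LocQ (AlgSp.LocP @LocallyOfFiniteType) (FibCat.toSelf 𝒳) →
        LocallyOfFiniteType Y.hom) := by
  have hx : AlgSt.RepByAlgSpWith (Groth.Agent.H14KM.FLF S) c :=
    Groth.Agent.H14AlgSt.repWith_mono (fun _ _ _ h => ⟨⟨⟨h.2,
      Groth.Agent.H12AlgSp.locP_mono (fun _ _ _ h => h.1) h.1.2⟩, h.1.1⟩,
      Groth.Agent.H12AlgSp.locP_mono (fun _ _ _ h => h.2) h.1.2⟩) hc
  obtain ⟨D⟩ := Groth.Agent.H14KM.exists_wnaData_of_orbits h𝒳 hx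
    fun E hE s hs => Groth.Agent.H14KM.exists_affine_of_finite hU hE s hs
  obtain ⟨hsep, hlft⟩ := Groth.Agent.H14KM.sep_lft_of_isLocallyQuasiProjective hU
  exact ⟨D.Y, D.π, D.isCoarseModuli, D.isSeparatedMor_π, D.isUnivHomeo,
    fun M' hM' g hg => D.isCoarseModuli_bc g hM' hg, fun _ => D.isSeparated_hom,
    fun _ _ => D.locallyOfFiniteType_hom⟩

end Groth.Agent.S19966
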