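import Groth.Statements.S19967
import Groth.Agent.H22Alg.FlatSurj
import Groth.Agent.H29Blow.PointsOfAffine
import Mathlib

set_option autoImplicit false
universe u
open CategoryTheory CategoryTheory.Limits AlgebraicGeometry
open FlatMor

namespace Groth.Agent.S19967

open TopologicalSpace CategoryTheory AlgebraicGeometry

theorem injective_congr {X Y : Scheme.{u}} {a b : X ⟶ Y} (e : a = b) (x : X)
    (h : Function.Injective (a.stalkMap x)) : Function.Injective (b.stalkMap x) := by
  subst e
  exact h

/-- A section of a torsion-free algebra over a domain vanishing at all primes over `0` vanishes. -/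
theorem eq_zero_of_primes {A B : Type u} [CommRing A] [IsDomain A] [CommRing B] [Algebra A B]
    [Module.Flat A B] (s : B)
    (h : ∀ q : Ideal B, q.IsPrime → q.comap (algebraMap A B) = ⊥ → ∃ t ∉ q, t * s = 0) : s = 0 := by
  by_cases hr : ∃ r : A, r ≠ 0 ∧ algebraMap A B r * s = 0
  · obtain ⟨r, hr, hrs⟩ := hr
    have hreg : IsSMulRegular B (algebraMap A B r) :=
      ((IsRegular.of_ne_zero hr).left.isSMulRegular (R := A)).of_flat
    exact hreg (show algebraMap A B r • s = algebraMap A B r • (0 : B) by
      rw [smul_eq_mul, hrs, smul_zero])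
  · push Not at hr
    obtain ⟨q, hq, hle, hdisj⟩ := Ideal.exists_le_prime_disjoint
      (LinearMap.ker (LinearMap.toSpanSingleton B B s))
      ((nonZeroDivisors A).map (algebraMap A B)) (Set.disjoint_left.2 fun b hb hb' => by
        obtain ⟨r, hr', rfl⟩ := hb'
        exact hr r (nonZeroDivisors.ne_zero hr') (by simpa using hb))
    obtain ⟨t, ht, hts⟩ := h q hq ((Submodule.eq_bot_iff _).2 fun r hr' => by
      by_contra hne
      exact Set.disjoint_left.1 hdisj hr' ⟨r, mem_nonZeroDivisors_of_ne_zero hne, rfl⟩)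
    exact absurd (hle (by simpa using hts)) ht

/-- Small affine neighbourhoods over affines of `C`. -/
theorem exists_small {C P : Scheme.{u}} {p : P ⟶ C} {U : P.affineOpens} (x : U.1) :
    ∃ V : P.Opens, V ≤ U.1 ∧ x.1 ∈ V ∧ IsAffineOpen V ∧
      ∃ W : C.Opens, IsAffineOpen W ∧ V ≤ p ⁻¹ᵁ W := by
  obtain ⟨_, ⟨W, hW, rfl⟩, hxW, -⟩ :=
    C.isBasis_affineOpens.exists_subset_of_mem_open (Set.mem_univ (p x.1)) isOpen_univ
  obtain ⟨_, ⟨V, hV, rfl⟩, hxV, hle⟩ := P.isBasis_affineOpens.exists_subset_of_mem_open
    (show x.1 ∈ (U.1 ⊓ p ⁻¹ᵁ W : P.Opens) from ⟨x.2, hxW⟩) (U.1 ⊓ p ⁻¹ᵁ W).isOpen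
  exact ⟨V, fun y hy => (hle hy).1, hxV, hV, W, hW, fun y hy => (hle hy).2⟩


/-- Let f : S' → S be a flat morphism of locally Noetherian schemes, i : C → S and i' : C' → S' closed
immersions with C and C' integral, and g : C' → C with g ≫ i = i' ≫ f. Let φ : C' → C ×_S S' be the
induced morphism and η ∈ S the image of the generic point of C. If φ becomes an isomorphism after
base change along the canonical morphism Spec O_{S,η} → S (that is, after pulling back to (C ×_S S')
×_S Spec O_{S,η}), then φ is an isomorphism. (In the source S and S' are excellent surfaces over an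
algebraically closed field, C and C' regular curves not inside the singular loci, and the
isomorphism over Spec O_{S,η} is part of the definition of a morphism of surface-curve pairs; those
extra hypotheses play no part.) -/
theorem result
    {S S' C C' : Scheme.{u}} [IsLocallyNoetherian S] [IsLocallyNoetherian S']
    (f : S' ⟶ S) [Flat f] (i : C ⟶ S) [IsClosedImmersion i] [IsIntegral C]
    (i' : C' ⟶ S') [IsClosedImmersion i'] [IsIntegral C']
    (g : C' ⟶ C) (hsq : g ≫ i = i' ≫ f)
    (hgen : IsIso (pullback.snd (pullback.lift g i' hsq)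
      (pullback.fst (pullback.fst i f ≫ i) (S.fromSpecStalk (i.base (genericPoint C)))))) :
    IsIso (pullback.lift g i' hsq) := by
  set φ := pullback.lift g i' hsq with hφ
  haveI : Flat (pullback.fst i f) := inferInstance
  haveI : IsClosedImmersion φ := by
    have : IsClosedImmersion (φ ≫ pullback.snd i f) := by rw [hφ, pullback.lift_snd]; infer_instance
    exact IsClosedImmersion.of_comp φ (pullback.snd i f)
  set p := pullback.fst i f
  set η := genericPoint C
  haveI := H22Alg.flat_fromSpecStalk S (i.base η)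
  set q := pullback.fst (p ≫ i) (S.fromSpecStalk (i.base η))
  -- above the generic point `φ` is surjective and injective on stalks
  have hgenPt : ∀ z, p z = η → ∃ z', φ z' = z ∧ Function.Injective (φ.stalkMap z') := by
    intro z hz
    obtain ⟨w, hw⟩ : z ∈ Set.range q := by
      rw [Scheme.Pullback.range_fst]
      show (p ≫ i) z ∈ Set.range (S.fromSpecStalk (i.base η))
      rw [Scheme.range_fromSpecStalk, Scheme.Hom.comp_apply, hz]
      exact specializes_rfl
    obtain ⟨w', rfl⟩ : ∃ w', pullback.snd φ q w' = w :=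
      (asIso (pullback.snd φ q)).schemeIsoToHomeo.surjective w
    refine ⟨pullback.fst φ q w', ?_, ?_⟩
    · exact (congr($(pullback.condition (f := φ) (g := q)) w')).trans hw
    haveI : Flat q := inferInstance
    have h2 := H22Alg.stalkMap_injective_of_flat (pullback.snd φ q ≫ q) w'
    intro a b hab
    have h3 := injective_congr (pullback.condition (f := φ) (g := q)).symm w' h2
    rw [Scheme.Hom.stalkMap_comp] at h3
    exact h3 (congrArg ((pullback.fst φ q).stalkMap w').hom hab)
  rw [IsClosedImmersion.isIso_iff_ker_eq_bot, Scheme.IdealSheafData.ext_iff]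
  funext U
  rw [Scheme.Hom.ker_apply, Scheme.IdealSheafData.ideal_bot, Pi.bot_apply, eq_bot_iff]
  intro s (hs : φ.app U.1 s = 0)
  show s = 0
  choose V hle hxV hV W hW hVW using fun x : U.1 => exists_small (p := p) x
  refine (pullback i f).sheaf.eq_of_locally_eq' V U.1 (fun x => homOfLE (hle x))
    (fun x hx => Opens.mem_iSup.2 ⟨⟨x, hx⟩, hxV _⟩) s 0 fun x => ?_
  rw [map_zero]
  change (pullback i f).presheaf.map (homOfLE (hle x)).op s = 0
  haveI : Nonempty (W x) := ⟨⟨p x.1, (hVW x) (hxV x)⟩⟩
  letI := (p.appLE (W x) (V x) (hVW x)).hom.toAlgebra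
  haveI : Module.Flat Γ(C, (W x)) Γ(pullback i f, (V x)) := Flat.flat_appLE p (hW x) (hV x) (hVW x)
  refine eq_zero_of_primes (A := Γ(C, (W x))) _ fun 𝔮 h𝔮 hbot => ?_
  obtain ⟨z, hz⟩ := H29Blow.exists_primeIdealOf_eq (hV x) (⟨𝔮, h𝔮⟩ : PrimeSpectrum Γ(pullback i f, (V x)))
  have hzη : p z.1 = η := by
    have hmem : η ∈ W x := ((genericPoint_spec C).mem_open_set_iff (W x).isOpen).mpr
      ⟨p x.1, trivial, hVW x (hxV x)⟩
    have e := IsAffineOpen.comap_primeIdealOf_appLE (f := p) (W x) (hW x) (V x) (hV x) (hVW x) z.2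
    have e2 : (hW x).primeIdealOf ⟨p z.1, hVW x z.2⟩ = (hW x).primeIdealOf ⟨η, hmem⟩ := by
      apply PrimeSpectrum.ext
      rw [← e, (hW x).primeIdealOf_genericPoint, genericPoint_eq_bot_of_affine]
      refine (congrArg (Ideal.comap _) ?_).trans hbot
      exact congrArg PrimeSpectrum.asIdeal hz
    exact (((hW x).fromSpec_primeIdealOf _).symm.trans (congrArg _ e2)).trans ((hW x).fromSpec_primeIdealOf _)
  obtain ⟨z', hz', hinj⟩ := hgenPt z.1 hzη
  letI := TopCat.Presheaf.algebra_section_stalk (pullback i f).presheaf z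
  haveI := (hV x).isLocalization_stalk z
  have h0 : (pullback i f).presheaf.germ (V x) z.1 z.2 ((pullback i f).presheaf.map (homOfLE (hle x)).op s) =
      (pullback i f).presheaf.germ (V x) z.1 z.2 0 := by
    rw [TopCat.Presheaf.germ_res_apply, map_zero]
    have hzU : φ z' ∈ U.1 := hz' ▸ (hle x) z.2
    have h1 : (pullback i f).presheaf.germ U.1 (φ z') hzU s = 0 := hinj (by
      rw [Scheme.Hom.germ_stalkMap_apply, hs, map_zero, map_zero])
    obtain ⟨z, hzV⟩ := z
    simp only at hz' ⊢
    subst hz'
    exact h1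
  obtain ⟨t, ht⟩ := (IsLocalization.eq_iff_exists ((hV x).primeIdealOf z).asIdeal.primeCompl
    ((pullback i f).presheaf.stalk z.1)).1 h0
  refine ⟨t, ?_, by simpa using ht⟩
  exact fun ht' => t.2 ((SetLike.ext_iff.1 (congrArg PrimeSpectrum.asIdeal hz) _).2 ht')

end Groth.Agent.S19967
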