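import Groth.Statements.S19968
import Groth.Agent.H26Base.Loci

set_option autoImplicit false
universe u
open CategoryTheory AlgebraicGeometry Opposite
open LinSer

namespace Groth.Agent.S19968

open CategoryTheory AlgebraicGeometry TopologicalSpace Opposite Groth.Agent.H11Tilde Groth.Agent.H11Ample

/-- Evaluation of sections at a rational point. -/
theorem exists_eval {k : Type u} [Field k] {X : Scheme.{u}} [X.Over (Spec (CommRingCat.of k))] {L : X.Modules}
    (hL : PicF.IsInvertible L) (p : Spec (CommRingCat.of k) ⟶ X) (hp : p ≫ (X ↘ Spec (CommRingCat.of k)) = 𝟙 _) :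
    ∃ ev : Γ(L, ⊤) →+ k, (∀ (a : k) (g : Γ(L, ⊤)),
        ev ((show Γ(X, ⊤) from Coh.toGlobal (X ↘ Spec (CommRingCat.of k)) a) • g) = a * ev g) ∧
      ∀ g, p (IsLocalRing.closedPoint k) ∈ gen L g → ev g ≠ 0 := by
  obtain ⟨V, e, hxV, he⟩ := exists_gen hL (p (IsLocalRing.closedPoint k))
  have hle : (⊤ : (Spec (CommRingCat.of k)).Opens) ≤ p ⁻¹ᵁ V := fun y _ => by
    show p y ∈ V
    rwa [Subsingleton.elim y (IsLocalRing.closedPoint k)]
  let π : Γ(X, V) →+* k := (Scheme.ΓSpecIso (CommRingCat.of k)).hom.hom.comp (p.appLE V ⊤ hle).hom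
  choose c hc using fun g : Γ(L, ⊤) => exists_coeff he (L.presheaf.map (homOfLE le_top).op g)
  have uniq : ∀ {a b : Γ(X, V)}, a • e = b • e → a = b := fun {a b} h =>
    (he.bijective le_rfl).1 (by beta_reduce; rw [H10Coh.mres_self]; exact h)
  refine ⟨AddMonoidHom.mk' (fun g => π (c g)) fun a b => ?_, fun a g => ?_, fun g hg => ?_⟩
  · have : c (a + b) = c a + c b := uniq (by rw [← hc, add_smul, ← hc, ← hc, map_add])
    simp only [this, map_add]
  · obtain ⟨τ, hτ⟩ : ∃ τ : Γ(X, ⊤), τ = (show Γ(X, ⊤) from Coh.toGlobal (X ↘ Spec (CommRingCat.of k)) a) := ⟨_, rfl⟩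
    rw [← hτ]
    have h1 : c (τ • g) = X.presheaf.map (homOfLE (le_top : V ≤ ⊤)).op τ * c g :=
      uniq (by rw [← hc, Scheme.Modules.map_smul, hc, smul_smul])
    show π (c (τ • g)) = a * π (c g)
    rw [h1, map_mul]
    congr 1
    show (Scheme.ΓSpecIso (CommRingCat.of k)).hom ((p.appLE V ⊤ hle) (X.presheaf.map _ τ)) = a
    rw [← ConcreteCategory.comp_apply (X.presheaf.map _), Scheme.Hom.map_appLE, hτ]
    show (Scheme.ΓSpecIso (CommRingCat.of k)).hom
      ((((Scheme.ΓSpecIso (CommRingCat.of k)).inv ≫ (X ↘ Spec (CommRingCat.of k)).appTop) ≫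
        p.appLE ⊤ ⊤ le_top) a) = a
    rw [show p.appLE ⊤ ⊤ le_top = p.appTop by simp [Scheme.Hom.appLE], Category.assoc,
      ← Scheme.Hom.comp_appTop, hp, Scheme.Hom.id_appTop, Category.comp_id, ← ConcreteCategory.comp_apply,
      Iso.inv_hom_id]
    rfl
  · have hb : p (IsLocalRing.closedPoint k) ∈ X.basicOpen (c g) :=
      (gen_inf_eq_basicOpen he g (c g) (hc g)).le ⟨hg, hxV⟩
    intro h0
    have h1 : p.appLE V ⊤ hle (c g) = 0 := by
      apply (ConcreteCategory.bijective_of_isIso (Scheme.ΓSpecIso (CommRingCat.of k)).hom).1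
      rw [map_zero]; exact h0
    have h2 : IsLocalRing.closedPoint k ∈ (Spec (CommRingCat.of k)).basicOpen (p.appLE V ⊤ hle (c g)) := by
      rw [Scheme.basicOpen_appLE]
      exact ⟨trivial, hb⟩
    rw [h1, Scheme.basicOpen_zero] at h2
    exact h2

/-- Rational points impose at most one condition each on a complete linear system. Let k be a field, X a
scheme over k, L an invertible O_X-module, and p_1, …, p_n morphisms Spec k → X over k (k-rational
points). Suppose there are n + 1 global sections of L, given as morphisms t_0, …, t_n : O_X → L,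
whose values in Γ(X, L) are linearly independent over k. Then there is a nonzero morphism s : O_X →
L such that no p_i lands in the open X_s where s generates L; that is, s vanishes at every p_i and
the p_i lie on a common member of the complete linear system of L. (The source has X an irreducible
projective variety over the complex numbers, L base-point-free and the points closed, and phrases
this as surjectivity of the incidence correspondence onto X^n for n at most the dimension of the
linear system; only rationality of the points and the dimension count are used, and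
base-point-freeness plays no part in this item.) -/
theorem result
    (k : Type u) [Field k] (X : Scheme.{u}) [X.Over (Spec (CommRingCat.of k))]
    (L : X.Modules) (hL : PicF.IsInvertible L)
    (n : ℕ) (p : Fin n → (Spec (CommRingCat.of k) ⟶ X))
    (hp : ∀ i, p i ≫ (X ↘ Spec (CommRingCat.of k)) = 𝟙 _)
    (t : Fin (n + 1) → (Coh.structureModule X ⟶ L))
    (ht : LinSer.LinIndep k X L (fun j => (L.unitHomEquiv (t j)).val (op ⊤))) :
    ∃ s : Coh.structureModule X ⟶ L, s ≠ 0 ∧
      ∀ i, (p i) (IsLocalRing.closedPoint k) ∉ CohB1.genLocus L s := by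
  classical
  choose ev hlin hne using fun i => exists_eval hL (p i) (hp i)
  let v : Fin (n + 1) → Γ(L, ⊤) := fun j => SecTwist.val (t j) ⊤
  let T : (Fin (n + 1) → k) →ₗ[k] (Fin n → k) :=
    LinearMap.pi fun i => Fintype.linearCombination k fun j => ev i (v j)
  have hT : LinearMap.ker T ≠ ⊥ := LinearMap.ker_ne_bot_of_finrank_lt (by simp)
  obtain ⟨c, hc, hc0⟩ := Submodule.exists_mem_ne_zero_of_ne_bot hT
  obtain ⟨g, hg⟩ : ∃ g : Γ(L, ⊤), g = ∑ j, (show Γ(X, ⊤) from Coh.toGlobal (X ↘ Spec (CommRingCat.of k)) (c j)) • v j :=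
    ⟨_, rfl⟩
  have hgne : g ≠ 0 := fun h => hc0 (ht c (hg.symm.trans h))
  refine ⟨homOfGlobal L g, fun h => hgne ?_, fun i hi => hne i g hi ?_⟩
  · have h2 := val_homOfGlobal g
    rw [h] at h2
    rw [← h2]
    rfl
  · have := congrFun (LinearMap.mem_ker.1 hc) i
    simp only [T, LinearMap.pi_apply, Fintype.linearCombination_apply, smul_eq_mul, Pi.zero_apply] at this
    rw [hg, map_sum, ← this]
    exact Finset.sum_congr rfl fun j _ => hlin i _ _

end Groth.Agent.S19968
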