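import Groth.Statements.S1997
import Mathlib.Algebra.Category.Ring.Epi
import Mathlib.Algebra.Algebra.Epi
import Mathlib.RingTheory.Flat.Basic
import Mathlib.RingTheory.IntegralClosure.IntegrallyClosed
import Mathlib.RingTheory.IntegralClosure.IsIntegralClosure.Basic
import Mathlib.RingTheory.Flat.Stability
import Mathlib.RingTheory.Flat.Tensor
-- import your own Groth.Agent.* helpers here

set_option autoImplicit false
universe u
open CategoryTheory
open EtAlg

namespace Groth.Agent.S1997

open TensorProduct

/-- Let A be a ring all of whose ideals are flat (weak dimension at most one) and A -> B a flat,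
injective ring map which is an epimorphism in the category of commutative rings. Then A is
integrally closed in B. -/
theorem result (A B : Type u) [CommRing A] [CommRing B] [Algebra A B]
    (hA : ∀ I : Ideal A, Module.Flat A I) [Module.Flat A B] (hinj : Function.Injective (algebraMap A B))
    (hepi : Epi (CommRingCat.ofHom (algebraMap A B))) : IsIntegrallyClosedIn A B := by
  haveI : Algebra.IsEpi A B := CommRingCat.epi_iff_epi.mp hepi
  rw [isIntegrallyClosedIn_iff]
  refine ⟨hinj, fun {x} hx => ?_⟩
  let S := Algebra.adjoin A {x}
  haveI : Module.Finite A S := Algebra.finite_adjoin_simple_of_isIntegral hx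
  haveI : Module.Flat A S := Module.Flat.iff_lTensor_injective'.mpr fun I => by
    haveI := hA I
    have h1 : Function.Injective (TensorProduct.map (LinearMap.id : S →ₗ[A] S) I.subtype) := by
      refine Function.Injective.of_comp (f := LinearMap.rTensor A S.val.toLinearMap) ?_
      rw [← LinearMap.coe_comp, show LinearMap.rTensor A S.val.toLinearMap ∘ₗ TensorProduct.map LinearMap.id I.subtype =
        LinearMap.lTensor B I.subtype ∘ₗ LinearMap.rTensor I S.val.toLinearMap from TensorProduct.ext' fun s i => rfl]
      exact (Module.Flat.lTensor_preserves_injective_linearMap I.subtype Subtype.val_injective).comp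
        (Module.Flat.rTensor_preserves_injective_linearMap S.val.toLinearMap Subtype.val_injective)
    exact h1
  haveI : Algebra.IsEpi A S := by
    refine ⟨?_⟩
    have h1 : Function.Injective (TensorProduct.map S.val.toLinearMap S.val.toLinearMap) := by
      rw [show TensorProduct.map S.val.toLinearMap S.val.toLinearMap =
        LinearMap.rTensor B S.val.toLinearMap ∘ₗ LinearMap.lTensor S S.val.toLinearMap from TensorProduct.ext' fun s t => rfl]
      exact (Module.Flat.rTensor_preserves_injective_linearMap S.val.toLinearMap Subtype.val_injective).comp
        (Module.Flat.lTensor_preserves_injective_linearMap S.val.toLinearMap Subtype.val_injective)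
    intro u v huv
    refine h1 (Algebra.IsEpi.injective_lift_mul ?_)
    have key : ∀ w, Algebra.TensorProduct.lmul' A (TensorProduct.map S.val.toLinearMap S.val.toLinearMap w) =
        S.val (Algebra.TensorProduct.lmul' A w) := fun w => by
      induction w with
      | zero => simp
      | tmul a b => simp
      | add a b ha hb => simp only [map_add, ha, hb]
    exact (key u).trans ((congrArg S.val huv).trans (key v).symm)
  obtain ⟨a, ha⟩ := ((Algebra.isEpi_iff_surjective_algebraMap_of_finite (R := A) (A := S)).mp inferInstance)
    (⟨x, Algebra.subset_adjoin rfl⟩ : S)
  exact ⟨a, congrArg Subtype.val ha⟩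

end Groth.Agent.S1997
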