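import Groth.Statements.S19972
import Groth.Agent.H14QCoh.CompAff
import Groth.Agent.H14QCoh.ToBase
import Groth.Agent.H14AlgSt.PointsSpace
import Groth.Agent.H14AlgSt.PointsMor
import Groth.Agent.H14AlgSt.QC
import Groth.Agent.H12AlgSp.QC
import Groth.Agent.H12AlgSp.Basic

set_option autoImplicit false
set_option backward.isDefEq.respectTransparency false
set_option backward.isDefEq.respectTransparency.types false
universe u
open CategoryTheory AlgebraicGeometry
open StMod

namespace Groth.Agent.S19972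

/-- Let `S` be an affine scheme and `𝒳` a locally Noetherian algebraic stack over `(Sch/S)` for the fppf
topology which is cohomologically affine over `S`: its structure functor `τ : 𝒳 ⟶ (Sch/S)` is
quasi-compact, quasi-separated and pushforward along it takes surjections of quasi-coherent modules
to maps surjective on sections over every affine scheme etale over `S`. Let `ξ` be a point of `|𝒳|`
and `𝒢 ⊆ 𝒳` the residual gerbe at `ξ` (the strictly full substack cut out by `Q`: algebraic,
reduced, locally Noetherian, with a single point, mapping to `ξ`), and suppose the inclusion `𝒢 ⟶ 𝒳`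
is affine (representable by algebraic spaces with affine base changes). Then `ξ` has linearly
reductive stabilizer, rendered as: the structure functor `σ : 𝒢 ⟶ (Sch/S)` over the affine base is
cohomologically affine and quasi-compact. (The base is taken affine so that cohomological affineness
of `𝒳` and of `𝒢` can be expressed over it; standing conventions of the source: quasi-separated
schemes and spaces, stacks with quasi-compact separated diagonal.) -/
theorem result
    (S : Scheme.{u}) [IsAffine S]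
    (𝒳 : AlgSt.Cat S) (h𝒳 : AlgSt.IsAlgStack Scheme.fppfPrecoverage 𝒳)
    (hN : AlgSt.SmoothLocally (fun T => IsLocallyNoetherian T) 𝒳)
    (τ : 𝒳 ⥤ᵇ AlgSt.ofSch (Over.mk (𝟙 S)))
    (hτqc : AlgSt.IsQuasiCompactMor Scheme.fppfPrecoverage τ) (hτqs : AlgSt.IsQuasiSeparatedMor τ)
    (hτ : StMod.IsCohAffine τ)
    (ξ : AlgSt.Points 𝒳) (Q : 𝒳.obj → Prop) (hQ : Gerb.IsResGerbe Scheme.fppfPrecoverage 𝒳 ξ Q)
    (hι : AlgSt.RepByAlgSpWith AlgSp.IsAffineMor (AlgSt.subIncl 𝒳 Q))
    (σ : AlgSt.fullSub 𝒳 Q ⥤ᵇ AlgSt.ofSch (Over.mk (𝟙 S))) :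
    StMod.IsCohAffine σ ∧ AlgSt.IsQuasiCompactMor Scheme.fppfPrecoverage σ := by
  have hG : AlgSt.IsAlgStack Scheme.fppfPrecoverage (AlgSt.fullSub 𝒳 Q) := hQ.2.1
  have hS : AlgSt.IsAlgStack Scheme.fppfPrecoverage (AlgSt.ofSch (Over.mk (𝟙 S))) :=
    Groth.Agent.H14AlgSt.isAlgStack_ofSp ⟨(AlgSp.yon S).obj (Over.mk (𝟙 S)), AlgSp.IsAlgSpace.yon_obj _⟩
  rw [Groth.Agent.H14QCoh.toBase_unique σ (BasedFunctor.comp (AlgSt.subIncl 𝒳 Q) τ)]
  refine ⟨Groth.Agent.H14QCoh.isCohAffine_comp_affine τ hι hG.isStack.1 h𝒳.isStack.1 hτ,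
    Groth.Agent.H14AlgSt.isQCMor_comp hG h𝒳 hS ?_ hτqc⟩
  refine Groth.Agent.H14AlgSt.isQCMor_of_repWith hG h𝒳 (Groth.Agent.H14AlgSt.repWith_mono (fun a hF hG' ha => ?_) hι)
  exact Groth.Agent.H12AlgSp.isQuasiCompactMor_of_repWith hF hG'
    (Groth.Agent.H12AlgSp.repWith_le (fun _ _ i (_ : IsAffineHom i) => (inferInstance : QuasiCompact i))
      (Groth.Agent.H13AlgSp.isAffineMor_iff.1 ha))

end Groth.Agent.S19972
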