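import Groth.Statements.S19974
import Mathlib.Algebra.TrivSqZeroExt.Basic
import Mathlib.Tactic

set_option autoImplicit false
set_option linter.style.haveILetI false
universe u v w x
open scoped BigOperators
open DefMod

namespace Groth.Agent.S19974

/-- Let K be a field of characteristic 0, O a commutative K-algebra with a K-linear derivation δ, and D
the ring of differential operators O[∂], presented abstractly as a K-algebra D with an algebra map ι
: O → D and an element ∂ of D such that ∂ ι(f) = ι(f) ∂ + ι(δ f) for every f in O and such that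
every element of D is in a unique way a finite sum of terms ι(f_i) ∂^i. Let E be a left D-module,
given as a K-vector space with a K-algebra map ρ : D → End_K(E), which is finite free as an
O-module. A K-derivation of D with values in the D-bimodule End_K(E) is a K-linear map s with s(PQ)
= s(P) ρ(Q) + ρ(P) s(Q); a K-derivation of O with values in End_K(E) is a K-linear map r with r(fg)
= r(f) ρ(ι g) + ρ(ι f) r(g). Then: (a) for every K-derivation s of D into End_K(E), the pair (r, v)
= (s ∘ ι, s(∂)) satisfies the identity [r(f), ρ(∂)] + [ρ(ι f), v] + r(δ f) = 0 for all f in O; (b)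
conversely, for every K-derivation r of O into End_K(E) and every v in End_K(E) satisfying that
identity for all f, there is exactly one K-derivation s of D into End_K(E) with s ∘ ι = r and s(∂) =
v. In other words s ↦ (s ∘ ι, s(∂)) maps the K-derivations of D injectively onto the pairs
satisfying the identity. -/
theorem result
    (K : Type u) [Field K] [CharZero K]
    (O : Type v) [CommRing O] [Algebra K O] (δ : Derivation K O O)
    (D : Type w) [Ring D] [Algebra K D] (ι : O →ₐ[K] D) (d : D)
    (hd : ∀ f : O, d * ι f = ι f * d + ι (δ f))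
    (hbasis : Function.Bijective (fun c : ℕ →₀ O => c.sum (fun i f => ι f * d ^ i)))
    (E : Type x) [AddCommGroup E] [Module K E] (ρ : D →ₐ[K] Module.End K E)
    (hE : ∃ (n : ℕ) (b : Fin n → E), Function.Bijective (fun c : Fin n → O => ∑ i, ρ (ι (c i)) (b i))) :
    (∀ s : D →ₗ[K] Module.End K E, (∀ P Q : D, s (P * Q) = s P * ρ Q + ρ P * s Q) →
      ∀ f : O, (s (ι f) * ρ d - ρ d * s (ι f)) + (ρ (ι f) * s d - s d * ρ (ι f)) + s (ι (δ f)) = 0) ∧
    ∀ (r : O →ₗ[K] Module.End K E) (v : Module.End K E),
      (∀ f g : O, r (f * g) = r f * ρ (ι g) + ρ (ι f) * r g) →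
      (∀ f : O, (r f * ρ d - ρ d * r f) + (ρ (ι f) * v - v * ρ (ι f)) + r (δ f) = 0) →
      ∃! s : D →ₗ[K] Module.End K E,
        (∀ P Q : D, s (P * Q) = s P * ρ Q + ρ P * s Q) ∧ s ∘ₗ ι.toLinearMap = r ∧ s d = v := by
    classical
    refine ⟨fun s hs f => ?_, fun r v hr hrv => ?_⟩
    · have h1 := congrArg s (hd f)
      rw [map_add, hs, hs] at h1
      have h2 : s d * ρ (ι f) + ρ d * s (ι f) - (s (ι f) * ρ d + ρ (ι f) * s d) - s (ι (δ f)) = 0 := by
        rw [h1]; abel
      calc _ = -(s d * ρ (ι f) + ρ d * s (ι f) - (s (ι f) * ρ d + ρ (ι f) * s d) - s (ι (δ f))) := by abel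
        _ = 0 := by rw [h2, neg_zero]
    · let S := TrivSqZeroExt (Module.End K E) (Module.End K E)
      have r_one : r 1 = 0 := by
        have := hr 1 1
        simp only [mul_one, map_one, one_mul] at this
        exact add_eq_left.mp this.symm
      let Φ : O →ₗ[K] S :=
        { toFun := fun f => (ρ (ι f), r f)
          map_add' := fun f g => by ext1 <;> simp [map_add] <;> rfl
          map_smul' := fun c f => by ext1 <;> simp [map_smul] <;> rfl }
      have hΦ : ∀ f g, Φ (f * g) = Φ f * Φ g := fun f g =>
        TrivSqZeroExt.ext (by change ρ (ι (f * g)) = ρ (ι f) * ρ (ι g); rw [map_mul, map_mul])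
          (by change r (f * g) = ρ (ι f) • r g + MulOpposite.op (ρ (ι g)) • r f
              rw [hr f g, smul_eq_mul, op_smul_eq_mul, add_comm])
      have hΦ1 : Φ 1 = 1 := TrivSqZeroExt.ext (by change ρ (ι 1) = 1; rw [map_one, map_one]) r_one
      let x : S := (ρ d, v)
      have hx : ∀ f, x * Φ f = Φ f * x + Φ (δ f) := fun f =>
        TrivSqZeroExt.ext (by change ρ d * ρ (ι f) = ρ (ι f) * ρ d + ρ (ι (δ f)); rw [← map_mul, hd f, map_add, map_mul])
          (by
            change ρ d • r f + MulOpposite.op (ρ (ι f)) • v =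
              (ρ (ι f) • v + MulOpposite.op (ρ d) • r f) + r (δ f)
            simp only [smul_eq_mul, op_smul_eq_mul]
            have h2 := hrv f
            rw [← sub_eq_zero, ← neg_eq_zero]
            calc _ = (r f * ρ d - ρ d * r f) + (ρ (ι f) * v - v * ρ (ι f)) + r (δ f) := by abel
              _ = 0 := h2)
      let ev : (ℕ →₀ O) →ₗ[K] D := Finsupp.lsum K fun i => (LinearMap.mulRight K (d ^ i)) ∘ₗ ι.toLinearMap
      have hev : Function.Bijective ev := by
        have he : (ev : (ℕ →₀ O) → D) = fun c => c.sum fun i f => ι f * d ^ i :=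
          funext fun c => by simp [ev, Finsupp.lsum_apply, Finsupp.sum]
        rw [he]; exact hbasis
      let e := LinearEquiv.ofBijective ev hev
      let φ : D →ₗ[K] S := (Finsupp.lsum K fun i => (LinearMap.mulRight K (x ^ i)) ∘ₗ Φ) ∘ₗ e.symm.toLinearMap
      have hev1 : ∀ f i, e.symm (ι f * d ^ i) = Finsupp.single i f := fun f i => by
        rw [LinearEquiv.symm_apply_eq]
        simp [e, ev]
      have hφ : ∀ f i, φ (ι f * d ^ i) = Φ f * x ^ i := fun f i => by
        simp only [φ, LinearMap.comp_apply, LinearEquiv.coe_coe, hev1]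
        simp
      have hgen : ∀ {p : D → Prop}, (∀ f i, p (ι f * d ^ i)) → (∀ a b, p a → p b → p (a + b)) → p 0 → ∀ P, p P := by
        intro p h1 h2 h0 P
        obtain ⟨c, rfl⟩ := hev.2 P
        induction c using Finsupp.induction_linear with
        | zero => rwa [map_zero]
        | add a b ha hb => rw [map_add]; exact h2 _ _ ha hb
        | single i f => simpa [ev] using h1 f i
      have hφι : ∀ g Q, φ (ι g * Q) = Φ g * φ Q := fun g => hgen
        (fun f i => by rw [← mul_assoc, ← map_mul, hφ, hφ, hΦ, mul_assoc])
        (fun a b ha hb => by rw [mul_add, map_add, ha, hb, map_add, mul_add]) (by simp)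
      have hφd : ∀ Q, φ (d * Q) = x * φ Q := hgen
        (fun f i => by
          rw [← mul_assoc, hd, add_mul, mul_assoc, ← pow_succ', map_add, hφ, hφ, hφ, ← mul_assoc x, hx,
            add_mul, mul_assoc, ← pow_succ'])
        (fun a b ha hb => by rw [mul_add, map_add, ha, hb, map_add, mul_add]) (by simp)
      have hφdi : ∀ (i : ℕ) Q, φ (d ^ i * Q) = x ^ i * φ Q := fun i => by
        induction i with
        | zero => simp
        | succ i ih => intro Q; rw [pow_succ', mul_assoc, hφd, ih, pow_succ', mul_assoc]
      have hφmul : ∀ P Q, φ (P * Q) = φ P * φ Q := fun P Q => by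
        revert P
        exact hgen (fun f i => by rw [mul_assoc, hφι, hφdi, hφ, mul_assoc])
          (fun a b ha hb => by rw [add_mul, map_add, ha, hb, map_add, add_mul]) (by simp)
      have hφ0 : φ 1 = 1 := by simpa [hΦ1] using hφ 1 0
      have hfst : ∀ P, (φ P).fst = ρ P := hgen
        (fun f i => by
          rw [hφ, map_mul, TrivSqZeroExt.fst_mul, map_pow, TrivSqZeroExt.fst_pow]; rfl)
        (fun a b ha hb => by rw [map_add, TrivSqZeroExt.fst_add, ha, hb, map_add]) (by simp)
      refine ⟨(TrivSqZeroExt.sndHom (Module.End K E) (Module.End K E)).restrictScalars K ∘ₗ φ, ⟨fun P Q => ?_, ?_, ?_⟩, fun s ⟨hs, hsι, hsd⟩ => ?_⟩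
      · change (φ (P * Q)).snd = (φ P).snd * ρ Q + ρ P * (φ Q).snd
        rw [hφmul, TrivSqZeroExt.snd_mul, hfst, hfst, smul_eq_mul, op_smul_eq_mul, add_comm]
      · refine LinearMap.ext fun f => ?_
        change (φ (ι f)).snd = r f
        rw [← mul_one (ι f), ← pow_zero d, hφ, pow_zero, mul_one]
        rfl
      · change (φ d).snd = v
        have := hφd 1
        rw [mul_one, hφ0, mul_one] at this
        rw [this]; rfl
      · have hs1 : s 1 = 0 := by
          have := hs 1 1
          simp only [mul_one, map_one, one_mul] at this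
          exact add_eq_left.mp this.symm
        have hpow : ∀ i : ℕ, s (d ^ i) = (φ (d ^ i)).snd := fun i => by
          induction i with
          | zero => simp [hs1, hφ0]
          | succ i ih =>
            have hd' : φ d = x := by simpa [hφ0] using hφd 1
            rw [pow_succ, hs, hφmul, TrivSqZeroExt.snd_mul, hfst, hfst, smul_eq_mul, op_smul_eq_mul, ← ih, hsd, add_comm, hd']
            rfl
        refine LinearMap.ext (hgen (fun f i => ?_) (fun a b ha hb => by rw [map_add, map_add, ha, hb]) (by simp))
        change s (ι f * d ^ i) = (φ (ι f * d ^ i)).snd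
        rw [hs, hφmul, TrivSqZeroExt.snd_mul, hfst, hfst, smul_eq_mul, op_smul_eq_mul, ← hpow, add_comm,
          show s (ι f) = r f from LinearMap.congr_fun hsι f]
        congr 2
        rw [← mul_one (ι f), ← pow_zero d, hφ, pow_zero, mul_one]
        rfl

end Groth.Agent.S19974
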