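import Groth.Statements.S19986
import Groth.Agent.H13CI.DepthAlong.Main

set_option autoImplicit false
universe u
open CategoryTheory CategoryTheory.Limits AlgebraicGeometry TopologicalSpace Topology
open CInt

namespace Groth.Agent.S19986

/-- Let f : X ⟶ S be locally of finite presentation, Y a closed subset of X which is locally
constructible in X, and F a finitely presented quasi-coherent O_X-module flat over S. Then the
function on Y sending y to the depth of the fibre module F_{f(y)} along Y ∩ X_{f(y)} at y (with
values in ℕ ∪ {∞}) is locally constructible on the topological space Y: every point of Y has an open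
neighbourhood V in Y on which the function takes only finitely many values and on which every level
set is a constructible subset of V (a member of the Boolean algebra generated by the retrocompact
open subsets of V). -/
theorem result {X S : Scheme.{u}} (f : X ⟶ S)
    [LocallyOfFinitePresentation f] (Y : Closeds ↥X) (hY : IsLocallyConstructible (Y : Set ↥X))
    (F : X.Modules) (hqc : Coh.IsQCoh F) (hfp : CohB1.IsFP F) (hfl : FlatMod.IsFlatOver f F)
    (y₀ : ↥(Y : Set ↥X)) :
    ∃ V : Opens ↥(Y : Set ↥X), y₀ ∈ V ∧
      ((fun y : ↥(Y : Set ↥X) => CInt.fiberDepthAlong f F (Y : Set ↥X) y.1) '' (V : Set ↥(Y : Set ↥X))).Finite ∧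
      ∀ t : ℕ∞, IsConstructible
        {v : ↥V | CInt.fiberDepthAlong f F (Y : Set ↥X) v.1.1 = t} := by
  exact H13CI.DepthAlong.exists_nhd f Y hfp hfl hY y₀

end Groth.Agent.S19986
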