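import Groth.Statements.S1999
import Mathlib
import Groth.Agent.H9Ram.TameCharacter
-- import your own Groth.Agent.* helpers here

set_option autoImplicit false
universe u
open scoped Pointwise
open EtAlg
open scoped Pointwise

namespace Groth.Agent.S1999

/-- Parts (2)–(5) in the case of part (6): let A be a discrete valuation ring with fraction field K, L/K
a finite Galois extension with group G, B the integral closure of A in L, m a maximal ideal of B
whose residue field is separable over that of A, and e the ramification index of m over A. Let D be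
the decomposition group (stabilizer of m), I the inertia group (elements acting trivially on B/m)
and P the wild inertia group, here the elements of D acting trivially on B/m² (the description valid
in the separable residue field case). Then P ≤ I, P is normal in D, P is a p-group if the residue
characteristic is p > 0 and trivial if it is 0, and I/P is cyclic of order the prime-to-p part of e
and isomorphic to a subgroup of the e-th roots of unity of B/m — more precisely to the full group of
e-th roots of unity of B/m. -/
theorem result (A K L B : Type u) [CommRing A] [IsDomain A] [IsDiscreteValuationRing A]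
    [CommRing B] [IsDomain B] [Field K] [Field L] [Algebra A K] [Algebra B L] [IsFractionRing A K] [IsFractionRing B L]
    [Algebra A B] [Algebra K L] [Algebra A L] [IsScalarTower A K L] [IsScalarTower A B L] [IsIntegralClosure B A L]
    [FiniteDimensional K L] [IsGalois K L] (m : Ideal B) [m.IsMaximal]
    [Algebra.IsSeparable (A ⧸ m.comap (algebraMap A B)) (B ⧸ m)] :
    letI := IsIntegralClosure.MulSemiringAction A K L B
    let D : Subgroup (L ≃ₐ[K] L) := MulAction.stabilizer (L ≃ₐ[K] L) m
    let I : Subgroup (L ≃ₐ[K] L) := m.inertia (L ≃ₐ[K] L)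
    let P : Subgroup (L ≃ₐ[K] L) := D ⊓ (m ^ 2).inertia (L ≃ₐ[K] L)
    let e : ℕ := Ideal.ramificationIdx' (IsLocalRing.maximalIdeal A) m
    P ≤ I ∧ I ≤ D ∧ (P.subgroupOf D).Normal ∧
    (∀ p : ℕ, p.Prime → CharP (A ⧸ m.comap (algebraMap A B)) p → IsPGroup p P) ∧
    (CharZero (A ⧸ m.comap (algebraMap A B)) → P = ⊥) ∧
    (∀ [(P.subgroupOf I).Normal],
      IsCyclic (I ⧸ P.subgroupOf I) ∧
      (∀ p : ℕ, p.Prime → CharP (A ⧸ m.comap (algebraMap A B)) p → Nat.card (I ⧸ P.subgroupOf I) = e / p ^ e.factorization p) ∧
      (CharZero (A ⧸ m.comap (algebraMap A B)) → Nat.card (I ⧸ P.subgroupOf I) = e) ∧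
      Nonempty (I ⧸ P.subgroupOf I ≃* ↥(rootsOfUnity e (B ⧸ m)))) := by
  let := IsIntegralClosure.MulSemiringAction A K L B
  intro D I P e
  have : Algebra.IsIntegral A B := IsIntegralClosure.isIntegral_algebra A L
  have : IsGaloisGroup (L ≃ₐ[K] L) A B := IsGaloisGroup.of_isFractionRing _ _ _ K L
  have : Module.Finite A B := IsIntegralClosure.finite A K L B
  have : IsDedekindDomain B := IsIntegralClosure.isDedekindDomain A K L B
  have : SMulCommClass (L ≃ₐ[K] L) A B := IsGaloisGroup.commutes
  have : FaithfulSMul (L ≃ₐ[K] L) B := IsGaloisGroup.faithful A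
  have hinjB : Function.Injective (algebraMap A B) := by
    have h : Function.Injective (algebraMap A L) := by
      rw [IsScalarTower.algebraMap_eq A K L]
      exact (algebraMap K L).injective.comp (IsFractionRing.injective A K)
    rw [IsScalarTower.algebraMap_eq A B L] at h
    exact Function.Injective.of_comp h
  have : FaithfulSMul A B := (faithfulSMul_iff_algebraMap_injective A B).mpr hinjB
  have : Module.Flat A B := inferInstance
  let p := m.comap (algebraMap A B)
  have : m.LiesOver p := ⟨rfl⟩
  have : p.IsMaximal := Ideal.isMaximal_comap_of_isIntegral_of_isMaximal m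
  have hp : p = IsLocalRing.maximalIdeal A := IsLocalRing.eq_maximalIdeal this
  have hm0 : m ≠ ⊥ := fun h => IsDiscreteValuationRing.not_a_field A (by
    rw [← hp, show p = m.comap (algebraMap A B) from rfl, h,
      Ideal.comap_bot_of_injective _ hinjB])
  have he : e = m.ramificationIdx A := by
    rw [← Ideal.ramificationIdx'_eq_ramificationIdx p m
      (by rw [hp]; exact IsDiscreteValuationRing.not_a_field A), hp]
  have hID : I ≤ D := Ideal.inertia_le_stabilizer m
  have hP : ∀ σ, σ ∈ P ↔ H9Ram.Moves (L ≃ₐ[K] L) m 2 σ := fun σ =>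
    ⟨fun h => h.2, fun h => ⟨hID fun x => Ideal.pow_le_self two_ne_zero (h x), h⟩⟩
  obtain ⟨h1, h2, h3, h4⟩ := H9Ram.inertia_wild_tame (G := L ≃ₐ[K] L) p hm0 P hP
  refine ⟨h1, hID, ?_, h2, h3, ?_⟩
  · refine (Subgroup.normal_subgroupOf_iff inf_le_left).mpr fun g s hg hs => (hP _).mpr fun x => ?_
    have hms : s • (m ^ 2) = m ^ 2 := by
      rw [smul_pow', show s • m = m from hs]
    rw [mul_smul, mul_smul]
    nth_rewrite 2 [← smul_inv_smul s x]
    rw [← smul_sub, ← hms]
    exact Ideal.smul_mem_pointwise_smul _ _ _ ((hP g).mp hg _)
  · intro hN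
    rw [he]
    exact h4

end Groth.Agent.S1999
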