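import Groth.Statements.S19990
import Groth.Agent.H14Gerbe.BandedSmooth

set_option autoImplicit false
universe u
open CategoryTheory CategoryTheory.Limits AlgebraicGeometry
open Gerb

namespace Groth.Agent.S19990

/-- Let R be a strictly henselian local ring, M a finite abelian group and D(M) the diagonalizable group
scheme over R with character group M. Let ℋ be an algebraic stack over R which is an fppf gerbe over
Spec R, banded by D(M): the automorphism groups of its objects over the identity are identified with
the points of D(M), compatibly with all morphisms of ℋ. Then ℋ(R) is non-empty: ℋ has an object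
lying over Spec R. The published statement is for a gerbe banded by an arbitrary finite linearly
reductive group scheme G over R, and its argument reduces, through rigidification by the connected
diagonalizable part of G, to the vanishing of the degree-two fppf cohomology of R with coefficients
in a product of groups of roots of unity, which the Kummer sequence gives; this row states the
special case G = D(M) of a finite diagonalizable band, to which that Kummer argument applies
directly (bands by non-commutative groups are not available here). -/
theorem result (R : Type u) [CommRing R]
    [HenselianLocalRing R] [IsSepClosed (IsLocalRing.ResidueField R)] (M : Type) [AddCommGroup M] [Finite M]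
    (ℋ : AlgSt.Cat (Spec (CommRingCat.of R))) (hℋ : AlgSt.IsAlgStack Scheme.fppfPrecoverage ℋ)
    (hger : Gerb.IsGerbe (QuotSh.J Scheme.fppfPrecoverage (Spec (CommRingCat.of R))) ℋ)
    (β : Gerb.Banding ℋ (yonedaGrpObj (Red.diag R M))) :
    Nonempty (ℋ.p.Fiber (Over.mk (𝟙 (Spec (CommRingCat.of R))))) := by
  let G := Multiplicative M
  have hh : (Red.diag R M).hom = Spec.map (CommRingCat.ofHom (algebraMap R (MonoidAlgebra R G))) := rfl
  haveI : Finite G := inferInstanceAs (Finite M)
  haveI : Nonempty G := ⟨1⟩
  haveI : Module.Finite R (MonoidAlgebra R G) := inferInstance
  haveI : Flat (Red.diag R M).hom := by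
    have h0 : Flat (Spec.map (CommRingCat.ofHom (algebraMap R (MonoidAlgebra R G)))) := by
      rw [HasRingHomProperty.Spec_iff (P := @Flat)]
      exact RingHom.flat_algebraMap_iff.2 inferInstance
    exact h0
  haveI : LocallyOfFinitePresentation (Red.diag R M).hom := by
    have h0 : LocallyOfFinitePresentation
        (Spec.map (CommRingCat.ofHom (algebraMap R (MonoidAlgebra R G)))) := by
      rw [HasRingHomProperty.Spec_iff (P := @LocallyOfFinitePresentation)]
      haveI : Module.FinitePresentation R (MonoidAlgebra R G) :=
        Module.finitePresentation_of_projective R _
      haveI : Algebra.FinitePresentation R (MonoidAlgebra R G) :=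
        (Algebra.FinitePresentation.of_finitePresentation (R := R) (S := MonoidAlgebra R G))
      exact RingHom.finitePresentation_algebraMap.2 inferInstance
    exact h0
  haveI : IsAffineHom (Red.diag R M).hom :=
    inferInstanceAs (IsAffineHom (Spec.map (CommRingCat.ofHom (algebraMap R (MonoidAlgebra R G)))))
  haveI : Surjective (Red.diag R M).hom := by
    have h0 : Surjective (Spec.map (CommRingCat.ofHom (algebraMap R (MonoidAlgebra R G)))) :=
      ⟨PrimeSpectrum.comap_surjective_of_faithfullyFlat (A := R) (B := MonoidAlgebra R G)⟩
    exact h0
  exact H14Gerbe.nonempty_fiber_of_banded hger β

end Groth.Agent.S19990
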