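import Groth.Statements.S19993
import Groth.Agent.H14MuCoh.Zero
import Groth.Agent.H14MuCoh.One

set_option backward.isDefEq.respectTransparency false
set_option backward.isDefEq.respectTransparency.types false

set_option autoImplicit false
universe u
open CategoryTheory CategoryTheory.Limits AlgebraicGeometry
open StCoh

namespace Groth.Agent.S19993

/-- Let X be a scheme and n ≥ 1 an integer invertible on X, let μ_n be the diagonalizable group scheme
D(ℤ/n) over X and f : Bμ_n → X the structure morphism of its classifying stack of fppf torsors.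
Then, for sheaves on the big fppf sites, f_* G_m ≅ G_m, R¹ f_* G_m ≅ ℤ/n (the constant sheaf) and R²
f_* G_m = 0. (The first two are stated as the existence of isomorphisms of sheaves; in the source
the first is the canonical map and the second is generated by the class of the tautological line
bundle. The source allows an algebraic stack as base; the base is a scheme here.) -/
theorem result (X : Scheme.{u}) (n : ℕ) (hn : 0 < n)
    (hinv : IsUnit (n : Γ(X, ⊤)))
    [StCoh.BaseCont Scheme.fppfPrecoverage (AlgSt.BG Scheme.fppfPrecoverage (Red.DS X (ZMod n)))]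
    [StCoh.BaseCont Scheme.fppfPrecoverage (FibCat.selfOver (Over X))]
    [StCoh.MorCont Scheme.fppfPrecoverage (FibCat.toSelf (AlgSt.BG Scheme.fppfPrecoverage (Red.DS X (ZMod n))))]
    [StCoh.MorCocont Scheme.fppfPrecoverage (FibCat.toSelf (AlgSt.BG Scheme.fppfPrecoverage (Red.DS X (ZMod n))))] :
    IsZero ((StCoh.Rpush Scheme.fppfPrecoverage
        (FibCat.toSelf (AlgSt.BG Scheme.fppfPrecoverage (Red.DS X (ZMod n)))) 2).obj
        (StCoh.Gm Scheme.fppfPrecoverage (AlgSt.BG Scheme.fppfPrecoverage (Red.DS X (ZMod n))))) ∧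
      Nonempty ((StCoh.Rpush Scheme.fppfPrecoverage
          (FibCat.toSelf (AlgSt.BG Scheme.fppfPrecoverage (Red.DS X (ZMod n)))) 1).obj
          (StCoh.Gm Scheme.fppfPrecoverage (AlgSt.BG Scheme.fppfPrecoverage (Red.DS X (ZMod n)))) ≅
        StCoh.const Scheme.fppfPrecoverage (FibCat.selfOver (Over X)) (ZMod n)) ∧
      Nonempty ((StCoh.push Scheme.fppfPrecoverage
          (FibCat.toSelf (AlgSt.BG Scheme.fppfPrecoverage (Red.DS X (ZMod n))))).obj
          (StCoh.Gm Scheme.fppfPrecoverage (AlgSt.BG Scheme.fppfPrecoverage (Red.DS X (ZMod n)))) ≅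
        StCoh.Gm Scheme.fppfPrecoverage (FibCat.selfOver (Over X))) := by
  haveI : NeZero n := ⟨hn.ne'⟩
  exact ⟨Groth.Agent.H14MuCoh.isZero_Rpush_two Groth.Agent.H14MuCoh.muPoint hn hinv,
    Groth.Agent.H14MuCoh.nonempty_Rpush_one Groth.Agent.H14MuCoh.muPoint hn hinv,
    Groth.Agent.H14MuCoh.nonempty_push_Gm Groth.Agent.H14MuCoh.muPoint⟩

end Groth.Agent.S19993
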