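import Groth.Statements.S19994
import Groth.Agent.H23Wild.EtaleLocus
import Groth.Agent.H05EGA4.CompleteNormalization

set_option autoImplicit false
universe u v w
open WildQuot

namespace Groth.Agent.S19994

/-- Let `A` be a complete regular local ring of Krull dimension at least `2` and prime characteristic
`p`, with maximal ideal `m`; let `k` be a field with a ring map `k → A` whose composite with `A →
A/m` is onto; let `G` be a group of order `p` acting on `A` by ring automorphisms fixing the image
of `k` and ramified precisely at the origin (for every prime `P ≠ m`, the inertia subgroup of `P`,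
i.e. the elements of `G` fixing every element modulo `P`, is trivial). Then the singular locus of
`Spec A^G` is contained in the closed point: for every non-maximal prime ideal `P` of the invariant
ring `A^G`, the localization `(A^G)_P` is a regular local ring. (The published statement also
asserts that the punctured spectrum of `A` is a `G`-torsor over the punctured spectrum of `A^G`;
this row omits that clause. Together with the non-regularity of `A^G` itself, the singular locus is
exactly the closed point.) -/
theorem result
    (p : ℕ) [Fact p.Prime] (A : Type u) [CommRing A] [IsRegularLocalRing A] [CharP A p]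
    [IsAdicComplete (IsLocalRing.maximalIdeal A) A] (hdim : 2 ≤ ringKrullDim A)
    (k : Type v) [Field k] [Algebra k A]
    (hk : Function.Surjective (IsLocalRing.residue A ∘ algebraMap k A))
    (G : Type w) [Group G] [Finite G] [MulSemiringAction G A] (hcard : Nat.card G = p)
    (hGk : ∀ (σ : G) (c : k), σ • algebraMap k A c = algebraMap k A c)
    (hram : ∀ P : Ideal A, P.IsPrime → P ≠ IsLocalRing.maximalIdeal A → P.inertia G = ⊥)
    (P : Ideal (FixedPoints.subring A G)) [P.IsPrime] (hP : ¬ P.IsMaximal) :
    IsRegularLocalRing (Localization.AtPrime P) := by
  open Groth.Agent Groth.Agent.H05EGA4 IsLocalRing in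
  haveI : IsDomain A := H4Depth.isDomain_of_isRegularLocalRing _
  haveI : Fintype G := Fintype.ofFinite G
  obtain ⟨hN, hF, -⟩ := Groth.Agent.H23Wild.Invariants.finite_invariants G k hk hGk
  haveI := Groth.Agent.H23Wild.Invariants.isLocalRing_subring (A := A) G
  refine Groth.Agent.H23Wild.Invariants.regular_invariants G P (fun Q _ => isRegularLocalRing_localization A Q) fun Q hQ hQP => ?_
  refine hram Q hQ fun hm => hP ?_
  subst hm
  rw [← hQP]
  rw [show algebraMap (FixedPoints.subring A G) A = (FixedPoints.subring A G).subtype from rfl,
    Groth.Agent.H23Wild.Invariants.comap_maximalIdeal]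
  exact maximalIdeal.isMaximal _

end Groth.Agent.S19994
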