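import Groth.Statements.S19996
import Groth.Agent.H23Wild.Break
import Mathlib.Tactic.LinearCombination

set_option autoImplicit false
universe u
open WildQuot

namespace Groth.Agent.S19996

/-- Let `k` be a field of characteristic `p > 0`, `A = k[[u]]`, and `σ` a `k`-algebra automorphism of
`A` of order exactly `p` with ramification break `m`, i.e. `σ u - u` has order `m + 1`. Then `p`
divides `m + 1` if and only if there are a uniformizer `s` of `A` (a power series of order `1`) and
a `σ`-invariant power series `a` with `σ s = s + a`. (The published statement has a third equivalent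
condition, that `Spec A` is a torsor under the effective model of the action; this row omits it.) -/
theorem result
    (p : ℕ) [Fact p.Prime] (k : Type u) [Field k] [CharP k p]
    (σ : PowerSeries k ≃ₐ[k] PowerSeries k) (hσp : σ ^ p = 1) (hσ1 : σ ≠ 1)
    (m : ℕ) (hm : (σ PowerSeries.X - PowerSeries.X).order = ((m + 1 : ℕ) : ℕ∞)) :
    p ∣ m + 1 ↔
      ∃ s a : PowerSeries k, s.order = 1 ∧ σ a = a ∧ σ s = s + a := by
  classical
  haveI : CharP (PowerSeries k) p := charP_of_injective_ringHom
    (f := (PowerSeries.C : k →+* PowerSeries k)) (RingHom.injective _) p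
  have hp := (Fact.out : p.Prime)
  have hordD : ∀ {s : PowerSeries k}, s.order = ((1 : ℕ) : ℕ∞) → (σ s - s).order = ((1 + m : ℕ) : ℕ∞) := fun hs =>
    Groth.Agent.H23Wild.Break.order_sigma_sub σ p hσp hm hs fun h => hp.one_lt.not_ge (Nat.le_of_dvd one_pos h)
  constructor
  · rintro ⟨q, hq⟩
    let x := Groth.Agent.H23Wild.Break.normX σ p
    have hxσ : σ x = x := Groth.Agent.H23Wild.Break.sigma_normX σ p hσp
    have hxo : x.order = p := Groth.Agent.H23Wild.Break.order_normX σ p hσp hm
    have hord : orderOf σ = p := orderOf_eq_prime hσp hσ1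
    obtain ⟨θ, hθ⟩ : ∃ θ, ∑ i ∈ Finset.range p, (σ ^ i) θ ≠ 0 := by
      by_contra hall
      push Not at hall
      have hinj : Function.Injective (fun i : Fin p =>
          ((σ ^ (i : ℕ)).toAlgHom : PowerSeries k →* PowerSeries k)) := fun i j hij => by
        have h : σ ^ (i : ℕ) = σ ^ (j : ℕ) := AlgEquiv.ext fun z => DFunLike.congr_fun hij z
        exact Fin.ext (pow_injOn_Iio_orderOf (x := σ) (by rw [hord]; exact i.2) (by rw [hord]; exact j.2) h)
      have hli := (linearIndependent_monoidHom (PowerSeries k) (PowerSeries k)).comp _ hinj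
      have := Fintype.linearIndependent_iff.mp hli (fun _ => 1) (funext fun θ => by
        simp only [Function.comp_apply, one_smul, Finset.sum_apply, Pi.zero_apply]
        exact (Fin.sum_univ_eq_sum_range (fun i => (σ ^ i) θ) p).trans (hall θ)) ⟨0, hp.pos⟩
      exact one_ne_zero this
    set T := ∑ i ∈ Finset.range p, (σ ^ i) θ with hT
    have hTσ : σ T = T := by
      have h := Finset.sum_range_succ' (fun i => (σ ^ i) θ) p
      rw [Finset.sum_range_succ, hσp, pow_zero, add_left_inj] at h
      rw [hT, map_sum, h]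
      exact Finset.sum_congr rfl fun i _ => by rw [pow_succ', AlgEquiv.mul_apply]
    set N₀ := -∑ i ∈ Finset.range p, (i : PowerSeries k) * (σ ^ i) θ with hN₀
    have htel : ∀ n : ℕ, ∑ i ∈ Finset.range n, (i : PowerSeries k) * ((σ ^ i) θ - (σ ^ (i + 1)) θ) =
        ∑ i ∈ Finset.range n, (σ ^ (i + 1)) θ - (n : PowerSeries k) * (σ ^ n) θ := fun n => by
      induction n with
      | zero => simp
      | succ n ih => rw [Finset.sum_range_succ, ih, Finset.sum_range_succ]; push_cast; ring
    have hN₀' : σ N₀ - N₀ = T := by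
      have h := htel p
      rw [CharP.cast_eq_zero, zero_mul, sub_zero] at h
      have h' : σ N₀ - N₀ = ∑ i ∈ Finset.range p, (i : PowerSeries k) * ((σ ^ i) θ - (σ ^ (i + 1)) θ) := by
        rw [hN₀, map_neg, map_sum, neg_sub_neg, ← Finset.sum_sub_distrib]
        refine Finset.sum_congr rfl fun i _ => ?_
        rw [map_mul, map_natCast, pow_succ', AlgEquiv.mul_apply]; ring
      rw [h', h, ← hTσ, hT, map_sum]
      exact Finset.sum_congr rfl fun i _ => by rw [pow_succ', AlgEquiv.mul_apply]
    obtain ⟨t, ht⟩ : ∃ t : ℕ, T.order = t := ⟨_, (PowerSeries.coe_toNat_order hθ).symm⟩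
    have hle : ∀ N : PowerSeries k, σ N - N = T → ∃ e : ℕ, N.order = e ∧ e ≤ t := fun N hN => by
      have hN0 : N ≠ 0 := fun h => hθ (by rw [← hN, h, map_zero, sub_zero])
      refine ⟨_, (PowerSeries.coe_toNat_order hN0).symm, ?_⟩
      have h := PowerSeries.min_order_le_order_add (σ N) (-N)
      rw [PowerSeries.order_neg, Groth.Agent.H23Wild.Break.order_sigma σ p hσp hm, min_self, ← sub_eq_add_neg, hN,
        ht, ← PowerSeries.coe_toNat_order hN0] at h
      exact_mod_cast h
    have hgood : ∀ j : ℕ, ∀ N : PowerSeries k, σ N - N = T → (∀ e : ℕ, N.order = e → t < e + j) →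
        ∃ N' : PowerSeries k, ∃ e : ℕ, σ N' - N' = T ∧ N'.order = e ∧ ¬ p ∣ e := by
      intro j
      induction j with
      | zero =>
        intro N hN hj
        obtain ⟨e, he, het⟩ := hle N hN
        exact absurd (hj e he) (by omega)
      | succ j ih =>
        intro N hN hj
        obtain ⟨e, he, het⟩ := hle N hN
        by_cases hpe : p ∣ e
        · obtain ⟨r, rfl⟩ := hpe
          obtain ⟨g, hg, hNg⟩ := Groth.Agent.H23Wild.Break.exists_eq_X_pow_mul he
          obtain ⟨y, hy, hxy⟩ := Groth.Agent.H23Wild.Break.exists_eq_X_pow_mul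
            (f := x ^ r) (e := p * r) (by rw [PowerSeries.order_pow, hxo, nsmul_eq_mul, mul_comm]; norm_cast)
          let c := PowerSeries.constantCoeff g / PowerSeries.constantCoeff y
          have hN' : σ (N - PowerSeries.C c * x ^ r) - (N - PowerSeries.C c * x ^ r) = T := by
            rw [map_sub, map_mul, map_pow, hxσ, PowerSeries.C_eq_algebraMap, AlgEquiv.commutes, ← hN]; ring
          refine ih _ hN' fun e' he' => ?_
          obtain ⟨w, hw⟩ := PowerSeries.X_dvd_iff.mpr (show PowerSeries.constantCoeff (g - PowerSeries.C c * y) = 0 by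
            rw [map_sub, map_mul, PowerSeries.constantCoeff_C, div_mul_cancel₀ _ hy, sub_self])
          have hlt : p * r + 1 ≤ e' := by
            have h := PowerSeries.le_order_mul (PowerSeries.X ^ (p * r + 1)) w
            rw [PowerSeries.order_X_pow, show PowerSeries.X ^ (p * r + 1) * w = N - PowerSeries.C c * x ^ r by
              rw [hNg, hxy, pow_succ]; linear_combination (-(PowerSeries.X ^ (p * r))) * hw, he'] at h
            exact_mod_cast le_self_add.trans h
          have := hj (p * r) he
          omega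
        · exact ⟨N, e, hN, he, hpe⟩
    obtain ⟨N, e, hN, he, hpe⟩ := hgood (t + 1) N₀ hN₀' (fun _ _ => by omega)
    have hoe := Groth.Agent.H23Wild.Break.order_sigma_sub σ p hσp hm he hpe
    rw [hN, ht, Nat.cast_inj] at hoe
    obtain ⟨s, hs, hss⟩ := Groth.Agent.H23Wild.Break.exists_translated σ hN hTσ
      (show σ (x ^ q) = x ^ q by rw [map_pow, hxσ]) he
      (show (x ^ q).order = ((p * q : ℕ) : ℕ∞) by rw [PowerSeries.order_pow, hxo, nsmul_eq_mul, mul_comm]; norm_cast)
      ht (by omega)
    exact ⟨s, x ^ q, hs, by rw [map_pow, hxσ], hss⟩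
  · rintro ⟨s, a, hs, ha, hsa⟩
    have h := hordD (s := s) (by rw [hs, Nat.cast_one])
    rw [hsa, add_sub_cancel_left] at h
    have ha0 : a ≠ 0 := fun h0 => by rw [h0, PowerSeries.order_zero] at h; exact ENat.top_ne_natCast _ h
    have := Groth.Agent.H23Wild.Break.dvd_order_of_fixed σ p hσp hm ha ha0
    rwa [h, ENat.toNat_natCast, add_comm] at this

end Groth.Agent.S19996
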