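import Groth.Statements.S19998
import Groth.Agent.H23Wild.Length

set_option autoImplicit false
universe u
open WildQuot

namespace Groth.Agent.S19998

open MvPolynomial in
/-- Let `k` be a field of characteristic `p > 0`, `n ≥ 2`, `R = k[[x_1, …, x_n]]`, `a_1, …, a_n ∈ R`
with zero constant term, `A = R[u_1, …, u_n] / (u_i ^ p - a_i ^ (p-1) u_i - x_i : i = 1..n)`, and
`σ` the `R`-algebra automorphism of `A` with `σ u_i = u_i + a_i` for every `i` (when some `a_i` is
non-zero it generates a group `G` of order `p`). Let `I ⊆ A` be the ideal generated by the elements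
`σ t - t`, `t ∈ A`, which defines the fixed-point scheme of `G`. Then `I ⊆ (u_1, …, u_n) ^ p` (the
`p`-th power of the maximal ideal of `A`), and the length of `A / I` over `A` equals `p ^ n` times
the length of `R / (a_1, …, a_n)` over `R`; in particular it is a multiple of `p ^ n`. (The
published statement is for an arbitrary moderately ramified action, which has this normal form with
`a_1, …, a_n` a system of parameters of `R`, and records only divisibility by `p ^ n`; here the
`a_i` are arbitrary non-units, both lengths being infinite when `(a_1, …, a_n)` is not primary to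
the maximal ideal of `R`.) -/
theorem result
    (p : ℕ) [Fact p.Prime] (k : Type u) [Field k] [CharP k p] (n : ℕ) (hn : 2 ≤ n)
    (a : Fin n → MvPowerSeries (Fin n) k)
    (ham : ∀ i, MvPowerSeries.constantCoeff (a i) = 0) :
    let R := MvPowerSeries (Fin n) k
    let I : Ideal (MvPolynomial (Fin n) R) :=
      Ideal.span (Set.range fun i : Fin n =>
        X i ^ p - C (a i ^ (p - 1)) * X i - C (MvPowerSeries.X i))
    let A := MvPolynomial (Fin n) R ⧸ I
    let u : Fin n → A := fun i => Ideal.Quotient.mk I (X i)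
    ∀ σ : A ≃ₐ[R] A, (∀ i, σ (u i) = u i + algebraMap R A (a i)) →
      Ideal.span (Set.range fun t : A => σ t - t) ≤ Ideal.span (Set.range u) ^ p ∧
        Module.length A (A ⧸ Ideal.span (Set.range fun t : A => σ t - t)) =
          (p ^ n : ℕ∞) * Module.length R (R ⧸ Ideal.span (Set.range a)) := by
  intro R I
  dsimp only
  have hI : I = Groth.Agent.H23Wild.sysI (Groth.Agent.H23Wild.asF p (fun i => a i ^ (p - 1)) MvPowerSeries.X) :=
    (Groth.Agent.H23Wild.sysI_asF p (fun i => a i ^ (p - 1)) MvPowerSeries.X).symm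
  clear_value I
  subst hI
  intro σ hσ
  have hc : ∀ i, MvPowerSeries.constantCoeff (a i ^ (p - 1)) = 0 := fun i => by
    rw [map_pow, ham, zero_pow (Nat.sub_ne_zero_of_lt (Fact.out : p.Prime).one_lt)]
  obtain ⟨hreg, hmax⟩ := Groth.Agent.H23Wild.isRegularLocalRing_as p (fun i => a i ^ (p - 1)) hc
  obtain ⟨hfree, hfin, hrk⟩ := Groth.Agent.H23Wild.free_as p (fun i => a i ^ (p - 1)) (MvPowerSeries.X (R := k))
  haveI := hreg
  haveI := hfree
  haveI := hfin
  haveI : IsLocalHom (algebraMap (MvPowerSeries (Fin n) k)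
      (Groth.Agent.H23Wild.asA p a (MvPowerSeries.X (R := k)))) :=
    RingHom.IsIntegral.isLocalHom Algebra.IsIntegral.isIntegral (Groth.Agent.H23Wild.algebraMap_injective_as p _ _)
  rw [Groth.Agent.H23Wild.span_sub_eq p _ _ a σ hσ]
  refine ⟨Groth.Agent.H23Wild.map_le_pow p a _ fun i => Groth.Agent.H02CA.PS.mem_vars_iff.mpr (ham i), ?_⟩
  refine (Groth.Agent.H23Wild.length_quotient_map (MvPowerSeries (Fin n) k)
    (Groth.Agent.H23Wild.asA p a (MvPowerSeries.X (R := k))) (fun z => ?_) _).trans ?_
  · obtain ⟨z, rfl⟩ := IsLocalRing.residue_surjective z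
    obtain ⟨r, hr⟩ := Groth.Agent.H23Wild.exists_sub_mem p (fun i => a i ^ (p - 1)) (MvPowerSeries.X (R := k)) z
    refine ⟨r, (Ideal.Quotient.eq.mpr ?_).symm⟩
    rw [← IsLocalRing.eq_maximalIdeal hmax]
    exact hr
  · rw [hrk]
    norm_cast

end Groth.Agent.S19998
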