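import Groth.Statements.S2000
import Groth.Agent.H9Hens.Glue
import Mathlib.RingTheory.Localization.BaseChange
import Mathlib.RingTheory.TensorProduct.IsBaseChangeHom
-- import your own Groth.Agent.* helpers here

set_option autoImplicit false
universe u
open TensorProduct
open EtAlg

namespace Groth.Agent.S2000

/-- Beauville–Laszlo, essential surjectivity with glueability: take a glueing pair (R -> R', f). Fix an
R'-module M', an R-module M₁ on which multiplication by f is bijective (i.e. an R_f-module), and α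
an R'-linear isomorphism from the localization of M' at f to R' ⊗_R M₁ (an isomorphism of
R'_f-modules). Then there is an R-module M, glueable for (R -> R', f), with an R'-isomorphism R' ⊗_R
M ≅ M' and an R-isomorphism M_f ≅ M₁ under which α becomes the canonical identification (R' ⊗_R M)_f
= R' ⊗_R M_f. -/
theorem result (R R' : Type u) [CommRing R] [CommRing R'] [Algebra R R'] (f : R)
    (hRR : EtGlue.IsGlueingPair R R' f) (M' : Type u) [AddCommGroup M'] [Module R' M'] (M₁ : Type u) [AddCommGroup M₁]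
    [Module R M₁] (hf : Function.Bijective fun x : M₁ => f • x)
    (α : LocalizedModule (Submonoid.powers (algebraMap R R' f)) M' ≃ₗ[R'] R' ⊗[R] M₁) :
    ∃ (M : Type u) (_ : AddCommGroup M) (_ : Module R M) (_ : EtGlue.IsGlueable R R' f M)
      (e' : R' ⊗[R] M ≃ₗ[R'] M') (e₁ : LocalizedModule (Submonoid.powers f) M ≃ₗ[R] M₁),
      ∀ m : M, α (LocalizedModule.mkLinearMap (Submonoid.powers (algebraMap R R' f)) M' (e' ((1 : R') ⊗ₜ[R] m))) =
        (1 : R') ⊗ₜ[R] e₁ (LocalizedModule.mkLinearMap (Submonoid.powers f) M m) := by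
  classical
  letI : Module R M' := Module.compHom M' (algebraMap R R')
  haveI : IsScalarTower R R' M' := IsScalarTower.of_algebraMap_smul fun r x => rfl
  let β : M' →ₗ[R'] R' ⊗[R] M₁ :=
    α.toLinearMap ∘ₗ LocalizedModule.mkLinearMap (Submonoid.powers (algebraMap R R' f)) M'
  have hβ0 : ∀ x, β x = 0 → ∃ n : ℕ, f ^ n • x = 0 := fun x hx => by
    obtain ⟨n, hn⟩ := (H9Hens.Glue.mkLinearMap_eq_zero_iff (f := algebraMap R R' f) M' x).mp
      (α.injective (hx.trans (map_zero α).symm))
    exact ⟨n, by rwa [← algebraMap_smul R', map_pow]⟩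
  have hβs : ∀ z : R' ⊗[R] M₁, ∃ (n : ℕ) (x : M'), f ^ n • z = β x := fun z => by
    obtain ⟨⟨x, ⟨_, n, rfl⟩⟩, hx⟩ := IsLocalizedModule.surj (Submonoid.powers (algebraMap R R' f))
      (LocalizedModule.mkLinearMap (Submonoid.powers (algebraMap R R' f)) M') (α.symm z)
    change (algebraMap R R' f) ^ n • α.symm z = _ at hx
    exact ⟨n, x, by
      rw [← algebraMap_smul R', map_pow]
      simpa [β] using congrArg α hx⟩
  have hpow : ∀ n : ℕ, Function.Bijective fun y : M₁ => f ^ n • y := fun n => by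
    induction n with
    | zero => simp only [pow_zero, one_smul]; exact Function.bijective_id
    | succ n ih =>
      have e : (fun y : M₁ => f ^ (n + 1) • y) = (fun y => f ^ n • y) ∘ fun y => f • y := funext fun y => by
        rw [pow_succ, mul_smul]; rfl
      rw [e]
      exact ih.comp hf
  let δ : M' × M₁ →ₗ[R] R' ⊗[R] M₁ :=
    β.restrictScalars R ∘ₗ LinearMap.fst R M' M₁ -
      TensorProduct.mk R R' M₁ 1 ∘ₗ LinearMap.snd R M' M₁
  let M : Submodule R (M' × M₁) := LinearMap.ker δ
  have hmem : ∀ {x : M'} {y : M₁}, (x, y) ∈ M ↔ β x = (1 : R') ⊗ₜ[R] y := fun {x y} => by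
    show δ (x, y) = 0 ↔ _
    exact sub_eq_zero
  let p : M →ₗ[R] M' := LinearMap.fst R M' M₁ ∘ₗ M.subtype
  let q : M →ₗ[R] M₁ := LinearMap.snd R M' M₁ ∘ₗ M.subtype
  have hpq : ∀ m : M, β (p m) = (1 : R') ⊗ₜ[R] q m := fun m => hmem.mp m.2
  have hq0 : ∀ m : M, q m = 0 → ∃ n : ℕ, f ^ n • m = 0 := fun m hm => by
    obtain ⟨n, hn⟩ := hβ0 (p m) (by rw [hpq, hm, TensorProduct.tmul_zero])
    exact ⟨n, Subtype.ext (Prod.ext hn (by
      show f ^ n • q m = 0
      rw [hm, smul_zero]))⟩
  haveI hloc : IsLocalizedModule (Submonoid.powers f) q :=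
    { map_units := by
        rintro ⟨_, n, rfl⟩
        exact (Module.End.isUnit_iff _).mpr (hpow n)
      surj := fun y => by
        obtain ⟨n, x, hx⟩ := hβs ((1 : R') ⊗ₜ[R] y)
        exact ⟨(⟨(x, f ^ n • y), hmem.mpr (by rw [← hx, TensorProduct.tmul_smul])⟩,
          ⟨f ^ n, n, rfl⟩), rfl⟩
      exists_of_eq := fun {m₁ m₂} h => by
        obtain ⟨n, hn⟩ := hq0 (m₁ - m₂) (by rw [map_sub, h, sub_self])
        exact ⟨⟨f ^ n, n, rfl⟩, by
          rw [smul_sub, sub_eq_zero] at hn
          exact hn⟩ }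
  let p' : R' ⊗[R] M →ₗ[R'] M' := p.liftBaseChange R'
  have hp1 : ∀ m, p' ((1 : R') ⊗ₜ[R] m) = p m := fun m => by simp [p']
  have hker : ∀ w : R' ⊗[R] M, β (p' w) = q.lTensor R' w := fun w => by
    induction w using TensorProduct.induction_on with
    | zero => simp
    | tmul r m =>
      simp only [p', LinearMap.liftBaseChange_tmul, map_smul, hpq, LinearMap.lTensor_tmul]
      rw [TensorProduct.smul_tmul', smul_eq_mul, mul_one]
    | add a b ha hb => simp only [map_add, ha, hb]
  have hsplit : ∀ z : R' ⊗[R] M₁, ∃ (a : M₁) (w : R' ⊗[R] M), z = (1 : R') ⊗ₜ[R] a + q.lTensor R' w := by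
    intro z
    induction z using TensorProduct.induction_on with
    | zero => exact ⟨0, 0, by simp⟩
    | tmul r y =>
      obtain ⟨⟨m, ⟨_, N, rfl⟩⟩, hm⟩ := IsLocalizedModule.surj (Submonoid.powers f) q y
      change f ^ N • y = q m at hm
      obtain ⟨a, ha⟩ := (H9Hens.Glue.cong_span_pow hRR.1 N).exists_sub r
      rw [Ideal.map_span, Set.image_singleton] at ha
      obtain ⟨c, hc⟩ := Ideal.mem_span_singleton'.mp ha
      refine ⟨a • y, c ⊗ₜ m, ?_⟩
      rw [LinearMap.lTensor_tmul, ← hm, ← TensorProduct.smul_tmul a, ← TensorProduct.smul_tmul (f ^ N),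
        ← TensorProduct.add_tmul, Algebra.smul_def, Algebra.smul_def, mul_one, mul_comm _ c, hc,
        add_sub_cancel]
    | add z₁ z₂ h₁ h₂ =>
      obtain ⟨a₁, w₁, rfl⟩ := h₁
      obtain ⟨a₂, w₂, rfl⟩ := h₂
      exact ⟨a₁ + a₂, w₁ + w₂, by rw [TensorProduct.tmul_add, map_add]; abel⟩
  have htor : H9Hens.Glue.TorSurj R' f M := H9Hens.Glue.torSurj_of_isGlueingPair hRR
  have hbij : Function.Bijective p' := by
    refine ⟨(injective_iff_map_eq_zero _).mpr fun w hw => ?_, fun x => ?_⟩
    · have h0 : (TensorProduct.AlgebraTensorModule.rTensor R R' q) (TensorProduct.comm R R' M w) = 0 := by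
        have h1 : ∀ v : R' ⊗[R] M, TensorProduct.AlgebraTensorModule.rTensor R R' q
            (TensorProduct.comm R R' M v) = TensorProduct.comm R R' M₁ (q.lTensor R' v) := fun v => by
          induction v using TensorProduct.induction_on with
          | zero => simp
          | tmul r m => simp
          | add a b ha hb => simp only [map_add, ha, hb]
        rw [h1, ← hker, hw, map_zero, map_zero]
      obtain ⟨⟨_, n, rfl⟩, hn⟩ := (IsLocalizedModule.eq_zero_iff (Submonoid.powers f)
        (TensorProduct.AlgebraTensorModule.rTensor R R' q)).mp h0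
      obtain ⟨m, ⟨k, hk⟩, hm⟩ := htor w ⟨n, (TensorProduct.comm R R' M).injective (by
        rw [map_smul, map_zero]; exact hn)⟩
      subst hm
      rw [hp1] at hw
      have hq' : q m = 0 := (hpow k).1 (show f ^ k • q m = f ^ k • 0 by
        rw [← map_smul, hk, map_zero, smul_zero])
      rw [show m = 0 from Subtype.ext (Prod.ext hw hq'), TensorProduct.tmul_zero]
    · obtain ⟨a, w, haw⟩ := hsplit (β x)
      refine ⟨w + (1 : R') ⊗ₜ[R] (⟨(x - p' w, a), hmem.mpr (by
        rw [map_sub, hker, haw, add_sub_cancel_right])⟩ : M), ?_⟩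
      rw [map_add, hp1]
      exact add_sub_cancel (p' w) x
  refine ⟨M, inferInstance, inferInstance, (H9Hens.Glue.isGlueable_iff hRR.1).mpr ⟨fun m hm h0 => ?_, htor⟩,
    LinearEquiv.ofBijective p' hbij, IsLocalizedModule.iso (Submonoid.powers f) q, fun m => ?_⟩
  · obtain ⟨k, hk⟩ := hm
    refine Subtype.ext (Prod.ext ?_ ((hpow k).1 (show f ^ k • q m = f ^ k • 0 by
      rw [← map_smul, hk, map_zero, smul_zero])))
    show p m = 0
    rw [← hp1, h0, map_zero]
  · rw [LinearEquiv.ofBijective_apply, hp1,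
      show IsLocalizedModule.iso (Submonoid.powers f) q
        (LocalizedModule.mkLinearMap (Submonoid.powers f) M m) = q m by
        simp [LocalizedModule.mkLinearMap_apply]]
    exact hpq m

end Groth.Agent.S2000
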