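import Groth.Statements.S20000
import Groth.Agent.H28Unirat.Section
import Groth.Agent.H28Unirat.AffineProd
import Groth.Agent.S12181
import Groth.Agent.H19Grp.AffineQuotient
import Groth.Agent.H19Grp.KernelGrp

set_option autoImplicit false
set_option linter.style.haveILetI false
set_option backward.isDefEq.respectTransparency false
set_option backward.isDefEq.respectTransparency.types false
set_option maxHeartbeats 1600000
universe u
open Neron

open CategoryTheory CategoryTheory.Limits CategoryTheory.MonoidalCategory CategoryTheory.CartesianMonoidalCategory CategoryTheory.MonObj AlgebraicGeometry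
attribute [local instance 2000] CategoryTheory.Hom.group CategoryTheory.Hom.monoid

namespace Groth.Agent.S20000

open CategoryTheory AlgebraicGeometry in
/-- Let `κ` be an arbitrary field and `G`, `G''` smooth connected commutative group schemes of finite
type over `κ`. Let `q : G → G''` be a homomorphism which is flat and surjective, and `i : 𝔾_a → G` a
homomorphism exhibiting the additive group as the kernel of `q` (so `0 → 𝔾_a → G → G'' → 0` is exact
in the fppf topology). If `G''` is unirational, i.e. admits a dominant `κ`-morphism from a nonempty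
open subscheme of an affine space over `κ`, then so does `G`. (The published statement allows the
kernel to be any repeated extension of copies of `𝔾_a`; this row is the case of a single copy, from
which the general case follows by induction on the length.) -/
theorem result
    (κ : Type u) [Field κ]
    (G G'' : Over (Spec (CommRingCat.of κ))) [GrpObj G] [IsCommMonObj G] [GrpObj G''] [IsCommMonObj G'']
    [Smooth G.hom] [LocallyOfFiniteType G.hom] [QuasiCompact G.hom] [ConnectedSpace G.left]
    [Smooth G''.hom] [LocallyOfFiniteType G''.hom] [QuasiCompact G''.hom] [ConnectedSpace G''.left]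
    (q : G ⟶ G'') [IsMonHom q] [Flat q.left] (hq : Function.Surjective q.left.base)
    (i : Red.Ga (Spec (CommRingCat.of κ)) ⟶ G) [IsMonHom i] (hker : AlgGrp.IsKernel i q)
    (huni : ∃ (n : ℕ) (V : (AffineSpace (ULift.{u} (Fin n)) (Spec (CommRingCat.of κ))).Opens)
        (ψ : (V : Scheme.{u}) ⟶ G''.left),
      (V : Set (AffineSpace (ULift.{u} (Fin n)) (Spec (CommRingCat.of κ)))).Nonempty ∧ DenseRange ψ.base ∧
      ψ ≫ G''.hom = V.ι ≫ (AffineSpace (ULift.{u} (Fin n)) (Spec (CommRingCat.of κ)) ↘ Spec (CommRingCat.of κ))) :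
    ∃ (n : ℕ) (V : (AffineSpace (ULift.{u} (Fin n)) (Spec (CommRingCat.of κ))).Opens)
        (ψ : (V : Scheme.{u}) ⟶ G.left),
      (V : Set (AffineSpace (ULift.{u} (Fin n)) (Spec (CommRingCat.of κ)))).Nonempty ∧ DenseRange ψ.base ∧
      ψ ≫ G.hom = V.ι ≫ (AffineSpace (ULift.{u} (Fin n)) (Spec (CommRingCat.of κ)) ↘ Spec (CommRingCat.of κ)) := by
  let S := Spec (CommRingCat.of κ)
  obtain ⟨n, V, ψ, hVne, hψd, hψw⟩ := huni
  haveI : Fact (Nat.Prime 2) := ⟨Nat.prime_two⟩
  obtain ⟨e, he, -⟩ := Groth.Agent.S12181.result 2 S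
  haveI := he
  haveI : Surjective q.left := ⟨hq⟩
  haveI hqm : Mono i := ⟨fun a b h => hker.hom_ext h (toUnit_unique _ _)⟩
  let i' : WittGrp.W 2 1 S ⟶ G := e.hom ≫ i
  haveI : IsMonHom i' := inferInstanceAs (IsMonHom (e.hom ≫ i))
  haveI : Mono i' := inferInstanceAs (Mono (e.hom ≫ i))
  have hker' : AlgGrp.IsKernel i' q :=
    IsPullback.of_iso hker e.symm (Iso.refl _) (Iso.refl _) (Iso.refl _) (by simp [i']) (toUnit_unique _ _) (by simp)
      (by simp)
  haveI : IsSeparated G''.hom := Groth.Agent.H19Grp.AffineQuotient.isSeparated_of_grp G''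
  haveI : QuasiCompact (q.left ≫ G''.hom) := by rw [Over.w q]; infer_instance
  haveI : QuasiCompact q.left := QuasiCompact.of_comp q.left G''.hom
  haveI : LocallyOfFiniteType (q.left ≫ G''.hom) := by rw [Over.w q]; infer_instance
  haveI : LocallyOfFiniteType q.left := locallyOfFiniteType_of_comp q.left G''.hom
  haveI : IsNoetherianRing (CommRingCat.of κ) := inferInstanceAs (IsNoetherianRing κ)
  haveI : IsLocallyNoetherian G''.left := LocallyOfFiniteType.isLocallyNoetherian G''.hom
  haveI : LocallyOfFinitePresentation q.left := inferInstance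
  -- an affine dense open
  haveI : IrreducibleSpace (AffineSpace (ULift.{u} (Fin n)) S) := by
    haveI : IsDomain (MvPolynomial (ULift.{u} (Fin n)) κ) := inferInstance
    haveI : IrreducibleSpace (Spec (CommRingCat.of (MvPolynomial (ULift.{u} (Fin n)) κ))) := inferInstance
    let h := (AffineSpace.SpecIso (ULift.{u} (Fin n)) (CommRingCat.of κ)).inv.homeomorph
    exact h.irreducibleSpace_iff.1 inferInstance
  obtain ⟨z, hz⟩ := hVne
  obtain ⟨V₀, hV₀, hzV₀, hV₀V⟩ := exists_isAffineOpen_mem_and_subset (U := V) hz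
  have hle : V₀ ≤ V := hV₀V
  let Q₀ : Over S := Over.mk (V₀.ι ≫ (AffineSpace (ULift.{u} (Fin n)) S ↘ S))
  haveI : IsAffine Q₀.left := hV₀
  let v : Q₀ ⟶ G'' := Over.homMk ((AffineSpace (ULift.{u} (Fin n)) S).homOfLE hle ≫ ψ) (by
    rw [Category.assoc, hψw, ← Category.assoc, Scheme.homOfLE_ι]
    rfl)
  have hvd : Dense (Set.range v.left) := by
    have h1 : DenseRange ((AffineSpace (ULift.{u} (Fin n)) S).homOfLE hle).base := by
      haveI : IrreducibleSpace V.toScheme := by
        have h := ((PreirreducibleSpace.isPreirreducible_univ (X := AffineSpace (ULift.{u} (Fin n)) S)).open_subset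
          V.2 (Set.subset_univ _))
        exact Subtype.irreducibleSpace ⟨⟨z, hz⟩, h⟩
      exact IsOpen.dense ((AffineSpace (ULift.{u} (Fin n)) S).homOfLE hle).isOpenEmbedding.isOpen_range
        ⟨_, ⟨⟨z, hzV₀⟩, rfl⟩⟩
    exact hψd.comp h1 ψ.continuous
  obtain ⟨s, hs⟩ := Groth.Agent.H28Unirat.exists_lift i' q hker' v
  let Φ : Q₀ ⊗ Red.Ga S ⟶ G := (fst _ _ ≫ s) * (snd _ _ ≫ i)
  have hsub : q.left ⁻¹' Set.range v.left ⊆ Set.range Φ.left := by
    let Z : Over S := Over.mk (pullback.snd q.left v.left ≫ Q₀.hom)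
    let a : Z ⟶ Q₀ := Over.homMk (pullback.snd q.left v.left) rfl
    let b : Z ⟶ G := Over.homMk (pullback.fst q.left v.left) (by
      show pullback.fst q.left v.left ≫ G.hom = pullback.snd q.left v.left ≫ Q₀.hom
      rw [← Over.w q, ← Category.assoc, pullback.condition, Category.assoc, Over.w v])
    have hab : b ≫ q = a ≫ v := Over.OverMorphism.ext pullback.condition
    obtain ⟨x, hx⟩ := Groth.Agent.H19Grp.kernel_lift hker (b * (a ≫ s)⁻¹) (by
      rw [MonObj.mul_comp, GrpObj.inv_comp, hab, Category.assoc, hs, mul_inv_cancel])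
    have hb : lift a x ≫ Φ = b := by
      simp only [Φ, MonObj.comp_mul, lift_fst_assoc, lift_snd_assoc, hx]
      rw [mul_comm, inv_mul_cancel_right]
    rintro y ⟨w, hw⟩
    obtain ⟨p, hp⟩ : y ∈ Set.range (pullback.fst q.left v.left) := by
      rw [Scheme.Pullback.range_fst]; exact ⟨w, hw⟩
    refine ⟨(lift a x).left p, ?_⟩
    rw [← Scheme.Hom.comp_apply, ← Over.comp_left, hb]
    exact hp
  have hΦd : DenseRange Φ.left := (hvd.preimage q.left.isOpenMap).mono hsub
  -- the source is open in affine space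
  obtain ⟨ε⟩ := Groth.Agent.H28Unirat.exists_prodIso S n
  let j : Q₀ ⟶ Groth.Agent.H28Unirat.A S n := Over.homMk V₀.ι rfl
  let J : Q₀ ⊗ Red.Ga S ⟶ Groth.Agent.H28Unirat.A S (n + 1) := (j ▷ Red.Ga S) ≫ ε.hom
  haveI : IsOpenImmersion (j ▷ Red.Ga S).left := by
    haveI hj : IsOpenImmersion j.left := inferInstanceAs (IsOpenImmersion V₀.ι)
    rw [Over.whiskerRight_left]
    exact MorphismProperty.pullbackMap (P := @IsOpenImmersion) hj (inferInstanceAs (IsOpenImmersion (𝟙 _)))
      (Over.w j).symm (Category.id_comp _).symm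
  haveI : IsIso ε.hom.left := inferInstanceAs (IsIso ((Over.forget _).map ε.hom))
  haveI : IsOpenImmersion J.left := inferInstanceAs (IsOpenImmersion ((j ▷ Red.Ga S).left ≫ ε.hom.left))
  let θ := J.left.isoOpensRange
  refine ⟨n + 1, J.left.opensRange, θ.inv ≫ Φ.left, ?_, ?_, ?_⟩
  · obtain ⟨z', hz'⟩ : Nonempty Q₀.left ∧ True := ⟨⟨⟨z, hzV₀⟩⟩, trivial⟩
    let o : 𝟙_ (Over S) ⟶ Red.Ga S := η[Red.Ga S]
    let y : (Q₀ ⊗ Red.Ga S).left := (lift (𝟙 Q₀) (toUnit Q₀ ≫ o)).left z'.some
    exact ⟨J.left y, ⟨y, rfl⟩⟩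
  · exact hΦd.comp θ.inv.surjective.denseRange Φ.left.continuous
  · rw [Category.assoc, Over.w Φ, Iso.inv_comp_eq, ← Category.assoc, Scheme.Hom.isoOpensRange_hom_ι]
    exact (Over.w J).symm

end Groth.Agent.S20000
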