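import Groth.Statements.S20004
import Groth.Agent.H23Wild.AutCount
import Groth.Agent.H23Wild.ExtendMain

set_option autoImplicit false
universe u v w
open WildQuot

namespace Groth.Agent.S20004

/-- Let `A` be a complete regular local ring of Krull dimension at least `2` and prime characteristic
`p`; let `k` be a field with `k → A` mapping onto the residue field, such that `k` has no Galois
extension of degree `p`; let `G` be a group of order `p` acting on `A` by `k`-algebra automorphisms,
ramified precisely at the origin (for every non-maximal prime `P`, the inertia subgroup of `P` is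
trivial). Let `R` be a `k`-algebra with an injective structure map `R → A` whose image is fixed by
`G` (so `R ⊆ A^G`), with `A` finite over `R`. Galois extensions of fraction fields are expressed
through automorphism counts: since `A` and `A^G` are normal domains finite over `R`,
`Frac(A^G)/Frac(R)` is Galois exactly when `p` times the number of `k`-algebra automorphisms of
`A^G` fixing the image of `R` equals the rank `[Frac A : Frac R]` of `A` over `R`, and
`Frac(A)/Frac(R)` is Galois exactly when the number of `R`-algebra automorphisms of `A` equals that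
rank. The row: the first equality implies the second. (The published statement assumes `R ⊆ A^G`
finite with `Frac(A^G)/Frac(R)` Galois and concludes that `Frac(A)/Frac(R)` is Galois; here `R` is
taken to contain `k`, as the norm subrings of the source do.) -/
theorem result
    (p : ℕ) [Fact p.Prime] (A : Type u) [CommRing A] [IsRegularLocalRing A] [CharP A p]
    [IsAdicComplete (IsLocalRing.maximalIdeal A) A] (hdim : 2 ≤ ringKrullDim A)
    (k : Type v) [Field k] [Algebra k A]
    (hk : Function.Surjective (IsLocalRing.residue A ∘ algebraMap k A))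
    (hkp : ∀ (L : Type v) [Field L] [Algebra k L], IsGalois k L → Module.finrank k L ≠ p)
    (G : Type w) [Group G] [Finite G] [MulSemiringAction G A] (hcard : Nat.card G = p)
    [SMulCommClass G k A]
    (hram : ∀ P : Ideal A, P.IsPrime → P ≠ IsLocalRing.maximalIdeal A → P.inertia G = ⊥)
    (R : Type v) [CommRing R] [Algebra k R] [Algebra R A] [IsScalarTower k R A] [Module.Finite R A]
    (hRinj : Function.Injective (algebraMap R A))
    (hRG : ∀ (σ : G) (r : R), σ • algebraMap R A r = algebraMap R A r)
    (hgal : p * Nat.card {φ : FixedPoints.subalgebra k A G ≃ₐ[k] FixedPoints.subalgebra k A G //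
        ∀ b : FixedPoints.subalgebra k A G, (b : A) ∈ Set.range (algebraMap R A) → (φ b : A) = b} =
      Module.finrank R A) :
    Nat.card (A ≃ₐ[R] A) = Module.finrank R A := by
  haveI : Fintype G := Fintype.ofFinite G
  haveI : IsDomain A := Groth.Agent.H4Depth.isDomain_of_isRegularLocalRing _
  haveI : IsDomain R := hRinj.isDomain (algebraMap R A)
  have hGk : ∀ (σ : G) (c : k), σ • algebraMap k A c = algebraMap k A c := fun σ c => smul_algebraMap σ c
  obtain ⟨hfin, hle⟩ := Groth.Agent.H23Wild.card_algEquiv_le_finrank R A hRinj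
  refine le_antisymm hle ?_
  rw [← hgal, ← hcard, ← Nat.card_prod]
  have hext : ∀ φ : {φ : FixedPoints.subalgebra k A G ≃ₐ[k] FixedPoints.subalgebra k A G //
      ∀ b : FixedPoints.subalgebra k A G, (b : A) ∈ Set.range (algebraMap R A) → (φ b : A) = b},
      ∃ ψ : A ≃+* A, ∀ b : FixedPoints.subalgebra k A G, ψ b = (φ.1 b : A) := by
    intro φ
    let φB : FixedPoints.subring A G ≃+* FixedPoints.subring A G :=
      { toFun := fun b => ⟨(φ.1 ⟨b.1, b.2⟩ : A), (φ.1 ⟨b.1, b.2⟩).2⟩
        invFun := fun b => ⟨(φ.1.symm ⟨b.1, b.2⟩ : A), (φ.1.symm ⟨b.1, b.2⟩).2⟩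
        left_inv := fun b => Subtype.ext (congrArg Subtype.val (φ.1.symm_apply_apply ⟨b.1, b.2⟩))
        right_inv := fun b => Subtype.ext (congrArg Subtype.val (φ.1.apply_symm_apply ⟨b.1, b.2⟩))
        map_mul' := fun a b => Subtype.ext (congrArg Subtype.val (map_mul φ.1 ⟨a.1, a.2⟩ ⟨b.1, b.2⟩))
        map_add' := fun a b => Subtype.ext (congrArg Subtype.val (map_add φ.1 ⟨a.1, a.2⟩ ⟨b.1, b.2⟩)) }
    obtain ⟨Ψ, hΨ⟩ := Groth.Agent.H23Wild.Extend.exists_lift_auto p hdim hk hkp
      (by rw [← Nat.card_eq_fintype_card, hcard]) hGk hram φB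
    exact ⟨Ψ, fun b => hΨ ⟨b.1, b.2⟩⟩
  choose ψ hψ using hext
  have hcomm : ∀ (x : G × {φ : FixedPoints.subalgebra k A G ≃ₐ[k] FixedPoints.subalgebra k A G //
      ∀ b : FixedPoints.subalgebra k A G, (b : A) ∈ Set.range (algebraMap R A) → (φ b : A) = b}) (r : R),
      ((MulSemiringAction.toRingEquiv G A x.1).trans (ψ x.2)) (algebraMap R A r) = algebraMap R A r := by
    intro x r
    show ψ x.2 (x.1 • algebraMap R A r) = algebraMap R A r
    rw [hRG]
    exact (hψ x.2 ⟨algebraMap R A r, fun g => hRG g r⟩).trans (x.2.2 ⟨algebraMap R A r, fun g => hRG g r⟩ ⟨r, rfl⟩)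
  refine Nat.card_le_card_of_injective (fun x => AlgEquiv.ofRingEquiv (hcomm x)) fun x y h => ?_
  have h' : ∀ a : A, ψ x.2 (x.1 • a) = ψ y.2 (y.1 • a) := fun a => DFunLike.congr_fun h a
  have h2 : x.2 = y.2 := Subtype.ext (AlgEquiv.ext fun b => Subtype.ext (by
    have := h' b.1
    rwa [b.2 x.1, b.2 y.1, hψ, hψ] at this))
  refine Prod.ext ?_ h2
  have h3 : ∀ a : A, x.1 • a = y.1 • a := fun a => (ψ y.2).injective (by
    have := h' a
    rwa [h2] at this)
  haveI : FaithfulSMul G A := ⟨fun {g g'} hg => by
    have hne : (⊥ : Ideal A) ≠ IsLocalRing.maximalIdeal A := fun hbot => by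
      have h4 := IsLocalRing.maximalIdeal_height_eq_ringKrullDim (R := A)
      rw [← hbot, Ideal.height_bot] at h4
      rw [← h4] at hdim
      exact absurd hdim (by decide)
    have hmem : g'⁻¹ * g ∈ (⊥ : Ideal A).inertia G := fun a => by
      show (g'⁻¹ * g) • a - a ∈ (⊥ : Ideal A)
      rw [mul_smul, hg, inv_smul_smul, sub_self]
      exact zero_mem _
    rw [hram ⊥ Ideal.isPrime_bot hne, Subgroup.mem_bot, inv_mul_eq_one] at hmem
    exact hmem.symm⟩
  exact FaithfulSMul.eq_of_smul_eq_smul h3

end Groth.Agent.S20004
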