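import Groth.Statements.S20006
import Groth.Agent.H28Pinch.CohFlat

set_option autoImplicit false
universe u
open Pinch

namespace Groth.Agent.S20006

open CategoryTheory AlgebraicGeometry in
/-- Let Y be an affine scheme whose ring of functions R = Γ(Y, O_Y) is a Dedekind domain, f : X → Y a
proper flat morphism, t : T → Y a finite morphism, ξ : Z → T a finite faithfully flat morphism with
ξ ≫ t finite, and ι : Z → X a closed immersion over Y; assume every point of Y has an affine open
neighbourhood U together with an affine open V of X inside f⁻¹(U) containing the image under ι of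
the part of Z over U, and that over every affine open U of Y the cokernel of the map from functions
on t⁻¹(U) to functions on the part of Z over U is a projective module over the functions on U; let X
→ P ← T be a push-out of ι and ξ in the category of schemes and p : P → Y the induced morphism.
Suppose that f is cohomologically flat in dimension zero, rendered over the affine base as: for
every commutative ring A and ring map φ : R → A, with Spec A → Y the corresponding morphism, the
square formed by R → Γ(X, O_X), φ, Γ(X, O_X) → Γ(X ×_Y Spec A, O) and A → Γ(X ×_Y Spec A, O) is a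
push-out of commutative rings (Γ(X_A, O) = Γ(X, O) ⊗_R A). Suppose moreover that R → Γ(P, O_P) is an
isomorphism (p_* O_P = O_Y) and that Γ(X, O_X) is an étale R-algebra. Then p is cohomologically flat
in dimension zero in the same sense. (The published statement is over an arbitrary Dedekind scheme Y
with the same local hypotheses; this row takes Y affine so that cohomological flatness can be
written through global sections.) -/
theorem result {X Y T Z : Scheme.{u}} [IsAffine Y]
    (hR : IsDedekindDomain Γ(Y, ⊤))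
    (f : X ⟶ Y) (t : T ⟶ Y) (ξ : Z ⟶ T) (ι : Z ⟶ X)
    [IsProper f] [Flat f] [IsFinite t] [IsFinite (ξ ≫ t)] [IsClosedImmersion ι] (hsq : ι ≫ f = ξ ≫ t)
    (hstd : ∀ y : Y, ∃ U : Y.Opens, IsAffineOpen U ∧ y ∈ U ∧ ∃ V : X.Opens, IsAffineOpen V ∧
      V ≤ f ⁻¹ᵁ U ∧ ∀ z : Z, (ξ ≫ t).base z ∈ U → ι.base z ∈ V)
    [IsFinite ξ] [Flat ξ] [Surjective ξ]
    {P : Scheme.{u}} (a : X ⟶ P) (b : T ⟶ P) (hP : IsPushout ι ξ a b)
    (hv : ∀ U : Y.affineOpens, @Pinch.CokerProjective Γ(Y, U) Γ(Z, (ξ ≫ t) ⁻¹ᵁ U) Γ(T, t ⁻¹ᵁ U) _ _ _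
      ((ξ ≫ t).app U).hom.toAlgebra (ξ.app (t ⁻¹ᵁ U)).hom)
    (p : P ⟶ Y) (hap : a ≫ p = f) (hbp : b ≫ p = t)
    (hcf : ∀ (A : Type u) [CommRing A] (φ : Γ(Y, ⊤) →+* A),
      IsPushout f.appTop (CommRingCat.ofHom φ)
        (Limits.pullback.fst f (Spec.map (CommRingCat.ofHom φ) ≫ Y.isoSpec.inv)).appTop
        ((Scheme.ΓSpecIso (CommRingCat.of A)).inv ≫
          (Limits.pullback.snd f (Spec.map (CommRingCat.ofHom φ) ≫ Y.isoSpec.inv)).appTop))
    (hpO : IsIso p.appTop)
    (het : @Algebra.Etale Γ(Y, ⊤) Γ(X, ⊤) _ _ f.appTop.hom.toAlgebra)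
    (A : Type u) [CommRing A] (φ : Γ(Y, ⊤) →+* A) :
    IsPushout p.appTop (CommRingCat.ofHom φ)
      (Limits.pullback.fst p (Spec.map (CommRingCat.ofHom φ) ≫ Y.isoSpec.inv)).appTop
      ((Scheme.ΓSpecIso (CommRingCat.of A)).inv ≫
        (Limits.pullback.snd p (Spec.map (CommRingCat.ofHom φ) ≫ Y.isoSpec.inv)).appTop) := by
  exact Groth.Agent.H28Pinch.isPushout_appTop_pinching hR f t ξ ι hsq hstd a b hP hv p hap hbp hcf
    hpO het A φ

end Groth.Agent.S20006
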