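import Groth.Statements.S2001
import Groth.Agent.H9Hens.GlueFlat
-- import your own Groth.Agent.* helpers here

set_option autoImplicit false
universe u
open TensorProduct
open EtAlg

namespace Groth.Agent.S2001

open scoped TensorProduct

/-- Let (R -> R', f) be a glueing pair and M, N R-modules glueable for it. Given an R'-linear map φ' :
R' ⊗_R M -> R' ⊗_R N and an R-linear map φ₁ : M_f -> N_f which induce the same map into (R' ⊗_R N)_f
on elements of M, there is a unique R-linear map ψ : M -> N whose base change to R' is φ' and whose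
localization is φ₁. -/
theorem result (R R' : Type u) [CommRing R] [CommRing R'] [Algebra R R'] (f : R)
    (hRR : EtGlue.IsGlueingPair R R' f) (M N : Type u) [AddCommGroup M] [Module R M] [AddCommGroup N] [Module R N]
    (hM : EtGlue.IsGlueable R R' f M) (hN : EtGlue.IsGlueable R R' f N)
    (φ' : R' ⊗[R] M →ₗ[R'] R' ⊗[R] N)
    (φ₁ : LocalizedModule (Submonoid.powers f) M →ₗ[R] LocalizedModule (Submonoid.powers f) N)
    (hc : ∀ m : M, EtGlue.locOfTensor R R' f N (φ' ((1 : R') ⊗ₜ[R] m)) =
      EtGlue.tensorOfLoc R R' f N (φ₁ (LocalizedModule.mkLinearMap (Submonoid.powers f) M m))) :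
    ∃! ψ : M →ₗ[R] N, ψ.baseChange R' = φ' ∧
      IsLocalizedModule.map (Submonoid.powers f) (LocalizedModule.mkLinearMap (Submonoid.powers f) M)
        (LocalizedModule.mkLinearMap (Submonoid.powers f) N) ψ = φ₁ := by
  classical
  let LM := LocalizedModule.mkLinearMap (Submonoid.powers f) M
  let LN := LocalizedModule.mkLinearMap (Submonoid.powers f) N
  choose ψ hψ1 hψ2 using fun m : M => hN.2 (φ' ((1 : R') ⊗ₜ[R] m)) (φ₁ (LM m)) (hc m)
  have hext : ∀ a b : N, (1 : R') ⊗ₜ[R] a = (1 : R') ⊗ₜ[R] b → LN a = LN b → a = b :=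
    fun a b h1 h2 => hN.1 (Prod.ext h1 h2)
  let Ψ : M →ₗ[R] N :=
    { toFun := ψ
      map_add' := fun a b => hext _ _
        (by rw [TensorProduct.tmul_add, hψ1, hψ1, hψ1, ← map_add, ← TensorProduct.tmul_add])
        (by simp only [LN, map_add, hψ2])
      map_smul' := fun r a => hext _ _
        (by rw [RingHom.id_apply, TensorProduct.tmul_smul, hψ1, hψ1, TensorProduct.tmul_smul,
          LinearMap.map_smul_of_tower])
        (by simp only [LN, RingHom.id_apply, map_smul, hψ2]) }
  refine ⟨Ψ, ⟨?_, ?_⟩, fun χ hχ => LinearMap.ext fun m => hext _ _ ?_ ?_⟩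
  · refine TensorProduct.AlgebraTensorModule.ext fun r m => ?_
    rw [LinearMap.baseChange_tmul, show r ⊗ₜ[R] m = r • ((1 : R') ⊗ₜ[R] m) by
      rw [TensorProduct.smul_tmul', smul_eq_mul, mul_one], map_smul]
    show r ⊗ₜ[R] ψ m = r • φ' (1 ⊗ₜ m)
    rw [← hψ1, TensorProduct.smul_tmul', smul_eq_mul, mul_one]
  · refine IsLocalizedModule.ext (Submonoid.powers f) LM
      (fun x => IsLocalizedModule.map_units LN x) (LinearMap.ext fun m => ?_)
    rw [LinearMap.comp_apply, LinearMap.comp_apply, IsLocalizedModule.map_apply]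
    exact hψ2 m
  · show (1 : R') ⊗ₜ[R] χ m = (1 : R') ⊗ₜ[R] ψ m
    rw [hψ1, ← hχ.1, LinearMap.baseChange_tmul]
  · show LN (χ m) = LN (ψ m)
    rw [hψ2, ← hχ.2, IsLocalizedModule.map_apply]

end Groth.Agent.S2001
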