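import Groth.Statements.S20010
import Mathlib.AlgebraicGeometry.AffineTransitionLimit

set_option autoImplicit false
universe u
open CategoryTheory CategoryTheory.Limits AlgebraicGeometry TopologicalSpace
open ModPair

namespace Groth.Agent.S20010

theorem over_core {J : Type u} [SmallCategory J] [IsCofiltered J]
    (D : J ⥤ Scheme.{u}) (c : Cone D) (hc : IsLimit c)
    [∀ {i j} (f : i ⟶ j), IsAffineHom (D.map f)] [∀ i, CompactSpace (D.obj i)]
    {ι : Type u} (O : ι → c.pt.Opens) (hO : ∀ a, IsCompact (O a : Set c.pt))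
    (hcov : ∀ x : c.pt, ∃ a, x ∈ O a) :
    ∃ (i : J) (n : ℕ) (V : Fin n → (D.obj i).Opens) (a : Fin n → ι),
      (∀ j, IsCompact (V j : Set (D.obj i))) ∧ (∀ x : D.obj i, ∃ j, x ∈ V j) ∧
      ∀ j, c.π.app i ⁻¹ᵁ V j = O (a j) := by
  classical
  have := Scheme.compactSpace_of_isLimit D c hc
  obtain ⟨s, hs⟩ := isCompact_univ.elim_finite_subcover (fun a => (O a : Set c.pt))
    (fun a => (O a).isOpen) (fun x _ => Set.mem_iUnion.2 (hcov x))
  let a : Fin s.card → ι := fun k => (s.equivFin.symm k).1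
  choose j V hV hVO using fun k => exists_preimage_eq D c hc (O (a k)) (hO _)
  obtain ⟨i, fi⟩ := IsCofiltered.inf_objs_exists (Finset.univ.image j)
  replace fi : ∀ k, i ⟶ j k := fun k => (fi (by simp)).some
  obtain ⟨k, fki, e⟩ := exists_map_eq_top D c hc (⨆ m, D.map (fi m) ⁻¹ᵁ V m) (by
    simp_rw [Scheme.Hom.preimage_iSup, ← Scheme.Hom.comp_preimage, c.w, hVO]
    rw [eq_top_iff]
    intro x _
    obtain ⟨b, hb, hxb⟩ := Set.mem_iUnion₂.1 (hs (Set.mem_univ x))
    refine Opens.mem_iSup.2 ⟨s.equivFin ⟨b, hb⟩, ?_⟩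
    simpa [a] using hxb)
  refine ⟨k, s.card, fun m => D.map (fki ≫ fi m) ⁻¹ᵁ V m, a,
    fun m => QuasiCompact.isCompact_preimage (f := D.map (fki ≫ fi m)) _ (V m).2 (hV m), fun x => ?_, fun m => ?_⟩
  · have hx : x ∈ D.map fki ⁻¹ᵁ ⨆ m, D.map (fi m) ⁻¹ᵁ V m := by rw [e]; trivial
    obtain ⟨m, hm⟩ := Opens.mem_iSup.1 (show D.map fki x ∈ ⨆ m, D.map (fi m) ⁻¹ᵁ V m from hx)
    refine ⟨m, ?_⟩
    show D.map (fki ≫ fi m) x ∈ V m
    rw [D.map_comp, Scheme.Hom.comp_apply]
    exact hm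
  · rw [← Scheme.Hom.comp_preimage, c.w, hVO]

/-- Let (X_i) be a cofiltered system of schemes with affine transition morphisms such that X_{i₀} is
quasi-compact and quasi-separated for some index i₀, let X be its limit, and let {U_a ⟶ X} be a
family of quasi-compact open immersions (open immersions of finite presentation) which is jointly
surjective (a covering family for the Zariski class). Then the covering descends: for some index i
there is a finite jointly surjective family {V_j ⟶ X_i}_{j < n} of quasi-compact open immersions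
such that every V_j ×_{X_i} X is one of the U_a, i.e. for each j some U_{a_j} ⟶ X is the base change
of V_j ⟶ X_i along X ⟶ X_i. -/
theorem result {I : Type u} [SmallCategory I] [IsCofiltered I]
    (D : I ⥤ Scheme.{u}) (c : Cone D) (hc : IsLimit c)
    [∀ (i j : I) (t : i ⟶ j), IsAffineHom (D.map t)] (i₀ : I) [CompactSpace (D.obj i₀)]
    [QuasiSeparatedSpace (D.obj i₀)] {ι : Type u} (U : ι → Scheme.{u}) (u : ∀ a, U a ⟶ c.pt)
    [∀ a, IsOpenImmersion (u a)] [∀ a, QuasiCompact (u a)] (hcov : ∀ x : c.pt, ∃ (a : ι) (y : U a), (u a).base y = x) :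
    ∃ (i : I) (n : ℕ) (V : Fin n → Scheme.{u}) (v : ∀ j, V j ⟶ D.obj i) (a : Fin n → ι)
      (e : ∀ j, U (a j) ⟶ V j),
      (∀ j, IsOpenImmersion (v j) ∧ QuasiCompact (v j)) ∧
      (∀ x : D.obj i, ∃ (j : Fin n) (y : V j), (v j).base y = x) ∧
      ∀ j, IsPullback (e j) (u (a j)) (v j) (c.π.app i) := by
  haveI : ∀ {i j : I} (t : i ⟶ j), IsAffineHom (D.map t) := fun t => inferInstance
  let F := Over.forget i₀
  let hc' : IsLimit (c.whisker F) := (Functor.Initial.isLimitWhiskerEquiv F c).symm hc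
  haveI hA : ∀ {i j : Over i₀} (t : i ⟶ j), IsAffineHom ((F ⋙ D).map t) :=
    fun t => inferInstanceAs (IsAffineHom (D.map t.left))
  haveI hC : ∀ i : Over i₀, CompactSpace ((F ⋙ D).obj i) := fun i =>
    QuasiCompact.compactSpace_of_compactSpace (D.map i.hom)
  haveI hQ : ∀ i : Over i₀, QuasiSeparatedSpace (D.obj i.left) := fun i =>
    quasiSeparatedSpace_of_quasiSeparated (D.map i.hom)
  haveI : CompactSpace c.pt := Scheme.compactSpace_of_isLimit (F ⋙ D) (c.whisker F) hc'
  haveI : QuasiSeparatedSpace c.pt := by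
    haveI := isAffineHom_π_app D c hc i₀
    exact quasiSeparatedSpace_of_quasiSeparated (c.π.app i₀)
  haveI hU : ∀ a, CompactSpace (U a) := fun a => QuasiCompact.compactSpace_of_compactSpace (u a)
  obtain ⟨i, n, V', a, hV, hVcov, hVO⟩ := over_core (F ⋙ D) (c.whisker F) hc' (fun a => (u a).opensRange)
    (fun a => by simpa using isCompact_range (u a).continuous) (fun x => by
      obtain ⟨a, y, rfl⟩ := hcov x
      exact ⟨a, y, rfl⟩)
  obtain ⟨V, rfl⟩ : ∃ V : Fin n → (D.obj i.left).Opens, V = V' := ⟨V', rfl⟩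
  replace hVO : ∀ j, c.π.app i.left ⁻¹ᵁ V j = (u (a j)).opensRange := hVO
  have hsub : ∀ j, Set.range (u (a j) ≫ c.π.app i.left).base ⊆ Set.range (V j).ι.base := fun j => by
    rintro _ ⟨y, rfl⟩
    exact ⟨⟨c.π.app i.left (u (a j) y), (hVO j).ge (show u (a j) y ∈ (u (a j)).opensRange from ⟨y, rfl⟩)⟩, rfl⟩
  refine ⟨i.left, n, fun j => (V j).toScheme, fun j => (V j).ι, a,
    fun j => IsOpenImmersion.lift (V j).ι (u (a j) ≫ c.π.app i.left) (hsub j), fun j => ⟨inferInstance, ?_⟩,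
    fun x => ?_, fun j => ?_⟩
  · haveI : CompactSpace (V j).toScheme := isCompact_iff_compactSpace.1 (hV j)
    haveI : QuasiSeparatedSpace (D.obj i.left) := hQ i
    exact inferInstance
  · obtain ⟨j, hj⟩ := hVcov x
    exact ⟨j, ⟨x, hj⟩, rfl⟩
  · refine IsOpenImmersion.isPullback _ _ _ _ (IsOpenImmersion.lift_fac _ _ _).symm ?_
    rw [Scheme.Opens.opensRange_ι]
    exact hVO j

end Groth.Agent.S20010
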