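import Groth.Statements.S20011
import Groth.Agent.H26Lim.DescendCover
import Groth.Agent.H06EGA8.DescendSmooth

set_option autoImplicit false
universe u
open CategoryTheory CategoryTheory.Limits AlgebraicGeometry TopologicalSpace
open ModPair

namespace Groth.Agent.S20011

/-- Let (X_i) be a cofiltered system of schemes with affine transition morphisms such that X_{i₀} is
quasi-compact and quasi-separated for some index i₀, let X be its limit, and let {U_a ⟶ X} be a
family of étale morphisms of finite presentation (étale, quasi-compact and quasi-separated) which is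
jointly surjective (a covering family for the étale class). Then the covering descends: for some
index i there is a finite jointly surjective family {V_j ⟶ X_i}_{j < n} of étale morphisms of finite
presentation (étale, quasi-compact and quasi-separated) such that every V_j ×_{X_i} X is one of the
U_a, i.e. for each j some U_{a_j} ⟶ X is the base change of V_j ⟶ X_i along X ⟶ X_i. -/
theorem result {I : Type u} [SmallCategory I] [IsCofiltered I]
    (D : I ⥤ Scheme.{u}) (c : Cone D) (hc : IsLimit c)
    [∀ (i j : I) (t : i ⟶ j), IsAffineHom (D.map t)] (i₀ : I) [CompactSpace (D.obj i₀)]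
    [QuasiSeparatedSpace (D.obj i₀)] {ι : Type u} (U : ι → Scheme.{u}) (u : ∀ a, U a ⟶ c.pt)
    [∀ a, Etale (u a)] [∀ a, QuasiCompact (u a)] [∀ a, QuasiSeparated (u a)] (hcov : ∀ x : c.pt, ∃ (a : ι) (y : U a), (u a).base y = x) :
    ∃ (i : I) (n : ℕ) (V : Fin n → Scheme.{u}) (v : ∀ j, V j ⟶ D.obj i) (a : Fin n → ι)
      (e : ∀ j, U (a j) ⟶ V j),
      (∀ j, Etale (v j) ∧ QuasiCompact (v j) ∧ QuasiSeparated (v j)) ∧
      (∀ x : D.obj i, ∃ (j : Fin n) (y : V j), (v j).base y = x) ∧
      ∀ j, IsPullback (e j) (u (a j)) (v j) (c.π.app i) := by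
  obtain ⟨i, n, V, v, a, e, hv, hsurj, hpb⟩ := Groth.Agent.H26Lim.exists_descend_cover hc i₀ (P := @Etale)
    (fun f hf hl => haveI := hf; inferInstance)
    Groth.Agent.H06EGA8.descendsAffine_etale.descends U u inferInstance hcov
  exact ⟨i, n, V, v, a, e, fun j => ⟨(hv j).1, (hv j).2.2.1, (hv j).2.2.2⟩, hsurj, hpb⟩

end Groth.Agent.S20011
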