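import Groth.Statements.S20012
import Groth.Agent.H26MPA.Descend
import Groth.Agent.H26Lim.IdealLe
import Groth.Agent.H7Lim.Approx.OverSystem
import Groth.Agent.H7Lim.Approx.Eventually
import Groth.Agent.H7Lim.StructureMap
import Groth.Agent.H7Lim.Proper.ImageSystem

set_option autoImplicit false
universe u
open CategoryTheory CategoryTheory.Limits AlgebraicGeometry TopologicalSpace
open ModPair

namespace Groth.Agent.S20012

set_option backward.isDefEq.respectTransparency false
set_option backward.defeqAttrib.useBackward true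

open Groth.Agent.H7Lim Groth.Agent.H26MPA

/-- Let (S, I_S) be a modulus pair — a scheme with the quasi-coherent ideal sheaf of an effective
Cartier divisor — with S quasi-compact and quasi-separated, and let (X, I_X) be a modulus pair with
an ambient morphism f : X ⟶ S (modulus condition I_X ≤ I_S.comap f) which is quasi-compact and
separated. Then (X, I_X) is a limit of finite-type S-pairs along affine, minimal,
scheme-theoretically dominant transitions: there are a cofiltered system D of S-schemes with limit X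
(as an S-scheme) and quasi-coherent ideal sheaves J_i of effective Cartier divisors on its members
such that every X_i ⟶ S is separated and of finite type and satisfies the modulus condition J_i ≥
I_S pulled back, every transition morphism is affine, minimal (J_i is the pull-back of J_j) and
scheme-theoretically dominant, and I_X is the pull-back of J_i along the projection for every i.
(The full faithfulness half of the published statement is the hom formula for such systems and is
not part of this row.) -/
theorem result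
    {X S : Scheme.{u}} [CompactSpace S] [QuasiSeparatedSpace S]
    (IS : S.IdealSheafData) (hS : BlowUp.IsEffCartierIdeal IS)
    (IX : X.IdealSheafData) (hX : BlowUp.IsEffCartierIdeal IX)
    (f : X ⟶ S) [QuasiCompact f] [IsSeparated f] (hf : ModPair.IsAmbient IX IS f) :
    ∃ (I : Type u) (_ : SmallCategory I) (_ : IsCofiltered I) (D : I ⥤ Over S) (c : Cone D)
      (_ : IsLimit c) (e : c.pt ≅ Over.mk f) (J : ∀ i, (D.obj i).left.IdealSheafData),
      (∀ i, BlowUp.IsEffCartierIdeal (J i)) ∧
      (∀ i, LocallyOfFiniteType (D.obj i).hom ∧ QuasiCompact (D.obj i).hom ∧ IsSeparated (D.obj i).hom) ∧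
      (∀ i, ModPair.IsAmbient (J i) IS (D.obj i).hom) ∧
      (∀ (i j : I) (t : i ⟶ j), IsAffineHom (D.map t).left ∧ ModPair.IsMinimal (J i) (J j) (D.map t).left ∧
          IsSchemeTheoreticallyDominant (D.map t).left) ∧
      (∀ i, IX = (J i).comap (e.inv.left ≫ (c.π.app i).left)) := by
  haveI : CompactSpace X := QuasiCompact.compactSpace_of_compactSpace f
  haveI : QuasiSeparatedSpace X := quasiSeparatedSpace_of_quasiSeparated f
  obtain ⟨I₀, _, _, _, D, c, hc, hfin, haff, ⟨e⟩⟩ := Approx.exists_fp_system f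
  obtain ⟨hc'⟩ := Approx.nonempty_isLimit_forget hc
  let E := D ⋙ Over.forget S
  let cE : Cone E := (Over.forget S).mapCone c
  haveI : ∀ (i j : I₀ᵒᵖ) (a : i ⟶ j), IsAffineHom (E.map a) := haff
  haveI : ∀ i, CompactSpace (E.obj i) := fun i => (hfin i).2.2.2.1
  haveI : ∀ i, QuasiSeparatedSpace (E.obj i) := fun i => (hfin i).2.2.2.2
  haveI : ∀ i, LocallyOfFiniteType (D.obj i).hom := fun i => by haveI := (hfin i).1; infer_instance
  haveI : IsIso e.inv.left := inferInstanceAs (IsIso ((Over.forget S).map e.inv))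
  let k : X ⟶ cE.pt := e.inv.left
  haveI : IsIso k := inferInstanceAs (IsIso e.inv.left)
  haveI : IsClosedImmersion k := inferInstance
  haveI : Nonempty I₀ᵒᵖ := inferInstance
  let i₀ : I₀ᵒᵖ := Classical.arbitrary _
  haveI : IsSeparated (cE.π.app i₀ ≫ (D.obj i₀).hom) := by
    show IsSeparated ((c.π.app i₀).left ≫ (D.obj i₀).hom)
    rw [show (c.π.app i₀).left ≫ (D.obj i₀).hom = c.pt.hom from Over.w (c.π.app i₀),
      ← MorphismProperty.cancel_left_of_respectsIso @IsSeparated e.inv.left, Over.w e.inv]
    exact inferInstanceAs (IsSeparated f)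
  obtain ⟨i₁, hi₁⟩ := exists_isSeparated_structureMap (c := cE) hc' (fun i => (D.obj i).hom)
    (fun φ => Over.w (D.map φ)) i₀
  -- the system of scheme-theoretic images
  let G := imgDiagram (d := cE) k
  let cG : Cone G := imgCone k
  obtain ⟨hG⟩ := nonempty_isLimit_imgCone (d := cE) k hc'
  haveI : ∀ (i j : I₀ᵒᵖ) (a : i ⟶ j), IsAffineHom (G.map a) := fun i j a => isAffineHom_imgDiagram_map k a
  haveI : ∀ i, CompactSpace (G.obj i) := fun i =>
    QuasiCompact.compactSpace_of_compactSpace (imgι (d := cE) k i)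
  haveI : ∀ i, QuasiSeparatedSpace (G.obj i) := fun i =>
    quasiSeparatedSpace_of_quasiSeparated (imgι (d := cE) k i)
  haveI hdom : ∀ i, IsSchemeTheoreticallyDominant (cG.π.app i) := fun i => by
    refine ⟨?_⟩
    show (toImg k i).ker = ⊥
    rw [← comap_map_eq (imgι (d := cE) k i) (toImg k i).ker, ← Scheme.Hom.ker_comp, toImg_ι,
      comap_subschemeι_self]
  haveI : ∀ i, IsAffineHom (cG.π.app i) := fun i => isAffineHom_π_app G cG hG i
  obtain ⟨i₂, J₀, hJ₀fg, hJ₀⟩ := exists_idealSheaf_comap hG IX (fg_of_effCartier hX)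
  obtain ⟨i₃, φ₃, heff⟩ := exists_isEff_stage hG i₂ J₀ hJ₀fg (hJ₀ ▸ hX)
  let g : ∀ i, G.obj i ⟶ S := fun i => imgι (d := cE) k i ≫ (D.obj i).hom
  have hg : ∀ {i j : I₀ᵒᵖ} (a : i ⟶ j), G.map a ≫ g j = g i := fun {i j} a => by
    show G.map a ≫ imgι k j ≫ _ = _
    rw [reassoc_of% (imgDiagram_map_ι (d := cE) k a)]
    exact congrArg (imgι (d := cE) k i ≫ ·) (Over.w (D.map a))
  have hgπ : ∀ i, cG.π.app i ≫ g i = f := fun i => by
    show toImg k i ≫ imgι k i ≫ _ = _
    rw [reassoc_of% (toImg_ι (d := cE) k i)]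
    show e.inv.left ≫ (c.π.app i).left ≫ (D.obj i).hom = f
    rw [Over.w (c.π.app i)]
    exact Over.w e.inv
  obtain ⟨i₄, φ₄, hamb⟩ := Groth.Agent.H26Lim.exists_comap_le hG (J₀.comap (G.map φ₃)) (IS.comap (g i₃))
    (fun x => by
      obtain ⟨U, hxU, -⟩ := exists_affine_mem (show x ∈ (⊤ : (G.obj i₃).Opens) from trivial)
      exact ⟨U, hxU, fg_comap _ J₀ hJ₀fg U⟩)
    (by
      rw [← Scheme.IdealSheafData.comap_comp, ← Scheme.IdealSheafData.comap_comp, cG.w, hJ₀, hgπ]
      exact hf)
  obtain ⟨i₅, χ₁, χ₄, -⟩ := IsCofilteredOrEmpty.cone_objs i₁ i₄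
  let J : ∀ a : Over i₅, (G.obj a.left).IdealSheafData := fun a =>
    J₀.comap (G.map ((a.hom ≫ χ₄ ≫ φ₄) ≫ φ₃))
  let D' : Over i₅ ⥤ Over S :=
    { obj := fun a => Over.mk (g a.left)
      map := fun {a b} t => Over.homMk (G.map t.left) (hg t.left) }
  let a₀ : Over i₅ := Over.mk (𝟙 i₅)
  have hG' : IsLimit (cG.whisker (Over.forget i₅)) :=
    (Functor.Initial.isLimitWhiskerEquiv (Over.forget i₅) cG).symm hG
  let c' : Cone D' :=
    { pt := Over.mk f
      π :=
      { app := fun a => Over.homMk (cG.π.app a.left) (hgπ a.left)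
        naturality := fun a b t => by
          apply Over.OverMorphism.ext
          show 𝟙 _ ≫ cG.π.app b.left = cG.π.app a.left ≫ G.map t.left
          rw [Category.id_comp, cG.w] } }
  let pr : Cone D' → Cone (Over.forget i₅ ⋙ G) := fun T =>
    { pt := T.pt.left
      π :=
      { app := fun a => (T.π.app a).left
        naturality := fun a b t => by
          show 𝟙 _ ≫ _ = _
          rw [Category.id_comp]
          exact (congrArg (fun m => m.left) (T.w t)).symm } }
  let hc'' : IsLimit c' :=
    { lift := fun T => Over.homMk (hG'.lift (pr T)) (by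
        show hG'.lift (pr T) ≫ f = T.pt.hom
        rw [← hgπ a₀.left]
        have h := hG'.fac (pr T) a₀
        exact (Category.assoc _ _ _).symm.trans ((congrArg (· ≫ g a₀.left) h).trans (Over.w (T.π.app a₀))))
      fac := fun T a => Over.OverMorphism.ext (hG'.fac (pr T) a)
      uniq := fun T m hm => Over.OverMorphism.ext (hG'.uniq (pr T) m.left fun a =>
        congrArg (fun m => m.left) (hm a)) }
  refine ⟨Over i₅, inferInstance, inferInstance, D', c', hc'', Iso.refl _, J, fun a => heff _ _, fun a => ?_,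
    fun a => ?_, fun a b t => ⟨inferInstanceAs (IsAffineHom (G.map t.left)), ?_, ?_⟩, fun a => ?_⟩
  · haveI : IsClosedImmersion (imgι (d := cE) k a.left) := inferInstance
    haveI := hi₁ a.left (a.hom ≫ χ₁)
    haveI := (hfin a.left).2.1
    exact ⟨inferInstanceAs (LocallyOfFiniteType (imgι k a.left ≫ (D.obj a.left).hom)),
      inferInstanceAs (QuasiCompact (imgι k a.left ≫ (D.obj a.left).hom)),
      inferInstanceAs (IsSeparated (imgι k a.left ≫ (D.obj a.left).hom))⟩
  · show J₀.comap _ ≤ IS.comap (g a.left)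
    rw [G.map_comp, Scheme.IdealSheafData.comap_comp, ← hg ((a.hom ≫ χ₄) ≫ φ₄), Scheme.IdealSheafData.comap_comp]
    simp only [G.map_comp, Category.assoc, Scheme.IdealSheafData.comap_comp] at hamb ⊢
    exact Scheme.IdealSheafData.comap_mono _ (Scheme.IdealSheafData.comap_mono _ hamb)
  · show J₀.comap _ = (J₀.comap _).comap (G.map t.left)
    rw [← Scheme.IdealSheafData.comap_comp, ← G.map_comp]
    rw [← Over.w t]
    simp only [Category.assoc]
  · haveI := hdom a.left
    haveI := hdom b.left
    refine ⟨le_bot_iff.1 ?_⟩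
    refine (Scheme.Hom.le_ker_comp (cG.π.app a.left) (G.map t.left)).trans (le_of_eq ?_)
    rw [cG.w]
    exact (hdom b.left).ker_eq_bot
  · show IX = (J₀.comap _).comap (𝟙 X ≫ cG.π.app a.left)
    rw [Category.id_comp, ← Scheme.IdealSheafData.comap_comp, cG.w]
    exact hJ₀.symm

end Groth.Agent.S20012
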