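import Groth.Statements.S20014
import Groth.Agent.H25Norm.Sections
import Groth.Agent.S9821
import Mathlib

set_option autoImplicit false
universe u
open CategoryTheory CategoryTheory.Limits AlgebraicGeometry
open RatSing

namespace Groth.Agent.S20014

/-- Let k be a field, X an integral k-scheme which is separated and of finite type over k, and f : X̃ →
X a proper morphism of k-schemes which is birational — an isomorphism over some nonempty open subset
of X — and for which O_X → f_*O_X̃ is an isomorphism (Γ(V, O_X) → Γ(f⁻¹V, O_X̃) bijective for every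
open V of X). If X̃ is normal (every local ring an integrally closed domain), then X is normal. (In
the text this is the last clause of a lemma whose other hypotheses — X̃ Cohen–Macaulay, vanishing of
the higher direct images of O_X̃ and of the dualizing sheaf — and whose standing assumption that k
is perfect of positive characteristic play no role in this clause; they are omitted here.) -/
theorem result (k : Type u) [Field k]
    (X Xt : Scheme.{u}) [X.Over (Spec (CommRingCat.of k))] [Xt.Over (Spec (CommRingCat.of k))]
    [IsIntegral X] [IsSeparated (X ↘ Spec (CommRingCat.of k))]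
    [LocallyOfFiniteType (X ↘ Spec (CommRingCat.of k))] [QuasiCompact (X ↘ Spec (CommRingCat.of k))]
    (f : Xt ⟶ X) (hf : f ≫ (X ↘ Spec (CommRingCat.of k)) = Xt ↘ Spec (CommRingCat.of k)) [IsProper f]
    (U : X.Opens) (hU : (U : Set X).Nonempty) (hbir : IsIso (f ∣_ U))
    (hfib : ∀ V : X.Opens, IsIso (f.app V))
    (hXt : Pi1.IsNormalScheme Xt) : Pi1.IsNormalScheme X := by
  refine (Groth.Agent.S9821.result X).2 fun V _ hV => ?_
  haveI : LocallyOfFiniteType (Xt ↘ Spec (CommRingCat.of k)) := hf ▸ inferInstance
  haveI : IsLocallyNoetherian Xt := LocallyOfFiniteType.isLocallyNoetherian (Xt ↘ Spec (CommRingCat.of k))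
  let W : Xt.Opens := f ⁻¹ᵁ V
  haveI : CompactSpace (W : Scheme.{u}) :=
    isCompact_iff_compactSpace.1 (f.isCompact_preimage (U := V) hV.isCompact)
  haveI : IsLocallyNoetherian (W : Scheme.{u}) := LocallyOfFiniteType.isLocallyNoetherian W.ι
  haveI : AlgebraicGeometry.IsNoetherian (W : Scheme.{u}) := {}
  have hNW : ∀ t : (W : Scheme.{u}), IsDomain ((W : Scheme.{u}).presheaf.stalk t) ∧
      IsIntegrallyClosed ((W : Scheme.{u}).presheaf.stalk t) := fun t => by
    have e := (W.stalkIso t).commRingCatIsoToRingEquiv
    haveI : IsDomain (Xt.presheaf.stalk t.1) := (hXt t.1).1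
    haveI : IsIntegrallyClosed (Xt.presheaf.stalk t.1) := (hXt t.1).2
    exact ⟨e.toMulEquiv.isDomain _, IsIntegrallyClosed.of_equiv e.symm⟩
  haveI := hfib V
  let e : Γ(X, V) ≃+* Γ((W : Scheme.{u}), ⊤) :=
    (asIso (f.app V)).commRingCatIsoToRingEquiv.trans W.topIso.symm.commRingCatIsoToRingEquiv
  haveI : IsDomain Γ((W : Scheme.{u}), ⊤) := e.symm.toMulEquiv.isDomain _
  haveI := Groth.Agent.H25Norm.isIntegral_of_normal (W : Scheme.{u}) fun t => (hNW t).1
  haveI := Groth.Agent.H25Norm.isIntegrallyClosed_top (W : Scheme.{u}) fun t => (hNW t).2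
  exact IsIntegrallyClosed.of_equiv e.symm

end Groth.Agent.S20014
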