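import Groth.Statements.S20016
import Groth.Agent.H26ModPair.Basic
import Mathlib.RingTheory.Smooth.IntegralClosure

set_option autoImplicit false
universe u
open CategoryTheory AlgebraicGeometry TopologicalSpace Opposite
open ModPair

namespace Groth.Agent.S20016

open Groth.Agent.H26ModPair
open scoped TensorProduct

theorem ring_core {A B : Type*} [CommRing A] [CommRing B] [Algebra A B] [Algebra.Smooth A B] (a : A)
    (Aa : Type*) [CommRing Aa] [Algebra A Aa] [IsLocalization.Away a Aa]
    (hint : ∀ x : Aa, IsIntegral A x → x ∈ Set.range (algebraMap A Aa))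
    (Bb : Type*) [CommRing Bb] [Algebra B Bb] [IsLocalization.Away (algebraMap A B a) Bb]
    (x : Bb) (hx : IsIntegral B x) : x ∈ Set.range (algebraMap B Bb) := by
  haveI : IsLocalization (Algebra.algebraMapSubmonoid B (Submonoid.powers a)) (B ⊗[A] Aa) :=
    IsLocalization.tensor Aa (Submonoid.powers a)
  haveI : IsLocalization (Algebra.algebraMapSubmonoid B (Submonoid.powers a)) Bb := by
    rw [Algebra.algebraMapSubmonoid, Submonoid.map_powers]
    infer_instance
  let e : (B ⊗[A] Aa) ≃ₐ[B] Bb :=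
    IsLocalization.algEquiv (Algebra.algebraMapSubmonoid B (Submonoid.powers a)) _ _
  have h1 : IsIntegral B (e.symm x) := hx.map e.symm
  obtain ⟨y, hy⟩ := (TensorProduct.toIntegralClosure_bijective_of_smooth (R := A) (S := B) (B := Aa)).2
    ⟨e.symm x, h1⟩
  have key : ∀ y : B ⊗[A] integralClosure A Aa,
      ∃ b, algebraMap B (B ⊗[A] Aa) b = (TensorProduct.toIntegralClosure A B Aa y : B ⊗[A] Aa) := by
    intro y
    induction y using TensorProduct.induction_on with
    | zero => exact ⟨0, by simp⟩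
    | tmul s z =>
      obtain ⟨w, hw⟩ := hint z.1 z.2
      refine ⟨w • s, ?_⟩
      simp [TensorProduct.toIntegralClosure, ← hw, Algebra.TensorProduct.algebraMap_apply,
        Algebra.algebraMap_eq_smul_one, TensorProduct.smul_tmul]
      rw [Algebra.TensorProduct.one_def, TensorProduct.smul_tmul', smul_eq_mul, mul_one]
    | add u v hu hv =>
      obtain ⟨b, hb⟩ := hu
      obtain ⟨c, hc⟩ := hv
      exact ⟨b + c, by rw [map_add, hb, hc, map_add]; rfl⟩
  obtain ⟨b, hb⟩ := key y
  refine ⟨b, ?_⟩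
  rw [hy] at hb
  rw [← e.commutes, hb, AlgEquiv.apply_symm_apply]

theorem exists_eq_res {X : Scheme.{u}} {D : X.Opens} (hD : CInt.IsSchematicallyDense D) (V : X.Opens)
    (t : Γ(X, V ⊓ D))
    (hloc : ∀ x ∈ V, ∃ (W : X.Opens) (hW : W ≤ V), x ∈ W ∧ ∃ s : Γ(X, W),
      (X.presheaf.map (homOfLE (inf_le_left : W ⊓ D ≤ W)).op) s =
        (X.presheaf.map (homOfLE (inf_le_inf_right D hW : W ⊓ D ≤ V ⊓ D)).op) t) :
    t ∈ Set.range (X.presheaf.map (homOfLE (inf_le_left : V ⊓ D ≤ V)).op).hom := by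
  choose W hWV hxW s hs using fun x : V => hloc x.1 x.2
  obtain ⟨S, hS, -⟩ := TopCat.Sheaf.existsUnique_gluing' X.sheaf W V (fun x => homOfLE (hWV x))
    (fun x hx => Opens.mem_iSup.2 ⟨⟨x, hx⟩, hxW ⟨x, hx⟩⟩) s (fun x y => by
      refine hD (W x ⊓ W y) ?_
      have hx' := congrArg (X.presheaf.map (homOfLE (inf_le_inf_right D
        (inf_le_left : W x ⊓ W y ≤ W x))).op) (hs x)
      have hy' := congrArg (X.presheaf.map (homOfLE (inf_le_inf_right D
        (inf_le_right : W x ⊓ W y ≤ W y))).op) (hs y)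
      change X.presheaf.map _ (X.presheaf.map _ (s x)) = X.presheaf.map _ (X.presheaf.map _ (s y))
      simp only [← ConcreteCategory.comp_apply, ← Functor.map_comp] at hx' hy' ⊢
      exact hx'.trans hy'.symm)
  refine ⟨S, TopCat.Sheaf.eq_of_locally_eq' X.sheaf (fun x : V => W x ⊓ D) (V ⊓ D)
    (fun x => homOfLE (inf_le_inf_right D (hWV x)))
    (fun y hy => Opens.mem_iSup.2 ⟨⟨y, hy.1⟩, hxW ⟨y, hy.1⟩, hy.2⟩) _ _ (fun x => ?_)⟩
  have h1 := congrArg (X.presheaf.map (homOfLE (inf_le_left : W x ⊓ D ≤ W x)).op) (hS x)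
  rw [hs x] at h1
  change X.presheaf.map _ (X.presheaf.map _ S) = X.presheaf.map _ t
  replace h1 : X.presheaf.map (homOfLE (inf_le_left : W x ⊓ D ≤ W x)).op (X.presheaf.map (homOfLE (hWV x)).op S) = _ := h1
  simp only [← ConcreteCategory.comp_apply, ← Functor.map_comp] at h1 ⊢
  exact h1

/-- Let (X, I_X) be a modulus pair — a scheme X with the quasi-coherent ideal sheaf I_X of an effective
Cartier divisor — with interior X° (the open complement of the support of I_X), and suppose O_X is
integrally closed in O_{X°}: for every affine open U of X, every section of O_X over U ∩ X° which is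
integral over Γ(U, O_X) along the restriction map is the restriction of a section over U. Let g : Y
⟶ X be an étale morphism and Y° = g⁻¹(X°). Then O_Y is integrally closed in O_{Y°}: for every affine
open V of Y, every section of O_Y over V ∩ Y° which is integral over Γ(V, O_Y) along the restriction
map is the restriction of a section over V. (The text does not spell out the phrase integrally
closed for sheaves; it is rendered here affine-locally through restriction maps.) -/
theorem result {X Y : Scheme.{u}}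
    (IX : X.IdealSheafData) (hX : BlowUp.IsEffCartierIdeal IX)
    (hint : ∀ U ∈ X.affineOpens, ∀ s : Γ(X, U ⊓ ModPair.interior IX),
      (X.presheaf.map (homOfLE (inf_le_left : U ⊓ ModPair.interior IX ≤ U)).op).hom.IsIntegralElem s →
        s ∈ Set.range (X.presheaf.map (homOfLE (inf_le_left : U ⊓ ModPair.interior IX ≤ U)).op).hom)
    (g : Y ⟶ X) [Etale g] :
    ∀ V ∈ Y.affineOpens, ∀ t : Γ(Y, V ⊓ g ⁻¹ᵁ ModPair.interior IX),
      (Y.presheaf.map (homOfLE (inf_le_left : V ⊓ g ⁻¹ᵁ ModPair.interior IX ≤ V)).op).hom.IsIntegralElem t →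
        t ∈ Set.range (Y.presheaf.map (homOfLE (inf_le_left : V ⊓ g ⁻¹ᵁ ModPair.interior IX ≤ V)).op).hom := by
  intro V hV
  set D := ModPair.interior IX with hD
  intro t ht
  have hdense : CInt.IsSchematicallyDense (g ⁻¹ᵁ D) := by
    rw [hD, preimage_interior]
    exact dense_interior (H29Blow.isEffCartierIdeal_comap_of_flat hX g)
  refine exists_eq_res hdense V t fun y hy => ?_
  obtain ⟨U, hyU, -, a, -, hIU⟩ := H29Blow.exists_gen hX (x := g y) (W := ⊤) trivial
  obtain ⟨W, hW, hyW, hWle⟩ := exists_isAffineOpen_mem_and_subset (X := Y) (x := y) (U := V ⊓ g ⁻¹ᵁ U.1) ⟨hy, hyU⟩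
  have hWV : W ≤ V := fun z hz => (hWle hz).1
  have hWU : W ≤ g ⁻¹ᵁ U.1 := fun z hz => (hWle hz).2
  refine ⟨W, hWV, hyW, ?_⟩
  -- the interior over `U` is the basic open of `a`
  have hUD : U.1 ⊓ D = X.basicOpen a := by
    have h2 := IX.coe_support_inter U
    rw [hIU, Scheme.zeroLocus_span, Scheme.zeroLocus_singleton] at h2
    ext z
    have h3 := Set.ext_iff.1 h2 z
    exact ⟨fun hz => by_contra fun h => hz.2 (h3.2 ⟨h, hz.1⟩).1,
      fun hz => ⟨X.basicOpen_le a hz, fun h => (h3.1 ⟨h, X.basicOpen_le a hz⟩).1 hz⟩⟩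
  set φ := (g.appLE U.1 W hWU).hom with hφ
  have hWD : W ⊓ g ⁻¹ᵁ D = Y.basicOpen (φ a) := by
    rw [hφ, Scheme.basicOpen_appLE, ← hUD, Scheme.Hom.preimage_inf, ← inf_assoc, inf_eq_left.2 hWU]
  letI := φ.toAlgebra
  haveI : Algebra.Smooth Γ(X, U.1) Γ(Y, W) :=
    RingHom.smooth_algebraMap.1 (Smooth.smooth_appLE g U.2 hW hWU)
  haveI := U.2.isLocalization_basicOpen a
  haveI : IsLocalization.Away (algebraMap Γ(X, U.1) Γ(Y, W) a) Γ(Y, Y.basicOpen (φ a)) :=
    hW.isLocalization_basicOpen (φ a)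
  let eX := X.presheaf.map (homOfLE hUD.ge).op
  let eX' := X.presheaf.map (homOfLE hUD.le).op
  let eY := Y.presheaf.map (homOfLE hWD.ge).op
  let eY' := Y.presheaf.map (homOfLE hWD.le).op
  let t' : Γ(Y, Y.basicOpen (φ a)) := eY (Y.presheaf.map (homOfLE (inf_le_inf_right _ hWV)).op t)
  have hint' : ∀ x : Γ(X, X.basicOpen a), IsIntegral Γ(X, U.1) x →
      x ∈ Set.range (algebraMap Γ(X, U.1) Γ(X, X.basicOpen a)) := by
    intro x hx
    have h1 : (X.presheaf.map (homOfLE (inf_le_left : U.1 ⊓ D ≤ U.1)).op).hom.IsIntegralElem (eX' x) := by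
      obtain ⟨q, hqm, hq⟩ := hx
      refine ⟨q, hqm, ?_⟩
      have := congrArg eX'.hom hq
      rw [Polynomial.hom_eval₂, map_zero] at this
      refine (congrArg (fun f => Polynomial.eval₂ f (eX'.hom x) q) ?_).trans this
      ext z
      show _ = eX' (X.presheaf.map (homOfLE (X.basicOpen_le a)).op z)
      rw [← ConcreteCategory.comp_apply, ← Functor.map_comp]
      rfl
    obtain ⟨w, hw⟩ := hint U.1 U.2 _ h1
    refine ⟨w, ?_⟩
    have := congrArg eX hw
    rw [← ConcreteCategory.comp_apply, ← ConcreteCategory.comp_apply, ← Functor.map_comp,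
      ← Functor.map_comp] at this
    show X.presheaf.map (homOfLE (X.basicOpen_le a)).op w = x
    exact (Eq.trans rfl this).trans (ConcreteCategory.congr_hom (X.presheaf.map_id _) x)
  have ht' : IsIntegral Γ(Y, W) t' := by
    obtain ⟨q, hqm, hq⟩ := ht
    refine ⟨q.map (Y.presheaf.map (homOfLE hWV).op).hom, hqm.map _, ?_⟩
    rw [Polynomial.eval₂_map]
    have := congrArg (Y.presheaf.map (homOfLE (inf_le_inf_right (g ⁻¹ᵁ D) hWV)).op ≫ eY).hom hq
    rw [Polynomial.hom_eval₂, map_zero] at this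
    refine Eq.trans (congrArg (fun f => Polynomial.eval₂ f t' q) ?_) this
    ext z
    show Y.presheaf.map (homOfLE (Y.basicOpen_le (φ a))).op (Y.presheaf.map (homOfLE hWV).op z) = _
    simp only [eY, CommRingCat.hom_comp, RingHom.comp_apply, ← CommRingCat.comp_apply, ← Functor.map_comp]
    rfl
  obtain ⟨s, hs⟩ := ring_core a Γ(X, X.basicOpen a) hint' Γ(Y, Y.basicOpen (φ a)) t' ht'
  refine ⟨s, ?_⟩
  have := congrArg eY' hs
  change eY' (Y.presheaf.map (homOfLE (Y.basicOpen_le (φ a))).op s) = eY' (eY _) at this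
  rw [← ConcreteCategory.comp_apply, ← ConcreteCategory.comp_apply, ← ConcreteCategory.comp_apply,
    ← Functor.map_comp] at this
  simp only [eY, eY', ← Functor.map_comp] at this
  exact this

end Groth.Agent.S20016
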