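import Groth.Statements.S20018
import Mathlib.Algebra.Algebra.ZMod
import Mathlib.Algebra.Order.Ring.Star
import Mathlib.Data.Int.ConditionallyCompleteOrder
import Mathlib.Data.Int.Star
import Mathlib.Order.CompletePartialOrder
import Mathlib.RingTheory.Flat.EquationalCriterion
import Mathlib.RingTheory.KrullDimension.Regular
import Mathlib.RingTheory.PowerSeries.Trunc
import Mathlib.RingTheory.Regular.Flat
import Mathlib.RingTheory.WittVector.Basic
import Mathlib.Topology.Algebra.Module.ModuleTopology
import Mathlib.Topology.Instances.Matrix

set_option autoImplicit false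
open CAlg

namespace Groth.Agent.S20018

open PowerSeries in
/-- Product expansion of big Witt vectors: let R be a commutative ring and x ∈ 1 + tR[[t]] a formal
power series with constant term 1. Then x can be written uniquely as an infinite product ∏_{i ≥ 1}
(1 - α_i t^i) with α_i ∈ R. The infinite product is expressed through its truncations: there is a
unique sequence α : ℕ → R (α i standing for the coefficient attached to t^{i+1}) such that for every
N the series x and the finite product ∏_{i=0}^{N} (1 - α_i t^{i+1}) agree modulo t^{N+2}. -/
theorem result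
    (R : Type*) [CommRing R] (x : PowerSeries R) (hx : PowerSeries.constantCoeff x = 1) :
    ∃! α : ℕ → R, ∀ N : ℕ,
      PowerSeries.trunc (N + 2) x =
        PowerSeries.trunc (N + 2) (∏ i ∈ Finset.range (N + 1),
          (1 - PowerSeries.C (α i) * PowerSeries.X ^ (i + 1) : PowerSeries R)) := by
  classical
  open PowerSeries in
  let P : ℕ → PowerSeries R := fun N => Nat.rec (motive := fun _ => PowerSeries R) 1
    (fun N PN => PN * (1 - C (coeff (N + 1) PN - coeff (N + 1) x) * X ^ (N + 1))) N
  let a : ℕ → R := fun N => PowerSeries.coeff (N + 1) (P N) - PowerSeries.coeff (N + 1) x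
  let Q : (ℕ → R) → ℕ → PowerSeries R := fun β N => ∏ i ∈ Finset.range N,
          (1 - PowerSeries.C (β i) * PowerSeries.X ^ (i + 1) : PowerSeries R)
  have hP : ∀ N, P N = Q a N := by
    intro N
    induction N with
    | zero => simp [P, Q]
    | succ N ih =>
      show P N * _ = _
      simp only [Q] at ih ⊢
      rw [Finset.prod_range_succ, ← ih]
  have step : ∀ (β : ℕ → R) (N k : ℕ), k ≤ N + 1 →
      PowerSeries.coeff k (Q β (N + 1)) = PowerSeries.coeff k (Q β N) - (if k = N + 1 then β N else 0) := by
    intro β N k hk
    simp only [Q]
    rw [Finset.prod_range_succ, mul_sub, mul_one, map_sub]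
    congr 1
    rw [← mul_assoc, PowerSeries.coeff_mul_X_pow']
    by_cases h : k = N + 1
    · subst h
      simp [map_prod, PowerSeries.coeff_zero_eq_constantCoeff]
    · rw [if_neg h, if_neg (by omega)]
  have main : ∀ N k, k ≤ N → PowerSeries.coeff k (Q a N) = PowerSeries.coeff k x := by
    intro N
    induction N with
    | zero =>
      intro k hk
      obtain rfl : k = 0 := by omega
      simp [Q, PowerSeries.coeff_zero_eq_constantCoeff, hx]
    | succ N ih =>
      intro k hk
      rw [step a N k hk]
      by_cases h : k = N + 1
      · subst h; rw [if_pos rfl, ← hP]; simp only [a, sub_sub_cancel]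
      · rw [if_neg h, sub_zero, ih k (by omega)]
  refine ⟨a, fun N => ?_, fun β hβ => ?_⟩
  · ext k
    simp only [PowerSeries.coeff_trunc]
    split_ifs with h
    · exact (main (N + 1) k (by omega)).symm
    · rfl
  · funext N
    induction N using Nat.strong_induction_on with
    | _ N ih =>
      have e : Q β N = Q a N := Finset.prod_congr rfl fun i hi => by rw [ih i (Finset.mem_range.mp hi)]
      have h := congr(Polynomial.coeff $(hβ N) (N + 1))
      simp only [PowerSeries.coeff_trunc, if_pos (show N + 1 < N + 2 by omega)] at h
      rw [show (∏ i ∈ Finset.range (N + 1), (1 - PowerSeries.C (β i) * PowerSeries.X ^ (i + 1) : PowerSeries R)) = Q β (N + 1) from rfl,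
        step β N (N + 1) le_rfl, if_pos rfl, e, ← hP] at h
      simp only [a]; rw [h]; ring

end Groth.Agent.S20018
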