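import Groth.Statements.S20019
import Groth.Agent.H20RepRing.GLn
import Groth.Agent.H20RepRing.Finite
import Groth.Agent.H19Grp.HopfReduced
import Groth.Agent.S16480

set_option autoImplicit false
set_option maxHeartbeats 1000000
open scoped TensorProduct
open HopfRep

namespace Groth.Agent.S20019

theorem coeff_mem_of_charpoly_eq {k C B : Type} [CommRing k] [CommRing C] [CommRing B] [Algebra k C] [Algebra k B]
    (g : C →ₐ[k] B) (R : Subalgebra k B) {m : ℕ} (N : Matrix (Fin m) (Fin m) C) (p : Polynomial C) (c : C)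
    (h : N.charpoly = p * (Polynomial.X - Polynomial.C c)) (hp : ∀ j, g (p.coeff j) ∈ R) (hc : g c ∈ R) (j : ℕ) :
    (N.map g).charpoly.coeff j ∈ R := by
  rw [show (N.map g).charpoly = N.charpoly.map g.toRingHom from Matrix.charpoly_map N g.toRingHom, h,
    Polynomial.coeff_map, mul_sub, Polynomial.coeff_sub, map_sub]
  refine sub_mem ?_ ?_
  · cases j with
    | zero => rw [Polynomial.coeff_mul_X_zero, map_zero]; exact R.zero_mem
    | succ j => rw [Polynomial.coeff_mul_X]; exact hp j
  · rw [Polynomial.coeff_mul_C, map_mul]; exact mul_mem (hp j) hc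

/-- Let A → B be a surjective homomorphism of finitely generated commutative Hopf algebras over the
complex numbers, that is a closed embedding H ↪ G of complex linear algebraic groups with G = Spec A
and H = Spec B. For a comodule structure on the coordinate space ℂ^d with coaction e_i ↦ Σ_j e_j ⊗
a_ji, its character is Σ_i a_ii. Then R(H) is a finite R(G)-module, with the complexified
representation rings realised inside the coordinate rings by characters: there are finitely many
characters f_1, …, f_r of H-comodule structures such that every ℂ-linear combination of characters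
of H-comodule structures on coordinate spaces is of the form Σ_j s_j f_j with each s_j in the
ℂ-subalgebra of B generated by the images of the characters of G-comodule structures on coordinate
spaces. (The representation rings of the published statement are rendered through characters; over
the complex numbers the characters of pairwise non-isomorphic simple comodules are linearly
independent, so the span of characters is the complexified representation ring.) -/
theorem result
    (A B : Type) [CommRing A] [HopfAlgebra ℂ A] [Algebra.FiniteType ℂ A]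
    [CommRing B] [HopfAlgebra ℂ B] [Algebra.FiniteType ℂ B]
    (π : A →ₐc[ℂ] B) (hπ : Function.Surjective π) :
    ∃ F : Finset B,
      (↑F : Set B) ⊆ Set.range (fun p : (Σ d : ℕ, HopfRep.Comod ℂ B (Fin d → ℂ)) =>
          ∑ i : Fin p.1, TensorProduct.lid ℂ B (LinearMap.rTensor B (LinearMap.proj i)
            (@HopfRep.Comod.coact ℂ B _ _ _ _ (Fin p.1 → ℂ) _ _ p.2 (Pi.single i 1)))) ∧
      (↑(Submodule.span ℂ (Set.range (fun p : (Σ d : ℕ, HopfRep.Comod ℂ B (Fin d → ℂ)) =>
          ∑ i : Fin p.1, TensorProduct.lid ℂ B (LinearMap.rTensor B (LinearMap.proj i)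
            (@HopfRep.Comod.coact ℂ B _ _ _ _ (Fin p.1 → ℂ) _ _ p.2 (Pi.single i 1)))))) : Set B) ⊆
        ↑(Submodule.span (Algebra.adjoin ℂ (π '' Set.range (fun p : (Σ d : ℕ, HopfRep.Comod ℂ A (Fin d → ℂ)) =>
          ∑ i : Fin p.1, TensorProduct.lid ℂ A (LinearMap.rTensor A (LinearMap.proj i)
            (@HopfRep.Comod.coact ℂ A _ _ _ _ (Fin p.1 → ℂ) _ _ p.2 (Pi.single i 1))))))
          (↑F : Set B)) := by
  obtain ⟨n, φ, hφ⟩ := Groth.Agent.S16480.result ℂ A
  let f : CoordGrp.GLn n ℂ →ₐc[ℂ] B := π.comp φ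
  have hf : Function.Surjective f := hπ.comp hφ
  haveI : IsReduced B := Groth.Agent.H19Grp.HopfReduced.isReduced (k := ℂ) (A := B)
  let M : Matrix (Fin (n + 1)) (Fin (n + 1)) B := (Groth.Agent.H20RepRing.blockMat n ℂ).map f
  have hM : Groth.Agent.H20Comod.IsMat (k := ℂ) fun i j => M i j :=
    Groth.Agent.H20RepRing.isMat_map f Groth.Agent.H20RepRing.isMat_blockMat
  have hgen : Algebra.adjoin ℂ (Set.range fun p : Fin (n + 1) × Fin (n + 1) => M p.1 p.2) = ⊤ := by
    have h := AlgHom.map_adjoin (f : CoordGrp.GLn n ℂ →ₐ[ℂ] B)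
      (Set.range fun p : Fin (n + 1) × Fin (n + 1) => Groth.Agent.H20RepRing.blockMat n ℂ p.1 p.2)
    rw [Groth.Agent.H20RepRing.adjoin_blockMat, Algebra.map_top, (AlgHom.range_eq_top _).2 hf, ← Set.range_comp] at h
    exact h.symm
  let gens : Set B := Set.insert (f CoordGrp.GLn.Dinv)
    ((fun m : ℕ => f ((CoordGrp.GLn.genMat n ℂ).charpoly.coeff m)) '' Set.Iic n)
  have hfin : gens.Finite := ((Set.finite_Iic n).image _).insert _
  let R₀ : Subalgebra ℂ B := Algebra.adjoin ℂ gens
  have hR₀ : R₀.FG := Subalgebra.fg_def.2 ⟨gens, hfin, rfl⟩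
  have hD : f CoordGrp.GLn.Dinv ∈ R₀ := Algebra.subset_adjoin (Set.mem_insert _ _)
  haveI : Nontrivial (CoordGrp.GLn n ℂ) :=
    (Bialgebra.counitAlgHom ℂ (CoordGrp.GLn n ℂ)).toRingHom.domain_nontrivial
  have hc : ∀ m, f ((CoordGrp.GLn.genMat n ℂ).charpoly.coeff m) ∈ R₀ := fun m => by
    by_cases hm : m ≤ n
    · exact Algebra.subset_adjoin (Set.mem_insert_of_mem _ ⟨m, hm, rfl⟩)
    · rw [Polynomial.coeff_eq_zero_of_natDegree_lt (by rw [Matrix.charpoly_natDegree_eq_dim, Fintype.card_fin]; omega),
        map_zero]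
      exact R₀.zero_mem
  have hcoeff : ∀ m, M.charpoly.coeff m ∈ R₀ := fun m =>
    coeff_mem_of_charpoly_eq (f : CoordGrp.GLn n ℂ →ₐ[ℂ] B) R₀ (Groth.Agent.H20RepRing.blockMat n ℂ)
      (CoordGrp.GLn.genMat n ℂ).charpoly CoordGrp.GLn.Dinv Groth.Agent.H20RepRing.charpoly_blockMat hc hD m
  obtain ⟨F, hF, hS⟩ := Groth.Agent.H20RepRing.exists_finset_span (k := ℂ) M R₀ hR₀ hcoeff
    (Groth.Agent.H20Comod.charSet ℂ B) (by
      rintro _ ⟨⟨d, c⟩, rfl⟩
      letI := c
      let a : Matrix (Fin d) (Fin d) B := Matrix.of (Groth.Agent.H20Comod.matB B (Pi.basisFun ℂ (Fin d)))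
      obtain ⟨D, hD⟩ := Groth.Agent.H20RepRing.exists_bound_eigen M hM hgen a
        (Groth.Agent.H20Comod.isMat_matB (Pi.basisFun ℂ (Fin d)))
      classical
      refine ⟨Finset.univ.image fun t : Fin d → Fin (n + 1) → Fin (D + 1) =>
        ∑ i, ∏ l, (MvPolynomial.X l : MvPolynomial (Fin (n + 1)) ℂ) ^ (t i l : ℕ), fun h lam hlam => ?_⟩
      obtain ⟨μ, hμ⟩ := Groth.Agent.H20RepRing.exists_eigen_order (a.map h)
      have hroots : (a.map h).charpoly.roots = Finset.univ.val.map μ := by
        rw [hμ, ← Polynomial.roots_multiset_prod_X_sub_C (Finset.univ.val.map μ), Multiset.map_map]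
        rfl
      have he : ∀ i, ∃ e : Fin (n + 1) → ℕ, (∀ l, e l ≤ D) ∧ μ i = ∏ l, lam l ^ e l := fun i =>
        hD h lam hlam (μ i) (hroots ▸ Multiset.mem_map_of_mem μ (Finset.mem_univ i))
      choose e he1 he2 using he
      refine ⟨_, Finset.mem_image_of_mem _ (Finset.mem_univ fun i l => ⟨e i l, Nat.lt_succ_of_le (he1 i l)⟩), ?_⟩
      have htr : h (Groth.Agent.H20Comod.charOf ℂ B c) = (a.map h).trace := by
        rw [Groth.Agent.H20Comod.charOf_eq, map_sum]
        rfl
      rw [htr, Matrix.trace_eq_sum_roots_charpoly, hroots, map_sum]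
      refine Finset.sum_congr rfl fun i _ => ?_
      rw [map_prod]
      simpa using he2 i)
  refine ⟨F, hF, ?_⟩
  have hR : R₀ ≤ Algebra.adjoin ℂ (π '' Groth.Agent.H20Comod.charSet ℂ A) := by
    refine Algebra.adjoin_le ?_
    have hkey : ∀ x ∈ Submodule.span ℂ (Groth.Agent.H20Comod.charSet ℂ (CoordGrp.GLn n ℂ)),
        f x ∈ Algebra.adjoin ℂ (π '' Groth.Agent.H20Comod.charSet ℂ A) := fun x hx => by
      induction hx using Submodule.span_induction with
      | mem x hx => exact Algebra.subset_adjoin ⟨φ x, Groth.Agent.H20RepRing.map_charSet φ hx, rfl⟩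
      | zero => rw [map_zero]; exact zero_mem _
      | add x y _ _ hx hy => rw [map_add]; exact add_mem hx hy
      | smul r x _ hx => rw [map_smul]; exact Subalgebra.smul_mem _ hx r
    rintro _ (rfl | ⟨m, -, rfl⟩)
    · exact hkey _ (Submodule.subset_span Groth.Agent.H20RepRing.dinv_mem_charSet)
    · exact hkey _ (Groth.Agent.H20RepRing.charpoly_coeff_mem m)
  intro x hx
  induction hx using Submodule.span_induction with
  | mem y hy =>
    have hy' := hS hy
    revert hy'
    generalize y = z
    intro hz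
    induction hz using Submodule.span_induction with
    | mem z hz => exact Submodule.subset_span hz
    | zero => exact zero_mem _
    | add a b _ _ ha hb => exact add_mem ha hb
    | smul r a _ ha => exact Submodule.smul_mem _ (⟨r.1, hR r.2⟩ :
        ↥(Algebra.adjoin ℂ (π '' Groth.Agent.H20Comod.charSet ℂ A))) ha
  | zero => exact zero_mem _
  | add a b _ _ ha hb => exact add_mem ha hb
  | smul r a _ ha =>
    rw [← algebraMap_smul (↥(Algebra.adjoin ℂ (π '' Groth.Agent.H20Comod.charSet ℂ A))) r a]
    exact Submodule.smul_mem _ _ ha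

end Groth.Agent.S20019
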