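import Groth.Statements.S20022
import Mathlib.LinearAlgebra.FreeModule.Basic
import Mathlib.LinearAlgebra.Basis.VectorSpace

set_option autoImplicit false
universe u
open GrLC

namespace Groth.Agent.S20022

/-- Let R be a commutative ℤ-graded ring whose degree-zero subring R_0 is a field k and which is the
Laurent polynomial ring k[T, T⁻¹] on a homogeneous invertible element T of positive degree d, in the
following intrinsic sense: T is a unit lying in R_d, and every nonzero homogeneous element of degree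
n equals a·T^j for some a ∈ R_0 and some integer j with j·d = n (so R_n = 0 unless d divides n, and
R_{jd} = k·T^j). Then every graded R-module M is free in the graded sense: M has an R-basis
consisting of homogeneous elements. (The other case of condition (2), R = k concentrated in degree
zero, is not included.) -/
theorem result (R : Type u) [CommRing R]
    (𝒜 : ℤ → AddSubgroup R) [GradedRing 𝒜] (h0 : IsField (GrLC.deg0 𝒜))
    (d : ℤ) (hd : 0 < d) (T : Rˣ) (hT : (T : R) ∈ 𝒜 d)
    (hA : ∀ (n : ℤ) (x : R), x ∈ 𝒜 n → x ≠ 0 →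
      ∃ j : ℤ, ∃ a ∈ 𝒜 0, j * d = n ∧ x = a * ((T ^ j : Rˣ) : R))
    (M : Type u) [AddCommGroup M] [Module R M] (ℳ : ℤ → AddSubgroup M)
    [DirectSum.Decomposition ℳ] [SetLike.GradedSMul 𝒜 ℳ] :
    ∃ (κ : Type u) (b : Module.Basis κ R M), ∀ i : κ, SetLike.IsHomogeneousElem ℳ (b i) := by
  classical
  letI : Field (GrLC.deg0 𝒜) := h0.toField
  -- powers of `T` are homogeneous
  have hinv : ((T⁻¹ : Rˣ) : R) ∈ 𝒜 (-d) := by
    have h1 := DirectSum.coe_decompose_mul_add_of_left_mem 𝒜 (b := ((T⁻¹ : Rˣ) : R)) (j := -d) hT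
    rw [add_neg_cancel, Units.mul_inv, DirectSum.decompose_of_mem_same 𝒜 SetLike.GradedOne.one_mem] at h1
    have h2 : ((DirectSum.decompose 𝒜 ((T⁻¹ : Rˣ) : R) (-d) : 𝒜 (-d)) : R) = ((T⁻¹ : Rˣ) : R) :=
      T.isUnit.mul_left_cancel (h1.symm.trans T.mul_inv.symm)
    rw [← h2]
    exact SetLike.coe_mem _
  have hTz : ∀ j : ℤ, ((T ^ j : Rˣ) : R) ∈ 𝒜 (j * d) := by
    intro j
    induction j using Int.induction_on with
    | zero => simpa using SetLike.GradedOne.one_mem
    | succ i ih =>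
      rw [zpow_add_one, Units.val_mul, add_mul, one_mul]
      exact SetLike.GradedMul.mul_mem ih hT
    | pred i ih =>
      rw [zpow_sub_one, Units.val_mul, sub_mul, one_mul, sub_eq_add_neg]
      exact SetLike.GradedMul.mul_mem ih hinv
  -- a basis of each of the pieces in degrees `0, …, d - 1`
  let b : (r : Fin d.toNat) → Module.Basis (Module.Free.ChooseBasisIndex (GrLC.deg0 𝒜) (GrLC.comp 𝒜 ℳ (r : ℤ)))
      (GrLC.deg0 𝒜) (GrLC.comp 𝒜 ℳ (r : ℤ)) := fun r => Module.Free.chooseBasis _ _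
  let κ := Σ r : Fin d.toNat, Module.Free.ChooseBasisIndex (GrLC.deg0 𝒜) (GrLC.comp 𝒜 ℳ (r : ℤ))
  let v : κ → M := fun i => (b i.1 i.2 : M)
  have hv : ∀ i : κ, v i ∈ ℳ (i.1 : ℤ) := fun i => (b i.1 i.2).2
  have hsmul : ∀ (a : R) (r : ℤ) (m : M), m ∈ ℳ r → ∀ n : ℤ,
      (DirectSum.decompose ℳ (a • m) n : M) = (DirectSum.decompose 𝒜 a (n - r) : R) • m := by
    intro a r m hm n
    induction a using DirectSum.Decomposition.inductionOn 𝒜 with
    | zero => simp
    | @homogeneous i a =>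
      have ham : (a : R) • m ∈ ℳ (i + r) := SetLike.GradedSMul.smul_mem a.2 hm
      by_cases hi : i = n - r
      · subst hi
        rw [sub_add_cancel] at ham
        rw [DirectSum.decompose_of_mem_same ℳ ham, DirectSum.decompose_of_mem_same 𝒜 a.2]
      · rw [DirectSum.decompose_of_mem_ne ℳ ham (by omega), DirectSum.decompose_of_mem_ne 𝒜 a.2 hi, zero_smul]
    | add a a' ha ha' => simp [add_smul, ha, ha', DirectSum.decompose_add]
  have hspan : ⊤ ≤ Submodule.span R (Set.range v) := by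
    rintro x -
    induction x using DirectSum.Decomposition.inductionOn ℳ with
    | zero => exact zero_mem _
    | add x y hx hy => exact add_mem hx hy
    | @homogeneous n x =>
      have hr0 := Int.emod_nonneg n hd.ne'
      have hr1 := Int.emod_lt_of_pos n hd
      let r : Fin d.toNat := ⟨(n % d).toNat, by omega⟩
      have hdeg : (-(n / d)) * d + n = (r : ℤ) := by
        have := Int.emod_add_mul_ediv n d
        simp only [r, Int.toNat_of_nonneg hr0]
        linarith
      have hy : ((T ^ (-(n / d)) : Rˣ) : R) • (x : M) ∈ ℳ (r : ℤ) :=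
        hdeg ▸ SetLike.GradedSMul.smul_mem (hTz _) x.2
      have hx : (x : M) = ((T ^ (n / d) : Rˣ) : R) • (((T ^ (-(n / d)) : Rˣ) : R) • (x : M)) := by
        rw [smul_smul, ← Units.val_mul, ← zpow_add, add_neg_cancel, zpow_zero, Units.val_one, one_smul]
      rw [hx]
      refine Submodule.smul_mem _ _ ?_
      have hmem : (⟨_, hy⟩ : GrLC.comp 𝒜 ℳ (r : ℤ)) ∈ Submodule.span (GrLC.deg0 𝒜) (Set.range (b r)) :=
        (b r).span_eq.ge trivial
      have h2 := Submodule.apply_mem_span_image_of_mem_span ((GrLC.comp 𝒜 ℳ (r : ℤ)).subtype) hmem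
      refine Submodule.span_le_restrictScalars (GrLC.deg0 𝒜) R _ (Submodule.span_mono ?_ h2)
      rintro _ ⟨_, ⟨i, rfl⟩, rfl⟩
      exact ⟨⟨r, i⟩, rfl⟩
  have hli : LinearIndependent R v := by
    rw [linearIndependent_iff']
    intro s g hg i hi
    suffices h : ∀ e : ℤ, (DirectSum.decompose 𝒜 (g i) e : R) = 0 by
      rw [← DirectSum.sum_support_decompose 𝒜 (g i)]
      exact Finset.sum_eq_zero fun e _ => h e
    intro e
    by_cases hde : ∃ j : ℤ, j * d = e
    swap
    · by_contra hne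
      obtain ⟨j, a, ha, hj, -⟩ := hA e _ (SetLike.coe_mem _) hne
      exact hde ⟨j, hj⟩
    obtain ⟨j, rfl⟩ := hde
    obtain ⟨r0, i0⟩ := i
    let c : κ → R := fun k => (DirectSum.decompose 𝒜 (g k) (j * d) : R) * ((T ^ (-j) : Rˣ) : R)
    have hc : ∀ k, c k ∈ 𝒜 0 := fun k => by
      have := SetLike.GradedMul.mul_mem (A := 𝒜) (SetLike.coe_mem (DirectSum.decompose 𝒜 (g k) (j * d))) (hTz (-j))
      rwa [show j * d + -j * d = 0 by ring] at this
    have hsum : ∑ k ∈ s, (DirectSum.decompose 𝒜 (g k) ((r0 : ℤ) + j * d - (k.1 : ℤ)) : R) • v k = 0 := by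
      have h1 := congrArg (fun m => (DirectSum.decompose ℳ m ((r0 : ℤ) + j * d) : M)) hg
      simp only [DirectSum.decompose_sum, AddSubmonoidClass.coe_finsetSum,
        DirectSum.decompose_zero, DirectSum.zero_apply, ZeroMemClass.coe_zero] at h1
      rw [← h1, DFinsupp.finsetSum_apply, AddSubmonoidClass.coe_finsetSum]
      exact Finset.sum_congr rfl fun k _ => (hsmul (g k) _ _ (hv k) _).symm
    let t := s.preimage (Sigma.mk (β := fun r => Module.Free.ChooseBasisIndex (GrLC.deg0 𝒜) (GrLC.comp 𝒜 ℳ ((r : Fin d.toNat) : ℤ))) r0) sigma_mk_injective.injOn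
    have hsum' : ∑ k ∈ t, (⟨c ⟨r0, k⟩, hc _⟩ : GrLC.deg0 𝒜) • b r0 k = 0 := by
      apply Subtype.ext
      rw [Submodule.coe_sum, ZeroMemClass.coe_zero]
      have hf : ∑ k ∈ t, (c ⟨r0, k⟩) • v ⟨r0, k⟩ = ∑ k ∈ s, ((T ^ (-j) : Rˣ) : R) •
          ((DirectSum.decompose 𝒜 (g k) ((r0 : ℤ) + j * d - (k.1 : ℤ)) : R) • v k) := by
        rw [← Finset.sum_preimage (Sigma.mk r0) s sigma_mk_injective.injOn
          (fun k => ((T ^ (-j) : Rˣ) : R) • ((DirectSum.decompose 𝒜 (g k) ((r0 : ℤ) + j * d - (k.1 : ℤ)) : R) • v k))]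
        · refine Finset.sum_congr rfl fun k _ => ?_
          rw [smul_smul, mul_comm]
          simp only [c]
          have key : ∀ e, e = j * d → ((DirectSum.decompose 𝒜 (g ⟨r0, k⟩) e : 𝒜 e) : R) =
              (DirectSum.decompose 𝒜 (g ⟨r0, k⟩) (j * d) : R) := by rintro _ rfl; rfl
          rw [key ((r0 : ℤ) + j * d - (r0 : ℤ)) (by ring)]
        · intro k _ hk
          have hne : k.1 ≠ r0 := fun h => hk ⟨h ▸ k.2, by obtain ⟨k1, k2⟩ := k; subst h; rfl⟩
          have h0' : (DirectSum.decompose 𝒜 (g k) ((r0 : ℤ) + j * d - (k.1 : ℤ)) : R) = 0 := by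
            by_contra hne'
            obtain ⟨j', a, -, hj', -⟩ := hA _ _ (SetLike.coe_mem _) hne'
            have h3 : (j' - j) * d = (r0 : ℤ) - (k.1 : ℤ) := by linarith
            have h4 : (0 : ℤ) ≤ (k.1 : ℤ) ∧ ((k.1 : ℤ)) < d := ⟨Int.natCast_nonneg _, by have := k.1.2; omega⟩
            have h5 : (0 : ℤ) ≤ (r0 : ℤ) ∧ ((r0 : ℤ)) < d := ⟨Int.natCast_nonneg _, by have := r0.2; omega⟩
            rcases lt_trichotomy (j' - j) 0 with h | h | h
            · have : (j' - j) * d ≤ -1 * d := by gcongr; omega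
              omega
            · rw [h, zero_mul] at h3
              exact hne (Fin.ext (by omega))
            · have : 1 * d ≤ (j' - j) * d := by gcongr; omega
              omega
          rw [h0', zero_smul, smul_zero]
      rw [← Finset.smul_sum, hsum, smul_zero] at hf
      exact hf
    have := linearIndependent_iff'.1 (b r0).linearIndependent t _ hsum' i0 (Finset.mem_preimage.2 hi)
    have h2 : (DirectSum.decompose 𝒜 (g ⟨r0, i0⟩) (j * d) : R) * ((T ^ (-j) : Rˣ) : R) = 0 := congrArg Subtype.val this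
    exact (T ^ (-j)).isUnit.mul_left_eq_zero.1 h2
  exact ⟨κ, Module.Basis.mk hli hspan, fun i => ⟨(i.1 : ℤ), by rw [Module.Basis.mk_apply]; exact hv i⟩⟩

end Groth.Agent.S20022
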