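import Groth.Statements.S20025
import Groth.Agent.H20Quartic.Basic
import Mathlib.Logic.Equiv.Fintype
import Mathlib.LinearAlgebra.Matrix.NonsingularInverse
import Mathlib.Algebra.Polynomial.AlgebraMap
import Mathlib.Algebra.Polynomial.Derivative

set_option autoImplicit false
universe u
open InvQ

namespace Groth.Agent.S20025
open Groth.Agent.H20Quartic in
theorem exists_smul_eq {k : Type u} [Field k] {la mu : Fin 4 → k} {i j : Fin 4} (hi : la i ≠ 0 ∨ mu i ≠ 0)
    (hj : la j ≠ 0 ∨ mu j ≠ 0) (h : br la mu i j = 0) : ∃ t : k, t ≠ 0 ∧ la j = t * la i ∧ mu j = t * mu i := by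
  rw [br, sub_eq_zero] at h
  by_cases hl : la i = 0
  · have hm : mu i ≠ 0 := hi.resolve_left (not_not.2 hl)
    have hlj : la j = 0 := by
      rw [hl, zero_mul] at h
      exact (mul_eq_zero.1 h.symm).resolve_right hm
    refine ⟨mu j / mu i, div_ne_zero (hj.resolve_left (not_not.2 hlj)) hm, by rw [hl, hlj, mul_zero], ?_⟩
    rw [div_mul_cancel₀ _ hm]
  · have hlj : la j ≠ 0 := by
      intro hlj
      rw [hlj, zero_mul, mul_eq_zero] at h
      exact (hj.resolve_left (not_not.2 hlj)) (h.resolve_left hl)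
    refine ⟨la j / la i, div_ne_zero hlj hl, (div_mul_cancel₀ _ hl).symm, ?_⟩
    rw [div_mul_eq_mul_div, eq_div_iff hl]
    linear_combination h

open Groth.Agent.H20Quartic in
theorem subst_two {k : Type u} [Field k] (p q r s : k) :
    W4c6intromoduli.subst !![p, q; r, s] (MvPolynomial.X 0) = MvPolynomial.C p * MvPolynomial.X 0 + MvPolynomial.C q * MvPolynomial.X 1 ∧
    W4c6intromoduli.subst !![p, q; r, s] (MvPolynomial.X 1) = MvPolynomial.C r * MvPolynomial.X 0 + MvPolynomial.C s * MvPolynomial.X 1 := by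
  simp [W4c6intromoduli.subst, Fin.sum_univ_two]

open Groth.Agent.H20Quartic in
theorem exists_form {k : Type u} [Field k] {la mu : Fin 4 → k} (hne : ∀ i, la i ≠ 0 ∨ mu i ≠ 0)
    (h01 : br la mu 0 1 = 0) (h02 : br la mu 0 2 ≠ 0) (h03 : br la mu 0 3 ≠ 0) :
    (∃ (M : Matrix (Fin 2) (Fin 2) k) (c : k), IsUnit M.det ∧ c ≠ 0 ∧ W4c6intromoduli.binForm la mu =
        MvPolynomial.C c * W4c6intromoduli.subst M
          (MvPolynomial.X 0 ^ 2 * MvPolynomial.X 1 * (MvPolynomial.X 0 - MvPolynomial.X 1))) ∨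
      (∃ (M : Matrix (Fin 2) (Fin 2) k) (c : k), IsUnit M.det ∧ c ≠ 0 ∧ W4c6intromoduli.binForm la mu =
        MvPolynomial.C c * W4c6intromoduli.subst M (MvPolynomial.X 0 ^ 2 * MvPolynomial.X 1 ^ 2)) := by
  obtain ⟨t, ht, hl1, hm1⟩ := exists_smul_eq (hne 0) (hne 1) h01
  by_cases h23 : br la mu 2 3 = 0
  · obtain ⟨s, hs, hl3, hm3⟩ := exists_smul_eq (hne 2) (hne 3) h23
    refine Or.inr ⟨!![mu 0, -la 0; mu 2, -la 2], t * s, ?_, mul_ne_zero ht hs, ?_⟩
    · rw [isUnit_iff_ne_zero, Matrix.det_fin_two_of]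
      intro h; apply h02; rw [br]; linear_combination h
    · rw [W4c6intromoduli.binForm, Fin.prod_univ_four, hl1, hm1, hl3, hm3]
      simp only [map_mul, map_pow]
      rw [(subst_two _ _ _ _).1, (subst_two _ _ _ _).2]
      simp only [map_neg]
      ring
  · let a := br la mu 3 2
    let b := -br la mu 0 3
    have ha : a ≠ 0 := by simp only [a]; rw [br_symm]; exact neg_ne_zero.2 h23
    have hb : b ≠ 0 := neg_ne_zero.2 h03
    have hN : a ^ 2 * b * br la mu 0 2 ≠ 0 := mul_ne_zero (mul_ne_zero (pow_ne_zero _ ha) hb) h02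
    refine Or.inl ⟨!![a * mu 0, -(a * la 0); b * mu 2, -(b * la 2)], t / (a ^ 2 * b * br la mu 0 2), ?_,
      div_ne_zero ht hN, ?_⟩
    · rw [isUnit_iff_ne_zero, Matrix.det_fin_two_of]
      intro h
      refine mul_ne_zero (mul_ne_zero ha hb) h02 ?_
      rw [br]; linear_combination h
    · simp only [map_mul (W4c6intromoduli.subst _), map_pow (W4c6intromoduli.subst _), map_sub (W4c6intromoduli.subst _)]
      rw [(subst_two _ _ _ _).1, (subst_two _ _ _ _).2]
      have e : (MvPolynomial.C (a * mu 0) * MvPolynomial.X 0 + MvPolynomial.C (-(a * la 0)) * MvPolynomial.X 1 -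
          (MvPolynomial.C (b * mu 2) * MvPolynomial.X 0 + MvPolynomial.C (-(b * la 2)) * MvPolynomial.X 1) : MvPolynomial (Fin 2) k) =
          MvPolynomial.C (br la mu 0 2) * (MvPolynomial.C (mu 3) * MvPolynomial.X 0 - MvPolynomial.C (la 3) * MvPolynomial.X 1) := by
        simp only [a, b, br, map_mul, map_neg, map_sub]
        ring
      rw [e, W4c6intromoduli.binForm, Fin.prod_univ_four, hl1, hm1]
      obtain ⟨w, hw⟩ : ∃ w, t / (a ^ 2 * b * br la mu 0 2) = w := ⟨_, rfl⟩
      have ht' : t = w * (a ^ 2 * b * br la mu 0 2) := by rw [← hw, div_mul_cancel₀ _ hN]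
      rw [hw, ht']
      simp only [map_mul, map_neg, map_pow]
      ring

open Groth.Agent.H20Quartic in
theorem not_both {k : Type u} [Field k] {la mu : Fin 4 → k}
    {M N : Matrix (Fin 2) (Fin 2) k} {c e : k} (hM : IsUnit M.det) (hc : c ≠ 0)
    (h1 : W4c6intromoduli.binForm la mu = MvPolynomial.C c * W4c6intromoduli.subst M
          (MvPolynomial.X 0 ^ 2 * MvPolynomial.X 1 * (MvPolynomial.X 0 - MvPolynomial.X 1)))
    (h2 : W4c6intromoduli.binForm la mu = MvPolynomial.C e * W4c6intromoduli.subst N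
          (MvPolynomial.X 0 ^ 2 * MvPolynomial.X 1 ^ 2)) : False := by
  have h := congrArg (W4c6intromoduli.subst M⁻¹) (h1.symm.trans h2)
  have key : ∀ (a : k) (P : Matrix (Fin 2) (Fin 2) k) (f : MvPolynomial (Fin 2) k),
      W4c6intromoduli.subst M⁻¹ (MvPolynomial.C a * W4c6intromoduli.subst P f) =
        MvPolynomial.C a * W4c6intromoduli.subst (P * M⁻¹) f := fun a P f => by
    rw [map_mul, subst_subst]
    congr 1
    exact MvPolynomial.aeval_C _ _
  rw [key, key, Matrix.mul_nonsing_inv _ hM, subst_one, ← mul_pow, map_pow] at h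
  generalize W4c6intromoduli.subst (N * M⁻¹) (MvPolynomial.X 0 * MvPolynomial.X 1 : MvPolynomial (Fin 2) k) = g at h
  have h' := congrArg (MvPolynomial.aeval (R := k) ![(1 : Polynomial k), Polynomial.X]) h
  simp only [map_mul, map_pow, map_sub, MvPolynomial.aeval_C, MvPolynomial.aeval_X, Matrix.cons_val_zero,
    Matrix.cons_val_one, one_pow, one_mul, Polynomial.algebraMap_eq] at h'
  generalize (MvPolynomial.aeval ![(1 : Polynomial k), Polynomial.X]) g = G at h'
  have c0 := congrArg (Polynomial.eval 0) h'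
  have c1 := congrArg (fun p => Polynomial.eval 0 (Polynomial.derivative p)) h'
  simp [pow_two] at c0 c1
  rcases c0 with c0 | c0
  · rw [c0] at c1; simp at c1; exact hc c1
  · rw [c0] at c1; simp at c1; exact hc c1


/-- For the special fibre of the invariant map, over a field in which 2 and 3 are nonzero, consider a
split binary quartic f = ∏_i (μ_i X₀ − λ_i X₁) given by four root points (λ_i, μ_i) ≠ (0, 0), with a
double zero (vanishing discriminant ∏_{i<j} (λ_j μ_i − λ_i μ_j)²) and no triple zero (no three root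
points pairwise proportional); these are the forms of the fibre over the special point P³/Q² = 6 of
the invariant map. Then exactly one of the two alternatives holds: f is a nonzero constant times the
form X₀² X₁ (X₀ − X₁) after an invertible linear substitution of the variables, or f is a nonzero
constant times X₀² X₁² after such a substitution. So this fibre consists of exactly two classes
under substitutions and scalars (one double zero and two simple zeros; two double zeros). (The
dimensions of the two orbits and which of them is open or closed in the fibre are not part of this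
row; stated for split forms over any such field.) -/
theorem result (k : Type u) [Field k]
    (h2 : (2 : k) ≠ 0) (h3 : (3 : k) ≠ 0) (la mu : Fin 4 → k)
    (hne : ∀ i, la i ≠ 0 ∨ mu i ≠ 0) (hd : W4c6intromoduli.disc la mu = 0)
    (h3z : ∀ i j l : Fin 4, i ≠ j → j ≠ l → i ≠ l →
      ¬ (la i * mu j = la j * mu i ∧ la j * mu l = la l * mu j)) :
    Xor
      (∃ (M : Matrix (Fin 2) (Fin 2) k) (c : k), IsUnit M.det ∧ c ≠ 0 ∧
        W4c6intromoduli.binForm la mu =
          MvPolynomial.C c * W4c6intromoduli.subst M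
            (MvPolynomial.X 0 ^ 2 * MvPolynomial.X 1 * (MvPolynomial.X 0 - MvPolynomial.X 1)))
      (∃ (M : Matrix (Fin 2) (Fin 2) k) (c : k), IsUnit M.det ∧ c ≠ 0 ∧
        W4c6intromoduli.binForm la mu =
          MvPolynomial.C c * W4c6intromoduli.subst M
            (MvPolynomial.X 0 ^ 2 * MvPolynomial.X 1 ^ 2)) := by
  classical
  obtain ⟨a, b, hab, hbr⟩ : ∃ a b : Fin 4, a ≠ b ∧ Groth.Agent.H20Quartic.br la mu a b = 0 := by
    rw [W4c6intromoduli.disc, Finset.prod_eq_zero_iff] at hd
    obtain ⟨⟨a, b⟩, hab, h⟩ := hd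
    refine ⟨a, b, (Finset.mem_filter.1 hab).2.ne, ?_⟩
    have h' := (pow_eq_zero_iff two_ne_zero).1 h
    rw [Groth.Agent.H20Quartic.br]; linear_combination -h'
  obtain ⟨σ, hσ⟩ := Equiv.Perm.exists_extending_pair (![0, 1] : Fin 2 → Fin 4) ![a, b] (by decide)
    (by intro x y; fin_cases x <;> fin_cases y <;> simp [hab, Ne.symm hab])
  have hσ0 : σ 0 = a := hσ 0
  have hσ1 : σ 1 = b := hσ 1
  have h01 : Groth.Agent.H20Quartic.br (la ∘ σ) (mu ∘ σ) 0 1 = 0 := by
    simpa [Groth.Agent.H20Quartic.br, hσ0, hσ1] using hbr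
  have hnot : ∀ m : Fin 4, m ≠ 0 → m ≠ 1 → Groth.Agent.H20Quartic.br (la ∘ σ) (mu ∘ σ) 0 m ≠ 0 := by
    intro m hm0 hm1 h
    refine h3z (σ 1) (σ 0) (σ m) (σ.injective.ne (by decide)) (σ.injective.ne hm0.symm) (σ.injective.ne hm1.symm) ⟨?_, ?_⟩
    · exact (sub_eq_zero.1 h01).symm
    · exact sub_eq_zero.1 h
  have hex := exists_form (la := la ∘ σ) (mu := mu ∘ σ) (fun i => hne _) h01 (hnot 2 (by decide) (by decide))
    (hnot 3 (by decide) (by decide))
  rw [Groth.Agent.H20Quartic.binForm_perm] at hex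
  rcases hex with h | h
  · exact Or.inl ⟨h, fun ⟨N, e, _, _, h2'⟩ => by
      obtain ⟨M, c, hM, hc, h1⟩ := h
      exact not_both hM hc h1 h2'⟩
  · exact Or.inr ⟨h, fun ⟨M, c, hM, hc, h1⟩ => by
      obtain ⟨N, e, _, _, h2'⟩ := h
      exact not_both hM hc h1 h2'⟩

end Groth.Agent.S20025
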