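import Groth.Statements.S20027
import Groth.Agent.H4Ver.Type
import Groth.Agent.H4KS.Poly
import Groth.Agent.H3CAlg.FormsDim
import Groth.Agent.H02CA.GorFlat
import Groth.Agent.S18644

set_option autoImplicit false
universe u
open GrLC

namespace Groth.Agent.S20027

/-- Let k be a field, s ≥ 1, d ≥ 1, and R = k[X_1, …, X_s] graded with every variable in degree 1.
Present the Veronese subring R^(d) = ⊕_j R_{jd} as a commutative ring R' with an injective ring
homomorphism φ : R' → R whose image is the set of polynomials whose homogeneous components in all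
degrees not divisible by d are zero, and let m' be the maximal ideal of R' that is the preimage of
the ideal of polynomials with zero constant term (the irrelevant ideal of R^(d)). Let n be the least
integer such that n ≥ s and d divides n. Then the type of R^(d), namely the Bass number μ_s(m', R')
= dim over the residue field of Ext^s over the local ring R'_{m'} from its residue field to R'_{m'}
(here s = dim R'), equals the binomial coefficient (n − 1 choose s − 1). -/
theorem result (k : Type u) [Field k] (s d : ℕ) (hs : 1 ≤ s)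
    (hd : 1 ≤ d) (R' : Type u) [CommRing R'] (φ : R' →+* MvPolynomial (Fin s) k)
    (hφ : Function.Injective φ)
    (hrange : ∀ p : MvPolynomial (Fin s) k, p ∈ φ.range ↔
      ∀ j : ℕ, ¬ d ∣ j → MvPolynomial.homogeneousComponent j p = 0)
    (m' : Ideal R') [m'.IsMaximal]
    (hm' : m' = Ideal.comap φ (RingHom.ker (MvPolynomial.constantCoeff : MvPolynomial (Fin s) k →+* k)))
    (n : ℕ) (hsn : s ≤ n) (hdn : d ∣ n) (hmin : ∀ n' : ℕ, s ≤ n' → d ∣ n' → n ≤ n') :
    GrLC.bassNum m' R' s = (Nat.choose (n - 1) (s - 1) : ℕ∞) := by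
  open Groth.Agent Groth.Agent.H4KS in
  letI : GradedAlgebra (MvPolynomial.weightedHomogeneousSubmodule k (fun _ : Fin s => (1 : ℤ))) :=
    MvPolynomial.weightedGradedAlgebra k (fun _ : Fin s => (1 : ℤ))
  let R := MvPolynomial (Fin s) k
  let P := MvPolynomial.weightedHomogeneousSubmodule k (fun _ : Fin s => (1 : ℤ))
  let G : ℤ → AddSubgroup R := addGr P
  haveI : LocCoh.IsGorensteinRing R := H02CA.GorFlat.isGorensteinRing_of_isRegularRing _
  haveI : LocCoh.IsCohenMacaulayRing R := poly_cm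
  haveI : IsNoetherianRing R := inferInstance
  have hneg : ∀ i : ℤ, i < 0 → P i = ⊥ := poly_neg
  have hzero : P 0 = Submodule.span k {(1 : R)} := poly_zero
  have hpos : ∀ i : ℤ, i < 0 → G i = ⊥ := H4GD.addGr_hpos hneg
  have hF : IsField (GrLC.deg0 G) := isField_deg0 hzero
  have hcomp : ∀ (g : ℤ) (x : R) (e : Fin s →₀ ℕ),
      MvPolynomial.coeff e (H4Gr.proj G g x) = if (e.degree : ℤ) = g then MvPolynomial.coeff e x else 0 := by
    intro g x e
    induction x using H4Gr.induction G with
    | zero => simp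
    | add a b ha hb =>
      rw [map_add, MvPolynomial.coeff_add, ha, hb, MvPolynomial.coeff_add]
      split_ifs <;> simp
    | hom i x hx =>
      have hx' : MvPolynomial.IsWeightedHomogeneous (fun _ : Fin s => (1 : ℤ)) x i := hx
      by_cases hc : MvPolynomial.coeff e x = 0
      · rw [hc, ite_self]
        by_cases hi : i = g
        · subst hi; rw [H4Gr.proj_same hx, hc]
        · rw [H4Gr.proj_ne hx hi, MvPolynomial.coeff_zero]
      · have h := hx' hc
        rw [weight_one] at h
        by_cases hi : i = g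
        · subst hi; rw [H4Gr.proj_same hx, if_pos h]
        · rw [H4Gr.proj_ne hx hi, MvPolynomial.coeff_zero, if_neg fun e' => hi (h.symm.trans e')]
  have hrange' : ∀ p : R, p ∈ φ.range ↔ p ∈ H4Ver.verSet G d := by
    intro p
    rw [hrange, H4Ver.mem_verSet]
    constructor
    · intro h g hg
      refine MvPolynomial.ext _ _ fun e => ?_
      rw [hcomp, MvPolynomial.coeff_zero]
      split_ifs with he
      · subst he
        have := congrArg (MvPolynomial.coeff e) (h e.degree fun hh => hg (Int.natCast_dvd_natCast.2 hh))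
        rw [MvPolynomial.coeff_homogeneousComponent, if_pos rfl, MvPolynomial.coeff_zero] at this
        exact this
      · rfl
    · intro h j hj
      refine MvPolynomial.ext _ _ fun e => ?_
      rw [MvPolynomial.coeff_homogeneousComponent, MvPolynomial.coeff_zero]
      split_ifs with he
      · subst he
        have := congrArg (MvPolynomial.coeff e) (h (e.degree : ℤ) fun hh => hj (Int.natCast_dvd_natCast.1 hh))
        rw [hcomp, if_pos rfl, MvPolynomial.coeff_zero] at this
        exact this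
      · rfl
  let G' : ℤ → AddSubgroup R' := fun j => (G (j * d)).comap (φ : R' →+ R)
  have hdz : (d : ℤ) ≠ 0 := by exact_mod_cast (show d ≠ 0 by omega)
  have hmem : ∀ (j : ℤ) (x : R), x ∈ G (j * d) → ∃ b ∈ G' j, φ b = x := fun j x hx => by
    obtain ⟨b, hb⟩ := (hrange' x).2 (H4Ver.mem_verSet_of_mem G d (dvd_mul_left _ j) hx)
    exact ⟨b, show φ b ∈ G (j * d) by rw [hb]; exact hx, hb⟩
  have hpre : ∀ (j : ℤ) (b : R'), ∃ c : R', φ c = H4Gr.proj G (j * d) (φ b) := fun j b => by
    obtain ⟨c, -, hc⟩ := hmem j _ (H4Gr.proj_mem G (j * d) (φ b))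
    exact ⟨c, hc⟩
  choose π hπ using hpre
  have hint : DirectSum.IsInternal G' := by
    refine H4Gr.isInternal_of _ (fun j => AddMonoidHom.mk' (π j) fun a b => hφ (by
      rw [map_add, hπ, hπ, hπ, map_add, map_add])) (fun j b => ?_) (fun j b hb i => hφ ?_) fun b => ?_
    · show φ (π j b) ∈ G (j * d); rw [hπ]; exact H4Gr.proj_mem G _ _
    · show φ (π i b) = _
      rw [hπ]
      by_cases h : j = i
      · subst h; rw [if_pos rfl, H4Gr.proj_same (show φ b ∈ G (j * d) from hb)]
      · rw [if_neg h, H4Gr.proj_ne (show φ b ∈ G (j * d) from hb) (fun e => h (mul_right_cancel₀ hdz e)), map_zero]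
    · have hv := (hrange' (φ b)).1 ⟨b, rfl⟩
      obtain ⟨t, ht, -⟩ := H4Gr.exists_sum_proj G (φ b)
      have : ∀ i ∈ t, ∃ c ∈ ⨆ j, G' j, φ c = H4Gr.proj G i (φ b) := fun i _ => by
        by_cases hi : (d : ℤ) ∣ i
        · obtain ⟨j, rfl⟩ := hi
          obtain ⟨c, hc, hcb⟩ := hmem j _ (show H4Gr.proj G ((d : ℤ) * j) (φ b) ∈ G (j * d) by
            rw [mul_comm j]; exact H4Gr.proj_mem G _ _)
          exact ⟨c, AddSubgroup.mem_iSup_of_mem j hc, hcb⟩
        · exact ⟨0, zero_mem _, by rw [map_zero, hv i hi]⟩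
      choose! c hc hcb using this
      rw [show b = ∑ i ∈ t, c i from hφ (by rw [map_sum, Finset.sum_congr rfl hcb, ht])]
      exact sum_mem hc
  letI : GradedRing G' :=
    { hint.chooseDecomposition with
      one_mem := show φ 1 ∈ G (0 * d) by rw [map_one, zero_mul]; exact SetLike.GradedOne.one_mem
      mul_mem := fun i j a b ha hb => show φ (a * b) ∈ G ((i + j) * d) by
        rw [map_mul, add_mul]; exact SetLike.mul_mem_graded ha hb }
  have hv : H4Ver.IsVerRing d φ G' G := ⟨hd, hφ, fun j => le_antisymm (by rintro _ ⟨b, hb, rfl⟩; exact hb)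
    fun x hx => by obtain ⟨b, hb, hbx⟩ := hmem j x hx; exact ⟨b, hb, hbx⟩⟩
  let m : HomogeneousIdeal G := ⟨Ideal.span (⋃ i ∈ Set.Ioi (0 : ℤ), (G i : Set R)),
    Ideal.homogeneous_span _ _ fun x hx => by
      obtain ⟨i, -, hi⟩ := Set.mem_iUnion₂.1 hx
      exact ⟨i, hi⟩⟩
  let mI : HomogeneousIdeal G' := ⟨Ideal.span (⋃ j ∈ Set.Ioi (0 : ℤ), (G' j : Set R')),
    Ideal.homogeneous_span _ _ fun x hx => by
      obtain ⟨i, -, hi⟩ := Set.mem_iUnion₂.1 hx
      exact ⟨i, hi⟩⟩
  have hloc : GrLC.IsStarLocal G m := H4Ver.isStarLocal_of_span hpos hF rfl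
  obtain ⟨I⟩ := H4Gr.nonempty_starInjRes (𝒜 := G) (ℳ := G)
  let f : k →+* GrLC.deg0 G :=
    (algebraMap k R).codRestrict (GrLC.deg0 G) fun c => algebraMap_mem_deg0 c
  have hf : Function.Bijective f := bijective_deg0 hzero
  have hend : GrLC.endDeg (I.Hgr m s) = (((-(s : ℤ) : ℤ) : WithTop ℤ) : WithBot (WithTop ℤ)) :=
    (S18644.result R G hpos hF m hloc rfl poly_std s poly_dim I).2
      ⟨MvPolynomial.mapEquiv (Fin s) (RingEquiv.ofBijective f hf)⟩
  haveI : IsNoetherianRing R' := H4Ver.isNoetherianRing hv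
  haveI : Nontrivial R' := φ.domain_nontrivial
  have heq : m' = mI.toIdeal := by
    haveI : mI.toIdeal.IsMaximal := by
      refine H4Gr.isMaximal_of_isStarLocal (H4Ver.hpos' hv hpos) (H4Ver.isStarLocal_of_span (H4Ver.hpos' hv hpos) ?_ rfl)
      obtain ⟨σ, hσ⟩ := H4Ver.exists_deg0Hom hv
      let u : GrLC.deg0 G →+* GrLC.deg0 G' := σ.codRestrict _ fun c => show φ (σ c) ∈ G (0 * d) by
        rw [hσ, zero_mul]; exact c.2
      have hu : Function.Bijective u := ⟨fun a b h => Subtype.ext (by
          rw [← hσ a, ← hσ b]; exact congrArg φ (congrArg Subtype.val h)), fun b => ⟨⟨φ b, by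
          have : φ b ∈ G (0 * d) := b.2
          rwa [zero_mul] at this⟩, Subtype.ext (hφ (hσ _))⟩⟩
      exact (RingEquiv.ofBijective u hu).symm.toMulEquiv.isField hF
    refine (Ideal.IsMaximal.eq_of_le inferInstance (Ideal.IsPrime.ne_top inferInstance) ?_).symm
    show Ideal.span _ ≤ m'
    rw [Ideal.span_le]
    intro b hb
    obtain ⟨j, hj, hb⟩ := Set.mem_iUnion₂.1 hb
    rw [SetLike.mem_coe, hm', Ideal.mem_comap, RingHom.mem_ker, MvPolynomial.constantCoeff_eq]
    have hb' : MvPolynomial.IsWeightedHomogeneous (fun _ : Fin s => (1 : ℤ)) (φ b) (j * d) := hb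
    refine hb'.coeff_eq_zero 0 ?_
    rw [map_zero]
    exact (ne_of_lt (mul_pos (show (0 : ℤ) < j from hj) (by exact_mod_cast hd)))
  subst heq
  obtain ⟨j0, rfl⟩ := hdn
  have hlow : (-(s : ℤ)) + ((j0 : ℤ) - 1) * d < 0 := by
    by_contra h
    push Not at h
    have hj : 1 ≤ j0 := by
      rcases Nat.eq_zero_or_pos j0 with rfl | h'
      · omega
      · exact h'
    obtain ⟨j1, rfl⟩ : ∃ j1, j0 = j1 + 1 := ⟨j0 - 1, by omega⟩
    have := hmin (d * j1) (by push_cast at h; have : (s : ℤ) ≤ ((d * j1 : ℕ) : ℤ) := by push_cast; linarith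
                              exact_mod_cast this) (dvd_mul_right d j1)
    nlinarith
  have key := H4Ver.bassNum_ver hv hpos hF hloc (m := m) rfl poly_std poly_dim I hend (m' := mI) rfl
    (j₀ := (j0 : ℤ)) (by have : (s : ℤ) ≤ ((d * j0 : ℕ) : ℤ) := by exact_mod_cast hsn
                         push_cast at this; linarith) hlow
  rw [key]
  congr 1
  obtain ⟨r, rfl⟩ : ∃ r, s = r + 1 := ⟨s - 1, by omega⟩
  obtain ⟨ρ, hρ⟩ : ∃ ρ : ℕ, d * j0 = r + 1 + ρ := ⟨d * j0 - (r + 1), by omega⟩
  have hg : (-((r + 1 : ℕ) : ℤ)) + (j0 : ℤ) * d = (ρ : ℤ) := by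
    have : ((d * j0 : ℕ) : ℤ) = ((r + 1 + ρ : ℕ) : ℤ) := by rw [hρ]
    push_cast at this ⊢
    linarith
  rw [hg, hρ]
  have hpiece : ∀ x : R, x ∈ G (ρ : ℤ) ↔ x ∈ MvPolynomial.homogeneousSubmodule (Fin (r + 1)) k ρ := fun x => by
    show MvPolynomial.IsWeightedHomogeneous (fun _ : Fin (r + 1) => (1 : ℤ)) x (ρ : ℤ) ↔ MvPolynomial.IsHomogeneous x ρ
    constructor
    · intro h e he
      have := h he
      rw [weight_one] at this
      rw [show Finsupp.weight 1 e = e.degree from (Finsupp.degree_eq_weight_one (R := ℕ) ▸ rfl)]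
      exact_mod_cast this
    · intro h e he
      have := h he
      rw [show Finsupp.weight 1 e = e.degree from (Finsupp.degree_eq_weight_one (R := ℕ) ▸ rfl)] at this
      rw [weight_one]
      exact_mod_cast this
  let t : MvPolynomial.homogeneousSubmodule (Fin (r + 1)) k ρ ≃+ GrLC.comp G G (ρ : ℤ) :=
    { toFun := fun x => ⟨x.1, (hpiece x.1).2 x.2⟩
      invFun := fun x => ⟨x.1, (hpiece x.1).1 x.2⟩
      map_add' := fun _ _ => rfl }
  rw [show r + 1 + ρ - 1 = ρ + r by omega, show r + 1 - 1 = r by omega,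
    ← (H3CAlg.finrank_homogeneous (k := k) r ρ).2]
  exact (congrArg Cardinal.toNat (rank_eq_of_equiv_equiv (fun c => f c) t hf
    fun c x => Subtype.ext (Algebra.smul_def c x.1))).symm

end Groth.Agent.S20027
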