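import Groth.Statements.S2007
import Groth.Agent.H9Hens.GlueIdeal
-- import your own Groth.Agent.* helpers here

set_option autoImplicit false
universe u
open TensorProduct
open EtAlg

namespace Groth.Agent.S2007

open scoped TensorProduct

/-- Let R -> S be a flat ring map and I a finitely generated ideal of R such that R/I -> S/IS is
bijective. Let N be an R-module, M' an S-module and φ : M' -> S ⊗_R N an S-linear map whose kernel
and cokernel are I-power torsion (every element of the kernel, resp. of the target modulo the image,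
is killed by some power of I). Then there are an R-module M, an R-linear map ψ : M -> N and an
S-isomorphism S ⊗_R M ≅ M' identifying φ with the base change of ψ. -/
theorem result (R S : Type u) [CommRing R] [CommRing S] [Algebra R S] [Module.Flat R S] (I : Ideal R)
    (hI : I.FG) (hq : Function.Bijective (Ideal.quotientMap (I.map (algebraMap R S)) (algebraMap R S) Ideal.le_comap_map))
    (N : Type u) [AddCommGroup N] [Module R N] (M' : Type u) [AddCommGroup M'] [Module S M'] (φ : M' →ₗ[S] S ⊗[R] N)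
    (hker : ∀ x : M', φ x = 0 → ∃ n : ℕ, ∀ a ∈ I ^ n, algebraMap R S a • x = 0)
    (hcoker : ∀ y : S ⊗[R] N, ∃ n : ℕ, ∀ a ∈ I ^ n, algebraMap R S a • y ∈ LinearMap.range φ) :
    ∃ (M : Type u) (_ : AddCommGroup M) (_ : Module R M) (ψ : M →ₗ[R] N) (e : S ⊗[R] M ≃ₗ[S] M'),
      φ ∘ₗ e.toLinearMap = ψ.baseChange S := by
  have hc := H9Hens.Glue.cong_of_bijective hq
  letI : Module R M' := Module.compHom M' (algebraMap R S)
  haveI : IsScalarTower R S M' := IsScalarTower.of_algebraMap_smul fun _ _ => rfl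
  let φR : M' →ₗ[R] S ⊗[R] N := φ.restrictScalars R
  let M₀ : Submodule R (M' × N) := LinearMap.ker
    (φR ∘ₗ LinearMap.fst R M' N - TensorProduct.mk R S N 1 ∘ₗ LinearMap.snd R M' N)
  have hM₀ : ∀ x n, (x, n) ∈ M₀ ↔ φ x = (1 : S) ⊗ₜ[R] n := fun x n => by simp [M₀, φR, sub_eq_zero]
  let g : M₀ →ₗ[R] M' := LinearMap.fst R M' N ∘ₗ M₀.subtype
  let ψ : M₀ →ₗ[R] N := LinearMap.snd R M' N ∘ₗ M₀.subtype
  let E := LinearMap.liftBaseChange S g
  have hcomm : ∀ z, φ (E z) = ψ.baseChange S z := by
    intro z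
    induction z using TensorProduct.induction_on with
    | zero => simp
    | tmul s m =>
      rw [LinearMap.liftBaseChange_tmul, map_smul, LinearMap.baseChange_tmul,
        show φ (g m) = (1 : S) ⊗ₜ[R] ψ m from (hM₀ _ _).mp m.2, TensorProduct.smul_tmul', smul_eq_mul,
        mul_one]
    | add a b ha hb => rw [map_add, map_add, map_add, ha, hb]
  have hbij : Function.Bijective E := by
    refine ⟨(injective_iff_map_eq_zero E).mpr fun z hz => ?_, fun x => ?_⟩
    · have hz' : ψ.lTensor S z = 0 := by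
        have := hcomm z
        rw [hz, map_zero] at this
        exact this.symm
      obtain ⟨t, rfl⟩ := (Module.Flat.lTensor_exact S (N := ↥(LinearMap.ker ψ)) (f := (LinearMap.ker ψ).subtype) (g := ψ)
        (LinearMap.exact_subtype_ker_map ψ) z).mp hz'
      have htor : ∀ m : LinearMap.ker ψ, ∃ n : ℕ, ∀ a ∈ I ^ n, a • m = 0 := fun m => by
        have h0 : φ (g m.1) = 0 := by
          rw [show φ (g m.1) = (1 : S) ⊗ₜ[R] ψ m.1 from (hM₀ _ _).mp m.1.2, LinearMap.mem_ker.mp m.2,
            TensorProduct.tmul_zero]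
        obtain ⟨n, hn⟩ := hker _ h0
        refine ⟨n, fun a ha => Subtype.ext (Subtype.ext (Prod.ext (hn a ha) ?_))⟩
        show a • ψ m.1 = 0
        rw [LinearMap.mem_ker.mp m.2, smul_zero]
      obtain ⟨m, rfl⟩ := (H9Hens.Glue.bijective_mk_of_powTorsion (M := ↥(LinearMap.ker ψ)) hc htor).2 t
      have hgm : g m.1 = 0 := by simpa [E] using hz
      rw [show m = 0 from Subtype.ext (Subtype.ext (Prod.ext hgm (LinearMap.mem_ker.mp m.2)))]
      simp
    · have key : ∀ y : S ⊗[R] N, ∃ (n₀ : N) (u : S ⊗[R] M₀), y = (1 : S) ⊗ₜ[R] n₀ + φ (E u) := by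
        intro y
        induction y using TensorProduct.induction_on with
        | zero => exact ⟨0, 0, by simp⟩
        | tmul s n =>
          obtain ⟨k, hk⟩ := hcoker ((1 : S) ⊗ₜ[R] n)
          obtain ⟨r, hr⟩ := (H9Hens.Glue.cong_pow hc k).exists_sub s
          have hr' : s - algebraMap R S r ∈ (I ^ k) • (⊤ : Submodule R S) := by rwa [Ideal.smul_top_eq_map]
          suffices ∃ u : S ⊗[R] M₀, φ (E u) = (s - algebraMap R S r) ⊗ₜ[R] n by
            obtain ⟨u, hu⟩ := this
            refine ⟨r • n, u, ?_⟩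
            rw [hu, ← TensorProduct.smul_tmul, ← Algebra.algebraMap_eq_smul_one, ← TensorProduct.add_tmul,
              add_sub_cancel]
          refine Submodule.smul_induction_on hr' (fun a ha t _ => ?_) (fun a b ha hb => ?_)
          · obtain ⟨x, hx⟩ := hk a ha
            have hm : (x, a • n) ∈ M₀ := by
              rw [hM₀, hx, algebraMap_smul, TensorProduct.tmul_smul]
            refine ⟨t ⊗ₜ ⟨_, hm⟩, ?_⟩
            rw [hcomm, LinearMap.baseChange_tmul]
            show t ⊗ₜ[R] (a • n) = _
            rw [TensorProduct.smul_tmul]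
          · obtain ⟨u, hu⟩ := ha
            obtain ⟨v, hv⟩ := hb
            exact ⟨u + v, by rw [map_add, map_add, hu, hv, TensorProduct.add_tmul]⟩
        | add a b ha hb =>
          obtain ⟨n₁, u₁, rfl⟩ := ha
          obtain ⟨n₂, u₂, rfl⟩ := hb
          exact ⟨n₁ + n₂, u₁ + u₂, by rw [TensorProduct.tmul_add, map_add, map_add]; abel⟩
      obtain ⟨n₀, u, hu⟩ := key (φ x)
      have hm : (x - E u, n₀) ∈ M₀ := by rw [hM₀, map_sub, hu, add_sub_cancel_right]
      exact ⟨1 ⊗ₜ ⟨_, hm⟩ + u, by rw [map_add]; simp [E, g]⟩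
  exact ⟨M₀, inferInstance, inferInstance, ψ, LinearEquiv.ofBijective E hbij,
    LinearMap.ext hcomm⟩

end Groth.Agent.S2007
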