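import Groth.Statements.S2008
import Groth.Agent.H9Hens.GlueIdeal
import Mathlib.Algebra.Module.Torsion.Basic
import Mathlib.RingTheory.Flat.FaithfullyFlat.Algebra
import Mathlib.RingTheory.Flat.Localization
-- import your own Groth.Agent.* helpers here

set_option autoImplicit false
universe u
open TensorProduct
open EtAlg

namespace Groth.Agent.S2008

open scoped TensorProduct

/-- For a ring map R -> S and an ideal I of R the following are equivalent: (1) S is flat over R and
S/IS is faithfully flat over R/I; (2) S is flat over R and Spec(S/IS) -> Spec(R/I) is surjective;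
(3) S is flat over R and S ⊗_R M is nonzero for every nonzero R-module M killed by I; (4) S is flat
over R and S ⊗_R M is nonzero for every nonzero I-power torsion R-module M. (Faithfulness of base
change on these subcategories is stated as detection of nonzero objects, which is equivalent for an
exact functor.) -/
theorem result (R S : Type u) [CommRing R] [CommRing S] [Algebra R S] (I : Ideal R) :
    List.TFAE [
      Module.Flat R S ∧ Module.FaithfullyFlat (R ⧸ I) (S ⧸ I.map (algebraMap R S)),
      Module.Flat R S ∧ Function.Surjective (PrimeSpectrum.comap (Ideal.quotientMap (I.map (algebraMap R S)) (algebraMap R S) Ideal.le_comap_map)),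
      Module.Flat R S ∧ ∀ (M : Type u) [AddCommGroup M] [Module R M], (∀ (a : R) (m : M), a ∈ I → a • m = 0) →
        Nontrivial M → Nontrivial (S ⊗[R] M),
      Module.Flat R S ∧ ∀ (M : Type u) [AddCommGroup M] [Module R M], (∀ m : M, ∃ n : ℕ, ∀ a ∈ I ^ n, a • m = 0) →
        Nontrivial M → Nontrivial (S ⊗[R] M)] := by
  tfae_have 1 → 2 := by
    rintro ⟨h, hff⟩
    exact ⟨h, PrimeSpectrum.comap_surjective_of_faithfullyFlat⟩
  tfae_have 2 → 3 := by
    rintro ⟨h, hs⟩
    refine ⟨h, fun M _ _ hM hnt => ?_⟩
    obtain ⟨x, hx⟩ := exists_ne (0 : M)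
    let g := LinearMap.toSpanSingleton R M x
    have hne : LinearMap.ker g ≠ ⊤ := fun htop => hx (by
      have : g 1 = 0 := LinearMap.mem_ker.mp (htop ▸ Submodule.mem_top)
      simpa [g] using this)
    obtain ⟨m, hm, hle⟩ := Ideal.exists_le_maximal (LinearMap.ker g) hne
    have hIJ : I ≤ LinearMap.ker g := fun i hi => by simpa [g] using hM i x hi
    haveI : (m.map (Ideal.Quotient.mk I)).IsPrime :=
      Ideal.map_isPrime_of_surjective Ideal.Quotient.mk_surjective (by rw [Ideal.mk_ker]; exact hIJ.trans hle)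
    obtain ⟨q, hq⟩ := hs ⟨m.map (Ideal.Quotient.mk I), inferInstance⟩
    by_contra hsub
    rw [not_nontrivial_iff_subsingleton] at hsub
    have h1 : (1 : S) ⊗ₜ[R] (1 : R ⧸ LinearMap.ker g) = 0 := by
      apply Module.Flat.lTensor_preserves_injective_linearMap (M := S) ((LinearMap.ker g).liftQ g le_rfl)
        (LinearMap.ker_eq_bot.mp (Submodule.ker_liftQ_eq_bot _ _ _ le_rfl))
      exact Subsingleton.elim _ _
    have h2 := H9Hens.Glue.mem_map_of_tmul_mk_one_eq_zero h1
    have h3 : Ideal.map (algebraMap R S) (LinearMap.ker g : Ideal R) ≤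
        q.asIdeal.comap (Ideal.Quotient.mk (I.map (algebraMap R S))) := by
      refine Ideal.map_le_iff_le_comap.mpr fun j hj => ?_
      have : Ideal.Quotient.mk I j ∈ (PrimeSpectrum.comap (Ideal.quotientMap (I.map (algebraMap R S))
          (algebraMap R S) Ideal.le_comap_map) q).asIdeal := by
        rw [hq]; exact Ideal.mem_map_of_mem _ (hle hj)
      exact this
    exact (q.asIdeal.comap (Ideal.Quotient.mk _)).ne_top_iff_one.mp
      (Ideal.comap_ne_top _ q.2.ne_top) (h3 h2)
  tfae_have 3 → 4 := by
    rintro ⟨h, h3⟩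
    refine ⟨h, fun M _ _ hM hnt => ?_⟩
    let W : Submodule R M := Submodule.torsionBySet R M (I : Set R)
    obtain ⟨x, hx⟩ := exists_ne (0 : M)
    have hW : ∃ y ∈ W, y ≠ 0 := by
      classical
      have hex := hM x
      obtain ⟨k, hk⟩ : ∃ k, Nat.find hex = k + 1 := Nat.exists_eq_succ_of_ne_zero fun h0 =>
        hx (by simpa [h0] using Nat.find_spec hex 1)
      have hmin := Nat.find_min hex (m := k) (by omega)
      push Not at hmin
      obtain ⟨a, ha, hax⟩ := hmin
      refine ⟨a • x, (Submodule.mem_torsionBySet_iff _ _).mpr fun i => ?_, hax⟩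
      rw [smul_smul]
      refine Nat.find_spec hex _ ?_
      rw [hk, pow_succ, mul_comm (i : R)]
      exact Ideal.mul_mem_mul ha i.2
    obtain ⟨y, hy, hy0⟩ := hW
    haveI : Nontrivial W := ⟨⟨y, hy⟩, 0, fun e => hy0 (congrArg Subtype.val e)⟩
    haveI := h3 W (fun a w ha => Subtype.ext ((Submodule.mem_torsionBySet_iff _ _).mp w.2 ⟨a, ha⟩)) inferInstance
    exact (Module.Flat.lTensor_preserves_injective_linearMap (M := S) W.subtype
      Subtype.val_injective).nontrivial
  tfae_have 4 → 1 := by
    rintro ⟨h, h4⟩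
    let e₀ : (R ⧸ I) ⊗[R] S ≃ₗ[R] S ⧸ I.map (algebraMap R S) :=
      TensorProduct.comm R (R ⧸ I) S ≪≫ₗ
        ((Algebra.TensorProduct.quotIdealMapEquivTensorQuot S I).symm.toLinearEquiv.restrictScalars R)
    let e : (R ⧸ I) ⊗[R] S ≃ₗ[R ⧸ I] S ⧸ I.map (algebraMap R S) :=
      { e₀ with
        map_smul' := fun c z => by
          obtain ⟨r, rfl⟩ := Ideal.Quotient.mk_surjective c
          show e₀ (algebraMap R (R ⧸ I) r • z) = algebraMap R (R ⧸ I) r • e₀ z
          rw [algebraMap_smul, map_smul, algebraMap_smul] }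
    haveI : Module.Flat (R ⧸ I) (S ⧸ I.map (algebraMap R S)) := Module.Flat.of_linearEquiv e.symm
    refine ⟨h, (Module.FaithfullyFlat.iff_flat_and_proper_ideal _ _).mpr ⟨inferInstance, fun J hJ htop => ?_⟩⟩
    let J' := J.comap (Ideal.Quotient.mk I)
    have hJ' : J' ≠ ⊤ := Ideal.comap_ne_top _ hJ
    haveI : Nontrivial (R ⧸ J') := Ideal.Quotient.nontrivial_iff.mpr hJ'
    haveI := h4 (R ⧸ J') (fun m => ⟨1, fun a ha => by
      rw [pow_one] at ha
      rw [Algebra.smul_def, Ideal.Quotient.algebraMap_eq, Ideal.Quotient.eq_zero_iff_mem.mpr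
        (show a ∈ J' by rw [Ideal.mem_comap, Ideal.Quotient.eq_zero_iff_mem.mpr ha]; exact J.zero_mem),
        zero_mul]⟩) inferInstance
    have h1 : (1 : S) ∈ J'.map (algebraMap R S) := by
      have htop' : J.map (algebraMap (R ⧸ I) (S ⧸ I.map (algebraMap R S))) = ⊤ := by
        have := Ideal.smul_top_eq_map (S := S ⧸ I.map (algebraMap R S)) J
        rw [htop] at this
        exact (Submodule.restrictScalars_eq_top_iff (R ⧸ I) _ _).mp this.symm
      rw [← Ideal.map_comap_of_surjective _ Ideal.Quotient.mk_surjective J, Ideal.map_map,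
        show (algebraMap (R ⧸ I) (S ⧸ I.map (algebraMap R S))).comp (Ideal.Quotient.mk I) =
          (Ideal.Quotient.mk (I.map (algebraMap R S))).comp (algebraMap R S) from rfl,
        ← Ideal.map_map] at htop'
      have := congrArg (Ideal.comap (Ideal.Quotient.mk (I.map (algebraMap R S)))) htop'
      rw [Ideal.comap_map_of_surjective _ Ideal.Quotient.mk_surjective, Ideal.comap_top] at this
      rw [← RingHom.ker_eq_comap_bot, Ideal.mk_ker, sup_of_le_left] at this
      · exact this ▸ Submodule.mem_top
      · refine Ideal.map_mono fun i hi => ?_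
        rw [Ideal.mem_comap, Ideal.Quotient.eq_zero_iff_mem.mpr hi]; exact J.zero_mem
    refine not_subsingleton (S ⊗[R] (R ⧸ J')) (subsingleton_of_forall_eq 0 fun z => ?_)
    induction z using TensorProduct.induction_on with
    | zero => rfl
    | tmul s q =>
      obtain ⟨r, rfl⟩ := Ideal.Quotient.mk_surjective q
      rw [show Ideal.Quotient.mk J' r = r • (1 : R ⧸ J') by rw [Algebra.smul_def, mul_one]; rfl,
        ← TensorProduct.smul_tmul, show r • s = (r • s) • (1 : S) by rw [smul_eq_mul, mul_one],
        ← TensorProduct.smul_tmul', H9Hens.Glue.tmul_mk_one_eq_zero_of_mem h1, smul_zero]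
    | add a b ha hb => rw [ha, hb, add_zero]
  tfae_finish

end Groth.Agent.S2008
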