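import Groth.Statements.S2009
import Groth.Agent.H9Hens.GlueIdeal
-- import your own Groth.Agent.* helpers here

set_option autoImplicit false
universe u
open TensorProduct
open EtAlg

namespace Groth.Agent.S2009

open scoped TensorProduct

/-- Let R -> S be flat with S/IS faithfully flat over R/I. Then the natural map M -> S ⊗_R M is
bijective for every I-power torsion R-module M if and only if R/I -> S/IS is bijective. -/
theorem result (R S : Type u) [CommRing R] [CommRing S] [Algebra R S] (I : Ideal R)
    [Module.Flat R S] [Module.FaithfullyFlat (R ⧸ I) (S ⧸ I.map (algebraMap R S))] :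
    (∀ (M : Type u) [AddCommGroup M] [Module R M], (∀ m : M, ∃ n : ℕ, ∀ a ∈ I ^ n, a • m = 0) →
      Function.Bijective (TensorProduct.mk R S M 1)) ↔
    Function.Bijective (Ideal.quotientMap (I.map (algebraMap R S)) (algebraMap R S) Ideal.le_comap_map) := by
  constructor
  · intro h
    have hb := h (R ⧸ I) fun x => ⟨1, fun a ha => by
      rw [pow_one] at ha
      rw [Algebra.smul_def, Ideal.Quotient.algebraMap_eq, Ideal.Quotient.eq_zero_iff_mem.mpr ha, zero_mul]⟩
    refine H9Hens.Glue.bijective_quotientMap_of_cong ⟨fun x => ?_, fun r hr => ?_⟩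
    · obtain ⟨q, hq⟩ := hb.2 (x ⊗ₜ[R] (1 : R ⧸ I))
      obtain ⟨r, rfl⟩ := Ideal.Quotient.mk_surjective q
      refine ⟨r, H9Hens.Glue.mem_map_of_tmul_mk_one_eq_zero ?_⟩
      rw [TensorProduct.sub_tmul, sub_eq_zero, ← hq, Algebra.algebraMap_eq_smul_one,
        TensorProduct.smul_tmul, Algebra.smul_def, mul_one]
      rfl
    · have h0 := H9Hens.Glue.tmul_mk_one_eq_zero_of_mem hr
      rw [Algebra.algebraMap_eq_smul_one, TensorProduct.smul_tmul, Algebra.smul_def, mul_one] at h0
      exact Ideal.Quotient.eq_zero_iff_mem.mp (hb.1 (h0.trans (map_zero _).symm))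
  · intro h M _ _ hM
    exact H9Hens.Glue.bijective_mk_of_powTorsion (H9Hens.Glue.cong_of_bijective h) hM

end Groth.Agent.S2009
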