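import Groth.Statements.S2010
import Mathlib
-- import your own Groth.Agent.* helpers here

set_option autoImplicit false
universe u
open TensorProduct
open EtAlg

namespace Groth.Agent.S2010


open TensorProduct

section
variable {R S : Type u} [CommRing R] [CommRing S] [Algebra R S] {r : ℕ} (f : Fin r → R) (I : Ideal R)

/-- An element dying after inverting each `f j`. -/
def Tors {X : Type u} [AddCommGroup X] [Module R X] (x : X) : Prop :=
  ∀ j, (1 : Localization.Away (f j)) ⊗ₜ[R] x = 0

theorem tors_iff {X : Type u} [AddCommGroup X] [Module R X] (x : X) :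
    Tors f x ↔ ∀ j, ∃ k : ℕ, f j ^ k • x = 0 := by
  refine forall_congr' fun j => ?_
  rw [show (1 : Localization.Away (f j)) ⊗ₜ[R] x = TensorProduct.mk R (Localization.Away (f j)) X 1 x from rfl,
    IsLocalizedModule.eq_zero_iff (Submonoid.powers (f j)) (TensorProduct.mk R (Localization.Away (f j)) X 1)]
  constructor
  · rintro ⟨⟨_, k, rfl⟩, hk⟩; exact ⟨k, hk⟩
  · rintro ⟨k, hk⟩; exact ⟨⟨_, k, rfl⟩, hk⟩

theorem exists_pow_kill {X : Type u} [AddCommGroup X] [Module R X] (hI : I = Ideal.span (Set.range f))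
    {x : X} (hx : Tors f x) : ∃ n : ℕ, ∀ a ∈ I ^ n, a • x = 0 := by
  obtain ⟨n, hn⟩ : ∃ n, I ^ n ≤ (LinearMap.toSpanSingleton R X x).ker := by
    refine Ideal.exists_pow_le_of_le_radical_of_fg ?_ (hI ▸ Submodule.fg_span (Set.finite_range f))
    rw [hI, Ideal.span_le]
    rintro _ ⟨j, rfl⟩
    obtain ⟨k, hk⟩ := (tors_iff f x).mp hx j
    exact ⟨k, hk⟩
  exact ⟨n, fun a ha => hn ha⟩

theorem tmul_eq_one_tmul (hq : Function.Bijective (Ideal.quotientMap (I.map (algebraMap R S)) (algebraMap R S) Ideal.le_comap_map))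
    {X : Type u} [AddCommGroup X] [Module R X] (s : S) :
    ∀ (n : ℕ) (x : X), (∀ a ∈ I ^ n, a • x = 0) → ∃ r : R, s ⊗ₜ[R] x = (1 : S) ⊗ₜ (r • x) := by
  intro n
  induction n generalizing s with
  | zero =>
    intro x hx
    have := hx 1 (by rw [pow_zero, Ideal.one_eq_top]; exact Submodule.mem_top)
    exact ⟨0, by rw [one_smul] at this; rw [this, smul_zero, tmul_zero, tmul_zero]⟩
  | succ n ih =>
    intro x hx
    obtain ⟨c, hc⟩ := hq.2 (Ideal.Quotient.mk _ s)
    obtain ⟨r, rfl⟩ := Ideal.Quotient.mk_surjective c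
    rw [Ideal.quotientMap_mk, Ideal.Quotient.eq] at hc
    have key : ∀ w ∈ I.map (algebraMap R S), ∃ r' : R, w ⊗ₜ[R] x = (1 : S) ⊗ₜ (r' • x) := by
      intro w hw
      induction hw using Submodule.span_induction with
      | mem y hy =>
        obtain ⟨a, ha, rfl⟩ := hy
        refine ⟨a, ?_⟩
        rw [Algebra.algebraMap_eq_smul_one, smul_tmul]
      | zero => exact ⟨0, by simp⟩
      | add y z _ _ hy hz =>
        obtain ⟨a, ha⟩ := hy; obtain ⟨b, hb⟩ := hz
        exact ⟨a + b, by rw [add_tmul, ha, hb, add_smul, tmul_add]⟩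
      | smul t y hym hy =>
        clear hy
        induction hym using Submodule.span_induction generalizing t with
        | mem y hy =>
          obtain ⟨a, ha, rfl⟩ := hy
          obtain ⟨b, hb⟩ := ih t (a • x) fun a' ha' => by
            rw [smul_smul]
            exact hx _ (by rw [pow_succ]; exact Ideal.mul_mem_mul ha' ha)
          refine ⟨b * a, ?_⟩
          rw [mul_smul, ← hb, smul_eq_mul, mul_comm, ← Algebra.smul_def, smul_tmul]
        | zero => exact ⟨0, by simp⟩
        | add y z _ _ hy hz =>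
          obtain ⟨a, ha⟩ := hy t; obtain ⟨b, hb⟩ := hz t
          exact ⟨a + b, by rw [smul_add, add_tmul, ha, hb, add_smul, tmul_add]⟩
        | smul t' y _ hy => rw [smul_smul]; exact hy (t * t')
    obtain ⟨r', hr'⟩ := key _ hc
    refine ⟨r - r', ?_⟩
    rw [sub_tmul, Algebra.algebraMap_eq_smul_one, smul_tmul] at hr'
    rw [sub_smul, tmul_sub, ← hr']
    abel

theorem one_tmul_surjective (hI : I = Ideal.span (Set.range f))
    (hq : Function.Bijective (Ideal.quotientMap (I.map (algebraMap R S)) (algebraMap R S) Ideal.le_comap_map))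
    {X : Type u} [AddCommGroup X] [Module R X] (hX : ∀ x : X, Tors f x) (y : S ⊗[R] X) :
    ∃ t : X, (1 : S) ⊗ₜ[R] t = y := by
  induction y with
  | zero => exact ⟨0, tmul_zero _ _⟩
  | tmul s x =>
    obtain ⟨n, hn⟩ := exists_pow_kill f I hI (hX x)
    obtain ⟨a, ha⟩ := tmul_eq_one_tmul I hq s n x hn
    exact ⟨a • x, ha.symm⟩
  | add a b ha hb =>
    obtain ⟨a', rfl⟩ := ha; obtain ⟨b', rfl⟩ := hb
    exact ⟨a' + b', tmul_add _ _ _⟩

theorem eq_zero_of_tors [Module.Flat R S] (hI : I = Ideal.span (Set.range f))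
    (hq : Function.Bijective (Ideal.quotientMap (I.map (algebraMap R S)) (algebraMap R S) Ideal.le_comap_map))
    {X : Type u} [AddCommGroup X] [Module R X] {x : X} (hx : Tors f x) (h0 : (1 : S) ⊗ₜ[R] x = 0) : x = 0 := by
  obtain ⟨n, hn⟩ := exists_pow_kill f I hI hx
  clear hx
  induction n generalizing x with
  | zero => simpa using hn 1 (by rw [pow_zero, Ideal.one_eq_top]; exact Submodule.mem_top)
  | succ n ih =>
    have hIx : ∀ a ∈ I, a • x = 0 := fun a ha =>
      ih (by rw [tmul_smul, h0, smul_zero]) fun a' ha' => by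
        rw [smul_smul]; exact hn _ (by rw [pow_succ]; exact Ideal.mul_mem_mul ha' ha)
    let A : Ideal R := (LinearMap.toSpanSingleton R X x).ker
    have hIA : I ≤ A := fun a ha => hIx a ha
    let ι : (R ⧸ A) →ₗ[R] X := Submodule.liftQ A (LinearMap.toSpanSingleton R X x) le_rfl
    have hι : Function.Injective ι := LinearMap.ker_eq_bot.mp (Submodule.ker_liftQ_eq_bot _ _ _ le_rfl)
    have h1 : (1 : S) ⊗ₜ[R] (Submodule.Quotient.mk 1 : R ⧸ A) = 0 := by
      refine Module.Flat.lTensor_preserves_injective_linearMap (M := S) ι hι ?_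
      rw [LinearMap.lTensor_tmul, map_zero, show ι (Submodule.Quotient.mk 1) = x from one_smul R x, h0]
    have h2 := congrArg (TensorProduct.tensorQuotEquivQuotSMul S A) h1
    rw [map_zero, show (Submodule.Quotient.mk 1 : R ⧸ A) = Ideal.Quotient.mk A 1 from rfl,
      TensorProduct.tensorQuotEquivQuotSMul_tmul_mk, one_smul, Submodule.Quotient.mk_eq_zero,
      Ideal.smul_top_eq_map, Submodule.restrictScalars_mem] at h2
    have key : ∀ w ∈ A.map (algebraMap R S), ∃ a ∈ A, w - algebraMap R S a ∈ I.map (algebraMap R S) := by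
      intro w hw
      induction hw using Submodule.span_induction with
      | mem y hy => obtain ⟨a, ha, rfl⟩ := hy; exact ⟨a, ha, by simp⟩
      | zero => exact ⟨0, zero_mem _, by simp⟩
      | add y z _ _ hy hz =>
        obtain ⟨a, ha, ha'⟩ := hy; obtain ⟨b, hb, hb'⟩ := hz
        exact ⟨a + b, add_mem ha hb, by rw [map_add, add_sub_add_comm]; exact add_mem ha' hb'⟩
      | smul t y _ hy =>
        obtain ⟨a, ha, ha'⟩ := hy
        obtain ⟨c, hc⟩ := hq.2 (Ideal.Quotient.mk _ t)
        obtain ⟨r, rfl⟩ := Ideal.Quotient.mk_surjective c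
        rw [Ideal.quotientMap_mk, Ideal.Quotient.eq] at hc
        refine ⟨r * a, A.mul_mem_left r ha, ?_⟩
        rw [map_mul, smul_eq_mul, show t * y - algebraMap R S r * algebraMap R S a =
          t * (y - algebraMap R S a) - (algebraMap R S r - t) * algebraMap R S a by ring]
        exact sub_mem (Ideal.mul_mem_left _ _ ha') (Ideal.mul_mem_right _ _ hc)
    obtain ⟨a, ha, ha'⟩ := key 1 h2
    have h3 : (1 : R) - a ∈ I := by
      have : Ideal.quotientMap (I.map (algebraMap R S)) (algebraMap R S) Ideal.le_comap_map (Ideal.Quotient.mk I (1 - a)) = 0 := by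
        rw [Ideal.quotientMap_mk, Ideal.Quotient.eq_zero_iff_mem, map_sub, map_one]; exact ha'
      exact Ideal.Quotient.eq_zero_iff_mem.mp (hq.1 (this.trans (map_zero _).symm))
    have h4 : (1 : R) ∈ A := by simpa using add_mem (hIA h3) ha
    have h5 : (LinearMap.toSpanSingleton R X x) 1 = 0 := h4
    simpa using h5

variable (X : Type u) [AddCommGroup X] [Module R X]

/-- All localisations at the `f j`. -/
noncomputable def delta : X →ₗ[R] ∀ j, Localization.Away (f j) ⊗[R] X :=
  LinearMap.pi fun j => TensorProduct.mk R (Localization.Away (f j)) X 1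

variable (S) in
noncomputable def Phi : S ⊗[R] (∀ j, Localization.Away (f j) ⊗[R] X) ≃ₗ[R] ∀ j, Localization.Away (f j) ⊗[R] (S ⊗[R] X) :=
  TensorProduct.piRight R R S _ ≪≫ₗ LinearEquiv.piCongrRight fun j => TensorProduct.leftComm R S (Localization.Away (f j)) X

theorem Phi_delta (w : S ⊗[R] X) (j : Fin r) : Phi S f X ((delta f X).lTensor S w) j = (1 : Localization.Away (f j)) ⊗ₜ w := by
  induction w with
  | zero => simp
  | tmul s x => simp [Phi, delta]
  | add a b ha hb => simp [ha, hb, tmul_add]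

theorem Phi_one (z : ∀ j, Localization.Away (f j) ⊗[R] X) (j : Fin r) :
    Phi S f X ((1 : S) ⊗ₜ z) j = (TensorProduct.mk R S X 1).lTensor (Localization.Away (f j)) (z j) := by
  simp only [Phi, LinearEquiv.trans_apply, TensorProduct.piRight_apply, TensorProduct.piRightHom_tmul,
    LinearEquiv.piCongrRight_apply]
  induction z j with
  | zero => simp
  | tmul a x => simp
  | add a b ha hb => simp only [tmul_add, map_add, ha, hb]

theorem exists_tors_preimage [Module.Flat R S] (hI : I = Ideal.span (Set.range f))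
    (hq : Function.Bijective (Ideal.quotientMap (I.map (algebraMap R S)) (algebraMap R S) Ideal.le_comap_map))
    {y : S ⊗[R] X} (hy : Tors f y) : ∃ t : X, Tors f t ∧ (1 : S) ⊗ₜ t = y := by
  have h0 : (delta f X).lTensor S y = 0 := (Phi S f X).injective (by
    rw [map_zero]; funext j; rw [Phi_delta]; exact hy j)
  obtain ⟨y', rfl⟩ := (Module.Flat.lTensor_exact S (LinearMap.exact_subtype_ker_map (delta f X)) y).mp h0
  have htors : ∀ t : (delta f X).ker, Tors f t := fun t => by
    rw [tors_iff]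
    intro j
    obtain ⟨k, hk⟩ := (tors_iff f t.1).mp (fun j => congrFun (LinearMap.mem_ker.mp t.2) j) j
    exact ⟨k, Subtype.ext hk⟩
  obtain ⟨t, rfl⟩ := one_tmul_surjective f I hI hq htors y'
  exact ⟨t.1, fun j => congrFun (LinearMap.mem_ker.mp t.2) j, by simp⟩

end

/-- Let R -> S be flat and I a finitely generated ideal with R/I -> S/IS bijective; let N be an R-module
and M an I-power torsion R-module. For every short exact sequence 0 -> S ⊗_R N -> E' -> S ⊗_R M -> 0
of S-modules there are a short exact sequence 0 -> N -> E -> M -> 0 of R-modules and an R-linear map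
E -> E' making the two squares with the maps n ↦ 1 ⊗ n and m ↦ 1 ⊗ m commute. -/
theorem result (R S : Type u) [CommRing R] [CommRing S] [Algebra R S] [Module.Flat R S] (I : Ideal R)
    (hI : I.FG) (hq : Function.Bijective (Ideal.quotientMap (I.map (algebraMap R S)) (algebraMap R S) Ideal.le_comap_map))
    (N M : Type u) [AddCommGroup N] [Module R N] [AddCommGroup M] [Module R M]
    (hM : ∀ m : M, ∃ n : ℕ, ∀ a ∈ I ^ n, a • m = 0)
    (E' : Type u) [AddCommGroup E'] [Module S E'] [Module R E'] [IsScalarTower R S E'] (i' : S ⊗[R] N →ₗ[S] E') (p' : E' →ₗ[S] S ⊗[R] M)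
    (hi' : Function.Injective i') (hp' : Function.Surjective p') (hex' : LinearMap.range i' = LinearMap.ker p') :
    ∃ (E : Type u) (_ : AddCommGroup E) (_ : Module R E) (i : N →ₗ[R] E) (p : E →ₗ[R] M) (g : E →ₗ[R] E'),
      Function.Injective i ∧ Function.Surjective p ∧ LinearMap.range i = LinearMap.ker p ∧
      (∀ n : N, g (i n) = i' ((1 : S) ⊗ₜ[R] n)) ∧ (∀ e : E, p' (g e) = (1 : S) ⊗ₜ[R] p e) := by
  classical
  obtain ⟨r, f, hf⟩ := Submodule.fg_iff_exists_fin_generating_family.mp hI
  have hI' : I = Ideal.span (Set.range f) := hf.symm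
  have hMt : ∀ (m : M), Tors f ((1 : S) ⊗ₜ[R] m) := fun m => by
    rw [tors_iff]
    intro j
    obtain ⟨n, hn⟩ := hM m
    exact ⟨n, by rw [← tmul_smul, hn _ (Ideal.pow_mem_pow (hI' ▸ Ideal.subset_span ⟨j, rfl⟩) n), tmul_zero]⟩
  let PN := ∀ j, Localization.Away (f j) ⊗[R] N
  let q : PN →ₗ[R] PN ⧸ LinearMap.range (delta f N) := Submodule.mkQ _
  let iR : S ⊗[R] N →ₗ[R] E' := i'.restrictScalars R
  have hexR : Function.Exact iR (p'.restrictScalars R) := LinearMap.exact_iff.mpr (by
    ext y
    simp only [LinearMap.mem_ker, LinearMap.mem_range, LinearMap.coe_restrictScalars, iR]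
    rw [← LinearMap.mem_ker, ← hex', LinearMap.mem_range])
  let cond : ∀ j, E' × PN × M →ₗ[R] Localization.Away (f j) ⊗[R] E' := fun j =>
    (TensorProduct.mk R (Localization.Away (f j)) E' 1) ∘ₗ LinearMap.fst R E' (PN × M) -
      (iR.lTensor _ ∘ₗ (TensorProduct.mk R S N 1).lTensor _ ∘ₗ LinearMap.proj j) ∘ₗ
        LinearMap.fst R PN M ∘ₗ LinearMap.snd R E' (PN × M)
  let condp : E' × PN × M →ₗ[R] S ⊗[R] M :=
    p'.restrictScalars R ∘ₗ LinearMap.fst R E' (PN × M) -
      TensorProduct.mk R S M 1 ∘ₗ LinearMap.snd R PN M ∘ₗ LinearMap.snd R E' (PN × M)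
  let condz : ∀ j, E' × PN × M →ₗ[R] Localization.Away (f j) ⊗[R] (PN ⧸ LinearMap.range (delta f N)) := fun j =>
    TensorProduct.mk R (Localization.Away (f j)) _ 1 ∘ₗ q ∘ₗ LinearMap.fst R PN M ∘ₗ LinearMap.snd R E' (PN × M)
  let E : Submodule R (E' × PN × M) :=
    condp.ker ⊓ (⨅ j, (cond j).ker) ⊓ (⨅ j, (condz j).ker)
  have hE : ∀ e : E' × PN × M, e ∈ E ↔ p' e.1 = (1 : S) ⊗ₜ e.2.2 ∧
      (∀ j, (1 : Localization.Away (f j)) ⊗ₜ[R] e.1 = iR.lTensor _ ((TensorProduct.mk R S N 1).lTensor _ (e.2.1 j))) ∧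
      Tors f (q e.2.1) := by
    intro e
    simp only [E, Submodule.mem_inf, Submodule.mem_iInf, LinearMap.mem_ker, condp, cond, condz, LinearMap.sub_apply,
      sub_eq_zero, and_assoc]
    exact Iff.rfl
  let i : N →ₗ[R] E := LinearMap.codRestrict E
    (LinearMap.prod (iR ∘ₗ TensorProduct.mk R S N 1) (LinearMap.prod (delta f N) 0)) fun n => by
      rw [hE]
      refine ⟨?_, fun j => ?_, fun j => ?_⟩
      · show p' (i' _) = _
        have : i' ((1 : S) ⊗ₜ[R] n) ∈ LinearMap.ker p' := hex' ▸ LinearMap.mem_range_self i' _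
        simpa [iR] using LinearMap.mem_ker.mp this
      · show (1 : Localization.Away (f j)) ⊗ₜ[R] iR ((1 : S) ⊗ₜ n) = iR.lTensor _ ((TensorProduct.mk R S N 1).lTensor _ ((1 : Localization.Away (f j)) ⊗ₜ[R] n))
        simp
      · show (1 : Localization.Away (f j)) ⊗ₜ[R] q (delta f N n) = 0
        rw [show q (delta f N n) = 0 from (Submodule.Quotient.mk_eq_zero _).mpr ⟨n, rfl⟩, tmul_zero]
  let p : E →ₗ[R] M := LinearMap.snd R PN M ∘ₗ LinearMap.snd R E' (PN × M) ∘ₗ E.subtype
  let g : E →ₗ[R] E' := LinearMap.fst R E' (PN × M) ∘ₗ E.subtype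
  refine ⟨E, inferInstance, inferInstance, i, p, g, ?_, ?_, ?_, fun n => rfl, fun e => ((hE e.1).mp e.2).1⟩
  · rw [injective_iff_map_eq_zero]
    intro n hn
    have h1 : i' ((1 : S) ⊗ₜ[R] n) = 0 := congrArg (fun e : E => e.1.1) hn
    have h2 : delta f N n = 0 := congrArg (fun e : E => e.1.2.1) hn
    exact eq_zero_of_tors f I hI' hq (fun j => congrFun h2 j) (hi' (h1.trans (map_zero i').symm))
  · intro m
    obtain ⟨e, he⟩ := hp' ((1 : S) ⊗ₜ[R] m)
    have hx : ∀ j, ∃ x, iR.lTensor (Localization.Away (f j)) x = (1 : Localization.Away (f j)) ⊗ₜ e := by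
      intro j
      refine (lTensor_exact _ hexR (by exact hp') _).mp ?_
      rw [LinearMap.lTensor_tmul, LinearMap.coe_restrictScalars, he]
      exact hMt m j
    choose x hx using hx
    let y := (Phi S f N).symm x
    have hy : Tors f (q.lTensor S y) := by
      rw [tors_iff]
      intro j
      obtain ⟨k, hk⟩ := (tors_iff f _).mp (hMt m) j
      obtain ⟨w, hw⟩ := (hexR (f j ^ k • e)).mp (by rw [map_smul, LinearMap.coe_restrictScalars, he, hk])
      refine ⟨k, ?_⟩
      have : f j ^ k • y = (delta f N).lTensor S w := (Phi S f N).injective (funext fun l => by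
        refine Module.Flat.lTensor_preserves_injective_linearMap (M := Localization.Away (f l)) iR hi' ?_
        rw [map_smul, LinearEquiv.apply_symm_apply, Phi_delta, Pi.smul_apply, map_smul, hx, LinearMap.lTensor_tmul, hw,
          tmul_smul])
      rw [← map_smul, this, ← LinearMap.lTensor_comp_apply, show q ∘ₗ delta f N = 0 from LinearMap.range_mkQ_comp _,
        LinearMap.lTensor_zero, LinearMap.zero_apply]
    obtain ⟨t, ht, hty⟩ := exists_tors_preimage f I _ hI' hq hy
    obtain ⟨z, rfl⟩ := Submodule.mkQ_surjective _ t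
    obtain ⟨w, hw⟩ := (lTensor_exact S (LinearMap.exact_map_mkQ_range (delta f N)) (Submodule.mkQ_surjective _) (y - (1 : S) ⊗ₜ z)).mp (by
      rw [map_sub, LinearMap.lTensor_tmul, hty, sub_self])
    refine ⟨⟨(e - i' w, z, m), (hE _).mpr ⟨?_, fun j => ?_, ht⟩⟩, rfl⟩
    · show p' (e - i' w) = _
      rw [map_sub, he, show p' (i' w) = 0 from LinearMap.mem_ker.mp (hex' ▸ LinearMap.mem_range_self i' w), sub_zero]
    · have h1 := congrFun (congrArg (Phi S f N) hw) j
      rw [map_sub, LinearEquiv.apply_symm_apply, Pi.sub_apply, Phi_delta, Phi_one] at h1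
      have h2 := congrArg (iR.lTensor (Localization.Away (f j))) h1
      rw [map_sub, hx, LinearMap.lTensor_tmul] at h2
      show (1 : Localization.Away (f j)) ⊗ₜ[R] (e - iR w) = iR.lTensor _ ((TensorProduct.mk R S N 1).lTensor _ (z j))
      rw [tmul_sub, h2, sub_sub_cancel]
  · refine le_antisymm ?_ ?_
    · rintro _ ⟨n, rfl⟩; exact rfl
    · rintro ⟨⟨e, z, m⟩, hez⟩ hm
      have hm0 : m = 0 := hm
      subst hm0
      obtain ⟨h1, h2, h3⟩ := (hE _).mp hez
      have h1' : p' e = 0 := h1.trans (tmul_zero _ _)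
      obtain ⟨x, rfl⟩ : e ∈ LinearMap.range i' := by rw [hex']; exact h1'
      have hz : (delta f N).lTensor S x = (1 : S) ⊗ₜ z := (Phi S f N).injective (funext fun j => by
        refine Module.Flat.lTensor_preserves_injective_linearMap (M := Localization.Away (f j)) iR hi' ?_
        rw [Phi_delta, Phi_one, LinearMap.lTensor_tmul]
        exact h2 j)
      have hz' : q z = 0 := by
        refine eq_zero_of_tors f I hI' hq h3 ?_
        rw [← LinearMap.lTensor_tmul, ← hz, ← LinearMap.lTensor_comp_apply,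
          show q ∘ₗ delta f N = 0 from LinearMap.range_mkQ_comp _, LinearMap.lTensor_zero, LinearMap.zero_apply]
      obtain ⟨n, rfl⟩ := (Submodule.Quotient.mk_eq_zero _).mp hz'
      obtain ⟨t, ht, htx⟩ := exists_tors_preimage f I N hI' hq (y := x - (1 : S) ⊗ₜ n) (fun j => by
        have := congrFun (congrArg (Phi S f N) hz) j
        rw [Phi_delta, Phi_one] at this
        rw [tmul_sub, this, sub_eq_zero]
        simp [delta])
      refine ⟨n + t, Subtype.ext (Prod.ext ?_ (Prod.ext ?_ rfl))⟩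
      · show i' ((1 : S) ⊗ₜ[R] (n + t)) = i' x
        rw [tmul_add, htx, add_sub_cancel]
      · show delta f N (n + t) = delta f N n
        rw [map_add, show delta f N t = 0 from funext ht, add_zero]

end Groth.Agent.S2010
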