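import Groth.Statements.S3432
import Groth.Agent.H05EGA4.Points

set_option autoImplicit false
open CategoryTheory AlgebraicGeometry
universe u
open EGA43

namespace Groth.Agent.S3432

/-- Let X be a locally Noetherian scheme and Y a closed subset of X such that every nonempty closed
subset of X meets Y. Then the open subscheme X ∖ Y (equivalently, the subspace X ∖ Y) is a Jacobson
space. -/
theorem result (X : Scheme.{u}) [IsLocallyNoetherian X] (Y : Set X)
    (hY : IsClosed Y) (hmeet : ∀ Z : Set X, IsClosed Z → Z.Nonempty → (Z ∩ Y).Nonempty) :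
    JacobsonSpace ↥(Yᶜ) := by
  rw [jacobsonSpace_iff_locallyClosed]
  intro Z hne hZ
  obtain ⟨x₀, hx₀⟩ := hne
  have hZ' : IsLocallyClosed (Subtype.val '' Z : Set X) :=
    hZ.image Topology.IsInducing.subtypeVal (by rw [Subtype.range_coe]; exact hY.isOpen_compl.isLocallyClosed)
  obtain ⟨U, C, hU, hC, e⟩ := hZ'
  have hx₀' : x₀.1 ∈ U ∩ C := e ▸ ⟨x₀, hx₀, rfl⟩
  obtain ⟨x, hx, hlc⟩ := H05EGA4.exists_singleton_locallyClosed_of_inter X hU hC ⟨_, hx₀'⟩
  obtain ⟨x', hx'Z, rfl⟩ : x ∈ Subtype.val '' Z := e ▸ hx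
  refine ⟨x', hx'Z, mem_closedPoints_iff.mpr ?_⟩
  rw [← closure_subset_iff_isClosed]
  intro y hy
  by_contra hne
  have h1 : x'.1 ⤳ y.1 :=
    Topology.IsInducing.subtypeVal.specializes_iff.mpr (specializes_iff_mem_closure.mpr hy)
  have hcl := H05EGA4.isClosed_of_specializes_of_locallyClosed X hlc h1
    (fun h => hne (Subtype.ext h))
  obtain ⟨w, hw, hwY⟩ := hmeet _ hcl (Set.singleton_nonempty _)
  exact y.2 (Set.mem_singleton_iff.mp hw ▸ hwY)

end Groth.Agent.S3432
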