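import Groth.Statements.S2011
import Groth.Agent.S3432
import Mathlib.RingTheory.Spectrum.Prime.Jacobson
-- import your own Groth.Agent.* helpers here

set_option autoImplicit false
universe u
open EtAlg

namespace Groth.Agent.S2011

/-- Let A be a Noetherian ring and I an ideal contained in the Jacobson radical of A (a Zariski pair).
Then for every f in I the localization A_f is a Jacobson ring. -/
theorem result (A : Type u) [CommRing A] [IsNoetherianRing A] (I : Ideal A)
    (hI : I ≤ (⊥ : Ideal A).jacobson) (f : A) (hf : f ∈ I) : IsJacobsonRing (Localization.Away f) := by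
  let X : AlgebraicGeometry.Scheme.{u} := AlgebraicGeometry.Spec (CommRingCat.of A)
  haveI hJ : JacobsonSpace ↥((PrimeSpectrum.zeroLocus {f})ᶜ : Set (PrimeSpectrum A)) := by
    refine S3432.result X (PrimeSpectrum.zeroLocus {f}) (PrimeSpectrum.isClosed_zeroLocus _)
      fun Z hZ hne => ?_
    obtain ⟨J, rfl⟩ := (PrimeSpectrum.isClosed_iff_zeroLocus_ideal (R := A) Z).mp hZ
    obtain ⟨x, hx⟩ := hne
    have hJ : J ≠ ⊤ := fun h => x.2.ne_top (top_le_iff.mp (h ▸ hx))
    obtain ⟨m, hm, hJm⟩ := Ideal.exists_le_maximal J hJ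
    refine ⟨⟨m, hm.isPrime⟩, hJm, ?_⟩
    exact (PrimeSpectrum.mem_zeroLocus (R := A) (⟨m, hm.isPrime⟩ : PrimeSpectrum A) {f}).mpr
      (Set.singleton_subset_iff.mpr (Ideal.mem_sInf.mp (hI hf) ⟨bot_le, hm⟩))
  have hr : Set.range (PrimeSpectrum.comap (algebraMap A (Localization.Away f))) =
      (PrimeSpectrum.zeroLocus {f})ᶜ := by
    rw [PrimeSpectrum.localization_away_comap_range (Localization.Away f) f,
      PrimeSpectrum.basicOpen_eq_zeroLocus_compl]
  rw [PrimeSpectrum.isJacobsonRing_iff_jacobsonSpace]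
  exact JacobsonSpace.of_isOpenEmbedding
    (((PrimeSpectrum.localization_away_isOpenEmbedding (Localization.Away f) f).toIsEmbedding.toHomeomorph).trans
      (Homeomorph.setCongr hr)).isOpenEmbedding

end Groth.Agent.S2011
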