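import Groth.Statements.S2012
import Mathlib.RingTheory.Flat.EquationalCriterion
import Mathlib.RingTheory.Finiteness.ModuleFinitePresentation
import Mathlib.RingTheory.Nakayama
import Mathlib.RingTheory.IntegralClosure.IsIntegralClosure.Basic
-- import your own Groth.Agent.* helpers here

set_option autoImplicit false
universe u
open EtAlg

namespace Groth.Agent.S2012

/-- Let A be a ring and I an ideal contained in its Jacobson radical. Let B be an A-algebra which is
flat, integral and of finite presentation over A and such that A/I -> B/IB is bijective. Then A -> B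
is bijective. -/
theorem result (A B : Type u) [CommRing A] [CommRing B] [Algebra A B]
    (I : Ideal A) (hI : I ≤ (⊥ : Ideal A).jacobson) [Module.Flat A B] [Algebra.IsIntegral A B] [Algebra.FinitePresentation A B]
    (hq : Function.Bijective (Ideal.quotientMap (I.map (algebraMap A B)) (algebraMap A B) Ideal.le_comap_map)) :
    Function.Bijective (algebraMap A B) := by
  haveI : Module.Finite A B := Algebra.IsIntegral.finite
  haveI : Module.FinitePresentation A B :=
    Module.FinitePresentation.of_finite_of_finitePresentation A B
  haveI : Module.Projective A B := Module.Flat.projective_of_finitePresentation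
  have hsurj : Function.Surjective (Algebra.linearMap A B) := by
    rw [← LinearMap.range_eq_top, ← top_le_iff]
    refine Submodule.le_of_le_smul_of_le_jacobson_bot Module.Finite.fg_top hI fun b _ => ?_
    obtain ⟨a, ha⟩ := hq.2 (Ideal.Quotient.mk _ b)
    obtain ⟨a, rfl⟩ := Ideal.Quotient.mk_surjective a
    rw [Ideal.quotientMap_mk, Ideal.Quotient.eq] at ha
    refine Submodule.mem_sup.mpr ⟨_, ⟨a, rfl⟩, b - algebraMap A B a, ?_, by simp⟩
    rw [Ideal.smul_top_eq_map]
    exact (Submodule.neg_mem_iff _).mp (by simpa using ha)
  obtain ⟨s, hs⟩ := Module.projective_lifting_property (Algebra.linearMap A B) LinearMap.id hsurj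
  have hs1 : algebraMap A B (s 1) = 1 := LinearMap.congr_fun hs 1
  refine ⟨(injective_iff_map_eq_zero _).mpr fun a ha => ?_, hsurj⟩
  have he : 1 - s 1 ∈ I := by
    rw [← Ideal.Quotient.eq_zero_iff_mem]
    refine hq.1 ?_
    rw [Ideal.quotientMap_mk, map_zero, map_sub, map_one, hs1, sub_self, map_zero]
  have hu : IsUnit (s 1) := by
    have := Ideal.mem_jacobson_bot.mp (hI he) (-1)
    simpa using this
  have : a * s 1 = 0 := by
    rw [← smul_eq_mul, ← map_smul, Algebra.smul_def, ha, zero_mul, map_zero]
  exact (IsUnit.mul_left_eq_zero hu).mp this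

end Groth.Agent.S2012
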