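import Groth.Statements.S2014
import Mathlib.RingTheory.OrderOfVanishing.Basic
import Mathlib.RingTheory.KrullDimension.Basic
import Mathlib.RingTheory.Ideal.MinimalPrime.Noetherian
-- import your own Groth.Agent.* helpers here

set_option autoImplicit false
universe u
open EtAlg

namespace Groth.Agent.S2014

/-- Lower bound for the length of `R / (p + (x ^ k))`. -/
theorem le_length_quot {R : Type u} [CommRing R] [IsLocalRing R] (p : Ideal R) [p.IsPrime] {x : R}
    (hx : x ∈ IsLocalRing.maximalIdeal R) (hxp : x ∉ p) (k : ℕ) :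
    (k : ℕ∞) ≤ Module.length R (R ⧸ (p ⊔ Ideal.span {x ^ k})) := by
  induction k with
  | zero => simp
  | succ k ih =>
    let I := p ⊔ Ideal.span {x ^ (k + 1)}
    let J := p ⊔ Ideal.span {x ^ k}
    have hIJ : I ≤ J := sup_le_sup_left (Ideal.span_singleton_le_span_singleton.mpr ⟨x, pow_succ x k⟩) p
    let f : (R ⧸ I) →ₗ[R] R ⧸ J := Submodule.factor hIJ
    have hf : Function.Surjective f := Submodule.factor_surjective hIJ
    rw [Module.length_eq_add_of_exact (LinearMap.ker f).subtype f (Submodule.subtype_injective _) hf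
      (LinearMap.exact_subtype_ker_map f)]
    have hne : Nontrivial (LinearMap.ker f) := by
      refine nontrivial_of_ne ⟨Submodule.Quotient.mk (x ^ k), ?_⟩ 0 fun e => ?_
      · show f (Submodule.Quotient.mk (x ^ k)) = 0
        simp only [f, Submodule.factor, Submodule.mapQ_apply, LinearMap.id_apply]
        exact (Submodule.Quotient.mk_eq_zero J).mpr (Ideal.mem_sup_right (Ideal.mem_span_singleton_self _))
      · have h1 := (Submodule.Quotient.mk_eq_zero I).mp (congrArg Subtype.val e :)
        obtain ⟨q, hq, y, hy, hqy⟩ := Submodule.mem_sup.mp h1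
        obtain ⟨r, rfl⟩ := Ideal.mem_span_singleton'.mp hy
        have h2 : x ^ k * (1 - r * x) ∈ p := by
          have : x ^ k * (1 - r * x) = q := by linear_combination -hqy
          rw [this]; exact hq
        have hu : IsUnit (1 - r * x) :=
          IsLocalRing.isUnit_one_sub_self_of_mem_nonunits _ (Ideal.mul_mem_left _ r hx)
        rcases Ideal.IsPrime.mem_or_mem ‹_› h2 with h3 | h3
        · exact hxp (Ideal.IsPrime.mem_of_pow_mem ‹_› k h3)
        · exact Ideal.IsPrime.ne_top' (Ideal.eq_top_of_isUnit_mem p h3 hu)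
    push_cast
    rw [add_comm (k : ℕ∞) 1]
    exact add_le_add (Order.one_le_iff_pos.mpr Module.length_pos) ih

/-- The reduced case. -/
theorem card_le_ord {R : Type u} [CommRing R] [IsNoetherianRing R] [IsLocalRing R] [IsReduced R]
    [Ring.KrullDimLE 1 R] (x : R) (hx : x ∈ IsLocalRing.maximalIdeal R)
    (hmin : ∀ p ∈ minimalPrimes R, x ∉ p) :
    (Set.ncard (minimalPrimes R) : ℕ∞) ≤ Ring.ord R x := by
  classical
  have hfin := minimalPrimes.finite_of_isNoetherianRing R
  let := hfin.fintype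
  let ι := minimalPrimes R
  have hprime : ∀ i : ι, (i : Ideal R).IsPrime := fun i => i.2.1.1
  have hbot : ∀ r, (∀ i : ι, r ∈ (i : Ideal R)) → r = 0 := by
    intro r hr
    have : r ∈ (⊥ : Ideal R).radical := by
      rw [← Ideal.sInf_minimalPrimes]
      exact Ideal.mem_sInf.mpr fun J hJ => hr ⟨J, hJ⟩
    exact IsReduced.eq_zero r this
  have hxreg : x ∈ nonZeroDivisors R := mem_nonZeroDivisors_iff_right.mpr fun y hy =>
    hbot y fun i => ((hprime i).mem_or_mem (hy ▸ zero_mem _ : y * x ∈ (i : Ideal R))).resolve_right (hmin _ i.2)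
  -- elements concentrated on one minimal prime
  have hE : ∀ i : ι, ∃ e, e ∉ (i : Ideal R) ∧ ∀ j : ι, j ≠ i → e ∈ (j : Ideal R) := by
    intro i
    have hnle : ¬ (Finset.univ.erase i).inf (fun j : ι => (j : Ideal R)) ≤ i := by
      intro hle
      obtain ⟨j, hj, hji⟩ := ((hprime i).inf_le'.mp hle)
      exact (Finset.mem_erase.mp hj).1 (Subtype.ext (le_antisymm hji (i.2.2 j.2.1 hji)))
    obtain ⟨e, he, hei⟩ := SetLike.not_le_iff_exists.mp hnle
    exact ⟨e, hei, fun j hj => (Submodule.mem_finsetInf.mp he) j (Finset.mem_erase.mpr ⟨hj, Finset.mem_univ j⟩)⟩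
  choose e hei hej using hE
  have hN : ∀ i : ι, ∃ N, x ^ N ∈ Ideal.span {e i} ⊔ (i : Ideal R) := by
    intro i
    suffices x ∈ (Ideal.span {e i} ⊔ (i : Ideal R)).radical from this
    rw [Ideal.radical_eq_sInf, Ideal.mem_sInf]
    rintro q ⟨hq, hq''⟩
    have hlt : (i : Ideal R) < q := lt_of_le_of_ne (le_sup_right.trans hq) fun e' => hei i
      (e' ▸ hq (Ideal.mem_sup_left (Ideal.mem_span_singleton_self _)))
    have := hprime i
    have hqm : q.IsMaximal := (Ring.krullDimLE_one_iff.mp ‹_› q hq'').resolve_left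
      fun hq' => hlt.not_ge (hq'.2 i.2.1 hlt.le)
    rw [IsLocalRing.eq_maximalIdeal hqm]
    exact hx
  choose N hN using hN
  let K := Finset.univ.sup N
  have ha : ∀ i : ι, ∃ a, (∀ j, j ≠ i → a ∈ (j : Ideal R)) ∧ x ^ K - a ∈ (i : Ideal R) := by
    intro i
    have hK : x ^ K ∈ Ideal.span {e i} ⊔ (i : Ideal R) := by
      obtain ⟨d, hd⟩ := Nat.exists_eq_add_of_le (Finset.le_sup (f := N) (Finset.mem_univ i))
      show x ^ K ∈ _
      rw [show K = N i + d from hd, pow_add]
      exact Ideal.mul_mem_right _ _ (hN i)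
    obtain ⟨y, hy, q, hq, hyq⟩ := Submodule.mem_sup.mp hK
    obtain ⟨r, rfl⟩ := Ideal.mem_span_singleton'.mp hy
    exact ⟨r * e i, fun j hj => Ideal.mul_mem_left _ r (hej i j hj), by rw [← hyq]; simpa using hq⟩
  choose a haj hai using ha
  by_contra hlt
  rw [not_le] at hlt
  obtain ⟨L, hL⟩ := ENat.ne_top_iff_exists.mp (hlt.trans (ENat.coe_lt_top _)).ne
  rw [← hL, Nat.cast_lt, Set.ncard_eq_toFinset_card', Set.toFinset_card] at hlt
  set n := Fintype.card ι with hn
  let m := K + (K * n + 1)
  let g : ((i : ι) → R ⧸ (i : Ideal R)) →ₗ[R] R ⧸ Ideal.span {x ^ m} :=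
    (Ideal.span {x ^ m}).mkQ ∘ₗ ∑ i : ι,
      (Submodule.liftQ (i : Ideal R) (LinearMap.toSpanSingleton R R (a i)) fun r hr => by
        rw [LinearMap.mem_ker, LinearMap.toSpanSingleton_apply, smul_eq_mul]
        refine hbot _ fun j => ?_
        by_cases hj : j = i
        · subst hj; exact Ideal.mul_mem_right _ _ hr
        · exact Ideal.mul_mem_left _ _ (haj i j hj)) ∘ₗ LinearMap.proj i
  let T : ι → Type u := fun i => R ⧸ ((i : Ideal R) ⊔ Ideal.span {x ^ (K * n + 1)})
  let h : ((i : ι) → R ⧸ (i : Ideal R)) →ₗ[R] (i : ι) → R ⧸ ((i : Ideal R) ⊔ Ideal.span {x ^ (K * n + 1)}) :=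
    LinearMap.pi fun i => Submodule.factor le_sup_left ∘ₗ LinearMap.proj i
  have hker : LinearMap.ker g ≤ LinearMap.ker h := by
    intro z hz
    obtain ⟨r, rfl⟩ : ∃ r : ι → R, (fun i => Submodule.Quotient.mk (r i)) = z :=
      ⟨fun i => (z i).out, funext fun i => Submodule.Quotient.mk_out _⟩
    simp only [LinearMap.mem_ker, g, LinearMap.coe_comp, Function.comp_apply, LinearMap.coe_sum,
      Finset.sum_apply, LinearMap.proj_apply, Submodule.liftQ_apply, LinearMap.toSpanSingleton_apply,
      smul_eq_mul, Submodule.mkQ_apply, Submodule.Quotient.mk_eq_zero] at hz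
    obtain ⟨c, hc⟩ := Ideal.mem_span_singleton'.mp hz
    refine LinearMap.mem_ker.mpr (funext fun i => ?_)
    show (Submodule.Quotient.mk (r i) : R ⧸ ((i : Ideal R) ⊔ Ideal.span {x ^ (K * n + 1)})) = 0
    rw [Submodule.Quotient.mk_eq_zero]
    have h1 : (∑ j, r j * a j) - r i * x ^ K ∈ (i : Ideal R) := by
      rw [← Finset.add_sum_erase _ _ (Finset.mem_univ i), add_sub_assoc, add_sub_left_comm, ← mul_sub]
      refine add_mem (Ideal.sum_mem _ fun j hj =>
        Ideal.mul_mem_left _ _ (haj j i (Finset.mem_erase.mp hj).1.symm)) ?_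
      exact Ideal.mul_mem_left _ _ (neg_sub (x ^ K) (a i) ▸ neg_mem (hai i))
    have h2 : x ^ K * (c * x ^ (K * n + 1) - r i) ∈ (i : Ideal R) := by
      have : x ^ K * (c * x ^ (K * n + 1) - r i) = (∑ j, r j * a j) - r i * x ^ K := by
        rw [← hc]; simp only [m, pow_add]; ring
      rw [this]; exact h1
    have h3 := ((hprime i).mem_or_mem h2).resolve_left
      fun h => hmin _ i.2 ((hprime i).mem_of_pow_mem K h)
    rw [← sub_sub_self (c * x ^ (K * n + 1)) (r i)]
    exact sub_mem (Ideal.mem_sup_right (Ideal.mul_mem_left _ c (Ideal.mem_span_singleton_self _)))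
      (Ideal.mem_sup_left h3)
  have hh : Function.Surjective h := by
    intro t
    choose r hr using fun i => Submodule.Quotient.mk_surjective _ (t i)
    exact ⟨fun i => Submodule.Quotient.mk (r i), funext fun i => hr i⟩
  have h4 : ((K * n + 1) * n : ℕ) ≤ Module.length R ((i : ι) → R ⧸ ((i : Ideal R) ⊔ Ideal.span {x ^ (K * n + 1)})) := by
    rw [Module.length_pi_of_fintype, mul_comm, hn, ← Finset.card_univ, ← smul_eq_mul,
      ← Finset.sum_const, Nat.cast_sum]
    refine Finset.sum_le_sum fun i _ => ?_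
    have := hprime i
    exact le_length_quot (i : Ideal R) hx (hmin _ i.2) _
  have h5 : Module.length R ((i : ι) → R ⧸ ((i : Ideal R) ⊔ Ideal.span {x ^ (K * n + 1)})) ≤ Ring.ord R (x ^ m) := by
    refine ((Module.length_le_of_surjective (Submodule.liftQ _ h hker) ?_).trans
      (g.quotKerEquivRange.length_eq.le)).trans
      (Module.length_le_of_injective (LinearMap.range g).subtype (Submodule.subtype_injective _))
    intro t
    obtain ⟨z, rfl⟩ := hh t
    exact ⟨Submodule.Quotient.mk z, rfl⟩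
  have h6 := h4.trans h5
  rw [Ring.ord_pow hxreg, ← hL, nsmul_eq_mul, ← Nat.cast_mul, Nat.cast_le] at h6
  have : L + 1 ≤ n := hlt
  simp only [m] at h6
  nlinarith [h6, Nat.mul_le_mul_left (K + (K * n + 1)) this]


/-- Let R be a Noetherian local ring of Krull dimension 1 and x an element of the maximal ideal
contained in no minimal prime of R. Then the number of minimal prime ideals of R is at most the
length of R/xR as an R-module. -/
theorem result (R : Type u) [CommRing R] [IsNoetherianRing R] [IsLocalRing R]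
    (hdim : ringKrullDim R = 1) (x : R) (hx : x ∈ IsLocalRing.maximalIdeal R) (hmin : ∀ p ∈ minimalPrimes R, x ∉ p) :
    (Set.ncard (minimalPrimes R) : ℕ∞) ≤ Module.length R (R ⧸ Ideal.span {x}) := by
  let I := nilradical R
  have : IsReduced (R ⧸ I) := (Ideal.isRadical_iff_quotient_reduced _).mp (Ideal.radical_isRadical _)
  have : Nontrivial (R ⧸ I) := Ideal.Quotient.nontrivial_iff.mpr fun h => by
    have h1 : (1 : R) ∈ I := h ▸ Submodule.mem_top
    exact not_isNilpotent_one h1
  have : IsLocalRing (R ⧸ I) := IsLocalRing.of_surjective' _ Ideal.Quotient.mk_surjective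
  have : Ring.KrullDimLE 1 R := Ring.krullDimLE_iff.mpr (by simp [hdim])
  have : Ring.KrullDimLE 1 (R ⧸ I) := Ring.krullDimLE_iff.mpr
    ((ringKrullDim_quotient_le I).trans (by simp [hdim]))
  have hbij : minimalPrimes R = Ideal.comap (Ideal.Quotient.mk I) '' minimalPrimes (R ⧸ I) := by
    rw [minimalPrimes, minimalPrimes, ← Ideal.minimalPrimes_eq_comap]
    rw [show I = (⊥ : Ideal R).radical from rfl, Ideal.radical_minimalPrimes]
  have hx' : Ideal.Quotient.mk I x ∈ IsLocalRing.maximalIdeal (R ⧸ I) := by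
    rw [IsLocalRing.mem_maximalIdeal]
    intro hu
    have := (IsLocalRing.maximalIdeal.isMaximal R).isPrime
    obtain ⟨y, hy⟩ := hu.exists_right_inv
    obtain ⟨y, rfl⟩ := Ideal.Quotient.mk_surjective y
    rw [← map_mul, ← map_one (Ideal.Quotient.mk I), Ideal.Quotient.eq] at hy
    have h1 : x * y - 1 ∈ IsLocalRing.maximalIdeal R :=
      IsLocalRing.le_maximalIdeal (fun h => by
        have h1 : (1 : R) ∈ I := h ▸ Submodule.mem_top
        exact not_isNilpotent_one h1) hy
    exact this.ne_top ((Ideal.eq_top_iff_one _).mpr (by simpa using sub_mem (Ideal.mul_mem_right y _ hx) h1))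
  have key := card_le_ord (Ideal.Quotient.mk I x) hx' fun p hp =>
    hmin (p.comap (Ideal.Quotient.mk I)) (by rw [hbij]; exact Set.mem_image_of_mem _ hp)
  rw [hbij, Set.ncard_image_of_injective _ (Ideal.comap_injective_of_surjective _ Ideal.Quotient.mk_surjective)]
  refine key.trans ?_
  rw [Ring.ord, ← Module.length_eq_of_surjective (S := R) Ideal.Quotient.mk_surjective]
  let f : R →ₗ[R] (R ⧸ I) ⧸ Ideal.span {Ideal.Quotient.mk I x} :=
    ((Ideal.span {Ideal.Quotient.mk I x}).mkQ.restrictScalars R) ∘ₗ Submodule.mkQ I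
  refine Module.length_le_of_surjective (Submodule.liftQ (Ideal.span {x}) f ?_) ?_
  · rw [Ideal.span_le, Set.singleton_subset_iff]
    exact (Submodule.Quotient.mk_eq_zero _).mpr (Ideal.mem_span_singleton_self _)
  · intro z
    obtain ⟨z, rfl⟩ := Submodule.Quotient.mk_surjective _ z
    obtain ⟨z, rfl⟩ := Submodule.Quotient.mk_surjective _ z
    exact ⟨Submodule.Quotient.mk z, rfl⟩

end Groth.Agent.S2014
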