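import Groth.Statements.S2015
import Mathlib.Algebra.Module.FinitePresentation
import Mathlib.RingTheory.Ideal.Quotient.Operations
import Mathlib.LinearAlgebra.StdBasis
import Mathlib.Tactic.LinearCombination
-- import your own Groth.Agent.* helpers here

set_option autoImplicit false
universe u
open EtAlg

namespace Groth.Agent.S2015

/-- Let R be a nonzero ring such that for all a, b in R either a divides b or b divides a. Then each
finitely presented R-module decomposes as a direct sum of finitely many cyclic modules R/fR. -/
theorem result (R : Type u) [CommRing R] [Nontrivial R] (h : ∀ a b : R, a ∣ b ∨ b ∣ a)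
    (M : Type u) [AddCommGroup M] [Module R M] [Module.FinitePresentation R M] :
    ∃ (n : ℕ) (f : Fin n → R), Nonempty (M ≃ₗ[R] ((i : Fin n) → R ⧸ Ideal.span {f i})) := by
  classical
  have key : ∀ (n : ℕ) (K : Submodule R (Fin n → R)), K.FG →
      ∃ (m : ℕ) (f : Fin m → R), Nonempty (((Fin n → R) ⧸ K) ≃ₗ[R] ((i : Fin m) → R ⧸ Ideal.span {f i})) := by
    intro n
    induction n with
    | zero =>
      intro K _
      haveI : Subsingleton ((Fin 0 → R) ⧸ K) := (Submodule.mkQ_surjective K).subsingleton
      exact ⟨0, Fin.elim0, ⟨LinearEquiv.ofSubsingleton _ _⟩⟩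
    | succ n ih =>
      intro K hK
      obtain ⟨S, hS⟩ := hK
      have hmin : ∀ s : Finset ((Fin (n + 1) → R) × Fin (n + 1)), s.Nonempty → ∃ a ∈ s, ∀ b ∈ s, a.1 a.2 ∣ b.1 b.2 := by
        intro s hs
        induction hs using Finset.Nonempty.cons_induction with
        | singleton a => exact ⟨a, Finset.mem_singleton_self a, fun b hb => by rw [Finset.mem_singleton.mp hb]⟩
        | cons a s ha _ ih' =>
          obtain ⟨i, hi, hmin'⟩ := ih'
          rcases h (a.1 a.2) (i.1 i.2) with hh | hh
          · exact ⟨a, Finset.mem_cons_self _ _, fun j hj => (Finset.mem_cons.mp hj).elim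
              (fun e => e ▸ dvd_rfl) fun hj => hh.trans (hmin' j hj)⟩
          · exact ⟨i, Finset.mem_cons_of_mem hi, fun j hj => (Finset.mem_cons.mp hj).elim
              (fun e => e ▸ hh) (hmin' j)⟩
      obtain ⟨⟨v, i₀⟩, hv, hdvd⟩ := hmin (insert (0, 0) ((insert 0 S) ×ˢ Finset.univ)) (Finset.insert_nonempty _ _)
      have hvK : v ∈ K := by
        rcases Finset.mem_insert.mp hv with hv | hv
        · rw [show v = 0 from congrArg Prod.fst hv]; exact zero_mem K
        · rcases Finset.mem_insert.mp (Finset.mem_product.mp hv).1 with hv | hv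
          · rw [show v = 0 from hv]; exact zero_mem K
          · rw [← hS]; exact Submodule.subset_span hv
      set d := v i₀ with hd
      have hall : ∀ x ∈ K, ∀ j, d ∣ x j := by
        intro x hx j
        rw [← hS] at hx
        induction hx using Submodule.span_induction with
        | mem x hx => exact hdvd (x, j) (Finset.mem_insert_of_mem (Finset.mem_product.mpr ⟨Finset.mem_insert_of_mem hx, Finset.mem_univ j⟩))
        | zero => exact dvd_zero d
        | add a b _ _ ha hb => exact dvd_add ha hb
        | smul c a _ ha => exact Dvd.dvd.mul_left ha c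
      choose c hc using fun j => hall v hvK j
      let v' : Fin (n + 1) → R := Function.update c i₀ 1
      have hv' : v = d • v' := funext fun j => by
        by_cases hj : j = i₀
        · subst hj; simp [v', hd]
        · simp [v', hj, hc j]
      let p : (Fin (n + 1) → R) →ₗ[R] (Fin n → R) :=
        { toFun := fun x j => x (i₀.succAbove j) - x i₀ * v' (i₀.succAbove j)
          map_add' := fun x y => funext fun j => by simp; ring
          map_smul' := fun r x => funext fun j => by simp; ring }
      obtain ⟨m, f, ⟨e⟩⟩ := ih (K.map p) (Submodule.FG.map p ⟨S, hS⟩)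
      let Φ : (Fin (n + 1) → R) →ₗ[R] (R ⧸ Ideal.span {d}) × ((Fin n → R) ⧸ K.map p) :=
        LinearMap.prod ((Ideal.span {d}).mkQ.comp (LinearMap.proj i₀)) ((K.map p).mkQ.comp p)
      have hker : LinearMap.ker Φ = K := by
        refine le_antisymm (fun x hx => ?_) fun x hx => ?_
        · rw [LinearMap.mem_ker, LinearMap.prod_apply] at hx
          obtain ⟨h1, h2⟩ := Prod.mk.injEq _ _ _ _ ▸ hx
          obtain ⟨t, ht⟩ := Ideal.mem_span_singleton'.mp ((Submodule.Quotient.mk_eq_zero _).mp h1)
          obtain ⟨y, hy, hyx⟩ := Submodule.mem_map.mp ((Submodule.Quotient.mk_eq_zero _).mp h2)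
          obtain ⟨s, hs⟩ := hall y hy i₀
          have hxy : x = y + (t - s) • v := funext fun j => by
            induction j using Fin.succAboveCases i₀ with
            | x =>
              simp only [Pi.add_apply, Pi.smul_apply, smul_eq_mul, LinearMap.proj_apply] at ht ⊢
              rw [hs, ← hd, ← ht]; ring
            | p j =>
              have h3 : y (i₀.succAbove j) - y i₀ * v' (i₀.succAbove j) = x (i₀.succAbove j) - x i₀ * v' (i₀.succAbove j) :=
                congrFun hyx j
              simp only [LinearMap.proj_apply] at ht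
              simp only [Pi.add_apply, Pi.smul_apply, smul_eq_mul]
              rw [hv', Pi.smul_apply, smul_eq_mul]
              rw [← ht, hs] at h3
              linear_combination -h3
          rw [hxy]
          exact add_mem hy (K.smul_mem _ hvK)
        · rw [LinearMap.mem_ker, LinearMap.prod_apply]
          exact Prod.ext ((Submodule.Quotient.mk_eq_zero _).mpr (Ideal.mem_span_singleton.mpr (hall x hx i₀)))
            ((Submodule.Quotient.mk_eq_zero _).mpr (Submodule.mem_map_of_mem hx))
      have hsurj : Function.Surjective Φ := by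
        rintro ⟨a, b⟩
        obtain ⟨a, rfl⟩ := Submodule.mkQ_surjective _ a
        obtain ⟨b, rfl⟩ := Submodule.mkQ_surjective _ b
        refine ⟨Fin.insertNth i₀ a (fun j => b j + a * v' (i₀.succAbove j)), ?_⟩
        rw [LinearMap.prod_apply]
        refine Prod.ext ?_ ?_
        · simp
        · show (K.map p).mkQ (p _) = _
          congr 1
          funext j
          simp [p]
      let E1 := (Submodule.quotEquivOfEq _ _ hker.symm).trans (LinearMap.quotKerEquivOfSurjective Φ hsurj)
      let E2 : ((R ⧸ Ideal.span {d}) × ((i : Fin m) → R ⧸ Ideal.span {f i})) ≃ₗ[R]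
          ((i : Fin (m + 1)) → R ⧸ Ideal.span {(Fin.cons d f : Fin (m + 1) → R) i}) :=
        { toFun := fun ab => Fin.cases ab.1 ab.2
          map_add' := fun x y => by funext i; induction i using Fin.cases <;> rfl
          map_smul' := fun r x => by funext i; induction i using Fin.cases <;> rfl
          invFun := fun g => (g 0, fun i => g i.succ)
          left_inv := fun x => rfl
          right_inv := fun g => by funext i; induction i using Fin.cases <;> rfl }
      exact ⟨m + 1, Fin.cons d f, ⟨E1.trans (((LinearEquiv.refl R (R ⧸ Ideal.span {d})).prodCongr e).trans E2)⟩⟩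
  obtain ⟨n, π, hπ⟩ := Module.Finite.exists_fin' R M
  have hfg : (LinearMap.ker π).FG := Module.FinitePresentation.fg_ker π hπ
  obtain ⟨m, f, ⟨e⟩⟩ := key n _ hfg
  exact ⟨m, f, ⟨(LinearMap.quotKerEquivOfSurjective π hπ).symm.trans e⟩⟩

end Groth.Agent.S2015
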