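import Groth.Statements.S2016
import Mathlib.Algebra.Module.FinitePresentation
import Mathlib.RingTheory.Localization.Module
import Mathlib.Tactic.LinearCombination
import Mathlib.Tactic.Ring
import Mathlib.LinearAlgebra.Pi
import Mathlib.Algebra.Module.LocalizedModule.Submodule
import Mathlib.RingTheory.Localization.BaseChange
-- import your own Groth.Agent.* helpers here

set_option autoImplicit false
universe u
open EtAlg

namespace Groth.Agent.S2016

/-- Endomorphisms which are sums of endomorphisms factoring through cyclic modules `R/fR`. -/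
def thru (R : Type*) [CommRing R] (M : Type*) [AddCommGroup M] [Module R M] : Submodule R (M →ₗ[R] M) :=
  Submodule.span R {φ | ∃ (f : R) (u : (R ⧸ Ideal.span {f}) →ₗ[R] M) (v : M →ₗ[R] R ⧸ Ideal.span {f}),
    φ = u ∘ₗ v}

theorem thru_conj {R : Type*} [CommRing R] {M B : Type*} [AddCommGroup M] [Module R M] [AddCommGroup B]
    [Module R B] (i : B →ₗ[R] M) (p : M →ₗ[R] B) {φ : B →ₗ[R] B} (h : φ ∈ thru R B) :
    i ∘ₗ φ ∘ₗ p ∈ thru R M := by
  induction h using Submodule.span_induction with
  | mem φ h =>
    obtain ⟨f, u, v, rfl⟩ := h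
    exact Submodule.subset_span ⟨f, i ∘ₗ u, v ∘ₗ p, rfl⟩
  | zero => simp
  | add x y _ _ hx hy =>
    rw [LinearMap.add_comp, LinearMap.comp_add]
    exact add_mem hx hy
  | smul a x _ hx =>
    rw [LinearMap.smul_comp, LinearMap.comp_smul]
    exact Submodule.smul_mem _ a hx

theorem thru_of_equiv {R : Type*} [CommRing R] {M B : Type*} [AddCommGroup M] [Module R M] [AddCommGroup B]
    [Module R B] (e : M ≃ₗ[R] B) (h : LinearMap.id ∈ thru R B) : LinearMap.id ∈ thru R M := by
  have h1 := thru_conj e.symm.toLinearMap e.toLinearMap h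
  rwa [LinearMap.id_comp, e.symm_comp] at h1

theorem thru_pi_quotient {R : Type*} [CommRing R] (hR : ∀ a b : R, a ∣ b ∨ b ∣ a) :
    ∀ (n : ℕ) (K : Submodule R (Fin n → R)), K.FG → LinearMap.id ∈ thru R ((Fin n → R) ⧸ K)
  | 0, K, _ => by
    rw [show (LinearMap.id : ((Fin 0 → R) ⧸ K) →ₗ[R] _) = 0 from LinearMap.ext fun x => Subsingleton.elim _ _]
    exact zero_mem _
  | n + 1, K, hK => by
    classical
    obtain ⟨j, d, w, hw, hdw, hdiv⟩ : ∃ (j : Fin (n + 1)) (d : R) (w : Fin (n + 1) → R),
        w j = 1 ∧ d • w ∈ K ∧ ∀ k ∈ K, d ∣ k j := by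
      obtain ⟨T, hT⟩ := hK
      rcases (T ×ˢ (Finset.univ : Finset (Fin (n + 1)))).eq_empty_or_nonempty with h0 | hne
      · refine ⟨0, 0, Pi.single 0 1, Pi.single_eq_same _ _, by simp, fun k hk => ?_⟩
        have : T = ∅ := by
          rcases Finset.product_eq_empty.mp h0 with h | h
          · exact h
          · exact absurd h Finset.univ_nonempty.ne_empty
        rw [← hT, this, Finset.coe_empty, Submodule.span_empty, Submodule.mem_bot] at hk
        simp [hk]
      · have hmin : ∀ s : Finset ((Fin (n + 1) → R) × Fin (n + 1)), s.Nonempty →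
            ∃ a ∈ s, ∀ b ∈ s, a.1 a.2 ∣ b.1 b.2 := by
          intro s hs
          induction hs using Finset.Nonempty.cons_induction with
          | singleton a => exact ⟨a, by simp, by simp⟩
          | cons a s ha hs ih =>
            obtain ⟨b, hb, hbs⟩ := ih
            rcases hR (a.1 a.2) (b.1 b.2) with h | h
            · exact ⟨a, Finset.mem_cons_self a s, fun c hc => (Finset.mem_cons.mp hc).elim
                (fun e => e ▸ dvd_rfl) fun hc => h.trans (hbs c hc)⟩
            · exact ⟨b, Finset.mem_cons_of_mem hb, fun c hc => (Finset.mem_cons.mp hc).elim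
                (fun e => e ▸ h) fun hc => hbs c hc⟩
        obtain ⟨⟨g, j⟩, hg, hall⟩ := hmin _ hne
        have hgT : g ∈ T := (Finset.mem_product.mp hg).1
        choose c hc using fun i => hall (g, i) (Finset.mem_product.mpr ⟨hgT, Finset.mem_univ i⟩)
        refine ⟨j, g j, Function.update c j 1, Function.update_self _ _ _, ?_, fun k hk => ?_⟩
        · have : g j • Function.update c j 1 = g := funext fun i => by
            by_cases h : i = j
            · subst h; simp
            · simp [Function.update_of_ne h, ← hc i]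
          rw [this, ← hT]
          exact Submodule.subset_span hgT
        · rw [← hT] at hk
          induction hk using Submodule.span_induction with
          | mem x hx => exact hall (x, j) (Finset.mem_product.mpr ⟨hx, Finset.mem_univ j⟩)
          | zero => simp
          | add x y _ _ hx hy => exact dvd_add hx hy
          | smul a x _ hx => exact Dvd.dvd.mul_left hx a
    let ψ : (Fin (n + 1) → R) →ₗ[R] (Fin n → R) :=
      LinearMap.pi fun i => (LinearMap.proj (j.succAbove i) : (Fin (n + 1) → R) →ₗ[R] R) - w (j.succAbove i) • (LinearMap.proj j : (Fin (n + 1) → R) →ₗ[R] R)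
    let K' := K.map ψ
    let Φ : (Fin (n + 1) → R) →ₗ[R] (R ⧸ Ideal.span {d}) × ((Fin n → R) ⧸ K') :=
      ((Ideal.span {d}).mkQ ∘ₗ (LinearMap.proj j : (Fin (n + 1) → R) →ₗ[R] R)).prod (K'.mkQ ∘ₗ ψ)
    have hΦ : Function.Surjective Φ := by
      rintro ⟨a, b⟩
      obtain ⟨a, rfl⟩ := Submodule.mkQ_surjective _ a
      obtain ⟨b, rfl⟩ := Submodule.mkQ_surjective _ b
      refine ⟨j.insertNth a (fun i => b i + w (j.succAbove i) * a), Prod.ext ?_ ?_⟩
      · simp [Φ, Fin.insertNth_apply_same]
      · show K'.mkQ (ψ _) = _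
        congr 1
        funext i
        simp only [ψ, LinearMap.pi_apply, LinearMap.sub_apply, LinearMap.smul_apply, LinearMap.proj_apply, smul_eq_mul]
        rw [Fin.insertNth_apply_same, Fin.insertNth_apply_succAbove]
        ring
    have hker : LinearMap.ker Φ = K := by
      ext v
      simp only [Φ, LinearMap.ker_prod, Submodule.mem_inf, LinearMap.mem_ker, LinearMap.comp_apply,
        Submodule.mkQ_apply, Submodule.Quotient.mk_eq_zero, LinearMap.proj_apply, Ideal.mem_span_singleton]
      refine ⟨fun ⟨⟨c, hc⟩, k, hk, hkv⟩ => ?_, fun hv => ⟨hdiv v hv, v, hv, rfl⟩⟩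
      obtain ⟨c', hc'⟩ := hdiv k hk
      have key : v - k = (c - c') • (d • w) := funext fun i => by
        rcases Fin.eq_self_or_eq_succAbove j i with rfl | ⟨i, rfl⟩
        · simp only [Pi.sub_apply, Pi.smul_apply, smul_eq_mul, hc, hc', hw]; ring
        · have h1 := congrFun hkv i
          simp only [ψ, LinearMap.pi_apply, LinearMap.sub_apply, LinearMap.proj_apply,
            LinearMap.smul_apply, smul_eq_mul, hc, hc'] at h1
          simp only [Pi.sub_apply, Pi.smul_apply, smul_eq_mul]
          linear_combination -h1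
      rw [show v = (v - k) + k by simp, key]
      exact add_mem (K.smul_mem _ hdw) hk
    refine thru_of_equiv ((Submodule.quotEquivOfEq K _ hker.symm).trans (Φ.quotKerEquivOfSurjective hΦ)) ?_
    rw [show (LinearMap.id : ((R ⧸ Ideal.span {d}) × ((Fin n → R) ⧸ K')) →ₗ[R] _) =
      LinearMap.inl R _ _ ∘ₗ LinearMap.fst R _ _ +
        LinearMap.inr R _ _ ∘ₗ LinearMap.id ∘ₗ LinearMap.snd R _ _ from LinearMap.ext fun x => by simp]
    exact add_mem (Submodule.subset_span ⟨d, _, _, rfl⟩)
      (thru_conj _ _ (thru_pi_quotient hR n K' (hK.map ψ)))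

theorem thru_descend {R : Type u} [CommRing R] (S : Submonoid R) (M : Type u) [AddCommGroup M] [Module R M]
    [Module.FinitePresentation R M] {φ : LocalizedModule S M →ₗ[Localization S] LocalizedModule S M}
    (h : φ ∈ thru (Localization S) (LocalizedModule S M)) :
    ∃ s ∈ S, ∃ ψ ∈ thru R M, ∀ x : M, LocalizedModule.mkLinearMap S M (ψ x) =
      s • φ (LocalizedModule.mkLinearMap S M x) := by
  induction h using Submodule.span_induction with
  | zero => exact ⟨1, S.one_mem, 0, zero_mem _, fun x => by simp⟩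
  | add a b _ _ ha hb =>
    obtain ⟨s, hs, ψ, hψ, h1⟩ := ha
    obtain ⟨t, ht, χ, hχ, h2⟩ := hb
    refine ⟨s * t, S.mul_mem hs ht, t • ψ + s • χ,
      add_mem (Submodule.smul_mem _ _ hψ) (Submodule.smul_mem _ _ hχ), fun x => ?_⟩
    rw [LinearMap.add_apply, LinearMap.smul_apply, LinearMap.smul_apply, map_add, map_smul, map_smul, h1, h2,
      LinearMap.add_apply, smul_add, smul_smul, smul_smul, mul_comm t s]
  | smul r a _ ha =>
    obtain ⟨s, hs, ψ, hψ, h1⟩ := ha
    obtain ⟨⟨a₀, t⟩, hr⟩ := IsLocalization.surj S r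
    refine ⟨(t : R) * s, S.mul_mem t.2 hs, a₀ • ψ, Submodule.smul_mem _ _ hψ, fun x => ?_⟩
    rw [LinearMap.smul_apply, map_smul, h1, LinearMap.smul_apply, ← algebraMap_smul (Localization S) a₀, ← hr,
      mul_comm (t : R) s, mul_smul s (t : R), mul_comm r, mul_smul, algebraMap_smul, smul_comm (s : R) (t : R)]
    congr 1
    exact (smul_comm s r _).symm
  | mem a ha =>
    obtain ⟨f, u, v, rfl⟩ := ha
    obtain ⟨⟨f₀, t⟩, hf⟩ := IsLocalization.surj S f
    let ι : (R ⧸ Ideal.span {f₀}) →ₗ[R] Localization S ⧸ Ideal.span {f} :=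
      Submodule.mapQ (Ideal.span {f₀}) ((Ideal.span {f}).restrictScalars R) (Algebra.linearMap R (Localization S)) (by
        rw [Ideal.span, Submodule.span_le, Set.singleton_subset_iff]
        show algebraMap R (Localization S) f₀ ∈ Ideal.span {f}
        rw [← hf]
        exact Ideal.mul_mem_right _ _ (Ideal.mem_span_singleton_self f))
    have hι : ∀ c, ι (Submodule.Quotient.mk c) = Submodule.Quotient.mk (algebraMap R (Localization S) c) := fun c => rfl
    haveI : IsLocalizedModule S ι := by
      refine ⟨fun s => ?_, fun y => ?_, fun {x y} hxy => ?_⟩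
      · obtain ⟨b, hb⟩ := (IsLocalization.map_units (Localization S) s).exists_right_inv
        rw [Module.End.isUnit_iff]
        refine Function.bijective_iff_has_inverse.mpr ⟨fun y => b • y, fun y => ?_, fun y => ?_⟩
        · show b • ((s : R) • y) = y
          rw [← algebraMap_smul (Localization S) (s : R) y, smul_smul, mul_comm, hb, one_smul]
        · show (s : R) • b • y = y
          rw [← algebraMap_smul (Localization S) (s : R) (b • y), smul_smul, hb, one_smul]
      · obtain ⟨y, rfl⟩ := Submodule.Quotient.mk_surjective _ y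
        obtain ⟨⟨a, s⟩, hs⟩ := IsLocalization.surj S y
        exact ⟨⟨Submodule.Quotient.mk a, s⟩, by
          rw [hι, ← hs, mul_comm, ← Algebra.smul_def]; rfl⟩
      · obtain ⟨x, rfl⟩ := Submodule.Quotient.mk_surjective _ x
        obtain ⟨y, rfl⟩ := Submodule.Quotient.mk_surjective _ y
        obtain ⟨z, hz⟩ := Ideal.mem_span_singleton'.mp ((Submodule.Quotient.eq _).mp hxy)
        obtain ⟨⟨z₀, s⟩, hz₀⟩ := IsLocalization.surj S z
        replace hz : z * f = algebraMap R (Localization S) x - algebraMap R (Localization S) y := hz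
        have : algebraMap R (Localization S) ((x - y) * ((s : R) * t)) = algebraMap R (Localization S) (z₀ * f₀) := by
          rw [map_mul, map_mul, map_mul, map_sub, ← hf, ← hz₀, ← hz]
          ring
        obtain ⟨c, hc⟩ := IsLocalization.exists_of_eq (M := S) this
        refine ⟨c * (s * t), ?_⟩
        show Submodule.Quotient.mk ((c * (s * t) : S) • x) = Submodule.Quotient.mk ((c * (s * t) : S) • y)
        rw [Submodule.Quotient.eq, Ideal.mem_span_singleton']
        refine ⟨c * z₀, ?_⟩
        simp only [Submonoid.smul_def, Submonoid.coe_mul, smul_eq_mul]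
        linear_combination -hc
    let g := LocalizedModule.mkLinearMap S M
    obtain ⟨⟨x₀, s₁⟩, hx₀⟩ := IsLocalizedModule.surj S g (u (Submodule.Quotient.mk 1))
    have h0 : f₀ • u (Submodule.Quotient.mk 1) = 0 := by
      rw [← LinearMap.map_smul_of_tower u, ← Submodule.Quotient.mk_smul, ← map_zero u]
      congr 1
      rw [Submodule.Quotient.mk_eq_zero, Algebra.smul_def, mul_one, ← hf]
      exact Ideal.mul_mem_right _ _ (Ideal.mem_span_singleton_self f)
    obtain ⟨t₂, ht₂⟩ := (IsLocalizedModule.eq_zero_iff S g (m := f₀ • x₀)).mp (by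
      rw [map_smul, ← hx₀, Submonoid.smul_def, smul_comm, h0, smul_zero])
    let u₀ : (R ⧸ Ideal.span {f₀}) →ₗ[R] M := Submodule.liftQ _ (LinearMap.toSpanSingleton R M ((t₂ : R) • x₀)) (by
      rw [Ideal.span, Submodule.span_le, Set.singleton_subset_iff]
      show f₀ • ((t₂ : R) • x₀) = 0
      rw [smul_comm]
      exact ht₂)
    obtain ⟨v₀, s₃, hv₀⟩ := Module.FinitePresentation.exists_lift_of_isLocalizedModule S ι
      ((v.restrictScalars R) ∘ₗ g)
    refine ⟨(t₂ : R) * s₁ * s₃, S.mul_mem (S.mul_mem t₂.2 s₁.2) s₃.2, u₀ ∘ₗ v₀,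
      Submodule.subset_span ⟨f₀, u₀, v₀, rfl⟩, fun x => ?_⟩
    obtain ⟨c, hc⟩ := Submodule.Quotient.mk_surjective _ (v₀ x)
    have h3 : ι (v₀ x) = (s₃ : R) • v (g x) := LinearMap.congr_fun hv₀ x
    show g (u₀ (v₀ x)) = _ • u (v (g x))
    rw [mul_smul, ← LinearMap.map_smul_of_tower u (s₃ : R), ← h3, ← hc, hι,
      ← mul_one (algebraMap R (Localization S) c), ← Algebra.smul_def,
      Submodule.Quotient.mk_smul, LinearMap.map_smul_of_tower]
    show g (c • ((t₂ : R) • x₀)) = _
    rw [map_smul, map_smul, ← hx₀, Submonoid.smul_def, smul_comm c, mul_smul, smul_comm c (s₁ : R)]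


/-- Let R be a ring such that for every maximal ideal m and all a, b in R_m, either a divides b or b
divides a in R_m. Then each finitely presented R-module is a direct summand of a direct sum of
finitely many cyclic modules R/fR. -/
theorem result (R : Type u) [CommRing R]
    (h : ∀ (m : Ideal R) [m.IsMaximal], ∀ a b : Localization.AtPrime m, a ∣ b ∨ b ∣ a)
    (M : Type u) [AddCommGroup M] [Module R M] [Module.FinitePresentation R M] :
    ∃ (n : ℕ) (f : Fin n → R) (N : Type u) (_ : AddCommGroup N) (_ : Module R N),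
      Nonempty ((M × N) ≃ₗ[R] ((i : Fin n) → R ⧸ Ideal.span {f i})) := by
  classical
  let I : Ideal R := (thru R M).comap (LinearMap.toSpanSingleton R (M →ₗ[R] M) LinearMap.id)
  have hI : I = ⊤ := by
    by_contra hne
    obtain ⟨m, hm, hIm⟩ := Ideal.exists_le_maximal I hne
    let S := m.primeCompl
    let g := LocalizedModule.mkLinearMap S M
    haveI : Module.FinitePresentation (Localization S) (LocalizedModule S M) :=
      FinitePresentation.of_isBaseChange g ((isLocalizedModule_iff_isBaseChange S (Localization S) g).mp inferInstance)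
    obtain ⟨n, K, e, hK⟩ := Module.FinitePresentation.exists_fin (Localization S) (LocalizedModule S M)
    obtain ⟨s, hs, ψ, hψ, hψs⟩ := thru_descend S M (thru_of_equiv e (thru_pi_quotient (h m) n K hK))
    obtain ⟨T, hT⟩ := Module.Finite.fg_top (R := R) (M := M)
    choose c hc using fun x : M => IsLocalizedModule.exists_of_eq (S := S) (f := g)
      ((hψs x).trans (map_smul g s x).symm)
    let c₀ : S := ∏ x ∈ T, c x
    have h1 : (c₀ : R) • ψ = ((c₀ : R) * s) • LinearMap.id := by
      refine LinearMap.ext_on hT fun x hx => ?_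
      obtain ⟨d, hd⟩ := Finset.dvd_prod_of_mem c (Finset.mem_coe.mp hx)
      show (c₀ : R) • ψ x = ((c₀ : R) * s) • x
      rw [mul_smul]
      show c₀ • ψ x = c₀ • (s • x)
      rw [show c₀ = d * c x from hd.trans (mul_comm _ _), mul_smul, mul_smul, hc]
    refine (m.primeCompl.mul_mem c₀.2 hs : (c₀ : R) * s ∉ m) (hIm ?_)
    show ((c₀ : R) * s) • LinearMap.id ∈ thru R M
    rw [← h1]
    exact Submodule.smul_mem _ _ hψ
  have hid : LinearMap.id ∈ thru R M := by
    have h1 : (1 : R) ∈ I := hI ▸ Submodule.mem_top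
    have h2 : (1 : R) • (LinearMap.id : M →ₗ[R] M) ∈ thru R M := h1
    rwa [one_smul] at h2
  obtain ⟨n, a, φ, hsum⟩ := (Submodule.mem_span_set'.mp hid)
  choose f u v huv using fun i => (φ i).2
  let U : ((i : Fin n) → R ⧸ Ideal.span {f i}) →ₗ[R] M := LinearMap.lsum R _ R fun i => a i • u i
  let V : M →ₗ[R] (i : Fin n) → R ⧸ Ideal.span {f i} := LinearMap.pi v
  have hUV : ∀ x, U (V x) = x := fun x => by
    conv_rhs => rw [← LinearMap.id_apply (R := R) x, ← hsum]
    simp [U, V, huv, LinearMap.sum_apply]
  refine ⟨n, f, LinearMap.ker U, inferInstance, inferInstance, ⟨LinearEquiv.ofLinearMap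
    (V.coprod (LinearMap.ker U).subtype)
    (U.prod ((LinearMap.id - V ∘ₗ U).codRestrict _ fun y => by simp [hUV])) ?_ ?_⟩⟩
  · exact LinearMap.ext fun y => by simp
  · refine LinearMap.ext fun x => ?_
    obtain ⟨x, y, hy⟩ := x
    refine Prod.ext ?_ (Subtype.ext ?_) <;> simp [hUV, LinearMap.mem_ker.mp hy]

end Groth.Agent.S2016
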