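import Groth.Statements.S2017
import Mathlib.RingTheory.Adjoin.Tower
import Mathlib.RingTheory.FiniteType
import Mathlib.RingTheory.Finiteness.Prod
-- import your own Groth.Agent.* helpers here

set_option autoImplicit false
universe u
open EtAlg

namespace Groth.Agent.S2017

/-- Let R be a Noetherian ring, A, B, C R-algebras of finite type, f : A -> B a surjective R-algebra map
and g : C -> B an R-algebra map making B a finite C-module. Then the fibre product A ×_B C (the
equalizer of f ∘ pr₁ and g ∘ pr₂ in A × C) is an R-algebra of finite type. -/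
theorem result (R A B C : Type u) [CommRing R] [IsNoetherianRing R] [CommRing A] [CommRing B]
    [CommRing C] [Algebra R A] [Algebra R B] [Algebra R C] [Algebra.FiniteType R A] [Algebra.FiniteType R B]
    [Algebra.FiniteType R C] (f : A →ₐ[R] B) (hf : Function.Surjective f) (g : C →ₐ[R] B)
    (hg : (g.toRingHom).Finite) :
    Algebra.FiniteType R ↥(AlgHom.equalizer (f.comp (AlgHom.fst R A C)) (g.comp (AlgHom.snd R A C))) := by
  let P := AlgHom.equalizer (f.comp (AlgHom.fst R A C)) (g.comp (AlgHom.snd R A C))
  letI : Module C B := g.toRingHom.toAlgebra.toModule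
  haveI : Module.Finite C B := hg
  obtain ⟨S, hS⟩ := Module.Finite.fg_top (R := C) (M := B)
  choose lift hlift using hf
  have hAC : (⊤ : Submodule P (A × C)).FG := by
    classical
    refine ⟨insert (0, 1) (insert (1, 0) (S.image fun b => (lift b, 0))), ?_⟩
    set N : Submodule P (A × C) := Submodule.span P _ with hN
    have hmem : ∀ (x y : A × C), x ∈ P → y ∈ N → x * y ∈ N := fun x y hx hy =>
      N.smul_mem ⟨x, hx⟩ hy
    have h01 : ((0, 1) : A × C) ∈ N := Submodule.subset_span (by simp)
    have h10 : ((1, 0) : A × C) ∈ N := Submodule.subset_span (by simp)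
    have hA : ∀ b : B, ∃ a : A, f a = b ∧ ((a, 0) : A × C) ∈ N := by
      intro b
      have hb : b ∈ Submodule.span C (S : Set B) := hS ▸ Submodule.mem_top
      induction hb using Submodule.span_induction with
      | mem z hz => exact ⟨lift z, hlift z, Submodule.subset_span (by
          simp only [Finset.coe_insert, Finset.coe_image, Set.mem_insert_iff, Set.mem_image]
          exact Or.inr (Or.inr ⟨z, hz, rfl⟩))⟩
      | zero => exact ⟨0, map_zero _, N.zero_mem⟩
      | add x y _ _ hx hy =>
        obtain ⟨a, rfl, ha⟩ := hx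
        obtain ⟨a', rfl, ha'⟩ := hy
        exact ⟨a + a', map_add _ _ _, by simpa using N.add_mem ha ha'⟩
      | smul c x _ hx =>
        obtain ⟨a, rfl, ha⟩ := hx
        refine ⟨lift (g c) * a, by rw [map_mul, hlift]; rfl, ?_⟩
        have := hmem (lift (g c), c) (a, 0) (hlift (g c)) ha
        rwa [Prod.mk_mul_mk, mul_zero] at this
    refine eq_top_iff.mpr fun ⟨a, c⟩ _ => ?_
    obtain ⟨a₀, ha₀, ha₀N⟩ := hA (f a)
    have h1 : ((a, c) : A × C) = (a - a₀, 0) * (1, 0) + (a₀, 0) + (lift (g c), c) * (0, 1) := by
      simp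
    rw [h1]
    refine N.add_mem (N.add_mem (hmem _ _ ?_ h10) ha₀N) (hmem _ _ (hlift (g c)) h01)
    show f (a - a₀) = g 0
    rw [map_sub, map_zero, ha₀, sub_self]
  exact ⟨fg_of_fg_of_fg R P (A × C) Algebra.FiniteType.out hAC Subtype.val_injective⟩

end Groth.Agent.S2017
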