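import Groth.Statements.S2018
import Mathlib.Algebra.Polynomial.Lifts
import Mathlib.RingTheory.IntegralClosure.IsIntegral.Basic
-- import your own Groth.Agent.* helpers here

set_option autoImplicit false
universe u
open EtAlg

namespace Groth.Agent.S2018

/-- Let g : A' -> A be a surjective ring map and f : B -> A an integral ring map. Then the projection
from the fibre product B ×_A A' (the equalizer of f ∘ pr₁ and g ∘ pr₂ in B × A') to A' is integral. -/
theorem result (A A' B : Type u) [CommRing A] [CommRing A'] [CommRing B] (g : A' →+* A)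
    (hg : Function.Surjective g) (f : B →+* A) (hf : f.IsIntegral) :
    ((RingHom.snd B A').comp ((f.comp (RingHom.fst B A')).eqLocus (g.comp (RingHom.snd B A'))).subtype).IsIntegral := by
  let P := (f.comp (RingHom.fst B A')).eqLocus (g.comp (RingHom.snd B A'))
  let π : P →+* B := (RingHom.fst B A').comp P.subtype
  let σ : P →+* A' := (RingHom.snd B A').comp P.subtype
  have hcomm : g.comp σ = f.comp π := RingHom.ext fun x => (x.2).symm
  show σ.IsIntegral
  intro a
  obtain ⟨q, hqm, hq⟩ := hf (g a)
  have hπ : Function.Surjective π := fun b => by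
    obtain ⟨a'', ha''⟩ := hg (f b)
    exact ⟨⟨(b, a''), ha''.symm⟩, rfl⟩
  obtain ⟨Q, hQ, -, hQm⟩ := Polynomial.lifts_and_natDegree_eq_and_monic
    ((Polynomial.lifts_iff_set_range q).mpr (Polynomial.map_surjective π hπ q)) hqm
  have hy : g (Q.eval₂ σ a) = 0 := by
    rw [Polynomial.hom_eval₂, hcomm, ← Polynomial.eval₂_map, hQ, hq]
  let c : P := ⟨(0, a * Q.eval₂ σ a), by
    show f 0 = g (a * Q.eval₂ σ a)
    rw [map_zero, map_mul, hy, mul_zero]⟩
  rcases subsingleton_or_nontrivial P with hP | hP
  · exact ⟨1, Polynomial.monic_one, by rw [Polynomial.eval₂_one, ← map_one σ, Subsingleton.elim (1 : P) 0, map_zero]⟩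
  refine ⟨Polynomial.X * Q - Polynomial.C c, (Polynomial.monic_X.mul hQm).sub_of_left ?_, ?_⟩
  · refine Polynomial.degree_C_le.trans_lt ?_
    rw [hQm.degree_mul, Polynomial.degree_X,
      Polynomial.degree_eq_natDegree hQm.ne_zero]
    exact_mod_cast Nat.lt_add_right _ Nat.one_pos
  · rw [Polynomial.eval₂_sub, Polynomial.eval₂_mul, Polynomial.eval₂_X, Polynomial.eval₂_C]
    exact sub_self _

end Groth.Agent.S2018
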