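import Groth.Statements.S2021
import Groth.Agent.H9Hens.MilnorFlat
import Mathlib.RingTheory.Flat.EquationalCriterion
-- import your own Groth.Agent.* helpers here

set_option autoImplicit false
universe u
open TensorProduct
open EtAlg

namespace Groth.Agent.S2021

open scoped TensorProduct

/-- Let B' = B ×_A A' be a fibre product of rings with A' -> A surjective, N a B-module, M' an A'-module
and φ : A ⊗_B N ≅ A ⊗_{A'} M'. If N and M' are finitely generated then so is the glued B'-module N
×_φ M'; if N and M' are finite projective then N ×_φ M' is finite projective over B'. -/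
theorem result (B' B A' A : Type u) [CommRing B'] [CommRing B] [CommRing A'] [CommRing A]
    [Algebra B' B] [Algebra B' A'] [Algebra B A] [Algebra A' A] [Algebra B' A] [IsScalarTower B' B A] [IsScalarTower B' A' A]
    (hsq : EtMil.IsFibreSquare B' B A' A)
    (N M' : Type u) [AddCommGroup N] [Module B N] [Module B' N] [IsScalarTower B' B N]
    [AddCommGroup M'] [Module A' M'] [Module B' M'] [IsScalarTower B' A' M'] (φ : A ⊗[B] N ≃ₗ[A] A ⊗[A'] M') :
    (Module.Finite B N → Module.Finite A' M' → Module.Finite B' ↥(EtMil.glue B' φ)) ∧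
    (Module.Finite B N → Module.Projective B N → Module.Finite A' M' → Module.Projective A' M' →
      Module.Finite B' ↥(EtMil.glue B' φ) ∧ Module.Projective B' ↥(EtMil.glue B' φ)) := by
  have h := H9Hens.Milnor.weak_of_isFibreSquare hsq
  refine ⟨fun _ _ => H9Hens.Milnor.finite_glue φ h, fun _ _ _ _ => ⟨H9Hens.Milnor.finite_glue φ h, ?_⟩⟩
  have e₁ := LinearEquiv.ofBijective _ (H9Hens.Milnor.bijective_liftBaseChange_fst φ h)
  have e₂ := LinearEquiv.ofBijective _ (H9Hens.Milnor.bijective_liftBaseChange_snd φ h)
  haveI : Module.Flat B (B ⊗[B'] ↥(EtMil.glue B' φ)) := Module.Flat.of_linearEquiv e₁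
  haveI : Module.Flat A' (A' ⊗[B'] ↥(EtMil.glue B' φ)) := Module.Flat.of_linearEquiv e₂
  haveI : Module.FinitePresentation B N := Module.finitePresentation_of_projective B N
  haveI : Module.FinitePresentation A' M' := Module.finitePresentation_of_projective A' M'
  haveI : Module.FinitePresentation B (B ⊗[B'] ↥(EtMil.glue B' φ)) :=
    Module.FinitePresentation.of_equiv e₁.symm
  haveI : Module.FinitePresentation A' (A' ⊗[B'] ↥(EtMil.glue B' φ)) :=
    Module.FinitePresentation.of_equiv e₂.symm
  haveI := H9Hens.Milnor.flat_of_flat_baseChange (L := ↥(EtMil.glue B' φ)) hsq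
  haveI := H9Hens.Milnor.finitePresentation_of_baseChange (L := ↥(EtMil.glue B' φ)) hsq
  exact Module.Flat.projective_of_finitePresentation

end Groth.Agent.S2021
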