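import Groth.Statements.S2024
import Groth.Agent.H9Popescu.LiftingLemma
-- import your own Groth.Agent.* helpers here

set_option autoImplicit false
universe u
open Smoothing

namespace Groth.Agent.S2024

/-- Parts (a), (b), (c) (the source also controls smoothness of the induced map on the fibres modulo
`π`, which is not restated here): let `R` be Noetherian, `Λ` an `R`-algebra and `π ∈ R` with the
annihilators of `π` and `π²` equal both in `R` and in `Λ`. Given a finitely presented algebra `C`
over `R/π²R` with a map to `Λ/π²Λ`, there are a finitely presented `R`-algebra `D`, a map `D → Λ`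
and a map `C → D/πD` compatible with the given one modulo `π`, such that `R → D` is smooth at every
prime not containing `π`, and smooth at every prime containing `π` that lies over a prime of `C` at
which `R/π²R → C` is smooth. -/
theorem result {R Λ C : Type u} [CommRing R] [IsNoetherianRing R] [CommRing Λ]
    [Algebra R Λ] (π : R) (hR : ∀ r : R, π ^ 2 * r = 0 → π * r = 0)
    (hΛ : ∀ x : Λ, π ^ 2 • x = 0 → π • x = 0) [CommRing C] [Algebra R C]
    [Algebra (R ⧸ Ideal.span {π ^ 2}) C] [IsScalarTower R (R ⧸ Ideal.span {π ^ 2}) C]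
    [Algebra.FinitePresentation (R ⧸ Ideal.span {π ^ 2}) C]
    (g : C →ₐ[R] Λ ⧸ Ideal.span {algebraMap R Λ (π ^ 2)}) :
    ∃ (D : Type u) (_ : CommRing D) (_ : Algebra R D), Algebra.FinitePresentation R D ∧
      ∃ (δ : D →ₐ[R] Λ) (ψ : C →ₐ[R] D ⧸ Ideal.span {algebraMap R D π}),
        (∀ (c : C) (d : D) (l : Λ), Ideal.Quotient.mk (Ideal.span {algebraMap R D π}) d = ψ c →
          Ideal.Quotient.mk (Ideal.span {algebraMap R Λ (π ^ 2)}) l = g c →
            δ d - l ∈ Ideal.span {algebraMap R Λ π}) ∧
        (∀ (Q : Ideal D) [Q.IsPrime], algebraMap R D π ∉ Q → Algebra.IsSmoothAt R Q) ∧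
        (∀ (Q : Ideal (D ⧸ Ideal.span {algebraMap R D π})) [Q.IsPrime],
          Algebra.IsSmoothAt (R ⧸ Ideal.span {π ^ 2}) (Q.comap ψ) →
            Algebra.IsSmoothAt R (Q.comap (Ideal.Quotient.mk (Ideal.span {algebraMap R D π})))) := by
  exact Groth.Agent.H9Popescu.lifting_lemma π hR hΛ g

end Groth.Agent.S2024
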