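import Groth.Statements.S2027
import Groth.Agent.H9Popescu.Desingularize
-- import your own Groth.Agent.* helpers here

set_option autoImplicit false
universe u
open Smoothing

namespace Groth.Agent.S2027

/-- Let `R` be Noetherian, `Λ` an `R`-algebra, `π ∈ R` with the annihilators of `π` and `π²` in `Λ`
equal, and `A → Λ` an `R`-algebra map with `A` finitely presented. Suppose `π` is strictly standard
in `A` over `R` and there is an `R`-algebra map `A → R/π⁴R` compatible with the maps to `Λ/π⁴Λ`.
Then `A → Λ` factors through a finitely presented `R`-algebra `B` such that every `r ∈ R` which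
multiplies the annihilator of `π²` into the annihilator of `π` maps into the singular ideal of `B`
over `R`. -/
theorem result {R Λ A : Type u} [CommRing R] [IsNoetherianRing R] [CommRing Λ]
    [Algebra R Λ] (π : R) (hΛ : ∀ x : Λ, π ^ 2 • x = 0 → π • x = 0) [CommRing A] [Algebra R A]
    [Algebra.FinitePresentation R A] (φ : A →ₐ[R] Λ)
    (hπ : Smoothing.IsStrictlyStandard R A (algebraMap R A π))
    (ρ : A →ₐ[R] R ⧸ Ideal.span {π ^ 4})
    (hρ : ∀ (a : A) (r : R), Ideal.Quotient.mk (Ideal.span {π ^ 4}) r = ρ a →
      algebraMap R Λ r - φ a ∈ Ideal.span {algebraMap R Λ (π ^ 4)}) :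
    ∃ (B : Type u) (_ : CommRing B) (_ : Algebra R B), Algebra.FinitePresentation R B ∧
      ∃ (α : A →ₐ[R] B) (β : B →ₐ[R] Λ), β.comp α = φ ∧
        ∀ r : R, (∀ x : R, π ^ 2 * x = 0 → π * (r * x) = 0) →
          algebraMap R B r ∈ Smoothing.singularIdeal R B := by
  exact H9Popescu.desingularize π hΛ φ hπ ρ hρ

end Groth.Agent.S2027
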