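import Groth.Statements.S2030
import Groth.Agent.H9Smooth.Standard
import Mathlib.RingTheory.Etale.Kaehler
-- import your own Groth.Agent.* helpers here

set_option autoImplicit false
universe u
open Smoothing

namespace Groth.Agent.S2030

open MvPolynomial Matrix

theorem derivation_apply_eq_sum {R : Type u} [CommRing R] {n : ℕ} {T M : Type u} [CommRing T]
    [Algebra R T] [AddCommGroup M] [Module T M] [Module R M] [IsScalarTower R T M]
    (d : Derivation R T M) (χ : MvPolynomial (Fin n) R →ₐ[R] T) (p : MvPolynomial (Fin n) R) :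
    d (χ p) = ∑ i, χ (pderiv i p) • d (χ (X i)) := by
  classical
  induction p using MvPolynomial.induction_on with
  | C r => simp [← MvPolynomial.algebraMap_eq]
  | add p q hp hq => simp only [map_add, hp, hq, add_smul, Finset.sum_add_distrib]
  | mul_X p j hp =>
    rw [map_mul, Derivation.leibniz, hp, Finset.smul_sum]
    simp only [pderiv_mul, pderiv_X, map_add, map_mul, add_smul, Finset.sum_add_distrib, smul_smul]
    rw [add_comm]
    congr 1
    · exact Finset.sum_congr rfl fun i _ => by rw [mul_comm]
    · rw [Finset.sum_eq_single j (fun i _ hi => by simp [Pi.single_eq_of_ne hi.symm])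
        (fun h => absurd (Finset.mem_univ j) h)]
      simp

/-- A row full matrix whose maximal minors generate the unit ideal has a right inverse. -/
theorem exists_mul_eq_one {T : Type u} [CommRing T] {c n : ℕ} (M : Matrix (Fin c) (Fin n) T) {u : T}
    (hu : IsUnit u) (h : u ∈ Ideal.span (Set.range fun cols : Fin c → Fin n => (M.submatrix id cols).det)) :
    ∃ N : Matrix (Fin n) (Fin c) T, M * N = 1 := by
  classical
  suffices ∃ N : Matrix (Fin n) (Fin c) T, M * N = u • 1 by
    obtain ⟨N, hN⟩ := this
    refine ⟨(↑hu.unit⁻¹ : T) • N, ?_⟩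
    rw [Matrix.mul_smul, hN, smul_smul, IsUnit.val_inv_mul, one_smul]
  clear hu
  induction h using Submodule.span_induction with
  | mem x hx =>
    obtain ⟨cols, rfl⟩ := hx
    refine ⟨(Matrix.of fun i k => if i = cols k then (1 : T) else 0) * (M.submatrix id cols).adjugate, ?_⟩
    rw [← Matrix.mul_assoc, show M * (Matrix.of fun i k => if i = cols k then (1 : T) else 0) =
      M.submatrix id cols from Matrix.ext fun a k => by simp [Matrix.mul_apply], Matrix.mul_adjugate]
  | zero => exact ⟨0, by simp⟩
  | add x y _ _ hx hy =>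
    obtain ⟨N₁, h₁⟩ := hx
    obtain ⟨N₂, h₂⟩ := hy
    exact ⟨N₁ + N₂, by rw [Matrix.mul_add, h₁, h₂, add_smul]⟩
  | smul r x _ hx =>
    obtain ⟨N, hN⟩ := hx
    exact ⟨r • N, by rw [Matrix.mul_smul, hN, smul_smul, smul_eq_mul]⟩

variable {R A : Type u} [CommRing R] [CommRing A] [Algebra R A]

/-- The derivation from `R[x]/K` into a module in which the gradients of `K` vanish. -/
theorem exists_derivation {n : ℕ} (φ : MvPolynomial (Fin n) R →ₐ[R] A) (hφ : Function.Surjective φ)
    {Q : Type u} [AddCommGroup Q] [Module A Q] [Module R Q] [IsScalarTower R A Q] (e : Fin n → Q)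
    (hK : ∀ x, φ x = 0 → ∑ i, φ (pderiv i x) • e i = 0) :
    ∃ d : Derivation R A Q, ∀ p, d (φ p) = ∑ i, φ (pderiv i p) • e i := by
  classical
  let F : MvPolynomial (Fin n) R → Q := fun p => ∑ i, φ (pderiv i p) • e i
  have hadd : ∀ p q, F (p + q) = F p + F q := fun p q => by
    simp only [F, map_add, add_smul, Finset.sum_add_distrib]
  have hsub : ∀ p q, φ p = φ q → F p = F q := fun p q hpq => by
    have h1 := hadd (p - q) q
    rw [sub_add_cancel, show F (p - q) = 0 from hK _ (by rw [map_sub, hpq, sub_self]), zero_add] at h1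
    exact h1
  let G : A → Q := fun a => F (Function.surjInv hφ a)
  have hG : ∀ p, G (φ p) = F p := fun p => hsub _ _ (Function.surjInv_eq hφ _)
  refine ⟨Derivation.mk'
    { toFun := G
      map_add' := fun a b => by
        obtain ⟨p, rfl⟩ := hφ a
        obtain ⟨q, rfl⟩ := hφ b
        rw [← map_add, hG, hG, hG, hadd]
      map_smul' := fun r a => by
        obtain ⟨p, rfl⟩ := hφ a
        rw [← map_smul, hG, hG, RingHom.id_apply]
        rw [Finset.smul_sum]
        exact Finset.sum_congr rfl fun i _ => by rw [Derivation.map_smul, map_smul, smul_assoc] }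
    fun a b => ?_, hG⟩
  obtain ⟨p, rfl⟩ := hφ a
  obtain ⟨q, rfl⟩ := hφ b
  show G (φ p * φ q) = φ p • G (φ q) + φ q • G (φ p)
  rw [← map_mul, hG, hG, hG]
  simp only [F, pderiv_mul, map_add, map_mul, add_smul, Finset.sum_add_distrib, Finset.smul_sum, smul_smul]
  rw [add_comm]
  congr 1
  exact Finset.sum_congr rfl fun i _ => by rw [mul_comm]

/-- The gradient matrix of the leading relations, in a localization. -/
noncomputable def gradMatrix (P : Smoothing.MarkedPresentation R A) (T : Type u) [CommRing T]
    [Algebra A T] : Matrix (Fin P.c) (Fin P.n) T :=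
  Matrix.of fun j i => algebraMap A T (P.hom (pderiv i (P.rel (Fin.castLE P.hcm j))))

theorem gradient_mem {R A : Type u} [CommRing R] [CommRing A] [Algebra R A]
    (P : Smoothing.MarkedPresentation R A) (a : A) (hk : Smoothing.KillsTail P a) (T : Type u) [CommRing T]
    [Algebra A T] (hu : IsUnit (algebraMap A T a)) (x : MvPolynomial (Fin P.n) R) (hx : P.hom x = 0) :
    (fun i => algebraMap A T (P.hom (pderiv i x))) ∈
      LinearMap.range (gradMatrix P T).vecMulLinear := by
  classical
  let S := LinearMap.range (gradMatrix P T).vecMulLinear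
  let F : MvPolynomial (Fin P.n) R → (Fin P.n → T) := fun x i => algebraMap A T (P.hom (pderiv i x))
  have hrow : ∀ j : Fin P.c, F (P.rel (Fin.castLE P.hcm j)) ∈ S := fun j =>
    ⟨Pi.single j 1, by rw [Matrix.vecMulLinear_apply, Matrix.single_one_vecMul]; rfl⟩
  have hmul : ∀ p q, F (p * q) = algebraMap A T (P.hom q) • F p + algebraMap A T (P.hom p) • F q :=
    fun p q => funext fun i => by simp [F, Derivation.leibniz, Algebra.smul_def]; ring
  have hadd : ∀ p q, F (p + q) = F p + F q := fun p q => funext fun i => by simp [F]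
  have hzero : F 0 = 0 := funext fun i => by simp [F]
  have hlead : ∀ y ∈ Ideal.span (P.rel '' {j' : Fin P.m | (j' : ℕ) < P.c}), P.hom y = 0 ∧ F y ∈ S := by
    intro y hy
    induction hy using Submodule.span_induction with
    | mem y hy =>
      obtain ⟨j, hj, rfl⟩ := hy
      exact ⟨show P.rel j ∈ RingHom.ker P.hom.toRingHom from P.ker_eq ▸ Ideal.subset_span ⟨j, rfl⟩,
        hrow ⟨j, hj⟩⟩
    | zero => exact ⟨map_zero _, hzero ▸ zero_mem _⟩
    | add y z _ _ hy hz => exact ⟨by rw [map_add, hy.1, hz.1, add_zero], hadd y z ▸ add_mem hy.2 hz.2⟩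
    | smul r y _ hy =>
      refine ⟨by rw [smul_eq_mul, map_mul, hy.1, mul_zero], ?_⟩
      rw [smul_eq_mul, hmul, hy.1, map_zero, zero_smul, zero_add]
      exact S.smul_mem _ hy.2
  have hsq : ∀ y ∈ Ideal.span (Set.range P.rel) ^ 2, F y = 0 := by
    intro y hy
    rw [pow_two] at hy
    refine Submodule.mul_induction_on hy (fun p hp q hq => ?_) (fun p q hp hq => by rw [hadd, hp, hq, add_zero])
    rw [← P.ker_eq] at hp hq
    rw [hmul, show P.hom p = 0 from hp, show P.hom q = 0 from hq]
    simp
  have hrel : ∀ j, F (P.rel j) ∈ S := by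
    intro j
    by_cases hj : (j : ℕ) < P.c
    · exact hrow ⟨j, hj⟩
    · obtain ⟨b, rfl⟩ := P.surj a
      obtain ⟨y, hy, z, hz, hyz⟩ := Submodule.mem_sup.mp (hk b rfl j (not_lt.mp hj))
      have h1 : algebraMap A T (P.hom b) • F (P.rel j) = F y := by
        have := congrArg F hyz
        rw [hadd, hsq z hz, add_zero, hmul, show P.hom (P.rel j) = 0 from
          (show P.rel j ∈ RingHom.ker P.hom.toRingHom from P.ker_eq ▸ Ideal.subset_span ⟨j, rfl⟩),
          map_zero, zero_smul, zero_add] at this
        exact this.symm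
      have h2 := S.smul_mem (↑hu.unit⁻¹ : T) (h1 ▸ (hlead y hy).2)
      rwa [smul_smul, IsUnit.val_inv_mul, one_smul] at h2
  have hxK : x ∈ Ideal.span (Set.range P.rel) := by rw [← P.ker_eq]; exact hx
  suffices ∀ y ∈ Ideal.span (Set.range P.rel), P.hom y = 0 ∧ F y ∈ S from (this x hxK).2
  intro y hy
  induction hy using Submodule.span_induction with
  | mem y hy =>
    obtain ⟨j, rfl⟩ := hy
    exact ⟨show P.rel j ∈ RingHom.ker P.hom.toRingHom from P.ker_eq ▸ Ideal.subset_span ⟨j, rfl⟩, hrel j⟩
  | zero => exact ⟨map_zero _, hzero ▸ zero_mem _⟩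
  | add y z _ _ hy hz => exact ⟨by rw [map_add, hy.1, hz.1, add_zero], hadd y z ▸ add_mem hy.2 hz.2⟩
  | smul r y _ hy =>
    refine ⟨by rw [smul_eq_mul, map_mul, hy.1, mul_zero], ?_⟩
    rw [smul_eq_mul, hmul, hy.1, map_zero, zero_smul, zero_add]
    exact S.smul_mem _ hy.2

/-- If `a` is strictly standard in the finitely presented `R`-algebra `A`, then the localization `A_a`
is smooth over `R` and its module of Kaehler differentials over `R` is stably free (free after
adding a finite free module). -/
theorem result {R A : Type u} [CommRing R] [CommRing A]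
    [Algebra R A] (a : A) (ha : Smoothing.IsStrictlyStandard R A a) :
    Algebra.Smooth R (Localization.Away a) ∧
      ∃ p q : ℕ, Nonempty ((Ω[Localization.Away a⁄R] × (Fin p → Localization.Away a)) ≃ₗ[Localization.Away a]
        (Fin q → Localization.Away a)) := by
  classical
  refine ⟨H9Smooth.smooth_away_of_isStrictlyStandard ha, ?_⟩
  obtain ⟨P, hs, hk⟩ := ha
  let T := Localization.Away a
  have hu : IsUnit (algebraMap A T a) := IsLocalization.Away.algebraMap_isUnit a
  let M := gradMatrix P T
  obtain ⟨N, hN⟩ := exists_mul_eq_one M hu (by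
    have := Ideal.mem_map_of_mem (algebraMap A T) hs
    rw [Ideal.map_span, ← Set.range_comp] at this
    refine Ideal.span_mono (le_of_eq (congrArg Set.range (funext fun cols => ?_))) this
    show algebraMap A T (P.hom _) = _
    rw [Smoothing.jacobianMinor, AlgHom.map_det, RingHom.map_det]
    rfl)
  let χ : MvPolynomial (Fin P.n) R →ₐ[R] T := (IsScalarTower.toAlgHom R A T).comp P.hom
  let π : (Fin P.n → T) →ₗ[T] Ω[T⁄R] :=
    Fintype.linearCombination T fun i => KaehlerDifferential.D R T (χ (X i))
  have hπ : ∀ p, π (fun i => χ (pderiv i p)) = KaehlerDifferential.D R T (χ p) := fun p => by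
    rw [derivation_apply_eq_sum (KaehlerDifferential.D R T) χ p]
    exact Fintype.linearCombination_apply ..
  have hrel : ∀ v ∈ LinearMap.range M.vecMulLinear, π v = 0 := by
    rintro _ ⟨w, rfl⟩
    rw [Matrix.vecMulLinear_apply, show Matrix.vecMul w M = ∑ j, w j • fun i => χ (pderiv i (P.rel (Fin.castLE P.hcm j))) by
      funext i; simp [Matrix.vecMul, dotProduct, Finset.sum_apply, M, gradMatrix, χ], map_sum]
    refine Finset.sum_eq_zero fun j _ => ?_
    rw [map_smul, hπ, show χ (P.rel (Fin.castLE P.hcm j)) = 0 from by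
      show algebraMap A T (P.hom _) = 0
      rw [show P.hom (P.rel (Fin.castLE P.hcm j)) = 0 from
        (show P.rel _ ∈ RingHom.ker P.hom.toRingHom from P.ker_eq ▸ Ideal.subset_span ⟨_, rfl⟩), map_zero],
      map_zero, smul_zero]
  let S := LinearMap.range M.vecMulLinear
  obtain ⟨d, hd⟩ := exists_derivation P.hom P.surj (Q := (Fin P.n → T) ⧸ S)
    (fun i => Submodule.Quotient.mk (Pi.single i 1)) fun x hx => by
      have h1 := gradient_mem P a hk T hu x hx
      rw [← Submodule.Quotient.mk_eq_zero] at h1
      rw [pi_eq_sum_univ' (fun i => algebraMap A T (P.hom (pderiv i x)))] at h1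
      simp only [← algebraMap_smul T (P.hom (pderiv _ x))]
      simpa [← Submodule.mkQ_apply, map_sum, map_smul] using h1
  have hunits : ∀ x : Submonoid.powers a,
      IsUnit (algebraMap A (Module.End A ((Fin P.n → T) ⧸ S)) x) := by
    rintro ⟨_, k, rfl⟩
    rw [Module.End.isUnit_iff]
    have hk' : IsUnit (algebraMap A T (a ^ k)) := by rw [map_pow]; exact hu.pow k
    have := (hk'.map (algebraMap T (Module.End T ((Fin P.n → T) ⧸ S))))
    rw [Module.End.isUnit_iff] at this
    convert this using 1
    funext v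
    exact (algebraMap_smul T (a ^ k) v).symm
  let θ : Ω[T⁄R] →ₗ[T] (Fin P.n → T) ⧸ S :=
    (IsLocalizedModule.lift (Submonoid.powers a) (KaehlerDifferential.map R R A T)
      d.liftKaehlerDifferential hunits).extendScalarsOfIsLocalization (Submonoid.powers a) T
  have hθ : ∀ p, θ (KaehlerDifferential.D R T (χ p)) = ∑ i, χ (pderiv i p) • Submodule.Quotient.mk (Pi.single i 1) := by
    intro p
    show θ (KaehlerDifferential.D R T (algebraMap A T (P.hom p))) = _
    rw [← KaehlerDifferential.map_D R R A T]
    show IsLocalizedModule.lift (Submonoid.powers a) (KaehlerDifferential.map R R A T)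
      d.liftKaehlerDifferential hunits _ = _
    rw [IsLocalizedModule.lift_apply, Derivation.liftKaehlerDifferential_comp_D, hd]
    exact Finset.sum_congr rfl fun i _ => (algebraMap_smul T (P.hom (pderiv i p)) _).symm
  have hθπ : ∀ v, θ (π v) = Submodule.Quotient.mk v := fun v => by
    have hX : ∀ i, θ (KaehlerDifferential.D R T (χ (X i))) = Submodule.Quotient.mk (Pi.single i 1) := fun i => by
      rw [hθ, Finset.sum_eq_single i (fun j _ hj => by simp [pderiv_X, Pi.single_eq_of_ne hj.symm])
        (fun h => absurd (Finset.mem_univ i) h)]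
      simp
    conv_rhs => rw [pi_eq_sum_univ' v]
    rw [Fintype.linearCombination_apply, map_sum, ← Submodule.mkQ_apply, map_sum]
    exact Finset.sum_congr rfl fun i _ => by rw [map_smul, map_smul, hX]; rfl
  have hsurj : LinearMap.range π = ⊤ := by
    rw [eq_top_iff, ← KaehlerDifferential.span_range_map_derivation_of_isLocalization R A T (Submonoid.powers a),
      Submodule.span_le]
    rintro _ ⟨b, rfl⟩
    obtain ⟨p, rfl⟩ := P.surj b
    exact ⟨_, (hπ p).trans (KaehlerDifferential.map_D R R A T _).symm⟩
  let L := N.vecMulLinear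
  have hL : ∀ w, L (M.vecMulLinear w) = w := fun w => by
    simp only [L, Matrix.vecMulLinear_apply]
    erw [Matrix.vecMul_vecMul, hN, Matrix.vecMul_one]
  refine ⟨P.c, P.n, ⟨(LinearEquiv.ofBijective (π.prod L) ⟨?_, ?_⟩).symm⟩⟩
  · refine (injective_iff_map_eq_zero _).mpr fun v hv => ?_
    have h1 : π v = 0 := congrArg Prod.fst hv
    obtain ⟨w, rfl⟩ : v ∈ S := by rw [← Submodule.Quotient.mk_eq_zero, ← hθπ, h1, map_zero]
    have h2 : L (M.vecMulLinear w) = 0 := congrArg Prod.snd hv
    rw [hL] at h2
    rw [h2, map_zero]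
  · rintro ⟨ω, w⟩
    obtain ⟨v, rfl⟩ : ω ∈ LinearMap.range π := hsurj ▸ Submodule.mem_top
    refine ⟨v + M.vecMulLinear (w - L v), Prod.ext ?_ ?_⟩
    · show π _ = π v
      rw [map_add, hrel _ ⟨_, rfl⟩, add_zero]
    · show L _ = w
      rw [map_add, hL, add_sub_cancel]

end Groth.Agent.S2030
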