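import Groth.Statements.S2039
import Mathlib
import Groth.Prelude.Def_EGA4b
import Groth.Agent.H05EGA4.FormalFibreFS

set_option autoImplicit false
set_option linter.style.haveILetI false
universe u
open CAlg

open IsLocalRing TensorProduct Groth.Agent CAlgX Groth.Agent.H05EGA4

namespace Groth.Agent.S2039

/-- A local homomorphism `A → B` of Noetherian complete local rings is a regular ring map (flat with
Noetherian geometrically regular fibres) if and only if it is formally smooth for the adic topology
of the maximal ideal of `B`. -/
theorem result {A B : Type u} [CommRing A] [CommRing B]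
    [IsLocalRing A] [IsLocalRing B] [IsNoetherianRing A] [IsNoetherianRing B]
    [IsAdicComplete (IsLocalRing.maximalIdeal A) A] [IsAdicComplete (IsLocalRing.maximalIdeal B) B]
    [Algebra A B] [IsLocalHom (algebraMap A B)] :
    CAlg.IsRegularHom A B ↔ CAlgX.IsAdicFormallySmooth A B (IsLocalRing.maximalIdeal B) := by
  refine ⟨fun h => ?_, isRegularHom_of_isAdicFormallySmooth_complete⟩
  have := h.1
  exact isAdicFormallySmooth_of_flat_of_geometricallyRegular (h.2 (IsLocalRing.maximalIdeal A)).2


end Groth.Agent.S2039
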