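import Groth.Statements.S2040
import Groth.Agent.H05EGA4.FSFlat
import Groth.Agent.H05EGA4.FSBaseChange
import Groth.Agent.H05EGA4.FlatFibreFS
import Groth.Agent.S4514

set_option autoImplicit false
universe u
open CAlg

namespace Groth.Agent.S2040

open IsLocalRing TensorProduct

theorem exists_lift {A B : Type u} [CommRing A] [IsLocalRing A] [IsNoetherianRing A] [CommRing B] [IsLocalRing B]
    [IsNoetherianRing B] [IsAdicComplete (maximalIdeal B) B] [Algebra (maximalIdeal A).ResidueField B]
    (hB : CAlgX.IsAdicFormallySmooth (maximalIdeal A).ResidueField B (maximalIdeal B)) :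
    ∃ (C : Type u) (_ : CommRing C) (_ : IsLocalRing C) (_ : Algebra A C) (_ : IsNoetherianRing C)
      (_ : IsAdicComplete (maximalIdeal C) C), IsLocalHom (algebraMap A C) ∧
        CAlgX.IsAdicFormallySmooth A C (maximalIdeal C) ∧
        Nonempty ((maximalIdeal A).Fiber C ≃ₐ[(maximalIdeal A).ResidueField] B) := by
  let m := maximalIdeal A
  haveI : IsRegularLocalRing B := (Groth.Agent.H05EGA4.isRegularLocalRing_of_isAdicFormallySmooth hB).1
  have hbij : Function.Bijective (algebraMap (A ⧸ m) m.ResidueField) :=
    Ideal.bijective_algebraMap_quotient_residueField m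
  letI : Algebra A B := ((algebraMap m.ResidueField B).comp (algebraMap A m.ResidueField)).toAlgebra
  haveI : IsScalarTower A m.ResidueField B := IsScalarTower.of_algebraMap_eq fun _ => rfl
  let κ : ResidueField A →+* B := (algebraMap m.ResidueField B).comp (algebraMap (A ⧸ m) m.ResidueField)
  letI : Algebra (ResidueField A) B := κ.toAlgebra
  haveI : IsScalarTower A (ResidueField A) B := IsScalarTower.of_algebraMap_eq fun a =>
    congrArg (algebraMap m.ResidueField B) (IsScalarTower.algebraMap_apply A (A ⧸ m) m.ResidueField a)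
  obtain ⟨C, _, _, _, _, _, hC, hflat, ⟨u⟩⟩ := Groth.Agent.S4514.result (A := A) B
  haveI := hflat
  let f : C →ₐ[A] B := (u.toAlgHom.restrictScalars A).comp Algebra.TensorProduct.includeRight
  have hincl : Function.Surjective (Algebra.TensorProduct.includeRight : C →ₐ[A] ResidueField A ⊗[A] C) :=
    Algebra.TensorProduct.includeRight_surjective C Ideal.Quotient.mk_surjective
  have hf : Function.Surjective f := u.surjective.comp hincl
  have hker : ∀ c, f c = 0 ↔ c ∈ m.map (algebraMap A C) := fun c => by
    have h1 : f c = 0 ↔ (1 : A ⧸ m) ⊗ₜ[A] c = 0 := map_eq_zero_iff u u.injective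
    rw [h1, ← map_eq_zero_iff _ (TensorProduct.quotTensorEquivQuotSMul C m).injective, ← map_one (Ideal.Quotient.mk m),
      TensorProduct.quotTensorEquivQuotSMul_mk_tmul, one_smul, Submodule.Quotient.mk_eq_zero, Ideal.smul_top_eq_map]
    rfl
  let ε₀ := RingHom.quotientKerEquivOfSurjective (f := f.toRingHom) hf
  let ε : C ⧸ m.map (algebraMap A C) ≃+* B :=
    (Ideal.quotEquivOfEq (Ideal.ext fun c => ((hker c).symm : _))).trans ε₀
  have hε : ∀ c, ε (Ideal.Quotient.mk _ c) = f c := fun c => rfl
  let e₀ : A ⧸ m ≃+* m.ResidueField := RingEquiv.ofBijective _ hbij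
  have hmax : (maximalIdeal C).map f.toRingHom = maximalIdeal B :=
    IsLocalRing.map_maximalIdeal_of_surjective _ hf
  refine ⟨C, inferInstance, inferInstance, inferInstance, inferInstance, hC, inferInstance, ?_, ⟨?_⟩⟩
  · refine Groth.Agent.H05EGA4.isAdicFormallySmooth_of_flat_of_fibre ?_
    refine Groth.Agent.H05EGA4.isAdicFormallySmooth_of_ringEquiv e₀.symm ε.symm (fun r => ?_) ?_ hB
    · obtain ⟨q, rfl⟩ := e₀.surjective r
      obtain ⟨a, rfl⟩ := Ideal.Quotient.mk_surjective q
      rw [e₀.symm_apply_apply, RingEquiv.symm_apply_eq]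
      show algebraMap m.ResidueField B (algebraMap (A ⧸ m) m.ResidueField (Ideal.Quotient.mk m a)) =
        ε (Ideal.Quotient.mk _ (algebraMap A C a))
      rw [hε, AlgHom.commutes]
      exact congrArg (algebraMap m.ResidueField B) (IsScalarTower.algebraMap_apply A (A ⧸ m) m.ResidueField a).symm
    · rw [← hmax, Ideal.map_map]
      refine congrArg (fun φ => Ideal.map φ (maximalIdeal C)) (RingHom.ext fun c => ?_)
      show ε.symm (f c) = _
      rw [← hε, ε.symm_apply_apply]
  · let F : m.ResidueField ⊗[A] C →ₐ[m.ResidueField] B :=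
      Algebra.TensorProduct.lift (Algebra.ofId _ B) f fun _ _ => Commute.all _ _
    have hF : ∀ c, F (1 ⊗ₜ c) = f c := fun c => by simp [F]
    have hsurj : Function.Surjective (algebraMap A m.ResidueField) := by
      rw [IsScalarTower.algebraMap_eq A (A ⧸ m) m.ResidueField]
      exact hbij.2.comp Ideal.Quotient.mk_surjective
    refine AlgEquiv.ofBijective F ⟨(injective_iff_map_eq_zero F).mpr fun z hz => ?_, fun b => ?_⟩
    · obtain ⟨c, rfl⟩ := Algebra.TensorProduct.includeRight_surjective C hsurj z
      have hc : c ∈ m.map (algebraMap A C) := (hker c).mp ((hF c).symm.trans hz)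
      show (1 : m.ResidueField) ⊗ₜ[A] c = 0
      have hc' : c ∈ m • (⊤ : Submodule A C) := by rw [Ideal.smul_top_eq_map]; exact hc
      clear hz hc
      induction hc' using Submodule.smul_induction_on' with
      | smul a ha x _ =>
        rw [← TensorProduct.smul_tmul, Algebra.smul_def, mul_one,
          show algebraMap A m.ResidueField a = 0 from Ideal.algebraMap_residueField_eq_zero.mpr ha, TensorProduct.zero_tmul]
      | add x _ y _ hx hy => rw [TensorProduct.tmul_add, hx, hy, add_zero]
    · obtain ⟨c, rfl⟩ := hf b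
      exact ⟨1 ⊗ₜ c, hF c⟩

/-- For a complete Noetherian local ring `A` with residue field `k`, and a complete Noetherian local
`k`-algebra `B` which is formally smooth over `k` for the adic topology of its maximal ideal, there
is a Noetherian complete local ring `C` with a local homomorphism `A → C`, formally smooth for the
adic topology of the maximal ideal of `C`, whose special fibre `C ⊗ k` is isomorphic to `B` over
`k`. -/
theorem result {A B : Type u} [CommRing A] [IsLocalRing A]
    [IsNoetherianRing A] [IsAdicComplete (IsLocalRing.maximalIdeal A) A] [CommRing B] [IsLocalRing B]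
    [IsNoetherianRing B] [IsAdicComplete (IsLocalRing.maximalIdeal B) B]
    [Algebra (IsLocalRing.maximalIdeal A).ResidueField B]
    (hB : CAlgX.IsAdicFormallySmooth (IsLocalRing.maximalIdeal A).ResidueField B (IsLocalRing.maximalIdeal B)) :
    ∃ (C : Type u) (_ : CommRing C) (_ : IsLocalRing C) (_ : Algebra A C),
      IsNoetherianRing C ∧ IsAdicComplete (IsLocalRing.maximalIdeal C) C ∧ IsLocalHom (algebraMap A C) ∧
        CAlgX.IsAdicFormallySmooth A C (IsLocalRing.maximalIdeal C) ∧
        Nonempty ((IsLocalRing.maximalIdeal A).Fiber C ≃ₐ[(IsLocalRing.maximalIdeal A).ResidueField] B) := by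
  obtain ⟨C, i₁, i₂, i₃, i₄, i₅, hC, hflat, e⟩ := Groth.Agent.S2040.exists_lift hB
  exact ⟨C, i₁, i₂, i₃, i₄, i₅, hC, hflat, e⟩

end Groth.Agent.S2040
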