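import Groth.Statements.S2044
import Groth.Agent.H1CAlg.EtaleNbhd
import Groth.Agent.H9Smooth.Lift
import Mathlib.RingTheory.Finiteness.Projective

set_option autoImplicit false
universe u
open CAlg

namespace Groth.Agent.S2044

open scoped TensorProduct

open TensorProduct in
/-- Let `I ⊆ A` be an ideal and `P` a finite projective `A/I`-module. Then there is an étale `A`-algebra
`A'` with `A/I → A'/IA'` bijective and a finite projective `A'`-module whose reduction modulo `IA'`
is the base change of `P`. -/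
theorem result {A : Type u} [CommRing A] (I : Ideal A) (P : Type u)
    [AddCommGroup P] [Module (A ⧸ I) P] [Module.Finite (A ⧸ I) P] [Module.Projective (A ⧸ I) P] :
    ∃ (A' : Type u) (_ : CommRing A') (_ : Algebra A A'), Algebra.Etale A A' ∧
      Function.Bijective (algebraMap (A ⧸ I) (A' ⧸ I.map (algebraMap A A'))) ∧
      ∃ (P' : Type u) (_ : AddCommGroup P') (_ : Module A' P'), Module.Finite A' P' ∧
        Module.Projective A' P' ∧
        Nonempty (((A' ⧸ I.map (algebraMap A A')) ⊗[A'] P') ≃ₗ[A' ⧸ I.map (algebraMap A A')]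
          ((A' ⧸ I.map (algebraMap A A')) ⊗[A ⧸ I] P)) := by
  classical
  open Groth.Agent.H9Hens in
  obtain ⟨n, p, hp⟩ := Module.Finite.exists_fin' (A ⧸ I) P
  obtain ⟨s, hs⟩ := Module.projective_lifting_property p LinearMap.id hp
  have hps : ∀ x, p (s x) = x := fun x => LinearMap.congr_fun hs x
  let e := LinearMap.toMatrix' (s ∘ₗ p)
  obtain ⟨T, _, _, hT, σ, hker, hσs, E, hE, hEσ⟩ := Groth.Agent.H9Smooth.exists_etale_idem_lift I e (by
    rw [← LinearMap.toMatrix'_comp]
    exact congrArg _ (LinearMap.ext fun x => congrArg s (hps (p x))))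
  have hb : Function.Bijective (Ideal.quotientMap (I.map (algebraMap A T)) (algebraMap A T) Ideal.le_comap_map) :=
    Groth.Agent.H9Hens.quotientMap_bijective_of σ fun x => by
      obtain ⟨a, ha⟩ := Ideal.Quotient.mk_surjective (σ x)
      exact ⟨a, hker _ (by rw [map_sub, σ.commutes, ← ha]; exact sub_self _)⟩
  have hbij := Groth.Agent.H1CAlg.Nbhd.bijective_algebraMap T hb
  have hmk : ∀ t : T, Ideal.Quotient.mk (I.map (algebraMap A T)) t =
      algebraMap (A ⧸ I) (T ⧸ I.map (algebraMap A T)) (σ t) := fun t => by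
    rw [Groth.Agent.H1CAlg.Nbhd.algebraMap_quotient_eq]
    exact Groth.Agent.H9Hens.mk_eq_quotientMap_section hb.2 σ t
  let π : (Fin n → T) →ₗ[T] (Fin n → T) := E.mulVecLin
  have hππ : ∀ x, π (π x) = π x := fun x => by
    show E.mulVec (E.mulVec x) = E.mulVec x
    rw [Matrix.mulVec_mulVec, hE]
  let P' := LinearMap.range π
  haveI : Module.Finite T P' := Module.Finite.range π
  haveI : Module.Projective T P' := Module.Projective.of_split P'.subtype π.rangeRestrict
    (LinearMap.ext fun ⟨x, y, hy⟩ => Subtype.ext (by subst hy; exact hππ y))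
  refine ⟨T, inferInstance, inferInstance, hT, hbij, P', inferInstance, inferInstance, inferInstance, inferInstance, ?_⟩
  have hσE : ∀ x : Fin n → T, (fun i => σ (π x i)) = s (p (fun i => σ (x i))) := fun x => by
    have he : s (p fun i => σ (x i)) = e.mulVec (fun i => σ (x i)) := by
      rw [← Matrix.toLin'_apply, Matrix.toLin'_toMatrix']; rfl
    rw [he]
    funext i
    show σ (E.mulVec x i) = _
    simp [Matrix.mulVec, dotProduct, map_sum, hEσ, e]
  let g : P' →ₗ[T] (T ⧸ I.map (algebraMap A T)) ⊗[A ⧸ I] P :=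
    { toFun := fun x => 1 ⊗ₜ p (fun i => σ ((x : Fin n → T) i))
      map_add' := fun x y => by
        rw [← TensorProduct.tmul_add, ← map_add]
        congr 2
        funext i
        simp
      map_smul' := fun t x => by
        show (1 : T ⧸ I.map (algebraMap A T)) ⊗ₜ[A ⧸ I] p (fun i => σ (((t • x : P') : Fin n → T) i)) =
          t • ((1 : T ⧸ I.map (algebraMap A T)) ⊗ₜ[A ⧸ I] p (fun i => σ ((x : Fin n → T) i)))
        rw [show (fun i => σ (((t • x : P') : Fin n → T) i)) = σ t • (fun i => σ ((x : Fin n → T) i)) from funext fun i => by simp,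
          map_smul, TensorProduct.tmul_smul, TensorProduct.smul_tmul', TensorProduct.smul_tmul']
        congr 1
        rw [Algebra.smul_def, ← hmk, mul_one, Algebra.smul_def, mul_one]
        rfl }
  let Φ := g.liftBaseChange (T ⧸ I.map (algebraMap A T))
  have hΦ : ∀ x : P', Φ (1 ⊗ₜ x) = g x := fun x => by simp [Φ]
  have hincl : Function.Injective fun x : P => (1 : T ⧸ I.map (algebraMap A T)) ⊗ₜ[A ⧸ I] x := by
    let ι := LinearEquiv.ofBijective (Algebra.linearMap (A ⧸ I) (T ⧸ I.map (algebraMap A T))) hbij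
    intro x y hxy
    have h := congrArg (fun t => TensorProduct.lid (A ⧸ I) P (TensorProduct.congr ι.symm (LinearEquiv.refl _ P) t)) hxy
    have h1 : ι.symm (1 : T ⧸ I.map (algebraMap A T)) = 1 := by
      rw [LinearEquiv.symm_apply_eq]
      exact (map_one (algebraMap (A ⧸ I) (T ⧸ I.map (algebraMap A T)))).symm
    simpa [h1] using h
  refine ⟨LinearEquiv.ofBijective Φ ⟨(injective_iff_map_eq_zero Φ).mpr fun z hz => ?_, fun z => ?_⟩⟩
  · obtain ⟨x, rfl⟩ : ∃ x : P', z = 1 ⊗ₜ x := by
      clear hz
      induction z using TensorProduct.induction_on with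
      | zero => exact ⟨0, by rw [TensorProduct.tmul_zero]⟩
      | tmul c x =>
        obtain ⟨t, rfl⟩ := Ideal.Quotient.mk_surjective c
        refine ⟨t • x, ?_⟩
        rw [TensorProduct.tmul_smul, TensorProduct.smul_tmul', Algebra.smul_def, mul_one]
        rfl
      | add a b ha hb' =>
        obtain ⟨c, rfl⟩ := ha
        obtain ⟨d, rfl⟩ := hb'
        exact ⟨c + d, by rw [TensorProduct.tmul_add]⟩
    rw [hΦ] at hz
    have h0 : p (fun i => σ ((x : Fin n → T) i)) = 0 := hincl (hz.trans (TensorProduct.tmul_zero _ _).symm)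
    obtain ⟨x, y, rfl⟩ := x
    have h1 : ∀ i, σ (π y i) = 0 := by
      have := hσE (π y)
      rw [hππ, h0, map_zero] at this
      exact fun i => congrFun this i
    let xb : Fin n → P' := fun j => ⟨π (Pi.single j 1), _, rfl⟩
    have hx : (⟨π y, y, rfl⟩ : P') = ∑ j, (π y j) • xb j := by
      refine Subtype.ext ?_
      rw [Submodule.coe_sum]
      simp only [Submodule.coe_smul, xb]
      conv_lhs => rw [← hππ y, pi_eq_sum_univ' (π y), map_sum]
      simp only [map_smul]
    rw [hx, TensorProduct.tmul_sum]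
    refine Finset.sum_eq_zero fun j _ => ?_
    rw [TensorProduct.tmul_smul, TensorProduct.smul_tmul', Algebra.smul_def, Ideal.Quotient.algebraMap_eq,
      Ideal.Quotient.eq_zero_iff_mem.mpr (hker _ (h1 j)), zero_mul, TensorProduct.zero_tmul]
  · induction z using TensorProduct.induction_on with
    | zero => exact ⟨0, map_zero _⟩
    | tmul c q =>
      choose y hy using hσs
      let x : P' := ⟨π (fun i => y (s q i)), _, rfl⟩
      refine ⟨c ⊗ₜ x, ?_⟩
      rw [show Φ (c ⊗ₜ x) = c • g x from LinearMap.liftBaseChange_tmul _ _ _ _]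
      show c • ((1 : T ⧸ I.map (algebraMap A T)) ⊗ₜ[A ⧸ I] p (fun i => σ (π (fun i => y (s q i)) i))) = _
      rw [hσE, show (fun i => σ (y (s q i))) = s q from funext fun i => hy _, hps, hps, TensorProduct.smul_tmul',
        smul_eq_mul, mul_one]
    | add a b ha hb' =>
      obtain ⟨a', rfl⟩ := ha
      obtain ⟨b', rfl⟩ := hb'
      exact ⟨a' + b', map_add _ _ _⟩

end Groth.Agent.S2044
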