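import Groth.Statements.S2048
import Groth.Agent.H1CAlg.FullComplete

set_option autoImplicit false
universe u
open CAlg

namespace Groth.Agent.S2048

/-- Let `p` be a prime and `B` a domain of characteristic `p`, finitely generated as an algebra over
some complete Noetherian local ring. If `f ∈ B` has no `p`-th root in the fraction field of `B`,
then some derivation `D : B → B` has `D(f) ≠ 0`. -/
theorem result {R B : Type u} [CommRing R] [IsLocalRing R]
    [IsNoetherianRing R] [IsAdicComplete (IsLocalRing.maximalIdeal R) R] [CommRing B] [IsDomain B]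
    [Algebra R B] [Algebra.FiniteType R B] (p : ℕ) [Fact p.Prime] [CharP B p] (f : B)
    (hf : ∀ x : FractionRing B, x ^ p ≠ algebraMap B (FractionRing B) f) :
    ∃ D : Derivation ℤ B B, D f ≠ 0 := by
  let P := RingHom.ker (algebraMap R B)
  haveI : P.IsPrime := RingHom.ker_isPrime _
  haveI : IsLocalRing (R ⧸ P) := .of_surjective' _ Ideal.Quotient.mk_surjective
  haveI : IsAdicComplete (IsLocalRing.maximalIdeal (R ⧸ P)) (R ⧸ P) := by
    rw [← IsLocalRing.map_maximalIdeal_of_surjective _ (Ideal.Quotient.mk_surjective (I := P))]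
    exact Groth.Agent.H24Adic.isAdicComplete_map_quotient P
  letI : Algebra (R ⧸ P) B := (RingHom.kerLift (algebraMap R B)).toAlgebra
  haveI : IsScalarTower R (R ⧸ P) B := IsScalarTower.of_algebraMap_eq fun _ => rfl
  haveI : Algebra.FiniteType (R ⧸ P) B := Algebra.FiniteType.of_restrictScalars_finiteType R (R ⧸ P) B
  have hinj : Function.Injective (algebraMap (R ⧸ P) B) := RingHom.kerLift_injective _
  haveI : CharP (R ⧸ P) p := RingHom.charP _ hinj p
  exact Groth.Agent.H1CAlg.FullFT.exists_derivation_ne_zero p
    (Groth.Agent.H1CAlg.FullFT.isFull_of_base p (R ⧸ P) B hinj (Groth.Agent.H1CAlg.FullFT.isFull_complete p (R ⧸ P))) f hf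

end Groth.Agent.S2048
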