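import Groth.Statements.S2049
import Groth.Agent.H3CAlg.NagataFP

set_option autoImplicit false
universe u
open CAlg

namespace Groth.Agent.S2049

/-- Let `A` be a valuation ring, `A → B` a local homomorphism of local rings essentially of finite type,
and `M` a finite `B`-module which is flat over `A`. Then `M` is finitely presented over `B`. -/
theorem result {A B M : Type u} [CommRing A] [IsDomain A]
    [ValuationRing A] [CommRing B] [IsLocalRing B] [Algebra A B] [IsLocalHom (algebraMap A B)]
    [Algebra.EssFiniteType A B] [AddCommGroup M] [Module B M] [Module A M] [IsScalarTower A B M]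
    [Module.Finite B M] [Module.Flat A M] : Module.FinitePresentation B M := by
  classical
  obtain ⟨σ, hσ⟩ := (Algebra.essFiniteType_iff A B).1 inferInstance
  obtain ⟨n, π, hπ⟩ := Module.Finite.exists_fin' B M
  let φ : MvPolynomial (σ : Set B) A →ₐ[A] B := MvPolynomial.aeval fun s => (s : B)
  have hrange : φ.range = Algebra.adjoin A (σ : Set B) := by
    show (MvPolynomial.aeval fun s : (σ : Set B) => (s : B)).range = _
    rw [← Algebra.adjoin_range_eq_range_aeval, Subtype.range_coe]
  let K : Submodule (MvPolynomial (σ : Set B) A) (Fin n → MvPolynomial (σ : Set B) A) :=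
    { carrier := {v | π (fun i => φ (v i)) = 0}
      add_mem' := fun {v w} hv hw => by
        show π (fun i => φ ((v + w) i)) = 0
        have e : (fun i => φ ((v + w) i)) = (fun i => φ (v i)) + fun i => φ (w i) :=
          funext fun i => map_add φ _ _
        rw [e, map_add, hv, hw, add_zero]
      zero_mem' := by
        show π (fun i => φ ((0 : Fin n → MvPolynomial (σ : Set B) A) i)) = 0
        have e : (fun i => φ ((0 : Fin n → MvPolynomial (σ : Set B) A) i)) = 0 :=
          funext fun i => map_zero φ
        rw [e, map_zero]
      smul_mem' := fun c v hv => by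
        show π (fun i => φ ((c • v) i)) = 0
        have e : (fun i => φ ((c • v) i)) = φ c • fun i => φ (v i) :=
          funext fun i => map_mul φ _ _
        rw [e, map_smul, hv, smul_zero] }
  haveI : Module.IsTorsionFree A M := Module.Flat.isTorsionFree
  have hfg : K.FG := Groth.Agent.H3CAlg.NagataFP.fg_of_saturated K fun c v hc hv => by
    have e : (fun i => φ ((c • v) i)) = algebraMap A B c • fun i => φ (v i) :=
      funext fun i => by
        show φ (c • v i) = algebraMap A B c * φ (v i)
        rw [map_smul, Algebra.smul_def]
    have h1 : π (fun i => φ ((c • v) i)) = 0 := hv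
    rw [e, map_smul, algebraMap_smul] at h1
    exact (smul_eq_zero.1 h1).resolve_left hc
  obtain ⟨G, hG⟩ := hfg
  refine Module.finitePresentation_of_surjective π hπ ⟨G.image fun v i => φ (v i), le_antisymm ?_ fun w hw => ?_⟩
  · rw [Submodule.span_le]
    intro z hz
    obtain ⟨v, hv, rfl⟩ := Finset.mem_image.1 hz
    exact (show v ∈ K from hG ▸ Submodule.subset_span hv)
  choose t ht htu htw using fun i => hσ (w i)
  let T : B := ∏ i, t i
  have hTu : IsUnit T := IsUnit.prod_univ_iff.2 htu
  have hmem : ∀ i, T * w i ∈ φ.range := by
    intro i
    rw [hrange]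
    show (∏ j, t j) * w i ∈ _
    rw [← Finset.prod_erase_mul Finset.univ t (Finset.mem_univ i), mul_assoc, mul_comm (t i)]
    exact mul_mem (prod_mem fun j _ => ht j) (htw i)
  choose v hv using hmem
  have hv' : ∀ i, φ (v i) = T * w i := hv
  have hvK : v ∈ K := by
    show π (fun i => φ (v i)) = 0
    rw [show (fun i => φ (v i)) = T • w from funext hv', map_smul, LinearMap.mem_ker.1 hw, smul_zero]
  rw [← Submodule.smul_mem_iff_of_isUnit _ hTu, show T • w = fun i => φ (v i) from (funext hv').symm]
  rw [← hG] at hvK
  clear hv hv'
  induction hvK using Submodule.span_induction with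
  | mem x hx => exact Submodule.subset_span (Finset.mem_image_of_mem _ hx)
  | zero => rw [show (fun i => φ ((0 : Fin n → MvPolynomial (σ : Set B) A) i)) = 0 from funext fun i => map_zero φ]; exact zero_mem _
  | add x y _ _ hx hy =>
    rw [show (fun i => φ ((x + y) i)) = (fun i => φ (x i)) + fun i => φ (y i) from funext fun i => map_add φ _ _]
    exact add_mem hx hy
  | smul c x _ hx =>
    rw [show (fun i => φ ((c • x) i)) = φ c • fun i => φ (x i) from funext fun i => map_mul φ _ _]
    exact Submodule.smul_mem _ _ hx

end Groth.Agent.S2049
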