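import Groth.Statements.S2052
import Groth.Agent.H9Hens.BranchUnibranch
import Groth.Agent.H9Hens.PtReduced
-- import your own Groth.Agent.* helpers here

set_option autoImplicit false
universe u
open CAlg

namespace Groth.Agent.S2052

/-- A local ring `A` is unibranch (its reduction is a domain with local integral closure) if and only if
the henselization of `A` has a unique minimal prime ideal. -/
theorem result {A Ah : Type u} [CommRing A] [IsLocalRing A]
    [CommRing Ah] [IsLocalRing Ah] [Algebra A Ah] [IsLocalHom (algebraMap A Ah)]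
    [Hensel.IsHenselization A Ah] :
    CAlg2.IsUnibranch A ↔ CAlgX.HasUniqueMinimalPrime Ah := by
  rw [H9Hens.isUnibranch_iff_card_minimalPrimes A Ah, CAlgX.HasUniqueMinimalPrime]
  refine ⟨fun ⟨⟨P⟩, _⟩ => ⟨P.1, P.2, fun Q hQ => congrArg Subtype.val
    (Subsingleton.elim (⟨Q, hQ⟩ : minimalPrimes Ah) P)⟩, fun ⟨P, hP, hu⟩ => ⟨⟨⟨P, hP⟩⟩, ⟨?_⟩⟩⟩
  exact fun Q Q' => Subtype.ext ((hu _ Q.2).trans (hu _ Q'.2).symm)

end Groth.Agent.S2052
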