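import Groth.Statements.S2055
import Mathlib.RingTheory.Flat.Basic
import Mathlib.LinearAlgebra.TensorProduct.RightExactness
import Mathlib.RingTheory.Finiteness.Ideal
import Mathlib.RingTheory.TensorProduct.Basic
import Mathlib.LinearAlgebra.TensorProduct.Pi
import Mathlib.RingTheory.Ideal.Quotient.Operations

set_option autoImplicit false
universe u
open CAlg

namespace Groth.Agent.S2055

open TensorProduct

variable {R S : Type u} [CommRing R] [CommRing S] [Algebra R S]

/-- the unit `X → S ⊗ X` -/
noncomputable def unit' (X : Type u) [AddCommGroup X] [Module R X] : X →ₗ[R] S ⊗[R] X :=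
  TensorProduct.mk R S X 1

theorem unit_nat {X Y : Type u} [AddCommGroup X] [Module R X] [AddCommGroup Y] [Module R Y]
    (g : X →ₗ[R] Y) (x : X) : g.lTensor S (unit' (R := R) (S := S) X x) = unit' Y (g x) := rfl

theorem bij_of_killed (I : Ideal R)
    (hq : Function.Bijective (algebraMap (R ⧸ I) (S ⧸ I.map (algebraMap R S))))
    (X : Type u) [AddCommGroup X] [Module R X] (hX : ∀ a ∈ I, ∀ x : X, a • x = 0) :
    Function.Bijective (unit' (R := R) (S := S) X) := by
  let J := I.map (algebraMap R S)
  let e := RingEquiv.ofBijective _ hq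
  -- reduction `S → R ⧸ I`
  let ρ : S →ₗ[R] R ⧸ I :=
    { toFun := fun s => e.symm (Ideal.Quotient.mk J s)
      map_add' := fun a b => by rw [map_add, map_add]
      map_smul' := fun r s => by
        apply e.injective
        rw [RingHom.id_apply, e.apply_symm_apply, Algebra.smul_def r s, Algebra.smul_def r, map_mul, map_mul,
          e.apply_symm_apply]
        rfl }
  have hρ1 : ρ 1 = 1 := by show e.symm (Ideal.Quotient.mk J 1) = 1; rw [map_one, map_one]
  let act : (R ⧸ I) →ₗ[R] X →ₗ[R] X := Submodule.liftQ I (LinearMap.lsmul R X) fun a ha =>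
    LinearMap.ext fun x => hX a ha x
  let back : S ⊗[R] X →ₗ[R] X := TensorProduct.lift (act ∘ₗ ρ)
  have hback : ∀ x, back (unit' (R := R) (S := S) X x) = x := fun x => by
    show act (ρ 1) x = x
    rw [hρ1]
    exact one_smul R x
  refine ⟨Function.LeftInverse.injective hback, fun z => ?_⟩
  induction z using TensorProduct.induction_on with
  | zero => exact ⟨0, map_zero _⟩
  | add a b ha hb =>
    obtain ⟨x, rfl⟩ := ha
    obtain ⟨y, rfl⟩ := hb
    exact ⟨x + y, map_add _ _ _⟩
  | tmul s x =>
    obtain ⟨r, hr⟩ := hq.2 (Ideal.Quotient.mk J s)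
    obtain ⟨r, rfl⟩ := Ideal.Quotient.mk_surjective r
    have hsr : s - algebraMap R S r ∈ J := by
      rw [← Ideal.Quotient.eq_zero_iff_mem, map_sub, ← hr, sub_eq_zero]
      rfl
    refine ⟨r • x, ?_⟩
    have h0 : ∀ j ∈ J, j ⊗ₜ[R] x = (0 : S ⊗[R] X) := by
      intro j hj
      rw [show J = Ideal.map (algebraMap R S) I from rfl] at hj
      induction hj using Submodule.span_induction with
      | mem y hy =>
        obtain ⟨a, ha, rfl⟩ := hy
        rw [Algebra.algebraMap_eq_smul_one, TensorProduct.smul_tmul, hX a ha, TensorProduct.tmul_zero]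
      | zero => rw [TensorProduct.zero_tmul]
      | add y y' _ _ hy hy' => rw [TensorProduct.add_tmul, hy, hy', add_zero]
      | smul c y _ hy => rw [← TensorProduct.smul_tmul', hy, smul_zero]
    have h1 := h0 _ hsr
    rw [TensorProduct.sub_tmul, sub_eq_zero] at h1
    show (1 : S) ⊗ₜ[R] (r • x) = s ⊗ₜ[R] x
    rw [h1, Algebra.algebraMap_eq_smul_one, TensorProduct.smul_tmul]

theorem bij_of_pow [Module.Flat R S] (I : Ideal R)
    (hq : Function.Bijective (algebraMap (R ⧸ I) (S ⧸ I.map (algebraMap R S)))) :
    ∀ (n : ℕ) (X : Type u) [AddCommGroup X] [Module R X], (∀ a ∈ I ^ n, ∀ x : X, a • x = 0) →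
      Function.Bijective (unit' (R := R) (S := S) X)
  | 0, X, _, _, hX => by
    haveI : Subsingleton X := subsingleton_of_forall_eq 0 fun x => by
      rw [← one_smul R x]; exact hX 1 (by simp) x
    exact bij_of_killed I hq X (fun a _ x => Subsingleton.elim _ _)
  | n + 1, X, _, _, hX => by
    let P : Submodule R X := I • ⊤
    have hP := bij_of_pow I hq n P (fun a ha z => Subtype.ext (by
      obtain ⟨z, hz⟩ := z
      show a • z = 0
      refine Submodule.smul_induction_on hz ?_ ?_
      · intro r hr x _
        rw [smul_smul]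
        exact hX _ (by rw [pow_succ]; exact Ideal.mul_mem_mul ha hr) x
      · intro u v hu hv
        rw [smul_add, hu, hv, add_zero]))
    have hQ := bij_of_killed (S := S) I hq (X ⧸ P) (fun a ha z => by
      obtain ⟨z, rfl⟩ := Submodule.Quotient.mk_surjective _ z
      rw [← Submodule.Quotient.mk_smul, Submodule.Quotient.mk_eq_zero]
      exact Submodule.smul_mem_smul ha trivial)
    have hex := lTensor_exact S (LinearMap.exact_subtype_mkQ P) (Submodule.mkQ_surjective P)
    have hinjP : Function.Injective (P.subtype.lTensor S) :=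
      Module.Flat.lTensor_preserves_injective_linearMap _ P.injective_subtype
    refine ⟨?_, fun z => ?_⟩
    · rw [injective_iff_map_eq_zero]
      intro x hx
      have h1 : P.mkQ x = 0 := hQ.1 (by rw [map_zero, ← unit_nat, hx, map_zero])
      have hxP : x ∈ P := (Submodule.Quotient.mk_eq_zero _).mp h1
      have h2 : unit' (R := R) (S := S) P ⟨x, hxP⟩ = 0 := hinjP (by rw [map_zero, unit_nat]; exact hx)
      exact congrArg Subtype.val (hP.1 (h2.trans (map_zero _).symm))
    · obtain ⟨y, hy⟩ := hQ.2 (P.mkQ.lTensor S z)
      obtain ⟨x, rfl⟩ := Submodule.mkQ_surjective P y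
      rw [← unit_nat] at hy
      obtain ⟨w, hw⟩ := (hex (z - unit' X x)).mp (by rw [map_sub, hy, sub_self])
      obtain ⟨p, rfl⟩ := hP.2 w
      refine ⟨x + p.1, ?_⟩
      rw [unit_nat, Submodule.subtype_apply] at hw
      rw [map_add, hw, add_sub_cancel]

theorem bij_of_powerTorsion [Module.Flat R S] (I : Ideal R)
    (hq : Function.Bijective (algebraMap (R ⧸ I) (S ⧸ I.map (algebraMap R S))))
    (X : Type u) [AddCommGroup X] [Module R X] (hX : ∀ x : X, ∃ n : ℕ, ∀ a ∈ I ^ n, a • x = 0) :
    Function.Bijective (unit' (R := R) (S := S) X) := by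
  have hcyc : ∀ x : X, Function.Bijective (unit' (R := R) (S := S) (Submodule.span R {x})) := fun x => by
    obtain ⟨n, hn⟩ := hX x
    refine bij_of_pow I hq n _ fun a ha z => Subtype.ext ?_
    obtain ⟨c, hc⟩ := Submodule.mem_span_singleton.mp z.2
    show a • z.1 = 0
    rw [← hc, smul_comm, hn a ha, smul_zero]
  refine ⟨?_, fun z => ?_⟩
  · rw [injective_iff_map_eq_zero]
    intro x hx
    let P := Submodule.span R {x}
    have h2 : unit' (R := R) (S := S) P ⟨x, Submodule.mem_span_singleton_self x⟩ = 0 :=
      Module.Flat.lTensor_preserves_injective_linearMap (M := S) P.subtype P.injective_subtype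
        (by rw [map_zero, unit_nat]; exact hx)
    exact congrArg Subtype.val ((hcyc x).1 (h2.trans (map_zero _).symm))
  · induction z using TensorProduct.induction_on with
    | zero => exact ⟨0, map_zero _⟩
    | add a b ha hb =>
      obtain ⟨x, rfl⟩ := ha
      obtain ⟨y, rfl⟩ := hb
      exact ⟨x + y, map_add _ _ _⟩
    | tmul s x =>
      obtain ⟨p, hp⟩ := (hcyc x).2 (s ⊗ₜ ⟨x, Submodule.mem_span_singleton_self x⟩)
      exact ⟨p.1, congrArg ((Submodule.span R {x}).subtype.lTensor S) hp⟩

open TensorProduct in
/-- Let `R → S` be flat and `I ⊆ R` a finitely generated ideal with `R/I → S/IS` bijective. If one of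
the `R`-modules `M`, `N` has every element killed by a power of `I`, then base change of linear maps
`Hom_R(M, N) → Hom_S(S ⊗ M, S ⊗ N)` is bijective. -/
theorem result {R S M N : Type u} [CommRing R] [CommRing S]
    [Algebra R S] [Module.Flat R S] (I : Ideal R) (hI : I.FG)
    (hq : Function.Bijective (algebraMap (R ⧸ I) (S ⧸ I.map (algebraMap R S))))
    [AddCommGroup M] [Module R M] [AddCommGroup N] [Module R N]
    (hMN : (∀ x : M, ∃ n : ℕ, ∀ a ∈ I ^ n, a • x = 0) ∨ (∀ y : N, ∃ n : ℕ, ∀ a ∈ I ^ n, a • y = 0)) :
    Function.Bijective (fun f : M →ₗ[R] N => LinearMap.baseChange S f) := by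
  classical
  have key : ∀ g : M →ₗ[R] S ⊗[R] N, ∃! f : M →ₗ[R] N, unit' (R := R) (S := S) N ∘ₗ f = g := by
    intro g
    -- the power torsion submodule of `N`
    let T : Submodule R N :=
      { carrier := {y | ∃ n : ℕ, ∀ a ∈ I ^ n, a • y = 0}
        add_mem' := by
          rintro x y ⟨m, hm⟩ ⟨n, hn⟩
          exact ⟨max m n, fun a ha => by
            rw [smul_add, hm a (Ideal.pow_le_pow_right (le_max_left m n) ha),
              hn a (Ideal.pow_le_pow_right (le_max_right m n) ha), add_zero]⟩
        zero_mem' := ⟨0, fun a _ => smul_zero a⟩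
        smul_mem' := by
          rintro c y ⟨n, hn⟩
          exact ⟨n, fun a ha => by rw [smul_comm, hn a ha, smul_zero]⟩ }
    have hT := bij_of_powerTorsion (S := S) I hq T fun y => by
      obtain ⟨n, hn⟩ := y.2
      exact ⟨n, fun a ha => Subtype.ext (hn a ha)⟩
    have hTS : Function.Injective (T.subtype.lTensor S) :=
      Module.Flat.lTensor_preserves_injective_linearMap _ T.injective_subtype
    -- the values lie in `S ⊗ T`
    have hval : ∀ x : M, ∃ w, T.subtype.lTensor S w = g x := by
      intro x
      rcases hMN with hM | hN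
      · obtain ⟨n, hn⟩ := hM x
        obtain ⟨m, a, ha⟩ := Submodule.fg_iff_exists_fin_generating_family.mp (hI.pow (n := n))
        let μ : N →ₗ[R] (Fin m → N) := LinearMap.pi fun i => LinearMap.lsmul R N (a i)
        have hex := Module.Flat.lTensor_exact S (LinearMap.exact_subtype_ker_map μ)
        have h0 : μ.lTensor S (g x) = 0 := by
          apply (TensorProduct.piRight R R S (fun _ : Fin m => N)).injective
          ext i
          rw [map_zero, Pi.zero_apply]
          have h1 : ∀ z : S ⊗[R] N, TensorProduct.piRight R R S (fun _ : Fin m => N) (μ.lTensor S z) i = a i • z := by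
            intro z
            induction z using TensorProduct.induction_on with
            | zero => simp
            | tmul s y => simp [μ]
            | add u v hu hv => rw [map_add, map_add, Pi.add_apply, hu, hv, smul_add]
          rw [h1, ← map_smul, hn _ (ha ▸ Submodule.subset_span ⟨i, rfl⟩), map_zero]
        obtain ⟨w, hw⟩ := (hex _).mp h0
        have hle : LinearMap.ker μ ≤ T := fun y hy => ⟨n, fun b hb => by
          rw [← ha] at hb
          induction hb using Submodule.span_induction with
          | mem z hz =>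
            obtain ⟨i, rfl⟩ := hz
            exact congrFun (show μ y = 0 from hy) i
          | zero => rw [zero_smul]
          | add u v _ _ hu hv => rw [add_smul, hu, hv, add_zero]
          | smul c u _ hu => rw [smul_assoc, hu, smul_zero]⟩
        refine ⟨(Submodule.inclusion hle).lTensor S w, ?_⟩
        rw [← LinearMap.lTensor_comp_apply]
        exact hw
      · have hTtop : T = ⊤ := eq_top_iff.mpr fun y _ => hN y
        exact LinearMap.lTensor_surjective S (fun y => ⟨⟨y, hTtop ▸ trivial⟩, rfl⟩) (g x)
    choose w hw using hval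
    choose t ht using fun x => hT.2 (w x)
    have ht' : ∀ x, unit' (R := R) (S := S) N (t x).1 = g x := fun x => by
      have := congrArg (T.subtype.lTensor S) (ht x)
      rw [unit_nat, hw] at this
      exact this
    have hinj : ∀ y y' : T, unit' (R := R) (S := S) N y.1 = unit' (R := R) (S := S) N y'.1 → y = y' := fun y y' h =>
      hT.1 (hTS (by rw [unit_nat, unit_nat]; exact h))
    refine ⟨{ toFun := fun x => (t x).1
              map_add' := fun x y => congrArg Subtype.val (hinj (t (x + y)) (t x + t y) (by
                rw [ht', Submodule.coe_add, map_add, map_add, ht', ht']))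
              map_smul' := fun c x => congrArg Subtype.val (hinj (t (c • x)) (c • t x) (by
                rw [ht', Submodule.coe_smul, map_smul, map_smul, ht'])) }, LinearMap.ext ht', ?_⟩
    intro f hf
    refine LinearMap.ext fun x => ?_
    have hfx : f x ∈ T := by
      rcases hMN with hM | hN
      · obtain ⟨n, hn⟩ := hM x
        exact ⟨n, fun a ha => by rw [← map_smul, hn a ha, map_zero]⟩
      · exact hN _
    exact congrArg Subtype.val (hinj ⟨f x, hfx⟩ (t x) (by rw [ht']; exact LinearMap.congr_fun hf x))
  have hbc : ∀ (f : M →ₗ[R] N) (x : M), f.baseChange S (1 ⊗ₜ[R] x) = unit' (R := R) (S := S) N (f x) := fun f x => by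
    rw [LinearMap.baseChange_tmul]; rfl
  refine ⟨fun f f' h => ?_, fun F => ?_⟩
  · obtain ⟨f₀, -, huniq⟩ := key (unit' (R := R) (S := S) N ∘ₗ f)
    have h1 := huniq f rfl
    have h2 := huniq f' (LinearMap.ext fun x => by
      rw [LinearMap.comp_apply, LinearMap.comp_apply, ← hbc, ← hbc]
      exact LinearMap.congr_fun h.symm _)
    exact h1.trans h2.symm
  · obtain ⟨f, hf, -⟩ := key ((F.restrictScalars R) ∘ₗ TensorProduct.mk R S M 1)
    refine ⟨f, TensorProduct.AlgebraTensorModule.curry_injective (LinearMap.ext_ring (LinearMap.ext fun x => ?_))⟩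
    exact (hbc f x).trans (LinearMap.congr_fun hf x)

end Groth.Agent.S2055
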