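import Groth.Statements.S2058
import Groth.Agent.H4Depth.DepthLemmas

set_option autoImplicit false
universe u
open CAlg

namespace Groth.Agent.S2058

/-- Let R be a Noetherian local ring which is not Artinian, is not a regular local ring of dimension
one, and has depth at most one. Then there is a finite ring map R → R' with R' ≠ 0, not bijective,
whose kernel and cokernel are killed by a power of the maximal ideal of R, such that the maximal
ideal of R is not an associated prime of the R-module R'. (This says that the four cases for a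
Noetherian local ring — Artinian, regular of dimension one, depth at least two, or admitting such a
map — cover everything; that they are mutually exclusive is not asserted.) -/
theorem result {R : Type u} [CommRing R] [IsLocalRing R] [IsNoetherianRing R]
    (h1 : ¬ IsArtinianRing R) (h2 : ¬ (IsRegularLocalRing R ∧ ringKrullDim R = 1))
    (h3 : LocCoh.depth R R ≤ 1) :
    ∃ (R' : Type u) (_ : CommRing R') (_ : Algebra R R'), Nontrivial R' ∧ Module.Finite R R' ∧
      ¬ Function.Bijective (algebraMap R R') ∧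
      (∃ n : ℕ, (∀ x : R, algebraMap R R' x = 0 → ∀ a ∈ IsLocalRing.maximalIdeal R ^ n, a * x = 0) ∧
        (∀ y : R', ∀ a ∈ IsLocalRing.maximalIdeal R ^ n, a • y ∈ Set.range (algebraMap R R'))) ∧
      IsLocalRing.maximalIdeal R ∉ associatedPrimes R R' := by
  classical
  let m := IsLocalRing.maximalIdeal R
  have hmne : m • (⊤ : Submodule R R) ≠ ⊤ := by
    rw [smul_eq_mul, Ideal.mul_top]; exact (IsLocalRing.maximalIdeal.isMaximal R).ne_top
  have hdim : ¬ Ring.KrullDimLE 0 R := fun h =>
    h1 (isArtinianRing_iff_isNoetherianRing_krullDimLE_zero.2 ⟨inferInstance, h⟩)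
  by_cases hA : m ∈ associatedPrimes R R
  · -- kill the `m`-torsion
    let c : ℕ →o Ideal R := ⟨fun n => (⊥ : Ideal R).colon ((m ^ n : Ideal R) : Set R), fun a b hab =>
      Submodule.colon_mono le_rfl (SetLike.coe_subset_coe.2 (Ideal.pow_le_pow_right hab))⟩
    obtain ⟨n, hn⟩ := monotone_stabilizes_iff_noetherian.2 (inferInstance : IsNoetherian R R) c
    let N := c n
    have hNtop : N ≠ ⊤ := fun h => hdim (Ring.krullDimLE_zero_iff.2 fun p hp => by
      have hm0 : m ^ n ≤ p := fun a ha => by
        have h1 : (1 : R) ∈ N := h ▸ Submodule.mem_top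
        have := Submodule.mem_colon.1 h1 a ha
        rw [one_smul, Ideal.mem_bot] at this
        rw [this]; exact zero_mem p
      have hmp : m ≤ p := fun a ha => hp.mem_of_pow_mem n (hm0 (Ideal.pow_mem_pow ha n))
      rw [← (IsLocalRing.maximalIdeal.isMaximal R).eq_of_le hp.ne_top hmp]
      exact IsLocalRing.maximalIdeal.isMaximal R)
    obtain ⟨_, z, hz⟩ := hA
    refine ⟨R ⧸ N, inferInstance, inferInstance, Ideal.Quotient.nontrivial_iff.2 hNtop, inferInstance, ?_, ⟨n, ?_, ?_⟩, ?_⟩
    · intro hbij
      have hz0 : z ≠ 0 := fun h0 => by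
        have : (1 : R) ∈ m := by rw [hz, h0]; exact Ideal.le_radical (Submodule.mem_colon_singleton.2 (smul_zero _))
        exact (IsLocalRing.maximalIdeal.isMaximal R).ne_top ((Ideal.eq_top_iff_one _).2 this)
      have hrad : ∀ a ∈ m, a ∈ ((⊥ : Ideal R).colon {z}).radical := fun a ha => hz ▸ ha
      obtain ⟨k, hk⟩ : ∃ k, m ^ k ≤ (⊥ : Ideal R).colon {z} :=
        Ideal.exists_pow_le_of_le_radical_of_fg hrad (IsNoetherian.noetherian m)
      have hzk : z ∈ c k := Submodule.mem_colon.2 fun a ha => by
        have := Submodule.mem_colon_singleton.1 (hk ha)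
        rwa [smul_eq_mul, mul_comm] at this
      have hzN : z ∈ N := by
        rcases le_total k n with h | h
        · exact c.mono h hzk
        · rw [show N = c k from hn k h]; exact hzk
      exact hz0 (hbij.1 ((Ideal.Quotient.eq_zero_iff_mem.2 hzN).trans (map_zero _).symm))
    · intro x hx a ha
      have := Submodule.mem_colon.1 (Ideal.Quotient.eq_zero_iff_mem.1 hx) a ha
      rwa [smul_eq_mul, Ideal.mem_bot, mul_comm] at this
    · exact fun y a _ => Ideal.Quotient.mk_surjective _
    · intro h
      obtain ⟨hp, w, hw⟩ := h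
      obtain ⟨w, rfl⟩ := Ideal.Quotient.mk_surjective w
      obtain ⟨k, hk⟩ : ∃ k, m ^ k ≤ (⊥ : Submodule R (R ⧸ N)).colon {Ideal.Quotient.mk N w} :=
        Ideal.exists_pow_le_of_le_radical_of_fg (fun a ha => hw ▸ ha) (IsNoetherian.noetherian m)
      have hwN : w ∈ N := by
        have hwk : w ∈ c (n + k) := Submodule.mem_colon.2 fun a ha => by
          rw [pow_add, mul_comm] at ha
          refine Submodule.mul_induction_on ha (fun b hb d hd => ?_) fun x y hx hy => ?_
          · have h0 : Ideal.Quotient.mk N (b * w) = 0 := (map_mul _ b w).trans (Submodule.mem_colon_singleton.1 (hk hb))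
            have := Submodule.mem_colon.1 (Ideal.Quotient.eq_zero_iff_mem.1 h0) d hd
            rw [smul_eq_mul] at this ⊢
            rwa [show w * (b * d) = b * w * d by ring]
          · rw [smul_add]; exact add_mem hx hy
        rw [show N = c (n + k) from hn _ (Nat.le_add_right n k)]
        exact hwk
      refine hp.ne_top ((Ideal.eq_top_iff_one _).2 ?_)
      rw [hw]
      refine Ideal.le_radical (Submodule.mem_colon_singleton.2 ?_)
      rw [Ideal.Quotient.eq_zero_iff_mem.2 hwN, smul_zero]
      exact zero_mem _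
  -- depth one
  have hreg : ∃ x ∈ m, IsSMulRegular R x := by
    by_contra h
    push Not at h
    obtain ⟨p, hp, hle⟩ := H4Depth.exists_associatedPrime_ge_of_no_regular h
    rw [← (IsLocalRing.maximalIdeal.isMaximal R).eq_of_le hp.1.ne_top hle] at hp
    exact hA hp
  obtain ⟨x, hxm, hx⟩ := hreg
  have hQ : m • (⊤ : Submodule R (QuotSMulTop x R)) ≠ ⊤ := H4Depth.smul_top_ne_top_of_one_le hxm hmne
  have hd0 : LocCoh.idealDepth m (QuotSMulTop x R) = 0 := by
    have h := H4Depth.idealDepth_quotSMulTop_add_one hxm hx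
    have h' : LocCoh.idealDepth m (QuotSMulTop x R) + 1 ≤ 0 + 1 := by rw [h, zero_add]; exact h3
    exact nonpos_iff_eq_zero.1 ((ENat.add_le_add_iff_right (by simp)).1 h')
  obtain ⟨p, hp, hle⟩ := (H4Depth.idealDepth_eq_zero_iff_exists_associatedPrime hQ).1 hd0
  rw [← (IsLocalRing.maximalIdeal.isMaximal R).eq_of_le hp.1.ne_top hle] at hp
  obtain ⟨_, w, hw⟩ := hp
  obtain ⟨k, hk⟩ : ∃ k, m ^ k ≤ (⊥ : Submodule R (QuotSMulTop x R)).colon {w} :=
    Ideal.exists_pow_le_of_le_radical_of_fg (fun a ha => hw ▸ ha) (IsNoetherian.noetherian m)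
  -- an element killed by `m` exactly
  have hex : ∃ v : QuotSMulTop x R, v ≠ 0 ∧ ∀ a ∈ m, a • v = 0 := by
    have hw0 : w ≠ 0 := fun h0 => (IsLocalRing.maximalIdeal.isMaximal R).ne_top ((Ideal.eq_top_iff_one _).2 (by
      rw [hw, h0]; exact Ideal.le_radical (Submodule.mem_colon_singleton.2 (by rw [smul_zero]; exact zero_mem _))))
    have hk' : ∃ k, ∀ a ∈ m ^ k, a • w = 0 := ⟨k, fun a ha => by simpa using Submodule.mem_colon_singleton.1 (hk ha)⟩
    have h0 : Nat.find hk' ≠ 0 := fun h => hw0 (by
      simpa using Nat.find_spec hk' 1 (by rw [h, pow_zero, Ideal.one_eq_top]; trivial))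
    obtain ⟨j, hj⟩ := Nat.exists_eq_succ_of_ne_zero h0
    have hj' := Nat.find_min hk' (show j < Nat.find hk' by omega)
    push Not at hj'
    obtain ⟨b, hb, hbw⟩ := hj'
    refine ⟨b • w, hbw, fun a ha => ?_⟩
    rw [smul_smul]
    exact Nat.find_spec hk' _ (by rw [hj, pow_succ']; exact Ideal.mul_mem_mul ha hb)
  obtain ⟨v, hv0, hv⟩ := hex
  obtain ⟨y, rfl⟩ := Submodule.Quotient.mk_surjective _ v
  have hyx : ¬ x ∣ y := fun ⟨t, ht⟩ => hv0 ((Submodule.Quotient.mk_eq_zero _).2
    ((Submodule.mem_smul_pointwise_iff_exists _ _ _).2 ⟨t, trivial, ht.symm⟩))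
  have hya : ∀ a ∈ m, ∃ t, a * y = x * t := fun a ha => by
    obtain ⟨t, -, ht⟩ := (Submodule.mem_smul_pointwise_iff_exists _ _ _).1
      ((Submodule.Quotient.mk_eq_zero _).1 ((Submodule.Quotient.mk_smul _ a y).trans (hv a ha)))
    exact ⟨t, ht.symm⟩
  have hym : ∀ a ∈ m, ∀ t, a * y = x * t → t ∈ m := by
    intro a ha t ht
    by_contra hu
    obtain ⟨u, rfl⟩ : IsUnit t := by simpa [m] using hu
    -- `m` is principal
    have ha0 : ∀ b, a * b = 0 → b = 0 := fun b hb => hx (by
      have h' : a * b * y = 0 := by rw [hb, zero_mul]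
      have h'' : x * b * ↑u = 0 := by linear_combination h' - b * ht
      show x * b = x * 0
      rw [mul_zero]
      exact (u.isUnit.mul_left_eq_zero).1 h'')
    have hle : m ≤ Ideal.span {a} := fun b hb => by
      obtain ⟨s, hs⟩ := hya b hb
      refine Ideal.mem_span_singleton'.2 ⟨s * ↑u⁻¹, hx ?_⟩
      show x * (s * ↑u⁻¹ * a) = x * b
      linear_combination (-(↑u⁻¹ : R) * a) * hs + (b * ↑u⁻¹) * ht + (x * b) * u.mul_inv
    refine h2 ?_
    have hsp : m.spanFinrank ≤ 1 := by
      rw [le_antisymm hle ((Ideal.span_singleton_le_iff_mem m).2 ha)]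
      exact (Submodule.spanFinrank_span_le_ncard_of_finite (Set.finite_singleton a)).trans (Set.ncard_singleton a).le
    have hge : (1 : ℕ) ≤ ringKrullDim R := by
      have hpos : ¬ ringKrullDim R ≤ 0 := fun h' => hdim ((Ring.krullDimLE_iff (n := 0)).2 (by simpa using h'))
      revert hpos
      generalize ringKrullDim R = D
      intro hpos
      cases D with
      | bot => simp at hpos
      | coe D =>
        cases D with
        | top => exact WithBot.coe_le_coe.2 le_top
        | coe D =>
          have : D ≠ 0 := fun h => hpos (by rw [h]; exact le_rfl)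
          exact_mod_cast Nat.one_le_iff_ne_zero.2 this
    have hle1 : ringKrullDim R ≤ (1 : ℕ) :=
      (ringKrullDim_le_spanFinrank_maximalIdeal R).trans (by exact_mod_cast hsp)
    refine ⟨IsRegularLocalRing.of_spanFinrank_maximalIdeal_le R (le_trans (by exact_mod_cast hsp) hge), ?_⟩
    exact_mod_cast le_antisymm hle1 hge
  -- the endomorphism ring of `m`
  have hx' : x ∈ nonZeroDivisors R := mem_nonZeroDivisors_iff_right.2 fun b hb => hx (by
    show x * b = x * 0
    rw [mul_zero, mul_comm]; exact hb)
  let L := Localization (nonZeroDivisors R)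
  let f := algebraMap R L
  have hfi : Function.Injective f := IsLocalization.injective L le_rfl
  let E : Subalgebra R L :=
    { carrier := {z | ∀ a ∈ m, ∃ b ∈ m, z * f a = f b}
      mul_mem' := fun {z z'} hz hz' a ha => by
        obtain ⟨b, hb, e⟩ := hz' a ha
        obtain ⟨b', hb', e'⟩ := hz b hb
        exact ⟨b', hb', by rw [mul_assoc, e, e']⟩
      one_mem' := fun a ha => ⟨a, ha, one_mul _⟩
      add_mem' := fun {z z'} hz hz' a ha => by
        obtain ⟨b, hb, e⟩ := hz a ha
        obtain ⟨b', hb', e'⟩ := hz' a ha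
        exact ⟨b + b', add_mem hb hb', by rw [add_mul, e, e', map_add]⟩
      zero_mem' := fun a _ => ⟨0, zero_mem _, by rw [zero_mul, map_zero]⟩
      algebraMap_mem' := fun r a ha => ⟨r * a, Ideal.mul_mem_left _ _ ha, (map_mul _ _ _).symm⟩ }
  have hfx : IsUnit (f x) := IsLocalization.map_units L ⟨x, hx'⟩
  let μ : E →ₗ[R] L := (LinearMap.mulRight R (f x)).comp E.val.toLinearMap
  have hμi : Function.Injective μ := fun a b h => Subtype.ext (hfx.mul_left_injective h)
  have hμr : LinearMap.range μ ≤ LinearMap.range (Algebra.linearMap R L) := by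
    rintro _ ⟨z, rfl⟩
    obtain ⟨b, -, e⟩ := z.2 x hxm
    exact ⟨b, e.symm⟩
  haveI : Module.Finite R (LinearMap.range μ) :=
    Module.Finite.of_injective (Submodule.inclusion hμr) (Submodule.inclusion_injective hμr)
  haveI : Module.Finite R E := Module.Finite.equiv (LinearEquiv.ofInjective μ hμi).symm
  haveI : Nontrivial L := hfi.nontrivial
  refine ⟨E, inferInstance, inferInstance, inferInstance, inferInstance, ?_, ⟨1, ?_, ?_⟩, ?_⟩
  · intro hbij
    have hz : IsLocalization.mk' L y (⟨x, hx'⟩ : nonZeroDivisors R) ∈ E := fun a ha => by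
      obtain ⟨t, ht⟩ := hya a ha
      refine ⟨t, hym a ha t ht, hfx.mul_left_injective ?_⟩
      show IsLocalization.mk' L y (⟨x, hx'⟩ : nonZeroDivisors R) * f a * f x = f t * f x
      rw [mul_right_comm, IsLocalization.mk'_spec, ← map_mul, ← map_mul]
      exact congrArg f (by linear_combination ht)
    obtain ⟨r, hr⟩ := hbij.2 ⟨_, hz⟩
    have hr' := congrArg Subtype.val hr
    refine hyx ⟨r, hfi ?_⟩
    rw [map_mul, show f r = _ from hr', mul_comm]
    exact (IsLocalization.mk'_spec L y (⟨x, hx'⟩ : nonZeroDivisors R)).symm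
  · intro r hr a _
    rw [hfi ((congrArg Subtype.val hr).trans (map_zero f).symm), mul_zero]
  · intro z a ha
    rw [pow_one] at ha
    obtain ⟨b, -, e⟩ := z.2 a ha
    refine ⟨b, Subtype.ext ?_⟩
    show f b = a • (z : L)
    rw [Algebra.smul_def, ← e, mul_comm]
  · rintro ⟨hp, z, hz⟩
    obtain ⟨k, hk⟩ := (hz ▸ hxm : x ∈ ((⊥ : Submodule R E).colon {z}).radical)
    have h0 : x ^ k • z = 0 := by simpa using Submodule.mem_colon_singleton.1 hk
    have hz0 : z = 0 := Subtype.ext (by
      have := congrArg Subtype.val h0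
      rw [show ((x ^ k • z : E) : L) = f (x ^ k) * z from Algebra.smul_def _ _] at this
      exact ((hfx.pow k).mul_right_eq_zero).1 (by simpa using this))
    exact hp.ne_top ((Ideal.eq_top_iff_one _).2 (by
      rw [hz, hz0]; exact Ideal.le_radical (Submodule.mem_colon_singleton.2 (by rw [smul_zero]; exact zero_mem _))))

end Groth.Agent.S2058
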