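import Groth.Statements.S2059
import Mathlib.RingTheory.Jacobson.Ring
import Mathlib.RingTheory.Algebraic.Basic
import Mathlib.SetTheory.Cardinal.Finsupp
import Mathlib.RingTheory.MvPolynomial.Basic
import Mathlib.RingTheory.AlgebraicIndependent.Adjoin
import Mathlib.RingTheory.Localization.Away.Basic
import Mathlib.LinearAlgebra.Dimension.Constructions
import Mathlib.RingTheory.FiniteType

set_option autoImplicit false
universe u
open CAlg

namespace Groth.Agent.S2059

theorem linearIndependent_inv {k K : Type*} [Field k] [Field K] [Algebra k K] {t : K} (ht : Transcendental k t) :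
    LinearIndependent k fun a : k => (t - algebraMap k K a)⁻¹ := by
  classical
  rw [linearIndependent_iff']
  intro s c hc a ha
  have hne : ∀ b : k, t - algebraMap k K b ≠ 0 := fun b h =>
    ht ⟨Polynomial.X - Polynomial.C b, Polynomial.X_sub_C_ne_zero b, by simpa using h⟩
  let P : Polynomial k := ∑ i ∈ s, Polynomial.C (c i) * ∏ j ∈ s.erase i, (Polynomial.X - Polynomial.C j)
  have hP : Polynomial.aeval t P = 0 := by
    have h := congrArg (· * ∏ j ∈ s, (t - algebraMap k K j)) hc
    simp only [zero_mul, Finset.sum_mul] at h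
    refine Eq.trans ?_ h
    rw [map_sum]
    refine Finset.sum_congr rfl fun i hi => ?_
    rw [map_mul, Polynomial.aeval_C, map_prod, ← Finset.mul_prod_erase s _ hi, Algebra.smul_def]
    simp only [map_sub, Polynomial.aeval_X, Polynomial.aeval_C]
    field_simp [hne i]
  have hP0 : P = 0 := by
    by_contra h
    exact ht ⟨P, h, hP⟩
  have h := congrArg (Polynomial.eval a) hP0
  rw [Polynomial.eval_finsetSum, Polynomial.eval_zero, Finset.sum_eq_single a] at h
  · rw [Polynomial.eval_mul, Polynomial.eval_C, Polynomial.eval_prod, mul_eq_zero] at h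
    refine h.resolve_right ?_
    refine Finset.prod_ne_zero_iff.mpr ?_
    intro b hb
    simp only [Polynomial.eval_sub, Polynomial.eval_X, Polynomial.eval_C]
    exact sub_ne_zero.mpr (Finset.ne_of_mem_erase hb).symm
  · intro b hb hba
    rw [Polynomial.eval_mul, Polynomial.eval_prod, Finset.prod_eq_zero (Finset.mem_erase.mpr ⟨Ne.symm hba, ha⟩) (by simp),
      mul_zero]
  · exact fun h' => absurd ha h'

theorem isAlgebraic_quotient {k S : Type u} [Field k] [CommRing S] [Algebra k S]
    (s : Set S) (hs : Algebra.adjoin k s = ⊤) (hcard : Cardinal.mk s < Cardinal.mk k) (m : Ideal S) [m.IsMaximal] :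
    Algebra.IsAlgebraic k (S ⧸ m) := by
  letI := Ideal.Quotient.field m
  rcases finite_or_infinite s with hfin | hinf
  · haveI : Algebra.FiniteType k S := ⟨⟨(Set.toFinite s).toFinset, by rw [Set.Finite.coe_toFinset, hs]⟩⟩
    haveI : Algebra.FiniteType k (S ⧸ m) := Algebra.FiniteType.trans ‹_› inferInstance
    haveI := finite_of_finite_type_of_isJacobsonRing k (S ⧸ m)
    exact Algebra.IsAlgebraic.of_finite k (S ⧸ m)
  · refine ⟨fun t => ?_⟩
    by_contra ht
    have h1 : Cardinal.mk k ≤ Module.rank k (S ⧸ m) := (linearIndependent_inv ht).cardinal_le_rank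
    let f : MvPolynomial s k →ₐ[k] (S ⧸ m) := (Ideal.Quotient.mkₐ k m).comp (MvPolynomial.aeval Subtype.val)
    have hf : Function.Surjective f := by
      refine (Ideal.Quotient.mkₐ_surjective k m).comp ?_
      refine AlgHom.range_eq_top (MvPolynomial.aeval (R := k) (Subtype.val : s → S)) |>.mp ?_
      rw [← Algebra.adjoin_range_eq_range_aeval, Subtype.range_coe, hs]
    have h2 : Module.rank k (S ⧸ m) ≤ Cardinal.mk s := by
      refine (LinearMap.rank_le_of_surjective f.toLinearMap hf).trans ?_
      rw [← (MvPolynomial.basisMonomials s k).mk_eq_rank'', Cardinal.mk_finsupp_nat]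
      exact max_le le_rfl (Cardinal.infinite_iff.mp hinf)
    exact not_le.mpr hcard (h1.trans h2)

/-- Let `k` be a field and `S` a `k`-algebra generated by a set of cardinality smaller than that of `k`.
Then for every maximal ideal `𝔪` of `S` the residue field `S/𝔪` is algebraic over `k`, and `S` is a
Jacobson ring. -/
theorem result {k S : Type u} [Field k] [CommRing S] [Algebra k S]
    (s : Set S) (hs : Algebra.adjoin k s = ⊤) (hcard : Cardinal.mk s < Cardinal.mk k) :
    (∀ (m : Ideal S) [m.IsMaximal], Algebra.IsAlgebraic k (S ⧸ m)) ∧ IsJacobsonRing S := by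
  refine ⟨fun m hm => isAlgebraic_quotient s hs hcard m, ?_⟩
  rw [isJacobsonRing_iff_prime_eq]
  intro p hp
  refine le_antisymm (fun f hf => ?_) Ideal.le_jacobson
  by_contra hfp
  let f' := Ideal.Quotient.mk p f
  let T := Localization.Away f'
  have hf' : f' ≠ 0 := fun h => hfp (Ideal.Quotient.eq_zero_iff_mem.mp h)
  have hsub : Submonoid.powers f' ≤ nonZeroDivisors (S ⧸ p) :=
    Submonoid.powers_le.mpr (mem_nonZeroDivisors_of_ne_zero hf')
  haveI : Nontrivial T := (IsLocalization.injective T hsub).nontrivial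
  letI : Algebra k T := ((algebraMap (S ⧸ p) T).comp (algebraMap k (S ⧸ p))).toAlgebra
  let φ : S →ₐ[k] T :=
    { (algebraMap (S ⧸ p) T).comp (Ideal.Quotient.mk p) with commutes' := fun _ => rfl }
  let u : T := IsLocalization.Away.invSelf (S := T) f'
  have hgen : Algebra.adjoin k (φ '' s ∪ {u}) = ⊤ := by
    rw [eq_top_iff]
    intro z _
    obtain ⟨⟨a, ⟨_, n, rfl⟩⟩, hz⟩ := IsLocalization.surj (Submonoid.powers f') z
    obtain ⟨a, rfl⟩ := Ideal.Quotient.mk_surjective a
    have hu : algebraMap (S ⧸ p) T f' * u = 1 := IsLocalization.Away.mul_invSelf f'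
    have hz' : z = φ a * u ^ n := by
      show z = algebraMap (S ⧸ p) T (Ideal.Quotient.mk p a) * u ^ n
      rw [← hz, map_pow, mul_assoc, ← mul_pow, hu, one_pow, mul_one]
    rw [hz']
    have humem : u ∈ Algebra.adjoin k (φ '' s ∪ {u}) := Algebra.subset_adjoin (Set.mem_union_right _ rfl)
    refine mul_mem ?_ (pow_mem humem n)
    have : φ a ∈ (Algebra.adjoin k s).map φ := ⟨a, hs ▸ Algebra.mem_top, rfl⟩
    rw [AlgHom.map_adjoin] at this
    exact Algebra.adjoin_mono Set.subset_union_left this
  obtain ⟨M, hM⟩ := Ideal.exists_maximal T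
  haveI := hM
  have halg : Algebra.IsAlgebraic k (T ⧸ M) := by
    rcases finite_or_infinite (φ '' s ∪ {u} : Set T) with hfin | hinf
    · haveI : Algebra.FiniteType k T := ⟨⟨(Set.toFinite _).toFinset, by rw [Set.Finite.coe_toFinset, hgen]⟩⟩
      letI := Ideal.Quotient.field M
      haveI : Algebra.FiniteType k (T ⧸ M) := Algebra.FiniteType.trans ‹_› inferInstance
      haveI := finite_of_finite_type_of_isJacobsonRing k (T ⧸ M)
      exact Algebra.IsAlgebraic.of_finite k (T ⧸ M)
    · refine isAlgebraic_quotient _ hgen ?_ M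
      have h1 : Cardinal.mk (φ '' s ∪ {u} : Set T) ≤ Cardinal.mk s + 1 :=
        (Cardinal.mk_union_le _ _).trans (add_le_add Cardinal.mk_image_le (Cardinal.mk_singleton u).le)
      have h2 : Cardinal.aleph0 ≤ Cardinal.mk s := by
        by_contra h
        exact not_lt.mpr ((Cardinal.infinite_iff.mp hinf).trans h1) (Cardinal.add_lt_aleph0 (not_le.mp h) Cardinal.one_lt_aleph0)
      rw [Cardinal.add_one_of_aleph0_le h2] at h1
      exact h1.trans_lt hcard
  let ψ : S →ₐ[k] T ⧸ M := (Ideal.Quotient.mkₐ k M).comp φ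
  letI := Ideal.Quotient.field M
  have hfield : IsField ψ.range := Subalgebra.isField_of_algebraic ψ.range
  have hmax : (RingHom.ker ψ).IsMaximal := by
    refine Ideal.Quotient.maximal_of_isField _ ?_
    exact (Ideal.quotientKerEquivRange ψ).toMulEquiv.isField hfield
  have hple : p ≤ RingHom.ker ψ := fun x hx => by
    show Ideal.Quotient.mk M (algebraMap (S ⧸ p) T (Ideal.Quotient.mk p x)) = 0
    rw [Ideal.Quotient.eq_zero_iff_mem.mpr hx, map_zero, map_zero]
  have hfk : ψ f = 0 := (Ideal.mem_sInf.mp hf) ⟨hple, hmax⟩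
  have hfM : algebraMap (S ⧸ p) T f' ∈ M := Ideal.Quotient.eq_zero_iff_mem.mp hfk
  exact hM.ne_top (Ideal.eq_top_of_isUnit_mem _ hfM (IsLocalization.Away.algebraMap_isUnit f'))

end Groth.Agent.S2059
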