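import Groth.Statements.S2061
import Groth.Agent.H05EGA4.Regular

set_option autoImplicit false
universe u
open CategoryTheory
open CAlg

namespace Groth.Agent.S2061

open CategoryTheory

/-- For a Noetherian local ring `R` write `𝔪` for its maximal ideal and `κ` for its residue field. The
projective dimension of `κ` as an `R`-module is at least the `κ`-dimension of `𝔪/𝔪²`: if `κ` has
projective dimension less than `d` then `dim_κ 𝔪/𝔪² < d`. -/
theorem result {R : Type u} [CommRing R] [IsLocalRing R]
    [IsNoetherianRing R] (d : ℕ)
    (hd : HasProjectiveDimensionLT (ModuleCat.of R (IsLocalRing.ResidueField R)) d) :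
    Module.finrank (IsLocalRing.ResidueField R) (IsLocalRing.CotangentSpace R) < d := by
  haveI := hd
  haveI := Groth.Agent.H05EGA4.isRegularLocalRing_of_residueField R d
    (hasProjectiveDimensionLT_of_ge _ d (d + 1) d.le_succ)
  obtain ⟨e, x, he, hx⟩ := Groth.Agent.H4Depth.exists_regular_system_of_parameters R
  have hfr : (Module.finrank (IsLocalRing.ResidueField R) (IsLocalRing.CotangentSpace R) : WithBot ℕ∞) = e :=
    ((IsRegularLocalRing.iff_finrank_cotangentSpace R).mp inferInstance).trans he
  have hfr' : Module.finrank (IsLocalRing.ResidueField R) (IsLocalRing.CotangentSpace R) = e := by exact_mod_cast hfr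
  rw [hfr']
  have hreg := Groth.Agent.H4Depth.isRegular_ofFn_of_span_eq e he x hx
  have h := ModuleCat.projectiveDimension_quotient_eq_length.{u} (List.ofFn x) hreg
  rw [List.length_ofFn] at h
  have hI : Ideal.ofList (List.ofFn x) = IsLocalRing.maximalIdeal R := by
    rw [← hx, Ideal.ofList]; congr 1; ext z; simp [List.mem_ofFn]
  have h2 : projectiveDimension (ModuleCat.of R (IsLocalRing.ResidueField R)) = e := by
    rw [← h]
    exact projectiveDimension_eq_of_iso ((Shrink.linearEquiv R _) ≪≫ₗ Submodule.quotEquivOfEq _ _ hI).toModuleIso.symm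
  have h3 := projectiveDimension_lt_iff.mpr hd
  rw [h2] at h3
  exact_mod_cast h3

end Groth.Agent.S2061
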