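import Groth.Statements.S2064
import Groth.Agent.H4Depth.DepthLemmas
import Mathlib.Algebra.Homology.ShortComplex.ModuleCat

set_option autoImplicit false
universe u
open CategoryTheory
open CAlg

namespace Groth.Agent.S2064

/-- Let `R` be a Noetherian local ring and `0 → M_e → M_{e-1} → … → M_0` a complex of finite `R`-modules
with `depth(M_j) ≥ j`. If `i > 0` is the largest index at which the complex is not exact, then the
homology at `M_i` has depth at least one. -/
theorem result {R : Type u} [CommRing R] [IsLocalRing R] [IsNoetherianRing R]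
    (C : ChainComplex (ModuleCat.{u} R) ℕ) (e : ℕ) (hzero : ∀ j, e < j → Limits.IsZero (C.X j))
    (hfin : ∀ j, Module.Finite R (C.X j)) (hdepth : ∀ j, j ≤ e → (j : ℕ∞) ≤ LocCoh.depth R (C.X j))
    (i : ℕ) (hi : 0 < i) (hnot : ¬ C.ExactAt i) (habove : ∀ j, i < j → C.ExactAt j) :
    1 ≤ LocCoh.depth R (C.homology i) := by
  have hsub : ∀ (P : Type u) [AddCommGroup P] [Module R P], Subsingleton P → LocCoh.depth R P = ⊤ :=
    fun P _ _ _ => Groth.Agent.H4Depth.idealDepth_eq_top (Subsingleton.elim _ _)
  haveI := hfin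
  -- exactness above `i`
  have hker : ∀ j, i ≤ j → LinearMap.ker (C.d (j + 1) j).hom = LinearMap.range (C.d (j + 2) (j + 1)).hom := by
    intro j hj
    have h := (HomologicalComplex.exactAt_iff' C (j + 2) (j + 1) j (by simp) (by simp)).mp
      (habove (j + 1) (by omega))
    rw [ShortComplex.moduleCat_exact_iff_range_eq_ker] at h
    exact h.symm
  have hB : ∀ k j, e ≤ j + k → i ≤ j →
      ((j + 1 : ℕ) : ℕ∞) ≤ LocCoh.depth R (LinearMap.range (C.d (j + 1) j).hom) := by
    intro k
    induction k with
    | zero =>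
      intro j hj _
      haveI := ModuleCat.subsingleton_of_isZero (hzero (j + 1) (by omega))
      rw [hsub _ (LinearMap.surjective_rangeRestrict (C.d (j + 1) j).hom).subsingleton]
      exact le_top
    | succ k ih =>
      intro j hj hij
      rcases Nat.lt_or_ge j e with hje | hje
      · have h1 := ih (j + 1) (by omega) (by omega)
        have h2 := hdepth (j + 1) (by omega)
        refine le_trans (le_min h2 ?_) (Groth.Agent.H4Depth.min_le_idealDepth_right (IsLocalRing.maximalIdeal R)
          (f := (LinearMap.range (C.d (j + 2) (j + 1)).hom).subtype)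
          (g := (C.d (j + 1) j).hom.rangeRestrict) Subtype.val_injective
          (LinearMap.surjective_rangeRestrict _) ?_)
        · exact Groth.Agent.H4Depth.natCast_le_sub_one_iff.mpr (Or.inr h1)
        · rw [LinearMap.exact_iff, LinearMap.ker_rangeRestrict, Submodule.range_subtype, hker j hij]
      · haveI := ModuleCat.subsingleton_of_isZero (hzero (j + 1) (by omega))
        rw [hsub _ (LinearMap.surjective_rangeRestrict (C.d (j + 1) j).hom).subsingleton]
        exact le_top
  have hie : i ≤ e := by
    by_contra hlt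
    exact hnot ((HomologicalComplex.exactAt_iff _ _).mpr
      (ShortComplex.exact_of_isZero_X₂ _ (hzero i (by omega))))
  let S := C.sc' (i + 1) i (i - 1)
  have hf : S.f = C.d (i + 1) i := rfl
  have hB1 : ((i + 1 : ℕ) : ℕ∞) ≤ LocCoh.depth R (LinearMap.range S.f.hom) := hB e i (by omega) le_rfl
  have hle : LinearMap.range S.f.hom ≤ LinearMap.ker S.g.hom := by
    rintro _ ⟨x, rfl⟩
    exact S.moduleCat_zero_apply x
  have hZ : 1 ≤ LocCoh.depth R (LinearMap.ker S.g.hom) := by
    by_cases htop : IsLocalRing.maximalIdeal R • (⊤ : Submodule R (LinearMap.ker S.g.hom)) = ⊤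
    · rw [LocCoh.depth, Groth.Agent.H4Depth.idealDepth_eq_top htop]
      exact le_top
    have hC : ((1 : ℕ) : ℕ∞) ≤ LocCoh.depth R (C.X i) :=
      le_trans (by exact_mod_cast hi) (hdepth i hie)
    rw [LocCoh.depth, Groth.Agent.H4Depth.one_le_idealDepth_iff htop]
    have htop' : IsLocalRing.maximalIdeal R • (⊤ : Submodule R (C.X i)) ≠ ⊤ := by
      intro h
      haveI : Subsingleton (C.X i) := by
        by_contra hn
        rw [not_subsingleton_iff_nontrivial] at hn
        exact (Submodule.top_ne_ideal_smul_of_le_jacobson_annihilator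
          (IsLocalRing.maximalIdeal_le_jacobson _)).symm h
      haveI : Subsingleton (LinearMap.ker S.g.hom) :=
        Function.Injective.subsingleton (f := fun z : LinearMap.ker S.g.hom => (show C.X i from z.1))
          (fun a b h => Subtype.ext h)
      exact htop (Subsingleton.elim _ _)
    obtain ⟨x, hx, hreg⟩ := (Groth.Agent.H4Depth.one_le_idealDepth_iff htop').mp
      (by simpa [LocCoh.depth] using hC)
    exact ⟨x, hx, fun a b h => Subtype.ext (hreg (congrArg Subtype.val h))⟩
  let iota : LinearMap.range S.f.hom →ₗ[R] LinearMap.ker S.g.hom := Submodule.inclusion hle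
  have hH : 1 ≤ LocCoh.depth R (LinearMap.ker S.g.hom ⧸ LinearMap.range iota) := by
    haveI : Module.Finite R S.X₂ := hfin i
    haveI : Module.Finite R S.X₁ := hfin (i + 1)
    refine le_trans (le_min hZ ?_) (Groth.Agent.H4Depth.min_le_idealDepth_right (IsLocalRing.maximalIdeal R)
      (f := iota) (g := (LinearMap.range iota).mkQ) (Submodule.inclusion_injective hle)
      (Submodule.mkQ_surjective _) (LinearMap.exact_map_mkQ_range iota))
    refine (Groth.Agent.H4Depth.natCast_le_sub_one_iff (n := 1)).mpr (Or.inr (le_trans ?_ hB1))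
    exact_mod_cast (by omega : 1 + 1 ≤ i + 1)
  have hr : LinearMap.range iota = LinearMap.range S.moduleCatToCycles := by
    ext z
    constructor
    · rintro ⟨⟨_, x, rfl⟩, rfl⟩
      exact ⟨x, Subtype.ext rfl⟩
    · rintro ⟨x, rfl⟩
      exact ⟨⟨_, x, rfl⟩, Subtype.ext rfl⟩
  let eH : C.homology i ≅ S.moduleCatLeftHomologyData.H :=
    ShortComplex.homologyMapIso (C.isoSc' (i + 1) i (i - 1) (by simp) (by
      obtain ⟨j, rfl⟩ : ∃ j, i = j + 1 := ⟨i - 1, by omega⟩
      simp)) ≪≫ S.moduleCatLeftHomologyData.homologyIso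
  exact le_of_le_of_eq hH (Groth.Agent.H4Depth.depth_congr
    ((Submodule.quotEquivOfEq _ _ hr).trans eH.toLinearEquiv.symm))

end Groth.Agent.S2064
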