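import Groth.Statements.S2066
import Groth.Agent.H4DR.PCoh.Stage
import Groth.Agent.H4DR.PCoh.Modules
import Groth.Agent.H4DR.TorAmp.Perfect

set_option autoImplicit false
universe u
open CategoryTheory
attribute [local instance] HasDerivedCategory.standard
open CAlg

namespace Groth.Agent.S2066

/-- An object `K` of `D(A)` is `m`-pseudo-coherent for every integer `m` if and only if some bounded
above complex of finite free modules represents it in `D(A)` ((1) iff (2)), and also if and only if
some bounded above complex of finite projective modules represents it ((2) iff (3)). -/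
theorem result {A : Type u} [CommRing A] (K : Dual.D A) :
    ((∀ m : ℤ, DRing.IsPseudoCoherent A m K) ↔ DRing.IsPseudoCoherent' A K) ∧
      ((∀ m : ℤ, DRing.IsPseudoCoherent A m K) ↔ ∃ (E : DRing.Cx A) (b : ℤ), DRing.VanishesAbove E b ∧
        DRing.TermwiseFiniteProjective E ∧ Nonempty (DRing.toD E ≅ K)) := by
  refine ⟨Groth.Agent.H4DR.PCoh.pc'_iff.symm, fun h => ?_, ?_⟩
  · obtain ⟨E, b, hb, hF, e⟩ := Groth.Agent.H4DR.PCoh.pc'_of_forall h
    exact ⟨E, b, hb, fun i => ⟨(hF i).1, haveI := (hF i).2; inferInstance⟩, e⟩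
  · rintro ⟨E, b, hb, hF, ⟨e⟩⟩ m
    refine Groth.Agent.H4DR.PCoh.pc_of_iso e (Groth.Agent.H4DR.PCoh.pc_of_terms (b + 1 - m).toNat
      (fun i hi => hb i (by omega)) fun i => ?_)
    haveI := (hF i).1
    haveI := (hF i).2
    exact Groth.Agent.H4DR.TorAmp.pc_single (E.X i) _

end Groth.Agent.S2066
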