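import Groth.Statements.S2068
import Groth.Agent.H4DR.PCoh.Modules

set_option autoImplicit false
universe u
open CategoryTheory
attribute [local instance] HasDerivedCategory.standard
open CAlg

namespace Groth.Agent.S2068

/-- If `K` is `m`-pseudo-coherent in `D(A)`, its cohomology in degree `m` is a finitely generated module
when nothing above degree `m` survives, and its cohomology in degree `m+1` is finitely presented
when nothing above degree `m+1` survives. -/
theorem result {A : Type u} [CommRing A] (K : Dual.D A) (m : ℤ)
    (hK : DRing.IsPseudoCoherent A m K) :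
    ((∀ i : ℤ, m < i → Limits.IsZero ((DerivedCategory.homologyFunctor (ModuleCat.{u} A) i).obj K)) →
        Module.Finite A ((DerivedCategory.homologyFunctor (ModuleCat.{u} A) m).obj K)) ∧
      ((∀ i : ℤ, m + 1 < i → Limits.IsZero ((DerivedCategory.homologyFunctor (ModuleCat.{u} A) i).obj K)) →
        Module.FinitePresentation A ((DerivedCategory.homologyFunctor (ModuleCat.{u} A) (m + 1)).obj K)) := by
  refine ⟨fun h => ?_, fun h => ?_⟩
  · exact Groth.Agent.H4DR.PCoh.finite_top hK le_rfl fun i hi => ModuleCat.subsingleton_of_isZero (h i hi)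
  · have hv : ∀ i, m + 1 < i → Subsingleton (Dual.HD A K i) := fun i hi =>
      ModuleCat.subsingleton_of_isZero (h i hi)
    haveI : Module.Finite A (Dual.HD A K (m + 1)) :=
      Groth.Agent.H4DR.PCoh.finite_top hK (by omega) hv
    obtain ⟨n, C, f, g, h', hT, hf, hC, hpc⟩ := Groth.Agent.H4DR.PCoh.exists_attach K (m + 1) hv
    haveI := Groth.Agent.H4DR.PCoh.finite_top ((hpc m).1 hK) (b := m + 1 - 1) (by omega)
      fun i hi => hC i (by omega)
    obtain ⟨-, -, hran, -⟩ := Groth.Agent.H4DR.PCoh.attach_lemma hT
    haveI : Module.FinitePresentation A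
        (Dual.HD A (DRing.toD (Groth.Agent.H4DR.PCoh.freeAt (R := A) n (m + 1))) (m + 1)) :=
      Module.FinitePresentation.of_equiv (Groth.Agent.H4DR.PCoh.HDfreeAt n (m + 1)).symm
    refine Module.finitePresentation_of_surjective _ hf ?_
    rw [← hran, LinearMap.range_eq_map]
    exact Module.Finite.fg_top.map _

end Groth.Agent.S2068
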