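import Groth.Statements.S2071
import Mathlib.FieldTheory.PurelyInseparable.Basic
import Mathlib.NumberTheory.NumberField.InfinitePlace.Embeddings
import Mathlib.FieldTheory.Finite.Basic
import Mathlib.Algebra.Algebra.ZMod
import Mathlib.RingTheory.Algebraic.Integral
import Mathlib.Analysis.Normed.Field.Lemmas

set_option autoImplicit false
universe u
open CAlg

namespace Groth.Agent.S2071

/-- For a field extension `k'/k`, every element of `k'` has a positive power in `k` if and only if
either `k' = k`, or the characteristic is a prime `p` and either `k'/k` is purely inseparable or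
`k'` is algebraic over its prime field. -/
theorem result {k k' : Type u} [Field k] [Field k'] [Algebra k k'] :
    (∀ x : k', ∃ n : ℕ, 0 < n ∧ x ^ n ∈ Set.range (algebraMap k k')) ↔
      Function.Surjective (algebraMap k k') ∨
        ∃ p : ℕ, p.Prime ∧ CharP k' p ∧
          (IsPurelyInseparable k k' ∨ Algebra.IsAlgebraic (⊥ : Subfield k') k') := by
  classical
  obtain ⟨p, hp⟩ := CharP.exists k'
  haveI : CharP k p := (RingHom.charP_iff (algebraMap k k') (algebraMap k k').injective p).mpr hp
  constructor
  · intro H
    by_cases hs : Function.Surjective (algebraMap k k')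
    · exact Or.inl hs
    refine Or.inr ?_
    by_cases hpi : IsPurelyInseparable k k'
    · rcases CharP.char_is_prime_or_zero k' p with hprime | rfl
      · exact ⟨p, hprime, hp, Or.inl hpi⟩
      · exfalso
        haveI := CharP.charP_to_charZero k
        refine hs fun x => ?_
        obtain ⟨n, y, hy⟩ := IsPurelyInseparable.pow_mem k 1 x
        exact ⟨y, by simpa using hy⟩
    rw [isPurelyInseparable_iff_subsingleton_emb, not_subsingleton_iff_nontrivial] at hpi
    obtain ⟨σ, τ, hne⟩ := hpi.exists_pair_ne
    obtain ⟨α, hα⟩ := DFunLike.ne_iff.mp hne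
    let Ω := AlgebraicClosure k'
    set a : Ω := τ α
    set b : Ω := σ α
    have hab : b ≠ a := hα
    have hac : ∀ c : k, a + algebraMap k Ω c ≠ 0 := by
      intro c hc
      have h1 : τ (α + algebraMap k k' c) = 0 := by rw [map_add, AlgHom.commutes]; exact hc
      rw [map_eq_zero_iff τ τ.injective] at h1
      apply hab
      show σ α = τ α
      rw [eq_neg_of_add_eq_zero_left h1, map_neg, map_neg, AlgHom.commutes, AlgHom.commutes]
    let ζ : k → Ω := fun c => (b + algebraMap k Ω c) / (a + algebraMap k Ω c)
    have hζ : ∀ c, ∃ N : ℕ, 0 < N ∧ ζ c ^ N = 1 := by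
      intro c
      obtain ⟨N, hN, d, hd⟩ := H (α + algebraMap k k' c)
      refine ⟨N, hN, ?_⟩
      have h1 : (b + algebraMap k Ω c) ^ N = algebraMap k Ω d := by
        rw [← σ.commutes c, ← map_add, ← map_pow, ← hd, AlgHom.commutes]
      have h2 : (a + algebraMap k Ω c) ^ N = algebraMap k Ω d := by
        rw [← τ.commutes c, ← map_add, ← map_pow, ← hd, AlgHom.commutes]
      show ((b + algebraMap k Ω c) / (a + algebraMap k Ω c)) ^ N = 1
      rw [div_pow, h1, ← h2, div_self (pow_ne_zero _ (hac c))]
    have hmul : ∀ c, b + algebraMap k Ω c = ζ c * (a + algebraMap k Ω c) := fun c => (div_mul_cancel₀ _ (hac c)).symm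
    have hζinj : Function.Injective ζ := by
      intro c d hcd
      have h1 := hmul c
      have h2 := hmul d
      rw [hcd] at h1
      by_contra hne'
      have h3 : (1 - ζ d) * (algebraMap k Ω c - algebraMap k Ω d) = 0 := by linear_combination h1 - h2
      rcases mul_eq_zero.mp h3 with h | h
      · rw [← sub_eq_zero.mp h, one_mul] at h2
        exact hab (add_right_cancel h2)
      · exact hne' ((algebraMap k Ω).injective (sub_eq_zero.mp h))
    have hζ1 : ∀ c, ζ c ≠ 1 := fun c h => hab (add_right_cancel ((hmul c).trans (by rw [h, one_mul])))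
    have hsol : ζ 0 ≠ ζ 1 := fun h => zero_ne_one (hζinj h)
    have ha : a = (ζ 1 - 1) / (ζ 0 - ζ 1) := by
      rw [eq_div_iff (sub_ne_zero.mpr hsol)]
      have h1 := hmul 0
      have h2 := hmul 1
      rw [map_zero, add_zero, add_zero] at h1
      rw [map_one] at h2
      linear_combination h2 - h1
    have hb : b = ζ 0 * a := by have h1 := hmul 0; rwa [map_zero, add_zero, add_zero] at h1
    rcases CharP.char_is_prime_or_zero k' p with hprime | rfl
    · refine ⟨p, hprime, hp, Or.inr ?_⟩
      haveI : Fact p.Prime := ⟨hprime⟩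
      letI := ZMod.algebra k' p
      haveI : CharP Ω p := charP_of_injective_ringHom (algebraMap k' Ω).injective p
      letI := ZMod.algebra Ω p
      let A := algebraicClosure (ZMod p) Ω
      have hroot : ∀ c, ζ c ∈ A := fun c => by
        obtain ⟨N, hN, h1⟩ := hζ c
        rw [mem_algebraicClosure_iff]
        exact (IsIntegral.of_pow hN (by rw [h1]; exact isIntegral_one)).isAlgebraic
      have haA : a ∈ A := by
        rw [ha]; exact A.div_mem (A.sub_mem (hroot 1) A.one_mem) (A.sub_mem (hroot 0) (hroot 1))
      have hbA : b ∈ A := by rw [hb]; exact A.mul_mem (hroot 0) haA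
      have hkA : ∀ c : k, algebraMap k Ω c ∈ A := by
        intro c
        have : algebraMap k Ω c = (b - ζ c * a) / (ζ c - 1) := by
          rw [eq_div_iff (sub_ne_zero.mpr (hζ1 c))]
          linear_combination -(hmul c)
        rw [this]
        exact A.div_mem (A.sub_mem hbA (A.mul_mem (hroot c) haA)) (A.sub_mem (hroot c) A.one_mem)
      refine ⟨fun x => ?_⟩
      obtain ⟨N, hN, d, hd⟩ := H x
      let τ' : k' →ₐ[ZMod p] Ω := { τ.toRingHom with
        commutes' := fun r => RingHom.congr_fun (Subsingleton.elim (τ.toRingHom.comp (algebraMap (ZMod p) k')) (algebraMap (ZMod p) Ω)) r }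
      have hx : IsAlgebraic (ZMod p) x := by
        rw [← isAlgebraic_algHom_iff τ' τ.injective]
        refine (IsIntegral.of_pow hN ?_).isAlgebraic
        rw [← map_pow, ← hd]
        show IsIntegral (ZMod p) (τ (algebraMap k k' d))
        rw [AlgHom.commutes]
        exact (mem_algebraicClosure_iff.mp (hkA d)).isIntegral
      obtain ⟨P, hP0, hP⟩ := hx
      haveI : CharP (⊥ : Subfield k') p :=
        (RingHom.charP_iff (⊥ : Subfield k').subtype Subtype.coe_injective p).mpr hp
      refine ⟨P.map (ZMod.castHom dvd_rfl (⊥ : Subfield k')), (Polynomial.map_ne_zero_iff (RingHom.injective _)).mpr hP0, ?_⟩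
      rw [Polynomial.aeval_def, Polynomial.eval₂_map]
      rw [Polynomial.aeval_def] at hP
      exact (congrArg (fun f => Polynomial.eval₂ f x P) (RingHom.ext_zmod _ _)).trans hP
    · exfalso
      haveI : CharZero k' := CharP.charP_to_charZero k'
      haveI : CharZero k := CharP.charP_to_charZero k
      haveI : CharZero Ω := charZero_of_injective_algebraMap (algebraMap k' Ω).injective
      letI : Algebra ℚ Ω := DivisionRing.toRatAlgebra
      have hroot : ∀ c, IsIntegral ℚ (ζ c) := fun c => by
        obtain ⟨N, hN, h1⟩ := hζ c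
        exact IsIntegral.of_pow hN (by rw [h1]; exact isIntegral_one)
      have haI : IsIntegral ℚ a := by
        rw [ha, div_eq_mul_inv]
        exact ((hroot 1).sub isIntegral_one).mul ((hroot 0).sub (hroot 1)).inv
      have hbI : IsIntegral ℚ b := by rw [hb]; exact (hroot 0).mul haI
      let E := IntermediateField.adjoin ℚ ({a, b} : Set Ω)
      haveI : FiniteDimensional ℚ E := IntermediateField.finiteDimensional_adjoin (by
        rintro z (rfl | rfl)
        exacts [haI, hbI])
      haveI : NumberField E := { }
      have hmemE : ∀ j : ℕ, ζ j ∈ E := fun j => by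
        have ha' : a ∈ E := IntermediateField.subset_adjoin _ _ (Or.inl rfl)
        have hb' : b ∈ E := IntermediateField.subset_adjoin _ _ (Or.inr rfl)
        show (b + algebraMap k Ω j) / (a + algebraMap k Ω j) ∈ E
        rw [map_natCast]
        exact E.div_mem (E.add_mem hb' (natCast_mem E j)) (E.add_mem ha' (natCast_mem E j))
      refine Set.infinite_range_of_injective (f := fun j : ℕ => (⟨ζ j, hmemE j⟩ : E))
        (fun i j h => by simpa using hζinj (Subtype.ext_iff.mp h)) ?_
      refine (NumberField.Embeddings.finite_of_norm_le E ℂ 1).subset ?_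
      rintro _ ⟨j, rfl⟩
      obtain ⟨N, hN, h1⟩ := hζ (j : k)
      have h1' : (⟨ζ j, hmemE j⟩ : E) ^ N = 1 := Subtype.ext h1
      refine ⟨IsIntegral.of_pow hN (by rw [h1']; exact isIntegral_one), fun φ => ?_⟩
      exact le_of_eq (Complex.norm_eq_one_of_pow_eq_one (by rw [← map_pow, h1', map_one]) hN.ne')
  · rintro (hs | ⟨q, hq, hchar, hcase⟩) x
    · exact ⟨1, one_pos, by rw [pow_one]; exact hs x⟩
    obtain rfl : p = q := CharP.eq k' hp hchar
    haveI : Fact p.Prime := ⟨hq⟩
    rcases hcase with hpi | halg
    · haveI : ExpChar k p := ExpChar.prime hq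
      obtain ⟨n, y, hy⟩ := IsPurelyInseparable.pow_mem k p x
      exact ⟨p ^ n, pow_pos hq.pos n, y, hy⟩
    · haveI : Finite (⊥ : Subfield k') := by
        have hle : (⊥ : Subfield k') ≤ (ZMod.castHom dvd_rfl k').fieldRange := bot_le
        haveI : Finite (ZMod.castHom (dvd_refl p) k').fieldRange :=
          Finite.of_surjective (fun r => (⟨ZMod.castHom dvd_rfl k' r, r, rfl⟩ : (ZMod.castHom (dvd_refl p) k').fieldRange))
            (fun y => by obtain ⟨y, r, rfl⟩ := y; exact ⟨r, rfl⟩)
        exact Finite.of_injective (Subfield.inclusion hle) (Subfield.inclusion hle).injective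
      have hint : IsIntegral (⊥ : Subfield k') x := (halg.isAlgebraic x).isIntegral
      let L := IntermediateField.adjoin (⊥ : Subfield k') ({x} : Set k')
      haveI : FiniteDimensional (⊥ : Subfield k') L := IntermediateField.adjoin.finiteDimensional hint
      haveI : Finite L := Module.finite_of_finite (⊥ : Subfield k')
      haveI := Fintype.ofFinite L
      by_cases hx : x = 0
      · exact ⟨1, one_pos, 0, by simp [hx]⟩
      refine ⟨Fintype.card L - 1, ?_, 1, ?_⟩
      · have := Fintype.one_lt_card (α := L); omega
      · have h := FiniteField.pow_card_sub_one_eq_one (⟨x, IntermediateField.mem_adjoin_simple_self _ x⟩ : L)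
          (fun h => hx (congrArg Subtype.val h))
        rw [map_one]
        exact (congrArg Subtype.val h).symm

end Groth.Agent.S2071
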