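import Groth.Statements.S2073
import Mathlib.RingTheory.NoetherNormalization
import Mathlib.RingTheory.MvPolynomial.Localization
import Mathlib.RingTheory.Localization.Integral
import Mathlib.RingTheory.Localization.BaseChange
import Mathlib.RingTheory.TensorProduct.Finite
import Mathlib.RingTheory.FiniteStability
import Mathlib.RingTheory.AlgebraicIndependent.Basic

set_option autoImplicit false
universe u
open CAlg

namespace Groth.Agent.S2073

/-- Let `R` be a domain and `R → S` an injective ring map of finite type. Then there are elements `y_1,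
…, y_d` of `S` algebraically independent over `R`, a finitely generated `R`-subalgebra `S'` of `S`
containing them and integral over `R[y_1, …, y_d]`, and a nonzero `f ∈ R` such that every element of
`S` lands in `S'` after multiplication by a power of `f`. -/
theorem result {R S : Type u} [CommRing R] [IsDomain R] [CommRing S] [Algebra R S]
    [Algebra.FiniteType R S] (hinj : Function.Injective (algebraMap R S)) :
    ∃ (d : ℕ) (y : Fin d → S) (S' : Subalgebra R S), AlgebraicIndependent R y ∧ (∀ i, y i ∈ S') ∧ S'.FG ∧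
      (∀ s ∈ S', IsIntegral (Algebra.adjoin R (Set.range y)) s) ∧
      ∃ f : R, f ≠ 0 ∧ ∀ s : S, ∃ n : ℕ, (f ^ n) • s ∈ S' := by

  classical
  let K := FractionRing R
  let ι : S →ₐ[R] TensorProduct R K S := Algebra.TensorProduct.includeRight
  have hι0 : ∀ s : S, ι s = 0 → ∃ e : R, e ≠ 0 ∧ e • s = 0 := by
    intro s hs
    obtain ⟨m, hm⟩ := (IsLocalizedModule.eq_zero_iff (nonZeroDivisors R) (TensorProduct.mk R K S 1)).mp hs
    exact ⟨m, nonZeroDivisors.ne_zero m.2, hm⟩
  have hsur : ∀ z : TensorProduct R K S, ∃ (s : S) (c : R), c ≠ 0 ∧ c • z = ι s := by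
    intro z
    obtain ⟨⟨s, c⟩, h⟩ := IsLocalizedModule.surj (nonZeroDivisors R) (TensorProduct.mk R K S 1) z
    exact ⟨s, c, nonZeroDivisors.ne_zero c.2, h⟩
  haveI : Nontrivial (TensorProduct R K S) := by
    refine ⟨1, 0, fun h => ?_⟩
    obtain ⟨e, he, he1⟩ := hι0 1 (by rw [map_one, h])
    rw [← Algebra.algebraMap_eq_smul_one, ← map_zero (algebraMap R S)] at he1
    exact he (hinj he1)
  obtain ⟨d, g, hg, hgint⟩ := exists_integral_inj_algHom_of_fg K (TensorProduct R K S)
  choose y c hc hyc using fun i => hsur (g (MvPolynomial.X i))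
  have hcK : ∀ i, algebraMap R K (c i) ≠ 0 := fun i h => hc i (IsFractionRing.injective R K (by rw [h, map_zero]))
  let φ : MvPolynomial (Fin d) K →ₐ[K] MvPolynomial (Fin d) K :=
    MvPolynomial.aeval fun i => MvPolynomial.C (algebraMap R K (c i)) * MvPolynomial.X i
  let φ' : MvPolynomial (Fin d) K →ₐ[K] MvPolynomial (Fin d) K :=
    MvPolynomial.aeval fun i => MvPolynomial.C (algebraMap R K (c i))⁻¹ * MvPolynomial.X i
  have hφ : φ.comp φ' = AlgHom.id K _ := MvPolynomial.algHom_ext fun i => by
    simp [φ, φ', ← mul_assoc, ← MvPolynomial.C_mul, inv_mul_cancel₀ (hcK i)]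
  have hφ' : φ'.comp φ = AlgHom.id K _ := MvPolynomial.algHom_ext fun i => by
    simp [φ, φ', ← mul_assoc, ← MvPolynomial.C_mul, mul_inv_cancel₀ (hcK i)]
  let g' := g.comp φ
  have hg' : Function.Injective g' :=
    hg.comp (Function.LeftInverse.injective (g := φ') fun x => AlgHom.congr_fun hφ' x)
  have hg'int : g'.toRingHom.IsIntegral :=
    RingHom.IsIntegral.trans φ.toRingHom g.toRingHom
      (RingHom.isIntegral_of_surjective φ.toRingHom
        (Function.RightInverse.surjective (g := φ') fun x => AlgHom.congr_fun hφ x)) hgint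
  let Ψ : MvPolynomial (Fin d) R →ₐ[R] S := MvPolynomial.aeval y
  let μ : MvPolynomial (Fin d) R →+* MvPolynomial (Fin d) K := MvPolynomial.map (algebraMap R K)
  have hcompat : g'.toRingHom.comp μ = ι.toRingHom.comp Ψ.toRingHom := by
    refine MvPolynomial.ringHom_ext (fun r => ?_) fun i => ?_
    · simp [μ, g', φ, Ψ, ι]
    · simp [μ, g', φ, Ψ, ← hyc i]
      exact (Algebra.smul_def (c i) (g (MvPolynomial.X i))).symm
  have hindep : AlgebraicIndependent R y := by
    rw [algebraicIndependent_iff_injective_aeval, injective_iff_map_eq_zero]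
    intro P hP
    have h1 : g' (μ P) = 0 := by
      rw [show g' (μ P) = ι (Ψ P) from RingHom.congr_fun hcompat P, show Ψ P = 0 from hP, map_zero]
    apply MvPolynomial.map_injective (algebraMap R K) (IsFractionRing.injective R K)
    rw [map_zero]
    exact (map_eq_zero_iff g' hg').mp h1
  -- multiples of all elements are integral over `R[y]`
  have key : ∀ x : S, ∃ e : R, e ≠ 0 ∧ IsIntegral (Algebra.adjoin R (Set.range y)) (e • x) := by
    intro x
    letI : Algebra (MvPolynomial (Fin d) R) (MvPolynomial (Fin d) K) := μ.toAlgebra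
    letI : Algebra (MvPolynomial (Fin d) K) (TensorProduct R K S) := g'.toRingHom.toAlgebra
    letI : Algebra (MvPolynomial (Fin d) R) (TensorProduct R K S) := (g'.toRingHom.comp μ).toAlgebra
    haveI : IsScalarTower (MvPolynomial (Fin d) R) (MvPolynomial (Fin d) K) (TensorProduct R K S) :=
      IsScalarTower.of_algebraMap_eq fun _ => rfl
    haveI : IsLocalization ((nonZeroDivisors R).map (MvPolynomial.C (σ := Fin d))) (MvPolynomial (Fin d) K) :=
      MvPolynomial.isLocalization (nonZeroDivisors R) K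
    obtain ⟨⟨m, e, he, rfl⟩, p, hp, hpe⟩ := IsIntegral.exists_multiple_integral_of_isLocalization
      ((nonZeroDivisors R).map (MvPolynomial.C (σ := Fin d))) (ι x) (hg'int (ι x) : IsIntegral (MvPolynomial (Fin d) K) (ι x))
    have hsm : (⟨MvPolynomial.C e, Submonoid.mem_map_of_mem _ he⟩ :
        (nonZeroDivisors R).map (MvPolynomial.C (σ := Fin d))) • ι x = ι (e • x) := by
      rw [Submonoid.smul_def, Algebra.smul_def, Algebra.smul_def, map_mul]
      congr 1
      exact (RingHom.congr_fun hcompat _).trans (congrArg ι (Ψ.commutes e))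
    rw [hsm, RingHom.algebraMap_toAlgebra, hcompat] at hpe
    obtain ⟨e', he', he'p⟩ := hι0 (Polynomial.eval₂ Ψ.toRingHom (e • x) p)
      ((Polynomial.hom_eval₂ p Ψ.toRingHom ι.toRingHom (e • x)).trans hpe)
    refine ⟨e' * e, mul_ne_zero he' (nonZeroDivisors.ne_zero he), ?_⟩
    let ψ : MvPolynomial (Fin d) R →+* Algebra.adjoin R (Set.range y) :=
      Ψ.toRingHom.codRestrict (Algebra.adjoin R (Set.range y)) fun P => by
        rw [Algebra.adjoin_range_eq_range_aeval]; exact ⟨P, rfl⟩
    refine ⟨(p.scaleRoots (MvPolynomial.C e')).map ψ, ((Polynomial.monic_scaleRoots_iff _).mpr hp).map _, ?_⟩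
    rw [Polynomial.eval₂_map]
    show Polynomial.eval₂ Ψ.toRingHom ((e' * e) • x) _ = 0
    have hC : Ψ.toRingHom (MvPolynomial.C e') = algebraMap R S e' := Ψ.commutes e'
    have hmul : (e' * e) • x = Ψ.toRingHom (MvPolynomial.C e') * (e • x) := by rw [hC, ← Algebra.smul_def, mul_smul]
    rw [hmul, Polynomial.scaleRoots_eval₂_mul, hC]
    rcases Nat.eq_zero_or_pos p.natDegree with h0 | hpos
    · have h1 : e' • (1 : S) = 0 := by
        rw [hp.natDegree_eq_zero.mp h0, Polynomial.eval₂_one] at he'p
        exact he'p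
      rw [← Algebra.algebraMap_eq_smul_one, ← map_zero (algebraMap R S)] at h1
      exact absurd (hinj h1) he'
    · obtain ⟨n, hn⟩ : ∃ n, p.natDegree = n + 1 := ⟨p.natDegree - 1, by omega⟩
      rw [hn, pow_succ, mul_assoc, ← Algebra.smul_def, he'p, mul_zero]
  obtain ⟨gen, hgen⟩ := ‹Algebra.FiniteType R S›.out
  choose e he hint using key
  let T : Set S := Set.range y ∪ (fun x => e x • x) '' ↑gen
  refine ⟨d, y, Algebra.adjoin R T, hindep, fun i => Algebra.subset_adjoin (Or.inl ⟨i, rfl⟩),
    Subalgebra.fg_def.mpr ⟨T, (Set.finite_range y).union (gen.finite_toSet.image _), rfl⟩, ?_,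
    ∏ x ∈ gen, e x, Finset.prod_ne_zero_iff.mpr fun x _ => he x, ?_⟩
  · intro s hs
    induction hs using Algebra.adjoin_induction with
    | mem z hz =>
      rcases hz with ⟨i, rfl⟩ | ⟨x, -, rfl⟩
      · exact isIntegral_algebraMap (R := Algebra.adjoin R (Set.range y)) (x := ⟨y i, Algebra.subset_adjoin ⟨i, rfl⟩⟩)
      · exact hint x
    | algebraMap r => exact isIntegral_algebraMap (R := Algebra.adjoin R (Set.range y)) (x := algebraMap R _ r)
    | add a b _ _ ha hb => exact ha.add hb
    | mul a b _ _ ha hb => exact ha.mul hb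
  · intro s
    have hs : s ∈ Algebra.adjoin R (gen : Set S) := by rw [hgen]; trivial
    induction hs using Algebra.adjoin_induction with
    | mem z hz =>
      refine ⟨1, ?_⟩
      rw [pow_one, ← Finset.prod_erase_mul _ _ (Finset.mem_coe.mp hz), mul_smul]
      exact Subalgebra.smul_mem _ (Algebra.subset_adjoin (show e z • z ∈ T from Or.inr ⟨z, hz, rfl⟩)) _
    | algebraMap r => exact ⟨0, by rw [pow_zero, one_smul]; exact Subalgebra.algebraMap_mem _ _⟩
    | add a b _ _ ha hb =>
      obtain ⟨n, hn⟩ := ha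
      obtain ⟨m, hm⟩ := hb
      refine ⟨n + m, ?_⟩
      rw [smul_add]
      refine add_mem ?_ ?_
      · rw [pow_add, mul_comm, mul_smul]; exact Subalgebra.smul_mem _ hn _
      · rw [pow_add, mul_smul]; exact Subalgebra.smul_mem _ hm _
    | mul a b _ _ ha hb =>
      obtain ⟨n, hn⟩ := ha
      obtain ⟨m, hm⟩ := hb
      exact ⟨n + m, by rw [pow_add, ← smul_mul_smul_comm]; exact mul_mem hn hm⟩

end Groth.Agent.S2073
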