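-- statement Lim.GrothFrozen.S2076 (Groth/Statements/S2076.lean; the theorem Lim.exists_isClosedImmersion_into_stage);
import Groth.Statements.S2076
import Groth.Agent.H7Lim.Approx.Consequences

set_option autoImplicit false
universe u
open CategoryTheory AlgebraicGeometry
open Lim

namespace Groth.Agent.S2076
set_option backward.isDefEq.respectTransparency false

/-- Let `X = lim X_i` be a cofiltered limit of quasi-compact schemes over `S` with affine transition
morphisms and `h : Y → X` a closed immersion with `Y → S` locally of finite type. Then `Y → X_i` is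
a closed immersion for some `i`. -/
theorem result {I : Type u} [SmallCategory I] [IsCofiltered I] (S : Scheme.{u})
    (D : I ⥤ Over S) (c : Limits.Cone D) (hc : Limits.IsLimit c)
    [∀ (i j : I) (f : i ⟶ j), IsAffineHom (D.map f).left] [∀ i, CompactSpace (D.obj i).left]
    {Y : Scheme.{u}} (h : Y ⟶ c.pt.left) [IsClosedImmersion h] [LocallyOfFiniteType (h ≫ c.pt.hom)] :
    ∃ i : I, IsClosedImmersion (h ≫ (c.π.app i).left) := by
  obtain ⟨i, -, hi⟩ := Groth.Agent.H7Lim.Approx.exists_isClosedImmersion_stage hc h (IsCofiltered.nonempty (C := I)).some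
  exact ⟨i, hi⟩

end Groth.Agent.S2076
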