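-- statement Lim.GrothFrozen.S2077 (Groth/Statements/S2077.lean; the theorem Lim.exists_immersion_into_finitePresentation);
import Groth.Statements.S2077
import Groth.Agent.H7Lim.Approx.Immersion

set_option autoImplicit false
universe u
open CategoryTheory AlgebraicGeometry
open Lim

namespace Groth.Agent.S2077
set_option backward.isDefEq.respectTransparency false

/-- Let `f : X → S` be locally of finite type with `X` quasi-compact and quasi-separated. Then there are
a morphism `f' : X' → S` of finite presentation (locally of finite presentation, quasi-compact,
quasi-separated) and an immersion `X → X'` over `S`. -/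
theorem result {X S : Scheme.{u}} (f : X ⟶ S) [LocallyOfFiniteType f]
    [CompactSpace X] [QuasiSeparatedSpace X] :
    ∃ (X' : Scheme.{u}) (f' : X' ⟶ S) (j : X ⟶ X'), LocallyOfFinitePresentation f' ∧ QuasiCompact f' ∧
      QuasiSeparated f' ∧ IsImmersion j ∧ j ≫ f' = f := by
  exact H7Lim.Approx.exists_isImmersion_fp f

end Groth.Agent.S2077
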