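import Groth.Statements.S2081
import Groth.Agent.H17.GenFiniteDense

set_option autoImplicit false
universe u
open CategoryTheory AlgebraicGeometry
open Mor

namespace Groth.Agent.S2081

open CategoryTheory CategoryTheory.Limits AlgebraicGeometry TopologicalSpace
open Groth.Agent.H17 Groth.Agent.H17.GenFinite

/-- Let `f : X → Y` be locally of finite type and quasi-compact. Suppose `X` and `Y` have finitely many
irreducible components and that a point of `X` is a generic point of an irreducible component
exactly when its image is one in `Y`. Then `f⁻¹(V) → V` is finite for some dense open `V ⊆ Y`. -/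
theorem result {X Y : Scheme.{u}} (f : X ⟶ Y) [LocallyOfFiniteType f]
    [QuasiCompact f] (hX : (irreducibleComponents (X : Type u)).Finite) (hY : (irreducibleComponents (Y : Type u)).Finite)
    (hgen : ∀ x : X, closure {x} ∈ irreducibleComponents (X : Type u) ↔
      closure {f.base x} ∈ irreducibleComponents (Y : Type u)) :
    ∃ V : Y.Opens, Dense (V : Set Y) ∧ IsFinite (f ∣_ V) := by
  classical
  obtain ⟨O, hO, hOd⟩ := exists_disjoint_nhds hX
  have key : ∀ η : genericPoints Y, ∃ V : Y.Opens, η.1 ∈ V ∧ IsFinite (f ∣_ V) := by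
    rintro ⟨η, hη⟩
    obtain ⟨V₀, hV₀, hηV, -⟩ := exists_isAffineOpen_mem_and_subset (U := (⊤ : Y.Opens)) (x := η) trivial
    have hsub : f.base ⁻¹' {η} ⊆ genericPoints X := fun x hx => (hgen x).2 (by
      rw [show f.base x = η from hx]; exact hη)
    have hfin : (f.base ⁻¹' {η}).Finite := (genericPoints.finite hX).subset hsub
    have hU : ∀ x ∈ f.base ⁻¹' {η}, ∃ U : X.Opens, IsAffineOpen U ∧ x ∈ U ∧ U ≤ O x ⊓ f ⁻¹ᵁ V₀ := by
      intro x hx
      obtain ⟨U, h1, h2, h3⟩ := exists_isAffineOpen_mem_and_subset (U := O x ⊓ f ⁻¹ᵁ V₀) (x := x)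
        ⟨hO x (hsub hx), by show f x ∈ V₀; rw [show f x = η from hx]; exact hηV⟩
      exact ⟨U, h1, h2, h3⟩
    choose! U hUa hUm hUle using hU
    obtain ⟨s, hs, hfin'⟩ := exists_isFinite_nhd f hη hV₀ hηV (f.isCompact_preimage hV₀.isCompact)
      hfin U (fun x hx => ⟨hUa x hx, hUm x hx, (hUle x hx).trans inf_le_right⟩) (fun a ha b hb hab => by
        rw [Function.onFun]
        exact (hOd (hsub ha) (hsub hb) hab).mono ((hUle a ha).trans inf_le_left)
          ((hUle b hb).trans inf_le_left))
    exact ⟨_, hs, hfin'⟩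
  choose V hV hVfin using key
  exact ⟨⨆ η, V η, dense_of_genericPoints_subset (fun η hη => Opens.mem_iSup.2 ⟨⟨η, hη⟩, hV _⟩),
    isFinite_morphismRestrict_iSup f V hVfin⟩

end Groth.Agent.S2081
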