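import Groth.Statements.S2083
import Groth.Agent.H4Depth.CM

set_option autoImplicit false
universe u
open CAlg

namespace Groth.Agent.S2083

/-- Let `R` be a Noetherian local ring, `M` a finite Cohen–Macaulay `R`-module and `g` a member of the
maximal ideal for which the support of `M/gM` has dimension exactly one less than that of `M`. Then
`g` is a nonzerodivisor on `M`, and the quotient `M/gM` is again Cohen–Macaulay, with depth one
smaller than that of `M`. -/
theorem result {R M : Type u} [CommRing R] [IsLocalRing R] [IsNoetherianRing R]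
    [AddCommGroup M] [Module R M] [Module.Finite R M] (hM : LocCoh.IsCohenMacaulayModule R M) (g : R)
    (hg : g ∈ IsLocalRing.maximalIdeal R)
    (hdim : Module.supportDim R (M ⧸ Ideal.span {g} • (⊤ : Submodule R M)) + 1 = Module.supportDim R M) :
    IsSMulRegular M g ∧ LocCoh.IsCohenMacaulayModule R (M ⧸ Ideal.span {g} • (⊤ : Submodule R M)) ∧
      LocCoh.depth R (M ⧸ Ideal.span {g} • (⊤ : Submodule R M)) + 1 = LocCoh.depth R M := by
  have e : QuotSMulTop g M ≃ₗ[R] M ⧸ Ideal.span {g} • (⊤ : Submodule R M) :=
    Submodule.quotEquivOfEq _ _ (H4Depth.smul_eq_span_singleton_smul_top g)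
  rw [← Module.supportDim_eq_of_equiv e] at hdim
  have := H4Depth.IsCM.nontrivial hM
  obtain ⟨d, hd⟩ := H4Depth.exists_nat_supportDim_eq (R := R) (M := M)
  have hlt : Module.supportDim R (QuotSMulTop g M) < Module.supportDim R M := by
    rw [← hdim]
    rcases eq_or_ne (Module.supportDim R (QuotSMulTop g M)) ⊥ with h | h
    · rw [h, WithBot.bot_add, hd] at hdim
      exact absurd hdim.symm WithBot.coe_ne_bot
    · obtain ⟨a, ha⟩ := WithBot.ne_bot_iff_exists.mp h
      rw [← ha] at hdim ⊢
      induction a using ENat.recTopCoe with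
      | top => rw [hd, ← WithBot.coe_one, ← WithBot.coe_add, top_add] at hdim; exact absurd (WithBot.coe_injective hdim) (ENat.top_ne_coe d)
      | coe k => exact WithBot.coe_lt_coe.mpr (show (k : ℕ∞) < (k : ℕ∞) + 1 by exact_mod_cast Nat.lt_succ_self k)
  have hreg := H4Depth.IsCM.isSMulRegular_of_supportDim_lt hM hlt
  refine ⟨hreg, ?_, ?_⟩
  · have h := (H4Depth.isCM_quotSMulTop_iff hg hreg).mpr hM
    unfold LocCoh.IsCohenMacaulayModule at h ⊢
    rwa [← Module.supportDim_eq_of_equiv e, ← H4Depth.depth_congr e]
  · rw [← H4Depth.depth_congr e]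
    exact H4Depth.idealDepth_quotSMulTop_add_one hg hreg

end Groth.Agent.S2083
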