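import Groth.Statements.S2084
import Groth.Agent.H4Depth.CM
import Mathlib.RingTheory.Ideal.Height
import Mathlib.RingTheory.KrullDimension.NonZeroDivisors

set_option autoImplicit false
universe u
open CAlg

namespace Groth.Agent.S2084

theorem height_eq_succ {R M : Type u} [CommRing R] [IsLocalRing R] [IsNoetherianRing R]
    [AddCommGroup M] [Module R M] [Module.Finite R M] (hM : LocCoh.IsCohenMacaulayModule R M)
    (hsupp : Module.support R M = Set.univ) (p q : PrimeSpectrum R) (h : p ⋖ q) :
    q.asIdeal.height = p.asIdeal.height + 1 := by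
  let A := Localization.AtPrime q.asIdeal
  let N := LocalizedModule q.asIdeal.primeCompl M
  have hN : LocCoh.IsCohenMacaulayModule A N :=
    (H4Depth.IsCM.localization hM q.asIdeal (hsupp ▸ Set.mem_univ _)).1
  have hsuppN : Module.support A N = Set.univ := by
    rw [Set.eq_univ_iff_forall]
    intro P
    rw [Module.mem_support_iff_of_finite]
    intro a ha
    obtain ⟨r, s, rfl⟩ := IsLocalization.exists_mk'_eq q.asIdeal.primeCompl a
    rw [IsLocalization.mk'_mem_iff]
    rw [Module.mem_annihilator] at ha
    have hann : ∀ m : M, ∃ c : q.asIdeal.primeCompl, (c : R) • r • m = 0 := fun m => by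
      have h0 := ha (LocalizedModule.mk m 1)
      have h1 : algebraMap R A r • (LocalizedModule.mk m 1 : N) = 0 := by
        rw [← IsLocalization.mk'_spec A r s, mul_comm, mul_smul, h0, smul_zero]
      rw [algebraMap_smul] at h1
      have h0 : (LocalizedModule.mk (r • m) 1 : N) = LocalizedModule.mk 0 1 := by
        rw [LocalizedModule.zero_mk, ← LocalizedModule.smul'_mk]; exact h1
      rw [LocalizedModule.mk_eq] at h0
      obtain ⟨c, hc⟩ := h0
      exact ⟨c, by simpa [Submonoid.smul_def] using hc⟩
    obtain ⟨k, g, hg⟩ := Module.Finite.exists_fin (R := R) (M := M)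
    choose c hc using fun i => hann (g i)
    have hmem : (∏ i, (c i : R)) * r ∈ Module.annihilator R M := by
      rw [← Submodule.annihilator_top, ← hg, Submodule.mem_annihilator_span]
      rintro ⟨-, i, rfl⟩
      show ((∏ i, (c i : R)) * r) • g i = 0
      rw [mul_smul, ← Finset.prod_erase_mul _ _ (Finset.mem_univ i), mul_smul, hc, smul_zero]
    let P' : PrimeSpectrum R := PrimeSpectrum.comap (algebraMap R A) P
    have hP' : P' ∈ Module.support R M := hsupp ▸ Set.mem_univ _
    rw [Module.mem_support_iff_of_finite] at hP'
    have := hP' hmem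
    rcases P'.isPrime.mem_or_mem this with h' | h'
    · exfalso
      obtain ⟨i, -, hi⟩ := P'.isPrime.prod_mem_iff.mp h'
      exact P.isPrime.ne_top (Ideal.eq_top_of_isUnit_mem _ hi (IsLocalization.map_units A (c i)))
    · exact h'
  let pA : Ideal A := p.asIdeal.map (algebraMap R A)
  have hdisj : Disjoint (q.asIdeal.primeCompl : Set R) (p.asIdeal : Set R) :=
    Set.disjoint_left.mpr fun x hx hx' => hx (h.le hx')
  haveI hpA : pA.IsPrime :=
    IsLocalization.isPrime_of_isPrime_disjoint q.asIdeal.primeCompl A _ p.isPrime hdisj
  have key := (H4Depth.IsCM.localization hN pA (hsuppN ▸ Set.mem_univ _)).2.1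
  have hsupp2 : Module.support (Localization.AtPrime pA) (LocalizedModule pA.primeCompl N) = Set.univ := by
    rw [Set.eq_univ_iff_forall]
    intro P
    rw [H4Depth.mem_support_localizedModule_iff pA.primeCompl (Localization.AtPrime pA) (LocalizedModule.mkLinearMap pA.primeCompl N), hsuppN]
    exact Set.mem_univ _
  have hdim : ∀ {S : Type u} {L : Type u} [CommRing S] [AddCommGroup L] [Module S L],
      Module.support S L = Set.univ → Module.supportDim S L = ringKrullDim S := by
    intro S L _ _ _ hs
    rw [Module.supportDim, hs]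
    exact Order.krullDim_eq_of_orderIso OrderIso.Set.univ
  rw [hdim hsuppN, hdim hsupp2, IsLocalization.AtPrime.ringKrullDim_eq_height q.asIdeal A,
    IsLocalization.AtPrime.ringKrullDim_eq_height pA (Localization.AtPrime pA)] at key
  have hh : pA.height = p.asIdeal.height := by
    rw [IsLocalization.height_comap q.asIdeal.primeCompl pA |>.symm,
      IsLocalization.comap_map_of_isPrime_disjoint q.asIdeal.primeCompl A p.isPrime hdisj]
  have hone : ringKrullDim (A ⧸ pA) = 1 := by
    classical
    rw [ringKrullDim_quotient]
    have htwo : ∀ P : PrimeSpectrum.zeroLocus (pA : Set A),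
        P.1.asIdeal = pA ∨ P.1.asIdeal = IsLocalRing.maximalIdeal A := by
      intro P
      let P' : PrimeSpectrum R := PrimeSpectrum.comap (algebraMap R A) P.1
      have h1 : p ≤ P' := fun x hx => P.2 (Ideal.mem_map_of_mem _ hx)
      have h2 : P' ≤ q := fun x hx => by
        by_contra hxq
        exact P.1.isPrime.ne_top (Ideal.eq_top_of_isUnit_mem _ hx (IsLocalization.map_units A (⟨x, hxq⟩ : q.asIdeal.primeCompl)))
      have e : P.1.asIdeal = P'.asIdeal.map (algebraMap R A) :=
        (IsLocalization.map_comap q.asIdeal.primeCompl A P.1.asIdeal).symm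
      rcases h.eq_or_eq h1 h2 with h' | h'
      · left; rw [e, h']
      · right; rw [e, h', ← Localization.AtPrime.map_eq_maximalIdeal]
    have hne : pA ≠ IsLocalRing.maximalIdeal A := by
      intro e
      refine h.ne (PrimeSpectrum.ext ?_)
      rw [← IsLocalization.comap_map_of_isPrime_disjoint q.asIdeal.primeCompl A p.isPrime hdisj]
      show pA.comap _ = _
      rw [e]
      exact IsLocalization.AtPrime.comap_maximalIdeal A q.asIdeal
    apply le_antisymm
    · rw [Order.krullDim_le_one_iff]
      intro P
      rcases htwo P with hP | hP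
      · left
        intro Q hQ
        show P.1.asIdeal ≤ Q.1.asIdeal
        rw [hP]; exact Q.2
      · right
        intro Q _
        show Q.1.asIdeal ≤ P.1.asIdeal
        rw [hP]; exact IsLocalRing.le_maximalIdeal Q.1.isPrime.ne_top
    · let a : PrimeSpectrum.zeroLocus (pA : Set A) := ⟨⟨pA, hpA⟩, fun x hx => hx⟩
      let b : PrimeSpectrum.zeroLocus (pA : Set A) := ⟨⟨IsLocalRing.maximalIdeal A, inferInstance⟩,
        fun x hx => IsLocalRing.le_maximalIdeal hpA.ne_top hx⟩
      have hab : a < b := lt_of_le_of_ne (IsLocalRing.le_maximalIdeal hpA.ne_top)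
        (fun e => hne (congrArg (fun x => x.1.asIdeal) e))
      exact Order.one_le_krullDim_iff.mpr ⟨a, b, hab⟩
  rw [hone, hh, ← WithBot.coe_one, ← WithBot.coe_add, add_comm] at key
  exact WithBot.coe_injective key

/-- Let `R` be a Noetherian local ring admitting a finite Cohen–Macaulay module whose support is all of
`Spec R`. Then every maximal chain of prime ideals (starting at a minimal prime, ending at the
maximal ideal, with no prime strictly between consecutive members) has length equal to the dimension
of `R`. -/
theorem result {R M : Type u} [CommRing R] [IsLocalRing R] [IsNoetherianRing R]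
    [AddCommGroup M] [Module R M] [Module.Finite R M] (hM : LocCoh.IsCohenMacaulayModule R M)
    (hsupp : Module.support R M = Set.univ) (s : LTSeries (PrimeSpectrum R))
    (hhead : s.head.asIdeal ∈ minimalPrimes R) (hlast : s.last.asIdeal = IsLocalRing.maximalIdeal R)
    (hsat : ∀ i : Fin s.length, s (Fin.castSucc i) ⋖ s (Fin.succ i)) :
    (s.length : WithBot ℕ∞) = ringKrullDim R := by
  have hh : ∀ (i : ℕ) (hi : i < s.length + 1), (s ⟨i, hi⟩).asIdeal.height = i := by
    intro i
    induction i with
    | zero => intro hi; exact Ideal.height_eq_zero_iff.mpr hhead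
    | succ i ih =>
      intro hi
      have := height_eq_succ hM hsupp _ _ (hsat ⟨i, by omega⟩)
      rw [show Fin.succ (⟨i, by omega⟩ : Fin s.length) = (⟨i + 1, hi⟩ : Fin (s.length + 1)) from rfl,
        show Fin.castSucc (⟨i, by omega⟩ : Fin s.length) = (⟨i, by omega⟩ : Fin (s.length + 1)) from rfl,
        ih (by omega)] at this
      rw [this]; push_cast; rfl
  rw [← IsLocalRing.maximalIdeal_height_eq_ringKrullDim, ← hlast]
  rw [show s.last = s ⟨s.length, by omega⟩ from rfl, hh]
  rfl

end Groth.Agent.S2084
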