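import Groth.Statements.S2086
import Groth.Agent.H05EGA4.GRSHom
-- import your own Groth.Agent.* helpers here

set_option autoImplicit false
universe u
open CAlg
open scoped TensorProduct

namespace Groth.Agent.S2086

/-- Let `R → S` be a flat map of Noetherian rings such that `R` and all fibre rings `S ⊗ κ(𝔭)` satisfy
Serre's condition `(S_k)`. Then `S` satisfies `(S_k)`. -/
theorem result {R S : Type u} [CommRing R] [CommRing S] [IsNoetherianRing R] [IsNoetherianRing S]
    [Algebra R S] [Module.Flat R S] (k : ℕ) (hR : LocCoh.HasSk k R R)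
    (hfib : ∀ (p : Ideal R) [p.IsPrime], LocCoh.HasSk k (p.Fiber S) (p.Fiber S)) :
    LocCoh.HasSk k S S := by
  open Groth.Agent in
  refine H05EGA4.hasSk_self_iff_rs.mpr (H05EGA4.RS.of_flat (H05EGA4.hasSk_self_iff_rs.mp hR) fun p _ => ?_)
  haveI : IsNoetherianRing (p.Fiber S) := Groth.Agent.H02CA.isNoetherianRing_tensor_of_essFiniteType _ _ _
  exact Groth.Agent.H05EGA4.hasSk_self_iff_rs.mp (hfib p)

end Groth.Agent.S2086
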