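import Groth.Statements.S2088
import Groth.Agent.H1CAlg.FlatResidueExt

set_option autoImplicit false
universe u
open CAlg

namespace Groth.Agent.S2088

/-- Let `(R, 𝔪, k)` be a local ring and `K/k` a field extension. Then there is a flat local homomorphism
of local rings `R → R'` with `𝔪R' = 𝔪_{R'}` whose residue field is isomorphic to `K` over `k`. -/
theorem result {R K : Type u} [CommRing R] [IsLocalRing R] [Field K]
    [Algebra (IsLocalRing.ResidueField R) K] :
    ∃ (R' : Type u) (_ : CommRing R') (_ : IsLocalRing R') (_ : Algebra R R') (_ : IsLocalHom (algebraMap R R')),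
      Module.Flat R R' ∧ (IsLocalRing.maximalIdeal R).map (algebraMap R R') = IsLocalRing.maximalIdeal R' ∧
      Nonempty (IsLocalRing.ResidueField R' ≃ₐ[IsLocalRing.ResidueField R] K) := by
  obtain ⟨R', _, _, _, ev, hflat, hsurj, hmax, hcomm⟩ :=
    Groth.Agent.H1CAlg.FlatResidueExt.exists_flat_ext R K
  haveI hloc : IsLocalHom (algebraMap R R') :=
    ((IsLocalRing.local_hom_TFAE (algebraMap R R')).out 0 2).mpr hmax.le
  have hker : ∀ x ∈ IsLocalRing.maximalIdeal R', ev x = 0 := by
    intro x hx
    have : RingHom.ker ev = IsLocalRing.maximalIdeal R' :=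
      haveI := RingHom.ker_isMaximal_of_surjective ev hsurj
      IsLocalRing.eq_maximalIdeal inferInstance
    exact RingHom.mem_ker.mp (this.symm ▸ hx)
  let e₀ : IsLocalRing.ResidueField R' →+* K := Ideal.Quotient.lift _ ev hker
  have hres : ∀ x, e₀ (IsLocalRing.residue R' x) = ev x := fun x => rfl
  let e : IsLocalRing.ResidueField R' →ₐ[IsLocalRing.ResidueField R] K :=
    { e₀ with
      commutes' := fun c => by
        obtain ⟨r, rfl⟩ := IsLocalRing.residue_surjective c
        have h1 : algebraMap (IsLocalRing.ResidueField R) (IsLocalRing.ResidueField R')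
            (IsLocalRing.residue R r) = IsLocalRing.residue R' (algebraMap R R' r) := rfl
        show e₀ _ = _
        rw [h1, hres, hcomm] }
  refine ⟨R', inferInstance, inferInstance, inferInstance, hloc, hflat, hmax,
    ⟨AlgEquiv.ofBijective e ⟨e₀.injective, fun y => ?_⟩⟩⟩
  obtain ⟨x, rfl⟩ := hsurj y
  exact ⟨IsLocalRing.residue R' x, hres x⟩

end Groth.Agent.S2088
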