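import Groth.Statements.S2093
import Groth.Agent.H1CAlg.ReducedCriterion
-- import your own Groth.Agent.* helpers here

set_option autoImplicit false
universe u
open CAlg

namespace Groth.Agent.S2093

/-- Let `(R, 𝔪)` be a Noetherian local domain and `x ∈ 𝔪` nonzero such that `R/xR` has no embedded
associated primes, and for every associated prime `𝔭` of `R/xR` the local ring `R_𝔭` is regular and
the completion of `R/𝔭` is reduced. Then the completion of `R` is reduced. -/
theorem result {R : Type u} [CommRing R] [IsDomain R] [IsLocalRing R]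
    [IsNoetherianRing R] (x : R) (hx : x ≠ 0) (hxm : x ∈ IsLocalRing.maximalIdeal R)
    (hemb : ∀ p ∈ associatedPrimes R (R ⧸ Ideal.span {x}), p ∈ (Ideal.span {x}).minimalPrimes)
    (hreg : ∀ p ∈ associatedPrimes R (R ⧸ Ideal.span {x}), ∀ (_ : p.IsPrime),
      IsRegularLocalRing (Localization.AtPrime p) ∧
        IsReduced (AdicCompletion ((IsLocalRing.maximalIdeal R).map (Ideal.Quotient.mk p)) (R ⧸ p))) :
    IsReduced (AdicCompletion (IsLocalRing.maximalIdeal R) R) := by
  refine Groth.Agent.H1CAlg.isReduced_adicCompletion_of_element x hx hxm fun p hp hprime => ⟨(hreg p hp hprime).2, ?_⟩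
  haveI := (hreg p hp hprime).1
  exact Groth.Agent.H1CAlg.exists_uniformizer_of_isRegularLocalRing (hemb p hp)

end Groth.Agent.S2093
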