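import Groth.Statements.S2094
import Mathlib.RingTheory.Smooth.Basic
import Mathlib.Algebra.TrivSqZeroExt.Basic
import Mathlib.LinearAlgebra.SymmetricAlgebra.Basic
import Mathlib.RingTheory.Ideal.Quotient.Operations
import Mathlib.RingTheory.Finiteness.Cardinality
-- import your own Groth.Agent.* helpers here

set_option autoImplicit false
universe u
open CAlg

namespace Groth.Agent.S2094

/-- The symmetric algebra of an `A`-module is a smooth `A`-algebra exactly when the module is finite
projective. -/
theorem result {A M : Type u} [CommRing A] [AddCommGroup M] [Module A M] :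
    Algebra.Smooth A (SymmetricAlgebra A M) ↔ Module.Finite A M ∧ Module.Projective A M := by
  classical
  letI : Module Aᵐᵒᵖ M := Module.compHom M ((RingHom.id A).fromOpposite mul_comm)
  haveI : IsCentralScalar A M := ⟨fun _ _ => rfl⟩
  constructor
  · intro hsm
    haveI := hsm.formallySmooth
    haveI := hsm.finitePresentation
    let ψ : SymmetricAlgebra A M →ₐ[A] TrivSqZeroExt A M := SymmetricAlgebra.lift (TrivSqZeroExt.inrHom A M)
    have hψι : ∀ m, ψ (SymmetricAlgebra.ι A M m) = TrivSqZeroExt.inr m := fun m => SymmetricAlgebra.lift_ι_apply _ m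
    refine ⟨?_, ?_⟩
    · obtain ⟨G, hG⟩ := (inferInstance : Algebra.FiniteType A (SymmetricAlgebra A M)).out
      refine ⟨⟨G.image (fun z => (ψ z).snd), ?_⟩⟩
      rw [eq_top_iff]
      intro m _
      have key : ∀ z ∈ Algebra.adjoin A (G : Set (SymmetricAlgebra A M)),
          (ψ z).snd ∈ Submodule.span A ((G.image fun z => (ψ z).snd : Finset M) : Set M) := by
        intro z hz
        induction hz using Algebra.adjoin_induction with
        | mem x hx => exact Submodule.subset_span (Finset.mem_coe.mpr (Finset.mem_image_of_mem _ hx))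
        | algebraMap r => rw [AlgHom.commutes, TrivSqZeroExt.algebraMap_eq_inl]; simp
        | add x y _ _ hx hy => rw [map_add, TrivSqZeroExt.snd_add]; exact add_mem hx hy
        | mul x y _ _ hx hy =>
          rw [map_mul, TrivSqZeroExt.snd_mul, op_smul_eq_smul]
          exact add_mem (Submodule.smul_mem _ _ hy) (Submodule.smul_mem _ _ hx)
      simpa [hψι] using key (SymmetricAlgebra.ι A M m) (hG ▸ Algebra.mem_top)
    · refine Module.Projective.of_lifting_property (R := A) (P := M) fun {N Q} _ _ _ _ q f hq => ?_
      letI : Module Aᵐᵒᵖ N := Module.compHom N ((RingHom.id A).fromOpposite mul_comm)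
      haveI : IsCentralScalar A N := ⟨fun _ _ => rfl⟩
      letI : Module Aᵐᵒᵖ Q := Module.compHom Q ((RingHom.id A).fromOpposite mul_comm)
      haveI : IsCentralScalar A Q := ⟨fun _ _ => rfl⟩
      let π : TrivSqZeroExt A N →ₐ[A] TrivSqZeroExt A Q := TrivSqZeroExt.map q
      have hπ : Function.Surjective π := fun x => by
        obtain ⟨y, hy⟩ := hq x.snd
        exact ⟨TrivSqZeroExt.inl x.fst + TrivSqZeroExt.inr y, by
          refine TrivSqZeroExt.ext ?_ ?_ <;> simp [π, hy]⟩
      have hnil : IsNilpotent (RingHom.ker (π : TrivSqZeroExt A N →+* TrivSqZeroExt A Q)) := by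
        refine ⟨2, ?_⟩
        rw [pow_two, Submodule.zero_eq_bot, eq_bot_iff, Ideal.mul_le]
        intro a ha b hb
        have hz : ∀ c ∈ RingHom.ker (π : TrivSqZeroExt A N →+* TrivSqZeroExt A Q), c.fst = 0 := fun c hc => by
          simpa [π] using congrArg TrivSqZeroExt.fst (show π c = 0 from hc)
        rw [Submodule.mem_bot]
        refine TrivSqZeroExt.ext ?_ ?_ <;> simp [hz a ha, hz b hb]
      let g : SymmetricAlgebra A M →ₐ[A] TrivSqZeroExt A Q :=
        SymmetricAlgebra.lift ((TrivSqZeroExt.inrHom A Q) ∘ₗ f)
      let L := Algebra.FormallySmooth.liftOfSurjective g π hπ hnil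
      have hL : ∀ z, π (L z) = g z := fun z => by
        rw [← AlgHom.comp_apply, Algebra.FormallySmooth.comp_liftOfSurjective]
      refine ⟨(TrivSqZeroExt.sndHom A N) ∘ₗ L.toLinearMap ∘ₗ SymmetricAlgebra.ι A M, ?_⟩
      ext m
      have := congrArg TrivSqZeroExt.snd (hL (SymmetricAlgebra.ι A M m))
      simpa [π, g] using this
  · rintro ⟨hfin, hproj⟩
    obtain ⟨n, q, hq⟩ := Module.Finite.exists_fin' A M
    obtain ⟨s, hs⟩ := Module.projective_lifting_property q LinearMap.id hq
    haveI hfs : Algebra.FormallySmooth A (SymmetricAlgebra A M) := by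
      refine Algebra.FormallySmooth.of_comp_surjective fun B _ _ I _ g => ?_
      obtain ⟨h, hh⟩ := Module.projective_lifting_property (Ideal.Quotient.mkₐ A I).toLinearMap
        (g.toLinearMap ∘ₗ SymmetricAlgebra.ι A M) Ideal.Quotient.mk_surjective
      refine ⟨SymmetricAlgebra.lift h, SymmetricAlgebra.algHom_ext (LinearMap.ext fun m => ?_)⟩
      simpa using LinearMap.congr_fun hh m
    haveI hfp : Algebra.FinitePresentation A (SymmetricAlgebra A M) := by
      let e : Fin n → (Fin n → A) := fun i => Pi.single i 1
      let P := MvPolynomial (Fin n) A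
      let φ : P →ₐ[A] SymmetricAlgebra A M := MvPolynomial.aeval fun i => SymmetricAlgebra.ι A M (q (e i))
      let L : (Fin n → A) →ₗ[A] P := (Pi.basisFun A (Fin n)).constr A fun i => MvPolynomial.X i
      have hφL : ∀ v, φ (L v) = SymmetricAlgebra.ι A M (q v) := by
        have : φ.toLinearMap ∘ₗ L = SymmetricAlgebra.ι A M ∘ₗ q :=
          (Pi.basisFun A (Fin n)).ext fun i => by
            simp [φ, L, e, -Pi.basisFun_apply, Pi.basisFun_apply A]
            exact MvPolynomial.aeval_X _ i
        exact fun v => LinearMap.congr_fun this v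
      let J : Ideal P := Ideal.span (Set.range fun i => MvPolynomial.X i - L (s (q (e i))))
      let θ : SymmetricAlgebra A M →ₐ[A] P ⧸ J :=
        SymmetricAlgebra.lift ((Ideal.Quotient.mkₐ A J).toLinearMap ∘ₗ L ∘ₗ s)
      have hθφ : θ.comp φ = Ideal.Quotient.mkₐ A J := by
        refine MvPolynomial.algHom_ext fun i => ?_
        simp only [θ, φ, AlgHom.comp_apply, MvPolynomial.aeval_X, SymmetricAlgebra.lift_ι_apply, LinearMap.comp_apply]
        have hmem : MvPolynomial.X i - L (s (q (e i))) ∈ J := Ideal.subset_span (Set.mem_range_self i)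
        exact (Ideal.Quotient.eq.mpr hmem).symm
      have hqs : ∀ m, q (s m) = m := fun m => LinearMap.congr_fun hs m
      have hsurj : Function.Surjective φ := by
        intro z
        induction z using SymmetricAlgebra.induction with
        | algebraMap r => exact ⟨algebraMap A P r, φ.commutes r⟩
        | ι m => exact ⟨L (s m), by rw [hφL, hqs]⟩
        | mul a b ha hb => obtain ⟨x, rfl⟩ := ha; obtain ⟨y, rfl⟩ := hb; exact ⟨x * y, map_mul φ x y⟩
        | add a b ha hb => obtain ⟨x, rfl⟩ := ha; obtain ⟨y, rfl⟩ := hb; exact ⟨x + y, map_add φ x y⟩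
      have hker : RingHom.ker φ.toRingHom = J := by
        refine le_antisymm (fun p hp => ?_) (Ideal.span_le.mpr ?_)
        · rw [← Ideal.Quotient.eq_zero_iff_mem]
          have := AlgHom.congr_fun hθφ p
          rw [AlgHom.comp_apply, show φ p = 0 from hp, map_zero] at this
          exact this.symm
        · rintro _ ⟨i, rfl⟩
          show φ _ = 0
          rw [map_sub, hφL, hqs]
          rw [show φ (MvPolynomial.X i) = SymmetricAlgebra.ι A M (q (e i)) from MvPolynomial.aeval_X _ i, sub_self]
      exact Algebra.FinitePresentation.of_surjective hsurj (hker ▸ Submodule.fg_span (Set.finite_range _))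
    exact { }

end Groth.Agent.S2094
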