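import Groth.Statements.S2095
import Mathlib.RingTheory.TensorProduct.Maps
import Mathlib.RingTheory.Ideal.Quotient.Operations

set_option autoImplicit false
universe u
open CAlg

namespace Groth.Agent.S2095

open TensorProduct in
/-- Let `R → S` be a ring map, `𝔫 ⊆ S` an ideal and `R → R'` a ring map admitting an `R`-linear
retraction. If `R' → R' ⊗ S` is formally smooth for the adic topology of the extension of `𝔫`, then
`R → S` is formally smooth for the `𝔫`-adic topology. -/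
theorem result {R S R' : Type u} [CommRing R] [CommRing S] [Algebra R S]
    (𝔫 : Ideal S) [CommRing R'] [Algebra R R'] (ρ : R' →ₗ[R] R) (hρ : ∀ r : R, ρ (algebraMap R R' r) = r)
    (h : CAlgX.IsAdicFormallySmooth R' (R' ⊗[R] S)
      (𝔫.map (Algebra.TensorProduct.includeRight : S →ₐ[R] R' ⊗[R] S))) :
    CAlgX.IsAdicFormallySmooth R S 𝔫 := by
  intro A _ _ J hJ ψ hψ
  obtain ⟨n, hn⟩ := hψ
  let i : A →ₐ[R] R' ⊗[R] A := Algebra.TensorProduct.includeRight
  let J' : Ideal (R' ⊗[R] A) := J.map i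
  have hJ' : J' ^ 2 = ⊥ := by rw [← Ideal.map_pow, hJ, Ideal.map_bot]
  let f : S →ₐ[R] (R' ⊗[R] A) ⧸ J' :=
    (Ideal.quotientMapₐ J' i Ideal.le_comap_map).comp ψ
  let ψ' : R' ⊗[R] S →ₐ[R'] (R' ⊗[R] A) ⧸ J' :=
    Algebra.TensorProduct.lift (Algebra.ofId R' _) f (fun _ _ => Commute.all _ _)
  have hψ' : ∀ s, ψ' (1 ⊗ₜ[R] s) = f s := fun s => by
    simp [ψ']
  obtain ⟨χ', hχ'⟩ := h (R' ⊗[R] A) J' hJ' ψ' ⟨n, fun x hx => by
    rw [← Ideal.map_pow] at hx
    refine (show Ideal.map (Algebra.TensorProduct.includeRight : S →ₐ[R] R' ⊗[R] S) (𝔫 ^ n) ≤ RingHom.ker ψ' from Ideal.map_le_iff_le_comap.mpr ?_) hx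
    intro s hs
    rw [Ideal.mem_comap, RingHom.mem_ker]
    show ψ' (1 ⊗ₜ[R] s) = 0
    rw [hψ']
    show Ideal.quotientMapₐ J' i Ideal.le_comap_map (ψ s) = 0
    rw [hn s hs, map_zero]⟩
  let rA : R' ⊗[R] A →ₗ[R] A := (TensorProduct.lid R A).toLinearMap ∘ₗ TensorProduct.map ρ LinearMap.id
  have hlin : ∀ (a : A) (x : R' ⊗[R] A), rA (i a * x) = a * rA x := fun a x => by
    induction x using TensorProduct.induction_on with
    | zero => simp
    | tmul r b => simp [rA, i, Algebra.mul_smul_comm]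
    | add x y hx hy => rw [mul_add, map_add, map_add, hx, hy, mul_add]
  have hρ1 : ρ 1 = 1 := by simpa using hρ 1
  have hi : ∀ a, rA (i a) = a := fun a => by simp [rA, i, hρ1]
  have hJmem : ∀ x ∈ J', rA x ∈ J := fun x hx => by
    refine Submodule.span_induction (p := fun x _ => ∀ y, rA (x * y) ∈ J) ?_ ?_ ?_ ?_ hx 1 |> fun h => by
      simpa using h
    · rintro _ ⟨j, hj, rfl⟩ y
      rw [hlin]
      exact J.mul_mem_right _ hj
    · simp
    · intro a b _ _ ha hb y
      rw [add_mul, map_add]; exact add_mem (ha y) (hb y)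
    · intro c x _ hx y
      rw [smul_eq_mul, mul_comm c x, mul_assoc]; exact hx _
  let g : S → R' ⊗[R] A := fun s => χ' (1 ⊗ₜ[R] s)
  choose a ha using fun s => Ideal.Quotient.mk_surjective (ψ s)
  have hg : ∀ s, g s - i (a s) ∈ J' := fun s => by
    rw [← Ideal.Quotient.eq]
    show Ideal.Quotient.mkₐ R' J' (χ' (1 ⊗ₜ[R] s)) = Ideal.Quotient.mk J' (i (a s))
    rw [← AlgHom.comp_apply, hχ', hψ']
    show (Ideal.quotientMapₐ J' i Ideal.le_comap_map) (ψ s) = _
    rw [← ha]; rfl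
  have hdec : ∀ s, rA (g s) = a s + rA (g s - i (a s)) := fun s => by rw [map_sub, hi]; ring
  have hsq : ∀ x y : A, x ∈ J → y ∈ J → x * y = 0 := fun x y hx hy => by
    have := Ideal.mul_mem_mul hx hy
    rw [← pow_two, hJ] at this
    simpa using this
  have hsq' : ∀ x y : R' ⊗[R] A, x ∈ J' → y ∈ J' → x * y = 0 := fun x y hx hy => by
    have := Ideal.mul_mem_mul hx hy
    rw [← pow_two, hJ'] at this
    simpa using this
  have hmul : ∀ s t, rA (g (s * t)) = rA (g s) * rA (g t) := fun s t => by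
    have e : g (s * t) = g s * g t := by
      simp only [g]; rw [← map_mul, Algebra.TensorProduct.tmul_mul_tmul, mul_one]
    have e2 : g s * g t = i (a s) * i (a t) + i (a s) * (g t - i (a t)) + i (a t) * (g s - i (a s)) := by
      linear_combination hsq' _ _ (hg s) (hg t)
    rw [e, e2, map_add, map_add, hlin, hlin, hlin, hi, hdec s, hdec t]
    linear_combination -(hsq _ _ (hJmem _ (hg s)) (hJmem _ (hg t)))
  let l : S →ₗ[R] A := rA ∘ₗ (χ'.toLinearMap.restrictScalars R) ∘ₗ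
    (Algebra.TensorProduct.includeRight : S →ₐ[R] R' ⊗[R] S).toLinearMap
  have hl : ∀ s, l s = rA (g s) := fun _ => rfl
  refine ⟨AlgHom.ofLinearMap l ?_ (fun s t => by rw [hl, hl, hl, hmul]), ?_⟩
  · rw [hl]
    simp only [g]
    rw [← Algebra.TensorProduct.one_def, map_one, ← map_one i, hi]
  · refine AlgHom.ext fun s => ?_
    show Ideal.Quotient.mk J (l s) = ψ s
    rw [hl, ← ha s, Ideal.Quotient.eq, hdec, add_sub_cancel_left]
    exact hJmem _ (hg s)

end Groth.Agent.S2095
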