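import Groth.Statements.S2096
import Groth.Agent.H1CAlg.IndEtalePtColim
import Groth.Agent.H9Hens.PtFibre

set_option autoImplicit false
universe u
open CAlg

namespace Groth.Agent.S2096

open TensorProduct in
theorem isSeparable_of_rep {A B : Type u} [CommRing A] [CommRing B] [Algebra A B] {k : Type u} [CommRing k]
    [Algebra A k] {π : B →ₐ[A] k} (hH : Groth.Agent.H9Hens.IsPtColim π) {K L : Type u} [Field K] [Field L]
    [Algebra A K] [Algebra K L] [Algebra B L] [Algebra A L] [IsScalarTower A K L] [IsScalarTower A B L]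
    (hrep : ∀ y : L, ∃ a d : B, algebraMap B L a / algebraMap B L d = y) : Algebra.IsSeparable K L := by
  let ψ : K ⊗[A] B →ₐ[K] L := Algebra.TensorProduct.lift (Algebra.ofId _ _)
    (IsScalarTower.toAlgHom A B L) (fun _ _ => Commute.all _ _)
  have hb : ∀ b : B, algebraMap B L b ∈ separableClosure K L := fun b => by
    obtain ⟨S, _, _, _, φ, w, hw⟩ := hH.exists_rep_fibre K (1 ⊗ₜ[A] b)
    have h1 := Groth.Agent.H9Hens.isSeparable_algHom_etale K
      (ψ.comp (Algebra.TensorProduct.map (AlgHom.id K K) φ)) w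
    rw [AlgHom.comp_apply, hw] at h1
    rw [mem_separableClosure_iff]
    simpa [ψ] using h1
  refine ⟨fun y => ?_⟩
  obtain ⟨a, d, rfl⟩ := hrep y
  exact mem_separableClosure_iff.mp (div_mem (hb a) (hb d))

/-- Let `B` be a Noetherian ind-étale `A`-algebra (a filtered colimit of étale algebras) and `𝔭` a prime
of `A`. Then only finitely many primes of `B` lie over `𝔭`, the fibre ring `B ⊗ κ(𝔭)` is reduced of
dimension zero, and each residue field extension `κ(𝔮)/κ(𝔭)` is separable algebraic. -/
theorem result {A B : Type u} [CommRing A] [CommRing B] [Algebra A B] (hB : EtPBC.IsIndEtale A B)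
    [IsNoetherianRing B] (p : Ideal A) [p.IsPrime] :
    {q : PrimeSpectrum B | q.asIdeal.LiesOver p}.Finite ∧ IsReduced (p.Fiber B) ∧ ringKrullDim (p.Fiber B) ≤ 0 ∧
      ∀ (q : Ideal B) [q.IsPrime] [q.LiesOver p],
        @Algebra.IsSeparable p.ResidueField q.ResidueField _ _
          (Ideal.ResidueField.mapₐ p q (Algebra.ofId A B) (q.over_def p)).toRingHom.toAlgebra := by
  haveI : HenselianRing B (RingHom.ker (AlgHom.id A B)) := by
    have hk : RingHom.ker (AlgHom.id A B) = ⊥ := (RingHom.injective_iff_ker_eq_bot _).mp fun _ _ h => h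
    rw [hk]
    refine ⟨bot_le, fun f _ a₀ h1 _ => ⟨a₀, by simpa [Polynomial.IsRoot] using h1, by simp⟩⟩
  have hH := Groth.Agent.H1CAlg.IndEtale.isPtColim_of_isIndEtale hB (AlgHom.id A B) Function.surjective_id
  let F := TensorProduct A p.ResidueField B
  haveI : IsNoetherianRing (TensorProduct A B p.ResidueField) := Algebra.EssFiniteType.isNoetherianRing B _
  haveI : IsNoetherianRing F := isNoetherianRing_of_ringEquiv _ (Algebra.TensorProduct.comm A B p.ResidueField).toRingEquiv
  haveI := hH.krullDimLE_fibre p.ResidueField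
  haveI : IsArtinianRing F := isArtinianRing_iff_krullDimLE_zero.mpr inferInstance
  refine ⟨?_, hH.isReduced_fibre p.ResidueField, ?_, ?_⟩
  · haveI : Finite (PrimeSpectrum (p.Fiber B)) := inferInstanceAs (Finite (PrimeSpectrum F))
    have : Finite (p.primesOver B) := Finite.of_equiv _ (PrimeSpectrum.primesOverOrderIsoFiber A B p).symm.toEquiv
    refine Set.Finite.of_finite_image (f := PrimeSpectrum.asIdeal) ?_ (fun a _ b _ h => PrimeSpectrum.ext h)
    refine (Set.toFinite (p.primesOver B)).subset ?_
    rintro _ ⟨q, hq, rfl⟩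
    exact ⟨q.2, hq⟩
  · exact Ring.krullDimLE_iff.mp (inferInstanceAs (Ring.KrullDimLE 0 F))
  · intro q _ _
    letI := (Ideal.ResidueField.mapₐ p q (Algebra.ofId A B) (q.over_def p)).toRingHom.toAlgebra
    haveI : IsScalarTower A p.ResidueField q.ResidueField := IsScalarTower.of_algebraMap_eq fun a =>
      ((Ideal.ResidueField.mapₐ p q (Algebra.ofId A B) (q.over_def p)).commutes a).symm
    refine isSeparable_of_rep hH (K := p.ResidueField) (L := q.ResidueField) fun y => ?_
    obtain ⟨a, d, hd, rfl⟩ := IsFractionRing.div_surjective (A := B ⧸ q) y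
    obtain ⟨a, rfl⟩ := Ideal.Quotient.mk_surjective a
    obtain ⟨d, rfl⟩ := Ideal.Quotient.mk_surjective d
    exact ⟨a, d, rfl⟩

end Groth.Agent.S2096
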