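import Groth.Statements.S2097
import Mathlib.RingTheory.Noetherian.Nilpotent
-- import your own Groth.Agent.* helpers here

set_option autoImplicit false
universe u
open CAlg

namespace Groth.Agent.S2097

/-- Let `R → S` be smooth, `A` an `R`-algebra and `I ⊆ A` an ideal all of whose elements are nilpotent.
Every `R`-algebra map `S → A/I` lifts to an `R`-algebra map `S → A`. -/
theorem result {R S A : Type u} [CommRing R] [CommRing S] [Algebra R S] [Algebra.Smooth R S]
    [CommRing A] [Algebra R A] (I : Ideal A) (hI : ∀ x ∈ I, IsNilpotent x) (g : S →ₐ[R] A ⧸ I) :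
    ∃ f : S →ₐ[R] A, (Ideal.Quotient.mkₐ R I).comp f = g := by
  classical
  obtain ⟨n, π, hπ, G, hG⟩ := (inferInstance : Algebra.FinitePresentation R S)
  let P := MvPolynomial (Fin n) R
  have hlift : ∀ i, ∃ a : A, Ideal.Quotient.mk I a = g (π (MvPolynomial.X i)) := fun i => Ideal.Quotient.mk_surjective _
  choose a ha using hlift
  let h : P →ₐ[R] A := MvPolynomial.aeval a
  have hcomm : (Ideal.Quotient.mkₐ R I).comp h = g.comp π := MvPolynomial.algHom_ext fun i => by simp [h, ha]
  let I₀ : Ideal A := Ideal.span ((G : Set P).image h)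
  have hle : I₀ ≤ I := Ideal.span_le.mpr (by
    rintro _ ⟨p, hp, rfl⟩
    rw [SetLike.mem_coe, ← Ideal.Quotient.eq_zero_iff_mem]
    have h1 : π p = 0 := by
      have : p ∈ RingHom.ker π.toRingHom := hG ▸ Submodule.subset_span hp
      exact this
    have h2 := AlgHom.congr_fun hcomm p
    simpa [h1] using h2)
  have hnil : IsNilpotent I₀ := by
    exact (Ideal.FG.isNilpotent_iff_le_nilradical (Submodule.fg_span (G.finite_toSet.image h))).mpr fun x hx => hI x (hle hx)
  let h₀ : P →ₐ[R] A ⧸ I₀ := (Ideal.Quotient.mkₐ R I₀).comp h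
  have hker : RingHom.ker π.toRingHom ≤ RingHom.ker h₀.toRingHom := by
    rw [← hG]
    refine Submodule.span_le.mpr fun p hp => ?_
    exact Ideal.Quotient.eq_zero_iff_mem.mpr (Ideal.subset_span ⟨p, hp, rfl⟩)
  let g₀ : S →ₐ[R] A ⧸ I₀ := AlgHom.liftOfSurjective π hπ h₀ hker
  refine ⟨Algebra.FormallySmooth.lift I₀ hnil g₀, AlgHom.ext fun s => ?_⟩
  obtain ⟨p, rfl⟩ := hπ s
  have h1 := Algebra.FormallySmooth.mk_lift I₀ hnil g₀ (π p)
  have h2 : g₀ (π p) = Ideal.Quotient.mk I₀ (h p) := AlgHom.liftOfSurjective_apply π hπ h₀ hker p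
  rw [h2, Ideal.Quotient.eq] at h1
  rw [AlgHom.comp_apply, Ideal.Quotient.mkₐ_eq_mk, Ideal.Quotient.eq.mpr (hle h1)]
  exact AlgHom.congr_fun hcomm p

end Groth.Agent.S2097
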