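import Groth.Statements.S2098
import Mathlib.RingTheory.Filtration
import Mathlib.Algebra.Module.Projective
import Mathlib.LinearAlgebra.FreeModule.Finite.Matrix
import Mathlib.RingTheory.Finiteness.Cardinality
-- import your own Groth.Agent.* helpers here

set_option autoImplicit false
universe u
open CAlg

namespace Groth.Agent.S2098

/-- A map out of a finite free module with values in `J • N` lies in `J • Hom`. -/
theorem mem_smul_of_values {R N : Type u} [CommRing R] [AddCommGroup N] [Module R N] (J : Ideal R) {a : ℕ}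
    (φ : (Fin a → R) →ₗ[R] N) (h : ∀ x, φ x ∈ J • (⊤ : Submodule R N)) :
    φ ∈ J • (⊤ : Submodule R ((Fin a → R) →ₗ[R] N)) := by
  classical
  let g : Fin a → (N →ₗ[R] ((Fin a → R) →ₗ[R] N)) := fun i =>
    ((LinearMap.lsmul R N).comp (LinearMap.proj i : (Fin a → R) →ₗ[R] R)).flip
  have hφ : φ = ∑ i, g i (φ (Pi.single i 1)) := LinearMap.ext fun v => by
    simp only [g, LinearMap.sum_apply, LinearMap.flip_apply, LinearMap.comp_apply, LinearMap.lsmul_apply,
      LinearMap.proj_apply]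
    conv_lhs => rw [← Finset.univ_sum_single v, map_sum]
    exact Finset.sum_congr rfl fun i _ => by rw [← map_smul, ← Pi.single_smul, smul_eq_mul, mul_one]
  rw [hφ]
  refine Submodule.sum_mem _ fun i _ => ?_
  have := Submodule.mem_map_of_mem (f := g i) (h (Pi.single i 1))
  rw [Submodule.map_smul''] at this
  exact Submodule.smul_mono le_rfl le_top this

theorem values_of_mem_smul {R M N : Type u} [CommRing R] [AddCommGroup M] [Module R M] [AddCommGroup N] [Module R N]
    (J : Ideal R) {φ : M →ₗ[R] N} (h : φ ∈ J • (⊤ : Submodule R (M →ₗ[R] N))) (x : M) :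
    φ x ∈ J • (⊤ : Submodule R N) := by
  have := Submodule.mem_map_of_mem (f := (LinearMap.applyₗ (R := R) x : (M →ₗ[R] N) →ₗ[R] N)) h
  rw [Submodule.map_smul''] at this
  exact Submodule.smul_mono le_rfl le_top this

/-- Let `R` be Noetherian, `I` an ideal inside the Jacobson radical and `u : N → M` a map of finite
`R`-modules. If for arbitrarily large `n` the induced map `N/IⁿN → M/IⁿM` has a left inverse, then
`u` has a left inverse. -/
theorem result {R M N : Type u} [CommRing R] [IsNoetherianRing R] (I : Ideal R)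
    (hI : I ≤ (⊥ : Ideal R).jacobson) [AddCommGroup M] [Module R M] [Module.Finite R M] [AddCommGroup N] [Module R N]
    [Module.Finite R N] (u : N →ₗ[R] M)
    (h : ∀ n₀ : ℕ, ∃ n, n₀ ≤ n ∧ ∃ s : (M ⧸ (I ^ n) • (⊤ : Submodule R M)) →ₗ[R] (N ⧸ (I ^ n) • (⊤ : Submodule R N)),
      ∀ x : N, s (Submodule.Quotient.mk (u x)) = Submodule.Quotient.mk x) :
    ∃ s : M →ₗ[R] N, s.comp u = LinearMap.id := by
  classical
  obtain ⟨a, π, hπ⟩ := Module.Finite.exists_fin' R M
  obtain ⟨b, ψ, hψ⟩ := (Submodule.fg_iff_exists_fin_linearMap R _).mp (IsNoetherian.noetherian (LinearMap.ker π))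
  obtain ⟨e, ρ, hρ⟩ := Module.Finite.exists_fin' R N
  let D : ((Fin a → R) →ₗ[R] N) →ₗ[R] ((Fin b → R) →ₗ[R] N) := LinearMap.lcomp R N ψ
  let E : (N →ₗ[R] N) →ₗ[R] ((Fin e → R) →ₗ[R] N) := LinearMap.lcomp R N ρ
  let U : (M →ₗ[R] N) →ₗ[R] (N →ₗ[R] N) := LinearMap.lcomp R N u
  obtain ⟨k₁, hk₁⟩ := Ideal.exists_pow_inf_eq_pow_smul I (LinearMap.range D)
  obtain ⟨k₂, hk₂⟩ := Ideal.exists_pow_inf_eq_pow_smul I (LinearMap.range E)
  suffices (LinearMap.range U).mkQ LinearMap.id = 0 by
    obtain ⟨s, hs⟩ := (Submodule.Quotient.mk_eq_zero _).mp this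
    exact ⟨s, hs⟩
  rw [← Submodule.mem_bot R, ← Ideal.iInf_pow_smul_eq_bot_of_le_jacobson I hI, Submodule.mem_iInf]
  intro j
  obtain ⟨n, hn, s, hs⟩ := h (j + k₂ + k₁)
  -- lift `s` to the free cover
  let P := (I ^ n) • (⊤ : Submodule R N)
  obtain ⟨t, ht⟩ := Module.projective_lifting_property P.mkQ (s ∘ₗ Submodule.mkQ _ ∘ₗ π) (Submodule.mkQ_surjective P)
  have h1 : D t ∈ (I ^ n) • (⊤ : Submodule R ((Fin b → R) →ₗ[R] N)) := mem_smul_of_values _ _ fun x => by
    have h0 := LinearMap.congr_fun ht (ψ x)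
    have hx : π (ψ x) = 0 := by
      rw [← LinearMap.mem_ker, ← hψ]; exact LinearMap.mem_range_self ψ x
    rw [LinearMap.comp_apply, LinearMap.comp_apply, LinearMap.comp_apply, hx, map_zero, map_zero] at h0
    exact (Submodule.Quotient.mk_eq_zero _).mp h0
  have h2 : D t ∈ (I ^ (n - k₁)) • LinearMap.range D := by
    have := hk₁ n (by omega) ▸ Submodule.mem_inf.mpr ⟨h1, LinearMap.mem_range_self D t⟩
    exact Submodule.smul_mono le_rfl inf_le_right this
  rw [LinearMap.range_eq_map, ← Submodule.map_smul''] at h2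
  obtain ⟨t', ht', htt'⟩ := h2
  have hker : LinearMap.ker π ≤ LinearMap.ker (t - t') := by
    rw [← hψ]
    rintro _ ⟨x, rfl⟩
    rw [LinearMap.mem_ker, LinearMap.sub_apply]
    exact sub_eq_zero.mpr (LinearMap.congr_fun htt' x).symm
  let s' : M →ₗ[R] N := (LinearMap.ker π).liftQ (t - t') hker ∘ₗ (π.quotKerEquivOfSurjective hπ).symm.toLinearMap
  have hs' : ∀ v, s' (π v) = t v - t' v := fun v => by
    show (LinearMap.ker π).liftQ _ hker ((π.quotKerEquivOfSurjective hπ).symm (π v)) = _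
    rw [show π v = π.quotKerEquivOfSurjective hπ (Submodule.Quotient.mk v) from rfl, LinearEquiv.symm_apply_apply]
    rfl
  have hval : ∀ x, (s' (u x) - x) ∈ (I ^ (n - k₁)) • (⊤ : Submodule R N) := fun x => by
    obtain ⟨v, hv⟩ := hπ (u x)
    have h0 := LinearMap.congr_fun ht v
    rw [LinearMap.comp_apply, LinearMap.comp_apply, LinearMap.comp_apply, hv] at h0
    have h3 : P.mkQ (t v) = Submodule.Quotient.mk x := h0.trans (hs x)
    rw [← hv, hs', sub_sub, add_comm, ← sub_sub]
    exact sub_mem (Submodule.smul_mono (Ideal.pow_le_pow_right (Nat.sub_le _ _)) le_rfl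
      ((Submodule.Quotient.eq P).mp h3)) (values_of_mem_smul _ ht' v)
  have h4 : E (U s' - LinearMap.id) ∈ (I ^ (n - k₁)) • (⊤ : Submodule R ((Fin e → R) →ₗ[R] N)) :=
    mem_smul_of_values _ _ fun x => hval (ρ x)
  have h5 : E (U s' - LinearMap.id) ∈ (I ^ j) • LinearMap.range E := by
    have := hk₂ (n - k₁) (by omega) ▸ Submodule.mem_inf.mpr ⟨h4, LinearMap.mem_range_self E _⟩
    exact Submodule.smul_mono (Ideal.pow_le_pow_right (by omega)) inf_le_right this
  rw [LinearMap.range_eq_map, ← Submodule.map_smul''] at h5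
  obtain ⟨w, hw, hwE⟩ := h5
  have hwe : w = U s' - LinearMap.id := LinearMap.ext fun x => by
    obtain ⟨v, rfl⟩ := hρ x
    exact LinearMap.congr_fun hwE v
  have h6 := Submodule.mem_map_of_mem (f := (LinearMap.range U).mkQ) hw
  rw [Submodule.map_smul'', hwe, map_sub,
    show (LinearMap.range U).mkQ (U s') = 0 from (Submodule.Quotient.mk_eq_zero _).mpr (LinearMap.mem_range_self U s'),
    zero_sub, neg_mem_iff] at h6
  exact Submodule.smul_mono le_rfl le_top h6

end Groth.Agent.S2098
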