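import Groth.Statements.S2099
import Mathlib

set_option autoImplicit false
universe u
open CAlg

namespace Groth.Agent.S2099

/-- Compatibility of the projections. -/
theorem factor_evalₐ {T : Type*} [CommRing T] (J : Ideal T) {m n : ℕ} (h : m ≤ n) (w : AdicCompletion J T) :
    Ideal.Quotient.factor (Ideal.pow_le_pow_right h) (AdicCompletion.evalₐ J n w) = AdicCompletion.evalₐ J m w := by
  obtain ⟨x, rfl⟩ := AdicCompletion.mk_surjective J T w
  rw [AdicCompletion.evalₐ_mk, AdicCompletion.evalₐ_mk, Ideal.Quotient.factor_mk, Ideal.Quotient.eq]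
  have h2 := SModEq.sub_mem.1 (x.2 h).symm
  rwa [smul_eq_mul, Ideal.mul_top] at h2

/-- Let `R → S` be smooth with an `R`-algebra retraction `σ : S → R` and `I = ker σ`. If `I/I²` is free
of rank `d` over `R`, then the `I`-adic completion of `S` is isomorphic as an `R`-algebra to the
power series ring in `d` variables over `R`. -/
theorem result {R S : Type u} [CommRing R] [CommRing S] [Algebra R S]
    [Algebra.Smooth R S] (σ : S →ₐ[R] R) (d : ℕ)
    (e : (RingHom.ker σ.toRingHom).Cotangent ≃ₗ[R] (Fin d → R)) :
    Nonempty (AdicCompletion (RingHom.ker σ.toRingHom) S ≃ₐ[R] MvPowerSeries (Fin d) R) := by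
  classical
  let P := MvPolynomial (Fin d) R
  let M : Ideal P := MvPolynomial.idealOfVars (Fin d) R
  let I : Ideal S := RingHom.ker σ.toRingHom
  let aS : R → S := algebraMap R S
  have hsub : ∀ s : S, s - algebraMap R S (σ s) ∈ I := fun s => by
    rw [RingHom.mem_ker]; simp
  have hX : ∀ i, (MvPolynomial.X i : P) ∈ M := fun i => Ideal.subset_span ⟨i, rfl⟩
  choose t ht using fun i : Fin d => I.toCotangent_surjective (e.symm (Pi.single i 1))
  let φ : P →ₐ[R] S := MvPolynomial.aeval fun i => (t i : S)
  have hφM : ∀ n, (M ^ n).map φ ≤ I ^ n := fun n => by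
    rw [Ideal.map_pow]
    refine Ideal.pow_right_mono (Ideal.map_le_iff_le_comap.2 (Ideal.span_le.2 ?_)) n
    rintro _ ⟨i, rfl⟩
    show φ (MvPolynomial.X i) ∈ I
    rw [show φ (MvPolynomial.X i) = (t i : S) from MvPolynomial.aeval_X _ i]
    exact (t i).2
  -- first order
  let coord : S →ₗ[R] (Fin d → R) :=
    { toFun := fun s => e (I.toCotangent ⟨s - algebraMap R S (σ s), hsub s⟩)
      map_add' := fun s u => by
        rw [← map_add e, ← map_add I.toCotangent]
        congr 2
        ext1
        show s + u - algebraMap R S (σ (s + u)) = s - algebraMap R S (σ s) + (u - algebraMap R S (σ u))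
        rw [map_add, map_add]; ring
      map_smul' := fun r s => by
        rw [RingHom.id_apply, ← map_smul e, ← LinearMap.map_smul_of_tower I.toCotangent]
        congr 2
        ext1
        show r • s - algebraMap R S (σ (r • s)) = r • (s - algebraMap R S (σ s))
        rw [map_smul, smul_eq_mul, map_mul, smul_sub, Algebra.smul_def, Algebra.smul_def] }
  have hcoord_mul : ∀ s u, coord (s * u) = σ s • coord u + σ u • coord s := fun s u => by
    show e _ = σ s • e _ + σ u • e _
    rw [← map_smul e, ← map_smul e, ← map_add e, ← LinearMap.map_smul_of_tower I.toCotangent,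
      ← LinearMap.map_smul_of_tower I.toCotangent, ← map_add I.toCotangent]
    congr 1
    rw [Ideal.toCotangent_eq]
    show s * u - algebraMap R S (σ (s * u)) - (σ s • (u - algebraMap R S (σ u)) + σ u • (s - algebraMap R S (σ s))) ∈ I ^ 2
    rw [map_mul, map_mul, Algebra.smul_def, Algebra.smul_def, pow_two,
      show s * u - algebraMap R S (σ s) * algebraMap R S (σ u) - (algebraMap R S (σ s) * (u - algebraMap R S (σ u)) +
        algebraMap R S (σ u) * (s - algebraMap R S (σ s))) = (s - algebraMap R S (σ s)) * (u - algebraMap R S (σ u)) by ring]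
    exact Ideal.mul_mem_mul (hsub s) (hsub u)
  let lin : (Fin d → R) →ₗ[R] P := Fintype.linearCombination R fun i => (MvPolynomial.X i : P)
  have hlin : ∀ v, lin v ∈ M := fun v => by
    show ∑ i, v i • (MvPolynomial.X i : P) ∈ M
    exact sum_mem fun i _ => Submodule.smul_of_tower_mem M _ (hX i)
  let f2 : S →ₗ[R] P ⧸ M ^ 2 := (Ideal.Quotient.mkₐ R (M ^ 2)).toLinearMap.comp
    ((Algebra.linearMap R P).comp σ.toLinearMap + lin.comp coord)
  let ψ₂ : S →ₐ[R] P ⧸ M ^ 2 := AlgHom.ofLinearMap f2 (by
      show Ideal.Quotient.mk _ (algebraMap R P (σ 1) + lin (coord 1)) = 1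
      have h1 : coord 1 = 0 := by
        have := hcoord_mul 1 1
        rw [mul_one, show σ (1 : S) = 1 from map_one σ, one_smul] at this
        exact left_eq_add.mp this
      rw [map_one, map_one, h1, map_zero, add_zero, map_one]) fun s u => by
      show Ideal.Quotient.mk _ (algebraMap R P (σ (s * u)) + lin (coord (s * u))) =
        Ideal.Quotient.mk _ (algebraMap R P (σ s) + lin (coord s)) * Ideal.Quotient.mk _ (algebraMap R P (σ u) + lin (coord u))
      rw [← map_mul, Ideal.Quotient.eq, hcoord_mul, map_mul, map_mul, map_add, map_smul, map_smul, Algebra.smul_def, Algebra.smul_def,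
        show algebraMap R P (σ s) * algebraMap R P (σ u) + (algebraMap R P (σ s) * lin (coord u) + algebraMap R P (σ u) * lin (coord s)) -
          (algebraMap R P (σ s) + lin (coord s)) * (algebraMap R P (σ u) + lin (coord u)) = -(lin (coord s) * lin (coord u)) by ring,
        pow_two]
      exact neg_mem (Ideal.mul_mem_mul (hlin _) (hlin _))
  have hψ₂ : ∀ s, ψ₂ s = Ideal.Quotient.mk _ (algebraMap R P (σ s) + lin (coord s)) := fun s => rfl
  -- higher order lifts
  have hlift : ∀ n, 2 ≤ n → ∃ ψ : S →ₐ[R] P ⧸ M ^ n, ∀ s p, ψ s = Ideal.Quotient.mk _ p → Ideal.Quotient.mk (M ^ 2) p = ψ₂ s := by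
    intro n hn
    induction n, hn using Nat.le_induction with
    | base => exact ⟨ψ₂, fun s p h => h.symm⟩
    | succ n hn ih =>
      obtain ⟨ψ, hψ⟩ := ih
      let q : P ⧸ M ^ (n + 1) →ₐ[R] P ⧸ M ^ n := Ideal.Quotient.factorₐ R (Ideal.pow_le_pow_right n.le_succ)
      have hq : Function.Surjective q := fun z => by
        obtain ⟨z, rfl⟩ := Ideal.Quotient.mk_surjective z
        exact ⟨Ideal.Quotient.mk _ z, rfl⟩
      have hk : IsNilpotent (RingHom.ker (q : P ⧸ M ^ (n + 1) →+* P ⧸ M ^ n)) := by
        refine ⟨2, le_bot_iff.1 ?_⟩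
        have hle : RingHom.ker (q : P ⧸ M ^ (n + 1) →+* P ⧸ M ^ n) ≤ (M ^ n).map (Ideal.Quotient.mk (M ^ (n + 1))) := fun z hz => by
          obtain ⟨z, rfl⟩ := Ideal.Quotient.mk_surjective z
          exact Ideal.mem_map_of_mem _ (Ideal.Quotient.eq_zero_iff_mem.1 hz)
        refine (Ideal.pow_right_mono hle 2).trans ?_
        rw [← Ideal.map_pow, ← pow_mul]
        refine (Ideal.map_mono (Ideal.pow_le_pow_right (show n + 1 ≤ n * 2 by omega))).trans ?_
        rw [Ideal.map_quotient_self]
      refine ⟨Algebra.FormallySmooth.liftOfSurjective ψ q hq hk, fun s p h => hψ s p ?_⟩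
      have h1 : q (Algebra.FormallySmooth.liftOfSurjective ψ q hq hk s) = ψ s :=
        Algebra.FormallySmooth.liftOfSurjective_apply ψ q hq hk s
      rw [← h1, h]
      rfl
  -- the comparison at finite level
  have hbij : ∀ n, (∀ s : S, ∃ p : P, φ p - s ∈ I ^ n) ∧ ∀ p : P, φ p ∈ I ^ n → p ∈ M ^ n := by
    intro n
    have hI : I ≤ M.map φ ⊔ I ^ 2 := fun s hs => by
      have h0 : σ s = 0 := hs
      have hc : I.toCotangent ⟨s, hs⟩ = ∑ i, coord s i • I.toCotangent (t i) := by
        refine e.injective ?_
        rw [map_sum]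
        simp only [map_smul, ht, LinearEquiv.apply_symm_apply]
        have h3 : coord s = e (I.toCotangent ⟨s, hs⟩) := by
          show e _ = _
          congr 2
          exact Subtype.ext (by show s - algebraMap R S (σ s) = s; rw [h0, map_zero, sub_zero])
        rw [← h3]
        exact pi_eq_sum_univ' (coord s)
      have h4 : s - ∑ i, coord s i • (t i : S) ∈ I ^ 2 := by
        have h5 : I.toCotangent ⟨s, hs⟩ = I.toCotangent (∑ i, coord s i • t i) := by
          rw [hc, map_sum]
          exact Finset.sum_congr rfl fun i _ => (LinearMap.map_smul_of_tower I.toCotangent _ _).symm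
        have h6 := (Ideal.toCotangent_eq I).1 h5
        simpa using h6
      rw [show s = ∑ i, coord s i • (t i : S) + (s - ∑ i, coord s i • (t i : S)) by ring]
      refine Submodule.add_mem_sup (sum_mem fun i _ => Submodule.smul_of_tower_mem _ _ ?_) h4
      exact MvPolynomial.aeval_X (R := R) (fun i => (t i : S)) i ▸ Ideal.mem_map_of_mem φ (hX i)
    have hstep : ∀ j, ∀ z ∈ I ^ j, ∃ p ∈ M ^ j, φ p - z ∈ I ^ (j + 1) := by
      intro j
      induction j with
      | zero =>
        intro z _
        refine ⟨algebraMap R P (σ z), by rw [pow_zero, Ideal.one_eq_top]; trivial, ?_⟩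
        rw [AlgHom.commutes, zero_add, pow_one, ← neg_sub]
        exact neg_mem (hsub z)
      | succ j ih =>
        intro z hz
        rw [pow_succ] at hz
        refine Submodule.smul_induction_on hz (fun a ha b hb => ?_) fun u v ⟨p, hp, hp'⟩ ⟨q, hq, hq'⟩ =>
          ⟨p + q, add_mem hp hq, by rw [map_add, add_sub_add_comm]; exact add_mem hp' hq'⟩
        obtain ⟨p, hp, hp'⟩ := ih a ha
        obtain ⟨w, hw, w', hw', hww⟩ := Submodule.mem_sup.1 (hI hb)
        have key : ∀ w ∈ M.map φ, ∃ q ∈ M, φ q - w ∈ I ^ 2 := by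
          intro w hw
          induction hw using Submodule.span_induction with
          | mem w hw => obtain ⟨q, hq, rfl⟩ := hw; exact ⟨q, hq, by rw [sub_self]; exact zero_mem _⟩
          | zero => exact ⟨0, zero_mem _, by rw [map_zero, sub_self]; exact zero_mem _⟩
          | add u v _ _ hu hv =>
            obtain ⟨p, hp, hp'⟩ := hu; obtain ⟨q, hq, hq'⟩ := hv
            exact ⟨p + q, add_mem hp hq, by rw [map_add, add_sub_add_comm]; exact add_mem hp' hq'⟩
          | smul c v _ hv =>
            obtain ⟨q, hq, hq'⟩ := hv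
            refine ⟨algebraMap R P (σ c) * q, Ideal.mul_mem_left M _ hq, ?_⟩
            rw [map_mul, AlgHom.commutes, smul_eq_mul,
              show algebraMap R S (σ c) * φ q - c * v = -((c - algebraMap R S (σ c)) * φ q) + c * (φ q - v) by ring]
            refine add_mem (neg_mem ?_) (Ideal.mul_mem_left _ c hq')
            rw [pow_two]
            refine Ideal.mul_mem_mul (hsub c) ?_
            have := hφM 1 (Ideal.mem_map_of_mem φ (show q ∈ M ^ 1 by rwa [pow_one]))
            rwa [pow_one] at this
        obtain ⟨q, hq, hq'⟩ := key w hw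
        have hφp : φ p ∈ I ^ j := hφM j (Ideal.mem_map_of_mem φ hp)
        refine ⟨p * q, by rw [pow_succ]; exact Ideal.mul_mem_mul hp hq, ?_⟩
        rw [smul_eq_mul, map_mul, show φ p * φ q - a * b = (φ p - a) * b + φ p * (φ q - w - w') by rw [← hww]; ring]
        refine add_mem ?_ ?_
        · rw [pow_succ]; exact Ideal.mul_mem_mul hp' hb
        · rw [show j + 1 + 1 = j + 2 from rfl, pow_add]; exact Ideal.mul_mem_mul hφp (sub_mem hq' hw')
    refine ⟨fun s => ?_, ?_⟩
    · induction n with
      | zero => exact ⟨0, by rw [pow_zero, Ideal.one_eq_top]; trivial⟩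
      | succ n ih =>
        obtain ⟨p, hp⟩ := ih
        obtain ⟨q, -, hq⟩ := hstep n _ hp
        refine ⟨p - q, ?_⟩
        rw [map_sub, show φ p - φ q - s = -(φ q - (φ p - s)) by ring]
        exact neg_mem hq
    -- injectivity
    intro p hp
    rcases Nat.lt_or_ge n 2 with hn | hn
    · interval_cases n
      · rw [pow_zero, Ideal.one_eq_top]; trivial
      · rw [pow_one] at hp ⊢
        have h0 : σ (φ p) = 0 := hp
        have h1 : p - MvPolynomial.C (MvPolynomial.constantCoeff p) ∈ M := by
          have := (MvPolynomial.mem_pow_idealOfVars_iff' 1 (p - MvPolynomial.C (MvPolynomial.constantCoeff p))).2 fun x hx => by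
            rw [Nat.lt_one_iff, Finsupp.degree_eq_zero_iff] at hx
            subst hx
            rw [MvPolynomial.constantCoeff_eq, MvPolynomial.coeff_sub, MvPolynomial.coeff_C, if_pos rfl, sub_self]
          rwa [pow_one] at this
        have h2 := hφM 1 (Ideal.mem_map_of_mem φ (show p - MvPolynomial.C (MvPolynomial.constantCoeff p) ∈ M ^ 1 by rwa [pow_one]))
        rw [pow_one] at h2
        have h3 : σ (φ (p - MvPolynomial.C (MvPolynomial.constantCoeff p))) = 0 := h2
        rw [map_sub, map_sub, h0, ← MvPolynomial.algebraMap_eq, AlgHom.commutes, AlgHom.commutes, zero_sub, neg_eq_zero,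
          Algebra.algebraMap_self_apply] at h3
        rwa [h3, map_zero, sub_zero] at h1
    obtain ⟨ψ, hψ⟩ := hlift n hn
    let θ : P →ₐ[R] P ⧸ M ^ n := ψ.comp φ
    choose g hg using fun i => Ideal.Quotient.mk_surjective (θ (MvPolynomial.X i))
    have hg2 : ∀ i, g i - MvPolynomial.X i ∈ M ^ 2 := fun i => by
      have h1 := hψ (φ (MvPolynomial.X i)) (g i) (hg i).symm
      rw [hψ₂, Ideal.Quotient.eq] at h1
      have hti : φ (MvPolynomial.X i) = (t i : S) := MvPolynomial.aeval_X _ i
      have hc : coord (t i : S) = Pi.single i 1 := by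
        show e _ = _
        rw [show (⟨(t i : S) - algebraMap R S (σ (t i : S)), hsub _⟩ : I) = t i from
          Subtype.ext (by show (t i : S) - _ = _; rw [show σ (t i : S) = 0 from (t i).2, map_zero, sub_zero]),
          ht, LinearEquiv.apply_symm_apply]
      rw [hti, hc, show σ (t i : S) = 0 from (t i).2, map_zero, zero_add] at h1
      simpa [lin, Fintype.linearCombination_apply_single] using h1
    let θ' : P →ₐ[R] P := MvPolynomial.aeval g
    have hθ' : ∀ f, θ f = Ideal.Quotient.mk _ (θ' f) := fun f => by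
      have : θ = (Ideal.Quotient.mkₐ R (M ^ n)).comp θ' := by
        refine MvPolynomial.algHom_ext fun i => ?_
        show θ (MvPolynomial.X i) = Ideal.Quotient.mk _ (θ' (MvPolynomial.X i))
        rw [show θ' (MvPolynomial.X i) = g i from MvPolynomial.aeval_X g i]
        exact (hg i).symm
      rw [this]; rfl
    have hgM : ∀ i, g i ∈ M := fun i => by
      have := add_mem (Ideal.pow_le_self two_ne_zero (hg2 i)) (hX i)
      rwa [sub_add_cancel] at this
    have hθM : M.map θ' ≤ M := Ideal.map_le_iff_le_comap.2 (Ideal.span_le.2 fun z ⟨i, hi⟩ => by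
      show θ' z ∈ M
      rw [← hi, show θ' (MvPolynomial.X i) = g i from MvPolynomial.aeval_X g i]; exact hgM i)
    have hdiff : ∀ j, ∀ f ∈ M ^ j, θ' f - f ∈ M ^ (j + 1) := by
      intro j
      induction j with
      | zero =>
        intro f hf
        clear hf
        rw [zero_add, pow_one]
        induction f using MvPolynomial.induction_on with
        | C r => rw [show θ' (MvPolynomial.C r) = MvPolynomial.C r from MvPolynomial.aeval_C g r, sub_self]; exact zero_mem _
        | add u v hu hv => rw [map_add, add_sub_add_comm]; exact add_mem hu hv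
        | mul_X u i hu =>
          rw [map_mul, show θ' (MvPolynomial.X i) = g i from MvPolynomial.aeval_X g i]
          exact sub_mem (Ideal.mul_mem_left M _ (hgM i)) (Ideal.mul_mem_left M _ (hX i))
      | succ j ih =>
        intro f hf
        rw [pow_succ] at hf
        refine Submodule.smul_induction_on hf (fun a ha b hb => ?_) fun u v hu hv => by
          rw [map_add, add_sub_add_comm]; exact add_mem hu hv
        have hb2 : θ' b - b ∈ M ^ 2 := by
          induction hb using Submodule.span_induction with
          | mem b hb =>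
            obtain ⟨i, rfl⟩ := hb
            rw [show θ' (MvPolynomial.X i) = g i from MvPolynomial.aeval_X g i]; exact hg2 i
          | zero => rw [map_zero, sub_zero]; exact zero_mem _
          | add u v _ _ hu hv => rw [map_add, add_sub_add_comm]; exact add_mem hu hv
          | smul c v hv' hv =>
            rw [smul_eq_mul, map_mul, show θ' c * θ' v - c * v = (θ' c - c) * θ' v + c * (θ' v - v) by ring]
            refine add_mem ?_ (Ideal.mul_mem_left _ c hv)
            rw [pow_two]
            refine Ideal.mul_mem_mul ?_ (hθM (Ideal.mem_map_of_mem θ' hv'))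
            have h0 : θ' c - c ∈ M := by
              clear hv hv'
              induction c using MvPolynomial.induction_on with
              | C r => rw [show θ' (MvPolynomial.C r) = MvPolynomial.C r from MvPolynomial.aeval_C g r, sub_self]; exact zero_mem _
              | add u v hu hv => rw [map_add, add_sub_add_comm]; exact add_mem hu hv
              | mul_X u i hu =>
                rw [map_mul, show θ' (MvPolynomial.X i) = g i from MvPolynomial.aeval_X g i]
                exact sub_mem (Ideal.mul_mem_left M _ (hgM i)) (Ideal.mul_mem_left M _ (hX i))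
            exact h0
        rw [smul_eq_mul, map_mul, show θ' a * θ' b - a * b = (θ' a - a) * θ' b + a * (θ' b - b) by ring]
        refine add_mem ?_ ?_
        · rw [pow_succ]; exact Ideal.mul_mem_mul (ih a ha) (hθM (Ideal.mem_map_of_mem θ' hb))
        · rw [show j + 1 + 1 = j + 2 from rfl, pow_add]; exact Ideal.mul_mem_mul ha hb2
    have hψI : ∀ s ∈ I ^ n, ψ s = 0 := fun s hs => by
      have hI1 : I.map ψ ≤ M.map (Ideal.Quotient.mk (M ^ n)) := by
        rw [Ideal.map_le_iff_le_comap]
        intro z hz
        obtain ⟨w, hw⟩ := Ideal.Quotient.mk_surjective (ψ z)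
        have h1 := hψ z w hw.symm
        rw [hψ₂, Ideal.Quotient.eq, show σ z = 0 from hz, map_zero, zero_add] at h1
        have hwM : w ∈ M := by
          have := add_mem (Ideal.pow_le_self two_ne_zero h1) (hlin (coord z))
          rwa [sub_add_cancel] at this
        show ψ z ∈ M.map (Ideal.Quotient.mk (M ^ n))
        exact hw ▸ Ideal.mem_map_of_mem _ hwM
      have h2 : ψ s ∈ (M.map (Ideal.Quotient.mk (M ^ n))) ^ n := by
        refine (Ideal.pow_right_mono hI1 n) ?_
        rw [← Ideal.map_pow]
        exact Ideal.mem_map_of_mem ψ hs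
      rw [← Ideal.map_pow, Ideal.map_quotient_self] at h2
      exact h2
    have hθp : θ' p ∈ M ^ n := by
      rw [← Ideal.Quotient.eq_zero_iff_mem, ← hθ']
      exact hψI _ hp
    suffices h : ∀ j ≤ n, p ∈ M ^ j from h n le_rfl
    intro j
    induction j with
    | zero => intro _; rw [pow_zero, Ideal.one_eq_top]; trivial
    | succ j ih =>
      intro hj
      have h1 := sub_mem (Ideal.pow_le_pow_right hj hθp) (hdiff j p (ih (Nat.le_of_succ_le hj)))
      rwa [sub_sub_cancel] at h1
  -- the completions
  let φn : ∀ n, (P ⧸ M ^ n) →ₐ[R] S ⧸ I ^ n := fun n =>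
    Ideal.quotientMapₐ (I ^ n) φ (Ideal.map_le_iff_le_comap.1 (hφM n))
  have hφn : ∀ n, Function.Bijective (φn n) := fun n => by
    refine ⟨?_, fun z => ?_⟩
    · rw [injective_iff_map_eq_zero]
      intro z hz
      obtain ⟨z, rfl⟩ := Ideal.Quotient.mk_surjective z
      exact Ideal.Quotient.eq_zero_iff_mem.2 ((hbij n).2 z (Ideal.Quotient.eq_zero_iff_mem.1 hz))
    · obtain ⟨z, rfl⟩ := Ideal.Quotient.mk_surjective z
      obtain ⟨p, hp⟩ := (hbij n).1 z
      exact ⟨Ideal.Quotient.mk _ p, Ideal.Quotient.eq.2 hp⟩
  let en : ∀ n, (P ⧸ M ^ n) ≃ₐ[R] S ⧸ I ^ n := fun n => AlgEquiv.ofBijective (φn n) (hφn n)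
  have hsym : ∀ n z, en n ((en n).symm z) = z := fun n z => (en n).apply_symm_apply z
  have hcomm : ∀ {m n : ℕ} (h : m ≤ n) (z : P ⧸ M ^ n),
      Ideal.Quotient.factorₐ R (Ideal.pow_le_pow_right h) (en n z) = en m (Ideal.Quotient.factorₐ R (Ideal.pow_le_pow_right h) z) := by
    intro m n h z
    obtain ⟨z, rfl⟩ := Ideal.Quotient.mk_surjective z
    rfl
  have hPev : ∀ {m n : ℕ} (h : m ≤ n) (w : AdicCompletion M P),
      Ideal.Quotient.factorₐ R (Ideal.pow_le_pow_right h) (AdicCompletion.evalₐ M n w) = AdicCompletion.evalₐ M m w :=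
    fun {m n} h w => factor_evalₐ M h w
  have hSev : ∀ {m n : ℕ} (h : m ≤ n) (w : AdicCompletion I S),
      Ideal.Quotient.factorₐ R (Ideal.pow_le_pow_right h) (AdicCompletion.evalₐ I n w) = AdicCompletion.evalₐ I m w :=
    fun {m n} h w => factor_evalₐ I h w
  let F : AdicCompletion M P →ₐ[R] AdicCompletion I S := AdicCompletion.liftAlgHom I
    (fun n => ((en n : P ⧸ M ^ n →ₐ[R] S ⧸ I ^ n)).comp ((AdicCompletion.evalₐ M n).restrictScalars R)) (fun {m n} h => by
      exact AlgHom.ext fun w => (hcomm h (AdicCompletion.evalₐ M n w)).trans (congrArg (en m) (hPev h w)))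
  let G : AdicCompletion I S →ₐ[R] AdicCompletion M P := AdicCompletion.liftAlgHom M
    (fun n => (((en n).symm : S ⧸ I ^ n →ₐ[R] P ⧸ M ^ n)).comp ((AdicCompletion.evalₐ I n).restrictScalars R)) (fun {m n} h => by
      exact AlgHom.ext fun w => (en m).injective (((hcomm h _).symm.trans
        (congrArg _ (hsym n (AdicCompletion.evalₐ I n w)))).trans ((hSev h w).trans (hsym m _).symm)))
  let E : AdicCompletion I S ≃ₐ[R] AdicCompletion M P := AlgEquiv.ofAlgHom G F
    (AlgHom.ext fun w => AdicCompletion.ext_evalₐ fun n => by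
      show AdicCompletion.evalₐ M n (G (F w)) = AdicCompletion.evalₐ M n w
      rw [AdicCompletion.evalₐ_liftAlgHom]
      show (en n).symm (AdicCompletion.evalₐ I n (F w)) = _
      rw [AdicCompletion.evalₐ_liftAlgHom]
      exact (en n).symm_apply_apply _)
    (AlgHom.ext fun w => AdicCompletion.ext_evalₐ fun n => by
      show AdicCompletion.evalₐ I n (F (G w)) = AdicCompletion.evalₐ I n w
      rw [AdicCompletion.evalₐ_liftAlgHom]
      show en n (AdicCompletion.evalₐ M n (G w)) = _
      rw [AdicCompletion.evalₐ_liftAlgHom]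
      exact (en n).apply_symm_apply _)
  exact ⟨E.trans ((MvPowerSeries.toAdicCompletionAlgEquiv (Fin d) R).restrictScalars R).symm⟩

end Groth.Agent.S2099
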