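import Groth.Statements.S2100
import Groth.Agent.H1CAlg.RefinedNormalization
import Mathlib.RingTheory.AlgebraicIndependent.TranscendenceBasis
import Mathlib.RingTheory.Algebraic.Integral
import Mathlib.RingTheory.LocalRing.ResidueField.Ideal

set_option autoImplicit false
universe u
open CAlg

namespace Groth.Agent.S2100

/-- Let `k` be a field, `𝔮` a prime of `k[x_1, …, x_n]` and `r` the transcendence degree of `κ(𝔮)` over
`k`. Then there is a finite `k`-algebra map `φ : k[y_1, …, y_n] → k[x_1, …, x_n]` with `φ⁻¹(𝔮) =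
(y_{r+1}, …, y_n)`. -/
theorem result {k : Type u} [Field k] (n r : ℕ) (q : Ideal (MvPolynomial (Fin n) k))
    [q.IsPrime] (hr : Algebra.trdeg k q.ResidueField = r) :
    ∃ φ : MvPolynomial (Fin n) k →ₐ[k] MvPolynomial (Fin n) k, φ.toRingHom.Finite ∧
      q.comap φ = Ideal.span (Set.range fun i : {i : Fin n // r ≤ (i : ℕ)} => MvPolynomial.X (i : Fin n)) := by

  classical
  obtain ⟨r', hr', φ, hφ, hmem, hinj⟩ := Groth.Agent.H1CAlg.exists_integral_endo_of_prime n q inferInstance
  let ρ : MvPolynomial (Fin n) k →ₐ[k] MvPolynomial (Fin r') k :=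
    MvPolynomial.aeval fun i => if hi : (i : ℕ) < r' then MvPolynomial.X ⟨i, hi⟩ else 0
  let κ := q.ResidueField
  let mk : MvPolynomial (Fin n) k →ₐ[k] κ := IsScalarTower.toAlgHom k (MvPolynomial (Fin n) k) κ
  have hmkq : ∀ a, mk a = 0 ↔ a ∈ q := fun a => by
    show algebraMap (MvPolynomial (Fin n) k) κ a = 0 ↔ _
    exact Ideal.algebraMap_residueField_eq_zero
  let ι : MvPolynomial (Fin r') k →ₐ[k] MvPolynomial (Fin n) k := MvPolynomial.rename (Fin.castLE hr')
  let S0 : Ideal (MvPolynomial (Fin n) k) :=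
    Ideal.span (Set.range fun i : {i : Fin n // r' ≤ (i : ℕ)} => MvPolynomial.X (i : Fin n))
  have hρ : ∀ a, a - ι (ρ a) ∈ S0 := by
    intro a
    have h2 : (Ideal.Quotient.mkₐ k S0).comp (ι.comp ρ) = Ideal.Quotient.mkₐ k S0 := by
      refine MvPolynomial.algHom_ext fun i => ?_
      by_cases hi : (i : ℕ) < r'
      · simp [ρ, ι, hi]
      · simp only [AlgHom.comp_apply, ρ, ι, MvPolynomial.aeval_X, dif_neg hi, map_zero]
        exact (Ideal.Quotient.eq_zero_iff_mem.mpr (Ideal.subset_span (Set.mem_range_self (f := fun j : {j : Fin n // r' ≤ (j : ℕ)} => MvPolynomial.X (j : Fin n)) ⟨i, not_lt.mp hi⟩))).symm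
    exact Ideal.Quotient.eq.mp (AlgHom.congr_fun h2 a).symm
  have hS0 : S0 ≤ q.comap φ := Ideal.span_le.mpr (by rintro _ ⟨⟨i, hi⟩, rfl⟩; exact hmem i hi)
  -- the first coordinates give a transcendence basis
  let y : Fin r' → κ := fun i => mk (φ (MvPolynomial.X (Fin.castLE hr' i)))
  have hy : MvPolynomial.aeval y = (mk.comp φ).comp ι := MvPolynomial.algHom_ext fun i => by simp [y, ι]
  have hind : AlgebraicIndependent k y := by
    rw [algebraicIndependent_iff_injective_aeval, hy]
    intro a b hab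
    apply hinj
    simp only [AlgHom.comp_apply, Ideal.Quotient.mkₐ_eq_mk, Ideal.Quotient.eq] at hab ⊢
    rw [← hmkq, map_sub, sub_eq_zero]
    exact hab
  have hrange : ∀ a, mk (φ a) ∈ Algebra.adjoin k (Set.range y) := by
    intro a
    rw [Algebra.adjoin_range_eq_range_aeval, hy]
    refine ⟨ρ a, ?_⟩
    show mk (φ (ι (ρ a))) = mk (φ a)
    rw [eq_comm, ← sub_eq_zero, ← map_sub, ← map_sub, hmkq]
    exact hS0 (hρ a)
  have hint : ∀ x : MvPolynomial (Fin n) k, IsIntegral (Algebra.adjoin k (Set.range y)) (mk x) := by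
    intro x
    obtain ⟨p, hp, hpe⟩ := hφ x
    refine ⟨p.map ((mk.comp φ).toRingHom.codRestrict (Algebra.adjoin k (Set.range y)) hrange), hp.map _, ?_⟩
    rw [Polynomial.eval₂_map]
    show Polynomial.eval₂ (mk.toRingHom.comp φ.toRingHom) (mk.toRingHom x) p = 0
    rw [← Polynomial.hom_eval₂, hpe, map_zero]
  haveI : Algebra.IsAlgebraic (Algebra.adjoin k (Set.range y)) κ := ⟨fun z => by
    obtain ⟨a, b, -, rfl⟩ := IsFractionRing.div_surjective (A := MvPolynomial (Fin n) k ⧸ q) z
    obtain ⟨a, rfl⟩ := Ideal.Quotient.mk_surjective a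
    obtain ⟨b, rfl⟩ := Ideal.Quotient.mk_surjective b
    rw [← Ideal.Quotient.algebraMap_eq, ← IsScalarTower.algebraMap_apply, ← IsScalarTower.algebraMap_apply, div_eq_mul_inv]
    exact (hint a).isAlgebraic.mul (IsAlgebraic.inv_iff.mpr (hint b).isAlgebraic)⟩
  have htb : IsTranscendenceBasis k y := hind.isTranscendenceBasis_iff_isAlgebraic.mpr inferInstance
  have hcard := htb.lift_cardinalMk_eq_trdeg
  rw [Cardinal.mk_fin, hr, Cardinal.lift_natCast, Cardinal.lift_natCast, Nat.cast_inj] at hcard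
  subst hcard
  refine ⟨φ, ?_, le_antisymm (fun a ha => ?_) hS0⟩
  · refine hφ.to_finite ?_
    refine RingHom.FiniteType.of_comp_finiteType (f := algebraMap k (MvPolynomial (Fin n) k)) ?_
    rw [show φ.toRingHom.comp (algebraMap k (MvPolynomial (Fin n) k)) = algebraMap k _ from φ.comp_algebraMap]
    exact RingHom.finiteType_algebraMap.mpr inferInstance
  · have h1 : ι (ρ a) ∈ q.comap φ := by
      have := Ideal.sub_mem _ ha (hS0 (hρ a))
      rwa [sub_sub_cancel] at this
    have h2 : ρ a = 0 := by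
      apply hind.eq_zero_of_aeval_eq_zero
      rw [hy]
      exact (hmkq _).mpr h1
    have := hρ a
    rwa [h2, map_zero, sub_zero] at this

end Groth.Agent.S2100
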