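import Groth.Statements.S2101
import Groth.Agent.H02CA.ColimRegular
import Mathlib.RingTheory.MvPolynomial.Basic
import Mathlib.Algebra.MvPolynomial.Division
import Mathlib.Logic.Equiv.Fintype

set_option autoImplicit false
universe u
open CAlg

namespace Groth.Agent.S2101

open Groth.Agent.H02CA

/-- For elements `f_1, …, f_r` generating a proper ideal, all reorderings are regular sequences in `R`
if and only if the products `f_i x_i` form a regular sequence in `R[x_1, …, x_r]`. -/
theorem result {R : Type u} [CommRing R] {r : ℕ} (f : Fin r → R)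
    (hf : Ideal.span (Set.range f) ≠ ⊤) :
    (∀ σ : Equiv.Perm (Fin r), RingTheory.Sequence.IsRegular R (List.ofFn (f ∘ σ))) ↔
      RingTheory.Sequence.IsRegular (MvPolynomial (Fin r) R)
        (List.ofFn fun i => MvPolynomial.C (f i) * MvPolynomial.X i) := by

  classical
  haveI : Nontrivial R := by
    by_contra hR
    rw [not_nontrivial_iff_subsingleton] at hR
    exact hf (Subsingleton.elim _ _)
  -- regularity of `f i` modulo a set of the others
  let Q : Fin r → Finset (Fin r) → Prop := fun i T =>
    ∀ a, f i * a ∈ Ideal.span (f '' ↑T) → a ∈ Ideal.span (f '' ↑T)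
  let lt : Fin r → Finset (Fin r) := fun i => Finset.univ.filter (fun j : Fin r => (j : ℕ) < i)
  -- membership in the polynomial initial ideals
  let g : Fin r → MvPolynomial (Fin r) R := fun i => MvPolynomial.C (f i) * MvPolynomial.X i
  let T : Fin r → (Fin r →₀ ℕ) → Finset (Fin r) := fun i e => (lt i).filter (fun j => e j ≠ 0)
  have hmem : ∀ i p, p ∈ ColimRegular.initSpan g i ↔ ∀ e, MvPolynomial.coeff e p ∈ Ideal.span (f '' ↑(T i e)) := by
    intro i p
    constructor
    · intro hp
      induction hp using Submodule.span_induction with
      | mem x hx =>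
        obtain ⟨j, hj, rfl⟩ := hx
        intro e
        simp only [g, MvPolynomial.coeff_C_mul, MvPolynomial.coeff_X']
        by_cases he : Finsupp.single j 1 = e
        · rw [if_pos he, mul_one]
          refine Ideal.subset_span ⟨j, ?_, rfl⟩
          simp only [T, lt, Finset.coe_filter, Finset.mem_filter, Finset.mem_univ, true_and, Set.mem_ofPred_eq]
          exact ⟨hj, by rw [← he]; simp⟩
        · rw [if_neg he, mul_zero]; exact zero_mem _
      | zero => intro e; simp
      | add x y _ _ hx hy => intro e; rw [MvPolynomial.coeff_add]; exact add_mem (hx e) (hy e)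
      | smul q x _ hx =>
        intro e
        rw [smul_eq_mul, MvPolynomial.coeff_mul]
        refine sum_mem fun uv huv => Ideal.mul_mem_left _ _ (Ideal.span_mono (Set.image_mono ?_) (hx uv.2))
        intro j hj
        simp only [T, Finset.coe_filter, Set.mem_ofPred_eq] at hj ⊢
        refine ⟨hj.1, ?_⟩
        rw [← Finset.mem_antidiagonal.mp huv, Finsupp.add_apply]
        have := hj.2
        omega
    · intro hp
      rw [p.as_sum]
      refine sum_mem fun e _ => ?_
      have := hp e
      generalize MvPolynomial.coeff e p = c at this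
      induction this using Submodule.span_induction with
      | mem x hx =>
        obtain ⟨j, hj, rfl⟩ := hx
        simp only [T, lt, Finset.coe_filter, Finset.mem_filter, Finset.mem_univ, true_and, Set.mem_ofPred_eq] at hj
        have he : e - Finsupp.single j 1 + Finsupp.single j 1 = e :=
          tsub_add_cancel_of_le (Finsupp.single_le_iff.mpr (Nat.pos_of_ne_zero hj.2))
        have heq : MvPolynomial.monomial e (f j) = MvPolynomial.monomial (e - Finsupp.single j 1) 1 * g j := by
          simp only [g, MvPolynomial.X, MvPolynomial.C_mul_monomial, MvPolynomial.monomial_mul, mul_one, one_mul, he]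
        rw [heq]
        exact Ideal.mul_mem_left _ _ (Ideal.subset_span ⟨j, hj.1, rfl⟩)
      | zero => rw [map_zero]; exact zero_mem _
      | add x y _ _ hx hy => rw [map_add]; exact add_mem hx hy
      | smul q x _ hx =>
        rw [smul_eq_mul, ← MvPolynomial.C_mul_monomial]
        exact Ideal.mul_mem_left _ _ hx
  have hgp : ∀ i p e, MvPolynomial.coeff (e + Finsupp.single i 1) (g i * p) = f i * MvPolynomial.coeff e p := by
    intro i p e
    rw [show g i * p = MvPolynomial.C (f i) * (p * MvPolynomial.X i) by simp only [g]; ring,
      MvPolynomial.coeff_C_mul, MvPolynomial.coeff_mul_X]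
  have hpoly : RingTheory.Sequence.IsWeaklyRegular (MvPolynomial (Fin r) R) (List.ofFn g) ↔
      ∀ i S, S ⊆ lt i → Q i S := by
    rw [ColimRegular.isWeaklyRegular_ofFn_iff]
    constructor
    · intro h i S hS a ha
      let e : Fin r →₀ ℕ := Finsupp.indicator S fun _ _ => 1
      have hT : T i e = S := by
        ext j
        simp only [T, e, Finset.mem_filter, Finsupp.indicator_apply]
        by_cases hj : j ∈ S
        · simp [hj, hS hj]
        · simp [hj]
      have h1 : MvPolynomial.monomial e a ∈ ColimRegular.initSpan g i := by
        refine h i _ ((hmem i _).mpr fun e' => ?_)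
        have hmon : g i * MvPolynomial.monomial e a = MvPolynomial.monomial (e + Finsupp.single i 1) (f i * a) := by
          simp only [g, MvPolynomial.X, MvPolynomial.C_mul_monomial, MvPolynomial.monomial_mul, mul_one]
          rw [add_comm]
        rw [hmon, MvPolynomial.coeff_monomial]
        by_cases he : e + Finsupp.single i 1 = e'
        · rw [if_pos he]
          refine Ideal.span_mono (Set.image_mono ?_) ha
          intro j hj
          simp only [T, Finset.coe_filter, Set.mem_ofPred_eq]
          refine ⟨hS hj, ?_⟩
          rw [← he, Finsupp.add_apply, Finsupp.indicator_of_mem hj]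
          omega
        · rw [if_neg he]; exact zero_mem _
      have h2 := (hmem i _).mp h1 e
      rwa [MvPolynomial.coeff_monomial, if_pos rfl, hT] at h2
    · intro h i p hp
      rw [hmem] at hp ⊢
      intro e
      have hT : T i (e + Finsupp.single i 1) = T i e := by
        ext j
        simp only [T, lt, Finset.mem_filter, Finset.mem_univ, true_and, Finsupp.add_apply]
        constructor <;> rintro ⟨h1, h2⟩ <;> refine ⟨h1, ?_⟩ <;>
          rw [Finsupp.single_eq_of_ne (fun he => absurd (congrArg Fin.val he) (by omega))] at * <;> omega
      have h1 := hp (e + Finsupp.single i 1)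
      rw [hgp, hT] at h1
      exact h i _ (Finset.filter_subset _ _) _ h1
  have hperm : ∀ σ : Equiv.Perm (Fin r), RingTheory.Sequence.IsWeaklyRegular R (List.ofFn (f ∘ σ)) ↔
      ∀ k : Fin r, Q (σ k) ((lt k).image σ) := by
    intro σ
    rw [ColimRegular.isWeaklyRegular_ofFn_iff]
    refine forall_congr' fun k => ?_
    have : ColimRegular.initSpan (f ∘ σ) k = Ideal.span (f '' ↑((lt k).image σ)) := by
      simp only [ColimRegular.initSpan, lt, Finset.coe_image, ← Set.image_comp, Finset.coe_filter, Finset.mem_univ, true_and]
    rw [this]
    rfl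
  have hnetop : Ideal.span (Set.range g) ≠ ⊤ := by
    intro htop
    have hle : Ideal.span (Set.range g) ≤ RingHom.ker (MvPolynomial.constantCoeff (σ := Fin r) (R := R)) :=
      Ideal.span_le.mpr (by rintro _ ⟨j, rfl⟩; simp [g])
    exact RingHom.ker_ne_top _ (top_le_iff.mp (htop ▸ hle))
  constructor
  · intro h
    refine ⟨hpoly.mpr fun i S hS => ?_, ?_⟩
    · let k : Fin r := ⟨S.card, lt_of_le_of_lt ((Finset.card_le_card hS).trans ((le_of_eq (Fin.card_filter_val_lt ..)).trans (min_le_right _ _))) i.2⟩
      let e0 : {l : Fin r // (l : ℕ) < S.card} ≃ {x : Fin r // x ∈ S} :=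
        Fintype.equivOfCardEq (by
          rw [Fintype.card_coe, Fintype.card_subtype]
          simp [Fin.card_filter_val_lt]
          exact k.2.le)
      let σ : Equiv.Perm (Fin r) := e0.extendSubtype.trans (Equiv.swap (e0.extendSubtype k) i)
      have hlt : ∀ l : Fin r, (hl : (l : ℕ) < S.card) → σ l = (e0 ⟨l, hl⟩ : Fin r) := by
        intro l hl
        simp only [σ, Equiv.trans_apply, e0.extendSubtype_apply_of_mem l hl]
        refine Equiv.swap_apply_of_ne_of_ne ?_ ?_
        · intro he
          have := e0.extendSubtype.injective ((e0.extendSubtype_apply_of_mem l hl).trans he)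
          exact absurd (congrArg Fin.val this) (Nat.ne_of_lt hl)
        · intro he
          have := hS (e0 ⟨l, hl⟩).2
          simp [lt, he] at this
      have hk : σ k = i := by simp [σ]
      have himg : (lt k).image σ = S := by
        ext x
        simp only [Finset.mem_image, lt, Finset.mem_filter, Finset.mem_univ, true_and]
        constructor
        · rintro ⟨l, hl, rfl⟩; rw [hlt l hl]; exact (e0 ⟨l, hl⟩).2
        · intro hx
          exact ⟨(e0.symm ⟨x, hx⟩).1, (e0.symm ⟨x, hx⟩).2, by rw [hlt _ (e0.symm ⟨x, hx⟩).2]; simp⟩
      have := (hperm σ).mp (h σ).1 k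
      rwa [hk, himg] at this
    · rw [smul_eq_mul, Ideal.mul_top]
      intro htop
      apply hnetop
      rw [htop]
      simp only [Ideal.ofList, List.mem_ofFn']
      rfl
  · intro h σ
    have hQ := hpoly.mp h.1
    have main : ∀ (S : Finset (Fin r)) (i : Fin r), i ∉ S → Q i S := by
      intro S
      induction hc : S.card using Nat.strong_induction_on generalizing S with
      | _ c ih =>
        intro i hi
        by_cases hall : S ⊆ lt i
        · exact hQ i S hall
        obtain ⟨j0, hj0, hj0'⟩ := Finset.not_subset.mp hall
        let j := S.max' ⟨j0, hj0⟩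
        have hj : j ∈ S := S.max'_mem _
        have hij : (i : ℕ) < j := by
          have h1 : (j0 : ℕ) ≤ j := S.le_max' j0 hj0
          have h2 : ¬ (j0 : ℕ) < i := fun hlt => hj0' (Finset.mem_filter.mpr ⟨Finset.mem_univ _, hlt⟩)
          have h3 : (i : ℕ) ≠ j0 := fun he => hi (Fin.ext he ▸ hj0)
          omega
        let S' := S.erase j
        have hS' : ∀ l ∈ S', (l : ℕ) < j := fun l hl => lt_of_le_of_ne (S.le_max' l (Finset.mem_of_mem_erase hl))
          fun he => Finset.ne_of_mem_erase hl (Fin.ext he)
        have hA : Q i S' := ih S'.card (hc ▸ Finset.card_erase_lt_of_mem hj) S' rfl i fun hh => hi (Finset.mem_of_mem_erase hh)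
        have hB : Q j (insert i S') := hQ j _ fun l hl => by
          rcases Finset.mem_insert.mp hl with rfl | hl
          · exact Finset.mem_filter.mpr ⟨Finset.mem_univ _, hij⟩
          · exact Finset.mem_filter.mpr ⟨Finset.mem_univ _, hS' l hl⟩
        have himg : f '' ↑S = insert (f j) (f '' ↑S') := by
          rw [← Set.image_insert_eq, ← Finset.coe_insert, Finset.insert_erase hj]
        intro a ha
        rw [himg, Ideal.mem_span_insert] at ha
        obtain ⟨b, t, ht, hab⟩ := ha
        have hfjb : f j * b ∈ Ideal.span (f '' ↑(insert i S')) := by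
          rw [Finset.coe_insert, Set.image_insert_eq, Ideal.mem_span_insert]
          exact ⟨a, -t, neg_mem ht, by linear_combination -hab⟩
        have hb := hB b hfjb
        rw [Finset.coe_insert, Set.image_insert_eq, Ideal.mem_span_insert] at hb
        obtain ⟨c', t', ht', hb'⟩ := hb
        have hac : a - c' * f j ∈ Ideal.span (f '' ↑S') := hA _ (by
          rw [show f i * (a - c' * f j) = t' * f j + t by rw [hb'] at hab; linear_combination hab]
          exact add_mem (Ideal.mul_mem_right _ _ ht') ht)
        rw [himg, Ideal.mem_span_insert]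
        exact ⟨c', a - c' * f j, hac, by ring⟩
    refine ⟨(hperm σ).mpr fun k => main _ _ ?_, ?_⟩
    · simp [lt, σ.injective.eq_iff]
    · rw [smul_eq_mul, Ideal.mul_top]
      intro htop
      apply hf
      rw [htop, show Ideal.span (Set.range f) = Ideal.span (Set.range (f ∘ σ)) by rw [σ.surjective.range_comp]]
      simp only [Ideal.ofList, List.mem_ofFn']
      rfl

end Groth.Agent.S2101
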