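import Groth.Statements.S2108
import Groth.Agent.H9Smooth.Jacobian
-- import your own Groth.Agent.* helpers here

set_option autoImplicit false
universe u
open Smoothing

namespace Groth.Agent.S2108

/-- Let `A = R[x_1, …, x_n]/(f_1, …, f_m)` and `𝔮` a prime of `A` at which `R → A` is smooth. Then there
are `a ∈ A ∖ 𝔮`, an integer `c` and injections picking `c` relations and `c` variables such that `a`
is a multiple of the image of the corresponding Jacobian minor and `a f_ℓ` lies in the ideal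
generated by the chosen relations plus the square of the relation ideal, for every `ℓ`. -/
theorem result {R A : Type u} [CommRing R] [CommRing A] [Algebra R A] {n m : ℕ}
    (f : Fin m → MvPolynomial (Fin n) R) (φ : MvPolynomial (Fin n) R →ₐ[R] A) (hφ : Function.Surjective φ)
    (hker : RingHom.ker φ.toRingHom = Ideal.span (Set.range f)) (q : Ideal A) [q.IsPrime] [Algebra.IsSmoothAt R q] :
    ∃ a : A, a ∉ q ∧ ∃ (c : ℕ) (rows : Fin c ↪ Fin m) (cols : Fin c ↪ Fin n) (a' : A),
      a = a' * φ (Smoothing.jacobianMinor f rows cols) ∧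
      ∀ a₁ : MvPolynomial (Fin n) R, φ a₁ = a → ∀ ℓ : Fin m,
        a₁ * f ℓ ∈ Ideal.span (Set.range (f ∘ rows)) ⊔ Ideal.span (Set.range f) ^ 2 := by
  classical
  obtain ⟨c, rows, cols, r, hr, hμ, hrK⟩ := H9Smooth.exists_minor_of_isSmoothAt f φ hφ hker q
  let μ := Smoothing.jacobianMinor f rows cols
  refine ⟨φ r * φ μ, fun h => (Ideal.IsPrime.mem_or_mem ‹_› h).elim hr hμ, c, rows, cols, φ r, rfl,
    fun a₁ ha₁ ℓ => ?_⟩
  have hf : f ℓ ∈ Ideal.span (Set.range f) := Ideal.subset_span ⟨ℓ, rfl⟩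
  rw [show a₁ * f ℓ = μ * (r * f ℓ) + (a₁ - r * μ) * f ℓ by ring]
  refine add_mem (Ideal.mem_sup_left (Ideal.mul_mem_left _ _ (hrK _ (hker ▸ hf)))) (Ideal.mem_sup_right ?_)
  rw [pow_two]
  refine Ideal.mul_mem_mul ?_ hf
  rw [← hker]
  show φ (a₁ - r * μ) = 0
  rw [map_sub, map_mul, ha₁, sub_self]

end Groth.Agent.S2108
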