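import Groth.Statements.S2110
import Groth.Agent.H9Popescu.FreeKaehler
-- import your own Groth.Agent.* helpers here

set_option autoImplicit false
universe u
open Smoothing

namespace Groth.Agent.S2110

/-- Let `A` be a finitely presented `R`-algebra. There is an `A`-algebra `C` of finite type with an
`A`-algebra retraction `C → A` such that for every `a ∈ A` with `A_a` smooth over `R`, the module of
differentials of `C_a` over `R` is a free `C_a`-module. -/
theorem result {R A : Type u} [CommRing R] [CommRing A] [Algebra R A]
    [Algebra.FinitePresentation R A] :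
    ∃ (C : Type u) (_ : CommRing C) (_ : Algebra A C) (_ : Algebra R C) (_ : IsScalarTower R A C),
      Algebra.FiniteType A C ∧ Nonempty (C →ₐ[A] A) ∧
      ∀ a : A, Algebra.Smooth R (Localization.Away a) →
        Module.Free (Localization.Away (algebraMap A C a)) Ω[Localization.Away (algebraMap A C a)⁄R] := by
  obtain ⟨n, φ, hφ, hfg⟩ := Algebra.FinitePresentation.out (R := R) (A := A)
  obtain ⟨m, f, hf⟩ := Submodule.fg_iff_exists_fin_generating_family.mp hfg
  refine ⟨H9Popescu.FreeAlg φ f, inferInstance, inferInstance, inferInstance, inferInstance, inferInstance,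
    H9Popescu.nonempty_freeAlg_retraction φ f, fun a ha => ?_⟩
  obtain ⟨b⟩ := H9Popescu.free_kaehler_freeAlg φ hφ (show RingHom.ker φ = Ideal.span (Set.range f) from hf.symm) a
  exact Module.Free.of_basis b

end Groth.Agent.S2110
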