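import Groth.Statements.S2112
import Groth.Agent.H02CA.GeomIrred

set_option autoImplicit false
universe u
open CAlg

namespace Groth.Agent.S2112

open TensorProduct in
/-- Let `k` be a separably closed field and `R`, `S` two `k`-algebras each having exactly one minimal
prime ideal. Then `R ⊗_k S` has exactly one minimal prime ideal. -/
theorem result {k R S : Type u} [Field k] [IsSepClosed k] [CommRing R] [CommRing S]
    [Algebra k R] [Algebra k S] (hR : CAlgX.HasUniqueMinimalPrime R) (hS : CAlgX.HasUniqueMinimalPrime S) :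
    CAlgX.HasUniqueMinimalPrime (R ⊗[k] S) := by

  have hiff : ∀ (A : Type u) [CommRing A], CAlgX.HasUniqueMinimalPrime A ↔ IrreducibleSpace (PrimeSpectrum A) := by
    intro A _
    rw [PrimeSpectrum.irreducibleSpace_iff_isPrime_nilradical]
    constructor
    · rintro ⟨P, hP, hu⟩
      have hset : (⊥ : Ideal A).minimalPrimes = {P} := Set.eq_singleton_iff_unique_mem.mpr ⟨hP, hu⟩
      have : nilradical A = P := by
        rw [nilradical, Submodule.zero_eq_bot, ← Ideal.sInf_minimalPrimes, hset, sInf_singleton]
      rw [this]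
      exact hP.1.1
    · intro h
      refine ⟨nilradical A, ⟨⟨h, bot_le⟩, fun Q hQ _ => haveI := hQ.1; nilradical_le_prime Q⟩, fun Q hQ => ?_⟩
      haveI : Q.IsPrime := hQ.1.1
      exact le_antisymm (hQ.2 ⟨h, bot_le⟩ (nilradical_le_prime Q)) (nilradical_le_prime Q)
  rw [hiff] at hR hS ⊢
  exact Groth.Agent.H02CA.GeomIrred.irreducibleSpace_tensor R S
    (fun k' _ _ => Groth.Agent.H02CA.GeomIrred.irreducibleSpace_of_isSepClosed (k := k) S k')

end Groth.Agent.S2112
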