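import Groth.Statements.S2113
import Mathlib.RingTheory.Ideal.KrullsHeightTheorem
import Mathlib.RingTheory.Jacobson.Ring
import Mathlib.RingTheory.Ideal.MinimalPrime.Noetherian
-- import your own Groth.Agent.* helpers here

set_option autoImplicit false
universe u
open CAlg

namespace Groth.Agent.S2113

/-- A Noetherian ring in which each prime is maximal or else lies below infinitely many primes is a
Jacobson ring. -/
theorem result {R : Type u} [CommRing R] [IsNoetherianRing R]
    (h : ∀ (p : Ideal R) [p.IsPrime], p.IsMaximal ∨ {q : PrimeSpectrum R | p ≤ q.asIdeal}.Infinite) :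
    IsJacobsonRing R := by
  rw [isJacobsonRing_iff_prime_eq]
  intro p
  induction p using WellFoundedGT.induction with
  | _ p ih =>
  intro hp
  rcases h p with hmax | hinf
  · exact Ideal.jacobson_eq_self_of_isMaximal
  by_contra hne
  obtain ⟨f, hf, hfp⟩ := SetLike.exists_of_lt (lt_of_le_of_ne Ideal.le_jacobson (Ne.symm hne))
  have hq : ∀ q : Ideal R, q.IsPrime → p < q → f ∈ q := fun q hq hpq =>
    ih q hpq hq ▸ Ideal.jacobson_mono hpq.le hf
  set S := (p ⊔ Ideal.span {f}).minimalPrimes
  have hS : S.Finite := Ideal.finite_minimalPrimes_of_isNoetherianRing R _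
  have key : ∀ q : Ideal R, q.IsPrime → p < q → q ∈ S := by
    intro q hq' hpq
    have hpf : p ⊔ Ideal.span {f} ≤ q := sup_le hpq.le ((Ideal.span_singleton_le_iff_mem _).mpr (hq q hq' hpq))
    have hcov : (q : Set R) ⊆ ⋃ P ∈ S, (P : Set R) := by
      intro x hx
      by_cases hxp : x ∈ p
      · obtain ⟨P, hP, -⟩ := Ideal.exists_minimalPrimes_le hpf
        exact Set.mem_biUnion hP (hP.1.2 (Ideal.mem_sup_left hxp))
      · obtain ⟨P, hP, -⟩ := Ideal.exists_minimalPrimes_le
          (sup_le hpq.le ((Ideal.span_singleton_le_iff_mem _).mpr hx) : p ⊔ Ideal.span {x} ≤ q)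
        have hxP : x ∈ P := hP.1.2 (Ideal.mem_sup_right (Ideal.mem_span_singleton_self x))
        have hpP : p < P := lt_of_le_of_ne (le_sup_left.trans hP.1.2) (fun e => hxp (e ▸ hxP))
        haveI := hP.1.1
        obtain ⟨P', hP', hP'P⟩ := Ideal.exists_minimalPrimes_le
          (sup_le hpP.le ((Ideal.span_singleton_le_iff_mem _).mpr (hq P hP.1.1 hpP)) : p ⊔ Ideal.span {f} ≤ P)
        rcases eq_or_lt_of_le hP'P with e | hlt
        · exact Set.mem_biUnion hP' (e ▸ hxP)
        exfalso
        haveI := hP'.1.1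
        have hpP' : p < P' := lt_of_le_of_ne (le_sup_left.trans hP'.1.2)
          (fun e => hfp (e ▸ hP'.1.2 (Ideal.mem_sup_right (Ideal.mem_span_singleton_self f))))
        have h1 := Ideal.map_height_le_one_of_mem_minimalPrimes hP
        let φ := Ideal.Quotient.mk p
        have hker : RingHom.ker φ = p := Ideal.mk_ker
        have hc : ∀ J : Ideal R, p ≤ J → (J.map φ).comap φ = J := fun J hJ => by
          rw [Ideal.comap_map_of_surjective _ Ideal.Quotient.mk_surjective, ← RingHom.ker_eq_comap_bot, hker,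
            sup_eq_left.mpr hJ]
        have hlt' : ∀ J J' : Ideal R, p ≤ J → J < J' → J.map φ < J'.map φ := fun J J' hJ hJJ' =>
          lt_of_le_of_ne (Ideal.map_mono hJJ'.le) (fun e => hJJ'.ne (by rw [← hc J hJ, e, hc J' (hJ.trans hJJ'.le)]))
        haveI : (p.map φ).IsPrime := Ideal.map_isPrime_of_surjective Ideal.Quotient.mk_surjective hker.le
        haveI : (P'.map φ).IsPrime := Ideal.map_isPrime_of_surjective Ideal.Quotient.mk_surjective (hker.le.trans hpP'.le)
        haveI : (P.map φ).IsPrime := Ideal.map_isPrime_of_surjective Ideal.Quotient.mk_surjective (hker.le.trans hpP.le)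
        have a := Ideal.height_strict_mono_of_isPrime_of_isPrime (hlt' p P' le_rfl hpP')
        have b := Ideal.height_strict_mono_of_isPrime_of_isPrime (hlt' P' P hpP'.le hlt)
        have c := ENat.lt_one_iff_eq_zero.mp (b.trans_le h1)
        rw [c] at a
        exact not_lt_bot a
    obtain ⟨P, hP, hqP⟩ := (Ideal.subset_union_prime_finite hS (⊥ : Ideal R) ⊥ (fun i hi _ _ => hi.1.1)).mp hcov
    exact le_antisymm hqP (hP.2 ⟨hq', hpf⟩ hqP) ▸ hP
  refine hinf (((hS.insert p).preimage (fun a _ b _ e => PrimeSpectrum.ext e)).subset fun q hq' => ?_)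
  rcases eq_or_lt_of_le (show p ≤ q.asIdeal from hq') with e | hlt
  · exact Set.mem_insert_iff.mpr (Or.inl e.symm)
  · exact Set.mem_insert_of_mem _ (key _ q.2 hlt)

end Groth.Agent.S2113
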