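import Groth.Statements.S2117
import Groth.Agent.S2451
import Groth.Agent.H05EGA4.CohenSmooth
import Mathlib.RingTheory.Kaehler.JacobiZariski
import Mathlib.Algebra.CharP.Algebra

set_option autoImplicit false
universe u
open CAlg

namespace Groth.Agent.S2117

/-- Let k be a field of characteristic p > 0 and K a field extension of k. Then K is geometrically
reduced over k (equivalently, K/k is separable: every finitely generated subextension is separably
generated) if and only if the natural base-change map K ⊗_k Ω_{k/ℤ} → Ω_{K/ℤ} on absolute Kähler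
differentials is injective. -/
theorem result {k K : Type u} [Field k] [Field K] [Algebra k K] (p : ℕ)
    [Fact p.Prime] [CharP k p] :
    Algebra.IsGeometricallyReduced k K ↔ Function.Injective (KaehlerDifferential.mapBaseChange ℤ k K) := by

  classical
  haveI : CharP K p := charP_of_injective_algebraMap (algebraMap k K).injective p
  letI : Algebra (ZMod p) k := ZMod.algebra k p
  letI : Algebra (ZMod p) K := ZMod.algebra K p
  haveI : IsScalarTower (ZMod p) k K := IsScalarTower.of_algebraMap_eq' (Subsingleton.elim _ _)
  haveI hperf : PerfectField (ZMod p) := inferInstance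
  -- differentials over `ℤ` and over the prime field agree
  have hu : ∀ (L : Type u) [Field L] [Algebra (ZMod p) L],
      Function.Bijective (KaehlerDifferential.map ℤ (ZMod p) L L) := by
    intro L _ _
    refine ⟨LinearMap.ker_eq_bot.mp ?_, KaehlerDifferential.map_surjective ℤ (ZMod p) L⟩
    haveI : Subsingleton Ω[ZMod p⁄ℤ] :=
      KaehlerDifferential.subsingleton_of_surjective ℤ (ZMod p) (ZMod.intCast_surjective)
    haveI : Subsingleton (TensorProduct (ZMod p) L Ω[ZMod p⁄ℤ]) := inferInstance
    rw [← KaehlerDifferential.range_mapBaseChange ℤ (ZMod p) L, LinearMap.range_eq_bot]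
    exact Subsingleton.elim _ _
  let uk := LinearEquiv.ofBijective (KaehlerDifferential.map ℤ (ZMod p) k k) (hu k)
  let uK := LinearEquiv.ofBijective (KaehlerDifferential.map ℤ (ZMod p) K K) (hu K)
  have hcomm : (KaehlerDifferential.mapBaseChange (ZMod p) k K) ∘ₗ (LinearEquiv.baseChange k K _ _ uk).toLinearMap =
      uK.toLinearMap ∘ₗ (KaehlerDifferential.mapBaseChange ℤ k K) := by
    apply TensorProduct.AlgebraTensorModule.curry_injective
    ext z
    simp [uk, uK, KaehlerDifferential.map_D]
  have hiff : Function.Injective (KaehlerDifferential.mapBaseChange ℤ k K) ↔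
      Function.Injective (KaehlerDifferential.mapBaseChange (ZMod p) k K) := by
    have he : ∀ z, KaehlerDifferential.mapBaseChange (ZMod p) k K (LinearEquiv.baseChange k K _ _ uk z) =
        uK (KaehlerDifferential.mapBaseChange ℤ k K z) := fun z => LinearMap.congr_fun hcomm z
    rw [← (uK.injective.of_comp_iff (KaehlerDifferential.mapBaseChange ℤ k K)),
      ← Function.Injective.of_comp_iff' (KaehlerDifferential.mapBaseChange (ZMod p) k K) (LinearEquiv.baseChange k K _ _ uk).bijective]
    exact iff_of_eq (congrArg _ (funext fun z => (he z).symm))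
  haveI hfsK : Algebra.FormallySmooth (ZMod p) K := Groth.Agent.H05EGA4.formallySmooth_of_perfectField (ZMod p) K
  haveI : Subsingleton (Algebra.H1Cotangent (ZMod p) K) := Algebra.FormallySmooth.subsingleton_h1Cotangent
  have hδ : Function.Injective (Algebra.H1Cotangent.δ (ZMod p) k K) := by
    refine (injective_iff_map_eq_zero _).mpr fun x hx => ?_
    obtain ⟨y, rfl⟩ := (Algebra.H1Cotangent.exact_map_δ (ZMod p) k K x).mp hx
    rw [Subsingleton.elim y 0, map_zero]
  rw [← Groth.Agent.S2451.result, hiff]
  constructor
  · intro h
    haveI : Subsingleton (Algebra.H1Cotangent k K) := h.subsingleton_h1Cotangent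
    refine (injective_iff_map_eq_zero _).mpr fun z hz => ?_
    obtain ⟨x, rfl⟩ := (Algebra.H1Cotangent.exact_δ_mapBaseChange (ZMod p) k K z).mp hz
    rw [Subsingleton.elim x 0, map_zero]
  · intro h
    refine ⟨Module.Projective.of_free, ⟨fun x y => hδ (h ?_)⟩⟩
    rw [(Algebra.H1Cotangent.exact_δ_mapBaseChange (ZMod p) k K _).mpr ⟨x, rfl⟩,
      (Algebra.H1Cotangent.exact_δ_mapBaseChange (ZMod p) k K _).mpr ⟨y, rfl⟩]

end Groth.Agent.S2117
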