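import Groth.Statements.S2118
import Groth.Agent.H1CAlg.FPColimit
import Mathlib.Algebra.Category.ModuleCat.Limits
import Mathlib.CategoryTheory.Limits.HasLimits

set_option autoImplicit false
universe u
open CategoryTheory
open CAlg

namespace Groth.Agent.S2118

open H1CAlg.FPColimit CategoryTheory

/-- An `R`-module `M` is flat if and only if it is isomorphic to the colimit of a diagram of finite free
`R`-modules indexed by a nonempty directed preorder (in the same universe). -/
theorem result {R : Type u} [CommRing R] (M : Type u) [AddCommGroup M] [Module R M] :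
    Module.Flat R M ↔
      ∃ (J : Type u) (_ : Preorder J) (_ : IsDirected J (fun a b => a ≤ b)) (_ : Nonempty J)
        (F : J ⥤ ModuleCat.{u} R), (∀ j, Module.Finite R (F.obj j) ∧ Module.Free R (F.obj j)) ∧
        Nonempty (Limits.colimit F ≅ ModuleCat.of R M) := by
  classical
  constructor
  · intro hM
    let P : Idx R M → Prop := fun j => Module.Free R (Stage j)
    have hP : ∀ i : Idx R M, ∃ j, i ≤ j ∧ P j := fun i => exists_free_ge i
    haveI := isDirected_subtype hP
    obtain ⟨e⟩ := exists_linearEquiv P hP
    refine ⟨{i // P i}, inferInstance, inferInstance, nonempty_subtype hP,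
      ModuleCat.directLimitDiagram (fun i : {i // P i} => Stage i.1) (fun i j h => trans i.1 j.1 h),
      fun j => ⟨(inferInstance : Module.Finite R (Stage j.1)), j.2⟩, ⟨?_⟩⟩
    exact (Limits.colimit.isColimit _).coconePointUniqueUpToIso
      (ModuleCat.directLimitIsColimit (fun i : {i // P i} => Stage i.1) (fun i j h => trans i.1 j.1 h)) ≪≫
      e.toModuleIso
  · rintro ⟨J, _, _, _, F, hF, ⟨e⟩⟩
    let G : J → Type u := fun j => F.obj j
    let f : ∀ i j, i ≤ j → G i →ₗ[R] G j := fun i j h => (F.map (homOfLE h)).hom
    haveI : DirectedSystem G (fun i j h => f i j h) :=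
      { map_self := fun i x => by
          show (F.map (homOfLE le_rfl)).hom x = x
          rw [show homOfLE (le_refl i) = 𝟙 i from Subsingleton.elim _ _, F.map_id]; rfl
        map_map := fun k j i hij hjk x => by
          show (F.map (homOfLE hjk)).hom ((F.map (homOfLE hij)).hom x) = (F.map (homOfLE (hij.trans hjk))).hom x
          rw [← homOfLE_comp hij hjk, F.map_comp]; rfl }
    haveI : ∀ i, Module.Flat R (G i) := fun i => by
      haveI : Module.Free R (G i) := (hF i).2
      exact Module.Flat.of_free
    haveI : Module.Flat R (Module.DirectLimit G f) := H1CAlg.flat_directLimit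
    let iso : ModuleCat.directLimitDiagram G f ≅ F := NatIso.ofComponents (fun j => Iso.refl _)
      (fun {i j} h => by
        ext x
        simp [G, f]; rfl)
    let e' := (Limits.IsColimit.coconePointsIsoOfNatIso (ModuleCat.directLimitIsColimit G f)
      (Limits.colimit.isColimit F) iso) ≪≫ e
    haveI : Module.Flat R (ModuleCat.directLimitCocone G f).pt := ‹Module.Flat R (Module.DirectLimit G f)›
    exact Module.Flat.of_linearEquiv e'.toLinearEquiv.symm

end Groth.Agent.S2118
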