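import Groth.Statements.S2119
import Mathlib.RingTheory.UniqueFactorizationDomain.Basic
import Mathlib.RingTheory.Localization.Basic
import Mathlib.Algebra.Group.Submonoid.Membership

set_option autoImplicit false
universe u
open CAlg

namespace Groth.Agent.S2119

theorem dvd_cancel {A : Type u} [CommRing A] [IsDomain A] (P : Set A) (hP : ∀ p ∈ P, Prime p)
    {a : A} (hnd : ∀ p ∈ P, ¬ p ∣ a) {s : A} (hs : s ∈ Submonoid.closure P) :
    ∀ b : A, a ∣ b * s → a ∣ b := by
  induction hs using Submonoid.closure_induction with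
  | one => intro b hb; simpa using hb
  | mem p hp =>
    rintro b ⟨c, hc⟩
    obtain ⟨d, rfl⟩ := ((hP p hp).dvd_or_dvd ⟨b, by rw [← hc]; ring⟩).resolve_left (hnd p hp)
    exact ⟨d, mul_right_cancel₀ (hP p hp).ne_zero (by rw [hc]; ring)⟩
  | mul x y _ _ hx hy =>
    intro b hb
    exact hx b (hy (b * x) (by rwa [mul_assoc]))

theorem eq_mul_of_closure {A : Type u} [CommRing A] [IsDomain A] (P : Set A) (hP : ∀ p ∈ P, Prime p)
    {s : A} (hs : s ∈ Submonoid.closure P) :
    ∀ a b c : A, b * c = a * s → ∃ b' c' u v : A, u ∈ Submonoid.closure P ∧ v ∈ Submonoid.closure P ∧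
      a = b' * c' ∧ b = b' * u ∧ c = c' * v := by
  induction hs using Submonoid.closure_induction with
  | one => intro a b c h; exact ⟨b, c, 1, 1, one_mem _, one_mem _, by rw [h, mul_one], by simp, by simp⟩
  | mem p hp =>
    intro a b c h
    rcases (hP p hp).dvd_or_dvd (show p ∣ b * c from ⟨a, by rw [h, mul_comm]⟩) with ⟨d, rfl⟩ | ⟨d, rfl⟩
    · refine ⟨d, c, p, 1, Submonoid.subset_closure hp, one_mem _, ?_, mul_comm _ _, by simp⟩
      exact mul_left_cancel₀ (hP p hp).ne_zero (by rw [mul_comm p a, ← h]; ring)
    · refine ⟨b, d, 1, p, one_mem _, Submonoid.subset_closure hp, ?_, by simp, mul_comm _ _⟩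
      exact mul_left_cancel₀ (hP p hp).ne_zero (by rw [mul_comm p a, ← h]; ring)
  | mul x y _ _ hx hy =>
    intro a b c h
    obtain ⟨b₁, c₁, u, v, hu, hv, e, rfl, rfl⟩ := hy (a * x) b c (by rw [h, mul_assoc])
    obtain ⟨b₂, c₂, u', v', hu', hv', e', rfl, rfl⟩ := hx a b₁ c₁ e.symm
    exact ⟨b₂, c₂, u' * u, v' * v, mul_mem hu' hu, mul_mem hv' hv, e', mul_assoc _ _ _, mul_assoc _ _ _⟩

/-- Nagata's criterion for factoriality, final assertion: let `A` be a domain in which every nonzero
nonunit factors into irreducibles, and `S` the multiplicative subset generated by a set of prime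
elements. If the localization `S⁻¹A` is a unique factorization domain, then so is `A`. -/
theorem result {A : Type u} [CommRing A] [IsDomain A]
    (hfac : ∀ a : A, a ≠ 0 → ¬ IsUnit a → ∃ f : Multiset A, (∀ b ∈ f, Irreducible b) ∧ Associated f.prod a) (P : Set A)
    (hP : ∀ p ∈ P, Prime p) [IsDomain (Localization (Submonoid.closure P))]
    (hS : UniqueFactorizationMonoid (Localization (Submonoid.closure P))) : UniqueFactorizationMonoid A := by
  classical
  let S := Submonoid.closure P
  let L := Localization S
  have hS0 : (0 : A) ∉ S := fun h => by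
    have hu : IsUnit (algebraMap A L 0) := IsLocalization.map_units L (⟨0, h⟩ : S)
    rw [map_zero] at hu
    exact not_isUnit_zero hu
  have hSle : S ≤ nonZeroDivisors A := fun x hx => mem_nonZeroDivisors_of_ne_zero fun h => hS0 (h ▸ hx)
  have hprime : ∀ a : A, Irreducible a → Prime a := by
    intro a ha
    by_cases hex : ∃ p ∈ P, p ∣ a
    · obtain ⟨p, hp, hpa⟩ := hex
      exact ((hP p hp).irreducible.associated_of_dvd ha hpa).prime (hP p hp)
    push_neg at hex
    have hunit : ¬ IsUnit (algebraMap A L a) := by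
      intro hu
      obtain ⟨y, hy⟩ := hu.exists_right_inv
      obtain ⟨c, s, rfl⟩ := IsLocalization.exists_mk'_eq S y
      have h1 : algebraMap A L (a * c) = algebraMap A L (s : A) := by
        rw [map_mul, ← IsLocalization.mk'_spec L c s, ← mul_assoc, hy, one_mul]
      have := IsLocalization.injective L hSle h1
      exact ha.not_isUnit (isUnit_of_dvd_one (dvd_cancel P hP hex s.2 1 ⟨c, by rw [one_mul, this]⟩))
    have hirr : Irreducible (algebraMap A L a) := by
      refine ⟨hunit, fun x y hxy => ?_⟩
      obtain ⟨b, s, rfl⟩ := IsLocalization.exists_mk'_eq S x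
      obtain ⟨c, t, rfl⟩ := IsLocalization.exists_mk'_eq S y
      have h1 : algebraMap A L (b * c) = algebraMap A L (a * ((s : A) * t)) := by
        rw [map_mul, map_mul, map_mul, ← IsLocalization.mk'_spec L b s, ← IsLocalization.mk'_spec L c t, hxy]
        ring
      obtain ⟨b', c', u, v, hu, hv, hbc, rfl, rfl⟩ :=
        eq_mul_of_closure P hP (mul_mem s.2 t.2) a b c (IsLocalization.injective L hSle h1)
      have key : ∀ {z w : A} {r : S}, IsUnit z → w ∈ S → IsUnit (IsLocalization.mk' L (z * w) r) := by
        intro z w r hz hw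
        have : IsLocalization.mk' L (z * w) r * algebraMap A L r = algebraMap A L (z * w) := IsLocalization.mk'_spec _ _ _
        have h2 : IsUnit (IsLocalization.mk' L (z * w) r * algebraMap A L r) := by
          rw [this, map_mul]; exact (hz.map _).mul (IsLocalization.map_units L ⟨w, hw⟩)
        exact isUnit_of_mul_isUnit_left h2
      rcases ha.isUnit_or_isUnit hbc with h | h
      · exact Or.inl (key h hu)
      · exact Or.inr (key h hv)
    have hpr := hirr.prime
    refine ⟨ha.ne_zero, ha.not_isUnit, fun b c hbc => ?_⟩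
    have key : ∀ x, algebraMap A L a ∣ algebraMap A L x → a ∣ x := by
      rintro x ⟨y, hy⟩
      obtain ⟨d, s, rfl⟩ := IsLocalization.exists_mk'_eq S y
      have h1 : algebraMap A L (x * s) = algebraMap A L (a * d) := by
        rw [map_mul, map_mul, hy, ← IsLocalization.mk'_spec L d s, mul_assoc]
      exact dvd_cancel P hP hex s.2 x ⟨d, IsLocalization.injective L hSle h1⟩
    rcases hpr.dvd_or_dvd (show algebraMap A L a ∣ algebraMap A L b * algebraMap A L c by rw [← map_mul]; exact map_dvd _ hbc) with h | h
    · exact Or.inl (key b h)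
    · exact Or.inr (key c h)
  refine UniqueFactorizationMonoid.of_exists_prime_factors fun a ha => ?_
  by_cases hu : IsUnit a
  · exact ⟨0, by simp, by simpa using (associated_one_iff_isUnit.mpr hu).symm⟩
  obtain ⟨f, hf, hfa⟩ := hfac a ha hu
  exact ⟨f, fun b hb => hprime b (hf b hb), hfa⟩

end Groth.Agent.S2119
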