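import Groth.Statements.S2120
import Groth.Agent.H17.Separated
import Mathlib.AlgebraicGeometry.AlgClosed.Basic
import Mathlib.Data.DFinsupp.WellFounded

set_option autoImplicit false
universe u
open CategoryTheory AlgebraicGeometry
open Mor

namespace Groth.Agent.S2120

open CategoryTheory Limits AlgebraicGeometry TopologicalSpace

/-- Let `f : X → Y` be surjective and universally closed. If `X` is quasi-separated then so is `Y`; if
`X` is separated then so is `Y`. -/
theorem result {X Y : Scheme.{u}} (f : X ⟶ Y) [Surjective f] [UniversallyClosed f] :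
    (QuasiSeparatedSpace X → QuasiSeparatedSpace Y) ∧ (X.IsSeparated → Y.IsSeparated) := by
  refine ⟨fun h => ⟨fun U V hU hUc hV hVc => ?_⟩, fun h => ?_⟩
  · have hU' : IsCompact (f ⁻¹' U) := f.isCompact_preimage (U := ⟨U, hU⟩) hUc
    have hV' : IsCompact (f ⁻¹' V) := f.isCompact_preimage (U := ⟨V, hV⟩) hVc
    have h2 : IsCompact (f ⁻¹' U ∩ f ⁻¹' V) :=
      h.inter_isCompact _ _ (hU.preimage f.continuous) hU' (hV.preimage f.continuous) hV'
    have := h2.image f.continuous
    rwa [← Set.preimage_inter, Set.image_preimage_eq _ f.surjective] at this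
  · have : IsSeparated (f ≫ terminal.from Y) := by
      rw [terminal.comp_from]; infer_instance
    exact ⟨Groth.Agent.H17.isSeparated_of_surjective_universallyClosed f _⟩

end Groth.Agent.S2120
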