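import Groth.Statements.S2122
import Groth.Agent.H17.InvertibleTensor
-- import your own Groth.Agent.* helpers here

set_option autoImplicit false
universe u
open CategoryTheory AlgebraicGeometry
open Mor

namespace Groth.Agent.S2122

/-- On a scheme X, if an O_X-module L admits an O_X-module N with L ⊗ N ≅ O_X, then L is invertible:
locally on X it is isomorphic to O_X (locally free of rank one). -/
theorem result {X : Scheme.{u}} (L N : X.Modules)
    (e : CohB1.tensorMod L N ≅ Coh.structureModule X) : PicF.IsInvertible L := by
  exact H17.InvertibleTensor.isInvertible_of_tensor_iso L N e

end Groth.Agent.S2122
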