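import Groth.Statements.S2124
import Groth.Agent.H1CAlg.CompletionFree
import Mathlib.RingTheory.AdicCompletion.Basic
import Mathlib.Data.Fin.Tuple.Basic
-- import your own Groth.Agent.* helpers here

set_option autoImplicit false
universe u
open CAlg

open scoped TensorProduct

namespace Groth.Agent.S2124

/-- Let `R` be Noetherian and `I`-adically complete and `α` any index set. The map from the `I`-adic
completion of the direct sum `⊕_α R` to the product `∏_α R^∧ = ∏_α R`, induced by the coordinate
projections, is universally injective. -/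
theorem result {R : Type u} [CommRing R] [IsNoetherianRing R] (I : Ideal R)
    [IsAdicComplete I R] (α : Type u) :
    CAlgX.UniversallyInjective R
      (LinearMap.pi fun a : α => AdicCompletion.map I (Finsupp.lapply a : (α →₀ R) →ₗ[R] R) :
        AdicCompletion I (α →₀ R) →ₗ[R] (α → AdicCompletion I R)) := by
  classical
  intro Q _ _
  refine (injective_iff_map_eq_zero _).mpr fun z hz => ?_
  obtain ⟨n, x, q, rfl⟩ : ∃ (n : ℕ) (x : Fin n → AdicCompletion I (α →₀ R)) (q : Fin n → Q),
      z = ∑ j, x j ⊗ₜ[R] q j := by
    clear hz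
    induction z using TensorProduct.induction_on with
    | zero => exact ⟨0, Fin.elim0, Fin.elim0, by simp⟩
    | tmul a b => exact ⟨1, fun _ => a, fun _ => b, by simp⟩
    | add u v hu hv =>
      obtain ⟨n, x, q, rfl⟩ := hu
      obtain ⟨m, y, r, rfl⟩ := hv
      exact ⟨n + m, Fin.append x y, Fin.append q r, by rw [Fin.sum_univ_add]; simp⟩
  let L := LinearMap.pi fun a : α => AdicCompletion.map I (Finsupp.lapply a : (α →₀ R) →ₗ[R] R)
  let e := AdicCompletion.ofLinearEquiv I R
  let g : AdicCompletion I R ⊗[R] Q →ₗ[R] Q :=
    (TensorProduct.lid R Q).toLinearMap ∘ₗ (e.symm.toLinearMap.rTensor Q)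
  let r : α → Fin n → R := fun a j => e.symm (AdicCompletion.map I (Finsupp.lapply a : (α →₀ R) →ₗ[R] R) (x j))
  have hr : ∀ a, ∑ j, r a j • q j = 0 := by
    intro a
    have h := congrArg (g ∘ₗ (((LinearMap.proj a : (α → AdicCompletion I R) →ₗ[R] AdicCompletion I R).restrictScalars R).rTensor Q)) hz
    simp only [map_sum, _root_.map_zero] at h
    rw [← h]
    exact Finset.sum_congr rfl fun j _ => rfl
  let π : (Fin n → R) →ₗ[R] Q := Fintype.linearCombination R q
  obtain ⟨m, a, ha⟩ := Submodule.fg_iff_exists_fin_generating_family.mp (IsNoetherian.noetherian (LinearMap.ker π))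
  have hrange : LinearMap.range (Fintype.linearCombination R a) = LinearMap.ker π := by
    rw [Fintype.range_linearCombination, ha]
  choose X hX using fun j => AdicCompletion.mk_surjective I (α →₀ R) (x j)
  obtain ⟨y, hy⟩ := Groth.Agent.H1CAlg.CompletionFree.exists_preimage I a x X hX (fun k => by
    let S := Finset.univ.biUnion fun j => ((X j).1 k).support
    refine ⟨fun j => Finsupp.onFinset S (fun b => if b ∈ S then r b j else 0)
      (fun b hb => by by_contra h; exact hb (if_neg h)), fun b => ?_, fun j => ?_⟩
    · rw [hrange, LinearMap.mem_ker, Fintype.linearCombination_apply]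
      simp only [Finsupp.onFinset_apply]
      by_cases hb : b ∈ S
      · simp only [if_pos hb]; exact hr b
      · simp only [if_neg hb, zero_smul, Finset.sum_const_zero]
    · refine (Groth.Agent.H1CAlg.CompletionFree.mem_smul_top_finsupp _ _).mpr fun b => ?_
      rw [Finsupp.sub_apply, Finsupp.onFinset_apply]
      by_cases hb : b ∈ S
      · rw [if_pos hb]
        have h1 := e.apply_symm_apply (AdicCompletion.map I (Finsupp.lapply b : (α →₀ R) →ₗ[R] R) (x j))
        rw [← hX j, AdicCompletion.map_mk] at h1
        have h2 := congrArg (fun w => w.val k) h1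
        have h3 := (Submodule.Quotient.eq _).mp h2
        rw [smul_eq_mul, Ideal.mul_top] at h3
        simp only [r, ← hX j, AdicCompletion.map_mk]
        exact h3
      · rw [if_neg hb, zero_sub, neg_mem_iff]
        have : (X j).1 k b = 0 := by
          by_contra h0
          exact hb (Finset.mem_biUnion.mpr ⟨j, Finset.mem_univ _, Finsupp.mem_support_iff.mpr h0⟩)
        rw [this]; exact zero_mem _)
  calc ∑ j, x j ⊗ₜ[R] q j = ∑ j, ∑ l, y l ⊗ₜ[R] (a l j • q j) := by
        refine Finset.sum_congr rfl fun j _ => ?_
        rw [hy j, TensorProduct.sum_tmul]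
        exact Finset.sum_congr rfl fun l _ => TensorProduct.smul_tmul _ _ _
    _ = ∑ l, y l ⊗ₜ[R] π (a l) := by
        rw [Finset.sum_comm]
        exact Finset.sum_congr rfl fun l _ => by rw [Fintype.linearCombination_apply, TensorProduct.tmul_sum]
    _ = 0 := Finset.sum_eq_zero fun l _ => by
        have hl : a l ∈ LinearMap.ker π := ha ▸ Submodule.subset_span ⟨l, rfl⟩
        rw [LinearMap.mem_ker.mp hl, TensorProduct.tmul_zero]

end Groth.Agent.S2124
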