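import Groth.Statements.S2128
import Groth.Agent.H17.FPExt.Colimit
-- import your own Groth.Agent.* helpers here

set_option autoImplicit false
universe u
open CategoryTheory AlgebraicGeometry
open Mor

namespace Groth.Agent.S2128

/-- Let `X` be quasi-compact and quasi-separated and `F` a quasi-coherent `O_X`-module. Then `F` is the
colimit of a filtered diagram of finitely presented `O_X`-modules: there are a small filtered
category `I`, a diagram of finitely presented modules and a colimit cocone with vertex `F`. -/
theorem result (X : Scheme.{u}) [CompactSpace X] [QuasiSeparatedSpace X] (F : X.Modules)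
    (hF : Coh.IsQCoh F) :
    ∃ (I : Type u) (_ : SmallCategory I) (_ : IsFiltered I) (D : I ⥤ X.Modules) (c : Limits.Cocone D)
      (_ : Limits.IsColimit c), (∀ i, CohB1.IsFP (D.obj i)) ∧ c.pt = F := by
  exact Groth.Agent.H17.FPExt.exists_isColimit_fp F hF

end Groth.Agent.S2128
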