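import Groth.Statements.S2129
import Groth.Agent.H1Branch.LocalHom

set_option autoImplicit false
universe u
open CAlg

namespace Groth.Agent.S2129

/-- Let `R → S` be a smooth ring map, `𝔮` a prime of `S` over `𝔭`, and `A = R_𝔭 → B = S_𝔮` the induced
local homomorphism. Then strict henselizations of `A` and `B` have the same number of minimal prime
ideals (the same number of geometric branches, counted in ℕ∞, infinite counting as ∞). -/
theorem result {R S Ash Bsh : Type u} [CommRing R] [CommRing S] [Algebra R S]
    [Algebra.Smooth R S] (q : Ideal S) [q.IsPrime] (p : Ideal R) [p.IsPrime] [q.LiesOver p]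
    [CommRing Ash] [IsLocalRing Ash] [Algebra (Localization.AtPrime p) Ash]
    [IsLocalHom (algebraMap (Localization.AtPrime p) Ash)] [Hensel.IsStrictHenselization (Localization.AtPrime p) Ash]
    [CommRing Bsh] [IsLocalRing Bsh] [Algebra (Localization.AtPrime q) Bsh]
    [IsLocalHom (algebraMap (Localization.AtPrime q) Bsh)] [Hensel.IsStrictHenselization (Localization.AtPrime q) Bsh] :
    (minimalPrimes Ash).encard = (minimalPrimes Bsh).encard := by
  letI := Localization.AtPrime.algebraOfLiesOver p q
  haveI : IsLocalHom (algebraMap (Localization.AtPrime p) (Localization.AtPrime q)) :=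
    Localization.isLocalHom_localRingHom p q _ _
  obtain ⟨S', _, _, _, _, _, M, _⟩ := Groth.Agent.H1Branch.exists_smooth_presentation (R := R) q p
  show ENat.card (minimalPrimes Ash) = ENat.card (minimalPrimes Bsh)
  rw [Groth.Agent.H9Hens.card_minimalPrimes_strictHenselization (Localization.AtPrime p) Ash,
    Groth.Agent.H9Hens.card_minimalPrimes_strictHenselization (Localization.AtPrime q) Bsh]
  exact Groth.Agent.H1Branch.numGeomBranches_eq M

end Groth.Agent.S2129
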