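import Groth.Statements.S2131
import Mathlib.Algebra.Module.FinitePresentation
import Mathlib.RingTheory.Spectrum.Prime.Topology
import Mathlib.RingTheory.Localization.Away.Basic
import Mathlib.Algebra.Module.LocalizedModule.Exact

set_option autoImplicit false
universe u
open CAlg

namespace Groth.Agent.S2131

/-- For an `R`-linear map from a finite module to a finitely presented module, the primes at which its
localization is bijective form an open subset of `Spec R`. -/
theorem result {R M N : Type u} [CommRing R] [AddCommGroup M] [Module R M] [Module.Finite R M]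
    [AddCommGroup N] [Module R N] [Module.FinitePresentation R N] (φ : M →ₗ[R] N) :
    IsOpen {p : PrimeSpectrum R | Function.Bijective (LocalizedModule.map p.asIdeal.primeCompl φ)} := by
  rw [isOpen_iff_forall_mem_open]
  intro p hp
  let q := p.asIdeal
  obtain ⟨g, hg, h⟩ := Module.FinitePresentation.exists_notMem_bijective φ q
    (LocalizedModule.mkLinearMap q.primeCompl M) (LocalizedModule.mkLinearMap q.primeCompl N) hp
  refine ⟨PrimeSpectrum.basicOpen g, fun r hr => ?_, PrimeSpectrum.isOpen_basicOpen, hg⟩
  have hle : Submonoid.powers g ≤ r.asIdeal.primeCompl := by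
    rw [Submonoid.powers_le]; exact hr
  constructor
  · rw [injective_iff_map_eq_zero]
    intro z hz
    induction z using LocalizedModule.induction_on with
    | h m s =>
      rw [LocalizedModule.map_mk, ← LocalizedModule.zero_mk s, LocalizedModule.mk_eq] at hz
      obtain ⟨c, hc⟩ := hz
      simp only [smul_zero] at hc
      have h0 : φ ((c : R) • (s : R) • m) = 0 := by
        rw [map_smul, map_smul]; exact hc
      have h1 : LocalizedModule.map (Submonoid.powers g) φ (LocalizedModule.mk ((c : R) • (s : R) • m) 1) = 0 := by
        rw [LocalizedModule.map_mk, h0, LocalizedModule.zero_mk]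
      have h2 := h.1 (h1.trans (map_zero _).symm)
      rw [← LocalizedModule.zero_mk (1 : Submonoid.powers g), LocalizedModule.mk_eq] at h2
      obtain ⟨d, hd⟩ := h2
      simp only [smul_zero, one_smul] at hd
      rw [← LocalizedModule.zero_mk (1 : r.asIdeal.primeCompl), LocalizedModule.mk_eq]
      refine ⟨⟨(d : R) * (c : R) * (s : R), mul_mem (mul_mem (hle d.2) c.2) s.2⟩, ?_⟩
      simp only [smul_zero, one_smul, Submonoid.smul_def, mul_smul]
      simpa [Submonoid.smul_def] using hd
  · intro z
    induction z using LocalizedModule.induction_on with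
    | h n s =>
      obtain ⟨w, hw⟩ := h.2 (LocalizedModule.mk n 1)
      induction w using LocalizedModule.induction_on with
      | h m t =>
        rw [LocalizedModule.map_mk, LocalizedModule.mk_eq] at hw
        obtain ⟨c, hc⟩ := hw
        refine ⟨LocalizedModule.mk m (⟨(t : R), hle t.2⟩ * s), ?_⟩
        rw [LocalizedModule.map_mk, LocalizedModule.mk_eq]
        refine ⟨⟨(c : R), hle c.2⟩, ?_⟩
        simp only [Submonoid.smul_def, Submonoid.coe_mul, smul_smul, one_smul, Submonoid.coe_one, mul_one] at hc ⊢
        rw [mul_comm (t : R), ← mul_assoc, mul_comm (c : R) s, mul_smul, mul_smul, mul_smul]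
        rw [mul_smul] at hc
        rw [hc]

end Groth.Agent.S2131
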