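import Groth.Statements.S2132
import Mathlib.RingTheory.Henselian
import Mathlib.CategoryTheory.Limits.ConcreteCategory.Basic
import Mathlib.Algebra.Category.Ring.FilteredColimits
import Mathlib.RingTheory.Polynomial.Basic
-- import your own Groth.Agent.* helpers here

set_option autoImplicit false
universe u
open CategoryTheory
open CAlg
open CategoryTheory CategoryTheory.Limits

namespace Groth.Agent.S2132

/-- Let `F : J ⥤ CommRingCat` be a filtered diagram of henselian local rings with local transition maps
and `c` a colimit cocone. Then the colimit is a henselian local ring. -/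
theorem result {J : Type u} [SmallCategory J] [IsFiltered J] (F : J ⥤ CommRingCat.{u})
    (hF : ∀ j, HenselianLocalRing (F.obj j)) (hloc : ∀ (i j : J) (a : i ⟶ j), IsLocalHom (F.map a).hom)
    (c : Limits.Cocone F) (hc : Limits.IsColimit c) : HenselianLocalRing c.pt := by
  classical
  haveI : PreservesColimit F (forget CommRingCat.{u}) := inferInstance
  have hrep : ∀ x : c.pt, ∃ (j : J) (y : F.obj j), c.ι.app j y = x := fun x => Concrete.isColimit_exists_rep F hc x
  have hcompat : ∀ {i j : J} (a : i ⟶ j) (x : F.obj i), c.ι.app j (F.map a x) = c.ι.app i x := fun {i j} a x => by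
    rw [← c.w a]; rfl
  have heq : ∀ {i j : J} (x : F.obj i) (y : F.obj j), c.ι.app i x = c.ι.app j y →
      ∃ (k : J) (a : i ⟶ k) (b : j ⟶ k), F.map a x = F.map b y :=
    fun x y h => Concrete.isColimit_exists_of_rep_eq F hc x y h
  haveI hne : Nonempty J := IsFiltered.nonempty
  have hlocι : ∀ (j : J) (x : F.obj j), IsUnit (c.ι.app j x) → IsUnit x := by
    intro j x hx
    obtain ⟨y, hy⟩ := isUnit_iff_exists_inv.mp hx
    obtain ⟨i, z, rfl⟩ := hrep y
    let k := IsFiltered.max j i
    have h1 : c.ι.app k (F.map (IsFiltered.leftToMax j i) x * F.map (IsFiltered.rightToMax j i) z) = c.ι.app j 1 := by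
      rw [map_mul, hcompat, hcompat, map_one, hy]
    obtain ⟨l, a, b, hab⟩ := heq _ _ h1
    rw [map_one, map_mul] at hab
    have h2 : IsUnit (F.map a (F.map (IsFiltered.leftToMax j i) x)) := IsUnit.of_mul_eq_one _ hab
    haveI := hloc _ _ a
    haveI := hloc _ _ (IsFiltered.leftToMax j i)
    exact IsUnit.of_map (F.map (IsFiltered.leftToMax j i)).hom _ (IsUnit.of_map (F.map a).hom _ h2)
  haveI : ∀ j, HenselianLocalRing (F.obj j) := hF
  haveI : Nontrivial c.pt := by
    refine ⟨0, 1, fun h => ?_⟩
    obtain ⟨j⟩ := hne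
    have := hlocι j 0 (by rw [map_zero, h]; exact isUnit_one)
    exact not_isUnit_zero this
  haveI hlocal : IsLocalRing c.pt := by
    refine IsLocalRing.of_nonunits_add fun {a b} ha hb hab => ?_
    obtain ⟨i, x, rfl⟩ := hrep a
    obtain ⟨j, y, rfl⟩ := hrep b
    rw [← hcompat (IsFiltered.leftToMax i j), ← hcompat (IsFiltered.rightToMax i j), ← map_add] at hab
    rcases IsLocalRing.isUnit_or_isUnit_of_isUnit_add (hlocι _ _ hab) with h | h
    · exact ha (by rw [← hcompat (IsFiltered.leftToMax i j)]; exact h.map (c.ι.app (IsFiltered.max i j)).hom)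
    · exact hb (by rw [← hcompat (IsFiltered.rightToMax i j)]; exact h.map (c.ι.app (IsFiltered.max i j)).hom)
  constructor
  intro f hf a₀ h₁ h₂
  set d := f.natDegree
  let v : Fin (d + 1) → c.pt := fun i => if i.val < d then f.coeff i else a₀
  choose ji yi hyi using fun i : Fin (d + 1) => hrep (v i)
  obtain ⟨k, hk⟩ := IsFiltered.sup_objs_exists (Finset.univ.image ji)
  let coef : Fin (d + 1) → F.obj k := fun i => F.map (hk (Finset.mem_image_of_mem ji (Finset.mem_univ i))).some (yi i)
  have hcoef : ∀ i, c.ι.app k (coef i) = c.ι.app (ji i) (yi i) := fun i => hcompat _ _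
  let φ : F.obj k →+* c.pt := (c.ι.app k).hom
  have hci : ∀ i : Fin d, φ (coef i.castSucc) = f.coeff i := fun i => by
    rw [show φ (coef i.castSucc) = _ from hcoef _, hyi]
    exact if_pos i.2
  let b := coef (Fin.last d)
  have hb : φ b = a₀ := by
    rw [show φ b = _ from hcoef _, hyi]
    exact if_neg (by simp)
  let g : Polynomial (F.obj k) := Polynomial.X ^ d + ∑ i : Fin d, Polynomial.C (coef i.castSucc) * Polynomial.X ^ (i : ℕ)
  have hg : g.Monic := Polynomial.monic_X_pow_add (Polynomial.degree_sum_fin_lt _)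
  have hmap : g.map φ = f := by
    simp only [g, Polynomial.map_add, Polynomial.map_pow, Polynomial.map_X, Polynomial.map_sum, Polynomial.map_mul,
      Polynomial.map_C, hci]
    rw [Fin.sum_univ_eq_sum_range (fun i => Polynomial.C (f.coeff i) * Polynomial.X ^ i) d]
    exact hf.as_sum.symm
  have heval : ∀ (P : Polynomial (F.obj k)), (P.map φ).eval a₀ = φ (P.eval b) := fun P => by
    rw [← hb, Polynomial.eval_map, Polynomial.eval₂_hom]
  have h1' : g.eval b ∈ IsLocalRing.maximalIdeal (F.obj k) := fun hu =>
    h₁ (by rw [← hmap, heval]; exact hu.map φ)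
  have h2' : IsUnit (g.derivative.eval b) := by
    refine hlocι k _ ?_
    show IsUnit (φ _)
    rwa [← heval, ← Polynomial.derivative_map, hmap]
  obtain ⟨r, hr, hr'⟩ := HenselianLocalRing.is_henselian g hg b h1' h2'
  refine ⟨φ r, ?_, ?_⟩
  · show f.eval (φ r) = 0
    rw [← hmap, Polynomial.eval_map, Polynomial.eval₂_hom, show g.eval r = 0 from hr, map_zero]
  · intro hu
    rw [← hb, ← map_sub] at hu
    exact hr' (hlocι k _ hu)

end Groth.Agent.S2132
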