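import Groth.Statements.S2133
import Mathlib.RingTheory.Derivation.Basic
import Mathlib.Algebra.TrivSqZeroExt.Basic
import Mathlib.RingTheory.Localization.Away.Basic
import Mathlib.RingTheory.FiniteType
import Mathlib.Tactic.LinearCombination
-- import your own Groth.Agent.* helpers here

set_option autoImplicit false
universe u
open CAlg

namespace Groth.Agent.S2133

/-- Let `R → R'` be an injective ring map of finite type and `g ∈ R` a nonzerodivisor on `R'` such that
every element of `R'` lands in `R` after multiplication by a power of `g` (so `R_g = R'_g`). Then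
for every derivation `D` of `R` there is `N` such that `g^N D` extends to a derivation of `R'`. -/
theorem result {R R' : Type u} [CommRing R] [CommRing R'] [Algebra R R'] [Algebra.FiniteType R R']
    (hinj : Function.Injective (algebraMap R R')) (g : R) (hg : IsSMulRegular R' (algebraMap R R' g))
    (hloc : ∀ x : R', ∃ n : ℕ, (algebraMap R R' g) ^ n * x ∈ Set.range (algebraMap R R')) (D : Derivation ℤ R R) :
    ∃ (N : ℕ) (D' : Derivation ℤ R' R'), ∀ r : R, D' (algebraMap R R' r) = algebraMap R R' (g ^ N * D r) := by
  classical
  let g' := algebraMap R R' g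
  let K := Localization.Away g'
  let ι : R →+* K := (algebraMap R' K).comp (algebraMap R R')
  have hK : Function.Injective (algebraMap R' K) := IsLocalization.injective K (M := Submonoid.powers g') (by
    rintro _ ⟨n, rfl⟩
    exact mem_nonZeroDivisors_iff_right.mpr fun z hz => (hg.pow n) (show g' ^ n * z = g' ^ n * 0 by rw [mul_zero, mul_comm]; exact hz))
  haveI hloc' : IsLocalization.Away g K := by
    refine { map_units := ?_, surj := ?_, exists_of_eq := ?_ }
    · rintro ⟨_, n, rfl⟩
      show IsUnit (ι (g ^ n))
      rw [map_pow]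
      exact (IsLocalization.Away.algebraMap_isUnit g').pow n
    · intro z
      obtain ⟨⟨x, ⟨_, n, rfl⟩⟩, hz⟩ := IsLocalization.surj (Submonoid.powers g') z
      obtain ⟨m, r, hr⟩ := hloc x
      refine ⟨⟨r, ⟨g ^ (n + m), n + m, rfl⟩⟩, ?_⟩
      show z * ι (g ^ (n + m)) = ι r
      have hz' : z * algebraMap R' K (g' ^ n) = algebraMap R' K x := hz
      rw [show ι r = algebraMap R' K (algebraMap R R' r) from rfl, hr, map_mul, ← hz']
      show z * algebraMap R' K (algebraMap R R' (g ^ (n + m))) = _
      rw [map_pow, map_pow, map_pow, map_pow, pow_add]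
      ring
    · intro x y h
      exact ⟨1, by rw [hinj (hK h)]⟩
  -- the derivation into `K`, scaled by `g ^ N`
  have hext : ∀ N : ℕ, ∃ δ : K →+ K, (∀ x y, δ (x * y) = x * δ y + y * δ x) ∧ ∀ r, δ (ι r) = ι (g ^ N * D r) := by
    intro N
    let f : R →+* (TrivSqZeroExt K K) :=
      { toFun := fun r => TrivSqZeroExt.inl (ι r) + TrivSqZeroExt.inr (ι (g ^ N * D r))
        map_one' := by simp [Derivation.map_one_eq_zero]
        map_zero' := by simp
        map_add' := fun a b => by refine TrivSqZeroExt.ext ?_ ?_ <;> simp [mul_add] <;> ring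
        map_mul' := fun a b => by
          refine TrivSqZeroExt.ext ?_ ?_
          · simp
          · simp [Derivation.leibniz]
            ring }
    have hu : IsUnit (f g) := by
      rw [TrivSqZeroExt.isUnit_iff_isUnit_fst]
      have : (f g).fst = ι g := by simp [f]
      rw [this]
      exact IsLocalization.Away.algebraMap_isUnit (S := K) g
    let E : K →+* (TrivSqZeroExt K K) := IsLocalization.Away.lift g hu
    have hE : ∀ r, E (ι r) = f r := fun r => IsLocalization.Away.lift_eq g hu r
    have hfst : ∀ x, (E x).fst = x := by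
      have : ((TrivSqZeroExt.fstHom K K K).toRingHom.comp E) = RingHom.id K :=
        IsLocalization.ringHom_ext (Submonoid.powers g) (RingHom.ext fun r => by
          show (E (ι r)).fst = ι r
          rw [hE]; simp [f])
      exact fun x => RingHom.congr_fun this x
    refine ⟨(TrivSqZeroExt.sndHom K K).toAddMonoidHom.comp E.toAddMonoidHom, fun x y => ?_, fun r => ?_⟩
    · show (E (x * y)).snd = x * (E y).snd + y * (E x).snd
      rw [map_mul, TrivSqZeroExt.snd_mul, hfst, hfst, op_smul_eq_smul]
      rfl
    · show (E (ι r)).snd = _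
      rw [hE]; simp [f]
  obtain ⟨G, hG⟩ := (inferInstance : Algebra.FiniteType R R').out
  choose nn rr hrr using fun x : R' => hloc x
  let N := G.sup nn
  obtain ⟨δ, hmul, hι⟩ := hext N
  have hmem : ∀ x : R', δ (algebraMap R' K x) ∈ (algebraMap R' K).range := by
    intro x
    have hx : x ∈ Algebra.adjoin R (G : Set R') := hG ▸ Algebra.mem_top
    induction hx using Algebra.adjoin_induction with
    | mem x hx =>
      have hn : nn x ≤ N := Finset.le_sup hx
      have hgi : algebraMap R' K g' = ι g := rfl
      -- differentiate `g ^ n * x = r`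
      have h1 := congrArg (fun z => δ (algebraMap R' K z)) (hrr x)
      simp only [map_mul, ← map_pow, hmul] at h1
      have h2 : δ (algebraMap R' K (algebraMap R R' (rr x))) = ι (g ^ N * D (rr x)) := hι _
      have h3 : δ (algebraMap R' K (algebraMap R R' (g ^ nn x))) = ι (g ^ N * D (g ^ nn x)) := hι _
      rw [h2] at h1
      rw [h3] at h1
      refine ⟨algebraMap R R' (g ^ (N - nn x) * D (rr x)) - x * algebraMap R R' (g ^ (N - nn x) * D (g ^ nn x)), ?_⟩
      have hu : IsUnit (ι (g ^ nn x)) := by
        rw [map_pow]
        exact (IsLocalization.Away.algebraMap_isUnit (S := K) g).pow _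
      refine hu.mul_left_cancel ?_
      have hpow : g ^ N = g ^ nn x * g ^ (N - nn x) := by rw [← pow_add, Nat.add_sub_cancel' hn]
      rw [hpow] at h1
      simp only [ι, RingHom.comp_apply, map_mul, map_sub] at h1 ⊢
      linear_combination h1
    | algebraMap r => exact ⟨algebraMap R R' (g ^ N * D r), (hι r).symm⟩
    | add x y _ _ hx hy => rw [map_add, map_add]; exact add_mem hx hy
    | mul x y _ _ hx hy =>
      rw [map_mul, hmul]
      exact add_mem (mul_mem ⟨x, rfl⟩ hy) (mul_mem ⟨y, rfl⟩ hx)
  choose D' hD' using hmem
  let L : R' →+ R' := AddMonoidHom.mk' D' fun x y => hK (by rw [map_add, hD', hD', hD', map_add, map_add])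
  refine ⟨N, Derivation.mk' L.toIntLinearMap fun x y => hK ?_, fun r => hK ?_⟩
  · show algebraMap R' K (D' (x * y)) = algebraMap R' K (x * D' y + y * D' x)
    rw [map_add (algebraMap R' K), map_mul (algebraMap R' K) x (D' y), map_mul (algebraMap R' K) y (D' x),
      hD', hD', hD', map_mul (algebraMap R' K) x y, hmul]
  · show algebraMap R' K (D' (algebraMap R R' r)) = _
    rw [hD']
    exact hι r

end Groth.Agent.S2133
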