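import Groth.Statements.S2134
import Mathlib.FieldTheory.IntermediateField.Basic
import Mathlib.Data.Fintype.Powerset
import Mathlib.LinearAlgebra.Pi

set_option autoImplicit false
universe u
open CAlg

namespace Groth.Agent.S2134

/-- Let `K/k` be a field extension and `(K_α)` a nonempty family of intermediate fields, directed
downwards, with intersection `k`. For a `K`-subspace `V` of `K^n` (`n ≥ 1`), `V` contains a nonzero
vector with all coordinates in `k` if and only if for every `α` it contains a nonzero vector with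
all coordinates in `K_α`. -/
theorem result {k K : Type u} [Field k] [Field K] [Algebra k K] {ι : Type u} [Nonempty ι]
    (F : ι → IntermediateField k K) (hdir : ∀ a b : ι, ∃ c, F c ≤ F a ⊓ F b) (hinf : ⨅ a, F a = ⊥) (n : ℕ) (hn : 1 ≤ n)
    (V : Submodule K (Fin n → K)) :
    (∃ v ∈ V, v ≠ 0 ∧ ∀ i, v i ∈ Set.range (algebraMap k K)) ↔
      ∀ a, ∃ v ∈ V, v ≠ 0 ∧ ∀ i, v i ∈ F a := by
  classical
  constructor
  · rintro ⟨v, hv, hv0, hvk⟩ a
    refine ⟨v, hv, hv0, fun i => ?_⟩
    obtain ⟨c, hc⟩ := hvk i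
    rw [← hc]
    exact (F a).algebraMap_mem c
  intro H
  let supp : (Fin n → K) → Finset (Fin n) := fun v => Finset.univ.filter fun i => v i ≠ 0
  let P : ι → ℕ → Prop := fun a m => ∃ v ∈ V, v ≠ 0 ∧ (∀ i, v i ∈ F a) ∧ (supp v).card = m
  have hP : ∀ a, ∃ m, P a m := fun a => by
    obtain ⟨v, h1, h2, h3⟩ := H a
    exact ⟨_, v, h1, h2, h3, rfl⟩
  let m : ι → ℕ := fun a => Nat.find (hP a)
  have hm : ∀ a, m a ≤ n := fun a => by
    obtain ⟨v, -, -, -, hc⟩ := Nat.find_spec (hP a)
    show Nat.find (hP a) ≤ n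
    rw [← hc]
    exact (Finset.card_le_univ _).trans (Fintype.card_fin n).le
  obtain ⟨a, hmax⟩ : ∃ a, ∀ c, m c ≤ m a := by
    have hfin : (Set.range m).Finite := (Set.finite_Iic n).subset (by rintro _ ⟨b, rfl⟩; exact hm b)
    obtain ⟨_, ⟨a, rfl⟩, ha⟩ := Set.exists_max_image _ id hfin (Set.range_nonempty m)
    exact ⟨a, fun c => ha _ ⟨c, rfl⟩⟩
  -- normalized minimal vectors
  let E : Set (Fin n → K) := {v | v ∈ V ∧ (∀ i, v i ∈ F a) ∧ (supp v).card = m a ∧ ∃ i, v i = 1}
  have hEfin : E.Finite := by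
    have : Set.InjOn (fun v => (supp v, (Finset.univ.filter fun i => v i = 1 : Finset (Fin n)))) E := by
      intro v hv w hw hvw
      obtain ⟨h1, h2⟩ := Prod.ext_iff.mp hvw
      simp only at h1 h2
      obtain ⟨i, hi⟩ := hv.2.2.2
      have hwi : w i = 1 := (Finset.mem_filter.mp (h2 ▸ Finset.mem_filter.mpr ⟨Finset.mem_univ i, hi⟩ :
        i ∈ Finset.univ.filter fun j => w j = 1)).2
      by_contra hne
      have hlt : (supp (v - w)).card < m a := by
        rw [← hv.2.2.1]
        refine Finset.card_lt_card ⟨fun j hj => ?_, fun hle => ?_⟩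
        · by_contra hjv
          have hjw : j ∉ supp w := fun h => hjv (by have := h1; exact this ▸ h)
          simp [supp] at hj hjv hjw
          exact hj (by rw [hjv, hjw, sub_zero])
        · have : i ∈ supp (v - w) := hle (by simp [supp, hi])
          simp [supp, hi, hwi] at this
      exact Nat.find_min (hP a) hlt ⟨v - w, V.sub_mem hv.1 hw.1, sub_ne_zero.mpr hne,
        fun j => (F a).sub_mem (hv.2.1 j) (hw.2.1 j), rfl⟩
    exact Set.Finite.of_finite_image (Set.toFinite _) this
  by_contra hcon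
  have hbad : ∀ v ∈ E, ∃ i b, v i ∉ F b := by
    intro v hv
    by_contra h
    push Not at h
    refine hcon ⟨v, hv.1, ?_, fun i => ?_⟩
    · obtain ⟨i, hi⟩ := hv.2.2.2
      exact fun h0 => one_ne_zero (hi.symm.trans (congrFun h0 i))
    · have hmem : v i ∈ (⊥ : IntermediateField k K) := by
        rw [← hinf, ← SetLike.mem_coe, IntermediateField.coe_iInf, Set.mem_iInter]
        exact fun b => h i b
      exact IntermediateField.mem_bot.mp hmem
  choose! idx b hb using hbad
  have hlow : ∀ s : Finset (Fin n → K), ∃ c, F c ≤ F a ∧ ∀ v ∈ s, F c ≤ F (b v) := by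
    intro s
    induction s using Finset.induction with
    | empty => exact ⟨a, le_rfl, fun _ h => absurd h (Finset.notMem_empty _)⟩
    | insert v s _ ih =>
      obtain ⟨c, hca, hcs⟩ := ih
      obtain ⟨d, hd⟩ := hdir c (b v)
      refine ⟨d, (hd.trans inf_le_left).trans hca, fun w hw => ?_⟩
      rcases Finset.mem_insert.mp hw with rfl | hw
      · exact hd.trans inf_le_right
      · exact (hd.trans inf_le_left).trans (hcs w hw)
  obtain ⟨c, hca, hcb⟩ := hlow hEfin.toFinset
  obtain ⟨v, hvV, hv0, hvF, hvm⟩ := Nat.find_spec (hP c)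
  obtain ⟨i, hi⟩ : ∃ i, v i ≠ 0 := by
    by_contra h
    push Not at h
    exact hv0 (funext h)
  have hmeq : m c = m a := le_antisymm (hmax c) (Nat.find_min' (hP a) ⟨v, hvV, hv0, fun j => hca (hvF j), hvm⟩)
  let w := (v i)⁻¹ • v
  have hwF : ∀ j, w j ∈ F c := fun j => (F c).mul_mem ((F c).inv_mem (hvF i)) (hvF j)
  have hsupp : supp w = supp v := by
    ext j; simp [supp, w, hi]
  have hwE : w ∈ E := ⟨V.smul_mem _ hvV, fun j => hca (hwF j), by rw [hsupp]; exact hvm.trans hmeq, i, by simp [w, hi]⟩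
  exact hb w hwE (hcb w (hEfin.mem_toFinset.mpr hwE) (hwF _))

end Groth.Agent.S2134
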