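import Groth.Statements.S2140
import Mathlib.RingTheory.AlgebraicIndependent.TranscendenceBasis
import Mathlib.RingTheory.Finiteness.ModuleFinitePresentation
import Mathlib.RingTheory.RingHom.FinitePresentation
import Mathlib.RingTheory.Localization.Integral
import Mathlib.RingTheory.Localization.Integer
-- import your own Groth.Agent.* helpers here

set_option autoImplicit false
universe u
open CAlg

namespace Groth.Agent.S2140

/-- Generic finite presentation: a finite type algebra of domains is finitely presented after inverting one element. -/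
theorem exists_finitePresentation_away (R S : Type u) [CommRing R] [IsDomain R] [CommRing S] [IsDomain S]
    [Algebra R S] [Algebra.FiniteType R S] (hinj : Function.Injective (algebraMap R S)) :
    ∃ g : S, g ≠ 0 ∧ Algebra.FinitePresentation R (Localization.Away g) := by
  classical
  haveI : FaithfulSMul R S := (faithfulSMul_iff_algebraMap_injective R S).mpr hinj
  obtain ⟨G, hG⟩ := Algebra.FiniteType.out (R := R) (A := S)
  haveI : Algebra.IsAlgebraic (Algebra.adjoin R (G : Set S)) S :=
    ⟨fun x => isAlgebraic_algebraMap (⟨x, hG.ge trivial⟩ : Algebra.adjoin R (G : Set S))⟩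
  obtain ⟨t, htG, ht⟩ := exists_isTranscendenceBasis_subset (R := R) (G : Set S)
  haveI : Finite t := Set.Finite.to_subtype (G.finite_toSet.subset htG)
  let P := Algebra.adjoin R (Set.range ((↑) : t → S))
  haveI : Algebra.IsAlgebraic P S := ht.isAlgebraic
  haveI : Algebra.FinitePresentation R P := Algebra.FinitePresentation.equiv ht.1.aevalEquiv
  let L := FractionRing S
  haveI : FaithfulSMul P L := (faithfulSMul_iff_algebraMap_injective P L).mpr (by
    rw [IsScalarTower.algebraMap_eq P S L]
    exact (IsFractionRing.injective S L).comp Subtype.val_injective)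
  let K₀ := FractionRing P
  letI : Algebra K₀ L := FractionRing.liftAlgebra P L
  -- the span of `S` in `L` is finite
  let T : Set L := algebraMap S L '' (G : Set S)
  have hint : ∀ z ∈ T, IsIntegral K₀ z := by
    rintro _ ⟨x, -, rfl⟩
    refine IsAlgebraic.isIntegral ?_
    exact IsAlgebraic.extendScalars (IsFractionRing.injective P K₀)
      (IsAlgebraic.algHom (IsScalarTower.toAlgHom P S L) (Algebra.IsAlgebraic.isAlgebraic x))
  let T' := Algebra.adjoin K₀ T
  haveI : Module.Finite K₀ T' := Module.Finite.iff_fg.mpr (fg_adjoin_of_finite (G.finite_toSet.image _) hint)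
  have hST : ∀ x : S, algebraMap S L x ∈ T' := fun x => by
    have hx : x ∈ Algebra.adjoin R (G : Set S) := hG.ge trivial
    induction hx using Algebra.adjoin_induction with
    | mem x hx => exact Algebra.subset_adjoin ⟨x, hx, rfl⟩
    | algebraMap r =>
      rw [show algebraMap S L (algebraMap R S r) = algebraMap P L (algebraMap R P r) from rfl,
        IsScalarTower.algebraMap_apply P K₀ L]
      exact T'.algebraMap_mem _
    | add x y _ _ hx hy => rw [map_add]; exact add_mem hx hy
    | mul x y _ _ hx hy => rw [map_mul]; exact mul_mem hx hy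
  obtain ⟨b, hbS, hbspan, hbli⟩ := exists_linearIndependent K₀ (Set.range (algebraMap S L))
  haveI : Finite b := by
    have hle : Submodule.span K₀ b ≤ Subalgebra.toSubmodule T' := by
      rw [hbspan, Submodule.span_le]; rintro _ ⟨x, rfl⟩; exact hST x
    let v : b → T' := fun x => ⟨x.1, hle (Submodule.subset_span x.2)⟩
    exact (LinearIndependent.of_comp (v := v) T'.val.toLinearMap hbli).finite
  haveI : Fintype b := Fintype.ofFinite b
  choose β hβ using fun x : b => hbS x.2
  -- denominators of the products with the generators and of `1`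
  let E : Finset L := insert 1 ((G ×ˢ (Finset.univ : Finset b)).image fun q => algebraMap S L q.1 * q.2.1)
  have hE : ∀ z ∈ E, z ∈ Submodule.span K₀ (Set.range ((↑) : b → L)) := by
    intro z hz
    rw [Subtype.range_coe, hbspan]
    refine Submodule.subset_span ?_
    rcases Finset.mem_insert.mp hz with rfl | hz
    · exact ⟨1, map_one _⟩
    · obtain ⟨q, -, rfl⟩ := Finset.mem_image.mp hz
      exact ⟨q.1 * β q.2, by rw [map_mul, hβ]⟩
  choose c hc using fun z : E => (Submodule.mem_span_range_iff_exists_fun K₀).mp (hE z.1 z.2)
  obtain ⟨⟨d, hd⟩, hdc⟩ := IsLocalization.exist_integer_multiples (nonZeroDivisors P) Finset.univ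
    (fun q : E × b => c q.1 q.2)
  have hd0 : d ≠ 0 := nonZeroDivisors.ne_zero hd
  let g : S := algebraMap P S d
  have hg0 : g ≠ 0 := fun h => hd0 (Subtype.ext h)
  refine ⟨g, hg0, ?_⟩
  let Pd := Localization.Away d
  let Sg := Localization.Away g
  let ι : Pd →+* Sg := Localization.awayMap (algebraMap P S) d
  letI : Algebra Pd Sg := ι.toAlgebra
  haveI : IsScalarTower P Pd Sg := IsScalarTower.of_algebraMap_eq fun x => by
    show algebraMap P Sg x = IsLocalization.Away.map Pd Sg (algebraMap P S) d (algebraMap P Pd x)
    unfold IsLocalization.Away.map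
    rw [IsLocalization.map_eq, ← IsScalarTower.algebraMap_apply]
  haveI : IsScalarTower R Pd Sg := IsScalarTower.of_algebraMap_eq fun r => by
    rw [IsScalarTower.algebraMap_apply R P Pd, ← IsScalarTower.algebraMap_apply P Pd Sg,
      ← IsScalarTower.algebraMap_apply R P Sg]
  have hgL : IsUnit (algebraMap S L g) := IsUnit.mk0 _ fun h => hg0 (IsFractionRing.injective S L (h.trans (map_zero _).symm))
  let j : Sg →+* L := IsLocalization.Away.lift g hgL
  have hj : ∀ x, j (algebraMap S Sg x) = algebraMap S L x := fun x => IsLocalization.Away.lift_eq g hgL x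
  have hjinj : Function.Injective j := by
    rw [injective_iff_map_eq_zero]
    intro z hz
    obtain ⟨n, x, hx⟩ := IsLocalization.Away.surj g z
    have h0 : algebraMap S L x = 0 := by rw [← hj, ← hx, map_mul, hz, zero_mul]
    rw [IsFractionRing.injective S L (h0.trans (map_zero _).symm), map_zero] at hx
    exact ((IsLocalization.Away.algebraMap_isUnit g).pow n).mul_left_eq_zero.mp hx
  have hjP : ∀ x : P, j (algebraMap P Sg x) = algebraMap P L x := fun x => by
    rw [IsScalarTower.algebraMap_apply P S Sg, hj, ← IsScalarTower.algebraMap_apply P S L]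
  let Φ : (b → Pd) →ₗ[Pd] Sg := Fintype.linearCombination Pd fun x => algebraMap S Sg (β x)
  have hΦ : Function.Bijective Φ := by
    refine ⟨?_, ?_⟩
    · rw [injective_iff_map_eq_zero]
      intro v hv
      obtain ⟨⟨s, n, rfl⟩, hs⟩ := IsLocalization.exist_integer_multiples_of_finite (Submonoid.powers d) v
      choose a ha using hs
      have h0 : ∑ x, algebraMap P Pd (a x) • algebraMap S Sg (β x) = 0 := by
        have : Φ ((d ^ n) • v) = 0 := by rw [LinearMap.map_smul_of_tower, hv, smul_zero]
        rw [← this, Fintype.linearCombination_apply]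
        exact Finset.sum_congr rfl fun x _ => by rw [ha x]; rfl
      have h1 := congrArg j h0
      simp only [map_sum, map_zero, algebraMap_smul, Algebra.smul_def, map_mul, hjP, hj, hβ] at h1
      have h2 : ∑ x, algebraMap P K₀ (a x) • (x : L) = 0 := by
        rw [← h1]; exact Finset.sum_congr rfl fun x _ => by
          rw [Algebra.smul_def, ← IsScalarTower.algebraMap_apply, ← IsScalarTower.algebraMap_apply P Pd Sg, hjP]
      funext x
      have h3 := Fintype.linearIndependent_iff.mp hbli _ h2 x
      have h4 : a x = 0 := IsFractionRing.injective P K₀ (h3.trans (map_zero _).symm)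
      have h5 := ha x
      rw [h4, map_zero, Algebra.smul_def] at h5
      exact (IsUnit.mul_right_eq_zero (IsLocalization.map_units Pd (⟨_, n, rfl⟩ : Submonoid.powers d))).mp h5.symm
    · rw [← LinearMap.range_eq_top, eq_top_iff]
      intro z _
      obtain ⟨u, hu⟩ := IsLocalization.Away.algebraMap_isUnit (S := Pd) d
      -- coordinates of elements of `E`
      have hEmem : ∀ (y : S), algebraMap S L y ∈ E → algebraMap S Sg y ∈ LinearMap.range Φ := by
        intro y hy
        choose a ha using fun x : b => hdc (⟨_, hy⟩, x) (Finset.mem_univ _)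
        have h1 : algebraMap P Sg d * algebraMap S Sg y = Φ fun x => algebraMap P Pd (a x) := by
          apply hjinj
          rw [map_mul, hjP, hj, Fintype.linearCombination_apply, map_sum]
          conv_lhs => rw [show algebraMap S L y = _ from (hc ⟨_, hy⟩).symm, Finset.mul_sum]
          refine Finset.sum_congr rfl fun x _ => ?_
          rw [Algebra.smul_def, Algebra.smul_def, map_mul, ← IsScalarTower.algebraMap_apply P Pd Sg, hjP, hj, hβ,
            IsScalarTower.algebraMap_apply P K₀ L (a x), ha x, Algebra.smul_def, map_mul,
            ← IsScalarTower.algebraMap_apply P K₀ L, mul_assoc]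
        refine ⟨(↑u⁻¹ : Pd) • fun x => algebraMap P Pd (a x), ?_⟩
        rw [map_smul, ← h1, Algebra.smul_def, IsScalarTower.algebraMap_apply P Pd Sg, ← mul_assoc, ← map_mul, ← hu,
          Units.inv_mul, map_one, one_mul]
      have h1 : (1 : Sg) ∈ LinearMap.range Φ := by
        have := hEmem 1 (by rw [map_one]; exact Finset.mem_insert_self _ _)
        rwa [map_one] at this
      have hS : ∀ y : S, algebraMap S Sg y ∈ LinearMap.range Φ := by
        have hclosed : ∀ y : S, ∀ w ∈ LinearMap.range Φ, algebraMap S Sg y * w ∈ LinearMap.range Φ := by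
          intro y
          have hy : y ∈ Algebra.adjoin R (G : Set S) := hG.ge trivial
          induction hy using Algebra.adjoin_induction with
          | mem y hy =>
            rintro _ ⟨v, rfl⟩
            rw [Fintype.linearCombination_apply, Finset.mul_sum]
            refine Submodule.sum_mem _ fun x _ => ?_
            rw [mul_smul_comm, ← map_mul]
            refine Submodule.smul_mem _ _ (hEmem _ ?_)
            rw [map_mul, hβ]
            exact Finset.mem_insert_of_mem (Finset.mem_image.mpr ⟨(y, x), Finset.mem_product.mpr ⟨hy, Finset.mem_univ _⟩, rfl⟩)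
          | algebraMap r =>
            intro w hw
            rw [← IsScalarTower.algebraMap_apply R S Sg, IsScalarTower.algebraMap_apply R Pd Sg, ← Algebra.smul_def]
            exact Submodule.smul_mem _ _ hw
          | add x y _ _ hx hy => intro w hw; rw [map_add, add_mul]; exact add_mem (hx w hw) (hy w hw)
          | mul x y _ _ hx hy => intro w hw; rw [map_mul, mul_assoc]; exact hx _ (hy w hw)
        intro y
        simpa using hclosed y 1 h1
      obtain ⟨n, y, hy⟩ := IsLocalization.Away.surj g z
      have hun : z = algebraMap Pd Sg ((↑u⁻¹ : Pd) ^ n) * algebraMap S Sg y := by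
        rw [← hy, show algebraMap S Sg g = algebraMap Pd Sg u from by
          rw [hu, ← IsScalarTower.algebraMap_apply P Pd Sg, ← IsScalarTower.algebraMap_apply P S Sg],
          ← map_pow, mul_left_comm, ← map_mul, ← mul_pow, Units.inv_mul, one_pow, map_one, mul_one]
      rw [hun, ← Algebra.smul_def]
      exact Submodule.smul_mem _ _ (hS y)
  haveI : Module.FinitePresentation Pd Sg :=
    Module.finitePresentation_of_surjective Φ hΦ.2 (by rw [LinearMap.ker_eq_bot.mpr hΦ.1]; exact Submodule.fg_bot)
  haveI : Algebra.FinitePresentation P Pd := IsLocalization.Away.finitePresentation d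
  haveI : Algebra.FinitePresentation R Pd := Algebra.FinitePresentation.trans R P Pd
  exact Algebra.FinitePresentation.trans R Pd Sg

/-- Let `R → S` be an injective ring map of finite type between domains. Then there are nonzero `f ∈ R`
and `g ∈ S` such that `S_{fg}` is a finitely presented `R_f`-algebra. -/
theorem result {R S : Type u} [CommRing R] [IsDomain R] [CommRing S] [IsDomain S]
    [Algebra R S] [Algebra.FiniteType R S] (hinj : Function.Injective (algebraMap R S)) :
    ∃ (f : R) (g : S), f ≠ 0 ∧ g ≠ 0 ∧
      ∀ (Rf Sfg : Type u) [CommRing Rf] [CommRing Sfg] [Algebra R Rf] [IsLocalization.Away f Rf]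
        [Algebra S Sfg] [IsLocalization.Away (algebraMap R S f * g) Sfg] [Algebra Rf Sfg] [Algebra R Sfg]
        [IsScalarTower R S Sfg] [IsScalarTower R Rf Sfg], Algebra.FinitePresentation Rf Sfg := by
  obtain ⟨g, hg, hfp⟩ := exists_finitePresentation_away R S hinj
  refine ⟨1, g, one_ne_zero, hg, ?_⟩
  intro Rf Sfg _ _ _ _ _ _ _ _ _ _
  haveI : IsLocalization.Away g Sfg := by
    have h := ‹IsLocalization.Away (algebraMap R S 1 * g) Sfg›
    rw [map_one, one_mul] at h
    exact h
  haveI := hfp
  haveI : Algebra.FinitePresentation R Sfg :=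
    Algebra.FinitePresentation.equiv ((IsLocalization.algEquiv (Submonoid.powers g) (Localization.Away g) Sfg).restrictScalars R)
  haveI : Algebra.FinitePresentation R Rf := IsLocalization.Away.finitePresentation (1 : R)
  exact Algebra.FinitePresentation.of_restrict_scalars_finitePresentation R Rf Sfg

end Groth.Agent.S2140
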