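import Groth.Statements.S2141
import Groth.Agent.H1CAlg.LocalDim
-- import your own Groth.Agent.* helpers here

set_option autoImplicit false
universe u
open CAlg

namespace Groth.Agent.S2141

/-- Let `S` be of finite type over a field `k` and `𝔭` a prime of `S` whose residue field has
transcendence degree `r` over `k`. Then the local dimension of `Spec S` at `𝔭` equals `dim S_𝔭 + r`. -/
theorem result {k S : Type u} [Field k] [CommRing S] [Algebra k S] [Algebra.FiniteType k S]
    (p : Ideal S) [p.IsPrime] (r : ℕ) (hr : Algebra.trdeg k p.ResidueField = r) :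
    FlatMor.localDim (PrimeSpectrum S) ⟨p, inferInstance⟩ = ringKrullDim (Localization.AtPrime p) + (r : WithBot ℕ∞) := by
  rw [Groth.Agent.H1CAlg.localDim_spec_eq_height_add (k := k) ⟨p, inferInstance⟩,
    IsLocalization.AtPrime.ringKrullDim_eq_height p (Localization.AtPrime p)]
  show (p.height : WithBot ℕ∞) + ringKrullDim (S ⧸ p) = _
  rw [Groth.Agent.H1CAlg.dim_quotient_eq_trdeg p r hr]

end Groth.Agent.S2141
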