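import Groth.Statements.S2144
import Groth.Agent.H13Flat.Algebra

set_option autoImplicit false
universe u
open CAlg

namespace Groth.Agent.S2144

open TensorProduct in
/-- Let `R → A → B` be ring maps with `A → B` faithfully flat and of finite presentation. Then there are
an `R`-algebra `A₀` of finite presentation mapping to `A` and a faithfully flat finitely presented
`A₀`-algebra `B₀` with `B ≅ A ⊗_{A₀} B₀` as `A`-algebras. -/
theorem result {R A B : Type u} [CommRing R] [CommRing A] [CommRing B] [Algebra R A]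
    [Algebra A B] [Algebra.FinitePresentation A B] [Module.FaithfullyFlat A B] :
    ∃ (A₀ B₀ : Type u) (_ : CommRing A₀) (_ : CommRing B₀) (_ : Algebra R A₀) (_ : Algebra A₀ A) (_ : IsScalarTower R A₀ A)
      (_ : Algebra A₀ B₀), Algebra.FinitePresentation R A₀ ∧ Algebra.FinitePresentation A₀ B₀ ∧ Module.FaithfullyFlat A₀ B₀ ∧
      Nonempty (B ≃ₐ[A] A ⊗[A₀] B₀) := by
  obtain ⟨S, hS, B₀, _, _, _, _, ⟨e⟩⟩ := Groth.Agent.H13Flat.exists_faithfullyFlat_stage A B
  have hSfp : Algebra.FinitePresentation ℤ S := by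
    have : Algebra.FiniteType ℤ S := S.fg_iff_finiteType.1 hS
    exact Algebra.FinitePresentation.of_finiteType.1 this
  let : Algebra S (R ⊗[ℤ] S) := (Algebra.TensorProduct.includeRight (R := ℤ) (A := R)).toRingHom.toAlgebra
  let φ : R ⊗[ℤ] S →ₐ[R] A := Algebra.TensorProduct.lift (Algebra.ofId R A) S.val fun _ _ => .all _ _
  let : Algebra (R ⊗[ℤ] S) A := φ.toRingHom.toAlgebra
  have : IsScalarTower R (R ⊗[ℤ] S) A := .of_algebraMap_eq fun x => (φ.commutes x).symm
  have : IsScalarTower S (R ⊗[ℤ] S) A := .of_algebraMap_eq fun x => by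
    change _ = φ (1 ⊗ₜ x)
    simp [φ]
  exact ⟨R ⊗[ℤ] S, (R ⊗[ℤ] S) ⊗[S] B₀, inferInstance, inferInstance, inferInstance, inferInstance,
    inferInstance, inferInstance, inferInstance, inferInstance, inferInstance,
    ⟨e.symm.trans (Algebra.TensorProduct.cancelBaseChange S (R ⊗[ℤ] S) A A B₀).symm⟩⟩

end Groth.Agent.S2144
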