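import Groth.Statements.S2145
import Mathlib.RingTheory.FinitePresentation
import Mathlib.RingTheory.Localization.Away.Basic
import Mathlib.RingTheory.Localization.AtPrime.Basic
-- import your own Groth.Agent.* helpers here

set_option autoImplicit false
universe u
open CAlg

namespace Groth.Agent.S2145

variable {R S : Type u} [CommRing R] [CommRing S] [Algebra R S]

/-- The map out of `S[1/g]`. -/
noncomputable def awayLift {P : Type u} [CommRing P] [Algebra R P] (g : S) (f : S →ₐ[R] P)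
    (hf : IsUnit (f g)) : Localization.Away g →ₐ[R] P :=
  IsLocalization.liftAlgHom (M := Submonoid.powers g) (f := f) (by
    rintro ⟨_, n, rfl⟩
    show IsUnit (f (g ^ n))
    rw [map_pow]; exact hf.pow n)

theorem awayLift_algebraMap {P : Type u} [CommRing P] [Algebra R P] (g : S) (f : S →ₐ[R] P)
    (hf : IsUnit (f g)) (x : S) : awayLift g f hf (algebraMap S _ x) = f x :=
  IsLocalization.lift_eq _ x

/-- The canonical map `S → S[1/g]`. -/
noncomputable abbrev can (g : S) : S →ₐ[R] Localization.Away g := IsScalarTower.toAlgHom R S _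

theorem hom_ext {P : Type u} [CommRing P] [Algebra R P] (g : S) {f f' : Localization.Away g →ₐ[R] P}
    (h : f.comp (can g) = f'.comp (can g)) : f = f' :=
  AlgHom.coe_ringHom_injective (IsLocalization.ringHom_ext (Submonoid.powers g)
    (congrArg AlgHom.toRingHom h))

theorem isUnit_of_dvd {g h : S} (hd : g ∣ h) : IsUnit (can (R := R) h g) :=
  isUnit_of_dvd_unit (map_dvd _ hd) (IsLocalization.Away.algebraMap_isUnit h)

/-- Restriction `S[1/g] → S[1/h]`. -/
noncomputable def res {g h : S} (hd : g ∣ h) : Localization.Away g →ₐ[R] Localization.Away h :=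
  awayLift g (can h) (isUnit_of_dvd hd)

variable (q : Ideal S) [q.IsPrime]

/-- The germ `S[1/g] → S_q`. -/
noncomputable def germ {g : S} (hg : g ∉ q) : Localization.Away g →ₐ[R] Localization.AtPrime q :=
  awayLift g (IsScalarTower.toAlgHom R S _) (IsLocalization.map_units (Localization.AtPrime q) (⟨g, hg⟩ : q.primeCompl))

theorem germ_algebraMap {g : S} (hg : g ∉ q) (z : S) :
    germ (R := R) q hg (algebraMap S _ z) = algebraMap S _ z := awayLift_algebraMap _ _ _ z

theorem res_algebraMap {g h : S} (hd : g ∣ h) (z : S) :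
    res (R := R) hd (algebraMap S _ z) = algebraMap S _ z := awayLift_algebraMap _ _ _ z

/-- Finitely many pairs of sections with equal germs agree on a smaller open. -/
theorem eq_nhds {g : S} (hg : g ∉ q) {ι : Type u} [Fintype ι] (a b : ι → Localization.Away g)
    (h : ∀ i, germ (R := R) q hg (a i) = germ (R := R) q hg (b i)) :
    ∃ (h : S) (hd : g ∣ h), h ∉ q ∧ ∀ i, res (R := R) hd (a i) = res (R := R) hd (b i) := by
  classical
  have : ∀ i, ∃ t : S, t ∉ q ∧ ∀ (h : S) (hd : g ∣ h), t ∣ h → res (R := R) hd (a i) = res (R := R) hd (b i) := by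
    intro i
    obtain ⟨n, c, hc⟩ := IsLocalization.Away.surj g (a i - b i)
    have h0 : algebraMap S (Localization.AtPrime q) c = 0 := by
      have := congrArg (germ (R := R) q hg) hc
      rw [map_mul, map_sub, h i, sub_self, zero_mul] at this
      exact (germ_algebraMap q hg c).symm.trans this.symm
    obtain ⟨⟨t, ht⟩, htc⟩ := (IsLocalization.map_eq_zero_iff q.primeCompl _ c).mp h0
    refine ⟨t, ht, fun h hd hth => sub_eq_zero.mp ?_⟩
    have h1 := congrArg (res (R := R) hd) hc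
    have h2 : res (R := R) hd (algebraMap S _ c) = 0 := by
      refine (awayLift_algebraMap _ _ _ c).trans ((isUnit_of_dvd (R := R) hth).mul_right_eq_zero.mp ?_)
      rw [← map_mul]; exact (congrArg (can h) htc).trans (map_zero _)
    rw [h2, map_mul] at h1
    rw [← map_sub]
    refine (IsUnit.mul_left_eq_zero ?_).mp h1
    exact ((IsLocalization.Away.algebraMap_isUnit g).pow n).map (res (R := R) hd)
  choose t ht ht' using this
  refine ⟨g * ∏ i, t i, dvd_mul_right _ _, ?_, fun i => ht' i _ _ ((Finset.dvd_prod_of_mem t (Finset.mem_univ i)).mul_left g)⟩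
  exact mul_mem (S := Submonoid S) (s := q.primeCompl) hg (prod_mem fun i _ => ht i)

theorem hom_ext_gen {P : Type u} [CommRing P] [Algebra R P] {s : Finset S}
    (hs : Algebra.adjoin R (s : Set S) = ⊤) {f f' : S →ₐ[R] P} (h : ∀ i : s, f i = f' i) : f = f' :=
  AlgHom.ext_of_adjoin_eq_top hs fun x hx => h ⟨x, hx⟩

/-- A map into `S_q` from a finitely presented algebra spreads out. -/
theorem lift_nhds {T : Type u} [CommRing T] [Algebra R T] [Algebra.FinitePresentation R T]
    (φ : T →ₐ[R] Localization.AtPrime q) :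
    ∃ (g : S) (hg : g ∉ q) (φ' : T →ₐ[R] Localization.Away g), (germ q hg).comp φ' = φ := by
  classical
  obtain ⟨n, π, hπ, s, hs⟩ := Algebra.FinitePresentation.out (R := R) (A := T)
  let x : Fin n → Localization.AtPrime q := fun i => φ (π (MvPolynomial.X i))
  obtain ⟨⟨d, hd⟩, hdx⟩ := IsLocalization.exist_integer_multiples q.primeCompl Finset.univ x
  choose a ha using fun i => hdx i (Finset.mem_univ i)
  let x' : Fin n → Localization.Away d := fun i =>
    algebraMap S _ (a i) * IsLocalization.Away.invSelf d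
  have hx' : ∀ i, germ (R := R) q hd (x' i) = x i := by
    intro i
    have h1 : germ (R := R) q hd (algebraMap S _ d) * germ (R := R) q hd (IsLocalization.Away.invSelf d) = 1 := by
      rw [← map_mul, IsLocalization.Away.mul_invSelf, map_one]
    rw [map_mul, germ_algebraMap]
    show algebraMap S _ (a i) * _ = x i
    rw [ha i]
    rw [germ_algebraMap] at h1
    show (d • x i) * _ = x i
    rw [Algebra.smul_def, mul_comm (algebraMap S _ d) (x i), mul_assoc]
    exact (congrArg (x i * ·) h1).trans (mul_one _)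
  let Φ : MvPolynomial (Fin n) R →ₐ[R] Localization.Away d := MvPolynomial.aeval x'
  have hΦ : (germ q hd).comp Φ = φ.comp π := MvPolynomial.algHom_ext fun i => by
    simp only [AlgHom.comp_apply, Φ, MvPolynomial.aeval_X]
    exact hx' i
  obtain ⟨g, hdg, hg, hres⟩ := eq_nhds (R := R) q hd (fun f : s => Φ f) (fun _ => 0) fun f => by
    rw [map_zero]
    refine (AlgHom.congr_fun hΦ f.1).trans ?_
    have : f.1 ∈ RingHom.ker π.toRingHom := hs ▸ Ideal.subset_span f.2
    show φ (π f.1) = 0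
    rw [show π f.1 = 0 from this, map_zero]
  let Φ' := (res (R := R) hdg).comp Φ
  have hker : RingHom.ker π.toRingHom ≤ RingHom.ker Φ'.toRingHom := by
    rw [← hs, Ideal.span_le]
    intro f hf
    exact (hres ⟨f, hf⟩).trans (map_zero _)
  let φ' := AlgHom.liftOfSurjective π hπ Φ' hker
  refine ⟨g, hg, φ', AlgHom.ext fun y => ?_⟩
  obtain ⟨f, rfl⟩ := hπ y
  have h1 : φ' (π f) = Φ' f := AlgHom.liftOfSurjective_apply π hπ Φ' hker f
  have h2 : (germ (R := R) q hg).comp (res hdg) = germ q hd := hom_ext d (AlgHom.ext fun z => by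
    show germ (R := R) q hg (res hdg (algebraMap S _ z)) = germ (R := R) q hd (algebraMap S _ z)
    rw [res_algebraMap, germ_algebraMap, germ_algebraMap])
  exact ((congrArg (germ (R := R) q hg) h1).trans (AlgHom.congr_fun h2 (Φ f))).trans (AlgHom.congr_fun hΦ f)

theorem germ_res {g h : S} (hg : g ∉ q) (hh : h ∉ q) (hd : g ∣ h) :
    (germ (R := R) q hh).comp (res hd) = germ q hg := hom_ext g (AlgHom.ext fun z => by
    show germ (R := R) q hh (res hd (algebraMap S _ z)) = germ (R := R) q hg (algebraMap S _ z)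
    rw [res_algebraMap, germ_algebraMap, germ_algebraMap])

theorem germ_can {g : S} (hg : g ∉ q) :
    (germ (R := R) q hg).comp (can g) = IsScalarTower.toAlgHom R S _ :=
  AlgHom.ext fun z => germ_algebraMap q hg z

/-- An element with unit germ is a unit on a smaller open. -/
theorem unit_nhds {g : S} (hg : g ∉ q) (y : Localization.Away g) (hy : IsUnit (germ (R := R) q hg y)) :
    ∃ (u : S) (n : ℕ), u ∉ q ∧ y * algebraMap S _ g ^ n = algebraMap S _ u := by
  obtain ⟨n, u, hu⟩ := IsLocalization.Away.surj g y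
  refine ⟨u, n, fun huq => ?_, hu⟩
  have h1 : IsUnit (algebraMap S (Localization.AtPrime q) u) := by
    have := (hy.mul ((IsLocalization.map_units (Localization.AtPrime q) (⟨g, hg⟩ : q.primeCompl)).pow n))
    convert this using 1
    have h2 := congrArg (germ (R := R) q hg) hu
    rw [map_mul, map_pow] at h2
    rw [germ_algebraMap, germ_algebraMap] at h2
    exact h2.symm
  exact (IsLocalization.AtPrime.isUnit_to_map_iff _ q u).mp h1 huq

/-- Let `S`, `S'` be finitely presented `R`-algebras and `𝔮 ⊆ S`, `𝔮' ⊆ S'` primes with `S_𝔮 ≅ S'_{𝔮'}`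
as `R`-algebras. Then `S_g ≅ S'_{g'}` as `R`-algebras for some `g ∉ 𝔮`, `g' ∉ 𝔮'`. -/
theorem result {R S S' : Type u} [CommRing R] [CommRing S] [CommRing S'] [Algebra R S]
    [Algebra R S'] [Algebra.FinitePresentation R S] [Algebra.FinitePresentation R S'] (q : Ideal S) [q.IsPrime]
    (q' : Ideal S') [q'.IsPrime] (e : Localization.AtPrime q ≃ₐ[R] Localization.AtPrime q') :
    ∃ (g : S) (g' : S'), g ∉ q ∧ g' ∉ q' ∧ Nonempty (Localization.Away g ≃ₐ[R] Localization.Away g') := by
  classical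
  obtain ⟨g₀, hg₀, φ₁, hφ₁⟩ := lift_nhds (R := R) q' (e.toAlgHom.comp (IsScalarTower.toAlgHom R S _))
  obtain ⟨h₀, hh₀, ψ₁, hψ₁⟩ := lift_nhds (R := R) q (e.symm.toAlgHom.comp (IsScalarTower.toAlgHom R S' _))
  have hu0 : IsUnit (germ (R := R) q hh₀ (ψ₁ g₀)) := by
    rw [← AlgHom.comp_apply, hψ₁]
    exact (IsLocalization.map_units (Localization.AtPrime q') (⟨g₀, hg₀⟩ : q'.primeCompl)).map e.symm
  obtain ⟨u, n, hu, hun⟩ := unit_nhds q hh₀ _ hu0
  have hh : h₀ * u ∉ q := mul_mem (S := Submonoid S) (s := q.primeCompl) hh₀ hu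
  have hψu : IsUnit ((res (R := R) (dvd_mul_right h₀ u)).comp ψ₁ g₀) := by
    have h1 := congrArg (res (R := R) (dvd_mul_right h₀ u)) hun
    rw [map_mul] at h1
    refine isUnit_of_mul_isUnit_left (y := res (R := R) (dvd_mul_right h₀ u) (algebraMap S _ h₀ ^ n)) ?_
    rw [AlgHom.comp_apply, h1, res_algebraMap]
    exact isUnit_of_dvd (R := R) (dvd_mul_left u h₀)
  let ψ₂ := awayLift g₀ _ hψu
  have hψ₂ : (germ q hh).comp ψ₂ = e.symm.toAlgHom.comp (germ q' hg₀) := hom_ext g₀ (AlgHom.ext fun z => by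
    show germ (R := R) q hh (ψ₂ (algebraMap S' _ z)) = e.symm (germ (R := R) q' hg₀ (algebraMap S' _ z))
    rw [awayLift_algebraMap, AlgHom.comp_apply, ← AlgHom.comp_apply, germ_res q hh₀ hh,
      ← AlgHom.comp_apply, hψ₁, germ_algebraMap]
    rfl)
  obtain ⟨s, hs⟩ := Algebra.FiniteType.out (R := R) (A := S)
  obtain ⟨h₁, hd₁, hh₁, heq₁⟩ := eq_nhds (R := R) q hh (fun i : s => ψ₂ (φ₁ i)) (fun i => can (R := R) _ (i : S))
    fun i => by
      rw [← AlgHom.comp_apply, hψ₂, AlgHom.comp_apply, ← AlgHom.comp_apply (germ q' hg₀), hφ₁,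
        ← AlgHom.comp_apply (germ q hh), germ_can]
      exact e.symm_apply_apply _
  let ψ₃ := (res (R := R) hd₁).comp ψ₂
  have hψ₃φ₁ : ψ₃.comp φ₁ = can h₁ := hom_ext_gen hs fun i => by
    rw [AlgHom.comp_apply, AlgHom.comp_apply, heq₁ i]
    exact res_algebraMap _ _
  have hψ₃ : (germ q hh₁).comp ψ₃ = e.symm.toAlgHom.comp (germ q' hg₀) := by
    rw [← AlgHom.comp_assoc, germ_res q hh hh₁, hψ₂]
  -- the other direction
  have hu1 : IsUnit (germ (R := R) q' hg₀ (φ₁ h₁)) := by
    rw [← AlgHom.comp_apply, hφ₁]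
    exact (IsLocalization.map_units (Localization.AtPrime q) (⟨h₁, hh₁⟩ : q.primeCompl)).map e
  obtain ⟨v, m, hv, hvm⟩ := unit_nhds q' hg₀ _ hu1
  have hg : g₀ * v ∉ q' := mul_mem (S := Submonoid S') (s := q'.primeCompl) hg₀ hv
  have hφu : IsUnit ((res (R := R) (dvd_mul_right g₀ v)).comp φ₁ h₁) := by
    have h1 := congrArg (res (R := R) (dvd_mul_right g₀ v)) hvm
    rw [map_mul] at h1
    refine isUnit_of_mul_isUnit_left (y := res (R := R) (dvd_mul_right g₀ v) (algebraMap S' _ g₀ ^ m)) ?_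
    rw [AlgHom.comp_apply, h1, res_algebraMap]
    exact isUnit_of_dvd (R := R) (dvd_mul_left v g₀)
  let φ₂ := awayLift h₁ _ hφu
  have hφ₂ : (germ q' hg).comp φ₂ = e.toAlgHom.comp (germ q hh₁) := hom_ext h₁ (AlgHom.ext fun z => by
    show germ (R := R) q' hg (φ₂ (algebraMap S _ z)) = e (germ (R := R) q hh₁ (algebraMap S _ z))
    rw [awayLift_algebraMap, AlgHom.comp_apply, ← AlgHom.comp_apply, germ_res q' hg₀ hg,
      ← AlgHom.comp_apply, hφ₁, germ_algebraMap]
    rfl)
  obtain ⟨s', hs'⟩ := Algebra.FiniteType.out (R := R) (A := S')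
  obtain ⟨g, hd₂, hg₂, heq₂⟩ := eq_nhds (R := R) q' hg (fun i : s' => φ₂ (ψ₃ (can (R := R) g₀ (i : S'))))
    (fun i => can (R := R) _ (i : S'))
    fun i => by
      rw [← AlgHom.comp_apply (germ q' hg), hφ₂, AlgHom.comp_apply, ← AlgHom.comp_apply (germ q hh₁), hψ₃,
        AlgHom.comp_apply, ← AlgHom.comp_apply (germ q' hg₀), germ_can, ← AlgHom.comp_apply (germ q' hg), germ_can]
      exact e.apply_symm_apply _
  let φ₃ := (res (R := R) hd₂).comp φ₂
  have hφ₃ψ₃ : φ₃.comp (ψ₃.comp (can g₀)) = can g := hom_ext_gen hs' fun i => by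
    refine (heq₂ i).trans ?_
    exact res_algebraMap _ _
  have hg₀g : g₀ ∣ g := (dvd_mul_right g₀ v).trans hd₂
  have hu2 : IsUnit (germ (R := R) q hh₁ (ψ₃ (can (R := R) g₀ g))) := by
    rw [← AlgHom.comp_apply (germ q hh₁), hψ₃, AlgHom.comp_apply, ← AlgHom.comp_apply (germ q' hg₀), germ_can]
    exact (IsLocalization.map_units (Localization.AtPrime q') (⟨g, hg₂⟩ : q'.primeCompl)).map e.symm
  obtain ⟨w, k, hw, hwk⟩ := unit_nhds q hh₁ _ hu2
  let h₂ := h₁ * w
  have hh₂ : h₂ ∉ q := mul_mem (S := Submonoid S) (s := q.primeCompl) hh₁ hw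
  have hψu' : IsUnit ((res (R := R) (dvd_mul_right h₁ w)).comp (ψ₃.comp (can g₀)) g) := by
    have h1 := congrArg (res (R := R) (dvd_mul_right h₁ w)) hwk
    rw [map_mul] at h1
    refine isUnit_of_mul_isUnit_left (y := res (R := R) (dvd_mul_right h₁ w) (algebraMap S _ h₁ ^ k)) ?_
    rw [AlgHom.comp_apply, AlgHom.comp_apply, h1, res_algebraMap]
    exact isUnit_of_dvd (R := R) (dvd_mul_left w h₁)
  obtain ⟨ψ₄, hψ₄⟩ : ∃ f : Localization.Away g →ₐ[R] Localization.Away h₂, ∀ z, f (algebraMap S' _ z) =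
      (res (R := R) (dvd_mul_right h₁ w)).comp (ψ₃.comp (can g₀)) z := ⟨_, awayLift_algebraMap g _ hψu'⟩
  have hφu' : IsUnit ((φ₃.comp (can h₁)) h₂) := by
    rw [map_mul]
    refine IsUnit.mul ((IsLocalization.Away.algebraMap_isUnit h₁).map φ₃) ?_
    have h1 := congrArg φ₃ hwk
    rw [map_mul, map_pow] at h1
    show IsUnit (φ₃ (algebraMap S _ w))
    rw [← h1, ← AlgHom.comp_apply ψ₃, ← AlgHom.comp_apply φ₃, hφ₃ψ₃]
    exact (IsLocalization.Away.algebraMap_isUnit g).mul (((IsLocalization.Away.algebraMap_isUnit h₁).map φ₃).pow k)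
  obtain ⟨φ₄, hφ₄⟩ : ∃ f : Localization.Away h₂ →ₐ[R] Localization.Away g, ∀ z, f (algebraMap S _ z) =
      φ₃.comp (can h₁) z := ⟨_, awayLift_algebraMap h₂ _ hφu'⟩
  have hφ₄res : φ₄.comp (res (dvd_mul_right h₁ w)) = φ₃ := hom_ext h₁ (AlgHom.ext fun z => by
    show φ₄ (res (dvd_mul_right h₁ w) (algebraMap S _ z)) = φ₃ (algebraMap S _ z)
    rw [res_algebraMap]
    exact hφ₄ z)
  have hψ₄res : ψ₄.comp (res hg₀g) = (res (dvd_mul_right h₁ w)).comp ψ₃ := hom_ext g₀ (AlgHom.ext fun z => by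
    show ψ₄ (res hg₀g (algebraMap S' _ z)) = _
    rw [res_algebraMap]
    exact hψ₄ z)
  refine ⟨h₂, g, hh₂, hg₂, ⟨AlgEquiv.ofAlgHom φ₄ ψ₄ (hom_ext g ?_) (hom_ext h₂ ?_)⟩⟩
  · refine AlgHom.ext fun z => ?_
    simp only [AlgHom.comp_apply, AlgHom.id_apply, IsScalarTower.coe_toAlgHom']
    rw [hψ₄, AlgHom.comp_apply, ← AlgHom.comp_apply φ₄, hφ₄res, ← AlgHom.comp_apply φ₃, hφ₃ψ₃]
    rfl
  · refine AlgHom.ext fun z => ?_
    simp only [AlgHom.comp_apply, AlgHom.id_apply, IsScalarTower.coe_toAlgHom']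
    rw [hφ₄]
    have h1 : φ₂.comp (can h₁) = (res (R := R) (dvd_mul_right g₀ v)).comp φ₁ :=
      AlgHom.ext fun y => awayLift_algebraMap h₁ _ hφu y
    have h2 : (res (R := R) hd₂).comp (res (dvd_mul_right g₀ v)) = res hg₀g := hom_ext g₀ (AlgHom.ext fun y => by
      show res (R := R) hd₂ (res (dvd_mul_right g₀ v) (algebraMap S' _ y)) = res (R := R) hg₀g (algebraMap S' _ y)
      rw [res_algebraMap, res_algebraMap, res_algebraMap])
    have h3 : φ₃.comp (can h₁) = (res hg₀g).comp φ₁ := by rw [AlgHom.comp_assoc, h1, ← AlgHom.comp_assoc, h2]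
    rw [h3, AlgHom.comp_apply, ← AlgHom.comp_apply ψ₄, hψ₄res, AlgHom.comp_apply, ← AlgHom.comp_apply ψ₃, hψ₃φ₁]
    exact awayLift_algebraMap _ _ _ z

end Groth.Agent.S2145
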