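import Groth.Statements.S2146
import Groth.Agent.S2145
import Mathlib.RingTheory.FinitePresentation
import Mathlib.RingTheory.RingHom.FinitePresentation
import Mathlib.Tactic.LinearCombination
-- import your own Groth.Agent.* helpers here

set_option autoImplicit false
universe u
open CAlg

namespace Groth.Agent.S2146

/-- Let `S` be a finitely presented `R`-algebra and `𝔮` a prime of `S` over `𝔭` such that the induced
map `R_𝔭 → S_𝔮` is bijective. Then for some `f ∉ 𝔭` there is an `R_f`-algebra `C` with `S_f ≅ R_f ×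
C` as `R_f`-algebras. -/
theorem result {R S : Type u} [CommRing R] [CommRing S] [Algebra R S]
    [Algebra.FinitePresentation R S] (q : Ideal S) [q.IsPrime] (p : Ideal R) [p.IsPrime] [q.LiesOver p]
    (h : Function.Bijective (Localization.localRingHom p q (algebraMap R S) (q.over_def p))) :
    ∃ f : R, f ∉ p ∧ ∀ (Rf Sf : Type u) [CommRing Rf] [CommRing Sf] [Algebra R Rf] [IsLocalization.Away f Rf]
      [Algebra S Sf] [IsLocalization.Away (algebraMap R S f) Sf] [Algebra Rf Sf] [Algebra R Sf] [IsScalarTower R S Sf]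
      [IsScalarTower R Rf Sf],
      ∃ (C : Type u) (_ : CommRing C) (_ : Algebra Rf C), Nonempty (Sf ≃ₐ[Rf] (Rf × C)) := by
  classical
  let e₀ : Localization.AtPrime p →ₐ[R] Localization.AtPrime q :=
    { Localization.localRingHom p q (algebraMap R S) (q.over_def p) with
      commutes' := fun r => (Localization.localRingHom_to_map p q _ _ r).trans
        (IsScalarTower.algebraMap_apply R S (Localization.AtPrime q) r).symm }
  obtain ⟨g, f, hg, hf, ⟨E⟩⟩ := Groth.Agent.S2145.result q p (AlgEquiv.ofBijective e₀ h).symm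
  refine ⟨f, hf, ?_⟩
  intro Rf Sf _ _ _ _ _ _ _ _ _ _
  let j : Localization.Away f →ₐ[R] Rf := (IsLocalization.algEquiv (Submonoid.powers f) (Localization.Away f) Rf).toAlgHom
  let σ : S →ₐ[R] Rf := j.comp (E.toAlgHom.comp (IsScalarTower.toAlgHom R S (Localization.Away g)))
  have hσg : IsUnit (σ g) := ((IsLocalization.Away.algebraMap_isUnit g).map E.toAlgHom).map j
  have hσ0 : ∀ x, σ x = 0 → ∃ n : ℕ, g ^ n * x = 0 := by
    intro x hx
    have h1 : algebraMap S (Localization.Away g) x = 0 := by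
      apply E.injective
      apply (IsLocalization.algEquiv (Submonoid.powers f) (Localization.Away f) Rf).injective
      rw [map_zero E, map_zero]; exact hx
    obtain ⟨⟨_, n, rfl⟩, hn⟩ := (IsLocalization.map_eq_zero_iff (Submonoid.powers g) _ x).mp h1
    exact ⟨n, hn⟩
  have hunit : ∀ y : Submonoid.powers (algebraMap R S f), IsUnit (σ y) := by
    rintro ⟨_, n, rfl⟩
    show IsUnit (σ (algebraMap R S f ^ n))
    rw [map_pow, AlgHom.commutes]
    exact (IsLocalization.Away.algebraMap_isUnit f).pow n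
  let ψ₀ : Sf →+* Rf := IsLocalization.lift (g := σ.toRingHom) hunit
  have hψ : ∀ x, ψ₀ (algebraMap S Sf x) = σ x := fun x => IsLocalization.lift_eq _ x
  have hψR : ∀ a : Rf, ψ₀ (algebraMap Rf Sf a) = a := fun a => by
    have : ψ₀.comp (algebraMap Rf Sf) = RingHom.id Rf := IsLocalization.ringHom_ext (Submonoid.powers f) (RingHom.ext fun r => by
      show ψ₀ (algebraMap Rf Sf (algebraMap R Rf r)) = algebraMap R Rf r
      rw [← IsScalarTower.algebraMap_apply, IsScalarTower.algebraMap_apply R S Sf, hψ, AlgHom.commutes])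
    exact RingHom.congr_fun this a
  let ψ : Sf →ₐ[Rf] Rf := { ψ₀ with commutes' := hψR }
  haveI : Algebra.FinitePresentation S Sf := IsLocalization.Away.finitePresentation (algebraMap R S f)
  haveI : Algebra.FinitePresentation R Sf := Algebra.FinitePresentation.trans R S Sf
  haveI : Algebra.FinitePresentation R Rf := IsLocalization.Away.finitePresentation f
  have hfg : (RingHom.ker (ψ.restrictScalars R).toRingHom).FG :=
    Algebra.FinitePresentation.ker_fG_of_surjective _ fun a => ⟨_, hψR a⟩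
  obtain ⟨T, hT⟩ := hfg
  set gS := algebraMap S Sf g with hgS
  have hker : ∀ z, ψ₀ z = 0 → ∃ n : ℕ, gS ^ n * z = 0 := by
    intro z hz
    obtain ⟨x, ⟨_, k, rfl⟩, rfl⟩ := IsLocalization.exists_mk'_eq (Submonoid.powers (algebraMap R S f)) z
    have h1 : σ x = 0 := by
      have h2 := IsLocalization.lift_mk'_spec (S := Sf) (g := σ.toRingHom) (hg := hunit) x 0 ⟨_, k, rfl⟩
      simpa using h2.mp hz
    obtain ⟨n, hn⟩ := hσ0 x h1
    refine ⟨n, ?_⟩
    rw [hgS, ← map_pow, IsLocalization.mul_mk'_eq_mk'_of_mul, hn, IsLocalization.mk'_zero]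
  choose! n hn using hker
  let N := T.sup n
  have hkill : ∀ z, ψ₀ z = 0 → gS ^ N * z = 0 := by
    intro z hz
    have hz' : z ∈ Ideal.span (T : Set Sf) := hT ▸ (show z ∈ RingHom.ker _ from hz)
    clear hz
    induction hz' using Submodule.span_induction with
    | mem z hz =>
      have h0 : ψ₀ z = 0 := hT.le (Ideal.subset_span hz)
      obtain ⟨d, hd⟩ := Nat.exists_eq_add_of_le (Finset.le_sup (f := n) hz)
      show gS ^ T.sup n * z = 0
      rw [hd, pow_add, mul_assoc, mul_left_comm, hn z h0, mul_zero]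
    | zero => rw [mul_zero]
    | add u v _ _ hu hv => rw [mul_add, hu, hv, add_zero]
    | smul c u _ hu => rw [smul_eq_mul, mul_left_comm, hu, mul_zero]
  obtain ⟨u, hu⟩ := hσg
  set e := gS ^ N * algebraMap Rf Sf ((↑u⁻¹ : Rf) ^ N) with he
  have hψe : ψ₀ e = 1 := by
    rw [he, map_mul, map_pow, hgS, hψ, hψR, ← hu, ← mul_pow, Units.mul_inv, one_pow]
  have heI : ∀ z, ψ₀ z = 0 → e * z = 0 := fun z hz => by
    rw [he, mul_right_comm, hkill z hz, zero_mul]
  have hee : e * e = e := by
    have := heI (e - 1) (by rw [map_sub, hψe, map_one, sub_self])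
    linear_combination this
  refine ⟨Sf ⧸ Ideal.span {e}, inferInstance, inferInstance,
    ⟨AlgEquiv.ofBijective (ψ.prod (Ideal.Quotient.mkₐ Rf (Ideal.span {e}))) ⟨?_, ?_⟩⟩⟩
  · rw [injective_iff_map_eq_zero]
    intro z hz
    have h1 : ψ₀ z = 0 := congrArg Prod.fst hz
    obtain ⟨c, rfl⟩ := Ideal.mem_span_singleton'.mp (Ideal.Quotient.eq_zero_iff_mem.mp (congrArg Prod.snd hz))
    have := heI _ h1
    rwa [mul_left_comm, hee] at this
  · rintro ⟨a, y⟩
    obtain ⟨y, rfl⟩ := Ideal.Quotient.mk_surjective y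
    refine ⟨e * algebraMap Rf Sf a + (1 - e) * y, Prod.ext ?_ ?_⟩
    · show ψ₀ _ = a
      rw [map_add, map_mul ψ₀ e, map_mul ψ₀ (1 - e), map_sub, hψe, map_one, hψR, sub_self, zero_mul, one_mul, add_zero]
    · show Ideal.Quotient.mk _ _ = Ideal.Quotient.mk _ y
      rw [Ideal.Quotient.eq]
      exact Ideal.mem_span_singleton'.mpr ⟨algebraMap Rf Sf a - y, by ring⟩

end Groth.Agent.S2146
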