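import Groth.Statements.S2148
import Mathlib.RingTheory.Kaehler.Basic
import Mathlib.Algebra.CharP.Algebra
import Mathlib.FieldTheory.KummerPolynomial
import Mathlib.FieldTheory.IntermediateField.Adjoin.Basic
import Mathlib.Algebra.TrivSqZeroExt.Basic
import Mathlib.FieldTheory.Perfect
import Mathlib.Order.Zorn
-- import your own Groth.Agent.* helpers here

set_option autoImplicit false
universe u
open CAlg

namespace Groth.Agent.S2148

/-- Let `k` be a perfect field of characteristic `p > 0` and `K` an extension field of `k`. For `a ∈ K`,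
the differential `da` vanishes in `Ω_{K/k}` if and only if `a` is a `p`-th power in `K`. -/
theorem result {k K : Type u} [Field k] [Field K] [Algebra k K] (p : ℕ) [Fact p.Prime]
    [CharP k p] [PerfectRing k p] (a : K) :
    KaehlerDifferential.D k K a = 0 ↔ ∃ b : K, b ^ p = a := by
  classical
  haveI : CharP K p := charP_of_injective_ringHom (algebraMap k K).injective p
  haveI : ExpChar K p := ExpChar.prime (Fact.out)
  haveI : ExpChar k p := ExpChar.prime (Fact.out)
  constructor
  · intro hD
    by_contra hne
    push Not at hne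
    let F : IntermediateField k K :=
      { carrier := {x | ∃ b : K, b ^ p = x}
        mul_mem' := by rintro _ _ ⟨b, rfl⟩ ⟨c, rfl⟩; exact ⟨b * c, mul_pow _ _ _⟩
        one_mem' := ⟨1, one_pow _⟩
        add_mem' := by rintro _ _ ⟨b, rfl⟩ ⟨c, rfl⟩; exact ⟨b + c, add_pow_char b c p⟩
        zero_mem' := ⟨0, zero_pow (Fact.out : p.Prime).ne_zero⟩
        algebraMap_mem' := fun r => by
          obtain ⟨s, rfl⟩ := (bijective_frobenius k p).2 r
          exact ⟨algebraMap k K s, by rw [frobenius_def, map_pow]⟩
        inv_mem' := by rintro _ ⟨b, rfl⟩; exact ⟨b⁻¹, inv_pow b p⟩ }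
    obtain ⟨L, -, hL⟩ := zorn_le_nonempty₀ {L : IntermediateField k K | F ≤ L ∧ a ∉ L} (fun c hc hchain y hy => by
      haveI : Nonempty c := ⟨⟨y, hy⟩⟩
      have hdir : Directed (· ≤ ·) (fun L : c => (L : IntermediateField k K)) := hchain.directedOn.directed_val
      refine ⟨⨆ L : c, (L : IntermediateField k K), ⟨?_, ?_⟩, fun z hz => le_iSup (fun L : c => (L : IntermediateField k K)) ⟨z, hz⟩⟩
      · exact (hc hy).1.trans (le_iSup (fun L : c => (L : IntermediateField k K)) ⟨y, hy⟩)
      · intro ha
        rw [← SetLike.mem_coe, IntermediateField.coe_iSup_of_directed hdir, Set.mem_iUnion] at ha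
        obtain ⟨L, haL⟩ := ha
        exact (hc L.2).2 haL) F ⟨le_rfl, fun ⟨b, hb⟩ => hne b hb⟩
    obtain ⟨⟨hFL, haL⟩, hmax⟩ := hL
    have hpow : ∀ b : K, b ^ p ∈ L := fun b => hFL ⟨b, rfl⟩
    have hdeg : ∀ b : K, b ∉ L → IsIntegral L b ∧ minpoly L b = Polynomial.X ^ p - Polynomial.C (⟨b ^ p, hpow b⟩ : L) := by
      intro b hb
      have hirr : Irreducible (Polynomial.X ^ p - Polynomial.C (⟨b ^ p, hpow b⟩ : L)) := by
        refine X_pow_sub_C_irreducible_of_prime Fact.out fun c hc => hb ?_
        have : (c : K) = b := frobenius_inj K p (by simpa [frobenius_def] using congrArg Subtype.val hc)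
        exact this ▸ c.2
      have hmon := Polynomial.monic_X_pow_sub_C (⟨b ^ p, hpow b⟩ : L) (Fact.out : p.Prime).ne_zero
      have hroot : Polynomial.aeval b (Polynomial.X ^ p - Polynomial.C (⟨b ^ p, hpow b⟩ : L)) = 0 := by
        rw [map_sub, map_pow, Polynomial.aeval_X, Polynomial.aeval_C]
        exact sub_self _
      exact ⟨⟨_, hmon, hroot⟩, (minpoly.eq_of_irreducible_of_monic hirr hroot hmon).symm⟩
    obtain ⟨hint, hmin⟩ := hdeg a haL
    have hgen : ∀ b : K, b ∈ IntermediateField.adjoin L ({a} : Set K) := by
      intro b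
      by_cases hb : b ∈ L
      · exact IntermediateField.algebraMap_mem _ (⟨b, hb⟩ : L)
      obtain ⟨hbint, hbmin⟩ := hdeg b hb
      let E := IntermediateField.adjoin L ({b} : Set K)
      have hLE : L ≤ E.restrictScalars k := fun x hx => IntermediateField.algebraMap_mem E (⟨x, hx⟩ : L)
      have haE : a ∈ E := by
        by_contra h
        have := hmax (y := E.restrictScalars k) ⟨hFL.trans hLE, h⟩ hLE
        exact hb (this (IntermediateField.mem_adjoin_simple_self L b))
      have hle : IntermediateField.adjoin L ({a} : Set K) ≤ E :=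
        IntermediateField.adjoin_le_iff.mpr (Set.singleton_subset_iff.mpr haE)
      haveI : FiniteDimensional L E := IntermediateField.adjoin.finiteDimensional hbint
      have heq : IntermediateField.adjoin L ({a} : Set K) = E := by
        refine IntermediateField.eq_of_le_of_finrank_eq hle ?_
        rw [IntermediateField.adjoin.finrank hint, IntermediateField.adjoin.finrank hbint, hmin, hbmin,
          Polynomial.natDegree_X_pow_sub_C, Polynomial.natDegree_X_pow_sub_C]
      rw [heq]
      exact IntermediateField.mem_adjoin_simple_self L b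
    let r : (TrivSqZeroExt K K) := TrivSqZeroExt.inl a + TrivSqZeroExt.inr 1
    have hr : Polynomial.aeval r (minpoly L a) = 0 := by
      rw [hmin, map_sub, map_pow, Polynomial.aeval_X, Polynomial.aeval_C,
        IsScalarTower.algebraMap_apply L K (TrivSqZeroExt K K), TrivSqZeroExt.algebraMap_eq_inl]
      refine TrivSqZeroExt.ext ?_ ?_
      · rw [TrivSqZeroExt.fst_sub, TrivSqZeroExt.fst_pow]
        simp only [r, TrivSqZeroExt.fst_add, TrivSqZeroExt.fst_inl, TrivSqZeroExt.fst_inr, add_zero]
        exact sub_self _
      · rw [TrivSqZeroExt.snd_sub, TrivSqZeroExt.snd_pow]; simp [r, CharP.cast_eq_zero K p]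
    let ι : IntermediateField.adjoin L ({a} : Set K) →ₐ[L] (TrivSqZeroExt K K) :=
      (IntermediateField.adjoin.powerBasis hint).lift r (by rw [IntermediateField.adjoin.powerBasis_gen, IntermediateField.minpoly_gen]; exact hr)
    let incl : K →ₐ[L] IntermediateField.adjoin L ({a} : Set K) :=
      ((AlgEquiv.ofBijective (IntermediateField.adjoin L ({a} : Set K)).val
        ⟨Subtype.coe_injective, fun b => ⟨⟨b, hgen b⟩, rfl⟩⟩).symm : K ≃ₐ[L] _).toAlgHom
    let f : K →ₐ[L] (TrivSqZeroExt K K) := ι.comp incl
    have hιgen : ι (IntermediateField.adjoin.powerBasis hint).gen = r := PowerBasis.lift_gen _ _ _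
    have hfst : (TrivSqZeroExt.fstHom L K K).comp ι = (IntermediateField.adjoin L ({a} : Set K)).val := by
      refine (IntermediateField.adjoin.powerBasis hint).algHom_ext ?_
      rw [AlgHom.comp_apply]
      show (ι (IntermediateField.adjoin.powerBasis hint).gen).fst = _
      rw [hιgen, IntermediateField.adjoin.powerBasis_gen]
      simp [r]
    have hfst' : ∀ x : K, (f x).fst = x := fun x => by
      have := AlgHom.congr_fun hfst (incl x)
      refine this.trans ?_
      exact AlgEquiv.apply_symm_apply (AlgEquiv.ofBijective (IntermediateField.adjoin L ({a} : Set K)).val _) x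
    let δ : K →ₗ[k] K := ((TrivSqZeroExt.sndHom K K).restrictScalars k).comp (f.toLinearMap.restrictScalars k)
    let D : Derivation k K K := Derivation.mk' δ fun x y => by
      show (f (x * y)).snd = x • (f y).snd + y • (f x).snd
      rw [map_mul, TrivSqZeroExt.snd_mul, hfst', hfst', op_smul_eq_smul]
    have h1 : D a = 1 := by
      show (f a).snd = 1
      have : incl a = IntermediateField.AdjoinSimple.gen L a := by
        refine Subtype.ext ?_
        exact AlgEquiv.apply_symm_apply (AlgEquiv.ofBijective (IntermediateField.adjoin L ({a} : Set K)).val _) a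
      show (ι (incl a)).snd = 1
      rw [this, ← IntermediateField.adjoin.powerBasis_gen hint, hιgen]
      simp [r]
    have := congrArg D.liftKaehlerDifferential hD
    rw [Derivation.liftKaehlerDifferential_comp_D, map_zero, h1] at this
    exact one_ne_zero this
  · rintro ⟨b, rfl⟩
    rw [Derivation.leibniz_pow, ← Nat.cast_smul_eq_nsmul K, CharP.cast_eq_zero, zero_smul]

end Groth.Agent.S2148
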