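import Groth.Statements.S2149
import Groth.Agent.H1CAlg.UnivInj
import Mathlib.RingTheory.Localization.BaseChange
import Mathlib.RingTheory.LocalProperties.Exactness

set_option autoImplicit false
universe u
open CAlg

namespace Groth.Agent.S2149

open TensorProduct Groth.Agent.H1CAlg

/-- Let `R → S` be a ring map and `u : M → M'` a map of `S`-modules. Then `u`, viewed as an `R`-linear
map, is universally injective exactly when, for every maximal ideal `𝔪` of `S`, the localized map
`M_𝔪 → M'_𝔪` is also universally injective as an `R`-linear map. -/
theorem result {R S M M' : Type u} [CommRing R] [CommRing S] [Algebra R S]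
    [AddCommGroup M] [Module S M] [Module R M] [IsScalarTower R S M] [AddCommGroup M'] [Module S M'] [Module R M']
    [IsScalarTower R S M'] (u : M →ₗ[S] M') :
    CAlgX.UniversallyInjective R (u.restrictScalars R) ↔
      ∀ (m : Ideal S) [m.IsMaximal],
        CAlgX.UniversallyInjective R ((LocalizedModule.map m.primeCompl u).restrictScalars R) := by
  constructor
  · intro h m _ Q _ _
    let F : M ⊗[R] Q →ₗ[S] M' ⊗[R] Q := TensorProduct.AlgebraTensorModule.rTensor R Q u
    let lM := LocalizedModule.mkLinearMap m.primeCompl M
    let lM' := LocalizedModule.mkLinearMap m.primeCompl M'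
    let gM := TensorProduct.AlgebraTensorModule.rTensor R Q lM
    let gM' := TensorProduct.AlgebraTensorModule.rTensor R Q lM'
    have hF : ∀ z, IsLocalizedModule.map m.primeCompl gM gM' F z =
        ((LocalizedModule.map m.primeCompl u).restrictScalars R).rTensor Q z := by
      have h2 : IsLocalizedModule.map m.primeCompl gM gM' F =
          TensorProduct.AlgebraTensorModule.rTensor R Q ((LocalizedModule.map m.primeCompl u).restrictScalars S) := by
        apply IsLocalizedModule.linearMap_ext m.primeCompl gM gM'
        rw [IsLocalizedModule.map_comp]
        ext a b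
        simp [gM, gM', F, lM, lM', LocalizedModule.map_mk]
      intro z
      rw [h2]
      induction z with
      | zero => simp
      | tmul a b => rfl
      | add a b ha hb => simp only [map_add, ha, hb]
    intro a b hab
    rw [← hF, ← hF] at hab
    refine IsLocalizedModule.map_injective m.primeCompl gM gM' F ?_ hab
    exact h Q
  · intro h Q _ _
    let F : M ⊗[R] Q →ₗ[S] M' ⊗[R] Q := TensorProduct.AlgebraTensorModule.rTensor R Q u
    show Function.Injective F
    refine injective_of_isLocalized_maximal
      (fun (m : Ideal S) _ => (LocalizedModule m.primeCompl M) ⊗[R] Q)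
      (fun m _ => TensorProduct.AlgebraTensorModule.rTensor R Q (LocalizedModule.mkLinearMap m.primeCompl M))
      (fun (m : Ideal S) _ => (LocalizedModule m.primeCompl M') ⊗[R] Q)
      (fun m _ => TensorProduct.AlgebraTensorModule.rTensor R Q (LocalizedModule.mkLinearMap m.primeCompl M'))
      F fun m _ => ?_
    let gM := TensorProduct.AlgebraTensorModule.rTensor R Q (LocalizedModule.mkLinearMap m.primeCompl M)
    let gM' := TensorProduct.AlgebraTensorModule.rTensor R Q (LocalizedModule.mkLinearMap m.primeCompl M')
    have h2 : IsLocalizedModule.map m.primeCompl gM gM' F =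
        TensorProduct.AlgebraTensorModule.rTensor R Q ((LocalizedModule.map m.primeCompl u).restrictScalars S) := by
      apply IsLocalizedModule.linearMap_ext m.primeCompl gM gM'
      rw [IsLocalizedModule.map_comp]
      ext a b
      simp [gM, gM', F, LocalizedModule.map_mk]
    intro a b hab
    rw [h2] at hab
    exact h m Q hab

end Groth.Agent.S2149
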