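-- statement Lim.GrothFrozen.S2152 (Groth/Statements/S2152.lean; the theorem Lim.forgetToTop_preservesLimit_of_isAffineHom_transitions);
import Groth.Statements.S2152
import Groth.Agent.H7Lim.Points

set_option autoImplicit false
universe u
open CategoryTheory AlgebraicGeometry
open Lim

namespace Groth.Agent.S2152

/-- Let `c` be a limit cone of a diagram of schemes indexed by a small cofiltered category with affine
transition morphisms. Then the image of `c` under the forgetful functor to topological spaces is a
limit cone: the underlying space of the limit scheme is the limit of the underlying spaces. -/
theorem result {I : Type u} [SmallCategory I] [IsCofiltered I] (D : I ⥤ Scheme.{u})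
    [∀ (i j : I) (f : i ⟶ j), IsAffineHom (D.map f)] (c : Limits.Cone D) (hc : Limits.IsLimit c) :
    Nonempty (Limits.IsLimit (Scheme.forgetToTop.mapCone c)) := by
  exact Groth.Agent.H7Lim.nonempty_isLimit_forgetToTop hc

end Groth.Agent.S2152
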