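-- statement Lim.GrothFrozen.S2154 (Groth/Statements/S2154.lean; the theorem Lim.exists_isFinite_of_isLimit_integral);
import Groth.Statements.S2154
import Groth.Agent.H7Lim.Proper.StructureMap

set_option autoImplicit false
universe u
open CategoryTheory AlgebraicGeometry
open Lim

namespace Groth.Agent.S2154
set_option backward.isDefEq.respectTransparency false

/-- Let `S` be quasi-compact and quasi-separated and `X = lim X_i` a cofiltered limit of quasi-compact
quasi-separated `S`-schemes locally of finite type over `S`, with finite transition morphisms. If `X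
→ S` is integral then `X_i → S` is finite for all `i` beyond some index. -/
theorem result {I : Type u} [SmallCategory I] [IsCofiltered I] (S : Scheme.{u}) [CompactSpace S]
    [QuasiSeparatedSpace S] (D : I ⥤ Over S) (c : Limits.Cone D) (hc : Limits.IsLimit c)
    [∀ (i j : I) (f : i ⟶ j), IsFinite (D.map f).left] [∀ i, CompactSpace (D.obj i).left]
    [∀ i, QuasiSeparatedSpace (D.obj i).left] [∀ i, LocallyOfFiniteType (D.obj i).hom] [IsIntegralHom c.pt.hom] :
    ∃ i₀ : I, ∀ (i : I) (_ : i ⟶ i₀), IsFinite (D.obj i).hom := by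
  obtain ⟨hc'⟩ := H7Lim.Approx.nonempty_isLimit_forget hc
  haveI : ∀ (i j : I) (f : i ⟶ j), IsFinite ((D ⋙ Over.forget S).map f) := fun i j f ↦
    inferInstanceAs (IsFinite (D.map f).left)
  haveI : ∀ (i j : I) (f : i ⟶ j), IsAffineHom ((D ⋙ Over.forget S).map f) := fun i j f ↦ inferInstance
  haveI : ∀ i, CompactSpace ((D ⋙ Over.forget S).obj i) := fun i ↦ inferInstanceAs (CompactSpace (D.obj i).left)
  haveI : ∀ i, QuasiSeparatedSpace ((D ⋙ Over.forget S).obj i) := fun i ↦
    inferInstanceAs (QuasiSeparatedSpace (D.obj i).left)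
  haveI : Nonempty I := IsCofiltered.nonempty
  let i₀ : I := Classical.arbitrary I
  haveI : IsIntegralHom (((Over.forget S).mapCone c).π.app i₀ ≫ (D.obj i₀).hom) := by
    show IsIntegralHom ((c.π.app i₀).left ≫ (D.obj i₀).hom)
    rw [show (c.π.app i₀).left ≫ (D.obj i₀).hom = c.pt.hom from Over.w (c.π.app i₀)]
    infer_instance
  exact H7Lim.exists_isFinite_structureMap (c := (Over.forget S).mapCone c) (fun i ↦ (D.obj i).hom)
    (fun φ ↦ Over.w (D.map φ)) hc' i₀

end Groth.Agent.S2154
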