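import Groth.Statements.S2158
import Groth.Agent.H17.OmegaStalk
import Mathlib.AlgebraicGeometry.ResidueField

set_option autoImplicit false
universe u
open CategoryTheory AlgebraicGeometry
open Mor

namespace Groth.Agent.S2158

open CategoryTheory Limits AlgebraicGeometry TopologicalSpace
open Groth.Agent.H17

/-- Let `f : X → S` be locally of finite type and quasi-separated (so that the diagonal is quasi-compact
and the prelude's sheaf of differentials is the conormal sheaf of the diagonal near every point), `x
∈ X`, `s = f(x)`. Then the stalk `Ω_{X/S,x}` vanishes if and only if `𝔪_s O_{X,x} = 𝔪_x` and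
`κ(x)/κ(s)` is a finite separable extension. -/
theorem result {X S : Scheme.{u}} (f : X ⟶ S) [LocallyOfFiniteType f] [QuasiSeparated f] (x : X) :
    Subsingleton ((Omega.sheaf f).presheaf.stalk x) ↔
      ((IsLocalRing.maximalIdeal (S.presheaf.stalk (f.base x))).map (f.stalkMap x).hom =
          IsLocalRing.maximalIdeal (X.presheaf.stalk x) ∧
        (f.residueFieldMap x).hom.Finite ∧
        @Algebra.IsSeparable (S.residueField (f.base x)) (X.residueField x) _ _ (f.residueFieldMap x).hom.toAlgebra) := by
  rw [OmegaStalk.subsingleton_stalk_iff f x]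
  let := (f.stalkMap x).hom.toAlgebra
  have : IsLocalHom (algebraMap (S.presheaf.stalk (f x)) (X.presheaf.stalk x)) :=
    inferInstanceAs (IsLocalHom (f.stalkMap x).hom)
  have : Algebra.EssFiniteType (S.presheaf.stalk (f x)) (X.presheaf.stalk x) :=
    LocallyOfFiniteType.stalkMap f x
  have hdef : (f.residueFieldMap x).hom.toAlgebra =
      (IsLocalRing.ResidueField.map (f.stalkMap x).hom).toAlgebra := rfl
  rw [show (f.stalkMap x).hom.FormallyUnramified ↔
    Algebra.FormallyUnramified (S.presheaf.stalk (f x)) (X.presheaf.stalk x) from RingHom.formallyUnramified_algebraMap,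
    Algebra.FormallyUnramified.iff_map_maximalIdeal_eq]
  have halg : @algebraMap _ _ _ _ (inferInstance : Algebra (IsLocalRing.ResidueField (S.presheaf.stalk (f x)))
      (IsLocalRing.ResidueField (X.presheaf.stalk x))) = (f.residueFieldMap x).hom :=
    Ideal.Quotient.ringHom_ext (by ext r; rfl)
  have hA : (inferInstance : Algebra (IsLocalRing.ResidueField (S.presheaf.stalk (f x)))
      (IsLocalRing.ResidueField (X.presheaf.stalk x))) = (f.residueFieldMap x).hom.toAlgebra :=
    Algebra.algebra_ext _ _ (fun r => congr($halg r))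
  have hiff : Algebra.IsSeparable (IsLocalRing.ResidueField (S.presheaf.stalk (f x)))
      (IsLocalRing.ResidueField (X.presheaf.stalk x)) ↔
      @Algebra.IsSeparable (S.residueField (f.base x)) (X.residueField x) _ _ (f.residueFieldMap x).hom.toAlgebra := by
    have key : ∀ a b : Algebra (IsLocalRing.ResidueField (S.presheaf.stalk (f x)))
      (IsLocalRing.ResidueField (X.presheaf.stalk x)), a = b →
        (@Algebra.IsSeparable _ _ _ _ a ↔ @Algebra.IsSeparable _ _ _ _ b) := by rintro _ _ rfl; rfl
    exact key _ _ hA
  refine ⟨fun ⟨hsep, hmax⟩ => ⟨hmax, ?_, hiff.mp hsep⟩, fun ⟨hmax, _, hsep⟩ => ⟨hiff.mpr hsep, hmax⟩⟩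
  have : Algebra.FormallyUnramified (S.presheaf.stalk (f x)) (X.presheaf.stalk x) :=
    Algebra.FormallyUnramified.iff_map_maximalIdeal_eq.mpr ⟨hsep, hmax⟩
  have hfin : Module.Finite (IsLocalRing.ResidueField (S.presheaf.stalk (f x)))
      (IsLocalRing.ResidueField (X.presheaf.stalk x)) := inferInstance
  rw [← RingHom.finite_algebraMap, halg] at hfin
  exact hfin

end Groth.Agent.S2158
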