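import Groth.Statements.S2159

set_option autoImplicit false
universe u
open CAlg

namespace Groth.Agent.S2159

/-- Given surjections `p₁ : P₁ → M` and `p₂ : P₂ → M` from projective modules, with kernels `K` and `L`,
there is an isomorphism `K ⊕ P₂ ≅ L ⊕ P₁`. -/
theorem result {R M P₁ P₂ : Type u} [CommRing R] [AddCommGroup M] [Module R M] [AddCommGroup P₁] [Module R P₁]
    [Module.Projective R P₁] [AddCommGroup P₂] [Module R P₂] [Module.Projective R P₂] (p₁ : P₁ →ₗ[R] M) (p₂ : P₂ →ₗ[R] M)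
    (h₁ : Function.Surjective p₁) (h₂ : Function.Surjective p₂) :
    Nonempty ((LinearMap.ker p₁ × P₂) ≃ₗ[R] (LinearMap.ker p₂ × P₁)) := by
  obtain ⟨s, hs⟩ := Module.projective_lifting_property p₂ p₁ h₂
  obtain ⟨t, ht⟩ := Module.projective_lifting_property p₁ p₂ h₁
  have hs' : ∀ a, p₂ (s a) = p₁ a := LinearMap.congr_fun hs
  have ht' : ∀ b, p₁ (t b) = p₂ b := LinearMap.congr_fun ht
  exact ⟨{
    toFun := fun x => (⟨x.2 - s (x.1.1 + t x.2), by simp [hs', ht', LinearMap.mem_ker.mp x.1.2]⟩, x.1.1 + t x.2)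
    invFun := fun y => (⟨y.2 - t (y.1.1 + s y.2), by simp [hs', ht', LinearMap.mem_ker.mp y.1.2]⟩, y.1.1 + s y.2)
    map_add' := fun x y => by
      ext <;> simp only [Prod.fst_add, Prod.snd_add, Submodule.coe_add, map_add] <;> abel
    map_smul' := fun r x => by
      ext <;> simp [smul_sub, smul_add]
    left_inv := fun x => by ext <;> simp
    right_inv := fun x => by ext <;> simp }⟩

end Groth.Agent.S2159
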