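import Groth.Statements.S2160
import Mathlib.RingTheory.Ideal.Height
import Mathlib.RingTheory.Ideal.KrullsHeightTheorem

set_option autoImplicit false
universe u
open CAlg

namespace Groth.Agent.S2160

/-- Let `R` be a Noetherian local domain of Krull dimension at least `2`. Then every nonempty open
subset of `Spec R` is infinite. -/
theorem result {R : Type u} [CommRing R] [IsDomain R] [IsLocalRing R] [IsNoetherianRing R]
    (hdim : 2 ≤ ringKrullDim R) (U : Set (PrimeSpectrum R)) (hU : IsOpen U) (hne : U.Nonempty) : U.Infinite := by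
  intro hfin
  obtain ⟨x, hx⟩ := hne
  obtain ⟨_, ⟨f, rfl⟩, hxf, hsub⟩ := PrimeSpectrum.isTopologicalBasis_basic_opens.exists_subset_of_mem_open hx hU
  have hf : f ≠ 0 := fun h => hxf (by simp [h])
  set T : Set (Ideal R) := (PrimeSpectrum.asIdeal '' U ∪ (Ideal.span {f}).minimalPrimes) ∩ {q | q.height ≤ 1}
  have hT : T.Finite := ((hfin.image _).union (Ideal.finite_minimalPrimes_of_isNoetherianRing R _)).subset Set.inter_subset_left
  have hprime : ∀ q ∈ T, q.IsPrime := by
    rintro q ⟨⟨P, -, rfl⟩ | hq, -⟩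
    · exact P.2
    · exact hq.1.1
  have hcov : (IsLocalRing.maximalIdeal R : Set R) ⊆ ⋃ q ∈ T, (q : Set R) := by
    intro a ha
    obtain ⟨q, hq⟩ := Ideal.nonempty_minimalPrimes (I := Ideal.span {a})
      (fun h => (IsLocalRing.maximalIdeal.isMaximal R).ne_top (top_le_iff.mp (h ▸ ((Ideal.span_singleton_le_iff_mem _).mpr ha))))
    have hqh := Ideal.height_le_one_of_isPrincipal_of_mem_minimalPrimes (Ideal.span {a}) q hq
    refine Set.mem_biUnion ⟨?_, hqh⟩ (hq.1.2 (Ideal.mem_span_singleton_self a))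
    haveI := hq.1.1
    by_cases hfq : f ∈ q
    · refine Or.inr ⟨⟨hq.1.1, (Ideal.span_singleton_le_iff_mem _).mpr hfq⟩, fun b hb hbq => ?_⟩
      haveI := hb.1
      rcases hbq.eq_or_lt with rfl | hlt
      · exact le_rfl
      · exfalso
        have h1 : b.height < 1 := (Ideal.height_strict_mono_of_isPrime hlt).trans_le hqh
        have h0 : b ∈ minimalPrimes R := Ideal.height_eq_zero_iff.mp (Order.lt_one_iff.mp h1)
        have h2 : b = ⊥ := by simpa [IsDomain.minimalPrimes_eq_singleton_bot] using h0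
        exact hf (by simpa [h2] using hb.2)
    · exact Or.inl ⟨⟨q, hq.1.1⟩, hsub hfq, rfl⟩
  obtain ⟨q, hqT, hle⟩ := (Ideal.subset_union_prime_finite hT (f := id) ⊥ ⊥ fun q hq _ _ => hprime q hq).mp hcov
  haveI := hprime q hqT
  have h1 : (IsLocalRing.maximalIdeal R).height ≤ 1 := (Ideal.height_mono hle).trans hqT.2
  have : ringKrullDim R ≤ ((1 : ℕ∞) : WithBot ℕ∞) := by
    rw [← IsLocalRing.maximalIdeal_height_eq_ringKrullDim]; exact_mod_cast h1
  have := hdim.trans this
  norm_cast at this

end Groth.Agent.S2160
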