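import Groth.Statements.S2161
import Mathlib.FieldTheory.PurelyInseparable.Basic
import Mathlib.RingTheory.Spectrum.Prime.Topology
import Mathlib.RingTheory.Ideal.GoingUp
import Mathlib.FieldTheory.IsAlgClosed.AlgebraicClosure
import Mathlib.RingTheory.Polynomial.Basic
import Mathlib.Topology.Homeomorph.Lemmas
import Mathlib.RingTheory.IntegralClosure.Algebra.Basic

set_option autoImplicit false
universe u
open CAlg

namespace Groth.Agent.S2161

/-- Let R → S be a ring map whose kernel consists of nilpotent elements, and suppose S is generated as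
an R-algebra by elements x for which some power (T − x)ⁿ, n > 0, is the image of a polynomial over
R. Then Spec S → Spec R is a homeomorphism, and for every prime 𝔮 of S over 𝔭 the extension
κ(𝔮)/κ(𝔭) is purely inseparable. -/
theorem result {R S : Type u} [CommRing R] [CommRing S] [Algebra R S]
    (hker : ∀ r : R, algebraMap R S r = 0 → IsNilpotent r) (G : Set S) (hG : Algebra.adjoin R G = ⊤)
    (hpow : ∀ x ∈ G, ∃ (n : ℕ) (P : Polynomial R), 0 < n ∧
      Polynomial.map (algebraMap R S) P = (Polynomial.X - Polynomial.C x) ^ n) :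
    IsHomeomorph (PrimeSpectrum.comap (algebraMap R S)) ∧
      ∀ (q : Ideal S) [q.IsPrime] (p : Ideal R) [p.IsPrime] [q.LiesOver p],
        @IsPurelyInseparable p.ResidueField q.ResidueField _ _
          (Ideal.ResidueField.mapₐ p q (Algebra.ofId R S) (q.over_def p)).toRingHom.toAlgebra := by
  classical
  have hint : Algebra.IsIntegral R S := by
    refine ⟨fun x => ?_⟩
    have hx : x ∈ Algebra.adjoin R G := hG ▸ Algebra.mem_top
    refine (Algebra.adjoin_le_iff.mpr fun y hy => ?_ : Algebra.adjoin R G ≤ integralClosure R S) hx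
    rcases subsingleton_or_nontrivial S with hS | hS
    · exact ⟨1, Polynomial.monic_one, Subsingleton.elim _ _⟩
    obtain ⟨n, P, hn, hP⟩ := hpow y hy
    have hmon : ((Polynomial.X - Polynomial.C y) ^ n).Monic := (Polynomial.monic_X_sub_C y).pow n
    obtain ⟨Q, hQ, -, hQm⟩ := Polynomial.lifts_and_degree_eq_and_monic ⟨P, hP⟩ hmon
    refine ⟨Q, hQm, ?_⟩
    rw [← Polynomial.eval_map, hQ]
    simp [hn.ne']
  -- two `R`-algebra maps into a field agree
  have huniq : ∀ (Ω : Type u) [Field Ω] (φ ψ : S →+* Ω), φ.comp (algebraMap R S) = ψ.comp (algebraMap R S) → φ = ψ := by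
    intro Ω _ φ ψ h
    refine RingHom.ext fun x => ?_
    have hx : x ∈ Algebra.adjoin R G := hG ▸ Algebra.mem_top
    induction hx using Algebra.adjoin_induction with
    | mem y hy =>
      obtain ⟨n, P, hn, hP⟩ := hpow y hy
      have h1 : Polynomial.eval (ψ y) ((Polynomial.map (algebraMap R S) P).map φ) = 0 := by
        rw [Polynomial.map_map, h, ← Polynomial.map_map, hP, Polynomial.eval_map, Polynomial.eval₂_hom]
        simp [hn.ne']
      rw [hP] at h1
      simp only [Polynomial.map_pow, Polynomial.map_sub, Polynomial.map_X, Polynomial.map_C, Polynomial.eval_pow,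
        Polynomial.eval_sub, Polynomial.eval_X, Polynomial.eval_C] at h1
      exact (sub_eq_zero.mp (eq_zero_of_pow_eq_zero h1)).symm
    | algebraMap r => exact RingHom.congr_fun h r
    | add a b _ _ ha hb => rw [map_add, map_add, ha, hb]
    | mul a b _ _ ha hb => rw [map_mul, map_mul, ha, hb]
  have hpi : ∀ (q : Ideal S) [q.IsPrime] (p : Ideal R) [p.IsPrime] [q.LiesOver p],
      @IsPurelyInseparable p.ResidueField q.ResidueField _ _
        (Ideal.ResidueField.mapₐ p q (Algebra.ofId R S) (q.over_def p)).toRingHom.toAlgebra := by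
    intro q _ p _ _
    letI : Algebra p.ResidueField q.ResidueField :=
      (Ideal.ResidueField.mapₐ p q (Algebra.ofId R S) (q.over_def p)).toRingHom.toAlgebra
    have hcomp : ∀ r : R, algebraMap S q.ResidueField (algebraMap R S r) =
        algebraMap p.ResidueField q.ResidueField (algebraMap R p.ResidueField r) := fun r => by
      show _ = Ideal.ResidueField.mapₐ p q (Algebra.ofId R S) (q.over_def p) (algebraMap R p.ResidueField r)
      rw [AlgHom.commutes]
      exact (IsScalarTower.algebraMap_apply R S q.ResidueField r).symm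
    rw [isPurelyInseparable_iff_subsingleton_emb]
    refine ⟨fun f g => ?_⟩
    refine AlgHom.coe_ringHom_injective (Ideal.ResidueField.ringHom_ext (huniq _ _ _ (RingHom.ext fun r => ?_)))
    show f (algebraMap S q.ResidueField (algebraMap R S r)) = g (algebraMap S q.ResidueField (algebraMap R S r))
    rw [hcomp, AlgHom.commutes, AlgHom.commutes]
  refine ⟨?_, hpi⟩
  have hbij : Function.Bijective (PrimeSpectrum.comap (algebraMap R S)) := by
    constructor
    · intro P Q hPQ
      let p := (PrimeSpectrum.comap (algebraMap R S) P).asIdeal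
      haveI : P.asIdeal.LiesOver p := ⟨rfl⟩
      haveI : Q.asIdeal.LiesOver p := ⟨congrArg PrimeSpectrum.asIdeal hPQ⟩
      let Ω := AlgebraicClosure p.ResidueField
      have key : ∀ (T : Ideal S) [T.IsPrime] [T.LiesOver p], ∃ φ : S →+* Ω,
          φ.comp (algebraMap R S) = (algebraMap p.ResidueField Ω).comp (algebraMap R p.ResidueField) ∧
          RingHom.ker φ = T := by
        intro T _ _
        letI : Algebra p.ResidueField T.ResidueField :=
          (Ideal.ResidueField.mapₐ p T (Algebra.ofId R S) (T.over_def p)).toRingHom.toAlgebra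
        haveI : IsPurelyInseparable p.ResidueField T.ResidueField := hpi T p
        haveI : Algebra.IsAlgebraic p.ResidueField T.ResidueField := IsPurelyInseparable.isAlgebraic _ _
        let f : T.ResidueField →ₐ[p.ResidueField] Ω := IsAlgClosed.lift
        refine ⟨(f : T.ResidueField →+* Ω).comp (algebraMap S T.ResidueField), RingHom.ext fun r => ?_, ?_⟩
        · show f (algebraMap S T.ResidueField (algebraMap R S r)) = _
          have hcomp : algebraMap S T.ResidueField (algebraMap R S r) =
              algebraMap p.ResidueField T.ResidueField (algebraMap R p.ResidueField r) := by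
            show _ = Ideal.ResidueField.mapₐ p T (Algebra.ofId R S) (T.over_def p) (algebraMap R p.ResidueField r)
            rw [AlgHom.commutes]
            exact (IsScalarTower.algebraMap_apply R S T.ResidueField r).symm
          rw [hcomp, AlgHom.commutes]
          rfl
        · ext x
          rw [RingHom.mem_ker, RingHom.comp_apply, map_eq_zero_iff _ (RingHom.injective _),
            Ideal.algebraMap_residueField_eq_zero]
      obtain ⟨φ, hφ, hkφ⟩ := key P.asIdeal
      obtain ⟨ψ, hψ, hkψ⟩ := key Q.asIdeal
      refine PrimeSpectrum.ext ?_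
      rw [← hkφ, ← hkψ, huniq Ω φ ψ (hφ.trans hψ.symm)]
    · intro P
      obtain ⟨Q, -, hQ, hQP⟩ := Ideal.exists_ideal_over_prime_of_isIntegral P.asIdeal (⊥ : Ideal S) (fun r hr => by
        have : IsNilpotent r := hker r (by simpa [Ideal.mem_comap] using hr)
        exact nilradical_le_prime P.asIdeal (mem_nilradical.mpr this))
      exact ⟨⟨Q, hQ⟩, PrimeSpectrum.ext hQP⟩
  refine isHomeomorph_iff_continuous_isClosedMap_bijective.mpr ⟨PrimeSpectrum.continuous_comap _,
    PrimeSpectrum.isClosedMap_comap_of_isIntegral _ (algebraMap_isIntegral_iff.mpr hint), hbij⟩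

end Groth.Agent.S2161
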