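import Groth.Statements.S2163
import Groth.Agent.H1CAlg.PiTensor
import Mathlib.RingTheory.Flat.Tensor

set_option autoImplicit false
universe u
open CAlg

namespace Groth.Agent.S2163

open Groth.Agent.H1CAlg TensorProduct

/-- A ring `R` is coherent — every finitely generated ideal is a finitely presented module — if and only
if for every index set `A` (in the same universe) the product module `R^A` is flat. -/
theorem result {R : Type u} [CommRing R] :
    (∀ I : Ideal R, I.FG → Module.FinitePresentation R I) ↔ ∀ (A : Type u), Module.Flat R (A → R) := by
  constructor
  · intro h A
    refine Module.Flat.iff_rTensor_injective.mpr fun I hI => ?_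
    haveI := h I hI
    rw [injective_iff_map_eq_zero]
    intro x hx
    apply (piRightHom_bijective_of_finitePresentation (M := I) (fun _ : A => R)).1
    rw [map_zero]
    funext a
    have e := piRightHom_natural (fun _ : A => R) (Submodule.subtype I) x a
    rw [hx, map_zero, Pi.zero_apply] at e
    refine Module.Flat.rTensor_preserves_injective_linearMap (M := R) (Submodule.subtype I) Subtype.val_injective ?_
    rw [← e, Pi.zero_apply, map_zero]
  · intro h I hI
    haveI : Module.Finite R I := Module.Finite.iff_fg.mpr hI
    refine finitePresentation_of_piRightHom_bijective fun A => ⟨?_, piRightHom_surjective_of_finite _⟩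
    rw [injective_iff_map_eq_zero]
    intro x hx
    haveI := h A
    apply Module.Flat.rTensor_preserves_injective_linearMap (M := (A → R)) (Submodule.subtype I) Subtype.val_injective
    rw [map_zero]
    apply (piRightHom_bijective_of_finitePresentation (M := R) (fun _ : A => R)).1
    rw [map_zero]
    funext a
    rw [piRightHom_natural, hx, Pi.zero_apply, map_zero, Pi.zero_apply]

end Groth.Agent.S2163
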