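import Groth.Statements.S2167
import Groth.Agent.H4Depth.Regular
import Groth.Agent.H8Props.MiracleFlat

set_option autoImplicit false
universe u
open LCI

namespace Groth.Agent.S2167

/-- Equivalence of (2) and (3), special case with R already a regular local ring: for a regular local
ring R and a proper ideal I, the ideal I is generated by a regular sequence if and only if the
conormal module I/I^2 can be generated by (dim R - dim R/I) elements, the inequality below being the
additive form of that count. -/
theorem result {R : Type u} [CommRing R] [IsRegularLocalRing R]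
    (I : Ideal R) (hI : I ≠ ⊤) :
    (∃ rs : List R, Ideal.ofList rs = I ∧ RingTheory.Sequence.IsRegular R rs) ↔
      (((⊤ : Submodule (R ⧸ I) I.Cotangent).spanFinrank : WithBot ℕ∞) + ringKrullDim (R ⧸ I)
        ≤ ringKrullDim R) := by
  haveI := H4Depth.isCohenMacaulayLocalRing_of_regular R
  have hIm : I ≤ IsLocalRing.maximalIdeal R := IsLocalRing.le_maximalIdeal hI
  have hfg : I.FG := IsNoetherian.noetherian I
  have hcot : ((⊤ : Submodule (R ⧸ I) I.Cotangent)).spanFinrank = Submodule.spanFinrank I := by
    classical
    refine le_antisymm ?_ ?_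
    · obtain ⟨s, hs, hspan⟩ := (Submodule.FG.exists_span_finset_card_eq_spanFinrank hfg)
      let v : {x // x ∈ s} → I.Cotangent := fun x => I.toCotangent ⟨x.1, hspan.le (Submodule.subset_span x.2)⟩
      have htop : Submodule.span (R ⧸ I) (Set.range v) = ⊤ := by
        refine eq_top_iff.2 fun c _ => ?_
        obtain ⟨⟨x, hx⟩, rfl⟩ := I.toCotangent_surjective c
        obtain ⟨a, -, ha⟩ := Submodule.mem_span_finset.1 (hspan.ge hx)
        have : (⟨x, hx⟩ : I) = ∑ i : {x // x ∈ s}, a i.1 • (⟨i.1, hspan.le (Submodule.subset_span i.2)⟩ : I) := by
          apply Subtype.ext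
          rw [Submodule.coe_sum]
          simp only [SetLike.val_smul]
          rw [Finset.sum_coe_sort s (fun i => a i • i)]
          exact ha.symm
        rw [this, map_sum]
        refine sum_mem fun i _ => ?_
        rw [map_smul, ← algebraMap_smul (R ⧸ I) (a i.1)]
        exact Submodule.smul_mem _ _ (Submodule.subset_span ⟨i, rfl⟩)
      rw [← htop, ← hs]
      refine (Submodule.spanFinrank_span_le_ncard_of_finite (Set.finite_range v)).trans ?_
      refine (Finite.card_range_le v).trans ?_
      simp
    · obtain ⟨t, ht, htop⟩ := Submodule.FG.exists_span_finset_card_eq_spanFinrank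
        (Module.finite_def.1 (haveI : Module.Finite R I := Module.Finite.iff_fg.2 hfg
          haveI : Module.Finite R I.Cotangent := Module.Finite.of_surjective _ I.toCotangent_surjective
          Module.Finite.of_restrictScalars_finite R (R ⧸ I) I.Cotangent))
      choose l hl using fun c : I.Cotangent => I.toCotangent_surjective c
      let s : Finset R := t.image fun c => (l c : R)
      have hsI : I = Ideal.span (s : Set R) := by
        have hle : Ideal.span (s : Set R) ≤ I := Ideal.span_le.2 fun x hx => by
          obtain ⟨c, -, rfl⟩ := Finset.mem_image.1 (Finset.mem_coe.1 hx)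
          exact (l c).2
        refine le_antisymm (Submodule.le_of_le_smul_of_le_jacobson_bot hfg
          (hIm.trans (IsLocalRing.maximalIdeal_le_jacobson ⊥)) fun x hx => ?_) hle
        have hx' : I.toCotangent ⟨x, hx⟩ ∈ Submodule.span (R ⧸ I) (t : Set I.Cotangent) := htop ▸ Submodule.mem_top
        rw [← Submodule.restrictScalars_mem R, Submodule.restrictScalars_span R (R ⧸ I) Ideal.Quotient.mk_surjective] at hx'
        obtain ⟨a, -, ha⟩ := Submodule.mem_span_finset.1 hx'
        have h2 : I.toCotangent ⟨x, hx⟩ = I.toCotangent (∑ c ∈ t, a c • l c) := by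
          rw [map_sum, ← ha]; exact Finset.sum_congr rfl fun c _ => by rw [map_smul, hl]
        rw [Ideal.toCotangent_eq] at h2
        refine Submodule.mem_sup.2 ⟨_, ?_, x - (∑ c ∈ t, a c • l c : I), ?_, add_sub_cancel _ _⟩
        · rw [Submodule.coe_sum]
          exact sum_mem fun c hc => Submodule.smul_mem _ _
            (Submodule.subset_span (Finset.mem_image_of_mem _ hc))
        · rwa [smul_eq_mul, ← pow_two]
      rw [← ht]
      calc Submodule.spanFinrank I = Submodule.spanFinrank (Submodule.span R (s : Set R)) :=
            congrArg Submodule.spanFinrank hsI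
        _ ≤ (s : Set R).ncard := Submodule.spanFinrank_span_le_ncard_of_finite s.finite_toSet
        _ ≤ t.card := by rw [Set.ncard_coe_finset]; exact Finset.card_image_le
  rw [hcot]
  constructor
  · rintro ⟨rs, hrs, hreg⟩
    have h1 := ringKrullDim_add_length_eq_ringKrullDim_of_isRegular rs hreg
    have h2 : Submodule.spanFinrank I ≤ rs.length := by
      classical
      have hs : {r | r ∈ rs} = (rs.toFinset : Set R) := by ext; simp
      rw [← hrs, Ideal.ofList, hs, Ideal.span]
      refine (Submodule.spanFinrank_span_le_ncard_of_finite rs.toFinset.finite_toSet).trans ?_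
      rw [Set.ncard_coe_finset]
      exact List.toFinset_card_le rs
    rw [hrs] at h1
    rw [← h1, add_comm]
    exact add_le_add_right (by exact_mod_cast h2) _
  · intro h
    obtain ⟨s, hs, hspan⟩ := Submodule.FG.exists_span_finset_card_eq_spanFinrank hfg
    have hI' : Ideal.ofList s.toList = I := by
      rw [Ideal.ofList]; simpa using hspan
    refine ⟨s.toList, hI', ⟨?_, ?_⟩⟩
    · refine H8Props.MiracleFlat.isWeaklyRegular_of_supportDim s.toList R ?_
        LocCoh.IsCohenMacaulayLocalRing.supportDim_eq_depth ?_
      · exact fun r hr => hIm (hI'.le (Ideal.subset_span hr))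
      · rw [hI', Module.supportDim_self_eq_ringKrullDim, Finset.length_toList, hs]
        have hd : Module.supportDim R (R ⧸ I • (⊤ : Submodule R R)) = ringKrullDim (R ⧸ I) := by
          rw [smul_eq_mul, Ideal.mul_top, Module.supportDim_quotient_eq_ringKrullDim]
        rw [hd, add_comm]
        exact h
    · rw [hI', smul_eq_mul, Ideal.mul_top]
      exact fun e => hI e.symm

end Groth.Agent.S2167
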