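import Groth.Statements.S2168
import Groth.Agent.S2164
import Groth.Agent.H13CI.FieldExt

set_option autoImplicit false
set_option linter.unusedSectionVars false
set_option linter.style.haveILetI false
universe u
open LCI

namespace Groth.Agent.S2168

section aux

open IsLocalRing

theorem ci_of_presentation {C R : Type u} [CommRing C] [IsNoetherianRing C] [CommRing R] [IsRegularLocalRing R]
    (rs : List R) (hreg : RingTheory.Sequence.IsRegular R rs) (e : C ≃+* R ⧸ Ideal.ofList rs)
    (P : Ideal C) [P.IsPrime] : Pi1.IsCompleteIntersection (Localization.AtPrime P) := by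
  haveI := H05EGA4.isRegularRing_of_isRegularLocalRing R
  let Q : Ideal (R ⧸ Ideal.ofList rs) := P.comap e.symm
  have h : Pi1.IsCompleteIntersection (Localization.AtPrime Q) := by
    rw [H13CI.isCI_localization_quotient_iff]
    refine ⟨rs.map (algebraMap R _), (Ideal.map_ofList _ _).symm,
      (IsLocalRing.isRegular_iff_isWeaklyRegular_of_subset_maximalIdeal fun x hx => ?_).mpr
      (RingTheory.Sequence.IsWeaklyRegular.of_flat hreg.toIsWeaklyRegular)⟩
    obtain ⟨r, hr, rfl⟩ := List.mem_map.mp hx
    refine (IsLocalization.AtPrime.to_map_mem_maximal_iff _ (Q.comap (Ideal.Quotient.mk (Ideal.ofList rs))) r).mpr ?_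
    rw [Ideal.mem_comap, Ideal.Quotient.eq_zero_iff_mem.mpr (show r ∈ Ideal.ofList rs from Ideal.subset_span hr)]
    exact Q.zero_mem
  have he : Q.comap e = P := by
    ext z
    show e.symm (e z) ∈ P ↔ _
    rw [e.symm_apply_apply]
  have key : ∀ (q₁ q₂ : Ideal C) [q₁.IsPrime] [q₂.IsPrime], q₁ = q₂ →
      Pi1.IsCompleteIntersection (Localization.AtPrime q₁) →
      Pi1.IsCompleteIntersection (Localization.AtPrime q₂) := by
    intro q₁ q₂ _ _ he h
    subst he
    exact h
  exact key _ _ he ((H13CI.isCI_localization_congr e Q).mpr h)

theorem descend {A C : Type u} [CommRing A] [CommRing C] [Algebra A C] [IsNoetherianRing A] [IsNoetherianRing C]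
    [Module.Flat A C] (p : Ideal A) [p.IsPrime] (P : Ideal C) [P.IsPrime] [P.LiesOver p]
    (hP : Pi1.IsCompleteIntersection (Localization.AtPrime P)) :
    Pi1.IsCompleteIntersection (Localization.AtPrime p) := by
  letI := Localization.AtPrime.algebraOfLiesOver p P
  haveI : IsLocalHom (algebraMap (Localization.AtPrime p) (Localization.AtPrime P)) := by
    rw [Localization.AtPrime.IsLiesOverAlgebra.algebraMap_eq]
    infer_instance
  haveI : IsNoetherianRing (Localization.AtPrime p) := IsLocalization.isNoetherianRing p.primeCompl _ inferInstance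
  haveI : IsNoetherianRing (Localization.AtPrime P) := IsLocalization.isNoetherianRing P.primeCompl _ inferInstance
  haveI : Module.Flat (Localization.AtPrime p) (Localization.AtPrime P) := by
    rw [Module.flat_iff_of_isLocalization (Localization.AtPrime p) p.primeCompl]
    exact Module.Flat.trans A C (Localization.AtPrime P)
  haveI : Nontrivial (Localization.AtPrime P ⧸ (maximalIdeal (Localization.AtPrime p)).map
      (algebraMap (Localization.AtPrime p) (Localization.AtPrime P))) := Ideal.Quotient.nontrivial_iff.mpr
    (ne_top_of_le_ne_top (maximalIdeal.isMaximal _).ne_top (map_maximalIdeal_le _))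
  haveI : IsLocalRing (Localization.AtPrime P ⧸ (maximalIdeal (Localization.AtPrime p)).map
      (algebraMap (Localization.AtPrime p) (Localization.AtPrime P))) := .of_surjective' _ Ideal.Quotient.mk_surjective
  exact (Groth.Agent.S2164.result.mp hP).1

end aux

/-- Let A be a Noetherian local ring which is a complete intersection (its completion is a regular local
ring modulo a regular sequence) and let p be a prime ideal of A. Then the localization A_p is a
complete intersection as well. -/
theorem result {A : Type u} [CommRing A] [IsNoetherianRing A]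
    [IsLocalRing A] (hA : Pi1.IsCompleteIntersection A) (p : Ideal A) [p.IsPrime] :
    Pi1.IsCompleteIntersection (Localization.AtPrime p) := by
  classical
  obtain ⟨R, _, _, rs, hrs, hreg, ⟨e⟩⟩ := hA
  haveI := H05EGA4.isNoetherianRing_adicCompletion A (IsLocalRing.maximalIdeal A)
  haveI : IsLocalHom (algebraMap A (AdicCompletion (IsLocalRing.maximalIdeal A) A)) :=
    ((IsLocalRing.local_hom_TFAE (algebraMap A _)).out 0 2).mpr (by rw [AdicCompletion.maximalIdeal_eq_map])
  haveI : Module.FaithfullyFlat A (AdicCompletion (IsLocalRing.maximalIdeal A) A) :=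
    Module.FaithfullyFlat.of_flat_of_isLocalHom
  obtain ⟨P, _, _⟩ := Ideal.exists_isPrime_liesOver_of_faithfullyFlat
    (B := AdicCompletion (IsLocalRing.maximalIdeal A) A) p
  have hP : Pi1.IsCompleteIntersection (Localization.AtPrime P) := ci_of_presentation rs hreg e P
  exact descend p P hP

end Groth.Agent.S2168
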