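import Groth.Statements.S2170
import Groth.Agent.H28Alg.Laplacian

set_option autoImplicit false
open Finset
open Models

namespace Groth.Agent.S2170

/-- Let A be a symmetric real n × n matrix with non-negative off-diagonal entries and m a vector with
positive entries such that for every i, ∑_{j ≠ i} A_{ij} m_j ≤ −A_{ii} m_i. Then the kernel of A is
the span of the vectors equal to m on an index set I and zero off I, for those I such that A_{ij} =
0 whenever i ∈ I and j ∉ I and such that equality holds in the above inequality for every i ∈ I. The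
published statement omits the symmetry of A (without which it fails) and applies it only to
symmetric matrices; stated here with A symmetric. -/
theorem result {n : ℕ} (A : Matrix (Fin n) (Fin n) ℝ) (m : Fin n → ℝ)
    (hsymm : A.IsSymm) (hA : ∀ i j, i ≠ j → 0 ≤ A i j) (hm : ∀ i, 0 < m i)
    (hle : ∀ i, ∑ j ∈ univ.erase i, A i j * m j ≤ -(A i i * m i)) :
    LinearMap.ker (Matrix.mulVecLin A) = Submodule.span ℝ
      {x : Fin n → ℝ | ∃ I : Finset (Fin n), (∀ i ∈ I, ∀ j ∉ I, A i j = 0) ∧
        (∀ i ∈ I, ∑ j ∈ univ.erase i, A i j * m j = -(A i i * m i)) ∧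
        x = fun i => if i ∈ I then m i else 0} := by
  classical
  have hrow : ∀ i, A.mulVec m i = (∑ j ∈ univ.erase i, A i j * m j) + A i i * m i := fun i => by
    rw [sum_erase_add _ _ (mem_univ i)]; rfl
  refine le_antisymm (fun x hx => ?_) (Submodule.span_le.mpr ?_)
  · rw [LinearMap.mem_ker, Matrix.mulVecLin_apply] at hx
    obtain ⟨hedge, hdiag⟩ := (Groth.Agent.H28Alg.scaled_facts hsymm hA hm
      (fun i => by rw [hrow]; linarith [hle i]) x).2 (by rw [hx, dotProduct_zero])
    let y := fun i => x i / m i
    let V := (univ.image y).erase 0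
    have hx' : x = ∑ c ∈ V, c • (fun i => if i ∈ univ.filter (fun k => y k = c) then m i else 0) := by
      funext i
      rw [Finset.sum_apply]
      simp only [mem_filter, mem_univ, true_and, Pi.smul_apply, smul_eq_mul, mul_ite, mul_zero]
      rw [sum_ite_eq V (y i) (fun c => c * m i)]
      by_cases h : y i = 0
      · have : y i ∉ V := by simp [V, h]
        simp only [this, if_false]
        have h' : x i / m i = 0 := h
        simpa [(hm i).ne'] using h'
      · have : y i ∈ V := by simp [V, h]
        simp [this, y, (hm i).ne']
    rw [hx']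
    refine Submodule.sum_mem _ fun c hc => Submodule.smul_mem _ c (Submodule.subset_span ?_)
    refine ⟨univ.filter fun k => y k = c, fun i hi j hj => ?_, fun i hi => ?_, rfl⟩
    · simp only [mem_filter, mem_univ, true_and] at hi hj
      by_contra hne
      exact hj ((hedge i j (fun h => hj (h ▸ hi)) hne).symm.trans hi)
    · simp only [mem_filter, mem_univ, true_and] at hi
      have hc0 : c ≠ 0 := (mem_erase.mp hc).1
      rcases hdiag i with h | h
      · rw [hrow] at h; linarith
      · exact absurd (by simp [y, h] at hi; exact hi.symm) hc0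
  · rintro _ ⟨I, hI, hI', rfl⟩
    rw [SetLike.mem_coe, LinearMap.mem_ker, Matrix.mulVecLin_apply]
    funext i
    simp only [Matrix.mulVec, dotProduct, mul_ite, mul_zero, sum_ite_mem, univ_inter, Pi.zero_apply]
    by_cases hi : i ∈ I
    · have : ∑ j ∈ I, A i j * m j = A.mulVec m i := sum_subset (subset_univ I) fun j _ hj => by simp [hI i hi j hj]
      rw [this, hrow, hI' i hi]; ring
    · exact sum_eq_zero fun j hj => by rw [hsymm.apply, hI j hj i hi, zero_mul]

end Groth.Agent.S2170
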