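import Groth.Statements.S2171
import Groth.Agent.H28Alg.Laplacian

set_option autoImplicit false
open Finset
open Models

namespace Groth.Agent.S2171

/-- Let A be a symmetric real n by n matrix with non-negative off-diagonal entries, m a vector with
positive entries such that A m = 0, and assume no proper non-empty index set I has A i j = 0 for all
i in I and j outside I. Then x^t A x is at most 0 for every real vector x, with equality exactly
when x is a real multiple of m. -/
theorem result {n : ℕ} (A : Matrix (Fin n) (Fin n) ℝ)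
    (m : Fin n → ℝ) (hsymm : A.IsSymm) (hA : ∀ i j, i ≠ j → 0 ≤ A i j) (hm : ∀ i, 0 < m i)
    (hAm : A.mulVec m = 0)
    (hconn : ∀ I : Finset (Fin n), I.Nonempty → I ≠ univ → ∃ i ∈ I, ∃ j ∉ I, A i j ≠ 0)
    (x : Fin n → ℝ) :
    dotProduct x (A.mulVec x) ≤ 0 ∧ (dotProduct x (A.mulVec x) = 0 ↔ ∃ q : ℝ, x = q • m) := by
  classical
  obtain ⟨h1, h2⟩ := Groth.Agent.H28Alg.scaled_facts hsymm hA hm (fun i => by rw [hAm]; rfl) x
  refine ⟨h1, fun h0 => ?_, ?_⟩
  · obtain ⟨hedge, -⟩ := h2 h0
    rcases isEmpty_or_nonempty (Fin n) with hn | ⟨⟨i₀⟩⟩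
    · exact ⟨0, funext fun i => hn.elim i⟩
    refine ⟨x i₀ / m i₀, funext fun i => ?_⟩
    have : univ.filter (fun k => x k / m k = x i₀ / m i₀) = univ := by
      by_contra hne
      obtain ⟨a, ha, b, hb, hab⟩ := hconn _ ⟨i₀, by simp⟩ hne
      simp only [mem_filter, mem_univ, true_and] at ha hb
      exact hb ((hedge a b (fun h => hb (h ▸ ha)) hab).symm.trans ha)
    have hi := (mem_filter.mp (this.ge (mem_univ i))).2
    have := (hm i).ne'
    rw [Pi.smul_apply, smul_eq_mul, ← hi]
    field_simp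
  · rintro ⟨q, rfl⟩
    simp [Matrix.mulVec_smul, hAm]

end Groth.Agent.S2171
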