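import Groth.Statements.S2179
import Groth.Agent.H28NT.Pic

set_option autoImplicit false
open Finset
open Models Models.NumericalType

namespace Groth.Agent.S2179

/-- For a numerical type T, the map Z^n -> Z^n multiplying the i-th coordinate by w i induces a
well-defined injective homomorphism from Pic(T), the cokernel of (a i j / w i), to the cokernel of
the matrix a. -/
theorem result {n : ℕ} (T : Models.NumericalType n) :
    ∃ f : T.Pic →+ T.CokerA, Function.Injective f ∧
      ∀ x : Fin n → ℤ, f (Submodule.Quotient.mk x) = Submodule.Quotient.mk (fun i => T.w i * x i) := by
  exact ⟨(H28NT.picToCoker T).toAddMonoidHom, H28NT.picToCoker_injective T, fun x => rfl⟩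

end Groth.Agent.S2179
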