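import Groth.Statements.S2182
import Groth.Agent.H28NT.Genus

set_option autoImplicit false
open Finset
open Models Models.NumericalType

namespace Groth.Agent.S2182

/-- In a numerical type, whenever a i j > 0 one has m i * a i j at most m j * |a j j| and m i * w i at
most m j * |a j j|. -/
theorem result {n : ℕ} (T : Models.NumericalType n) (i j : Fin n) (hij : 0 < T.a i j) :
    T.m i * T.a i j ≤ T.m j * |T.a j j| ∧ T.m i * T.w i ≤ T.m j * |T.a j j| := by
  rcases eq_or_ne i j with rfl | hne
  · exfalso
    have h := H28NT.row_eq T i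
    rw [← Finset.add_sum_erase univ _ (mem_univ i)] at h
    have h2 : 0 ≤ ∑ k ∈ univ.erase i, T.a i k * T.m k := Finset.sum_nonneg fun k hk =>
      mul_nonneg (T.offDiag_nonneg i k (Finset.mem_erase.1 hk).1.symm) (T.m_pos k).le
    have := mul_pos hij (T.m_pos i)
    linarith
  have hd : T.a j j ≤ 0 := by
    have h := H28NT.row_le T (i := j) (S := ∅) (by simp)
    rw [Finset.sum_empty] at h
    have := T.m_pos j
    nlinarith
  have h := H28NT.row_le T (i := j) (S := {i}) (by simpa using hne.symm)
  rw [Finset.sum_singleton, H28NT.a_comm T j i] at h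
  refine ⟨by rw [abs_of_nonpos hd]; linarith, ?_⟩
  rw [abs_of_nonpos hd]
  have := mul_le_mul_of_nonneg_left (H28NT.w_le_a T hne hij.ne').1 (T.m_pos i).le
  linarith

end Groth.Agent.S2182
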