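import Groth.Statements.S2183
import Groth.Agent.H28NT.Genus

set_option autoImplicit false
open Finset
open Models Models.NumericalType

namespace Groth.Agent.S2183

open Classical in
/-- Let T be a minimal numerical type with n > 1 indices and genus g at least 2, and let J be the set of
indices which are not (-2)-indices. Then J has at most 2g - 2 elements, and for j in J one has g j <
g, m j * |a j j| at most 6g - 6, and m i * a i j at most 6g - 6 for every index i. -/
theorem result {n : ℕ} (T : Models.NumericalType n) (hmin : T.IsMinimal) (hn : 1 < n) (hg : 2 ≤ T.genus) :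
    ((univ.filter fun j => ¬T.IsMinusTwo j).card : ℤ) ≤ 2 * T.genus - 2 ∧
      ∀ j, ¬T.IsMinusTwo j →
        T.g j < T.genus ∧ T.m j * |T.a j j| ≤ 6 * T.genus - 6 ∧
          ∀ i, T.m i * T.a i j ≤ 6 * T.genus - 6 := by
  have key : ∀ j, ¬T.IsMinusTwo j → 1 ≤ H28NT.ctr T j := fun j hj => by
    rcases (H28NT.ctr_nonneg T hn hmin j).lt_or_eq with h | h
    · omega
    · exact absurd (H28NT.minusTwo_of_zero T hn j h.symm) hj
  have h2g := H28NT.two_genus T
  have hle : ∀ j, H28NT.ctr T j ≤ ∑ i, H28NT.ctr T i := fun j =>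
    Finset.single_le_sum (fun i _ => H28NT.ctr_nonneg T hn hmin i) (mem_univ j)
  constructor
  · calc ((univ.filter fun j => ¬T.IsMinusTwo j).card : ℤ) = ∑ j ∈ univ.filter (fun j => ¬T.IsMinusTwo j), 1 := by simp
      _ ≤ ∑ j ∈ univ.filter (fun j => ¬T.IsMinusTwo j), H28NT.ctr T j :=
          Finset.sum_le_sum fun j hj => key j (Finset.mem_filter.1 hj).2
      _ ≤ ∑ j, H28NT.ctr T j :=
          Finset.sum_le_sum_of_subset_of_nonneg (subset_univ _) fun i _ _ => H28NT.ctr_nonneg T hn hmin i
      _ = 2 * T.genus - 2 := by linarith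
  intro j hj
  have hj1 := key j hj
  have hj2 := hle j
  have hm := T.m_pos j
  have hw := T.w_pos j
  have ha := H28NT.diag_neg T hn j
  have hmw : 1 ≤ T.m j * T.w j := mul_pos hm hw
  have hma : 0 < T.m j * (-T.a j j) := mul_pos hm (by linarith)
  have hdef : H28NT.ctr T j = 2 * (T.m j * T.w j) * (T.g j - 1) + T.m j * (-T.a j j) := by
    rw [H28NT.ctr]; ring
  have hga : T.g j < T.genus ∧ T.m j * (-T.a j j) ≤ 6 * T.genus - 6 := by
    rcases (T.g_nonneg j).lt_or_eq with h0 | h0
    · have := mul_nonneg (show 0 ≤ T.m j * T.w j - 1 by linarith) (show 0 ≤ T.g j - 1 by omega)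
      constructor <;> nlinarith
    · refine ⟨by omega, ?_⟩
      obtain ⟨p, hp⟩ := T.w_dvd j j
      have hp1 : p ≤ -3 := by
        by_contra hc
        rw [hdef, ← h0] at hj1
        have : p ≠ -2 := fun h => hj ⟨h0.symm, by rw [hp, h]; ring⟩
        have : p = -1 ∨ 0 ≤ p := by omega
        rcases this with h | h
        · rw [hp, h] at hj1; nlinarith
        · nlinarith
      rw [← h0, hp] at hdef
      rw [hp]
      nlinarith
  refine ⟨hga.1, by rw [abs_of_neg ha]; exact hga.2, fun i => ?_⟩
  rcases eq_or_ne i j with rfl | hne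
  · nlinarith
  have h := H28NT.row_le T (i := j) (S := {i}) (by simpa using hne.symm)
  rw [Finset.sum_singleton, H28NT.a_comm T j i] at h
  linarith [hga.2]

end Groth.Agent.S2183
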