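import Groth.Statements.S2185
import Groth.Agent.H28NT.Bound
import Groth.Agent.H28NT.PicContract
import Groth.Agent.H28Alg.TorsionBound
import Groth.Agent.H28NT.Torsion

set_option autoImplicit false
open Finset
open Models Models.NumericalType

namespace Groth.Agent.S2185

/-- Let T be a numerical type of genus g at least 2 and l a prime bigger than 768 g. Then the l-torsion
subgroup of Pic(T) has at most l^g elements (F_l-dimension at most g); if T is minimal it has at
most l^(g_top) elements where g_top is the topological genus, itself at most g. -/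
theorem result {n : ℕ} (T : Models.NumericalType n) (hg : 2 ≤ T.genus) (ℓ : ℕ) (hℓ : ℓ.Prime)
    (hℓg : 768 * T.genus < ℓ) :
    Nat.card (Submodule.torsionBy ℤ T.Pic (ℓ : ℤ)) ≤ ℓ ^ T.genus.toNat ∧
      (T.IsMinimal → Nat.card (Submodule.torsionBy ℤ T.Pic (ℓ : ℤ)) ≤ ℓ ^ T.topGenus.toNat ∧
        T.topGenus ≤ T.genus) := by
  exact H28NT.card_torsion_pic_le T hg ℓ hℓ hℓg

end Groth.Agent.S2185
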