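import Groth.Statements.S2186
import Groth.Agent.H11Tor.Cover

set_option autoImplicit false
set_option linter.unusedSectionVars false
set_option linter.style.haveILetI false
universe u
open LCI

namespace Groth.Agent.S2186

section aux

open IsLocalRing H11Tor

variable {A B : Type u} [CommRing A] [CommRing B] [IsNoetherianRing A] [IsNoetherianRing B] [IsLocalRing A]
  [IsLocalRing B] [IsAdicComplete (maximalIdeal B) B] [Algebra A B] [IsLocalHom (algebraMap A B)]

theorem isLocalHom_of_factor {S : Type u} [CommRing S] [IsLocalRing S] [Algebra A S] (g : S →ₐ[A] B) :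
    IsLocalHom (algebraMap A S) := ⟨fun a ha => by
  have := ha.map g
  rw [AlgHom.commutes] at this
  exact isUnit_of_map_unit (algebraMap A B) a this⟩

theorem complete_model (S : Type u) [CommRing S] [IsNoetherianRing S] [IsLocalRing S] [Algebra A S]
    [Module.Flat A S] [IsRegularLocalRing (S ⧸ Ideal.map (algebraMap A S) (maximalIdeal A))]
    (g : S →ₐ[A] B) (hg : Function.Surjective g) :
    ∃ (Sh : Type u) (_ : CommRing Sh) (_ : IsNoetherianRing Sh) (_ : IsLocalRing Sh) (_ : IsAdicComplete (maximalIdeal Sh) Sh)
      (_ : Algebra A Sh) (_ : Module.Flat A Sh) (_ : IsRegularLocalRing (Sh ⧸ Ideal.map (algebraMap A Sh) (maximalIdeal A)))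
      (gh : Sh →ₐ[A] B), Function.Surjective gh ∧ (RegIdeal (RingHom.ker gh) ↔ RegIdeal (RingHom.ker g)) := by
  haveI := isLocalHom_of_factor g
  haveI := H05EGA4.isNoetherianRing_adicCompletion S (maximalIdeal S)
  haveI : IsLocalHom (algebraMap S (AdicCompletion (maximalIdeal S) S)) :=
    ((local_hom_TFAE (algebraMap S (AdicCompletion (maximalIdeal S) S))).out 0 2).mpr
      (by rw [AdicCompletion.maximalIdeal_eq_map])
  obtain ⟨gh, hloc, hsurj, hcomp, hker⟩ := exists_completion_extend g.toRingHom hg
  haveI : Module.Flat A (AdicCompletion (maximalIdeal S) S) := Module.Flat.trans A S _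
  have hfib : IsRegularLocalRing (AdicCompletion (maximalIdeal S) S ⧸
      Ideal.map (algebraMap A (AdicCompletion (maximalIdeal S) S)) (maximalIdeal A)) := by
    let mS := (maximalIdeal A).map (algebraMap A S)
    let Sh := AdicCompletion (maximalIdeal S) S
    have he : Ideal.map (algebraMap A Sh) (maximalIdeal A) = mS.map (algebraMap S Sh) := by
      rw [IsScalarTower.algebraMap_eq A S Sh, ← Ideal.map_map]
    haveI : Nontrivial (Sh ⧸ mS.map (algebraMap S Sh)) := Ideal.Quotient.nontrivial_iff.mpr
      (ne_top_of_le_ne_top (maximalIdeal.isMaximal Sh).ne_top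
        ((Ideal.map_mono (map_maximalIdeal_le (algebraMap A S))).trans (map_maximalIdeal_le _)))
    haveI : IsLocalRing (Sh ⧸ mS.map (algebraMap S Sh)) := .of_surjective' _ Ideal.Quotient.mk_surjective
    haveI : Module.Flat (S ⧸ mS) (Sh ⧸ mS.map (algebraMap S Sh)) :=
      RingHom.flat_algebraMap_iff.mp (H13CI.flat_quotient_map mS)
    haveI : IsRegularLocalRing (Sh ⧸ mS.map (algebraMap S Sh)) := by
      refine H05EGA4.isRegularLocalRing_of_flat_of_map_eq (S ⧸ mS) _ ?_
      rw [← map_maximalIdeal_of_surjective _ (Ideal.Quotient.mk_surjective (I := mS)),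
        ← map_maximalIdeal_of_surjective _ (Ideal.Quotient.mk_surjective (I := mS.map (algebraMap S Sh))),
        AdicCompletion.maximalIdeal_eq_map]
      refine (Ideal.map_map _ _).trans (Eq.trans ?_ (Ideal.map_map (algebraMap S Sh) _).symm)
      rfl
    exact IsRegularLocalRing.of_ringEquiv (Ideal.quotEquivOfEq he.symm)
  let gA : AdicCompletion (maximalIdeal S) S →ₐ[A] B :=
    { gh with
      commutes' := fun a => by
        show gh (algebraMap A _ a) = _
        rw [IsScalarTower.algebraMap_apply A S (AdicCompletion (maximalIdeal S) S),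
          show gh (algebraMap S _ (algebraMap A S a)) = g (algebraMap A S a) from RingHom.congr_fun hcomp _,
          AlgHom.commutes] }
  refine ⟨_, inferInstance, inferInstance, inferInstance, inferInstance, inferInstance, inferInstance, hfib, gA, hsurj, ?_⟩
  rw [show RingHom.ker gA = (RingHom.ker g).map (algebraMap S (AdicCompletion (maximalIdeal S) S)) from hker]
  exact regIdeal_map_iff (RingHom.ker g) (RingHom.ker_ne_top g.toRingHom)

theorem cover_iff {W S : Type u} [CommRing W] [IsNoetherianRing W] [IsLocalRing W] [Algebra A W]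
    [IsLocalHom (algebraMap A W)] [Module.Flat A W] [IsRegularLocalRing (W ⧸ Ideal.map (algebraMap A W) (maximalIdeal A))]
    [CommRing S] [Algebra A S] [Module.Flat A S] [IsRegularLocalRing (S ⧸ Ideal.map (algebraMap A S) (maximalIdeal A))]
    (π : W →ₐ[A] S) (hπ : Function.Surjective π) (g : S →ₐ[A] B) :
    RegIdeal (RingHom.ker (g.comp π)) ↔ RegIdeal (RingHom.ker g) := by
  let e : (W ⧸ RingHom.ker π) ≃ₐ[A] S := Ideal.quotientKerAlgEquivOfSurjective hπ
  haveI : Module.Flat A (W ⧸ RingHom.ker π) := Module.Flat.of_linearEquiv e.toLinearEquiv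
  haveI : IsRegularLocalRing ((W ⧸ RingHom.ker π) ⧸
      (maximalIdeal A).map (algebraMap A (W ⧸ RingHom.ker π))) :=
    IsRegularLocalRing.of_ringEquiv (R := S ⧸ Ideal.map (algebraMap A S) (maximalIdeal A))
      (Ideal.quotientEquiv _ _ e.symm.toRingEquiv (by
        rw [Ideal.map_map]
        congr 1
        exact RingHom.ext fun a => (e.symm.commutes a).symm))
  rw [regIdeal_iff_quotient (A := A) (RingHom.ker π) (RingHom.ker (g.comp π))
    (fun x hx => by rw [RingHom.mem_ker, AlgHom.comp_apply, RingHom.mem_ker.mp hx, map_zero])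
    (RingHom.ker_ne_top (g.comp π).toRingHom)]
  have hmap : ((RingHom.ker (g.comp π)).map (Ideal.Quotient.mk (RingHom.ker π))).map (e.toRingEquiv : (W ⧸ RingHom.ker π) →+* S) =
      RingHom.ker g := by
    rw [Ideal.map_map]
    apply le_antisymm
    · exact Ideal.map_le_iff_le_comap.mpr fun x hx => hx
    · intro s hs
      obtain ⟨x, rfl⟩ := hπ s
      exact Ideal.mem_map_of_mem ((e.toRingEquiv : (W ⧸ RingHom.ker π) →+* S).comp (Ideal.Quotient.mk (RingHom.ker π)))
        (show x ∈ RingHom.ker (g.comp π) from hs)
  constructor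
  · intro h
    have := regIdeal_map_of_equiv e.toRingEquiv h
    rwa [hmap] at this
  · intro h
    have := regIdeal_map_of_equiv e.toRingEquiv.symm h
    rw [← hmap, Ideal.map_of_equiv] at this
    exact this

end aux

/-- Let A -> B be a local homomorphism of complete Noetherian local rings, and take two factorizations A
-> S -> B and A -> S' -> B through Noetherian local rings with S -> B and S' -> B surjective, A -> S
and A -> S' flat, and regular closed fibres S/m_A S and S'/m_A S'. Then the kernel of S -> B is cut
out by a regular sequence exactly when the kernel of S' -> B is. -/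
theorem result {A B S S' : Type u} [CommRing A] [CommRing B]
    [CommRing S] [CommRing S'] [IsNoetherianRing A] [IsNoetherianRing B] [IsNoetherianRing S]
    [IsNoetherianRing S'] [IsLocalRing A] [IsLocalRing B] [IsLocalRing S] [IsLocalRing S']
    [IsAdicComplete (IsLocalRing.maximalIdeal A) A] [IsAdicComplete (IsLocalRing.maximalIdeal B) B]
    [Algebra A B] [Algebra A S] [Algebra A S'] [IsLocalHom (algebraMap A B)]
    [Module.Flat A S] [Module.Flat A S']
    [IsRegularLocalRing (S ⧸ Ideal.map (algebraMap A S) (IsLocalRing.maximalIdeal A))]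
    [IsRegularLocalRing (S' ⧸ Ideal.map (algebraMap A S') (IsLocalRing.maximalIdeal A))]
    (g : S →ₐ[A] B) (g' : S' →ₐ[A] B) (hg : Function.Surjective g)
    (hg' : Function.Surjective g') :
    (∃ rs : List S, Ideal.ofList rs = RingHom.ker g ∧ RingTheory.Sequence.IsRegular S rs) ↔
      (∃ rs' : List S', Ideal.ofList rs' = RingHom.ker g' ∧
        RingTheory.Sequence.IsRegular S' rs') := by
  classical
  obtain ⟨Sh, _, _, _, _, _, _, _, gh, hgh, hiff⟩ := complete_model S g hg
  obtain ⟨Sh', _, _, _, _, _, _, _, gh', hgh', hiff'⟩ := complete_model S' g' hg'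
  haveI := isLocalHom_of_factor gh
  haveI := isLocalHom_of_factor gh'
  obtain ⟨C, _, _, _, _, _, p, p', hp, hp', hpp⟩ := H11Tor.exists_fibreProduct gh gh' hgh hgh'
  haveI := H05EGA4.isNoetherianRing_adicCompletion C (IsLocalRing.maximalIdeal C)
  obtain ⟨ph, hphloc, hph, hphc, -⟩ := H11Tor.exists_completion_extend p.toRingHom hp
  obtain ⟨ph', hphloc', hph', hphc', -⟩ := H11Tor.exists_completion_extend p'.toRingHom hp'
  let pA : AdicCompletion (IsLocalRing.maximalIdeal C) C →ₐ[A] Sh :=
    { ph with
      commutes' := fun a => by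
        show ph (algebraMap A _ a) = _
        rw [IsScalarTower.algebraMap_apply A C (AdicCompletion (IsLocalRing.maximalIdeal C) C),
          show ph (algebraMap C _ (algebraMap A C a)) = p (algebraMap A C a) from RingHom.congr_fun hphc _,
          AlgHom.commutes] }
  let pA' : AdicCompletion (IsLocalRing.maximalIdeal C) C →ₐ[A] Sh' :=
    { ph' with
      commutes' := fun a => by
        show ph' (algebraMap A _ a) = _
        rw [IsScalarTower.algebraMap_apply A C (AdicCompletion (IsLocalRing.maximalIdeal C) C),
          show ph' (algebraMap C _ (algebraMap A C a)) = p' (algebraMap A C a) from RingHom.congr_fun hphc' _,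
          AlgHom.commutes] }
  haveI : IsLocalHom gh.toRingHom := Function.Surjective.isLocalHom gh.toRingHom hgh
  haveI : IsLocalHom gh'.toRingHom := Function.Surjective.isLocalHom gh'.toRingHom hgh'
  haveI : IsLocalHom (gh.toRingHom.comp ph) := RingHom.isLocalHom_comp _ _
  haveI : IsLocalHom (gh'.toRingHom.comp ph') := RingHom.isLocalHom_comp _ _
  have hagree : gh.toRingHom.comp ph = gh'.toRingHom.comp ph' := H11Tor.completion_hom_ext _ _ fun c => by
    show gh (ph (algebraMap C _ c)) = gh' (ph' (algebraMap C _ c))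
    rw [show ph (algebraMap C _ c) = p c from RingHom.congr_fun hphc c,
      show ph' (algebraMap C _ c) = p' c from RingHom.congr_fun hphc' c]
    exact AlgHom.congr_fun hpp c
  haveI : IsLocalHom (algebraMap A (AdicCompletion (IsLocalRing.maximalIdeal C) C)) :=
    isLocalHom_of_factor (gh.comp pA)
  obtain ⟨W, _, _, _, _, _, _, _, q, hq⟩ := H11Tor.exists_factor (A := A) (C := AdicCompletion (IsLocalRing.maximalIdeal C) C)
  have h1 := cover_iff (pA.comp q) (hph.comp hq) gh
  have h2 := cover_iff (pA'.comp q) (hph'.comp hq) gh'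
  have h3 : gh.comp (pA.comp q) = gh'.comp (pA'.comp q) :=
    AlgHom.ext fun w => RingHom.congr_fun hagree (q w)
  rw [h3] at h1
  exact hiff.symm.trans ((h1.symm.trans h2).trans hiff')

end Groth.Agent.S2186
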