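import Groth.Statements.S2187
import Groth.Agent.H11Misc.Vasconcelos

set_option autoImplicit false
universe u
open CategoryTheory
open LCI

namespace Groth.Agent.S2187

/-- Let R be a Noetherian local ring and I an ideal of finite projective dimension as an R-module. If F
is a direct summand of the conormal module I/I^2 which is isomorphic to R/I, then there is a
nonzerodivisor x in I whose class in I/I^2 generates F. -/
theorem result {R : Type u} [CommRing R]
    [IsNoetherianRing R] [IsLocalRing R] (I : Ideal R) (n : ℕ)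
    (hpd : HasProjectiveDimensionLT (ModuleCat.of R I) n)
    (F G : Submodule (R ⧸ I) I.Cotangent) (hFG : IsCompl F G) (e : F ≃ₗ[R ⧸ I] (R ⧸ I)) :
    ∃ (x : R) (hx : x ∈ I), x ∈ nonZeroDivisors R ∧
      Submodule.span (R ⧸ I) {I.toCotangent ⟨x, hx⟩} = F := by
  classical
  by_cases hI : I = ⊤
  · subst hI
    refine ⟨1, trivial, one_mem _, ?_⟩
    have : Subsingleton ((⊤ : Ideal R).Cotangent) := (Ideal.cotangent_subsingleton_iff _).2 (by simp [IsIdempotentElem])
    exact Subsingleton.elim _ _
  let prj : I.Cotangent →ₗ[R ⧸ I] (R ⧸ I) := e.toLinearMap ∘ₗ F.projectionOnto G hFG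
  obtain ⟨v, hv⟩ := I.toCotangent_surjective ((e.symm 1 : F) : I.Cotangent)
  obtain ⟨x, hx, hreg⟩ := H11Misc.Vasconcelos.exists_isRegular 1 R I hI n
    (hasProjectiveDimensionLT_of_ge _ n _ (Nat.le_succ n)) (fun _ => (v : R)) (fun _ => v.2)
    (fun _ => (prj.restrictScalars R) ∘ₗ I.toCotangent) fun i j => by
      rw [if_pos (Subsingleton.elim i j)]
      show prj (I.toCotangent v) = 1
      rw [hv]
      show e (F.projectionOnto G hFG _) = _
      rw [Submodule.projectionOnto_apply_left, e.apply_symm_apply]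
  have hxI : x 0 ∈ I := by
    have := add_mem (Ideal.pow_le_self two_ne_zero (hx 0)) v.2
    rwa [sub_add_cancel] at this
  refine ⟨x 0, hxI, ?_, ?_⟩
  · rw [List.ofFn_succ, RingTheory.Sequence.isRegular_cons_iff] at hreg
    exact mem_nonZeroDivisors_iff_right.2 fun z hz =>
      hreg.1 (by simpa [mul_comm] using hz)
  · rw [show I.toCotangent ⟨x 0, hxI⟩ = ((e.symm 1 : F) : I.Cotangent) from hv ▸ (I.toCotangent_eq).2 (hx 0)]
    refine le_antisymm ((Submodule.span_singleton_le_iff_mem _ _).2 (SetLike.coe_mem _)) fun z hz => ?_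
    refine Submodule.mem_span_singleton.2 ⟨e ⟨z, hz⟩, ?_⟩
    rw [← Submodule.coe_smul, ← map_smul, smul_eq_mul, mul_one, e.symm_apply_apply]

end Groth.Agent.S2187
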