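import Groth.Statements.S2188
import Groth.Agent.H11Misc.Vasconcelos

set_option autoImplicit false
universe u
open CategoryTheory
open LCI

namespace Groth.Agent.S2188

/-- Let R be a Noetherian local ring and I an ideal of finite projective dimension as an R-module. If F
is a direct summand of I/I^2 which is free of rank r over R/I, then there is a regular sequence x_1,
..., x_r of R inside I whose classes in I/I^2 generate F. -/
theorem result {R : Type u} [CommRing R]
    [IsNoetherianRing R] [IsLocalRing R] (I : Ideal R) (hI : I ≠ ⊤) (n : ℕ)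
    (hpd : HasProjectiveDimensionLT (ModuleCat.of R I) n)
    (F G : Submodule (R ⧸ I) I.Cotangent) (hFG : IsCompl F G) (r : ℕ)
    (e : F ≃ₗ[R ⧸ I] (Fin r → R ⧸ I)) :
    ∃ (x : Fin r → R) (hx : ∀ i, x i ∈ I), RingTheory.Sequence.IsRegular R (List.ofFn x) ∧
      Submodule.span (R ⧸ I) (Set.range fun i => I.toCotangent ⟨x i, hx i⟩) = F := by
  classical
  let prj : I.Cotangent →ₗ[R ⧸ I] (Fin r → R ⧸ I) := e.toLinearMap ∘ₗ F.projectionOnto G hFG
  choose v hv using fun i => I.toCotangent_surjective ((e.symm (Pi.single i 1) : F) : I.Cotangent)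
  let φ : Fin r → (I →ₗ[R] R ⧸ I) := fun i => ((LinearMap.proj i ∘ₗ prj).restrictScalars R) ∘ₗ I.toCotangent
  have hφ : ∀ i j, φ i (v j) = if i = j then 1 else 0 := fun i j => by
    show prj (I.toCotangent (v j)) i = _
    rw [hv, show prj ((e.symm (Pi.single j 1) : F) : I.Cotangent) = Pi.single j 1 from ?_, Pi.single_apply]
    show e (F.projectionOnto G hFG _) = _
    rw [Submodule.projectionOnto_apply_left, e.apply_symm_apply]
  obtain ⟨x, hx, hreg⟩ := H11Misc.Vasconcelos.exists_isRegular r R I hI n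
    (hasProjectiveDimensionLT_of_ge _ n _ (Nat.le_succ n)) (fun i => (v i : R)) (fun i => (v i).2) φ hφ
  have hxI : ∀ i, x i ∈ I := fun i => by
    have := add_mem (Ideal.pow_le_self two_ne_zero (hx i)) (v i).2
    rwa [sub_add_cancel] at this
  refine ⟨x, hxI, hreg, ?_⟩
  have htc : ∀ i, I.toCotangent ⟨x i, hxI i⟩ = ((e.symm (Pi.single i 1) : F) : I.Cotangent) := fun i =>
    (hv i) ▸ (I.toCotangent_eq).2 (hx i)
  simp only [htc]
  refine le_antisymm (Submodule.span_le.2 ?_) fun z hz => ?_
  · rintro _ ⟨i, rfl⟩; exact SetLike.coe_mem _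
  · have : z = ∑ i, (e ⟨z, hz⟩ i) • ((e.symm (Pi.single i 1) : F) : I.Cotangent) := by
      conv_lhs => rw [show z = ((⟨z, hz⟩ : F) : I.Cotangent) from rfl, ← e.symm_apply_apply ⟨z, hz⟩,
        pi_eq_sum_univ' (e ⟨z, hz⟩)]
      simp
    rw [this]
    exact Submodule.sum_mem _ fun i _ => Submodule.smul_mem _ _ (Submodule.subset_span ⟨i, rfl⟩)

end Groth.Agent.S2188
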