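import Groth.Statements.S2191
import Groth.Agent.H27DPow.Extend

set_option autoImplicit false
universe u v
open DPow

namespace Groth.Agent.S2191

/-- Part (2): if two ideals I and J of a ring carry divided power structures agreeing on their
intersection, then exactly one divided power structure on the ideal I + J restricts to the given
ones on I and on J. -/
theorem result {A : Type u} [CommRing A] {I J : Ideal A} (γ : DividedPowers I)
    (δ : DividedPowers J) (h : ∀ (n : ℕ) (x : A), x ∈ I ⊓ J → γ.dpow n x = δ.dpow n x) :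
    ∃! ε : DividedPowers (I ⊔ J),
      (∀ (n : ℕ) (x : A), x ∈ I → ε.dpow n x = γ.dpow n x) ∧
        (∀ (n : ℕ) (x : A), x ∈ J → ε.dpow n x = δ.dpow n x) := by
  obtain ⟨ε, h1, h2⟩ := Groth.Agent.H27DPow.exists_sup γ δ h
  refine ⟨ε, ⟨h1, h2⟩, fun ε' ⟨g1, g2⟩ => ?_⟩
  refine DividedPowers.ext _ _ fun n z hz => ?_
  obtain ⟨x, hx, y, hy, rfl⟩ := Submodule.mem_sup.1 hz
  rw [ε'.dpow_add (Submodule.mem_sup_left hx) (Submodule.mem_sup_right hy),
    ε.dpow_add (Submodule.mem_sup_left hx) (Submodule.mem_sup_right hy)]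
  exact Finset.sum_congr rfl fun k _ => by rw [g1 _ _ hx, g2 _ _ hy, h1 _ _ hx, h2 _ _ hy]

end Groth.Agent.S2191
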