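import Groth.Statements.S2194
import Groth.Agent.H27DPow.Envelope

set_option autoImplicit false
universe u
open DPow

namespace Groth.Agent.S2194

/-- Let (A, I) be a ring with a divided power structure on I, B an A-algebra and J an ideal of B
containing I B. Then there is a divided power ring (D, J') with a ring map B -> D carrying J into J'
whose composite with A -> B is a homomorphism of divided power rings, universal for such data: for
every divided power ring (C, K) with a divided power homomorphism A -> C and every A-algebra map B
-> C carrying J into K there is exactly one divided power homomorphism D -> C compatible with the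
maps from B. -/
theorem result {A B : Type u} [CommRing A] [CommRing B] [Algebra A B] {I : Ideal A}
    (γ : DividedPowers I) (J : Ideal B) (hIJ : I.map (algebraMap A B) ≤ J) :
    ∃ (D : Type u) (_ : CommRing D) (_ : Algebra B D) (JD : Ideal D) (γD : DividedPowers JD),
      J.map (algebraMap B D) ≤ JD ∧
      γ.IsDPMorphism γD ((algebraMap B D).comp (algebraMap A B)) ∧
      ∀ (C : Type u) [CommRing C] [Algebra A C] (K : Ideal C) (δ : DividedPowers K),
        γ.IsDPMorphism δ (algebraMap A C) →
        ∀ ψ : B →ₐ[A] C, J.map ψ ≤ K →
          ∃! χ : D →+* C, χ.comp (algebraMap B D) = ψ ∧ γD.IsDPMorphism δ χ := by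
  obtain ⟨D, i1, i2, JD, γD, h1, h2, h3⟩ := Groth.Agent.H27DPow.exists_envelope γ J hIJ
  refine ⟨D, i1, i2, JD, γD, h1, h2, fun C _ _ K δ hδ ψ hψ => ?_⟩
  exact h3 C K δ ψ.toRingHom (by rw [show ψ.toRingHom.comp (algebraMap A B) = algebraMap A C from RingHom.ext ψ.commutes]; exact hδ) hψ

end Groth.Agent.S2194
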