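import Groth.Statements.S2198
import Groth.Agent.H17.QCohCat.Affine
-- import your own Groth.Agent.* helpers here

set_option autoImplicit false
universe u
open CategoryTheory AlgebraicGeometry
open QCohCat

namespace Groth.Agent.S2198

/-- For a qcqs scheme X: if quasi-coherent O_X-modules form a category equivalent to that of modules
over some commutative ring R, then X is affine. -/
theorem result (X : Scheme.{u}) [CompactSpace X]
    [QuasiSeparatedSpace X] (R : Type u) [CommRing R]
    (e : QCohCat.QCoh X ≌ ModuleCat.{u} R) : IsAffine X := by
  exact H17.QCohAffine.isAffine_of_equivalence e

end Groth.Agent.S2198
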