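import Groth.Statements.S2201
import Groth.Agent.S2200
import Groth.Agent.H11Tor.Local
import Groth.Agent.H24Def.FlatFS
import Groth.Agent.H29Slice.TransBC

set_option autoImplicit false
set_option linter.unusedSectionVars false
set_option linter.style.haveILetI false
universe u
open LCI

namespace Groth.Agent.S2201

section aux

open RingTheory.Sequence

variable {R S : Type u} [CommRing R] [CommRing S] [IsNoetherianRing R] [IsNoetherianRing S] [IsLocalRing R]
  [IsLocalRing S] [Algebra R S] [IsLocalHom (algebraMap R S)] [Module.Flat R S] (I : Ideal R)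

theorem isLocalHom_quot (hI : I.map (algebraMap R S) ≠ ⊤) :
    IsLocalHom (algebraMap (R ⧸ I) (S ⧸ I.map (algebraMap R S))) := by
  haveI := Ideal.Quotient.nontrivial_iff.2 hI
  haveI : IsLocalHom (Ideal.Quotient.mk (I.map (algebraMap R S))) := IsLocalHom.of_surjective _ Ideal.Quotient.mk_surjective
  refine ⟨fun x hx => ?_⟩
  obtain ⟨a, rfl⟩ := Ideal.Quotient.mk_surjective x
  rw [Ideal.Quotient.algebraMap_quotient_map_quotient, isUnit_map_iff, isUnit_map_iff] at hx
  exact hx.map _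

theorem regular_fibre [IsLocalRing (R ⧸ I)]
    [IsRegularLocalRing (S ⧸ Ideal.map (algebraMap R S) (IsLocalRing.maximalIdeal R))]
    (hmax : IsLocalRing.maximalIdeal (R ⧸ I) = (IsLocalRing.maximalIdeal R).map (Ideal.Quotient.mk I)) :
    IsRegularLocalRing ((S ⧸ I.map (algebraMap R S)) ⧸
      (IsLocalRing.maximalIdeal (R ⧸ I)).map (algebraMap (R ⧸ I) (S ⧸ I.map (algebraMap R S)))) := by
  have h1 : (IsLocalRing.maximalIdeal (R ⧸ I)).map (algebraMap (R ⧸ I) (S ⧸ I.map (algebraMap R S))) =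
      ((IsLocalRing.maximalIdeal R).map (algebraMap R S)).map (Ideal.Quotient.mk (I.map (algebraMap R S))) := by
    rw [hmax, Ideal.map_map, Ideal.map_map]
    rfl
  haveI : Nontrivial (R ⧸ I) := inferInstance
  have hle : I.map (algebraMap R S) ≤ (IsLocalRing.maximalIdeal R).map (algebraMap R S) :=
    Ideal.map_mono (IsLocalRing.le_maximalIdeal (Ideal.Quotient.nontrivial_iff.1 inferInstance))
  exact IsRegularLocalRing.of_ringEquiv
    ((Ideal.quotEquivOfEq h1).trans (DoubleQuot.quotQuotEquivQuotOfLE hle)).symm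

theorem regular_descend (hI : I ≠ ⊤) (h : ∃ rs : List S, Ideal.ofList rs = I.map (algebraMap R S) ∧ IsRegular S rs) :
    ∃ rs : List R, Ideal.ofList rs = I ∧ IsRegular R rs := by
  classical
  haveI : Module.FaithfullyFlat R S := Module.FaithfullyFlat.of_flat_of_isLocalHom
  obtain ⟨a, x, -, hx, hminx⟩ := H13CInt.exists_completion (Fin.elim0 : Fin 0 → R) (J := I) (K := I) (by simp)
  simp only [Set.range_eq_empty, Ideal.span_empty, bot_sup_eq] at hx
  have hmin : H13CInt.MinGen x := fun c hc => hminx Fin.elim0 c (by simpa using hc)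
  have hxm : ∀ i, x i ∈ IsLocalRing.maximalIdeal R := fun i =>
    IsLocalRing.le_maximalIdeal hI (hx.le (Ideal.subset_span ⟨i, rfl⟩))
  have hminS : H13CInt.MinGen (algebraMap R S ∘ x) := by
    intro c hc i
    obtain ⟨k, b, y, hy, hb⟩ := Module.Flat.isTrivialRelation_of_sum_smul_eq_zero (R := R) (f := x) (x := c)
      (by rw [← hc]; exact Finset.sum_congr rfl fun i _ => by rw [Algebra.smul_def, mul_comm]; rfl)
    rw [hy i]
    refine Ideal.sum_mem _ fun l _ => ?_
    rw [Algebra.smul_def]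
    refine Ideal.mul_mem_right _ _ (IsLocalRing.map_maximalIdeal_le (algebraMap R S) (Ideal.mem_map_of_mem _ ?_))
    exact hmin (fun i => b i l) (by rw [← hb l]; exact Finset.sum_congr rfl fun i _ => mul_comm _ _) i
  obtain ⟨rs, hrs, hreg⟩ := h
  obtain ⟨n, f, hf, hfI⟩ := H13CInt.exists_fun_of_isRegularIdeal
    (show CInt.IsRegularIdeal (I.map (algebraMap R S)) from ⟨rs, hreg, hrs⟩)
  have hne : I.map (algebraMap R S) ≠ ⊤ := ne_top_of_le_ne_top (IsLocalRing.maximalIdeal.isMaximal S).ne_top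
    ((Ideal.map_mono (IsLocalRing.le_maximalIdeal hI)).trans (IsLocalRing.map_maximalIdeal_le (algebraMap R S)))
  have hr := H13CInt.isRegular_of_minGen hf.toIsWeaklyRegular
    (fun i => IsLocalRing.le_maximalIdeal hne (hfI.le (Ideal.subset_span ⟨i, rfl⟩)))
    (by rw [hfI, Set.range_comp, ← Ideal.map_span, hx]) hminS
  refine ⟨List.ofFn x, by rw [H13CInt.ofList_ofFn, hx], ?_⟩
  rw [IsLocalRing.isRegular_iff_isWeaklyRegular_of_subset_maximalIdeal (List.forall_mem_ofFn_iff.2 hxm),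
    H29Slice.isWeaklyRegular_iff_elementwise]
  have hw := hr.toIsWeaklyRegular
  rw [← List.map_ofFn, H29Slice.isWeaklyRegular_iff_elementwise] at hw
  intro i hi z hz
  have h1 := hw i (by simpa using hi) (algebraMap R S z)
  rw [List.getElem_map, ← List.map_take, ← Ideal.map_ofList, ← map_mul] at h1
  have h2 := h1 (Ideal.mem_map_of_mem _ hz)
  have h3 : z ∈ ((Ideal.ofList ((List.ofFn x).take i)).map (algebraMap R S)).comap (algebraMap R S) := h2
  rwa [Ideal.comap_map_eq_self_of_faithfullyFlat] at h3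

theorem regular_combine (J : Ideal S) (hIJ : I.map (algebraMap R S) ≤ J) (hJ : J ≠ ⊤)
    [Algebra (S ⧸ I.map (algebraMap R S)) (S ⧸ J)] [IsScalarTower S (S ⧸ I.map (algebraMap R S)) (S ⧸ J)]
    (rs : List R) (hrs : Ideal.ofList rs = I) (hreg : IsRegular R rs) (rs' : List (S ⧸ I.map (algebraMap R S)))
    (hrs' : Ideal.ofList rs' = J.map (Ideal.Quotient.mk (I.map (algebraMap R S))))
    (hreg' : IsRegular (S ⧸ I.map (algebraMap R S)) rs') :
    (∃ ts : List S, Ideal.ofList ts = J ∧ IsRegular S ts) ∧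
      ∃ m, DRing.HasTorDimLE (S ⧸ I.map (algebraMap R S)) m (S ⧸ J) := by
  classical
  obtain ⟨ts, rfl⟩ : ∃ ts : List S, ts.map (Ideal.Quotient.mk (I.map (algebraMap R S))) = rs' :=
    ⟨rs'.map fun z => (Ideal.Quotient.mk_surjective z).choose, by
      rw [List.map_map]
      exact (List.map_congr_left fun z _ => (Ideal.Quotient.mk_surjective z).choose_spec).trans (List.map_id _)⟩
  have hspan : Ideal.ofList (rs.map (algebraMap R S) ++ ts) = J := by
    rw [Ideal.ofList_append, ← Ideal.map_ofList, hrs]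
    rw [← Ideal.map_ofList] at hrs'
    have := congrArg (Ideal.comap (Ideal.Quotient.mk (I.map (algebraMap R S)))) hrs'
    rw [Ideal.comap_map_of_surjective' _ Ideal.Quotient.mk_surjective,
      Ideal.comap_map_of_surjective' _ Ideal.Quotient.mk_surjective, Ideal.mk_ker, sup_eq_left.mpr hIJ] at this
    rw [sup_comm]
    exact this
  refine ⟨⟨_, hspan, ?_⟩, ts.length, ?_⟩
  · rw [IsLocalRing.isRegular_iff_isWeaklyRegular_of_subset_maximalIdeal
      (fun z hz => IsLocalRing.le_maximalIdeal hJ (hspan.le (Ideal.subset_span hz))), isWeaklyRegular_append_iff]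
    refine ⟨IsWeaklyRegular.of_flat hreg.toIsWeaklyRegular, ?_⟩
    rw [← Ideal.map_ofList, hrs]
    exact ((Submodule.quotEquivOfEq _ _ (by simp)).isWeaklyRegular_congr ts).2
      ((isWeaklyRegular_map_algebraMap_iff (S ⧸ I.map (algebraMap R S)) (S ⧸ I.map (algebraMap R S)) ts).1
        hreg'.toIsWeaklyRegular)
  · have h1 := (H8Props.PseudoCoh.fpInf_torDim_quotient_smul (ts.map (Ideal.Quotient.mk (I.map (algebraMap R S))))
      (S ⧸ I.map (algebraMap R S)) 0 hreg'.toIsWeaklyRegular (H8Props.PseudoCoh.fpInf_of_finite_projective _)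
      (H8Props.PseudoCoh.hasTorDimLE_of_flat 0 _)).2
    rw [zero_add, List.length_map] at h1
    have hsurj : Function.Surjective (Algebra.linearMap (S ⧸ I.map (algebraMap R S)) (S ⧸ J)) := by
      intro z
      obtain ⟨a, rfl⟩ := Ideal.Quotient.mk_surjective z
      exact ⟨Ideal.Quotient.mk _ a, (IsScalarTower.algebraMap_apply S (S ⧸ I.map (algebraMap R S)) (S ⧸ J) a).symm⟩
    refine H8Props.PseudoCoh.hasTorDimLE_of_equiv ((Submodule.quotEquivOfEq _ _ ?_).trans
      (LinearMap.quotKerEquivOfSurjective _ hsurj)) h1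
    rw [hrs', smul_eq_mul, Ideal.mul_top]
    ext z
    obtain ⟨a, rfl⟩ := Ideal.Quotient.mk_surjective z
    rw [LinearMap.mem_ker, Algebra.linearMap_apply,
      show algebraMap _ (S ⧸ J) (Ideal.Quotient.mk (I.map (algebraMap R S)) a) = Ideal.Quotient.mk J a from
        (IsScalarTower.algebraMap_apply S (S ⧸ I.map (algebraMap R S)) (S ⧸ J) a).symm,
      Ideal.Quotient.eq_zero_iff_mem, ← Ideal.mem_comap,
      Ideal.comap_map_of_surjective' _ Ideal.Quotient.mk_surjective, Ideal.mk_ker, sup_eq_left.mpr hIJ]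

end aux

/-- Let R -> S be a flat local homomorphism of Noetherian local rings with S/m_R S regular, and let I in
R and J in S be proper ideals with I S inside J; give S/J its canonical R/I-algebra structure.
Equivalent: (1) J is cut out by a regular sequence while S/J, as an R/I-module, has finite
Tor-dimension; (2) the same with only finitely many nonzero Tor_p^{R/I}(S/J, k), k the residue field
of R/I; (3) I and J/IS are each cut out by regular sequences (in R, resp. S/IS). Stated as (1) iff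
(3) and (2) iff (3). -/
theorem result {R S : Type u} [CommRing R] [CommRing S] [IsNoetherianRing R]
    [IsNoetherianRing S] [IsLocalRing R] [IsLocalRing S] [Algebra R S] [IsLocalHom (algebraMap R S)]
    [Module.Flat R S]
    [IsRegularLocalRing (S ⧸ Ideal.map (algebraMap R S) (IsLocalRing.maximalIdeal R))]
    (I : Ideal R) (J : Ideal S) (hI : I ≠ ⊤) (hJ : J ≠ ⊤) (hIJ : I.map (algebraMap R S) ≤ J)
    [Algebra (R ⧸ I) (S ⧸ J)] [IsScalarTower R (R ⧸ I) (S ⧸ J)] :
    let P3 := (∃ rs : List R, Ideal.ofList rs = I ∧ RingTheory.Sequence.IsRegular R rs) ∧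
      ∃ rs' : List (S ⧸ I.map (algebraMap R S)),
        Ideal.ofList rs' = J.map (Ideal.Quotient.mk (I.map (algebraMap R S))) ∧
          RingTheory.Sequence.IsRegular (S ⧸ I.map (algebraMap R S)) rs'
    let Jreg := ∃ rs : List S, Ideal.ofList rs = J ∧ RingTheory.Sequence.IsRegular S rs
    ((Jreg ∧ DRing.HasFiniteTorDim (R ⧸ I) (S ⧸ J)) ↔ P3) ∧
      ((Jreg ∧ Set.Finite {p : ℕ | ¬Subsingleton (DRing.Tor (R ⧸ I) p (S ⧸ J)
        ((R ⧸ I) ⧸ (IsLocalRing.maximalIdeal R).map (Ideal.Quotient.mk I)))}) ↔ P3) := by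
  classical
  intro P3 Jreg
  haveI : Nontrivial (R ⧸ I) := Ideal.Quotient.nontrivial_iff.2 hI
  haveI : IsLocalRing (R ⧸ I) := IsLocalRing.of_surjective' _ Ideal.Quotient.mk_surjective
  have hISne : I.map (algebraMap R S) ≠ ⊤ := ne_top_of_le_ne_top hJ hIJ
  haveI : Nontrivial (S ⧸ I.map (algebraMap R S)) := Ideal.Quotient.nontrivial_iff.2 hISne
  haveI : IsLocalRing (S ⧸ I.map (algebraMap R S)) := IsLocalRing.of_surjective' _ Ideal.Quotient.mk_surjective
  letI : Algebra (S ⧸ I.map (algebraMap R S)) (S ⧸ J) := (Ideal.Quotient.factor hIJ).toAlgebra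
  haveI : IsScalarTower S (S ⧸ I.map (algebraMap R S)) (S ⧸ J) := IsScalarTower.of_algebraMap_eq fun _ => rfl
  haveI : IsScalarTower (R ⧸ I) (S ⧸ I.map (algebraMap R S)) (S ⧸ J) := IsScalarTower.of_algebraMap_eq fun x => by
    obtain ⟨a, rfl⟩ := Ideal.Quotient.mk_surjective x
    exact ((IsScalarTower.algebraMap_apply R (R ⧸ I) (S ⧸ J) a).symm.trans
      (IsScalarTower.algebraMap_apply R S (S ⧸ J) a))
  haveI : Module.Flat (R ⧸ I) (S ⧸ I.map (algebraMap R S)) := H24Def.flat_quotient_map I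
  haveI : IsLocalHom (algebraMap (R ⧸ I) (S ⧸ I.map (algebraMap R S))) := isLocalHom_quot I hISne
  haveI : Module.Finite (S ⧸ I.map (algebraMap R S)) (S ⧸ J) :=
    Module.Finite.of_surjective (Algebra.linearMap (S ⧸ I.map (algebraMap R S)) (S ⧸ J))
      (Ideal.Quotient.factor_surjective hIJ)
  have hmax : IsLocalRing.maximalIdeal (R ⧸ I) = (IsLocalRing.maximalIdeal R).map (Ideal.Quotient.mk I) :=
    (IsLocalRing.map_maximalIdeal_of_surjective _ Ideal.Quotient.mk_surjective).symm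
  haveI : IsRegularLocalRing ((S ⧸ I.map (algebraMap R S)) ⧸
      (IsLocalRing.maximalIdeal (R ⧸ I)).map (algebraMap (R ⧸ I) (S ⧸ I.map (algebraMap R S)))) :=
    regular_fibre I hmax
  obtain ⟨e, he⟩ := H8Props.PseudoCoh.exists_natCast_ge_ringKrullDim
    (ringKrullDim_lt_top (R := (S ⧸ I.map (algebraMap R S)) ⧸
      (IsLocalRing.maximalIdeal (R ⧸ I)).map (algebraMap (R ⧸ I) (S ⧸ I.map (algebraMap R S)))))
  have h13 : Jreg → DRing.HasFiniteTorDim (R ⧸ I) (S ⧸ J) → P3 := by
    rintro hJreg ⟨n, hn⟩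
    have hfd : DRing.HasFiniteTorDim (S ⧸ I.map (algebraMap R S)) (S ⧸ J) :=
      ⟨e + n, H11Tor.hasTorDimLE_of_regular_fibre e he n _ hn⟩
    obtain ⟨hIreg, hJ'⟩ := Groth.Agent.S2200.result (I.map (algebraMap R S)) J hIJ hJ hfd hJreg
    exact ⟨regular_descend I hI hIreg, hJ'⟩
  have h31 : P3 → Jreg ∧ DRing.HasFiniteTorDim (R ⧸ I) (S ⧸ J) := by
    rintro ⟨⟨rs, hrs, hreg⟩, rs', hrs', hreg'⟩
    obtain ⟨hJr, m, hm⟩ := regular_combine I J hIJ hJ rs hrs hreg rs' hrs' hreg'
    exact ⟨hJr, 0 + m, H8Props.PseudoCoh.hasTorDimLE_trans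
      (H8Props.PseudoCoh.hasTorDimLE_of_flat (A := R ⧸ I) 0 (S ⧸ I.map (algebraMap R S))) hm⟩
  have h12 : DRing.HasFiniteTorDim (R ⧸ I) (S ⧸ J) → Set.Finite {p : ℕ | ¬Subsingleton (DRing.Tor (R ⧸ I) p (S ⧸ J)
        ((R ⧸ I) ⧸ (IsLocalRing.maximalIdeal R).map (Ideal.Quotient.mk I)))} := by
    rintro ⟨n, hn⟩
    refine (Set.finite_le_nat n).subset fun p hp => ?_
    by_contra hpn
    exact hp (hn _ p (not_le.mp hpn))
  have h21 : Set.Finite {p : ℕ | ¬Subsingleton (DRing.Tor (R ⧸ I) p (S ⧸ J)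
        ((R ⧸ I) ⧸ (IsLocalRing.maximalIdeal R).map (Ideal.Quotient.mk I)))} → DRing.HasFiniteTorDim (R ⧸ I) (S ⧸ J) := by
    intro hfin
    obtain ⟨n, hn⟩ := hfin.bddAbove
    refine ⟨n, H11Tor.hasTorDimLE_of_tor_residue (R := R ⧸ I) (B := S ⧸ I.map (algebraMap R S)) n (S ⧸ J)
      fun p hp => ?_⟩
    rw [hmax]
    refine ModuleCat.isZero_iff_subsingleton.mpr ?_
    by_contra hns
    exact absurd (hn hns) (not_le.mpr hp)
  exact ⟨⟨fun h => h13 h.1 h.2, h31⟩, ⟨fun h => h13 h.1 (h21 h.2), fun h => ⟨(h31 h).1, h12 (h31 h).2⟩⟩⟩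

end Groth.Agent.S2201
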