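import Groth.Statements.S2202
import Groth.Agent.S2186
import Groth.Agent.H11Tor.Avramov

set_option autoImplicit false
set_option linter.style.haveILetI false
universe u
open LCI

namespace Groth.Agent.S2202

/-- Special case: A and B complete. For a local homomorphism A -> B of complete Noetherian local rings,
the following are equivalent: B is a complete intersection with only finitely many nonzero
Tor^A_p(B, k_A); A is a complete intersection and A -> B factors as A -> S -> B with S Noetherian
local, A -> S flat with regular closed fibre S/m_A S, and S -> B surjective with kernel cut out by a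
regular sequence (a complete intersection homomorphism). -/
theorem result {A B : Type u} [CommRing A] [CommRing B] [IsNoetherianRing A]
    [IsNoetherianRing B] [IsLocalRing A] [IsLocalRing B]
    [IsAdicComplete (IsLocalRing.maximalIdeal A) A] [IsAdicComplete (IsLocalRing.maximalIdeal B) B]
    [Algebra A B] [IsLocalHom (algebraMap A B)] :
    (Pi1.IsCompleteIntersection B ∧
        Set.Finite {p : ℕ | ¬Subsingleton (DRing.Tor A p B (IsLocalRing.ResidueField A))}) ↔
      (Pi1.IsCompleteIntersection A ∧
        ∃ (S : Type u) (_ : CommRing S) (_ : IsNoetherianRing S) (_ : IsLocalRing S) (_ : Algebra A S)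
          (_ : Module.Flat A S)
          (_ : IsRegularLocalRing (S ⧸ Ideal.map (algebraMap A S) (IsLocalRing.maximalIdeal A)))
          (g : S →ₐ[A] B), Function.Surjective g ∧
            ∃ rs : List S, Ideal.ofList rs = RingHom.ker g ∧ RingTheory.Sequence.IsRegular S rs) := by
  classical
  constructor
  · rintro ⟨hB, hfd⟩
    exact H11Tor.ci_descend hB hfd
  · rintro ⟨hA, S, _, _, _, _, _, _, g, hg, hK⟩
    obtain ⟨R, P, _, _, _, _, ρ, σ, τ, hρ, hσ, hcomm, _, hflat, hfib⟩ := H11Tor.exists_regular_square A B
    obtain ⟨_, _, _, _, _, hle, g', hg', hgσ⟩ := H11Tor.exists_square_factor ρ σ τ hρ hσ hcomm hflat hfib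
    have hK' : H11Tor.RegIdeal (RingHom.ker g') := (Groth.Agent.S2186.result g g' hg hg').mp hK
    constructor
    · letI := τ.toAlgebra
      haveI : IsLocalHom (algebraMap R P) := ‹IsLocalHom τ›
      haveI : Module.Flat R P := hflat
      have hI : H11Tor.RegIdeal ((RingHom.ker ρ).map (algebraMap R P)) :=
        (H11Tor.regIdeal_map_iff (RingHom.ker ρ) (RingHom.ker_ne_top ρ)).mpr (H13CI.exists_regular_ker ρ hρ hA)
      have hker : RingHom.ker g' = (RingHom.ker σ).map (Ideal.Quotient.mk ((RingHom.ker ρ).map τ)) := by
        ext w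
        obtain ⟨z, rfl⟩ := Ideal.Quotient.mk_surjective w
        rw [RingHom.mem_ker, hgσ, ← Ideal.mem_comap, Ideal.comap_map_of_surjective' _ Ideal.Quotient.mk_surjective,
          Ideal.mk_ker, sup_eq_left.mpr hle, RingHom.mem_ker]
      rw [hker] at hK'
      obtain ⟨rs, hrs, hreg⟩ := H11Tor.regIdeal_stack hle (RingHom.ker_ne_top σ) hI hK'
      exact (H13CI.isCI_iff σ hσ).mpr (H9CI.isCIKer_of_isRegular σ hσ rs hreg hrs.symm)
    · letI := g.toRingHom.toAlgebra
      haveI : IsScalarTower A S B := .of_algebraMap_eq fun a => (g.commutes a).symm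
      obtain ⟨m, hm⟩ := H11Tor.hasTorDimLE_of_regIdeal hK
      have h1 : DRing.HasTorDimLE S m B := H8Props.PseudoCoh.hasTorDimLE_of_equiv
        (M := S ⧸ RingHom.ker g)
        { (RingHom.quotientKerEquivOfSurjective (f := g.toRingHom) hg).toAddEquiv with
          map_smul' := fun w z => by
            obtain ⟨z, rfl⟩ := Ideal.Quotient.mk_surjective z
            show g (w * z) = g w * g z
            exact map_mul g w z } hm
      have h2 : DRing.HasTorDimLE A (0 + m) B :=
        H8Props.PseudoCoh.hasTorDimLE_trans (H8Props.PseudoCoh.hasTorDimLE_of_flat (A := A) 0 S) h1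
      refine (Set.finite_le_nat (0 + m)).subset fun p hp => ?_
      by_contra hpn
      exact hp (h2 _ p (not_le.mp hpn))

end Groth.Agent.S2202
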