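import Groth.Statements.S2203
import Mathlib.Algebra.Category.ModuleCat.Abelian
import Mathlib.LinearAlgebra.Span.Basic
import Mathlib.CategoryTheory.Adjunction.Limits
import Mathlib.CategoryTheory.Preadditive.AdditiveFunctor
import Mathlib.CategoryTheory.Limits.Preserves.Finite
import Mathlib.CategoryTheory.Adjunction.Additive
-- import your own Groth.Agent.* helpers here

set_option autoImplicit false
universe u
open CategoryTheory
open QCohCat

namespace Groth.Agent.S2203

/-- Ring-isomorphism part of the statement: let A and B be commutative rings whose categories of modules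
are equivalent. Then A and B are isomorphic as rings. (The source moreover describes the equivalence
as base change followed by tensoring with an invertible module.) -/
theorem result (A B : Type u) [CommRing A] [CommRing B]
    (F : ModuleCat.{u} A ≌ ModuleCat.{u} B) : Nonempty (A ≃+* B) := by
  have key : ∀ {A B : Type u} [CommRing A] [CommRing B] (F : ModuleCat.{u} A ≌ ModuleCat.{u} B) (a : A),
      ∃ b : B, ∀ M, F.functor.map (a • 𝟙 M) = b • 𝟙 (F.functor.obj M) := by
    intro A B _ _ F a
    let η : ∀ N, N ⟶ N := fun N => F.counitInv.app N ≫ F.functor.map (a • 𝟙 (F.inverse.obj N)) ≫ F.counit.app N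
    have hnat : ∀ {N N' : ModuleCat.{u} B} (g : N ⟶ N'), η N ≫ g = g ≫ η N' := by
      intro N N' g
      simp only [η, Category.assoc]
      rw [show F.counit.app N ≫ g = F.functor.map (F.inverse.map g) ≫ F.counit.app N' from (F.counit.naturality g).symm,
        ← Functor.map_comp_assoc, Linear.smul_comp, Category.id_comp,
        show g ≫ F.counitInv.app N' ≫ F.functor.map (a • 𝟙 (F.inverse.obj N')) ≫ F.counit.app N' =
          F.counitInv.app N ≫ F.functor.map (F.inverse.map g) ≫ F.functor.map (a • 𝟙 (F.inverse.obj N')) ≫ F.counit.app N'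
          from F.counitInv.naturality_assoc g _,
        ← Functor.map_comp_assoc, Linear.comp_smul, Category.comp_id]
    refine ⟨(η (ModuleCat.of B B)).hom (1 : B), fun M => ?_⟩
    have hη : ∀ N, η N = (η (ModuleCat.of B B)).hom (1 : B) • 𝟙 N := fun N => by
      ext n
      have := ConcreteCategory.congr_hom (hnat (ModuleCat.ofHom (LinearMap.toSpanSingleton B N n))) (1 : B)
      simp only [ModuleCat.hom_comp, LinearMap.comp_apply, ModuleCat.hom_ofHom, LinearMap.toSpanSingleton_apply, one_smul,
        ModuleCat.hom_smul, LinearMap.smul_apply, ModuleCat.hom_id, LinearMap.id_apply] at this ⊢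
      exact this.symm
    rw [← hη]
    simp only [η]
    rw [Equivalence.counitInv_app_functor, Equivalence.counit_app_functor, ← Functor.map_comp, ← Functor.map_comp]
    refine congrArg _ ?_
    rw [Linear.smul_comp, Category.id_comp, Linear.comp_smul, show F.unit.app M ≫ F.unitInv.app M = 𝟙 M from F.unitIso.hom_inv_id_app M]
  choose ψ hψ using key F
  have huniq : ∀ {b b' : B} (M : ModuleCat.{u} A) (_ : ∀ N : ModuleCat.{u} A, b • 𝟙 (F.functor.obj N) = b' • 𝟙 (F.functor.obj N)), b = b' := by
    intro b b' _ h
    have h1 := h (F.inverse.obj (ModuleCat.of B B))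
    have h2 : b • 𝟙 (ModuleCat.of B B) = b' • 𝟙 (ModuleCat.of B B) := by
      have := congrArg (fun e => F.counitInv.app (ModuleCat.of B B) ≫ e ≫ F.counit.app (ModuleCat.of B B)) h1
      simpa [show F.counitInv.app (ModuleCat.of B B) ≫ F.counit.app (ModuleCat.of B B) = 𝟙 _ from F.counitIso.inv_hom_id_app _] using this
    have h3 := ConcreteCategory.congr_hom h2 (1 : B)
    simpa using h3
  let M₀ := ModuleCat.of A A
  haveI : F.functor.Additive := Functor.additive_of_preserves_binary_products F.functor
  let φ : A →+* B :=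
    { toFun := ψ
      map_one' := huniq M₀ fun N => by rw [← hψ, one_smul, one_smul, F.functor.map_id]
      map_mul' := fun a a' => huniq M₀ fun N => by
        rw [← hψ, show (a * a') • 𝟙 N = (a • 𝟙 N) ≫ (a' • 𝟙 N) by rw [Linear.smul_comp, Category.id_comp, mul_smul],
          Functor.map_comp, hψ, hψ, Linear.smul_comp, Category.id_comp, mul_smul]
      map_zero' := huniq M₀ fun N => by rw [← hψ, zero_smul, zero_smul, Functor.map_zero]
      map_add' := fun a a' => huniq M₀ fun N => by rw [← hψ, add_smul, Functor.map_add, hψ, hψ, add_smul] }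
  refine ⟨RingEquiv.ofBijective φ ⟨fun a a' h => ?_, fun b => ?_⟩⟩
  · have h1 : a • 𝟙 M₀ = a' • 𝟙 M₀ := F.functor.map_injective (by rw [hψ, hψ, show ψ a = ψ a' from h])
    simpa [M₀] using ConcreteCategory.congr_hom h1 (1 : A)
  · obtain ⟨a, ha⟩ := key F.symm b
    refine ⟨a, huniq M₀ fun N => ?_⟩
    show ψ a • 𝟙 _ = b • 𝟙 _
    rw [← hψ]
    have h1 := ha (F.functor.obj N)
    change F.inverse.map (b • 𝟙 (F.functor.obj N)) = a • 𝟙 (F.inverse.obj (F.functor.obj N)) at h1
    refine F.inverse.map_injective ?_
    rw [h1, ← cancel_epi (F.unit.app N)]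
    rw [show F.unit.app N ≫ F.inverse.map (F.functor.map (a • 𝟙 N)) = (a • 𝟙 N) ≫ F.unit.app N from (F.unit.naturality (a • 𝟙 N)).symm,
      Linear.smul_comp, Category.id_comp, Linear.comp_smul]
    exact (congrArg (a • ·) (Category.comp_id _)).symm

end Groth.Agent.S2203
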