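import Groth.Statements.S2206
import Groth.Agent.H8Props.DiagonalTorDim

set_option autoImplicit false
universe u
open TensorProduct
open LCI

namespace Groth.Agent.S2206

/-- Let A be a Noetherian ring and B a flat A-algebra of finite type, viewed as an algebra over B
tensor_A B through the multiplication map. If B, as a module over B tensor_A B, has finite
Tor-dimension (the diagonal is a perfect ring map), then B is smooth over A. -/
theorem result {A B : Type u} [CommRing A] [CommRing B]
    [Algebra A B] [IsNoetherianRing A] [Algebra.FiniteType A B] [Module.Flat A B]
    [Algebra (B ⊗[A] B) B]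
    (hmul : ∀ x y : B, algebraMap (B ⊗[A] B) B (x ⊗ₜ[A] y) = x * y)
    (h : DRing.HasFiniteTorDim (B ⊗[A] B) B) : Algebra.Smooth A B := by
  haveI : Algebra.FinitePresentation A B := Algebra.FinitePresentation.of_finiteType.1 inferInstance
  exact Groth.Agent.H8Props.DiagTor.smooth_of_torDim hmul h

end Groth.Agent.S2206
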