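import Groth.Statements.S2213
import Groth.Agent.H27DPow.Envelope

set_option autoImplicit false
universe u
open DPow

namespace Groth.Agent.S2213

/-- Let (A, I) be a ring with divided powers and t a natural number. There is a divided power ring (D,
J) with an A-algebra structure making A -> D a divided power homomorphism and elements x_1, ..., x_t
of J, such that for every divided power ring (C, K) with a divided power homomorphism A -> C and
every choice of k_1, ..., k_t in K there is exactly one divided power homomorphism D -> C over A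
sending x_i to k_i (the divided power polynomial algebra). -/
theorem result {A : Type u} [CommRing A] {I : Ideal A} (γ : DividedPowers I) (t : ℕ) :
    ∃ (D : Type u) (_ : CommRing D) (_ : Algebra A D) (J : Ideal D) (δ : DividedPowers J)
      (x : Fin t → D), (∀ i, x i ∈ J) ∧ γ.IsDPMorphism δ (algebraMap A D) ∧
      ∀ (C : Type u) [CommRing C] [Algebra A C] (K : Ideal C) (ε : DividedPowers K),
        γ.IsDPMorphism ε (algebraMap A C) → ∀ k : Fin t → C, (∀ i, k i ∈ K) →
          ∃! φ : D →ₐ[A] C, (∀ i, φ (x i) = k i) ∧ δ.IsDPMorphism ε φ.toRingHom := by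
  classical
  let B := MvPolynomial (Fin t) A
  set J : Ideal B := I.map (algebraMap A B) ⊔ Ideal.span (Set.range MvPolynomial.X) with hJ
  obtain ⟨D, _, _, JD, γD, h1, h2, h3⟩ := Groth.Agent.H27DPow.exists_envelope γ J le_sup_left
  let : Algebra A D := ((algebraMap B D).comp (algebraMap A B)).toAlgebra
  refine ⟨D, inferInstance, this, JD, γD, fun i => algebraMap B D (MvPolynomial.X i), fun i => ?_,
    h2, fun C _ _ K ε hε k hk => ?_⟩
  · exact h1 (Ideal.mem_map_of_mem _ (Submodule.mem_sup_right (Ideal.subset_span ⟨i, rfl⟩)))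
  let ψ : B →ₐ[A] C := MvPolynomial.aeval k
  have hψA : ψ.toRingHom.comp (algebraMap A B) = algebraMap A C := RingHom.ext ψ.commutes
  have hψJ : J.map ψ.toRingHom ≤ K := by
    rw [hJ, Ideal.map_sup, Ideal.map_map, hψA, Ideal.map_span, sup_le_iff]
    refine ⟨hε.1, Ideal.span_le.2 ?_⟩
    rintro _ ⟨_, ⟨i, rfl⟩, rfl⟩
    show ψ (MvPolynomial.X i) ∈ K
    rw [MvPolynomial.aeval_X]
    exact hk i
  obtain ⟨χ, ⟨hχ, hχ'⟩, huniq⟩ := h3 C K ε ψ.toRingHom (by rw [hψA]; exact hε) hψJ
  let φ : D →ₐ[A] C :=
    { χ with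
      commutes' := fun a => (RingHom.congr_fun hχ (algebraMap A B a)).trans (ψ.commutes a) }
  refine ⟨φ, ⟨fun i => (RingHom.congr_fun hχ _).trans (MvPolynomial.aeval_X k i), hχ'⟩, ?_⟩
  rintro φ' ⟨hφ1, hφ2⟩
  refine AlgHom.coe_ringHom_injective ((huniq φ'.toRingHom ⟨?_, hφ2⟩).trans rfl)
  refine MvPolynomial.ringHom_ext (fun a => ?_) fun i => ?_
  · exact (φ'.commutes a).trans (ψ.commutes a).symm
  · exact (hφ1 i).trans (MvPolynomial.aeval_X k i).symm

end Groth.Agent.S2213
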