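import Groth.Statements.S2224
import Groth.Agent.H17.FourierMukai.FlatKernel
import Groth.Agent.H16Derived.ProperSupp.Coherent
import Groth.Agent.H16Derived.KFlat.LpullLocal
-- import your own Groth.Agent.* helpers here

set_option autoImplicit false
universe u
open CategoryTheory AlgebraicGeometry
attribute [local instance] HasDerivedCategory.standard
open QCohCat Groth.Agent.H16Derived Groth.Agent.H16Derived.KFlat Groth.Agent.H16Derived.KFlat.Stalk

namespace Groth.Agent.S2224

/-- Case (2) with the kernel a single coherent module: let S be a Noetherian scheme, X -> S and Y -> S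
of finite type, and K a coherent module on X x_S Y which is flat over X and whose support is proper
over Y. Assuming the derived functors L pr_1^*, - tensor^L K and R pr_2,* exist (assumed as unproved
hypotheses), the Fourier-Mukai transform R pr_2,* (L pr_1^* M tensor^L K) of any bounded object M of
D(O_X) with coherent cohomology sheaves is a bounded object of D(O_Y) with coherent cohomology
sheaves. -/
theorem result {S X Y : Scheme.{u}} [IsNoetherian S]
    (a : X ⟶ S) (b : Y ⟶ S) [LocallyOfFiniteType a] [QuasiCompact a] [LocallyOfFiniteType b]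
    [QuasiCompact b] (K : (Limits.pullback a b).Modules) (hK : Coh.IsCoh K)
    (hflat : FlatMod.IsFlatOver (Limits.pullback.fst a b) K)
    (hsupp : ClSub.IsProperOver (Limits.pullback.snd a b) (CohB1.support K))
    [DCoh.HasLpull (Limits.pullback.fst a b)] [DCoh.HasLTensorMod K]
    [DCoh.HasRpush (Limits.pullback.snd a b)]
    (M : DCoh.D X) (hM : DCoh.IsCohD M) (m n : ℤ) (hMge : DerivedCategory.IsGE M m)
    (hMle : DerivedCategory.IsLE M n) :
    DCoh.IsCohD ((DCoh.Rpush (Limits.pullback.snd a b)).obj
        ((DCoh.LTensorMod K).obj ((DCoh.Lpull (Limits.pullback.fst a b)).obj M))) ∧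
      ∃ m' n' : ℤ, DerivedCategory.IsGE ((DCoh.Rpush (Limits.pullback.snd a b)).obj
          ((DCoh.LTensorMod K).obj ((DCoh.Lpull (Limits.pullback.fst a b)).obj M))) m' ∧
        DerivedCategory.IsLE ((DCoh.Rpush (Limits.pullback.snd a b)).obj
          ((DCoh.LTensorMod K).obj ((DCoh.Lpull (Limits.pullback.fst a b)).obj M))) n' := by
  haveI : IsLocallyNoetherian X := LocallyOfFiniteType.isLocallyNoetherian a
  haveI : CompactSpace X := QuasiCompact.compactSpace_of_compactSpace a
  haveI : IsLocallyNoetherian Y := LocallyOfFiniteType.isLocallyNoetherian b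
  haveI : CompactSpace Y := QuasiCompact.compactSpace_of_compactSpace b
  haveI : IsNoetherian X := ⟨⟩
  haveI : IsNoetherian Y := ⟨⟩
  haveI : LocallyOfFiniteType (Limits.pullback.snd a b) := inferInstance
  haveI : IsLocallyNoetherian (Limits.pullback a b) := LocallyOfFiniteType.isLocallyNoetherian (Limits.pullback.snd a b)
  haveI : CompactSpace (Limits.pullback a b : Scheme.{u}) := QuasiCompact.compactSpace_of_compactSpace (Limits.pullback.snd a b)
  haveI : IsNoetherian (Limits.pullback a b) := ⟨⟩
  haveI := hMge
  haveI := hMle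
  have hpc : ∀ i, DCoh.IsPseudoCoherentD i ((DCoh.Lpull (Limits.pullback.fst a b)).obj M) := fun i =>
    isPseudoCoherentD_lpull _ (Dual.isPseudoCoherentD_of_isCohD n hM i)
  haveI := isLE_lpull (Limits.pullback.fst a b) M n
  obtain ⟨hge, hle⟩ := Groth.Agent.H17.FourierMukai.bounds_lpull_ltensorMod (Limits.pullback.fst a b) K hflat M m n
  have hPS := Groth.Agent.H17.FourierMukai.ps_ltensorMod (Limits.pullback.snd a b)
    ((DCoh.Lpull (Limits.pullback.fst a b)).obj M) (Groth.Agent.H17.FourierMukai.isCohD_of_pc hpc) n K hK hsupp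
  obtain ⟨hc, b', hb⟩ := ProperSupp.coh_bounded (Limits.pullback.snd a b) (n - m + 1).toNat m n (by omega) _ hge hle hPS
  haveI := hge
  exact ⟨hc, m, b', isGE_rpush _ _ m, hb⟩

end Groth.Agent.S2224
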