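import Groth.Statements.S2225
import Groth.Agent.H28Vert.ClosedFibre
import Groth.Agent.H28Vert.Cartier
import Groth.Agent.S0344
import Groth.Agent.H4Goren.Basic

set_option autoImplicit false
universe u
open CategoryTheory AlgebraicGeometry
open Models

namespace Groth.Agent.S2225

/-- Part (1), for the closed fibre: let R be a discrete valuation ring with fraction field K, C a smooth
proper curve over K and X a regular model of C over R (flat, of finite type, all local rings
regular). Then every local ring of the special fibre X_k is a Gorenstein local ring; together with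
flatness and regularity of the generic fibre this says X -> Spec R is a Gorenstein morphism. -/
theorem result (R : Type u) [CommRing R] [IsDomain R]
    [IsDiscreteValuationRing R] (C X : Scheme.{u})
    (f : C ⟶ Spec (CommRingCat.of (FractionRing R))) (p : X ⟶ Spec (CommRingCat.of R))
    (hC : Curve.IsSmoothProperCurve (FractionRing R) C f) (hX : Models.IsModel R X p C f)
    (hreg : Models.IsRegularScheme X) (x : ↥(Models.specialFibre R X p)) :
    LocCoh.IsGorensteinLocalRing ((Models.specialFibre R X p).presheaf.stalk x) := by
  obtain ⟨hfl, hlft, -⟩ := hX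
  haveI : Flat (Over.mk p).hom := hfl
  haveI : LocallyOfFiniteType p := hlft
  haveI : IsLocallyNoetherian (Over.mk p).left := LocallyOfFiniteType.isLocallyNoetherian p
  obtain ⟨ϖ, hϖ⟩ := IsDiscreteValuationRing.exists_irreducible R
  let P := Over.mk p
  let b : Models.specialFibre R X p ⟶ X := Limits.pullback.fst p (Spec.map (CommRingCat.ofHom (algebraMap R (IsLocalRing.ResidueField R))))
  haveI : IsClosedImmersion b := inferInstanceAs (IsClosedImmersion (Limits.pullback.fst P.hom (H28Vert.closedPt R)))
  haveI := hreg (b x)
  haveI : LocCoh.IsGorensteinLocalRing (X.presheaf.stalk (b x)) :=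
    H4Goren.isGorensteinLocalRing_of_isRegularLocalRing _
  haveI : IsDomain (X.presheaf.stalk (b x)) := (H28Vert.ufd_stalk (X := P) hreg (b x)).1
  let s : X.presheaf.stalk (b x) := Models.stalkHom R P (b x) ϖ
  have hker : RingHom.ker (b.stalkMap x).hom = Ideal.span {s} := by
    refine (H28Vert.ker_stalkMap_fst (X := P) x).trans ?_
    rw [hϖ.maximalIdeal_eq, Ideal.map_span, Set.image_singleton]
    rfl
  have hsm : s ∈ IsLocalRing.maximalIdeal (X.presheaf.stalk (b x)) := by
    have h1 : RingHom.ker (b.stalkMap x).hom ≤ IsLocalRing.maximalIdeal (X.presheaf.stalk (b x)) :=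
      IsLocalRing.le_maximalIdeal (RingHom.ker_ne_top _)
    exact h1 (hker.ge (Ideal.mem_span_singleton_self s))
  have hreg' : IsSMulRegular (X.presheaf.stalk (b x)) s :=
    IsSMulRegular.of_ne_zero (H28Vert.stalkHom_ne_zero (X := P) hϖ.ne_zero (b x))
  have hq := (H4Goren.isGorensteinLocalRing_quotient_iff hsm hreg').1 inferInstance
  let e : (X.presheaf.stalk (b x) ⧸ Ideal.span {s}) ≃+* (Models.specialFibre R X p).presheaf.stalk x :=
    (Ideal.quotEquivOfEq hker.symm).trans (RingHom.quotientKerEquivOfSurjective (b.stalkMap_surjective x))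
  haveI := hq
  let F := (Models.specialFibre R X p).presheaf.stalk x
  haveI : IsLocallyNoetherian X := ‹IsLocallyNoetherian (Over.mk p).left›
  haveI : IsLocallyNoetherian (Models.specialFibre R X p) := LocallyOfFiniteType.isLocallyNoetherian b
  letI : Algebra F (X.presheaf.stalk (b x) ⧸ Ideal.span {s}) := e.symm.toRingHom.toAlgebra
  haveI : IsLocalHom (algebraMap F (X.presheaf.stalk (b x) ⧸ Ideal.span {s})) :=
    ⟨fun a ha => (e.apply_symm_apply a) ▸ (ha.map e : IsUnit (e (e.symm a)))⟩
  haveI : Module.Flat F (X.presheaf.stalk (b x) ⧸ Ideal.span {s}) :=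
    RingHom.Flat.of_bijective e.symm.bijective
  exact ((S0344.result F _).1 hq).1

end Groth.Agent.S2225
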