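import Groth.Statements.S2229
import Groth.Agent.H05EGA4.DiscPair

set_option autoImplicit false
universe u
open Disc

namespace Groth.Agent.S2229

/-- Part (2), special case: affine with B finite free over the Noetherian ring A (basis b) and omega =
Hom_A(B, A) an invertible B-module. Then the ideal of A generated by the norms of all elements of
the different of B over A equals the ideal generated by the discriminant of the basis b (the norm of
the ramification locus is the discriminant). -/
theorem result {A B : Type u} [CommRing A] [CommRing B]
    [Algebra A B] [IsNoetherianRing A] {ι : Type} [Fintype ι] [DecidableEq ι]
    (b : Module.Basis ι A B) [Module.Invertible B (Disc.Omega A B)] :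
    Ideal.span (Algebra.norm A '' Disc.differentSet A B) = Ideal.span {Algebra.discr A b} := by
  exact Groth.Agent.H05EGA4.DiscPair.span_norm_eq_span_discr b fun q hq => Groth.Agent.H05EGA4.DiscPair.nondeg_of_invertible q hq

end Groth.Agent.S2229
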