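import Groth.Statements.S2231
import Groth.Agent.H16Derived.BaseChange.Finiteness
import Groth.Agent.H16Derived.KFlat.PerfectTensor
import Groth.Agent.H16Derived.KFlat.LpullLocal
import Groth.Agent.H16Derived.Dual.Perfect
-- import your own Groth.Agent.* helpers here

set_option autoImplicit false
universe u
open CategoryTheory AlgebraicGeometry
attribute [local instance] HasDerivedCategory.standard
open QCohCat Groth.Agent.H16Derived Groth.Agent.H16Derived.KFlat Groth.Agent.H16Derived.KFlat.Stalk

namespace Groth.Agent.S2231

/-- Case (3): let X -> S be proper, flat and of finite presentation, Y -> S arbitrary, and K a complex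
of modules on X x_S Y which is perfect. Assuming the derived functors L pr_1^*, - tensor^L K and R
pr_2,* exist (unproved hypotheses carried as binders), the Fourier-Mukai transform of a perfect
object of D(O_X) is a perfect object of D(O_Y). -/
theorem result {S X Y : Scheme.{u}} (a : X ⟶ S)
    (b : Y ⟶ S) [IsProper a] [Flat a] [LocallyOfFinitePresentation a]
    (K : CochainComplex (Limits.pullback a b).Modules ℤ)
    (hK : DCoh.IsPerfect (DCoh.toD (Limits.pullback a b) K))
    [DCoh.HasLpull (Limits.pullback.fst a b)] [DCoh.HasLTensorCx K]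
    [DCoh.HasRpush (Limits.pullback.snd a b)] (M : DCoh.D X) (hM : DCoh.IsPerfect M) :
    DCoh.IsPerfect ((DCoh.Rpush (Limits.pullback.snd a b)).obj
        ((DCoh.LTensorCx K).obj ((DCoh.Lpull (Limits.pullback.fst a b)).obj M))) := by
  haveI : LocallyOfFinitePresentation (Limits.pullback.snd a b) := inferInstance
  haveI : IsProper (Limits.pullback.snd a b) := inferInstance
  haveI : Flat (Limits.pullback.snd a b) := inferInstance
  let N := (DCoh.Lpull (Limits.pullback.fst a b)).obj M
  obtain ⟨L, hL, ⟨eL⟩⟩ := exists_kflat_rep (DCoh.toD (Limits.pullback a b) K)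
  haveI := hasLTensorCx L
  let e : (DCoh.LTensorCx L).obj N ≅ (DCoh.LTensorCx K).obj N :=
    ((Dual.ltensorCxIsoT L).app N).symm ≪≫ ((Dual.T _).obj N).mapIso eL ≪≫ (Dual.ltensorCxIsoT K).app N
  exact Groth.Agent.H16Derived.BaseChange.isPerfect_rpush _ (isPerfect_of_iso e
    (isPerfect_ltensorCx L ((isKFlat_iff' L).2 hL) (isPerfect_of_iso eL.symm hK) (isPerfect_lpull _ hM)))

end Groth.Agent.S2231
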