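import Groth.Statements.S2232
import Groth.Agent.H17.FourierMukai.RegularSource
import Groth.Agent.H16Derived.ProperSupp.Coherent
import Groth.Agent.H16Derived.KFlat.LpullLocal
-- import your own Groth.Agent.* helpers here

set_option autoImplicit false
universe u
open CategoryTheory AlgebraicGeometry
attribute [local instance] HasDerivedCategory.standard
open QCohCat Groth.Agent.H16Derived Groth.Agent.H16Derived.KFlat Groth.Agent.H16Derived.KFlat.Stalk

namespace Groth.Agent.S2232

/-- Case (3): let S be Noetherian, X -> S and Y -> S of finite type with all local rings of X regular,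
and K a bounded complex of modules on X x_S Y with coherent cohomology sheaves whose supports are
proper over Y. Assuming the derived functors L pr_1^*, - tensor^L K and R pr_2,* exist (unproved
hypotheses carried as binders), the Fourier-Mukai transform of a bounded object of D(O_X) with
coherent cohomology sheaves is a bounded object of D(O_Y) with coherent cohomology sheaves. -/
theorem result {S X Y : Scheme.{u}} [IsNoetherian S]
    (a : X ⟶ S) (b : Y ⟶ S) [LocallyOfFiniteType a] [QuasiCompact a] [LocallyOfFiniteType b]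
    [QuasiCompact b] (hreg : Models.IsRegularScheme X)
    (K : CochainComplex (Limits.pullback a b).Modules ℤ)
    (hKcoh : DCoh.IsCohD (DCoh.toD (Limits.pullback a b) K)) (kₗ kᵤ : ℤ)
    (hKge : DerivedCategory.IsGE (DCoh.toD (Limits.pullback a b) K) kₗ)
    (hKle : DerivedCategory.IsLE (DCoh.toD (Limits.pullback a b) K) kᵤ)
    (hsupp : ∀ i : ℤ, ClSub.IsProperOver (Limits.pullback.snd a b)
      (CohB1.support (DCoh.HD (DCoh.toD (Limits.pullback a b) K) i)))
    [DCoh.HasLpull (Limits.pullback.fst a b)] [DCoh.HasLTensorCx K]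
    [DCoh.HasRpush (Limits.pullback.snd a b)]
    (M : DCoh.D X) (hM : DCoh.IsCohD M) (m n : ℤ) (hMge : DerivedCategory.IsGE M m)
    (hMle : DerivedCategory.IsLE M n) :
    DCoh.IsCohD ((DCoh.Rpush (Limits.pullback.snd a b)).obj
        ((DCoh.LTensorCx K).obj ((DCoh.Lpull (Limits.pullback.fst a b)).obj M))) ∧
      ∃ m' n' : ℤ, DerivedCategory.IsGE ((DCoh.Rpush (Limits.pullback.snd a b)).obj
        ((DCoh.LTensorCx K).obj ((DCoh.Lpull (Limits.pullback.fst a b)).obj M))) m' ∧
        DerivedCategory.IsLE ((DCoh.Rpush (Limits.pullback.snd a b)).obj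
        ((DCoh.LTensorCx K).obj ((DCoh.Lpull (Limits.pullback.fst a b)).obj M))) n' := by
  haveI : IsLocallyNoetherian X := LocallyOfFiniteType.isLocallyNoetherian a
  haveI : CompactSpace X := QuasiCompact.compactSpace_of_compactSpace a
  haveI : IsLocallyNoetherian Y := LocallyOfFiniteType.isLocallyNoetherian b
  haveI : CompactSpace Y := QuasiCompact.compactSpace_of_compactSpace b
  haveI : IsNoetherian X := ⟨⟩
  haveI : IsNoetherian Y := ⟨⟩
  haveI : LocallyOfFiniteType (Limits.pullback.snd a b) := inferInstance
  haveI : IsLocallyNoetherian (Limits.pullback a b) := LocallyOfFiniteType.isLocallyNoetherian (Limits.pullback.snd a b)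
  haveI : CompactSpace (Limits.pullback a b : Scheme.{u}) := QuasiCompact.compactSpace_of_compactSpace (Limits.pullback.snd a b)
  haveI : IsNoetherian (Limits.pullback a b) := ⟨⟩
  have hMp : DCoh.IsPerfect M := by
    haveI := hMle
    refine isPerfect_of_homology (n - m + 1).toNat m hMge ?_ fun i => isPerfect_inD_of_isCoh hreg (hM i)
    exact DerivedCategory.TStructure.t.isLE_of_le M n (m - 1 + ((n - m + 1).toNat : ℤ)) (by omega)
  haveI := hKge
  haveI := hKle
  obtain ⟨hPS, a', b', hge, hle⟩ := Groth.Agent.H17.FourierMukai.ps_tensor (Limits.pullback.snd a b) K ⟨hKcoh, hsupp⟩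
    kₗ kᵤ (isPerfect_lpull (Limits.pullback.fst a b) hMp)
  obtain ⟨hc, b'', hb⟩ := ProperSupp.coh_bounded (Limits.pullback.snd a b) (b' - a' + 1).toNat a' b' (by omega) _ hge hle hPS
  haveI := hge
  exact ⟨hc, a', b'', isGE_rpush _ _ a', hb⟩

end Groth.Agent.S2232
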