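import Groth.Statements.S2233
import Groth.Agent.H17.FourierMukai.FlatPerfect
-- import your own Groth.Agent.* helpers here

set_option autoImplicit false
universe u
open CategoryTheory AlgebraicGeometry
attribute [local instance] HasDerivedCategory.standard
open QCohCat

namespace Groth.Agent.S2233

/-- Case (2): let X -> S be quasi-compact, quasi-separated and locally of finite presentation, Y -> S
arbitrary, and K a bounded complex of finitely presented modules on X x_S Y, each flat over Y and
with support proper over Y. Assuming the derived functors L pr_1^*, - tensor^L K and R pr_2,* exist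
(unproved hypotheses carried as binders), the Fourier-Mukai transform of a perfect object of D(O_X)
is a perfect object of D(O_Y). -/
theorem result {S X Y : Scheme.{u}} (a : X ⟶ S)
    (b : Y ⟶ S) [QuasiCompact a] [QuasiSeparated a] [LocallyOfFinitePresentation a]
    (K : CochainComplex (Limits.pullback a b).Modules ℤ) (kₗ kᵤ : ℤ)
    (hKb : DCoh.VanishesOutside K kₗ kᵤ) (hKfp : ∀ i : ℤ, CohB1.IsFP (K.X i))
    (hKflat : ∀ i : ℤ, FlatMod.IsFlatOver (Limits.pullback.snd a b) (K.X i))
    (hKsupp : ∀ i : ℤ, ClSub.IsProperOver (Limits.pullback.snd a b) (CohB1.support (K.X i)))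
    [DCoh.HasLpull (Limits.pullback.fst a b)] [DCoh.HasLTensorCx K]
    [DCoh.HasRpush (Limits.pullback.snd a b)] (M : DCoh.D X) (hM : DCoh.IsPerfect M) :
    DCoh.IsPerfect ((DCoh.Rpush (Limits.pullback.snd a b)).obj
        ((DCoh.LTensorCx K).obj ((DCoh.Lpull (Limits.pullback.fst a b)).obj M))) := by
  exact H17.FourierMukai.isPerfect_rpush_ltensorCx (Limits.pullback.snd a b) K kₗ kᵤ hKb hKfp hKflat hKsupp
    (H16Derived.KFlat.Stalk.isPerfect_lpull (Limits.pullback.fst a b) hM)


end Groth.Agent.S2233
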