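import Groth.Statements.S7072
import Groth.Agent.H11LCI.NLIso
import Groth.Agent.H8Props.NLCx.Derived
import Groth.Agent.H8Props.NLCx.LCI

set_option autoImplicit false
universe u
attribute [local instance] HasDerivedCategory.standard
open LCI

namespace Groth.Agent.S7072

/-- For a local complete intersection homomorphism of commutative rings A → B, the naive cotangent
complex NL_{B/A} is a perfect object of D(B) and has tor amplitude in [-1, 0]. -/
theorem result {A B : Type u} [CommRing A] [CommRing B] [Algebra A B]
    (h : LCI.IsLCI A B) :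
    DRing.IsPerfect B (LCI.NL A B) ∧ DRing.HasTorAmplitudeIn B (-1) 0 (LCI.NL A B) := by
  obtain ⟨n, G, hfin, hproj⟩ := H8Props.NLCx.exists_presentation_of_isLCI A B h
  obtain ⟨e⟩ := H11LCI.NLIso.nonempty_iso A B G
  haveI := Module.Free.of_basis G.cotangentSpaceBasis
  haveI := Module.Finite.of_basis G.cotangentSpaceBasis
  have hz : DRing.VanishesOutside (_root_.NLCx.cx G.toExtension) (-1) 0 := fun i hi =>
    H8Props.NLCx.isZero_cx _ i (by omega) (by omega)
  have hfp : DRing.TermwiseFiniteProjective (_root_.NLCx.cx G.toExtension) := by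
    intro i
    by_cases hi : i = -1
    · subst hi
      let e₀ := (HomologicalComplex.doubleXIso₀ (ModuleCat.ofHom G.toExtension.cotangentComplex)
        (show (ComplexShape.up ℤ).Rel (-1) 0 by simp)).toLinearEquiv.symm
      exact ⟨Module.Finite.equiv e₀, Module.Projective.of_equiv e₀⟩
    by_cases hi' : i = 0
    · subst hi'
      let e₁ := (HomologicalComplex.doubleXIso₁ (ModuleCat.ofHom G.toExtension.cotangentComplex)
        (show (ComplexShape.up ℤ).Rel (-1) 0 by simp) (by decide)).toLinearEquiv.symm
      exact ⟨Module.Finite.equiv e₁, Module.Projective.of_equiv e₁⟩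
    · haveI := ModuleCat.subsingleton_of_isZero (H8Props.NLCx.isZero_cx G.toExtension i hi hi')
      exact ⟨inferInstance, inferInstance⟩
  refine ⟨⟨_, -1, 0, hz, hfp, ⟨e⟩⟩, ⟨_, hz, fun i => ?_, ⟨e⟩⟩⟩
  haveI := (hfp i).2
  exact Module.Flat.of_projective

end Groth.Agent.S7072
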