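import Groth.Statements.S2234
import Groth.Agent.H11LCI.NLIso
import Groth.Agent.H8Props.NLCx.Derived
import Groth.Agent.H11LCI.FlatCotangent
import Groth.Agent.S7072

set_option autoImplicit false
universe u
attribute [local instance] HasDerivedCategory.standard
open LCI

namespace Groth.Agent.S2234

/-- Equivalence of (1) and (4): take a ring map A -> B that is flat and of finite presentation. The
naive cotangent complex NL_{B/A} has tor-amplitude in [-1, 0] (it is isomorphic in D(B) to a
two-term complex of flat modules in those degrees) if and only if A -> B is a local complete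
intersection homomorphism (some presentation has Koszul-regular kernel ideal). -/
theorem result {A B : Type u} [CommRing A] [CommRing B] [Algebra A B]
    [Module.Flat A B] [Algebra.FinitePresentation A B] :
    DRing.HasTorAmplitudeIn B (-1) 0 (LCI.NL A B) ↔ LCI.IsLCI A B := by
  refine ⟨fun h => ?_, fun h => (Groth.Agent.S7072.result h).2⟩
  obtain ⟨n, α, hα⟩ := Algebra.FiniteType.iff_quotient_mvPolynomial''.1 (inferInstance : Algebra.FiniteType A B)
  let G : Algebra.Generators A B (ULift.{u} (Fin n)) :=
    Algebra.Generators.ofSurjective (fun i => α (MvPolynomial.X i.down)) fun s => by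
      obtain ⟨p, hp⟩ := hα s
      refine ⟨MvPolynomial.rename ULift.up p, ?_⟩
      rw [MvPolynomial.aeval_rename, ← hp]
      exact (AlgHom.congr_fun (MvPolynomial.aeval_unique α) p).symm
  obtain ⟨e⟩ := H11LCI.NLIso.nonempty_iso A B G
  obtain ⟨E, hE, hE', ⟨i⟩⟩ := h
  have hflat := H8Props.NLCx.termwiseFlat_cx G ⟨E, hE, hE', ⟨i ≪≫ e.symm⟩⟩
  haveI : Module.Flat B ((HomologicalComplex.double (ModuleCat.ofHom G.toExtension.cotangentComplex)
      (show (ComplexShape.up ℤ).Rel (-1) 0 by simp)).X (-1)) := hflat (-1)
  haveI : Module.Flat B G.toExtension.Cotangent :=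
    Module.Flat.of_linearEquiv (HomologicalComplex.doubleXIso₀ (ModuleCat.ofHom G.toExtension.cotangentComplex)
      (show (ComplexShape.up ℤ).Rel (-1) 0 by simp)).toLinearEquiv.symm
  exact H11LCI.FlatCotangent.isLCI_of_flat_cotangent G

end Groth.Agent.S2234
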