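import Groth.Statements.S2236
import Groth.Agent.H11LCI.PerfectNL
import Groth.Agent.S7072

set_option autoImplicit false
universe u
attribute [local instance] HasDerivedCategory.standard
open LCI

namespace Groth.Agent.S2236

/-- Equivalence of (1) and (3): let A be a Noetherian ring and B an A-algebra of finite type which has
finite Tor-dimension as an A-module (so that A -> B is a perfect ring map). Then NL_{B/A} has
tor-amplitude in [-1, 0] if and only if A -> B is a local complete intersection homomorphism (some
presentation has Koszul-regular kernel ideal). -/
theorem result {A B : Type u} [CommRing A] [CommRing B]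
    [Algebra A B] [IsNoetherianRing A] [Algebra.FiniteType A B] (hB : DRing.HasFiniteTorDim A B) :
    DRing.HasTorAmplitudeIn B (-1) 0 (LCI.NL A B) ↔ LCI.IsLCI A B := by
  exact ⟨fun h => H11LCI.PerfectNL.isLCI_of_torAmplitude hB h, fun h => (Groth.Agent.S7072.result h).2⟩

end Groth.Agent.S2236
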