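import Groth.Statements.S2237
import Groth.Agent.H8Props.KoszImm.Syntomic
import Groth.Agent.H9CI.Syntomic

set_option autoImplicit false
set_option linter.style.haveILetI false
universe u
attribute [local instance] HasDerivedCategory.standard
open LCI

namespace Groth.Agent.S2237

/-- Implication (2) to (5), affine form: let A -> B be flat, quasi-finite and a local complete
intersection homomorphism (finite type with a Koszul-regular presentation). Then for every prime q
of B there are g in B outside q, a natural number n and polynomials f_1, ..., f_n in A[x_1, ...,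
x_n] such that B_g is isomorphic as an A-algebra to A[x_1, ..., x_n]/(f_1, ..., f_n). -/
theorem result {A B : Type u} [CommRing A]
    [CommRing B] [Algebra A B] [Module.Flat A B] [Algebra.QuasiFinite A B] (hlci : LCI.IsLCI A B)
    (q : Ideal B) [q.IsPrime] :
    ∃ g : B, g ∉ q ∧ ∃ (n : ℕ) (f : Fin n → MvPolynomial (Fin n) A),
      Nonempty (Localization.Away g ≃ₐ[A]
        (MvPolynomial (Fin n) A ⧸ Ideal.span (Set.range f))) := by
  obtain ⟨g, hg, n, c, F, hF, ⟨e⟩⟩ := Groth.Agent.H9CI.exists_isRelGCI_away_of_isSyntomic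
    ((Groth.Agent.H8Props.KoszImm.isSyntomic_iff A B).2 ⟨inferInstance, hlci⟩) q
  refine ⟨g, hg, ?_⟩
  let T := Synt.RelGCIRing A n c F
  haveI : Algebra.QuasiFinite A (Localization.Away g) := .of_isLocalization (Submonoid.powers g)
  haveI : Algebra.QuasiFinite A T := (Algebra.QuasiFinite.iff_of_algEquiv e).1 inferInstance
  let p : PrimeSpectrum A := ⟨q.comap (algebraMap A B), inferInstance⟩
  obtain ⟨w, hw⟩ : (⟨q, inferInstance⟩ : PrimeSpectrum B) ∈
      Set.range (PrimeSpectrum.comap (algebraMap B (Localization.Away g))) := by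
    rw [PrimeSpectrum.localization_away_comap_range (Localization.Away g) g]
    exact hg
  have hp : PrimeSpectrum.comap (algebraMap A T) (PrimeSpectrum.comap e.symm.toAlgHom.toRingHom w) = p := by
    rw [← PrimeSpectrum.comap_comp_apply]
    have h1 : e.symm.toAlgHom.toRingHom.comp (algebraMap A T) = algebraMap A (Localization.Away g) :=
      e.symm.toAlgHom.comp_algebraMap
    rw [h1, IsScalarTower.algebraMap_eq A B (Localization.Away g), PrimeSpectrum.comap_comp_apply, hw]
    rfl
  haveI : Nonempty (PrimeSpectrum (p.asIdeal.Fiber T)) :=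
    ⟨PrimeSpectrum.preimageEquivFiber A T p ⟨_, hp⟩⟩
  haveI hnt : Nontrivial (p.asIdeal.Fiber T) := PrimeSpectrum.nonempty_iff_nontrivial.1 inferInstance
  obtain ⟨hcn, hdim⟩ := hF p hnt
  have h0 : ringKrullDim (p.asIdeal.Fiber T) = 0 :=
    ringKrullDimZero_iff_ringKrullDim_eq_zero.1 ((isArtinianRing_iff_isNoetherianRing_krullDimLE_zero (R := p.asIdeal.Fiber T)).1 inferInstance).2
  rw [h0] at hdim
  have hnc : n - c = 0 := by exact_mod_cast hdim.symm
  obtain rfl : c = n := by omega
  exact ⟨c, F, ⟨e⟩⟩

end Groth.Agent.S2237
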