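import Groth.Statements.S2326
import Groth.Agent.H11Ample.Global
import Groth.Agent.H11Ample.Twist
import Groth.Agent.H7Lim.IdealExtension
import Groth.Agent.H29Blow.IdealMod
import Groth.Agent.H17.OmegaLocal
import Groth.Agent.H29Fitt.FreeLocal
import Groth.Agent.H10Coh.QCohOps
import Groth.Prelude.Def_KoszTw

set_option autoImplicit false
universe u
open CategoryTheory CategoryTheory.Limits AlgebraicGeometry
open EGA2

open TopologicalSpace Opposite
namespace Groth.Agent.S2326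

/-- Let X be a quasi-compact separated scheme (the source also allows a prescheme with Noetherian
underlying space) and L an invertible module. Suppose that for every quasi-coherent ideal sheaf I of
finite type there are n > 0 and k > 0 with I ⊗ L^{⊗n} a quotient of O_X^k. Then L is ample. -/
theorem result (X : Scheme.{u}) [CompactSpace X] [X.IsSeparated] (L : X.Modules) (hL : PicF.IsInvertible L)
    (h : ∀ I : X.IdealSheafData, BlowUp.IsFiniteTypeIdeal I →
      ∃ (n k : ℕ) (p : FlatMod.freeMod X k ⟶ CohB1.tensorMod (ClSub.idealMod I) (CohB1.tensorPow L (n + 1))), 0 < k ∧ Epi p) :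
    CohB1.IsAmple L := by
  classical
  rw [H11Ample.isAmple_iff]
  refine ⟨hL, inferInstance, fun x => ?_⟩
  obtain ⟨V, e₀, hxV, he₀⟩ := H11Ample.exists_gen hL x
  obtain ⟨U, hU, hxU, hUV⟩ := exists_isAffineOpen_mem_and_subset (U := V) hxV
  obtain ⟨e, he⟩ : ∃ e : Γ(L, U), H11Tilde.IsGen L e := ⟨_, he₀.res (show U ≤ V from hUV)⟩
  let J := Scheme.IdealSheafData.vanishingIdeal ⟨(U : Set X)ᶜ, U.isOpen.isClosed_compl⟩
  have hJ : ∀ y : X, y ∈ J.support ↔ y ∉ U := fun y => by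
    change y ∈ (J.support : Set X) ↔ _
    rw [Scheme.IdealSheafData.coe_support_vanishingIdeal]
    rfl
  obtain ⟨a, ha, hxa⟩ : ∃ a ∈ J.ideal ⟨U, hU⟩, x ∈ X.basicOpen a := by
    by_contra hc
    refine (hJ x).1 ?_ hxU
    have : x ∈ X.zeroLocus (U := U) (J.ideal ⟨U, hU⟩ : Set Γ(X, U)) ∩ (U : Set X) :=
      ⟨by rw [Scheme.mem_zeroLocus_iff]; exact fun f hf hxf => hc ⟨f, hf, hxf⟩, hxU⟩
    rw [← J.coe_support_inter ⟨U, hU⟩] at this
    exact this.1
  obtain ⟨I, hIJ, hfg, haI⟩ := H7Lim.exists_finiteType_le J ⟨U, hU⟩ {a} (by simpa using ha)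
  obtain ⟨m, hm⟩ := (H29Blow.mem_ideal_iff_exists_idealSect I hU a).1 (haI (by simp))
  obtain ⟨n, k, p, hk, hp⟩ := h I hfg
  obtain ⟨φ, hφ⟩ := H11Ample.exists_iso_unit hL (n + 1)
  let P := CohB1.tensorMod (ClSub.idealMod I) (CohB1.tensorPow L (n + 1))
  obtain ⟨θ, hθ⟩ : ∃ θ : P ⟶ CohB1.tensorPow L (n + 1), ∀ (W : X.Opens) (e : Γ(L, W))
      (m : Γ(ClSub.idealMod I, W)), θ.app W (H11Ample.tm m (H11Ample.spow e (n + 1))) =
        OmegaSh.idealSect I W m • H11Ample.spow e (n + 1) := by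
    refine ⟨KoszTw.tensorMap (ClSub.idealModι I) (𝟙 _) ≫ φ.hom, fun W e m => ?_⟩
    change φ.hom.app W ((KoszTw.tensorMap _ _).app W (SecTwist.tmul _ _ W m (H11Ample.spow e (n + 1)))) = _
    rw [KoszTw.tensorMap_tmul]
    exact hφ W e (OmegaSh.idealSect I W m)
  let w : Fin k → Γ(P, ⊤) := fun i =>
    p.app ⊤ ((Sigma.ι (fun _ : Fin k => Coh.structureModule X) i).app ⊤ (H11Ample.one ⊤))
  have hp' : Function.Surjective (p.app U) :=
    @H10Coh.surjective_app_of_epi _ _ _ p (H29Fitt.isQuasicoherent_freeMod _ k)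
      (H11Ample.isQCoh_tensor (H17.OmegaLocal.isQuasicoherent_idealMod I)
        (H11Ample.isInvertible_tensorPow hL _)) hp _ hU
  obtain ⟨z, hz⟩ := hp' (H11Ample.tm m (H11Ample.spow e (n + 1)))
  obtain ⟨c, hc⟩ : ∃ c : Fin k → Γ(X, U), z = ∑ i, c i •
      (FlatMod.freeMod X k).presheaf.map (homOfLE (le_top : U ≤ ⊤)).op
        ((Sigma.ι (fun _ : Fin k => Coh.structureModule X) i).app ⊤ (H11Ample.one ⊤)) := by
    let π : Fin k → (FlatMod.freeMod X k ⟶ Coh.structureModule X) := fun i =>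
      Sigma.desc fun j => if i = j then 𝟙 _ else 0
    have hid : ∑ i, π i ≫ Sigma.ι (fun _ : Fin k => Coh.structureModule X) i = 𝟙 _ := by
      refine Sigma.hom_ext _ _ fun j => ?_
      rw [Preadditive.comp_sum, Finset.sum_eq_single j, Category.comp_id]
      · simp [π]
      · intro i _ hij
        simp [π, hij]
      · simp
    refine ⟨fun i => (π i).app U z, ?_⟩
    have h1 := (congr($(congrArg (fun g => Scheme.Modules.Hom.app g U) hid) z)).symm
    rw [H10Coh.app_sum_apply] at h1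
    refine h1.trans (Finset.sum_congr rfl fun i _ => ?_)
    change (Sigma.ι (fun _ : Fin k => Coh.structureModule X) i).app U ((π i).app U z) = _
    rw [H10Coh.unit_app_eq_smul, ← H11Tilde.app_map_apply, H11Ample.one_res]
  choose d hd using fun i => H11Ample.exists_coeff (H11Ample.isGen_spow he (n + 1))
    ((CohB1.tensorPow L (n + 1)).presheaf.map (homOfLE (le_top : U ≤ ⊤)).op (θ.app ⊤ (w i)))
  have key : a = ∑ i, c i * d i := by
    refine ((H11Ample.isGen_spow he (n + 1)).bijective le_rfl).1 ?_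
    beta_reduce
    rw [H10Coh.mres_self, Finset.sum_smul]
    have h1 := congrArg (θ.app U) hz
    rw [hθ, hm, hc, map_sum, map_sum] at h1
    rw [← h1]
    refine Finset.sum_congr rfl fun i _ => ?_
    rw [Scheme.Modules.Hom.app_smul, Scheme.Modules.Hom.app_smul, H11Tilde.app_map_apply, H11Tilde.app_map_apply,
      mul_smul, ← hd i]
  obtain ⟨i, hi⟩ : ∃ i, x ∈ X.basicOpen (d i) := by
    by_contra hc'
    push Not at hc'
    have hxa' := (X.mem_basicOpen a x hxU).1 hxa
    rw [key, map_sum] at hxa'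
    refine (IsLocalRing.mem_maximalIdeal _).1 (Ideal.sum_mem _ fun i _ => ?_) hxa'
    rw [map_mul]
    exact Ideal.mul_mem_left _ _ ((IsLocalRing.mem_maximalIdeal _).2 fun hu => hc' i ((X.mem_basicOpen _ x hxU).2 hu))
  let s := θ.app ⊤ (w i)
  have heq := H11Ample.gen_inf_eq_basicOpen (H11Ample.isGen_spow he (n + 1)) s (d i) (hd i)
  have hsU : H11Ample.gen (CohB1.tensorPow L (n + 1)) s ≤ U := by
    intro y hy
    by_contra hyU
    obtain ⟨V', e', hyV', he'⟩ := H11Ample.exists_gen hL y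
    obtain ⟨A, hA, hyA, hAV⟩ := exists_isAffineOpen_mem_and_subset (U := V') hyV'
    obtain ⟨f, hf⟩ : ∃ f : Γ(L, A), H11Tilde.IsGen L f := ⟨_, he'.res (show A ≤ V' from hAV)⟩
    obtain ⟨m', hm'⟩ := (H11Ample.bijective_tm (F := ClSub.idealMod I) (H11Ample.isGen_spow hf (n + 1)) le_rfl).2
      (P.presheaf.map (homOfLE (le_top : A ≤ ⊤)).op (w i))
    beta_reduce at hm'
    rw [H10Coh.mres_self] at hm'
    have hres : (CohB1.tensorPow L (n + 1)).presheaf.map (homOfLE (le_top : A ≤ ⊤)).op s =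
        OmegaSh.idealSect I A m' • H11Ample.spow f (n + 1) := by
      rw [← H11Tilde.app_map_apply, ← hm', hθ]
    have h1 := (H11Ample.gen_inf_eq_basicOpen (H11Ample.isGen_spow hf (n + 1)) s _ hres).le ⟨hy, hyA⟩
    have h2 : y ∈ X.zeroLocus (U := A) (J.ideal ⟨A, hA⟩ : Set Γ(X, A)) ∩ (A : Set X) := by
      rw [← J.coe_support_inter ⟨A, hA⟩]
      exact ⟨(hJ y).2 hyU, hyA⟩
    exact (X.mem_zeroLocus_iff _ y).1 h2.1 _
      (hIJ ⟨A, hA⟩ ((H29Blow.mem_ideal_iff_exists_idealSect I hA _).2 ⟨m', rfl⟩)) h1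
  refine ⟨n + 1, s, n.succ_pos, (heq.ge hi).1, ?_⟩
  rw [← inf_eq_left.2 hsU, heq]
  exact hU.basicOpen _

end Groth.Agent.S2326
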