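import Groth.Statements.S2342
import Groth.Agent.H11Val.Section

set_option autoImplicit false
universe u
open CategoryTheory CategoryTheory.Limits AlgebraicGeometry
open EGA2

open Groth.Agent.H11Val
namespace Groth.Agent.S2342

/-- Let A be a valuation ring with Y = Spec A, X an integral separated scheme and f : X → Y a morphism
which is closed as a map of topological spaces, such that the fibre over the generic point of Y
consists of exactly one point x and the induced map from the residue field of the generic point of Y
to that of x is bijective. Then f is an isomorphism. -/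
theorem result (A : Type u) [CommRing A] [IsDomain A] [ValuationRing A]
    (X : Scheme.{u}) [IsIntegral X] [X.IsSeparated] (f : X ⟶ Spec (CommRingCat.of A)) (hf : IsClosedMap f.base)
    (x : X) (hx : f.base ⁻¹' {genericPoint (Spec (CommRingCat.of A))} = {x})
    (hres : Function.Bijective (f.residueFieldMap x).hom) : IsIso f := by
  have : IsDomain (CommRingCat.of A) := inferInstanceAs (IsDomain A)
  have hfx : f.base x = genericPoint (Spec (CommRingCat.of A)) := by
    have : x ∈ f.base ⁻¹' {genericPoint (Spec (CommRingCat.of A))} := hx ▸ rfl
    exact this
  have hgen : genericPoint X = x := by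
    have h1 : f.base (genericPoint X) ⤳ f.base x := ((genericPoint_spec X).specializes trivial).map f.continuous
    rw [hfx] at h1
    have h2 : f.base (genericPoint X) = genericPoint (Spec (CommRingCat.of A)) :=
      (h1.antisymm ((genericPoint_spec (Spec (CommRingCat.of A))).specializes trivial)).eq
    have h3 : genericPoint X ∈ f.base ⁻¹' {genericPoint (Spec (CommRingCat.of A))} := h2
    rw [hx] at h3
    exact h3
  have hIso : IsIso (f.residueFieldMap x) := (ConcreteCategory.isIso_iff_bijective _).2 hres
  let g : X.residueField x ⟶ (Spec (CommRingCat.of A)).residueField (f.base x) := inv (f.residueFieldMap x)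
  let e₁ : (Spec (CommRingCat.of A)).residueField (f.base x) ⟶ (Spec (CommRingCat.of A)).residueField (genericPoint (Spec (CommRingCat.of A))) := ((Spec (CommRingCat.of A)).residueFieldCongr hfx).hom
  let e₂ : (Spec (CommRingCat.of A)).residueField (genericPoint (Spec (CommRingCat.of A))) ⟶ (Spec (CommRingCat.of A)).functionField :=
    CommRingCat.ofHom (RingEquiv.ofBijective ((Spec (CommRingCat.of A)).residue (genericPoint (Spec (CommRingCat.of A)))).hom
      ⟨RingHom.injective (((Spec (CommRingCat.of A)).residue (genericPoint (Spec (CommRingCat.of A)))).hom : (Spec (CommRingCat.of A)).functionField →+* _), (Spec (CommRingCat.of A)).residue_surjective _⟩).symm.toRingHom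
  have he₂ : Spec.map e₂ ≫ (Spec (CommRingCat.of A)).fromSpecResidueField (genericPoint (Spec (CommRingCat.of A))) = (Spec (CommRingCat.of A)).fromSpecStalk (genericPoint (Spec (CommRingCat.of A))) := by
    rw [Scheme.fromSpecResidueField, ← Spec.map_comp_assoc]
    have : (Spec (CommRingCat.of A)).residue (genericPoint (Spec (CommRingCat.of A))) ≫ e₂ = 𝟙 _ := by
      ext a
      exact RingEquiv.symm_apply_apply (RingEquiv.ofBijective _
        (⟨RingHom.injective (((Spec (CommRingCat.of A)).residue _).hom : (Spec (CommRingCat.of A)).functionField →+* _),
          (Spec (CommRingCat.of A)).residue_surjective _⟩ : Function.Bijective _)) a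
    rw [this, Spec.map_id, Category.id_comp]
  let i : Spec (Spec (CommRingCat.of A)).functionField ⟶ X := Spec.map (g ≫ e₁ ≫ e₂) ≫ X.fromSpecResidueField x
  have hi : i ≫ f = (Spec (CommRingCat.of A)).fromSpecStalk (genericPoint (Spec (CommRingCat.of A))) := by
    rw [Category.assoc, ← f.SpecMap_residueFieldMap_fromSpecResidueField x, ← Spec.map_comp_assoc]
    simp only [g, IsIso.hom_inv_id_assoc]
    rw [Spec.map_comp, Category.assoc, Scheme.residueFieldCongr_fromSpecResidueField, he₂]
  let : Algebra A (Spec (CommRingCat.of A)).functionField :=
    @instAlgebraCarrierFunctionFieldSpec (CommRingCat.of A) (inferInstanceAs (IsDomain A))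
  have : IsFractionRing A (Spec (CommRingCat.of A)).functionField :=
    @functionField_isFractionRing_of_affine (CommRingCat.of A) (inferInstanceAs (IsDomain A))
  have hi' : i ≫ f = Spec.map (CommRingCat.ofHom (algebraMap A (Spec (CommRingCat.of A)).functionField)) := by
    rw [hi, Spec.fromSpecStalk_eq]
    rfl
  obtain ⟨s, ⟨hs₁, hs₂⟩, -⟩ := existsUnique_section (K := (Spec (CommRingCat.of A)).functionField) f hf i hi'
  refine ⟨s, ?_, hs₁⟩
  have : IsDominant i := by
    constructor
    intro y
    refine closure_mono (Set.singleton_subset_iff.2 ?_) (show y ∈ closure {genericPoint X} from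
      ((genericPoint_spec X).specializes (y := y) trivial).mem_closure)
    exact ⟨IsLocalRing.closedPoint _, by
      rw [Scheme.Hom.comp_apply, Scheme.fromSpecResidueField_apply, hgen]⟩
  refine ext_of_isDominant i ?_
  rw [← Category.assoc, hi', hs₂, Category.comp_id]

end Groth.Agent.S2342
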