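import Groth.Statements.S2343
import Groth.Agent.H9Hens.FinitePartScheme
import Groth.Agent.H06EGA14.FiniteSection

set_option autoImplicit false
universe u
open CategoryTheory CategoryTheory.Limits AlgebraicGeometry
open EGA2

namespace Groth.Agent.S2343

/-- Let A be a complete Noetherian local ring, X a separated scheme locally of finite type over Spec A,
and x a point of X over the closed point which is isolated in its fibre. Then the local ring of X at
x is a finite A-module and the canonical morphism Spec O_{X,x} → X is both an open and a closed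
immersion (X is the disjoint sum of Spec O_{X,x} and another open subscheme). -/
theorem result (A : Type u) [CommRing A] [IsLocalRing A] [IsNoetherianRing A]
    [IsAdicComplete (IsLocalRing.maximalIdeal A) A] (X : Scheme.{u}) (f : X ⟶ Spec (CommRingCat.of A)) [LocallyOfFiniteType f] [IsSeparated f]
    (x : X) (hx : f.base x = IsLocalRing.closedPoint A)
    (hisol : IsOpen ((Subtype.val : (f.base ⁻¹' {IsLocalRing.closedPoint A}) → X) ⁻¹' {x})) :
    ((Scheme.ΓSpecIso (CommRingCat.of A)).inv ≫ f.appTop ≫ X.presheaf.germ ⊤ x trivial).hom.Finite ∧ IsOpenImmersion (X.fromSpecStalk x) ∧ IsClosedImmersion (X.fromSpecStalk x) := by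
  haveI := H06EGA14.henselianLocalRing_of_adicComplete A
  have hqf : f.QuasiFiniteAt x := by
    rw [Scheme.Hom.quasiFiniteAt_iff_isOpen_singleton_asFiber]
    have key : ∀ y, f.base x = y →
        IsOpen ((Subtype.val : (f.base ⁻¹' {y}) → X) ⁻¹' {x}) → IsOpen {f.asFiber x} := by
      rintro y rfl hy
      rw [← (f.fiberHomeo (f x)).isOpen_image]
      simp only [Set.image_singleton, Scheme.Hom.asFiber, Homeomorph.apply_symm_apply]
      have e : ({⟨x, rfl⟩} : Set ↥(f.base ⁻¹' {f.base x})) = Subtype.val ⁻¹' {x} := by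
        ext z
        simp [Subtype.ext_iff]
      exact e ▸ hy
    exact key _ hx hisol
  obtain ⟨V₀, hV₀, hxV₀, hV₀qf⟩ := exists_isAffineOpen_mem_and_subset (X := X) (x := x) (U := f.quasiFiniteLocus) hqf
  let g := V₀.ι ≫ f
  haveI : LocallyQuasiFinite g := by
    rw [← Scheme.Hom.quasiFiniteLocus_eq_top_iff, Scheme.Hom.quasiFiniteLocus_comp, eq_top_iff]
    intro z _
    exact hV₀qf z.2
  haveI : IsAffine V₀.toScheme := hV₀
  obtain ⟨W, hWcl, hWfin, hWfib⟩ := H9Hens.exists_finitePart_scheme g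
  haveI := hWfin
  let π : W.toScheme ⟶ Spec (CommRingCat.of A) := W.ι ≫ g
  let x' : W.toScheme := ⟨⟨x, hxV₀⟩, hWfib ⟨x, hxV₀⟩ hx⟩
  let T : Set W.toScheme := {z | π.base z = IsLocalRing.closedPoint A ∧ z ≠ x'}
  have hT : IsClosed T := by
    have hTfin : T.Finite := (π.finite_preimage_singleton (IsLocalRing.closedPoint A)).subset fun z hz => hz.1
    rw [← Set.biUnion_of_singleton T]
    exact hTfin.isClosed_biUnion fun z hz => H9Hens.isClosed_singleton_of_integral π z hz.1
  let U : W.toScheme.Opens := ⟨Tᶜ, hT.isOpen_compl⟩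
  have hU : {z : W.toScheme | z ∈ U ∧ π.base z = IsLocalRing.closedPoint A} = {x'} := by
    ext z
    refine ⟨fun ⟨h1, h2⟩ => ?_, fun h => ?_⟩
    · by_contra hne
      exact h1 ⟨h2, hne⟩
    · subst h
      exact ⟨fun h => h.2 rfl, hx⟩
  obtain ⟨C, hCcl, hCU, hCx⟩ := H9Hens.exists_clopen_subset_open π U
    (by rw [hU]; exact H9Hens.isClosed_singleton_of_integral π x' hx)
  have hxC : x' ∈ C := hCx x' (fun h => h.2 rfl) hx
  have hclC : ∀ z : W.toScheme, z ∈ C → z ⤳ x' := by
    intro z hz
    obtain ⟨y, hzy, hy⟩ := H9Hens.exists_specializes_closedPoint π z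
    have hyC : y ∈ C := hzy.mem_closed hCcl hz
    have : y = x' := by
      by_contra hne
      exact hCU hyC ⟨hy, hne⟩
    exact this ▸ hzy
  haveI : IsClosedImmersion C.ι := .of_isPreimmersion _ (by rw [Scheme.Opens.range_ι]; exact hCcl)
  let k : C.toScheme ⟶ X := C.ι ≫ W.ι ≫ V₀.ι
  haveI : IsFinite (k ≫ f) := by
    have : k ≫ f = C.ι ≫ π := by simp [k, π, g]
    rw [this]; infer_instance
  haveI : IsFinite k := IsFinite.of_comp k f
  haveI : IsOpenImmersion k := inferInstanceAs (IsOpenImmersion (C.ι ≫ W.ι ≫ V₀.ι))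
  haveI : IsClosedImmersion k := .of_isPreimmersion k k.isClosedMap.isClosed_range
  let C' : X.Opens := k.opensRange
  haveI : IsAffine C.toScheme := isAffine_of_isAffineHom (k ≫ f)
  have hC' : IsAffineOpen C' := isAffineOpen_opensRange k
  have hxC' : x ∈ C' := ⟨⟨x', hxC⟩, rfl⟩
  have hspec : ∀ z ∈ C', z ⤳ x := by
    rintro _ ⟨c, rfl⟩
    exact ((hclC c.1 c.2).map W.ι.continuous).map V₀.ι.continuous
  have hunit : ∀ b : Γ(X, C'), IsUnit (X.presheaf.germ C' x hxC' b) → IsUnit b := by
    intro b hb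
    have hle : C' ≤ X.basicOpen b := fun z hz =>
      (hspec z hz).mem_open (X.basicOpen b).2 ((X.mem_basicOpen b x hxC').2 hb)
    have := RingedSpace.isUnit_of_isUnit_germ X.toLocallyRingedSpace.toRingedSpace C' b
      fun z hz => (X.mem_basicOpen b z hz).1 (hle hz)
    exact this
  haveI : IsIso (X.presheaf.germ C' x hxC') := by
    rw [ConcreteCategory.isIso_iff_bijective]
    letI := X.presheaf.algebra_section_stalk (U := C') ⟨x, hxC'⟩
    haveI := hC'.isLocalization_stalk ⟨x, hxC'⟩
    have hM : (hC'.primeIdealOf ⟨x, hxC'⟩).asIdeal.primeCompl ≤ IsUnit.submonoid Γ(X, C') := fun b hb =>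
      hunit b (IsLocalization.map_units (X.presheaf.stalk x) ⟨b, hb⟩)
    exact (IsLocalization.atUnits Γ(X, C') (hC'.primeIdealOf ⟨x, hxC'⟩).asIdeal.primeCompl
      (S := X.presheaf.stalk x) hM).bijective
  have hfs : X.fromSpecStalk x = Spec.map (X.presheaf.germ C' x hxC') ≫ hC'.fromSpec := by
    rw [← IsAffineOpen.fromSpecStalk_eq_fromSpecStalk hC' hxC']
    rfl
  haveI hoi : IsOpenImmersion (X.fromSpecStalk x) := by rw [hfs]; infer_instance
  have hrange : Set.range (X.fromSpecStalk x) = Set.range k := by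
    rw [Scheme.range_fromSpecStalk]
    refine Set.Subset.antisymm (fun z hz => ?_) fun z hz => hspec z hz
    exact Specializes.mem_open (show z ⤳ x from hz) C'.2 hxC'
  have hlift : (IsOpenImmersion.isoOfRangeEq (X.fromSpecStalk x) k hrange).hom ≫ k = X.fromSpecStalk x :=
    IsOpenImmersion.isoOfRangeEq_hom_fac _ _ _
  haveI hci : IsClosedImmersion (X.fromSpecStalk x) := by rw [← hlift]; infer_instance
  refine ⟨?_, hoi, hci⟩
  have hfin : IsFinite (X.fromSpecStalk x ≫ f) := by rw [← hlift, Category.assoc]; infer_instance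
  have e : X.fromSpecStalk x ≫ f = Spec.map ((Scheme.ΓSpecIso (CommRingCat.of A)).inv ≫
      f.appTop ≫ X.presheaf.germ ⊤ x trivial) := by
    rw [← cancel_mono (Spec (CommRingCat.of A)).toSpecΓ, Category.assoc,
      Scheme.toSpecΓ_naturality, Scheme.fromSpecStalk_toSpecΓ_assoc, ← SpecMap_ΓSpecIso_hom,
      ← Spec.map_comp, ← Spec.map_comp, Iso.hom_inv_id_assoc]
  rw [e, IsFinite.SpecMap_iff] at hfin
  exact hfin

end Groth.Agent.S2343
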