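import Groth.Statements.S2349
import Groth.Agent.H18HTop.ProperSquare
import Mathlib

set_option autoImplicit false
universe u
open CategoryTheory CategoryTheory.Limits AlgebraicGeometry
open EGA2

namespace Groth.Agent.S2349

/-- Let f : X → Y be separated and of finite type, and let j_i : X_i → X and h_i : Y_i → Y (i in a
finite index type) be closed immersions with morphisms f_i : X_i → Y_i satisfying j_i ≫ f = f_i ≫
h_i, such that the images of the j_i cover X. Then f is proper if and only if every f_i is proper. -/
theorem result {X Y : Scheme.{u}} (f : X ⟶ Y) [IsSeparated f] [LocallyOfFiniteType f] [QuasiCompact f]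
    (ι : Type u) [Finite ι] (Xi Yi : ι → Scheme.{u}) (j : ∀ i, Xi i ⟶ X) (h : ∀ i, Yi i ⟶ Y) (fi : ∀ i, Xi i ⟶ Yi i)
    [∀ i, IsClosedImmersion (j i)] [∀ i, IsClosedImmersion (h i)] (hcomm : ∀ i, j i ≫ f = fi i ≫ h i)
    (hcov : ∀ x : X, ∃ i, x ∈ Set.range (j i).base) : IsProper f ↔ ∀ i, IsProper (fi i) := by
  constructor
  · intro hf i
    haveI : IsProper (fi i ≫ h i) := hcomm i ▸ (inferInstance : IsProper (j i ≫ f))
    exact IsProper.of_comp (fi i) (h i)
  · intro hi
    haveI := hi
    have : UniversallyClosed (Sigma.desc j ≫ f) := by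
      have e : Sigma.desc j ≫ f = Sigma.desc (fun i => fi i ≫ h i) := by
        refine Sigma.hom_ext _ _ fun i => ?_
        rw [Sigma.ι_desc_assoc, Sigma.ι_desc]
        exact hcomm i
      rw [e]
      exact H18HTop.universallyClosed_sigmaDesc (fun i => fi i ≫ h i)
    haveI : Surjective (Sigma.desc j) := Surjective.sigmaDesc_of_union_range_eq_univ
      (Set.eq_univ_of_forall fun x => Set.mem_iUnion.2 (hcov x))
    haveI : UniversallyClosed f := UniversallyClosed.of_comp_surjective (Sigma.desc j) f
    exact { }

end Groth.Agent.S2349
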