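import Groth.Statements.S2354
import Groth.Agent.H11Val.CodimOne

set_option autoImplicit false
universe u
open CategoryTheory CategoryTheory.Limits AlgebraicGeometry
open EGA2

namespace Groth.Agent.S2354

/-- Extension over points of codimension ≤ 1: let Y be reduced and locally Noetherian with regular local
ring at every point whose local ring has dimension at most one, f : X → Y separated, of finite type
and closed as a map, V a dense open of Y and s : V → X a section of f over V. Then s extends to a
section of f over an open U ⊇ V containing every point of Y whose local ring has dimension at most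
one. (The source states that the indeterminacy locus has codimension ≥ 2 under the hypothesis that
the non-regular locus has codimension ≥ 2; with codimension measured by dimensions of local rings
this pointwise form is equivalent.) -/
theorem result {X Y : Scheme.{u}} [IsLocallyNoetherian Y] [IsReduced Y]
    (hreg : ∀ y : Y, ringKrullDim (Y.presheaf.stalk y) ≤ 1 → IsRegularLocalRing (Y.presheaf.stalk y))
    (f : X ⟶ Y) [IsSeparated f] [LocallyOfFiniteType f] [QuasiCompact f] (hcl : IsClosedMap f.base)
    (V : Y.Opens) (hV : Dense (V : Set Y)) (s : (V : Scheme.{u}) ⟶ X) (hs : s ≫ f = V.ι) :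
    ∃ (U : Y.Opens) (hVU : V ≤ U) (s' : (U : Scheme.{u}) ⟶ X), s' ≫ f = U.ι ∧ Y.homOfLE hVU ≫ s' = s ∧
      ∀ y : Y, ringKrullDim (Y.presheaf.stalk y) ≤ 1 → y ∈ U := by
  obtain ⟨U, hVU, s', hs', hres, hmax⟩ :=
    H28Neron.exists_maximal_extension (𝟙 Y) f V hV s (by rw [hs, Category.comp_id])
  rw [Category.comp_id] at hs'
  refine ⟨U, hVU, s', hs', hres, fun y hy => ?_⟩
  haveI := hreg y hy
  haveI := H4Depth.isDomain_of_isRegularLocalRing (Y.presheaf.stalk y)
  have hyV := H28Neron.genPoint_mem_of_dense y hV
  let lV := IsOpenImmersion.lift V.ι (H28Neron.genStalk Y y) (H28Neron.range_genStalk_subset y hyV)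
  have hlV : lV ≫ V.ι = H28Neron.genStalk Y y := IsOpenImmersion.lift_fac _ _ _
  let x₀ : X := (lV ≫ s) (H28Neron.fracPt Y y)
  have hfx₀ : f x₀ = H28Neron.genPoint Y y := by
    show ((lV ≫ s) ≫ f) (H28Neron.fracPt Y y) = _
    rw [Category.assoc, hs, hlV]
    rfl
  obtain ⟨x, hx, rfl⟩ : y ∈ f.base '' closure {x₀} := by
    have h1 : IsClosed (f.base '' closure {x₀}) := hcl _ isClosed_closure
    have h2 : H28Neron.genPoint Y y ∈ f.base '' closure {x₀} := ⟨x₀, subset_closure rfl, hfx₀⟩
    exact (H28Neron.genPoint_specializes y).mem_closed h1 h2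
  haveI := H28Neron.valuationRing_of_regular _ hy
  obtain ⟨l, hl₁, hl₂⟩ := H11Val.exists_stalk_lift_of_specializes f x (lV ≫ s)
    (by rw [Category.assoc, hs, hlV]) (specializes_iff_mem_closure.2 hx)
  obtain ⟨W, g, hxW, h1, h2⟩ := H28Neron.exists_nhd_of_stalk_lift (𝟙 Y) f V s
    (by rw [hs, Category.comp_id]) (f x) hyV l (by rw [hl₁, Category.comp_id]) hl₂.symm
  exact hmax W g h1 h2 hxW

end Groth.Agent.S2354
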