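import Groth.Statements.S2356
import Groth.Agent.S2857
import Groth.Agent.H11Aff.NearFinite

set_option autoImplicit false
universe u
open CategoryTheory CategoryTheory.Limits AlgebraicGeometry
open EGA2

namespace Groth.Agent.S2356

/-- Let Y be a scheme, E a locally free O_Y-module of rank r, and Z a finite set of points of Y
contained in an affine open V. Then there is an open neighbourhood U ⊆ V of Z on which E is free of
rank r. -/
theorem result (Y : Scheme.{u}) (r : ℕ) (E : Y.Modules) (hE : FlatMod.IsFinLocFreeOfRank r E)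
    (Z : Set Y) (hZ : Z.Finite) (V : Y.Opens) (hV : IsAffineOpen V) (hZV : Z ⊆ V) :
    ∃ U : Y.Opens, Z ⊆ U ∧ U ≤ V ∧ Nonempty (E.restrict U.ι ≅ FlatMod.freeMod (U : Scheme.{u}) r) := by
  classical
  have hflf : FlatMod.IsFinLocFree E := fun y => let ⟨U, hU⟩ := hE y; ⟨U, r, hU⟩
  haveI := (Groth.Agent.H8Props.FinLocFree.finite_projective_sections E hflf hV).1
  haveI : Fintype Z := hZ.fintype
  let F : Finset (Ideal Γ(Y, V)) :=
    Finset.univ.image fun z : Z => (hV.primeIdealOf ⟨z.1, hZV z.2⟩).asIdeal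
  obtain ⟨a, m, ha, hs, hi⟩ := Groth.Agent.H11Aff.exists_basis_upTo_of_finite F
    (fun q hq => by
      obtain ⟨z, -, rfl⟩ := Finset.mem_image.1 hq
      infer_instance)
    (fun q hq => haveI := hq; S2857.exists_basis_at r E hE hV q)
  haveI := Groth.Agent.H8Props.FinLocFree.isIso_basicHom E
    (Groth.Agent.H8Props.FinLocFree.isQCoh_of_isFinLocFree E hflf) hV a m hs hi
  refine ⟨Y.basicOpen a, fun z hz => ?_, Y.basicOpen_le a,
    ⟨(asIso (Groth.Agent.H29Fitt.basicHom E a m)).symm⟩⟩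
  by_contra hn
  refine ha _ (Finset.mem_image.2 ⟨⟨z, hz⟩, Finset.mem_univ _, rfl⟩)
    ((_root_.H29Blow.mem_primeIdealOf_iff hV ⟨z, hZV hz⟩ a).mpr fun hu => hn ?_)
  exact (Y.mem_basicOpen a z (hZV hz)).mpr hu

end Groth.Agent.S2356
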