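import Groth.Statements.S2358
import Groth.Agent.H28Neron.Extend
import Groth.Agent.H7Lim.NormalizationNormal

set_option autoImplicit false
universe u
open CategoryTheory CategoryTheory.Limits AlgebraicGeometry
open EGA2

namespace Groth.Agent.S2358

/-- Let X be an integral normal scheme, g : X' → X an integral morphism, U a dense open of X and s : U →
X' a section of g over U. Then there is a section of g over all of X extending s. -/
theorem result {X X' : Scheme.{u}} [IsIntegral X] (hX : Pi1.IsNormalScheme X)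
    (g : X' ⟶ X) [IsIntegralHom g] (U : X.Opens) (hU : Dense (U : Set X)) (s : (U : Scheme.{u}) ⟶ X') (hs : s ≫ g = U.ι) :
    ∃ s' : X ⟶ X', s' ≫ g = 𝟙 X ∧ U.ι ≫ s' = s := by
  let η := genericPoint X
  have hηU : η ∈ U := by
    obtain ⟨y, hy⟩ := hU.nonempty
    exact ((genericPoint_spec X).mem_open_set_iff U.2).2 ⟨y, trivial, hy⟩
  obtain ⟨W, hUW, s', hs', hres, hmax⟩ :=
    H28Neron.exists_maximal_extension (𝟙 X) g U hU s (by rw [hs, Category.comp_id])
  have hW : W = ⊤ := by
    refine eq_top_iff.2 fun x _ => ?_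
    obtain ⟨O, hO, hxO, -⟩ := exists_isAffineOpen_mem_and_subset (X := X) (x := x) (U := ⊤) trivial
    have hηO : η ∈ O := ((genericPoint_spec X).mem_open_set_iff O.2).2 ⟨x, trivial, hxO⟩
    have hO' : IsAffineOpen (g ⁻¹ᵁ O) := hO.preimage g
    let σ : Spec (X.presheaf.stalk η) ⟶ X' := U.fromSpecStalkOfMem η hηU ≫ s
    have hσg : σ ≫ g = X.fromSpecStalk η := by
      rw [Category.assoc, hs, Scheme.Opens.fromSpecStalkOfMem_ι]
    have hrange : Set.range σ ⊆ Set.range hO'.fromSpec := by
      rw [IsAffineOpen.range_fromSpec]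
      rintro _ ⟨w, rfl⟩
      show g (σ w) ∈ O
      rw [← Scheme.Hom.comp_apply, hσg]
      have hw : X.fromSpecStalk η w ∈ {y | y ⤳ η} := by
        rw [← Scheme.range_fromSpecStalk]; exact ⟨w, rfl⟩
      have hw' : η ⤳ X.fromSpecStalk η w := (genericPoint_spec X).specializes trivial
      rw [(show X.fromSpecStalk η w ⤳ η from hw).antisymm hw' |>.eq]
      exact hηO
    obtain ⟨φ, hφ⟩ := Spec.map_surjective (IsOpenImmersion.lift hO'.fromSpec σ hrange)
    have hφσ : Spec.map φ ≫ hO'.fromSpec = σ := by rw [hφ, IsOpenImmersion.lift_fac]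
    have e : g.appLE O (g ⁻¹ᵁ O) le_rfl ≫ φ = X.presheaf.germ O η hηO := by
      apply Spec.map_injective
      rw [← cancel_mono hO.fromSpec, Spec.map_comp, Category.assoc,
        IsAffineOpen.SpecMap_appLE_fromSpec g hO hO' le_rfl, ← Category.assoc, hφσ, hσg,
        ← IsAffineOpen.fromSpecStalk_eq_fromSpecStalk hO hηO]
      rfl
    have hmem : ∀ a, ∃ w : Γ(X, O), X.presheaf.germ O η hηO w = φ a := fun a => by
      refine H7Lim.exists_germ_eq_of_isIntegralElem (fun y => (hX y).2) hηO ?_
      obtain ⟨P, hP, hPa⟩ : (g.appLE O (g ⁻¹ᵁ O) le_rfl).hom.IsIntegralElem a := by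
        rw [← Scheme.Hom.app_eq_appLE]
        exact IsIntegralHom.isIntegral_app g O hO a
      refine ⟨P, hP, ?_⟩
      show Polynomial.eval₂ (X.presheaf.germ O η hηO).hom (φ.hom a) P = 0
      rw [← e, CommRingCat.hom_comp, ← Polynomial.hom_eval₂, hPa, map_zero]
    choose w hw using hmem
    have hinj : Function.Injective (X.presheaf.germ O η hηO) := germ_injective_of_isIntegral X η hηO
    let φ₀ : Γ(X', g ⁻¹ᵁ O) ⟶ Γ(X, O) := CommRingCat.ofHom
      { toFun := w
        map_one' := hinj ((hw _).trans ((map_one φ.hom).trans (map_one _).symm))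
        map_mul' := fun a b => hinj ((hw _).trans ((map_mul φ.hom a b).trans
          (((congrArg₂ (· * ·) (hw a) (hw b)).symm).trans (map_mul _ _ _).symm)))
        map_zero' := hinj ((hw _).trans ((map_zero φ.hom).trans (map_zero _).symm))
        map_add' := fun a b => hinj ((hw _).trans ((map_add φ.hom a b).trans
          (((congrArg₂ (· + ·) (hw a) (hw b)).symm).trans (map_add _ _ _).symm))) }
    have hφ₀ : φ₀ ≫ X.presheaf.germ O η hηO = φ := CommRingCat.hom_ext (RingHom.ext hw)
    have hφ₀g : g.appLE O (g ⁻¹ᵁ O) le_rfl ≫ φ₀ = 𝟙 _ := by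
      ext a
      apply hinj
      exact (hw _).trans (congr($e a))
    let t : O.toScheme ⟶ X' := O.toSpecΓ ≫ Spec.map φ₀ ≫ hO'.fromSpec
    have htg : t ≫ g = O.ι ≫ 𝟙 X := by
      rw [Category.assoc, Category.assoc, ← IsAffineOpen.SpecMap_appLE_fromSpec g hO hO' le_rfl,
        ← Category.assoc (Spec.map φ₀), ← Spec.map_comp, hφ₀g, Spec.map_id, Category.id_comp,
        IsAffineOpen.toSpecΓ_fromSpec, Category.comp_id]
    refine hmax O t htg ?_ hxO
    let jj := (U ⊓ O).fromSpecStalkOfMem η ⟨hηU, hηO⟩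
    haveI : IsDominant jj := by
      refine H28Neron.isDominant_of_specializes jj (IsLocalRing.closedPoint (X.presheaf.stalk η)) fun v => ?_
      refine (U ⊓ O).ι.isOpenEmbedding.isInducing.specializes_iff.mp ?_
      rw [← Scheme.Hom.comp_apply, Scheme.Opens.fromSpecStalkOfMem_ι, Scheme.fromSpecStalk_closedPoint]
      exact (genericPoint_spec X).specializes trivial
    refine ext_of_isDominant_of_isSeparated g ?_ jj ?_
    · rw [Category.assoc, Category.assoc, hs, htg, Category.comp_id, Scheme.homOfLE_ι, Scheme.homOfLE_ι]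
    · have h1 : jj ≫ X.homOfLE inf_le_left = U.fromSpecStalkOfMem η hηU := by
        rw [← cancel_mono U.ι, Category.assoc, Scheme.homOfLE_ι,
          Scheme.Opens.fromSpecStalkOfMem_ι, Scheme.Opens.fromSpecStalkOfMem_ι]
      have h2 : jj ≫ X.homOfLE inf_le_right = O.fromSpecStalkOfMem η hηO := by
        rw [← cancel_mono O.ι, Category.assoc, Scheme.homOfLE_ι,
          Scheme.Opens.fromSpecStalkOfMem_ι, Scheme.Opens.fromSpecStalkOfMem_ι]
      rw [reassoc_of% h1, reassoc_of% h2, O.fromSpecStalkOfMem_toSpecΓ_assoc η hηO,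
        ← Category.assoc (Spec.map _), ← Spec.map_comp, hφ₀, hφσ]
  subst hW
  refine ⟨X.topIso.inv ≫ s', ?_, ?_⟩
  · rw [Category.assoc, hs', Category.comp_id, ← Scheme.topIso_hom, Iso.inv_hom_id]
  · have e : U.ι ≫ X.topIso.inv = X.homOfLE hUW := by
      rw [← cancel_mono (Scheme.Opens.ι ⊤), Category.assoc, Scheme.homOfLE_ι, ← Scheme.topIso_hom,
        Iso.inv_hom_id, Category.comp_id]
    rw [← Category.assoc, e, hres]

end Groth.Agent.S2358
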