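import Groth.Statements.S2359
import Groth.Agent.H11Ample.RelPullback

set_option autoImplicit false
universe u
open CategoryTheory CategoryTheory.Limits AlgebraicGeometry
open EGA2

namespace Groth.Agent.S2359

/-- Let f : X → Y be quasi-compact, j : X' → X a quasi-compact morphism whose underlying map is a
homeomorphism onto a subspace of X, and L an O_X-module ample relative to f. Then j^* L is ample
relative to j ≫ f. -/
theorem result {X X' Y : Scheme.{u}} (f : X ⟶ Y) [QuasiCompact f] (j : X' ⟶ X) [QuasiCompact j]
    (hj : Topology.IsEmbedding j.base) (L : X.Modules) (hL : RelAmple.IsRelAmple f L) :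
    RelAmple.IsRelAmple (j ≫ f) ((Scheme.Modules.pullback j).obj L) := by
  exact H11Ample.isRelAmple_pullback_of_isQuasiAffine (H11Ample.isQuasiAffineHom_of_isEmbedding j hj) hL

end Groth.Agent.S2359
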