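import Groth.Statements.S2452
import Groth.Agent.H05EGA4.CohenMisc
import Groth.Agent.H05EGA4.CompleteCatenary
import Groth.Agent.H05EGA4.Completion
import Groth.Agent.S2630
import Groth.Agent.S2631

set_option autoImplicit false
universe u
open EGA41

open IsLocalRing Groth.Agent Groth.Agent.H05EGA4

namespace Groth.Agent.S2452

open IsLocalRing in
/-- Let A be a local ring which is separated and complete for the adic topology of its maximal ideal
(not necessarily Noetherian), k a field contained in A, and suppose the residue field K of A is a
separable extension of k. Then there is a k-algebra section K → A of the residue map, i.e. a
coefficient field of A containing k. -/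
theorem result {k A : Type u} [Field k] [CommRing A] [IsLocalRing A] [Algebra k A]
    [IsAdicComplete (maximalIdeal A) A] [Algebra.IsGeometricallyReduced k (ResidueField A)] :
    ∃ σ : ResidueField A →ₐ[k] A, ∀ x : ResidueField A, residue A (σ x) = x := by
  have := formallySmooth_of_geometricallyReduced k (ResidueField A)
  exact exists_coefficientField


end Groth.Agent.S2452
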