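import Groth.Statements.S2457
import Groth.Agent.H05EGA4.CohenMisc
import Groth.Agent.H05EGA4.CompleteCatenary
import Groth.Agent.H05EGA4.Completion
import Groth.Agent.S2630
import Groth.Agent.S2631

set_option autoImplicit false
universe u
open EGA41

open IsLocalRing Groth.Agent Groth.Agent.H05EGA4

namespace Groth.Agent.S2457

open IsLocalRing in
/-- Let W and W' be Cohen rings with residue fields K and K' and u : K ≅ K' an isomorphism. Then u is
induced by some isomorphism v : W ≅ W'. -/
theorem result {W W' : Type u} [CommRing W] [IsLocalRing W] [CommRing W'] [IsLocalRing W']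
    (hW : EGA41.IsCohenRingEGA W) (hW' : EGA41.IsCohenRingEGA W') (u : ResidueField W ≃+* ResidueField W') :
    ∃ v : W ≃+* W', ∀ x : W, residue W' (v x) = u (residue W x) := by
  have key : ∀ {V : Type u} [CommRing V] [IsLocalRing V], EGA41.IsCohenRingEGA V →
      IsNoetherianRing V ∧ IsAdicComplete (maximalIdeal V) V ∧ ∃ p : ℕ, CharP (ResidueField V) p ∧
        maximalIdeal V = Ideal.span {(p : V)} ∧
        ((p = 0 ∧ IsField V) ∨ (p.Prime ∧ (p : V) ≠ 0 ∧ CAlg.IsCohenRing V)) := by
    intro V _ _ hV
    rcases hV with ⟨hF, _⟩ | ⟨i₁, i₂, hc, p, hp, hmax⟩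
    · have hbot : maximalIdeal V = ⊥ := IsLocalRing.isField_iff_maximalIdeal_eq.mp hF
      refine ⟨?_, hbot.symm ▸ inferInstance, 0, ?_, by rw [hbot]; simp, Or.inl ⟨rfl, hF⟩⟩
      · letI := hF.toField; infer_instance
      · have : CharZero (ResidueField V) := ⟨fun a b hab => by
          rw [← map_natCast (residue V), ← map_natCast (residue V)] at hab
          have h1 := Ideal.Quotient.eq.mp hab
          rw [hbot, Ideal.mem_bot, sub_eq_zero] at h1
          exact Nat.cast_injective h1⟩
        infer_instance
    · refine ⟨inferInstance, hc, p, (CharP.charP_iff_prime_eq_zero hp).mpr ?_, hmax, Or.inr ⟨hp, fun h => ?_, i₁, i₂, hc, p, hp, hmax⟩⟩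
      · rw [← map_natCast (residue V), residue_eq_zero_iff, hmax]
        exact Ideal.mem_span_singleton_self _
      · exact IsDiscreteValuationRing.not_a_field V (by rw [hmax, h]; simp)
  obtain ⟨_, _, p, hp, hmax, hcase⟩ := key hW
  obtain ⟨_, _, q, hq, hmax', hcase'⟩ := key hW'
  obtain rfl : p = q := by
    have := charP_of_injective_ringHom u.toRingHom.injective p
    exact CharP.eq (ResidueField W') this hq
  let u' : W →+* W' ⧸ maximalIdeal W' := u.toRingHom.comp (residue W)
  have : IsLocalRing (W' ⧸ maximalIdeal W') := inferInstanceAs (IsLocalRing (ResidueField W'))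
  have : IsLocalHom u' := ⟨fun x hx => by
    by_contra h
    have h0 : residue W x = 0 := (residue_eq_zero_iff x).mpr h
    have h1 : u' x = 0 := by show u (residue W x) = 0; rw [h0, map_zero]
    exact not_isUnit_zero (M₀ := ResidueField W') (h1 ▸ hx)⟩
  obtain ⟨v, hvl, hv⟩ := exists_lift_of_isCohenRingEGA hW (maximalIdeal W')
    (maximalIdeal.isMaximal W').ne_top u'
  have hres : ∀ x, residue W' (v x) = u (residue W x) := fun x => RingHom.congr_fun hv x
  have hinj : Function.Injective v := by
    rcases hcase with ⟨-, hF⟩ | ⟨hpp, -, _, _, -⟩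
    · letI := hF.toField; exact v.injective
    · have hp0 : (p : W') ≠ 0 := by
        rcases hcase' with ⟨h, -⟩ | ⟨-, h, -⟩
        · exact absurd h hpp.ne_zero
        · exact h
      rcases hcase' with ⟨h, -⟩ | ⟨-, -, _, _, -⟩
      · exact absurd h hpp.ne_zero
      refine (injective_iff_map_eq_zero v).mpr fun x hx => ?_
      by_contra hx0
      obtain ⟨n, c, hc⟩ := IsDiscreteValuationRing.eq_unit_mul_pow_irreducible hx0
        ((IsDiscreteValuationRing.irreducible_iff_uniformizer (p : W)).mpr hmax)
      rw [hc, map_mul, map_pow, map_natCast] at hx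
      exact ((c.isUnit.map v).mul_right_eq_zero.mp hx |> pow_ne_zero n hp0)
  have hsurj : Function.Surjective v := by
    refine H02CA.PS.surjective_of_approx v (maximalIdeal W) (maximalIdeal W')
      (fun x hx h => hx (isUnit_of_map_unit v x h)) (fun s => ?_) (fun s hs => ?_)
    · obtain ⟨x, hx⟩ := residue_surjective (u.symm (residue W' s))
      exact ⟨x, Ideal.Quotient.eq.mp ((hres x).trans (by rw [hx, RingEquiv.apply_symm_apply]; rfl))⟩
    · rw [hmax', Ideal.mem_span_singleton'] at hs
      obtain ⟨c, rfl⟩ := hs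
      obtain ⟨x, hx⟩ := residue_surjective (u.symm (residue W' c))
      refine ⟨x * p, hmax ▸ Ideal.mul_mem_left _ x (Ideal.mem_span_singleton_self _), ?_⟩
      rw [map_mul, map_natCast, ← sub_mul, pow_two]
      exact Ideal.mul_mem_mul (Ideal.Quotient.eq.mp ((hres x).trans (by rw [hx, RingEquiv.apply_symm_apply]; rfl)))
        (hmax' ▸ Ideal.mem_span_singleton_self _)
  exact ⟨RingEquiv.ofBijective v ⟨hinj, hsurj⟩, hres⟩


end Groth.Agent.S2457
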