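import Groth.Statements.S2458
import Groth.Agent.H05EGA4.CohenMinimal

set_option autoImplicit false
universe u
open EGA41

namespace Groth.Agent.S2458

open IsLocalRing in
/-- Let A be an Artinian local ring whose maximal ideal 𝔪 satisfies 𝔪² = 0. Then there is a regular
local ring B with maximal ideal 𝔫 such that A ≅ B/𝔫². -/
theorem result {A : Type u} [CommRing A] [IsLocalRing A] [IsArtinianRing A]
    (h : maximalIdeal A ^ 2 = ⊥) :
    ∃ (B : Type u) (_ : CommRing B) (_ : IsRegularLocalRing B), Nonempty (A ≃+* B ⧸ IsLocalRing.maximalIdeal B ^ 2) := by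
  exact H05EGA4.exists_regularLocalRing_equiv_quotient_sq h

end Groth.Agent.S2458
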