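import Groth.Statements.S2459
import Groth.Agent.H05EGA4.CohenMisc
import Groth.Agent.H05EGA4.CompleteCatenary
import Groth.Agent.H05EGA4.Completion
import Groth.Agent.S2630
import Groth.Agent.S2631

set_option autoImplicit false
universe u
open EGA41

open IsLocalRing Groth.Agent Groth.Agent.H05EGA4

namespace Groth.Agent.S2459

open IsLocalRing in
/-- Let A be an Artinian local ring with maximal ideal 𝔪 and residue field of characteristic p (p = 0
allowed). Then A is isomorphic to a quotient of a Cohen ring if and only if 𝔪 is generated by p·1. -/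
theorem result {A : Type u} [CommRing A] [IsLocalRing A] [IsArtinianRing A]
    (p : ℕ) [CharP (ResidueField A) p] :
    (∃ (W : Type u) (_ : CommRing W) (I : Ideal W), EGA41.IsCohenRingEGA W ∧ Nonempty (A ≃+* W ⧸ I)) ↔
      maximalIdeal A = Ideal.span {(p : A)} := by
  constructor
  · rintro ⟨W, _, I, hW, ⟨e⟩⟩
    let f : W →+* A := e.symm.toRingHom.comp (Ideal.Quotient.mk I)
    have hf : Function.Surjective f := e.symm.surjective.comp Ideal.Quotient.mk_surjective
    obtain ⟨_, q, hq, hmax, hcase⟩ : ∃ (_ : IsLocalRing W) (q : ℕ), q ≠ 1 ∧ maximalIdeal W = Ideal.span {(q : W)} ∧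
        ((q = 0 ∧ CharZero W ∧ IsField W) ∨ q.Prime) := by
      rcases hW with ⟨hF, h0⟩ | ⟨_, _, -, q, hq, hmax⟩
      · letI := hF.toField
        exact ⟨inferInstance, 0, zero_ne_one, by rw [IsLocalRing.isField_iff_maximalIdeal_eq.mp hF]; simp, Or.inl ⟨rfl, h0, hF⟩⟩
      · exact ⟨inferInstance, q, hq.ne_one, hmax, Or.inr hq⟩
    have hm : maximalIdeal A = Ideal.span {(q : A)} := by
      rw [← IsLocalRing.map_maximalIdeal_of_surjective f hf, hmax, Ideal.map_span, Set.image_singleton, map_natCast]
    rcases hcase with ⟨rfl, h0, hF⟩ | hqp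
    · have hpA : p = 0 := by
        letI := hF.toField
        have h1 : (p : A) ∈ maximalIdeal A := by
          rw [← residue_eq_zero_iff, map_natCast]; exact CharP.cast_eq_zero _ p
        rw [hm, Nat.cast_zero, Ideal.span_singleton_eq_bot.mpr rfl, Ideal.mem_bot] at h1
        exact Nat.cast_eq_zero.mp (f.injective (by rw [map_natCast, map_zero]; exact h1))
      subst hpA; exact hm
    · have h1 : p ∣ q := (CharP.cast_eq_zero_iff (ResidueField A) p q).mp (by
        rw [← map_natCast (residue A), residue_eq_zero_iff, hm]; exact Ideal.mem_span_singleton_self _)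
      rcases hqp.eq_one_or_self_of_dvd p h1 with h | h
      · exact absurd h (CharP.char_ne_one (ResidueField A) p)
      · subst h; exact hm
  · intro hm
    rcases CharP.char_is_prime_or_zero (ResidueField A) p with hp | rfl
    · have : Fact p.Prime := ⟨hp⟩
      obtain ⟨W, _, _, hW, hmax, ⟨e⟩⟩ := exists_isCohenRing p (ResidueField A)
      have hnil : IsNilpotent (maximalIdeal A) := by
        rw [← IsLocalRing.jacobson_eq_maximalIdeal ⊥ bot_ne_top]
        exact IsArtinianRing.isNilpotent_jacobson_bot
      obtain ⟨n, hn⟩ := hnil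
      have hpA : IsNilpotent (p : A) := ⟨n, by
        have h := Ideal.pow_mem_pow (hm ▸ Ideal.mem_span_singleton_self _ : (p : A) ∈ maximalIdeal A) n
        rw [hn] at h; exact h⟩
      obtain ⟨v, hv⟩ := exists_lift_of_isCohenRing hW p (hmax ▸ (maximalIdeal.isMaximal W).ne_top)
        (maximalIdeal A) ⟨n, hn⟩ hpA (e.toRingHom.comp (residue W))
      have hstep : ∀ i a, ∃ w, v w - a ∈ Ideal.span {(p : A) ^ i} := by
        intro i
        induction i with
        | zero => exact fun a => ⟨0, by simp⟩
        | succ i ih =>
          intro a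
          obtain ⟨w, hw⟩ := ih a
          obtain ⟨c, hc⟩ := Ideal.mem_span_singleton'.mp hw
          obtain ⟨l, hl⟩ := residue_surjective (e.symm (residue A c))
          have h1 : v l - c ∈ maximalIdeal A := Ideal.Quotient.eq.mp ((RingHom.congr_fun hv l).trans (by
            show e (residue W l) = residue A c; rw [hl, RingEquiv.apply_symm_apply]))
          refine ⟨w - l * (p : W) ^ i, ?_⟩
          have h2 : v (w - l * (p : W) ^ i) - a = (c - v l) * (p : A) ^ i := by
            simp only [map_sub, map_mul, map_pow, map_natCast, sub_mul, hc]; ring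
          rw [h2, pow_succ', ← Ideal.span_singleton_mul_span_singleton, ← hm]
          exact Ideal.mul_mem_mul (by rw [← neg_sub]; exact neg_mem h1) (Ideal.mem_span_singleton_self _)
      have hvs : Function.Surjective v := fun a => by
        obtain ⟨w, hw⟩ := hstep n a
        refine ⟨w, sub_eq_zero.mp ?_⟩
        rw [← Ideal.span_singleton_pow, ← hm, hn] at hw
        exact hw
      exact ⟨W, inferInstance, RingHom.ker v, Or.inr hW, ⟨(RingHom.quotientKerEquivOfSurjective hvs).symm⟩⟩
    · have hF : IsField A := IsLocalRing.isField_iff_maximalIdeal_eq.mpr (by rw [hm]; simp)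
      have : CharZero A := ⟨fun a b hab => by
        have := CharP.charP_to_charZero (ResidueField A)
        exact Nat.cast_injective (R := ResidueField A) (by rw [← map_natCast (residue A), hab, map_natCast])⟩
      exact ⟨A, inferInstance, ⊥, Or.inl ⟨hF, this⟩, ⟨(RingEquiv.quotientBot A).symm⟩⟩


end Groth.Agent.S2459
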