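import Groth.Statements.S2461
import Mathlib
import Groth.Prelude.Def_EGA41
import Groth.Agent.H05EGA4.FSAdic
import Groth.Agent.S9316

set_option autoImplicit false
set_option linter.style.haveILetI false
universe u
open EGA41

open IsLocalRing TensorProduct Groth.Agent CAlgX Groth.Agent.H05EGA4

namespace Groth.Agent.S2461

/-- Let A carry the 𝔞-adic topology and let B be a Noetherian A-algebra with the 𝔟-adic topology. Then B
is formally smooth over A if and only if the 𝔟-adic completion of B, with the adic topology of the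
extended ideal, is formally smooth over A. -/
theorem result {A B : Type u} [CommRing A] (𝔞 : Ideal A) [CommRing B] [IsNoetherianRing B] [Algebra A B] (𝔟 : Ideal B) :
    EGA41.IsFormallySmoothAdic A 𝔞 B 𝔟 ↔
      EGA41.IsFormallySmoothAdic A 𝔞 (AdicCompletion 𝔟 B) (𝔟.map (algebraMap B (AdicCompletion 𝔟 B))) := by
  let Bh := AdicCompletion 𝔟 B
  constructor
  · intro h C _ _ J hJ ha u ⟨k, hk⟩
    let uB : B →ₐ[A] C ⧸ J := u.comp (IsScalarTower.toAlgHom A B Bh)
    obtain ⟨v, hv⟩ := h C J hJ ha uB ⟨k, fun x hx => hk _ (by rw [← Ideal.map_pow]; exact Ideal.mem_map_of_mem _ hx)⟩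
    obtain ⟨s, hs⟩ := hJ
    obtain ⟨w, hw, hwk⟩ := exists_algHom_adicCompletion_of_kills 𝔟 v (k * s) (fun x hx => by
      rw [pow_mul] at hx
      have h1 := Ideal.mem_map_of_mem v.toRingHom hx
      rw [Ideal.map_pow] at h1
      refine Ideal.mem_bot.mp (hs.le (Ideal.pow_right_mono (Ideal.map_le_iff_le_comap.mpr fun y hy => ?_) s h1))
      rw [Ideal.mem_comap, ← Ideal.Quotient.eq_zero_iff_mem]
      exact (AlgHom.congr_fun hv y).trans (hk _ (by rw [← Ideal.map_pow]; exact Ideal.mem_map_of_mem _ hy)))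
    refine ⟨w, algHom_adicCompletion_ext (IsNoetherian.noetherian 𝔟) (k * s + k) (fun y hy => ?_) (fun y hy => ?_)
      fun x => ?_⟩
    · rw [AlgHom.comp_apply, hwk y (Ideal.pow_le_pow_right (Nat.le_add_right _ _) hy), map_zero]
    · exact hk y (Ideal.pow_le_pow_right (Nat.le_add_left _ _) hy)
    · rw [AlgHom.comp_apply, hw]
      exact AlgHom.congr_fun hv x
  · intro h C _ _ J hJ ha u ⟨k, hk⟩
    obtain ⟨w, hw, hwk⟩ := exists_algHom_adicCompletion_of_kills 𝔟 u k hk
    obtain ⟨v, hv⟩ := h C J hJ ha w ⟨k, hwk⟩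
    exact ⟨v.comp (IsScalarTower.toAlgHom A B Bh), AlgHom.ext fun x => (AlgHom.congr_fun hv _).trans (hw x)⟩


end Groth.Agent.S2461
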