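import Groth.Statements.S4530
import Groth.Agent.H05EGA4.LeftInv

set_option autoImplicit false
universe u
open EGA41

namespace Groth.Agent.S4530

open TensorProduct in
/-- Let A be a ring, M an A-module of finite type, N a projective A-module, u : M → N a homomorphism.
For a prime ideal 𝔭 the following are equivalent: (a) u_𝔭 : M_𝔭 → N_𝔭 is left invertible; (b) u ⊗ 1
: M ⊗ k(𝔭) → N ⊗ k(𝔭) is injective; (d) there is f ∉ 𝔭 with u_f : M_f → N_f left invertible.
Moreover the set of such 𝔭 is open in Spec A. (The published statement also has a determinant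
criterion (c); this row omits it.) -/
theorem result {A : Type u} [CommRing A] {M N : Type u} [AddCommGroup M] [Module A M]
    [Module.Finite A M] [AddCommGroup N] [Module A N] [Module.Projective A N] (u : M →ₗ[A] N) :
    (∀ p : PrimeSpectrum A,
      [∃ w : LocalizedModule p.asIdeal.primeCompl N →ₗ[A] LocalizedModule p.asIdeal.primeCompl M,
          w ∘ₗ LocalizedModule.map p.asIdeal.primeCompl u = LinearMap.id,
       Function.Injective (u.lTensor p.asIdeal.ResidueField),
       ∃ f : A, f ∉ p.asIdeal ∧
          ∃ w : LocalizedModule (Submonoid.powers f) N →ₗ[A] LocalizedModule (Submonoid.powers f) M,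
            w ∘ₗ LocalizedModule.map (Submonoid.powers f) u = LinearMap.id].TFAE) ∧
    IsOpen {p : PrimeSpectrum A |
      ∃ w : LocalizedModule p.asIdeal.primeCompl N →ₗ[A] LocalizedModule p.asIdeal.primeCompl M,
        w ∘ₗ LocalizedModule.map p.asIdeal.primeCompl u = LinearMap.id} := by
  have hcore : ∀ (p : PrimeSpectrum A), Function.Injective (u.lTensor p.asIdeal.ResidueField) →
      ∃ (g : A) (w : N →ₗ[A] M), g ∉ p.asIdeal ∧ ∀ m, w (u m) = g • m := fun p h =>
    H05EGA4.LeftInv.exists_smul_leftInverse u p.asIdeal h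
  have hunit : ∀ (p : PrimeSpectrum A) (s : A), s ∉ p.asIdeal →
      IsUnit (algebraMap A p.asIdeal.ResidueField s) := fun p s hs =>
    isUnit_iff_ne_zero.2 fun h => hs (Ideal.algebraMap_residueField_eq_zero.1 h)
  have hloc : ∀ (p : PrimeSpectrum A),
      (∃ w : LocalizedModule p.asIdeal.primeCompl N →ₗ[A] LocalizedModule p.asIdeal.primeCompl M,
          w ∘ₗ LocalizedModule.map p.asIdeal.primeCompl u = LinearMap.id) →
        Function.Injective (u.lTensor p.asIdeal.ResidueField) := fun p ⟨w, hw⟩ =>
    H05EGA4.LeftInv.injective_lTensor_of_localized u _ (fun s hs => hunit p s hs) w hw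
  refine ⟨fun p => ?_, ?_⟩
  · tfae_have 1 → 2 := hloc p
    tfae_have 2 → 3 := fun h => by
      obtain ⟨g, w, hg, hw⟩ := hcore p h
      exact ⟨g, hg, H05EGA4.LeftInv.exists_leftInverse_localized u (Submonoid.mem_powers g) hw⟩
    tfae_have 3 → 2 := fun ⟨f, hf, w, hw⟩ =>
      H05EGA4.LeftInv.injective_lTensor_of_localized u _ (by
        rintro s ⟨n, rfl⟩
        rw [map_pow]
        exact (hunit p f hf).pow n) w hw
    tfae_have 2 → 1 := fun h => by
      obtain ⟨g, w, hg, hw⟩ := hcore p h
      exact H05EGA4.LeftInv.exists_leftInverse_localized u (S := p.asIdeal.primeCompl) hg hw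
    tfae_finish
  · rw [isOpen_iff_forall_mem_open]
    intro p hp
    obtain ⟨g, w, hg, hw⟩ := hcore p (hloc p hp)
    exact ⟨PrimeSpectrum.basicOpen g,
      fun q hq => H05EGA4.LeftInv.exists_leftInverse_localized u (S := q.asIdeal.primeCompl) hq hw,
      PrimeSpectrum.isOpen_basicOpen, hg⟩

end Groth.Agent.S4530
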