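import Groth.Statements.S2463
import Groth.Agent.H05EGA4.SmoothQuot
import Groth.Agent.S4530

set_option autoImplicit false
universe u
open EGA41

namespace Groth.Agent.S2463

open TensorProduct KaehlerDifferential in
/-- Let B be a formally smooth A-algebra (discrete topologies), B → C a surjection with kernel J such
that J/J² is a finitely generated module (over B, equivalently over C), and p a prime of C. The
following are equivalent: the local ring C_p is formally smooth over A; the map κ(p) ⊗ J/J² → κ(p) ⊗
(C ⊗_B Ω_{B/A}) induced by d is injective (tensor products over B, which agree with those over C =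
B/J); there is f ∈ C outside p with C_f formally smooth over A. -/
theorem result {A B C : Type u} [CommRing A] [CommRing B] [CommRing C] [Algebra A B] [Algebra B C] [Algebra A C]
    [IsScalarTower A B C] [Algebra.FormallySmooth A B] (hsurj : Function.Surjective (algebraMap B C))
    [Module.Finite B (RingHom.ker (algebraMap B C)).Cotangent] (p : Ideal C) [p.IsPrime] :
    [Algebra.FormallySmooth A (Localization.AtPrime p),
     Function.Injective ((kerCotangentToTensor A B C).lTensor p.ResidueField),
     ∃ f : C, f ∉ p ∧ Algebra.FormallySmooth A (Localization.Away f)].TFAE := by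
  let P := H05EGA4.SmoothQuot.ext A B C hsurj
  haveI := H05EGA4.SmoothQuot.finite_cotangent (A := A) hsurj
  haveI : Module.Projective C P.CotangentSpace := inferInstance
  haveI : Algebra.FormallySmooth A P.Ring := inferInstanceAs (Algebra.FormallySmooth A B)
  have h := (S4530.result P.cotangentComplex).1 ⟨p, inferInstance⟩
  have hb : Function.Injective ((kerCotangentToTensor A B C).lTensor p.ResidueField) ↔
      Function.Injective (P.cotangentComplex.lTensor p.ResidueField) := by
    let e0 : P.ker.Cotangent ≃ₗ[P.Ring] P.Cotangent :=
      { __ := AddEquiv.refl _, map_smul' r m := by ext1; simp; rfl }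
    let e : (RingHom.ker (algebraMap B C)).Cotangent ≃ₗ[B] P.Cotangent := e0
    haveI : TensorProduct.CompatibleSMul B C p.ResidueField P.Cotangent :=
      ⟨fun c m n => by obtain ⟨b, rfl⟩ := hsurj c; simp only [algebraMap_smul]; exact smul_tmul b m n⟩
    haveI : TensorProduct.CompatibleSMul B C p.ResidueField (C ⊗[B] Ω[B⁄A]) :=
      ⟨fun c m n => by obtain ⟨b, rfl⟩ := hsurj c; simp only [algebraMap_smul]; exact smul_tmul b m n⟩
    let e1 := (e.lTensor p.ResidueField).trans
      (TensorProduct.equivOfCompatibleSMul C B B p.ResidueField P.Cotangent)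
    let e2 := TensorProduct.equivOfCompatibleSMul C B B p.ResidueField (C ⊗[B] Ω[B⁄A])
    have hc : ⇑(P.cotangentComplex.lTensor p.ResidueField) ∘ e1 =
        ⇑e2 ∘ ⇑((kerCotangentToTensor A B C).lTensor p.ResidueField) := funext fun z => by
      induction z using TensorProduct.induction_on with
      | zero =>
        simp only [Function.comp_apply, map_zero]
        rfl
      | add a b ha hb =>
        simp only [Function.comp_apply] at ha hb ⊢
        simp only [map_add, ha, hb]
        rfl
      | tmul a m =>
        obtain ⟨x, rfl⟩ := Ideal.toCotangent_surjective _ m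
        rfl
    refine Iff.trans ?_ (Function.Injective.of_comp_iff' _ e1.bijective)
    rw [hc]
    exact (e2.injective.of_comp_iff _).symm
  have h01 := h.out 0 1
  have h12 := h.out 1 2
  tfae_have 1 → 2 := fun h1 => hb.2 (h01.1
    ((H05EGA4.SmoothQuot.formallySmooth_localization_iff hsurj p).1 h1))
  tfae_have 2 → 1 := fun h2 => (H05EGA4.SmoothQuot.formallySmooth_localization_iff hsurj p).2
    (h01.2 (hb.1 h2))
  tfae_have 2 → 3 := fun h2 => by
    obtain ⟨f, hf, hW⟩ := h12.1 (hb.1 h2)
    exact ⟨f, hf, (H05EGA4.SmoothQuot.formallySmooth_localization_iff' hsurj (Submonoid.powers f)).2 hW⟩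
  tfae_have 3 → 2 := fun ⟨f, hf, h3⟩ => hb.2 (h12.2
    ⟨f, hf, (H05EGA4.SmoothQuot.formallySmooth_localization_iff' hsurj (Submonoid.powers f)).1 h3⟩)
  tfae_finish

end Groth.Agent.S2463
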