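import Groth.Statements.S2464
import Groth.Agent.H05EGA4.PBasis2

set_option autoImplicit false
universe u
open EGA41

namespace Groth.Agent.S2464

/-- Let p be a prime, B a ring of characteristic p and A → B an injective ring map whose image contains
every p-th power, and (x_α) a p-basis of B over A. Let E be an A-algebra and q : E → B a surjective
A-algebra homomorphism whose kernel K has K^p = 0. (i) q admits an A-algebra right inverse if and
only if, for all z ∈ E and a ∈ A with a ↦ q(z)^p in B, the image of a in E is z^p. (ii) When this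
holds, for every family (z_α) in E with q(z_α) = x_α there is a unique A-algebra homomorphism v : B
→ E with v(x_α) = z_α for all α, and q ∘ v is the identity. -/
theorem result (p : ℕ) [Fact p.Prime] {A B : Type u} [CommRing A] [CommRing B] [Algebra A B] [CharP B p]
    (hinj : Function.Injective (algebraMap A B)) (hpow : ∀ b : B, b ^ p ∈ Set.range (algebraMap A B))
    {ι : Type u} (x : ι → B) (hx : EGA41.IsPBasis p A x)
    {E : Type u} [CommRing E] [Algebra A E] (q : E →ₐ[A] B) (hq : Function.Surjective q) (hK : RingHom.ker q.toRingHom ^ p = ⊥) :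
    ((∃ v : B →ₐ[A] E, q.comp v = AlgHom.id A B) ↔ ∀ (z : E) (a : A), algebraMap A B a = q z ^ p → algebraMap A E a = z ^ p) ∧
    ((∀ (z : E) (a : A), algebraMap A B a = q z ^ p → algebraMap A E a = z ^ p) →
      ∀ z : ι → E, (∀ i, q (z i) = x i) →
        (∃! v : B →ₐ[A] E, ∀ i, v (x i) = z i) ∧ ∀ v : B →ₐ[A] E, (∀ i, v (x i) = z i) → q.comp v = AlgHom.id A B) := by
  have hC : EGA41.pPowerSubalgebra p A B = ⊥ := le_antisymm
    (Algebra.adjoin_le fun z ⟨b, hb⟩ => by
      obtain ⟨a, ha⟩ := hpow b
      exact Algebra.mem_bot.2 ⟨a, ha.trans hb⟩) bot_le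
  have hli : LinearIndependent A
      (fun e : {e : ι →₀ ℕ // ∀ i, e i < p} => EGA41.pMonomial x e.1) := by
    refine LinearIndependent.restrict_scalars (R := A) (K := EGA41.pPowerSubalgebra p A B) ?_ hx.1
    intro a b hab
    refine hinj ?_
    have h := congrArg Subtype.val hab
    simpa [Algebra.algebraMap_eq_smul_one] using h
  have hadj : Algebra.adjoin A (Set.range x) = ⊤ := by
    have h := (Groth.Agent.H05EGA4.PBasis.isPGenerating_iff p x).1 hx.2
    rw [eq_top_iff]
    rintro b -
    have hb : b ∈ Algebra.adjoin (EGA41.pPowerSubalgebra p A B) (Set.range x) := h ▸ Algebra.mem_top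
    induction hb using Algebra.adjoin_induction with
    | mem z hz => exact Algebra.subset_adjoin hz
    | algebraMap c =>
      obtain ⟨a, ha⟩ := Algebra.mem_bot.1 (show (c : B) ∈ (⊥ : Subalgebra A B) from hC ▸ c.2)
      show (c : B) ∈ _
      rw [← ha]
      exact Subalgebra.algebraMap_mem _ a
    | add u v _ _ hu hv => exact add_mem hu hv
    | mul u v _ _ hu hv => exact mul_mem hu hv
  have hgen : Submodule.span A
      (Set.range fun e : {e : ι →₀ ℕ // ∀ i, e i < p} => EGA41.pMonomial x e.1) = ⊤ := by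
    rw [Groth.Agent.H05EGA4.PBasis.span_eq_adjoin p hpow x, hadj, Algebra.top_toSubmodule]
  have hp0 : (p : E) = 0 := by
    have hA : (p : A) = 0 := hinj (by rw [map_natCast, CharP.cast_eq_zero, map_zero])
    rw [← map_natCast (algebraMap A E), hA, map_zero]
  have hfwd : (∀ (z : E) (a : A), algebraMap A B a = q z ^ p → algebraMap A E a = z ^ p) →
      ∀ z : ι → E, (∀ i, q (z i) = x i) →
        (∃! v : B →ₐ[A] E, ∀ i, v (x i) = z i) ∧
          ∀ v : B →ₐ[A] E, (∀ i, v (x i) = z i) → q.comp v = AlgHom.id A B := by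
    intro h z hzx
    obtain ⟨v, hv⟩ := Groth.Agent.H05EGA4.PBasis.exists_algHom p hpow x hli hgen z (fun i a ha => (h (z i) a (by rw [hzx, ha])).symm)
    refine ⟨⟨v, hv, fun v' hv' => Groth.Agent.H05EGA4.PBasis.algHom_ext_adjoin hadj fun i => (hv' i).trans (hv i).symm⟩,
      fun v' hv' => Groth.Agent.H05EGA4.PBasis.algHom_ext_adjoin hadj fun i => ?_⟩
    show q (v' (x i)) = x i
    rw [hv', hzx]
  refine ⟨⟨?_, fun h => ?_⟩, hfwd⟩
  · rintro ⟨v, hv⟩ z a ha
    rw [← v.commutes a, ha, map_pow]
    refine (Groth.Agent.H05EGA4.PBasis.pow_eq_of_sub_mem p hp0 hK ?_).symm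
    show q (z - v (q z)) = 0
    rw [map_sub, sub_eq_zero]
    exact (AlgHom.congr_fun hv (q z)).symm
  · choose z hz using fun i => hq (x i)
    obtain ⟨⟨v, hv, -⟩, hall⟩ := hfwd h z hz
    exact ⟨v, hall v hv⟩

end Groth.Agent.S2464
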