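import Groth.Statements.S2465
import Groth.Agent.H05EGA4.PBasis

set_option autoImplicit false
universe u
open EGA41

namespace Groth.Agent.S2465

/-- Let p be a prime, B a ring of characteristic p, A → B injective with image containing all p-th
powers, (x_α) a p-basis of B over A, and L a B-module. (i) An additive derivation D : A → L extends
to a derivation of B if and only if D vanishes on the elements of A mapping to p-th powers. (ii) In
that case, for every family (y_α) in L there is a unique derivation D' of B into L extending D with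
D'(x_α) = y_α for all α. -/
theorem result (p : ℕ) [Fact p.Prime] {A B : Type u} [CommRing A] [CommRing B] [Algebra A B] [CharP B p]
    (hinj : Function.Injective (algebraMap A B)) (hpow : ∀ b : B, b ^ p ∈ Set.range (algebraMap A B))
    {ι : Type u} (x : ι → B) (hx : EGA41.IsPBasis p A x)
    (L : Type u) [AddCommGroup L] [Module B L] [Module A L] [IsScalarTower A B L] (D : Derivation ℤ A L) :
    ((∃ D' : Derivation ℤ B L, ∀ a : A, D' (algebraMap A B a) = D a) ↔ ∀ (a : A) (b : B), algebraMap A B a = b ^ p → D a = 0) ∧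
    ((∀ (a : A) (b : B), algebraMap A B a = b ^ p → D a = 0) →
      ∀ y : ι → L, ∃! D' : Derivation ℤ B L, (∀ a : A, D' (algebraMap A B a) = D a) ∧ ∀ i, D' (x i) = y i) := by
  have hC : EGA41.pPowerSubalgebra p A B = ⊥ := le_antisymm
    (Algebra.adjoin_le fun z ⟨b, hb⟩ => by
      obtain ⟨a, ha⟩ := hpow b
      exact Algebra.mem_bot.2 ⟨a, ha.trans hb⟩) bot_le
  have hli : LinearIndependent A
      (fun e : {e : ι →₀ ℕ // ∀ i, e i < p} => EGA41.pMonomial x e.1) := by
    refine LinearIndependent.restrict_scalars (R := A) (K := EGA41.pPowerSubalgebra p A B) ?_ hx.1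
    intro a b hab
    refine hinj ?_
    have h := congrArg Subtype.val hab
    simpa [Algebra.algebraMap_eq_smul_one] using h
  have hgen : Submodule.span A
      (Set.range fun e : {e : ι →₀ ℕ // ∀ i, e i < p} => EGA41.pMonomial x e.1) = ⊤ := by
    have h := (Groth.Agent.H05EGA4.PBasis.isPGenerating_iff p x).1 hx.2
    rw [Groth.Agent.H05EGA4.PBasis.span_eq_adjoin p hpow x, Algebra.toSubmodule_eq_top, eq_top_iff]
    rintro b -
    have hb : b ∈ Algebra.adjoin (EGA41.pPowerSubalgebra p A B) (Set.range x) := h ▸ Algebra.mem_top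
    induction hb using Algebra.adjoin_induction with
    | mem z hz => exact Algebra.subset_adjoin hz
    | algebraMap c =>
      obtain ⟨a, ha⟩ := Algebra.mem_bot.1 (show (c : B) ∈ (⊥ : Subalgebra A B) from hC ▸ c.2)
      show (c : B) ∈ _
      rw [← ha]
      exact Subalgebra.algebraMap_mem _ a
    | add u v _ _ hu hv => exact add_mem hu hv
    | mul u v _ _ hu hv => exact mul_mem hu hv
  have hpD : ∀ (D' : Derivation ℤ B L) (b : B), D' (b ^ p) = 0 := fun D' b => by
    rw [Derivation.leibniz_pow, ← Nat.cast_smul_eq_nsmul B, CharP.cast_eq_zero, zero_smul]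
  refine ⟨⟨fun ⟨D', hD'⟩ a b hab => by rw [← hD', hab, hpD], fun h => ?_⟩, fun h y => ?_⟩
  · obtain ⟨D', h1, -⟩ := Groth.Agent.H05EGA4.PBasis.exists_extend p hpow x hli hgen D h 0
    exact ⟨D', h1⟩
  · obtain ⟨D', h1, h2⟩ := Groth.Agent.H05EGA4.PBasis.exists_extend p hpow x hli hgen D h y
    refine ⟨D', ⟨h1, h2⟩, fun D'' ⟨h1', h2'⟩ => Derivation.ext fun b => ?_⟩
    have hb : b ∈ Algebra.adjoin A (Set.range x) := by
      rw [← Subalgebra.mem_toSubmodule, ← Groth.Agent.H05EGA4.PBasis.span_eq_adjoin p hpow x, hgen]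
      trivial
    induction hb using Algebra.adjoin_induction with
    | mem z hz => obtain ⟨i, rfl⟩ := hz; rw [h2, h2']
    | algebraMap a => rw [h1, h1']
    | add u v _ _ hu hv => rw [map_add, map_add, hu, hv]
    | mul u v _ _ hu hv => rw [Derivation.leibniz, Derivation.leibniz, hu, hv]

end Groth.Agent.S2465
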