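import Groth.Statements.S2470
import Mathlib
import Groth.Agent.H05EGA4.Regular2

set_option autoImplicit false
set_option maxHeartbeats 400000
universe u
open EGA41

open IsLocalRing TensorProduct RingTheory.Sequence Groth.Agent.H05EGA4 Groth.Agent

namespace Groth.Agent.S2470

open IsLocalRing in
/-- Let A → B be a local homomorphism of Noetherian local rings with maximal ideals 𝔪, 𝔫 and residue
fields k, k', and let B₀ = B/𝔪B be the closed fibre. The following are equivalent: (a) B is regular
and the canonical map (𝔪/𝔪²) ⊗_k k' → 𝔫/𝔫² is injective — stated here through dimensions, as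
rank_{k'} 𝔫/𝔫² = rank_k 𝔪/𝔪² + rank_{k'} of the cotangent space of B₀, which is equivalent since the
cokernel of that map is the cotangent space of B₀; (c) B and B₀ are regular and B is flat over A;
(d) A and B₀ are regular and B is flat over A; (e) A and B₀ are regular and dim B = dim A + dim B₀.
(Condition (b) of the source, on regular systems of parameters, is not stated.) -/
theorem result {A B : Type u} [CommRing A] [IsLocalRing A] [IsNoetherianRing A] [CommRing B] [IsLocalRing B] [IsNoetherianRing B]
    [Algebra A B] [IsLocalHom (algebraMap A B)] [IsLocalRing (B ⧸ (maximalIdeal A).map (algebraMap A B))] :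
    [IsRegularLocalRing B ∧
       Module.finrank (ResidueField B) (CotangentSpace B) =
         Module.finrank (ResidueField A) (CotangentSpace A) +
           Module.finrank (ResidueField (B ⧸ (maximalIdeal A).map (algebraMap A B))) (CotangentSpace (B ⧸ (maximalIdeal A).map (algebraMap A B))),
     IsRegularLocalRing B ∧ IsRegularLocalRing (B ⧸ (maximalIdeal A).map (algebraMap A B)) ∧ Module.Flat A B,
     IsRegularLocalRing A ∧ IsRegularLocalRing (B ⧸ (maximalIdeal A).map (algebraMap A B)) ∧ Module.Flat A B,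
     IsRegularLocalRing A ∧ IsRegularLocalRing (B ⧸ (maximalIdeal A).map (algebraMap A B)) ∧
       ringKrullDim B = ringKrullDim A + ringKrullDim (B ⧸ (maximalIdeal A).map (algebraMap A B))].TFAE := by
  simp only [finrank_cotangent_eq]
  obtain ⟨dA, hA⟩ := exists_dim_eq_nat A
  obtain ⟨dB, hB⟩ := exists_dim_eq_nat B
  obtain ⟨d0, h0⟩ := exists_dim_eq_nat (B ⧸ (maximalIdeal A).map (algebraMap A B))
  have hle := spanFinrank_maximalIdeal_le_add A B
  tfae_have 2 → 3 := fun ⟨_, h2, _⟩ => ⟨isRegularLocalRing_of_flat (A := A) (B := B), h2, ‹_›⟩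
  tfae_have 3 → 2 := fun ⟨_, h2, _⟩ => ⟨isRegularLocalRing_of_flat_of_fibre A B, h2, ‹_›⟩
  tfae_have 3 → 4 := fun ⟨h1, h2, _⟩ => ⟨h1, h2, ringKrullDim_eq_add_of_flat A B⟩
  tfae_have 4 → 3 := fun ⟨h1, h2, h3⟩ => ⟨h1, h2, (flat_of_ringKrullDim_eq_add A B h3).2⟩
  tfae_have 4 → 1 := fun ⟨h1, h2, h3⟩ => by
    have hBr := (flat_of_ringKrullDim_eq_add A B h3).1
    refine ⟨hBr, ?_⟩
    have e1 := (IsRegularLocalRing.spanFinrank_maximalIdeal (R := A)).trans hA
    have e2 := (IsRegularLocalRing.spanFinrank_maximalIdeal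
      (R := B ⧸ (maximalIdeal A).map (algebraMap A B))).trans h0
    have e3 := (IsRegularLocalRing.spanFinrank_maximalIdeal (R := B)).trans hB
    rw [hA, hB, h0] at h3
    norm_cast at e1 e2 e3 h3
    omega
  tfae_have 1 → 4 := fun ⟨h1, h2⟩ => by
    have e3 := (IsRegularLocalRing.spanFinrank_maximalIdeal (R := B)).trans hB
    have l1 := ringKrullDim_le_spanFinrank_maximalIdeal A
    have l2 := ringKrullDim_le_spanFinrank_maximalIdeal (B ⧸ (maximalIdeal A).map (algebraMap A B))
    have l3 := dimLocalHom A B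
    rw [hA] at l1
    rw [h0] at l2
    rw [hA, hB, h0] at l3
    norm_cast at e3 l1 l2 l3
    refine ⟨.of_spanFinrank_maximalIdeal_le _ ?_, .of_spanFinrank_maximalIdeal_le _ ?_, ?_⟩
    · rw [hA]; exact_mod_cast (by omega : (maximalIdeal A).spanFinrank ≤ dA)
    · rw [h0]; exact_mod_cast (by omega :
        (maximalIdeal (B ⧸ (maximalIdeal A).map (algebraMap A B))).spanFinrank ≤ d0)
    · rw [hA, hB, h0]; exact_mod_cast (by omega : dB = dA + d0)
  tfae_finish


end Groth.Agent.S2470
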