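import Groth.Statements.S2473
import Groth.Agent.H05EGA4.PPoly
import Mathlib.FieldTheory.IsAlgClosed.AlgebraicClosure

set_option autoImplicit false
universe u
open EGA41

namespace Groth.Agent.S2473

open IsLocalRing TensorProduct in
/-- Let A be a regular local ring whose residue field K has characteristic p > 0; for 1 ≤ i ≤ r let F_i
= T_i^p + p Σ_{j=1}^{p-1} c_{ij} T_i^{p-j} − f_i with c_{ij}, f_i ∈ A, and let B be the quotient of
A[T_1, …, T_r] by the ideal generated by the F_i. Then B is a local ring, and B is regular if and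
only if the elements d f_i ⊗ 1 of Ω_{A/ℤ} ⊗_A K are linearly independent over K. Assumed in
addition: p lies in the square of the maximal ideal of A (which covers the case where A has
characteristic p); the printed statement omits this, and the equivalence can fail for A absolutely
unramified, e.g. A = ℤ_(p), r = 1, f_1 = p. (Condition (c) of the source, on the characteristic
homomorphism Ξ, is not stated.) -/
theorem result {A : Type u} [CommRing A] [IsRegularLocalRing A] (p : ℕ) [Fact p.Prime] [CharP (ResidueField A) p]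
    {r : ℕ} (c : Fin r → Fin p → A) (f : Fin r → A)
    (hp : (p : A) ∈ maximalIdeal A ^ 2) :
    let F : Fin r → MvPolynomial (Fin r) A := fun i =>
      MvPolynomial.X i ^ p + (p : MvPolynomial (Fin r) A) * (Finset.univ.sum fun j : Fin p =>
        if (j : ℕ) = 0 then 0 else MvPolynomial.C (c i j) * MvPolynomial.X i ^ (p - (j : ℕ))) - MvPolynomial.C (f i)
    IsLocalRing (MvPolynomial (Fin r) A ⧸ Ideal.span (Set.range F)) ∧
      (IsRegularRing (MvPolynomial (Fin r) A ⧸ Ideal.span (Set.range F)) ↔
        LinearIndependent (ResidueField A) (fun i => (1 : ResidueField A) ⊗ₜ[A] KaehlerDifferential.D ℤ A (f i))) := by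
  classical
  intro F
  let P := MvPolynomial (Fin r) A
  let B := P ⧸ Ideal.span (Set.range F)
  let K := ResidueField A
  haveI : IsNoetherianRing A := inferInstance
  have hpp : (p : ℕ) ≠ 0 := (Fact.out : p.Prime).ne_zero
  -- the monic one-variable polynomials
  let tail : Fin r → Polynomial A := fun i =>
    (p : Polynomial A) * (Finset.univ.sum fun j : Fin p =>
      if (j : ℕ) = 0 then 0 else Polynomial.C (c i j) * Polynomial.X ^ (p - (j : ℕ))) - Polynomial.C (f i)
  let q : Fin r → Polynomial A := fun i => Polynomial.X ^ p + tail i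
  have hdeg : ∀ i, (tail i).degree < p := by
    intro i
    refine lt_of_le_of_lt (Polynomial.degree_sub_le _ _) (max_lt ?_ ?_)
    · rw [← Polynomial.C_eq_natCast]
      refine lt_of_le_of_lt (Polynomial.degree_mul_le _ _) ?_
      refine lt_of_le_of_lt (add_le_add Polynomial.degree_C_le le_rfl) ?_
      rw [zero_add]
      refine lt_of_le_of_lt (Polynomial.degree_sum_le _ _) ((Finset.sup_lt_iff (WithBot.bot_lt_coe p)).2 ?_)
      intro j _
      by_cases hj : (j : ℕ) = 0
      · rw [if_pos hj, Polynomial.degree_zero]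
        exact WithBot.bot_lt_coe p
      · rw [if_neg hj]
        refine lt_of_le_of_lt (Polynomial.degree_C_mul_X_pow_le _ _) ?_
        exact Nat.cast_lt.2 (Nat.sub_lt (Nat.pos_of_ne_zero hpp) (Nat.pos_of_ne_zero hj))
    · exact lt_of_le_of_lt Polynomial.degree_C_le (by exact_mod_cast Nat.pos_of_ne_zero hpp)
  have hmonic : ∀ i, (q i).Monic := fun i => Polynomial.monic_X_pow_add (hdeg i)
  have hq : ∀ i, Polynomial.aeval (MvPolynomial.X i : P) (q i) = F i := by
    intro i
    simp only [q, tail, F, map_add, map_sub, map_mul, map_sum, map_natCast, map_pow,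
      Polynomial.aeval_X, Polynomial.aeval_C, apply_ite (Polynomial.aeval (MvPolynomial.X i : P)),
      map_zero, MvPolynomial.algebraMap_eq]
    ring
  -- finiteness
  let xB : Fin r → B := fun i => Ideal.Quotient.mk _ (MvPolynomial.X i)
  haveI hint : Algebra.IsIntegral A B := by
    refine ⟨fun b => ?_⟩
    obtain ⟨x, rfl⟩ := Ideal.Quotient.mk_surjective b
    induction x using MvPolynomial.induction_on with
    | C a => exact isIntegral_algebraMap (R := A) (A := B) (x := a)
    | add x y hx hy => rw [map_add]; exact hx.add hy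
    | mul_X x i hx =>
      rw [map_mul]
      refine hx.mul ⟨q i, hmonic i, ?_⟩
      have h1 := congrArg (Ideal.Quotient.mkₐ A (Ideal.span (Set.range F))) (hq i)
      rw [← Polynomial.aeval_algHom_apply] at h1
      exact h1.trans (Ideal.Quotient.eq_zero_iff_mem.2 (Ideal.subset_span ⟨i, rfl⟩))
  haveI : Module.Finite A B := Algebra.IsIntegral.finite
  -- a point of `B` over the fraction field
  haveI : IsDomain A := Groth.Agent.H4Depth.isDomain_of_isRegularLocalRing A
  let Ω' := AlgebraicClosure (FractionRing A)
  have hinjA : Function.Injective (algebraMap A Ω') := by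
    rw [IsScalarTower.algebraMap_eq A (FractionRing A) Ω', RingHom.coe_comp]
    exact (algebraMap (FractionRing A) Ω').injective.comp (IsFractionRing.injective A (FractionRing A))
  have hroot : ∀ i, ∃ θ : Ω', Polynomial.aeval θ (q i) = 0 := fun i => by
    obtain ⟨θ, hθ⟩ := IsAlgClosed.exists_root ((q i).map (algebraMap A Ω')) (by
      rw [(hmonic i).degree_map, Polynomial.degree_eq_natDegree (hmonic i).ne_zero]
      have : (q i).natDegree = p := by
        rw [Polynomial.natDegree_eq_of_degree_eq_some]
        rw [Polynomial.degree_add_eq_left_of_degree_lt (by rw [Polynomial.degree_X_pow]; exact hdeg i),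
          Polynomial.degree_X_pow]
      rw [this]
      exact_mod_cast hpp)
    exact ⟨θ, by rwa [Polynomial.IsRoot, Polynomial.eval_map, ← Polynomial.aeval_def] at hθ⟩
  choose θ hθ using hroot
  let Φ : B →+* Ω' := Ideal.Quotient.lift _ (MvPolynomial.aeval θ).toRingHom (fun x hx => by
    refine Submodule.span_induction ?_ (map_zero _) (fun a b _ _ ha hb => by rw [map_add, ha, hb, add_zero])
      (fun a b _ hb => by rw [smul_eq_mul, map_mul, hb, mul_zero]) hx
    rintro _ ⟨i, rfl⟩
    show MvPolynomial.aeval θ (F i) = 0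
    rw [← hq i, ← Polynomial.aeval_algHom_apply, MvPolynomial.aeval_X]
    exact hθ i)
  haveI : Nontrivial B := Φ.domain_nontrivial
  have hinj : Function.Injective (algebraMap A B) := fun a b hab => hinjA (by
    have h : ∀ a : A, Φ (algebraMap A B a) = algebraMap A Ω' a := fun a =>
      (Ideal.Quotient.lift_mk _ _ _).trans (MvPolynomial.aeval_C θ a)
    rw [← h, ← h, hab])
  -- reduction modulo the square of the maximal ideal
  let m := RingHom.ker (algebraMap A K)
  have hm : m = maximalIdeal A := ker_residue
  let A₀ := A ⧸ m ^ 2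
  have hm2 : m ^ 2 ≠ ⊤ := ne_top_of_le_ne_top (maximalIdeal.isMaximal A).ne_top
    ((Ideal.pow_le_self two_ne_zero).trans hm.le)
  haveI : Nontrivial A₀ := Ideal.Quotient.nontrivial_iff.2 hm2
  haveI : IsLocalRing A₀ := IsLocalRing.of_surjective' (Ideal.Quotient.mk (m ^ 2)) Ideal.Quotient.mk_surjective
  have hmax₀ : maximalIdeal A₀ = (maximalIdeal A).map (Ideal.Quotient.mk (m ^ 2)) :=
    (IsLocalRing.map_maximalIdeal_of_surjective _ Ideal.Quotient.mk_surjective).symm
  have hsq : maximalIdeal A₀ ^ 2 = ⊥ := by
    rw [hmax₀, ← Ideal.map_pow, ← hm, Ideal.map_quotient_self]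
  haveI : IsArtinianRing A₀ := by
    rw [isArtinianRing_iff_isNilpotent_maximalIdeal]
    exact ⟨2, hsq⟩
  have hp₀ : (p : A₀) = 0 := by
    rw [← map_natCast (Ideal.Quotient.mk (m ^ 2)), Ideal.Quotient.eq_zero_iff_mem, hm]
    exact hp
  haveI : CharP A₀ p := (CharP.charP_iff_prime_eq_zero Fact.out).2 hp₀
  let f₀ : Fin r → A₀ := fun i => Ideal.Quotient.mk (m ^ 2) (f i)
  obtain ⟨hB₀, hiff⟩ := Groth.Agent.S4595.result hsq p f₀
  let G : Fin r → MvPolynomial (Fin r) A₀ := fun i => MvPolynomial.X i ^ p - MvPolynomial.C (f₀ i)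
  haveI : IsLocalRing (MvPolynomial (Fin r) A₀ ⧸ Ideal.span (Set.range G)) := hB₀
  obtain ⟨hloc, hnB⟩ := Groth.Agent.H05EGA4.PPoly.reduce_sq (Ideal.Quotient.mk (m ^ 2))
    Ideal.Quotient.mk_surjective (by rw [Ideal.mk_ker, hm]) F G
    (fun i => Groth.Agent.H05EGA4.PPoly.map_pPoly _ p hp₀ i _ _)
  refine ⟨hloc, ?_⟩
  let B₀ := MvPolynomial (Fin r) A₀ ⧸ Ideal.span (Set.range G)
  haveI : IsNoetherianRing B := isNoetherianRing_of_surjective P B _ Ideal.Quotient.mk_surjective
  have hnA := Groth.Agent.H05EGA4.PPoly.finrank_cotangent_of_surjective (Ideal.Quotient.mk (m ^ 2))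
    Ideal.Quotient.mk_surjective (by rw [Ideal.mk_ker, hm])
  have hdim : ringKrullDim B = ringKrullDim A := (Groth.Agent.H05EGA4.dim_int A B).2 hinj
  have hregB : IsRegularRing B ↔
      Module.finrank (ResidueField A₀) (CotangentSpace A₀) = Module.finrank (ResidueField B₀) (CotangentSpace B₀) := by
    rw [← hnA, ← hnB, Groth.Agent.H05EGA4.finrank_cotangent_eq, Groth.Agent.H05EGA4.finrank_cotangent_eq]
    have hA := IsRegularLocalRing.spanFinrank_maximalIdeal (R := A)
    constructor
    · intro h
      haveI := h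
      haveI := IsRegularLocalRing.of_isRegularRing_of_isLocalRing B
      have hB := IsRegularLocalRing.spanFinrank_maximalIdeal (R := B)
      rw [hdim, ← hA] at hB
      exact_mod_cast hB.symm
    · intro h
      haveI : IsRegularLocalRing B := IsRegularLocalRing.of_spanFinrank_maximalIdeal_le B
        (by rw [hdim, ← hA, h])
      exact Groth.Agent.H05EGA4.isRegularRing_of_isRegularLocalRing B
  exact hregB.trans (hiff.trans (Groth.Agent.H05EGA4.PPoly.linearIndependent_residue_iff f))

end Groth.Agent.S2473
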