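import Groth.Statements.S2475
import Groth.Agent.H05EGA4.FieldFamily2

set_option autoImplicit false
universe u
open EGA41

namespace Groth.Agent.S2475

/-- Let K be a field of characteristic p > 0, k₀ ⊆ K a subfield and (k_α) a decreasing filtered family
of subfields of K containing k₀. Then ⋂_α k_α(K^p) = k₀(K^p) if and only if the canonical map
Ω_{K/k₀} → lim_α Ω_{K/k_α} is injective (an element of Ω_{K/k₀} whose image in every Ω_{K/k_α}
vanishes is zero). (Conditions (b), (b') of the source, on admissible subfields, are not stated.) -/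
theorem result (p : ℕ) [Fact p.Prime] {k₀ K : Type u} [Field k₀] [Field K] [Algebra k₀ K] [CharP K p]
    {ι : Type u} [Preorder ι] [IsDirected ι (· ≤ ·)] [Nonempty ι] (k : ι → IntermediateField k₀ K) (hk : Antitone k) :
    (⨅ i, k i ⊔ IntermediateField.adjoin k₀ (Set.range fun y : K => y ^ p)) = IntermediateField.adjoin k₀ (Set.range fun y : K => y ^ p) ↔
      ∀ ω : Ω[K⁄k₀], (∀ i, KaehlerDifferential.map k₀ (k i) K K ω = 0) → ω = 0 := by
  have hP : ∀ x : K, x ∈ IntermediateField.adjoin k₀ (Set.range fun y : K => y ^ p) ↔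
      x ∈ Groth.Agent.H05EGA4.FieldFamily.pClosure p k₀ (k := K) := fun x => by
    rw [← IntermediateField.mem_toSubfield, IntermediateField.adjoin_toSubfield]
    rfl
  have hsup : ∀ i x, x ∈ k i ⊔ IntermediateField.adjoin k₀ (Set.range fun y : K => y ^ p) ↔
      x ∈ (k i).toSubfield ⊔ Groth.Agent.H05EGA4.FieldFamily.pClosure p k₀ := fun i x => by
    rw [← IntermediateField.mem_toSubfield, IntermediateField.sup_toSubfield,
      IntermediateField.adjoin_toSubfield]
    rfl
  have hanti : Antitone fun i => (k i).toSubfield := fun i j h x hx => hk h hx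
  have hint : (⨅ i, k i ⊔ IntermediateField.adjoin k₀ (Set.range fun y : K => y ^ p)) =
      IntermediateField.adjoin k₀ (Set.range fun y : K => y ^ p) →
      ∀ x, (∀ i, x ∈ (k i).toSubfield ⊔ Groth.Agent.H05EGA4.FieldFamily.pClosure p k₀) →
        x ∈ Groth.Agent.H05EGA4.FieldFamily.pClosure p k₀ := fun h x hx => by
    rw [← hP, ← h, ← SetLike.mem_coe, IntermediateField.coe_iInf, Set.mem_iInter]
    exact fun i => (hsup i x).2 (hx i)
  constructor
  · intro h ω hω
    have h0 : (1 : K) ⊗ₜ[K] ω = 0 := Groth.Agent.H05EGA4.FieldFamily.iInf_dSpan p k₀ _ hanti (hint h) fun i =>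
      Groth.Agent.H05EGA4.FieldFamily.mem_dSpan_of_map_eq_zero k₀ K (k i) (k i).toSubfield (fun s => s.2)
        (by rw [LinearMap.lTensor_tmul, hω, TensorProduct.tmul_zero])
    simpa using congrArg (TensorProduct.lid K Ω[K⁄k₀]) h0
  · intro h
    refine le_antisymm (fun x hx => (hP x).2 ?_) (le_iInf fun i => le_sup_right)
    refine Groth.Agent.H05EGA4.FieldFamily.mem_pClosure_of_D_eq_zero p k₀ (h _ fun i => ?_)
    rw [← SetLike.mem_coe, IntermediateField.coe_iInf, Set.mem_iInter] at hx
    have h1 := Groth.Agent.H05EGA4.FieldFamily.map_eq_zero_of_mem_dSpan k₀ K (k i) (k i).toSubfield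
      (fun y hy => ⟨⟨y, hy⟩, rfl⟩)
      (Groth.Agent.H05EGA4.FieldFamily.D_mem_dSpan p k₀ ((hsup i x).1 (hx i)) K)
    rw [LinearMap.baseChange_tmul] at h1
    simpa using congrArg (TensorProduct.lid K Ω[K⁄k i]) h1

end Groth.Agent.S2475
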