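import Groth.Statements.S2477
import Groth.Agent.H05EGA4.KaehlerRank
import Groth.Agent.H05EGA4.FlatPresentation
import Groth.Agent.S4533
-- import your own Groth.Agent.* helpers here

set_option autoImplicit false
universe u
open EGA41

namespace Groth.Agent.S2477

open IsLocalRing in
/-- Let k be a field and A = k[[T_1, …, T_r]] with its usual k-algebra structure. Then the adic
completion Ω̂_{A/k} of Ω_{A/k} is a free A-module of rank r. -/
theorem result (k : Type u) [Field k] (r : ℕ) :
    Module.Finite (MvPowerSeries (Fin r) k) (AdicCompletion (maximalIdeal (MvPowerSeries (Fin r) k)) (Ω[MvPowerSeries (Fin r) k⁄k])) ∧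
    Module.Free (MvPowerSeries (Fin r) k) (AdicCompletion (maximalIdeal (MvPowerSeries (Fin r) k)) (Ω[MvPowerSeries (Fin r) k⁄k])) ∧
      Module.finrank (MvPowerSeries (Fin r) k) (AdicCompletion (maximalIdeal (MvPowerSeries (Fin r) k)) (Ω[MvPowerSeries (Fin r) k⁄k])) = r := by
  have hmax : maximalIdeal (MvPowerSeries (Fin r) k) =
      (⊥ : Ideal k).map (MvPowerSeries.C : k →+* MvPowerSeries (Fin r) k) ⊔
        RingHom.ker (MvPowerSeries.constantCoeff : MvPowerSeries (Fin r) k →+* k) := by
    rw [Ideal.map_bot, bot_sup_eq]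
    exact (IsLocalRing.ker_eq_maximalIdeal _ fun c => ⟨MvPowerSeries.C c, by simp⟩).symm
  have hfs : CAlgX.IsAdicFormallySmooth k (MvPowerSeries (Fin r) k) (maximalIdeal _) := by
    refine (Groth.Agent.H05EGA4.isFormallySmoothAdic_iff_isAdicFormallySmooth ⊥ _ ⟨1, by simp⟩).mp ?_
    rw [hmax]
    exact Groth.Agent.S4533.result k ⊥ r
  have hsurj : Function.Surjective (algebraMap k (ResidueField (MvPowerSeries (Fin r) k))) := fun z => by
    obtain ⟨f, rfl⟩ := residue_surjective z
    refine ⟨MvPowerSeries.constantCoeff f, (Ideal.Quotient.eq.2 ?_).symm⟩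
    rw [hmax]
    refine Submodule.mem_sup_right ?_
    rw [RingHom.mem_ker, map_sub, sub_eq_zero]
    simp [MvPowerSeries.algebraMap_apply]
  haveI : Algebra.FiniteType k (ResidueField (MvPowerSeries (Fin r) k)) :=
    Algebra.FiniteType.of_surjective (Algebra.ofId k _) hsurj
  haveI : IsAdicComplete (maximalIdeal (MvPowerSeries (Fin r) k)) (MvPowerSeries (Fin r) k) := by
    rw [Groth.Agent.H05EGA4.maximalIdeal_mvPowerSeries, IsLocalRing.maximalIdeal_eq_bot, Ideal.map_bot, bot_sup_eq]
    infer_instance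
  obtain ⟨e⟩ := Groth.Agent.H05EGA4.KaehlerRank.completed_free hfs
  refine ⟨Module.Finite.equiv e.symm, Module.Free.of_equiv e.symm, ?_⟩
  haveI : IsRegularLocalRing (MvPowerSeries (Fin r) k) :=
    (Groth.Agent.H05EGA4.isRegularLocalRing_of_isAdicFormallySmooth hfs).1
  have ht : Algebra.trdeg k (ResidueField (MvPowerSeries (Fin r) k)) = 0 := by
    haveI : Algebra.IsAlgebraic k (ResidueField (MvPowerSeries (Fin r) k)) := ⟨fun z => by
      obtain ⟨c, rfl⟩ := hsurj z
      exact isAlgebraic_algebraMap c⟩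
    exact trdeg_eq_zero
  have hd := (IsRegularLocalRing.iff_finrank_cotangentSpace (MvPowerSeries (Fin r) k)).mp inferInstance
  rw [Groth.Agent.H05EGA4.ringKrullDim_mvPowerSeries_regular k r 0 (by simp)] at hd
  rw [e.finrank_eq, Module.finrank_fin_fun, ht, map_zero, add_zero]
  exact_mod_cast (by simpa using hd)

end Groth.Agent.S2477
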