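import Groth.Statements.S2481
import Mathlib
import Groth.Prelude.Def_EGA41
import Groth.Agent.H05EGA4.FSAdic
import Groth.Agent.S9316

set_option autoImplicit false
set_option linter.style.haveILetI false
universe u
open EGA41

open IsLocalRing TensorProduct Groth.Agent CAlgX Groth.Agent.H05EGA4

namespace Groth.Agent.S2481

open IsLocalRing in
/-- Let A → B be a local homomorphism of Noetherian local rings with the adic topologies, K the residue
field of B. Then B is formally smooth over A if and only if: for every Artinian local ring C with a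
local homomorphism A → C, every nilpotent ideal J of C and every local A-algebra homomorphism u : B
→ C/J inducing a bijection of residue fields (so that C has residue field K and u induces the
identity on it), u is induced by a local A-algebra homomorphism B → C. -/
theorem result {A B : Type u} [CommRing A] [IsLocalRing A] [IsNoetherianRing A] [CommRing B] [IsLocalRing B] [IsNoetherianRing B]
    [Algebra A B] [IsLocalHom (algebraMap A B)] :
    EGA41.IsFormallySmoothAdic A (maximalIdeal A) B (maximalIdeal B) ↔
      ∀ (C : Type u) [CommRing C] [IsLocalRing C] [IsArtinianRing C] [Algebra A C] [IsLocalHom (algebraMap A C)]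
        (J : Ideal C), IsNilpotent J → ∀ [IsLocalRing (C ⧸ J)] (u : B →ₐ[A] C ⧸ J) [IsLocalHom u.toRingHom],
        Function.Bijective (ResidueField.map u.toRingHom) →
        ∃ f : B →ₐ[A] C, IsLocalHom f.toRingHom ∧ (Ideal.Quotient.mkₐ A J).comp f = u := by
  rw [isFormallySmoothAdic_iff_isAdicFormallySmooth _ _ ⟨1, by rw [pow_one]; exact map_maximalIdeal_le _⟩]
  constructor
  · intro h C _ _ _ _ _ J hJ _ u _ _
    obtain ⟨s, hs⟩ := hJ
    obtain ⟨N, hN⟩ := (isArtinianRing_iff_isNilpotent_maximalIdeal (C ⧸ J)).mp inferInstance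
    obtain ⟨χ, hχ, -⟩ := exists_lift_nilpotent h s C J (le_bot_iff.mp
      ((Ideal.pow_le_pow_right Nat.lt_two_pow_self.le).trans hs.le)) u ⟨N, fun x hx => by
      have h1 := Ideal.mem_map_of_mem u.toRingHom hx
      rw [Ideal.map_pow] at h1
      have h2 := Ideal.pow_right_mono (map_maximalIdeal_le (f := u.toRingHom)) N h1
      rw [hN] at h2
      exact h2⟩
    refine ⟨χ, ⟨fun x hx => ?_⟩, hχ⟩
    exact IsLocalHom.map_nonunit (f := u.toRingHom) x ((AlgHom.congr_fun hχ x) ▸ hx.map (Ideal.Quotient.mk J))
  · intro h
    refine S9316.result.mpr fun C _ _ _ _ _ J hJ _ _ ψ hψ hbij => ?_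
    obtain ⟨f, -, hf⟩ := h C J ⟨2, hJ⟩ ψ hbij
    exact ⟨f, hf⟩


end Groth.Agent.S2481
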