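import Groth.Statements.S2482
import Groth.Agent.H05EGA4.CohenAlg

set_option autoImplicit false
universe u
open EGA41

namespace Groth.Agent.S2482

open IsLocalRing in
/-- (a) ⟹ (b): let A, B be complete discrete valuation rings and u : A → B a ring homomorphism with
u(𝔪_A)B = 𝔪_B, such that the residue field L of B is separable over the residue field K of A. Then
for every complete discrete valuation ring B', every homomorphism u' : A → B' with u'(𝔪_A)B' =
𝔪_{B'} and every isomorphism σ of residue fields L ≅ L' compatible with the maps from K, there is an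
isomorphism w : B ≅ B' with u' = w ∘ u inducing σ on residue fields. -/
theorem result {A B B' : Type u} [CommRing A] [IsDomain A] [IsDiscreteValuationRing A] [IsAdicComplete (maximalIdeal A) A]
    [CommRing B] [IsDomain B] [IsDiscreteValuationRing B] [IsAdicComplete (maximalIdeal B) B]
    [CommRing B'] [IsDomain B'] [IsDiscreteValuationRing B'] [IsAdicComplete (maximalIdeal B') B']
    (u : A →+* B) [IsLocalHom u] (hu : (maximalIdeal A).map u = maximalIdeal B)
    (hsep : letI := (ResidueField.map u).toAlgebra; Algebra.IsGeometricallyReduced (ResidueField A) (ResidueField B))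
    (u' : A →+* B') [IsLocalHom u'] (hu' : (maximalIdeal A).map u' = maximalIdeal B')
    (σ : ResidueField B ≃+* ResidueField B') (hσ : (σ : ResidueField B →+* ResidueField B').comp (ResidueField.map u) = ResidueField.map u') :
    ∃ w : B ≃+* B', (w : B →+* B').comp u = u' ∧ ∀ b : B, residue B' (w b) = σ (residue B b) := by
  letI : Algebra A B := u.toAlgebra
  letI : Algebra A B' := u'.toAlgebra
  haveI : IsLocalHom (algebraMap A B) := ‹IsLocalHom u›
  haveI : IsLocalHom (algebraMap A B') := ‹IsLocalHom u'›
  let σ' : ResidueField B ≃ₐ[ResidueField A] ResidueField B' :=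
    AlgEquiv.ofRingEquiv (f := σ) fun x => RingHom.congr_fun hσ x
  have hflat : ∀ {C : Type u} [CommRing C] [IsDomain C] [IsDiscreteValuationRing C] [Algebra A C]
      [IsLocalHom (algebraMap A C)], (maximalIdeal A).map (algebraMap A C) = maximalIdeal C → Module.Flat A C := by
    intro C _ _ _ _ _ hm
    obtain ⟨ϖ, hϖ⟩ := IsDiscreteValuationRing.exists_irreducible A
    have h0 : algebraMap A C ϖ ≠ 0 := fun h => IsDiscreteValuationRing.not_a_field C (by
      rw [← hm, Irreducible.maximalIdeal_eq hϖ, Ideal.map_span, Set.image_singleton, h, Ideal.span_singleton_eq_bot])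
    haveI : IsDiscreteValuationRing A := ‹_›
    have hinj : Function.Injective (algebraMap A C) := (injective_iff_map_eq_zero _).2 fun a ha => by
      by_contra hne
      obtain ⟨n, v, rfl⟩ := IsDiscreteValuationRing.eq_unit_mul_pow_irreducible hne hϖ
      rw [map_mul, map_pow, mul_eq_zero] at ha
      rcases ha with ha | ha
      · exact (v.isUnit.map (algebraMap A C)).ne_zero ha
      · exact h0 (eq_zero_of_pow_eq_zero ha)
    haveI : FaithfulSMul A C := (faithfulSMul_iff_algebraMap_injective A C).2 hinj
    haveI : Module.IsTorsionFree A C := inferInstance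
    infer_instance
  have hgr : Algebra.IsGeometricallyReduced (ResidueField A) (ResidueField B) := by
    convert hsep using 1
    exact Algebra.algebra_ext _ _ fun x => by obtain ⟨a, rfl⟩ := residue_surjective x; rfl
  have hB : EGA41.IsCohenAlgebra A B := ⟨inferInstance, inferInstance, inferInstance, hflat hu, hu, hgr⟩
  have hB' : EGA41.IsCohenAlgebra A B' := ⟨inferInstance, inferInstance, inferInstance, hflat hu', hu',
    Algebra.IsGeometricallyReduced.of_injective σ'.symm.toAlgHom σ'.symm.injective⟩
  obtain ⟨w, hw⟩ := H05EGA4.exists_algEquiv_of_isCohenAlgebra hB hB' σ'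
  exact ⟨w.toRingEquiv, RingHom.ext fun a => w.commutes a, hw⟩

end Groth.Agent.S2482
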