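import Groth.Statements.S2483
import Groth.Agent.H05EGA4.CohenMisc
import Groth.Agent.H05EGA4.FSBaseChange

set_option autoImplicit false
universe u
open EGA41

namespace Groth.Agent.S2483

open IsLocalRing in
/-- Let C be a complete Noetherian local ring with maximal ideal 𝔍 ≠ 0 and residue field K, and u : K →
C a ring homomorphism which is a section of the residue map. Then u is the only such section if and
only if Ω_{K/ℤ} = 0. -/
theorem result {C : Type u} [CommRing C] [IsLocalRing C] [IsNoetherianRing C] [IsAdicComplete (maximalIdeal C) C]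
    (hm : maximalIdeal C ≠ ⊥) (u : ResidueField C →+* C) (hu : ∀ x, residue C (u x) = x) :
    (∀ v : ResidueField C →+* C, (∀ x, residue C (v x) = x) → v = u) ↔ Subsingleton (Ω[ResidueField C⁄ℤ]) := by
  constructor
  · intro huniq
    by_contra hns
    rw [not_subsingleton_iff_nontrivial] at hns
    obtain ⟨w, hw⟩ := exists_ne (0 : Ω[ResidueField C⁄ℤ])
    obtain ⟨φ, hφ⟩ : ∃ φ : Ω[ResidueField C⁄ℤ] →ₗ[ResidueField C] ResidueField C, φ w ≠ 0 := by
      by_contra h
      push Not at h
      exact hw ((Module.forall_dual_apply_eq_zero_iff (ResidueField C) w).1 h)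
    let D : Derivation ℤ (ResidueField C) (ResidueField C) :=
      Derivation.mk' (φ.toAddMonoidHom.comp
        (KaehlerDifferential.D ℤ (ResidueField C)).toLinearMap.toAddMonoidHom).toIntLinearMap fun a b => by
          show φ (KaehlerDifferential.D ℤ (ResidueField C) (a * b)) =
            a • φ (KaehlerDifferential.D ℤ (ResidueField C) b) + b • φ (KaehlerDifferential.D ℤ (ResidueField C) a)
          rw [Derivation.leibniz, map_add, map_smul, map_smul]
    have hD : D ≠ 0 := by
      intro h
      apply hφ
      have hspan : w ∈ Submodule.span (ResidueField C) (Set.range (KaehlerDifferential.D ℤ (ResidueField C))) := by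
        rw [KaehlerDifferential.span_range_derivation]; trivial
      refine (Submodule.span_le (p := LinearMap.ker φ)).2 ?_ hspan
      rintro _ ⟨x, rfl⟩
      show D x = 0
      rw [h]
      rfl
    obtain ⟨x₀, hx₀⟩ : ∃ x, D x ≠ 0 := by
      by_contra h
      push Not at h
      exact hD (Derivation.ext h)
    obtain ⟨e, he, he2⟩ : ∃ e ∈ maximalIdeal C, e ∉ maximalIdeal C ^ 2 := by
      by_contra h
      push Not at h
      refine hm (Submodule.eq_bot_of_le_smul_of_le_jacobson_bot _ _ (IsNoetherian.noetherian _) ?_
        (maximalIdeal_le_jacobson ⊥))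
      rw [smul_eq_mul, ← pow_two]
      exact h
    let J := maximalIdeal C ^ 2
    let q := Ideal.Quotient.mk J
    have hkill : ∀ a b : ResidueField C, q (u a * e) * q (u b * e) = 0 := fun a b => by
      rw [← map_mul, Ideal.Quotient.eq_zero_iff_mem]
      show u a * e * (u b * e) ∈ maximalIdeal C ^ 2
      rw [pow_two]
      exact Ideal.mul_mem_mul (Ideal.mul_mem_left _ _ he) (Ideal.mul_mem_left _ _ he)
    let v1 : ResidueField C →+* C ⧸ J :=
      { toFun := fun x => q (u x) + q (u (D x) * e)
        map_one' := by
          show q (u 1) + q (u (D 1) * e) = 1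
          rw [D.map_one_eq_zero, map_zero, zero_mul, map_zero, add_zero, map_one, map_one]
        map_mul' := fun a b => by
          have h := hkill (D a) (D b)
          rw [D.leibniz, smul_eq_mul, smul_eq_mul]
          simp only [map_mul, map_add] at h ⊢
          linear_combination (-1 : C ⧸ J) * h
        map_zero' := by simp
        map_add' := fun a b => by simp only [map_add, add_mul]; abel }
    obtain ⟨p, hp⟩ := CharP.exists (ResidueField C)
    haveI hperf : PerfectField (⊥ : Subfield (ResidueField C)) := by
      rcases CharP.char_is_prime_or_zero (ResidueField C) p with hpp | rfl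
      · haveI : Fact p.Prime := ⟨hpp⟩
        haveI : Finite (ZMod.castHom (dvd_refl p) (ResidueField C)).fieldRange :=
          Finite.of_surjective _ (ZMod.castHom (dvd_refl p) (ResidueField C)).rangeRestrictField_bijective.surjective
        haveI : Finite (⊥ : Subfield (ResidueField C)) :=
          Finite.of_injective (Subfield.inclusion (bot_le : ⊥ ≤ (ZMod.castHom (dvd_refl p) (ResidueField C)).fieldRange))
            (RingHom.injective _)
        infer_instance
      · haveI : CharZero (ResidueField C) := CharP.charP_to_charZero _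
        infer_instance
    let P := (⊥ : Subfield (ResidueField C))
    have hP : ∀ a : P, D (a : ResidueField C) = 0 := by
      let S : Subfield (ResidueField C) :=
        { carrier := {x | D x = 0}
          mul_mem' := fun {a b} (ha : D a = 0) (hb : D b = 0) => show D (a * b) = 0 by
            rw [D.leibniz, ha, hb, smul_zero, smul_zero, add_zero]
          one_mem' := D.map_one_eq_zero
          add_mem' := fun {a b} (ha : D a = 0) (hb : D b = 0) => show D (a + b) = 0 by rw [map_add, ha, hb, add_zero]
          zero_mem' := map_zero D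
          neg_mem' := fun {a} (ha : D a = 0) => show D (-a) = 0 by rw [map_neg, ha, neg_zero]
          inv_mem' := fun a (ha : D a = 0) => show D a⁻¹ = 0 by rw [Derivation.leibniz_inv, ha, smul_zero] }
      exact fun a => (bot_le : ⊥ ≤ S) a.2
    letI : Algebra P C := (u.comp P.subtype).toAlgebra
    haveI := H05EGA4.formallySmooth_of_perfectField P (ResidueField C)
    let v1' : ResidueField C →ₐ[P] C ⧸ J :=
      { v1 with
        commutes' := fun a => by
          show q (u a) + q (u (D a) * e) = q (u a)
          rw [hP, map_zero, zero_mul, map_zero, add_zero] }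
    obtain ⟨v, hv⟩ := H05EGA4.exists_lift_formallySmooth_adicComplete J (Ideal.pow_le_self two_ne_zero) v1'
    have hv1 : ∀ x, v x - (u x + u (D x) * e) ∈ J := fun x => by
      have h := hv x (u x + u (D x) * e) ((map_add q _ _).symm) 2
      rwa [sup_idem] at h
    have hvs : ∀ x, residue C (v.toRingHom x) = x := fun x => by
      have h1 : residue C (v x - (u x + u (D x) * e)) = 0 :=
        (residue_eq_zero_iff _).2 (Ideal.pow_le_self two_ne_zero (hv1 x))
      rw [map_sub, map_add, hu, (residue_eq_zero_iff (u (D x) * e)).2 (Ideal.mul_mem_left _ _ he), add_zero,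
        sub_eq_zero] at h1
      exact h1
    have h2 := hv1 x₀
    rw [show v x₀ = u x₀ from RingHom.congr_fun (huniq v.toRingHom hvs) x₀, sub_add_cancel_left, neg_mem_iff] at h2
    refine he2 ((Ideal.unit_mul_mem_iff_mem _ ?_).1 h2)
    exact (isUnit_iff_ne_zero.2 hx₀).map u
  · intro hs v hv
    haveI : Algebra.FormallyUnramified ℤ (ResidueField C) := ⟨hs⟩
    refine RingHom.ext fun x => ?_
    rw [← sub_eq_zero]
    refine (IsHausdorff.haus (I := maximalIdeal C) inferInstance) _ fun n => ?_
    rw [SModEq.zero, smul_eq_mul, Ideal.mul_top]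
    let I : Ideal (C ⧸ maximalIdeal C ^ n) := (maximalIdeal C).map (Ideal.Quotient.mk _)
    have hI : IsNilpotent I := ⟨n, by rw [← Ideal.map_pow, Ideal.map_quotient_self]; rfl⟩
    let f : ResidueField C →ₐ[ℤ] C ⧸ maximalIdeal C ^ n := ((Ideal.Quotient.mk _).comp v).toIntAlgHom
    let g : ResidueField C →ₐ[ℤ] C ⧸ maximalIdeal C ^ n := ((Ideal.Quotient.mk _).comp u).toIntAlgHom
    have hfg : f = g := Algebra.FormallyUnramified.ext I hI fun y => by
      refine Ideal.Quotient.eq.2 ?_
      show Ideal.Quotient.mk _ (v y) - Ideal.Quotient.mk _ (u y) ∈ I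
      rw [← map_sub]
      refine Ideal.mem_map_of_mem _ ((residue_eq_zero_iff _).1 ?_)
      rw [map_sub, hv, hu, sub_self]
    exact Ideal.Quotient.eq.1 (AlgHom.congr_fun hfg x)

end Groth.Agent.S2483
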