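import Groth.Statements.S2487
import Groth.Agent.H05EGA4.FlatLiftFS

set_option autoImplicit false
universe u
open EGA41

namespace Groth.Agent.S2487

open IsLocalRing TensorProduct in
/-- Let A be a Noetherian local ring, J an ideal contained in the maximal ideal, A₀ = A/J, and B₀ a
complete Noetherian local ring with a local homomorphism A₀ → B₀ making B₀ formally smooth over A₀
(adic topologies). Then (existence) there are a complete Noetherian local ring B, a local
homomorphism A → B making B a flat A-module, and an A₀-algebra isomorphism u : A₀ ⊗_A B ≅ B₀;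
(uniqueness) if (B', u') is another such pair, there is an A-algebra isomorphism v : B ≅ B' with u'
∘ (1 ⊗ v) = u. -/
theorem result {A : Type u} [CommRing A] [IsLocalRing A] [IsNoetherianRing A]
    (J : Ideal A) (hJ : J ≤ maximalIdeal A) [IsLocalRing (A ⧸ J)]
    (B₀ : Type u) [CommRing B₀] [IsLocalRing B₀] [IsNoetherianRing B₀] [IsAdicComplete (maximalIdeal B₀) B₀]
    [Algebra (A ⧸ J) B₀] [IsLocalHom (algebraMap (A ⧸ J) B₀)]
    (hfs : EGA41.IsFormallySmoothAdic (A ⧸ J) (maximalIdeal (A ⧸ J)) B₀ (maximalIdeal B₀)) :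
    (∃ (B : Type u) (_ : CommRing B) (_ : IsLocalRing B) (_ : IsNoetherianRing B) (_ : Algebra A B) (_ : IsLocalHom (algebraMap A B)),
      IsAdicComplete (maximalIdeal B) B ∧ Module.Flat A B ∧ Nonempty ((A ⧸ J) ⊗[A] B ≃ₐ[A ⧸ J] B₀)) ∧
    ∀ (B B' : Type u) [CommRing B] [IsLocalRing B] [IsNoetherianRing B] [Algebra A B] [IsLocalHom (algebraMap A B)]
      [CommRing B'] [IsLocalRing B'] [IsNoetherianRing B'] [Algebra A B'] [IsLocalHom (algebraMap A B')],
      IsAdicComplete (maximalIdeal B) B → Module.Flat A B → IsAdicComplete (maximalIdeal B') B' → Module.Flat A B' →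
      ∀ (u : (A ⧸ J) ⊗[A] B ≃ₐ[A ⧸ J] B₀) (u' : (A ⧸ J) ⊗[A] B' ≃ₐ[A ⧸ J] B₀),
      ∃ v : B ≃ₐ[A] B', (u' : (A ⧸ J) ⊗[A] B' →ₐ[A ⧸ J] B₀).comp
          (Algebra.TensorProduct.map (AlgHom.id (A ⧸ J) (A ⧸ J)) (v : B →ₐ[A] B')) = (u : (A ⧸ J) ⊗[A] B →ₐ[A ⧸ J] B₀) := by
  exact Groth.Agent.H05EGA4.FlatLiftFS.main J hJ B₀ hfs

end Groth.Agent.S2487
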