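import Groth.Statements.S2555
import Groth.Agent.H06EGA12.Scheme

set_option autoImplicit false
open CategoryTheory AlgebraicGeometry
universe u
open EGA43

namespace Groth.Agent.S2555

/-- Let f : X ⟶ Y be proper, flat and locally of finite presentation and k ≥ 1. The set of points y of Y
such that every local ring of the fibre X_y satisfies Serre's condition (S_k) is open in Y. -/
theorem result {X Y : Scheme.{u}} (f : X ⟶ Y) [IsProper f]
    [Flat f] [LocallyOfFinitePresentation f] (k : ℕ) (hk : 1 ≤ k) :
    IsOpen {y : Y | ∀ x : ↥(f.fiber y), LocCoh.HasSk k ((f.fiber y).presheaf.stalk x) ((f.fiber y).presheaf.stalk x)} := by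
  convert H06EGA12.isOpen_setOf_forall_onFibre f (Coh.structureModule X) H06EGA9.isFP_structureModule
    (fun x => (H06EGA9.isFlatOverAt_structureModule_iff f x).2 (Flat.stalkMap f x))
    (H06EGA12.semilinearInvariant_hasSk k) (H06EGA12.affineOpen_hasSk k) using 1
  ext y
  exact forall_congr' fun z => (H06EGA12.onFibre_structureModule_iff f
    (H06EGA12.semilinearInvariant_hasSk k) z).symm

end Groth.Agent.S2555
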