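import Groth.Statements.S2557
import Groth.Agent.H06EGA14.FiniteBaseChange
import Groth.Agent.H06EGA14.FibreGeneralization
import Groth.Agent.H06EGA14.MaximalPoint

set_option autoImplicit false
open CategoryTheory AlgebraicGeometry
universe u
open EGA43

namespace Groth.Agent.S2557

open Groth.Agent

open CategoryTheory.Limits in
/-- Let Y be a Noetherian scheme and f : X ⟶ Y locally of finite type. Then f is universally open if and
only if, for every finite morphism Y₁ ⟶ Y, the base change X ×_Y Y₁ ⟶ Y₁ is an open map. -/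
theorem result {X Y : Scheme.{u}} [IsNoetherian Y] (f : X ⟶ Y)
    [LocallyOfFiniteType f] :
    UniversallyOpen f ↔
      ∀ (Y₁ : Scheme.{u}) (g : Y₁ ⟶ Y) [IsFinite g], IsOpenMap (pullback.snd f g).base := by
  refine ⟨fun h Y₁ g _ => ?_, fun h => ?_⟩
  · haveI : UniversallyOpen (CategoryTheory.Limits.pullback.snd f g) := MorphismProperty.pullback_snd f g h
    exact (CategoryTheory.Limits.pullback.snd f g).isOpenMap
  · refine H06EGA14.universallyOpen_of_isUnivOpenAt f fun x => ?_
    obtain ⟨ξ, hξx, hfξ, hξmax, -⟩ := H06EGA14.exists_maximal_generization f x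
    refine H06EGA14.isUnivOpenAt_of_specializes f ξ x hξx hfξ
      (H06EGA14.isUnivOpenAt_of_open_finite f ξ (fun x' he hc => hξmax x' he (specializes_iff_mem_closure.mpr hc))
        fun Y₁ g _ x' _ => H06EGA14.isOpenAt_of_isOpenMap (h Y₁ g) x')

end Groth.Agent.S2557
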