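import Groth.Statements.S2558
import Groth.Agent.H06Equidim.AffineSpace
import Groth.Agent.H7Lim.OpenMapAffineSpace

set_option autoImplicit false
open CategoryTheory AlgebraicGeometry
universe u
open EGA43

namespace Groth.Agent.S2558

open TopologicalSpace Topology CategoryTheory.Limits
set_option linter.style.haveILetI false

open CategoryTheory.Limits in
/-- Let f : X ⟶ Y be locally of finite presentation. Suppose that for every irreducible scheme Y' and
every morphism of finite type g : Y' ⟶ Y, each irreducible component of X ×_Y Y' has dense image in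
Y'. Then f is universally open. -/
theorem result {X Y : Scheme.{u}} (f : X ⟶ Y) [LocallyOfFinitePresentation f]
    (h : ∀ (Y' : Scheme.{u}) (g : Y' ⟶ Y) [IrreducibleSpace Y'] [LocallyOfFiniteType g] [QuasiCompact g],
      ∀ Z ∈ irreducibleComponents (↥(pullback f g) : Type u), Dense ((pullback.snd f g).base '' Z)) :
    UniversallyOpen f := by
  refine H7Lim.universallyOpen_of_affineSpace f fun n _ => ?_
  let A := 𝔸(ULift.{u} (Fin n); Y)
  let t : A ⟶ Y := A ↘ Y
  refine AlgebraicGeometry.isOpenMap_of_generalizingMap _ ?_
  intro x' a ha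
  let C : Closeds A := ⟨closure {a}, isClosed_closure⟩
  let J := Scheme.IdealSheafData.vanishingIdeal C
  let i := J.subschemeι
  have hr : Set.range i = closure {a} :=
    (Scheme.IdealSheafData.range_subschemeι J).trans (Scheme.IdealSheafData.coe_support_vanishingIdeal C)
  haveI : IrreducibleSpace J.subscheme := by
    haveI : IrreducibleSpace (Set.range i) := by
      rw [hr]; exact Subtype.irreducibleSpace isIrreducible_singleton.closure
    exact i.isEmbedding.toHomeomorph.irreducibleSpace_iff.mpr inferInstance
  obtain ⟨za, hza⟩ : a ∈ Set.range i := hr ▸ subset_closure rfl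
  obtain ⟨zy, hzy⟩ : pullback.snd f t x' ∈ Set.range i := hr ▸ ha.mem_closure
  let Φ : pullback f (i ≫ t) ⟶ pullback f t :=
    pullback.lift (pullback.fst f (i ≫ t)) (pullback.snd f (i ≫ t) ≫ i)
      (by rw [Category.assoc]; exact pullback.condition)
  have hpb : IsPullback Φ (pullback.snd f (i ≫ t)) (pullback.snd f t) i :=
    (IsPullback.of_right (by rw [pullback.lift_fst]; exact IsPullback.of_hasPullback f (i ≫ t))
      (pullback.lift_snd _ _ _) (IsPullback.of_hasPullback f t))
  obtain ⟨p, hp, hpz⟩ := Scheme.exists_preimage_of_isPullback hpb x' zy hzy.symm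
  haveI : LocallyOfFiniteType (i ≫ t) := inferInstance
  haveI : QuasiCompact (i ≫ t) := inferInstance
  obtain ⟨η, hη, hT⟩ := H8Props.FieldDim.exists_component_generization p
  have hd := h J.subscheme (i ≫ t) _ hT
  refine ⟨Φ η, hp ▸ hη.map Φ.continuous, ?_⟩
  have hgen : pullback.snd f (i ≫ t) η = za := by
    have h1 : closure ({pullback.snd f (i ≫ t) η} : Set J.subscheme) = Set.univ :=
      (H06Equidim.closure_image_closure_singleton _ η).symm.trans hd.closure_eq
    have h2 : i (pullback.snd f (i ≫ t) η) ⤳ a := by
      rw [← hza]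
      exact (specializes_iff_mem_closure.mpr (h1 ▸ Set.mem_univ za)).map i.continuous
    have h3 : a ⤳ i (pullback.snd f (i ≫ t) η) :=
      specializes_iff_mem_closure.mpr (hr ▸ Set.mem_range_self _)
    exact i.isEmbedding.injective ((h2.antisymm h3).eq.trans hza.symm)
  rw [← Scheme.Hom.comp_apply, hpb.w, Scheme.Hom.comp_apply, hgen, hza]

end Groth.Agent.S2558
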