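import Groth.Statements.S2568
import Groth.Agent.H06EGA14.Chevalley4

set_option autoImplicit false
open CategoryTheory AlgebraicGeometry
universe u
open EGA43

namespace Groth.Agent.S2568

set_option linter.style.haveILetI false
set_option backward.isDefEq.respectTransparency false

/-- Chevalley's criterion in the case of irreducible source and base: let X and Y be irreducible
schemes, all local rings of Y geometrically unibranch, and f : X ⟶ Y a dominant morphism locally of
finite type such that for every point x the local dimension at x of the fibre through x equals the
dimension of the generic fibre (the fibre over the image of the generic point of X). Then f is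
universally open. -/
theorem result {X Y : Scheme.{u}} [IrreducibleSpace X] [IrreducibleSpace Y]
    (hY : ∀ y : Y, CAlg2.IsGeomUnibranch (Y.presheaf.stalk y)) (f : X ⟶ Y) [LocallyOfFiniteType f] [IsDominant f]
    (h : ∀ x : X, FlatMor.fibreDimAt f x = topologicalKrullDim ↥(f.fiber (f.base (genericPoint X)))) :
    UniversallyOpen f := by
  have hξ : f (genericPoint X) = genericPoint Y := by
    have h1 := (genericPoint_spec X).image f.continuous
    rw [Set.image_univ, f.denseRange.closure_range] at h1
    exact h1.eq (genericPoint_spec Y)
  refine H06EGA14.universallyOpen_of_irreducible hY f (fun w hw => ?_) fun x => ?_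
  · rw [hξ] at hw ⊢
    exact (hw.antisymm (genericPoint_specializes w)).eq
  · rw [h x, H06Equidim.cdim_asFiber_eq_fibreDimAt f _
      (fun ζ hζ => (hζ.antisymm (genericPoint_specializes ζ)).eq), h]

end Groth.Agent.S2568
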