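import Groth.Statements.S2572
import Groth.Agent.H06EGA14.DedekindOpen

set_option autoImplicit false
open CategoryTheory AlgebraicGeometry
universe u
open EGA43

namespace Groth.Agent.S2572

open Groth.Agent Groth.Agent.H06EGA14

/-- Let Y be an irreducible locally Noetherian scheme whose local rings are regular of dimension at most
one, f : X ⟶ Y locally of finite type, and y a point of Y. If every irreducible component of X
meeting the fibre over y has dense image in Y, then there is an open subset U of X containing that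
fibre such that the restriction of f to U is universally open. -/
theorem result {X Y : Scheme.{u}} [IsLocallyNoetherian Y]
    [IrreducibleSpace Y]
    (hY : ∀ y : Y, IsRegularLocalRing (Y.presheaf.stalk y) ∧ ringKrullDim (Y.presheaf.stalk y) ≤ 1)
    (f : X ⟶ Y) [LocallyOfFiniteType f] (y : Y)
    (h : ∀ Z ∈ irreducibleComponents (X : Type u), (Z ∩ f.base ⁻¹' {y}).Nonempty → Dense (f.base '' Z)) :
    ∃ U : X.Opens, f.base ⁻¹' {y} ⊆ (U : Set X) ∧ UniversallyOpen (U.ι ≫ f) := by
  haveI : IsLocallyNoetherian X := LocallyOfFiniteType.isLocallyNoetherian f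
  let B : Set ↥(irreducibleComponents ↥X) := {Z | ¬ Dense (f.base '' (Z : Set X))}
  have hB : IsClosed (⋃ Z : B, ((Z.1 : Set X))) :=
    ((H17.NagataNorm.locallyFinite_irreducibleComponents X).comp_injective Subtype.val_injective).isClosed_iUnion
      fun Z => isClosed_of_mem_irreducibleComponents _ Z.1.2
  let U : X.Opens := ⟨_, hB.isOpen_compl⟩
  refine ⟨U, fun x hx hxB => ?_, ?_⟩
  · obtain ⟨Z, hxZ⟩ := Set.mem_iUnion.mp hxB
    exact Z.2 (h _ Z.1.2 ⟨x, hxZ, hx⟩)
  · haveI : LocallyOfFiniteType (U.ι ≫ f) := inferInstance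
    refine universallyOpen_of_isUnivOpenAt _ fun z => isUnivOpenAt_of_dominant_components hY (U.ι ≫ f) z ?_
    intro η hη hmax
    have hmaxX : ∀ w, w ⤳ U.ι η → w = U.ι η := fun w hw => by
      rw [← hmax ⟨w, hw.mem_open U.2 η.2⟩ (U.ι.isEmbedding.isInducing.specializes_iff.mp hw)]; rfl
    have hT := H06Equidim.closure_singleton_mem_irreducibleComponents _ hmaxX
    have hd : Dense (f.base '' closure {U.ι η}) := by
      by_contra hn
      exact η.2 (Set.mem_iUnion.mpr ⟨⟨⟨_, hT⟩, hn⟩, subset_closure rfl⟩)
    have h2 : f (U.ι η) ⤳ genericPoint Y := specializes_iff_mem_closure.mpr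
      (H06Equidim.closure_image_closure_singleton f (U.ι η) ▸ hd (genericPoint Y))
    exact (h2.antisymm (genericPoint_specializes _)).eq

end Groth.Agent.S2572
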