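import Groth.Statements.S2574
import Groth.Agent.H06Flat.IdealSep

set_option autoImplicit false
open TensorProduct
universe u
open EGA43

namespace Groth.Agent.S2574

/-- Let A be a Noetherian ring, J a nilpotent ideal of A and M an A-module. Then M is flat over A if and
only if (A/J) ⊗_A M is flat over A/J and, for every associated prime p of A, the localization M_p is
flat over A_p. -/
theorem result {A : Type u} [CommRing A] [IsNoetherianRing A]
    (J : Ideal A) (hJ : IsNilpotent J) (M : Type u) [AddCommGroup M] [Module A M] :
    Module.Flat A M ↔
      Module.Flat (A ⧸ J) ((A ⧸ J) ⊗[A] M) ∧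
        ∀ p : associatedPrimes A A,
          haveI : p.1.IsPrime := IsAssociatedPrime.isPrime p.2
          Module.Flat (Localization.AtPrime p.1) (LocalizedModule p.1.primeCompl M) := by
  classical
  haveI hp : ∀ p : ↥(associatedPrimes A A), p.1.IsPrime := fun p => IsAssociatedPrime.isPrime p.2
  constructor
  · intro h
    exact ⟨inferInstance, fun p => Module.Flat.of_linearEquiv
      (LocalizedModule.equivTensorProduct p.1.primeCompl M)⟩
  · rintro ⟨hJM, hloc⟩
    haveI := hJM
    haveI : Finite ↥(associatedPrimes A A) := associatedPrimes.finite A A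
    refine H06Flat.flat_of_jointly_injective J hJ
      (fun p : ↥(associatedPrimes A A) => Localization.AtPrime p.1) (fun a ha => ?_) M fun p => ?_
    · by_contra h0
      obtain ⟨p, hp, hle⟩ := exists_le_isAssociatedPrime_of_isNoetherianRing A a h0
      haveI := IsAssociatedPrime.isPrime hp
      obtain ⟨⟨c, hc⟩, hca⟩ := (IsLocalization.map_eq_zero_iff p.primeCompl
        (Localization.AtPrime p) a).mp (ha ⟨p, hp⟩)
      exact hc (hle (Submodule.mem_colon_singleton.mpr (Ideal.mem_bot.mpr hca)))
    · haveI := hloc p
      exact Module.Flat.of_linearEquiv (LocalizedModule.equivTensorProduct p.1.primeCompl M).symm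

end Groth.Agent.S2574
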