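import Groth.Statements.S2584
import Groth.Agent.H06EGA9.FibreSmooth

set_option autoImplicit false
set_option linter.style.haveILetI false
open CategoryTheory AlgebraicGeometry
universe u
open EGA43

namespace Groth.Agent.S2584

open CategoryTheory.Limits Topology Set Groth.Agent.H06EGA9

open CategoryTheory.Limits in
/-- Let g : Y ⟶ S and f : X ⟶ Y be such that X and Y are of finite presentation over S (locally of
finite presentation, quasi-compact and quasi-separated). For each point s of S let f_s be the
induced morphism from the fibre of f ≫ g over s to the fibre of g over s. Then the set of s for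
which f_s is an open immersion is locally constructible in S. -/
theorem result {X Y S : Scheme.{u}} (f : X ⟶ Y) (g : Y ⟶ S)
    [LocallyOfFinitePresentation g] [QuasiCompact g] [QuasiSeparated g]
    [LocallyOfFinitePresentation (f ≫ g)] [QuasiCompact (f ≫ g)] [QuasiSeparated (f ≫ g)] :
    Topology.IsLocallyConstructible {s : S |
      IsOpenImmersion (pullback.lift (pullback.fst (f ≫ g) (S.fromSpecResidueField s) ≫ f) (pullback.snd (f ≫ g) (S.fromSpecResidueField s))
          ((Category.assoc _ _ _).trans pullback.condition) :
        pullback (f ≫ g) (S.fromSpecResidueField s) ⟶ pullback g (S.fromSpecResidueField s))} := by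
  haveI : LocallyOfFinitePresentation f := H7Lim.locallyOfFinitePresentation_of_comp f g
  haveI : QuasiCompact f := QuasiCompact.of_comp f g
  haveI : QuasiSeparated f := QuasiSeparated.of_comp f g
  haveI : LocallyOfFinitePresentation (pullback.diagonal f) := Groth.Agent.S4599.result f
  have hE : IsLocallyConstructible {s : S | (f ≫ g) ⁻¹' {s} ⊆ fibSmoothSet f g ∩ unramSet f} :=
    isLocallyConstructible_setOf_fibre_subset (f ≫ g)
      ((isLocallyConstructible_fibSmoothSet f g).inter (isLocallyConstructible_unramSet f))
  have hU : IsLocallyConstructible {s : S |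
      (pullback.fst f f ≫ f ≫ g) ⁻¹' {s} ⊆ range (pullback.diagonal f)} := by
    refine isLocallyConstructible_setOf_fibre_subset (pullback.fst f f ≫ f ≫ g) ?_
    rw [← Set.image_univ]
    exact (pullback.diagonal f).isLocallyConstructible_image .univ
  have het : ∀ s : S, Etale (fibMap f g s) ↔ (f ≫ g) ⁻¹' {s} ⊆ fibSmoothSet f g ∩ unramSet f :=
    fun s => etale_fibre_iff (IsPullback.of_hasPullback g (S.fromSpecResidueField s)) (isPullback_fibMap f g s)
  simp only [isOpenImmersion_iff_etale_and_universallyInjective, het, universallyInjective_fibMap_iff, Set.setOf_and]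
  exact hE.inter hU

end Groth.Agent.S2584
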