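import Groth.Statements.S2586
import Groth.Agent.H06EGA11b.ModuleSlice
import Groth.Agent.H7Flat.NilFibreFlat

set_option autoImplicit false
open TensorProduct
universe u
open EGA43

namespace Groth.Agent.S2586

/-- Let A ⟶ B be a ring map with B finitely presented over A, M a finitely presented B-module, q a prime
of B with contraction p, and g₁, …, gₙ elements of q. Suppose the localization M_q is flat over A
and the gᵢ form a regular sequence on the localization at q of the fibre module M ⊗_A κ(p). Then the
gᵢ form a regular sequence on M_q, and for every i the localization at q of M/(g₁, …, gᵢ)M is flat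
over A. -/
theorem result {A B : Type u} [CommRing A] [CommRing B] [Algebra A B]
    [Algebra.FinitePresentation A B] (M : Type u) [AddCommGroup M] [Module B M] [Module A M] [IsScalarTower A B M]
    [Module.FinitePresentation B M] (q : Ideal B) [q.IsPrime] (g : List B) (hg : ∀ b ∈ g, b ∈ q)
    (hflat : Module.Flat A (LocalizedModule q.primeCompl M))
    (hreg : RingTheory.Sequence.IsRegular
      (LocalizedModule q.primeCompl (M ⊗[A] (q.comap (algebraMap A B)).ResidueField)) g) :
    RingTheory.Sequence.IsRegular (LocalizedModule q.primeCompl M) g ∧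
      ∀ i ≤ g.length, Module.Flat A
        (LocalizedModule q.primeCompl (M ⧸ (Ideal.span {b | b ∈ g.take i} • (⊤ : Submodule B M)))) := by
  classical
  let p := q.comap (algebraMap A B)
  let Rp := Localization.AtPrime p
  let Sq := Localization.AtPrime q
  letI : Algebra Rp Sq := (Localization.localRingHom p q (algebraMap A B) rfl).toAlgebra
  haveI : IsScalarTower A Rp Sq := IsScalarTower.of_algebraMap_eq fun a => by
    rw [RingHom.algebraMap_toAlgebra, Localization.localRingHom_to_map,
      ← IsScalarTower.algebraMap_apply A B Sq]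
  haveI : IsLocalHom (algebraMap Rp Sq) := Localization.isLocalHom_localRingHom _ _ _ rfl
  have hEFP : CAlgX.IsEssFinitePresentation Rp Sq := H7Flat.NilFibreFlat.isEssFP_atPrime q p rfl
  let M' := LocalizedModule q.primeCompl M
  letI : Module Rp M' := Module.compHom M' (algebraMap Rp Sq)
  haveI : IsScalarTower Rp Sq M' := IsScalarTower.of_compHom Rp Sq M'
  haveI : IsScalarTower A B M' := ⟨fun a b x => by
    induction x using LocalizedModule.induction_on with
    | h m s => rw [LocalizedModule.smul'_mk, LocalizedModule.smul'_mk, LocalizedModule.smul'_mk, smul_assoc]⟩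
  haveI hAS : IsScalarTower A Sq M' := ⟨fun a s x => by
    rw [← algebraMap_smul B a s, smul_assoc, algebraMap_smul]⟩
  haveI : IsScalarTower A Rp M' := ⟨fun a s x => by
    change algebraMap Rp Sq (a • s) • x = a • (algebraMap Rp Sq s • x)
    rw [Algebra.smul_def a s, map_mul, ← IsScalarTower.algebraMap_apply, mul_smul, algebraMap_smul]⟩
  haveI : Module.Flat Rp M' := (Module.flat_iff_of_isLocalization Rp p.primeCompl M').mpr hflat
  haveI : Module.FinitePresentation Sq M' := inferInstance
  let J : Submodule Sq M' := (IsLocalRing.maximalIdeal Rp).map (algebraMap Rp Sq) • ⊤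
  let Q := M' ⧸ J
  let κ := p.ResidueField
  have hJmem : ∀ (t : Rp) (x : M'), t ∈ IsLocalRing.maximalIdeal Rp →
      algebraMap Rp Sq t • x ∈ J := fun t x ht =>
    Submodule.smul_mem_smul (Ideal.mem_map_of_mem _ ht) trivial
  letI : Module (Rp ⧸ IsLocalRing.maximalIdeal Rp) Q := Module.IsTorsionBySet.module
    (R := Rp) (M := Q) (I := IsLocalRing.maximalIdeal Rp) (by
      intro z t
      obtain ⟨x, rfl⟩ := Submodule.Quotient.mk_surjective _ z
      change Submodule.Quotient.mk (algebraMap Rp Sq t • x) = 0
      exact (Submodule.Quotient.mk_eq_zero _).mpr (hJmem t x t.2))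
  have hκ : ∀ (t : Rp) (z : Q), (Ideal.Quotient.mk _ t : Rp ⧸ IsLocalRing.maximalIdeal Rp) • z = t • z :=
    fun t z => rfl
  let L : M →ₗ[B] κ →ₗ[A] Q :=
    { toFun := fun m =>
        { toFun := fun c => (show Rp ⧸ IsLocalRing.maximalIdeal Rp from c) •
            (Submodule.Quotient.mk (LocalizedModule.mk m 1) : Q)
          map_add' := fun c d => add_smul _ _ _
          map_smul' := fun a c => by
            obtain ⟨t, rfl⟩ := Ideal.Quotient.mk_surjective (show Rp ⧸ IsLocalRing.maximalIdeal Rp from c)
            change (Ideal.Quotient.mk _ (a • t) : Rp ⧸ IsLocalRing.maximalIdeal Rp) • _ = _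
            rw [hκ, smul_assoc]
            rfl }
      map_add' := fun m n => LinearMap.ext fun c => by
        exact (congrArg (fun z : M' => (show Rp ⧸ IsLocalRing.maximalIdeal Rp from c) • (Submodule.Quotient.mk z : Q))
          (map_add (LocalizedModule.mkLinearMap q.primeCompl M) m n)).trans
            (smul_add (show Rp ⧸ IsLocalRing.maximalIdeal Rp from c)
              (Submodule.Quotient.mk (LocalizedModule.mk m 1) : Q) (Submodule.Quotient.mk (LocalizedModule.mk n 1) : Q))
      map_smul' := fun b m => LinearMap.ext fun c => by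
        obtain ⟨t, rfl⟩ := Ideal.Quotient.mk_surjective (show Rp ⧸ IsLocalRing.maximalIdeal Rp from c)
        change t • (Submodule.Quotient.mk (LocalizedModule.mk (b • m) 1) : Q) =
          b • (t • (Submodule.Quotient.mk (LocalizedModule.mk m 1) : Q))
        rw [← LocalizedModule.smul'_mk, Submodule.Quotient.mk_smul]
        simpa only [algebraMap_smul] using smul_comm (algebraMap Rp Sq t) (algebraMap B Sq b)
          (Submodule.Quotient.mk (LocalizedModule.mk m 1) : Q) }
  let l : M ⊗[A] κ →ₗ[B] Q := TensorProduct.AlgebraTensorModule.lift L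
  let θ : LocalizedModule q.primeCompl (M ⊗[A] κ) →ₗ[B] Q :=
    LocalizedModule.lift q.primeCompl l fun s => by
      refine (Module.End.isUnit_iff _).mpr ?_
      change Function.Bijective fun z : Q => (s : B) • z
      simp only [← algebraMap_smul Sq (s : B)]
      exact (IsLocalization.map_units Sq s).smul_bijective
  let inc : M →ₗ[B] M ⊗[A] κ := (TensorProduct.AlgebraTensorModule.mk A B M κ).flip 1
  let ψ : M' →ₗ[B] LocalizedModule q.primeCompl (M ⊗[A] κ) :=
    LocalizedModule.lift q.primeCompl (LocalizedModule.mkLinearMap q.primeCompl (M ⊗[A] κ) ∘ₗ inc)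
      fun s => IsLocalizedModule.map_units (LocalizedModule.mkLinearMap q.primeCompl (M ⊗[A] κ)) s
  have hψ : ∀ (m : M) (s : q.primeCompl), (s : B) • ψ (LocalizedModule.mk m s) =
      LocalizedModule.mk (m ⊗ₜ[A] (1 : κ)) 1 := fun m s => by
    rw [← map_smul ψ, LocalizedModule.smul'_mk]
    have : LocalizedModule.mk ((s : B) • m) s = LocalizedModule.mk m 1 :=
      LocalizedModule.mk_eq.mpr ⟨1, by simp [Submonoid.smul_def]⟩
    rw [this]
    change (ψ ∘ₗ LocalizedModule.mkLinearMap q.primeCompl M) m = _
    rw [LocalizedModule.lift_comp]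
    rfl
  have hθψ : ∀ x, θ (ψ x) = Submodule.Quotient.mk x := by
    intro x
    induction x using LocalizedModule.induction_on with
    | h m s =>
      have h1 : (s : B) • θ (ψ (LocalizedModule.mk m s)) =
          (s : B) • (Submodule.Quotient.mk (LocalizedModule.mk m s) : Q) := by
        rw [← map_smul, hψ, ← Submodule.Quotient.mk_smul, LocalizedModule.smul'_mk]
        rw [show LocalizedModule.mk ((s : B) • m) s = LocalizedModule.mk m 1 from
          LocalizedModule.mk_eq.mpr ⟨1, by simp [Submonoid.smul_def]⟩]
        change (θ ∘ₗ LocalizedModule.mkLinearMap q.primeCompl (M ⊗[A] κ)) (m ⊗ₜ[A] (1 : κ)) = _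
        rw [LocalizedModule.lift_comp]
        change (1 : Rp ⧸ IsLocalRing.maximalIdeal Rp) • (Submodule.Quotient.mk (LocalizedModule.mk m 1) : Q) = _
        exact one_smul _ _
      rw [← algebraMap_smul Sq (s : B), ← algebraMap_smul Sq (s : B)] at h1
      exact (IsLocalization.map_units Sq s).smul_bijective.1 h1
  have hψs : Function.Surjective ψ := by
    intro z
    induction z using LocalizedModule.induction_on with
    | h w s =>
      have hw : LocalizedModule.mk w 1 ∈ LinearMap.range ψ := by
        induction w with
        | zero => rw [LocalizedModule.zero_mk]; exact zero_mem _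
        | add u v hu hv =>
          rw [← LocalizedModule.mkLinearMap_apply, map_add]
          exact add_mem hu hv
        | tmul m c =>
          obtain ⟨t, rfl⟩ := Ideal.Quotient.mk_surjective (show Rp ⧸ IsLocalRing.maximalIdeal Rp from c)
          obtain ⟨⟨a, v⟩, hav⟩ := IsLocalization.surj p.primeCompl t
          have hv : algebraMap A B v ∈ q.primeCompl := v.2
          refine ⟨LocalizedModule.mk (algebraMap A B a • m) ⟨_, hv⟩, ?_⟩
          apply ((Module.End.isUnit_iff _).mp (IsLocalizedModule.map_units
            (LocalizedModule.mkLinearMap q.primeCompl (M ⊗[A] κ)) ⟨_, hv⟩)).1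
          simp only [Module.algebraMap_end_apply]
          rw [LocalizedModule.smul'_mk]
          refine (hψ _ ⟨_, hv⟩).trans ?_
          congr 1
          rw [algebraMap_smul, TensorProduct.smul_tmul, algebraMap_smul]
          refine Eq.trans (congrArg (m ⊗ₜ[A] ·) ?_) (TensorProduct.tmul_smul (v : A) m _)
          change a • (1 : κ) = (v : A) • (Ideal.Quotient.mk _ t : κ)
          rw [Algebra.smul_def, Algebra.smul_def, mul_one]
          change Ideal.Quotient.mk (IsLocalRing.maximalIdeal Rp) (algebraMap A Rp a) =
            Ideal.Quotient.mk (IsLocalRing.maximalIdeal Rp) (algebraMap A Rp v) * Ideal.Quotient.mk _ t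
          rw [← map_mul, ← hav, mul_comm]
      obtain ⟨x, hx⟩ := hw
      obtain ⟨u, hu⟩ := (IsLocalization.map_units Sq s).exists_left_inv
      refine ⟨u • x, ?_⟩
      apply ((Module.End.isUnit_iff _).mp (IsLocalizedModule.map_units
        (LocalizedModule.mkLinearMap q.primeCompl (M ⊗[A] κ)) s)).1
      change (s : B) • ψ (u • x) = (s : B) • _
      rw [← map_smul, ← algebraMap_smul Sq (s : B), smul_smul, mul_comm, hu, one_smul, hx,
        Module.End.one_apply, LocalizedModule.smul'_mk]
      exact LocalizedModule.mk_eq.mpr ⟨1, by simp [Submonoid.smul_def]⟩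
  have hψ0 : ∀ x ∈ J, ψ x = 0 := by
    have hJ0 : J.restrictScalars Rp = IsLocalRing.maximalIdeal Rp • ⊤ := by
      rw [Submodule.restrictScalars_map_smul_eq, Submodule.restrictScalars_top]
    intro x hx
    rw [← Submodule.restrictScalars_mem Rp, hJ0] at hx
    induction hx using Submodule.smul_induction_on' with
    | add y _ y' _ h h' => rw [map_add, h, h', add_zero]
    | smul t ht y _ =>
      induction y using LocalizedModule.induction_on with
      | h m s =>
        obtain ⟨⟨a, v⟩, hav⟩ := IsLocalization.surj p.primeCompl t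
        have hv : algebraMap A B v ∈ q.primeCompl := v.2
        apply ((Module.End.isUnit_iff _).mp (IsLocalizedModule.map_units
          (LocalizedModule.mkLinearMap q.primeCompl (M ⊗[A] κ)) ⟨_, hv⟩)).1
        apply ((Module.End.isUnit_iff _).mp (IsLocalizedModule.map_units
          (LocalizedModule.mkLinearMap q.primeCompl (M ⊗[A] κ)) s)).1
        change (s : B) • (algebraMap A B v • ψ _) = (s : B) • (algebraMap A B v • 0)
        rw [smul_zero, smul_zero, ← map_smul, algebraMap_smul, ← algebraMap_smul Rp (v : A), smul_smul,
          mul_comm, hav, algebraMap_smul, ← algebraMap_smul B a, map_smul, smul_comm,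
          hψ, LocalizedModule.smul'_mk]
        have ha : (algebraMap A κ a) = 0 := by
          rw [IsScalarTower.algebraMap_apply A Rp κ, ← hav, map_mul]
          rw [show algebraMap Rp κ t = 0 from Ideal.Quotient.eq_zero_iff_mem.mpr ht, zero_mul]
        rw [algebraMap_smul, TensorProduct.smul_tmul', TensorProduct.smul_tmul, Algebra.smul_def, ha,
          zero_mul, TensorProduct.tmul_zero, LocalizedModule.zero_mk]
  have hθ : Function.Bijective θ := by
    refine ⟨(injective_iff_map_eq_zero θ).mpr fun z hz => ?_, fun z => ?_⟩
    · obtain ⟨x, rfl⟩ := hψs z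
      rw [hθψ, Submodule.Quotient.mk_eq_zero] at hz
      exact hψ0 x hz
    · obtain ⟨x, rfl⟩ := Submodule.Quotient.mk_surjective _ z
      exact ⟨ψ x, hθψ x⟩
  let eθ := LinearEquiv.ofBijective θ hθ
  have hregQ : RingTheory.Sequence.IsWeaklyRegular Q g := (eθ.isWeaklyRegular_congr g).mp hreg.1
  have hmain := H06EGA11b.ModuleSlice.isWeaklyRegular_and_flat hEFP (g.map (algebraMap B Sq))
    (fun f hf => by
      obtain ⟨b, hb, rfl⟩ := List.mem_map.mp hf
      exact (IsLocalization.AtPrime.to_map_mem_maximal_iff Sq q b).mpr (hg b hb)) M'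
    ((RingTheory.Sequence.isWeaklyRegular_map_algebraMap_iff Sq Q g).mpr hregQ)
  refine ⟨⟨(RingTheory.Sequence.isWeaklyRegular_map_algebraMap_iff Sq M' g).mp hmain.1, ?_⟩, fun i hi => ?_⟩
  · have hne : Nontrivial M' := by
      have : Nontrivial (LocalizedModule q.primeCompl (M ⊗[A] κ)) := by
        by_contra hh
        rw [not_nontrivial_iff_subsingleton] at hh
        exact hreg.top_ne_smul (Subsingleton.elim _ _)
      exact hψs.nontrivial
    intro hbad
    have hle : (⊤ : Submodule Sq M') ≤ (Ideal.ofList g).map (algebraMap B Sq) • ⊤ := by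
      intro x _
      rw [← Submodule.restrictScalars_mem B, Submodule.restrictScalars_map_smul_eq,
        Submodule.restrictScalars_top, ← hbad]
      trivial
    have hjac : (Ideal.ofList g).map (algebraMap B Sq) ≤ Ideal.jacobson (⊥ : Ideal Sq) := by
      refine le_trans ?_ (IsLocalRing.maximalIdeal_le_jacobson _)
      rw [← Localization.AtPrime.map_eq_maximalIdeal]
      exact Ideal.map_mono (Ideal.span_le.mpr hg)
    haveI : Module.Finite Sq M' := inferInstance
    have htop := Submodule.eq_bot_of_le_smul_of_le_jacobson_bot _ (⊤ : Submodule Sq M') Module.Finite.fg_top hle hjac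
    exact bot_ne_top htop.symm
  · have := hmain.2 i (by simpa using hi)
    rw [← List.map_take, ← Ideal.map_ofList] at this
    haveI : Module.Flat A (M' ⧸ ((Ideal.ofList (g.take i)).map (algebraMap B Sq) • ⊤ : Submodule Sq M')) :=
      Module.Flat.trans A Rp _
    let N : Submodule B M := Ideal.span {b | b ∈ g.take i} • ⊤
    let f := LocalizedModule.mkLinearMap q.primeCompl M
    have heq : N.localized' Sq q.primeCompl f =
        ((Ideal.ofList (g.take i)).map (algebraMap B Sq) • ⊤ : Submodule Sq M') := by
      rw [Submodule.localized'_smul, Submodule.localized'_top, Ideal.localized'_eq_map]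
    haveI : Module.Flat A (M' ⧸ N.localized' Sq q.primeCompl f) := by rw [heq]; infer_instance
    haveI : IsLocalizedModule q.primeCompl (N.toLocalizedQuotient' Sq q.primeCompl f) := inferInstance
    exact Module.Flat.of_linearEquiv
      ((IsLocalizedModule.iso q.primeCompl (N.toLocalizedQuotient' Sq q.primeCompl f)).restrictScalars A)

end Groth.Agent.S2586
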