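import Groth.Statements.S2595
import Groth.Agent.S4961
import Groth.Agent.H06Equidim.Basic
import Groth.Agent.H8Props.FlatFibreConst

set_option autoImplicit false
open CategoryTheory AlgebraicGeometry
universe u
open EGA43

namespace Groth.Agent.S2595

open TopologicalSpace Topology
set_option linter.style.haveILetI false

/-- Let Y be locally Noetherian, f : X ⟶ Y locally of finite type and x a point of X. If O_{Y,f x} ⟶
O_{X,x} is flat and the local ring at x of the fibre through x is Cohen–Macaulay, then f is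
equidimensional at x. -/
theorem result {X Y : Scheme.{u}} [IsLocallyNoetherian Y] (f : X ⟶ Y)
    [LocallyOfFiniteType f] (x : X) (hflat : (f.stalkMap x).hom.Flat)
    (hCM : LocCoh.IsCohenMacaulayLocalRing ((f.fiber (f.base x)).presheaf.stalk (f.asFiber x))) :
    EGA43.IsEquidimAt f x := by
  haveI : LocallyOfFinitePresentation f := LocallyOfFinitePresentation.iff_locallyOfFiniteType.mpr ‹_›
  haveI : IsLocallyNoetherian X := LocallyOfFiniteType.isLocallyNoetherian f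
  let U₁ : X.Opens := ⟨_, S4961.result f⟩
  let x₁ : U₁.toScheme := ⟨x, hflat, hCM⟩
  haveI : Flat (U₁.ι ≫ f) := by
    rw [Flat.iff_flat_stalkMap]
    intro z
    rw [Scheme.Hom.stalkMap_comp]
    exact (RingHom.Flat.respectsIso.cancel_right_isIso _ (U₁.ι.stalkMap z)).mpr z.2.1
  have hcm₁ : LocCoh.IsCohenMacaulayLocalRing
      (((U₁.ι ≫ f).fiber ((U₁.ι ≫ f) x₁)).presheaf.stalk ((U₁.ι ≫ f).asFiber x₁)) :=
    (H8Props.FieldDim.fibre_CM_chart f (U₁.ι ≫ f) U₁.ι (𝟙 Y) (Category.comp_id _) x₁).mpr hCM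
  obtain ⟨O, hO, hOopen, hxO⟩ := eventually_nhds_iff.mp
    (H8Props.FieldDim.eventually_fibreDimAt_eq (U₁.ι ≫ f) x₁ hcm₁)
  obtain ⟨U, hxU, hUle, hgen⟩ := H06Equidim.exists_nhd_components_mem x (U₁.ι ''ᵁ ⟨O, hOopen⟩)
    ⟨x₁, hxO, rfl⟩
  haveI := H8Props.FieldDim.locallyOfFiniteType_fiberToSpec f (f x)
  obtain ⟨e, he⟩ := H8Props.FieldDim.exists_nat_localDim (k := Y.residueField (f x))
    (f.fiberToSpecResidueField (f x)) (f.asFiber x)
  replace he : FlatMor.fibreDimAt f x = e := he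
  have hdim : ∀ z : U.toScheme, FlatMor.fibreDimAt (U.ι ≫ f) z = e := fun z => by
    obtain ⟨z₁, hz₁, hz₁eq⟩ := hUle z.2
    have h1 := hO z₁ hz₁
    rw [H06Equidim.fibreDimAt_opens_ι f U₁ z₁, H06Equidim.fibreDimAt_opens_ι f U₁ x₁,
      show U₁.ι z₁ = U.ι z from hz₁eq, show U₁.ι x₁ = x from rfl, he] at h1
    rw [H06Equidim.fibreDimAt_opens_ι f U z, h1]
  haveI : Flat (U.ι ≫ f) := by
    rw [Flat.iff_flat_stalkMap]
    intro z
    rw [Scheme.Hom.stalkMap_comp]
    obtain ⟨z₁, -, hz₁eq⟩ := hUle z.2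
    exact (RingHom.Flat.respectsIso.cancel_right_isIso _ (U.ι.stalkMap z)).mpr
      (show (f.stalkMap (U.ι z)).hom.Flat from
        (show U₁.ι z₁ = U.ι z from hz₁eq) ▸ z₁.2.1)
  refine ⟨e, U, hxU, fun Z hZ => ?_, fun x' Z hZ =>
    H06Equidim.dim_component_fibre_of_fibreDimAt (U.ι ≫ f) e hdim _ Z hZ⟩
  obtain ⟨η, rfl, hη⟩ := H8Props.FieldDim.mem_irreducibleComponents_iff (Z := (↑U : Scheme.{u})) hZ
  have hηX : ∀ ζ, ζ ⤳ U.ι η → ζ = U.ι η := fun ζ hζ => by
    have hζU : ζ ∈ U := hζ.mem_open U.2 η.2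
    rw [← hη ⟨ζ, hζU⟩ (U.ι.isEmbedding.isInducing.specializes_iff.mp hζ)]
    rfl
  have hmaxY : ∀ w, w ⤳ (U.ι ≫ f) η → w = (U.ι ≫ f) η := fun w hw => by
    obtain ⟨ζ, hζ, hζw⟩ := Flat.generalizingMap (U.ι ≫ f) hw
    rw [← hζw, hη ζ hζ]
  obtain ⟨w, hw, hW⟩ := H8Props.FieldDim.exists_component_generization ((U.ι ≫ f) η)
  obtain rfl := hmaxY w hw
  refine ⟨closure {(U.ι ≫ f) η}, hW, ?_, subset_antisymm ?_ ?_⟩
  · exact specializes_iff_mem_closure.mp ((hgen _ η.2 hηX).map f.continuous)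
  · refine closure_minimal ?_ isClosed_closure
    refine (image_closure_subset_closure_image (U.ι ≫ f).continuous).trans ?_
    rw [Set.image_singleton]
  · exact closure_mono (Set.singleton_subset_iff.mpr ⟨η, subset_closure rfl, rfl⟩)

end Groth.Agent.S2595
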