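import Groth.Statements.S5223
import Mathlib
import Groth.Agent.H06Mod.StalkBaseChange

set_option autoImplicit false
set_option backward.isDefEq.respectTransparency false
set_option linter.style.haveILetI false
open CategoryTheory CategoryTheory.Limits AlgebraicGeometry
universe u
open GrpQ

namespace Groth.Agent.S5223

open TensorProduct

theorem flat_of_flat_faithfullyFlat (R A C : Type u) [CommRing R] [CommRing A] [CommRing C] [Algebra R A]
    [Algebra A C] [Algebra R C] [IsScalarTower R A C] [Module.FaithfullyFlat A C] [Module.Flat R C] :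
    Module.Flat R A := by
  rw [Module.Flat.iff_lTensor_injective']
  intro I
  let φ : A ⊗[R] I →ₗ[A] A ⊗[R] R := AlgebraTensorModule.lTensor A A I.subtype
  change Function.Injective φ
  rw [← Module.FaithfullyFlat.lTensor_injective_iff_injective A C φ]
  let e (M : Type u) [AddCommGroup M] [Module R M] := AlgebraTensorModule.cancelBaseChange R A C C M
  have key : ∀ z, e R (φ.lTensor C z) = LinearMap.lTensor C I.subtype (e I z) := by
    intro z
    induction z with
    | zero => simp
    | add a b ha hb => simp only [map_add, ha, hb]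
    | tmul c am =>
      induction am with
      | zero => simp
      | add a b ha hb => simp only [tmul_add, map_add, ha, hb]
      | tmul a m => simp [e, φ]
  intro a b hab
  exact (e I).injective (Module.Flat.lTensor_preserves_injective_linearMap I.subtype
    Subtype.val_injective (by rw [← key, ← key, hab]))

theorem flat_stalkMap_baseChange {X Y Y' : Scheme.{u}} (f : X ⟶ Y) (g : Y' ⟶ Y) (x' : ↑(pullback f g))
    (h : (f.stalkMap ((pullback.fst f g).base x')).hom.Flat) :
    ((pullback.snd f g).stalkMap x').hom.Flat := by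
  let x := (pullback.fst f g).base x'
  let y' := (pullback.snd f g).base x'
  have hy : g.base y' = f.base x := by
    show g.base ((pullback.snd f g).base x') = f.base ((pullback.fst f g).base x')
    rw [← Scheme.Hom.comp_apply, ← Scheme.Hom.comp_apply, pullback.condition]
  let β : Y.presheaf.stalk (f.base x) ⟶ Y'.presheaf.stalk y' :=
    Y.presheaf.stalkSpecializes (specializes_of_eq hy) ≫ g.stalkMap y'
  letI : Algebra (Y.presheaf.stalk (f.base x)) (Y'.presheaf.stalk y') := β.hom.toAlgebra
  letI : Algebra (Y.presheaf.stalk (f.base x)) (X.presheaf.stalk x) := (f.stalkMap x).hom.toAlgebra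
  letI : Algebra (X.presheaf.stalk x) ((pullback f g).presheaf.stalk x') :=
    ((pullback.fst f g).stalkMap x').hom.toAlgebra
  letI : Algebra (Y'.presheaf.stalk y') ((pullback f g).presheaf.stalk x') :=
    ((pullback.snd f g).stalkMap x').hom.toAlgebra
  letI : Algebra (Y.presheaf.stalk (f.base x)) ((pullback f g).presheaf.stalk x') :=
    (f.stalkMap x ≫ (pullback.fst f g).stalkMap x').hom.toAlgebra
  haveI : IsScalarTower (Y.presheaf.stalk (f.base x)) (X.presheaf.stalk x)
      ((pullback f g).presheaf.stalk x') := .of_algebraMap_eq fun _ => rfl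
  have hb : Spec.map β ≫ Y.fromSpecStalk (f.base x) = Y'.fromSpecStalk y' ≫ g := by
    rw [Spec.map_comp, Category.assoc, Scheme.SpecMap_stalkSpecializes_fromSpecStalk,
      Scheme.SpecMap_stalkMap_fromSpecStalk]
  have ha : Spec.map (f.stalkMap x) ≫ Y.fromSpecStalk (f.base x) = X.fromSpecStalk x ≫ f :=
    Scheme.SpecMap_stalkMap_fromSpecStalk f
  clear_value β
  have hcomm : β ≫ (pullback.snd f g).stalkMap x' = f.stalkMap x ≫ (pullback.fst f g).stalkMap x' := by
    apply Spec.map_injective
    rw [← cancel_mono (Y.fromSpecStalk (f.base x)), Spec.map_comp, Spec.map_comp, Category.assoc,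
      Category.assoc, hb, ha, ← Category.assoc, ← Category.assoc,
      Scheme.SpecMap_stalkMap_fromSpecStalk, Scheme.SpecMap_stalkMap_fromSpecStalk, Category.assoc,
      Category.assoc, pullback.condition]
  haveI : IsScalarTower (Y.presheaf.stalk (f.base x)) (Y'.presheaf.stalk y')
      ((pullback f g).presheaf.stalk x') :=
    .of_algebraMap_eq fun r => congr($(congrArg CommRingCat.Hom.hom hcomm) r).symm
  have hflat := H06Mod.flat_tensorLift (Y.presheaf.stalk (f.base x)) (X.presheaf.stalk x)
    (Y'.presheaf.stalk y') ((pullback f g).presheaf.stalk x') f g (X.fromSpecStalk x)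
    (Y.fromSpecStalk (f.base x)) (Y'.fromSpecStalk y') ha hb ((pullback f g).fromSpecStalk x')
    (Scheme.SpecMap_stalkMap_fromSpecStalk _) (Scheme.SpecMap_stalkMap_fromSpecStalk _)
  haveI : Module.Flat (Y.presheaf.stalk (f.base x)) (X.presheaf.stalk x) := h
  haveI := H06Mod.flat_baseChange_of_tensorLift (Y.presheaf.stalk (f.base x)) (X.presheaf.stalk x)
    (Y'.presheaf.stalk y') ((pullback f g).presheaf.stalk x') (X.presheaf.stalk x) hflat
  show Module.Flat (Y'.presheaf.stalk y') ((pullback f g).presheaf.stalk x')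
  let e := TensorProduct.rid (X.presheaf.stalk x) ((pullback f g).presheaf.stalk x')
  let e' : ((pullback f g).presheaf.stalk x' ⊗[X.presheaf.stalk x] X.presheaf.stalk x)
      ≃ₗ[Y'.presheaf.stalk y'] (pullback f g).presheaf.stalk x' :=
    { e.toAddEquiv with
      map_smul' := fun r t => by
        show e (r • t) = r • e t
        induction t with
        | zero => simp
        | add a b ha hb => simp [smul_add, ha, hb]
        | tmul c a =>
          rw [smul_tmul', TensorProduct.rid_tmul, TensorProduct.rid_tmul]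
          exact smul_comm a r c }
  exact Module.Flat.of_linearEquiv e'.symm

theorem flat_congr {X Y : Scheme.{u}} {f g : X ⟶ Y} (e : f = g) {x y : X} (e' : x = y)
    (h : (f.stalkMap x).hom.Flat) : (g.stalkMap y).hom.Flat := by
  subst e e'; exact h


/-- In a cartesian square of schemes `F₂ = F₁ ×_{X₀} X₁` whose bottom map `u : X₁ ⟶ X₀` is flat, the
base-changed map `d' : F₂ ⟶ X₁` is flat at a point `x` if and only if `d : F₁ ⟶ X₀` is flat at the
image of `x` in `F₁`. -/
theorem result {F₂ F₁ X₁ X₀ : Scheme.{u}}
    {v : F₂ ⟶ F₁} {d' : F₂ ⟶ X₁} {d : F₁ ⟶ X₀} {u : X₁ ⟶ X₀}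
    (h : IsPullback v d' d u) [Flat u] (x : F₂) :
    (d'.stalkMap x).hom.Flat ↔ (d.stalkMap (v.base x)).hom.Flat := by
  have hv : Flat v := MorphismProperty.of_isPullback h.flip ‹Flat u›
  refine ⟨fun hd' => ?_, fun hd => ?_⟩
  · have hc : ((d' ≫ u).stalkMap x).hom.Flat := by
      rw [Scheme.Hom.stalkMap_comp, CommRingCat.hom_comp]
      exact (Flat.stalkMap u (d' x)).comp hd'
    have hc' := flat_congr h.w.symm rfl hc
    rw [Scheme.Hom.stalkMap_comp, CommRingCat.hom_comp] at hc'
    letI : Algebra (X₀.presheaf.stalk (d (v x))) (F₁.presheaf.stalk (v x)) := (d.stalkMap (v x)).hom.toAlgebra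
    letI : Algebra (F₁.presheaf.stalk (v x)) (F₂.presheaf.stalk x) := (v.stalkMap x).hom.toAlgebra
    letI : Algebra (X₀.presheaf.stalk (d (v x))) (F₂.presheaf.stalk x) :=
      ((v.stalkMap x).hom.comp (d.stalkMap (v x)).hom).toAlgebra
    haveI : IsScalarTower (X₀.presheaf.stalk (d (v x))) (F₁.presheaf.stalk (v x)) (F₂.presheaf.stalk x) :=
      .of_algebraMap_eq fun _ => rfl
    haveI : Module.Flat (F₁.presheaf.stalk (v x)) (F₂.presheaf.stalk x) := Flat.stalkMap v x
    haveI : IsLocalHom (algebraMap (F₁.presheaf.stalk (v x)) (F₂.presheaf.stalk x)) :=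
      inferInstanceAs (IsLocalHom (v.stalkMap x).hom)
    haveI := Module.FaithfullyFlat.of_flat_of_isLocalHom (A := F₁.presheaf.stalk (v x)) (B := F₂.presheaf.stalk x)
    haveI : Module.Flat (X₀.presheaf.stalk (d (v x))) (F₂.presheaf.stalk x) := hc'
    show Module.Flat (X₀.presheaf.stalk (d (v x))) (F₁.presheaf.stalk (v x))
    exact flat_of_flat_faithfullyFlat _ _ (F₂.presheaf.stalk x)
  · have hx : (pullback.fst d u).base (h.isoPullback.hom x) = v x := by
      rw [← Scheme.Hom.comp_apply, h.isoPullback_hom_fst]
    have h1 := flat_stalkMap_baseChange d u (h.isoPullback.hom x) (flat_congr rfl hx.symm hd)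
    refine flat_congr h.isoPullback_hom_snd rfl ?_
    rw [Scheme.Hom.stalkMap_comp, CommRingCat.hom_comp]
    exact h1.comp (RingHom.Flat.of_bijective
      (ConcreteCategory.bijective_of_isIso (h.isoPullback.hom.stalkMap x)))

end Groth.Agent.S5223
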