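import Groth.Statements.S6827
import Groth.Agent.H9Smooth.Lift
-- import your own Groth.Agent.* helpers here

set_option autoImplicit false
universe u
open Smoothing

namespace Groth.Agent.S6827

/-- Let R → R₀ be a surjective ring map with kernel I (so R₀ = R/I) and A₀ a smooth R₀-algebra. Then
there is a smooth R-algebra A with A/IA isomorphic to A₀ as an R/I-algebra. -/
theorem result {R A₀ : Type u} [CommRing R] (I : Ideal R) [CommRing A₀]
    [Algebra (R ⧸ I) A₀] [Algebra.Smooth (R ⧸ I) A₀] :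
    ∃ (A : Type u) (_ : CommRing A) (_ : Algebra R A), Algebra.Smooth R A ∧
      Nonempty ((A ⧸ I.map (algebraMap R A)) ≃ₐ[R ⧸ I] A₀) := by
  let _ : Algebra R A₀ := ((algebraMap (R ⧸ I) A₀).comp (Ideal.Quotient.mk I)).toAlgebra
  haveI : IsScalarTower R (R ⧸ I) A₀ := IsScalarTower.of_algebraMap_eq fun _ => rfl
  obtain ⟨A, _, _, _, ρ, hρs, hρk⟩ := H9Smooth.exists_smooth_lift I (A₀ := A₀)
  have hI : ∀ x ∈ I.map (algebraMap R A), ρ x = 0 := by
    suffices I.map (algebraMap R A) ≤ RingHom.ker ρ.toRingHom from fun x hx => this hx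
    exact Ideal.map_le_iff_le_comap.mpr fun r hr => by
      show ρ (algebraMap R A r) = 0
      rw [ρ.commutes]
      show algebraMap (R ⧸ I) A₀ (Ideal.Quotient.mk I r) = 0
      rw [Ideal.Quotient.eq_zero_iff_mem.mpr hr, map_zero]
  let q : (A ⧸ I.map (algebraMap R A)) →ₐ[R] A₀ := Ideal.Quotient.liftₐ _ ρ hI
  have hq : Function.Bijective q := ⟨(injective_iff_map_eq_zero _).mpr fun x hx => by
      obtain ⟨x, rfl⟩ := Ideal.Quotient.mk_surjective x
      exact Ideal.Quotient.eq_zero_iff_mem.mpr (hρk x hx),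
    fun b => by obtain ⟨x, rfl⟩ := hρs b; exact ⟨Ideal.Quotient.mk _ x, rfl⟩⟩
  refine ⟨A, inferInstance, inferInstance, inferInstance, ⟨AlgEquiv.ofRingEquiv (f := RingEquiv.ofBijective q hq) fun r => ?_⟩⟩
  obtain ⟨r, rfl⟩ := Ideal.Quotient.mk_surjective r
  exact q.commutes r

end Groth.Agent.S6827
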