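import Groth.Statements.S2903
import Groth.Agent.S14773
-- import your own Groth.Agent.* helpers here

set_option autoImplicit false
open CategoryTheory CategoryTheory.Limits AlgebraicGeometry Opposite
universe u
open SGA1

namespace Groth.Agent.S2903

/-- Let g : S' ⟶ S be proper, surjective and locally of finite presentation. Then every descent datum
relative to g whose underlying scheme is a finite etale cover of S' is isomorphic to the canonical
descent datum of a finite etale cover of S. (Descent data relative to g are taken in
functor-of-points form.) -/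
theorem result {S' S : Scheme.{u}} (g : S' ⟶ S) [IsProper g] [Surjective g]
    [LocallyOfFinitePresentation g] (D : Desc.SchDD g) [IsFinite D.obj.hom] [Etale D.obj.hom] :
    ∃ U : Over S, IsFinite U.hom ∧ Etale U.hom ∧ Nonempty ((Desc.toDD g).obj U ≅ D) := by
  obtain ⟨U, hqc, hsep, het, ⟨e⟩⟩ := Groth.Agent.S14773.result g D
  have he : e.hom.hom.left ≫ D.obj.hom = pullback.fst g U.hom := Over.w e.hom.hom
  haveI : IsIso e.hom.hom.left :=
    ⟨e.inv.hom.left, by rw [← Over.comp_left, ← Desc.SchDD.comp_hom, e.hom_inv_id]; rfl,
      by rw [← Over.comp_left, ← Desc.SchDD.comp_hom, e.inv_hom_id]; rfl⟩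
  haveI : IsFinite (pullback.fst g U.hom) := he ▸ (@MorphismProperty.cancel_left_of_respectsIso _ _ @IsFinite _ _ _ _ e.hom.hom.left D.obj.hom ‹IsIso e.hom.hom.left›).2 ‹IsFinite D.obj.hom›
  haveI : UniversallyClosed (pullback.snd g U.hom ≫ U.hom) := by rw [← pullback.condition]; infer_instance
  haveI : UniversallyClosed U.hom := UniversallyClosed.of_comp_surjective (pullback.snd g U.hom) U.hom
  haveI : IsProper U.hom := { }
  exact ⟨U, IsFinite.of_isProper_of_locallyQuasiFinite U.hom, het, ⟨e⟩⟩

end Groth.Agent.S2903
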