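import Groth.Statements.S2911
import Groth.Agent.H18Quot.EtaleQuot
import Groth.Agent.H12AlgSp.SourceDescent

set_option autoImplicit false
open CategoryTheory CategoryTheory.Limits AlgebraicGeometry
universe u
open SGA1

namespace Groth.Agent.S2911

/-- With the existence of the quotient taken as a hypothesis: Let Y be locally Noetherian, f : X ⟶ Y
etale, separated and quasi-compact, G a finite group acting on X by Y-automorphisms, p : X ⟶ X' a
quotient of X by G and q : X' ⟶ Y the induced morphism. Then p and q are etale, and if f is finite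
then q is finite. -/
theorem result {X X' Y : Scheme.{u}} {G : Type u} [Group G] [Finite G] (ρ : G →* Aut X)
    [IsLocallyNoetherian Y] (f : X ⟶ Y) [Etale f] [IsSeparated f] [QuasiCompact f] (hρ : ∀ g : G, (ρ g).hom ≫ f = f)
    (p : X ⟶ X') (hp : SGA1.IsQuot ρ p) (q : X' ⟶ Y) (hq : p ≫ q = f) :
    Etale p ∧ Etale q ∧ (IsFinite f → IsFinite q) := by
  subst hq
  haveI := hp.affine
  haveI : Surjective p := ⟨Groth.Agent.H27Quot.surjective hp⟩
  haveI : LocallyOfFiniteType p := locallyOfFiniteType_of_comp p q
  haveI : FormallyUnramified p := FormallyUnramified.of_comp p q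
  haveI : Etale p := H18Quot.etale_of_unramified hp
  haveI : Etale q := Groth.Agent.H12AlgSp.EtaleSource.etale' p q
  refine ⟨inferInstance, inferInstance, fun hfin => ?_⟩
  haveI := hfin
  haveI : IsAffineHom q := ⟨fun V hV => Groth.Agent.H27Quot.isAffineOpen_of_preimage hp (hV.preimage (p ≫ q))⟩
  haveI : IsIntegralHom q := ⟨fun V hV a => by
    obtain ⟨P, hP, hev⟩ := IsIntegralHom.isIntegral_app (p ≫ q) V hV ((p.app (q ⁻¹ᵁ V)).hom a)
    refine ⟨P, hP, hp.injective (q ⁻¹ᵁ V) ?_⟩
    rw [Polynomial.hom_eval₂, map_zero]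
    exact hev⟩
  exact (IsFinite.iff_isIntegralHom_and_locallyOfFiniteType q).mpr ⟨inferInstance, inferInstance⟩

end Groth.Agent.S2911
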