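import Groth.Statements.S2913
import Mathlib.AlgebraicGeometry.Restrict
import Mathlib.AlgebraicGeometry.AffineScheme

set_option autoImplicit false
open CategoryTheory CategoryTheory.Limits AlgebraicGeometry Opposite
universe u
open SGA1

namespace Groth.Agent.S2913

/-- Let g : S' ⟶ S be a surjective morphism of schemes such that for every open U of S the map O_S(U) →
O_{S'}(g⁻¹U) is injective. Then g is an epimorphism in the category of schemes. -/
theorem result {S' S : Scheme.{u}} (g : S' ⟶ S) [Surjective g]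
    (hinj : ∀ U : S.Opens, Function.Injective (g.app U).hom) : Epi g := by
  refine ⟨fun {Z} u v h => ?_⟩
  have hb : ∀ s : S, u.base s = v.base s := fun s => by
    obtain ⟨s', rfl⟩ := g.surjective s
    exact congrArg (fun k : S' ⟶ Z => k.base s') h
  have hcov : ∀ s : S, ∃ W : Z.affineOpens, u.base s ∈ (W : Z.Opens) := fun s => by
    obtain ⟨_, ⟨W, hW, rfl⟩, hs, -⟩ :=
      Z.isBasis_affineOpens.exists_subset_of_mem_open (Set.mem_univ (u.base s)) isOpen_univ
    exact ⟨⟨W, hW⟩, hs⟩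
  choose W hW using hcov
  refine Scheme.Cover.hom_ext (S.openCoverOfIsOpenCover (fun s => u ⁻¹ᵁ (W s : Z.Opens))
    (TopologicalSpace.IsOpenCover.mk (top_le_iff.1 fun s _ => TopologicalSpace.Opens.mem_iSup.2 ⟨s, hW s⟩))) _ _ ?_
  intro s
  have e : u ⁻¹ᵁ (W s : Z.Opens) ≤ v ⁻¹ᵁ (W s : Z.Opens) := fun x hx => by
    show v.base x ∈ (W s : Z.Opens)
    rw [← hb x]
    exact hx
  have key : u.resLE (W s : Z.Opens) (u ⁻¹ᵁ (W s : Z.Opens)) le_rfl =
      v.resLE (W s : Z.Opens) (u ⁻¹ᵁ (W s : Z.Opens)) e := by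
    haveI : IsAffine ((W s : Z.Opens) : Scheme.{u}) := (W s).2
    refine ext_of_isAffine ?_
    simp only [Scheme.Hom.appTop, Scheme.Hom.resLE_app_top]
    refine congrArg (fun t => (W s : Z.Opens).topIso.hom ≫ t ≫ (u ⁻¹ᵁ (W s : Z.Opens)).topIso.inv) ?_
    refine ConcreteCategory.hom_ext _ _ fun a => ?_
    apply hinj (u ⁻¹ᵁ (W s : Z.Opens))
    have h1 := Scheme.Hom.congr_app h
    calc (g.app (u ⁻¹ᵁ (W s : Z.Opens))).hom ((u.appLE (W s : Z.Opens) _ le_rfl).hom a)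
        = ((g ≫ u).appLE (W s : Z.Opens) (g ⁻¹ᵁ u ⁻¹ᵁ (W s : Z.Opens)) le_rfl).hom a := by
          rw [← Scheme.Hom.appLE_eq_app, ← Scheme.Hom.appLE_comp_appLE]
          rfl
      _ = ((g ≫ v).appLE (W s : Z.Opens) (g ⁻¹ᵁ u ⁻¹ᵁ (W s : Z.Opens)) (fun x hx => e hx)).hom a := by
          simp only [h]
      _ = _ := by
          rw [← Scheme.Hom.appLE_eq_app, ← Scheme.Hom.appLE_comp_appLE]
          rfl
  change (u ⁻¹ᵁ (W s : Z.Opens)).ι ≫ u = (u ⁻¹ᵁ (W s : Z.Opens)).ι ≫ v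
  rw [← Scheme.Hom.resLE_comp_ι u le_rfl, ← Scheme.Hom.resLE_comp_ι v e, key]

end Groth.Agent.S2913
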