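import Groth.Statements.S2914
import Groth.Agent.H18Quot.EffEpi

set_option autoImplicit false
open CategoryTheory CategoryTheory.Limits AlgebraicGeometry Opposite
universe u
open SGA1

namespace Groth.Agent.S2914

/-- Let g : S' ⟶ S be a morphism of schemes whose underlying map is a quotient map, and such that for
every open U of S the sequence O_S(U) → O_{S'}(g⁻¹U) ⇉ O_{S''}(h⁻¹U) is an equalizer, where S'' = S'
×_S S' with structure map h and the two arrows are restriction along the projections. Then g is an
effective epimorphism in the category of schemes. -/
theorem result {S' S : Scheme.{u}} (g : S' ⟶ S) (hq : Topology.IsQuotientMap g.base)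
    (hinj : ∀ U : S.Opens, Function.Injective (g.app U).hom)
    (heq : ∀ (U : S.Opens) (s' : Γ(S', g ⁻¹ᵁ U)), (SGA1.overlapFstApp g U).hom s' = (SGA1.overlapSndApp g U).hom s' →
      s' ∈ Set.range (g.app U).hom) :
    EffectiveEpi g := by
  exact H18Quot.EffEpi.effectiveEpi hq hinj heq

end Groth.Agent.S2914
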