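import Groth.Statements.S2916
import Groth.Agent.H9Et.GeomConnDescentHom
-- import your own Groth.Agent.* helpers here

set_option autoImplicit false
set_option linter.style.haveILetI false
set_option backward.isDefEq.respectTransparency.types false
open CategoryTheory CategoryTheory.Limits AlgebraicGeometry Opposite
universe u
open SGA1

namespace Groth.Agent.S2916

/-- Let g : S' ⟶ S be universally submersive with geometrically connected fibres (the base change of S'
to any algebraically closed field valued point of S is connected). Then S' is connected whenever S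
is, and for schemes X, Y etale over S every S'-morphism between their base changes comes from
exactly one S-morphism X ⟶ Y. -/
theorem result {S' S : Scheme.{u}} (g : S' ⟶ S)
    (hg : SGA1.UnivSubmersive g)
    (hconn : ∀ (K : Type u) [Field K] [IsAlgClosed K] (ξ : Spec (CommRingCat.of K) ⟶ S), ConnectedSpace ↑(pullback g ξ)) :
    (ConnectedSpace S → ConnectedSpace S') ∧
    ∀ (X Y : Over S) [Etale X.hom] [Etale Y.hom], Function.Bijective ((Over.pullback g).map : (X ⟶ Y) → _) := by
  haveI := Groth.Agent.H9Et.geometricallyConnected_of_algClosed g hconn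
  have hq : Topology.IsQuotientMap g.base :=
    (hg (𝟙 _) (𝟙 _) g (IsPullback.of_vert_isIso ⟨by simp⟩) : Topology.IsQuotientMap _)
  haveI : Surjective g := ⟨hq.surjective⟩
  refine ⟨fun hS => ?_, fun X Y _ _ => ⟨fun a b h => ?_, fun f => ?_⟩⟩
  · haveI := hS
    exact connectedSpace_iff_univ.2 (by
      simpa using Topology.IsCoinducing.isConnected_preimage_of_isClosed g.isConnected_preimage_singleton
        hq.isCoinducing isClosed_univ isConnected_univ)
  · refine Over.OverMorphism.ext (Groth.Agent.H9Et.eq_of_surjective Y.hom (pullback.fst X.hom g) _ _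
      ((Over.w a).trans (Over.w b).symm) ?_)
    have := congrArg (fun k : (Over.pullback g).obj X ⟶ (Over.pullback g).obj Y => k.left ≫ pullback.fst Y.hom g) h
    simpa [Over.pullback, pullback.lift_fst] using this
  · have hfw : f.left ≫ pullback.snd Y.hom g = pullback.snd X.hom g := Over.w f
    have ht : (f.left ≫ pullback.fst Y.hom g) ≫ Y.hom = pullback.fst X.hom g ≫ X.hom := by
      rw [Category.assoc, pullback.condition, pullback.condition, ← hfw, Category.assoc]
    obtain ⟨u, ⟨hu1, hu2⟩, -⟩ := Groth.Agent.H9Et.existsUnique_hom g hg X.hom Y.hom _ ht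
      (Groth.Agent.H9Et.cocycle_of_geomConn g hconn X.hom Y.hom _ ht)
    refine ⟨Over.homMk u hu1, Over.OverMorphism.ext ?_⟩
    refine pullback.hom_ext ?_ ?_
    · exact (pullback.lift_fst _ _ _).trans hu2
    · exact (pullback.lift_snd _ _ _).trans hfw.symm

end Groth.Agent.S2916
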