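import Groth.Statements.S2917
import Mathlib
-- import your own Groth.Agent.* helpers here

set_option autoImplicit false
open CategoryTheory CategoryTheory.Limits AlgebraicGeometry Opposite
universe u
open SGA1

namespace Groth.Agent.S2917

/-- Universal topological quotient maps. -/
abbrev UQ : MorphismProperty Scheme.{u} :=
  MorphismProperty.universally (AlgebraicGeometry.topologically fun f => Topology.IsQuotientMap f)

theorem isQuotientMap_of_uq {A B : Scheme.{u}} {φ : A ⟶ B} (h : UQ φ) : Topology.IsQuotientMap φ.base :=
  h (𝟙 _) (𝟙 _) φ (IsPullback.of_vert_isIso ⟨by simp⟩)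

theorem preimage_image {A X Y Z : Scheme.{u}} {a : A ⟶ X} {b : A ⟶ Y} {c : X ⟶ Z} {d : Y ⟶ Z}
    (h : IsPullback a b c d) (U : Set Y) : c.base ⁻¹' (d.base '' U) = a.base '' (b.base ⁻¹' U) := by
  ext x
  refine ⟨fun ⟨y, hy, e⟩ => ?_, fun ⟨z, hz, e⟩ => ⟨b.base z, hz, ?_⟩⟩
  · obtain ⟨w, hw1, hw2⟩ := Scheme.Pullback.exists_preimage_pullback (f := c) (g := d) x y e.symm
    refine ⟨h.isoPullback.inv.base w, ?_, ?_⟩
    · show b.base (h.isoPullback.inv.base w) ∈ U
      rw [← Scheme.Hom.comp_apply, h.isoPullback_inv_snd, hw2]
      exact hy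
    · rw [← Scheme.Hom.comp_apply, h.isoPullback_inv_fst, hw1]
  · subst e
    rw [← Scheme.Hom.comp_apply, ← Scheme.Hom.comp_apply, h.w]

theorem isOpenMap_descends {A X Y Z : Scheme.{u}} {a : A ⟶ X} {b : A ⟶ Y} {c : X ⟶ Z} {d : Y ⟶ Z}
    (h : IsPullback a b c d) (hc : UQ c) (ha : IsOpenMap a.base) : IsOpenMap d.base := fun U hU => by
  rw [← (isQuotientMap_of_uq hc).isOpen_preimage, preimage_image h]
  exact ha _ (hU.preimage b.continuous)

theorem isClosedMap_descends {A X Y Z : Scheme.{u}} {a : A ⟶ X} {b : A ⟶ Y} {c : X ⟶ Z} {d : Y ⟶ Z}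
    (h : IsPullback a b c d) (hc : UQ c) (ha : IsClosedMap a.base) : IsClosedMap d.base := fun U hU => by
  rw [← (isQuotientMap_of_uq hc).isClosed_preimage, preimage_image h]
  exact ha _ (hU.preimage b.continuous)

theorem universally_descends (P : MorphismProperty Scheme.{u}) [P.RespectsIso]
    (H : ∀ {A X Y Z : Scheme.{u}} {a : A ⟶ X} {b : A ⟶ Y} {c : X ⟶ Z} {d : Y ⟶ Z},
      IsPullback a b c d → UQ c → P a → P d) : P.universally.DescendsAlong UQ where
  of_isPullback {A X Y Z a b c d} h hc ha := by
    refine MorphismProperty.universally_mk' P d fun {T} t _ => ?_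
    let Q := pullback t c
    have sq : IsPullback (pullback.fst (pullback.fst t c) (pullback.fst t d)) (pullback.snd (pullback.fst t c) (pullback.fst t d))
        (pullback.fst t c) (pullback.fst t d) := IsPullback.of_hasPullback _ _
    refine H sq (MorphismProperty.of_isPullback (IsPullback.of_hasPullback t c).flip hc) ?_
    have w : (pullback.fst (pullback.fst t c) (pullback.fst t d) ≫ pullback.snd t c) ≫ c =
        (pullback.snd (pullback.fst t c) (pullback.fst t d) ≫ pullback.snd t d) ≫ d := by
      rw [Category.assoc, ← pullback.condition, ← Category.assoc, pullback.condition, Category.assoc,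
        pullback.condition, Category.assoc]
    refine ha (h.lift _ _ w) (pullback.snd t c) _ ?_
    refine IsPullback.of_bot ?_ (h.lift_fst _ _ w).symm h
    rw [h.lift_snd, ← pullback.condition (f := t) (g := c)]
    exact sq.paste_vert (IsPullback.of_hasPullback t d).flip.flip

theorem respectsIso_topologically_isClosedMap :
    (AlgebraicGeometry.topologically @IsClosedMap).RespectsIso := inferInstance


/-- Let g : S' ⟶ S be universally submersive, f : X ⟶ Y a morphism of S-schemes (Y ⟶ S the structure
map) and f' its base change along S' ⟶ S, realised as X ×_S S' ⟶ Y ×_S S'. If f' is open (resp.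
closed) then so is f; if f' is universally open (resp. universally closed, resp. separated) then so
is f; and if moreover g is quasi-compact and f locally of finite type, then f is proper as soon as
f' is. -/
theorem result {S' S X Y : Scheme.{u}} (g : S' ⟶ S) (hg : SGA1.UnivSubmersive g)
    (f : X ⟶ Y) (q : Y ⟶ S) :
    (IsOpenMap (pullback.map (f ≫ q) g q g f (𝟙 S') (𝟙 S) (Category.comp_id _) ((Category.comp_id _).trans (Category.id_comp _).symm)).base → IsOpenMap f.base) ∧
    (IsClosedMap (pullback.map (f ≫ q) g q g f (𝟙 S') (𝟙 S) (Category.comp_id _) ((Category.comp_id _).trans (Category.id_comp _).symm)).base → IsClosedMap f.base) ∧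
    (UniversallyOpen (pullback.map (f ≫ q) g q g f (𝟙 S') (𝟙 S) (Category.comp_id _) ((Category.comp_id _).trans (Category.id_comp _).symm)) → UniversallyOpen f) ∧
    (UniversallyClosed (pullback.map (f ≫ q) g q g f (𝟙 S') (𝟙 S) (Category.comp_id _) ((Category.comp_id _).trans (Category.id_comp _).symm)) → UniversallyClosed f) ∧
    (IsSeparated (pullback.map (f ≫ q) g q g f (𝟙 S') (𝟙 S) (Category.comp_id _) ((Category.comp_id _).trans (Category.id_comp _).symm)) → IsSeparated f) ∧
    (QuasiCompact g → LocallyOfFiniteType f →
      IsProper (pullback.map (f ≫ q) g q g f (𝟙 S') (𝟙 S) (Category.comp_id _) ((Category.comp_id _).trans (Category.id_comp _).symm)) → IsProper f) := by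
  let f' := pullback.map (f ≫ q) g q g f (𝟙 S') (𝟙 S) (Category.comp_id _) ((Category.comp_id _).trans (Category.id_comp _).symm)
  have hsq : IsPullback f' (pullback.fst (f ≫ q) g) (pullback.fst q g) f := by
    refine (IsPullback.of_bot ?_ (pullback.lift_fst _ _ _).symm (IsPullback.of_hasPullback q g)).flip
    rw [pullback.lift_snd, Category.comp_id]
    exact IsPullback.of_hasPullback (f ≫ q) g
  have hgY : UQ (pullback.fst q g) := MorphismProperty.of_isPullback (IsPullback.of_hasPullback q g).flip hg
  haveI hO : MorphismProperty.DescendsAlong (AlgebraicGeometry.topologically @IsOpenMap).universally UQ :=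
    universally_descends _ fun h hc ha => isOpenMap_descends h hc ha
  haveI hC : MorphismProperty.DescendsAlong (AlgebraicGeometry.topologically @IsClosedMap).universally UQ :=
    universally_descends _ fun h hc ha => isClosedMap_descends h hc ha
  have hUC : UniversallyClosed f' → UniversallyClosed f := fun h =>
    ⟨MorphismProperty.of_isPullback_of_descendsAlong (P := (AlgebraicGeometry.topologically @IsClosedMap).universally)
      hsq hgY h.universally_isClosedMap⟩
  have hS : IsSeparated f' → IsSeparated f := fun h => by
    have h1 : MorphismProperty.diagonal (AlgebraicGeometry.topologically @IsClosedMap).universally f' :=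
      (inferInstance : UniversallyClosed (pullback.diagonal f')).universally_isClosedMap
    have h2 : (AlgebraicGeometry.topologically @IsClosedMap).universally (pullback.diagonal f) :=
      MorphismProperty.of_isPullback_of_descendsAlong (P := MorphismProperty.diagonal
        (AlgebraicGeometry.topologically @IsClosedMap).universally) hsq hgY h1
    haveI : UniversallyClosed (pullback.diagonal f) := ⟨h2⟩
    exact ⟨IsClosedImmersion.of_isPreimmersion _ (pullback.diagonal f).isClosedMap.isClosed_range⟩
  refine ⟨isOpenMap_descends hsq hgY, isClosedMap_descends hsq hgY, fun h => ?_, hUC, hS, fun _ hlft h => ?_⟩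
  · exact ⟨MorphismProperty.of_isPullback_of_descendsAlong (P := (AlgebraicGeometry.topologically @IsOpenMap).universally)
      hsq hgY h.out⟩
  · haveI := hlft
    haveI := hS h.toIsSeparated
    haveI := hUC h.toUniversallyClosed
    exact {}

end Groth.Agent.S2917
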