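import Groth.Statements.S2919
import Groth.Agent.H18Quot.Free

set_option autoImplicit false
open CategoryTheory CategoryTheory.Limits AlgebraicGeometry
universe u
open SGA1

namespace Groth.Agent.S2919

/-- Let a finite group G act on X, p : X ⟶ Y a quotient with Y locally Noetherian and p finite, G acting
freely on geometric points, and suppose p has a section. Then the morphism from the disjoint union
of copies of Y indexed by G to X which is s followed by the action of g on the g-th copy is an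
isomorphism. -/
theorem result {X Y : Scheme.{u}} {G : Type u} [Group G] [Finite G] (ρ : G →* Aut X)
    (p : X ⟶ Y) (hp : SGA1.IsQuot ρ p) [IsLocallyNoetherian Y] [IsFinite p]
    (hfree : (∀ (K : Type u) [Field K] [IsAlgClosed K] (ξ : Spec (CommRingCat.of K) ⟶ X) (g : G), ξ ≫ (ρ g).hom = ξ → g = 1)) (s : Y ⟶ X) (hs : s ≫ p = 𝟙 Y) :
    IsIso (Sigma.desc (fun g : G => s ≫ (ρ g).hom) : (∐ fun _ : G => Y) ⟶ X) := by
  haveI := H18Quot.etale hp hfree
  refine H18Quot.isIso_sigmaDesc_of_sections p _ (fun g => by rw [Category.assoc, hp.inv, hs]) ?_ ?_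
  · intro K _ _ ξ g h e
    refine (mul_inv_eq_one.mp (hfree K (ξ ≫ s ≫ (ρ h).hom) (g * h⁻¹) ?_))
    have e2 : (ρ (g * h⁻¹)).hom = (ρ h⁻¹).hom ≫ (ρ g).hom := by rw [map_mul]; rfl
    have e3 : (ρ h).hom ≫ (ρ h⁻¹).hom = 𝟙 X := by rw [map_inv]; exact (ρ h).hom_inv_id
    rw [e2, Category.assoc, Category.assoc, reassoc_of% e3]
    exact e
  · intro z
    obtain ⟨g, hg⟩ := H18Quot.exists_smul_eq hp (x₁ := s (p z)) (x₂ := z)
      (by rw [← Scheme.Hom.comp_apply, hs]; rfl)
    exact ⟨g, p z, hg⟩

end Groth.Agent.S2919
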