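import Groth.Statements.S2920
import Groth.Agent.H18Quot.Free

set_option autoImplicit false
open CategoryTheory CategoryTheory.Limits AlgebraicGeometry
universe u
open SGA1

namespace Groth.Agent.S2920

/-- (i) ⇒ (iii): Let a finite group G act on X, p : X ⟶ Y a quotient with Y locally Noetherian and p
finite, G acting freely on geometric points. Then the morphism from the disjoint union of copies of
X indexed by G to X ×_Y X given on the g-th copy by (id, g) is an isomorphism, and p is flat and
surjective. -/
theorem result {X Y : Scheme.{u}} {G : Type u} [Group G] [Finite G] (ρ : G →* Aut X)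
    (p : X ⟶ Y) (hp : SGA1.IsQuot ρ p) [IsLocallyNoetherian Y] [IsFinite p] (hfree : (∀ (K : Type u) [Field K] [IsAlgClosed K] (ξ : Spec (CommRingCat.of K) ⟶ X) (g : G), ξ ≫ (ρ g).hom = ξ → g = 1)) :
    IsIso (Sigma.desc (fun g : G => pullback.lift (𝟙 X) (ρ g).hom ((Category.id_comp p).trans (hp.inv g).symm)) :
      (∐ fun _ : G => X) ⟶ pullback p p) ∧ Flat p ∧ Surjective p := by
  haveI := H18Quot.etale hp hfree
  refine ⟨H18Quot.isIso_sigmaDesc_of_sections (pullback.fst p p) _ (fun g => pullback.lift_fst _ _ _) ?_ ?_,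
    inferInstance, ⟨Groth.Agent.H27Quot.surjective hp⟩⟩
  · intro K _ _ ξ g h e
    have e' := congrArg (· ≫ pullback.snd p p) e
    simp only [Category.assoc, pullback.lift_snd] at e'
    refine (mul_inv_eq_one.mp (hfree K (ξ ≫ (ρ h).hom) (g * h⁻¹) ?_))
    have e2 : (ρ (g * h⁻¹)).hom = (ρ h⁻¹).hom ≫ (ρ g).hom := by rw [map_mul]; rfl
    have e3 : (ρ h).hom ≫ (ρ h⁻¹).hom = 𝟙 X := by rw [map_inv]; exact (ρ h).hom_inv_id
    rw [e2, Category.assoc, reassoc_of% e3]
    exact e'
  · intro z
    let a := (pullback p p).fromSpecResidueField z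
    obtain ⟨g, hg⟩ := Groth.Agent.H27Quot.exists_eq_comp_of_point hp (a ≫ pullback.fst p p)
      (a ≫ pullback.snd p p) (by rw [Category.assoc, Category.assoc, pullback.condition])
    have e : (a ≫ pullback.fst p p) ≫ pullback.lift (𝟙 X) (ρ g).hom ((Category.id_comp p).trans (hp.inv g).symm) = a := by
      apply pullback.hom_ext
      · rw [Category.assoc, pullback.lift_fst, Category.comp_id]
      · rw [Category.assoc, pullback.lift_snd]; exact hg.symm
    refine ⟨g, (a ≫ pullback.fst p p) (IsLocalRing.closedPoint _), ?_⟩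
    rw [← Scheme.Hom.comp_apply, e]
    exact Scheme.fromSpecResidueField_apply _ _

end Groth.Agent.S2920
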