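import Groth.Statements.S2923
import Groth.Agent.H9Tame.Main
import Mathlib.AlgebraicGeometry.Morphisms.UniversallyOpen
import Mathlib.AlgebraicGeometry.Morphisms.UniversallyClosed
-- import your own Groth.Agent.* helpers here

set_option autoImplicit false
universe u
open IsLocalRing
open SGA1

namespace Groth.Agent.S2923

open AlgebraicGeometry CategoryTheory CategoryTheory.Limits in
/-- The Kummer coverings are cofinal among tame covers: let A be a strictly henselian regular local ring
(henselian with separably closed residue field), f_1, …, f_r part of a regular system of parameters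
with each (f_i) a prime ideal, U ⊆ X = Spec A the open where f_1 ⋯ f_r is invertible, and V a
connected finite etale cover of U tamely ramified along each f_i. Then for some exponents n_i ≥ 1
invertible in the residue field there is a surjective U-morphism from the restriction to U of the
Kummer covering Spec A[T_1, …, T_r]/(T_i^{n_i} − f_i) onto V. -/
theorem result (A : Type u) [CommRing A] [IsRegularLocalRing A] [IsDomain A] (r : ℕ) (f : Fin r → A)
    (hm : ∀ i, f i ∈ maximalIdeal A)
    (hf : LinearIndependent (ResidueField A) (fun i => (maximalIdeal A).toCotangent ⟨f i, hm i⟩))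
    [∀ i, (Ideal.span {f i}).IsPrime]
    [HenselianLocalRing A] [IsSepClosed (ResidueField A)]
    (V : FEt.Cat ((SGA1.specBasicOpen A (∏ i, f i)) : Scheme.{u})) [ConnectedSpace V.left] (htame : SGA1.IsTameAlong f (((V.hom ≫ ((SGA1.specBasicOpen A (∏ i, f i))).ι).appTop).hom.comp (Scheme.ΓSpecIso (CommRingCat.of A)).inv.hom)) :
    ∃ n : Fin r → ℕ, (∀ i, 1 ≤ n i) ∧ (∀ i, IsUnit ((n i : ℕ) : ResidueField A)) ∧
      ∃ φ : (↑((Spec.map (CommRingCat.ofHom (algebraMap A (SGA1.kummerAlg A f n)))) ⁻¹ᵁ (SGA1.specBasicOpen A (∏ i, f i))) : Scheme.{u}) ⟶ V.left, φ ≫ V.hom = (Spec.map (CommRingCat.ofHom (algebraMap A (SGA1.kummerAlg A f n)))) ∣_ (SGA1.specBasicOpen A (∏ i, f i)) ∧ Surjective φ := by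
  classical
  obtain ⟨m, hm0, hmu, hdvd⟩ := Groth.Agent.H9Tame.exists_exponent f hm hf V htame
  obtain ⟨W, hW⟩ := Groth.Agent.H9Tame.exists_extension f hm hf (n := fun _ => m) (fun _ => hm0) V htame hdvd
  refine ⟨fun _ => m, fun _ => hm0, fun _ => hmu, ?_⟩
  obtain ⟨hVaff, hCalg⟩ := Groth.Agent.H9Tame.cover_algebra V
  haveI := hVaff
  let C := Γ(V.left, ⊤)
  letI : Algebra A C := (Groth.Agent.H9Tame.coverHom V).toAlgebra
  obtain ⟨aC, htC, hfC, heC⟩ := hCalg
  letI := aC
  haveI := htC; haveI := hfC; haveI := heC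
  let s := ∏ i, f i
  have hf0 := Groth.Agent.H9Tame.ne_zero_of_linearIndependent f hm hf
  have hs0 : s ≠ 0 := Finset.prod_ne_zero_iff.mpr fun i _ => hf0 i
  obtain ⟨E, _, _, hEf, hEe, ψ, hψ⟩ := Groth.Agent.H9Tame.Translate.algebra_of_iso V C V.left.isoSpec
    (Groth.Agent.H9Tame.specMap_coverHom V) (SGA1.kummerAlg A f (fun _ => m))
    (isPullback_morphismRestrict _ _) (s := s) rfl W hW
  let A' := SGA1.kummerAlg A f (fun _ => m)
  haveI : IsRegularLocalRing A' := H9Et.Kummer.isRegularLocalRing f (fun _ => hm0) hm hf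
  haveI : IsDomain A' := H4Depth.isDomain_of_isRegularLocalRing A'
  obtain ⟨hH, hsep⟩ := Groth.Agent.H9Tame.strictlyHenselian_kummer f hm (n := fun _ => m) (fun _ => hm0)
  haveI := hH
  haveI : IsSepClosed (ResidueField A') := hsep
  have hinj := H9Et.Kummer.injective_algebraMap f (n := fun _ => m) (fun _ => hm0)
  -- a geometric point of the cover
  let Ω := AlgebraicClosure (FractionRing A')
  let Ψ : A' →+* Ω := (algebraMap (FractionRing A') Ω).comp (algebraMap A' (FractionRing A'))
  have hΨ : Function.Injective Ψ :=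
    (algebraMap (FractionRing A') Ω).injective.comp (IsFractionRing.injective A' _)
  obtain ⟨χ, hχ⟩ : ∃ χ : C →+* Ω, ∀ a : A, χ (algebraMap A C a) = Ψ (algebraMap A A' a) := by
    have hne : Nontrivial C := by
      obtain ⟨x⟩ := (ConnectedSpace.toNonempty : Nonempty V.left)
      exact (PrimeSpectrum.nonempty_iff_nontrivial (R := C)).mp ⟨V.left.isoSpec.hom x⟩
    haveI : Module.Flat A (Localization.Away s) := IsLocalization.flat _ (Submonoid.powers s)
    haveI : Module.Flat A C := Module.Flat.trans A (Localization.Away s) C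
    obtain ⟨M, hM⟩ := Ideal.exists_maximal C
    obtain ⟨P, -, hP, hPl⟩ := M.exists_ideal_le_liesOver_of_le (p := (⊥ : Ideal A))
      (q := Ideal.comap (algebraMap A C) M) bot_le
    have hq0 : Ideal.comap (algebraMap A C) P = ⊥ := hPl.over.symm
    haveI := hP
    obtain ⟨aL, haL, hfd, -, -⟩ := Groth.Agent.H9Tame.exists_residueField_algebra f C hf0 P hq0
    letI := aL
    haveI := hfd
    have hj : Function.Injective (Ψ.comp (algebraMap A A')) := hΨ.comp hinj
    obtain ⟨j, hjA⟩ : ∃ j : FractionRing A →+* Ω, ∀ a, j (algebraMap A _ a) = Ψ (algebraMap A A' a) :=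
      ⟨IsFractionRing.lift hj, fun a => IsFractionRing.lift_algebraMap hj a⟩
    letI : Algebra (FractionRing A) Ω := j.toAlgebra
    haveI : Algebra.IsAlgebraic (FractionRing A) P.ResidueField := Algebra.IsAlgebraic.of_finite _ _
    let l : P.ResidueField →ₐ[FractionRing A] Ω := IsAlgClosed.lift
    refine ⟨l.toRingHom.comp (algebraMap C P.ResidueField), fun a => ?_⟩
    show l (algebraMap C P.ResidueField (algebraMap A C a)) = _
    rw [← IsScalarTower.algebraMap_apply A C, ← RingHom.congr_fun haL a, RingHom.comp_apply, AlgHom.commutes]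
    exact hjA a
  -- it is rational over the Kummer algebra
  let As := Localization.Away (algebraMap A A' s)
  have hu : IsUnit (Ψ (algebraMap A A' s)) :=
    isUnit_iff_ne_zero.mpr ((map_ne_zero_iff _ hΨ).mpr ((map_ne_zero_iff _ hinj).mpr hs0))
  let Ψs : As →+* Ω := IsLocalization.Away.lift (algebraMap A A' s) hu
  have hΨs : ∀ x, Ψs (algebraMap A' As x) = Ψ x := fun x => IsLocalization.Away.lift_eq _ hu x
  have hs' : (algebraMap A A' s) ≠ 0 := (map_ne_zero_iff _ hinj).mpr hs0
  have hΨsinj : Function.Injective Ψs := by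
    rw [injective_iff_map_eq_zero]
    intro z hz
    obtain ⟨n, a, ha⟩ := IsLocalization.Away.surj (algebraMap A A' s) z
    have h1 := congrArg Ψs ha
    rw [map_mul, hz, zero_mul, hΨs] at h1
    rw [hΨ (h1.symm.trans (map_zero Ψ).symm), map_zero] at ha
    exact (mul_eq_zero.mp ha).resolve_right (pow_ne_zero _ fun h0 => hs'
      (IsLocalization.injective As (powers_le_nonZeroDivisors_of_noZeroDivisors hs') (h0.trans (map_zero _).symm)))
  have hrange : ∀ c : C, ∃ y : As, Ψs y = χ c := by
    intro c
    obtain ⟨k, a, hka⟩ := Groth.Agent.H9Tame.rational_of_model (A'' := A') ψ hψ Ψ χ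
      (RingHom.ext fun a => hχ a) c
    obtain ⟨v, hv⟩ := (IsLocalization.Away.algebraMap_isUnit (S := As) (algebraMap A A' s)).pow k
    refine ⟨algebraMap A' As a * (v⁻¹ : Asˣ), ?_⟩
    rw [map_mul, map_units_inv, hv, map_pow, hΨs, hΨs, ← hka, Algebra.algebraMap_self_apply,
      mul_inv_cancel_right₀ (pow_ne_zero _ hu.ne_zero)]
  choose y hy using hrange
  let χ' : C →+* As :=
    { toFun := y
      map_one' := hΨsinj (by rw [hy, map_one, map_one])
      map_mul' := fun a b => hΨsinj (by rw [map_mul Ψs, hy, hy, hy, map_mul])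
      map_zero' := hΨsinj (by rw [hy, map_zero, map_zero])
      map_add' := fun a b => hΨsinj (by rw [map_add Ψs, hy, hy, hy, map_add]) }
  have hcomp : χ'.comp (Groth.Agent.H9Tame.coverHom V) = (algebraMap A' As).comp (algebraMap A A') :=
    RingHom.ext fun a => hΨsinj (by
      show Ψs (y (algebraMap A C a)) = Ψs (algebraMap A' As (algebraMap A A' a))
      rw [hy, hχ, hΨs])
  let g := Spec.map (CommRingCat.ofHom (algebraMap A A'))
  let U := SGA1.specBasicOpen A s
  let U' := g ⁻¹ᵁ U
  let e' : (U' : Scheme.{u}) ≅ Spec (CommRingCat.of As) :=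
    basicOpenIsoSpecAway (R := CommRingCat.of A') (algebraMap A A' s)
  have he' : e'.hom ≫ Spec.map (CommRingCat.ofHom (algebraMap A' As)) = U'.ι :=
    basicOpenIsoSpecAway_hom_SpecMap (R := CommRingCat.of A') (algebraMap A A' s)
  let φ : (U' : Scheme.{u}) ⟶ V.left := e'.hom ≫ Spec.map (CommRingCat.ofHom χ') ≫ V.left.isoSpec.inv
  have hφι : φ ≫ V.hom ≫ U.ι =
      e'.hom ≫ Spec.map (CommRingCat.ofHom ((algebraMap A' As).comp (algebraMap A A'))) := by
    show (e'.hom ≫ Spec.map (CommRingCat.ofHom χ') ≫ V.left.isoSpec.inv) ≫ V.hom ≫ U.ι = _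
    erw [← Groth.Agent.H9Tame.specMap_coverHom V]
    simp only [Category.assoc, Iso.inv_hom_id_assoc]
    rw [← Spec.map_comp, ← CommRingCat.ofHom_comp, hcomp]
  have hφ : φ ≫ V.hom = g ∣_ U := by
    rw [← cancel_mono U.ι, Category.assoc, hφι, morphismRestrict_ι, CommRingCat.ofHom_comp, Spec.map_comp,
      reassoc_of% he']
  refine ⟨φ, hφ, ?_⟩
  -- finite and etale, hence onto the connected cover
  haveI : Module.Finite A A' := H9Et.Kummer.finite f (fun _ => hm0)
  haveI : IsFinite g := (IsFinite.SpecMap_iff _).mpr (RingHom.finite_algebraMap.mpr inferInstance)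
  haveI hgfin : IsFinite (g ∣_ U) := MorphismProperty.of_isPullback (isPullback_morphismRestrict g U).flip inferInstance
  haveI hVfin : IsFinite V.hom := V.prop.1
  haveI hVet : Etale V.hom := V.prop.2
  haveI : IsFinite φ := by
    haveI : IsFinite (φ ≫ V.hom) := hφ ▸ hgfin
    exact IsFinite.of_comp φ V.hom
  haveI : Etale φ := by
    have h1 := H9Et.Kummer.etale_away f (n := fun _ => m) (fun _ => hm0) hm hf (fun _ => hmu)
    have hA : RingHom.Etale ((algebraMap A' As).comp (algebraMap A A')) := by
      have h2 : (algebraMap A' As).comp (algebraMap A A') =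
          (Localization.awayMap (algebraMap A A') s).comp (algebraMap A (Localization.Away s)) :=
        RingHom.ext fun a => by
          rw [RingHom.comp_apply, RingHom.comp_apply, Localization.awayMap, IsLocalization.Away.map,
            IsLocalization.map_eq]
      rw [h2]
      exact RingHom.Etale.stableUnderComposition _ _
        (RingHom.etale_algebraMap.mpr (Algebra.Etale.of_isLocalizationAway s)) h1
    haveI : Etale (Spec.map (CommRingCat.ofHom ((algebraMap A' As).comp (algebraMap A A')))) :=
      (HasRingHomProperty.Spec_iff (P := @Etale)).mpr hA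
    haveI : Etale (φ ≫ V.hom ≫ U.ι) := by rw [hφι]; infer_instance
    haveI : Etale (V.hom ≫ U.ι) := inferInstance
    exact Etale.of_comp φ (V.hom ≫ U.ι)
  have hnon : (Set.range φ).Nonempty := by
    obtain ⟨x⟩ : Nonempty (PrimeSpectrum As) := by
      haveI : Nontrivial As := Ψs.domain_nontrivial
      infer_instance
    exact ⟨φ (e'.inv x), Set.mem_range_self _⟩
  have huniv : Set.range φ = Set.univ :=
    IsClopen.eq_univ ⟨φ.isClosedMap.isClosed_range, φ.isOpenMap.isOpen_range⟩ hnon
  exact ⟨Set.range_eq_univ.mp huniv⟩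

end Groth.Agent.S2923
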