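import Groth.Statements.S2924
import Groth.Agent.H23Kummer.Family

set_option autoImplicit false
universe u
open IsLocalRing
open SGA1

namespace Groth.Agent.S2924

set_option maxHeartbeats 1600000 in
/-- Let A be a regular local ring, f_1, …, f_r part of a regular system of parameters and n_i ≥ 1
invertible in the residue field. Then the Kummer algebra A[T_1, …, T_r]/(T_i^{n_i} − f_i) is tamely
ramified along each f_i (at every point of its generic fibre, with respect to the discrete valuation
rings A_{(f_i)}). -/
theorem result (A : Type u) [CommRing A] [IsRegularLocalRing A] [IsDomain A] (r : ℕ) (f : Fin r → A)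
    (hm : ∀ i, f i ∈ maximalIdeal A)
    (hf : LinearIndependent (ResidueField A) (fun i => (maximalIdeal A).toCotangent ⟨f i, hm i⟩))
    [∀ i, (Ideal.span {f i}).IsPrime] (n : Fin r → ℕ) (hn : ∀ i, 1 ≤ n i) (hu : ∀ i, IsUnit ((n i : ℕ) : ResidueField A)) :
    SGA1.IsTameAlong f (algebraMap A (SGA1.kummerAlg A f n)) := by
  classical
  intro i q _ hq
  let P := Ideal.span {f i}
  let R := Localization.AtPrime P
  have hf0 : ∀ j, f j ≠ 0 := fun j h => by
    have h' := hf.ne_zero j
    have e : (⟨f j, hm j⟩ : maximalIdeal A) = 0 := Subtype.ext h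
    rw [e, map_zero] at h'
    exact h' rfl
  have hunitA : ∀ j, IsUnit (n j : A) := fun j => by
    rw [← residue_ne_zero_iff_isUnit, map_natCast]
    exact (hu j).ne_zero
  have hnmem : ∀ j, j ≠ i → f j ∉ P := by
    intro j hji hj
    obtain ⟨a, ha⟩ := Ideal.mem_span_singleton.mp hj
    have h1 : (maximalIdeal A).toCotangent ⟨f j, hm j⟩ = residue A a • (maximalIdeal A).toCotangent ⟨f i, hm i⟩ := by
      have e : (⟨f j, hm j⟩ : maximalIdeal A) = a • ⟨f i, hm i⟩ := Subtype.ext (by
        show f j = a * f i
        rw [ha, mul_comm])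
      rw [e, map_smul]
      rfl
    have h2 : (maximalIdeal A).toCotangent ⟨f j, hm j⟩ ∈
        Submodule.span (ResidueField A) ((fun l => (maximalIdeal A).toCotangent ⟨f l, hm l⟩) '' ({i} : Set (Fin r))) := by
      rw [Set.image_singleton, h1]
      exact Submodule.smul_mem _ _ (Submodule.subset_span rfl)
    exact hji (hf.notMem_span_image (by simpa using hji) h2).elim
  have hmax : maximalIdeal R = Ideal.span {algebraMap A R (f i)} := by
    rw [← Localization.AtPrime.map_eq_maximalIdeal, Ideal.map_span, Set.image_singleton]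
  have hinjR : Function.Injective (algebraMap A R) :=
    IsLocalization.injective R P.primeCompl_le_nonZeroDivisors
  have hnf : ¬ IsField R := fun h => by
    rw [IsLocalRing.isField_iff_maximalIdeal_eq, hmax, Ideal.span_singleton_eq_bot] at h
    exact hf0 i (hinjR (h.trans (map_zero _).symm))
  haveI : IsNoetherianRing R := IsLocalization.isNoetherianRing P.primeCompl R inferInstance
  haveI : IsDiscreteValuationRing R := ((IsDiscreteValuationRing.TFAE R hnf).out 4 0).mp (⟨⟨algebraMap A R (f i), hmax⟩⟩ : (maximalIdeal R).IsPrincipal)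
  have hϖ : Irreducible (algebraMap A R (f i)) := (IsDiscreteValuationRing.irreducible_iff_uniformizer _).mpr hmax
  let g : R →+* q.ResidueField := SGA1.genericResidueMap (algebraMap A (SGA1.kummerAlg A f n)) P q hq
  have hgA : ∀ a, g (algebraMap A R a) = algebraMap _ q.ResidueField (algebraMap A (SGA1.kummerAlg A f n) a) :=
    fun a => IsLocalization.lift_eq _ a
  have hg : Function.Injective g := by
    refine (injective_iff_map_eq_zero g).mpr fun z hz => ?_
    obtain ⟨⟨a, s⟩, hs⟩ := IsLocalization.surj P.primeCompl z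
    have h1 : g (algebraMap A R a) = 0 := by rw [← hs, map_mul, hz, zero_mul]
    rw [hgA, ← RingHom.mem_ker, Ideal.ker_algebraMap_residueField] at h1
    have h2 : a ∈ Ideal.comap (algebraMap A (SGA1.kummerAlg A f n)) q := h1
    rw [hq, Ideal.mem_bot] at h2
    rw [h2, map_zero] at hs
    exact (mul_eq_zero.mp hs).resolve_right ((IsLocalization.map_units R s).ne_zero)
  let t : Fin r → q.ResidueField := fun j =>
    algebraMap (SGA1.kummerAlg A f n) q.ResidueField (Ideal.Quotient.mk _ (MvPolynomial.X j : MvPolynomial (Fin r) A))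
  have ht : ∀ j, t j ^ n j = g (algebraMap A R (f j)) := by
    intro j
    rw [hgA, ← map_pow, ← map_pow]
    congr 1
    exact Ideal.Quotient.eq.mpr (Ideal.subset_span ⟨j, rfl⟩)
  have hmem : ∀ z : SGA1.kummerAlg A f n,
      algebraMap _ q.ResidueField z ∈ Subfield.closure (Set.range g ∪ Set.range t) := by
    intro z
    obtain ⟨z, rfl⟩ := Ideal.Quotient.mk_surjective z
    induction z using MvPolynomial.induction_on with
    | C a => exact Subfield.subset_closure (Or.inl ⟨algebraMap A R a, hgA a⟩)
    | add x y hx hy => rw [map_add, map_add]; exact add_mem hx hy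
    | mul_X x j hx =>
      rw [map_mul, map_mul]
      exact mul_mem hx (Subfield.subset_closure (Or.inr ⟨j, rfl⟩))
  refine Groth.Agent.H23Kummer.isTamelyRamified_kummer g hg i n (fun j => Nat.one_le_iff_ne_zero.mp (hn j))
    (fun j => by simpa using (hunitA j).map (algebraMap A R)) (fun j => algebraMap A R (f j)) hϖ
    (fun j hji => IsLocalization.map_units R (⟨f j, hnmem j hji⟩ : P.primeCompl)) t ht fun x => ?_
  obtain ⟨a, b, -, rfl⟩ := IsFractionRing.div_surjective (A := SGA1.kummerAlg A f n ⧸ q) x
  obtain ⟨a, rfl⟩ := Ideal.Quotient.mk_surjective a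
  obtain ⟨b, rfl⟩ := Ideal.Quotient.mk_surjective b
  exact div_mem (hmem a) (hmem b)

end Groth.Agent.S2924
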