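import Groth.Statements.S2927
import Groth.Agent.H17.EdgeIso.Main
-- import your own Groth.Agent.* helpers here

set_option autoImplicit false
universe u
open CategoryTheory AlgebraicGeometry
open ProjDual

namespace Groth.Agent.S2927

/-- (i)⇔(iii): Let k be a field, X = P^r_k, F a coherent O_X-module and i ≥ 0. Then H^i(X, F(−m))
vanishes for all sufficiently large m if and only if for every closed point x of X the local
cohomology H^i of the stalk F_x, with support in the maximal ideal of O_{X,x}, vanishes. -/
theorem result (k : Type u) [Field k] (r : ℕ) (F : (CohB1.ProjSpace r k).Modules) (hF : Coh.IsCoh F) (i : ℕ) : (∃ m₀ : ℤ, ∀ m : ℤ, m₀ ≤ m → Subsingleton (Coh.HH (CohB1.ProjSpace r k) (Twist.twistBy _ F (-m)) i)) ↔ ∀ x : (CohB1.ProjSpace r k), IsClosed ({x} : Set (CohB1.ProjSpace r k)) → Subsingleton (LocCoh.H (IsLocalRing.maximalIdeal ((CohB1.ProjSpace r k).presheaf.stalk x)) i (F.presheaf.stalk x)) := by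
  exact Groth.Agent.H17.EdgeIso.van_iff_localCohomology F hF i

end Groth.Agent.S2927
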