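import Groth.Statements.S2928
import Mathlib
import Groth.Agent.H22Alg.ESZConverse
import Groth.Agent.H22Alg.ESZZero

set_option autoImplicit false
universe u
open CategoryTheory AlgebraicGeometry
open ProjDual

namespace Groth.Agent.S2928

/-- (i)⇔(ii): Let k be a field, X = P^r_k, F a coherent O_X-module and n ≥ 0. Then H^i(X, F(−m)) = 0 for
all i ≤ n and all sufficiently large m if and only if at every closed point x of X the stalk F_x has
depth greater than n over O_{X,x}. -/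
theorem result (k : Type u) [Field k] (r : ℕ) (F : (CohB1.ProjSpace r k).Modules) (hF : Coh.IsCoh F) (n : ℕ) : (∃ m₀ : ℤ, ∀ m : ℤ, m₀ ≤ m → ∀ i : ℕ, i ≤ n → Subsingleton (Coh.HH (CohB1.ProjSpace r k) (Twist.twistBy _ F (-m)) i)) ↔ ∀ x : (CohB1.ProjSpace r k), IsClosed ({x} : Set (CohB1.ProjSpace r k)) → (n : ℕ∞) < LocCoh.depth ((CohB1.ProjSpace r k).presheaf.stalk x) (F.presheaf.stalk x) := by
  constructor
  · rintro ⟨m₀, hm⟩
    intro x hx
    rcases Nat.eq_zero_or_pos r with rfl | hr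
    · exact Groth.Agent.H22Alg.ESZZero.lt_depth hF n (fun i hi => ⟨m₀, hm m₀ le_rfl i hi⟩) x hx
    · exact Groth.Agent.H22Alg.ESZ.depth_of_van hr n F hF (fun i hi => ⟨m₀.toNat, fun m h =>
        hm m (le_trans (Int.self_le_toNat m₀) (by exact_mod_cast h)) i hi⟩) x hx
  · intro h
    obtain ⟨m₀, hm⟩ := Groth.Agent.H22Alg.ESZ.van_bound n
      (fun i hi => Groth.Agent.H22Alg.ESZ.van_of_depth' n hF h i hi)
    refine ⟨(m₀ : ℤ), fun m hmm i hi => ?_⟩
    obtain ⟨j, rfl⟩ : ∃ j : ℕ, m = j := ⟨m.toNat, (Int.toNat_of_nonneg (le_trans (by omega) hmm)).symm⟩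
    exact hm j (by exact_mod_cast hmm) i hi

end Groth.Agent.S2928
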