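import Groth.Statements.S2931
import Groth.Agent.H4LC.FaltingsApps

set_option autoImplicit false
universe u
open LocCoh

namespace Groth.Agent.S2931

/-- Affine form (coherence of R^p i_*(F) for p < n being finiteness of H^i_I for i ≤ n). Let A be a
Noetherian ring which is a quotient of a regular ring, I an ideal and M a finite A-module such that
M_p is zero or Cohen–Macaulay for every prime p not containing I. Then H^i_I(M) is a finite A-module
for every i ≤ n if and only if for every prime p not containing I which is minimal in the support of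
M, the codimension of V(p) ∩ V(I) in V(p) is greater than n. -/
theorem result (R : Type u) [CommRing R] [IsRegularRing R] (A : Type u) [CommRing A] [IsNoetherianRing A] (π : R →+* A) (hπ : Function.Surjective π) (I : Ideal A) (M : Type u) [AddCommGroup M] [Module A M] [Module.Finite A M] (hCM : ∀ p : PrimeSpectrum A, ¬ I ≤ p.asIdeal → Subsingleton (LocalizedModule p.asIdeal.primeCompl M) ∨ LocCoh.IsCohenMacaulayModule (Localization.AtPrime p.asIdeal) (LocalizedModule p.asIdeal.primeCompl M)) (n : ℕ) : (∀ i : ℕ, i ≤ n → Module.Finite A (LocCoh.H I i M)) ↔ ∀ p : PrimeSpectrum A, ¬ I ≤ p.asIdeal → p.asIdeal ∈ (Module.annihilator A M).minimalPrimes → (n : ℕ∞) < SGA2.relCodim I p := by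
  let : Algebra R A := π.toAlgebra
  let : Module R M := Module.compHom M π
  have : IsScalarTower R A M := IsScalarTower.of_algebraMap_smul fun _ _ => rfl
  constructor
  · intro h p hp hmin
    have h1 := Groth.Agent.H4LC.le_depth_add_height_of_finite I M n h p hp
    rw [LocCoh.adjDepth, Groth.Agent.H4LC.depth_eq_zero_of_minimal M hmin, zero_add] at h1
    exact lt_of_lt_of_le (by exact_mod_cast n.lt_succ_self)
      (h1.trans (Groth.Agent.H4LC.height_sup_map_mk_le_relCodim I p))
  · intro h i hi
    refine Groth.Agent.H4LC.finite_H_of_quotient (S := R) hπ M I i fun p hp hc j hj => ?_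
    obtain ⟨q, hq, hcov⟩ := Groth.Agent.H4LC.exists_covBy_of_relCodim_eq_one hp hc
    exact (Groth.Agent.H4LC.natCast_le_depth_iff M p n).1
      (Groth.Agent.H4LC.natCast_le_depth_of_isCohenMacaulay (S := R) hπ M hp hq hcov (hCM p hp) h)
      j (by omega)

end Groth.Agent.S2931
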