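import Groth.Statements.S2932
import Groth.Agent.H23Para.Samuel.CIUfd

set_option autoImplicit false
universe u
open ParaF

namespace Groth.Agent.S2932

/-- Let A be a Noetherian local ring which is a complete intersection (a quotient of a regular local
ring by a regular sequence) and which is factorial in codimension ≤ 3: for every prime p with dim
A_p ≤ 3 the local ring A_p is a factorial domain. Then A is a factorial domain. -/
theorem result (A : Type u) [CommRing A] [IsLocalRing A] [IsNoetherianRing A] (hA : SGA2.IsAbsCompleteIntersection A) (h : ∀ p : PrimeSpectrum A, ringKrullDim (Localization.AtPrime p.asIdeal) ≤ 3 → IsDomain (Localization.AtPrime p.asIdeal) ∧ UniqueFactorizationMonoid (Localization.AtPrime p.asIdeal)) : IsDomain A ∧ UniqueFactorizationMonoid A := by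
  obtain ⟨n, hn⟩ := Groth.Agent.H23Para.Samuel.exists_ringKrullDim_eq_nat A
  exact Groth.Agent.H23Para.Samuel.ufd_of_absCI n A hn.le hA h

end Groth.Agent.S2932
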