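import Groth.Statements.S2934
import Groth.Agent.H4LC.FaltingsApps

set_option autoImplicit false
universe u
open LocCoh

namespace Groth.Agent.S2934

/-- Let A be a Noetherian local ring which is a quotient of a regular local ring, m its maximal ideal, M
a finite A-module and i ≥ 0. Then H^i_m(M) is an A-module of finite length if and only if for every
prime p ≠ m, writing e = dim A/p, the local cohomology H^{i−e} of M_p with support in the maximal
ideal of A_p vanishes (no condition when e > i). -/
theorem result (R : Type u) [CommRing R] [IsRegularLocalRing R] (A : Type u) [CommRing A] [IsLocalRing A] [IsNoetherianRing A] (π : R →+* A) (hπ : Function.Surjective π) (M : Type u) [AddCommGroup M] [Module A M] [Module.Finite A M] (i : ℕ) : IsFiniteLength A (LocCoh.H (IsLocalRing.maximalIdeal A) i M) ↔ ∀ p : PrimeSpectrum A, p.asIdeal ≠ IsLocalRing.maximalIdeal A → ∀ (e j : ℕ), ringKrullDim (A ⧸ p.asIdeal) = e → j + e = i → Subsingleton (LocCoh.H (IsLocalRing.maximalIdeal (Localization.AtPrime p.asIdeal)) j (LocalizedModule p.asIdeal.primeCompl M))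 := by
  let : Algebra R A := π.toAlgebra
  let : Module R M := Module.compHom M π
  have : IsScalarTower R A M := IsScalarTower.of_algebraMap_smul fun _ _ => rfl
  have : IsRegularRing R := Groth.Agent.H05EGA4.isRegularRing_of_isRegularLocalRing R
  have hrel : ∀ p : PrimeSpectrum A, ∀ c : ℕ,
      SGA2.relCodim (IsLocalRing.maximalIdeal A) p = c ↔ ringKrullDim (A ⧸ p.asIdeal) = c :=
    fun p c => by rw [← Groth.Agent.H4LC.relCodim_maximalIdeal p]; exact WithBot.coe_inj.symm
  have hne : ∀ p : PrimeSpectrum A, ¬ IsLocalRing.maximalIdeal A ≤ p.asIdeal ↔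
      p.asIdeal ≠ IsLocalRing.maximalIdeal A := fun p =>
    ⟨fun h e => h e.ge, fun h hle => h ((IsLocalRing.maximalIdeal.isMaximal A).eq_of_le p.2.ne_top hle).symm⟩
  have hlen : ∀ i, IsFiniteLength A (LocCoh.H (IsLocalRing.maximalIdeal A) i M) ↔
      Module.Finite A (LocCoh.H (IsLocalRing.maximalIdeal A) i M) := fun i => by
    rw [isFiniteLength_iff_isNoetherian_isArtinian]
    have := Groth.Agent.H4LC.isArtinian_H (R := A) i M
    exact ⟨fun h => have := h.1; inferInstance, fun h => ⟨inferInstance, this⟩⟩
  rw [hlen]
  constructor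
  · intro h p hp e j he hij
    exact Groth.Agent.H4LC.locVanish_of_finite_H (S := R) hπ M i h hp he hij
  · intro h
    refine Groth.Agent.H4LC.finite_H_of_quotient (S := R) hπ M _ i fun p hp hc j hj => ?_
    exact h p ((hne p).1 hp) 1 j ((hrel p 1).1 (by exact_mod_cast hc)) hj

end Groth.Agent.S2934
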