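import Groth.Statements.S2935
import Groth.Agent.H4LC.Nonvanishing

set_option autoImplicit false
universe u
open LocCoh

namespace Groth.Agent.S2935

/-- Let A be a Noetherian local ring with maximal ideal m and M a nonzero finite A-module whose support
has dimension n. Then the local cohomology module H^n_m(M) is nonzero. -/
theorem result (A : Type u) [CommRing A] [IsLocalRing A] [IsNoetherianRing A] (M : Type u) [AddCommGroup M] [Module A M] [Module.Finite A M] [Nontrivial M] (n : ℕ) (hn : Module.supportDim A M = n) : Nontrivial (LocCoh.H (IsLocalRing.maximalIdeal A) n M) := by
  exact (H4LC.nontrivial_H_supportDim n M hn).1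

end Groth.Agent.S2935
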