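import Groth.Statements.S2936
import Groth.Agent.H4DR.Dualizing.TopModule
import Groth.Agent.H4DR.LD.Localized
import Groth.Agent.S0376

set_option autoImplicit false
universe u
open LocCoh

namespace Groth.Agent.S2936

/-- (iii), for a complete local ring. Let A be a complete Noetherian local ring with maximal ideal m, κ
→ E an injective hull of the residue field, and M a nonzero finite A-module whose support has
dimension n. Then for every i the A-module Hom_A(H^i_m(M), E) is finite with support of dimension at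
most i; for i = n its support has dimension exactly n and its associated primes are exactly the
associated primes p of M with dim A/p = n. -/
theorem result (A : Type u) [CommRing A] [IsLocalRing A] [IsNoetherianRing A] [IsAdicComplete (IsLocalRing.maximalIdeal A) A] (E : Type u) [AddCommGroup E] [Module A E] (f : IsLocalRing.ResidueField A →ₗ[A] E) (hf : InjHull.IsInjectiveHull f) (M : Type u) [AddCommGroup M] [Module A M] [Module.Finite A M] [Nontrivial M] (n : ℕ) (hn : Module.supportDim A M = n) : (∀ i : ℕ, Module.Finite A (LocCoh.H (IsLocalRing.maximalIdeal A) i M →ₗ[A] E) ∧ Module.supportDim A (LocCoh.H (IsLocalRing.maximalIdeal A) i M →ₗ[A] E) ≤ (i : WithBot ℕ∞)) ∧ Module.supportDim A (LocCoh.H (IsLocalRing.maximalIdeal A) n M →ₗ[A] E) = n ∧ associatedPrimes A (LocCoh.H (IsLocalRing.maximalIdeal A) n M →ₗ[A] E) = {p | p ∈ associatedPrimes A M ∧ ringKrullDim (A ⧸ p) = n} := by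
  obtain ⟨ω₀, hω₀⟩ := Groth.Agent.S0376.result A
  obtain ⟨ω, hω, hnω⟩ := Groth.Agent.H4DR.LD.exists_normalized' hω₀
  have key : ∀ i : ℕ, ∃ (N : Type u) (_ : AddCommGroup N) (_ : Module A N), Module.Finite A N ∧
      Nonempty ((LocCoh.H (IsLocalRing.maximalIdeal A) i M →ₗ[A] E) ≃ₗ[A] N) ∧
      Nonempty (N ≃ₗ[A] Groth.Agent.H4DR.Ext.Ex (Dual.inD A M) ω (-(i : ℤ))) := fun i => by
    obtain ⟨e⟩ := Groth.Agent.H4DR.LD.nonempty_duality_module hω hnω hf M i
    haveI := Groth.Agent.H4DR.Dualizing.finite_ex_dualizing hω M (-(i : ℤ))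
    obtain ⟨N, _, _, _, ⟨s⟩⟩ := Groth.Agent.H4DR.LD.exists_small_equiv A
      (Groth.Agent.H4DR.Ext.Ex (Dual.inD A M) ω (-(i : ℤ)))
    exact ⟨N, inferInstance, inferInstance, inferInstance,
      ⟨(LinearEquiv.congrLeft E A (e.trans (LinearEquiv.congrLeft E A s.symm))).trans
        (LinearEquiv.ofBijective _ (Groth.Agent.H4Matlis.bijective_applyₗ_of_finite hf N)).symm⟩, ⟨s⟩⟩
  refine ⟨fun i => ?_, ?_, ?_⟩
  · obtain ⟨N, _, _, _, ⟨e⟩, ⟨s⟩⟩ := key i
    refine ⟨Module.Finite.equiv e.symm, ?_⟩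
    rw [Module.supportDim_eq_of_equiv (e.trans s)]
    simpa using (Groth.Agent.H4DR.Dualizing.dimBound hω hnω M (-(i : ℤ))).1
  · obtain ⟨N, _, _, _, ⟨e⟩, ⟨s⟩⟩ := key n
    rw [Module.supportDim_eq_of_equiv (e.trans s)]
    refine le_antisymm ?_ (Groth.Agent.H4DR.Dualizing.top_spec hω hnω n M hn)
    simpa using (Groth.Agent.H4DR.Dualizing.dimBound hω hnω M (-(n : ℤ))).1
  · obtain ⟨N, _, _, _, ⟨e⟩, ⟨s⟩⟩ := key n
    rw [LinearEquiv.AssociatedPrimes.eq e]
    exact Groth.Agent.H4DR.Dualizing.associatedPrimes_top hω hnω M hn s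

end Groth.Agent.S2936
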