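import Groth.Statements.S2938
import Groth.Agent.H4LC.FlatBaseChange
import Groth.Agent.H4LC.Depth

set_option autoImplicit false
universe u
open scoped TensorProduct
open LocCoh

namespace Groth.Agent.S2938

/-- Suppose A and B are Noetherian rings with a ring map A → B, I is an ideal of A and M is a finitely
generated A-module. When B is A-flat, depth_{IB}(B ⊗_A M) ≥ depth_I(M); when B is faithfully flat
over A, the two depths are equal. -/
theorem result (A B : Type u) [CommRing A] [CommRing B] [Algebra A B] [IsNoetherianRing A] [IsNoetherianRing B] (I : Ideal A) (M : Type u) [AddCommGroup M] [Module A M] [Module.Finite A M] : (Module.Flat A B → LocCoh.idealDepth I M ≤ LocCoh.idealDepth (I.map (algebraMap A B)) (B ⊗[A] M)) ∧ (Module.FaithfullyFlat A B → LocCoh.idealDepth (I.map (algebraMap A B)) (B ⊗[A] M) = LocCoh.idealDepth I M) := by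
  have hle : Module.Flat A B → ∀ n : ℕ, (n : ℕ∞) ≤ LocCoh.idealDepth I M →
      (n : ℕ∞) ≤ LocCoh.idealDepth (I.map (algebraMap A B)) (B ⊗[A] M) := fun hfl n hn => by
    haveI := hfl
    rw [Groth.Agent.H4LC.le_idealDepth_iff_H] at hn ⊢
    intro i hi
    obtain ⟨e⟩ := Groth.Agent.H4LC.nonempty_baseChange_H B I M i
    haveI := hn i hi
    exact e.symm.injective.subsingleton
  refine ⟨fun hfl => ENat.forall_natCast_le_iff_le.1 (hle hfl), fun hff => ?_⟩
  haveI := hff
  refine le_antisymm (ENat.forall_natCast_le_iff_le.1 fun n hn => ?_) (ENat.forall_natCast_le_iff_le.1 (hle inferInstance))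
  rw [Groth.Agent.H4LC.le_idealDepth_iff_H] at hn ⊢
  intro i hi
  obtain ⟨e⟩ := Groth.Agent.H4LC.nonempty_baseChange_H B I M i
  haveI := hn i hi
  haveI : Subsingleton (B ⊗[A] LocCoh.H I i M) := e.injective.subsingleton
  exact Module.FaithfullyFlat.lTensor_reflects_triviality A B _

end Groth.Agent.S2938
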