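import Groth.Statements.S2940
import Groth.Agent.H23Para.Lift.Punctured

set_option autoImplicit false
universe u
open AlgebraicGeometry
open ParaF

namespace Groth.Agent.S2940

/-- Let A be a Noetherian local ring and J a proper ideal such that A/J has depth ≥ 3 and each
J^n/J^{n+1} is a free A/J-module. If every invertible module on the punctured spectrum of A/J is
isomorphic to the structure sheaf (A/J is parafactorial), then A has depth ≥ 3 and every invertible
module on the punctured spectrum of A is isomorphic to the structure sheaf (A is parafactorial). -/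
theorem result (A : Type u) [CommRing A] [IsLocalRing A] [IsNoetherianRing A] (J : Ideal A) (hJ : J ≠ ⊤) [IsLocalRing (A ⧸ J)] (hd : (3 : ℕ∞) ≤ LocCoh.depth (A ⧸ J) (A ⧸ J)) (hgr : ∀ n : ℕ, Module.Free (A ⧸ J) (↥(J ^ n) ⧸ (J • (⊤ : Submodule A ↥(J ^ n))))) (h0 : ∀ L : (↑(FEt.puncturedSpec (A ⧸ J)) : Scheme.{u}).Modules, PicF.IsInvertible L → Nonempty (L ≅ Coh.structureModule _)) : (3 : ℕ∞) ≤ LocCoh.depth A A ∧ ∀ L : (↑(FEt.puncturedSpec A) : Scheme.{u}).Modules, PicF.IsInvertible L → Nonempty (L ≅ Coh.structureModule _) := by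
  exact Groth.Agent.H23Para.Lift.depth_and_picTrivial A J hJ hd hgr h0

end Groth.Agent.S2940
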