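import Groth.Statements.S2942
import Groth.Agent.S8914
import Groth.Agent.H11Blow.Vanish
import Groth.Agent.H22Alg.ESZCM
import Groth.Agent.H10Coh.Pn.Hyper
import Groth.Agent.H10Coh.HHSeq

set_option autoImplicit false
universe u
open CategoryTheory AlgebraicGeometry
open Lef

set_option linter.style.haveILetI false
set_option backward.isDefEq.respectTransparency.types false

namespace Groth.Agent.S2942

/-- Over a field and for the structure sheaf. Let k be a field and X a proper k-scheme; let 𝓘 be a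
quasi-coherent ideal sheaf whose ideal module is invertible with an ample inverse L (so 𝓘 defines an
effective Cartier divisor Y with O_X(Y) = L ample), and suppose that at every closed point x the
local ring O_{X,x} has depth greater than n. Then there is m₀ such that for all m ≥ m₀ the map
H^i(X, O_X) → H^i(X, O_X/𝓘^{m+1}) induced by the quotient map is bijective for every i < n and
injective for i = n. -/
theorem result (k : Type u) [Field k] (X : Scheme.{u}) [X.Over (Spec (CommRingCat.of k))] [IsProper (X ↘ (Spec (CommRingCat.of k)))] (𝓘 : X.IdealSheafData) (L : X.Modules) (hL : ClSub.IsInverseOf L (ClSub.idealMod 𝓘)) (hamp : CohB1.IsAmple L) (n : ℕ) (hdepth : ∀ x : X, IsClosed ({x} : Set X) → (n : ℕ∞) < LocCoh.depth (X.presheaf.stalk x) (X.presheaf.stalk x)) : ∃ m₀ : ℕ, ∀ m : ℕ, m₀ ≤ m → (∀ i : ℕ, i < n → Function.Bijective (Sheaf.H.map ((SheafOfModules.toSheaf X.ringCatSheaf).map (ClSub.toSubscheme (𝓘 ^ (m + 1)))) i)) ∧ Function.Injective (Sheaf.H.map ((SheafOfModules.toSheaf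 X.ringCatSheaf).map (ClSub.toSubscheme (𝓘 ^ (m + 1)))) n) := by
  obtain ⟨e⟩ := hL
  have hinv : PicF.IsInvertible (ClSub.idealMod 𝓘) := Groth.Agent.H17.InvertibleTensor.isInvertible_of_tensor_iso
    (ClSub.idealMod 𝓘) L (Groth.Agent.H10Coh.Tw.commIso _ _ ≪≫ e)
  have hC := (Groth.Agent.S8914.result 𝓘).1 hinv
  obtain ⟨m₀, hm⟩ := Groth.Agent.H22Alg.ESZ.exists_bound_ample k hamp ⟨e⟩
    (Groth.Agent.H10Coh.isCoh_structureModule' X) n fun x hx => by rw [Groth.Agent.H22Alg.ESZCM.depth_structure]; exact hdepth x hx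
  refine ⟨m₀, fun m hm₀ => ?_⟩
  have hS := Groth.Agent.H10Coh.Hyper.idealSeq_shortExact (𝓘 ^ (m + 1))
  have hz : ∀ i ≤ n, Subsingleton (Coh.HH X (ClSub.idealMod (𝓘 ^ (m + 1))) i) := fun i hi => by
    obtain ⟨-, ⟨eI⟩⟩ := Groth.Agent.H11Blow.idealMod_pow hC (m + 1)
    exact Groth.Agent.H22Alg.ESZ.subsingleton_HH_iso (Groth.Agent.H10Coh.Tw.leftUnitIso _ ≪≫ eI.symm)
      (hm (m + 1) (by omega) i hi)
  have inj : ∀ i ≤ n, Function.Injective (Groth.Agent.LeadFF.Hm (ClSub.toSubscheme (𝓘 ^ (m + 1))) i) :=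
    fun i hi => (injective_iff_map_eq_zero _).2 fun x hx => by
      obtain ⟨y, rfl⟩ := Groth.Agent.LeadFF.exists_Hm_f hS i x hx
      refine (congrArg _ ((hz i hi).elim y 0)).trans (map_zero _)
  exact ⟨fun i hi => ⟨inj i hi.le, fun y => Groth.Agent.LeadFF.exists_Hm_g hS i y ((hz (i + 1) hi).elim _ _)⟩,
    inj n le_rfl⟩

end Groth.Agent.S2942
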