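import Groth.Statements.S2944
-- import your own Groth.Agent.* helpers here
import Groth.Agent.H3Lef.AmpleTwo

set_option autoImplicit false
universe u
open CategoryTheory CategoryTheory.Limits AlgebraicGeometry
open Lef

namespace Groth.Agent.S2944

/-- Case 'resp.', over S = Spec k: Let k be a field, X a proper k-scheme and 𝓘 a quasi-coherent ideal
sheaf whose ideal module is invertible with an ample inverse L (𝓘 defines an effective Cartier
divisor Y with O_X(Y) ample). If O_{X,x} has depth ≥ 2 at every closed point x, then Lef(X, Y)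
holds: for every open U ⊇ Y and every finite locally free O_U-module D, the map Hom(D, O_U) → lim_n
Hom(D, O_U/𝓘^{n+1}) is bijective (equivalently Γ(U, E) ≅ Γ(X̂, Ê) for every finite locally free E on
U). -/
theorem result (k : Type u) [Field k] (X : Scheme.{u}) [X.Over (Spec (CommRingCat.of k))] [IsProper (X ↘ (Spec (CommRingCat.of k)))] (𝓘 : X.IdealSheafData) (L : X.Modules) (hL : ClSub.IsInverseOf L (ClSub.idealMod 𝓘)) (hamp : CohB1.IsAmple L) (hdepth : ∀ x : X, IsClosed ({x} : Set X) → (2 : ℕ∞) ≤ LocCoh.depth (X.presheaf.stalk x) (X.presheaf.stalk x)) : Lef.LefCond X 𝓘 := by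
  exact Groth.Agent.H3Lef.lefCond k hL hamp hdepth

end Groth.Agent.S2944
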