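import Groth.Statements.S2946
import Groth.Agent.H05EGA4.LefConn

set_option autoImplicit false
universe u
open CategoryTheory CategoryTheory.Limits AlgebraicGeometry
open Lef

namespace Groth.Agent.S2946

/-- Let X be a locally Noetherian scheme and 𝓘 a quasi-coherent ideal sheaf with Y = V(𝓘), and suppose
Lef(X, Y) holds (this prelude's Lef.LefCond). Then for every open U of X containing Y, Y is
connected if and only if U is connected. -/
theorem result (X : Scheme.{u}) [IsLocallyNoetherian X] (𝓘 : X.IdealSheafData) (h : Lef.LefCond X 𝓘) (U : X.Opens) (hU : (𝓘.support : Set X) ⊆ (U : Set X)) : ConnectedSpace (𝓘.support : Set X) ↔ ConnectedSpace U := by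
  let J := 𝓘.comap U.ι
  have hb : Lef.HomToFormalBijective J (Coh.structureModule U) :=
    h U hU _ (Groth.Agent.H05EGA4.LefConn.isFinLocFree_unit _)
  have hJ : ∀ z : U, z ∈ (J.support : Set U) ↔ U.ι z ∈ (𝓘.support : Set X) := fun z => by
    show z ∈ (J.support : Set U) ↔ _
    rw [Scheme.IdealSheafData.support_comap]
    rfl
  let e : (J.support : Set U) ≃ₜ (𝓘.support : Set X) :=
    { toFun := fun z => ⟨z.1.1, (hJ z.1).1 z.2⟩
      invFun := fun y => ⟨⟨y.1, hU y.2⟩, (hJ ⟨y.1, hU y.2⟩).2 y.2⟩
      left_inv := fun z => rfl
      right_inv := fun y => rfl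
      continuous_toFun := (continuous_subtype_val.comp continuous_subtype_val).subtype_mk _
      continuous_invFun := ((continuous_subtype_val).subtype_mk _).subtype_mk _ }
  constructor
  · intro hY
    haveI := e.symm.surjective.connectedSpace e.symm.continuous
    exact Groth.Agent.H05EGA4.LefConn.connectedSpace_of_support hb this
  · intro hUc
    haveI := Groth.Agent.H05EGA4.LefConn.connectedSpace_support hb hUc
    exact e.surjective.connectedSpace e.continuous

end Groth.Agent.S2946
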