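import Groth.Statements.S2948
import Groth.Agent.H11Leff.PicSys

set_option autoImplicit false
universe u
open CategoryTheory CategoryTheory.Limits AlgebraicGeometry
open Lef

namespace Groth.Agent.S2948

/-- Let X be a locally Noetherian scheme, 𝓘 a quasi-coherent ideal sheaf with Y = V(𝓘), and p ≥ 0;
suppose Lef(X, Y) holds and H^1(X, 𝓘^{n+1}/𝓘^{n+2}) = 0 for every n ≥ p (these are the groups H^1(Y,
P_n) of the source, P_n being supported on Y). Then for every open U ⊇ Y and every n ≥ p, if two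
invertible O_U-modules have isomorphic pullbacks to the closed subscheme Y_n ∩ U = V(𝓘^{n+1}) ∩ U,
they are isomorphic. -/
theorem result (X : Scheme.{u}) [IsLocallyNoetherian X] (𝓘 : X.IdealSheafData) (h : Lef.LefCond X 𝓘) (p : ℕ) (hH1 : ∀ n : ℕ, p ≤ n → Subsingleton (Coh.HH X (kernel (Lef.quotMap (Lef.pow_succ_le 𝓘 n))) 1)) (U : X.Opens) (hU : (𝓘.support : Set X) ⊆ (U : Set X)) (n : ℕ) (hn : p ≤ n) (L L' : (U : Scheme.{u}).Modules) (hL : PicF.IsInvertible L) (hL' : PicF.IsInvertible L') (e : Nonempty ((Scheme.Modules.pullback (((𝓘.comap U.ι) ^ (n + 1)).subschemeι)).obj L ≅ (Scheme.Modules.pullback (((𝓘.comap U.ι) ^ (n + 1)).subschemeι)).obj L')) : Nonempty (L ≅ L') := by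
  obtain ⟨e⟩ := e
  exact H11Leff.PicSys.iso_of_level 𝓘 h hn hH1 U hU L L' hL hL' e

end Groth.Agent.S2948
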