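import Groth.Statements.S2951
import Groth.Agent.H23Para.Lift.Punctured
import Mathlib.RingTheory.Flat.EquationalCriterion

set_option autoImplicit false
universe u
open AlgebraicGeometry
open ParaF

namespace Groth.Agent.S2951

/-- Parafactoriality part, for the local rings. Let A → B be a flat local homomorphism of Noetherian
local rings and B₀ = B/m_A B. If B₀ has depth ≥ 3 and every invertible module on the punctured
spectrum of B₀ is isomorphic to the structure sheaf, then every invertible module on the punctured
spectrum of B is isomorphic to the structure sheaf. -/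
theorem result (A B : Type u) [CommRing A] [CommRing B] [IsLocalRing A] [IsLocalRing B] [IsNoetherianRing A] [IsNoetherianRing B] [Algebra A B] [IsLocalHom (algebraMap A B)] [Module.Flat A B] [IsLocalRing (B ⧸ (IsLocalRing.maximalIdeal A).map (algebraMap A B))] (hd : (3 : ℕ∞) ≤ LocCoh.depth (B ⧸ (IsLocalRing.maximalIdeal A).map (algebraMap A B)) (B ⧸ (IsLocalRing.maximalIdeal A).map (algebraMap A B))) (h0 : ∀ L : (↑(FEt.puncturedSpec (B ⧸ (IsLocalRing.maximalIdeal A).map (algebraMap A B))) : Scheme.{u}).Modules, PicF.IsInvertible L → Nonempty (L ≅ Coh.structureModule _)) (L : (↑(FEt.puncturedSpec B) : Scheme.{u}).Modules) (hL : PicF.IsInvertible L) : Nonempty (L ≅ Coh.structureModule _) := by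
  classical
  let φ := algebraMap A B
  let J := (IsLocalRing.maximalIdeal A).map φ
  have hJ : J ≠ ⊤ := ne_top_of_le_ne_top (IsLocalRing.maximalIdeal.isMaximal B).ne_top
    (((IsLocalRing.local_hom_TFAE φ).out 0 2).mp ‹_›)
  have hJn : ∀ n, J ^ n = (IsLocalRing.maximalIdeal A ^ n).map φ := fun n => (Ideal.map_pow _ _ n).symm
  have grB : ∀ n, Nonempty (Groth.Agent.H23Para.Lift.GrBasis J n) := fun n => by
    haveI : Module.Free (A ⧸ IsLocalRing.maximalIdeal A) (↥(IsLocalRing.maximalIdeal A ^ n) ⧸
        (IsLocalRing.maximalIdeal A • (⊤ : Submodule A ↥(IsLocalRing.maximalIdeal A ^ n)))) :=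
      letI := Ideal.Quotient.field (IsLocalRing.maximalIdeal A)
      Module.Free.of_divisionRing _ _
    obtain ⟨G⟩ := Groth.Agent.H23Para.Lift.nonempty_grBasis
      (IsLocalRing.maximalIdeal.isMaximal A).ne_top n ‹_›
    refine ⟨⟨G.r, fun l => φ (G.el l), fun l => hJn n ▸ Ideal.mem_map_of_mem φ (G.el_mem l), fun v hv => ?_,
      fun c hc l => ?_⟩⟩
    · rw [hJn] at hv
      induction hv using Submodule.span_induction with
      | mem v hv =>
        obtain ⟨a, ha, rfl⟩ := hv
        obtain ⟨c, hc⟩ := G.span a ha
        refine ⟨fun l => φ (c l), ?_⟩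
        have := Ideal.mem_map_of_mem φ hc
        rw [map_sub, map_sum] at this
        simpa [hJn, map_mul] using this
      | zero => exact ⟨0, by simp⟩
      | add v w _ _ hv hw =>
        obtain ⟨c, hc⟩ := hv
        obtain ⟨c', hc'⟩ := hw
        refine ⟨c + c', ?_⟩
        convert add_mem hc hc' using 1
        simp only [Pi.add_apply, add_mul, Finset.sum_add_distrib]
        abel
      | smul t v _ hv =>
        obtain ⟨c, hc⟩ := hv
        refine ⟨fun l => t * c l, ?_⟩
        convert Ideal.mul_mem_left _ t hc using 1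
        rw [mul_sub, Finset.mul_sum, smul_eq_mul]
        simp only [mul_assoc]
    · obtain ⟨S, hS⟩ := IsNoetherian.noetherian (IsLocalRing.maximalIdeal A ^ (n + 1))
      rw [hJn, ← hS, Ideal.submodule_span_eq, Ideal.map_span] at hc
      change _ ∈ Submodule.span B (φ '' (S : Set A)) at hc
      rw [← Finset.coe_image, Submodule.mem_span_finset] at hc
      obtain ⟨d, -, hd'⟩ := hc
      choose s hsS hs using fun i : ↥(S.image φ) => Finset.mem_image.mp i.2
      have hrel : ∑ i : Fin G.r ⊕ ↥(S.image φ), Sum.elim G.el (fun i => - s i) i •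
          Sum.elim c (fun i => d i.1) i = 0 := by
        rw [Fintype.sum_sum_type]
        simp only [Sum.elim_inl, Sum.elim_inr, Algebra.smul_def, map_neg, neg_mul, Finset.sum_neg_distrib]
        rw [← sub_eq_add_neg, sub_eq_zero]
        refine Eq.trans ?_ ((hd'.symm.trans (Finset.sum_coe_sort _ (fun i => d i • i)).symm).trans ?_)
        · exact Finset.sum_congr rfl fun l _ => mul_comm _ _
        · exact Finset.sum_congr rfl fun i _ => by
            show d i.1 * i.1 = φ (s i) * d i.1
            rw [hs i, mul_comm]
      obtain ⟨k, a, y, hx, ha⟩ := Module.Flat.isTrivialRelation_of_sum_smul_eq_zero (R := A) (M := B)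
        (f := Sum.elim G.el (fun i => - s i)) (x := Sum.elim c (fun i => d i.1)) hrel
      have hm : ∀ j l, a (Sum.inl l) j ∈ IsLocalRing.maximalIdeal A := fun j l => by
        refine G.indep (fun l => a (Sum.inl l) j) ?_ l
        have h := ha j
        rw [Fintype.sum_sum_type] at h
        simp only [Sum.elim_inl, Sum.elim_inr, neg_mul, Finset.sum_neg_distrib, ← sub_eq_add_neg, sub_eq_zero] at h
        rw [Finset.sum_congr rfl fun l _ => mul_comm (a (Sum.inl l) j) (G.el l), h]
        exact Submodule.sum_mem _ fun i _ => Ideal.mul_mem_right _ _ (hS ▸ Submodule.subset_span (hsS i))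
      have h := hx (Sum.inl l)
      simp only [Sum.elim_inl] at h
      rw [h]
      exact Submodule.sum_mem _ fun j _ => by
        rw [Algebra.smul_def]
        exact Ideal.mul_mem_right _ _ (Ideal.mem_map_of_mem φ (hm j l))
  exact (Groth.Agent.H23Para.Lift.depth_and_picTrivial_of_grBasis B J hJ hd (fun n => (grB n).some) h0).2 L hL

end Groth.Agent.S2951
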