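import Groth.Statements.S2954
import Groth.Agent.H21Root.Weyl

set_option autoImplicit false
open RootPairing
open scoped Pointwise
universe u
open RootD

namespace Groth.Agent.S2954

open Groth.Agent.H21Root

/-- For a finite crystallographic reduced root pairing (over a domain of characteristic zero), the Weyl
group acts freely and transitively on bases: for two bases b, b' there is exactly one element of the
Weyl group carrying the set of simple roots of b onto that of b'. -/
theorem result {ι R M N : Type*} [CommRing R] [CharZero R] [IsDomain R] [AddCommGroup M] [Module R M]
    [AddCommGroup N] [Module R N] (P : RootPairing ι R M N) [Finite ι] [P.IsCrystallographic] [P.IsReduced]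
    (b b' : P.Base) :
    ∃! g : P.weylGroup, (fun i : ι => (g : P.Aut) • i) '' (b.support : Set ι) = (b'.support : Set ι) := by
  exact existsUnique_weyl_simples (simpleZ_base b) (simpleZ_base b')

end Groth.Agent.S2954
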