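import Groth.Statements.S2955
import Groth.Agent.H21Root.Simple

set_option autoImplicit false
open RootPairing
open scoped Pointwise Classical
universe u
open RootD

namespace Groth.Agent.S2955

open Groth.Agent.H21Root RootPairing

/-- Let P be a finite crystallographic reduced root pairing over a domain of characteristic zero, with a
base b, and write 2ρ for the sum of the positive roots with respect to b. Then for every simple root
β (an index in the support of b) the reflection in β sends 2ρ to 2ρ − 2β (equivalently, the coroot
of β pairs to 1 with ρ; only the reflection identity is asserted). -/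
theorem result {ι R M N : Type*} [CommRing R] [CharZero R] [IsDomain R] [AddCommGroup M] [Module R M]
    [AddCommGroup N] [Module R N] (P : RootPairing ι R M N) [Finite ι] [P.IsCrystallographic] [P.IsReduced]
    [Fintype ι] (b : P.Base) (j : ι) (hj : j ∈ b.support) :
    P.reflection j (∑ i, if b.IsPos i then P.root i else 0) =
      (∑ i, if b.IsPos i then P.root i else 0) - (2 : R) • P.root j := by
  rw [← Finset.sum_filter, map_sum]
  have hne : ∀ i, b.IsPos i → i ≠ j → b.IsPos (P.reflectionPerm j i) := fun i hp hij => hp.reflectionPerm hj hij
  have hjp : b.IsPos j := Base.isPos_of_mem_support hj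
  have hmem : j ∈ Finset.univ.filter (fun i => b.IsPos i) := by simp [hjp]
  rw [← Finset.add_sum_erase _ _ hmem, ← Finset.add_sum_erase _ _ hmem, reflection_apply_self]
  have h : ∑ i ∈ (Finset.univ.filter fun i => b.IsPos i).erase j, P.reflection j (P.root i) =
      ∑ i ∈ (Finset.univ.filter fun i => b.IsPos i).erase j, P.root i := by
    refine Finset.sum_nbij' (fun i => P.reflectionPerm j i) (fun i => P.reflectionPerm j i) ?_ ?_
      (fun i _ => by simp) (fun i _ => by simp) (fun i _ => by rw [root_reflectionPerm]) <;>
    · intro i hi
      rw [Finset.mem_erase, Finset.mem_filter] at hi ⊢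
      refine ⟨fun e => ?_, Finset.mem_univ _, hne i hi.2.2 hi.1⟩
      have : i = opp P j := by rw [← P.reflectionPerm_self j i, e]
      rw [this] at hi
      exact (Base.IsPos.neg_iff_not b j).mp hi.2.2 hjp
  rw [h, two_smul]; abel

end Groth.Agent.S2955
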