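import Groth.Statements.S2957
import Groth.Agent.H21Root.Dominance

set_option autoImplicit false
open RootPairing
open scoped Pointwise
universe u
open RootD

namespace Groth.Agent.S2957

open Groth.Agent.H21Root RootPairing
theorem chain {ι R M N : Type*} [CommRing R] [CharZero R] [IsDomain R] [AddCommGroup M] [Module R M]
    [AddCommGroup N] [Module R N] (P : RootPairing ι R M N) [Finite ι] [P.IsCrystallographic]
    {Δ : Set ι} (hZ : SimpleZ P Δ) (n : ℕ) : ∀ (α : ι), α ∈ Δ → ∀ w : P.Aut, w ∈ WOf P Δ →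
      len P Δ w = n → w • α ∈ Δ →
    ∃ (m : ℕ) (a : Fin (m + 1) → ι) (ws : Fin m → P.Aut),
      (∀ i, a i ∈ Δ) ∧ a 0 = α ∧ a (Fin.last m) = w • α ∧
      (∀ i, ws i ∈ P.weylGroup) ∧
      w = (List.ofFn fun i : Fin m => ws (Fin.rev i)).prod ∧
      (∀ i : Fin m, ws i • a (Fin.castSucc i) = a (Fin.succ i)) ∧
      ∀ i : Fin m, ∃ γ ∈ Δ,
        ws i ∈ Subgroup.closure {RootPairing.Equiv.reflection P (a (Fin.castSucc i)), RootPairing.Equiv.reflection P γ} ∧
        (a (Fin.castSucc i) ≠ a (Fin.succ i) → γ = a (Fin.succ i)) := by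
  induction n using Nat.strong_induction_on with
  | _ n ih =>
    intro α hα w hw hlen hβ
    classical
    by_cases h1 : w = 1
    · subst h1
      exact ⟨0, fun _ => α, Fin.elim0, fun _ => hα, rfl, (one_smul _ α).symm, fun i => i.elim0,
        by simp, fun i => i.elim0, fun i => i.elim0⟩
    obtain ⟨γ, hγ, hγneg⟩ := hZ.exists_descent hw h1
    have hsub : ({α, γ} : Set ι) ⊆ Δ := by rintro x (rfl | rfl) <;> assumption
    have hWW : WOf P ({α, γ} : Set ι) ≤ WOf P Δ := Subgroup.closure_mono (Set.image_mono hsub)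
    have hex : ∃ k, ∃ u ∈ WOf P ({α, γ} : Set ι), len P Δ (w * u) = k := ⟨_, 1, one_mem _, rfl⟩
    obtain ⟨u₀, hu₀, hmin₀⟩ := Nat.find_spec hex
    set v := w * u₀ with hv
    have hvW : v ∈ WOf P Δ := mul_mem hw (hWW hu₀)
    have hmin : ∀ u ∈ WOf P ({α, γ} : Set ι), len P Δ v ≤ len P Δ (v * u) := fun u hu => by
      rw [hmin₀]
      exact Nat.find_min' hex ⟨u₀ * u, mul_mem hu₀ hu, by rw [hv, mul_assoc]⟩
    have hpos : ∀ c ∈ ({α, γ} : Set ι), v • c ∈ RootD.posOf P Δ := by
      intro c hc
      by_contra h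
      exact absurd (hmin _ (Subgroup.subset_closure ⟨c, hc, rfl⟩))
        (not_le.mpr (hZ.len_mul_lt hvW (hsub hc) h))
    have hlt : len P Δ v < n := by
      refine lt_of_le_of_lt ?_ (hlen ▸ hZ.len_mul_lt hw hγ hγneg)
      rw [hmin₀]
      exact Nat.find_min' hex ⟨_, Subgroup.subset_closure ⟨γ, by simp, rfl⟩, rfl⟩
    set u := u₀⁻¹ with hu_def
    have hu : u ∈ WOf P ({α, γ} : Set ι) := inv_mem hu₀
    have hwvu : w = v * u := by rw [hv, mul_inv_cancel_right]
    have huα : u • α ∈ ({α, γ} : Set ι) := by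
      have hspan : P.root (u • α) ∈ zspan P ({α, γ} : Set ι) := by
        obtain ⟨l, hl, he⟩ := exists_word P hu
        rw [← he]
        clear he
        induction l with
        | nil => rw [wl_nil, one_smul]; exact Submodule.subset_span ⟨α, by simp, rfl⟩
        | cons c l ih =>
          rw [wl_cons, mul_smul, sr_smul, root_reflectionPerm, reflection_apply_root, ← cast_pairingIn,
            Int.cast_smul_eq_zsmul]
          exact sub_mem (ih fun y hy => hl y (List.mem_cons_of_mem c hy))
            (Submodule.smul_mem _ _ (Submodule.subset_span ⟨c, hl c List.mem_cons_self, rfl⟩))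
      have hexp : ∀ k ∈ RootD.posOf P Δ, P.root k ∈ zspan P ({α, γ} : Set ι) →
          ∃ m q : Multiset ι, (∀ x ∈ m, x ∈ ({α, γ} : Set ι)) ∧ rsum P m = P.root k ∧
            (∀ x ∈ q, x ∈ Δ) ∧ rsum P q = P.root (v • k) ∧ Multiset.card m ≤ Multiset.card q ∧ m ≠ 0 := by
        intro k hk hks
        obtain ⟨m, hm0, hm, he⟩ := hZ.exists_rsum hk
        have hm' : ∀ x ∈ m, x ∈ ({α, γ} : Set ι) := fun x hx =>
          mem_of_nsmul_rsum_mem P hZ.li hsub one_pos hm (m' := 0) (by simp) (by simp)
            (by simpa [he] using hks) hx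
        have key : ∀ p : Multiset ι, (∀ x ∈ p, x ∈ ({α, γ} : Set ι)) → ∃ q : Multiset ι,
            (∀ x ∈ q, x ∈ Δ) ∧ rsum P q = v • rsum P p ∧ Multiset.card p ≤ Multiset.card q := by
          intro p hp
          induction p using Multiset.induction with
          | empty => exact ⟨0, by simp, by simp, le_refl _⟩
          | cons x p ih =>
            obtain ⟨q, hq, hqe, hqc⟩ := ih fun y hy => hp y (Multiset.mem_cons_of_mem hy)
            obtain ⟨q', hq0, hq', hqe'⟩ := hZ.exists_rsum (hpos x (hp x (Multiset.mem_cons_self x p)))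
            have := Multiset.card_pos.mpr hq0
            refine ⟨q' + q, fun y hy => (Multiset.mem_add.mp hy).elim (hq' y) (hq y), ?_, ?_⟩
            · rw [rsum_add, rsum_cons, hqe, hqe', smul_add, root_smul]
            · simp only [Multiset.card_cons, Multiset.card_add]; lia
        obtain ⟨q, hq, hqe, hqc⟩ := key m hm'
        exact ⟨m, q, hm', he, hq, by rw [hqe, he, root_smul], hqc, hm0⟩
      have hvu : v • (u • α) = w • α := by rw [← mul_smul, ← hwvu]
      rcases hZ.cover' (u • α) with h | h
      · obtain ⟨m, q, hm, he, hq, hqe, hc, hm0⟩ := hexp _ h hspan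
        have hq1 : q = {w • α} := rsum_inj P hZ.li hq (by simpa using hβ) (by rw [hqe, hvu, rsum_singleton])
        have hcard : Multiset.card m = 1 := by
          have := Multiset.card_pos.mpr hm0
          simp [hq1] at hc; lia
        obtain ⟨x, rfl⟩ := Multiset.card_eq_one.mp hcard
        have : x = u • α := P.root.injective (by simpa using he)
        exact this ▸ hm x (Multiset.mem_singleton_self x)
      · obtain ⟨m, q, hm, he, hq, hqe, hc, hm0⟩ := hexp _ h (by rw [root_opp]; exact Submodule.neg_mem _ hspan)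
        exfalso
        refine hZ.disjoint (subset_posOf P Δ hβ) ?_
        rw [← hvu, ← smul_opp]
        exact (mem_natSpan_iff P).mpr ⟨q, hq, hqe⟩
    obtain ⟨m, a, ws, ha, ha0, halast, hws, hprod, hstep, hcl⟩ :=
      ih _ hlt (u • α) (hsub huα) v hvW rfl (by rwa [← mul_smul, ← hwvu])
    refine ⟨m + 1, Fin.cons α a, Fin.cons u ws, Fin.cases (by simpa using hα) (by simpa using ha),
      by simp, ?_, Fin.cases (by simpa using WOf_le P _ hu) (by simpa using hws), ?_, ?_, ?_⟩
    · rw [← Fin.succ_last, Fin.cons_succ, halast, ← mul_smul, ← hwvu]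
    · rw [List.ofFn_succ', List.concat_eq_append, List.prod_append]
      simp only [Fin.rev_last, Fin.cons_zero, Fin.rev_castSucc, Fin.cons_succ, List.prod_singleton]
      rw [← hprod, ← hwvu]
    · refine Fin.cases ?_ (fun i => ?_)
      · simp only [Fin.castSucc_zero, Fin.cons_zero, Fin.cons_succ, ha0]
      · simpa [← Fin.succ_castSucc] using hstep i
    · refine Fin.cases ?_ (fun i => ?_)
      · refine ⟨γ, hγ, ?_, fun hne => ?_⟩
        · simp only [Fin.castSucc_zero, Fin.cons_zero]
          have := hu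
          rwa [WOf, Set.image_pair] at this
        · simp only [Fin.castSucc_zero, Fin.cons_zero, Fin.cons_succ, ha0] at hne ⊢
          rcases huα with h | h
          · exact absurd h.symm hne
          · exact h.symm
      · simpa [← Fin.succ_castSucc] using hcl i


/-- For a finite crystallographic reduced root pairing with a base b: let α, β be simple roots and w an
element of the Weyl group with w(α) = β. Then there are simple roots α = α_0, ..., α_m = β and Weyl
group elements w_0, ..., w_{m-1} with w = w_{m-1} ... w_0, w_i(α_i) = α_{i+1}, and each w_i lying in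
the subgroup generated by the reflections in α_i and in a simple root γ_i, where γ_i = α_{i+1}
whenever α_i ≠ α_{i+1}. -/
theorem result {ι R M N : Type*} [CommRing R] [CharZero R] [IsDomain R] [AddCommGroup M] [Module R M]
    [AddCommGroup N] [Module R N] (P : RootPairing ι R M N) [Finite ι] [P.IsCrystallographic] [P.IsReduced]
    (b : P.Base) (α β : ι) (hα : α ∈ b.support) (hβ : β ∈ b.support) (w : P.Aut) (hw : w ∈ P.weylGroup)
    (hwα : w • α = β) :
    ∃ (m : ℕ) (a : Fin (m + 1) → ι) (ws : Fin m → P.Aut),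
      (∀ i, a i ∈ b.support) ∧ a 0 = α ∧ a (Fin.last m) = β ∧
      (∀ i, ws i ∈ P.weylGroup) ∧
      w = (List.ofFn fun i : Fin m => ws (Fin.rev i)).prod ∧
      (∀ i : Fin m, ws i • a (Fin.castSucc i) = a (Fin.succ i)) ∧
      ∀ i : Fin m, ∃ γ ∈ b.support,
        ws i ∈ Subgroup.closure {Equiv.reflection P (a (Fin.castSucc i)), Equiv.reflection P γ} ∧
        (a (Fin.castSucc i) ≠ a (Fin.succ i) → γ = a (Fin.succ i)) := by
  have hZ := simpleZ_base b
  obtain ⟨m, a, ws, h1, h2, h3, h4, h5, h6, h7⟩ := chain P hZ _ α hα w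
    (hZ.closure_eq_weylGroup.symm ▸ hw) rfl (by rw [hwα]; exact hβ)
  exact ⟨m, a, ws, h1, h2, h3.trans hwα, h4, h5, h6, h7⟩

end Groth.Agent.S2957
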