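import Groth.Statements.S2964
import Mathlib.Algebra.Lie.Engel
import Mathlib.Algebra.Lie.BaseChange
import Mathlib.RingTheory.Localization.BaseChange
import Mathlib.RingTheory.LocalRing.ResidueField.Ideal
import Mathlib.Order.Zorn

set_option autoImplicit false
universe u
open scoped TensorProduct
open SGA3t2b

namespace Groth.Agent.S2964
open TensorProduct LieModule in
theorem aux {A : Type u} [CommRing A] {L : Type u} [LieRing L] [LieAlgebra A L] [Module.Finite A L]
    (h : ∀ p : PrimeSpectrum A, LieRing.IsNilpotent (p.asIdeal.ResidueField ⊗[A] L)) : LieRing.IsNilpotent L := by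
  let C : ℕ → Submodule A L := fun i => (lowerCentralSeries A L L i).toSubmodule
  have hC0 : C 0 = ⊤ := by simp [C]
  have hCs : ∀ i, C (i + 1) = Submodule.map₂ (LieModule.toEnd A L L : L →ₗ[A] Module.End A L) ⊤ (C i) := by
    intro i
    simp only [C, lowerCentralSeries_succ, LieSubmodule.lieIdeal_oper_eq_linear_span']
    rw [Submodule.map₂_eq_span_image2]
    refine congrArg _ (Set.ext fun z => ?_)
    constructor
    · rintro ⟨x, -, y, hy, rfl⟩; exact ⟨x, trivial, y, hy, rfl⟩
    · rintro ⟨x, -, y, hy, rfl⟩; exact ⟨x, trivial, y, hy, rfl⟩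
  have hfg : ∀ i, (C i).FG := fun i => by
    induction i with
    | zero => rw [hC0]; exact Module.Finite.fg_top
    | succ i ih => rw [hCs]; exact Submodule.FG.map₂ _ Module.Finite.fg_top ih
  have hanti : ∀ i j, i ≤ j → C j ≤ C i := fun i j hij => antitone_lowerCentralSeries A L L hij
  have hcomp : ∀ (J : Ideal A) (M : ℕ), C M ≤ J • ⊤ → ∀ i, C (M + i) ≤ J • C i := by
    intro J M hM i
    induction i with
    | zero => rw [add_zero, hC0]; exact hM
    | succ i ih =>
      rw [← add_assoc, hCs, hCs]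
      refine Submodule.map₂_le.mpr fun x _ y hy => ?_
      refine Submodule.smul_induction_on (ih hy) (fun r hr z hz => ?_) (fun a b ha hb => by rw [map_add]; exact add_mem ha hb)
      rw [map_smul]
      exact Submodule.smul_mem_smul hr (Submodule.apply_mem_map₂ _ trivial hz)
  suffices ∃ N, C N ≤ (⊥ : Ideal A) • ⊤ by
    obtain ⟨N, hN⟩ := this
    rw [LieRing.IsNilpotent, LieModule.isNilpotent_iff A]
    exact ⟨N, by rw [← LieSubmodule.toSubmodule_eq_bot]; simpa [C] using hN⟩
  by_contra hbot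
  let S : Set (Ideal A) := {I | ¬ ∃ N, C N ≤ I • ⊤}
  obtain ⟨I, -, hImax⟩ := zorn_le_nonempty₀ S (fun c hcS hc I0 hI0 => ⟨sSup c, by
    rintro ⟨N, hN⟩
    haveI : Nonempty c := ⟨⟨I0, hI0⟩⟩
    have e : sSup c • (⊤ : Submodule A L) = ⨆ z : c, (z : Ideal A) • ⊤ := by
      rw [sSup_eq_iSup', Submodule.iSup_smul]
    have hd : Directed (· ≤ ·) fun z : c => (z : Ideal A) • (⊤ : Submodule A L) := by
      intro x y
      rcases hc.total x.2 y.2 with hxy | hxy
      · exact ⟨y, Submodule.smul_mono_left hxy, le_rfl⟩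
      · exact ⟨x, le_rfl, Submodule.smul_mono_left hxy⟩
    rw [e] at hN
    obtain ⟨t, ht⟩ := hfg N
    have hmem : ∀ g : (t : Set L), ∃ z : c, (g : L) ∈ (z : Ideal A) • (⊤ : Submodule A L) := fun g =>
      (Submodule.mem_iSup_of_directed _ hd).mp (hN (ht ▸ Submodule.subset_span g.2))
    choose z hz using hmem
    obtain ⟨w, hw⟩ := hd.finset_le (Finset.univ.image z)
    refine hcS w.2 ⟨N, ?_⟩
    rw [← ht, Submodule.span_le]
    intro g hg
    exact hw _ (Finset.mem_image.mpr ⟨⟨g, hg⟩, Finset.mem_univ _, rfl⟩) (hz ⟨g, hg⟩), fun z hz => le_sSup hz⟩) ⊥ hbot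
  have hIS : ¬ ∃ N, C N ≤ I • ⊤ := hImax.prop
  have hmax : ∀ J, I < J → ∃ N, C N ≤ J • (⊤ : Submodule A L) := fun J hJ => by
    by_contra hno
    exact not_le_of_gt hJ (hImax.le_of_ge (show J ∈ S from hno) hJ.le)
  have hmul : ∀ J J' : Ideal A, J * J' ≤ I → (∃ N, C N ≤ J • (⊤ : Submodule A L)) →
      (∃ N, C N ≤ J' • (⊤ : Submodule A L)) → False := by
    rintro J J' hJJ ⟨M, hM⟩ ⟨N, hN⟩
    refine hIS ⟨M + N, (hcomp J M hM N).trans ?_⟩
    refine (Submodule.smul_mono (le_refl J) hN).trans ?_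
    rw [← Submodule.smul_assoc, smul_eq_mul]
    exact Submodule.smul_mono_left hJJ
  have hne : I ≠ ⊤ := fun hI => hIS ⟨0, by rw [hI, Submodule.top_smul]; exact le_top⟩
  haveI hIp : I.IsPrime := by
    refine ⟨hne, fun {a b} hab => or_iff_not_imp_left.mpr fun ha => by_contra fun hb => ?_⟩
    refine hmul (I ⊔ Ideal.span {a}) (I ⊔ Ideal.span {b}) ?_
      (hmax _ (left_lt_sup.mpr fun hle => ha (hle (Ideal.mem_span_singleton_self a))))
      (hmax _ (left_lt_sup.mpr fun hle => hb (hle (Ideal.mem_span_singleton_self b))))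
    simp only [Ideal.sup_mul, Ideal.mul_sup, Ideal.span_singleton_mul_span_singleton]
    refine sup_le (sup_le ?_ ?_) (sup_le ?_ ?_) <;>
      first | exact Ideal.mul_le_right | exact Ideal.mul_le_left | simpa using hab
  -- in the fibre at `I` a term of the series vanishes
  haveI : LieModule.IsNilpotent (I.ResidueField ⊗[A] L) (I.ResidueField ⊗[A] L) := h ⟨I, hIp⟩
  obtain ⟨m, hm⟩ := IsNilpotent.nilpotent I.ResidueField (I.ResidueField ⊗[A] L) (I.ResidueField ⊗[A] L)
  have hzero : ∀ y ∈ C m, ∃ a : A, a ∉ I ∧ a • y ∈ I • (⊤ : Submodule A L) := by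
    intro y hy
    have h1 : (1 : I.ResidueField) ⊗ₜ[A] y = 0 := by
      have h2 : (1 : I.ResidueField) ⊗ₜ[A] y ∈ (lowerCentralSeries A L L m).baseChange I.ResidueField :=
        Submodule.tmul_mem_baseChange_of_mem 1 hy
      rw [← LieSubmodule.lowerCentralSeries_tensor_eq_baseChange, hm] at h2
      exact h2
    let Q := L ⧸ (I • ⊤ : Submodule A L)
    let e : (A ⧸ I) ⊗[A] L ≃ₗ[A] Q := TensorProduct.quotTensorEquivQuotSMul L I
    have h2 : TensorProduct.mk (A ⧸ I) I.ResidueField ((A ⧸ I) ⊗[A] L) 1 ((1 : A ⧸ I) ⊗ₜ[A] y) = 0 := by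
      apply (TensorProduct.AlgebraTensorModule.cancelBaseChange A (A ⧸ I) (A ⧸ I) I.ResidueField L).injective
      rw [map_zero, TensorProduct.mk_apply, TensorProduct.AlgebraTensorModule.cancelBaseChange_tmul, one_smul, h1]
    obtain ⟨c, hc⟩ := (IsLocalizedModule.eq_zero_iff (nonZeroDivisors (A ⧸ I))
      (TensorProduct.mk (A ⧸ I) I.ResidueField ((A ⧸ I) ⊗[A] L) 1)).mp h2
    obtain ⟨a, ha⟩ := Ideal.Quotient.mk_surjective (c : A ⧸ I)
    refine ⟨a, fun haI => nonZeroDivisors.coe_ne_zero c (ha ▸ Ideal.Quotient.eq_zero_iff_mem.mpr haI), ?_⟩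
    have h3 : a • ((1 : A ⧸ I) ⊗ₜ[A] y) = 0 := by
      rw [← algebraMap_smul (A ⧸ I) a, Ideal.Quotient.algebraMap_eq, ha]; exact hc
    have h4 := congrArg e h3
    rw [map_smul, map_zero, show e ((1 : A ⧸ I) ⊗ₜ[A] y) = Submodule.Quotient.mk y by
      rw [show (1 : A ⧸ I) = Ideal.Quotient.mk I 1 from rfl, TensorProduct.quotTensorEquivQuotSMul_mk_tmul, one_smul]] at h4
    exact (Submodule.Quotient.mk_eq_zero _).mp h4
  obtain ⟨t, ht⟩ := hfg m
  choose a ha hay using fun g : (t : Set L) => hzero g (ht ▸ Submodule.subset_span g.2)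
  let s : A := ∏ g : (t : Set L), a g
  have hs : s ∉ I := fun hsI => by
    obtain ⟨g, -, hg⟩ := (Ideal.IsPrime.prod_mem_iff (p := I)).mp hsI
    exact ha g hg
  have hsC : C m ≤ (I • ⊤ : Submodule A L).comap (DistribSMul.toLinearMap A L s) := by
    rw [← ht, Submodule.span_le]
    intro g hg
    obtain ⟨r, hr⟩ := Finset.dvd_prod_of_mem a (Finset.mem_univ (⟨g, hg⟩ : (t : Set L)))
    show s • g ∈ (I • ⊤ : Submodule A L)
    rw [show s = r * a ⟨g, hg⟩ by rw [mul_comm]; exact hr, mul_smul]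
    exact Submodule.smul_mem _ r (hay ⟨g, hg⟩)
  obtain ⟨N, hN⟩ := hmax (I ⊔ Ideal.span {s}) (left_lt_sup.mpr fun hle => hs (hle (Ideal.mem_span_singleton_self s)))
  refine hIS ⟨N + m, (hcomp _ N hN m).trans (Submodule.smul_le.mpr fun r hr z hz => ?_)⟩
  obtain ⟨i, hi, j, hj, rfl⟩ := Submodule.mem_sup.mp hr
  obtain ⟨c, rfl⟩ := Ideal.mem_span_singleton'.mp hj
  rw [add_smul, mul_smul]
  exact add_mem (Submodule.smul_mem_smul hi trivial) (Submodule.smul_mem _ _ (hsC hz))

/-- (i) ⇒ (iii): let d be a Lie algebra over a commutative ring A which is finitely presented as an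
A-module. If for every prime p of A the fibre Lie algebra κ(p) ⊗_A d is nilpotent, then d is
nilpotent (its lower central series vanishes, i.e. there is N with ad(x_1) ⋯ ad(x_N) = 0 for all
x_i); and the same conclusion holds if ad(x) is nilpotent for every x in d. -/
theorem result {A : Type u} [CommRing A] {L : Type u} [LieRing L] [LieAlgebra A L]
    [Module.FinitePresentation A L] :
    ((∀ p : PrimeSpectrum A, LieRing.IsNilpotent (p.asIdeal.ResidueField ⊗[A] L)) → LieRing.IsNilpotent L) ∧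
    ((∀ x : L, IsNilpotent (LieAlgebra.ad A L x)) → LieRing.IsNilpotent L) := by
  refine ⟨fun h => aux h, fun hx => aux (A := A) fun p => ?_⟩
  rw [LieAlgebra.isNilpotent_iff_forall (R := p.asIdeal.ResidueField)]
  intro z
  let K := p.asIdeal.ResidueField
  have hz : ∃ (c : K) (x : L), c ≠ 0 ∧ c • z = (1 : K) ⊗ₜ[A] x := by
    induction z using TensorProduct.induction_on with
    | zero => exact ⟨1, 0, one_ne_zero, by simp⟩
    | tmul c x =>
      obtain ⟨u, v, hv, huv⟩ := IsFractionRing.div_surjective (A := A ⧸ p.asIdeal) c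
      obtain ⟨u, rfl⟩ := Ideal.Quotient.mk_surjective u
      refine ⟨algebraMap (A ⧸ p.asIdeal) K v, u • x, IsFractionRing.to_map_ne_zero_of_mem_nonZeroDivisors hv, ?_⟩
      rw [TensorProduct.smul_tmul', smul_eq_mul, ← huv, mul_div_cancel₀ _
        (IsFractionRing.to_map_ne_zero_of_mem_nonZeroDivisors hv), ← Ideal.Quotient.algebraMap_eq,
        ← IsScalarTower.algebraMap_apply A (A ⧸ p.asIdeal) K, Algebra.algebraMap_eq_smul_one,
        TensorProduct.smul_tmul]
    | add z w hz hw =>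
      obtain ⟨c, x, hc, hcx⟩ := hz
      obtain ⟨d, y, hd, hdy⟩ := hw
      obtain ⟨a, b, hb, hab⟩ := IsFractionRing.div_surjective (A := A ⧸ p.asIdeal) c
      obtain ⟨a', b', hb', hab'⟩ := IsFractionRing.div_surjective (A := A ⧸ p.asIdeal) d
      obtain ⟨a, rfl⟩ := Ideal.Quotient.mk_surjective a
      obtain ⟨b, rfl⟩ := Ideal.Quotient.mk_surjective b
      obtain ⟨a', rfl⟩ := Ideal.Quotient.mk_surjective a'
      obtain ⟨b', rfl⟩ := Ideal.Quotient.mk_surjective b'
      simp only [← Ideal.Quotient.algebraMap_eq, ← IsScalarTower.algebraMap_apply] at hab hab'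
      have hb0 : algebraMap A K b ≠ 0 := fun h => hc (by rw [← hab, h, div_zero])
      have hb0' : algebraMap A K b' ≠ 0 := fun h => hd (by rw [← hab', h, div_zero])
      have ha0 : algebraMap A K a ≠ 0 := fun h => hc (by rw [← hab, h, zero_div])
      have ha0' : algebraMap A K a' ≠ 0 := fun h => hd (by rw [← hab', h, zero_div])
      refine ⟨algebraMap A K a * algebraMap A K a', (a' * b) • x + (a * b') • y, mul_ne_zero ha0 ha0', ?_⟩
      have e1 : algebraMap A K a * algebraMap A K a' = algebraMap A K (a' * b) * c := by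
        rw [← hab, map_mul, mul_assoc, mul_div_cancel₀ _ hb0, mul_comm]
      have e2 : algebraMap A K a * algebraMap A K a' = algebraMap A K (a * b') * d := by
        rw [← hab', map_mul, mul_assoc, mul_div_cancel₀ _ hb0']
      rw [smul_add, TensorProduct.tmul_add]
      congr 1
      · rw [e1, mul_smul, hcx, algebraMap_smul, TensorProduct.tmul_smul]
      · rw [e2, mul_smul, hdy, algebraMap_smul, TensorProduct.tmul_smul]
  obtain ⟨c, x, hc, hcx⟩ := hz
  have e : LieAlgebra.ad K (K ⊗[A] L) ((1 : K) ⊗ₜ[A] x) = (LieAlgebra.ad A L x).baseChange K := by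
    ext y
    simp [LieAlgebra.ExtendScalars.bracket_tmul]
  have h1 : IsNilpotent (LieAlgebra.ad K (K ⊗[A] L) ((1 : K) ⊗ₜ[A] x)) := by
    rw [e]
    exact (hx x).map (Module.End.baseChangeHom A K L)
  rw [← hcx, map_smul] at h1
  obtain ⟨n, hn⟩ := h1
  exact ⟨n, by rw [smul_pow, smul_eq_zero] at hn; exact hn.resolve_left (pow_ne_zero n hc)⟩

end Groth.Agent.S2964
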