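import Groth.Statements.S2965
import Mathlib.RingTheory.Polynomial.Basic
import Mathlib.LinearAlgebra.Charpoly.Basic

set_option autoImplicit false
universe u
open SGA3t2b

namespace Groth.Agent.S2965

open Polynomial in
/-- Implication (iv) ⇒ (i) (global form, finite free module): let u be an endomorphism of a finite free
module M over a commutative ring A whose characteristic polynomial is X^r · Q with Q(0) invertible.
Then M is the direct sum of two u-stable submodules M', M'' such that u is nilpotent on M' and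
bijective on M''. -/
theorem result {A : Type u} [CommRing A] {M : Type u} [AddCommGroup M] [Module A M]
    [Module.Free A M] [Module.Finite A M] (u : M →ₗ[A] M) (r : ℕ) (Q : A[X]) (hQ : IsUnit (Q.coeff 0))
    (h : u.charpoly = X ^ r * Q) :
    ∃ M' M'' : Submodule A M, IsCompl M' M'' ∧ (∀ x ∈ M', u x ∈ M') ∧ (∀ x ∈ M'', u x ∈ M'') ∧
      (∃ n : ℕ, ∀ x ∈ M', (u ^ n) x = 0) ∧ Set.BijOn u M'' M'' := by
  have hcop : IsCoprime (X ^ r : A[X]) Q := by
    refine IsCoprime.pow_left ?_
    obtain ⟨a, ha⟩ := hQ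
    refine ⟨-(C (↑a⁻¹ : A)) * Q.divX, C (↑a⁻¹ : A), ?_⟩
    conv_lhs => arg 2; rw [← Q.divX_mul_X_add, ← ha]
    rw [mul_add, ← map_mul, Units.inv_mul, map_one]
    ring
  have hX : ∀ x, aeval u (X ^ r : A[X]) x = (u ^ r) x := fun x => by simp
  refine ⟨LinearMap.ker (aeval u (X ^ r : A[X])), LinearMap.ker (aeval u Q), ⟨?_, ?_⟩, ?_, ?_, ⟨r, ?_⟩, ?_⟩
  · exact Polynomial.disjoint_ker_aeval_of_isCoprime u hcop
  · rw [codisjoint_iff, Polynomial.sup_ker_aeval_eq_ker_aeval_mul_of_coprime u hcop, ← h, LinearMap.aeval_self_charpoly,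
      LinearMap.ker_zero]
  · intro x hx
    rw [LinearMap.mem_ker, hX] at hx ⊢
    rw [← Module.End.mul_apply, ← pow_succ, pow_succ', Module.End.mul_apply, hx, map_zero]
  · intro x hx
    rw [LinearMap.mem_ker] at hx ⊢
    have := LinearMap.congr_fun (congrArg (aeval u) (mul_comm Q (X : A[X]))) x
    simp only [map_mul, aeval_X, Module.End.mul_apply] at this
    rw [this, hx, map_zero]
  · intro x hx
    rwa [LinearMap.mem_ker, hX] at hx
  · obtain ⟨a, ha⟩ := hQ
    let v : M →ₗ[A] M := aeval u (-(C (↑a⁻¹ : A)) * Q.divX)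
    have hcomm : ∀ (P P' : A[X]) (x : M), aeval u P (aeval u P' x) = aeval u (P * P') x := fun P P' x => by
      rw [map_mul, Module.End.mul_apply]
    have hval : ∀ x ∈ LinearMap.ker (aeval u Q), aeval u (-(C (↑a⁻¹ : A)) * Q.divX * X) x = x := by
      intro x hx
      have e : -(C (↑a⁻¹ : A)) * Q.divX * X = 1 - C (↑a⁻¹ : A) * Q := by
        conv_rhs => arg 2; arg 2; rw [← Q.divX_mul_X_add, ← ha]
        rw [mul_add, ← map_mul, Units.inv_mul, map_one]
        ring
      rw [e, map_sub, map_one, LinearMap.sub_apply, map_mul, Module.End.mul_apply, LinearMap.mem_ker.mp hx,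
        map_zero, sub_zero, Module.End.one_apply]
    refine Set.BijOn.mk ?_ ?_ ?_
    · intro x hx
      rw [SetLike.mem_coe, LinearMap.mem_ker] at hx ⊢
      have h1 : aeval u Q (u x) = aeval u (Q * X) x := by rw [← hcomm, aeval_X]
      rw [h1, mul_comm, map_mul, Module.End.mul_apply, hx, map_zero]
    · intro x hx y hy hxy
      have e : ∀ z ∈ LinearMap.ker (aeval u Q), v (u z) = z := fun z hz => by
        conv_rhs => rw [← hval z hz, ← hcomm, aeval_X]
      rw [← e x hx, ← e y hy, hxy]
    · intro y hy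
      refine ⟨v y, ?_, ?_⟩
      · rw [SetLike.mem_coe, LinearMap.mem_ker] at hy ⊢
        rw [hcomm, mul_comm, ← hcomm, hy, map_zero]
      · conv_rhs => rw [← hval y hy, mul_comm, ← hcomm, aeval_X]

end Groth.Agent.S2965
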