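import Groth.Statements.S2967
import Mathlib.LinearAlgebra.Finsupp.Span

set_option autoImplicit false
universe u
open SGA3t2b

namespace Groth.Agent.S2967

/-- A commutative p-Lie algebra over a field k of characteristic p is recorded as a k-vector space g
together with its p-th power map φ, which is additive and Frobenius-semilinear. Let g be
finite-dimensional and non-zero, and assume every element of g is killed by some iterate of φ (g is
unipotent). Then the k-subspace of g spanned by the image φ(g) is a proper subspace. -/
theorem result {k : Type u} [Field k] (p : ℕ) [Fact p.Prime] [CharP k p]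
    {V : Type u} [AddCommGroup V] [Module k V] [FiniteDimensional k V] [Nontrivial V]
    (φ : V →ₛₗ[frobenius k p] V) (hφ : ∀ x : V, ∃ n : ℕ, φ^[n] x = 0) :
    Submodule.span k (Set.range φ) ≠ ⊤ := by
  intro htop
  have hsp : ∀ n, Submodule.span k (Set.range φ^[n]) = ⊤ := by
    intro n
    induction n with
    | zero => simp
    | succ n ih =>
      refine top_le_iff.mp (htop ▸ Submodule.span_le.mpr ?_)
      rintro _ ⟨x, rfl⟩
      have hx : x ∈ Submodule.span k (Set.range φ^[n]) := by rw [ih]; trivial
      induction hx using Submodule.span_induction with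
      | mem y hy =>
        obtain ⟨z, rfl⟩ := hy
        exact Submodule.subset_span ⟨z, Function.iterate_succ_apply' φ n z⟩
      | zero => rw [map_zero]; exact zero_mem _
      | add a b _ _ ha hb => rw [map_add]; exact add_mem ha hb
      | smul c a _ ha => rw [LinearMap.map_smulₛₗ]; exact Submodule.smul_mem _ _ ha
  let bas := Module.finBasis k V
  choose n hn using fun i => hφ (bas i)
  have hmono : ∀ (a b : ℕ) (x : V), φ^[a] x = 0 → a ≤ b → φ^[b] x = 0 := by
    intro a b x hx hab
    obtain ⟨c, rfl⟩ := Nat.exists_eq_add_of_le hab
    rw [add_comm, Function.iterate_add_apply, hx, iterate_map_zero]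
  let N := Finset.univ.sup n
  have hN : ∀ x : V, φ^[N] x = 0 := by
    intro x
    have hx : x ∈ Submodule.span k (Set.range bas) := by rw [bas.span_eq]; trivial
    induction hx using Submodule.span_induction with
    | mem y hy => obtain ⟨i, rfl⟩ := hy; exact hmono _ _ _ (hn i) (Finset.le_sup (Finset.mem_univ i))
    | zero => exact iterate_map_zero φ N
    | add a b _ _ ha hb => rw [iterate_map_add, ha, hb, add_zero]
    | smul c a _ ha =>
      have : ∀ (m : ℕ) (c : k) (a : V), ∃ d : k, φ^[m] (c • a) = d • φ^[m] a := by
        intro m
        induction m with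
        | zero => intro c a; exact ⟨c, rfl⟩
        | succ m ih =>
          intro c a
          obtain ⟨d, hd⟩ := ih (frobenius k p c) (φ a)
          exact ⟨d, by rw [Function.iterate_succ_apply, LinearMap.map_smulₛₗ, hd, ← Function.iterate_succ_apply]⟩
      obtain ⟨d, hd⟩ := this N c a
      rw [hd, ha, smul_zero]
  have h0 := hsp N
  rw [show Set.range φ^[N] = {0} from Set.ext fun y => ⟨fun ⟨x, hx⟩ => hx ▸ hN x, fun hy => ⟨0, hy ▸ hN 0⟩⟩,
    Submodule.span_zero_singleton] at h0
  exact bot_ne_top h0

end Groth.Agent.S2967
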