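import Groth.Statements.S2968
import Groth.Agent.H20Comod.UniPow

set_option autoImplicit false
universe u
open SGA3t2b

namespace Groth.Agent.S2968
open Groth.Agent.H20Comod WithConv TensorProduct

/-- In characteristic p, in Hopf-algebra form (with unipotent in the representation-theoretic sense
`HopfRep.IsUnipotent`): let k be a field of characteristic p > 0 and A a finite-type commutative
Hopf algebra over k (the coordinate Hopf algebra of an affine algebraic k-group) which is unipotent.
Then the Lie algebra of the group is a unipotent p-Lie algebra: for every ε-derivation D : A -> k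
there is n > 0 such that the iterated p-operation of D, computed here as the p^n-fold convolution
power of D (this is how the p-operation is rendered in this statement; its axioms are not proved
here), vanishes. -/
theorem result {k : Type u} [Field k] (p : ℕ) [Fact p.Prime] [CharP k p] {A : Type u} [CommRing A]
    [HopfAlgebra k A] [Algebra.FiniteType k A] (hU : HopfRep.IsUnipotent k A) (D : LieHopf.Lie k A) :
    ∃ n : ℕ, 0 < n ∧ LieHopf.convPow (D.toLinearMap.restrictScalars k ∘ₗ LinearMap.id) (p ^ n) = 0 := by
  classical
  let d : A →ₗ[k] k := D.toLinearMap.restrictScalars k ∘ₗ LinearMap.id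
  have hd : ∀ a b : A, d (a * b) = CoalgebraStruct.counit (R := k) a * d b + CoalgebraStruct.counit (R := k) b * d a := by
    intro a b
    show (D (a * b) : LieHopf.K k A) = _
    rw [D.leibniz a b, LieHopf.smul_def, LieHopf.smul_def]
    rfl
  have hd1 : d 1 = 0 := D.map_one_eq_zero
  let x : WithConv (A →ₗ[k] k) := toConv d
  have hconv : ∀ f g : A →ₗ[k] k, LieHopf.conv f g = (toConv f * toConv g).ofConv := fun f g => rfl
  have hp0 : ∀ N, LieHopf.convPow d N = (x ^ N).ofConv := by
    intro N
    induction N with
    | zero =>
      rw [pow_zero, LinearMap.convOne_def]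
      rfl
    | succ N ih =>
      show LieHopf.conv (LieHopf.convPow d N) d = _
      rw [hconv, ih, toConv_ofConv, pow_succ]
  have hleib : ∀ (N : ℕ) (a b : A), (x ^ N).ofConv (a * b) =
      ∑ i ∈ Finset.range (N + 1), N.choose i • ((x ^ i).ofConv a * (x ^ (N - i)).ofConv b) := by
    intro N
    induction N with
    | zero =>
      intro a b
      rw [Finset.sum_range_one, Nat.choose_self, one_smul, Nat.sub_self, pow_zero]
      simp [LinearMap.convOne_def, Bialgebra.counit_mul]
    | succ N ih =>
      intro a b
      have key : ∀ z w : A ⊗[k] A, LinearMap.mul' k k (TensorProduct.map (x ^ N).ofConv d (z * w)) =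
          ∑ i ∈ Finset.range (N + 1), N.choose i •
            (LinearMap.mul' k k (TensorProduct.map (x ^ i).ofConv d z) *
              LinearMap.mul' k k (TensorProduct.map (x ^ (N - i)).ofConv (CoalgebraStruct.counit (R := k)) w) +
            LinearMap.mul' k k (TensorProduct.map (x ^ i).ofConv (CoalgebraStruct.counit (R := k)) z) *
              LinearMap.mul' k k (TensorProduct.map (x ^ (N - i)).ofConv d w)) := by
        intro z w
        induction z using TensorProduct.induction_on with
        | zero => simp
        | tmul p q =>
          induction w using TensorProduct.induction_on with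
          | zero => simp
          | tmul r s =>
            simp only [Algebra.TensorProduct.tmul_mul_tmul, TensorProduct.map_tmul, LinearMap.mul'_apply, hd, ih,
              Finset.sum_mul, nsmul_eq_mul]
            exact Finset.sum_congr rfl fun i _ => by ring
          | add u v hu hv =>
            simp only [mul_add, map_add, hu, hv, ← Finset.sum_add_distrib]
            exact Finset.sum_congr rfl fun i _ => by simp only [← smul_add]; congr 1; ring
        | add u v hu hv =>
          simp only [add_mul, map_add, hu, hv, ← Finset.sum_add_distrib]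
          exact Finset.sum_congr rfl fun i _ => by simp only [← smul_add]; congr 1; ring
      have h1 : ∀ (i : ℕ) (c : A), LinearMap.mul' k k (TensorProduct.map (x ^ i).ofConv d
          (CoalgebraStruct.comul (R := k) c)) = (x ^ (i + 1)).ofConv c := fun i c => by rw [pow_succ]; rfl
      have h2 : ∀ (i : ℕ) (c : A), LinearMap.mul' k k (TensorProduct.map (x ^ i).ofConv
          (CoalgebraStruct.counit (R := k)) (CoalgebraStruct.comul (R := k) c)) = (x ^ i).ofConv c := fun i c => by
        have h := congrArg (fun f : A →ₗ[k] k => f c) (conv_counit (x ^ i).ofConv)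
        exact h
      rw [pow_succ, show (x ^ N * x).ofConv (a * b) = LinearMap.mul' k k (TensorProduct.map (x ^ N).ofConv d
        (CoalgebraStruct.comul (R := k) (a * b))) from rfl, Bialgebra.comul_mul, key]
      simp only [h1, h2]
      simp only [smul_add, Finset.sum_add_distrib]
      rw [Finset.sum_choose_succ_nsmul (fun i j => (x ^ i).ofConv a * (x ^ j).ofConv b) N]
      rw [add_comm (∑ i ∈ Finset.range (N + 1), N.choose i • ((x ^ (i + 1)).ofConv a * _))]
      congr 1
      · exact Finset.sum_congr rfl fun i hi => by rw [Nat.succ_sub (Nat.lt_succ_iff.1 (Finset.mem_range.1 hi))]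
  obtain ⟨T, hT⟩ := (Algebra.FiniteType.out : (⊤ : Subalgebra k A).FG)
  choose r hr using fun a : A => exists_mem_coFil hU a
  let n := T.sup r + 1
  let N := p ^ n
  have hN : T.sup r < N := lt_trans (Nat.lt_succ_self _) (Nat.lt_pow_self (Fact.out : p.Prime).one_lt)
  refine ⟨n, Nat.succ_pos _, ?_⟩
  show LieHopf.convPow d N = 0
  rw [hp0]
  have hgen : ∀ a ∈ T, (x ^ N).ofConv a = 0 := fun a ha =>
    convPow_apply_eq_zero hd1 N (r a) (lt_of_le_of_lt (Finset.le_sup ha) hN) a (hr a)
  have h0 : ∀ c : A, (x ^ 0).ofConv c = CoalgebraStruct.counit (R := k) c := fun c => by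
    rw [pow_zero, LinearMap.convOne_def]; rfl
  have hmul : ∀ a b : A, (x ^ N).ofConv (a * b) = CoalgebraStruct.counit (R := k) a * (x ^ N).ofConv b +
      (x ^ N).ofConv a * CoalgebraStruct.counit (R := k) b := by
    intro a b
    rw [hleib, Finset.sum_range_succ, Finset.sum_eq_single 0, Nat.choose_zero_right, Nat.choose_self, one_smul,
      one_smul, Nat.sub_self, Nat.sub_zero, h0, h0]
    · intro i hi hi0
      rw [nsmul_eq_mul, (CharP.cast_eq_zero_iff k p _).2 ((Fact.out : p.Prime).dvd_choose_pow hi0 (Finset.mem_range.1 hi).ne),
        zero_mul]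
    · intro h
      exact absurd (Finset.mem_range.2 (pow_pos (Fact.out : p.Prime).pos n)) h
  have h1 : (x ^ N).ofConv 1 = 0 := by
    have := hmul 1 1
    rw [one_mul, Bialgebra.counit_one, one_mul, mul_one] at this
    simpa using this
  refine LinearMap.ext fun a => ?_
  have ha : a ∈ Algebra.adjoin k (T : Set A) := hT ▸ Algebra.mem_top
  induction ha using Algebra.adjoin_induction with
  | mem a ha => exact hgen a ha
  | algebraMap c => rw [Algebra.algebraMap_eq_smul_one, map_smul, h1, smul_zero, LinearMap.zero_apply]
  | add a b _ _ ha hb => rw [map_add, ha, hb, map_add]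
  | mul a b _ _ ha hb => rw [hmul, ha, hb]; simp

end Groth.Agent.S2968
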