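import Groth.Statements.S2971
import Mathlib
import Groth.Agent.H19Mult.LiftDiag
import Groth.Agent.H19Mult.BaseChange
import Groth.Agent.H19Mult.EtaleLiftNil

set_option autoImplicit false
set_option linter.style.haveILetI false
set_option backward.isDefEq.respectTransparency false
universe u
open TensorProduct SGA3b
open SGA3b

namespace Groth.Agent.S2971

theorem lift_cover {R : Type u} [CommRing R] {A : Type u} [CommRing A] [HopfAlgebra R A] (h : SGA3b.IsMultType R A)
    {R₀ : Type u} [CommRing R₀] [Algebra R R₀] (hg : Function.Surjective (algebraMap R R₀))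
    (hker : ∀ x ∈ RingHom.ker (algebraMap R R₀), IsNilpotent x)
    (C : Type u) [CommRing C] [Algebra R₀ C] [Algebra R C] [IsScalarTower R R₀ C] [Algebra.Etale R₀ C]
    [Module.FaithfullyFlat R₀ C] (hd : SGA3b.IsDiag C (C ⊗[R] A)) :
    ∃ (S : Type u) (_ : CommRing S) (_ : Algebra R S), Algebra.Etale R S ∧ Module.FaithfullyFlat R S ∧
      (Module.Finite R₀ C → Module.Finite R S) ∧ SGA3b.IsDiag S (S ⊗[R] A) := by
  obtain ⟨S, _, _, hE, hF, hfin, π, hπ, hπk, -⟩ := H19Mult.exists_etale_lift_nil hg hker C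
  letI : Algebra S C := π.toRingHom.toAlgebra
  haveI : IsScalarTower R S C := IsScalarTower.of_algebraMap_eq fun r => (π.commutes r).symm
  exact ⟨S, inferInstance, inferInstance, hE, hF, hfin,
    H19Mult.isDiag_of_isDiag_nil (H19Mult.isMultType_baseChange h S) (R₀ := C) hπ hπk
      ((H19Mult.isDiag_cancel S C).2 hd)⟩

theorem surj_away {R : Type u} [CommRing R] (I : Ideal R) (hI : ∀ x ∈ I, IsNilpotent x) (f : R)
    [Algebra (Localization.Away f) (Localization.Away (Ideal.Quotient.mk I f))]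
    [IsScalarTower R (Localization.Away f) (Localization.Away (Ideal.Quotient.mk I f))] :
    Function.Surjective (algebraMap (Localization.Away f) (Localization.Away (Ideal.Quotient.mk I f))) ∧
      ∀ x ∈ RingHom.ker (algebraMap (Localization.Away f) (Localization.Away (Ideal.Quotient.mk I f))),
        IsNilpotent x := by
  let Rf := Localization.Away f
  let R₀f := Localization.Away (Ideal.Quotient.mk I f)
  have hpow : ∀ n : ℕ, algebraMap (R ⧸ I) R₀f (Ideal.Quotient.mk I f ^ n) = algebraMap Rf R₀f (algebraMap R Rf (f ^ n)) := by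
    intro n
    rw [← map_pow (Ideal.Quotient.mk I), ← IsScalarTower.algebraMap_apply,
      IsScalarTower.algebraMap_apply R (R ⧸ I) R₀f]
    rfl
  constructor
  · intro y
    obtain ⟨⟨a, ⟨_, n, rfl⟩⟩, rfl⟩ := IsLocalization.mk'_surjective (Submonoid.powers (Ideal.Quotient.mk I f)) y
    obtain ⟨a, rfl⟩ := Ideal.Quotient.mk_surjective a
    refine ⟨IsLocalization.mk' Rf a (⟨f ^ n, n, rfl⟩ : Submonoid.powers f), ?_⟩
    symm
    rw [IsLocalization.mk'_eq_iff_eq_mul]
    show algebraMap (R ⧸ I) R₀f (Ideal.Quotient.mk I a) = _ * algebraMap (R ⧸ I) R₀f (Ideal.Quotient.mk I f ^ n)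
    rw [hpow, ← map_mul, IsLocalization.mk'_spec, ← IsScalarTower.algebraMap_apply,
      IsScalarTower.algebraMap_apply R (R ⧸ I) R₀f]
    rfl
  · intro x hx
    obtain ⟨⟨a, s⟩, rfl⟩ := IsLocalization.mk'_surjective (Submonoid.powers f) x
    have h0 : algebraMap R R₀f a = 0 := by
      rw [IsScalarTower.algebraMap_apply R Rf R₀f, ← IsLocalization.mk'_spec Rf a s, map_mul, RingHom.mem_ker.1 hx,
        zero_mul]
    rw [IsScalarTower.algebraMap_apply R (R ⧸ I) R₀f, Ideal.Quotient.algebraMap_eq,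
      IsLocalization.map_eq_zero_iff (Submonoid.powers (Ideal.Quotient.mk I f))] at h0
    obtain ⟨⟨_, n, rfl⟩, hn⟩ := h0
    have : IsNilpotent (algebraMap R Rf (f ^ n * a)) :=
      (hI _ (Ideal.Quotient.eq_zero_iff_mem.1 (by rw [map_mul, map_pow]; exact hn))).map _
    rw [map_mul, ← IsLocalization.mk'_spec Rf a s, ← mul_comm (algebraMap R Rf s), ← mul_assoc, ← map_mul] at this
    exact mem_nilradical.1 ((Ideal.unit_mul_mem_iff_mem _ (IsLocalization.map_units Rf
      (⟨f ^ n, n, rfl⟩ * s : Submonoid.powers f))).1 (mem_nilradical.2 this))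


/-- Let R be a ring, I an ideal consisting of nilpotent elements and H = Spec A an R-group of
multiplicative type. If the base change of H to R/I is isotrivial (resp. quasi-isotrivial), so is H.
(Affine group schemes over an affine base are taken in Hopf-algebra form; base change is the tensor
product.) -/
theorem result (R : Type u) [CommRing R] (A : Type u) [CommRing A] [HopfAlgebra R A] (I : Ideal R) (hI : ∀ x ∈ I, IsNilpotent x) (h : IsMultType R A) :
    (IsIsotrivial (R ⧸ I) ((R ⧸ I) ⊗[R] A) → IsIsotrivial R A) ∧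
    (IsQuasiIsotrivial (R ⧸ I) ((R ⧸ I) ⊗[R] A) → IsQuasiIsotrivial R A) := by
  constructor
  · rintro ⟨C, _, _, hE, hfin, hF, hd⟩
    letI : Algebra R C := ((algebraMap (R ⧸ I) C).comp (algebraMap R (R ⧸ I))).toAlgebra
    haveI : IsScalarTower R (R ⧸ I) C := IsScalarTower.of_algebraMap_eq' rfl
    obtain ⟨S, _, _, hSE, hSF, hSfin, hSd⟩ := lift_cover h (R₀ := R ⧸ I) Ideal.Quotient.mk_surjective
      (fun x hx => hI x (Ideal.Quotient.eq_zero_iff_mem.1 hx)) C ((H19Mult.isDiag_cancel (R ⧸ I) C).1 hd)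
    exact ⟨S, inferInstance, inferInstance, hSE, hSfin hfin, hSF, hSd⟩
  · rintro ⟨s, hs, hs'⟩
    refine ⟨(Ideal.Quotient.mk I) ⁻¹' s, ?_, fun f hf => ?_⟩
    · by_contra hne
      obtain ⟨m, hm, hle⟩ := Ideal.exists_le_maximal _ hne
      have hIm : I ≤ m := fun r hr => by
        obtain ⟨n, hn⟩ := hI r hr
        exact hm.isPrime.mem_of_pow_mem n (hn ▸ zero_mem _)
      have : Ideal.span s ≤ Ideal.map (Ideal.Quotient.mk I) m := Ideal.span_le.2 fun x hx => by
        obtain ⟨x, rfl⟩ := Ideal.Quotient.mk_surjective x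
        exact Ideal.mem_map_of_mem _ (hle (Ideal.subset_span hx))
      rw [hs, top_le_iff, ← Ideal.comap_eq_top_iff (f := Ideal.Quotient.mk I), Ideal.comap_map_of_surjective _
        Ideal.Quotient.mk_surjective, ← RingHom.ker_eq_comap_bot, Ideal.mk_ker, sup_eq_left.2 hIm] at this
      exact hm.ne_top this
    · obtain ⟨C, _, _, hE, hF, hd⟩ := hs' (Ideal.Quotient.mk I f) hf
      let Rf := Localization.Away f
      let R₀f := Localization.Away (Ideal.Quotient.mk I f)
      letI : Algebra Rf R₀f := (IsLocalization.Away.map Rf R₀f (Ideal.Quotient.mk I) f).toAlgebra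
      haveI : IsScalarTower R Rf R₀f := IsScalarTower.of_algebraMap_eq fun r => by
        show algebraMap R R₀f r = IsLocalization.Away.map Rf R₀f (Ideal.Quotient.mk I) f (algebraMap R Rf r)
        rw [IsLocalization.Away.map, IsLocalization.map_eq]
        exact IsScalarTower.algebraMap_apply R (R ⧸ I) R₀f r
      obtain ⟨hsurj, hker⟩ := surj_away I hI f
      letI : Algebra (R ⧸ I) C := ((algebraMap R₀f C).comp (algebraMap (R ⧸ I) R₀f)).toAlgebra
      haveI : IsScalarTower (R ⧸ I) R₀f C := IsScalarTower.of_algebraMap_eq' rfl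
      letI : Algebra Rf C := ((algebraMap R₀f C).comp (algebraMap Rf R₀f)).toAlgebra
      haveI : IsScalarTower Rf R₀f C := IsScalarTower.of_algebraMap_eq' rfl
      letI : Algebra R C := ((algebraMap Rf C).comp (algebraMap R Rf)).toAlgebra
      haveI : IsScalarTower R Rf C := IsScalarTower.of_algebraMap_eq' rfl
      haveI : IsScalarTower R (R ⧸ I) C := IsScalarTower.of_algebraMap_eq fun r => by
        show algebraMap R₀f C (algebraMap Rf R₀f (algebraMap R Rf r)) =
          algebraMap R₀f C (algebraMap (R ⧸ I) R₀f (algebraMap R (R ⧸ I) r))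
        rw [← IsScalarTower.algebraMap_apply R Rf R₀f, ← IsScalarTower.algebraMap_apply R (R ⧸ I) R₀f]
      have hd' : SGA3b.IsDiag C (C ⊗[Rf] (Rf ⊗[R] A)) :=
        (H19Mult.isDiag_cancel Rf C).2 ((H19Mult.isDiag_cancel (R ⧸ I) C).1 ((H19Mult.isDiag_cancel R₀f C).1 hd))
      obtain ⟨S, _, _, hSE, hSF, -, hSd⟩ := lift_cover (H19Mult.isMultType_baseChange h Rf) (R₀ := R₀f) hsurj hker C hd'
      exact ⟨S, inferInstance, inferInstance, hSE, hSF, hSd⟩

end Groth.Agent.S2971
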