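import Groth.Statements.S2972
import Groth.Agent.H19Mult.TorsionFill

set_option autoImplicit false
set_option linter.style.haveILetI false
set_option backward.isDefEq.respectTransparency false
universe u
open TensorProduct SGA3b
open SGA3b

namespace Groth.Agent.S2972

/-- Let R be a Noetherian ring, separated and complete for the I-adic topology, and H = Spec A an
R-group of multiplicative type and of finite type. If the base change of H to R/I is isotrivial,
then H is isotrivial. (Affine group schemes over an affine base are taken in Hopf-algebra form; base
change is the tensor product.) -/
theorem result (R : Type u) [CommRing R] (A : Type u) [CommRing A] [HopfAlgebra R A] [IsNoetherianRing R] (I : Ideal R) [IsAdicComplete I R]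
    (hft : Algebra.FiniteType R A) (h : IsMultType R A) (h0 : IsIsotrivial (R ⧸ I) ((R ⧸ I) ⊗[R] A)) :
    IsIsotrivial R A := by
  haveI : Coalgebra.IsCocomm R A := H19Mult.isCocomm_of_isMultType h
  haveI : Module.Flat R A := H19Mult.flat_of_isMultType h
  exact H19Mult.isIsotrivial_of_torsion_finite R I A hft h0 fun n hn => by
    haveI := H19Mult.isHopfIdeal_torsion (R := R) (A := A) n
    exact H19Mult.finite_torsion hft h n hn _ rfl

end Groth.Agent.S2972
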