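import Groth.Statements.S2976
import Groth.Agent.H19Mult.TorusCriterion

set_option autoImplicit false
set_option linter.style.haveILetI false
set_option backward.isDefEq.respectTransparency false
universe u
open TensorProduct SGA3b
open SGA3b

namespace Groth.Agent.S2976

/-- Let H = Spec A be an R-group with A flat and of finite presentation over R, such that for every
prime p of R the fibre of H over κ(p) is a torus. Then H is a torus (of locally constant rank).
(Affine group schemes over an affine base are taken in Hopf-algebra form; base change is the tensor
product.) -/
theorem result (R : Type u) [CommRing R] (A : Type u) [CommRing A] [HopfAlgebra R A] [Module.Flat R A] (hfp : Algebra.FinitePresentation R A)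
    (hfib : ∀ (p : Ideal R) [p.IsPrime], IsTorus p.ResidueField (p.ResidueField ⊗[R] A)) : IsTorus R A := by
  exact Groth.Agent.H19Mult.isTorus_of_fibres hfp hfib

end Groth.Agent.S2976
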