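import Groth.Statements.S2978


set_option autoImplicit false
universe u
open SGA3b

namespace Groth.Agent.S2978

/-- Let A be a Noetherian ring, M a set and a : M × M → A a family vanishing off the diagonal which is a
finite sum of decomposable families: a(m, m') = Σ_i b_i(m) c_i(m') for finitely many b_i, c_i : M →
A. Then a has finite support. -/
theorem result (A : Type u) [CommRing A] [IsNoetherianRing A] (M : Type u)
    (a : M × M → A) (hdiag : ∀ m m', m ≠ m' → a (m, m') = 0)
    (ι : Type u) [Fintype ι] (b c : ι → M → A) (hdec : ∀ m m', a (m, m') = ∑ i, b i m * c i m') :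
    Set.Finite {p : M × M | a p ≠ 0} := by
  classical
  let B : M → ι → A := fun m i => b i m
  have hfg : (Submodule.span A (Set.range B)).FG := IsNoetherian.noetherian _
  obtain ⟨t, ht, hspan⟩ := (Submodule.fg_span_iff_fg_span_finset_subset _).mp hfg
  have hch : ∀ v ∈ t, ∃ m, B m = v := fun v hv => ht hv
  rcases isEmpty_or_nonempty M with hM | hM
  · exact Set.toFinite _
  choose! g hg using hch
  refine ((t.image g).finite_toSet.image fun m => (m, m)).subset ?_
  rintro ⟨m, m'⟩ hp
  by_cases hmm : m = m'
  · subst hmm
    refine ⟨m, ?_, rfl⟩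
    by_contra hm
    have hker : ∀ v ∈ Submodule.span A (t : Set (ι → A)), ∑ i, v i * c i m = 0 := by
      intro v hv
      induction hv using Submodule.span_induction with
      | mem v hv =>
        have hne : g v ≠ m := fun h => hm (Finset.mem_coe.mpr (Finset.mem_image.mpr ⟨v, hv, h⟩))
        rw [← hg v hv]
        exact (hdec _ _).symm.trans (hdiag _ _ hne)
      | zero => simp
      | add x y _ _ hx hy => simp [add_mul, Finset.sum_add_distrib, hx, hy]
      | smul r x _ hx => simp [mul_assoc, ← Finset.mul_sum, hx]
    have hBm : B m ∈ Submodule.span A (t : Set (ι → A)) := by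
      rw [← hspan]; exact Submodule.subset_span ⟨m, rfl⟩
    exact hp ((hdec m m).trans (hker _ hBm))
  · exact absurd (hdiag m m' hmm) hp

end Groth.Agent.S2978
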