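import Groth.Statements.S2983
import Mathlib
import Groth.Agent.H19Mult.KerMult
import Groth.Agent.H19Mult.Field

set_option autoImplicit false
set_option linter.style.haveILetI false
set_option backward.isDefEq.respectTransparency false
universe u
open TensorProduct SGA3b
open SGA3b

namespace Groth.Agent.S2983

/-- Let R be a ring with connected spectrum (no idempotents other than 0 and 1), G = Spec A a
diagonalisable R-group of finite type, and H = Spec (A/J) a closed subgroup (J a Hopf ideal) which
is of multiplicative type. Then H is diagonalisable. (Affine group schemes over an affine base are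
taken in Hopf-algebra form; base change is the tensor product.) -/
theorem result (R : Type u) [CommRing R] (A : Type u) [CommRing A] [HopfAlgebra R A] [Nontrivial R] (hconn : ∀ e : R, IsIdempotentElem e → e = 0 ∨ e = 1)
    (hG : IsDiagFT R A) (J : Ideal A) [J.IsHopfIdeal R] (hH : IsMultType R (A ⧸ J)) : IsDiag R (A ⧸ J) := by
  classical
  obtain ⟨M, _, hMfg, ⟨e⟩⟩ := hG
  haveI := hMfg
  let D := A ⧸ J
  let π : A →ₐc[R] D := Bialgebra.Quotient.mkBialgHom (R := R) J
  let p : MonoidAlgebra R M →ₐc[R] D := π.comp (e.symm : MonoidAlgebra R M →ₐc[R] A)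
  have hp : Function.Surjective p := Ideal.Quotient.mk_surjective.comp (EquivLike.surjective e.symm)
  let x : M → D := fun m => p (MonoidAlgebra.single m 1)
  have hx : ∀ m, IsGroupLikeElem R (x m) := fun m => (MonoidAlgebra.isGroupLikeElem_single_one m).map p
  have hxm : ∀ a b, x (a * b) = x a * x b := fun a b => by
    show p _ = p _ * p _
    rw [← map_mul, MonoidAlgebra.single_mul_single, _root_.one_mul]
  have hx1 : x 1 = 1 := by
    show p _ = 1
    rw [← MonoidAlgebra.one_def, map_one]
  let H : Subgroup M :=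
    { carrier := {m | x m = 1}
      one_mem' := hx1
      mul_mem' := fun {a b} (ha : x a = 1) (hb : x b = 1) => by
        show x (a * b) = 1
        rw [hxm, ha, hb, _root_.mul_one]
      inv_mem' := fun {a} (ha : x a = 1) => by
        show x a⁻¹ = 1
        have := hxm a⁻¹ a
        rw [inv_mul_cancel, ha, _root_.mul_one, hx1] at this
        exact this.symm }
  obtain ⟨n, Q, _, _, hQfl, hQcov, hQd⟩ := H19Mult.exists_finite_charts hH
  haveI := hQfl
  choose N iN eQ using hQd
  let Φ : ∀ i, MonoidAlgebra (Q i) M →ₐc[Q i] MonoidAlgebra (Q i) (N i) := fun i =>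
    (H19Mult.chartHom (eQ i).some p).comp
      ((H19Mult.scalarBialgEquiv R (Q i) M).symm : MonoidAlgebra (Q i) M →ₐc[Q i] (Q i ⊗[R] MonoidAlgebra R M))
  have hΦ : ∀ i m, Φ i (MonoidAlgebra.single m 1) = (eQ i).some ((1 : Q i) ⊗ₜ[R] x m) := fun i m => by
    have h : (H19Mult.scalarBialgEquiv R (Q i) M).symm (MonoidAlgebra.single m 1) =
        (1 : Q i) ⊗ₜ[R] MonoidAlgebra.single m (1 : R) := by
      apply EquivLike.injective (H19Mult.scalarBialgEquiv R (Q i) M)
      rw [BialgEquiv.apply_symm_apply]
      show _ = MonoidAlgebra.scalarTensorEquiv R (Q i) ((1 : Q i) ⊗ₜ[R] MonoidAlgebra.single m (1 : R))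
      simp [MonoidAlgebra.scalarTensorEquiv_tmul]
    show H19Mult.chartHom (eQ i).some p ((H19Mult.scalarBialgEquiv R (Q i) M).symm (MonoidAlgebra.single m 1)) = _
    rw [h, H19Mult.chartHom_tmul]
  choose s hs hθ using fun i => H19Mult.exists_constant_cover (Φ i)
  let ι := Σ i : Fin n, Fin (s i).card
  let el : ∀ y : ι, Q y.1 := fun y => ((s y.1).equivFin.symm y.2).1
  let U : ι → Type u := fun y => Localization.Away (el y)
  haveI : ∀ y, Module.Flat R (U y) := fun y => by
    haveI : Module.Flat (Q y.1) (U y) := IsLocalization.flat _ (Submonoid.powers (el y))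
    exact Module.Flat.trans R (Q y.1) (U y)
  have hcov : ∀ q : PrimeSpectrum R, ∃ y, q ∈ Set.range (PrimeSpectrum.comap (algebraMap R (U y))) := by
    intro q
    obtain ⟨i, q', hq'⟩ := hQcov q
    obtain ⟨c, hc, hc0⟩ : ∃ c ∈ s i, c ∉ q'.asIdeal := by
      by_contra hne
      push Not at hne
      exact q'.isPrime.ne_top (top_le_iff.1 (hs i ▸ Ideal.span_le.2 hne))
    let y : ι := ⟨i, (s i).equivFin ⟨c, hc⟩⟩
    have hel : el y = c := by simp [el, y]
    obtain ⟨w, hw⟩ : q' ∈ Set.range (PrimeSpectrum.comap (algebraMap (Q y.1) (U y))) := by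
      rw [PrimeSpectrum.localization_away_comap_range (U y) (el y), hel]
      exact hc0
    exact ⟨y, w, by rw [← hq', ← hw]; rfl⟩
  have hchart : ∀ y : ι, ∃ eU : (U y ⊗[R] D) ≃ₐc[U y] MonoidAlgebra (U y) (N y.1),
      ∃ θ : M → N y.1, ∀ m, eU ((1 : U y) ⊗ₜ[R] x m) = MonoidAlgebra.single (θ m) 1 := by
    intro y
    obtain ⟨eU, heU⟩ := H19Mult.exists_chart_map (eQ y.1).some (U y)
    choose θ hθm using hθ y.1 _ ((s y.1).equivFin.symm y.2).2
    refine ⟨eU, θ, fun m => ?_⟩
    rw [← hθm m, hΦ]
    refine H19Mult.ext_coef fun a => ?_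
    rw [H19Mult.coefL_mapRingHom]
    refine Eq.trans ?_ (heU _ a)
    rw [H19Mult.mapA_tmul, map_one]
  choose eU θ hUθ using hchart
  have hne : ∀ (y : ι), Nontrivial (U y) → ∀ m, θ y m = 1 → m ∈ H := by
    intro y hy m hm
    obtain ⟨f, hf, hfi⟩ := H19Mult.exists_idem_type U hcov (fun z => θ z m = 1) (by
      intro z z' q q' hqq
      obtain ⟨K, _, gP, gQ, hg, -, -⟩ := H19Mult.exists_field_of_points (R := R) q q' hqq
      letI : Algebra R K := (gP.comp (algebraMap R (U z))).toAlgebra
      letI : Algebra (U z) K := gP.toAlgebra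
      letI : Algebra (U z') K := gQ.toAlgebra
      haveI : IsScalarTower R (U z) K := IsScalarTower.of_algebraMap_eq' rfl
      haveI : IsScalarTower R (U z') K := IsScalarTower.of_algebraMap_eq' hg
      have key : ∀ z : ι, ∀ [Algebra (U z) K] [IsScalarTower R (U z) K],
          θ z m = 1 ↔ (1 : K) ⊗ₜ[R] x m = 1 := by
        intro z _ _
        obtain ⟨eK, heK⟩ := H19Mult.exists_chart_map (eU z) K
        have h1 : eK ((1 : K) ⊗ₜ[R] x m) = MonoidAlgebra.single (θ z m) 1 := by
          refine H19Mult.ext_coef fun a => ?_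
          have := heK ((1 : U z) ⊗ₜ[R] x m) a
          rw [H19Mult.mapA_tmul, map_one, hUθ] at this
          rw [this, H19Mult.coefL_single, H19Mult.coefL_single]
          split <;> simp
        constructor
        · intro h
          apply EquivLike.injective eK
          rw [h1, h, map_one, MonoidAlgebra.one_def]
        · intro h
          rw [h, map_one, MonoidAlgebra.one_def] at h1
          exact (MonoidAlgebra.single_left_injective one_ne_zero h1).symm
      exact (key z).trans (key z').symm)
    obtain ⟨qy⟩ : Nonempty (PrimeSpectrum (U y)) := inferInstance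
    have hf1 : f = 1 := by
      rcases hconn f hf with rfl | rfl
      · exact absurd (zero_mem _) ((hfi y qy).2 hm)
      · rfl
    show x m = 1
    refine sub_eq_zero.1 (H19Mult.eq_zero_of_charts (R := R) (x m - 1) fun q => ?_)
    obtain ⟨z, w, hw⟩ := hcov q
    refine ⟨U z, inferInstance, inferInstance, inferInstance, ⟨w, hw⟩, ?_⟩
    have hz : θ z m = 1 := (hfi z w).1 (by
      rw [hf1]
      exact fun h => (PrimeSpectrum.comap (algebraMap R (U z)) w).isPrime.ne_top ((Ideal.eq_top_iff_one _).2 h))
    rw [TensorProduct.tmul_sub, sub_eq_zero]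
    apply EquivLike.injective (eU z)
    rw [hUθ, hz, ← Algebra.TensorProduct.one_def, map_one, MonoidAlgebra.one_def]
  let g : M →* GroupLike R D :=
    { toFun m := ⟨x m, hx m⟩
      map_one' := GroupLike.ext hx1
      map_mul' a b := GroupLike.ext (hxm a b) }
  let G : M ⧸ H →* GroupLike R D := QuotientGroup.lift H g fun m hm => GroupLike.ext hm
  refine ⟨M ⧸ H, inferInstance, ⟨(BialgEquiv.ofBijective (H19Mult.glHom G) ?_).symm⟩⟩
  refine H19Mult.bijective_of_charts
    ((H19Mult.glHom G : MonoidAlgebra R (M ⧸ H) →ₐc[R] D) : MonoidAlgebra R (M ⧸ H) →ₐ[R] D).toLinearMap fun q => ?_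
  obtain ⟨y, w, hw⟩ := hcov q
  haveI : Nontrivial (U y) := nontrivial_of_ne 1 0 fun h10 => w.isPrime.ne_top
    ((Ideal.eq_top_iff_one _).2 (h10 ▸ zero_mem _))
  refine ⟨U y, inferInstance, inferInstance, inferInstance, ⟨w, hw⟩, ?_⟩
  have hmul : ∀ a b, θ y (a * b) = θ y a * θ y b := fun a b => by
    apply MonoidAlgebra.single_left_injective (R := U y) one_ne_zero
    show MonoidAlgebra.single (θ y (a * b)) (1 : U y) = MonoidAlgebra.single (θ y a * θ y b) 1
    rw [← hUθ, hxm, show (1 : U y) ⊗ₜ[R] (x a * x b) = ((1 : U y) ⊗ₜ[R] x a) * ((1 : U y) ⊗ₜ[R] x b) by simp,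
      map_mul, hUθ, hUθ, MonoidAlgebra.single_mul_single, _root_.one_mul]
  let η : M →* N y.1 := MonoidHom.mk' (θ y) hmul
  let η' : M ⧸ H →* N y.1 := QuotientGroup.lift H η fun m (hm : x m = 1) => by
    apply MonoidAlgebra.single_left_injective (R := U y) one_ne_zero
    show MonoidAlgebra.single (θ y m) (1 : U y) = MonoidAlgebra.single 1 1
    rw [← hUθ, hm, ← Algebra.TensorProduct.one_def, map_one, MonoidAlgebra.one_def]
  have hη' : Function.Injective η' := (injective_iff_map_eq_one η').2 fun c hc => by
    obtain ⟨m, rfl⟩ := QuotientGroup.mk'_surjective H c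
    exact (QuotientGroup.eq_one_iff m).2 (hne y inferInstance m hc)
  let L := LinearMap.lTensor (U y)
    ((H19Mult.glHom G : MonoidAlgebra R (M ⧸ H) →ₐc[R] D) : MonoidAlgebra R (M ⧸ H) →ₐ[R] D).toLinearMap
  have hcomp : ∀ v, eU y (L v) = MonoidAlgebra.mapDomainAlgHom (U y) (U y) η'
      (MonoidAlgebra.scalarTensorEquiv R (U y) v) := by
    intro v
    induction v using TensorProduct.induction_on with
    | zero => simp
    | add a b ha hb => simp only [map_add, ha, hb]
    | tmul r b =>
      induction b using MonoidAlgebra.induction_linear with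
      | zero => simp
      | add a b ha hb => simp only [TensorProduct.tmul_add, map_add, ha, hb]
      | single c t =>
        obtain ⟨m, rfl⟩ := QuotientGroup.mk'_surjective H c
        show eU y (r ⊗ₜ[R] H19Mult.glHom G (MonoidAlgebra.single (QuotientGroup.mk' H m) t)) =
          MonoidAlgebra.mapDomainAlgHom (U y) (U y) η' (MonoidAlgebra.scalarTensorEquiv R (U y)
            (r ⊗ₜ MonoidAlgebra.single (QuotientGroup.mk' H m) t))
        rw [MonoidAlgebra.scalarTensorEquiv_tmul, H19Mult.glHom_single,
          show r ⊗ₜ[R] (t • (G (QuotientGroup.mk' H m)).val) = (algebraMap R (U y) t * r) • ((1 : U y) ⊗ₜ[R] x m) by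
            rw [TensorProduct.smul_tmul', smul_eq_mul, _root_.mul_one, TensorProduct.tmul_smul,
              TensorProduct.smul_tmul', Algebra.smul_def]
            rfl, map_smul, hUθ]
        simp [Algebra.smul_def, mul_comm, η', η]
  refine ⟨fun v v' h => ?_, fun z => ?_⟩
  · have h' := congrArg (eU y) h
    rw [hcomp, hcomp] at h'
    exact (MonoidAlgebra.scalarTensorEquiv R (U y)).injective
      ((MonoidAlgebra.mapDomain_injective hη') h')
  · have hsurj : ∀ z : U y ⊗[R] D, eU y z ∈ (MonoidAlgebra.mapDomainAlgHom (U y) (U y) η').range := by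
      intro z
      induction z using TensorProduct.induction_on with
      | zero => rw [map_zero]; exact zero_mem _
      | add a b ha hb => rw [map_add]; exact add_mem ha hb
      | tmul r d =>
        obtain ⟨b, rfl⟩ := hp d
        induction b using MonoidAlgebra.induction_linear with
        | zero => simp
        | add a b ha hb => rw [map_add, TensorProduct.tmul_add, map_add]; exact add_mem ha hb
        | single m t =>
          have : r ⊗ₜ[R] p (MonoidAlgebra.single m t) = (algebraMap R (U y) t * r) • ((1 : U y) ⊗ₜ[R] x m) := by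
            rw [TensorProduct.smul_tmul', smul_eq_mul, _root_.mul_one, show MonoidAlgebra.single m t =
              t • MonoidAlgebra.single m (1 : R) by simp, map_smul, TensorProduct.tmul_smul, TensorProduct.smul_tmul',
              Algebra.smul_def]
          rw [this, map_smul, hUθ]
          refine ⟨MonoidAlgebra.single (QuotientGroup.mk' H m) (algebraMap R (U y) t * r), ?_⟩
          show MonoidAlgebra.mapDomainAlgHom (U y) (U y) η' _ = _
          simp [η', η]
    obtain ⟨b, hb⟩ := hsurj z
    refine ⟨(MonoidAlgebra.scalarTensorEquiv R (U y)).symm b, EquivLike.injective (eU y) ?_⟩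
    rw [hcomp, AlgEquiv.apply_symm_apply]
    exact hb

end Groth.Agent.S2983
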