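import Groth.Statements.S2984
import Mathlib
import Groth.Agent.H19Mult.Quotient

set_option autoImplicit false
set_option linter.style.haveILetI false
set_option backward.isDefEq.respectTransparency false
universe u
open TensorProduct SGA3b
open SGA3b

namespace Groth.Agent.S2984

/-- Let R be a ring and G = Spec A an R-group scheme of multiplicative type and of finite type, with A a
Hopf algebra over R. Then A is finite over R if and only if the n-th power map of G is trivial for
some n > 0 (the kernel ₙG is all of G). (Affine group schemes over an affine base are taken in
Hopf-algebra form; base change is the tensor product.) -/
theorem result (R : Type u) [CommRing R] (A : Type u) [CommRing A] [HopfAlgebra R A] (hft : Algebra.FiniteType R A) (h : IsMultType R A) :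
    Module.Finite R A ↔ ∃ n : ℕ, 0 < n ∧ torsionIdeal R A n = ⊥ := by
  exact H19Mult.finite_iff_torsion_eq_bot hft h

end Groth.Agent.S2984
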