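import Groth.Statements.S8392
import Groth.Agent.H21Diag.Local
import Groth.Agent.H21Diag.GaPts
import Groth.Agent.H21Diag.Rigid

set_option autoImplicit false
universe u
open CategoryTheory MonoidalCategory CartesianMonoidalCategory MonObj GrpObj AlgebraicGeometry
open SGA3x

namespace Groth.Agent.S8392


/-- Let H be an S-group scheme of multiplicative type. Then every homomorphism of S-groups H → 𝔾_a is
trivial. (Stated for H of multiplicative type and of finite type, the class of multiplicative groups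
available here; the published statement allows any group of multiplicative type.) -/
theorem result (S : Scheme.{u}) (H : Over S) [GrpObj H] (hH : SGA3x.IsMultTypeFT H)
    (u : H ⟶ Red.Ga S) [IsMonHom u] : u = 1 := by
  obtain ⟨S', f, hf, hs, -, hloc⟩ := hH
  refine H21Diag.hom_ext_of_local f (fun s' => ?_) u 1 ?_
  · obtain ⟨U, hU, M, _, -, hiso⟩ := hloc s'
    exact ⟨U, hU, M, inferInstance, hiso⟩
  intro U u₀ M _ e B _ y χ
  -- the coordinate as a function of the character
  let v : ∀ (B : Type u) [CommRing B], (Spec (CommRingCat.of B) ⟶ U) → (Multiplicative M →* B) → B :=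
    fun B _ y χ => H21Diag.gval (H21Diag.gpt e y χ ≫ u)
  have hadd : ∀ (B : Type u) [CommRing B] (y : Spec (CommRingCat.of B) ⟶ U) (χ χ' : Multiplicative M →* B),
      v B y (χ * χ') = v B y χ + v B y χ' := by
    intro B _ y χ χ'
    change H21Diag.gval _ = H21Diag.gval _ + H21Diag.gval _
    exact (congrArg H21Diag.gval ((congrArg (· ≫ u) (H21Diag.gpt_mul e y χ χ')).trans
      (MonObj.mul_comp _ _ u))).trans (H21Diag.gval_mul _ _)
  have hnat : ∀ (B B' : Type u) [CommRing B] [CommRing B'] (φ : B →+* B')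
      (y : Spec (CommRingCat.of B) ⟶ U) (χ : Multiplicative M →* B),
      v B' (Spec.map (CommRingCat.ofHom φ) ≫ y) (φ.toMonoidHom.comp χ) = φ (v B y χ) := by
    intro B B' _ _ φ y χ
    refine H21Diag.gval_comp φ _ _ ?_
    simp only [Over.comp_left, H21Diag.gpt_comp]
    exact Category.assoc _ _ _
  let s₁ : B →+* MonoidAlgebra B (Multiplicative M) := MonoidAlgebra.singleOneRingHom
  let y₁ := Spec.map (CommRingCat.ofHom s₁) ≫ y
  let χ₁ : Multiplicative M →* MonoidAlgebra B (Multiplicative M) := MonoidAlgebra.of B (Multiplicative M)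
  have hzero : v _ y₁ χ₁ = 0 := by
    apply H21Diag.primitive_eq_zero
    let f₁ := MonoidAlgebra.mapDomainRingHom B (AddMonoidHom.toMultiplicative (AddMonoidHom.inl M M))
    let f₂ := MonoidAlgebra.mapDomainRingHom B (AddMonoidHom.toMultiplicative (AddMonoidHom.inr M M))
    let fd := MonoidAlgebra.mapDomainRingHom B (H21Diag.diagM M)
    change fd (v _ y₁ χ₁) = f₁ (v _ y₁ χ₁) + f₂ (v _ y₁ χ₁)
    have hχ : fd.toMonoidHom.comp χ₁ = f₁.toMonoidHom.comp χ₁ * f₂.toMonoidHom.comp χ₁ := by
      refine MonoidHom.ext fun m => ?_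
      simp only [χ₁, fd, f₁, f₂, MonoidHom.mul_apply, MonoidHom.coe_comp, RingHom.toMonoidHom_eq_coe,
        MonoidHom.coe_coe, Function.comp_apply, MonoidAlgebra.of_apply, MonoidAlgebra.mapDomainRingHom_apply,
        MonoidAlgebra.mapDomain_single, MonoidAlgebra.single_mul_single]
      congr 1
      · exact Prod.ext (add_zero _).symm (zero_add _).symm
      · exact (_root_.mul_one _).symm
    have hy : ∀ (g : MonoidAlgebra B (Multiplicative M) →+* MonoidAlgebra B (Multiplicative (M × M))),
        g.comp s₁ = MonoidAlgebra.singleOneRingHom → Spec.map (CommRingCat.ofHom g) ≫ y₁ =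
          Spec.map (CommRingCat.ofHom (MonoidAlgebra.singleOneRingHom (R := B) (M := Multiplicative (M × M)))) ≫ y :=
      fun g hg => by rw [← hg]; exact H21Diag.specMap_comp_assoc s₁ g y
    rw [← hnat _ _ fd y₁ χ₁, ← hnat _ _ f₁ y₁ χ₁, ← hnat _ _ f₂ y₁ χ₁,
      hy fd (RingHom.ext fun b => by simp [fd, s₁]), hy f₁ (RingHom.ext fun b => by simp [f₁, s₁]; rfl),
      hy f₂ (RingHom.ext fun b => by simp [f₂, s₁]; rfl), hχ]
    exact hadd _ _ _ _
  apply H21Diag.gval_injective
  have h1 : H21Diag.gval (1 : Over.mk (y ≫ u₀) ⟶ Red.Ga S) = 0 := by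
    have h := (congrArg H21Diag.gval (_root_.mul_one (1 : Over.mk (y ≫ u₀) ⟶ Red.Ga S)).symm).trans
      (H21Diag.gval_mul 1 1)
    linear_combination -h
  rw [MonObj.comp_one, h1]
  let ev : MonoidAlgebra B (Multiplicative M) →+* B :=
    MonoidAlgebra.liftNCRingHom (RingHom.id B) χ fun _ _ => Commute.all _ _
  have key := hnat _ _ ev y₁ χ₁
  rw [H21Diag.specMap_eq_self s₁ ev (RingHom.ext fun b => by simp [ev, s₁]) y,
    show ev.toMonoidHom.comp χ₁ = χ from MonoidHom.ext fun m => by simp [ev, χ₁], hzero, map_zero] at key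
  exact key

end Groth.Agent.S8392
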