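import Groth.Statements.S2989
import Groth.Agent.H21Diag.Chev.ConjDense
import Groth.Agent.H21Diag.Chev.RelSelfCentral
import Groth.Agent.LeadTorus.General
import Groth.Agent.S8392
import Groth.Agent.H20Borel.BaseBorel

set_option autoImplicit false
open CategoryTheory MonoidalCategory CartesianMonoidalCategory MonObj GrpObj AlgebraicGeometry
universe u
open Red

set_option linter.style.haveILetI false
set_option backward.isDefEq.respectTransparency false
set_option synthInstance.maxHeartbeats 400000
set_option maxHeartbeats 1000000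

namespace Groth.Agent.S2989

/-- First assertion (H¹(G, k) = 0 for k with trivial action). Let k be a field and G a reductive
k-group. Then every homomorphism of k-groups from G to the additive group is trivial. -/
theorem result (k : Type u) [Field k] (G : Over (Spec (CommRingCat.of k))) [GrpObj G]
    (hG : Red.IsReductive G) (φ : G ⟶ Red.Ga (Spec (CommRingCat.of k))) [IsMonHom φ] :
    φ = toUnit G ≫ η[Red.Ga (Spec (CommRingCat.of k))] := by
  haveI := hG.1
  haveI hGs := hG.2.1
  haveI : IsAffine G.left := isAffine_of_isAffineHom G.hom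
  obtain ⟨T, gT, i, hi⟩ := LeadTorus.exists_maximalTorus_affine k G
  letI := gT
  obtain ⟨hi1, hi2, hiT, hmax⟩ := hi
  haveI := hi1
  haveI := hi2
  have hiφ : i ≫ φ = 1 := S8392.result _ T (H21Diag.isMultTypeFT_of_isTorus hiT) (i ≫ φ)
  let s : ↥(Spec (CommRingCat.of k)) := (IsLocalRing.closedPoint k : PrimeSpectrum k)
  let z := Red.geomPt s
  let F := Over.pullback z
  obtain ⟨ha, hs, hc, hU⟩ := hG.2.2 s
  haveI := ha; haveI := hs; haveI := hc
  haveI : IsMonHom (F.map i) := H21Diag.isMonHom_map z i
  haveI : Mono (F.map i) := haveI := (Over.mapPullbackAdj z).isRightAdjoint; inferInstance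
  haveI : IsMonHom (F.map φ) := H21Diag.isMonHom_map z φ
  haveI : IsAffine (Red.GaZ.{u}).left := inferInstanceAs (IsAffine (Spec _))
  haveI : IsAffineHom (Red.Ga (Spec (CommRingCat.of k))).hom :=
    MorphismProperty.pullback_snd (P := @IsAffineHom) _ _ (isAffineHom_of_isAffine _)
  haveI : IsAffineHom (Red.geomFibre s (Red.Ga (Spec (CommRingCat.of k)))).hom :=
    MorphismProperty.pullback_snd (P := @IsAffineHom) _ _ ‹_›
  haveI : IsAffine (Red.geomFibre s (Red.Ga (Spec (CommRingCat.of k)))).left :=
    isAffine_of_isAffineHom (Red.geomFibre s (Red.Ga (Spec (CommRingCat.of k)))).hom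
  have h1 : F.map φ = 1 := H21Chev.eq_one_of_maxTorus hU
    (iT := F.map i) ⟨inferInstance, inferInstance, H21Diag.isTorus_bc hiT z,
      fun T' _ j _ _ g hT' hg => hmax s T' j g hT' hg⟩ (F.map φ)
    (by rw [← Functor.map_comp, hiφ, Functor.map_one])
  have h2 : F.map φ = F.map (1 : G ⟶ Red.Ga (Spec (CommRingCat.of k))) := by rw [h1, Functor.map_one]
  obtain ⟨hfl, hsurj, -⟩ := H20Borel.flat_surjective_point (z := z)
  haveI : Flat (Limits.pullback.fst G.hom z) := MorphismProperty.pullback_fst _ _ hfl
  haveI : Surjective (Limits.pullback.fst G.hom z) := MorphismProperty.pullback_fst _ _ hsurj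
  haveI : Epi (Limits.pullback.fst G.hom z) := Flat.epi_of_flat_of_surjective _
  have h3 : φ = 1 := by
    refine Over.OverMorphism.ext ((cancel_epi (Limits.pullback.fst G.hom z)).mp ?_)
    have e : ∀ a : G ⟶ Red.Ga (Spec (CommRingCat.of k)),
        (F.map a).left ≫ Limits.pullback.fst (Red.Ga (Spec (CommRingCat.of k))).hom z = Limits.pullback.fst G.hom z ≫ a.left :=
      fun a => Limits.pullback.lift_fst _ _ _
    rw [← e, ← e, h2]
  exact h3

end Groth.Agent.S2989
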