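import Groth.Statements.S2993
import Groth.Agent.H06AffineQF.Over
import Groth.Agent.H19Grp.QuasiFiniteHom

set_option autoImplicit false
universe u
open Par

namespace Groth.Agent.S2993

open CategoryTheory CategoryTheory.Limits MonoidalCategory CartesianMonoidalCategory MonObj GrpObj AlgebraicGeometry
set_option backward.isDefEq.respectTransparency false

open AlgebraicGeometry CategoryTheory in
/-- In the case proved in the text (G smooth over S; the editors note that flatness suffices): let S be
a locally Noetherian scheme of dimension ≤ 1, G and H two S-group schemes of finite type and f : G →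
H a homomorphism of S-groups which is quasi-finite and separated. If G is smooth over S then f is
affine. -/
theorem result {S : Scheme.{u}} [IsLocallyNoetherian S] (hS : topologicalKrullDim S ≤ 1)
    (G H : Over S) [GrpObj G] [GrpObj H] [LocallyOfFiniteType G.hom] [QuasiCompact G.hom] [LocallyOfFiniteType H.hom] [QuasiCompact H.hom]
    [Smooth G.hom] (f : G ⟶ H) [IsMonHom f] [LocallyQuasiFinite f.left] [QuasiCompact f.left] [IsSeparated f.left] :
    IsAffineHom f.left := by
  haveI : LocallyOfFiniteType (f.left ≫ H.hom) := by rw [Over.w f]; infer_instance
  haveI : LocallyOfFiniteType f.left := locallyOfFiniteType_of_comp f.left H.hom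
  refine H06AffineQF.isAffineHom_of_finite_fibres hS H.hom f.left fun s => ?_
  refine (H06AffineQF.prop_snd_iff _ f @IsFinite).2 ?_
  let F := Over.pullback (S.fromSpecResidueField s)
  letI : GrpObj (F.obj G) := Functor.grpObjObj
  letI : GrpObj (F.obj H) := Functor.grpObjObj
  haveI : IsMonHom (F.map f) := inferInstance
  haveI : LocallyOfFiniteType (F.obj G).hom :=
    inferInstanceAs (LocallyOfFiniteType (pullback.snd G.hom (S.fromSpecResidueField s)))
  haveI : LocallyOfFiniteType (F.obj H).hom :=
    inferInstanceAs (LocallyOfFiniteType (pullback.snd H.hom (S.fromSpecResidueField s)))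
  haveI : QuasiCompact (F.map f).left :=
    MorphismProperty.of_isPullback (H06AffineQF.isPullback_map_left _ f) ‹QuasiCompact f.left›
  haveI : LocallyQuasiFinite (F.map f).left :=
    MorphismProperty.of_isPullback (H06AffineQF.isPullback_map_left _ f) ‹LocallyQuasiFinite f.left›
  exact H19Grp.QuasiFiniteHom.isFinite_of_lqf (F.map f)

end Groth.Agent.S2993
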