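import Groth.Statements.S3005
import Groth.Agent.H21Split.Red0.IsoThm

set_option autoImplicit false
universe u
open CategoryTheory MonoidalCategory CartesianMonoidalCategory MonObj GrpObj AlgebraicGeometry
open Red

namespace Groth.Agent.S3005

/-- Let S be a scheme and G, G' two reductive S-groups each admitting a splitting (this prelude's
`Red.SplitRed`) whose root datum is isomorphic to a given root datum Q. Then G and G' are isomorphic
as S-group schemes. -/
theorem result (S : Scheme.{u}) {ι' M' N' : Type} [AddCommGroup M'] [Module ℤ M'] [AddCommGroup N'] [Module ℤ N'] (Q : RootPairing ι' ℤ M' N') (G G' : Over S) [GrpObj G] [GrpObj G'] (hG : Red.IsSplitOfType Q G) (hG' : Red.IsSplitOfType Q G') : Nonempty (Grp.mk G ≅ Grp.mk G') := by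
  obtain ⟨D, ⟨e⟩⟩ := hG
  obtain ⟨D', ⟨e'⟩⟩ := hG'
  exact Groth.Agent.H21Red0.nonempty_iso D D' ((RootPairing.Equiv.symm _ _ e).comp e')

end Groth.Agent.S3005
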