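import Groth.Statements.S3014
import Groth.Agent.H21Desc.AlgClosedIso

set_option autoImplicit false
universe u
open CategoryTheory MonoidalCategory CartesianMonoidalCategory MonObj GrpObj AlgebraicGeometry
open Red

namespace Groth.Agent.S3014

set_option backward.isDefEq.respectTransparency false
set_option linter.style.haveILetI false

/-- (i)⇒(ii): Let G and G' be reductive S-groups and f : S' → S a surjective morphism such that the base
changes of G and G' to S' are isomorphic as group schemes. Then for every s ∈ S the geometric fibres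
G_{s̄} and G'_{s̄} are isomorphic. -/
theorem result (S : Scheme.{u}) (G G' : Over S) [GrpObj G] [GrpObj G'] (hG : Red.IsReductive G) (hG' : Red.IsReductive G') (S' : Scheme.{u}) (f : S' ⟶ S) [Surjective f] (hiso : Nonempty (Grp.mk (Red.bc f G) ≅ Grp.mk (Red.bc f G'))) (s : S) : Nonempty (Grp.mk (Red.geomFibre s G) ≅ Grp.mk (Red.geomFibre s G')) := by
  obtain ⟨s', rfl⟩ := f.surjective s
  obtain ⟨e⟩ := hiso
  let kb := AlgebraicClosure (S.residueField (f.base s'))
  let L := AlgebraicClosure (S'.residueField s')
  letI : Algebra (S.residueField (f.base s')) L :=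
    ((algebraMap (S'.residueField s') L).comp (f.residueFieldMap s').hom).toAlgebra
  let j : kb →ₐ[S.residueField (f.base s')] L := IsAlgClosed.lift
  let p : Spec (CommRingCat.of L) ⟶ Spec (CommRingCat.of kb) := Spec.map (CommRingCat.ofHom j.toRingHom)
  have hp : p ≫ Red.geomPt (f.base s') = Red.geomPt s' ≫ f := by
    rw [Red.geomPt, Red.geomPt, Category.assoc, ← Scheme.Hom.SpecMap_residueFieldMap_fromSpecResidueField,
      ← Category.assoc, ← Category.assoc]
    congr 1
    rw [← Spec.map_comp, ← Spec.map_comp]
    congr 1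
    ext x
    exact j.commutes x
  let comp : ∀ (H : Over S) [GrpObj H],
      Grp.mk (Red.bc p (Red.geomFibre (f.base s') H)) ≅ Grp.mk (Red.bc (Red.geomPt s') (Red.bc f H)) :=
    fun H _ => (H21Diag.bcCompIso p _ H).symm ≪≫ H21Diag.bcCongrIso hp H ≪≫ H21Diag.bcCompIso (Red.geomPt s') f H
  let eL := comp G ≪≫ H21Diag.bcMapIso (Red.geomPt s') e ≪≫ (comp G').symm
  haveI : IsAffine (Red.geomFibre (f.base s') G).left := (hG.2.2 (f.base s')).1
  haveI : IsAffine (Red.geomFibre (f.base s') G').left := (hG'.2.2 (f.base s')).1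
  haveI : Smooth (Red.geomFibre (f.base s') G).hom := (hG.2.2 (f.base s')).2.1
  haveI : Smooth (Red.geomFibre (f.base s') G').hom := (hG'.2.2 (f.base s')).2.1
  haveI : IsAffine (Over.mk p).left := inferInstanceAs (IsAffine (Spec _))
  haveI : Nonempty (Over.mk p).left := inferInstanceAs (Nonempty (PrimeSpectrum L))
  exact H21Desc.exists_iso_of_isoFamily _ (H21Desc.isIsoFamily_fam eL)

end Groth.Agent.S3014
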