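import Groth.Statements.S3015
import Mathlib

set_option autoImplicit false
set_option linter.style.haveILetI false
set_option backward.isDefEq.respectTransparency false
universe u
open CategoryTheory MonoidalCategory CartesianMonoidalCategory MonObj GrpObj AlgebraicGeometry TensorProduct
open SGA3

namespace Groth.Agent.S3015

/-- Let A be a local artinian ring, G a group scheme over A, and U, V dense open subsets of G. Then U ·
V, the image of U ×_A V under the multiplication, is the whole underlying space of G: every point of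
G is the product of a point of G ×_A G whose two projections lie in U and V. -/
theorem result (A : Type u) [CommRing A] [IsArtinianRing A] [IsLocalRing A]
    (G : Over (Spec (CommRingCat.of A))) [GrpObj G] (U V : G.left.Opens)
    (hU : Dense (U : Set G.left)) (hV : Dense (V : Set G.left)) (g : G.left) :
    ∃ z : ↥(G ⊗ G).left, (fst G G).left.base z ∈ U ∧ (snd G G).left.base z ∈ V ∧ μ[G].left.base z = g := by
  haveI : Subsingleton (Spec (CommRingCat.of A)) := inferInstanceAs (Subsingleton (PrimeSpectrum A))
  let L := AlgebraicClosure (G.left.residueField g)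
  let q : Spec (CommRingCat.of L) ⟶ G.left :=
    Spec.map (CommRingCat.ofHom (algebraMap (G.left.residueField g) L)) ≫ G.left.fromSpecResidueField g
  let P := Over.mk (q ≫ G.hom)
  let gp : P ⟶ G := Over.homMk q rfl
  have hgp : ∀ t, gp.left t = g := fun t =>
    (Scheme.Hom.comp_apply _ _ _).trans (G.left.fromSpecResidueField_apply g _)
  have hopen : IsOpenMap (fst G P).left := by
    obtain ⟨⟨s, φ⟩, hs⟩ := (Scheme.SpecToEquivOfField L (Spec (CommRingCat.of A))).symm.surjective (q ≫ G.hom)
    let r := (Spec (CommRingCat.of A)).fromSpecResidueField s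
    haveI : IsClosedImmersion r := IsClosedImmersion.of_isPreimmersion r (by
      rw [show Set.range r = Set.univ from Set.eq_univ_of_forall fun x =>
        ⟨IsLocalRing.closedPoint _, Subsingleton.elim _ _⟩]
      exact isClosed_univ)
    haveI : Surjective r := ⟨fun x => ⟨IsLocalRing.closedPoint _, Subsingleton.elim _ _⟩⟩
    have h1 : IsOpenMap (Limits.pullback.fst G.hom r) := by
      intro O hO
      have : ((Limits.pullback.fst G.hom r) '' O) = ((Limits.pullback.fst G.hom r) '' Oᶜ)ᶜ := by
        rw [← Set.image_compl_eq ⟨(Limits.pullback.fst G.hom r).isClosedEmbedding.injective,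
          (Limits.pullback.fst G.hom r).surjective⟩, compl_compl]
      rw [this]
      exact ((Limits.pullback.fst G.hom r).isClosedEmbedding.isClosedMap _ hO.isClosed_compl).isOpen_compl
    let e := Limits.pullbackLeftPullbackSndIso G.hom r (Spec.map φ)
    have h2 : IsOpenMap (Limits.pullback.fst (Limits.pullback.snd G.hom r) (Spec.map φ)) := Scheme.Hom.isOpenMap _
    have h3 : IsOpenMap (Limits.pullback.fst G.hom (Spec.map φ ≫ r)) := by
      have he : Limits.pullback.fst G.hom (Spec.map φ ≫ r) =
          e.inv ≫ Limits.pullback.fst (Limits.pullback.snd G.hom r) (Spec.map φ) ≫ Limits.pullback.fst G.hom r := by simp [e]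
      rw [he]
      exact h1.comp (h2.comp e.inv.isOpenEmbedding.isOpenMap)
    show IsOpenMap (Limits.pullback.fst G.hom (q ≫ G.hom))
    rw [show q ≫ G.hom = Spec.map φ ≫ r from hs.symm]
    exact h3
  let τ : G ⊗ P ⟶ G ⊗ P := lift ((fst G P)⁻¹ * (snd G P ≫ gp)) (snd G P)
  let τ' : G ⊗ P ⟶ G ⊗ P := lift ((snd G P ≫ gp) * (fst G P)⁻¹) (snd G P)
  haveI : IsIso τ := ⟨τ', by
    apply CartesianMonoidalCategory.hom_ext <;> simp [τ, τ', MonObj.comp_mul, GrpObj.comp_inv], by
    apply CartesianMonoidalCategory.hom_ext <;> simp [τ, τ', MonObj.comp_mul, GrpObj.comp_inv]⟩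
  haveI : IsIso τ.left := ((Over.forget _).mapIso (asIso τ)).isIso_hom
  have hU' : Dense ((fst G P).left ⁻¹' (U : Set G.left)) := hU.preimage hopen
  have hV' : Dense (τ.left ⁻¹' ((fst G P).left ⁻¹' (V : Set G.left))) :=
    (hV.preimage hopen).preimage τ.left.isOpenEmbedding.isOpenMap
  have hne : Nonempty ↥(G ⊗ P).left := ⟨(lift gp (𝟙 P)).left (IsLocalRing.closedPoint L)⟩
  obtain ⟨z, hz1, hz2⟩ := (hU'.inter_of_isOpen_left hV' (U.2.preimage (Scheme.Hom.continuous _))).nonempty
  let m : G ⊗ P ⟶ G ⊗ G := lift (fst G P) (τ ≫ fst G P)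
  refine ⟨m.left z, ?_, ?_, ?_⟩
  · show (fst G G).left (m.left z) ∈ U
    rw [← Scheme.Hom.comp_apply, ← Over.comp_left, lift_fst]
    exact hz1
  · show (snd G G).left (m.left z) ∈ V
    rw [← Scheme.Hom.comp_apply, ← Over.comp_left, lift_snd, Over.comp_left, Scheme.Hom.comp_apply]
    exact hz2
  · have hm : m ≫ μ[G] = snd G P ≫ gp := by
      rw [← Hom.mul_def]
      simp [τ]
    show μ[G].left (m.left z) = g
    rw [← Scheme.Hom.comp_apply, ← Over.comp_left, hm, Over.comp_left, Scheme.Hom.comp_apply]
    exact hgp _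

end Groth.Agent.S3015
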