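import Groth.Statements.S3016
import Groth.Agent.H19Grp.ImageFactor
import Groth.Agent.H19Grp.AffineQuotient
import Groth.Agent.H19Grp.PointsEq
import Groth.Agent.H19Quot.FieldTop

set_option autoImplicit false
set_option maxHeartbeats 1000000
set_option synthInstance.maxHeartbeats 100000
set_option linter.style.haveILetI false
set_option backward.isDefEq.respectTransparency false
universe u
open CategoryTheory MonoidalCategory CartesianMonoidalCategory MonObj GrpObj AlgebraicGeometry TensorProduct
open SGA3

namespace Groth.Agent.S3016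

open CategoryTheory.Limits Groth.Agent.H8Props.FieldDim in
theorem range_closed_dim_field {k : Type u} [Field k] (G H : Over (Spec (CommRingCat.of k))) [GrpObj G] [GrpObj H]
    [LocallyOfFiniteType G.hom] [LocallyOfFiniteType H.hom] (u : G ⟶ H) [IsMonHom u] [QuasiCompact u.left] :
    IsClosed (Set.range u.left.base) ∧
    topologicalKrullDim G.left =
      topologicalKrullDim (Set.range u.left.base) +
        topologicalKrullDim ↥(Limits.pullback u.left (η[H] : 𝟙_ (Over (Spec (CommRingCat.of k))) ⟶ H).left) := by
  obtain ⟨C, gC, p, i, hp, hi, hpi, hf, hs, hfp, hcl, hCft, -⟩ :=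
    Groth.Agent.H19Grp.ImageFactor.exists_image_factor G H u (Groth.Agent.H12AlgSp.flat_to_field _)
  haveI := hp; haveI := hi; haveI := hf; haveI := hs; haveI := hfp; haveI := hcl; haveI := hCft
  have hr : Set.range u.left.base = Set.range i.left.base := by
    rw [← hpi, Over.comp_left]
    exact p.left.surjective.range_comp i.left.base
  haveI : IsSeparated H.hom := Groth.Agent.H19Grp.PointsDense.isSeparated_grp H
  obtain ⟨N, gN, j, hj, hjc, hker⟩ := Groth.Agent.H19Grp.AffineQuotient.exists_kernel u
  letI := gN
  haveI := hj; haveI := hjc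
  haveI : LocallyOfFiniteType N.hom := by rw [← Over.w j]; infer_instance
  refine ⟨hr ▸ i.left.isClosedEmbedding.isClosed_range, ?_⟩
  -- the kernel of p is the kernel of u
  haveI : Mono i := Over.mono_of_mono_left _
  have hone : η[C] ≫ i = η[H] := IsMonHom.one_hom i
  have hkp : IsPullback j (toUnit N) p η[C] := by
    have w : j ≫ p = toUnit N ≫ η[C] := by
      rw [← cancel_mono i, Category.assoc, hpi, Category.assoc, hone]; exact hker.w
    have hu : ∀ s : PullbackCone p η[C], s.fst ≫ u = s.snd ≫ η[H] := fun s => by
      rw [← hpi, reassoc_of% s.condition, hone]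
    exact IsPullback.of_isLimit' ⟨w⟩ (PullbackCone.IsLimit.mk w (fun s => hker.lift s.fst s.snd (hu s))
      (fun s => hker.lift_fst _ _ _) (fun s => hker.lift_snd _ _ _)
      (fun s m h₁ h₂ => hker.hom_ext (h₁.trans (hker.lift_fst _ _ _).symm) (h₂.trans (hker.lift_snd _ _ _).symm)))
  let ΓG := Groth.Agent.H19Grp.grpToGrpd G
  let ΓC := Groth.Agent.H19Grp.grpToGrpd C
  let ΓN := Groth.Agent.H19Grp.grpToGrpd N
  haveI : LocallyOfFiniteType ΓG.s := ‹LocallyOfFiniteType G.hom›
  haveI : LocallyOfFiniteType ΓG.t := ‹LocallyOfFiniteType G.hom›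
  haveI : LocallyOfFiniteType ΓC.s := ‹LocallyOfFiniteType C.hom›
  haveI : LocallyOfFiniteType ΓC.t := ‹LocallyOfFiniteType C.hom›
  haveI : LocallyOfFiniteType ΓN.s := ‹LocallyOfFiniteType N.hom›
  haveI : LocallyOfFiniteType ΓN.t := ‹LocallyOfFiniteType N.hom›
  let z : N.left := η[N].left (IsLocalRing.closedPoint k)
  have hN : FlatMor.localDim N.left z = topologicalKrullDim N.left := Groth.Agent.H19Grp.localDim_eq ΓN (Iso.refl _) z
  haveI : LocallyOfFiniteType p.left := inferInstance
  have hfib : FlatMor.fibreDimAt p.left (j.left z) = topologicalKrullDim N.left := by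
    erw [← fibreDimAt_baseChange p.left (hkp.map (Over.forget _)) z]
    rw [← hN]
    show FlatMor.fibreDimAt N.hom z = _
    have h := (localDim_le_fibreDimAt_add N.hom (𝟙 _) N.hom (Category.comp_id _) z).2 (Flat.stalkMap N.hom _)
    rw [localDim_eq_dim_of_irreducible (𝟙 (Spec (CommRingCat.of k)))] at h
    have h0 : topologicalKrullDim (Spec (CommRingCat.of k)) = 0 := by
      show topologicalKrullDim (PrimeSpectrum k) = 0
      rw [PrimeSpectrum.topologicalKrullDim_eq_ringKrullDim, ringKrullDim_eq_zero_of_field]
    rw [h0, add_zero] at h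
    exact h.symm
  have hsum := (localDim_le_fibreDimAt_add G.hom C.hom p.left (Over.w p) (j.left z)).2 (Flat.stalkMap p.left _)
  rw [Groth.Agent.H19Grp.localDim_eq ΓG (Iso.refl _) (j.left z),
    Groth.Agent.H19Grp.localDim_eq ΓC (Iso.refl _) (p.left (j.left z)), hfib] at hsum
  rw [hr, dim_range i.left.isEmbedding, hsum, add_comm]
  congr 1
  exact (hker.map (Over.forget _)).isoPullback.hom.homeomorph.isHomeomorph.topologicalKrullDim_eq

open CategoryTheory.Limits in
theorem range_closed_dim (A : Type u) [CommRing A] [IsArtinianRing A] [IsLocalRing A]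
    (G H : Over (Spec (CommRingCat.of A))) [GrpObj G] [GrpObj H] [LocallyOfFiniteType G.hom] [LocallyOfFiniteType H.hom]
    (u : G ⟶ H) [IsMonHom u] [QuasiCompact u.left] :
    IsClosed (Set.range u.left.base) ∧
    topologicalKrullDim G.left =
      topologicalKrullDim (Set.range u.left.base) +
        topologicalKrullDim ↥(Limits.pullback u.left (η[H] : 𝟙_ (Over (Spec (CommRingCat.of A))) ⟶ H).left) := by
  let k := IsLocalRing.ResidueField A
  let i : Spec (CommRingCat.of k) ⟶ Spec (CommRingCat.of A) := Spec.map (CommRingCat.ofHom (IsLocalRing.residue A))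
  haveI : IsClosedImmersion i := IsClosedImmersion.spec_of_surjective _ Ideal.Quotient.mk_surjective
  haveI : Surjective i := ⟨fun x => ⟨IsLocalRing.closedPoint k, by
    haveI : Subsingleton (Spec (CommRingCat.of A)) := ⟨fun a b => PrimeSpectrum.ext
      ((IsLocalRing.eq_maximalIdeal (Ideal.IsPrime.isMaximal' a.2)).trans
        (IsLocalRing.eq_maximalIdeal (Ideal.IsPrime.isMaximal' b.2)).symm)⟩
    exact Subsingleton.elim _ _⟩⟩
  let F := Over.pullback i
  letI : GrpObj (F.obj G) := Functor.grpObjObj
  letI : GrpObj (F.obj H) := Functor.grpObjObj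
  haveI : IsMonHom (F.map u) := inferInstance
  haveI : LocallyOfFiniteType (F.obj G).hom := inferInstanceAs (LocallyOfFiniteType (pullback.snd _ _))
  haveI : LocallyOfFiniteType (F.obj H).hom := inferInstanceAs (LocallyOfFiniteType (pullback.snd _ _))
  let πG := pullback.fst G.hom i
  let πH := pullback.fst H.hom i
  have sq : IsPullback πG (F.map u).left u.left πH := by
    refine IsPullback.of_bot ?_ ?_ (IsPullback.of_hasPullback H.hom i)
    · simpa [F, πG] using IsPullback.of_hasPullback G.hom i
    · simp [F, πH]
      rfl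
  haveI : QuasiCompact (F.map u).left := MorphismProperty.of_isPullback sq ‹_›
  obtain ⟨h1, h2⟩ := range_closed_dim_field (F.obj G) (F.obj H) (F.map u)
  haveI : Surjective πG := MorphismProperty.pullback_fst _ _ ‹Surjective i›
  haveI : Surjective πH := MorphismProperty.pullback_fst _ _ ‹Surjective i›
  haveI : IsClosedImmersion πG := MorphismProperty.pullback_fst _ _ ‹IsClosedImmersion i›
  haveI : IsClosedImmersion πH := MorphismProperty.pullback_fst _ _ ‹IsClosedImmersion i›
  have hG : topologicalKrullDim (F.obj G).left = topologicalKrullDim G.left :=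
    IsHomeomorph.topologicalKrullDim_eq _
      (πG.isEmbedding.toHomeomorphOfSurjective πG.surjective).isHomeomorph
  have hr : Set.range u.left.base = πH.base '' Set.range (F.map u).left.base := by
    rw [← Set.range_comp]
    refine Set.ext fun y => ⟨?_, ?_⟩
    · rintro ⟨x, rfl⟩
      obtain ⟨x', rfl⟩ := πG.surjective x
      exact ⟨x', show πH ((F.map u).left x') = u.left (πG x') by
        exact ((congrArg (fun m => m x') sq.w : (πG ≫ u.left) x' = ((F.map u).left ≫ πH) x')).symm⟩
    · rintro ⟨x', rfl⟩
      exact ⟨πG x', show u.left (πG x') = πH ((F.map u).left x') by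
        exact (congrArg (fun m => m x') sq.w : (πG ≫ u.left) x' = ((F.map u).left ≫ πH) x')⟩
  refine ⟨hr ▸ πH.isClosedEmbedding.isClosedMap _ h1, ?_⟩
  have hR : topologicalKrullDim (Set.range (F.map u).left.base) = topologicalKrullDim (Set.range u.left.base) := by
    rw [hr]
    exact IsHomeomorph.topologicalKrullDim_eq _ (πH.isEmbedding.homeomorphImage _).isHomeomorph
  rw [← hG, h2, hR]
  congr 1
  -- the kernels
  have he : (η[F.obj H]).left ≫ πH = i ≫ (η[H]).left := by
    rw [show η[F.obj H] = Functor.LaxMonoidal.ε F ≫ F.map η[H] from Functor.obj.η_def (F := F) H,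
      Over.comp_left, Category.assoc]
    erw [pullback.lift_fst]
    rw [← Category.assoc]
    congr 1
    have hw : (Functor.LaxMonoidal.ε F).left ≫ pullback.snd (𝟙_ (Over (Spec (CommRingCat.of A)))).hom i = 𝟙 _ :=
      Over.w (Functor.LaxMonoidal.ε F)
    have hc := congrArg (fun m => (Functor.LaxMonoidal.ε F).left ≫ m)
      (pullback.condition (f := (𝟙_ (Over (Spec (CommRingCat.of A)))).hom) (g := i))
    try simp only at hc
    rw [← Category.assoc _ (pullback.snd _ _), hw] at hc
    exact (congrArg (fun m => (Functor.LaxMonoidal.ε F).left ≫ m)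
      (Category.comp_id (pullback.fst (𝟙_ (Over (Spec (CommRingCat.of A)))).hom i)).symm).trans (hc.trans (Category.id_comp i))
  let c : pullback (F.map u).left (η[F.obj H]).left ⟶ pullback u.left (η[H]).left :=
    pullback.map _ _ _ _ πG i πH sq.w.symm he
  haveI : Mono πH := inferInstance
  haveI : IsSeparated (F.obj H).hom := Groth.Agent.H19Grp.PointsDense.isSeparated_grp (F.obj H)
  haveI : IsClosedImmersion (η[F.obj H]).left := isClosedImmersion_of_comp_eq_id (F.obj H).hom _ (Over.w η[F.obj H])
  haveI : Mono (η[H]).left := (SplitMono.mk H.hom (Over.w η[H]) : SplitMono (η[H]).left).mono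
  haveI : IsClosedImmersion (c ≫ pullback.fst u.left (η[H]).left) := by
    rw [pullback.lift_fst]; infer_instance
  haveI : IsClosedImmersion c := IsClosedImmersion.of_comp c (pullback.fst u.left (η[H]).left)
  have hc : Function.Surjective c := by
    rw [← Set.range_eq_univ]
    erw [Scheme.Pullback.range_map]
    erw [Set.range_eq_univ.2 πG.surjective, Set.range_eq_univ.2 i.surjective]
    simp
  exact IsHomeomorph.topologicalKrullDim_eq _ (c.isEmbedding.toHomeomorphOfSurjective hc).isHomeomorph


/-- Let A be a local artinian ring and u : G → H a quasi-compact homomorphism between group schemes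
locally of finite type over A. Then the image u(G) is a closed subset of H, and dim G = dim u(G) +
dim Ker u (dimensions of the underlying topological spaces; Ker u is the fibre of u over the unit
section). -/
theorem result (A : Type u) [CommRing A] [IsArtinianRing A] [IsLocalRing A]
    (G H : Over (Spec (CommRingCat.of A))) [GrpObj G] [GrpObj H] [LocallyOfFiniteType G.hom] [LocallyOfFiniteType H.hom]
    (u : G ⟶ H) [IsMonHom u] [QuasiCompact u.left] :
    IsClosed (Set.range u.left.base) ∧
    topologicalKrullDim G.left =
      topologicalKrullDim (Set.range u.left.base) +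
        topologicalKrullDim ↥(Limits.pullback u.left (η[H] : 𝟙_ (Over (Spec (CommRingCat.of A))) ⟶ H).left) := by
  exact range_closed_dim A G H u

end Groth.Agent.S3016
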