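import Groth.Statements.S3021
import Groth.Agent.H20Comod.Basic
import Mathlib

set_option autoImplicit false
universe u
open CategoryTheory MonoidalCategory CartesianMonoidalCategory MonObj GrpObj AlgebraicGeometry TensorProduct
open SGA3

namespace Groth.Agent.S3021

theorem eq_zero_slice {A : Type u} [CommRing A] {C : Type u} [AddCommGroup C] [Module A C] [Module.Projective A C]
    {V : Type u} [AddCommGroup V] [Module A V] {x : V ⊗[A] C}
    (h : ∀ f : C →ₗ[A] A, H20Comod.sliceR f x = 0) : x = 0 := by
  obtain ⟨s, hs⟩ := Module.projective_def.mp (inferInstance : Module.Projective A C)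
  have hinj : Function.Injective (s.lTensor V) := Function.LeftInverse.injective
    (g := (Finsupp.linearCombination A id).lTensor V) fun z => by
      rw [← LinearMap.comp_apply, ← LinearMap.lTensor_comp,
        show Finsupp.linearCombination A id ∘ₗ s = LinearMap.id from LinearMap.ext hs]
      exact LinearMap.congr_fun (LinearMap.lTensor_id _ _) z
  apply hinj
  rw [map_zero]
  exact H20Comod.eq_zero_of_forall_sliceR fun f => by rw [H20Comod.sliceR_lTensor]; exact h _


/-- Let A be a commutative ring, C an A-coalgebra which is projective as an A-module, V a C-comodule and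
M an A-submodule of V. Then there is a smallest subcomodule of V containing M, and it is finitely
generated over A when M is. -/
theorem result (A : Type u) [CommRing A] (C : Type u) [AddCommGroup C] [Module A C]
    [Coalgebra A C] [Module.Projective A C] (V : Type u) [AddCommGroup V] [Module A V] [HopfRep.Comod A C V]
    (M : Submodule A V) :
    ∃ W : Submodule A V, HopfRep.IsSubcomod (k := A) (A := C) W ∧ M ≤ W ∧
      (∀ W' : Submodule A V, HopfRep.IsSubcomod (k := A) (A := C) W' → M ≤ W' → W ≤ W') ∧
      (M.FG → W.FG) := by
  classical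
  have mem_iff : ∀ (W : Submodule A V) (x : V ⊗[A] C), (∀ f : C →ₗ[A] A, H20Comod.sliceR f x ∈ W) →
      x ∈ LinearMap.range (W.subtype.rTensor C) := by
    intro W x h
    refine ((rTensor_exact C (LinearMap.exact_subtype_mkQ W) W.mkQ_surjective) x).1
      (eq_zero_slice fun f => ?_)
    rw [H20Comod.sliceR_rTensor]
    exact (Submodule.Quotient.mk_eq_zero W).2 (h f)
  refine ⟨H20Comod.gen A C (M : Set V), ?_, fun m hm => H20Comod.subset_gen _ hm, fun W' hW' hM => ?_, fun hM => ?_⟩
  · intro w hw
    refine mem_iff _ _ fun f => ?_
    have : H20Comod.gen A C (M : Set V) ≤ (H20Comod.gen A C (M : Set V)).comap (H20Comod.actL f) := by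
      rw [H20Comod.gen, Submodule.span_le]
      rintro _ ⟨g, v, hv, rfl⟩
      exact Submodule.subset_span ⟨H20Comod.conv f g, v, hv, H20Comod.actL_conv f g v⟩
    exact this hw
  · rw [H20Comod.gen, Submodule.span_le]
    rintro _ ⟨f, v, hv, rfl⟩
    exact H20Comod.sliceR_mem_of_mem_range (hW' v (hM hv)) f
  · obtain ⟨t, ht⟩ := hM
    obtain ⟨s, hs⟩ := Module.projective_def.mp (inferInstance : Module.Projective A C)
    let co : V →ₗ[A] V ⊗[A] C := HopfRep.Comod.coact (k := A) (A := C)
    let φ : C → (C →ₗ[A] A) := fun j => (Finsupp.lapply j) ∘ₗ s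
    have hx : ∀ x : V ⊗[A] C, ∃ J : Finset C, ∀ f : C →ₗ[A] A,
        H20Comod.sliceR f x = ∑ j ∈ J, f j • H20Comod.sliceR (φ j) x := by
      intro x
      obtain ⟨S, hS⟩ := TensorProduct.exists_finset x
      refine ⟨S.biUnion fun p => (s p.2).support, fun f => ?_⟩
      have key : ∀ p ∈ S, f p.2 = ∑ j ∈ S.biUnion (fun p => (s p.2).support), f j * φ j p.2 := by
        intro p hp
        conv_lhs => rw [← hs p.2, Finsupp.linearCombination_apply, Finsupp.sum]
        rw [map_sum, Finset.sum_subset (Finset.subset_biUnion_of_mem (fun p : V × C => (s p.2).support) hp)]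
        · exact Finset.sum_congr rfl fun j _ => by simp [φ, mul_comm]
        · intro j _ hj
          simp [Finsupp.notMem_support_iff.mp hj]
      rw [hS]
      simp only [map_sum, H20Comod.sliceR_tmul, Finset.smul_sum, smul_smul]
      rw [Finset.sum_comm]
      refine Finset.sum_congr rfl fun p hp => ?_
      rw [← Finset.sum_smul, ← key p hp]
    choose J hJ using hx
    have e : H20Comod.gen A C (M : Set V) =
        Submodule.span A (↑(t.biUnion fun m => (J (co m)).image fun j => H20Comod.sliceR (φ j) (co m)) : Set V) := by
      refine le_antisymm ?_ (Submodule.span_le.mpr ?_)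
      · rw [H20Comod.gen, Submodule.span_le]
        rintro _ ⟨f, v, hv, rfl⟩
        rw [SetLike.mem_coe, ← ht] at hv
        induction hv using Submodule.span_induction with
        | mem m hm =>
          rw [SetLike.mem_coe, H20Comod.actL_apply, hJ]
          refine sum_mem fun j hj => Submodule.smul_mem _ _ (Submodule.subset_span ?_)
          exact Finset.mem_biUnion.mpr ⟨m, hm, Finset.mem_image.mpr ⟨j, hj, rfl⟩⟩
        | zero => rw [map_zero]; exact zero_mem _
        | add a b _ _ ha hb => rw [map_add]; exact add_mem ha hb
        | smul r a _ ha => rw [map_smul]; exact Submodule.smul_mem _ r ha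
      · intro z hz
        obtain ⟨m, hm, hz⟩ := Finset.mem_biUnion.mp hz
        obtain ⟨j, -, rfl⟩ := Finset.mem_image.mp hz
        exact Submodule.subset_span ⟨φ j, m, ht ▸ Submodule.subset_span hm, rfl⟩
    rw [e]
    exact Submodule.fg_span (Finset.finite_toSet _)

end Groth.Agent.S3021
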