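import Groth.Statements.S3022
import Groth.Prelude.Def_Red
import Groth.Agent.H19Grp.Dimension
import Groth.Agent.H19Grp.OrbitGeneric
import Groth.Agent.H19Grp.GrpToGrpd
import Groth.Agent.H8Props.FlatFibreConst

set_option autoImplicit false
set_option maxHeartbeats 1000000
set_option synthInstance.maxHeartbeats 100000
set_option linter.style.haveILetI false
set_option backward.isDefEq.respectTransparency false
universe u
open CategoryTheory MonoidalCategory CartesianMonoidalCategory MonObj GrpObj AlgebraicGeometry TensorProduct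
open SGA3

namespace Groth.Agent.S3022

open Groth.Agent.H8Props.FieldDim in
theorem locConst (S : Scheme.{u}) (G : Over S) [GrpObj G] [Flat G.hom] [LocallyOfFinitePresentation G.hom] :
    IsLocallyConstant (fun s : S => topologicalKrullDim ↥(G.hom.base ⁻¹' {s})) := by
  have hfib : ∀ w : G.left, FlatMor.fibreDimAt G.hom w =
      topologicalKrullDim ↥(G.hom.base ⁻¹' {G.hom w}) := by
    intro w
    let Gs := Red.bc (S.fromSpecResidueField (G.hom w)) G
    haveI : LocallyOfFiniteType Gs.hom :=
      show LocallyOfFiniteType (Limits.pullback.snd G.hom (S.fromSpecResidueField (G.hom w))) from inferInstance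
    let Γ := Groth.Agent.H19Grp.grpToGrpd Gs
    haveI : LocallyOfFiniteType Γ.s := ‹LocallyOfFiniteType Gs.hom›
    haveI : LocallyOfFiniteType Γ.t := ‹LocallyOfFiniteType Gs.hom›
    exact (Groth.Agent.H19Grp.localDim_eq Γ (Iso.refl _) (G.hom.asFiber w)).trans
      (IsHomeomorph.topologicalKrullDim_eq (G.hom.fiberHomeo (G.hom w)) (G.hom.fiberHomeo (G.hom w)).isHomeomorph)
  rw [IsLocallyConstant.iff_exists_open]
  intro s
  obtain ⟨η₀, -, hmax⟩ := Groth.Agent.H19Grp.exists_isMaxPt (α := G.hom.fiber s) (G.hom.asFiber (η[G].left s) |> fun p =>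
    (show G.hom (η[G].left s) = s from (Scheme.Hom.comp_apply _ _ _).symm.trans
      (congrArg (fun m : S ⟶ S => m s) (Over.w η[G]))) ▸ p)
  let x := G.hom.fiberι s η₀
  have hx : G.hom x = s := (G.hom.range_fiberι s).le ⟨η₀, rfl⟩
  have hcm : LocCoh.IsCohenMacaulayLocalRing ((G.hom.fiber (G.hom x)).presheaf.stalk (G.hom.asFiber x)) := by
    refine Groth.Agent.H8Props.FieldDim.fibre_CM_of_maximal G.hom x ?_
    have key : ∀ {s' : S} (h : s' = s) (p : G.hom.fiber s'), G.hom.fiberι s' p = x → ∀ ζ, ζ ⤳ p → ζ = p := by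
      intro s' h p hp ζ hζ
      subst h
      obtain rfl : p = η₀ := (G.hom.fiberι s').isEmbedding.injective hp
      exact (hζ.antisymm (hmax ζ hζ)).eq
    exact key hx _ (G.hom.fiberι_asFiber x)
  obtain ⟨V, hV, hVo, hxV⟩ := eventually_nhds_iff.1 (Groth.Agent.H8Props.FieldDim.eventually_fibreDimAt_eq G.hom x hcm)
  refine ⟨G.hom.base '' V, G.hom.isOpenMap _ hVo, ⟨x, hxV, hx⟩, ?_⟩
  rintro _ ⟨w, hw, rfl⟩
  rw [← hfib w, hV w hw, hfib x, hx]


/-- Let S be a scheme and G a group scheme over S which is flat and locally of finite presentation. Then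
s ↦ dim G_s (the dimension of the fibre, i.e. of the subspace of G lying over s) is a locally
constant function on S. -/
theorem result (S : Scheme.{u}) (G : Over S) [GrpObj G] [Flat G.hom]
    [LocallyOfFinitePresentation G.hom] :
    IsLocallyConstant (fun s : S => topologicalKrullDim ↥(G.hom.base ⁻¹' {s})) := by
  exact locConst S G

end Groth.Agent.S3022
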