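import Groth.Statements.S3023
import Groth.Agent.H19Grp.IdentityComponent

set_option autoImplicit false
set_option linter.style.haveILetI false
set_option backward.isDefEq.respectTransparency false
universe u
open CategoryTheory MonoidalCategory CartesianMonoidalCategory MonObj GrpObj AlgebraicGeometry TensorProduct
open SGA3

namespace Groth.Agent.S3023

/-- Let G be a group scheme over a field k (not necessarily locally of finite type). There is a group
scheme G⁰ over k with a homomorphism G⁰ ⟶ G that is a flat closed immersion (so the local rings of
G⁰ are those of G) and whose image is the connected component of the identity point of G. The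
published statement describes this underlying space as the irreducible component of the identity
point, which coincides with its connected component; the connected component is the form used here. -/
theorem result (k : Type u) [Field k] (G : Over (Spec (CommRingCat.of k))) [GrpObj G] :
    ∃ (G0 : Over (Spec (CommRingCat.of k))) (_ : GrpObj G0) (i : G0 ⟶ G), IsMonHom i ∧ IsClosedImmersion i.left ∧ Flat i.left ∧
      (∀ pt : ↥(𝟙_ (Over (Spec (CommRingCat.of k)))).left, Set.range i.left.base = connectedComponent (η[G].left.base pt)) := by
  obtain ⟨inst, hm⟩ := Groth.Agent.H19Grp.exists_grpObj_idComp G
  refine ⟨Groth.Agent.H19Grp.idComp G, inst, Groth.Agent.H19Grp.idCompι G, hm, inferInstance,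
    Groth.Agent.H19Grp.flat_clopenIdeal_subschemeι _, fun pt => ?_⟩
  rw [show pt = IsLocalRing.closedPoint k from @Subsingleton.elim (PrimeSpectrum k) inferInstance _ _]
  exact Groth.Agent.H19Grp.range_idCompι G

end Groth.Agent.S3023
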