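import Groth.Statements.S4100
import Groth.Agent.H19Grp.Translations

set_option autoImplicit false
set_option linter.style.haveILetI false
set_option backward.isDefEq.respectTransparency false
universe u
open CategoryTheory MonoidalCategory CartesianMonoidalCategory MonObj GrpObj AlgebraicGeometry CategoryTheory.Limits
open SGA3

namespace Groth.Agent.S4100

/-- Let G be an S-group scheme locally of finite presentation and universally open over S with connected
fibres, acting on an S-scheme X locally of finite presentation over S in such a way that the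
morphism G ×_S X → X ×_S X, (g, x) ↦ (g·x, x), is surjective. Then X is separated over S. -/
theorem result (S : Scheme.{u}) (G X : Over S) [GrpObj G]
    [LocallyOfFinitePresentation G.hom] [UniversallyOpen G.hom]
    (hconn : ∀ s : S, _root_.IsConnected (G.hom.base ⁻¹' {s}))
    [LocallyOfFinitePresentation X.hom] (a : AlgGrp.Action G X)
    (hΦ : Surjective (lift a.act (snd G X)).left) : IsSeparated X.hom := by
  have hconn' : ∀ s : S, ConnectedSpace (G.hom.fiber s) := fun s =>
    (G.hom.fiberHomeo s).connectedSpace_iff.mpr (isConnected_iff_connectedSpace.1 (hconn s))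
  haveI : UniversallyOpen ((⊤ : G.left.Opens).ι ≫ G.hom) := inferInstance
  refine H19Grp.isSeparated_of_translations a ⊤ fun z => ?_
  obtain ⟨w₀, hw₀⟩ := hΦ.surj z
  obtain ⟨Ω, _, P, hP, p, hp⟩ := H19Grp.exists_geometric_point (Y := G ⊗ X) w₀
  haveI : IrreducibleSpace ↥(G ⊗ P).left := H19Grp.irreducibleSpace_tensor_point hconn' P hP
  let g₀ : P ⟶ G := p ≫ fst G X
  let y : P ⟶ X := p ≫ snd G X
  let x : P ⟶ X := H18Torsor.smul a g₀ y
  haveI : Nonempty P.left := hP ▸ inferInstanceAs (Nonempty (Spec (CommRingCat.of Ω)))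
  let t : P.left := Classical.arbitrary _
  have hxy : lift x y = p ≫ lift a.act (snd G X) := by
    rw [comp_lift]
    congr 1
    show lift (p ≫ fst G X) (p ≫ snd G X) ≫ a.act = _
    rw [← comp_lift, lift_fst_snd, Category.comp_id]
  have hz : (lift x y).left t = z := by
    rw [hxy, Over.comp_left, Scheme.Hom.comp_apply, hp]
    exact hw₀
  obtain ⟨_, ⟨(U : X.left.Opens), (hU : IsAffineOpen U), rfl⟩, hyU, -⟩ :=
    X.left.isBasis_affineOpens.exists_subset_of_mem_open (Set.mem_univ (y.left t)) isOpen_univ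
  let A : G ⊗ P ⟶ X := (G ◁ x) ≫ a.act
  let B : G ⊗ P ⟶ X := (G ◁ y) ≫ a.act
  have key : ∀ (g : P ⟶ G) (v : P ⟶ X), lift g (𝟙 P) ≫ (G ◁ v) ≫ a.act = H18Torsor.smul a g v := fun g v => by
    rw [lift_whiskerLeft_assoc, Category.id_comp]
    rfl
  have hA : (A.left ⁻¹' (U : Set X.left)).Nonempty := by
    refine ⟨(lift g₀⁻¹ (𝟙 P)).left t, ?_⟩
    show A.left _ ∈ U
    rw [← Scheme.Hom.comp_apply, ← Over.comp_left, key, ← H18Torsor.mul_smul_pt, inv_mul_cancel,
      H18Torsor.one_smul_pt]
    exact hyU
  have hB : (B.left ⁻¹' (U : Set X.left)).Nonempty := by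
    refine ⟨(lift 1 (𝟙 P)).left t, ?_⟩
    show B.left _ ∈ U
    rw [← Scheme.Hom.comp_apply, ← Over.comp_left, key, H18Torsor.one_smul_pt]
    exact hyU
  obtain ⟨v, hvA, hvB⟩ := nonempty_preirreducible_inter (U.2.preimage A.left.continuous)
    (U.2.preimage B.left.continuous) hA hB
  haveI : IsAffine (U : Scheme) := hU
  refine ⟨U, (G ◁ lift x y).left v, ?_, ?_, trivial, ?_, ?_⟩
  · infer_instance
  · rw [← Scheme.Hom.comp_apply, ← Over.comp_left, whiskerLeft_snd, Over.comp_left, Scheme.Hom.comp_apply]
    haveI : Subsingleton P.left := hP ▸ inferInstanceAs (Subsingleton (PrimeSpectrum Ω))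
    rw [Subsingleton.elim ((snd G P).left v) t]
    exact hz
  · rw [← Scheme.Hom.comp_apply, ← Over.comp_left, ← MonoidalCategory.whiskerLeft_comp_assoc, lift_fst]
    exact hvA
  · rw [← Scheme.Hom.comp_apply, ← Over.comp_left, ← MonoidalCategory.whiskerLeft_comp_assoc, lift_snd]
    exact hvB

end Groth.Agent.S4100
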