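import Groth.Statements.S3025
import Groth.Agent.S4100

set_option autoImplicit false
set_option linter.style.haveILetI false
set_option backward.isDefEq.respectTransparency false
universe u
open CategoryTheory MonoidalCategory CartesianMonoidalCategory MonObj GrpObj AlgebraicGeometry TensorProduct
open SGA3

namespace Groth.Agent.S3025

theorem qc {S : Scheme.{u}} (G : Over S) [GrpObj G] [LocallyOfFinitePresentation G.hom]
    (hconn : ∀ s : S, ConnectedSpace (G.hom.fiber s)) : QuasiCompact G.hom := by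
  rw [quasiCompact_iff_forall_isAffineOpen]
  intro V hV
  let e : S ⟶ G.left := η[G].left
  have he : e ≫ G.hom = 𝟙 S := Over.w η[G]
  have hcov : ∀ s : S, s ∈ V → ∃ W : G.left.Opens, IsAffineOpen W ∧ e s ∈ W ∧ W ≤ G.hom ⁻¹ᵁ V := by
    intro s hs
    obtain ⟨_, ⟨(W : G.left.Opens), (hW : IsAffineOpen W), rfl⟩, h1, h2⟩ :=
      G.left.isBasis_affineOpens.exists_subset_of_mem_open (show e s ∈ (G.hom ⁻¹ᵁ V : Set G.left) from by
        show G.hom (e s) ∈ V
        rw [← Scheme.Hom.comp_apply, he]
        exact hs) (G.hom ⁻¹ᵁ V).2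
    exact ⟨W, hW, h1, h2⟩
  choose W hWaff hWmem hWle using hcov
  obtain ⟨F, hF⟩ := hV.isCompact.elim_finite_subcover
    (fun s : {s // s ∈ V} => e ⁻¹' (W s.1 s.2 : Set G.left)) (fun s => (W s.1 s.2).2.preimage e.continuous)
    (fun s hs => Set.mem_iUnion.2 ⟨⟨s, hs⟩, hWmem s hs⟩)
  let T : Set ↥(G ⊗ G).left := ⋃ i ∈ F, ⋃ j ∈ F,
    (fst G G).left ⁻¹' (W i.1 i.2 : Set G.left) ∩ (snd G G).left ⁻¹' (W j.1 j.2 : Set G.left)
  have hT : IsCompact T := by
    refine F.isCompact_biUnion fun i _ => F.isCompact_biUnion fun j _ => ?_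
    let Wi := W i.1 i.2
    let Wj := W j.1 j.2
    haveI : IsAffine (Wi : Scheme) := hWaff i.1 i.2
    haveI : IsAffine (Wj : Scheme) := hWaff j.1 j.2
    haveI : IsAffine (V : Scheme) := hV
    have hr : ∀ Wk : G.left.Opens, Wk ≤ G.hom ⁻¹ᵁ V → Set.range (Wk.ι ≫ G.hom) ⊆ Set.range V.ι := by
      rintro Wk hk _ ⟨w, rfl⟩
      rw [Scheme.Opens.range_ι]
      exact hk w.2
    let a := IsOpenImmersion.lift V.ι (Wi.ι ≫ G.hom) (hr Wi (hWle i.1 i.2))
    let b := IsOpenImmersion.lift V.ι (Wj.ι ≫ G.hom) (hr Wj (hWle j.1 j.2))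
    have ha : a ≫ V.ι = Wi.ι ≫ G.hom := IsOpenImmersion.lift_fac _ _ _
    have hb : b ≫ V.ι = Wj.ι ≫ G.hom := IsOpenImmersion.lift_fac _ _ _
    let q : Limits.pullback a b ⟶ Limits.pullback (Wi.ι ≫ G.hom) (Wj.ι ≫ G.hom) :=
      Limits.pullback.lift (Limits.pullback.fst a b) (Limits.pullback.snd a b)
        (by rw [← ha, ← hb, Limits.pullback.condition_assoc])
    let q' : Limits.pullback (Wi.ι ≫ G.hom) (Wj.ι ≫ G.hom) ⟶ Limits.pullback a b :=
      Limits.pullback.lift (Limits.pullback.fst _ _) (Limits.pullback.snd _ _)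
        (by rw [← cancel_mono V.ι, Category.assoc, Category.assoc, ha, hb, Limits.pullback.condition])
    have hq : q' ≫ q = 𝟙 _ := by apply Limits.pullback.hom_ext <;> simp [q, q']
    let m : Limits.pullback (Wi.ι ≫ G.hom) (Wj.ι ≫ G.hom) ⟶ (G ⊗ G).left :=
      Limits.pullback.map (Wi.ι ≫ G.hom) (Wj.ι ≫ G.hom) G.hom G.hom Wi.ι Wj.ι (𝟙 S)
        (Category.comp_id _) (Category.comp_id _)
    have hrange : (fst G G).left ⁻¹' (Wi : Set G.left) ∩ (snd G G).left ⁻¹' (Wj : Set G.left) =
        Set.range (q ≫ m) := by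
      have hm : Set.range m = (fst G G).left ⁻¹' (Wi : Set G.left) ∩ (snd G G).left ⁻¹' (Wj : Set G.left) := by
        dsimp only [m]
        erw [Scheme.Pullback.range_map]
        rw [Scheme.Opens.range_ι, Scheme.Opens.range_ι]
        rfl
      rw [← hm]
      refine Set.Subset.antisymm ?_ (fun x ⟨y, hy⟩ => ⟨q y, by rw [← Scheme.Hom.comp_apply]; exact hy⟩)
      rintro x ⟨y, rfl⟩
      exact ⟨q' y, by rw [← Scheme.Hom.comp_apply, reassoc_of% hq]⟩
    rw [hrange]
    exact isCompact_range (q ≫ m).continuous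
  have himg : (G.hom ⁻¹' (V : Set S)) = μ[G].left '' T := by
    apply Set.Subset.antisymm
    · intro g hg
      obtain ⟨Ω, _, P, hP, p, hp⟩ := H19Grp.exists_geometric_point (Y := G) g
      haveI : IrreducibleSpace ↥(G ⊗ P).left := H19Grp.irreducibleSpace_tensor_point hconn P hP
      haveI : Nonempty P.left := hP ▸ inferInstanceAs (Nonempty (Spec (CommRingCat.of Ω)))
      haveI : Subsingleton P.left := hP ▸ inferInstanceAs (Subsingleton (PrimeSpectrum Ω))
      let t : P.left := Classical.arbitrary _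
      let B : G ⊗ P ⟶ G := (snd G P ≫ p) * (fst G P)⁻¹
      have hs : P.hom t ∈ V := by
        rw [← Over.w p, Scheme.Hom.comp_apply, hp]; exact hg
      obtain ⟨i, hiF, hi⟩ := Set.mem_iUnion₂.1 (hF hs)
      have h1 : (1 : P ⟶ G).left t = e (P.hom t) := by
        rw [Hom.one_def, Over.comp_left, Scheme.Hom.comp_apply]
        rfl
      have hU : ((fst G P).left ⁻¹' (W i.1 i.2 : Set G.left)).Nonempty := by
        refine ⟨(CartesianMonoidalCategory.lift 1 (𝟙 P)).left t, ?_⟩
        show (fst G P).left _ ∈ W i.1 i.2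
        rw [← Scheme.Hom.comp_apply, ← Over.comp_left, lift_fst, h1]
        exact hi
      have hB : (B.left ⁻¹' (W i.1 i.2 : Set G.left)).Nonempty := by
        refine ⟨(CartesianMonoidalCategory.lift p (𝟙 P)).left t, ?_⟩
        show B.left _ ∈ W i.1 i.2
        rw [← Scheme.Hom.comp_apply, ← Over.comp_left]
        simp only [B, MonObj.comp_mul, GrpObj.comp_inv, lift_fst, lift_snd_assoc, Category.id_comp, mul_inv_cancel]
        rw [h1]
        exact hi
      obtain ⟨v, hv1, hv2⟩ := nonempty_preirreducible_inter ((W i.1 i.2).2.preimage (fst G P).left.continuous)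
        ((W i.1 i.2).2.preimage B.left.continuous) hU hB
      refine ⟨(CartesianMonoidalCategory.lift B (fst G P)).left v, ?_, ?_⟩
      · simp only [T, Set.mem_iUnion]
        refine ⟨i, hiF, i, hiF, ?_, ?_⟩
        · rw [Set.mem_preimage]
          rw [← Scheme.Hom.comp_apply, ← Over.comp_left, lift_fst]; exact hv2
        · rw [Set.mem_preimage]
          rw [← Scheme.Hom.comp_apply, ← Over.comp_left, lift_snd]; exact hv1
      · rw [← Scheme.Hom.comp_apply, ← Over.comp_left, ← Hom.mul_def]
        simp only [B, inv_mul_cancel_right]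
        rw [Over.comp_left, Scheme.Hom.comp_apply, hp]
    · rintro _ ⟨z, hz, rfl⟩
      simp only [T, Set.mem_iUnion] at hz
      obtain ⟨i, -, j, -, hz1, -⟩ := hz
      show G.hom (μ[G].left z) ∈ V
      rw [← Scheme.Hom.comp_apply, Over.w μ[G]]
      have := hWle i.1 i.2 hz1
      rw [← Over.w (fst G G), Scheme.Hom.comp_apply]
      exact this
  rw [show (G.hom ⁻¹ᵁ V : Set G.left) = μ[G].left '' T from himg]
  exact hT.image μ[G].left.continuous


/-- Let S be a scheme and G a group scheme over S which is locally of finite presentation and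
universally open over S and whose fibres are connected. Then G is separated and quasi-compact (hence
of finite presentation) over S. -/
theorem result (S : Scheme.{u}) (G : Over S) [GrpObj G]
    [LocallyOfFinitePresentation G.hom] [UniversallyOpen G.hom]
    (hconn : ∀ s : S, _root_.IsConnected (G.hom.base ⁻¹' {s})) :
    IsSeparated G.hom ∧ QuasiCompact G.hom := by
  have hconn' : ∀ s : S, ConnectedSpace (G.hom.fiber s) := fun s =>
    (G.hom.fiberHomeo s).connectedSpace_iff.mpr (isConnected_iff_connectedSpace.1 (hconn s))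
  let a : AlgGrp.Action G G := { act := μ[G], one_act := MonObj.one_mul G, mul_act := MonObj.mul_assoc G }
  have hiso : IsIso (lift μ[G] (snd G G)) := by
    refine ⟨lift ((fst G G) * (snd G G)⁻¹) (snd G G), ?_, ?_⟩
    · apply CartesianMonoidalCategory.hom_ext
      · simp only [Category.assoc, lift_fst, MonObj.comp_mul, GrpObj.comp_inv, lift_snd, Category.id_comp]
        rw [show μ[G] = fst G G * snd G G from MonObj.mul_eq_mul G, mul_inv_cancel_right]
      · simp
    · apply CartesianMonoidalCategory.hom_ext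
      · rw [Category.assoc, lift_fst, ← Hom.mul_def, inv_mul_cancel_right, Category.id_comp]
      · simp
  refine ⟨S4100.result S G G hconn a ?_, qc G hconn'⟩
  haveI : IsIso (lift μ[G] (snd G G)).left := (Over.forget S).map_isIso (lift μ[G] (snd G G))
  exact inferInstanceAs (Surjective (lift μ[G] (snd G G)).left)

end Groth.Agent.S3025
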