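import Groth.Statements.S3026
import Groth.Agent.H19Grp.AntiAffineSmooth

set_option autoImplicit false
universe u
open CategoryTheory MonoidalCategory CartesianMonoidalCategory MonObj GrpObj AlgebraicGeometry TensorProduct
open SGA3

namespace Groth.Agent.S3026

/-- Let N be a group scheme of finite type over a field k such that the structure map identifies k with
the ring of global functions of N. Then N is smooth over k. (The same lemma also gives connectedness
and commutativity.) -/
theorem result (k : Type u) [Field k] (N : Over (Spec (CommRingCat.of k))) [GrpObj N]
    [LocallyOfFiniteType N.hom] [QuasiCompact N.hom]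
    (hO : Function.Bijective ((Scheme.ΓSpecIso (CommRingCat.of k)).inv ≫ N.hom.appTop).hom) :
    Smooth N.hom := by
  haveI : IsIso N.hom.appTop := (Groth.Agent.H19Grp.AntiAffine.isIso_appTop_iff N.hom).mpr hO
  exact Groth.Agent.H19Grp.AntiAffineSmooth.smooth N

end Groth.Agent.S3026
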