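import Groth.Statements.S5356
import Groth.Agent.H20EssFree.Basic
import Groth.Agent.H12AlgSp.UnivInj

set_option autoImplicit false
universe u
open CategoryTheory CategoryTheory.Limits MonoidalCategory CartesianMonoidalCategory MonObj GrpObj AlgebraicGeometry
open SGA3

namespace Groth.Agent.S5356

/-- b), c) (first assertion of c)): (a) an essentially free morphism f : X → S is flat, and conversely
if S is the spectrum of an artinian ring every flat S-scheme is essentially free over S; (b) every
scheme over a field is essentially free over it; (c) if X is essentially free over S then X ×_S S'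
is essentially free over S' for every S' → S. -/
theorem result :
    (∀ (X S : Scheme.{u}) (f : X ⟶ S), SGA3x.IsEssentiallyFree f → Flat f) ∧
    (∀ (A : Type u) [CommRing A] [IsArtinianRing A] (X : Scheme.{u}) (f : X ⟶ Spec (CommRingCat.of A)),
      Flat f → SGA3x.IsEssentiallyFree f) ∧
    (∀ (k : Type u) [Field k] (X : Scheme.{u}) (f : X ⟶ Spec (CommRingCat.of k)), SGA3x.IsEssentiallyFree f) ∧
    (∀ (X S S' : Scheme.{u}) (f : X ⟶ S) (g : S' ⟶ S), SGA3x.IsEssentiallyFree f →
      SGA3x.IsEssentiallyFree (pullback.snd f g)) := by
  refine ⟨fun X S f hf => Groth.Agent.H20EssFree.flat_of_isEssentiallyFree f hf, fun A _ _ X f hf => ?_,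
    fun k _ X f => ?_, fun X S S' f g hf => Groth.Agent.H20EssFree.isEssentiallyFree_snd f g hf⟩
  · haveI := hf
    exact Groth.Agent.H20EssFree.isEssentiallyFree_of_flat_artinian A f
  · haveI := Groth.Agent.H12AlgSp.flat_to_field f
    exact Groth.Agent.H20EssFree.isEssentiallyFree_of_flat_artinian k f

end Groth.Agent.S5356
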