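import Groth.Statements.S3027
import Groth.Agent.S5356
import Groth.Agent.H21Fix.EssFree
import Groth.Agent.H21Cent.SubObj
import Groth.Agent.H19Quot.AffineQuot
import Groth.Agent.H19Quot.LargestNormal
import Groth.Agent.H19Quot.AbelianCat

set_option autoImplicit false
universe u
open CategoryTheory MonoidalCategory CartesianMonoidalCategory MonObj GrpObj AlgebraicGeometry TensorProduct
open SGA3

namespace Groth.Agent.S3027

set_option backward.isDefEq.respectTransparency false
set_option linter.style.haveILetI false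
set_option maxHeartbeats 1000000
open CategoryTheory.Limits


/-- Let G be a connected group scheme of finite type over a field k. Then the centre of G (the
subfunctor of points g such that g commutes with every point of G after every base change) is
represented by a closed subgroup scheme Z of G, and the quotient G/Z is an affine k-group: there are
an affine group scheme Q and a faithfully flat homomorphism q : G → Q with kernel Z. -/
theorem result (k : Type u) [Field k] (G : Over (Spec (CommRingCat.of k))) [GrpObj G]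
    [LocallyOfFiniteType G.hom] [QuasiCompact G.hom] [ConnectedSpace G.left] :
    ∃ (Z : Over (Spec (CommRingCat.of k))) (_ : GrpObj Z) (i : Z ⟶ G), IsMonHom i ∧ IsClosedImmersion i.left ∧
      (∀ (T : Over (Spec (CommRingCat.of k))) (g : T ⟶ G),
        (∃ z : T ⟶ Z, z ≫ i = g) ↔ ∀ (T' : Over (Spec (CommRingCat.of k))) (t : T' ⟶ T) (h : T' ⟶ G), (t ≫ g) * h = h * (t ≫ g)) ∧
      ∃ (Q : Over (Spec (CommRingCat.of k))) (_ : GrpObj Q) (q : G ⟶ Q), IsMonHom q ∧ IsAffine Q.left ∧ LocallyOfFiniteType Q.hom ∧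
        Flat q.left ∧ Surjective q.left ∧ AlgGrp.IsKernel i q := by
  haveI : IsSeparated G.hom := Groth.Agent.H19Quot.AbelianCat.isSeparated G
  have hess : SGA3x.IsEssentiallyFree (pullback.snd G.hom G.hom) :=
    Groth.Agent.S5356.result.2.2.2 _ _ _ G.hom G.hom (Groth.Agent.S5356.result.2.2.1 k _ G.hom)
  obtain ⟨Z, j, hj, hiff⟩ := Groth.Agent.H21Fix.exists_equalizer_of_essFree (Y := G) (T := G) (W := G) hess
    (fst G G * snd G G * (fst G G)⁻¹) (snd G G)
  haveI := hj
  haveI : Mono j := Over.mono_of_mono_left _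
  have hcen : ∀ {T : Over (Spec (CommRingCat.of k))} (g : T ⟶ G), (∃ w : T ⟶ Z, w ≫ j = g) ↔
      ∀ (T' : Over (Spec (CommRingCat.of k))) (t : T' ⟶ T) (h : T' ⟶ G), (t ≫ g) * h = h * (t ≫ g) := fun g => by
    refine (hiff _ g).trans (forall₃_congr fun T' t h => ?_)
    simp only [MonObj.comp_mul, GrpObj.comp_inv, lift_fst, lift_snd]
    rw [mul_inv_eq_iff_eq_mul]
    exact eq_comm
  have hC := fun (X : Over (Spec (CommRingCat.of k))) (w : X ⟶ Z) => (hcen (w ≫ j)).1 ⟨w, rfl⟩
  obtain ⟨gZ, hjm⟩ := Groth.Agent.H21Cent.exists_grpObj_of_mono j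
    ((hcen 1).2 fun X' x h => by rw [MonObj.comp_one, _root_.one_mul, _root_.mul_one])
    ((hcen _).2 fun X' x h => by
      rw [MonObj.comp_mul, ← Category.assoc x, ← Category.assoc x]
      exact Commute.mul_left (hC _ (fst Z Z) X' x h) (hC _ (snd Z Z) X' x h))
    ((hcen _).2 fun X' x h => by
      rw [GrpObj.comp_inv]
      have h0 := hC Z (𝟙 Z) X' x h
      rw [Category.id_comp] at h0
      exact Commute.inv_left h0)
  letI := gZ
  haveI := hjm
  have hZ : Red.IsCentre j := ⟨inferInstance, inferInstance, fun X g => (hcen g).trans (forall₃_congr fun X' x h => by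
    rw [Category.comp_id])⟩
  have hN : AlgGrp.IsNormalHom j := fun T g n => ⟨n, by
    have e := hC T n T (𝟙 T) g
    rw [Category.id_comp] at e
    rw [← e, _root_.mul_assoc, mul_inv_cancel, _root_.mul_one]⟩
  obtain ⟨Q, gQ, q, hq, hQl, hQc, hqf, hqs, -, hker⟩ := Groth.Agent.H19Quot.exists_quotientGroup j hN
  letI := gQ
  haveI := hq; haveI := hQl; haveI := hQc; haveI := hqf; haveI := hqs
  obtain ⟨z, hz⟩ := Groth.Agent.H19Quot.incl_factors_centre hZ
  have hkill : j ≫ q = 1 := by
    rw [hker.w, toUnit_unique (toUnit Z) _, Hom.one_def]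
  have hQa : IsAffine Q.left := Groth.Agent.H19Quot.isAffine_of_kill_incl q (by
    rw [← hz, Category.assoc, hkill, MonObj.comp_one])
  exact ⟨Z, gZ, j, hjm, hj, fun T g => hcen g, Q, gQ, q, hq, hQa, hQl, hqf, hqs, hker⟩

end Groth.Agent.S3027
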