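import Groth.Statements.S3028
import Groth.Agent.H06GenSub.Words

set_option autoImplicit false
universe u
open CategoryTheory MonoidalCategory CartesianMonoidalCategory MonObj GrpObj AlgebraicGeometry TensorProduct
open SGA3

namespace Groth.Agent.S3028

/-- Let G be a group scheme over a field k, X a geometrically reduced k-scheme and f : X → G a
k-morphism. Then among the closed subgroup schemes of G through which f factors there is a smallest
one, and it is geometrically reduced over k. -/
theorem result (k : Type u) [Field k] (G X : Over (Spec (CommRingCat.of k))) [GrpObj G]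
    [GeometricallyReduced X.hom] (f : X ⟶ G) :
    ∃ (Γ : Over (Spec (CommRingCat.of k))) (_ : GrpObj Γ) (i : Γ ⟶ G), IsMonHom i ∧ IsClosedImmersion i.left ∧
      (∃ f' : X ⟶ Γ, f' ≫ i = f) ∧ GeometricallyReduced Γ.hom ∧
      ∀ (Γ' : Over (Spec (CommRingCat.of k))) (_ : GrpObj Γ') (i' : Γ' ⟶ G), IsMonHom i' → IsClosedImmersion i'.left →
        (∃ f'' : X ⟶ Γ', f'' ≫ i' = f) → ∃ j : Γ ⟶ Γ', j ≫ i' = i := by
  let fs : PUnit.{u+1} → (X ⟶ G) := fun _ => f
  haveI : ∀ _j : PUnit.{u+1}, GeometricallyReduced X.hom := fun _ => inferInstance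
  obtain ⟨inst, hι⟩ := H06GenSub.exists_grpObj_gen (X := fun _ : PUnit.{u+1} => X) fs
  refine ⟨H06GenSub.gen fs, inst, H06GenSub.genι fs, hι, inferInstance,
    H06GenSub.exists_gen_lift fs PUnit.unit, H06GenSub.geometricallyReduced_gen fs,
    fun Γ' hΓ i' hi' hc hf' => ?_⟩
  letI := hΓ
  haveI := hi'
  haveI := hc
  exact H06GenSub.gen_le fs i' fun _ => hf'

end Groth.Agent.S3028
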