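import Groth.Statements.S3029
import Groth.Agent.H19Grp.GroupCI
import Groth.Agent.H13CI.SyntomicLocal

set_option autoImplicit false
set_option maxHeartbeats 1000000
set_option synthInstance.maxHeartbeats 100000
set_option linter.style.haveILetI false
set_option backward.isDefEq.respectTransparency false
universe u
open CategoryTheory MonoidalCategory CartesianMonoidalCategory MonObj GrpObj AlgebraicGeometry TensorProduct
open SGA3

namespace Groth.Agent.S3029

/-- Let G be a group scheme locally of finite type over a field k and x a point of G. Then the local
ring of G at x is Cohen–Macaulay. (This is the case of a base field; the published statement treats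
flat groups over a local Artinian ring.) -/
theorem result (k : Type u) [Field k] (G : Over (Spec (CommRingCat.of k))) [GrpObj G]
    [LocallyOfFiniteType G.hom] (x : G.left) :
    LocCoh.IsCohenMacaulayLocalRing (G.left.presheaf.stalk x) := by
  haveI : IsLocallyNoetherian G.left := LocallyOfFiniteType.isLocallyNoetherian G.hom
  exact Groth.Agent.H13CI.isCM_of_isCI _
    ((Groth.Agent.H19Grp.GroupCI.isCI_fiberStalk_iff_stalk G.hom x).mp
      (Groth.Agent.H19Grp.GroupCI.isCI_fiberStalk G x))

end Groth.Agent.S3029
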