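import Groth.Statements.S3030
import Groth.Agent.H19Quot.Artin
import Groth.Agent.H19Quot.Props
import Groth.Agent.H19Quot.GroupQuot

set_option autoImplicit false
set_option maxHeartbeats 1000000
set_option synthInstance.maxHeartbeats 100000
set_option linter.style.haveILetI false
set_option backward.isDefEq.respectTransparency false
universe u
open CategoryTheory MonoidalCategory CartesianMonoidalCategory MonObj GrpObj AlgebraicGeometry TensorProduct
open SGA3

namespace Groth.Agent.S3030

/-- Let A be a local artinian ring, F and G group schemes flat and locally of finite type over A, and u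
: F → G a homomorphism which is a quasi-compact monomorphism with F normal in G. Then there are a
group scheme Q over A and a homomorphism p : G → Q which is faithfully flat and locally of finite
presentation, with kernel F (the square u, p, unit is cartesian); Q is separated and flat over A,
and smooth over A when G is. -/
theorem result (A : Type u) [CommRing A] [IsArtinianRing A] [IsLocalRing A]
    (F G : Over (Spec (CommRingCat.of A))) [GrpObj F] [GrpObj G] [Flat F.hom] [LocallyOfFiniteType F.hom]
    [Flat G.hom] [LocallyOfFiniteType G.hom] (u : F ⟶ G) [IsMonHom u] [Mono u] [QuasiCompact u.left]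
    (hN : AlgGrp.IsNormalHom u) :
    ∃ (Q : Over (Spec (CommRingCat.of A))) (_ : GrpObj Q) (p : G ⟶ Q), IsMonHom p ∧
      Flat p.left ∧ Surjective p.left ∧ LocallyOfFinitePresentation p.left ∧ AlgGrp.IsKernel u p ∧
      IsSeparated Q.hom ∧ Flat Q.hom ∧ (Smooth G.hom → Smooth Q.hom) := by
  haveI : IsNoetherianRing (CommRingCat.of A) := inferInstanceAs (IsNoetherianRing A)
  haveI : Mono u.left := (Over.forget _).map_mono u
  haveI : IsClosedImmersion u.left := H19Grp.ArtinHom.isClosedImmersion_of_mono u
  obtain ⟨X, p, Q⟩ := H19Quot.exists_artin_quotient u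
  haveI := Q.flat; haveI := Q.surjective; haveI := Q.lfp
  obtain ⟨inst, hp, -⟩ := H19Quot.exists_grpObj_of_congr (H19Quot.hasFpqcSection_of_lfp p)
    (H19Quot.congr_of_isNormalHom_left hN Q.rel_iff)
  letI := inst
  haveI := hp
  refine ⟨X, inst, p, hp, Q.flat, Q.surjective, Q.lfp, ?_,
    Q.isSeparated (H19Quot.isEqvRel u) (H19Quot.isClosedImmersion_prodLift u), Q.flatHom, fun h => Q.smoothHom⟩
  show IsPullback u (toUnit F) p η[X]
  rw [← IsMonHom.one_hom (f := p)]
  refine H19Quot.isPullback_unit_of_rel u p fun T a => ?_
  rw [Q.rel_iff T a 1]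
  constructor
  · rintro ⟨n, hn⟩
    exact ⟨n⁻¹, by rw [GrpObj.inv_comp]; exact inv_eq_of_mul_eq_one_right hn.symm⟩
  · rintro ⟨n, rfl⟩
    exact ⟨n⁻¹, by rw [GrpObj.inv_comp, inv_mul_cancel]⟩

end Groth.Agent.S3030
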