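import Groth.Statements.S3031
import Groth.Agent.H19Grp.IdentityComponent

set_option autoImplicit false
universe u
open CategoryTheory MonoidalCategory CartesianMonoidalCategory MonObj GrpObj AlgebraicGeometry TensorProduct
open SGA3

namespace Groth.Agent.S3031

set_option backward.isDefEq.respectTransparency false

/-- With X connected and possessing a rational point over the identity, a case of 'geometrically
connected with e ∈ f(X)': let G be a group scheme over a field k, X a connected, geometrically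
reduced k-scheme, x a k-point of X and f : X → G a k-morphism with f(x) the identity. Then the
smallest closed subgroup scheme of G through which f factors is connected. -/
theorem result (k : Type u) [Field k] (G X : Over (Spec (CommRingCat.of k))) [GrpObj G]
    [GeometricallyReduced X.hom] [ConnectedSpace X.left] (x : 𝟙_ (Over (Spec (CommRingCat.of k))) ⟶ X) (f : X ⟶ G)
    (hx : x ≫ f = η[G])
    (Γ : Over (Spec (CommRingCat.of k))) [GrpObj Γ] (i : Γ ⟶ G) [IsMonHom i] [IsClosedImmersion i.left]
    (hf : ∃ f' : X ⟶ Γ, f' ≫ i = f)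
    (hmin : ∀ (Γ' : Over (Spec (CommRingCat.of k))) (_ : GrpObj Γ') (i' : Γ' ⟶ G), IsMonHom i' → IsClosedImmersion i'.left →
        (∃ f'' : X ⟶ Γ', f'' ≫ i' = f) → ∃ j : Γ ⟶ Γ', j ≫ i' = i) :
    ConnectedSpace Γ.left := by
  obtain ⟨f', hf'⟩ := hf
  haveI : Mono i := Over.mono_of_mono_left _
  have hxf : x ≫ f' = η[Γ] := by
    rw [← cancel_mono i, Category.assoc, hf', hx, IsMonHom.one_hom]
  have hr : Set.range f'.left ⊆ connectedComponent (α := Γ.left) (H19Grp.ePt (H19Grp.grpToGrpd Γ) (Iso.refl _)) := by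
    refine (isConnected_range f'.left.continuous).subset_connectedComponent ?_
    have z : (𝟙_ (Over (Spec (CommRingCat.of k)))).left := IsLocalRing.closedPoint k
    refine ⟨x.left z, ?_⟩
    have h1 : η[Γ].left z = H19Grp.ePt (H19Grp.grpToGrpd Γ) (Iso.refl _) :=
      H19Grp.e_apply_eq (H19Grp.grpToGrpd Γ) (Iso.refl _) z
    rw [← h1, ← hxf]
    rfl
  obtain ⟨g, hg⟩ := H19Grp.idComp_lift Γ f' hr
  obtain ⟨inst, hhom⟩ := H19Grp.exists_grpObj_idComp Γ
  haveI : IsClosedImmersion (H19Grp.idCompι Γ ≫ i).left := by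
    rw [Over.comp_left]; infer_instance
  obtain ⟨j, hj⟩ := hmin (H19Grp.idComp Γ) inst (H19Grp.idCompι Γ ≫ i)
    (by letI := inst; haveI := hhom; infer_instance) inferInstance ⟨g, by rw [reassoc_of% hg, hf']⟩
  have hid : j ≫ H19Grp.idCompι Γ = 𝟙 Γ := by
    rw [← cancel_mono i, Category.assoc, hj, Category.id_comp]
  refine connectedSpace_iff_connectedComponent.mpr ⟨H19Grp.ePt (H19Grp.grpToGrpd Γ) (Iso.refl _), ?_⟩
  refine Set.eq_univ_of_forall fun y => ?_
  rw [← H19Grp.range_idCompι]
  refine ⟨j.left y, ?_⟩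
  rw [← Scheme.Hom.comp_apply, ← Over.comp_left, hid]
  rfl

end Groth.Agent.S3031
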