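import Groth.Statements.S3032
import Mathlib

set_option autoImplicit false
universe u
open CategoryTheory MonoidalCategory CartesianMonoidalCategory MonObj GrpObj AlgebraicGeometry TensorProduct
open SGA3

namespace Groth.Agent.S3032

/-- Let R be a Noetherian commutative ring, C an R-coalgebra which is flat as an R-module, V a
C-comodule and M a finitely generated R-submodule of V. Then M is contained in a subcomodule of V
which is finitely generated over R. -/
theorem result (R : Type u) [CommRing R] [IsNoetherianRing R] (C : Type u) [AddCommGroup C]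
    [Module R C] [Coalgebra R C] [Module.Flat R C] (V : Type u) [AddCommGroup V] [Module R V] [HopfRep.Comod R C V]
    (M : Submodule R V) (hM : M.FG) :
    ∃ W : Submodule R V, HopfRep.IsSubcomod (k := R) (A := C) W ∧ M ≤ W ∧ W.FG := by
  classical
  obtain ⟨V', hV', hMV'⟩ : ∃ V' : Submodule R V, V'.FG ∧
      ∀ m ∈ M, HopfRep.Comod.coact (k := R) (A := C) m ∈ LinearMap.range (V'.subtype.rTensor C) := by
    obtain ⟨t, rfl⟩ := hM
    have : ∀ x : V ⊗[R] C, ∃ V' : Submodule R V, V'.FG ∧ x ∈ LinearMap.range (V'.subtype.rTensor C) := by
      intro x
      obtain ⟨S, hS⟩ := TensorProduct.exists_finset x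
      refine ⟨Submodule.span R (S.image Prod.fst : Set V), Submodule.fg_span (Finset.finite_toSet _), ?_⟩
      rw [hS]
      refine sum_mem fun i hi => ?_
      exact ⟨⟨i.1, Submodule.subset_span (Finset.mem_image_of_mem _ hi)⟩ ⊗ₜ i.2, rfl⟩
    choose f hf hfx using this
    refine ⟨⨆ m ∈ t, f (HopfRep.Comod.coact (k := R) (A := C) m),
      Submodule.fg_biSup t _ fun m _ => hf _, ?_⟩
    have hmono : ∀ (P Q : Submodule R V), P ≤ Q →
        LinearMap.range (P.subtype.rTensor C) ≤ LinearMap.range (Q.subtype.rTensor C) := by
      intro P Q h
      rw [show P.subtype = Q.subtype ∘ₗ Submodule.inclusion h from rfl, LinearMap.rTensor_comp]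
      exact LinearMap.range_comp_le_range _ _
    intro m hm
    induction hm using Submodule.span_induction with
    | mem x hx => exact hmono _ _ (le_biSup (fun m => f (HopfRep.Comod.coact (k := R) (A := C) m)) hx) (hfx _)
    | zero => rw [map_zero]; exact zero_mem _
    | add x y _ _ hx hy => rw [map_add]; exact add_mem hx hy
    | smul r x _ hx => rw [map_smul]; exact Submodule.smul_mem _ r hx
  let co : V →ₗ[R] V ⊗[R] C := HopfRep.Comod.coact (k := R) (A := C)
  let W : Submodule R V := (LinearMap.range (V'.subtype.rTensor C)).comap co
  have hWV : W ≤ V' := by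
    intro w hw
    obtain ⟨y, hy⟩ := hw
    have h := LinearMap.congr_fun (HopfRep.Comod.counit_comp (k := R) (A := C) (V := V)) w
    simp only [LinearMap.coe_comp, Function.comp_apply, LinearMap.flip_apply, TensorProduct.mk_apply] at h
    rw [show HopfRep.Comod.coact (k := R) (A := C) w = co w from rfl, ← hy] at h
    have h2 := congrArg (TensorProduct.rid R V) h
    rw [TensorProduct.rid_tmul, one_smul] at h2
    rw [← h2]
    generalize y = z
    induction z using TensorProduct.induction_on with
    | zero => simp
    | tmul v c => simpa using V'.smul_mem _ v.2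
    | add a b ha hb => simp only [map_add]; exact add_mem ha hb
  refine ⟨W, ?_, fun m hm => hMV' m hm, ?_⟩
  · let q := V'.mkQ.rTensor C ∘ₗ co
    have hker : LinearMap.ker q = W := by
      rw [LinearMap.ker_comp]
      exact congrArg (Submodule.comap co)
        ((rTensor_exact C (LinearMap.exact_subtype_mkQ V') V'.mkQ_surjective).linearMap_ker_eq)
    intro w hw
    have hex : Function.Exact (W.subtype.rTensor C) (q.rTensor C) := by
      refine Module.Flat.rTensor_exact C ?_
      rw [LinearMap.exact_iff, hker, Submodule.range_subtype]
    refine (hex _).1 ?_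
    obtain ⟨y, hy⟩ := hw
    have hco := LinearMap.congr_fun (HopfRep.Comod.coassoc (k := R) (A := C) (V := V)) w
    simp only [LinearMap.coe_comp, Function.comp_apply, LinearEquiv.coe_coe] at hco
    rw [LinearMap.rTensor_comp, LinearMap.comp_apply]
    apply (TensorProduct.assoc R (V ⧸ V') C C).injective
    rw [map_zero]
    have e : ∀ z : (V ⊗[R] C) ⊗[R] C, TensorProduct.assoc R (V ⧸ V') C C ((V'.mkQ.rTensor C).rTensor C z) =
        V'.mkQ.rTensor (C ⊗[R] C) (TensorProduct.assoc R V C C z) := by
      intro z
      induction z using TensorProduct.induction_on with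
      | zero => simp
      | tmul a c =>
        induction a using TensorProduct.induction_on with
        | zero => simp
        | tmul v c' => simp
        | add a b ha hb => simp only [TensorProduct.add_tmul, map_add, ha, hb]
      | add a b ha hb => simp only [map_add, ha, hb]
    rw [e, hco, show HopfRep.Comod.coact (k := R) (A := C) w = co w from rfl, ← hy]
    generalize y = z
    induction z using TensorProduct.induction_on with
    | zero => simp
    | tmul v c =>
      have : V'.mkQ (v : V) = 0 := (Submodule.Quotient.mk_eq_zero _).2 v.2
      simp only [LinearMap.rTensor_tmul, LinearMap.lTensor_tmul, Submodule.subtype_apply, this, TensorProduct.zero_tmul]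
    | add a b ha hb => simp only [map_add, ha, hb, add_zero]
  · haveI : IsNoetherian R V' := isNoetherian_of_fg_of_noetherian V' hV'
    have := (IsNoetherian.noetherian (W.comap V'.subtype)).map V'.subtype
    rwa [Submodule.map_comap_eq, Submodule.range_subtype, inf_eq_right.mpr hWV] at this

end Groth.Agent.S3032
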