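import Groth.Statements.S3033
import Groth.Agent.H06Homog.Dim
-- import your own Groth.Agent.* helpers here

set_option autoImplicit false
universe u
open CategoryTheory MonoidalCategory CartesianMonoidalCategory MonObj GrpObj AlgebraicGeometry TensorProduct
open SGA3

namespace Groth.Agent.S3033

open CategoryTheory.Limits
open Groth.Agent Groth.Agent.H06Homog Groth.Agent.H19Grp TopologicalSpace

set_option backward.isDefEq.respectTransparency false

/-- Let A be a local artinian ring and G a group scheme locally of finite type over A acting on a
nonempty A-scheme X locally of finite type, such that the morphism G ×_A X → X ×_A X, (g, x) ↦ (g·x,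
x), is surjective. Then all connected components of X have the same dimension. The published
statement also asserts that the connected components are irreducible; that is not asserted here (it
is stated separately). -/
theorem result (A : Type u) [CommRing A] [IsArtinianRing A] [IsLocalRing A]
    (G X : Over (Spec (CommRingCat.of A))) [GrpObj G] [LocallyOfFiniteType G.hom] [LocallyOfFiniteType X.hom] [Nonempty X.left]
    (a : AlgGrp.Action G X) (hΦ : Surjective (lift a.act (snd G X)).left) (x y : X.left) :
    topologicalKrullDim ↥(connectedComponent x) = topologicalKrullDim ↥(connectedComponent y) := by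
  haveI := hΦ
  let f : Spec (CommRingCat.of (IsLocalRing.ResidueField A)) ⟶ Spec (CommRingCat.of A) :=
    Spec.map (CommRingCat.ofHom (IsLocalRing.residue A))
  haveI : IsClosedImmersion f := IsClosedImmersion.spec_of_surjective _ Ideal.Quotient.mk_surjective
  haveI : Subsingleton (PrimeSpectrum A) := ⟨fun p q => PrimeSpectrum.ext ((IsLocalRing.eq_maximalIdeal
    (IsArtinianRing.isPrime_iff_isMaximal p.asIdeal |>.mp p.2)).trans (IsLocalRing.eq_maximalIdeal
    (IsArtinianRing.isPrime_iff_isMaximal q.asIdeal |>.mp q.2)).symm)⟩
  haveI : Surjective f := ⟨fun p => ⟨IsLocalRing.closedPoint _, @Subsingleton.elim (PrimeSpectrum A) _ _ _⟩⟩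
  haveI := surjective_bc_shear a f
  haveI : LocallyOfFiniteType (Red.bc f G).hom := inferInstanceAs (LocallyOfFiniteType (pullback.snd G.hom f))
  haveI : LocallyOfFiniteType (Red.bc f X).hom := inferInstanceAs (LocallyOfFiniteType (pullback.snd X.hom f))
  haveI : IsClosedImmersion (pullback.fst X.hom f) := inferInstance
  let e : (Red.bc f X).left ≃ₜ X.left :=
    ((pullback.fst X.hom f).isClosedEmbedding.toIsEmbedding.toHomeomorph).trans
      ((Homeomorph.setCongr (pullback.fst X.hom f).surjective.range_eq).trans (Homeomorph.Set.univ _))
  have h := dim_component_eq (a.bc f) (e.symm x) (e.symm y)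
  rwa [← dim_component_homeomorph e, ← dim_component_homeomorph e, e.apply_symm_apply, e.apply_symm_apply] at h

end Groth.Agent.S3033
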