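import Groth.Statements.S3038
import Groth.Agent.H19Grp.GroupCI
import Groth.Agent.H19Grp.HomFlatOpen
import Groth.Agent.H19Quot.LargestNormal
import Groth.Agent.H06Desc.Discrete

set_option autoImplicit false
set_option maxHeartbeats 1000000
set_option synthInstance.maxHeartbeats 100000
set_option linter.style.haveILetI false
set_option backward.isDefEq.respectTransparency false
universe u
open CategoryTheory MonoidalCategory CartesianMonoidalCategory MonObj GrpObj AlgebraicGeometry TensorProduct
open SGA3

namespace Groth.Agent.S3038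

open CategoryTheory.Limits Groth.Agent.H19Grp in
theorem univOpen_algClosed {K : Type u} [Field K] [IsAlgClosed K] {G H : Over (Spec (CommRingCat.of K))}
    [GrpObj G] [GrpObj H] [LocallyOfFiniteType G.hom] [LocallyOfFiniteType H.hom] (u : G ⟶ H) [IsMonHom u]
    (W : G.left.Opens) (hW : IsCompact (W : Set G.left)) (O : H.left.Opens) (hne : (O : Set H.left).Nonempty)
    (hO : (O : Set H.left) ⊆ u.left '' W) : UniversallyOpen u.left := by
  haveI : IsNoetherianRing (CommRingCat.of K) := inferInstanceAs (IsNoetherianRing K)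
  obtain ⟨instH, hj⟩ := Groth.Agent.H19Grp.GroupCI.exists_grpObj_reduced H
  set j : Over.mk (H.left.nilradical.subschemeι ≫ H.hom) ⟶ H := Over.homMk H.left.nilradical.subschemeι rfl with hjdef
  letI := instH
  haveI := hj
  haveI : IsClosedImmersion j.left := inferInstanceAs (IsClosedImmersion H.left.nilradical.subschemeι)
  haveI : Surjective j.left := ⟨fun x => by
    have : x ∈ Set.range H.left.nilradical.subschemeι := by
      rw [Scheme.IdealSheafData.range_subschemeι]; trivial
    exact this⟩
  obtain ⟨E, instE, jE, q', hjE, hq', hjEc, sq⟩ := Groth.Agent.H19Quot.exists_preimageGroup u j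
  letI := instE
  haveI := hjE
  haveI := hq'
  haveI := hjEc
  have sq' := sq.map (Over.forget _)
  haveI : LocallyOfFiniteType E.hom := by rw [← Over.w jE]; infer_instance
  haveI : LocallyOfFiniteType (Over.mk (H.left.nilradical.subschemeι ≫ H.hom)).hom :=
    inferInstanceAs (LocallyOfFiniteType (H.left.nilradical.subschemeι ≫ H.hom))
  haveI : IsReduced (Over.mk (H.left.nilradical.subschemeι ≫ H.hom)).left :=
    inferInstanceAs (IsReduced H.left.nilradical.subscheme)
  haveI : Surjective jE.left := MorphismProperty.of_isPullback sq' ‹Surjective j.left›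
  let W' : E.left.Opens := jE.left ⁻¹ᵁ W
  haveI : CompactSpace W'.toScheme := isCompact_iff_compactSpace.mp (jE.left.isCompact_preimage hW)
  haveI : LocallyOfFiniteType q'.left := by
    haveI : LocallyOfFiniteType (q'.left ≫ (Over.mk (H.left.nilradical.subschemeι ≫ H.hom)).hom) := by
      rw [Over.w]; infer_instance
    exact locallyOfFiniteType_of_comp _ (Over.mk (H.left.nilradical.subschemeι ≫ H.hom)).hom
  haveI : IsLocallyNoetherian (Over.mk (H.left.nilradical.subschemeι ≫ H.hom)).left :=
    LocallyOfFiniteType.isLocallyNoetherian (Over.mk (H.left.nilradical.subschemeι ≫ H.hom)).hom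
  haveI : QuasiCompact (W'.ι ≫ q'.left) := quasiCompact_of_compactSpace _
  obtain ⟨U, hU, hUf, -⟩ := Groth.Agent.H7Flat.exists_dense_flatLFP (W'.ι ≫ q'.left)
  obtain ⟨y, hyO, hyU⟩ := hU.inter_open_nonempty _ (j.left ⁻¹ᵁ O).2 (by
    obtain ⟨z, hz⟩ := hne
    obtain ⟨y, rfl⟩ := j.left.surjective z
    exact ⟨y, hz⟩)
  obtain ⟨x, hxW, hx⟩ := hO hyO
  obtain ⟨e, he⟩ := jE.left.surjective x
  have he' : q'.left e = y := by
    apply j.left.isEmbedding.injective
    rw [← Scheme.Hom.comp_apply, ← Over.comp_left, sq.w, Over.comp_left, Scheme.Hom.comp_apply, he, hx]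
  let V : W'.toScheme.Opens := (W'.ι ≫ q'.left) ⁻¹ᵁ U
  haveI : Flat ((W'.ι ''ᵁ V).ι ≫ q'.left) := by
    rw [← Scheme.Hom.isoImage_inv_ι W'.ι V, Category.assoc, Category.assoc]
    rw [← morphismRestrict_ι (W'.ι ≫ q'.left) U]
    infer_instance
  haveI : Flat q'.left := flat_of_flat_open q' (W'.ι ''ᵁ V)
    ⟨e, ⟨⟨e, show jE.left e ∈ W from he ▸ hxW⟩, show q'.left e ∈ U from he'.symm ▸ hyU, rfl⟩⟩
  haveI : LocallyOfFinitePresentation q'.left := inferInstance
  haveI : UniversallyOpen (pullback.fst j.left u.left) :=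
    (MorphismProperty.cancel_left_of_respectsIso @UniversallyOpen sq'.isoPullback.hom _).1 (by
      erw [sq'.isoPullback_hom_fst]
      exact inferInstanceAs (UniversallyOpen q'.left))
  exact Groth.Agent.H06Desc.universallyOpen_of_surjective_isClosedImmersion j.left u.left

open CategoryTheory.Limits in
theorem univOpen_of_isOpenMap (A : Type u) [CommRing A] [IsArtinianRing A] [IsLocalRing A]
    (G H : Over (Spec (CommRingCat.of A))) [GrpObj G] [GrpObj H] [LocallyOfFiniteType G.hom] [LocallyOfFiniteType H.hom]
    (u : G ⟶ H) [IsMonHom u] (hu : IsOpenMap u.left.base) : UniversallyOpen u.left := by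
  let k := IsLocalRing.ResidueField A
  let K := AlgebraicClosure k
  let i : Spec (CommRingCat.of k) ⟶ Spec (CommRingCat.of A) := Spec.map (CommRingCat.ofHom (IsLocalRing.residue A))
  haveI : IsClosedImmersion i := IsClosedImmersion.spec_of_surjective _ Ideal.Quotient.mk_surjective
  haveI : Surjective i := ⟨fun x => ⟨IsLocalRing.closedPoint k, by
    haveI : Subsingleton (Spec (CommRingCat.of A)) := ⟨fun a b => PrimeSpectrum.ext
      ((IsLocalRing.eq_maximalIdeal (Ideal.IsPrime.isMaximal' a.2)).trans
        (IsLocalRing.eq_maximalIdeal (Ideal.IsPrime.isMaximal' b.2)).symm)⟩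
    exact Subsingleton.elim _ _⟩⟩
  let g : Spec (CommRingCat.of K) ⟶ Spec (CommRingCat.of k) := Spec.map (CommRingCat.ofHom (algebraMap k K))
  haveI : Surjective g := ⟨fun x => ⟨Classical.arbitrary _, Subsingleton.elim _ _⟩⟩
  let F := Over.pullback i
  let F' := Over.pullback g
  letI : GrpObj (F.obj G) := Functor.grpObjObj
  letI : GrpObj (F.obj H) := Functor.grpObjObj
  letI : GrpObj (F'.obj (F.obj G)) := Functor.grpObjObj
  letI : GrpObj (F'.obj (F.obj H)) := Functor.grpObjObj
  haveI : IsMonHom (F.map u) := inferInstance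
  haveI : IsMonHom (F'.map (F.map u)) := inferInstance
  have sq₁ : IsPullback (pullback.fst G.hom i) (F.map u).left u.left (pullback.fst H.hom i) := by
    refine IsPullback.of_bot ?_ ?_ (IsPullback.of_hasPullback H.hom i)
    · simpa [F] using IsPullback.of_hasPullback G.hom i
    · simp [F]
  have sq₂ : IsPullback (pullback.fst (F.obj G).hom g) (F'.map (F.map u)).left (F.map u).left
      (pullback.fst (F.obj H).hom g) := by
    refine IsPullback.of_bot ?_ ?_ (IsPullback.of_hasPullback (F.obj H).hom g)
    · simpa [F'] using IsPullback.of_hasPullback (F.obj G).hom g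
    · simp [F']
  have sq := sq₂.paste_horiz sq₁
  haveI : LocallyOfFiniteType (F.obj G).hom := inferInstanceAs (LocallyOfFiniteType (pullback.snd _ _))
  haveI : LocallyOfFiniteType (F.obj H).hom := inferInstanceAs (LocallyOfFiniteType (pullback.snd _ _))
  haveI : LocallyOfFiniteType (F'.obj (F.obj G)).hom := inferInstanceAs (LocallyOfFiniteType (pullback.snd _ _))
  haveI : LocallyOfFiniteType (F'.obj (F.obj H)).hom := inferInstanceAs (LocallyOfFiniteType (pullback.snd _ _))
  haveI hUK : UniversallyOpen (F'.map (F.map u)).left := by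
    obtain ⟨_, ⟨(W : G.left.Opens), (hW : IsAffineOpen W), rfl⟩, heW, -⟩ :=
      G.left.isBasis_affineOpens.exists_subset_of_mem_open
        (Set.mem_univ (η[G].left (IsLocalRing.closedPoint A))) isOpen_univ
    let ρG := pullback.fst (F.obj G).hom g ≫ pullback.fst G.hom i
    let ρH := pullback.fst (F.obj H).hom g ≫ pullback.fst H.hom i
    haveI : Surjective ρH := inferInstance
    haveI : QuasiCompact ρG := inferInstance
    refine univOpen_algClosed (F'.map (F.map u)) (ρG ⁻¹ᵁ W) (ρG.isCompact_preimage hW.isCompact)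
      (ρH ⁻¹ᵁ ⟨u.left '' W, hu _ W.2⟩) ?_ ?_
    · obtain ⟨z, hz⟩ := ρH.surjective (u.left (η[G].left (IsLocalRing.closedPoint A)))
      exact ⟨z, show ρH z ∈ u.left '' W from hz ▸ ⟨_, heW, rfl⟩⟩
    · rintro z ⟨w, hw, hwz⟩
      obtain ⟨t, ht₁, ht₂⟩ := Scheme.Pullback.exists_preimage_pullback (f := u.left) (g := ρH) w z hwz
      refine ⟨sq.isoPullback.inv t, ?_, ?_⟩
      · show ρG (sq.isoPullback.inv t) ∈ W
        rw [← Scheme.Hom.comp_apply, sq.isoPullback_inv_fst, ht₁]; exact hw
      · erw [← Scheme.Hom.comp_apply, sq.isoPullback_inv_snd]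
        exact ht₂
  haveI : UniversallyOpen (F.map u).left := by
    refine MorphismProperty.of_isPullback_of_descendsAlong (P := @UniversallyOpen)
      (Q := @Surjective ⊓ @Flat ⊓ @QuasiCompact) sq₂.flip ⟨⟨inferInstance, inferInstance⟩, inferInstance⟩ hUK
  haveI : UniversallyOpen (pullback.fst (pullback.fst H.hom i) u.left) :=
    (MorphismProperty.cancel_left_of_respectsIso @UniversallyOpen sq₁.flip.isoPullback.hom _).1 (by
      rw [sq₁.flip.isoPullback_hom_fst]; infer_instance)
  exact Groth.Agent.H06Desc.universallyOpen_of_surjective_isClosedImmersion (pullback.fst H.hom i) u.left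


/-- (ii) ⇒ (i): let A be a local artinian ring and u : G → H a homomorphism between group schemes
locally of finite type over A. If the underlying map of u is open, then u is universally open. -/
theorem result (A : Type u) [CommRing A] [IsArtinianRing A] [IsLocalRing A]
    (G H : Over (Spec (CommRingCat.of A))) [GrpObj G] [GrpObj H] [LocallyOfFiniteType G.hom] [LocallyOfFiniteType H.hom]
    (u : G ⟶ H) [IsMonHom u] (hu : IsOpenMap u.left.base) : UniversallyOpen u.left := by
  exact univOpen_of_isOpenMap A G H u hu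

end Groth.Agent.S3038
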