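import Groth.Statements.S3039
import Groth.Agent.H06Homog.Orbits
-- import your own Groth.Agent.* helpers here

set_option autoImplicit false
universe u
open CategoryTheory MonoidalCategory CartesianMonoidalCategory MonObj GrpObj AlgebraicGeometry TensorProduct
open SGA3

namespace Groth.Agent.S3039

open Groth.Agent Groth.Agent.H06Homog Groth.Agent.H19Grp TopologicalSpace

set_option backward.isDefEq.respectTransparency false

/-- Let G be a group scheme over a field k acting on a quasi-separated k-scheme X in such a way that the
morphism G ×_k X → X ×_k X, (g, x) ↦ (g·x, x) is surjective. Then every connected component of X is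
irreducible. -/
theorem result (k : Type u) [Field k] (G X : Over (Spec (CommRingCat.of k))) [GrpObj G]
    [QuasiSeparatedSpace X.left] (a : AlgGrp.Action G X) (hΦ : Surjective (lift a.act (snd G X)).left) (x : X.left) :
    IsPreirreducible (connectedComponent x) := by
  haveI := hΦ
  rw [connectedComponent_eq_irreducibleComponent' a x]
  exact isIrreducible_irreducibleComponent.2

end Groth.Agent.S3039
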