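import Groth.Statements.S3040
import Groth.Agent.H21Taylor.GrpTransporter
import Groth.Agent.H12AlgSp.LocPCancel

set_option autoImplicit false
universe u
open CategoryTheory MonoidalCategory CartesianMonoidalCategory MonObj GrpObj AlgebraicGeometry TensorProduct
open SGA3

namespace Groth.Agent.S3040

open Groth.Agent CategoryTheory.Limits
open scoped CategoryTheory.Obj

set_option backward.isDefEq.respectTransparency false
set_option linter.style.haveILetI false
set_option synthInstance.maxHeartbeats 400000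

theorem connectedSpace_fibre {S : Scheme.{u}} (H : Over S) (hconn : ∀ s : S, _root_.IsConnected (H.hom.base ⁻¹' {s}))
    (s : S) : ConnectedSpace ↥(pullback H.hom (S.fromSpecResidueField s)) := by
  have h : _root_.IsConnected (Set.range (H.hom.fiberι s)) := by
    rw [Scheme.Hom.range_fiberι]
    exact hconn s
  rw [← Set.image_univ] at h
  rw [connectedSpace_iff_univ]
  exact ⟨h.nonempty.of_image, (H.hom.fiberι s).isEmbedding.isInducing.isPreconnected_image.mp h.isPreconnected⟩

/-- Let S be a scheme, G a group scheme locally of finite type and quasi-separated over S, H a group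
scheme smooth and of finite presentation over S with connected fibres, and i : H → G a homomorphism
which is a monomorphism. Then the normalizer of H in G (points g such that, after every base change,
conjugation by g and by g⁻¹ carries points of H into H) and the centralizer of H in G (points
commuting with every point of H after every base change) are represented by closed subschemes of G
whose inclusions are of finite presentation. -/
theorem result (S : Scheme.{u}) (G H : Over S) [GrpObj G] [GrpObj H]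
    [LocallyOfFiniteType G.hom] [QuasiSeparated G.hom] [Smooth H.hom] [QuasiCompact H.hom] [QuasiSeparated H.hom]
    (hconn : ∀ s : S, _root_.IsConnected (H.hom.base ⁻¹' {s})) (i : H ⟶ G) [IsMonHom i] [Mono i] :
    (∃ (N : Over S) (n : N ⟶ G), IsClosedImmersion n.left ∧ LocallyOfFinitePresentation n.left ∧
      ∀ (T : Over S) (g : T ⟶ G), (∃ z : T ⟶ N, z ≫ n = g) ↔
        ∀ (T' : Over S) (t : T' ⟶ T) (h : T' ⟶ H),
          (∃ h' : T' ⟶ H, (t ≫ g) * (h ≫ i) * (t ≫ g)⁻¹ = h' ≫ i) ∧
          (∃ h' : T' ⟶ H, (t ≫ g)⁻¹ * (h ≫ i) * (t ≫ g) = h' ≫ i)) ∧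
    (∃ (Z : Over S) (z : Z ⟶ G), IsClosedImmersion z.left ∧ LocallyOfFinitePresentation z.left ∧
      ∀ (T : Over S) (g : T ⟶ G), (∃ w : T ⟶ Z, w ≫ z = g) ↔
        ∀ (T' : Over S) (t : T' ⟶ T) (h : T' ⟶ H), (t ≫ g) * (h ≫ i) = (h ≫ i) * (t ≫ g)) := by
  haveI : Mono i.left := (Over.forget S).map_mono i
  haveI : LocallyOfFinitePresentation H.hom := inferInstance
  haveI : LocallyOfFinitePresentation i.left := by
    haveI : LocallyOfFinitePresentation (i.left ≫ G.hom) := by rw [Over.w i]; infer_instance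
    exact H12AlgSp.lfp_of_comp i.left G.hom
  refine ⟨?_, ?_⟩
  · let k : H ⊗ H ⟶ G ⊗ G := i ⊗ₘ i
    haveI : Mono k := ⟨fun a b h => by
      apply CartesianMonoidalCategory.hom_ext
      · rw [← cancel_mono i]; simpa [k] using congrArg (· ≫ fst G G) h
      · rw [← cancel_mono i]; simpa [k] using congrArg (· ≫ snd G G) h⟩
    haveI : Mono k.left := (Over.forget S).map_mono k
    haveI : LocallyOfFinitePresentation k.left := by
      rw [show k.left = pullback.map H.hom H.hom G.hom G.hom i.left i.left (𝟙 _)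
        (by rw [Category.comp_id, Over.w i]) (by rw [Category.comp_id, Over.w i]) from Over.tensorHom_left _ _]
      exact MorphismProperty.pullbackMap (P := @LocallyOfFinitePresentation) (by infer_instance) (by infer_instance)
        (by rw [Over.w i]) (by rw [Over.w i])
    let c : H ⊗ G ⟶ G ⊗ G :=
      lift (snd H G * (fst H G ≫ i) * (snd H G)⁻¹) ((snd H G)⁻¹ * (fst H G ≫ i) * snd H G)
    have hc : ∀ (T : Over S) (h : T ⟶ H) (g : T ⟶ G),
        lift h g ≫ c = lift (g * (h ≫ i) * g⁻¹) (g⁻¹ * (h ≫ i) * g) := fun T h g => by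
      simp only [c, comp_lift, MonObj.comp_mul, GrpObj.comp_inv, lift_fst_assoc, lift_snd]
    have hk : ∀ (T : Over S) (κ : T ⟶ H ⊗ H) (u v : T ⟶ G), κ ≫ k = lift u v ↔
        (κ ≫ fst H H) ≫ i = u ∧ (κ ≫ snd H H) ≫ i = v := fun T κ u v => by
      constructor
      · intro h
        exact ⟨by simpa [k] using congrArg (· ≫ fst G G) h, by simpa [k] using congrArg (· ≫ snd G G) h⟩
      · rintro ⟨h1, h2⟩
        apply CartesianMonoidalCategory.hom_ext <;> simp [k, ← h1, ← h2]
    obtain ⟨N, n, hn, hnfp, hN⟩ := H21Taylor.exists_closed_forall_factor_grp (connectedSpace_fibre H hconn) c k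
      (fun T g => ⟨lift 1 1, (hc T 1 g).symm ▸ (hk _ _ _ _).mpr
        ⟨by simp [MonObj.one_comp], by simp [MonObj.one_comp]⟩⟩)
      (fun T g a b ⟨κ, hκ⟩ ⟨κ', hκ'⟩ => by
        rw [hc] at hκ hκ'
        obtain ⟨e1, e2⟩ := (hk _ _ _ _).mp hκ
        obtain ⟨e3, e4⟩ := (hk _ _ _ _).mp hκ'
        refine ⟨lift ((κ ≫ fst H H) * (κ' ≫ fst H H)) ((κ ≫ snd H H) * (κ' ≫ snd H H)), ?_⟩
        rw [hc, hk]
        simp only [lift_fst, lift_snd, MonObj.mul_comp, e1, e2, e3, e4]
        exact ⟨by group, by group⟩)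
    refine ⟨N, n, hn, hnfp, fun T g => (hN T g).trans (forall₃_congr fun T' t h => ?_)⟩
    rw [hc]
    constructor
    · rintro ⟨κ, hκ⟩
      obtain ⟨e1, e2⟩ := (hk _ _ _ _).mp hκ
      exact ⟨⟨_, e1.symm⟩, ⟨_, e2.symm⟩⟩
    · rintro ⟨⟨a, ha⟩, ⟨b, hb⟩⟩
      exact ⟨lift a b, (hk _ _ _ _).mpr ⟨by rw [lift_fst]; exact ha.symm, by rw [lift_snd]; exact hb.symm⟩⟩
  · let k : 𝟙_ (Over S) ⟶ G := η[G]
    haveI : Mono (k.left ≫ G.hom) := by rw [Over.w k]; exact inferInstanceAs (Mono (𝟙 S))
    haveI : Mono k.left := mono_of_mono k.left G.hom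
    haveI : LocallyOfFinitePresentation k.left := by
      haveI : LocallyOfFinitePresentation (k.left ≫ G.hom) := by
        rw [Over.w k]; exact inferInstanceAs (LocallyOfFinitePresentation (𝟙 S))
      exact H12AlgSp.lfp_of_comp k.left G.hom
    let c : H ⊗ G ⟶ G := snd H G * (fst H G ≫ i) * (snd H G)⁻¹ * (fst H G ≫ i)⁻¹
    have hc : ∀ (T : Over S) (h : T ⟶ H) (g : T ⟶ G), lift h g ≫ c = g * (h ≫ i) * g⁻¹ * (h ≫ i)⁻¹ :=
      fun T h g => by simp only [c, MonObj.comp_mul, GrpObj.comp_inv, lift_fst_assoc, lift_snd]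
    have hk : ∀ (T : Over S) (h : T ⟶ H) (g : T ⟶ G),
        (∃ κ : T ⟶ 𝟙_ (Over S), κ ≫ k = lift h g ≫ c) ↔ g * (h ≫ i) = (h ≫ i) * g := fun T h g => by
      rw [hc, ← mul_inv_eq_iff_eq_mul, ← mul_inv_eq_one, Hom.one_def]
      exact ⟨fun ⟨κ, hκ⟩ => by rw [← hκ, Subsingleton.elim κ (toUnit T)], fun e => ⟨toUnit T, e.symm⟩⟩
    obtain ⟨Z, z, hz, hzfp, hZ⟩ := H21Taylor.exists_closed_forall_factor_grp (connectedSpace_fibre H hconn) c k
      (fun T g => (hk T 1 g).mpr (by simp [MonObj.one_comp]))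
      (fun T g a b ha hb => (hk T _ g).mpr (by
        rw [MonObj.mul_comp, ← _root_.mul_assoc, (hk T a g).mp ha, _root_.mul_assoc, (hk T b g).mp hb,
          _root_.mul_assoc]))
    exact ⟨Z, z, hz, hzfp, fun T g => (hZ T g).trans (forall₃_congr fun T' t h => hk T' h (t ≫ g))⟩

end Groth.Agent.S3040
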