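import Groth.Statements.S3042
import Groth.Agent.H19Grp.UnramifiedFibres

set_option autoImplicit false
set_option linter.style.haveILetI false
set_option backward.isDefEq.respectTransparency false
universe u
open CategoryTheory MonoidalCategory CartesianMonoidalCategory MonObj GrpObj AlgebraicGeometry TensorProduct
open SGA3

namespace Groth.Agent.S3042

/-- Let f : X → Y be a morphism of schemes locally of finite type. Then f is a monomorphism if and only
if, for every point y of Y, the fibre X_y → Spec κ(y) is a monomorphism. -/
theorem result (X Y : Scheme.{u}) (f : X ⟶ Y) [LocallyOfFiniteType f] :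
    Mono f ↔ ∀ y : Y, Mono (f.fiberToSpecResidueField y) := by
  constructor
  · intro h y
    exact MorphismProperty.pullback_snd (P := MorphismProperty.monomorphisms Scheme.{u}) _ _ (show Mono f from h)
  · intro h
    haveI : FormallyUnramified f := Groth.Agent.H19Grp.formallyUnramified_of_fibres f fun s => by
      haveI := h s
      haveI : IsIso (Limits.pullback.diagonal (f.fiberToSpecResidueField s)) := inferInstance
      infer_instance
    haveI : IsOpenImmersion (Limits.pullback.diagonal f) := inferInstance
    rw [← Limits.pullback.isIso_diagonal_iff]
    haveI : Surjective (Limits.pullback.diagonal f) := ⟨fun z => by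
      let P := Limits.pullback f f
      let a := P.fromSpecResidueField z ≫ Limits.pullback.fst f f
      let b := P.fromSpecResidueField z ≫ Limits.pullback.snd f f
      have hab : a ≫ f = b ≫ f := by
        show (_ ≫ _) ≫ f = (_ ≫ _) ≫ f
        rw [Category.assoc, Category.assoc, Limits.pullback.condition]
      obtain ⟨y, c, hc⟩ : ∃ (y : Y) (c : Spec (P.residueField z) ⟶ Spec (Y.residueField y)),
          c ≫ Y.fromSpecResidueField y = a ≫ f :=
        ⟨_, _, Scheme.descResidueField_stalkClosedPointTo_fromSpecResidueField (P.residueField z) Y (a ≫ f)⟩
      haveI := h y
      have he : Limits.pullback.lift a c hc.symm =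
          (Limits.pullback.lift b c (hab.symm.trans hc.symm) : _ ⟶ f.fiber y) := by
        rw [← cancel_mono (f.fiberToSpecResidueField y)]
        show _ ≫ Limits.pullback.snd _ _ = _ ≫ Limits.pullback.snd _ _
        rw [Limits.pullback.lift_snd, Limits.pullback.lift_snd]
      have hab' : a = b := by
        have := congrArg (· ≫ f.fiberι y) he
        simp only [Scheme.Hom.fiberι] at this
        rwa [Limits.pullback.lift_fst, Limits.pullback.lift_fst] at this
      have hz : P.fromSpecResidueField z = a ≫ Limits.pullback.diagonal f := by
        apply Limits.pullback.hom_ext
        · rw [Category.assoc, Limits.pullback.diagonal_fst, Category.comp_id]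
        · rw [Category.assoc, Limits.pullback.diagonal_snd, Category.comp_id]
          exact hab'.symm
      refine ⟨a (IsLocalRing.closedPoint _), ?_⟩
      rw [← Scheme.Hom.comp_apply, ← hz]
      exact P.fromSpecResidueField_apply z _⟩
    haveI : Epi (Limits.pullback.diagonal f).base := (TopCat.epi_iff_surjective _).2 (Limits.pullback.diagonal f).surjective
    exact IsOpenImmersion.isIso (Limits.pullback.diagonal f)

end Groth.Agent.S3042
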