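import Groth.Statements.S3043
import Mathlib

set_option autoImplicit false
set_option linter.style.haveILetI false
set_option backward.isDefEq.respectTransparency false
universe u
open CategoryTheory MonoidalCategory CartesianMonoidalCategory MonObj GrpObj AlgebraicGeometry TensorProduct
open SGA3

namespace Groth.Agent.S3043

/-- Let π : X → S be a morphism of schemes admitting a section ε (ε followed by π is the identity). If π
is injective on underlying points, then π is an integral morphism. -/
theorem result (X S : Scheme.{u}) (π : X ⟶ S) (ε : S ⟶ X) (hε : ε ≫ π = 𝟙 S)
    (hinj : Function.Injective π.base) : IsIntegralHom π := by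
  have h1 : ∀ s, π.base (ε.base s) = s := fun s => by
    show π (ε s) = s
    rw [← Scheme.Hom.comp_apply, hε]
    rfl
  have h2 : ∀ x, ε.base (π.base x) = x := fun x => hinj (h1 _)
  let e : X ≃ₜ S :=
    { toFun := π.base, invFun := ε.base, left_inv := h2, right_inv := h1
      continuous_toFun := π.continuous, continuous_invFun := ε.continuous }
  haveI : Surjective ε := ⟨fun x => ⟨π.base x, h2 x⟩⟩
  haveI : UniversallyClosed (ε ≫ π) := by rw [hε]; infer_instance
  haveI : UniversallyClosed π := UniversallyClosed.of_comp_surjective ε π
  haveI : IsAffineHom π := isAffineHom_of_isInducing π e.isInducing (π.isClosedMap.isClosed_range)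
  exact IsIntegralHom.iff_universallyClosed_and_isAffineHom.2 ⟨inferInstance, inferInstance⟩

end Groth.Agent.S3043
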