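import Groth.Statements.S3045


set_option autoImplicit false
set_option linter.style.haveILetI false
set_option backward.isDefEq.respectTransparency false
universe u
open TensorProduct
open SGA3

namespace Groth.Agent.S3045

/-- Let A be a commutative Hopf algebra over a commutative ring k (the coordinate ring of an affine
group G = Spec A) and φ, ψ two k[ε]-valued points of G reducing to the unit point modulo ε (tangent
vectors at the identity). Then for every a ∈ A the ε-component of the product point φ · ψ at a — the
product of points being convolution, formed here as the triple convolution of φ, ψ and the unit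
point — is the sum of the ε-components of φ(a) and ψ(a): on tangent vectors at the identity the
group law of G induces addition. -/
theorem result (k : Type u) [CommRing k] (A : Type u) [CommRing A] [HopfAlgebra k A]
    (φ ψ : LieHopf.LiePts k A) (a : A) :
    TrivSqZeroExt.snd (Dyn.conv3 k A φ.1 ψ.1 ((Algebra.ofId k (DualNumber k)).comp (Bialgebra.counitAlgHom k A)) a) =
      LieHopf.LiePts.tangent k A φ a + LieHopf.LiePts.tangent k A ψ a := by
  have key : Dyn.conv3 k A φ.1 ψ.1 ((Algebra.ofId k (DualNumber k)).comp (Bialgebra.counitAlgHom k A)) =
      (Algebra.TensorProduct.lmul' (S := DualNumber k) k).comp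
        ((Algebra.TensorProduct.map φ.1 ψ.1).comp (Bialgebra.comulAlgHom k A)) := by
    refine AlgHom.ext fun b => ?_
    simp only [Dyn.conv3, AlgHom.comp_apply]
    let R := Coalgebra.Repr.arbitrary k b
    rw [show Bialgebra.comulAlgHom k A b = Coalgebra.comul (R := k) b from rfl, ← R.eq]
    simp only [map_sum, Algebra.TensorProduct.map_tmul, AlgHom.comp_apply, AlgHom.id_apply,
      Algebra.TensorProduct.lmul'_apply_tmul]
    set F : A →ₗ[k] DualNumber k := ((Algebra.TensorProduct.lmul' (S := DualNumber k) k).comp
      ((Algebra.TensorProduct.map φ.1 ψ.1).comp (Bialgebra.comulAlgHom k A))).toLinearMap with hF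
    have e : b = ∑ i ∈ R.index, Coalgebra.counit (R := k) (R.right i) • R.left i := by
      have h := congrArg (TensorProduct.rid k A) (Coalgebra.sum_tmul_counit_eq R)
      rw [map_sum] at h
      simp only [TensorProduct.rid_tmul, one_smul] at h
      exact h.symm
    have := congrArg F e
    simp only [map_sum, map_smul] at this
    rw [hF] at this
    simp only [AlgHom.toLinearMap_apply, AlgHom.comp_apply, Bialgebra.comulAlgHom_apply] at this
    rw [← R.eq] at this
    simp only [map_sum, Algebra.TensorProduct.map_tmul, Algebra.TensorProduct.lmul'_apply_tmul] at this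
    rw [this]
    refine Finset.sum_congr rfl fun i _ => ?_
    rw [mul_comm, Algebra.smul_def]
    rfl
  rw [key]
  let R := Coalgebra.Repr.arbitrary k a
  simp only [AlgHom.comp_apply, Bialgebra.comulAlgHom_apply]
  rw [← R.eq]
  simp only [map_sum, Algebra.TensorProduct.map_tmul, Algebra.TensorProduct.lmul'_apply_tmul]
  rw [← TrivSqZeroExt.sndHom_apply, map_sum]
  simp only [TrivSqZeroExt.sndHom_apply, TrivSqZeroExt.snd_mul, φ.2, ψ.2,
    Bialgebra.counitAlgHom_apply]
  rw [Finset.sum_add_distrib, add_comm]
  congr 1
  · have e : a = ∑ i ∈ R.index, Coalgebra.counit (R := k) (R.right i) • R.left i := by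
      have h := congrArg (TensorProduct.rid k A) (Coalgebra.sum_tmul_counit_eq R)
      rw [map_sum] at h
      simp only [TensorProduct.rid_tmul, one_smul] at h
      exact h.symm
    have h2 := congrArg ((TrivSqZeroExt.sndHom k k).comp φ.1.toLinearMap) e
    rw [map_sum] at h2
    simp only [LinearMap.comp_apply, AlgHom.toLinearMap_apply, TrivSqZeroExt.sndHom_apply,
      map_smul, TrivSqZeroExt.snd_smul] at h2
    simp only [LieHopf.LiePts.tangent]
    rw [h2]
    exact Finset.sum_congr rfl fun i _ => by simp [mul_comm]
  · have e := (Coalgebra.sum_counit_smul R).symm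
    have h2 := congrArg ((TrivSqZeroExt.sndHom k k).comp ψ.1.toLinearMap) e
    rw [map_sum] at h2
    simp only [LinearMap.comp_apply, AlgHom.toLinearMap_apply, TrivSqZeroExt.sndHom_apply,
      map_smul, TrivSqZeroExt.snd_smul] at h2
    simp only [LieHopf.LiePts.tangent]
    rw [h2]

end Groth.Agent.S3045
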