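import Groth.Statements.S3046
import Mathlib

set_option autoImplicit false
set_option linter.style.haveILetI false
set_option backward.isDefEq.respectTransparency false
universe u
open TensorProduct
open SGA3

namespace Groth.Agent.S3046

open WithConv in
theorem conv3_toConv {k : Type u} [CommRing k] {A : Type u} [CommRing A] [HopfAlgebra k A]
    {R : Type u} [CommRing R] [Algebra k R] (f g h : A →ₐ[k] R) :
    toConv (Dyn.conv3 k A f g h).toLinearMap = toConv f.toLinearMap * toConv g.toLinearMap * toConv h.toLinearMap := by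
  ext a
  let Ra := Coalgebra.Repr.arbitrary k a
  rw [Ra.convMul_apply]
  simp only [LinearMap.convMul_apply, Dyn.conv3]
  change (Algebra.TensorProduct.lmul' (S := R) k) ((Algebra.TensorProduct.map _ h)
    ((Algebra.TensorProduct.map _ _) (Coalgebra.comul (R := k) a))) = _
  rw [← Ra.eq]
  simp only [map_sum, Algebra.TensorProduct.map_tmul, Algebra.TensorProduct.lmul'_apply_tmul]
  refine Finset.sum_congr rfl fun i _ => ?_
  change _ = (LinearMap.mul' k R) (TensorProduct.map f.toLinearMap g.toLinearMap
    (Coalgebra.comul (R := k) (Ra.left i))) * h (Ra.right i)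
  let Ri := Coalgebra.Repr.arbitrary k (Ra.left i)
  simp only [AlgHom.comp_apply, AlgHom.id_apply, Bialgebra.comulAlgHom_apply]
  rw [← Ri.eq]
  simp [map_sum]

/-- `t • (algebraMap ∘ F)` in the convolution ring. -/
noncomputable def v {k : Type u} [CommRing k] {A : Type u} [CommRing A] [HopfAlgebra k A]
    {R : Type u} [CommRing R] [Algebra k R] (F : A →ₗ[k] k) (t : R) : WithConv (A →ₗ[k] R) :=
  WithConv.toConv (t • (Algebra.linearMap k R ∘ₗ F))

open WithConv in
theorem v_mul {k : Type u} [CommRing k] {A : Type u} [CommRing A] [HopfAlgebra k A]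
    {R : Type u} [CommRing R] [Algebra k R] (F G : A →ₗ[k] k) (t s : R) :
    v F t * v G s = v (LieHopf.conv F G) (t * s) := by
  ext a
  let Ra := Coalgebra.Repr.arbitrary k a
  rw [Ra.convMul_apply]
  simp only [v, LinearMap.smul_apply, LinearMap.comp_apply, Algebra.linearMap_apply, smul_eq_mul]
  simp only [LieHopf.conv, LinearMap.comp_apply]
  rw [← Ra.eq]
  simp only [map_sum, TensorProduct.map_tmul, LinearMap.mul'_apply, map_mul, Finset.mul_sum]
  exact Finset.sum_congr rfl fun i _ => by ring

theorem v_zero {k : Type u} [CommRing k] {A : Type u} [CommRing A] [HopfAlgebra k A]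
    {R : Type u} [CommRing R] [Algebra k R] (F : A →ₗ[k] k) : v F (0 : R) = 0 := by
  simp [v]

theorem dlin_antipode {k : Type u} [CommRing k] {A : Type u} [CommRing A] [HopfAlgebra k A]
    (D : LieHopf.Lie k A) (a : A) :
    LieHopf.dlin D (HopfAlgebra.antipode k a) = - LieHopf.dlin D a := by
  let Ra := Coalgebra.Repr.arbitrary k a
  have h := congrArg (LieHopf.dlin D) (HopfAlgebra.sum_antipode_mul_eq_algebraMap_counit Ra)
  rw [map_sum, LieHopf.dlin_algebraMap] at h
  simp only [LieHopf.dlin_mul, Bialgebra.counitAlgHom_apply, HopfAlgebra.counit_antipode,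
    Finset.sum_add_distrib] at h
  have e1 : ∑ i ∈ Ra.index, Coalgebra.counit (R := k) (Ra.left i) * LieHopf.dlin D (Ra.right i) =
      LieHopf.dlin D a := by
    conv_rhs => rw [← Coalgebra.sum_counit_smul Ra]
    simp [map_sum]
  have e2 : ∑ i ∈ Ra.index, Coalgebra.counit (R := k) (Ra.right i) *
      LieHopf.dlin D (HopfAlgebra.antipode k (Ra.left i)) =
      LieHopf.dlin D (HopfAlgebra.antipode k a) := by
    have e : a = ∑ i ∈ Ra.index, Coalgebra.counit (R := k) (Ra.right i) • Ra.left i := by
      have h := congrArg (TensorProduct.rid k A) (Coalgebra.sum_tmul_counit_eq Ra)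
      rw [map_sum] at h
      simp only [TensorProduct.rid_tmul, one_smul] at h
      exact h.symm
    conv_rhs => rw [e]
    simp [map_sum]
  rw [e1, e2] at h
  linear_combination h


/-- Let A be a commutative Hopf algebra over a commutative ring k, D and E two ε-derivations A → k
(tangent vectors at the identity of G = Spec A), R a commutative k-algebra and t, t' ∈ R with t² = 0
= t'². Let x = e + tD and y = e + t'E be the corresponding R-points of G. Then the commutator x y
x⁻¹ y⁻¹ (product of points; the inverse of a point is its composite with the antipode) is the point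
a ↦ ε(a) + [D, E](a) · t t', where [D, E] = D ⋆ E − E ⋆ D is the convolution commutator. -/
theorem result (k : Type u) [CommRing k] (A : Type u) [CommRing A] [HopfAlgebra k A]
    (D E : LieHopf.Lie k A) (R : Type u) [CommRing R] [Algebra k R] (t t' : R) (ht : t * t = 0) (ht' : t' * t' = 0)
    (a : A) :
    Dyn.conv3 k A
        (Dyn.conv3 k A (LieHopf.ptOfLie D R t ht) (LieHopf.ptOfLie E R t' ht')
          ((LieHopf.ptOfLie D R t ht).comp (HopfAlgebra.antipodeAlgHom k A)))
        ((LieHopf.ptOfLie E R t' ht').comp (HopfAlgebra.antipodeAlgHom k A))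
        ((Algebra.ofId k R).comp (Bialgebra.counitAlgHom k A)) a =
      algebraMap k R (Bialgebra.counitAlgHom k A a) + algebraMap k R (LieHopf.bracketLin D E a) * (t * t') := by
  classical
  set x := v (LieHopf.dlin D) t with hx
  set y := v (LieHopf.dlin E) t' with hy
  have h1 : ∀ (F : LieHopf.Lie k A) (s : R) (hs : s * s = 0),
      WithConv.toConv (LieHopf.ptOfLie F R s hs).toLinearMap = 1 + v (LieHopf.dlin F) s := by
    intro F s hs
    ext b
    simp [LieHopf.ptOfLie, v, mul_comm]
  have h2 : ∀ (F : LieHopf.Lie k A) (s : R) (hs : s * s = 0),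
      WithConv.toConv ((LieHopf.ptOfLie F R s hs).comp (HopfAlgebra.antipodeAlgHom k A)).toLinearMap =
        1 - v (LieHopf.dlin F) s := by
    intro F s hs
    ext b
    simp [LieHopf.ptOfLie, v, dlin_antipode, mul_comm, sub_eq_add_neg]
  have h3 : WithConv.toConv ((Algebra.ofId k R).comp (Bialgebra.counitAlgHom k A)).toLinearMap = 1 := by
    ext b
    simp
  have key : WithConv.toConv (Dyn.conv3 k A
        (Dyn.conv3 k A (LieHopf.ptOfLie D R t ht) (LieHopf.ptOfLie E R t' ht')
          ((LieHopf.ptOfLie D R t ht).comp (HopfAlgebra.antipodeAlgHom k A)))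
        ((LieHopf.ptOfLie E R t' ht').comp (HopfAlgebra.antipodeAlgHom k A))
        ((Algebra.ofId k R).comp (Bialgebra.counitAlgHom k A))).toLinearMap =
      1 + v (LieHopf.bracketLin D E) (t * t') := by
    rw [conv3_toConv, conv3_toConv, h3, mul_one, h1, h1, h2, h2, ← hx, ← hy]
    have xx : x * x = 0 := by rw [hx, v_mul, ht, v_zero]
    have yy : y * y = 0 := by rw [hy, v_mul, ht', v_zero]
    have xyx : x * y * x = 0 := by
      rw [hx, hy, v_mul, v_mul, show t * t' * t = 0 by linear_combination t' * ht, v_zero]
    have yxy : y * x * y = 0 := by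
      rw [hx, hy, v_mul, v_mul, show t' * t * t' = 0 by linear_combination t * ht', v_zero]
    have xyy : x * y * y = 0 := by rw [_root_.mul_assoc, yy, mul_zero]
    have s1 : (1 + x) * (1 + y) * (1 - x) = 1 + y + x * y - y * x := by
      calc (1 + x) * (1 + y) * (1 - x) = 1 + y + x * y - y * x - x * x - x * y * x := by noncomm_ring
        _ = _ := by rw [xx, xyx, sub_zero, sub_zero]
    rw [s1]
    have s2 : (1 + y + x * y - y * x) * (1 - y) = 1 + (x * y - y * x) := by
      calc (1 + y + x * y - y * x) * (1 - y) = 1 + (x * y - y * x) - y * y - x * y * y + y * x * y := by noncomm_ring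
        _ = _ := by rw [yy, xyy, yxy]; simp
    rw [s2, hx, hy, v_mul, v_mul, mul_comm t' t]
    ext b
    simp [v, LieHopf.bracketLin, LieHopf.dlin, mul_sub]
  have := LinearMap.congr_fun (congrArg WithConv.ofConv key) a
  simp [v] at this
  rw [this]
  simp [mul_comm]

end Groth.Agent.S3046
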