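import Groth.Statements.S3055
import Groth.Agent.H18Site.PointSections
import Groth.Agent.H18Et.Stalk
import Groth.Agent.H18Et.TopInvariance
import Groth.Prelude.Def_EtCore

set_option autoImplicit false
open CategoryTheory CategoryTheory.Limits AlgebraicGeometry Opposite
universe u
open EtDesc

namespace Groth.Agent.S3055

/-- For a separably closed field k and X = Spec k, the global sections functor from sheaves of sets on
X_et (valued one universe up) to sets is an equivalence of categories. -/
theorem result (k : Type u) [Field k] [IsSepClosed k] :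
    ((sheafSections (Spec (CommRingCat.of k)).smallEtaleTopology (Type (u + 1))).obj
      (op (EtCoh.top (Spec (CommRingCat.of k))))).IsEquivalence := by
  let S : Scheme.{u} := Spec (CommRingCat.of k)
  haveI : Subsingleton ↥S := inferInstanceAs (Subsingleton (PrimeSpectrum k))
  obtain ⟨o⟩ : Nonempty (EtCoh.top S).left := inferInstanceAs (Nonempty (PrimeSpectrum k))
  have hS : ∀ a b : (EtCoh.top S).left, a = b := fun a b => Subsingleton.elim (α := S) a b
  have hsub : ∀ Y : S.Etale, Subsingleton (Y ⟶ EtCoh.top S) := fun Y =>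
    ⟨fun a b => (EtCore.topIsTerminal S).hom_ext a b⟩
  have hsec : ∀ {Y : S.Etale} (v : EtCoh.top S ⟶ Y), v.left ≫ Y.hom = 𝟙 S := fun v => Over.w v.hom
  have hopen : ∀ {Y : S.Etale} (v : EtCoh.top S ⟶ Y), IsOpenImmersion v.left := fun {Y} v => by
    haveI : Etale Y.hom := Y.prop
    haveI : Etale (v.left ≫ Y.hom) := by rw [hsec v]; exact MorphismProperty.id_mem _ _
    haveI : Etale v.left := Etale.of_comp v.left Y.hom
    haveI : IsSplitMono v.left := IsSplitMono.mk' ⟨Y.hom, hsec v⟩
    exact Groth.Agent.H18Et.TopInv.isOpenImmersion_of_etale_of_universallyInjective v.left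
  have heq : ∀ {Y : S.Etale} (v w : EtCoh.top S ⟶ Y),
      v.left o = w.left o → v = w := by
    intro Y v w e
    haveI := hopen v
    have hr : Set.range w.left ⊆ Set.range v.left := by
      rintro _ ⟨z, rfl⟩
      exact ⟨o, e.trans (congrArg w.left (hS o z))⟩
    have hl := IsOpenImmersion.lift_fac v.left w.left hr
    have h1 : IsOpenImmersion.lift v.left w.left hr = 𝟙 _ := by
      have := congrArg (· ≫ Y.hom) hl
      simp only [Category.assoc] at this
      erw [hsec v, hsec w] at this
      exact (Category.comp_id _).symm.trans this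
    refine MorphismProperty.Over.Hom.ext ?_
    rw [← hl, h1]
    exact (Category.id_comp _).symm
  have hpts : ∀ (Y : S.Etale) (y : Y.left),
      ∃ v : EtCoh.top S ⟶ Y, v.left o = y := by
    intro Y y
    obtain ⟨t, ht⟩ := Groth.Agent.H18Et.exists_fiber_over y (𝟙 (Spec (CommRingCat.of k)))
      (Subsingleton.elim _ _)
    exact ⟨MorphismProperty.Over.homMk t.left (Over.w t), (congrArg t.left (hS _ _)).trans ht⟩
  have h : H18Site.IsPointLike S.smallEtaleTopology (EtCoh.top S) := by
    refine ⟨hsub, fun Y => ?_, fun {Y Z} v w a e hvw => ?_, fun R hR => ?_⟩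
    · refine Groth.Agent.H18Et.mem_topology_of_forall_point _ fun y => ?_
      obtain ⟨v, hv⟩ := hpts Y y
      exact ⟨_, v, o, Sieve.ofArrows_mk _ _ v, hv⟩
    · refine Groth.Agent.H18Et.mem_topology_of_forall_point _ fun z => (hvw (heq v w ?_)).elim
      have := congrArg (fun q => q.left z) e
      change v.left (a.left z) = w.left (a.left z) at this
      rwa [hS (a.left z) o] at this
    · obtain ⟨V, g, hg, ⟨v, -⟩⟩ : ∃ (V : S.Etale) (g : V ⟶ EtCoh.top S),
          R.arrows g ∧ ∃ v : EtCoh.top S ⟶ V, True := by
        obtain ⟨V, g, hg, t, -⟩ :=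
          (Scheme.pointSmallEtale (𝟙 (Spec (CommRingCat.of k)))).jointly_surjective R hR
            (Over.homMk (U := Over.mk (𝟙 (Spec (CommRingCat.of k)))) (𝟙 _) rfl)
        exact ⟨V, g, hg, MorphismProperty.Over.homMk t.left (Over.w t), trivial⟩
      have := R.downward_closed hg v
      rwa [(hsub _).elim (v ≫ g) (𝟙 _)] at this
  exact H18Site.sections_isEquivalence.{u + 1} h

end Groth.Agent.S3055
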