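import Groth.Statements.S3058
import Mathlib
import Groth.Agent.H15Site.ToposFin.Eps

open ToposFin Groth.Agent.H15Site.TFin

set_option linter.style.haveILetI false
open CategoryTheory CategoryTheory.Limits Opposite Simplicial

set_option autoImplicit false
open CategoryTheory CategoryTheory.Limits Opposite
universe u
open ToposFin

namespace Groth.Agent.S3058

section
lemma main {C : Type u} [SmallCategory C] {J : GrothendieckTopology C} {ι : Type u}
    (F : ι → ToposFin.Sh J) {c : Cofan F} (hc : IsColimit c) :
    ToposFin.IsQC c.pt ↔ (∀ i, ToposFin.IsQC (F i)) ∧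
      {i | IsEmpty (F i ≅ ⊥_ (ToposFin.Sh J))}.Finite := by
  classical
  constructor
  · intro h
    refine ⟨isQC_summand hc h, ?_⟩
    obtain ⟨s, hs⟩ := isQC_iff.1 h _ _ _ (jEpi_cofan hc)
    refine s.finite_toSet.subset fun i hi => by_contra fun his => hi.false ?_
    have : JEpi (fun e : PEmpty.{1} => (e.elim : F i ⟶ F i)) := fun Z a b _ =>
      hs.pullback (c.inj i) a b fun j => by
        refine ((isInitial_of_cofan_sq hc (i := j.1) (j := i) (by intro e; exact his (by rw [← e]; exact j.2)) (pullback.fst _ _)
          (pullback.snd _ _) ?_).some).hom_ext _ _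
        exact pullback.condition
    exact (isInitial_of_jEpi_empty this).some.uniqueUpToIso initialIsInitial
  · rintro ⟨hqc, hfin⟩
    haveI := hfin.to_subtype
    refine isQC_of_finite (fun i : {i | IsEmpty (F i ≅ ⊥_ (ToposFin.Sh J))} => c.inj i.1) ?_
      (fun i => hqc _)
    intro Z a b hab
    refine Cofan.IsColimit.hom_ext hc a b fun i => ?_
    by_cases hi : IsEmpty (F i ≅ ⊥_ (ToposFin.Sh J))
    · exact hab ⟨i, hi⟩
    · obtain ⟨e⟩ := not_isEmpty_iff.1 hi
      exact (initialIsInitial.ofIso e.symm).hom_ext _ _
end

/-- For a topos of sheaves of sets on a small site: the coproduct of a small family of objects is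
quasi-compact if and only if every member is quasi-compact and all but finitely many members are
initial (empty) objects. -/
theorem result {C : Type u} [SmallCategory C] {J : GrothendieckTopology C} {ι : Type u}
    (F : ι → ToposFin.Sh J) :
    ToposFin.IsQC (∐ F) ↔ (∀ i, ToposFin.IsQC (F i)) ∧ {i | IsEmpty (F i ≅ ⊥_ (ToposFin.Sh J))}.Finite := by
  exact main F (coproductIsCoproduct F)

end Groth.Agent.S3058
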