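import Groth.Statements.S3059
import Mathlib
import Groth.Agent.H15Site.ToposFin.Colim

open ToposFin Groth.Agent.H15Site.TFin

set_option linter.style.haveILetI false
open CategoryTheory CategoryTheory.Limits Opposite Simplicial

set_option autoImplicit false
open CategoryTheory CategoryTheory.Limits Opposite
universe u
open ToposFin

namespace Groth.Agent.S3059

section
section
variable {C : Type u} [SmallCategory C] {J : GrothendieckTopology C} {ι : Type u} {X : ToposFin.Sh J}
  {F : ι → ToposFin.Sh J} (π : ∀ i, F i ⟶ X)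

noncomputable def glued (s : Finset ι) : ToposFin.Sh J :=
  pushout (Sigma.desc (fun i : s => π i)) (Sigma.desc (fun i : s => π i))

lemma cond {s t : Finset ι} (hst : s ≤ t) :
    Sigma.desc (fun i : s => π i) ≫ (pushout.inl (Sigma.desc (fun i : t => π i)) (Sigma.desc (fun i : t => π i))) =
      Sigma.desc (fun i : s => π i) ≫ pushout.inr (Sigma.desc (fun i : t => π i)) (Sigma.desc (fun i : t => π i)) := by
  refine Sigma.hom_ext _ _ fun i => ?_
  have := congrArg (fun φ => Sigma.ι (fun i : t => F i) ⟨i.1, hst i.2⟩ ≫ φ)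
    (pushout.condition (f := Sigma.desc (fun i : t => π i)) (g := Sigma.desc (fun i : t => π i)))
  simpa using this

noncomputable def gluedFunctor : Finset ι ⥤ ToposFin.Sh J where
  obj := glued π
  map {s t} h := pushout.desc (pushout.inl _ _) (pushout.inr _ _) (cond π (leOfHom h))
  map_id s := by apply pushout.hom_ext <;> simp [glued]
  map_comp f g := by
    apply pushout.hom_ext
    · exact ((pushout.inl_desc _ _ _).trans (pushout.inl_desc _ _ _).symm).trans ((congrArg (· ≫ _) (pushout.inl_desc _ _ _).symm).trans (Category.assoc _ _ _))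
    · exact ((pushout.inr_desc _ _ _).trans (pushout.inr_desc _ _ _).symm).trans ((congrArg (· ≫ _) (pushout.inr_desc _ _ _).symm).trans (Category.assoc _ _ _))

lemma isQC (h : ∀ (I : Type u) [SmallCategory I] [IsFiltered I] (D : I ⥤ ToposFin.Sh J),
    Function.Injective (colimit.post D (coyoneda.obj (op X)))) (hπ : JEpi π) :
    ∃ s : Finset ι, JEpi (fun i : s => π i) := by
  classical
  let D := gluedFunctor π
  let a : X ⟶ D.obj ∅ := pushout.inl _ _
  let b : X ⟶ D.obj ∅ := pushout.inr _ _
  have hab : a ≫ colimit.ι D ∅ = b ≫ colimit.ι D ∅ := hπ _ _ fun i => by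
    have hw := colimit.w D (homOfLE (Finset.empty_subset {i} : (∅ : Finset ι) ≤ {i}))
    rw [← hw]
    have h1 : a ≫ D.map (homOfLE (Finset.empty_subset {i} : (∅ : Finset ι) ≤ {i})) = pushout.inl _ _ :=
      pushout.inl_desc _ _ _
    have h2 : b ≫ D.map (homOfLE (Finset.empty_subset {i} : (∅ : Finset ι) ≤ {i})) = pushout.inr _ _ :=
      pushout.inr_desc _ _ _
    have h3 := congrArg (fun φ => Sigma.ι (fun j : ({i} : Finset ι) => F j) ⟨i, Finset.mem_singleton_self i⟩ ≫ φ)
      (pushout.condition (f := Sigma.desc (fun j : ({i} : Finset ι) => π j))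
        (g := Sigma.desc (fun j : ({i} : Finset ι) => π j)))
    simp only [Sigma.ι_desc_assoc] at h3
    rw [← Category.assoc a, ← Category.assoc b, h1, h2]
    exact (Category.assoc _ _ _).symm.trans ((congrArg (· ≫ colimit.ι D {i}) h3).trans (Category.assoc _ _ _))
  obtain ⟨s, f, hf⟩ := (post_injective_iff X D).1 (h (Finset ι) D) ∅ a b hab
  have hs : pushout.inl (Sigma.desc (fun j : s => π j)) (Sigma.desc (fun j : s => π j)) =
      pushout.inr _ _ :=
    (pushout.inl_desc _ _ _).symm.trans (hf.trans (pushout.inr_desc _ _ _))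
  refine ⟨s, fun Z p q hpq => ?_⟩
  have hw : Sigma.desc (fun j : s => π j) ≫ p = Sigma.desc (fun j : s => π j) ≫ q :=
    Sigma.hom_ext _ _ fun j => by simpa using hpq j
  exact ((pushout.inl_desc p q hw).symm.trans (congrArg (· ≫ pushout.desc p q hw) hs)).trans
    (pushout.inr_desc p q hw)
end
end

/-- For a topos of sheaves of sets on a small site: an object X is quasi-compact if and only if, for
every small filtered diagram (Y_i), the natural map colim Hom(X, Y_i) -> Hom(X, colim Y_i) is
injective. -/
theorem result {C : Type u} [SmallCategory C] {J : GrothendieckTopology C}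
    (X : ToposFin.Sh J) :
    ToposFin.IsQC X ↔ ∀ (I : Type u) [SmallCategory I] [IsFiltered I] (D : I ⥤ ToposFin.Sh J),
      Function.Injective (colimit.post D (coyoneda.obj (op X))) := by
  refine ⟨fun hX I _ _ D => (post_injective_iff X D).2 fun i a b => hom_colimit_inj hX (colimit.isColimit D) a b,
    fun h => isQC_iff.2 fun ι F π hπ => isQC π h hπ⟩

end Groth.Agent.S3059
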