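import Groth.Statements.S3070
import Mathlib
import Groth.Agent.H15Site.ToposFin.Eps

open ToposFin Groth.Agent.H15Site.TFin

set_option linter.style.haveILetI false
open CategoryTheory CategoryTheory.Limits Opposite Simplicial

set_option autoImplicit false
open CategoryTheory CategoryTheory.Limits Opposite
universe u
open ToposFin

namespace Groth.Agent.S3070

/-- For a topos of sheaves of sets on a small site admitting a generating family of quasi-compact
objects: let f : X -> Y and let (g_i : X_i -> X) be a jointly epimorphic family with every X_i
quasi-compact and every X_i x_Y X_j quasi-separated. If X is quasi-separated then f is a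
quasi-separated morphism. -/
theorem result {C : Type u} [SmallCategory C] {J : GrothendieckTopology C} (hE : ToposFin.HasQCGenerators J)
    {X Y : ToposFin.Sh J} (f : X ⟶ Y) {ι : Type u} (Xi : ι → ToposFin.Sh J) (g : ∀ i, Xi i ⟶ X)
    (hg : Epi (Sigma.desc g)) (hqc : ∀ i, ToposFin.IsQC (Xi i))
    (hqs : ∀ i j, ToposFin.IsQS (pullback (g i ≫ f) (g j ≫ f))) (hX : ToposFin.IsQS X) :
    ToposFin.IsQSHom f := by
  exact isQSHom_of_cover_qs hE f ((jEpi_iff_epi g).2 hg) hqc hqs hX

end Groth.Agent.S3070
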