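import Groth.Statements.S3071
import Mathlib
import Groth.Agent.H15Site.ToposFin.Eps

open ToposFin Groth.Agent.H15Site.TFin

set_option linter.style.haveILetI false
open CategoryTheory CategoryTheory.Limits Opposite Simplicial

set_option autoImplicit false
open CategoryTheory CategoryTheory.Limits Opposite
universe u
open ToposFin

namespace Groth.Agent.S3071

/-- Implication (ii bis) => (i bis), for a topos of sheaves of sets on a small site: suppose given a
generating family of coherent objects G_a such that every product G_a x G_b is quasi-separated. Then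
for every morphism f : X -> Y with X quasi-separated, f is quasi-separated. -/
theorem result {C : Type u} [SmallCategory C] {J : GrothendieckTopology C} {α : Type u} (G : α → ToposFin.Sh J)
    (hG : ∀ a, ToposFin.IsCoherent (G a))
    (hgen : ∀ X : ToposFin.Sh J, ∃ (ι : Type u) (a : ι → α) (π : ∀ i, G (a i) ⟶ X), Epi (Sigma.desc π))
    (hprod : ∀ a b, ToposFin.IsQS (G a ⨯ G b)) {X Y : ToposFin.Sh J} (f : X ⟶ Y) (hX : ToposFin.IsQS X) :
    ToposFin.IsQSHom f := by
  have hE : HasQCGenerators J := fun X => by
    obtain ⟨ι, a, π, hπ⟩ := hgen X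
    exact ⟨ι, _, π, fun i => (hG _).1, hπ⟩
  obtain ⟨ι, a, π, hπ⟩ := hgen X
  refine isQSHom_of_cover_qs hE f ((jEpi_iff_epi π).2 hπ) (fun i => (hG _).1) (fun i j => ?_) hX
  let m : pullback (π i ≫ f) (π j ≫ f) ⟶ G (a i) ⨯ G (a j) :=
    prod.lift (pullback.fst _ _) (pullback.snd _ _)
  haveI : Mono m := ⟨fun p q h => pullback.hom_ext
    ((congrArg (p ≫ ·) (prod.lift_fst _ _).symm).trans ((Category.assoc _ _ _).symm.trans
      ((congrArg (· ≫ prod.fst) h).trans ((Category.assoc _ _ _).trans (congrArg (q ≫ ·) (prod.lift_fst _ _))))))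
    ((congrArg (p ≫ ·) (prod.lift_snd _ _).symm).trans ((Category.assoc _ _ _).symm.trans
      ((congrArg (· ≫ prod.snd) h).trans ((Category.assoc _ _ _).trans (congrArg (q ≫ ·) (prod.lift_snd _ _))))))⟩
  exact isQS_of_mono m (hprod _ _)

end Groth.Agent.S3071
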