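import Groth.Statements.S3074
import Mathlib
import Groth.Agent.H15Site.ToposFin.Eps

open ToposFin Groth.Agent.H15Site.TFin

set_option linter.style.haveILetI false
open CategoryTheory CategoryTheory.Limits Opposite Simplicial

set_option autoImplicit false
open CategoryTheory CategoryTheory.Limits Opposite
universe u
open ToposFin

namespace Groth.Agent.S3074

section
lemma main {C : Type u} [SmallCategory C] {J : GrothendieckTopology C} {ι : Type u}
    (F : ι → ToposFin.Sh J) {c : Cofan F} (hc : IsColimit c) :
    ToposFin.IsQS c.pt ↔ ∀ i, ToposFin.IsQS (F i) :=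
  ⟨fun h i => haveI := mono_inj hc i; isQS_of_mono (c.inj i) h, isQS_cofan hc⟩
end

/-- For a topos of sheaves of sets on a small site: (1) a subobject of a quasi-separated object is
quasi-separated; (2) the coproduct of a small family (X_i) is quasi-separated if and only if every
X_i is. -/
theorem result {C : Type u} [SmallCategory C] {J : GrothendieckTopology C} :
    (∀ {X Y : ToposFin.Sh J} (i : X ⟶ Y) [Mono i], ToposFin.IsQS Y → ToposFin.IsQS X) ∧
    ∀ {ι : Type u} (F : ι → ToposFin.Sh J), ToposFin.IsQS (∐ F) ↔ ∀ i, ToposFin.IsQS (F i) := by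
  exact ⟨fun i _ h => isQS_of_mono i h, fun {ι} F => main F (coproductIsCoproduct F)⟩

end Groth.Agent.S3074
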