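import Groth.Statements.S3076
import Mathlib
import Groth.Agent.H15Site.ToposFin.Eps

open ToposFin Groth.Agent.H15Site.TFin

set_option linter.style.haveILetI false
open CategoryTheory CategoryTheory.Limits Opposite Simplicial

set_option autoImplicit false
open CategoryTheory CategoryTheory.Limits Opposite
universe u
open ToposFin

namespace Groth.Agent.S3076

section
lemma qsHom {C : Type u} [SmallCategory C] {J : GrothendieckTopology C}
    (hE : ToposFin.HasQCGenerators J) {Y Z : ToposFin.Sh J} (g : Y ⟶ Z) {ι : Type u}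
    (X : ι → ToposFin.Sh J) (f : ∀ i, X i ⟶ Y) (hf : JEpi f)
    (hqc : ∀ i, IsQCHom (f i)) (hqs : ∀ i, IsQSHom (f i ≫ g)) : IsQSHom g := by
  refine isQSHom_of_cover hE g hf fun i j => ?_
  refine isQCHom_of_comp _ (pullback.fst (f i ≫ g) (f j ≫ g))
    (isQSHom_baseChange' (IsPullback.of_hasPullback _ _) (hqs j)) ?_
  rw [show pullback.map (f i) (f j) (f i ≫ g) (f j ≫ g) (𝟙 _) (𝟙 _) g (Category.id_comp _).symm
      (Category.id_comp _).symm ≫ pullback.fst (f i ≫ g) (f j ≫ g) = pullback.fst (f i) (f j) from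
      (pullback.lift_fst _ _ _).trans (Category.comp_id _)]
  exact isQCHom_baseChange' (IsPullback.of_hasPullback _ _) (hqc j)
end

/-- For a topos of sheaves of sets on a small site admitting a generating family of quasi-compact
objects: let g : Y -> Z and let (f_i : X_i -> Y) be a jointly epimorphic family of quasi-compact
morphisms. If every g o f_i is quasi-separated then g is quasi-separated; if moreover the family is
finite and every g o f_i is coherent, then g is coherent. -/
theorem result {C : Type u} [SmallCategory C] {J : GrothendieckTopology C} (hE : ToposFin.HasQCGenerators J) {Y Z : ToposFin.Sh J}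
    (g : Y ⟶ Z) :
    (∀ {ι : Type u} (X : ι → ToposFin.Sh J) (f : ∀ i, X i ⟶ Y), Epi (Sigma.desc f) →
      (∀ i, ToposFin.IsQCHom (f i)) → (∀ i, ToposFin.IsQSHom (f i ≫ g)) → ToposFin.IsQSHom g) ∧
    (∀ {n : ℕ} (X : Fin n → ToposFin.Sh J) (f : ∀ k, X k ⟶ Y), Epi (Sigma.desc f) →
      (∀ k, ToposFin.IsQCHom (f k)) → (∀ k, ToposFin.IsCohHom (f k ≫ g)) → ToposFin.IsCohHom g) := by
  refine ⟨fun X f hf => qsHom hE g X f ((jEpi_iff_epi f).2 hf), fun {n} X f hf hqc hcoh => ?_⟩
  have hf' := (jEpi_iff_epi f).2 hf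
  refine ⟨isQCHom_of_finite_source g hf' fun k => (hcoh k).1,
    qsHom hE g (fun k : ULift.{u} (Fin n) => X k.down) (fun k => f k.down)
      (fun Z a b h => hf' a b fun k => h ⟨k⟩) (fun k => hqc _) (fun k => (hcoh _).2)⟩

end Groth.Agent.S3076
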