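import Groth.Statements.S3078
import Groth.Agent.H15Site.Giraud

set_option autoImplicit false
universe v u
open CategoryTheory
open SGA4

set_option linter.style.haveILetI false


namespace Groth.Agent.S3078

open CategoryTheory.Limits in
/-- Implication ii) ⇒ i): let E be a category whose hom sets are u-small. Assume (a) E has finite
limits, (b) every u-small family of objects has a coproduct which is disjoint and stable under base
change, (c) every equivalence relation in E is effective with a universally effective-epimorphic
quotient map, and (d) E has a u-small family of objects which detects isomorphisms (a generating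
family). Then E is equivalent to the category of sheaves of u-small sets on some u-small site. -/
theorem result {E : Type v} [Category.{u} E] [HasFiniteLimits E]
    (hb : SGA4.HasDisjointUniversalCoproducts.{v, u} E)
    (hc : ∀ (R A : E) (p₁ p₂ : R ⟶ A), SGA4.IsEquivRel p₁ p₂ → SGA4.IsEffectiveUniversalEquivRel p₁ p₂)
    (hd : ∃ P : ObjectProperty E, ObjectProperty.Small.{u} P ∧ P.IsDetecting) :
    SGA4.IsTopos.{v, u} E := by
  obtain ⟨P, hP, hdet⟩ := hd
  haveI := hP
  refine Groth.Agent.H15Site.Giraud.Axioms.isTopos
    ({ ι := Shrink.{u} (Subtype P)
       G := fun i => ((equivShrink _).symm i).1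
       coprod := hb
       rel := hc
       detect := ?_ } : Groth.Agent.H15Site.Giraud.Axioms E)
  intro X Y m hm h
  refine hdet m fun G hG g => ?_
  obtain ⟨a, ha⟩ := h (equivShrink _ ⟨G, hG⟩) ((eqToHom (by simp)) ≫ g)
  refine ⟨eqToHom (by simp) ≫ a, by simp [ha], fun b hb => ?_⟩
  rw [← cancel_mono m, hb]
  simp [ha]

end Groth.Agent.S3078
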