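import Groth.Statements.S6159
import Groth.Agent.H15Site.CanonicalTopos

set_option autoImplicit false
universe u
open CategoryTheory
open SGA4

set_option linter.style.haveILetI false
set_option backward.isDefEq.respectTransparency false
open CategoryTheory.Limits Opposite
open Groth.Agent.H15Site


namespace Groth.Agent.S6159

open CategoryTheory.Limits in
/-- Sheaf topoi on small sites (C, J), (D, K), each with its canonical topology: a functor f from
sheaves of sets on C to sheaves of sets on D commutes with all u-small colimits if and only if it is
continuous, i.e. composition with f carries every sheaf of sets for the canonical topology of the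
target to a sheaf for the canonical topology of the source. (Continuity is Mathlib's
`Functor.IsContinuous`: on these large sites it tests sheaves with values in the next universe,
`Type (u+1)`, which is the source's choice of a larger universe for the test sheaves; the hom
universe is u. The equivalence of both conditions with f being a left adjoint is a separate result,
not stated here.) -/
theorem result {C D : Type u} [SmallCategory C] [SmallCategory D]
    (J : GrothendieckTopology C) (K : GrothendieckTopology D) (f : Sheaf J (Type u) ⥤ Sheaf K (Type u)) :
    PreservesColimitsOfSize.{u, u} f ↔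
      f.IsContinuous.{u} (Sheaf.canonicalTopology (Sheaf J (Type u))) (Sheaf.canonicalTopology (Sheaf K (Type u))) := by
  constructor
  · intro hf
    haveI := hf
    haveI := preservesLimitsOfSize_op.{u, u} f
    refine ⟨fun G => ?_⟩
    haveI := CanTopos.preservesLimits_of_isSheaf ((isSheaf_iff_isSheaf_of_type _ _).1 G.property)
    exact CanTopos.isSheaf_of_preservesLimits (f.op ⋙ G.obj)
  · intro hf
    haveI : PreservesLimitsOfSize.{u, u} f.op := by
      refine ⟨fun {I} _ => ⟨fun {D'} => ⟨fun {c} hc => ⟨coyonedaJointlyReflectsLimits _ _ fun Z => ?_⟩⟩⟩⟩
      let P : (Sheaf K (Type u))ᵒᵖ ⥤ Type (u + 1) := coyoneda.obj Z ⋙ uliftFunctor.{u + 1, u}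
      have hP := CanTopos.isSheaf_of_preservesLimits P
      haveI := CanTopos.preservesLimits_of_isSheaf
        (hf.op_comp_isSheaf_of_types ⟨P, (isSheaf_iff_isSheaf_of_type _ _).2 hP⟩)
      exact isLimitOfReflects uliftFunctor.{u + 1, u} (isLimitOfPreserves (f.op ⋙ P) hc)
    exact preservesColimitsOfSize_of_op.{u, u} f

end Groth.Agent.S6159
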