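import Groth.Statements.S3080
import Groth.Agent.S6159
import Mathlib.CategoryTheory.Limits.Presheaf
import Mathlib.CategoryTheory.Adjunction.Restrict
import Mathlib.CategoryTheory.Sites.LocallyBijective

set_option autoImplicit false
universe v u
open CategoryTheory
open SGA4

set_option linter.style.haveILetI false
set_option backward.isDefEq.respectTransparency false
open CategoryTheory.Limits Opposite
open Groth.Agent.H15Site


namespace Groth.Agent.S3080

open CategoryTheory.Limits in
/-- Let (C, J) and (D, K) be small sites and f a functor from sheaves of sets on (C, J) to sheaves of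
sets on (D, K) which preserves finite limits and sends u-small jointly epimorphic families to
jointly epimorphic families. Then f is a left adjoint (so it is the inverse-image functor of a
morphism of topoi) and f preserves all u-small colimits. -/
theorem result {C D : Type u} [SmallCategory C] [SmallCategory D]
    (J : GrothendieckTopology C) (K : GrothendieckTopology D) (f : Sheaf J (Type u) ⥤ Sheaf K (Type u))
    [PreservesFiniteLimits f] (hf : SGA4.PreservesEpiFamilies.{u + 1, u + 1, u} f) :
    f.IsLeftAdjoint ∧ PreservesColimitsOfSize.{u, u} f := by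
  haveI hcol : PreservesColimitsOfSize.{u, u} f := (S6159.result J K f).2 ⟨fun G => by
    refine CanTopos.isSheaf_of_small _ fun {ι X A} π hπ => ?_
    have hG := (isSheaf_iff_isSheaf_of_type _ _).1 G.property
    have h' := CanTopos.isSheafFor_jEpi hG (fun i => f.map (π i))
      (fun Z a b hab => hf ι X A π (fun W a' b' h' => hπ a' b' h') Z a b hab)
    rw [Presieve.isSheafFor_arrows_iff_pullbacks] at h' ⊢
    intro x hx
    refine h' x fun i j => ?_
    have e := hx i j
    refine (Eq.trans ?_ ((congrArg (G.obj.map (PreservesPullback.iso f (π i) (π j)).inv.op) e).trans ?_))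
    · exact ((congrArg (fun m => G.obj.map m.op (x i)) (PreservesPullback.iso_inv_fst f (π i) (π j))).symm.trans
        (G.obj.map_comp_apply (f.map (pullback.fst (π i) (π j))).op _ (x i)))
    · exact ((G.obj.map_comp_apply (f.map (pullback.snd (π i) (π j))).op _ (x j)).symm.trans
        (congrArg (fun m => G.obj.map m.op (x j)) (PreservesPullback.iso_inv_snd f (π i) (π j))))⟩
  refine ⟨?_, hcol⟩
  let L := presheafToSheaf J (Type u)
  haveI : PreservesColimitsOfSize.{u, u} (L ⋙ f) := inferInstance
  haveI : (L ⋙ f).IsLeftAdjoint := Presheaf.isLeftAdjoint_of_preservesColimits.{u} (C := Cᵒᵖ) (L ⋙ f)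
  let G := (L ⋙ f).rightAdjoint
  let adj : L ⋙ f ⊣ G := Adjunction.ofIsLeftAdjoint _
  have hG : ∀ Z, Presheaf.IsSheaf J (G.obj Z) := by
    intro Z
    rw [isSheaf_iff_isSheaf_of_type]
    intro X S hS
    haveI : IsIso (L.map S.functorInclusion) := by
      rw [← J.W_iff (A := Type u), J.W_iff_isLocallyBijective]
      exact ⟨Presheaf.isLocallyInjective_of_injective J _ fun U a b hab => Subtype.ext hab,
        ⟨fun {U} g => J.superset_covering
          (fun V v hv => ⟨⟨v ≫ g, hv⟩, rfl⟩) (J.pullback_stable g hS)⟩⟩
    rw [Presieve.isSheafFor_iff_yonedaSheafCondition]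
    intro g
    have hnat : ∀ t : yoneda.obj X ⟶ G.obj Z,
        (adj.homEquiv _ _).symm (S.functorInclusion ≫ t) =
          (L ⋙ f).map S.functorInclusion ≫ (adj.homEquiv _ _).symm t := fun t =>
      adj.homEquiv_naturality_left_symm _ t
    haveI : IsIso ((L ⋙ f).map S.functorInclusion) :=
      inferInstanceAs (IsIso (f.map (L.map S.functorInclusion)))
    refine ⟨adj.homEquiv _ _ (inv ((L ⋙ f).map S.functorInclusion) ≫ (adj.homEquiv _ _).symm g), ?_,
      fun t ht => ?_⟩
    · apply (adj.homEquiv _ _).symm.injective
      rw [hnat, Equiv.symm_apply_apply, IsIso.hom_inv_id_assoc]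
    · apply (adj.homEquiv _ _).symm.injective
      rw [Equiv.symm_apply_apply, IsIso.eq_inv_comp, ← hnat, ht]
  let R : Sheaf K (Type u) ⥤ Sheaf J (Type u) := ObjectProperty.lift _ G hG
  exact ⟨R, ⟨Adjunction.restrictFullyFaithful (iC := sheafToPresheaf J (Type u)) (iD := 𝟭 _) adj
    (fullyFaithfulSheafToPresheaf J (Type u)) (Functor.FullyFaithful.id _)
    ((Functor.associator _ _ _).symm ≪≫
      Functor.isoWhiskerRight (asIso (sheafificationAdjunction J (Type u)).counit) f ≪≫
      f.leftUnitor ≪≫ f.rightUnitor.symm)
    (G.leftUnitor ≪≫ (ObjectProperty.liftCompιIso _ G hG).symm)⟩⟩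

end Groth.Agent.S3080
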