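import Groth.Statements.S3082
import Mathlib.CategoryTheory.Sites.LeftExact
import Mathlib.CategoryTheory.Sites.Sheafification

set_option linter.style.haveILetI false
open CategoryTheory CategoryTheory.Limits Opposite

set_option autoImplicit false
universe u
open CategoryTheory
open SGA4

namespace Groth.Agent.S3082

section

open CategoryTheory.Limits Opposite
end

/-- Let (C, J) be a small site and G a set of objects of C such that each object of C has a covering
family whose members all lie in G. Then the sheafifications of the presheaves represented by the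
members of G form a detecting family in the category Sh(C, J) of set-valued sheaves on (C, J): any
morphism of sheaves that is bijective on sections over each member of G is an isomorphism. -/
theorem result {C : Type u} [SmallCategory C] (J : GrothendieckTopology C) (G : Set C)
    (hG : ∀ X : C, ∃ (ι : Type u) (Y : ι → C) (f : ∀ i, Y i ⟶ X), Sieve.ofArrows Y f ∈ J X ∧ ∀ i, Y i ∈ G) :
    (ObjectProperty.ofObj fun X : G => (presheafToSheaf J (Type u)).obj (yoneda.obj (X : C))).IsDetecting := by
  intro F F' f hf
  have hbij : ∀ X : G, ∀ s : F'.obj.obj (op (X : C)), ∃! t : F.obj.obj (op (X : C)),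
      f.hom.app (op (X : C)) t = s := by
    intro X s
    let e : ∀ H : Sheaf J (Type u),
        ((presheafToSheaf J (Type u)).obj (yoneda.obj (X : C)) ⟶ H) ≃ H.obj.obj (op (X : C)) :=
      fun H => ((sheafificationAdjunction J (Type u)).homEquiv _ H).trans yonedaEquiv
    have he : ∀ h, e F' (h ≫ f) = f.hom.app (op (X : C)) (e F h) := fun h =>
      (congrArg yonedaEquiv ((sheafificationAdjunction J (Type u)).homEquiv_naturality_right h f)).trans
        (yonedaEquiv_comp _ _)
    obtain ⟨h, hh, hu⟩ := hf _ (.mk X) ((e F').symm s)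
    refine ⟨e F h, (he h).symm.trans ((congrArg (e F') hh).trans (Equiv.apply_symm_apply _ s)),
      fun t ht => ?_⟩
    rw [← (e F).apply_symm_apply t] at ht ⊢
    refine congrArg (e F) (hu _ ((e F').injective ?_))
    rw [Equiv.apply_symm_apply]
    exact (he _).trans ht
  have hF := (isSheaf_iff_isSheaf_of_type _ _).1 F.property
  have hF' := (isSheaf_iff_isSheaf_of_type _ _).1 F'.property
  have hinj : ∀ X : C, Function.Injective (f.hom.app (op X)) := fun X s t hst => by
    obtain ⟨ι, Y, g, hg, hY⟩ := hG X
    refine (hF.isSeparated _ hg).ext fun V a ha => ?_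
    obtain ⟨i, b, rfl⟩ := (Sieve.mem_ofArrows_iff _ _ _).1 ha
    rw [op_comp, FunctorToTypes.map_comp_apply, FunctorToTypes.map_comp_apply]
    refine congrArg (F.obj.map b.op) ((hbij ⟨Y i, hY i⟩ _).unique rfl ?_)
    rw [NatTrans.naturality_apply, NatTrans.naturality_apply, hst]
  haveI : ∀ X : Cᵒᵖ, IsIso (f.hom.app X) := fun ⟨X⟩ => by
    rw [CategoryTheory.isIso_iff_bijective]
    refine ⟨hinj X, fun s => ?_⟩
    obtain ⟨ι, Y, g, hg, hY⟩ := hG X
    choose t ht using fun i => (hbij ⟨Y i, hY i⟩ (F'.obj.map (g i).op s)).exists
    choose i a ha using fun (V : C) (v : V ⟶ X) (hv : Sieve.ofArrows Y g v) =>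
      (Sieve.mem_ofArrows_iff _ _ _).1 hv
    let x : Presieve.FamilyOfElements F.obj (Sieve.ofArrows Y g).arrows :=
      fun V v hv => F.obj.map (a V v hv).op (t (i V v hv))
    have hx : ∀ (V : C) (v : V ⟶ X) (hv : Sieve.ofArrows Y g v),
        f.hom.app (op V) (x v hv) = F'.obj.map v.op s := fun V v hv => by
      change f.hom.app (op V) (F.obj.map (a V v hv).op (t (i V v hv))) = _
      rw [NatTrans.naturality_apply, ht, ← FunctorToTypes.map_comp_apply, ← op_comp, ← ha V v hv]
    have hc : x.Compatible := by
      rw [Presieve.compatible_iff_sieveCompatible]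
      intro V W v b hv
      refine hinj W ?_
      rw [hx, NatTrans.naturality_apply, hx, op_comp, FunctorToTypes.map_comp_apply]
    obtain ⟨r, hr, -⟩ := hF _ hg x hc
    refine ⟨r, (hF'.isSeparated _ hg).ext fun V v hv => ?_⟩
    rw [← NatTrans.naturality_apply, hr v hv, hx]
  haveI : IsIso f.hom := NatIso.isIso_of_isIso_app _
  haveI : IsIso ((sheafToPresheaf J (Type u)).map f) := ‹IsIso f.hom›
  exact isIso_of_reflects_iso f (sheafToPresheaf J (Type u))

end Groth.Agent.S3082
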