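import Groth.Statements.S3084
import Groth.Agent.H15Site.OpenClosed

set_option autoImplicit false
universe u
open CategoryTheory
open SGA4

set_option linter.style.haveILetI false
set_option backward.isDefEq.respectTransparency false
open CategoryTheory.Limits
open Groth.Agent.H15Site


namespace Groth.Agent.S3084

open CategoryTheory.Limits in
/-- For sheaves of sets on a small site: let U be an open, j^* = (X ↦ U × X over U) the restriction to
the open subtopos E/U and i^* any left adjoint of the inclusion of the closed complement of U. A
morphism m of E is an isomorphism if and only if both j^*(m) and i^*(m) are isomorphisms. -/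
theorem result {C : Type u} [SmallCategory C] (J : GrothendieckTopology C)
    (U : Sheaf J (Type u)) (hU : SGA4.IsOpen U)
    (L : Sheaf J (Type u) ⥤ (SGA4.closedCompl U).FullSubcategory) (adj : L ⊣ (SGA4.closedCompl U).ι)
    {X Y : Sheaf J (Type u)} (m : X ⟶ Y) :
    IsIso m ↔ IsIso ((Over.star U).map m) ∧ IsIso (L.map m) := by
  refine ⟨fun _ => ⟨inferInstance, inferInstance⟩, fun ⟨h₁, h₂⟩ => ?_⟩
  haveI := h₂
  let e := adj.leftAdjointUniq (OpenClosed.adj hU)
  haveI : IsIso ((OpenClosed.leftAdjoint hU).map m) := by
    rw [← NatIso.naturality_1 e m]; infer_instance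
  haveI hk : IsIso ((OpenClosed.leftAdjoint hU).map m).hom :=
    inferInstanceAs (IsIso ((SGA4.closedCompl U).ι.map ((OpenClosed.leftAdjoint hU).map m)))
  have h₁' : IsIso ((Over.forget U).map ((Over.star U).map m)) := by haveI := h₁; infer_instance
  have hm : IsIso (prod.map (𝟙 U) m) := by
    simpa [Over.star_map_left] using h₁'
  exact IsPullback.isIso_snd_of_isIso (OpenClosed.isPullback_b hU m _ (OpenClosed.a_comp hU _)
    (OpenClosed.b_leftAdjoint_map hU m) hm)

end Groth.Agent.S3084
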