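import Groth.Statements.S3085
import Groth.Agent.H15Site.OpenClosed
import Groth.Agent.H15Site.GlueEquiv
import Groth.Agent.S3084
import Mathlib.CategoryTheory.Adjunction.Triple

set_option autoImplicit false
universe u
open CategoryTheory
open SGA4

set_option linter.style.haveILetI false
set_option backward.isDefEq.respectTransparency false
open CategoryTheory.Limits
open Groth.Agent.H15Site


namespace Groth.Agent.S3085

open CategoryTheory.Limits in
/-- Gluing a topos from an open subtopos and its closed complement, for sheaves of sets on a small site: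
let E be the category of sheaves of sets on a small site, U an open of E (a subobject of the final
object) with restriction functor j^* : E → E/U, X ↦ U × X; assume j^* has a right adjoint j_* (true
in any topos; taken as an instance hypothesis), and let i^* be a left adjoint of the inclusion of
the closed complement F of U. With ρ = i^* ∘ j_* : E/U → F, the category E is equivalent to the
glued category of triples (Y in F, X in E/U, Y → ρX). (Only the existence of an equivalence is
asserted; the published statement gives it explicitly as X ↦ (i^*X, j^*X, i^*(X → j_*j^*X)).) -/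
theorem result {C : Type u} [SmallCategory C] (J : GrothendieckTopology C)
    (U : Sheaf J (Type u)) (hU : SGA4.IsOpen U) [(Over.star U).IsLeftAdjoint]
    (L : Sheaf J (Type u) ⥤ (SGA4.closedCompl U).FullSubcategory) (adj : L ⊣ (SGA4.closedCompl U).ι) :
    Nonempty (Sheaf J (Type u) ≌
      Comma (𝟭 (SGA4.closedCompl U).FullSubcategory) ((Over.star U).rightAdjoint ⋙ L)) := by
  let adj' := Adjunction.ofIsLeftAdjoint (Over.star U)
  let t : Adjunction.Triple (Over.forget U) (Over.star U) (Over.star U).rightAdjoint :=
    { adj₁ := Over.forgetAdjStar U, adj₂ := adj' }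
  haveI : (Over.forget U).Full :=
    ⟨fun {A B} f => ⟨Over.homMk f (OpenClosed.hom_eq hU _ _), rfl⟩⟩
  let ff := t.fullyFaithfulEquiv (Functor.FullyFaithful.ofFullyFaithful _)
  haveI := ff.full
  haveI := ff.faithful
  haveI : PreservesFiniteLimits (OpenClosed.leftAdjoint hU) :=
    OpenClosed.preservesFiniteLimits_leftAdjoint hU
  haveI : PreservesLimitsOfShape WalkingCospan L :=
    preservesLimitsOfShape_of_natIso ((OpenClosed.adj hU).leftAdjointUniq adj)
  haveI : (Over.star U).IsRightAdjoint := ⟨_, ⟨Over.forgetAdjStar U⟩⟩
  haveI : PreservesLimitsOfShape WalkingCospan (Over.star U) := inferInstance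
  refine ⟨GlueEquiv.equiv adj adj' (fun Y => ⟨?_⟩)
    (fun X Y m h₁ h₂ => (S3084.result J U hU L adj m).2 ⟨h₁, h₂⟩)⟩
  haveI : IsIso (prod.fst : U ⨯ Y.obj ⟶ U) := Y.property
  refine IsTerminal.ofIso Over.mkIdTerminal (Over.isoMk (asIso (prod.fst : U ⨯ Y.obj ⟶ U)) ?_).symm
  exact OpenClosed.hom_eq hU _ _

end Groth.Agent.S3085
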