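import Groth.Statements.S3087
import Groth.Agent.H17.OverPreRing
import Groth.Agent.H15Site.ModFlat
import Mathlib
import Mathlib.Algebra.Category.ModuleCat.Presheaf.Sheafification
import Mathlib.Algebra.Category.ModuleCat.Sheaf.PushforwardContinuous
import Mathlib.Algebra.Category.ModuleCat.Sheaf.Abelian
import Mathlib.CategoryTheory.Adjunction.Restrict
import Mathlib.CategoryTheory.Sites.Over
import Mathlib.CategoryTheory.Limits.Preserves.Finite

set_option autoImplicit false
universe u
open CategoryTheory
open SGA4

set_option linter.style.haveILetI false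
set_option linter.unusedSectionVars false
set_option backward.isDefEq.respectTransparency false
open CategoryTheory.Limits Opposite
open Groth.Agent.H17.OverPreRing

namespace Groth.Agent.S3087

variable {C : Type u} [SmallCategory C] (J : GrothendieckTopology C) (X : C) (A : Sheaf J RingCat.{u})

/-- Sheafification of presheaves of modules. -/
noncomputable abbrev aSh : PR A.obj ⥤ SheafOfModules.{u} A := PresheafOfModules.sheafification (𝟙 A.obj)

/-- Forget, on the base. -/
noncomputable abbrev forg : SheafOfModules.{u} A ⥤ PR A.obj :=
  SheafOfModules.forget A ⋙ PresheafOfModules.restrictScalars (𝟙 A.obj)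

/-- The composite adjunction. -/
noncomputable def jaAdj : jP A.obj X ⋙ aSh J A ⊣ forg J A ⋙ resP A.obj X :=
  (jAdj A.obj X).comp (PresheafOfModules.sheafificationAdjunction (𝟙 A.obj))

/-- Forget on the localised site, typed with the presheaf ring of `C/X`. -/
noncomputable def forgU : SheafOfModules.{u} (A.over X) ⥤ PRU A.obj X := SheafOfModules.forget (A.over X)

/-- Extension by zero. -/
noncomputable def ext0 : SheafOfModules.{u} (A.over X) ⥤ SheafOfModules.{u} A :=
  forgU J X A ⋙ jP A.obj X ⋙ aSh J A

/-- Extension by zero is left adjoint to restriction. -/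
noncomputable def ext0Adj : ext0 J X A ⊣ SheafOfModules.overFunctor.{u} A X :=
  Adjunction.restrictFullyFaithful (iC := forgU J X A) (iD := 𝟭 _) (jaAdj J X A)
    (SheafOfModules.fullyFaithfulForget (A.over X)) (Functor.FullyFaithful.id _)
    (Iso.refl _)
    (NatIso.ofComponents (fun M => Iso.refl _))

lemma mono_unit (M : SheafOfModules.{u} (A.over X)) :
    Mono ((jaAdj J X A).unit.app ((forgU J X A).obj M)) := by
  refine PresheafOfModules.mono_of_injective fun Y x y h => ?_
  let M' := (forgU J X A).obj M
  let η := (PresheafOfModules.sheafificationAdjunction (𝟙 A.obj)).unit.app ((jP A.obj X).obj M')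
  haveI : Presheaf.IsLocallyInjective J ((PresheafOfModules.toPresheaf _).map η) := by
    rw [PresheafOfModules.toPresheaf_map_sheafificationAdjunction_unit_app]
    exact Presheaf.isLocallyInjective_toSheafify' J (D := AddCommGrpCat.{u}) _
  rw [jaAdj, Adjunction.comp_unit_app] at h
  let ι := inc M' (X := op Y.unop.left) Y.unop.hom
  have hs := Presheaf.equalizerSieve_mem J ((PresheafOfModules.toPresheaf _).map η) (X := op Y.unop.left)
      (ι.hom x) (ι.hom y) h
  refine M.isSheaf.isSeparated Y.unop ((Sieve.overEquiv Y.unop).symm _)
    (J.overEquiv_symm_mem_over _ _ hs) x y fun Z g hg => ?_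
  have hg' : ((jObj M').map g.left.op).hom (ι.hom x) = ((jObj M').map g.left.op).hom (ι.hom y) := hg
  have key : ∀ t : M'.obj Y, ((jObj M').map g.left.op).hom (ι.hom t) =
      (inc M' (X := op Z.left) Z.hom).hom ((M'.map g.op).hom t) := fun t =>
    jMap_inc M' (X := op Y.unop.left) (Y := op Z.left) g.left.op (φ := Y.unop.hom) (ψ := Z.hom) g rfl t
  rw [key, key] at hg'
  have := congrArg (proj M' (X := op Z.left) Z.hom).hom hg'
  exact (proj_inc_self _ (X := op Z.left) Z.hom _).symm.trans
    (this.trans (proj_inc_self _ (X := op Z.left) Z.hom _))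

end Groth.Agent.S3087


namespace Groth.Agent.S3087

open CategoryTheory.Limits in
/-- For the ringed topos of sheaves on a small site (C, J) with sheaf of rings A, localised at an object
X of C: the restriction functor j_X^* from sheaves of A-modules to sheaves of A|X-modules on the
site of objects over X admits a left adjoint (extension by zero j_{X!}), and any such left adjoint
is exact (preserves finite limits and finite colimits) and faithful. -/
theorem result {C : Type u} [SmallCategory C] (J : GrothendieckTopology C) (X : C)
    (A : Sheaf J RingCat.{u}) :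
    (SheafOfModules.overFunctor.{u} A X).IsRightAdjoint ∧
    ∀ (L : SheafOfModules.{u} (A.over X) ⥤ SheafOfModules.{u} A) (_ : L ⊣ SheafOfModules.overFunctor.{u} A X),
      PreservesFiniteLimits L ∧ PreservesFiniteColimits L ∧ L.Faithful := by
  refine ⟨(ext0Adj J X A).isRightAdjoint, fun L adj => ?_⟩
  let e : ext0 J X A ≅ L := Adjunction.leftAdjointUniq (ext0Adj J X A) adj
  haveI : PreservesColimitsOfSize.{u, u} (ext0 J X A) := (ext0Adj J X A).leftAdjoint_preservesColimits
  haveI : PreservesFiniteColimits (ext0 J X A) := PreservesColimitsOfSize.preservesFiniteColimits _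
  haveI : (ext0 J X A).Additive := Groth.Agent.H15Site.ModTensor.additive_of_preservesFiniteColimits _
  haveI : (aSh J A).PreservesMonomorphisms := preservesMonomorphisms_of_preservesLimitsOfShape _
  haveI : (SheafOfModules.forget (A.over X)).PreservesMonomorphisms := by
    haveI : (SheafOfModules.forget (A.over X) ⋙ PresheafOfModules.restrictScalars (𝟙 (A.over X).obj)).PreservesMonomorphisms :=
      haveI := (PresheafOfModules.sheafificationAdjunction (𝟙 (A.over X).obj)).isRightAdjoint
      Functor.preservesMonomorphisms_of_isRightAdjoint _
    exact this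
  haveI : (forgU J X A).PreservesMonomorphisms :=
    inferInstanceAs (SheafOfModules.forget (A.over X)).PreservesMonomorphisms
  haveI : (ext0 J X A).PreservesMonomorphisms :=
    inferInstanceAs (forgU J X A ⋙ jP A.obj X ⋙ aSh J A).PreservesMonomorphisms
  haveI : PreservesFiniteLimits (ext0 J X A) := by
    refine (Functor.preservesFiniteLimits_iff_forall_exact_map_and_mono _).2 fun S hS => ?_
    haveI := hS.mono_f
    exact ⟨(((Functor.preservesFiniteColimits_iff_forall_exact_map_and_epi _).1 inferInstance) S hS).1,
      inferInstance⟩
  haveI : (ext0 J X A).Faithful := by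
    refine ⟨fun {M N} f g h => ?_⟩
    haveI := mono_unit J X A N
    apply (SheafOfModules.forget (A.over X)).map_injective
    show (forgU J X A).map f = (forgU J X A).map g
    rw [← cancel_mono ((jaAdj J X A).unit.app ((forgU J X A).obj N))]
    refine ((jaAdj J X A).unit.naturality ((forgU J X A).map f)).trans ?_
    refine Eq.trans ?_ ((jaAdj J X A).unit.naturality ((forgU J X A).map g)).symm
    exact congrArg (fun k => _ ≫ (forg J A ⋙ resP A.obj X).map k) h
  exact ⟨preservesFiniteLimits_of_natIso e, preservesFiniteColimits_of_natIso e, Functor.Faithful.of_iso e⟩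

end Groth.Agent.S3087
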