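import Groth.Statements.S3886
import Mathlib.AlgebraicTopology.SimplicialObject.ChainHomotopy
import Mathlib.CategoryTheory.Preadditive.Opposite

set_option autoImplicit false
universe u
open CategoryTheory
open Hyper

set_option linter.style.haveILetI false
set_option backward.isDefEq.respectTransparency false
open CategoryTheory.Limits Opposite AlgebraicTopology

namespace Groth.Agent.S3886

variable {C : Type u} [SmallCategory C] (X : C)

/-- Values of a presheaf on formal coproducts, as a covariant functor to the opposite category. -/
noncomputable abbrev G (P : Cᵒᵖ ⥤ AddCommGrpCat.{u}) :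
    FormalCoproduct.{u} (Over X) ⥤ AddCommGrpCat.{u}ᵒᵖ :=
  ((FormalCoproduct.evalOp.{u} (Over X) AddCommGrpCat.{u}).obj ((Over.forget X).op ⋙ P)).rightOp

lemma d_unop (K : SimplicialObject (FormalCoproduct.{u} (Over X))) (P : Cᵒᵖ ⥤ AddCommGrpCat.{u}) (n : ℕ) :
    (Hyper.cechCx X K P).d n (n + 1) =
      ((((SimplicialObject.whiskering _ _).obj (G X P)).obj K |> (alternatingFaceMapComplex _).obj).d (n + 1) n).unop := by
  rw [alternatingFaceMapComplex_obj_d]
  dsimp only [Hyper.cechCx, FormalCoproduct.cochainComplexFunctor, Functor.comp_obj, AlgebraicTopology.alternatingCofaceMapComplex,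
    AlternatingCofaceMapComplex.obj]
  erw [CochainComplex.of_d]
  simp only [AlternatingCofaceMapComplex.objD, AlternatingFaceMapComplex.objD, unop_sum, unop_zsmul]
  rfl

end Groth.Agent.S3886


namespace Groth.Agent.S3886

open Opposite CategoryTheory.Limits in
/-- Let a, b : L -> K be two morphisms of simplicial semi-representable objects over an object X of a
small category (simplicial objects in formal coproducts of objects over X), homotopic in the
combinatorial (simplicial) sense. Then for every presheaf of abelian groups P and every p, a and b
induce the same map from the p-th Cech cohomology group of P with respect to K to that with respect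
to L. -/
theorem result {C : Type u} [SmallCategory C] (X : C)
    {K L : SimplicialObject (FormalCoproduct.{u} (Over X))} (a b : L ⟶ K)
    (h : Nonempty (SimplicialObject.Homotopy a b)) (P : Cᵒᵖ ⥤ AddCommGrpCat.{u}) (p : ℕ) :
    Hyper.cechHMap X a P p = Hyper.cechHMap X b P p := by
  obtain ⟨H⟩ := h
  let hh := SimplicialObject.Homotopy.toChainHomotopy (H.whiskerRight (G X P))
  have key : _root_.Homotopy (Hyper.cechMap X a P) (Hyper.cechMap X b P) :=
    { hom := fun i j => (hh.hom j i).unop
      zero := fun i j hij => by rw [hh.zero j i (fun e => hij e)]; rfl
      comm := fun n => by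
        have e := congrArg Quiver.Hom.unop (hh.comm n)
        cases n with
        | zero =>
          rw [dNext_eq_zero _ _ (by simp), zero_add, prevD_eq (j' := 1) (w := by simp)] at e
          rw [prevD_eq_zero _ _ (by simp), dNext_eq (i' := 1) (w := by simp), add_zero, d_unop]
          exact e
        | succ n =>
          rw [dNext_eq (i' := n) (w := by simp), prevD_eq (j' := n + 2) (w := by simp)] at e
          rw [dNext_eq (i' := n + 2) (w := by simp), prevD_eq (j' := n) (w := by simp), d_unop, d_unop]
          refine e.trans ?_
          rw [unop_add, unop_add, unop_comp, unop_comp, add_comm ((hh.hom n (n + 1)).unop ≫ _)]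
          rfl }
  exact congrArg AddCommGrpCat.Hom.hom (key.homologyMap_eq p)

end Groth.Agent.S3886
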