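import Groth.Statements.S3089
import Groth.Agent.H15Site.SiteInst
import Mathlib.CategoryTheory.Sites.Adjunction
import Mathlib.CategoryTheory.Limits.Shapes.Pullback.IsPullback.Basic
import Mathlib.Algebra.Homology.DerivedCategory.Ext.ExactSequences
import Mathlib.Algebra.Homology.ShortComplex.Abelian

open Groth.Agent.H15Site CategoryTheory.Abelian
attribute [local instance 10000] SiteInst.hasSheafifySite SiteInst.hasWeakSheafifySite SiteInst.hasExtSite SiteInst.enoughInjSite

set_option linter.style.haveILetI false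
open CategoryTheory CategoryTheory.Limits Opposite

set_option autoImplicit false
universe u
open CategoryTheory
open CohSite

namespace Groth.Agent.S3089

section

attribute [local instance 10000] SiteInst.hasSheafifySite SiteInst.hasWeakSheafifySite
  SiteInst.hasExtSite SiteInst.enoughInjSite

open Opposite CategoryTheory.Limits CategoryTheory.Abelian

theorem free_map_injective {α β : Type u} (f : α ⟶ β) (hf : Function.Injective f) :
    Function.Injective (AddCommGrpCat.free.map f).hom := by
  rcases isEmpty_or_nonempty α with hα | hα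
  · intro x y _
    have : ∀ z : FreeAbelianGroup α, z = 0 := fun z =>
      FreeAbelianGroup.induction_on z rfl (fun x => hα.elim x) (fun x => hα.elim x)
        (fun x y hx hy => by rw [hx, hy, add_zero])
    exact (this x).trans (this y).symm
  · obtain ⟨r, hr⟩ : ∃ r : β → α, ∀ a, r (f a) = a := ⟨Function.invFun f, Function.leftInverse_invFun hf⟩
    have h : f ≫ ↾r = 𝟙 α := by ext a; exact hr a
    intro x y hxy
    have h' := congrArg (AddCommGrpCat.free.map (↾r)).hom hxy
    have e : ∀ z, (AddCommGrpCat.free.map (↾r)).hom ((AddCommGrpCat.free.map f).hom z) = z := fun z => by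
      refine (ConcreteCategory.congr_hom (AddCommGrpCat.free.map_comp f (↾r)) z).symm.trans ?_
      rw [h, CategoryTheory.Functor.map_id]
      rfl
    rwa [e, e] at h'
end

open Opposite in
/-- For abelian sheaves on the topos of sheaves of sets on a small site: let F be an abelian sheaf which
is totally acyclic, i.e. H^q(X, F) = 0 for every sheaf of sets X and every q > 0, and let Y -> X be
a monomorphism of sheaves of sets. Then the restriction map H^0(X, F) -> H^0(Y, F) is surjective. -/
theorem result {C : Type u} [SmallCategory C] {J : GrothendieckTopology C}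
    (F : Sheaf J AddCommGrpCat.{u}) (hF : CohCx.IsTotallyAcyclic F) {Y X : Sheaf J (Type u)} (ι : Y ⟶ X) [Mono ι] :
    Function.Surjective ((CohCx.HK0Functor J F).map ι.op) := by
  let L : Sheaf J (Type u) ⥤ Sheaf J AddCommGrpCat.{u} :=
    sheafToPresheaf J (Type u) ⋙ (Functor.whiskeringRight _ _ _).obj AddCommGrpCat.free.{u} ⋙
      presheafToSheaf J AddCommGrpCat.{u}
  haveI : L.IsLeftAdjoint := (CategoryTheory.Sheaf.adjunction J AddCommGrpCat.adj).isLeftAdjoint
  haveI : Mono (L.map ι) := by
    haveI : ∀ U, Mono ((Functor.whiskerRight ι.hom AddCommGrpCat.free.{u}).app U) := fun U => by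
      rw [AddCommGrpCat.mono_iff_injective]
      exact free_map_injective _ ((CategoryTheory.mono_iff_injective _).1
        (inferInstanceAs (Mono ((sheafToPresheaf J (Type u) ⋙ (evaluation Cᵒᵖ (Type u)).obj U).map ι))))
    haveI := NatTrans.mono_of_mono_app (Functor.whiskerRight ι.hom AddCommGrpCat.free.{u})
    exact inferInstanceAs (Mono ((presheafToSheaf J AddCommGrpCat.{u}).map
      (Functor.whiskerRight ι.hom AddCommGrpCat.free.{u})))
  let S : ShortComplex (Sheaf J AddCommGrpCat.{u}) :=
    ShortComplex.mk (L.map ι) (cokernel.π (L.map ι)) (cokernel.condition _)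
  have hS : S.ShortExact :=
    { exact := ShortComplex.exact_cokernel _
      mono_f := inferInstanceAs (Mono (L.map ι))
      epi_g := inferInstanceAs (Epi (cokernel.π (L.map ι))) }
  have hP : IsPushout (L.map ι) (L.map ι) (L.map (pushout.inl ι ι)) (L.map (pushout.inr ι ι)) :=
    (IsPushout.of_hasPushout ι ι).map L
  let q : L.obj (pushout ι ι) ⟶ S.X₃ := hP.desc 0 S.g (by rw [comp_zero, S.zero])
  let s : S.X₃ ⟶ L.obj (pushout ι ι) :=
    cokernel.desc (L.map ι) (L.map (pushout.inr ι ι) - L.map (pushout.inl ι ι)) (by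
      rw [Preadditive.comp_sub, hP.w, sub_self])
  have hsq : s ≫ q = 𝟙 _ := by
    refine coequalizer.hom_ext ?_
    refine (Category.assoc _ _ _).symm.trans ?_
    refine (congrArg (· ≫ q) (cokernel.π_desc _ _ _)).trans ?_
    rw [Preadditive.sub_comp, hP.inl_desc, hP.inr_desc, sub_zero]
    exact (Category.comp_id _).symm
  have hQ : ∀ z : Ext S.X₃ F 1, z = 0 := fun z => by
    have h := (hF (pushout ι ι) 0).elim ((Ext.mk₀ q).comp z (zero_add 1)) 0
    have e := congrArg (fun w : Ext (L.obj (pushout ι ι)) F 1 => (Ext.mk₀ s).comp w (zero_add 1)) h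
    simp only [Ext.comp_zero] at e
    refine Eq.trans ?_ e
    rw [← Ext.comp_assoc (a₁₂ := 0) (a₂₃ := 1) _ _ _ (zero_add 0) (zero_add 1) (by omega),
      Ext.mk₀_comp_mk₀, hsq, Ext.mk₀_id_comp]
  intro φ
  obtain ⟨ψ, hψ⟩ := Ext.contravariant_sequence_exact₁ hS F (Ext.mk₀ φ) (add_zero 1) (hQ _)
  obtain ⟨ψ, rfl⟩ := (Ext.mk₀_bijective _ _).2 ψ
  exact ⟨ψ, (Ext.mk₀_bijective _ _).1 ((Ext.mk₀_comp_mk₀ _ _).symm.trans hψ)⟩

end Groth.Agent.S3089
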