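import Groth.Statements.S3092
import Groth.Agent.H15Site.HyperBuild.SpecialSite

set_option autoImplicit false
universe u
open CategoryTheory
open Hyper

set_option linter.style.haveILetI false
set_option backward.isDefEq.respectTransparency false
open Groth.Agent.H15Site
attribute [local instance 10000] SiteInst.hasSheafifySite SiteInst.hasWeakSheafifySite SiteInst.hasExtSite SiteInst.enoughInjSite

namespace Groth.Agent.S3092

open Opposite CategoryTheory.Limits in
/-- In the topos of sheaves of sets on a small site; coskeleta assumed to exist: let v : K -> L be a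
morphism of simplicial sheaves of sets and n ≥ 0 such that v_p is an isomorphism for p < n, v_n is
an epimorphism, and K, L are n-coskeletal (the units K -> cosk_n K, L -> cosk_n L are isomorphisms).
Then every v_p is an epimorphism and v induces a quasi-isomorphism between the chain complexes of
free abelian sheaves Z[K] -> Z[L]. -/
theorem result {C : Type u} [SmallCategory C] (J : GrothendieckTopology C)
    [∀ (n : ℕ) (F : (SimplexCategory.Truncated n)ᵒᵖ ⥤ Sheaf J (Type u)),
      (SimplexCategory.Truncated.inclusion n).op.HasRightKanExtension F]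
    {K L : SimplicialObject (Sheaf J (Type u))} (v : K ⟶ L) (n : ℕ)
    (h1 : ∀ p : ℕ, p < n → IsIso (v.app (op (SimplexCategory.mk p))))
    (h2 : Epi (v.app (op (SimplexCategory.mk n))))
    (h3 : IsIso ((SimplicialObject.coskAdj n).unit.app K) ∧ IsIso ((SimplicialObject.coskAdj n).unit.app L)) :
    (∀ p : ℕ, Epi (v.app (op (SimplexCategory.mk p)))) ∧
    QuasiIso ((AlgebraicTopology.alternatingFaceMapComplex _).map
      (Functor.whiskerRight v (Sheaf.composeAndSheafify J AddCommGrpCat.free.{u}))) := by
  haveI := h3.1
  haveI := h3.2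
  let P := sheafToPresheaf J (Type u)
  let w := Functor.whiskerRight v P
  have h1' : ∀ k : ℕ, k < n → IsIso (w.app (op (SimplexCategory.mk k))) := fun k hk => by
    haveI := h1 k hk
    exact inferInstanceAs (IsIso (P.map (v.app (op (SimplexCategory.mk k)))))
  have h2' : Presheaf.IsLocallySurjective J (w.app (op (SimplexCategory.mk n))) :=
    (Sheaf.isLocallySurjective_iff_epi (v.app (op (SimplexCategory.mk n)))).2 h2
  have hK : ∀ U : Cᵒᵖ, HyperBuild.CoskEl n ((K ⋙ P) ⋙ (evaluation Cᵒᵖ (Type u)).obj U) := fun U =>
    HyperBuild.coskEl_of_isIso n K (P ⋙ (evaluation Cᵒᵖ (Type u)).obj U)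
  have hL : ∀ U : Cᵒᵖ, HyperBuild.CoskEl n ((L ⋙ P) ⋙ (evaluation Cᵒᵖ (Type u)).obj U) := fun U =>
    HyperBuild.coskEl_of_isIso n L (P ⋙ (evaluation Cᵒᵖ (Type u)).obj U)
  refine ⟨fun p => (Sheaf.isLocallySurjective_iff_epi _).1
    (HyperBuild.isLocallySurjective_special h1' h2' hK hL p), ?_⟩
  rw [quasiIso_iff]
  intro i
  rw [quasiIsoAt_iff_isIso_homologyMap]
  exact HyperBuild.isIso_homology_special h1' h2' hK hL i

end Groth.Agent.S3092
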