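import Groth.Statements.S3093

set_option linter.style.haveILetI false

set_option autoImplicit false
universe u
open CohTop

namespace Groth.Agent.S3093

/-- Let X be a topological space and K ⊆ X a compact subset such that any two distinct points of K have
disjoint open neighbourhoods in X. If A and B are subsets of K that are closed in K and W is an open
subset of X containing A ∩ B, then there are open subsets U ⊇ A and V ⊇ B of X with U ∩ V ⊆ W. -/
theorem result {X : Type u} [TopologicalSpace X] {K : Set X} (hK : IsCompact K)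
    (hsep : ∀ x ∈ K, ∀ y ∈ K, x ≠ y → ∃ U V : Set X, IsOpen U ∧ IsOpen V ∧ x ∈ U ∧ y ∈ V ∧ Disjoint U V)
    {A B W : Set X} (hA : A ⊆ K) (hB : B ⊆ K) (hAc : IsClosed (Subtype.val ⁻¹' A : Set K))
    (hBc : IsClosed (Subtype.val ⁻¹' B : Set K)) (hW : IsOpen W) (hABW : A ∩ B ⊆ W) :
    ∃ U V : Set X, IsOpen U ∧ IsOpen V ∧ A ⊆ U ∧ B ⊆ V ∧ U ∩ V ⊆ W := by
  haveI := isCompact_iff_compactSpace.1 hK
  have hc : ∀ S : Set X, S ⊆ K → IsClosed (Subtype.val ⁻¹' S : Set K) → IsCompact S := by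
    intro S hS hcl
    have := hcl.isCompact.image continuous_subtype_val
    rwa [Subtype.image_preimage_coe, Set.inter_eq_right.2 hS] at this
  have hA' : IsCompact (A \ W) := (hc A hA hAc).diff hW
  let n : Set (X × X) := ⋃ p : {p : Set X × Set X // IsOpen p.1 ∧ IsOpen p.2 ∧ Disjoint p.1 p.2}, p.1.1 ×ˢ p.1.2
  have hn : IsOpen n := isOpen_iUnion fun p => p.2.1.prod p.2.2.1
  have hsub : (A \ W) ×ˢ B ⊆ n := by
    rintro ⟨x, y⟩ ⟨⟨hx, hxW⟩, hy⟩
    obtain ⟨U, V, hU, hV, hxU, hyV, hd⟩ := hsep x (hA hx) y (hB hy)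
      (fun e => by subst e; exact hxW (hABW ⟨hx, hy⟩))
    exact Set.mem_iUnion.2 ⟨⟨(U, V), hU, hV, hd⟩, hxU, hyV⟩
  obtain ⟨U, V, hU, hV, hAU, hBV, hUV⟩ := generalized_tube_lemma hA' (hc B hB hBc) hn hsub
  refine ⟨U ∪ W, V, hU.union hW, hV, ?_, hBV, ?_⟩
  · intro x hx
    by_cases hxW : x ∈ W
    exacts [Or.inr hxW, Or.inl (hAU ⟨hx, hxW⟩)]
  · rintro x ⟨hx | hx, hxV⟩
    · obtain ⟨p, hp₁, hp₂⟩ := Set.mem_iUnion.1 (hUV (Set.mk_mem_prod hx hxV))
      exact (Set.disjoint_left.1 p.2.2.2 hp₁ hp₂).elim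
    · exact hx

end Groth.Agent.S3093
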