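import Groth.Statements.S3095
import Groth.Agent.H1DFun.HenselianBC
-- import your own Groth.Agent.* helpers here

set_option autoImplicit false
universe u
open CategoryTheory CategoryTheory.Limits AlgebraicGeometry Opposite
open EtPBC

namespace Groth.Agent.S3095

/-- Let A be a henselian local ring, X proper over Spec A, i : X_0 -> X the inclusion of the closed
fibre (base change to the residue field) and F a torsion abelian sheaf on the small etale site of X.
Then for every q the restriction map H^q(X, F) -> H^q(X_0, i^* F) is bijective. The restriction map
is the canonical pullback on cohomology (EtCore.Hpull), which needs exactness of i^*; that exactness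
is carried as an instance hypothesis (assuming the inverse image functor preserves finite limits, a
known fact not yet in Mathlib). -/
theorem result (A : Type u) [CommRing A] [HenselianLocalRing A]
    (X : Scheme.{u}) (f : X ⟶ Spec (CommRingCat.of A)) [IsProper f]
    [EtCoh.BCCont (pullback.fst f (Spec.map (CommRingCat.ofHom (IsLocalRing.residue A))))]
    [PreservesFiniteLimits (EtCoh.pull (pullback.fst f (Spec.map (CommRingCat.ofHom (IsLocalRing.residue A)))))]
    (F : EtCoh.Ab X) (hF : EtCoh.IsTorsion F) (q : ℕ) :
    Function.Bijective
      (EtCore.Hpull (pullback.fst f (Spec.map (CommRingCat.ofHom (IsLocalRing.residue A)))) F q) := by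
  exact Groth.Agent.H1DFun.bijective_hpull_closedFibre A f F hF q

end Groth.Agent.S3095
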