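import Groth.Statements.S3096
import Groth.Agent.H1DFun.StalkPoint
import Groth.Agent.H18AS.Vanish
import Groth.Agent.H7Flat.CohDim.SurjBC

set_option autoImplicit false
universe u
open CategoryTheory CategoryTheory.Limits AlgebraicGeometry Opposite
open EtPBC

namespace Groth.Agent.S3096

/-- Let f : X ⟶ S be a proper morphism every fibre of which has (topological Krull) dimension at most n,
let p be a prime number with p = 0 in the ring of global functions of S, and let F be an abelian
sheaf on the small étale site of X every section of which, over every object of the site, is killed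
by a power of p. Then R^q f_* F = 0 for every q > n. (The published statement allows any p-torsion
sheaf, i.e. one whose sections have p-power order étale-locally; the hypothesis here is slightly
stronger, so the statement is slightly weaker.) -/
theorem result {X S : Scheme.{u}} (f : X ⟶ S) [IsProper f] [EtCoh.BCCont f]
    (p : ℕ) (hp : p.Prime) (hS : (p : Γ(S, ⊤)) = 0) (n : ℕ)
    (hdim : ∀ s : S, topologicalKrullDim (f.fiber s) ≤ n)
    (F : EtCoh.Ab X) (hF : ∀ (U : X.Etale) (s : EtCoh.sect F U), ∃ k : ℕ, p ^ k • s = 0)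
    (q : ℕ) (hq : n < q) :
    IsZero ((EtCoh.Rpush f q).obj F) := by
  refine H18Et.Cons.isZero_of_supp_eq_empty _ fun s hs => ?_
  haveI : Fact p.Prime := ⟨hp⟩
  have hprim : Dix.IsPrimaryTorsion p F := fun V t v => by
    obtain ⟨k, hk⟩ := hF V t
    exact ⟨V, 𝟙 V, ⟨v, rfl⟩, k, by simpa using hk⟩
  let ξ := H18Et.geomPt s
  let Ω := SeparableClosure (S.residueField s)
  let P := pullback f ξ
  let π : P ⟶ _ := pullback.snd f ξ
  haveI : IsProper π := MorphismProperty.pullback_snd _ _ inferInstance
  have hΩ : (p : Ω) = 0 := by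
    have h1 := congrArg (fun t => (Scheme.ΓSpecIso (CommRingCat.of Ω)).hom.hom (ξ.appTop.hom t)) hS
    simpa using h1
  haveI : CharP Ω p := (CharP.charP_iff_prime_eq_zero hp).2 hΩ
  have hd : topologicalKrullDim P ≤ (n : ℕ) := by
    let z : Spec (CommRingCat.of Ω) := IsLocalRing.closedPoint Ω
    have h2 := H7Flat.CohDim.fiber_dim_le_baseChange (IsPullback.of_hasPullback f ξ) n hdim z
    have hu : π ⁻¹' {z} = Set.univ := Set.eq_univ_of_forall fun x => Subsingleton.elim _ _
    rw [← ((π.fiberHomeo z).trans ((Homeomorph.setCongr hu).trans (Homeomorph.Set.univ _))).isHomeomorph.topologicalKrullDim_eq]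
    exact h2
  haveI := H18AS.cohDimLEAt_sepClosed Ω p π n hd ((EtCoh.pull (pullback.fst f ξ)).obj F)
    (H05EGA4.EtCl.isPrimaryTorsion_pull _ hprim) q hq
  obtain ⟨i⟩ := H1DFun.nonempty_stalk_Rpush_fibre f ξ F (H05EGA4.EtCl.Fields.isTorsion_of_primary hp.pos hprim) q
  haveI : Subsingleton ↥((EtCoh.stalk ξ).obj ((EtCoh.Rpush f q).obj F)) :=
    i.addCommGroupIsoToAddEquiv.injective.subsingleton
  exact H18Et.Cons.notMem_supp_of_subsingleton _ ξ ((H18Et.geomPt_base s).symm ▸ hs)

end Groth.Agent.S3096
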