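import Groth.Statements.S3100
import Groth.Agent.H18DenseUnit.Main

set_option autoImplicit false
universe u
open CategoryTheory CategoryTheory.Limits AlgebraicGeometry Opposite
open EtPBC

namespace Groth.Agent.S3100

/-- Let f : X -> S be smooth and j : U -> X an open immersion such that for every point x of X, x lies
in the closure of the set of points of the image of j having the same image as x in S (the open is
dense in every fibre). Then for every abelian sheaf F on the small etale site of S, the unit f^* F
-> j_* j^* f^* F is an isomorphism. (The source states it for sheaves of sets.) -/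
theorem result {X U S : Scheme.{u}} (f : X ⟶ S) [Smooth f]
    (j : U ⟶ X) [IsOpenImmersion j] [EtCoh.BCCont f] [EtCoh.BCCont j]
    (hd : ∀ x : X, x ∈ closure (Set.range j ∩ {y : X | f.base y = f.base x}))
    (F : EtCoh.Ab S) :
    IsIso ((EtCoh.pullPushAdj j).unit.app ((EtCoh.pull f).obj F)) := by
  exact H18DenseUnit.isIso_unit_of_goodNbhds f j F (H18DenseUnit.exists_goodNbhd f j hd)

end Groth.Agent.S3100
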