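import Groth.Statements.S3103
import Groth.Agent.H05EGA4.EtH90.Pic
import Groth.Agent.H05EGA4.EtH90.Away
import Groth.Agent.H12Pic.OpenLine.Main
import Groth.Agent.S0108

set_option autoImplicit false
universe u
open CategoryTheory CategoryTheory.Limits AlgebraicGeometry Opposite
open EtDual

namespace Groth.Agent.S3103.Aux

open Opposite Abelian Groth.Agent.H05EGA4.EtH90
open Groth.Agent.H18Et.MuConst (sec sec_surjective sec_injective)
open scoped Groth.Agent.H18Et

set_option backward.isDefEq.respectTransparency false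
set_option backward.isDefEq.respectTransparency.types false

theorem kummer_shortExact (X : Scheme.{u}) (n : ℕ) (hu : IsUnit (n : Γ(X, ⊤))) :
    (ShortComplex.mk (EtCoh.muι X n) (EtCoh.powMap X n) (kernel.condition _)).ShortExact := by
  haveI : Epi (EtCoh.powMap X n) := Groth.Agent.S0108.result X n hu
  exact { exact := ShortComplex.exact_of_f_is_kernel _ (kernelIsKernel _)
          mono_f := inferInstanceAs (Mono (kernel.ι _))
          epi_g := inferInstanceAs (Epi (EtCoh.powMap X n)) }

theorem delta_surjective_of_subsingleton {X : Scheme.{u}} {A I Q : EtCoh.Ab X} {i : A ⟶ I} {q : I ⟶ Q}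
    {w : i ≫ q = 0} (hS : (ShortComplex.mk i q w).ShortExact) [Subsingleton (EtCoh.H X I 1)] :
    Function.Surjective (delta hS) := by
  intro c
  have h0 : c.comp (Ext.mk₀ i) (add_zero 1) = 0 := Subsingleton.elim (α := EtCoh.H X I 1) _ _
  obtain ⟨y, hy⟩ := Ext.covariant_sequence_exact₁ _ hS c h0 (zero_add 1)
  refine ⟨Sheaf.H.equiv₀ Q (EtCore.topIsTerminal X) y, ?_⟩
  show ((Sheaf.H.equiv₀ Q (EtCore.topIsTerminal X)).symm _).comp _ (zero_add 1) = c
  rw [AddEquiv.symm_apply_apply]
  exact hy

theorem powMap_app (X : Scheme.{u}) (n : ℕ) (U : X.Etale) (r : EtCoh.sect (EtCoh.Gm X) U) :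
    (EtCoh.powMap X n).hom.app (op U) r = n • r := by
  have h : ((sheafSections X.smallEtaleTopology AddCommGrpCat.{u + 1}).obj (op U)).map (EtCoh.powMap X n) =
      n • 𝟙 _ := by
    rw [EtCoh.powMap, Functor.map_nsmul, CategoryTheory.Functor.map_id]
  exact ConcreteCategory.congr_hom h r

/-- Units of a ring as global sections of `G_m` on its spectrum. -/
noncomputable def gl (L : Type u) [CommRing L] :
    Additive Lˣ →+ EtCoh.sect (EtCoh.Gm (Spec (CommRingCat.of L))) (EtCoh.top (Spec (CommRingCat.of L))) :=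
  AddMonoidHom.mk' (fun v => sec (U := EtCoh.top (Spec (CommRingCat.of L)))
    (Units.mapEquiv (Scheme.ΓSpecIso (CommRingCat.of L)).symm.commRingCatIsoToRingEquiv.toMulEquiv
      (Additive.toMul v))) fun a b => by
    rw [toMul_add, map_mul]
    exact sec_mul _ _

theorem gl_bijective (L : Type u) [CommRing L] : Function.Bijective (gl L) := by
  refine ⟨fun a b h => ?_, fun s => ?_⟩
  · exact Additive.toMul.injective ((Units.mapEquiv _).injective (sec_injective h))
  · obtain ⟨v, rfl⟩ := sec_surjective s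
    obtain ⟨v', hv'⟩ := (Units.mapEquiv
      (Scheme.ΓSpecIso (CommRingCat.of L)).symm.commRingCatIsoToRingEquiv.toMulEquiv).surjective v
    exact ⟨Additive.ofMul v', congrArg sec hv'⟩

end Groth.Agent.S3103.Aux

namespace Groth.Agent.S3103

set_option backward.isDefEq.respectTransparency false in
/-- Let A be a regular local ring which is strictly henselian, x an element of the maximal ideal not in
its square, n an integer invertible in A, and U = Spec A[1/x]. Then H^1(U, mu_n) is isomorphic to
Z/n. (The source also computes H^0(U, mu_n) = mu_n(A) and gives a canonical isomorphism; only the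
existence of an isomorphism is stated here.) -/
theorem result (A : Type u) [CommRing A] [IsRegularLocalRing A]
    (hA : EtCoh.IsStrictlyHenselianLocalRing A) (x : A) (hx : x ∈ IsLocalRing.maximalIdeal A)
    (hx2 : x ∉ (IsLocalRing.maximalIdeal A) ^ 2) (n : ℕ) (hn : IsUnit (n : A)) :
    Nonempty (EtCoh.H (Spec (CommRingCat.of (Localization.Away x)))
      (EtCoh.mu (Spec (CommRingCat.of (Localization.Away x))) n) 1 ≃+ ZMod n) := by
  obtain ⟨_, hsc⟩ := hA
  haveI : IsDomain A := Groth.Agent.H4Depth.isDomain_of_isRegularLocalRing A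
  haveI : UniqueFactorizationMonoid A := Groth.Agent.H28Alg.ufd_of_regular A
  have hx0 : x ≠ 0 := fun h => hx2 (h ▸ zero_mem _)
  have hxp : Prime x := UniqueFactorizationMonoid.irreducible_iff_prime.1
    { not_isUnit := (IsLocalRing.mem_maximalIdeal x).1 hx
      isUnit_or_isUnit := fun a b hab => by
        by_contra! h
        exact hx2 (by rw [hab, pow_two]; exact Ideal.mul_mem_mul h.1 h.2) }
  let L := Localization.Away x
  haveI : IsDomain L := IsLocalization.isDomain_localization
    (powers_le_nonZeroDivisors_of_noZeroDivisors hx0)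
  haveI : UniqueFactorizationMonoid L := Groth.Agent.H05EGA4.EtH90.ufd_away L x hx0
  let xu : Lˣ := (IsLocalization.Away.algebraMap_isUnit (S := L) x).unit
  have hxu : (xu : L) = algebraMap A L x := IsUnit.unit_spec _
  let X := Spec (CommRingCat.of L)
  have hu : IsUnit (n : Γ(X, ⊤)) := by
    have := (hn.map (algebraMap A L)).map (Scheme.ΓSpecIso (CommRingCat.of L)).inv.hom
    rwa [map_natCast, map_natCast] at this
  have hS := Aux.kummer_shortExact X n hu
  haveI : Subsingleton (EtCoh.H X (EtCoh.Gm X) 1) :=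
    (Groth.Agent.H05EGA4.EtH90.subsingleton_iff X).2 fun M hM =>
      Groth.Agent.H12Pic.OpenLine.nonempty_iso_of_ufd (R := CommRingCat.of L) M hM
  let θ : ℤ →+ EtCoh.H X (EtCoh.mu X n) 1 :=
    (Groth.Agent.H05EGA4.EtH90.delta hS).comp (zmultiplesHom _ (Aux.gl L (Additive.ofMul xu)))
  have hpow : ∀ v : Lˣ, Groth.Agent.H05EGA4.EtH90.delta hS (Aux.gl L (Additive.ofMul (v ^ n))) = 0 := by
    intro v
    refine (Groth.Agent.H05EGA4.EtH90.delta_eq_zero_iff hS _).2 ⟨Aux.gl L (Additive.ofMul v), ?_⟩
    rw [Aux.powMap_app, ofMul_pow, map_nsmul]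
  have hθ : ∀ m : ℤ, θ m = Groth.Agent.H05EGA4.EtH90.delta hS (Aux.gl L (Additive.ofMul (xu ^ m))) := fun m => by
    show Groth.Agent.H05EGA4.EtH90.delta hS (m • Aux.gl L (Additive.ofMul xu)) = _
    rw [ofMul_zpow, map_zsmul (Aux.gl L)]
  have hsurj : Function.Surjective θ := by
    intro c
    obtain ⟨s, rfl⟩ := Aux.delta_surjective_of_subsingleton hS c
    obtain ⟨v, rfl⟩ := (Aux.gl_bijective L).2 s
    obtain ⟨a, m, hv⟩ := Groth.Agent.H05EGA4.EtH90.exists_unit_zpow L x hxp xu hxu (Additive.toMul v)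
    obtain ⟨b, rfl⟩ := Groth.Agent.H05EGA4.EtH90.exists_root_unit hn a
    refine ⟨m, ?_⟩
    have hv' : v = Additive.ofMul (Units.map (algebraMap A L).toMonoidHom b ^ n * xu ^ m) := by
      rw [← map_pow, ← hv]; rfl
    rw [hθ, hv', ofMul_mul, map_add, map_add, hpow, zero_add]
  have hker : θ.ker = AddSubgroup.zmultiples (n : ℤ) := by
    ext m
    rw [AddMonoidHom.mem_ker, hθ, Groth.Agent.H05EGA4.EtH90.delta_eq_zero_iff, Int.mem_zmultiples_iff]
    constructor
    · rintro ⟨r, hr⟩
      obtain ⟨v, rfl⟩ := (Aux.gl_bijective L).2 r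
      rw [Aux.powMap_app, ← map_nsmul] at hr
      exact Groth.Agent.H05EGA4.EtH90.dvd_of_zpow_eq_pow L x hxp xu hxu (Additive.toMul v)
        ((toMul_nsmul n v).symm.trans (congrArg Additive.toMul ((Aux.gl_bijective L).1 hr)))
    · rintro ⟨j, rfl⟩
      refine ⟨Aux.gl L (Additive.ofMul (xu ^ j)), ?_⟩
      rw [Aux.powMap_app, ← map_nsmul, ← ofMul_pow, mul_comm, zpow_mul, zpow_natCast]
  exact ⟨(QuotientAddGroup.quotientKerEquivOfSurjective θ hsurj).symm.trans
    ((QuotientAddGroup.quotientAddEquivOfEq hker).trans (Int.quotientZMultiplesNatEquivZMod n))⟩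

end Groth.Agent.S3103
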