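import Groth.Statements.S3115
import Groth.Agent.H18Et.Cons.Criteria

set_option autoImplicit false
universe u
open CategoryTheory CategoryTheory.Limits AlgebraicGeometry Opposite
open EtPBC

namespace Groth.Agent.S3115

/-- Let X be locally noetherian and F an abelian sheaf on the small etale site of X with finite
geometric stalks. If for every specialization arrow between geometric points (morphism of the
corresponding points of the etale site from ξ' to ξ) the specialization map F_ξ -> F_ξ' is
injective, then F is constructible. -/
theorem result (X : Scheme.{u}) [IsLocallyNoetherian X] (F : EtCoh.Ab X)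
    (hfin : ∀ (Ω : Type u) [Field Ω] [IsSepClosed Ω] (ξ : Spec (CommRingCat.of Ω) ⟶ X),
      Finite ((EtCoh.stalk ξ).obj F))
    (hmono : ∀ (Ω Ω' : Type u) [Field Ω] [IsSepClosed Ω] [Field Ω'] [IsSepClosed Ω']
        (ξ : Spec (CommRingCat.of Ω) ⟶ X) (ξ' : Spec (CommRingCat.of Ω') ⟶ X)
        (φ : Scheme.pointSmallEtale ξ' ⟶ Scheme.pointSmallEtale ξ),
        Mono ((GrothendieckTopology.Point.Hom.sheafFiber (A := AddCommGrpCat.{u + 1}) φ).app F)) :
    EtPBC.IsConstructible F := by
  exact Groth.Agent.H18Et.Cons.isConstructible_of_mono_specialization F hfin hmono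

end Groth.Agent.S3115
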