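import Groth.Statements.S3116
import Groth.Agent.H18Et.Cons.Criteria

set_option autoImplicit false
universe u
open CategoryTheory CategoryTheory.Limits AlgebraicGeometry Opposite
open EtPBC

namespace Groth.Agent.S3116

/-- For abelian sheaves: let X be locally noetherian and F an abelian sheaf on the small etale site of X
whose geometric stalks (at all geometric points with separably closed residue field) are finite.
Then F is constructible if and only if for every natural number n the set of points x of X such that
the stalk of F at some geometric point over x has exactly n elements is locally constructible. -/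
theorem result (X : Scheme.{u}) [IsLocallyNoetherian X] (F : EtCoh.Ab X)
    (hfin : ∀ (Ω : Type u) [Field Ω] [IsSepClosed Ω] (ξ : Spec (CommRingCat.of Ω) ⟶ X),
      Finite ((EtCoh.stalk ξ).obj F)) :
    EtPBC.IsConstructible F ↔ ∀ n : ℕ, Topology.IsLocallyConstructible
      {x : X | ∃ (Ω : Type u) (_ : Field Ω) (_ : IsSepClosed Ω) (ξ : Spec (CommRingCat.of Ω) ⟶ X),
        Set.range ξ = {x} ∧ Nat.card ((EtCoh.stalk ξ).obj F) = n} := by
  exact ⟨fun hF n => Groth.Agent.H18Et.Cons.isLocallyConstructible_stalkSet F
      (fun M => Nat.card M = n) (fun e h => (Nat.card_congr e.symm.addCommGroupIsoToAddEquiv.toEquiv).trans h) hF,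
    fun h => Groth.Agent.H18Et.Cons.isConstructible_of_card F hfin h⟩

end Groth.Agent.S3116
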