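import Groth.Statements.S3129
import Mathlib.NumberTheory.GaussSum
import Mathlib.NumberTheory.MulChar.Lemmas

set_option autoImplicit false
open BigOperators
open SGA4h

namespace Groth.Agent.S3129

/-- Let F be a finite field with q elements, N ≥ 1, χ₀, …, χ_N multiplicative characters of F with
values in a domain, not all trivial and with product 1, and Ψ a nontrivial additive character of F.
Put τ(χ, Ψ) = −Σ_{x ∈ F} Ψ(x) χ⁻¹(x) and J(χ) = (−1)^{N−1} Σ χ₁⁻¹(x₁) ⋯ χ_N⁻¹(x_N), the sum over x₁,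
…, x_N ∈ F^* with x₁ + ⋯ + x_N = −1. Then q · J(χ) = τ(χ₀, Ψ) ⋯ τ(χ_N, Ψ). -/
theorem result (F : Type) [Field F] [Fintype F] [DecidableEq F] (R : Type) [CommRing R] [IsDomain R]
    (N : ℕ) (hN : 1 ≤ N) (χ : Fin (N + 1) → MulChar F R) (hprod : ∏ i, χ i = 1) (hnt : ∃ i, χ i ≠ 1)
    (Ψ : AddChar F R) (hΨ : Ψ ≠ 1) :
    (Fintype.card F : R) * ((-1) ^ (N - 1) *
        ∑ x ∈ (Finset.univ : Finset (Fin N → Fˣ)).filter (fun x => ∑ i, ((x i : Fˣ) : F) = -1),
          ∏ i : Fin N, (χ i.succ)⁻¹ ((x i : Fˣ) : F)) =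
      ∏ i : Fin (N + 1), (-(∑ y : F, Ψ y * (χ i)⁻¹ y)) := by
  classical
  let θ : Fin (N + 1) → MulChar F R := fun i => (χ i)⁻¹
  have hθ : ∏ i, θ i = 1 := by simp only [θ, Finset.prod_inv_distrib, hprod, inv_one]
  have hzero : ∀ i, θ i (0 : F) = 0 := fun i => MulChar.map_zero _
  have hG : ∀ i, ∑ y : F, Ψ y * θ i y = ∑ y : Fˣ, Ψ (y : F) * θ i (y : F) := by
    intro i
    symm
    refine Finset.sum_bij_ne_zero (fun y _ _ => (y : F)) (fun _ _ _ => Finset.mem_univ _)
      (fun _ _ _ _ _ _ h => Units.ext h) (fun y _ hy => ?_) (fun _ _ _ => rfl)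
    have hy0 : y ≠ 0 := fun h => hy (by rw [h, hzero, mul_zero])
    exact ⟨Units.mk0 y hy0, Finset.mem_univ _, by simpa using hy, by simp⟩
  let P : (Fin N → Fˣ) → R := fun x => ∏ i : Fin N, θ i.succ (x i : F)
  have hP : ∑ x, P x = 0 := by
    obtain ⟨i, hi⟩ : ∃ i : Fin N, θ i.succ ≠ 1 := by
      by_contra hall
      push Not at hall
      obtain ⟨j, hj⟩ := hnt
      refine hj ?_
      have h0 : θ 0 = 1 := by
        rw [Fin.prod_univ_succ, Finset.prod_eq_one (fun i _ => hall i), mul_one] at hθ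
        exact hθ
      have : θ j = 1 := Fin.cases h0 hall j
      simpa [θ, inv_eq_one] using this
    simp only [P]
    rw [← Fintype.prod_sum (fun (i : Fin N) (y : Fˣ) => θ i.succ (y : F))]
    refine Finset.prod_eq_zero (Finset.mem_univ i) ?_
    rw [← MulChar.sum_eq_zero_of_ne_one hi]
    refine Finset.sum_bij_ne_zero (fun y _ _ => (y : F)) (fun _ _ _ => Finset.mem_univ _)
      (fun _ _ _ _ _ _ h => Units.ext h) (fun y _ hy => ?_) (fun _ _ _ => rfl)
    have hy0 : y ≠ 0 := fun h => hy (by rw [h, hzero])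
    exact ⟨Units.mk0 y hy0, Finset.mem_univ _, by simpa using hy, by simp⟩
  -- the product of the Gauss sums
  have hprodG : ∏ i, ∑ y : F, Ψ y * θ i y =
      ∑ x : Fin N → Fˣ, ∑ t : Fˣ, P x * Ψ ((t : F) * (1 + ∑ i, (x i : F))) := by
    simp_rw [hG]
    rw [Fintype.prod_sum]
    let e : (Fˣ × (Fin N → Fˣ)) ≃ (Fin (N + 1) → Fˣ) :=
      { toFun := fun p => Fin.cons p.1 (fun i => p.1 * p.2 i)
        invFun := fun y => (y 0, fun i => (y 0)⁻¹ * y i.succ)
        left_inv := fun p => by simp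
        right_inv := fun y => by
          funext i
          refine Fin.cases ?_ ?_ i
          · simp
          · intro j; simp }
    rw [← e.sum_comp, Fintype.sum_prod_type, Finset.sum_comm]
    refine Finset.sum_congr rfl fun x _ => Finset.sum_congr rfl fun t _ => ?_
    rw [Finset.prod_mul_distrib, mul_comm (P x)]
    congr 1
    · have hsum : ∀ (s : Finset (Fin (N + 1))) (g : Fin (N + 1) → F), ∏ i ∈ s, Ψ (g i) = Ψ (∑ i ∈ s, g i) := by
        intro s g
        induction s using Finset.induction with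
        | empty => simp
        | insert a s ha ih => rw [Finset.prod_insert ha, Finset.sum_insert ha, AddChar.map_add_eq_mul, ih]
      rw [hsum, Fin.sum_univ_succ]
      congr 1
      simp [e, mul_add, Finset.mul_sum]
    · rw [Fin.prod_univ_succ]
      have h1 : ∏ i : Fin N, θ i.succ ((e (t, x) i.succ : Fˣ) : F) =
          (∏ i : Fin N, θ i.succ (t : F)) * P x := by
        rw [← Finset.prod_mul_distrib]
        refine Finset.prod_congr rfl fun i _ => ?_
        simp [e]
      rw [h1, ← mul_assoc]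
      have h2 : θ 0 ((e (t, x) 0 : Fˣ) : F) * ∏ i : Fin N, θ i.succ (t : F) = 1 := by
        have h3 : θ 0 ((e (t, x) 0 : Fˣ) : F) * ∏ i : Fin N, θ i.succ (t : F) = ∏ i, θ i (t : F) := by
          rw [Fin.prod_univ_succ]
          simp [e]
        have h4 : (∏ i, θ i) (t : F) = ∏ i, θ i (t : F) := by
          induction (Finset.univ : Finset (Fin (N + 1))) using Finset.induction with
          | empty => simp [MulChar.one_apply_coe]
          | insert a s ha ih => rw [Finset.prod_insert ha, Finset.prod_insert ha, MulChar.mul_apply, ih]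
        rw [h3, ← h4, hθ, MulChar.one_apply_coe]
      rw [h2, one_mul]
  have hinner : ∀ b : F, ∑ t : Fˣ, Ψ ((t : F) * b) = (if b = 0 then (Fintype.card F : R) else 0) - 1 := by
    intro b
    have h1 : ∑ x : F, Ψ (x * b) = (if b = 0 then (Fintype.card F : R) else 0) := by
      rw [AddChar.sum_mulShift b (AddChar.IsPrimitive.of_ne_one hΨ)]
      split <;> simp
    have h2 : ∑ t : Fˣ, Ψ ((t : F) * b) = ∑ x ∈ Finset.univ.erase (0 : F), Ψ (x * b) := by
      refine Finset.sum_bij (fun y _ => (y : F)) (fun y _ => Finset.mem_erase.2 ⟨y.ne_zero, Finset.mem_univ _⟩)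
        (fun _ _ _ _ h => Units.ext h) (fun y hy => ⟨Units.mk0 y (Finset.ne_of_mem_erase hy), Finset.mem_univ _, by simp⟩)
        (fun _ _ => rfl)
    rw [h2, ← h1, ← Finset.add_sum_erase _ _ (Finset.mem_univ (0 : F)), zero_mul, AddChar.map_zero_eq_one]
    ring
  have hfin : ∏ i, ∑ y : F, Ψ y * θ i y =
      (Fintype.card F : R) * ∑ x ∈ (Finset.univ : Finset (Fin N → Fˣ)).filter
        (fun x => ∑ i, ((x i : Fˣ) : F) = -1), P x := by
    rw [hprodG, Finset.mul_sum, Finset.sum_filter]
    simp_rw [← Finset.mul_sum, hinner, mul_sub, mul_one, Finset.sum_sub_distrib]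
    rw [hP, sub_zero]
    refine Finset.sum_congr rfl fun x _ => ?_
    by_cases h : ∑ i, ((x i : Fˣ) : F) = -1
    · rw [if_pos h, if_pos (by rw [h]; ring)]
      ring
    · rw [if_neg h, if_neg (fun h' => h (by linear_combination h')), mul_zero]
  rw [Finset.prod_neg, hfin, Finset.card_univ, Fintype.card_fin, show N + 1 = N - 1 + 2 by omega, pow_add,
    neg_one_sq, mul_one]
  simp only [P, θ]
  ring

end Groth.Agent.S3129
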