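import Groth.Statements.S3133
import Mathlib

set_option autoImplicit false
open Polynomial
open SGA4h

namespace Groth.Agent.S3133

/-- Let A be a square matrix over a commutative ring and n ≥ 1, and let B be the matrix on n blocks of
the endomorphism (x_1, …, x_n) ↦ (A x_n, x_1, …, x_{n-1}). Then det(1 − B·T) = det(1 − A·Tⁿ), i.e.
the reverse characteristic polynomial of B is that of A expanded by n. -/
theorem result (R : Type) [CommRing R] (m : Type) [Fintype m] [DecidableEq m]
    (A : Matrix m m R) (n : ℕ) (hn : 1 ≤ n) :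
    (Matrix.of fun (p q : Fin n × m) =>
        if p.1.val = 0 then (if q.1.val = n - 1 then A p.2 q.2 else 0)
        else (if q.1.val + 1 = p.1.val ∧ p.2 = q.2 then 1 else 0)).charpolyRev =
      Polynomial.expand R n A.charpolyRev := by
  classical
  set N : Matrix (Fin n × m) (Fin n × m) R := Matrix.of fun (p q : Fin n × m) =>
        if p.1.val = 0 then (if q.1.val = n - 1 then A p.2 q.2 else 0)
        else (if q.1.val + 1 = p.1.val ∧ p.2 = q.2 then 1 else 0) with hN
  let L : Matrix (Fin n × m) (Fin n × m) R[X] := Matrix.of fun p q =>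
    (if p = q then 1 else 0) - (if q.1.val + 1 = p.1.val ∧ p.2 = q.2 then X else 0)
  let T : Matrix (Fin n × m) (Fin n × m) R[X] := Matrix.of fun p q =>
    (if p = q then 1 else 0) - (if q.1.val = n - 1 then X ^ (p.1.val + 1) * C (A p.2 q.2) else 0)
  have hfac : (1 : Matrix (Fin n × m) (Fin n × m) R[X]) - (X : R[X]) • N.map C = L * T := by
    refine Matrix.ext fun p q => ?_
    obtain ⟨⟨i, hi⟩, a⟩ := p
    obtain ⟨⟨j, hj⟩, b⟩ := q
    rw [Matrix.mul_apply]
    simp only [L, Matrix.of_apply, sub_mul, Finset.sum_sub_distrib, ite_mul, one_mul, zero_mul,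
      Finset.sum_ite_eq, Finset.mem_univ, if_true]
    cases i with
    | zero =>
      simp only [Nat.add_eq_zero, one_ne_zero, and_false, false_and, if_false, Finset.sum_const_zero,
        sub_zero, hN, T, Matrix.sub_apply, Matrix.smul_apply, Matrix.map_apply, Matrix.of_apply,
        Matrix.one_apply, smul_eq_mul, if_true]
      split_ifs <;> simp
    | succ i =>
      rw [Finset.sum_eq_single (⟨i, by omega⟩, a)]
      · simp only [hN, T, Matrix.sub_apply, Matrix.smul_apply, Matrix.map_apply, Matrix.of_apply,
          Matrix.one_apply, smul_eq_mul, and_self, if_true, Nat.succ_ne_zero, if_false, Prod.mk.injEq,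
          Fin.mk.injEq]
        by_cases h1 : j + 1 = i + 1 ∧ a = b
        · rw [if_pos h1, if_pos (⟨by omega, h1.2⟩ : i = j ∧ a = b), map_one]
          split_ifs <;> ring
        · rw [if_neg h1, if_neg (show ¬(i = j ∧ a = b) from fun h => h1 ⟨by omega, h.2⟩), map_zero]
          split_ifs <;> ring
      · rintro ⟨⟨k, hk⟩, c⟩ - hne
        refine if_neg fun h => hne ?_
        obtain ⟨h1, h2⟩ := h
        simp only at h1 h2
        subst h2
        simp only [Prod.mk.injEq, Fin.mk.injEq, and_true]
        omega
      · simp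
  let f : Fin n × m → Fin n := Prod.fst
  have hL : L.det = 1 := by
    have ht : L.BlockTriangular (OrderDual.toDual ∘ f) := by
      intro p q hpq
      simp only [Function.comp, f, OrderDual.toDual_lt_toDual] at hpq
      have h1 : (p.1 : ℕ) < q.1 := hpq
      simp only [L, Matrix.of_apply]
      rw [if_neg (fun h => by subst h; omega), if_neg (fun h => by omega), sub_zero]
    rw [ht.det_fintype]
    refine Finset.prod_eq_one fun k _ => ?_
    suffices L.toSquareBlock (OrderDual.toDual ∘ f) k = 1 by rw [this, Matrix.det_one]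
    refine Matrix.ext fun ⟨p, hp⟩ ⟨q, hq⟩ => ?_
    have h1 : (p.1 : ℕ) = q.1 := by
      have := hp.trans hq.symm
      simp only [Function.comp, f, EmbeddingLike.apply_eq_iff_eq] at this
      rw [this]
    simp only [Matrix.toSquareBlock_def, Matrix.of_apply, L, Matrix.one_apply, Subtype.mk.injEq]
    rw [if_neg (show ¬((q.1 : ℕ) + 1 = p.1 ∧ p.2 = q.2) by omega), sub_zero]
  have hT : T.det = Polynomial.expand R n A.charpolyRev := by
    have ht : T.BlockTriangular f := by
      intro p q hpq
      have h1 : (q.1 : ℕ) < p.1 := hpq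
      simp only [T, Matrix.of_apply]
      rw [if_neg (fun h => by subst h; omega), if_neg (fun h => by have := p.1.isLt; omega), sub_zero]
    let last : Fin n := ⟨n - 1, by omega⟩
    rw [ht.det_fintype, Finset.prod_eq_single last]
    · let e : m ≃ {p : Fin n × m // f p = last} :=
        { toFun := fun a => ⟨(last, a), rfl⟩
          invFun := fun p => p.1.2
          left_inv := fun a => rfl
          right_inv := fun ⟨⟨i, a⟩, hp⟩ => Subtype.ext (Prod.ext (Eq.symm hp) rfl) }
      rw [← Matrix.det_submatrix_equiv_self e, Matrix.charpolyRev, AlgHom.map_det]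
      congr 1
      refine Matrix.ext fun a b => ?_
      have h1 : (last : ℕ) + 1 = n := by show n - 1 + 1 = n; omega
      have hl : (last : ℕ) = n - 1 := rfl
      by_cases hab : a = b <;>
        simp [e, T, Matrix.toSquareBlock_def, hl, h1, hab, Matrix.one_apply, Nat.sub_add_cancel hn]
    · intro k _ hk
      suffices T.toSquareBlock f k = 1 by rw [this, Matrix.det_one]
      refine Matrix.ext fun ⟨p, hp⟩ ⟨q, hq⟩ => ?_
      simp only [Matrix.toSquareBlock_def, Matrix.of_apply, T, Matrix.one_apply, Subtype.mk.injEq]
      rw [if_neg (show ¬((q.1 : ℕ) = n - 1) from fun h => hk (hq.symm.trans (Fin.ext h))), sub_zero]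
    · simp
  rw [Matrix.charpolyRev, hfac, Matrix.det_mul, hL, hT, one_mul]

end Groth.Agent.S3133
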