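import Groth.Statements.S3134
import Mathlib
import Groth.Agent.H27Zeta.Series

set_option autoImplicit false
open Polynomial
open SGA4h

namespace Groth.Agent.S3134

/-- For a square matrix A over a commutative ring, with P(T) = det(1 − A·T), one has −T·P′(T) = P(T) ·
Σ_{n ≥ 1} Tr(Aⁿ) Tⁿ as formal power series (equivalently T d/dT log P(T)⁻¹ = Σ_{n≥1} Tr(Aⁿ) Tⁿ). -/
theorem result (R : Type) [CommRing R] (m : Type) [Fintype m] [DecidableEq m]
    (A : Matrix m m R) :
    ((-(X * Polynomial.derivative A.charpolyRev) : R[X]) : PowerSeries R) =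
      (A.charpolyRev : PowerSeries R) * PowerSeries.mk (fun n => if n = 0 then 0 else (A ^ n).trace) := by
  classical
  set B : Matrix m m (PowerSeries R) := 1 - (PowerSeries.X : PowerSeries R) • A.map PowerSeries.C with hB
  have hdet : ((A.charpolyRev : R[X]) : PowerSeries R) = B.det := by
    rw [Matrix.charpolyRev, ← Polynomial.coeToPowerSeries.ringHom_apply, RingHom.map_det]
    congr 1
    refine Matrix.ext fun i j => ?_
    by_cases h : i = j <;> simp [hB, h, Matrix.one_apply] <;> exact mul_comm _ _
  set G : Matrix m m (PowerSeries R) := Matrix.of fun i j => PowerSeries.mk fun k => (A ^ k) i j with hG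
  have hBG : B * G = 1 := by
    refine Matrix.ext fun i j => ?_
    rw [hB, sub_mul, one_mul, Matrix.sub_apply, Matrix.mul_apply]
    simp only [Matrix.smul_apply, Matrix.map_apply, smul_eq_mul, hG, Matrix.of_apply]
    refine PowerSeries.ext fun k => ?_
    rw [map_sub, map_sum, PowerSeries.coeff_mk]
    cases k with
    | zero =>
      by_cases h : i = j <;> simp [h, Matrix.one_apply]
    | succ k =>
      simp only [mul_assoc, PowerSeries.coeff_succ_X_mul, PowerSeries.coeff_C_mul, PowerSeries.coeff_mk]
      rw [pow_succ', Matrix.mul_apply, sub_self]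
      by_cases h : i = j <;> simp [h, Matrix.one_apply]
  have hadj : B.adjugate = B.det • G := by
    calc B.adjugate = B.adjugate * (B * G) := by rw [hBG, mul_one]
      _ = B.det • G := by rw [← mul_assoc, Matrix.adjugate_mul, smul_mul_assoc, one_mul]
  have hcoe : ((-(X * Polynomial.derivative A.charpolyRev) : R[X]) : PowerSeries R) =
      -(PowerSeries.X * PowerSeries.derivative R ((A.charpolyRev : R[X]) : PowerSeries R)) := by
    rw [PowerSeries.derivative_coe, Polynomial.coe_neg, Polynomial.coe_mul, Polynomial.coe_X]
  rw [hcoe, hdet, H27Zeta.derivation_det, hadj, smul_mul_assoc, Matrix.trace_smul, smul_eq_mul,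
    mul_left_comm, ← mul_neg]
  congr 1
  refine PowerSeries.ext fun k => ?_
  have hDA : ∀ i j, PowerSeries.derivative R (B i j) = -PowerSeries.C (A i j) := by
    intro i j
    by_cases h : i = j <;> simp [hB, h, Matrix.one_apply]
  cases k with
  | zero => simp
  | succ k =>
    simp only [map_neg, PowerSeries.coeff_succ_X_mul, Matrix.trace, Matrix.diag, Matrix.mul_apply,
      Matrix.map_apply, hDA, mul_neg, map_sum, hG, Matrix.of_apply, PowerSeries.coeff_mul_C,
      PowerSeries.coeff_mk, Finset.sum_neg_distrib, neg_neg, Nat.succ_ne_zero, if_false, pow_succ]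

end Groth.Agent.S3134
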