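import Groth.Statements.S3139
import Groth.Agent.H18Det.Cone

set_option autoImplicit false
universe u
open CategoryTheory
attribute [local instance] HasDerivedCategory.standard
open SGA4h

namespace Groth.Agent.S3139

/-- Let A be a commutative ring, K and K' bounded cochain complexes of finite free A-modules with
endomorphisms u and u', and suppose (K, u) and (K', u') are isomorphic in the derived category D(A):
there is an isomorphism K ≅ K' in D(A) intertwining the images of u and u'. Then det(1 - u t, K) =
det(1 - u' t, K'), where det(1 - u t, K) = ∏ᵢ det(1 - u t, Kⁱ)^{(-1)^i}; the equality is stated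
cross-multiplied, as ∏_{i even} det(1 - u t, Kⁱ) · ∏_{i odd} det(1 - u' t, K'ⁱ) = ∏_{i odd} det(1 -
u t, Kⁱ) · ∏_{i even} det(1 - u' t, K'ⁱ) in A[t]. (The source works with finite projective modules;
finite free is the special case stated here.) -/
theorem result (A : Type u) [CommRing A]
    (K K' : CochainComplex (ModuleCat.{u} A) ℤ) (a b : ℤ) [K.IsStrictlyGE a] [K.IsStrictlyLE b] [K'.IsStrictlyGE a] [K'.IsStrictlyLE b]
    (hK : ∀ i : ℤ, Module.Finite A (K.X i) ∧ Module.Free A (K.X i)) (hK' : ∀ i : ℤ, Module.Finite A (K'.X i) ∧ Module.Free A (K'.X i))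
    (u : K ⟶ K) (u' : K' ⟶ K') (φ : DerivedCategory.Q.obj K ≅ DerivedCategory.Q.obj K')
    (hφ : DerivedCategory.Q.map u ≫ φ.hom = φ.hom ≫ DerivedCategory.Q.map u') :
    SGA4h.detEven K u * SGA4h.detOdd K' u' = SGA4h.detOdd K u * SGA4h.detEven K' u' := by
  classical
  -- projectivity and homotopy data
  haveI : ∀ i, Module.Finite A (K.X i) := fun i => (hK i).1
  haveI : ∀ i, Module.Free A (K.X i) := fun i => (hK i).2
  haveI : ∀ i, Module.Finite A (K'.X i) := fun i => (hK' i).1
  haveI : ∀ i, Module.Free A (K'.X i) := fun i => (hK' i).2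
  haveI : ∀ i, Projective (K.X i) := fun i => inferInstance
  haveI : ∀ i, Projective (K'.X i) := fun i => inferInstance
  haveI := CochainComplex.isKProjective_of_projective K b
  haveI := CochainComplex.isKProjective_of_projective K' b
  exact Groth.Agent.H18Det.detEven_mul_eq K K' b (fun i hi => K.isZero_of_isStrictlyLE b i hi)
    (fun i hi => K'.isZero_of_isStrictlyLE b i hi) a (fun i hi => K.isZero_of_isStrictlyGE a i hi)
    (fun i hi => K'.isZero_of_isStrictlyGE a i hi) u u'
    (Groth.Agent.H18Det.homotopyData K K' u u' φ hφ).some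

end Groth.Agent.S3139
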