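import Groth.Statements.S3140
import Mathlib

set_option autoImplicit false
universe u
open RingTheory.Sequence
open SGA4h

namespace Groth.Agent.S3140

open RingTheory.Sequence IsLocalRing

variable (A : Type u) [CommRing A]

theorem mem_smul_top_iff (L : List A) (y : A) :
    y ∈ (Ideal.ofList L • ⊤ : Submodule A A) ↔ y ∈ Ideal.ofList L := by
  rw [smul_eq_mul, Ideal.mul_top]

theorem not_mem_span_rest [IsLocalRing A] [IsNoetherianRing A] {x : A} {L : List A}
    (h : IsRegular A (x :: L)) : x ∉ Ideal.ofList L := by
  intro hx
  have h' := IsLocalRing.isRegular_of_perm h (List.perm_append_singleton x L).symm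
  have hr := ((isWeaklyRegular_append_iff A L [x]).mp h'.toIsWeaklyRegular).2
  rw [isWeaklyRegular_cons_iff] at hr
  have h1 : (Submodule.Quotient.mk (1 : A) : A ⧸ (Ideal.ofList L • ⊤ : Submodule A A)) = 0 := by
    apply hr.1
    simp only [← Submodule.Quotient.mk_smul, smul_zero, Submodule.Quotient.mk_eq_zero, smul_eq_mul, mul_one]
    exact (mem_smul_top_iff A L x).mpr hx
  rw [Submodule.Quotient.mk_eq_zero, mem_smul_top_iff] at h1
  refine h.top_ne_smul (Eq.symm ?_)
  rw [smul_eq_mul, Ideal.mul_top, Ideal.eq_top_iff_one]
  exact Ideal.span_mono (fun _ hy => List.mem_cons_of_mem _ hy) h1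

theorem regular_replace_last {L : List A} {r x : A} (h : IsRegular A (L ++ [r]))
    (heq : Ideal.ofList (L ++ [x]) = Ideal.ofList (L ++ [r])) : IsRegular A (L ++ [x]) := by
  refine ⟨(isWeaklyRegular_append_iff A L [x]).mpr ⟨((isWeaklyRegular_append_iff A L [r]).mp h.toIsWeaklyRegular).1, ?_⟩, ?_⟩
  · have hr := ((isWeaklyRegular_cons_iff _ r []).mp ((isWeaklyRegular_append_iff A L [r]).mp h.toIsWeaklyRegular).2).1
    refine (isWeaklyRegular_cons_iff _ x []).mpr ⟨?_, IsWeaklyRegular.nil _ _⟩
    have hmem : r ∈ Ideal.ofList L ⊔ Ideal.span {x} := by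
      rw [← Ideal.ofList_singleton, ← Ideal.ofList_append, heq]
      exact Ideal.subset_span (List.mem_append_right _ (List.mem_singleton_self r))
    obtain ⟨l, hl, m, hm, rfl⟩ := Submodule.mem_sup.mp hmem
    obtain ⟨a, rfl⟩ := Ideal.mem_span_singleton'.mp hm
    rw [isSMulRegular_quotient_iff_mem_of_smul_mem] at hr ⊢
    intro y hy
    apply hr y
    rw [mem_smul_top_iff, smul_eq_mul] at hy ⊢
    rw [add_mul, mul_assoc]
    exact Ideal.add_mem _ (Ideal.mul_mem_right _ _ hl) (Ideal.mul_mem_left _ _ hy)
  · intro htop
    exact h.top_ne_smul (htop.trans (by rw [heq]))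

open Classical in
theorem exists_exchange [IsLocalRing A] (P : List A) : ∀ (R : List A) (x : A), x ∈ Ideal.ofList (P ++ R) →
    x ∈ Ideal.ofList P ⊔ maximalIdeal A * Ideal.ofList (P ++ R) ∨
      ∃ r ∈ R, r ∈ Ideal.span ({x} ∪ {z | z ∈ P ++ R.erase r}) := by
  classical
  intro R
  induction R with
  | nil => intro x hx; left; rw [List.append_nil] at hx; exact Ideal.mem_sup_left hx
  | cons r R ih =>
    intro x hx
    rw [Ideal.ofList_append, Ideal.ofList_cons, sup_left_comm, ← Ideal.ofList_append] at hx
    obtain ⟨z, hz, y, hy, rfl⟩ := Submodule.mem_sup.mp hx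
    obtain ⟨a, rfl⟩ := Ideal.mem_span_singleton'.mp hz
    by_cases ha : IsUnit a
    · right
      refine ⟨r, List.mem_cons_self, ?_⟩
      rw [List.erase_cons_head]
      obtain ⟨b, hb⟩ := ha.exists_left_inv
      have h2 : b * ((a * r + y) - y) ∈ Ideal.span ({a * r + y} ∪ {z | z ∈ P ++ R}) :=
        Ideal.mul_mem_left _ _ (Ideal.sub_mem _ (Ideal.subset_span (Or.inl rfl))
          (Ideal.span_mono Set.subset_union_right hy))
      rwa [add_sub_cancel_right, ← mul_assoc, hb, one_mul] at h2
    · have har : a * r ∈ maximalIdeal A * Ideal.ofList (P ++ r :: R) :=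
        Ideal.mul_mem_mul ((mem_maximalIdeal a).mpr ha) (Ideal.subset_span (by simp))
      have hle : Ideal.ofList (P ++ R) ≤ Ideal.ofList (P ++ r :: R) :=
        Ideal.span_mono fun w hw => by
          simp only [Set.mem_setOf_eq, List.mem_append, List.mem_cons] at hw ⊢
          tauto
      rcases ih y hy with h | ⟨r', hr', h⟩
      · left
        exact Ideal.add_mem _ (Ideal.mem_sup_right har)
          (sup_le_sup_left (Ideal.mul_mono_right hle) _ h)
      · by_cases hrr : r' = r
        · right
          subst hrr
          refine ⟨r', List.mem_cons_self, ?_⟩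
          rw [List.erase_cons_head]
          have : r' ∈ Ideal.ofList (P ++ R) := Ideal.subset_span (List.mem_append_right _ hr')
          exact Ideal.span_mono Set.subset_union_right this
        · right
          refine ⟨r', List.mem_cons_of_mem _ hr', ?_⟩
          rw [List.erase_cons_tail (by simpa using Ne.symm hrr)]
          refine (Ideal.span_le.mpr ?_) h
          rintro w (rfl | hw)
          · rw [SetLike.mem_coe]
            have h3 := Ideal.sub_mem (Ideal.span ({a * r + w} ∪ {z | z ∈ P ++ r :: R.erase r'}))
              (Ideal.subset_span (Or.inl rfl))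
              (Ideal.mul_mem_left _ a (Ideal.subset_span (Or.inr (by simp : r ∈ {z | z ∈ P ++ r :: R.erase r'}))))
            rwa [add_sub_cancel_left] at h3
          · refine Ideal.subset_span (Or.inr ?_)
            simp only [Set.mem_setOf_eq, List.mem_append, List.mem_cons] at hw ⊢
            tauto

/-- A sequence reachable from `u`. -/
def Reach (u w : List A) : Prop :=
  ∃ ws : List (List A), ws.head? = some u ∧ ws.getLast? = some w ∧
    (∀ x ∈ ws, IsRegular A x ∧ Ideal.span {z | z ∈ x} = Ideal.span {z | z ∈ u}) ∧
    List.IsChain (fun x x' : List A => x.Perm x' ∨ (x.length = x'.length ∧ x.dropLast = x'.dropLast)) ws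

theorem Reach.step {u w w' : List A} (h : Reach A u w) (hreg : IsRegular A w')
    (heq : Ideal.ofList w' = Ideal.ofList w)
    (hrel : w.Perm w' ∨ (w.length = w'.length ∧ w.dropLast = w'.dropLast)) : Reach A u w' := by
  obtain ⟨ws, h1, h2, h3, h4⟩ := h
  refine ⟨ws ++ [w'], ?_, List.getLast?_concat, ?_, ?_⟩
  · rw [List.head?_append, h1]; rfl
  · intro x hx
    rcases List.mem_append.mp hx with hx | hx
    · exact h3 x hx
    · rw [List.mem_singleton] at hx
      subst hx
      exact ⟨hreg, heq.trans (h3 w (List.mem_of_getLast? h2)).2⟩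
  · refine List.isChain_append.mpr ⟨h4, List.isChain_singleton w', fun x hx y hy => ?_⟩
    rw [h2, Option.mem_some_iff] at hx
    rw [List.head?_cons, Option.mem_some_iff] at hy
    subst hx hy
    exact hrel

theorem exists_reach [IsLocalRing A] [IsNoetherianRing A] (u : List A) (hu : IsRegular A u) (v : List A)
    (hv : IsRegular A v) (huv : Ideal.ofList u = Ideal.ofList v) :
    ∀ (P Q : List A), P ++ Q = v → ∃ w R : List A, w.Perm (P ++ Q ++ R) ∧ R.length + (P ++ Q).length = u.length ∧
      Reach A u w := by
  classical
  suffices h : ∀ (m : ℕ), m ≤ v.length → ∃ w R : List A, w.Perm (v.take m ++ R) ∧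
      R.length + m = u.length ∧ Reach A u w by
    intro P Q hPQ
    obtain ⟨w, R, h1, h2, h3⟩ := h v.length le_rfl
    rw [List.take_length] at h1
    exact ⟨w, R, by rw [hPQ]; exact h1, by rw [hPQ]; exact h2, h3⟩
  intro m
  induction m with
  | zero =>
    intro _
    exact ⟨u, u, by simp, rfl, [u], rfl, rfl, by simpa using hu, List.isChain_singleton u⟩
  | succ m ih =>
    intro hm
    obtain ⟨w, R, hw, hlen, hreach⟩ := ih (Nat.le_of_succ_le hm)
    let P := v.take m
    let x := v[m]
    have hwI : Ideal.ofList w = Ideal.ofList v := by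
      obtain ⟨ws, h1, h2, h3, h4⟩ := hreach
      exact ((h3 w (List.mem_of_getLast? h2)).2).trans huv
    have hwreg : IsRegular A w := by
      obtain ⟨ws, h1, h2, h3, h4⟩ := hreach
      exact (h3 w (List.mem_of_getLast? h2)).1
    have hperm : Ideal.ofList (P ++ R) = Ideal.ofList v := by
      rw [← hwI]
      exact congrArg Ideal.span (Set.ext fun z => hw.mem_iff.symm)
    have hxv : x ∈ Ideal.ofList v := Ideal.subset_span (List.getElem_mem _)
    rcases exists_exchange A P R x (hperm ▸ hxv) with h | ⟨r, hr, h⟩
    · -- impossible: `x` would be redundant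
      exfalso
      rw [hperm] at h
      let J : Ideal A := Ideal.ofList (P ++ v.drop (m + 1))
      have hv' : v.Perm (x :: (P ++ v.drop (m + 1))) := by
        conv_lhs => rw [← List.take_append_drop m v, List.drop_eq_getElem_cons (by omega : m < v.length)]
        exact List.perm_middle
      have hI : Ideal.ofList v ≤ J ⊔ maximalIdeal A * Ideal.ofList v := by
        refine Ideal.span_le.mpr fun z hz => ?_
        rcases List.mem_cons.mp (hv'.mem_iff.mp hz) with rfl | hz
        · exact (sup_le_sup_right (Ideal.span_mono fun _ hp => List.mem_append_left _ hp : Ideal.ofList P ≤ J) _) h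
        · exact Ideal.mem_sup_left (Ideal.subset_span hz)
      have hle : Ideal.ofList v ≤ J :=
        Submodule.le_of_le_smul_of_le_jacobson_bot (⟨v.toFinset, by simp [Ideal.ofList]⟩ : (Ideal.ofList v).FG)
          (IsLocalRing.maximalIdeal_le_jacobson ⊥) (by simpa [smul_eq_mul] using hI)
      exact not_mem_span_rest A (IsLocalRing.isRegular_of_perm hv hv') (hle hxv)
    · have hP : v.take (m + 1) = P ++ [x] := (List.take_concat_get' v m (by omega)).symm
      have hp1 : w.Perm ((P ++ R.erase r) ++ [r]) := by
        refine hw.trans ?_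
        rw [List.append_assoc]
        exact (((List.perm_cons_erase hr).trans (List.perm_append_singleton r (R.erase r)).symm).append_left P)
      have hreg1 := IsLocalRing.isRegular_of_perm hwreg hp1
      have heq1 : Ideal.ofList ((P ++ R.erase r) ++ [r]) = Ideal.ofList w :=
        congrArg Ideal.span (Set.ext fun z => hp1.mem_iff.symm)
      have heq2 : Ideal.ofList ((P ++ R.erase r) ++ [x]) = Ideal.ofList ((P ++ R.erase r) ++ [r]) := by
        apply le_antisymm
        · refine Ideal.span_le.mpr fun z hz => ?_
          rcases List.mem_append.mp hz with hz | hz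
          · exact Ideal.subset_span (List.mem_append_left _ hz)
          · rw [List.mem_singleton] at hz
            subst hz
            rw [SetLike.mem_coe, heq1, hwI]; exact hxv
        · refine Ideal.span_le.mpr fun z hz => ?_
          rcases List.mem_append.mp hz with hz | hz
          · exact Ideal.subset_span (List.mem_append_left _ hz)
          · rw [List.mem_singleton] at hz
            subst hz
            refine Ideal.span_mono ?_ h
            rintro z' (rfl | hz')
            · exact List.mem_append_right _ (List.mem_singleton_self _)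
            · exact List.mem_append_left _ hz'
      have hreg2 := regular_replace_last A hreg1 heq2
      refine ⟨(P ++ R.erase r) ++ [x], R.erase r, ?_, ?_,
        (hreach.step A hreg1 heq1 (Or.inl hp1)).step A hreg2 heq2 (Or.inr ⟨by simp, by simp⟩)⟩
      · rw [hP, List.append_assoc, List.append_assoc]
        exact (List.perm_append_comm).append_left P
      · have := List.length_erase_of_mem hr
        have := List.length_pos_of_mem hr
        omega

/-- Let A be a Noetherian local ring and u, v two regular sequences of elements of A generating the same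
ideal. Then there is a finite chain of regular sequences generating that same ideal, starting at u
and ending at v, in which each sequence is obtained from the previous one either by a permutation or
by changing only its last element. -/
theorem result (A : Type u) [CommRing A] [IsLocalRing A] [IsNoetherianRing A]
    (u v : List A) (hu : IsRegular A u) (hv : IsRegular A v) (huv : Ideal.span {x | x ∈ u} = Ideal.span {x | x ∈ v}) :
    ∃ ws : List (List A), ws.head? = some u ∧ ws.getLast? = some v ∧
      (∀ w ∈ ws, IsRegular A w ∧ Ideal.span {x | x ∈ w} = Ideal.span {x | x ∈ u}) ∧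
      List.IsChain (fun w w' : List A => w.Perm w' ∨ (w.length = w'.length ∧ w.dropLast = w'.dropLast)) ws := by
  obtain ⟨w, R, hwR, hlen, hwreach⟩ := exists_reach A u hu v hv huv [] v rfl
  rw [List.nil_append] at hwR
  obtain ⟨ws, h1, h2, h3, h4⟩ := hwreach
  have hR : R = [] := by
    rcases R with _ | ⟨r, R⟩
    · rfl
    · exfalso
      have hw := h3 w (List.mem_of_getLast? h2)
      have hr := IsLocalRing.isRegular_of_perm hw.1 (hwR.trans (List.perm_middle (a := r) (l₁ := v) (l₂ := R)))
      refine not_mem_span_rest A hr (Ideal.span_mono ?_ (?_ : r ∈ Ideal.ofList v))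
      · intro x hx
        exact List.mem_append_left _ hx
      · have : r ∈ Ideal.ofList w := Ideal.subset_span (hwR.mem_iff.mpr (by simp))
        rw [show Ideal.ofList w = Ideal.ofList u from hw.2, show Ideal.ofList u = Ideal.ofList v from huv] at this
        exact this
  subst hR
  rw [List.append_nil] at hwR
  refine ⟨ws ++ [v], ?_, List.getLast?_concat, ?_, ?_⟩
  · rw [List.head?_append, h1]; rfl
  · intro x hx
    rcases List.mem_append.mp hx with hx | hx
    · exact h3 x hx
    · rw [List.mem_singleton] at hx
      subst hx
      exact ⟨hv, huv.symm⟩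
  · refine List.isChain_append.mpr ⟨h4, List.isChain_singleton v, fun x hx y hy => ?_⟩
    rw [h2, Option.mem_some_iff] at hx
    rw [List.head?_cons, Option.mem_some_iff] at hy
    subst hx hy
    exact Or.inl hwR

end Groth.Agent.S3140
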