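import Groth.Statements.S3194
import Groth.Agent.H02CA.HilbertK0
import Mathlib.LinearAlgebra.FreeModule.PID
import Mathlib.LinearAlgebra.Dimension.RankNullity
import Mathlib.LinearAlgebra.Dimension.Localization
import Mathlib.RingTheory.Finiteness.Prod
import Mathlib.RingTheory.Finiteness.Basic
set_option linter.style.haveILetI false

set_option autoImplicit false
universe u
open CategoryTheory
open SGA6

namespace Groth.Agent.S3194

open Groth.Agent.H02CA.HilbertK0 in
lemma cls_linearEquiv {A : Type u} [CommRing A] {X Y : Type u} [AddCommGroup X] [Module A X]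
    [AddCommGroup Y] [Module A Y] [Module.Finite A X] (e : X ≃ₗ[A] Y) :
    (cls Y : KZero.K0sub (fun X : ModuleCat.{u} A => Module.Finite A X)) = cls X := by
  haveI : Module.Finite A Y := Module.Finite.equiv e
  have h := cls_add (A := A) (X := X) (Y := Y) (Z := PUnit.{u + 1}) e.toLinearMap (0 : Y →ₗ[A] PUnit.{u + 1})
    e.injective (fun z => ⟨0, Subsingleton.elim _ _⟩) (fun y => ⟨fun _ => e.surjective y, fun _ => Subsingleton.elim _ _⟩)
  rw [cls_eq_zero PUnit.{u + 1}, add_zero] at h
  exact h

open Groth.Agent.H02CA.HilbertK0 in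
lemma cls_pi {A : Type u} [CommRing A] : ∀ n : ℕ,
    (cls (Fin n → A) : KZero.K0sub (fun X : ModuleCat.{u} A => Module.Finite A X)) = (n : ℤ) • cls A
  | 0 => by rw [cls_eq_zero (Fin 0 → A)]; simp
  | n + 1 => by
    haveI : Module.Finite A (A × (Fin n → A)) := Module.Finite.prod
    have e : (A × (Fin n → A)) ≃ₗ[A] (Fin (n + 1) → A) := Fin.consLinearEquiv A (fun _ => A)
    rw [cls_linearEquiv e, cls_add (LinearMap.inl A A (Fin n → A)) (LinearMap.snd A A (Fin n → A))
      LinearMap.inl_injective LinearMap.snd_surjective (Function.Exact.inl_snd (M := A) (N := Fin n → A)),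
      cls_pi n, Nat.cast_succ, add_smul, one_smul, add_comm]

/-- Let A be a principal ideal domain and K_•(Spec A) = K₀ of the category of finitely generated
A-modules (free abelian group on finitely generated modules modulo short exact sequences). The
homomorphism ℤ ⟶ K_•(Spec A) sending k to k·[A] is bijective. -/
theorem result (A : Type u) [CommRing A] [IsDomain A] [IsPrincipalIdealRing A] :
    Function.Bijective (fun k : ℤ => k • KZero.clSub (fun M : ModuleCat.{u} A => Module.Finite A M) (ModuleCat.of A A)) := by
  classical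
  let P : ObjectProperty (ModuleCat.{u} A) := fun M => Module.Finite A M
  let rk : FreeAbelianGroup (Subtype P) →+ ℤ :=
    FreeAbelianGroup.lift fun M => (Module.finrank A M.1 : ℤ)
  have hrel : KZero.relSub P ≤ rk.ker := by
    refine (AddSubgroup.closure_le _).mpr ?_
    rintro _ ⟨S, h₁, h₂, h₃, hS, rfl⟩
    haveI : Module.Finite A S.X₁ := h₁
    haveI : Module.Finite A S.X₂ := h₂
    have hex := (ShortComplex.ShortExact.moduleCat_exact_iff_function_exact S).mp hS.exact
    have hg : Function.Surjective S.g.hom := hS.moduleCat_surjective_g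
    have hf : Function.Injective S.f.hom := hS.moduleCat_injective_f
    have h := Submodule.finrank_quotient_add_finrank (LinearMap.ker S.g.hom)
    rw [(S.g.hom.quotKerEquivOfSurjective hg).finrank_eq, hex.linearMap_ker_eq,
      LinearMap.finrank_range_of_inj hf] at h
    simp only [SetLike.mem_coe, AddMonoidHom.mem_ker, rk, map_sub, FreeAbelianGroup.lift_apply_of]
    omega
  let ψ : KZero.K0sub P →+ ℤ := QuotientAddGroup.lift _ rk hrel
  have hψ : ψ (KZero.clSub P (ModuleCat.of A A)) = 1 := by
    have h : P (ModuleCat.of A A) := Module.Finite.self A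
    rw [KZero.clSub, dif_pos h]
    show rk (FreeAbelianGroup.of ⟨_, h⟩) = 1
    simp [rk, Module.finrank_self]
  have key : ∀ (M : ModuleCat.{u} A) (h : P M), ∃ k : ℤ,
      k • KZero.clSub P (ModuleCat.of A A) = KZero.clSub P M := by
    intro M h
    haveI : Module.Finite A M := h
    obtain ⟨n, f, hf⟩ := Module.Finite.exists_fin' A M
    haveI : IsNoetherianRing A := inferInstance
    haveI : Module.Finite A (LinearMap.ker f) := Module.IsNoetherian.finite A _
    obtain ⟨m, b⟩ := Submodule.basisOfPid (Pi.basisFun A (Fin n)) (LinearMap.ker f)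
    refine ⟨(n : ℤ) - m, ?_⟩
    have h1 := Groth.Agent.H02CA.HilbertK0.cls_add (LinearMap.ker f).subtype f
      (Submodule.subtype_injective _) hf (LinearMap.exact_subtype_ker_map f)
    rw [cls_pi, cls_linearEquiv b.equivFun.symm, cls_pi] at h1
    rw [sub_smul]
    exact sub_eq_of_eq_add' h1
  constructor
  · intro k l hkl
    have := congrArg ψ hkl
    simp only [map_zsmul] at this
    rw [show ψ (KZero.clSub (fun M : ModuleCat.{u} A => Module.Finite A M) (ModuleCat.of A A)) = 1 from hψ] at this
    simpa using this
  · intro x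
    induction x using QuotientAddGroup.induction_on with
    | H y =>
      induction y using FreeAbelianGroup.induction_on with
      | zero => exact ⟨0, by simp⟩
      | of M =>
        obtain ⟨k, hk⟩ := key M.1 M.2
        refine ⟨k, hk.trans ?_⟩
        rw [KZero.clSub, dif_pos M.2]
      | neg M hM =>
        obtain ⟨k, hk⟩ := hM
        exact ⟨-k, by rw [QuotientAddGroup.mk_neg, ← hk]; exact neg_zsmul _ _⟩
      | add M N hM hN =>
        obtain ⟨k, hk⟩ := hM
        obtain ⟨l, hl⟩ := hN
        exact ⟨k + l, by rw [QuotientAddGroup.mk_add, ← hk, ← hl]; exact add_zsmul _ _ _⟩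

end Groth.Agent.S3194
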