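import Groth.Statements.S3196
import Groth.Agent.H16Derived.KoszulTor.Pow

set_option autoImplicit false
universe u
open CategoryTheory CategoryTheory.Limits
open SGA6

namespace Groth.Agent.S3196

/-- Let A be a commutative ring, fs a Koszul-regular sequence in A generating the ideal J, and A' a
commutative A-algebra in which the image of fs is again Koszul-regular. Then for every n ≥ 0 and i ≥
1, Tor_i^A(Jⁿ, A') = 0 and Tor_i^A(Jⁿ/Jⁿ⁺¹, A') = 0 (Mathlib's Tor on A-modules). (The source also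
derives Jⁿ ⊗_A A' ≅ J'ⁿ and Jⁿ/Jⁿ⁺¹ ⊗_A A' ≅ J'ⁿ/J'ⁿ⁺¹ for J' = JA', and works with a regular
homomorphism from any finite projective module.) -/
theorem result (A : Type u) [CommRing A] (A' : Type u) [CommRing A'] [Algebra A A']
    (fs : List A) (hfs : LCI.IsKoszulRegularSeq A fs) (hfs' : LCI.IsKoszulRegularSeq A' (fs.map (algebraMap A A')))
    (n : ℕ) (i : ℕ) (hi : 1 ≤ i) :
    IsZero (((Tor (ModuleCat.{u} A) i).obj (ModuleCat.of A ↥(Ideal.span {x | x ∈ fs} ^ n))).obj (ModuleCat.of A A')) ∧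
    IsZero (((Tor (ModuleCat.{u} A) i).obj (ModuleCat.of A
      (↥(Ideal.span {x | x ∈ fs} ^ n) ⧸ Submodule.comap (Ideal.span {x | x ∈ fs} ^ n).subtype (Ideal.span {x | x ∈ fs} ^ (n + 1))))).obj (ModuleCat.of A A')) := by
  obtain ⟨j, rfl⟩ : ∃ j, i = j + 1 := ⟨i - 1, by omega⟩
  exact ⟨(H16Derived.KoszulTor.main fs hfs hfs' n).1 j, (H16Derived.KoszulTor.main fs hfs hfs' n).2 j⟩

end Groth.Agent.S3196
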