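import Groth.Statements.S3197
import Groth.Agent.H16Derived.PBQCTriv

set_option autoImplicit false
universe u
open CategoryTheory CategoryTheory.Limits AlgebraicGeometry
attribute [local instance] HasDerivedCategory.standard
open SGA6

namespace Groth.Agent.S3197

attribute [local instance 10000] Groth.Agent.H10Coh.hasSheafifyAb Groth.Agent.H10Coh.hasWeakSheafifyAb

/-- For the trivial bundle E = O_S^{r+1}: let S be a quasi-compact scheme, P = P^r_S with structure
morphism f : P ⟶ S, and K^•(−) = K₀ of finite locally free modules. Pullback along the flat morphism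
f and tensoring with the invertible modules O_P(i) are exact (carried as instance hypotheses) and
preserve finite locally free modules (hypotheses hf, ht), so induce additive maps f^* : K^•(S) ⟶
K^•(P) and (− · [O_P(i)]) : K^•(P) ⟶ K^•(P). Then K^•(P) is free over K^•(S) with basis the classes
of O_P(i), 0 ≤ i ≤ r: the map (x_0, …, x_r) ↦ Σ_i f^*(x_i)·[O_P(i)] from K^•(S)^{r+1} to K^•(P) is
bijective. (The source treats P(E) for any locally free E of rank r + 1.) -/
theorem result (S : Scheme.{u}) [CompactSpace ↥S] (r : ℕ)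
    [(Scheme.Modules.pullback (CohB1.ProjSpaceOver.toBase r S)).Additive] [PreservesFiniteLimits (Scheme.Modules.pullback (CohB1.ProjSpaceOver.toBase r S))]
    [PreservesFiniteColimits (Scheme.Modules.pullback (CohB1.ProjSpaceOver.toBase r S))]
    (hf : ∀ M : S.Modules, FlatMod.IsFinLocFree M → FlatMod.IsFinLocFree ((Scheme.Modules.pullback (CohB1.ProjSpaceOver.toBase r S)).obj M))
    [∀ i : ℕ, PreservesFiniteLimits ((DCoh.tensorBi (X := CohB1.ProjSpaceOver r S)).obj (Twist.twistOver r S (i : ℤ)))]
    [∀ i : ℕ, PreservesFiniteColimits ((DCoh.tensorBi (X := CohB1.ProjSpaceOver r S)).obj (Twist.twistOver r S (i : ℤ)))]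
    (ht : ∀ (i : ℕ) (M : (CohB1.ProjSpaceOver r S).Modules), FlatMod.IsFinLocFree M →
      FlatMod.IsFinLocFree (((DCoh.tensorBi (X := CohB1.ProjSpaceOver r S)).obj (Twist.twistOver r S (i : ℤ))).obj M)) :
    Function.Bijective (fun x : Fin (r + 1) → SGA6.Kvb S =>
      ∑ i : Fin (r + 1), (SGA6.mapSub ((DCoh.tensorBi (X := CohB1.ProjSpaceOver r S)).obj (Twist.twistOver r S ((i : ℕ) : ℤ))) (fun M : (CohB1.ProjSpaceOver r S).Modules => FlatMod.IsFinLocFree M) (fun M : (CohB1.ProjSpaceOver r S).Modules => FlatMod.IsFinLocFree M) (ht i))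
        ((SGA6.mapSub (Scheme.Modules.pullback (CohB1.ProjSpaceOver.toBase r S)) (fun M : (S).Modules => FlatMod.IsFinLocFree M) (fun M : (CohB1.ProjSpaceOver r S).Modules => FlatMod.IsFinLocFree M) hf) (x i))) := by
  refine H16Derived.PBQC.bijective_trivial S r (fun i =>
    (SGA6.mapSub ((DCoh.tensorBi (X := CohB1.ProjSpaceOver r S)).obj (Twist.twistOver r S ((i : ℕ) : ℤ))) (fun M : (CohB1.ProjSpaceOver r S).Modules => FlatMod.IsFinLocFree M) (fun M : (CohB1.ProjSpaceOver r S).Modules => FlatMod.IsFinLocFree M) (ht i)).comp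
      (SGA6.mapSub (Scheme.Modules.pullback (CohB1.ProjSpaceOver.toBase r S)) (fun M : (S).Modules => FlatMod.IsFinLocFree M) (fun M : (CohB1.ProjSpaceOver r S).Modules => FlatMod.IsFinLocFree M) hf)) ?_
  intro i A hA
  rw [AddMonoidHom.comp_apply, H16Derived.PBQC.mapSub_cl _ hf hA,
    H16Derived.PBQC.mapSub_cl _ (ht i) (hf A hA)]

end Groth.Agent.S3197
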