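import Groth.Statements.S3198
import Groth.Agent.H16Derived.GTheory.Fibres
import Groth.Agent.H22Alg.KPush

set_option autoImplicit false
universe u
open CategoryTheory CategoryTheory.Limits AlgebraicGeometry
attribute [local instance] HasDerivedCategory.standard
open SGA6

namespace Groth.Agent.S3198

open H16Derived.GTheory

/-- Let f : X ⟶ S be a flat morphism of Noetherian schemes such that for every point s of S the map ℤ ⟶
K₀(Coh X_s), k ↦ k·[O_{X_s}], is bijective. Pullback along f is exact (instance hypotheses) and
preserves coherence (hypothesis hf); the induced homomorphism f^* : K₀(Coh S) ⟶ K₀(Coh X) is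
surjective. (The source adds that f^* is bijective when f has a section of finite tor-dimension.) -/
theorem result {X S : Scheme.{u}} [IsNoetherian X] [IsNoetherian S] (f : X ⟶ S) [Flat f]
    [(Scheme.Modules.pullback f).Additive] [PreservesFiniteLimits (Scheme.Modules.pullback f)] [PreservesFiniteColimits (Scheme.Modules.pullback f)]
    (hf : ∀ M : S.Modules, Coh.IsCoh M → Coh.IsCoh ((Scheme.Modules.pullback f).obj M))
    (hfib : ∀ s : S, Function.Bijective (fun k : ℤ => k • KZero.clSub (fun M : (f.fiber s).Modules => Coh.IsCoh M) (Coh.structureModule (f.fiber s)))) :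
    Function.Surjective (SGA6.mapSub (Scheme.Modules.pullback f) (fun M : (S).Modules => Coh.IsCoh M) (fun M : (X).Modules => Coh.IsCoh M) hf) := by
  have hQ := isAbClass_isCoh X
  let Φ := SGA6.mapSub (Scheme.Modules.pullback f) (fun M : S.Modules => Coh.IsCoh M) (fun M : X.Modules => Coh.IsCoh M) hf
  have h : Φ.range = ⊤ := by
    refine eq_top_of_fibres f (fun _ : Fin 1 => Coh.structureModule X) (fun _ => ?_) Φ.range
      (fun _ N hN => ⟨KZero.clSub _ N, ?_⟩) (fun s => ?_)
    · exact Groth.Agent.H22Alg.KPush.finLocFree_structure X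
    · rw [mapSub_clSub (P := fun M : S.Modules => Coh.IsCoh M) (Q := fun M : X.Modules => Coh.IsCoh M) _ _ hN]
      exact (clSub_isAdd (P := fun M : X.Modules => Coh.IsCoh M)).map_iso hQ (isSub_self hQ)
        (H02CA.KcohNilp.unitL _).symm (hf N hN)
    · rw [eq_top_iff]
      intro x _
      obtain ⟨k, rfl⟩ := (hfib s).2 x
      refine AddSubgroup.zsmul_mem _ ?_ k
      refine AddSubgroup.subset_closure ⟨0, ?_⟩
      have hq : Coh.IsCoh ((Scheme.Modules.pullback (f.fiberι s)).obj (Coh.structureModule X)) :=
        isCoh_pull _ (H10Coh.isCoh_structureModule' X)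
      let e := PicLoc.pullbackStructureIso (f.fiberι s)
      let P : ObjectProperty (f.fiber s).Modules := fun M => Coh.IsCoh M
      show KZero.clSub P _ = KZero.clSub P _
      have hZ : IsZero (cokernel (𝟙 (Coh.structureModule (f.fiber s)))) := isZero_cokernel_of_epi _
      exact H27KZero.clSub_iso (P := P) e hq (H10Coh.isCoh_structureModule' _) hZ
        (H10Coh.isCoh_cokernel (𝟙 (Coh.structureModule (f.fiber s))) (H10Coh.isCoh_structureModule' _).1
          (H10Coh.isCoh_structureModule' _))
  exact AddMonoidHom.range_eq_top.1 h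

end Groth.Agent.S3198
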