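import Groth.Statements.S3200
import Groth.Agent.H16Derived.ResolutionThmSeq

set_option autoImplicit false
universe v u
open CategoryTheory CategoryTheory.Limits
open SGA6

namespace Groth.Agent.S3200

open Groth.Agent.H16Derived

/-- Let C be an abelian category and P₀ ≤ P₁ two isomorphism-closed classes of objects, both stable
under extensions, such that: (i) for every short exact sequence 0 → A' → A → A'' → 0 with A, A'' in
P₀ (resp. P₁), A' is in P₀ (resp. P₁); (ii) for u : A ⟶ B an epimorphism and v : D ⟶ B with A, B, D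
in P₁ there are L in P₀, an epimorphism u' : L ⟶ D and v' : L ⟶ A with u' ≫ v = v' ≫ u; (iii) for
every A in P₁ there is d such that for every resolution L of A by objects of P₀ (a chain complex of
objects of P₀, exact in positive degrees, with H₀(L) ≅ A) the object of cycles Z_{d+1}(L) =
ker(L_{d+1} → L_d) is in P₀. Then the homomorphism K₀(P₀) ⟶ K₀(P₁) induced by the inclusion is
bijective. (Two deviations from the published statement. Stability of P₀ and P₁ under extensions is
assumed here in addition to (i)–(iii); without it the conclusion can fail. In (iii) the published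
statement asks that Z_d(L) be in P₀; asking it of Z_{d+1}(L) is equivalent given (i), and avoids
degree 0, where the cycles of the complex L in Mathlib's sense are L₀ itself rather than the kernel
of the augmentation L₀ → A.) -/
theorem result {C : Type u} [Category.{v} C] [Abelian C]
    (P₀ P₁ : ObjectProperty C) [P₀.IsClosedUnderIsomorphisms] [P₁.IsClosedUnderIsomorphisms] (hle : ∀ X, P₀ X → P₁ X)
    (hext₀ : ∀ S : ShortComplex C, S.ShortExact → P₀ S.X₁ → P₀ S.X₃ → P₀ S.X₂)
    (hext₁ : ∀ S : ShortComplex C, S.ShortExact → P₁ S.X₁ → P₁ S.X₃ → P₁ S.X₂)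
    (h1₀ : ∀ S : ShortComplex C, S.ShortExact → P₀ S.X₂ → P₀ S.X₃ → P₀ S.X₁)
    (h1₁ : ∀ S : ShortComplex C, S.ShortExact → P₁ S.X₂ → P₁ S.X₃ → P₁ S.X₁)
    (h2 : ∀ (A B D : C) (u : A ⟶ B) (v : D ⟶ B), Epi u → P₁ A → P₁ B → P₁ D →
      ∃ (L : C) (u' : L ⟶ D) (v' : L ⟶ A), P₀ L ∧ Epi u' ∧ u' ≫ v = v' ≫ u)
    (h3 : ∀ A : C, P₁ A → ∃ d : ℕ, ∀ L : ChainComplex C ℕ, (∀ i, P₀ (L.X i)) → (∀ i, 1 ≤ i → L.ExactAt i) →
      Nonempty (L.homology 0 ≅ A) → P₀ (L.cycles (d + 1))) :
    Function.Bijective (SGA6.mapSub (𝟭 C) P₀ P₁ hle) := by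
  by_cases hne : ∃ A, P₁ A
  · obtain ⟨A₀, hA₀⟩ := hne
    have hz : P₁ (kernel (𝟙 A₀)) :=
      h1₁ (ShortComplex.mk (kernel.ι (𝟙 A₀)) (𝟙 A₀) (kernel.condition _))
        { exact := ShortComplex.exact_of_f_is_kernel _ (kernelIsKernel _)
          mono_f := inferInstanceAs (Mono (kernel.ι (𝟙 A₀)))
          epi_g := inferInstanceAs (Epi (𝟙 A₀)) } hA₀ hA₀
    have H : ResThm.Data P₀ P₁ :=
      ⟨inferInstance, inferInstance, hle, hext₀, hext₁, h1₀, h1₁, fun D hD => by
        obtain ⟨L, u', -, hL, hu', -⟩ := h2 _ _ D (𝟙 (kernel (𝟙 A₀))) 0 inferInstance hz hz hD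
        exact ⟨ResThm.Cov.ofEpi u' hL⟩⟩
    refine ResThm.bijective_of_forall_exists_mem H _ (fun A hA => ?_) (ResThm.exists_mem H h3)
    rw [KZero.clSub, dif_pos hA, KZero.clSub, dif_pos (hle _ hA)]
    rfl
  · have : IsEmpty (Subtype P₀) := ⟨fun A => hne ⟨A.1, hle _ A.2⟩⟩
    have : IsEmpty (Subtype P₁) := ⟨fun A => hne ⟨A.1, A.2⟩⟩
    have h0 : Subsingleton (FreeAbelianGroup (Subtype P₀)) := inferInstance
    have h1 : Subsingleton (FreeAbelianGroup (Subtype P₁)) := inferInstance
    refine ⟨fun a b _ => ?_, fun b => ⟨0, ?_⟩⟩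
    · induction a using QuotientAddGroup.induction_on
      induction b using QuotientAddGroup.induction_on
      exact congrArg _ (Subsingleton.elim _ _)
    · induction b using QuotientAddGroup.induction_on
      exact (map_zero _).trans (congrArg (QuotientAddGroup.mk (s := KZero.relSub P₁)) (Subsingleton.elim 0 _))

end Groth.Agent.S3200
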