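import Groth.Statements.S3207
import Groth.Agent.H28Neron.RankLeOne
import Groth.Agent.S2759

set_option autoImplicit false
universe u
open CategoryTheory CategoryTheory.Limits AlgebraicGeometry
open SGA7

namespace Groth.Agent.S3207

/-- Let g : T -> S be locally quasi-finite, of finite presentation, separated and flat. If for every
maximal point s of S (a point with no proper generization) the fibre of g over s is either empty or
mapped isomorphically onto Spec κ(s) (rank at most 1), then g is an open immersion. -/
theorem result {T S : Scheme.{u}} (g : T ⟶ S) [LocallyQuasiFinite g]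
    [LocallyOfFinitePresentation g] [QuasiCompact g] [IsSeparated g] [Flat g]
    (h : ∀ s : S, (∀ t : S, t ⤳ s → t = s) →
      IsEmpty ↑(pullback g (S.fromSpecResidueField s)) ∨ IsIso (pullback.snd g (S.fromSpecResidueField s))) :
    IsOpenImmersion g := by
  open CategoryTheory.Limits in
  have hmax : ∀ s : S, H7Lim.IsMaxPoint s → IsOpenImmersion (pullback.snd g (S.fromSpecResidueField s)) := by
    intro s hs
    rcases h s hs with h1 | h1 <;> infer_instance
  refine (Groth.Agent.S2759.result (𝟙 S) g g (Category.comp_id g)).1.mpr fun s => ?_
  have e : (𝟙 S : S ⟶ S).fiberι s = (𝟙 S : S ⟶ S).fiberToSpecResidueField s ≫ S.fromSpecResidueField s :=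
    (Category.comp_id _).symm.trans ((𝟙 S : S ⟶ S).fiber_fac s)
  have hs : IsOpenImmersion (pullback.snd g (S.fromSpecResidueField s)) := by
    rcases H28Neron.isEmpty_or_isIso_fibre g hmax s with h1 | h1 <;> infer_instance
  rw [e]
  let E := (𝟙 S : S ⟶ S).fiberToSpecResidueField s
  let a := S.fromSpecResidueField s
  show IsOpenImmersion (pullback.snd g (E ≫ a))
  haveI : IsOpenImmersion (pullback.snd (pullback.snd g a) E) := MorphismProperty.pullback_snd _ _ hs
  rw [← MorphismProperty.cancel_left_of_respectsIso @IsOpenImmersion (pullbackLeftPullbackSndIso g a E).hom,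
    pullbackLeftPullbackSndIso_hom_snd g a E]
  infer_instance

end Groth.Agent.S3207
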