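import Groth.Statements.S3208
import Groth.Agent.H28Alg.Congruent

set_option autoImplicit false
open SGA7

namespace Groth.Agent.S3208

/-- Let E be a commutative ring which is finitely generated and torsion-free as an additive group, u an
element of E of finite multiplicative order (u^m = 1 for some m > 0), and n ≥ 2 an integer with u ≡
1 modulo nE (i.e. 1 - u = n·v for some v ∈ E). Then u² = 1, and if n ≥ 3 then u = 1. -/
theorem result (E : Type) [CommRing E] [NoZeroSMulDivisors ℤ E] [Module.Finite ℤ E] (u : E) (m : ℕ) (hm : 0 < m)
    (hu : u ^ m = 1) (n : ℕ) (hn : 2 ≤ n) (hcong : ∃ v : E, 1 - u = (n : E) * v) :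
    u ^ 2 = 1 ∧ (3 ≤ n → u = 1) := by
  haveI : Module.IsTorsionFree ℤ E := inferInstance
  haveI : Module.Free ℤ E := Module.free_of_finite_type_torsion_free'
  exact H28Alg.congruent_one n hn u m hm hu hcong

end Groth.Agent.S3208
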