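import Groth.Statements.S3209

set_option autoImplicit false
universe u
open TensorProduct
open SGA7

namespace Groth.Agent.S3209

/-- Let f : B' → B be a surjective map of R-algebras with kernel J, g : C → B a map of R-algebras, P =
B' ×_B C their fibre product (the equalizer of f ∘ pr₁ and g ∘ pr₂ in B' × C) and S an R-algebra
such that S ⊗_R J → S ⊗_R B' is injective (this holds when Tor_1^R(B, S) = 0, the published
hypothesis, and in particular when S is flat). Then the canonical map S ⊗_R P → (S ⊗_R B') ×_{S ⊗_R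
B} (S ⊗_R C) is bijective: it is injective, and every pair with the same image in S ⊗_R B comes from
S ⊗_R P. -/
theorem result (R B' B C S : Type u) [CommRing R] [CommRing B'] [CommRing B] [CommRing C]
    [CommRing S] [Algebra R B'] [Algebra R B] [Algebra R C] [Algebra R S]
    (f : B' →ₐ[R] B) (hf : Function.Surjective f) (g : C →ₐ[R] B)
    (hJ : Function.Injective (LinearMap.lTensor S (LinearMap.ker f.toLinearMap).subtype)) :
    letI P := AlgHom.equalizer (f.comp (AlgHom.fst R B' C)) (g.comp (AlgHom.snd R B' C))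
    letI φ₁ := Algebra.TensorProduct.map (AlgHom.id R S) ((AlgHom.fst R B' C).comp P.val)
    letI φ₂ := Algebra.TensorProduct.map (AlgHom.id R S) ((AlgHom.snd R B' C).comp P.val)
    Function.Injective (fun z : S ⊗[R] ↥P => (φ₁ z, φ₂ z)) ∧
    ∀ (x : S ⊗[R] B') (y : S ⊗[R] C),
      Algebra.TensorProduct.map (AlgHom.id R S) f x = Algebra.TensorProduct.map (AlgHom.id R S) g y →
        ∃ z : S ⊗[R] ↥P, φ₁ z = x ∧ φ₂ z = y := by
  have key : ∀ (M N : Type u) [CommRing M] [CommRing N] [Algebra R M] [Algebra R N] (h : M →ₐ[R] N) (z : S ⊗[R] M),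
      Algebra.TensorProduct.map (AlgHom.id R S) h z = LinearMap.lTensor S h.toLinearMap z := by
    intro M N _ _ _ _ h z
    induction z using TensorProduct.induction_on with
    | zero => rw [map_zero, map_zero]
    | tmul a b => simp
    | add a b ha hb => rw [map_add, map_add, ha, hb]
  let P := AlgHom.equalizer (f.comp (AlgHom.fst R B' C)) (g.comp (AlgHom.snd R B' C))
  let φ₁ := Algebra.TensorProduct.map (AlgHom.id R S) ((AlgHom.fst R B' C).comp P.val)
  let φ₂ := Algebra.TensorProduct.map (AlgHom.id R S) ((AlgHom.snd R B' C).comp P.val)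
  show Function.Injective (fun z : S ⊗[R] ↥P => (φ₁ z, φ₂ z)) ∧
    ∀ (x : S ⊗[R] B') (y : S ⊗[R] C),
      Algebra.TensorProduct.map (AlgHom.id R S) f x = Algebra.TensorProduct.map (AlgHom.id R S) g y →
        ∃ z : S ⊗[R] ↥P, φ₁ z = x ∧ φ₂ z = y
  let p1 : ↥P →ₗ[R] B' := ((AlgHom.fst R B' C).comp P.val).toLinearMap
  let p2 : ↥P →ₗ[R] C := ((AlgHom.snd R B' C).comp P.val).toLinearMap
  let ι : LinearMap.ker f.toLinearMap →ₗ[R] ↥P :=
    { toFun := fun j => ⟨((j : B'), 0), by
        show f (j : B') = g 0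
        rw [map_zero]; exact j.2⟩
      map_add' := fun a b => Subtype.ext (Prod.ext (by simp) (by simp))
      map_smul' := fun r a => Subtype.ext (Prod.ext (by simp) (by simp)) }
  have hp2 : Function.Surjective p2 := fun c => by
    obtain ⟨b, hb⟩ := hf (g c)
    exact ⟨⟨(b, c), hb⟩, rfl⟩
  have hex : Function.Exact ι p2 := by
    intro z
    constructor
    · intro hz
      have hz' : (z : B' × C).2 = 0 := hz
      have hm : f (z : B' × C).1 = g (z : B' × C).2 := z.2
      refine ⟨⟨(z : B' × C).1, ?_⟩, Subtype.ext (Prod.ext rfl hz'.symm)⟩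
      show f (z : B' × C).1 = 0
      rw [hm, hz', map_zero]
    · rintro ⟨j, rfl⟩
      rfl
  have hexT := lTensor_exact S hex hp2
  have hf1 : p1 ∘ₗ ι = (LinearMap.ker f.toLinearMap).subtype := LinearMap.ext fun _ => rfl
  have hι1 : ∀ j, LinearMap.lTensor S p1 (LinearMap.lTensor S ι j) =
      LinearMap.lTensor S (LinearMap.ker f.toLinearMap).subtype j := fun j => by
    rw [← LinearMap.lTensor_comp_apply, hf1]
  have hι2 : ∀ j, LinearMap.lTensor S p2 (LinearMap.lTensor S ι j) = 0 := fun j => hexT.apply_apply_eq_zero j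
  have e1 : ∀ z, φ₁ z = LinearMap.lTensor S p1 z := fun z => key _ _ _ z
  have e2 : ∀ z, φ₂ z = LinearMap.lTensor S p2 z := fun z => key _ _ _ z
  refine ⟨fun z w h => ?_, fun x y hxy => ?_⟩
  · simp only [Prod.mk.injEq, e1, e2] at h
    have h2 : LinearMap.lTensor S p2 (z - w) = 0 := by rw [map_sub, h.2, sub_self]
    obtain ⟨j, hj⟩ := (hexT _).1 h2
    have h1 : LinearMap.lTensor S (LinearMap.ker f.toLinearMap).subtype j = 0 := by
      rw [← hι1, hj, map_sub, h.1, sub_self]
    rw [hJ (h1.trans (map_zero _).symm), map_zero] at hj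
    exact sub_eq_zero.1 hj.symm
  · obtain ⟨z₀, hz₀⟩ := LinearMap.lTensor_surjective S hp2 y
    have hcomm : f.toLinearMap ∘ₗ p1 = g.toLinearMap ∘ₗ p2 := LinearMap.ext fun z => z.2
    rw [key, key, ← hz₀, ← LinearMap.lTensor_comp_apply, ← hcomm, LinearMap.lTensor_comp_apply] at hxy
    have hexJ := lTensor_exact S (LinearMap.exact_subtype_ker_map f.toLinearMap) hf
    obtain ⟨j, hj⟩ := (hexJ _).1 (show LinearMap.lTensor S f.toLinearMap (x - LinearMap.lTensor S p1 z₀) = 0 by
      rw [map_sub, hxy, sub_self])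
    refine ⟨z₀ + LinearMap.lTensor S ι j, ?_, ?_⟩
    · rw [e1, map_add, hι1, hj]; abel
    · rw [e2, map_add, hι2, add_zero, hz₀]

end Groth.Agent.S3209
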