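import Groth.Statements.S3211
import Groth.Agent.H28NT.GoodReduction

set_option autoImplicit false
set_option linter.style.haveILetI false
universe u
open CategoryTheory CategoryTheory.Limits AlgebraicGeometry MonObj
open SGA7

namespace Groth.Agent.S3211

/-- (i) ⟺ (iv): let R be a discrete valuation ring with fraction field K, A an abelian variety over K (a
proper, geometrically integral group scheme) and N a Néron model of A over Spec R. Then A extends to
an abelian scheme over R (a proper smooth group scheme with connected geometric fibres and generic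
fibre K-isomorphic to A) if and only if N is proper over Spec R. -/
theorem result (R : Type u) [CommRing R] [IsDomain R] [IsDiscreteValuationRing R]
    (A : Over (Spec (CommRingCat.of (FractionRing R)))) [GrpObj A] [IsProper A.hom] [GeometricallyIntegral A.hom]
    (N : Over (Spec (CommRingCat.of R))) (e : (Neron.genericFibre R).obj N ≅ A) (hN : Neron.IsNeronModelOf R N A e) :
    (∃ (B : Over (Spec (CommRingCat.of R))) (_ : GrpObj B), IsProper B.hom ∧ Smooth B.hom ∧
        (∀ (k' : Type u) [Field k'] (t : Spec (CommRingCat.of k') ⟶ Spec (CommRingCat.of R)), ConnectedSpace ↑(pullback B.hom t)) ∧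
        Nonempty ((Over.pullback (Spec.map (CommRingCat.ofHom (algebraMap R (FractionRing R))))).obj B ≅ A)) ↔ IsProper N.hom := by
  constructor
  · rintro ⟨B, _, hBp, hBs, -, ⟨i⟩⟩
    haveI := hBp
    haveI := hBs
    obtain ⟨k⟩ := Groth.Agent.H28NT.nonempty_iso_of_isNeronModelOf hN (Groth.Agent.S18483.result R B) i
    haveI : IsProper B.hom := hBp
    rw [← Over.w k.inv]
    haveI : IsIso k.inv.left := inferInstanceAs (IsIso ((Over.forget _).map k.inv))
    infer_instance
  · intro hp
    haveI := hp
    haveI := hN.1
    obtain ⟨hG⟩ := Groth.Agent.H28NT.nonempty_grpObj_of_isNeronModelOf hN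
    haveI : GeometricallyIntegral ((Neron.genericFibre R).obj N).hom := by
      haveI : IsIso e.hom.left := inferInstanceAs (IsIso ((Over.forget _).map e.hom))
      have hsq : IsPullback e.hom.left ((Neron.genericFibre R).obj N).hom A.hom (𝟙 _) :=
        IsPullback.of_horiz_isIso ⟨by rw [Category.comp_id]; exact Over.w e.hom⟩
      exact MorphismProperty.of_isPullback hsq ‹_›
    exact ⟨N, hG, hp, hN.1, fun k' _ t =>
      Groth.Agent.H28NT.connectedSpace_geometric_fibre (η[N]).left (Over.w (η[N])) k' t, ⟨e⟩⟩

end Groth.Agent.S3211
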