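import Groth.Statements.S3214
import Mathlib

set_option autoImplicit false
open Polynomial
universe u
open SGA7II

namespace Groth.Agent.S3214

/-- In the recursive form established in its proof: let A = Z[X_1, ..., X_a] (a >= 1), P = prod_i (T -
X_i) in A[T] and S_i the i-th elementary symmetric function. Writing a_j for the coefficient of
T^{a-1} in the remainder of T^{a-1+j} modulo P, one has a_0 = 1 and sum_{i=0}^{a} (-1)^i S_i a_{j-i}
= 0 for every j > 0 (with a_m = 0 for m < 0); equivalently sum_j (-1)^j a_j is the inverse of sum_i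
S_i. (The source works in formal power series; the identity involves only polynomials.) -/
theorem result (a : ℕ) (ha : 0 < a) :
    let P : (MvPolynomial (Fin a) ℤ)[X] := ∏ i : Fin a, (X - C (MvPolynomial.X i))
    let coef : ℤ → MvPolynomial (Fin a) ℤ := fun j =>
      if j < 0 then 0 else ((X : (MvPolynomial (Fin a) ℤ)[X]) ^ (a - 1 + j.toNat) %ₘ P).coeff (a - 1)
    coef 0 = 1 ∧ ∀ j : ℕ, 0 < j →
      (∑ i ∈ Finset.range (a + 1), (-1 : MvPolynomial (Fin a) ℤ) ^ i * MvPolynomial.esymm (Fin a) ℤ i *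
        coef ((j : ℤ) - i)) = 0 := by
  intro P coef
  have hPm : P.Monic := monic_prod_of_monic _ _ fun i _ => monic_X_sub_C _
  have hPd : P.natDegree = a := by
    rw [natDegree_prod_of_monic _ _ fun i _ => monic_X_sub_C _]; simp
  have hlow : ∀ m < a, ((X : (MvPolynomial (Fin a) ℤ)[X]) ^ m) %ₘ P = X ^ m := fun m hm =>
    (modByMonic_eq_self_iff hPm).mpr (by
      rw [degree_X_pow, degree_eq_natDegree hPm.ne_zero, hPd]; exact_mod_cast hm)
  refine ⟨?_, fun j hj => ?_⟩
  · simp [coef, hlow (a - 1) (by omega)]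
  have hP : P = ∑ i ∈ Finset.range (a + 1), (-1 : (MvPolynomial (Fin a) ℤ)[X]) ^ i *
      (C (MvPolynomial.esymm (Fin a) ℤ i) * X ^ (a - i)) := by
    have h := Multiset.prod_X_sub_X_eq_sum_esymm
      ((Finset.univ : Finset (Fin a)).val.map (MvPolynomial.X : Fin a → MvPolynomial (Fin a) ℤ))
    simp only [Multiset.map_map, Multiset.card_map] at h
    simp only [MvPolynomial.esymm_eq_multiset_esymm]
    simpa [P, Finset.prod, Function.comp_def] using h
  have h0 : (((X : (MvPolynomial (Fin a) ℤ)[X]) ^ (j - 1) * P) %ₘ P).coeff (a - 1) = 0 := by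
    rw [(modByMonic_eq_zero_iff_dvd hPm).mpr (dvd_mul_left _ _), coeff_zero]
  conv at h0 => lhs; arg 1; arg 1; rw [hP]
  rw [Finset.mul_sum, ← modByMonicHom_apply, map_sum, finset_sum_coeff] at h0
  rw [← h0]
  refine Finset.sum_congr rfl fun i hi => ?_
  have hi' : i ≤ a := by simpa [Nat.lt_succ_iff] using hi
  have e1 : (X : (MvPolynomial (Fin a) ℤ)[X]) ^ (j - 1) *
      ((-1) ^ i * (C (MvPolynomial.esymm (Fin a) ℤ i) * X ^ (a - i))) =
      ((-1 : MvPolynomial (Fin a) ℤ) ^ i * MvPolynomial.esymm (Fin a) ℤ i) • X ^ (j - 1 + (a - i)) := by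
    rw [smul_eq_C_mul, pow_add]
    simp only [map_mul, map_pow, map_neg, map_one]
    ring
  rw [e1, map_smul, modByMonicHom_apply, coeff_smul, smul_eq_mul]
  congr 1
  simp only [coef]
  split_ifs with hneg
  · rw [hlow _ (by omega), coeff_X_pow, if_neg (by omega)]
  · congr 3
    omega

end Groth.Agent.S3214
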