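import Groth.Statements.S3243
import Groth.Agent.H05EGA4.EtTors.Vanish

set_option autoImplicit false
universe u
open CategoryTheory AlgebraicGeometry
open Dix

namespace Groth.Agent.S3243

/-- Let X be quasi-compact and quasi-separated, x a point of X and M a torsion-free abelian group, M_x
the constant sheaf on Spec κ(x). Then H¹(X_ét, i_{x*} M_x) = 0. -/
theorem result (X : Scheme.{u}) [CompactSpace X] [QuasiSeparatedSpace X] (x : X) (M : Type) [AddCommGroup M] [IsAddTorsionFree M] : Subsingleton (EtCoh.H X ((Dix.skyPush X x).obj (EtCoh.const (Spec (X.residueField x)) M)) 1) := by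
  exact Groth.Agent.H05EGA4.EtTors.subsingleton_H1_skyPush_const X x M

end Groth.Agent.S3243
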