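import Groth.Statements.S3253
import Groth.Agent.H28Vert.Sub

set_option autoImplicit false
universe u
open AlgebraicGeometry CategoryTheory CategoryTheory.Limits
open ArSurf

namespace Groth.Agent.S3253

/-- Let R be a discrete valuation ring, X an arithmetic surface over Spec R (regular, integral,
2-dimensional, flat and projective), Γ_1, …, Γ_r vertical prime divisors of X over the closed point
(integral curves over the residue field, closed in X) and L_1, …, L_r invertible O_X-modules with
L_j ⊗ I(Γ_j) ≅ O_X (L_j = O_X(Γ_j)). Then for all integers a_1, …, a_r, Σ_{i,j} a_i a_j (Γ_i · Γ_j)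
≤ 0, where Γ_i · Γ_j = deg over the residue field of L_j restricted to Γ_i. -/
theorem result (R : Type u) [CommRing R] [IsDomain R] [IsDiscreteValuationRing R]
    (X : Over (Spec (CommRingCat.of R))) (hX : ArSurf.IsArithSurface R X)
    {r : ℕ} (Γ : Fin r → ArSurf.VertComp R X) (L : Fin r → X.left.Modules)
    (hL : ∀ j, ClSub.IsInverseOf (L j) (ClSub.idealMod ((Γ j).ι.ker))) (a : Fin r → ℤ) :
    (Finset.univ : Finset (Fin r × Fin r)).sum
      (fun p => a p.1 * a p.2 * ArSurf.inter R X (L p.2) (Γ p.1)) ≤ 0 := by
  haveI : IsProper X.hom := H28Vert.isProper_of_isArithSurface hX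
  haveI : Flat X.hom := hX.2.2.2.1
  haveI : IsIntegral X.left := hX.2.1
  exact H28Vert.form_nonpos_of_vertical Γ (H28Vert.dim_fibre_le hX.2.2.1) L hL a

end Groth.Agent.S3253
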