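import Groth.Statements.S3254
import Groth.Agent.H28RR.CastMain
import Groth.Agent.H05EGA4.DimFibre
import Groth.Agent.H1CAlg.Serre

set_option autoImplicit false
set_option linter.style.haveILetI false
set_option backward.isDefEq.respectTransparency.types false
set_option maxHeartbeats 1600000
universe u
open AlgebraicGeometry CategoryTheory CategoryTheory.Limits
open Groth.Agent Groth.Agent.H28RR
open ArSurf

namespace Groth.Agent.S3254

/-- Castelnuovo's criterion, existence of the contraction: let R be a discrete valuation ring with
residue field k, X an arithmetic surface over Spec R, and E a vertical prime divisor of X over the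
closed point such that, for some finite field extension k' of k, E is k-isomorphic to the projective
line over k', and E · E = −[k' : k], where E · E = deg_k(L|_E) for an invertible L with L ⊗ I(E) ≅
O_X. Then there are an arithmetic surface Y over Spec R, an R-morphism f : X → Y and a closed point
y of Y such that f maps E onto y, the inverse image of Y minus y is exactly X minus E, and f
restricts to an isomorphism from X minus E onto Y minus y. -/
theorem result (R : Type u) [CommRing R] [IsDomain R] [IsDiscreteValuationRing R]
    (X : Over (Spec (CommRingCat.of R))) (hX : ArSurf.IsArithSurface R X) (E : ArSurf.VertComp R X)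
    (k' : Type u) [Field k'] [Algebra (IsLocalRing.ResidueField R) k'] [FiniteDimensional (IsLocalRing.ResidueField R) k']
    (e : E.curve.left ≅ CohB1.ProjSpace 1 k')
    (he : e.hom ≫ (CohB1.ProjSpace 1 k' ↘ Spec (CommRingCat.of k')) ≫
      Spec.map (CommRingCat.ofHom (algebraMap (IsLocalRing.ResidueField R) k')) = E.curve.hom)
    (L : X.left.Modules) (hL : ClSub.IsInverseOf L (ClSub.idealMod E.ι.ker))
    (hself : ArSurf.inter R X L E = -(Module.finrank (IsLocalRing.ResidueField R) k' : ℤ)) :
    ∃ (Y : Over (Spec (CommRingCat.of R))) (f : X ⟶ Y) (y : Y.left) (hy : IsClosed ({y} : Set Y.left)),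
      ArSurf.IsArithSurface R Y ∧ Set.range (E.ι ≫ f.left) = {y} ∧
      (f.left ⁻¹ᵁ (⟨{y}ᶜ, hy.isOpen_compl⟩ : Y.left.Opens) : Set X.left) = (Set.range E.ι)ᶜ ∧
      IsIso (f.left ∣_ (⟨{y}ᶜ, hy.isOpen_compl⟩ : Y.left.Opens)) := by
  obtain ⟨Y, f, y, hy, hint, hnor, hdim, hflat, hproj, hr, hpre, hiso, hcot, hreg⟩ :=
    CastMain.exists_contraction R X hX E k' e he L hL 1 le_rfl (by rw [hself]; simp)
  haveI := hint
  obtain ⟨n, i, hi, hiY⟩ := hproj
  haveI := hi
  haveI : IsProper Y.hom := by rw [← hiY]; infer_instance
  haveI : IsLocallyNoetherian Y.left := LocallyOfFiniteType.isLocallyNoetherian Y.hom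
  refine ⟨Y, f, y, hy, ⟨fun q => ?_, hint, hdim, hflat, n, i, hi, hiY⟩, hr, hpre, hiso⟩
  rcases eq_or_ne q y with rfl | h
  swap
  · exact hreg q h
  rw [IsRegularLocalRing.iff_finrank_cotangentSpace]
  haveI := hnor q
  by_cases h1 : ringKrullDim (Y.left.presheaf.stalk q) ≤ 1
  · haveI := H1CAlg.isRegularLocalRing_of_isIntegrallyClosed h1
    exact (IsRegularLocalRing.iff_finrank_cotangentSpace _).1 inferInstance
  · rw [hcot]
    have h2 : ringKrullDim (Y.left.presheaf.stalk q) ≤ 2 := (H05EGA4.DimFibre.stalkDim_le_top q).trans hdim.le
    generalize ringKrullDim (Y.left.presheaf.stalk q) = r at h1 h2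
    induction r using WithBot.recBotCoe with
    | bot => exact absurd bot_le h1
    | coe r =>
      induction r using ENat.recTopCoe with
      | top => exact absurd h2 (by decide)
      | coe r =>
        have h1' : ¬ r ≤ 1 := fun h => h1 (by exact_mod_cast h)
        have h2' : r ≤ 2 := by
          norm_cast at h2
          exact Nat.cast_le.1 (WithBot.coe_le_coe.1 h2)
        obtain rfl : r = 2 := by omega
        rfl

end Groth.Agent.S3254
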