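import Groth.Statements.S3256
import Groth.Agent.H28Contr.RelMin

set_option autoImplicit false
universe u
open AlgebraicGeometry CategoryTheory CategoryTheory.Limits
open ArSurf

namespace Groth.Agent.S3256

/-- Let R be a Dedekind domain and X an arithmetic surface over Spec R. Then there are a relatively
minimal arithmetic surface Y over Spec R and an R-morphism X -> Y inducing an isomorphism on generic
fibres. -/
theorem result {R : Type u} [CommRing R] [IsDedekindDomain R]
    (X : Over (Spec (CommRingCat.of R))) (hX : ArSurf.IsArithSurface R X) :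
    ∃ (Y : Over (Spec (CommRingCat.of R))) (f : X ⟶ Y), ArSurf.IsArithSurface R Y ∧
      Neron.IsRelMinimalRegularModel R Y ∧ IsIso ((Neron.genericFibre R).map f) := by
  classical
  obtain ⟨hreg, hint, hdim, hflat, hproj⟩ := hX
  haveI := hint
  haveI := hflat
  have hP : ∀ Z : Over (Spec (CommRingCat.of R)), Neron.IsProjectiveOver R Z → IsProper Z.hom := by
    rintro Z ⟨n, i, hi, hiZ⟩
    haveI := hi
    haveI : IsProper (CohB1.ProjSpaceOver.toBase n (Spec (CommRingCat.of R))) := H27Weil.isProper_toBase n _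
    rw [← hiZ]; infer_instance
  by_cases hR : IsField R
  · refine ⟨X, 𝟙 X, ⟨hreg, hint, hdim, hflat, hproj⟩, ⟨hreg, hproj, hflat, fun Y _ _ _ g hg => ?_⟩, by infer_instance⟩
    haveI : IsIso (CommRingCat.ofHom (algebraMap R (FractionRing R))) := by
      rw [ConcreteCategory.isIso_iff_bijective]
      exact IsField.localization_map_bijective (M := nonZeroDivisors R) (fun h => zero_notMem_nonZeroDivisors h) hR
    haveI : IsIso (Neron.genPt R) :=
      inferInstanceAs (IsIso (Spec.map (CommRingCat.ofHom (algebraMap R (FractionRing R)))))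
    let φ := ((Neron.genericFibre R).map g).left
    haveI := hg
    haveI : IsIso φ := inferInstanceAs (IsIso ((Over.forget _).map ((Neron.genericFibre R).map g)))
    have hφ : φ ≫ pullback.fst Y.hom (Neron.genPt R) = pullback.fst X.hom (Neron.genPt R) ≫ g.left :=
      pullback.lift_fst _ _ _
    haveI : IsIso (pullback.fst X.hom (Neron.genPt R) ≫ g.left) := hφ ▸ inferInstance
    haveI : IsIso g.left := IsIso.of_isIso_comp_left (pullback.fst X.hom (Neron.genPt R)) g.left
    haveI : IsIso ((Over.forget _).map g) := ‹IsIso g.left›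
    exact isIso_of_reflects_iso g (Over.forget _)
  haveI := hP X hproj
  haveI : IsLocallyNoetherian X.left := LocallyOfFiniteType.isLocallyNoetherian X.hom
  obtain ⟨T, hTfin, hT⟩ := H28Contr.exists_finite_contracted hR X (H29Ref.isNormalScheme_of_regular hreg) hdim
  -- the candidates
  let Cand : Set ℕ := {n | ∃ (Y : Over (Spec (CommRingCat.of R))) (f : X ⟶ Y),
    (∀ y : Y.left, IsRegularLocalRing (Y.left.presheaf.stalk y)) ∧ Neron.IsProjectiveOver R Y ∧ Flat Y.hom ∧
      IsIso ((Neron.genericFibre R).map f) ∧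
      n = {ξ ∈ T | ringKrullDim (X.left.presheaf.stalk ξ) ≤ 1 ∧
        ¬ ringKrullDim (Y.left.presheaf.stalk (f.left ξ)) ≤ 1}.ncard}
  have hne : Cand.Nonempty := ⟨_, X, 𝟙 X, hreg, hproj, hflat, inferInstance, rfl⟩
  have hbdd : BddAbove Cand := ⟨T.ncard, fun n ⟨Y, f, _, _, _, _, hn⟩ => hn.le.trans (Set.ncard_le_ncard (Set.sep_subset _ _) hTfin)⟩
  obtain ⟨Y, f, hYreg, hYproj, hYflat, hfiso, hn⟩ := Nat.sSup_mem hne hbdd
  have props : ∀ (Z : Over (Spec (CommRingCat.of R))) (e : X ⟶ Z),
      (∀ z : Z.left, IsRegularLocalRing (Z.left.presheaf.stalk z)) → Neron.IsProjectiveOver R Z → Flat Z.hom →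
      IsIso ((Neron.genericFibre R).map e) →
      ∃ _ : IsIntegral Z.left, e.left (genericPoint X.left) = genericPoint Z.left ∧
        Function.Bijective (e.left.stalkMap (genericPoint X.left)) ∧ Function.Surjective e.left ∧
        topologicalKrullDim Z.left ≤ 2 := by
    intro Z e hZr hZp hZf he
    haveI := hP Z hZp
    haveI := hZf
    obtain ⟨hZi, hgen, hbij, -⟩ := H28Vert.birational_of_genericFibre hZr e he
    haveI : IsProper e.left := by
      haveI : IsProper (e.left ≫ Z.hom) := by rw [Over.w e]; infer_instance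
      exact IsProper.of_comp e.left Z.hom
    haveI : IsDominant e.left := H10ZMT.isDominant_of_apply_genericPoint e.left hgen
    have hs : Function.Surjective e.left := fun t => by
      have h1 : Set.range e.left = Set.univ := by
        rw [← e.left.isClosedMap.isClosed_range.closure_eq]
        exact e.left.denseRange.closure_range
      exact h1.ge (Set.mem_univ t)
    exact ⟨hZi, hgen, hbij, hs, (H17.topologicalKrullDim_le_of_specializingMap e.left
      e.left.isClosedMap.specializingMap hs).trans hdim.le⟩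
  obtain ⟨hYi, hYgen, hYbij, hYsurj, hYdim⟩ := props Y f hYreg hYproj hYflat hfiso
  haveI := hYi
  haveI := hP Y hYproj
  haveI := hYflat
  haveI : IsLocallyNoetherian Y.left := LocallyOfFiniteType.isLocallyNoetherian Y.hom
  haveI : LocallyOfFiniteType f.left := by
    haveI : LocallyOfFiniteType (f.left ≫ Y.hom) := by rw [Over.w f]; infer_instance
    exact locallyOfFiniteType_of_comp f.left Y.hom
  have hYdim' : topologicalKrullDim Y.left = 2 := le_antisymm hYdim <| by
    rw [← hdim]
    exact H28Vert.topologicalKrullDim_le_of_stalks _ fun x =>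
      (H28Contr.stalk_dim_le_of_birational f.left (H28Contr.residueFieldMap_bijective f.left hYbij) x).trans
        (H28Contr.ringKrullDim_stalk_le_top _)
  refine ⟨Y, f, ⟨hYreg, hYi, hYdim', hYflat, hYproj⟩, ⟨hYreg, hYproj, hYflat, fun Y' hY' hY'p hY'f g hg => ?_⟩, hfiso⟩
  have hfg : IsIso ((Neron.genericFibre R).map (f ≫ g)) := by
    haveI := hfiso
    haveI := hg
    rw [Functor.map_comp]; infer_instance
  obtain ⟨hY'i, -, -, -, hY'dim⟩ := props Y' (f ≫ g) hY' hY'p hY'f hfg
  haveI := hY'i
  haveI := hP Y' hY'p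
  haveI := hY'f
  haveI : IsLocallyNoetherian Y'.left := LocallyOfFiniteType.isLocallyNoetherian Y'.hom
  haveI : LocallyOfFiniteType g.left := by
    haveI : LocallyOfFiniteType (g.left ≫ Y'.hom) := by rw [Over.w g]; infer_instance
    exact locallyOfFiniteType_of_comp g.left Y'.hom
  obtain ⟨_, hggen, hgbij, -⟩ := H28Vert.birational_of_genericFibre hY' g hg
  refine H28Contr.isIso_of_no_contracted hYdim hY' g hggen hgbij fun z hz => ?_
  by_contra hbad
  obtain ⟨ξ, rfl⟩ := hYsurj z
  have hξ : ringKrullDim (X.left.presheaf.stalk ξ) ≤ 1 := by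
    by_contra h1
    haveI : IsProper f.left := by
      haveI : IsProper (f.left ≫ Y.hom) := by rw [Over.w f]; infer_instance
      exact IsProper.of_comp f.left Y.hom
    have hc := f.left.isClosedMap _ (H28Contr.isClosed_of_dim_two hdim.le h1)
    rw [Set.image_singleton] at hc
    have := (H28Contr.stalk_dim_le_of_birational f.left (H28Contr.residueFieldMap_bijective f.left hYbij) ξ).trans hz
    exact h1 this
  have hmem : ξ ∈ T := hT Y' (f ≫ g) hY' (hP Y' hY'p) hY'f hfg hY'dim ξ hξ hbad
  let S₁ : Set X.left := {ζ ∈ T | ringKrullDim (X.left.presheaf.stalk ζ) ≤ 1 ∧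
    ¬ ringKrullDim (Y.left.presheaf.stalk (f.left ζ)) ≤ 1}
  let S₂ : Set X.left := {ζ ∈ T | ringKrullDim (X.left.presheaf.stalk ζ) ≤ 1 ∧
    ¬ ringKrullDim (Y'.left.presheaf.stalk ((f ≫ g).left ζ)) ≤ 1}
  have hlt : S₁ ⊂ S₂ := by
    refine Set.ssubset_iff_subset_ne.2 ⟨fun ζ ⟨a, b, c⟩ => ⟨a, b, fun d => c ?_⟩, fun e => ?_⟩
    · exact (H28Contr.stalk_dim_le_of_birational g.left (H28Contr.residueFieldMap_bijective g.left hgbij) _).trans d
    · exact ((e.symm ▸ (⟨hmem, hξ, hbad⟩ : ξ ∈ S₂) : ξ ∈ S₁)).2.2 hz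
  have h2 : S₂.ncard ≤ sSup Cand := le_csSup hbdd ⟨Y', f ≫ g, hY', hY'p, hY'f, hfg, rfl⟩
  have h1 : S₁.ncard = sSup Cand := hn.symm
  exact (Set.ncard_lt_ncard hlt (hTfin.subset (Set.sep_subset _ _))).not_ge (h1 ▸ h2)

end Groth.Agent.S3256
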