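import Groth.Statements.S3259
import Groth.Agent.H17.LocusBC
import Groth.Agent.H27Weil.Geometry
import Groth.Agent.H12AlgSp.SchImage
import Mathlib

set_option autoImplicit false
set_option linter.style.haveILetI false
set_option backward.isDefEq.respectTransparency.types false
set_option maxHeartbeats 1600000
universe u
open Groth.Agent
open AlgebraicGeometry CategoryTheory CategoryTheory.Limits
open ArSurf

namespace Groth.Agent.S3259

/-- Let R be a Dedekind domain with fraction field K and C a smooth projective curve over K (smooth,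
proper, of dimension 1, admitting a closed immersion into some P^n_K). Then there are a non-empty
open subscheme U of Spec R containing the generic point and a smooth proper morphism 𝒞 -> U whose
fibre over the generic point is K-isomorphic to C. In particular C has good reduction at every
closed point of U, that is, at all but finitely many closed points. (Stated in the form the
published proof gives.) -/
theorem result {R : Type u} [CommRing R] [IsDedekindDomain R]
    (C : Over (Spec (CommRingCat.of (FractionRing R)))) [Smooth C.hom] [IsProper C.hom]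
    (hdim : topologicalKrullDim C.left = 1) (hproj : Neron.IsProjectiveOver (FractionRing R) C) :
    ∃ (U : (Spec (CommRingCat.of R)).Opens) (ξ : Spec (CommRingCat.of (FractionRing R)) ⟶ (U : Scheme.{u}))
      (𝒞 : Scheme.{u}) (π : 𝒞 ⟶ (U : Scheme.{u})),
      ξ ≫ U.ι = Neron.genPt R ∧ Smooth π ∧ IsProper π ∧
      Nonempty (Over.mk (pullback.snd π ξ) ≅ C) := by
  obtain ⟨n, i, hi, hiC⟩ := hproj
  haveI := hi
  haveI : Flat (Neron.genPt R) := by
    rw [Neron.genPt, HasRingHomProperty.Spec_iff (P := @Flat)]
    exact RingHom.flat_algebraMap_iff.2 (IsLocalization.flat (FractionRing R) (nonZeroDivisors R))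
  haveI : Mono (Neron.genPt R) := inferInstanceAs (Mono (Scheme.Spec.map (CommRingCat.ofHom (algebraMap R (FractionRing R))).op))
  let S := Spec (CommRingCat.of R)
  let pR := CohB1.ProjSpaceOver.toBase n S
  let pK := CohB1.ProjSpaceOver.toBase n (Spec (CommRingCat.of (FractionRing R)))
  let q : CohB1.ProjSpaceOver n (Spec (CommRingCat.of (FractionRing R))) ⟶ CohB1.ProjSpaceOver n S :=
    pullback.lift (pullback.fst _ _) (pK ≫ Neron.genPt R)
      (by
        rw [Category.assoc]
        exact pullback.condition.trans (congrArg (pK ≫ ·) (specULiftZIsTerminal.hom_ext _ _)))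
  have hq : IsPullback q pK pR (Neron.genPt R) := by
    refine IsPullback.flip (IsPullback.of_bot ?_ ?_ (IsPullback.of_hasPullback
      (CohB1.ProjSpace.toSpec n (ULift.{u} ℤ)) (specULiftZIsTerminal.from S)).flip)
    · have h := (IsPullback.of_hasPullback (CohB1.ProjSpace.toSpec n (ULift.{u} ℤ))
        (specULiftZIsTerminal.from (Spec (CommRingCat.of (FractionRing R))))).flip
      rw [show q ≫ pullback.fst _ _ = pullback.fst _ _ from pullback.lift_fst _ _ _,
        show Neron.genPt R ≫ specULiftZIsTerminal.from S = specULiftZIsTerminal.from _ from specULiftZIsTerminal.hom_ext _ _]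
      exact h
    · exact (pullback.lift_snd _ _ _).symm
  haveI : Flat q := MorphismProperty.of_isPullback hq.flip ‹Flat (Neron.genPt R)›
  haveI : Mono q := MorphismProperty.of_isPullback (P := MorphismProperty.monomorphisms Scheme) hq.flip
    ‹Mono (Neron.genPt R)›
  haveI : IsNoetherianRing R := inferInstance
  haveI : IsProper pR := H27Weil.isProper_toBase n S
  let g := i ≫ q
  haveI : QuasiCompact g := by
    haveI : QuasiCompact q := MorphismProperty.of_isPullback hq.flip (inferInstance : QuasiCompact (Neron.genPt R))
    infer_instance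
  have sq : IsPullback i (𝟙 C.left) q g := by
    refine ⟨⟨by simp [g]⟩, ⟨PullbackCone.isLimitAux' _ fun s => ⟨s.snd, ?_, Category.comp_id _, fun {m} _ h2 => ?_⟩⟩⟩
    · show s.snd ≫ i = s.fst
      rw [← cancel_mono q, Category.assoc]
      exact s.condition.symm
    · exact (Category.comp_id m).symm.trans h2
  have hker : g.ker.comap q = i.ker := H12AlgSp.comap_ker_of_flat sq
  let z := g.ker.subschemeι
  let c := pullback.fst q z
  have hc : i.ker = c.ker := by
    rw [Scheme.IdealSheafData.ker_fst_of_isClosedImmersion, Scheme.IdealSheafData.ker_subschemeι, hker]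
  haveI := IsClosedImmersion.isIso_lift c i hc.symm
  let e : C.left ≅ pullback q z := asIso (IsClosedImmersion.lift c i hc.symm.le)
  have hec : e.hom ≫ c = i := IsClosedImmersion.lift_fac _ _ _
  let f := z ≫ pR
  -- the generic fibre of the closure is the given curve
  have hbig : IsPullback (e.hom ≫ pullback.snd q z) C.hom f (Neron.genPt R) := by
    have h1 : IsPullback (e.hom ≫ pullback.snd q z) i z q :=
      (IsPullback.of_hasPullback q z).flip.of_iso e.symm (Iso.refl _) (Iso.refl _) (Iso.refl _)
        (by simp) (by simpa [c] using ((Iso.inv_comp_eq e).2 hec.symm).symm) (by simp) (by simp)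
    have h2 := h1.paste_vert hq
    rwa [show i ≫ pK = C.hom from hiC] at h2
  haveI : IsLocallyNoetherian S := inferInstance
  haveI : IsProper f := inferInstanceAs (IsProper (z ≫ pR))
  haveI : LocallyOfFinitePresentation f := inferInstance
  haveI : LocallyOfFinitePresentation C.hom := inferInstance
  let Cl : Set S := f.base '' (f.smoothLocus : Set _)ᶜ
  have hCl : IsClosed Cl := f.isClosedMap _ f.smoothLocus.2.isClosed_compl
  let U : S.Opens := ⟨Clᶜ, hCl.isOpen_compl⟩
  have hU : ∀ t, Neron.genPt R t ∈ U := by
    rintro t ⟨w, hw, hwt⟩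
    obtain ⟨x, hx, -⟩ := Scheme.Pullback.exists_preimage_pullback w t hwt
    refine hw ?_
    have h1 := H17.LocusBC.mem_smoothLocus_of_flat_baseChange hbig (hbig.isoPullback.inv x)
      (by rw [Scheme.Hom.smoothLocus_eq_top]; trivial)
    rw [← Scheme.Hom.comp_apply, IsPullback.isoPullback_inv_fst, hx] at h1
    exact h1
  let ξ : Spec (CommRingCat.of (FractionRing R)) ⟶ U := IsOpenImmersion.lift U.ι (Neron.genPt R) (by
    rintro _ ⟨t, rfl⟩
    rw [Scheme.Opens.range_ι]
    exact hU t)
  have hξ : ξ ≫ U.ι = Neron.genPt R := IsOpenImmersion.lift_fac _ _ _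
  refine ⟨U, ξ, (f ⁻¹ᵁ U : Scheme.{u}), f ∣_ U, hξ, ?_, inferInstance, ⟨?_⟩⟩
  · have h1 : Smooth ((f ∣_ U) ≫ U.ι) := by
      rw [morphismRestrict_ι]
      have h2 := H17.LocusBC.smooth_restrict_smoothLocus f
      have hle : f ⁻¹ᵁ U ≤ f.smoothLocus := fun w hw => by
        by_contra h
        exact hw ⟨w, h, rfl⟩
      haveI := h2
      rw [← Scheme.homOfLE_ι _ hle, Category.assoc]
      infer_instance
    exact MorphismProperty.of_postcomp @Smooth (W' := @IsOpenImmersion) (f ∣_ U) U.ι inferInstance h1
  · have h1 : IsPullback (pullback.fst (f ∣_ U) ξ ≫ (f ⁻¹ᵁ U).ι) (pullback.snd (f ∣_ U) ξ) f (Neron.genPt R) := by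
      rw [← hξ]
      exact ((IsPullback.of_hasPullback (f ∣_ U) ξ).flip.paste_vert (isPullback_morphismRestrict f U)).flip
    exact Over.isoMk (h1.isoPullback ≪≫ hbig.isoPullback.symm)
      (by simp [IsPullback.isoPullback_inv_snd])

end Groth.Agent.S3259
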