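import Groth.Statements.S3260
import Groth.Agent.H28RR.EtaleMin

set_option autoImplicit false
set_option backward.isDefEq.respectTransparency.types false
universe u
open AlgebraicGeometry CategoryTheory CategoryTheory.Limits
open ArSurf
open Groth.Agent

namespace Groth.Agent.S3260

/-- Let R -> R' be an étale homomorphism of Dedekind domains with Spec R' -> Spec R surjective, X a
relatively minimal arithmetic surface over Spec R whose generic fibre has arithmetic genus ≥ 1
(χ_K(O) ≤ 0), and suppose X' = X ×_{Spec R} Spec R' is integral. Then X' is a relatively minimal
arithmetic surface over Spec R'. (The source states 'X minimal iff X ×_S S' minimal' for S' -> S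
étale surjective or a completion; only the passage of relative minimality up to X' in the étale case
is stated here.) -/
theorem result {R R' : Type u} [CommRing R] [IsDedekindDomain R] [CommRing R'] [IsDedekindDomain R']
    [Algebra R R'] [Algebra.Etale R R'] (hsurj : Function.Surjective (PrimeSpectrum.comap (algebraMap R R')))
    (X : Over (Spec (CommRingCat.of R))) (hX : ArSurf.IsArithSurface R X) (hmin : Neron.IsRelMinimalRegularModel R X)
    (hg : FGA.eulerCharLE (FractionRing R) ((Neron.genericFibre R).obj X).left (Coh.structureModule _) 1 ≤ 0)
    [IsIntegral ((Over.pullback (Spec.map (CommRingCat.ofHom (algebraMap R R')))).obj X).left] :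
    ArSurf.IsArithSurface R' ((Over.pullback (Spec.map (CommRingCat.ofHom (algebraMap R R')))).obj X) ∧
      Neron.IsRelMinimalRegularModel R' ((Over.pullback (Spec.map (CommRingCat.ofHom (algebraMap R R')))).obj X) := by
  exact H28RR.EtaleMin.isRelMinimal_baseChange hsurj X hX hmin hg _ (pullback.fst X.hom (Spec.map (CommRingCat.ofHom (algebraMap R R')))) (IsPullback.of_hasPullback _ _)

end Groth.Agent.S3260
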