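import Groth.Statements.S3286
import Groth.Agent.H27Lambda.Basic

set_option autoImplicit false
universe u
open Finset
open LambdaRing

namespace Groth.Agent.S3286

/-- In a λ-ring with positive structure having the splitting property, ψ^i (ψ^j (x)) = ψ^(i j) (x) for
all i, j and x. -/
theorem result (K : Type u) [CommRing K] [LambdaRing.LambdaOps K] (P : LambdaRing.PosStructure K) (hK : LambdaRing.HasSplitting K P) (i j : ℕ) (x : K) :
    LambdaRing.adams P i (LambdaRing.adams P j x) = LambdaRing.adams P (i * j) x := by
  have key : ∀ e ∈ P.pos, adams P i (adams P j e) = adams P (i * j) e := by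
    intro e he
    obtain ⟨L, _, _, Q, φ, hφ, hs⟩ := H27Lambda.exists_split hK [e] (by simp [he])
    obtain ⟨s, hs1, hs2⟩ := hs e (by simp)
    apply hφ.injective
    rw [H27Lambda.map_adams hφ.isLambdaHom hφ.aug_comp, H27Lambda.map_adams hφ.isLambdaHom hφ.aug_comp,
      H27Lambda.map_adams hφ.isLambdaHom hφ.aug_comp, ← hs2]
    simp only [← H27Lambda.adamsHom_apply]
    rw [map_multiset_sum, map_multiset_sum, map_multiset_sum, Multiset.map_map]
    refine congrArg Multiset.sum (Multiset.map_congr rfl fun u hu => ?_)
    simp only [Function.comp_apply, H27Lambda.adamsHom_apply]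
    rw [H27Lambda.adams_line Q (hs1 u hu), H27Lambda.adams_line Q (H27Lambda.isLine_pow (hs1 u hu) j),
      H27Lambda.adams_line Q (hs1 u hu), ← pow_mul, mul_comm i j]
  obtain ⟨a, b, ha, hb, rfl⟩ := P.exists_sub x
  simp only [← H27Lambda.adamsHom_apply] at key ⊢
  rw [map_sub, map_sub, map_sub, key a ha, key b hb]

end Groth.Agent.S3286
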