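import Groth.Statements.S3288
import Groth.Agent.H27Lambda.Basic

set_option autoImplicit false
universe u
open Finset
open LambdaRing

namespace Groth.Agent.S3288

/-- In a λ-ring with positive structure having the splitting property, for a positive element e the
augmentation of λ^i(e) is the binomial coefficient C(ε(e), i). -/
theorem result (K : Type u) [CommRing K] [LambdaRing.LambdaOps K] (P : LambdaRing.PosStructure K) (hK : LambdaRing.HasSplitting K P) (e : K) (he : e ∈ P.pos)
    (i : ℕ) : P.aug (LambdaRing.LambdaOps.lam i e) = ((P.aug e).toNat.choose i : ℤ) := by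
  obtain ⟨L, _, _, Q, φ, hφ, hs⟩ := H27Lambda.exists_split hK [e] (by simp [he])
  obtain ⟨s, hs1, hs2⟩ := hs e (by simp)
  rw [← hφ.aug_comp, hφ.isLambdaHom, ← hs2]
  have hn : (P.aug e).toNat = Multiset.card s := by
    rw [← hφ.aug_comp, ← hs2, H27Lambda.aug_sum_lines hs1, Int.toNat_natCast]
  rw [hn, ← H27Lambda.coeff_lamSeries, ← PowerSeries.coeff_map, H27Lambda.lamSeries_multiset_sum,
    map_multiset_prod, Multiset.map_map]
  rw [Multiset.map_congr rfl (g := fun _ => (((1 + Polynomial.X : Polynomial ℤ)) : PowerSeries ℤ))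
    (fun u hu => by
      rw [Function.comp_apply, H27Lambda.lamSeries_of_linear
        (H27Lambda.lam_eq_zero_of_line (hs1 u hu))]
      simp [(hs1 u hu).2])]
  rw [Multiset.map_const', Multiset.prod_replicate, ← Polynomial.coe_pow, Polynomial.coeff_coe,
    Polynomial.coeff_one_add_X_pow]

end Groth.Agent.S3288
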