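import Groth.Statements.S3296
import Groth.Agent.H27Lambda.Eigen
import Groth.Agent.S3286

set_option autoImplicit false
universe u
open Finset
open TensorProduct
open LambdaRing

namespace Groth.Agent.S3296

/-- Let K be a λ-ring with positive structure having the splitting property, whose γ-filtration
satisfies F^(d+1) K = 0. For j ≥ 2 let Ψ_j be the ℚ-linear endomorphism of ℚ ⊗ K induced by ψ^j.
Then ℚ ⊗ K is the sum of the eigenspaces of Ψ_j for the eigenvalues j^m, 0 ≤ m ≤ d, and the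
eigenspace for j^m does not depend on j. -/
theorem result (K : Type u) [CommRing K] [LambdaRing.LambdaOps K] (P : LambdaRing.PosStructure K) (hK : LambdaRing.HasSplitting K P) (d : ℕ)
    (hd : LambdaRing.gammaFiltration P (d + 1) = ⊥)
    (j l : ℕ) (hj : 2 ≤ j) (hl : 2 ≤ l)
    (Ψj Ψl : ℚ ⊗[ℤ] K →ₗ[ℚ] ℚ ⊗[ℤ] K)
    (hΨj : ∀ x : K, Ψj (1 ⊗ₜ[ℤ] x) = 1 ⊗ₜ[ℤ] LambdaRing.adams P j x)
    (hΨl : ∀ x : K, Ψl (1 ⊗ₜ[ℤ] x) = 1 ⊗ₜ[ℤ] LambdaRing.adams P l x) :
    (⨆ m ∈ range (d + 1), Module.End.eigenspace Ψj ((j : ℚ) ^ m)) = ⊤ ∧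
    ∀ m : ℕ, Module.End.eigenspace Ψj ((j : ℚ) ^ m) = Module.End.eigenspace Ψl ((l : ℚ) ^ m) := by
  have hj' := H27Lambda.filAct_adams P hK d hd j hj Ψj hΨj
  have hl' := H27Lambda.filAct_adams P hK d hd l hl Ψl hΨl
  have hc : ∀ v, Ψj (Ψl v) = Ψl (Ψj v) := by
    intro v
    induction v using TensorProduct.induction_on with
    | zero => simp
    | tmul a x =>
      rw [show a ⊗ₜ[ℤ] x = a • ((1 : ℚ) ⊗ₜ[ℤ] x) by
        rw [TensorProduct.smul_tmul', smul_eq_mul, mul_one]]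
      simp only [map_smul, hΨj, hΨl]
      rw [Groth.Agent.S3286.result K P hK j l x, Groth.Agent.S3286.result K P hK l j x, mul_comm j l]
    | add a b ha hb => simp only [map_add, ha, hb]
  exact ⟨hj'.iSup_eq_top, fun m => le_antisymm (hj'.eigenspace_le_of_comm hl' hc m)
    (hl'.eigenspace_le_of_comm hj' (fun v => (hc v).symm) m)⟩

end Groth.Agent.S3296
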