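import Groth.Statements.S3315
import Groth.Agent.H28Vert.TrivGeneric

set_option autoImplicit false
universe u
open CategoryTheory CategoryTheory.Limits AlgebraicGeometry
open Models

namespace Groth.Agent.S3315

/-- Let R be a discrete valuation ring with fraction field K, C a smooth proper curve over K with H^0(C,
O_C) = K, X a regular proper model of C with generic-fibre inclusion g : C → X, Γ_1, …, Γ_n the
irreducible components of the closed fibre and L_i ⊗ I(Γ_i) ≅ O_X. If M is an invertible O_X-module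
whose pullback to C is trivial, then there are natural numbers a_i, b_i with M ⊗ L_1^{a_1} ⊗ ⋯ ⊗
L_n^{a_n} ≅ L_1^{b_1} ⊗ ⋯ ⊗ L_n^{b_n}, i.e. M ≅ O_X(Σ (b_i - a_i) Γ_i). -/
theorem result (R : Type u) [CommRing R] [IsDomain R] [IsDiscreteValuationRing R]
    (C X : Scheme.{u}) (f : C ⟶ Spec (CommRingCat.of (FractionRing R))) (p : X ⟶ Spec (CommRingCat.of R))
    (hC : Curve.IsSmoothProperCurve (FractionRing R) C f) (hH0 : IsIso f.appTop)
    (hX : Models.IsRegularProperModel R X p C f)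
    {n : ℕ} (Γ : Fin n → ArSurf.VertComp R (Over.mk p)) (hΓ : Models.IsComponentList R (Over.mk p) Γ)
    (g : C ⟶ X) (hg : IsPullback g f p (Spec.map (CommRingCat.ofHom (algebraMap R (FractionRing R)))))
    (L : Fin n → X.Modules) (hL : ∀ i, ClSub.IsInverseOf (L i) (ClSub.idealMod (Γ i).ι.ker)) (M : X.Modules) (hM : PicF.IsInvertible M)
    (htriv : Nonempty ((Scheme.Modules.pullback g).obj M ≅ Coh.structureModule C)) :
    ∃ a b : Fin n → ℕ, Nonempty (CohB1.tensorMod M (FGA.multiTwist L a) ≅ FGA.multiTwist L b) := by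
  classical
  obtain ⟨⟨hfl, hlft, -, -⟩, hp, hreg⟩ := hX
  haveI : LocallyOfFiniteType p := hlft
  haveI : IsProper p := hp
  haveI : Flat p := hfl
  haveI : IsProper (Over.mk p).hom := hp
  haveI : Flat (Over.mk p).hom := hfl
  haveI : IsLocallyNoetherian (Over.mk p).left := LocallyOfFiniteType.isLocallyNoetherian p
  haveI : CompactSpace X := QuasiCompact.compactSpace_of_compactSpace p
  haveI : QuasiSeparatedSpace X := (quasiSeparated_iff_quasiSeparatedSpace p).1 inferInstance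
  haveI : ∀ x : X, IsDomain (X.presheaf.stalk x) := fun x => (H28Vert.ufd_stalk (X := Over.mk p) hreg x).1
  haveI : IsReduced X := isReduced_of_isReduced_stalk X
  let P := Over.mk p
  obtain ⟨ϖ, hϖ⟩ := IsDiscreteValuationRing.exists_irreducible R
  haveI := H28Vert.isOpenImmersion_generic R
  haveI : IsOpenImmersion g := MorphismProperty.of_isPullback hg.flip inferInstance
  let φ : Γ(X, ⊤) := Coh.toGlobal p ϖ
  have hmem : ∀ x : X, x ∈ X.basicOpen φ ↔ IsUnit (Models.stalkHom R (Over.mk p) x ϖ) :=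
    fun x => H28Vert.mem_basicOpen_uniformizer R p ϖ x
  have hbasic : X.basicOpen φ ≤ g.opensRange := by
    intro x hx
    have h1 : p x ≠ IsLocalRing.closedPoint R := H28Vert.notMem_special_of_isUnit R p hϖ x ((hmem x).1 hx)
    obtain ⟨z, hz⟩ := H28Vert.mem_range_generic R (p x) h1
    exact H28Vert.mem_opensRange_of_isPullback hg x z hz.symm
  obtain ⟨e₀, he₀⟩ := H28Vert.exists_gen_of_trivial_pullback g M htriv
  let e : Γ(M, X.basicOpen φ) := M.presheaf.map (homOfLE hbasic).op e₀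
  have he : H11Tilde.IsGen M e := he₀.res hbasic
  haveI : M.IsQuasicoherent := (H11Ample.isCoh_of_isInvertible hM).1
  obtain ⟨N, s, hs⟩ := H10Coh.exists_pow_smul_eq_res_of_isCompact M (W := ⊤) (by simpa using isCompact_univ) φ e
  let σ := H29Fitt.homSec M s
  have hcu : IsUnit (X.presheaf.map (homOfLE (X.basicOpen_le φ)).op (φ ^ N)) := by
    rw [map_pow]
    exact (X.toRingedSpace.isUnit_res_basicOpen φ).pow N
  have hstalk : ∀ y : X, y ∈ X.basicOpen φ → IsIso ((DerSch.stalkFunctor X y).map σ) :=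
    fun y hy => H28Vert.isIso_stalk_homSec_of_res M s he hcu hs y hy
  obtain ⟨M', hM', ⟨ε⟩⟩ := H11Sym.exists_inverse hM
  let μ : M' ⟶ Coh.structureModule X := H25Euler.mulHom M' σ ≫ ε.hom
  have hμ : ∀ y : X, y ∈ X.basicOpen φ → IsIso ((DerSch.stalkFunctor X y).map μ) := fun y hy => by
    haveI := H28Vert.isIso_stalk_mulHom_of_isIso M' σ (hstalk y hy)
    show IsIso ((DerSch.stalkFunctor X y).map (H25Euler.mulHom M' σ ≫ ε.hom))
    rw [Functor.map_comp]
    infer_instance
  have hne : ∀ y, H28Vert.imGerm μ y ≠ ⊥ := fun y => H28Vert.imGerm_ne_bot R p hM' μ hϖ hμ y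
  obtain ⟨I, hI, ⟨ι⟩, hIs⟩ := H28Vert.exists_ideal_of_hom hM' μ hne
  obtain ⟨a, ha⟩ := H28Vert.exists_exponent (Z := P) hreg hΓ I hI fun y V hy hys => by
    rw [hIs]
    exact H28Vert.imGerm_eq_top μ y (hμ y ((hmem y).2 ((H28Vert.notMem_specialFibreSet_iff hϖ y).1 hys)))
  subst ha
  letI := H28Vert.picLaw X
  let q : Fin n → PicLoc.PicSet X := fun i => H28Vert.idealCls (H28Vert.isEffCartierIdeal_ker hreg hΓ i)
  have hLi : ∀ i, PicF.IsInvertible (L i) := fun i => by
    obtain ⟨e⟩ := hL i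
    exact H17.InvertibleTensor.isInvertible_of_tensor_iso (L i) _ e
  have hLq : ∀ i, PicGrp.cls (L i) (hLi i) = (q i)⁻¹ := fun i =>
    eq_inv_of_mul_eq_one_left ((PicGrp.cls_mul_cls_eq_one_iff (hLi i) _).2 (hL i))
  obtain ⟨h0, e0⟩ := H28Vert.cls_multiTwist hLi 0
  obtain ⟨ha', ea⟩ := H28Vert.cls_multiTwist hLi a
  refine ⟨0, a, (PicGrp.cls_eq_cls_iff (H11Ample.isInvertible_tensor hM h0) ha').1 ?_⟩
  have hMcls : PicGrp.cls M' hM' * PicGrp.cls M hM = 1 := (PicGrp.cls_mul_cls_eq_one_iff _ _).2 ⟨ε⟩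
  have hM'cls : PicGrp.cls M' hM' = ∏ i, q i ^ a i := by
    rw [← H28Vert.idealCls_prod Finset.univ (fun j => (Γ j).ι.ker) (fun j => H28Vert.isEffCartierIdeal_ker hreg hΓ j) a]
    exact (PicGrp.cls_eq_cls_iff hM' _).2 ⟨ι⟩
  have hmul : PicGrp.cls (CohB1.tensorMod M (FGA.multiTwist L 0)) (H11Ample.isInvertible_tensor hM h0) =
      PicGrp.cls M hM * PicGrp.cls _ h0 := Subtype.ext (PicGrp.cls_mul_cls_val hM h0).symm
  rw [hmul, e0, ea, eq_inv_of_mul_eq_one_right hMcls, hM'cls]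
  simp [hLq, inv_pow, Finset.prod_inv_distrib]

end Groth.Agent.S3315
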