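import Groth.Statements.S3318
import Groth.Agent.H28Vert.ClosedFibre

set_option autoImplicit false
universe u
open CategoryTheory CategoryTheory.Limits AlgebraicGeometry
open Models

namespace Groth.Agent.S3318

/-- In the following situation (R a discrete valuation ring, C a smooth proper curve over its fraction
field with H^0(C, O_C) = K, X a regular proper model, Γ_1, …, Γ_n the irreducible components of the
closed fibre with multiplicities m_i, L_j ⊗ I(Γ_j) ≅ O_X), for every j one has Σ_i m_i
deg_k(L_j|Γ_i) = 0: the whole closed fibre is numerically trivial. -/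
theorem result (R : Type u) [CommRing R] [IsDomain R] [IsDiscreteValuationRing R]
    (C X : Scheme.{u}) (f : C ⟶ Spec (CommRingCat.of (FractionRing R))) (p : X ⟶ Spec (CommRingCat.of R))
    (hC : Curve.IsSmoothProperCurve (FractionRing R) C f) (hH0 : IsIso f.appTop)
    (hX : Models.IsRegularProperModel R X p C f)
    {n : ℕ} (Γ : Fin n → ArSurf.VertComp R (Over.mk p)) (hΓ : Models.IsComponentList R (Over.mk p) Γ)
    (L : Fin n → X.Modules) (hL : ∀ i, ClSub.IsInverseOf (L i) (ClSub.idealMod (Γ i).ι.ker)) (j : Fin n) :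
    ∑ i, (Models.mult R (Over.mk p) (Γ i) : ℤ) * ArSurf.inter R (Over.mk p) (L j) (Γ i) = 0 := by
  obtain ⟨⟨hfl, -⟩, hp, -⟩ := hX
  haveI : IsProper (Over.mk p).hom := hp
  haveI : Flat (Over.mk p).hom := hfl
  exact H28Vert.sum_mult_inter Γ hΓ j (hL j)

end Groth.Agent.S3318
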