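import Groth.Statements.S3323
import Groth.Agent.H28Vert.Fund
import Groth.Agent.H28Vert.Genus
import Groth.Agent.H28Vert.PicVert2
import Groth.Agent.H28Vert.Chain

set_option autoImplicit false
universe u
open CategoryTheory CategoryTheory.Limits AlgebraicGeometry
open Models

namespace Groth.Agent.S3323

/-- In the following situation (R a discrete valuation ring with residue field k, C a smooth proper
curve over its fraction field K with H^0(C, O_C) = K, X a regular proper model, Γ_1, …, Γ_n the
irreducible components of the closed fibre with multiplicities m_i) let d = gcd(m_1, …, m_n) and let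
D be the effective Cartier divisor Σ (m_i/d) Γ_i. Then there is a chain of effective Cartier
divisors Σ Γ_i = Z_0 ⊂ Z_1 ⊂ ⋯ ⊂ Z_s = D, each obtained from the previous one by adding a single
Γ_i, such that for every j the ring H^0(Z_j, O_{Z_j}) is a field, finite over R (equivalently over
k). Divisors are written through their ideal sheaves Π I(Γ_i)^{a_i}. -/
theorem result (R : Type u) [CommRing R] [IsDomain R] [IsDiscreteValuationRing R]
    (C X : Scheme.{u}) (f : C ⟶ Spec (CommRingCat.of (FractionRing R))) (p : X ⟶ Spec (CommRingCat.of R))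
    (hC : Curve.IsSmoothProperCurve (FractionRing R) C f) (hH0 : IsIso f.appTop)
    (hX : Models.IsRegularProperModel R X p C f)
    {n : ℕ} (Γ : Fin n → ArSurf.VertComp R (Over.mk p)) (hΓ : Models.IsComponentList R (Over.mk p) Γ) :
    ∃ (s : ℕ) (a : Fin (s + 1) → Fin n → ℕ), (a 0 = fun _ => 1) ∧
      (a (Fin.last s) = fun i => Models.mult R (Over.mk p) (Γ i) / Models.multGcd R (Over.mk p) Γ) ∧
      (∀ j : Fin s, ∃ i, a j.succ = a j.castSucc + Pi.single i 1) ∧
      ∀ j, IsField ↑(Γ((∏ i, (Γ i).ι.ker ^ a j i).subscheme, ⊤)) ∧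
        (((∏ i, (Γ i).ι.ker ^ a j i).subschemeι ≫ p).appTop.hom.comp
          (Scheme.ΓSpecIso (CommRingCat.of R)).inv.hom).Finite := by
  classical
  obtain ⟨hA, hp, hreg⟩ := id hX
  obtain ⟨hfl, hlft, -, g, hg⟩ := id hA
  haveI : LocallyOfFiniteType p := hlft
  haveI : IsProper p := hp
  haveI : Flat p := hfl
  haveI : IsProper (Over.mk p).hom := hp
  haveI : Flat (Over.mk p).hom := hfl
  haveI : IsLocallyNoetherian (Over.mk p).left := LocallyOfFiniteType.isLocallyNoetherian p
  haveI : IsIntegral C := hC.2.2.1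
  have hn := H28Vert.pos_of_isComponentList p g hΓ
  have hker := fun i => H28Vert.isEffCartierIdeal_ker hreg hΓ i
  have hex : ∀ i, ∃ L : X.Modules, ClSub.IsInverseOf L (ClSub.idealMod (Γ i).ι.ker) := fun i => by
    obtain ⟨L, -, hL⟩ := H11Sym.exists_inverse (H29Blow.isInvertible_of_isEffCartierIdeal _ (hker i))
    exact ⟨L, hL⟩
  choose L hL using hex
  have hconn := H28Vert.isPreconnected_specialFibreSet p f g hg hH0
  have hle : ∀ i, 1 ≤ Models.mult R (Over.mk p) (Γ i) / Models.multGcd R (Over.mk p) Γ := fun i => by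
    refine Nat.pos_of_ne_zero fun h => (H28Vert.mult_pos hΓ i).ne' ?_
    rw [← Nat.mul_div_cancel' (H28Vert.multGcd_dvd (Γ := Γ) i), h, mul_zero]
  obtain ⟨a, ha0, halast, hstep, hP⟩ := H28Vert.exists_chain hΓ hL hconn hn _ (fun _ => 1) rfl
    (fun _ => le_rfl) hle (H28Vert.noNonposPart_one hΓ hL hconn)
  refine ⟨_, a, ha0, halast, hstep, fun j => ⟨H28Vert.isField_globalSections hL hker hn (a j) (hP j).1 (hP j).2, ?_⟩⟩
  haveI : IsProper ((∏ i, (Γ i).ι.ker ^ a j i).subschemeι ≫ p) := inferInstance
  exact H28Vert.finite_toGlobal_of_isProper _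

end Groth.Agent.S3323
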