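import Groth.Statements.S3324
import Groth.Agent.H28Vert.Fund
import Groth.Agent.H28Vert.Genus
import Groth.Agent.H28Vert.PicVert2

set_option autoImplicit false
universe u
open CategoryTheory CategoryTheory.Limits AlgebraicGeometry
open Models

namespace Groth.Agent.S3324

/-- In the following situation (R a discrete valuation ring with residue field k, C a smooth proper
curve over its fraction field K with H^0(C, O_C) = K, X a regular proper model, Γ_1, …, Γ_n the
irreducible components of the closed fibre with multiplicities m_i) let d = gcd(m_1, …, m_n) and let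
D be the closed subscheme Σ (m_i/d) Γ_i, with ideal sheaf Π I(Γ_i)^{m_i/d}. Then κ = H^0(D, O_D) is
a field and 1 - g_C = d [κ : k] (1 - g_D), where g_C = dim_K H^1(C, O_C) and g_D = dim_κ H^1(D,
O_D). Here the right hand side is written as d (dim_k H^0(D, O_D) - dim_k H^1(D, O_D)), the
k-dimensions being computed as R-lengths of the cohomology groups of O_D on X. -/
theorem result (R : Type u) [CommRing R] [IsDomain R] [IsDiscreteValuationRing R]
    (C X : Scheme.{u}) (f : C ⟶ Spec (CommRingCat.of (FractionRing R))) (p : X ⟶ Spec (CommRingCat.of R))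
    (hC : Curve.IsSmoothProperCurve (FractionRing R) C f) (hH0 : IsIso f.appTop)
    (hX : Models.IsRegularProperModel R X p C f)
    {n : ℕ} (Γ : Fin n → ArSurf.VertComp R (Over.mk p)) (hΓ : Models.IsComponentList R (Over.mk p) Γ) :
    IsField ↑(Γ((∏ i, (Γ i).ι.ker ^ (Models.mult R (Over.mk p) (Γ i) / Models.multGcd R (Over.mk p) Γ)).subscheme, ⊤)) ∧
      (1 : ℤ) - (Models.curveGenus (FractionRing R) C f : ℤ) =
        (Models.multGcd R (Over.mk p) Γ : ℤ) * ((Models.lengthH R (Over.mk p) (ClSub.quotMod (∏ i, (Γ i).ι.ker ^ (Models.mult R (Over.mk p) (Γ i) / Models.multGcd R (Over.mk p) Γ))) 0 : ℤ) -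
          (Models.lengthH R (Over.mk p) (ClSub.quotMod (∏ i, (Γ i).ι.ker ^ (Models.mult R (Over.mk p) (Γ i) / Models.multGcd R (Over.mk p) Γ))) 1 : ℤ)) := by
  obtain ⟨hA, hp, hreg⟩ := id hX
  obtain ⟨hfl, hlft, -, g, hg⟩ := id hA
  haveI : LocallyOfFiniteType p := hlft
  haveI : IsProper p := hp
  haveI : Flat p := hfl
  haveI : IsProper (Over.mk p).hom := hp
  haveI : Flat (Over.mk p).hom := hfl
  haveI : IsLocallyNoetherian (Over.mk p).left := LocallyOfFiniteType.isLocallyNoetherian p
  haveI : IsIntegral C := hC.2.2.1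
  have hn := H28Vert.pos_of_isComponentList p g hΓ
  have hker := fun i => H28Vert.isEffCartierIdeal_ker hreg hΓ i
  have hex : ∀ i, ∃ L : X.Modules, ClSub.IsInverseOf L (ClSub.idealMod (Γ i).ι.ker) := fun i => by
    obtain ⟨L, -, hL⟩ := H11Sym.exists_inverse (H29Blow.isInvertible_of_isEffCartierIdeal _ (hker i))
    exact ⟨L, hL⟩
  choose L hL using hex
  have hconn := H28Vert.isPreconnected_specialFibreSet p f g hg hH0
  let d := Models.multGcd R (Over.mk p) Γ
  let z : Fin n → ℕ := fun i => Models.mult R (Over.mk p) (Γ i) / d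
  have hd : 0 < d := H28Vert.multGcd_pos hΓ hn
  have hzm : ∀ i, d * z i = Models.mult R (Over.mk p) (Γ i) := fun i =>
    Nat.mul_div_cancel' (H28Vert.multGcd_dvd i)
  refine ⟨H28Vert.isField_globalSections hL hker hn z (fun i => ?_)
    (fun a haz hne hdeg => H28Vert.eq_zero_of_degrees hΓ hL hconn hn a haz hne hdeg), ?_⟩
  · exact Nat.pos_of_ne_zero fun h => (H28Vert.mult_pos hΓ i).ne' (by rw [← hzm i, h, mul_zero])
  have hg2 := H28Vert.genus_formula f p hC hH0 hX Γ hΓ L hL
  have hz2 := H28Vert.chiLen_divIdeal hreg hΓ hL _ z rfl (fun i => Nat.div_le_self _ _)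
  have hQ : ∑ j, ∑ l, (z j : ℤ) * (z l : ℤ) * ArSurf.inter R (Over.mk p) (L l) (Γ j) = 0 := by
    refine Finset.sum_eq_zero fun j _ => ?_
    have h := H28Vert.sum_inter_mult hΓ hL j
    simp only [← hzm, Nat.cast_mul] at h
    have h2 : (d : ℤ) * ∑ l, (z j : ℤ) * (z l : ℤ) * ArSurf.inter R (Over.mk p) (L l) (Γ j) = 0 := by
      rw [Finset.mul_sum]
      refine Eq.trans ?_ ((congrArg ((z j : ℤ) * ·) h).trans (mul_zero _))
      show _ = (z j : ℤ) * ∑ l, _
      rw [Finset.mul_sum]
      exact Finset.sum_congr rfl fun l _ => by ring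
    exact (mul_eq_zero.1 h2).resolve_left (by exact_mod_cast hd.ne')
  rw [hQ, neg_zero, zero_add] at hz2
  have hlin : ∑ i, (Models.mult R (Over.mk p) (Γ i) : ℤ) *
        (2 * ((Models.h1 R (Over.mk p) (Γ i) : ℤ) - (Models.wdeg R (Over.mk p) (Γ i) : ℤ)) -
          ArSurf.inter R (Over.mk p) (L i) (Γ i)) =
      -((d : ℤ) * ∑ i, (z i : ℤ) * (ArSurf.inter R (Over.mk p) (L i) (Γ i) +
          2 * ((Models.wdeg R (Over.mk p) (Γ i) : ℤ) - (Models.h1 R (Over.mk p) (Γ i) : ℤ)))) := by
    rw [Finset.mul_sum, ← Finset.sum_neg_distrib]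
    refine Finset.sum_congr rfl fun i _ => ?_
    rw [← hzm i, Nat.cast_mul]
    ring
  rw [hlin, ← hz2] at hg2
  change _ = (d : ℤ) * H28Vert.chiLen R (Over.mk p) (ClSub.quotMod (H28Vert.divIdeal Γ z))
  linarith

end Groth.Agent.S3324
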