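import Groth.Statements.S3327
import Groth.Agent.H28Vert.ExcConverse
import Groth.Agent.H28Vert.MeetPoint
import Groth.Agent.H28Vert.GeomMult

set_option autoImplicit false
universe u
open CategoryTheory CategoryTheory.Limits AlgebraicGeometry
open Models

namespace Groth.Agent.S3327

/-- In the following situation (R a discrete valuation ring with residue field k, C a smooth proper
curve over its fraction field K with H^0(C, O_C) = K, X a regular proper model, Γ_1, …, Γ_n the
irreducible components of the closed fibre with multiplicities m_l), suppose Γ_i and Γ_j (i ≠ j) are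
exceptional curves of the first kind which meet. Then n = 2, all multiplicities are 1, every
component is k-isomorphic to the projective line over k, Γ_i and Γ_j meet in a single point x with
residue field k, scheme-theoretically (I(Γ_i) + I(Γ_j) is the ideal of the reduced point x), and C
has genus zero. -/
theorem result (R : Type u) [CommRing R] [IsDomain R] [IsDiscreteValuationRing R]
    (C X : Scheme.{u}) (f : C ⟶ Spec (CommRingCat.of (FractionRing R))) (p : X ⟶ Spec (CommRingCat.of R))
    (hC : Curve.IsSmoothProperCurve (FractionRing R) C f) (hH0 : IsIso f.appTop)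
    (hX : Models.IsRegularProperModel R X p C f)
    {n : ℕ} (Γ : Fin n → ArSurf.VertComp R (Over.mk p)) (hΓ : Models.IsComponentList R (Over.mk p) Γ)
    (i j : Fin n) (hij : i ≠ j) (hi : Models.IsExcCurve (Γ i).ι) (hj : Models.IsExcCurve (Γ j).ι)
    (hmeet : ¬ Disjoint (Set.range ((Γ i).ι.base : (Γ i).curve.left → X))
      (Set.range ((Γ j).ι.base : (Γ j).curve.left → X))) :
    n = 2 ∧ (∀ l, Models.mult R (Over.mk p) (Γ l) = 1) ∧
      (∀ l, ∃ e : (Γ l).curve.left ≅ CohB1.ProjSpace 1 (IsLocalRing.ResidueField R),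
        e.hom ≫ CohB1.ProjSpace.toSpec 1 (IsLocalRing.ResidueField R) = (Γ l).curve.hom) ∧
      (∃ x : X, Set.range ((Γ i).ι.base : (Γ i).curve.left → X) ∩ Set.range ((Γ j).ι.base : (Γ j).curve.left → X) = {x} ∧
        (Γ i).ι.ker ⊔ (Γ j).ι.ker =
          Scheme.IdealSheafData.vanishingIdeal ⟨closure {x}, isClosed_closure⟩ ∧
        Function.Surjective ((X.residue x).hom.comp (Models.stalkHom R (Over.mk p) x))) ∧
      Models.curveGenus (FractionRing R) C f = 0 := by
  classical
  obtain ⟨hA, hp, hreg⟩ := id hX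
  obtain ⟨hfl, hlft, hqc, g, hg⟩ := id hA
  haveI : IsProper p := hp
  haveI : Flat p := hfl
  haveI : IsProper (Over.mk p).hom := hp
  haveI : Flat (Over.mk p).hom := hfl
  haveI : IsLocallyNoetherian (Over.mk p).left := LocallyOfFiniteType.isLocallyNoetherian p
  have hker := fun l => H28Vert.isEffCartierIdeal_ker (X := Over.mk p) hreg hΓ l
  have hinv : ∀ l, ∃ M : X.Modules, PicF.IsInvertible M ∧ ClSub.IsInverseOf M (ClSub.idealMod (Γ l).ι.ker) :=
    fun l => H11Sym.exists_inverse (H29Blow.isInvertible_of_isEffCartierIdeal _ (hker l))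
  choose L hLi hL using hinv
  obtain ⟨h1i, hii⟩ := H28Vert.exc_facts hi (hLi i) (hL i)
  obtain ⟨h1j, hjj⟩ := H28Vert.exc_facts hj (hLi j) (hL j)
  have hwi := H28Vert.wdeg_pos (Γ i)
  have hwj := H28Vert.wdeg_pos (Γ j)
  have hsymm := H28Vert.inter_symm' hΓ hL i j
  obtain ⟨hnn, hz⟩ := H28Vert.inter_offDiag hΓ hL hij
  have hpos : 0 < ArSurf.inter R (Over.mk p) (L j) (Γ i) := lt_of_le_of_ne hnn fun h => hmeet (hz.1 h.symm)
  have hai := Int.le_of_dvd hpos (H28Vert.wdeg_dvd_inter (Γ i) (L j))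
  have haj := Int.le_of_dvd (hsymm ▸ hpos) (H28Vert.wdeg_dvd_inter (Γ j) (L i))
  rw [← hsymm] at haj
  let v : Fin n → ℤ := fun l => if l = i ∨ l = j then 1 else 0
  obtain ⟨hle, heq⟩ := H28Vert.form_nonpos hΓ hL (H28Vert.isPreconnected_specialFibreSet p f g hg hH0) v
  have hQ : (∑ q : Fin n × Fin n, v q.1 * v q.2 * ArSurf.inter R (Over.mk p) (L q.2) (Γ q.1)) =
      2 * ArSurf.inter R (Over.mk p) (L j) (Γ i) + ArSurf.inter R (Over.mk p) (L i) (Γ i) +
        ArSurf.inter R (Over.mk p) (L j) (Γ j) := by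
    have hv : ∀ (F : Fin n → ℤ), ∑ l, v l * F l = F i + F j := fun F => by
      rw [← Finset.sum_pair hij]
      simp only [v, ite_mul, one_mul, zero_mul, Finset.sum_ite, Finset.sum_const_zero, add_zero]
      exact Finset.sum_congr (by ext l; simp) fun _ _ => rfl
    rw [Fintype.sum_prod_type]
    simp only [mul_assoc, ← Finset.mul_sum, hv, ← hsymm]
    ring
  rw [hQ, hii, hjj] at hle heq
  have hw : (Models.wdeg R (Over.mk p) (Γ i) : ℤ) = ArSurf.inter R (Over.mk p) (L j) (Γ i) ∧
      (Models.wdeg R (Over.mk p) (Γ j) : ℤ) = ArSurf.inter R (Over.mk p) (L j) (Γ i) := by omega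
  obtain ⟨c, hc⟩ := heq.1 (by omega)
  have hci : (1 : ℚ) = c * (Models.mult R (Over.mk p) (Γ i) : ℚ) := by simpa [v] using hc i
  have hcj : (1 : ℚ) = c * (Models.mult R (Over.mk p) (Γ j) : ℚ) := by simpa [v] using hc j
  have hc0 : c ≠ 0 := fun h => by simp [h] at hci
  have hmij : Models.mult R (Over.mk p) (Γ i) = Models.mult R (Over.mk p) (Γ j) := by
    exact_mod_cast mul_left_cancel₀ hc0 (hci.symm.trans hcj)
  have hall : ∀ l, l = i ∨ l = j := by
    intro l
    by_contra hl
    have h0 : (0 : ℚ) = c * (Models.mult R (Over.mk p) (Γ l) : ℚ) := by simpa [v, hl] using hc l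
    exact (mul_ne_zero hc0 (by exact_mod_cast (H28Vert.mult_pos hΓ l).ne')) h0.symm
  have huniv : (Finset.univ : Finset (Fin n)) = {i, j} := by ext l; simpa using hall l
  have hn : n = 2 := by
    have h := congrArg Finset.card huniv
    rwa [Finset.card_univ, Fintype.card_fin, Finset.card_pair hij] at h
  have hgen := H28Vert.genus_formula f p hC hH0 hX Γ hΓ L hL
  rw [huniv, Finset.sum_pair hij, h1i, h1j, hii, hjj, ← hmij] at hgen
  have hmi := H28Vert.mult_pos hΓ i
  have hwij : Models.wdeg R (Over.mk p) (Γ i) = Models.wdeg R (Over.mk p) (Γ j) := by omega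
  rw [← hwij] at hgen
  have hgen' : (Models.curveGenus (FractionRing R) C f : ℤ) =
      1 - (Models.mult R (Over.mk p) (Γ i) : ℤ) * Models.wdeg R (Over.mk p) (Γ i) := by
    push_cast at hgen
    linarith
  have hprod : 1 ≤ Models.mult R (Over.mk p) (Γ i) * Models.wdeg R (Over.mk p) (Γ i) := Nat.one_le_iff_ne_zero.2
    (Nat.mul_ne_zero hmi.ne' hwi.ne')
  have hprod' : (1 : ℤ) ≤ (Models.mult R (Over.mk p) (Γ i) : ℤ) * Models.wdeg R (Over.mk p) (Γ i) := by
    exact_mod_cast hprod
  have hg0 : Models.curveGenus (FractionRing R) C f = 0 := by omega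
  have hone : Models.mult R (Over.mk p) (Γ i) = 1 ∧ Models.wdeg R (Over.mk p) (Γ i) = 1 := by
    have : Models.mult R (Over.mk p) (Γ i) * Models.wdeg R (Over.mk p) (Γ i) = 1 := by
      have : (Models.mult R (Over.mk p) (Γ i) : ℤ) * Models.wdeg R (Over.mk p) (Γ i) = 1 := by omega
      exact_mod_cast this
    exact mul_eq_one.1 this
  refine ⟨hn, fun l => ?_, fun l => ?_, ?_, hg0⟩
  · rcases hall l with rfl | rfl
    · exact hone.1
    · exact hmij ▸ hone.1
  · have hl : Models.wdeg R (Over.mk p) (Γ l) = 1 ∧ Models.h1 R (Over.mk p) (Γ l) = 0 ∧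
        ArSurf.inter R (Over.mk p) (L l) (Γ l) = -(Models.wdeg R (Over.mk p) (Γ l) : ℤ) := by
      rcases hall l with rfl | rfl
      · exact ⟨hone.2, h1i, hii⟩
      · exact ⟨hwij ▸ hone.2, h1j, hjj⟩
    exact H28Vert.exists_iso_residueField (hLi l) (hL l) (hker l) hl.1 hl.2.1 hl.2.2
  · exact H28Vert.exists_meet_point (Γ i) (Γ j) (fun h => hij (hΓ.1 h)) (hL j) (by omega) hmeet

end Groth.Agent.S3327
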