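import Groth.Statements.S3337
import Groth.Agent.H28RR.ModelSmooth
import Groth.Agent.S3330

set_option autoImplicit false
set_option linter.style.haveILetI false
set_option backward.isDefEq.respectTransparency.types false
universe u
open CategoryTheory CategoryTheory.Limits AlgebraicGeometry
open Models
open Groth.Agent Groth.Agent.H28RR

namespace Groth.Agent.S3337

/-- Let R be a discrete valuation ring with fraction field K and C a smooth proper curve over K with
H^0(C, O_C) = K. If C has a proper smooth model over R (good reduction), then every minimal model of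
C is smooth over R. -/
theorem result (R : Type u) [CommRing R] [IsDomain R] [IsDiscreteValuationRing R]
    (C X : Scheme.{u}) (f : C ⟶ Spec (CommRingCat.of (FractionRing R))) (p : X ⟶ Spec (CommRingCat.of R))
    (hC : Curve.IsSmoothProperCurve (FractionRing R) C f) (hH0 : IsIso f.appTop)
    (hgood : Models.HasGoodReduction R C f) (hX : Models.IsMinimalModel R X p C f) :
    Smooth p := by
  obtain ⟨Y, q, hYm, hqp, hqs⟩ := hgood
  haveI := hqp
  haveI := hqs
  have hYmin := ModelSmooth.isMinimal_of_smooth hC hYm
  obtain ⟨gY, hgY⟩ := hYm.2.2.2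
  obtain ⟨gX, hgX⟩ := hX.1.1.2.2.2
  by_cases he : ∃ e : Y ≅ X, e.hom ≫ p = q ∧ gY ≫ e.hom = gX
  · obtain ⟨e, he1, -⟩ := he
    rw [show p = e.inv ≫ q by rw [← he1, e.inv_hom_id_assoc]]
    infer_instance
  · have hg : Models.curveGenus (FractionRing R) C f = 0 := by
      by_contra hne
      obtain ⟨e, he1, -⟩ := S3330.result R C Y X f q p hC hH0 (Nat.pos_of_ne_zero hne) hYmin hX gY hgY gX hgX
      exact he ⟨e, he1⟩
    obtain ⟨e, he2⟩ := ModelGenusZero.exists_line_of_ne hC hH0 hg hX hgX hYmin hgY fun e h1 h2 => he ⟨e, h1, h2⟩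
    haveI : LocallyOfFiniteType p := hX.1.1.2.1
    haveI : IsLocallyNoetherian (Spec (CommRingCat.of R)) := inferInstance
    haveI : LocallyOfFinitePresentation p := inferInstance
    refine ModelSmooth.smooth_of_specialFibre hC hX.1.1 ?_
    rw [← he2]
    haveI : SmoothOfRelativeDimension 1 (CohB1.ProjSpace.toSpec 1 (IsLocalRing.ResidueField R)) :=
      ModelCanon.smooth_projSpace 1 _
    haveI : Smooth (CohB1.ProjSpace.toSpec 1 (IsLocalRing.ResidueField R)) := SmoothOfRelativeDimension.smooth 1 _
    exact inferInstanceAs (Smooth (e.hom ≫ CohB1.ProjSpace.toSpec 1 (IsLocalRing.ResidueField R)))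

end Groth.Agent.S3337
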