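import Groth.Statements.S3340
import Groth.Agent.H28Vert.VertGroup

set_option autoImplicit false
universe u
open CategoryTheory CategoryTheory.Limits AlgebraicGeometry
open Models

namespace Groth.Agent.S3340

/-- In the following situation (R a discrete valuation ring, C a smooth proper curve over its fraction
field K with H^0(C, O_C) = K, X a regular proper model with generic-fibre inclusion g, Γ_1, …, Γ_n
the irreducible components of the closed fibre with multiplicities m_i) let d = gcd(m_1, …, m_n). If
M is an invertible O_X-module whose pullback to C is trivial and whose degree on each Γ_i is zero,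
then the d-th tensor power of M is trivial. -/
theorem result (R : Type u) [CommRing R] [IsDomain R] [IsDiscreteValuationRing R]
    (C X : Scheme.{u}) (f : C ⟶ Spec (CommRingCat.of (FractionRing R))) (p : X ⟶ Spec (CommRingCat.of R))
    (hC : Curve.IsSmoothProperCurve (FractionRing R) C f) (hH0 : IsIso f.appTop)
    (hX : Models.IsRegularProperModel R X p C f)
    {n : ℕ} (Γ : Fin n → ArSurf.VertComp R (Over.mk p)) (hΓ : Models.IsComponentList R (Over.mk p) Γ)
    (g : C ⟶ X) (hg : IsPullback g f p (Spec.map (CommRingCat.ofHom (algebraMap R (FractionRing R))))) (M : X.Modules) (hM : PicF.IsInvertible M)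
    (htriv : Nonempty ((Scheme.Modules.pullback g).obj M ≅ Coh.structureModule C))
    (hdeg : ∀ i, ArSurf.inter R (Over.mk p) M (Γ i) = 0) :
    Nonempty (CohB1.tensorPow M (Models.multGcd R (Over.mk p) Γ) ≅ Coh.structureModule X) := by
  classical
  obtain ⟨⟨hfl, hlft, -, g₀, hg₀⟩, hp, hreg⟩ := id hX
  haveI : IsProper p := hp
  haveI : Flat p := hfl
  haveI : IsProper (Over.mk p).hom := hp
  haveI : Flat (Over.mk p).hom := hfl
  letI := H28Vert.picLaw X
  letI := H28Vert.picLaw C
  haveI : LocallyOfFiniteType p := hlft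
  haveI : IsLocallyNoetherian (Over.mk p).left := LocallyOfFiniteType.isLocallyNoetherian p
  haveI : IsIntegral C := hC.2.2.1
  have hker := fun i => H28Vert.isEffCartierIdeal_ker (R := R) (X := Over.mk p) hreg hΓ i
  have hex : ∀ i, ∃ L : X.Modules, ClSub.IsInverseOf L (ClSub.idealMod (Γ i).ι.ker) := fun i => by
    obtain ⟨L, -, hL⟩ := H11Sym.exists_inverse (H29Blow.isInvertible_of_isEffCartierIdeal _ (hker i))
    exact ⟨L, hL⟩
  choose L hL using hex
  have hn := H28Vert.pos_of_isComponentList p g hΓ
  have hconn := H28Vert.isPreconnected_specialFibreSet p f g hg hH0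
  obtain ⟨a, ha⟩ := H28Vert.exists_vcls_of_trivial hL hX hΓ g hg M hM htriv
  have hzero : ∀ i, ∑ j, (a j : ℤ) * ArSurf.inter R (Over.mk p) (L j) (Γ i) = 0 := fun i => by
    have h := congrArg (H28Vert.degHom (Γ i)) ha
    rw [H28Vert.degHom_cls, H28Vert.degHom_vcls, hdeg i] at h
    exact (Multiplicative.ofAdd.injective h).symm
  obtain ⟨k, hk⟩ := H28Vert.exists_nat_mul_of_degrees_zero hΓ hL hconn hn a hzero
  rw [H28Vert.nonempty_tensorPow_iff hM, ha, ← zpow_natCast, ← H28Vert.vcls_smul,
    H28Vert.vcls_eq_one_iff hL hC hH0 hX hΓ]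
  refine ⟨k, fun i => ?_⟩
  simp only [Pi.smul_apply, smul_eq_mul]
  rw [hk i]
  exact_mod_cast (show Models.multGcd R (Over.mk p) Γ * (k * (Models.mult R (Over.mk p) (Γ i) / Models.multGcd R (Over.mk p) Γ)) = k * Models.mult R (Over.mk p) (Γ i) by
    rw [mul_left_comm, Nat.mul_div_cancel' (H28Vert.multGcd_dvd i)])

end Groth.Agent.S3340
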