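import Groth.Statements.S3341
import Groth.Agent.H28Vert.VertGroup
import Groth.Agent.S3340

set_option autoImplicit false
universe u
open CategoryTheory CategoryTheory.Limits AlgebraicGeometry
open Models

namespace Groth.Agent.S3341

/-- In the following situation (R a discrete valuation ring, C a smooth proper curve over its fraction
field K with H^0(C, O_C) = K, X a regular proper model with generic-fibre inclusion g, Γ_1, …, Γ_n
the irreducible components of the closed fibre with multiplicities m_i) let d = gcd(m_1, …, m_n) and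
let h ≥ 1 be prime to d. If M is an invertible O_X-module with M^{⊗h} ≅ O_X whose pullback to C is
trivial, then M ≅ O_X: the map Pic(X)[h] → Pic(C)[h] is injective. -/
theorem result (R : Type u) [CommRing R] [IsDomain R] [IsDiscreteValuationRing R]
    (C X : Scheme.{u}) (f : C ⟶ Spec (CommRingCat.of (FractionRing R))) (p : X ⟶ Spec (CommRingCat.of R))
    (hC : Curve.IsSmoothProperCurve (FractionRing R) C f) (hH0 : IsIso f.appTop)
    (hX : Models.IsRegularProperModel R X p C f)
    {n : ℕ} (Γ : Fin n → ArSurf.VertComp R (Over.mk p)) (hΓ : Models.IsComponentList R (Over.mk p) Γ)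
    (g : C ⟶ X) (hg : IsPullback g f p (Spec.map (CommRingCat.ofHom (algebraMap R (FractionRing R))))) (h : ℕ) (hh : 0 < h) (hcop : Nat.Coprime h (Models.multGcd R (Over.mk p) Γ))
    (M : X.Modules) (hM : PicF.IsInvertible M)
    (htors : Nonempty (CohB1.tensorPow M h ≅ Coh.structureModule X))
    (htriv : Nonempty ((Scheme.Modules.pullback g).obj M ≅ Coh.structureModule C)) :
    Nonempty (M ≅ Coh.structureModule X) := by
  classical
  obtain ⟨⟨hfl, hlft, -, g₀, hg₀⟩, hp, hreg⟩ := id hX
  haveI : IsProper p := hp
  haveI : Flat p := hfl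
  haveI : IsProper (Over.mk p).hom := hp
  haveI : Flat (Over.mk p).hom := hfl
  letI := H28Vert.picLaw X
  letI := H28Vert.picLaw C
  haveI : LocallyOfFiniteType p := hlft
  haveI : IsLocallyNoetherian (Over.mk p).left := LocallyOfFiniteType.isLocallyNoetherian p
  have hd : ∀ i, ArSurf.inter R (Over.mk p) M (Γ i) = 0 := fun i => by
    letI : PicGrp.Law (Over.mk p).left := H28Vert.picLaw X
    have h1 := congrArg (H28Vert.degHom (Γ i)) ((H28Vert.nonempty_tensorPow_iff hM h).1 htors)
    rw [map_pow, map_one, H28Vert.degHom_cls, ← ofAdd_nsmul, ← ofAdd_zero] at h1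
    have h2 := Multiplicative.ofAdd.injective h1
    rw [nsmul_eq_mul] at h2
    exact (mul_eq_zero.1 h2).resolve_left (by exact_mod_cast hh.ne')
  have h1 := (H28Vert.nonempty_tensorPow_iff hM h).1 htors
  have h2 := (H28Vert.nonempty_tensorPow_iff hM _).1 (S3340.result R C X f p hC hH0 hX Γ hΓ g hg M hM htriv hd)
  refine (PicGrp.cls_eq_one_iff hM).1 ?_
  have h3 := pow_gcd_eq_one.2 ⟨h1, h2⟩
  rwa [hcop.gcd_eq_one, pow_one] at h3

end Groth.Agent.S3341
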