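import Groth.Statements.S3342
import Groth.Agent.H28Vert.VertGroup

set_option autoImplicit false
universe u
open CategoryTheory CategoryTheory.Limits AlgebraicGeometry
open Models

namespace Groth.Agent.S3342

/-- In the following situation (R a discrete valuation ring with residue field k, C a smooth proper
curve over its fraction field K with H^0(C, O_C) = K, X a regular proper model with generic-fibre
inclusion g, Γ_1, …, Γ_n the irreducible components of the closed fibre with multiplicities m_i, L_j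
⊗ I(Γ_j) ≅ O_X, a_ij = deg_k(L_j|Γ_i), w_i = dim_k H^0(Γ_i, O)) let d = gcd(m_i) and h ≥ 1 prime to
d. Let N be an invertible O_C-module with N^{⊗h} ≅ O_C which is the restriction of an invertible
O_X-module M whose degree vector (deg_k(M|Γ_i) / w_i)_i lies in the image of the matrix (a_ij / w_i)
(that is, the class of N maps to zero in the Picard group of the numerical type). Then N is the
restriction of an invertible O_X-module M' with M'^{⊗h} ≅ O_X. -/
theorem result (R : Type u) [CommRing R] [IsDomain R] [IsDiscreteValuationRing R]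
    (C X : Scheme.{u}) (f : C ⟶ Spec (CommRingCat.of (FractionRing R))) (p : X ⟶ Spec (CommRingCat.of R))
    (hC : Curve.IsSmoothProperCurve (FractionRing R) C f) (hH0 : IsIso f.appTop)
    (hX : Models.IsRegularProperModel R X p C f)
    {n : ℕ} (Γ : Fin n → ArSurf.VertComp R (Over.mk p)) (hΓ : Models.IsComponentList R (Over.mk p) Γ)
    (g : C ⟶ X) (hg : IsPullback g f p (Spec.map (CommRingCat.ofHom (algebraMap R (FractionRing R))))) (L : Fin n → X.Modules) (hL : ∀ i, ClSub.IsInverseOf (L i) (ClSub.idealMod (Γ i).ι.ker))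
    (h : ℕ) (hh : 0 < h) (hcop : Nat.Coprime h (Models.multGcd R (Over.mk p) Γ))
    (N : C.Modules) (hN : PicF.IsInvertible N) (hNt : Nonempty (CohB1.tensorPow N h ≅ Coh.structureModule C))
    (M : X.Modules) (hM : PicF.IsInvertible M) (hMN : Nonempty ((Scheme.Modules.pullback g).obj M ≅ N))
    (v : Fin n → ℤ)
    (hv : ∀ i, ArSurf.inter R (Over.mk p) M (Γ i) = ∑ j, ArSurf.inter R (Over.mk p) (L j) (Γ i) * v j) :
    ∃ M' : X.Modules, PicF.IsInvertible M' ∧ Nonempty (CohB1.tensorPow M' h ≅ Coh.structureModule X) ∧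
      Nonempty ((Scheme.Modules.pullback g).obj M' ≅ N) := by
  classical
  obtain ⟨⟨hfl, hlft, -, g₀, hg₀⟩, hp, hreg⟩ := id hX
  haveI : IsProper p := hp
  haveI : Flat p := hfl
  haveI : IsProper (Over.mk p).hom := hp
  haveI : Flat (Over.mk p).hom := hfl
  letI := H28Vert.picLaw X
  letI := H28Vert.picLaw C
  haveI : LocallyOfFiniteType p := hlft
  haveI : IsLocallyNoetherian (Over.mk p).left := LocallyOfFiniteType.isLocallyNoetherian p
  haveI : IsIntegral C := hC.2.2.1
  letI : PicGrp.Law (Over.mk p).left := H28Vert.picLaw X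
  have hn := H28Vert.pos_of_isComponentList p g hΓ
  have hconn := H28Vert.isPreconnected_specialFibreSet p f g hg hH0
  have hP := H28Vert.pullHom_vcls hL hX hΓ g hg
  obtain ⟨Q, hQ, hQc⟩ := PicGrp.exists_eq_cls (PicGrp.cls M hM ^ h)
  have hQtriv : Nonempty ((Scheme.Modules.pullback g).obj Q ≅ Coh.structureModule C) := by
    rw [H28Vert.nonempty_pullback_iff hQ (PicLoc.isInvertible_structureModule C), ← hQc,
      PicGrp.cls_structureModule_eq_one, map_pow, (H28Vert.nonempty_pullback_iff hM hN).1 hMN,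
      ← H28Vert.cls_tensorPow hN h, PicGrp.cls_eq_one_iff]
    exact hNt
  obtain ⟨b, hb⟩ := H28Vert.exists_vcls_of_trivial hL hX hΓ g hg Q hQ hQtriv
  rw [← hQc] at hb
  let m : Fin n → ℕ := fun i => Models.mult R (Over.mk p) (Γ i)
  let d := Models.multGcd R (Over.mk p) Γ
  let u : Fin n → ℤ := fun i => (b i : ℤ) - (h : ℤ) * v i
  let K : ℕ := ∑ i, (u i).natAbs
  let u' : Fin n → ℕ := fun i => (u i + (K : ℤ) * (m i : ℤ)).toNat
  have hu' : ∀ i, (u' i : ℤ) = u i + (K : ℤ) * (m i : ℤ) := fun i => by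
    refine Int.toNat_of_nonneg ?_
    have hK : (u i).natAbs ≤ K := Finset.single_le_sum (f := fun j => (u j).natAbs) (fun j _ => Nat.zero_le _) (Finset.mem_univ i)
    have hKm : K ≤ K * m i := Nat.le_mul_of_pos_right K (H28Vert.mult_pos hΓ i)
    have hcast : (K : ℤ) * (m i : ℤ) = ((K * m i : ℕ) : ℤ) := by push_cast; ring
    rw [hcast]
    omega
  have hzero : ∀ i, ∑ j, (u' j : ℤ) * ArSurf.inter R (Over.mk p) (L j) (Γ i) = 0 := fun i => by
    have h1 := congrArg (H28Vert.degHom (Γ i)) hb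
    rw [map_pow, H28Vert.degHom_cls, H28Vert.degHom_vcls, ← ofAdd_nsmul, nsmul_eq_mul, hv i, Finset.mul_sum] at h1
    have h2 := Multiplicative.ofAdd.injective h1
    have h3 := H28Vert.sum_inter_mult hΓ hL i
    have hA : ∑ j, (h : ℤ) * v j * ArSurf.inter R (Over.mk p) (L j) (Γ i) =
        ∑ j, (b j : ℤ) * ArSurf.inter R (Over.mk p) (L j) (Γ i) :=
      (Finset.sum_congr rfl fun j _ => by ring).trans h2
    have hB : ∑ j, (K : ℤ) * (m j : ℤ) * ArSurf.inter R (Over.mk p) (L j) (Γ i) = 0 := by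
      refine Eq.trans ?_ ((congrArg ((K : ℤ) * ·) h3).trans (mul_zero _))
      rw [Finset.mul_sum]
      exact Finset.sum_congr rfl fun j _ => by ring
    simp only [hu', u, add_mul, sub_mul, Finset.sum_add_distrib, Finset.sum_sub_distrib, hA, hB, sub_self, add_zero]
  obtain ⟨k, hk⟩ := H28Vert.exists_nat_mul_of_degrees_zero hΓ hL hconn hn u' hzero
  obtain ⟨x, y, hxy⟩ : ∃ x y : ℤ, x * (h : ℤ) + y * (d : ℤ) = 1 := Int.isCoprime_iff_nat_coprime.2 (by simpa using hcop)
  let w : Fin n → ℤ := fun i => v i + (k : ℤ) * x * ((m i / d : ℕ) : ℤ)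
  obtain ⟨M', hM', hM'c⟩ := PicGrp.exists_eq_cls (PicGrp.cls M hM * H28Vert.vcls hL (-w))
  refine ⟨M', hM', (H28Vert.nonempty_tensorPow_iff hM' h).2 ?_, ?_⟩
  · rw [← hM'c, mul_pow, hb, ← zpow_natCast, ← H28Vert.vcls_smul, ← H28Vert.vcls_add,
      H28Vert.vcls_eq_one_iff hL hC hH0 hX hΓ]
    refine ⟨(k : ℤ) * y - (K : ℤ), fun i => ?_⟩
    have h5 := hu' i
    rw [show (u' i : ℤ) = (k : ℤ) * ((m i / d : ℕ) : ℤ) by rw [hk i]; push_cast; rfl] at h5
    have h6 : (d : ℤ) * ((m i / d : ℕ) : ℤ) = (m i : ℤ) := by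
      rw [← Nat.cast_mul, Nat.mul_div_cancel' (H28Vert.multGcd_dvd i)]
    simp only [Pi.add_apply, Pi.neg_apply, Pi.smul_apply, smul_eq_mul, w]
    show _ = _ * (m i : ℤ)
    simp only [u] at h5
    linear_combination -h5 - (k : ℤ) * ((m i / d : ℕ) : ℤ) * hxy + (k : ℤ) * y * h6
  · rw [H28Vert.nonempty_pullback_iff hM' hN, ← hM'c, map_mul, hP, mul_one]
    exact (H28Vert.nonempty_pullback_iff hM hN).1 hMN

end Groth.Agent.S3342
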