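import Groth.Statements.S3344
import Groth.Agent.S3324
import Groth.Agent.H28Vert.RatPoint

set_option autoImplicit false
universe u
open CategoryTheory CategoryTheory.Limits AlgebraicGeometry
open Models

namespace Groth.Agent.S3344

/-- In the following situation (R a discrete valuation ring with residue field k, C a smooth proper
curve over its fraction field K with H^0(C, O_C) = K, X a regular proper model, Γ_1, …, Γ_n the
irreducible components of the closed fibre X_k with multiplicities m_i) assume C has a K-rational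
point. Then (1) some closed point x of X on the closed fibre has residue field k (R → κ(x)
surjective) and the local ring of X_k at x, namely O_{X,x}/𝔪_R O_{X,x}, is regular (x is a smooth
point of X_k over k); (2) the component Γ_i through x has H^0(Γ_i, O) = k and m_i = 1; (3) H^0(X_k,
O_{X_k}) = k and dim_k H^1(X_k, O_{X_k}) = dim_K H^1(C, O_C) (k-dimensions as R-lengths of the
cohomology of O_{X_k} on X). -/
theorem result (R : Type u) [CommRing R] [IsDomain R] [IsDiscreteValuationRing R]
    (C X : Scheme.{u}) (f : C ⟶ Spec (CommRingCat.of (FractionRing R))) (p : X ⟶ Spec (CommRingCat.of R))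
    (hC : Curve.IsSmoothProperCurve (FractionRing R) C f) (hH0 : IsIso f.appTop)
    (hX : Models.IsRegularProperModel R X p C f)
    {n : ℕ} (Γ : Fin n → ArSurf.VertComp R (Over.mk p)) (hΓ : Models.IsComponentList R (Over.mk p) Γ)
    (s : Spec (CommRingCat.of (FractionRing R)) ⟶ C) (hs : s ≫ f = 𝟙 _) :
    (∃ (i : Fin n) (x : X), x ∈ Set.range ((Γ i).ι.base : (Γ i).curve.left → X) ∧ IsClosed ({x} : Set X) ∧
        Function.Surjective ((X.residue x).hom.comp (Models.stalkHom R (Over.mk p) x)) ∧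
        IsRegularLocalRing (X.presheaf.stalk x ⧸
          Ideal.map (Models.stalkHom R (Over.mk p) x) (IsLocalRing.maximalIdeal R)) ∧
        Models.wdeg R (Over.mk p) (Γ i) = 1 ∧ Models.mult R (Over.mk p) (Γ i) = 1) ∧
      Models.lengthH R (Over.mk p) (ClSub.quotMod (Models.specialFibreIdeal R (Over.mk p))) 0 = 1 ∧
      Models.lengthH R (Over.mk p) (ClSub.quotMod (Models.specialFibreIdeal R (Over.mk p))) 1 =
        Models.curveGenus (FractionRing R) C f := by
  obtain ⟨hA, hp, hreg⟩ := id hX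
  obtain ⟨hfl, hlft, -, g, hg⟩ := id hA
  haveI : LocallyOfFiniteType p := hlft
  haveI : IsProper p := hp
  haveI : Flat p := hfl
  haveI : IsProper (Over.mk p).hom := hp
  haveI : Flat (Over.mk p).hom := hfl
  haveI : IsLocallyNoetherian (Over.mk p).left := LocallyOfFiniteType.isLocallyNoetherian p
  haveI : IsIntegral C := hC.2.2.1
  let k := IsLocalRing.ResidueField R
  let P := Over.mk p
  obtain ⟨σ, hσ⟩ := H28Vert.exists_section (X := P) (s ≫ g) (by
    show (s ≫ g) ≫ p = _
    rw [Category.assoc, hg.w, ← Category.assoc, hs, Category.id_comp])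
  obtain ⟨ϖ, hϖ⟩ := IsDiscreteValuationRing.exists_irreducible R
  obtain ⟨hxc, hxs, hm, hm2, hxr⟩ := H28Vert.section_closedPoint σ hσ hreg hϖ
  let x := σ (IsLocalRing.closedPoint R)
  have hpx : P.hom x = IsLocalRing.closedPoint R := by
    show P.hom (σ _) = _
    have h : ∀ (φ : Spec (CommRingCat.of R) ⟶ Spec (CommRingCat.of R)), φ = 𝟙 _ →
        φ (IsLocalRing.closedPoint R) = IsLocalRing.closedPoint R := by
      rintro _ rfl; rfl
    exact h _ hσ
  let b := pullback.fst P.hom (H28Vert.closedPt R)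
  obtain ⟨y, hy⟩ : x ∈ Set.range b := by
    rw [Scheme.Pullback.range_fst]
    exact ⟨IsLocalRing.closedPoint _, (IsLocalRing.PrimeSpectrum.comap_residue R _).trans hpx.symm⟩
  obtain ⟨i, w, hw⟩ := H28Vert.exists_mem_range_toFibre hΓ y
  have hwx : (Γ i).ι w = x := by
    rw [← hy, ← hw, ← Scheme.Hom.comp_apply,
      show H28Vert.toFibre (Γ i) ≫ b = (Γ i).ι from H28Vert.toFibre_fst _]
  have hm1 : Models.mult R P (Γ i) = 1 :=
    H28Vert.mult_eq_one_of_mem hreg hΓ i (H28Vert.mult_pos hΓ i) ⟨w, hwx⟩ hϖ hm2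
  have hw1 : Models.wdeg R P (Γ i) = 1 := by
    haveI := H28Vert.isProper_curve (Γ i)
    haveI := (Γ i).isClosedImmersion
    haveI := (Γ i).isIntegral
    letI : (Γ i).curve.left.Over (Spec (CommRingCat.of k)) := ⟨(Γ i).curve.hom⟩
    refine H28Vert.finrank_HH0_of_isIso k ?_
    exact H28Vert.isIso_appTop_of_closed (Γ i).ι (Γ i).curve.hom (Γ i).w
      (isField_of_universallyClosed k (Γ i).curve.hom) w (hwx.symm ▸ hxs)
  refine ⟨⟨i, x, ⟨w, hwx⟩, hxc, hxs, hxr, hw1, hm1⟩, ?_⟩
  have hd : Models.multGcd R P Γ = 1 := by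
    refine Nat.dvd_one.1 ?_
    have h1 := H28Vert.multGcd_dvd (Γ := Γ) i
    rwa [hm1] at h1
  obtain ⟨hF, hE⟩ := S3324.result R C X f p hC hH0 hX Γ hΓ
  have hprod : ∏ j, (Γ j).ι.ker ^ (Models.mult R P (Γ j) / Models.multGcd R P Γ) = b.ker := by
    rw [H28Vert.ker_fst_eq, H28Vert.specialFibreIdeal_eq_prod hreg hΓ, hd]
    simp only [Nat.div_one]
    rfl
  rw [hprod] at hF hE
  rw [hd, Nat.cast_one, one_mul] at hE
  haveI : IsIso b.toImage := inferInstance
  haveI : IsIso b.toImage.appTop := inferInstanceAs (IsIso (b.toImage.app ⊤))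
  have hY : IsField Γ(pullback P.hom (H28Vert.closedPt R), ⊤) :=
    MulEquiv.isField hF (asIso b.toImage.appTop).commRingCatIsoToRingEquiv.symm.toMulEquiv
  let Y := pullback P.hom (H28Vert.closedPt R)
  let q := pullback.snd P.hom (H28Vert.closedPt R)
  letI : Y.Over (Spec (CommRingCat.of k)) := ⟨q⟩
  haveI : IsProper (Y ↘ Spec (CommRingCat.of k)) := inferInstanceAs (IsProper q)
  have hbw : b ≫ P.hom = q ≫ H28Vert.closedPt R := pullback.condition
  have hiso : IsIso q.appTop :=
    H28Vert.isIso_appTop_of_closed b q hbw hY y (hy.symm ▸ hxs)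
  have h0 : Models.lengthH R P (ClSub.quotMod (Models.specialFibreIdeal R P)) 0 = 1 := by
    rw [← H28Vert.ker_fst_eq]
    show Models.lengthH R P (ClSub.quotMod b.ker) 0 = 1
    refine ((congrArg ENat.toNat ((LeadBC.HMod R 0).mapIso (H28Vert.quotModKerIso b)).toLinearEquiv.length_eq).trans
      (H28Vert.lengthH_push b hbw (Coh.structureModule Y) (H10Coh.isCoh_structureModule' Y) 0)).trans ?_
    exact H28Vert.finrank_HH0_of_isIso k hiso
  refine ⟨h0, ?_⟩
  rw [← H28Vert.ker_fst_eq] at h0 ⊢
  change Models.lengthH R P (ClSub.quotMod b.ker) 0 = 1 at h0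
  change Models.lengthH R P (ClSub.quotMod b.ker) 1 = _
  change _ = ((Models.lengthH R P (ClSub.quotMod b.ker) 0 : ℤ) - (Models.lengthH R P (ClSub.quotMod b.ker) 1 : ℤ)) at hE
  rw [h0] at hE
  push_cast at hE
  omega

end Groth.Agent.S3344
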