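import Groth.Statements.S3346
import Groth.Agent.H28RR.ModelImage

set_option autoImplicit false
set_option linter.style.haveILetI false
set_option backward.isDefEq.respectTransparency.types false
set_option maxHeartbeats 1600000
universe u
open CategoryTheory CategoryTheory.Limits AlgebraicGeometry
open Models
open Groth.Agent Groth.Agent.H28RR

namespace Groth.Agent.S3346

/-- In the following situation (R a discrete valuation ring with residue field k, C a smooth proper
curve over its fraction field K with H^0(C, O_C) = K, X a regular proper model with generic-fibre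
inclusion g, Γ_0, …, Γ_n the irreducible components of the closed fibre with multiplicities m_i, L_j
⊗ I(Γ_j) ≅ O_X, a_ij = deg_k(L_j|Γ_i)) assume the last component Γ_n is an exceptional curve of the
first kind and let b : X → X' be a contraction of Γ_n over R (X' Noetherian, p = b ≫ p'). Then X'
(with g ≫ b) is a regular proper model of C, the irreducible components of its closed fibre are
exactly the images Γ'_i = b(Γ_i), i < n, and for any enumeration Γ' of them with these images and
any L'_j ⊗ I(Γ'_j) ≅ O_{X'} one has m'_i = m_i and a'_ij · a_nn = a_ij · a_nn - a_in · a_jn (that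
is, a'_ij = a_ij - a_in a_jn / a_nn, cleared of the denominator a_nn ≠ 0). -/
theorem result (R : Type u) [CommRing R] [IsDomain R] [IsDiscreteValuationRing R]
    (C X X' : Scheme.{u}) (f : C ⟶ Spec (CommRingCat.of (FractionRing R))) (p : X ⟶ Spec (CommRingCat.of R))
    (p' : X' ⟶ Spec (CommRingCat.of R))
    (hC : Curve.IsSmoothProperCurve (FractionRing R) C f) (hH0 : IsIso f.appTop)
    (hX : Models.IsRegularProperModel R X p C f) (g : C ⟶ X) (hg : IsPullback g f p (Spec.map (CommRingCat.ofHom (algebraMap R (FractionRing R)))))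
    {n : ℕ} (Γ : Fin (n + 1) → ArSurf.VertComp R (Over.mk p)) (hΓ : Models.IsComponentList R (Over.mk p) Γ)
    (L : Fin (n + 1) → X.Modules) (hL : ∀ i, ClSub.IsInverseOf (L i) (ClSub.idealMod (Γ i).ι.ker))
    (hexc : Models.IsExcCurve (Γ (Fin.last n)).ι)
    (b : X ⟶ X') (hb : Models.IsContractionOf (Γ (Fin.last n)).ι b) (hcomm : b ≫ p' = p) :
    Models.IsRegularProperModel R X' p' C f ∧
      Models.fibreComponents R (Over.mk p') =
        Set.range (fun i : Fin n => b.base '' Set.range ((Γ i.castSucc).ι.base : (Γ i.castSucc).curve.left → X)) ∧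
      ∀ (Γ' : Fin n → ArSurf.VertComp R (Over.mk p')),
        (∀ i, Set.range ((Γ' i).ι.base : (Γ' i).curve.left → X') =
          b.base '' Set.range ((Γ i.castSucc).ι.base : (Γ i.castSucc).curve.left → X)) →
        (∀ i, Models.mult R (Over.mk p') (Γ' i) = Models.mult R (Over.mk p) (Γ i.castSucc)) ∧
        ∀ (L' : Fin n → X'.Modules), (∀ j, ClSub.IsInverseOf (L' j) (ClSub.idealMod (Γ' j).ι.ker)) →
          ∀ i j : Fin n,
            ArSurf.inter R (Over.mk p') (L' j) (Γ' i) * ArSurf.inter R (Over.mk p) (L (Fin.last n)) (Γ (Fin.last n)) =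
              ArSurf.inter R (Over.mk p) (L j.castSucc) (Γ i.castSucc) * ArSurf.inter R (Over.mk p) (L (Fin.last n)) (Γ (Fin.last n)) -
                ArSurf.inter R (Over.mk p) (L (Fin.last n)) (Γ i.castSucc) * ArSurf.inter R (Over.mk p) (L (Fin.last n)) (Γ j.castSucc) := by
  have hA : ArSurf.IsArithSurface R (Over.mk p) := ModelProj.isArithSurface_of_model hC hX
  let b' : Over.mk p ⟶ Over.mk p' := Over.homMk b hcomm
  obtain ⟨z, hz, hA', hpre, hiso⟩ := ModelImage.contraction_facts hA (Γ (Fin.last n)) hexc b' hb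
  haveI := hiso
  haveI : IsProper (Over.mk p).hom := H28Vert.isProper_of_isArithSurface hA
  haveI : IsProper (Over.mk p').hom := H28Vert.isProper_of_isArithSurface hA'
  haveI : IsIntegral (Over.mk p).left := hA.2.1
  haveI : IsIntegral (Over.mk p').left := hA'.2.1
  haveI : Flat (Over.mk p).hom := hA.2.2.2.1
  haveI : Flat (Over.mk p').hom := hA'.2.2.2.1
  have hzs : z ∈ Models.specialFibreSet R (Over.mk p') := by
    have h1 : b'.left (Models.genPtOf R _ (Γ (Fin.last n))) = z := hpre.ge ⟨_, rfl⟩
    exact h1 ▸ (ModelContract.mem_special_iff b' _).2 (ModelProj.genPtOf_mem _)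
  have hpb := ModelContract.isPullback_comp (C := C) (f := f) b' z hz hzs g hg
  have hne : ∀ i : Fin n, Set.range ((Γ i.castSucc).ι.base : (Γ i.castSucc).curve.left → X) ≠
      Set.range (Γ (Fin.last n)).ι.base := fun i h => (Fin.castSucc_lt_last i).ne (hΓ.1 h)
  refine ⟨⟨⟨inferInstanceAs (Flat (Over.mk p').hom), inferInstanceAs (LocallyOfFiniteType (Over.mk p').hom),
      inferInstanceAs (QuasiCompact (Over.mk p').hom), g ≫ b, hpb⟩, inferInstanceAs (IsProper (Over.mk p').hom), hA'.1⟩,
    ModelImage.fibreComponents_eq b' z hz _ hpre hA.2.2.1 hA'.2.2.1 Γ hΓ rfl,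
    fun Γ' hΓ' => ⟨fun i => ModelImage.mult_eq b' z hz _ hpre (Γ i.castSucc) (hne i) (Γ' i) (hΓ' i),
      fun L' hL' i j => ModelImage.inter_formula b' z hz _ hpre hA.2.2.1 hA'.2.2.1 hA.1 hA'.1
        (Γ i.castSucc) (Γ j.castSucc) (hne i) (hne j) (hL _) (hL _) (Γ' i) (Γ' j) (hΓ' i) (hΓ' j) (hL' j)⟩⟩

end Groth.Agent.S3346
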