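import Groth.Statements.S3347
import Groth.Agent.S3326
import Groth.Agent.H28Vert.VertGen
import Groth.Agent.H28Vert.Euler

set_option autoImplicit false
universe u
open CategoryTheory CategoryTheory.Limits AlgebraicGeometry
open Models

namespace Groth.Agent.S3347

/-- In the following situation (R a discrete valuation ring with residue field k, C a smooth proper
curve over its fraction field K with H^0(C, O_C) = K, X a regular proper model, Γ_1, …, Γ_n the
irreducible components of the closed fibre, L_i ⊗ I(Γ_i) ≅ O_X) the following are equivalent: X is a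
minimal model (no vertical prime divisor of X is an exceptional curve of the first kind); the
numerical type of X is minimal, i.e. there is no index i with g_i = 0 (H^1(Γ_i, O) = 0) and (Γ_i ·
Γ_i) = deg_k(L_i|Γ_i) = -[κ_i : k] = -dim_k H^0(Γ_i, O). -/
theorem result (R : Type u) [CommRing R] [IsDomain R] [IsDiscreteValuationRing R]
    (C X : Scheme.{u}) (f : C ⟶ Spec (CommRingCat.of (FractionRing R))) (p : X ⟶ Spec (CommRingCat.of R))
    (hC : Curve.IsSmoothProperCurve (FractionRing R) C f) (hH0 : IsIso f.appTop)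
    (hX : Models.IsRegularProperModel R X p C f)
    {n : ℕ} (Γ : Fin n → ArSurf.VertComp R (Over.mk p)) (hΓ : Models.IsComponentList R (Over.mk p) Γ)
    (L : Fin n → X.Modules) (hL : ∀ i, ClSub.IsInverseOf (L i) (ClSub.idealMod (Γ i).ι.ker)) :
    Models.IsMinimalModel R X p C f ↔
      ∀ i, ¬ (Models.h1 R (Over.mk p) (Γ i) = 0 ∧ ArSurf.inter R (Over.mk p) (L i) (Γ i) = -(Models.wdeg R (Over.mk p) (Γ i) : ℤ)) := by
  obtain ⟨hA, hp, hreg⟩ := id hX
  haveI : IsProper (Over.mk p).hom := hp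
  haveI : Flat (Over.mk p).hom := hA.1
  haveI : IsLocallyNoetherian (Over.mk p).left := LocallyOfFiniteType.isLocallyNoetherian p
  have hiff : ∀ i, Models.IsExcCurve (Γ i).ι ↔
      Models.h1 R (Over.mk p) (Γ i) = 0 ∧ ArSurf.inter R (Over.mk p) (L i) (Γ i) = -(Models.wdeg R (Over.mk p) (Γ i) : ℤ) := fun i =>
    S3326.result R C X f p hC hH0 hX Γ hΓ L hL i
  refine ⟨fun h i hi => h.2 (Γ i) ((hiff i).2 hi), fun h => ⟨hX, fun Δ hexc => ?_⟩⟩
  obtain ⟨i, hi⟩ := hΓ.2.ge (H28Vert.mem_fibreComponents (H28Vert.dim_fibre_le_one hΓ) Δ)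
  refine h i ((hiff i).1 ?_)
  haveI := Δ.isClosedImmersion
  haveI := (Γ i).isClosedImmersion
  haveI := Δ.isIntegral
  haveI := (Γ i).isIntegral
  have hk : Δ.ι.ker = (Γ i).ι.ker := by
    rw [H17.ker_eq_vanishingIdeal, H17.ker_eq_vanishingIdeal]
    simp only [show Set.range Δ.ι = Set.range (Γ i).ι from hi.symm]
  let φ := IsClosedImmersion.lift (Γ i).ι Δ.ι hk.ge
  let ψ := IsClosedImmersion.lift Δ.ι (Γ i).ι hk.le
  have hφ : φ ≫ (Γ i).ι = Δ.ι := IsClosedImmersion.lift_fac _ _ _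
  have hψ : ψ ≫ Δ.ι = (Γ i).ι := IsClosedImmersion.lift_fac _ _ _
  let θ : Δ.curve.left ≅ (Γ i).curve.left := ⟨φ, ψ, (cancel_mono Δ.ι).1 (by rw [Category.assoc, hψ, hφ, Category.id_comp]),
    (cancel_mono (Γ i).ι).1 (by rw [Category.assoc, hφ, hψ, Category.id_comp])⟩
  obtain ⟨hEff, k', hk', e, hη⟩ := hexc
  refine ⟨hk ▸ hEff, k', hk', e ≪≫ θ, ?_⟩
  rw [← hk, show (e ≪≫ θ).hom ≫ (Γ i).ι = e.hom ≫ Δ.ι by rw [Iso.trans_hom, Category.assoc]; exact congrArg _ hφ]
  exact hη

end Groth.Agent.S3347
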