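import Groth.Statements.S3348
import Groth.Agent.H28Vert.VertGroup

set_option autoImplicit false
universe u
open CategoryTheory CategoryTheory.Limits AlgebraicGeometry
open Models

namespace Groth.Agent.S3348

/-- In the following situation (R a discrete valuation ring with residue field k, C a smooth proper
curve over its fraction field K with H^0(C, O_C) = K, X a regular proper model with generic-fibre
inclusion g, Γ_1, …, Γ_n the irreducible components of the closed fibre, L_j ⊗ I(Γ_j) ≅ O_X, a_ij =
deg_k(L_j|Γ_i), w_i = dim_k H^0(Γ_i, O)) let N be an invertible O_C-module and M an invertible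
O_X-module restricting to N. Then the degree vector (deg_k(M|Γ_i))_i is of the form (Σ_j a_ij v_j)_i
for an integer vector v (the class (deg_k(M|Γ_i)/w_i)_i vanishes in the Picard group of the
numerical type, which does not depend on the choice of M) if and only if N is the restriction of an
invertible O_X-module M' with deg_k(M'|Γ_i) = 0 for all i. -/
theorem result (R : Type u) [CommRing R] [IsDomain R] [IsDiscreteValuationRing R]
    (C X : Scheme.{u}) (f : C ⟶ Spec (CommRingCat.of (FractionRing R))) (p : X ⟶ Spec (CommRingCat.of R))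
    (hC : Curve.IsSmoothProperCurve (FractionRing R) C f) (hH0 : IsIso f.appTop)
    (hX : Models.IsRegularProperModel R X p C f)
    {n : ℕ} (Γ : Fin n → ArSurf.VertComp R (Over.mk p)) (hΓ : Models.IsComponentList R (Over.mk p) Γ)
    (g : C ⟶ X) (hg : IsPullback g f p (Spec.map (CommRingCat.ofHom (algebraMap R (FractionRing R))))) (L : Fin n → X.Modules) (hL : ∀ i, ClSub.IsInverseOf (L i) (ClSub.idealMod (Γ i).ι.ker))
    (N : C.Modules) (hN : PicF.IsInvertible N)
    (M : X.Modules) (hM : PicF.IsInvertible M) (hMN : Nonempty ((Scheme.Modules.pullback g).obj M ≅ N)) :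
    (∃ v : Fin n → ℤ, ∀ i, ArSurf.inter R (Over.mk p) M (Γ i) = ∑ j, ArSurf.inter R (Over.mk p) (L j) (Γ i) * v j) ↔
      ∃ M' : X.Modules, PicF.IsInvertible M' ∧ Nonempty ((Scheme.Modules.pullback g).obj M' ≅ N) ∧
        ∀ i, ArSurf.inter R (Over.mk p) M' (Γ i) = 0 := by
  classical
  obtain ⟨⟨hfl, hlft, -, g₀, hg₀⟩, hp, hreg⟩ := id hX
  haveI : IsProper p := hp
  haveI : Flat p := hfl
  haveI : IsProper (Over.mk p).hom := hp
  haveI : Flat (Over.mk p).hom := hfl
  letI := H28Vert.picLaw X
  letI := H28Vert.picLaw C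
  letI : PicGrp.Law (Over.mk p).left := H28Vert.picLaw X
  haveI : LocallyOfFiniteType p := hlft
  haveI : IsLocallyNoetherian (Over.mk p).left := LocallyOfFiniteType.isLocallyNoetherian p
  have hP := H28Vert.pullHom_vcls hL hX hΓ g hg
  constructor
  · rintro ⟨v, hv⟩
    obtain ⟨M', hM', hM'c⟩ := PicGrp.exists_eq_cls (PicGrp.cls M hM * H28Vert.vcls hL (-v))
    refine ⟨M', hM', ?_, fun i => ?_⟩
    · rw [H28Vert.nonempty_pullback_iff hM' hN, ← hM'c, map_mul, hP, mul_one]
      exact (H28Vert.nonempty_pullback_iff hM hN).1 hMN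
    · have h := congrArg (H28Vert.degHom (Γ i)) hM'c
      rw [map_mul, H28Vert.degHom_cls, H28Vert.degHom_cls, H28Vert.degHom_vcls, ← ofAdd_add, hv i] at h
      rw [← Multiplicative.ofAdd.injective h, ← Finset.sum_add_distrib]
      exact Finset.sum_eq_zero fun j _ => by simp only [Pi.neg_apply]; ring
  · rintro ⟨M', hM', hpb, hdeg⟩
    obtain ⟨Q, hQ, hQc⟩ := PicGrp.exists_eq_cls (PicGrp.cls M hM * (PicGrp.cls M' hM')⁻¹)
    have hQtriv : Nonempty ((Scheme.Modules.pullback g).obj Q ≅ Coh.structureModule C) := by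
      rw [H28Vert.nonempty_pullback_iff hQ (PicLoc.isInvertible_structureModule C), ← hQc,
        PicGrp.cls_structureModule_eq_one, map_mul, map_inv, (H28Vert.nonempty_pullback_iff hM' hN).1 hpb,
        (H28Vert.nonempty_pullback_iff hM hN).1 hMN, mul_inv_cancel]
    obtain ⟨c, hc⟩ := H28Vert.exists_vcls_of_trivial hL hX hΓ g hg Q hQ hQtriv
    rw [← hQc, mul_inv_eq_iff_eq_mul] at hc
    refine ⟨fun j => (c j : ℤ), fun i => ?_⟩
    have h := congrArg (H28Vert.degHom (Γ i)) hc
    rw [map_mul, H28Vert.degHom_cls, H28Vert.degHom_cls, H28Vert.degHom_vcls, ← ofAdd_add, hdeg i] at h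
    rw [Multiplicative.ofAdd.injective h, add_zero]
    exact Finset.sum_congr rfl fun j _ => mul_comm _ _

end Groth.Agent.S3348
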