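import Groth.Statements.S3349
import Groth.Agent.H28NT.Genus

set_option autoImplicit false
open Finset
open Models Models.NumericalType

namespace Groth.Agent.S3349

/-- Let T be a numerical type with exactly one index. Then a_11 = 0 and the genus of T is g = 1 + m_1
w_1 (g_1 - 1). Consequently: if g < 0 then g_1 = 0 (and m_1 w_1 = 1 - g); if g = 0 then m_1 = w_1 =
1 and g_1 = 0; if g = 1 then g_1 = 1; if g > 1 then g_1 > 1 (and m_1 w_1 (g_1 - 1) = g - 1). -/
theorem result (T : Models.NumericalType 1) :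
    T.a 0 0 = 0 ∧ T.genus = 1 + T.m 0 * T.w 0 * (T.g 0 - 1) ∧
      (T.genus < 0 → T.g 0 = 0) ∧ (T.genus = 0 → T.m 0 = 1 ∧ T.w 0 = 1 ∧ T.g 0 = 0) ∧
      (T.genus = 1 → T.g 0 = 1) ∧ (1 < T.genus → 1 < T.g 0) := by
  obtain ⟨ha, hgen⟩ := H28NT.single T
  have hm := T.m_pos 0
  have hw := T.w_pos 0
  have hgn := T.g_nonneg 0
  have hmw : 1 ≤ T.m 0 * T.w 0 := mul_pos hm hw
  refine ⟨ha, hgen, fun h => ?_, fun h => ?_, fun h => ?_, fun h => ?_⟩
  · by_contra h0
    have := mul_nonneg (show 0 ≤ T.m 0 * T.w 0 by omega) (show 0 ≤ T.g 0 - 1 by omega)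
    omega
  · have h0 : T.g 0 = 0 := by
      by_contra h0
      have := mul_nonneg (show 0 ≤ T.m 0 * T.w 0 by omega) (show 0 ≤ T.g 0 - 1 by omega)
      omega
    rw [h0, h] at hgen
    have h1 : T.m 0 * T.w 0 = 1 := by linarith
    exact ⟨Int.eq_one_of_mul_eq_one_right hm.le h1, Int.eq_one_of_mul_eq_one_left hw.le h1, h0⟩
  · rw [h] at hgen
    have : T.m 0 * T.w 0 * (T.g 0 - 1) = 0 := by linarith
    rcases mul_eq_zero.1 this with h1 | h1 <;> omega
  · by_contra h0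
    have := mul_nonpos_of_nonneg_of_nonpos (show 0 ≤ T.m 0 * T.w 0 by omega) (show T.g 0 - 1 ≤ 0 by omega)
    omega

end Groth.Agent.S3349
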