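import Groth.Statements.S3350
import Groth.Agent.H28NT.Rows

set_option autoImplicit false
open Finset
open Models Models.NumericalType

namespace Groth.Agent.S3350

/-- Classification of proper subgraphs with two vertices: Let T be a numerical type on n > 2 indices and
i ≠ j two (-2)-indices (g = 0 and a_ii = -2 w_i, a_jj = -2 w_j) with a_ij > 0. Then, after possibly
exchanging i and j, one of the following holds with w = w_i: (A2) w_j = w, a_ij = w, 2 m_i ≥ m_j and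
2 m_j ≥ m_i; (B2) w_j = 2w, a_ij = 2w, m_i ≥ m_j and 2 m_j ≥ m_i; (G2) w_j = 3w, a_ij = 3w, 2 m_i ≥
3 m_j and 2 m_j ≥ m_i. -/
theorem result {n : ℕ} (T : Models.NumericalType n) (hn : 2 < n) (i j : Fin n)
    (hij : i ≠ j) (hi : T.IsMinusTwo i) (hj : T.IsMinusTwo j) (hpos : 0 < T.a i j) :
    ∃ i' j' : Fin n, ((i' = i ∧ j' = j) ∨ (i' = j ∧ j' = i)) ∧
      ((T.w j' = T.w i' ∧ T.a i' j' = T.w i' ∧ T.m j' ≤ 2 * T.m i' ∧ T.m i' ≤ 2 * T.m j') ∨
        (T.w j' = 2 * T.w i' ∧ T.a i' j' = 2 * T.w i' ∧ T.m j' ≤ T.m i' ∧ T.m i' ≤ 2 * T.m j') ∨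
        (T.w j' = 3 * T.w i' ∧ T.a i' j' = 3 * T.w i' ∧ 3 * T.m j' ≤ 2 * T.m i' ∧ T.m i' ≤ 2 * T.m j')) := by
  have hwi := T.w_pos i
  have hwj := T.w_pos j
  have hji : T.a j i = T.a i j := H28NT.a_comm T j i
  rcases H28NT.w_eq_or_mul T hn hij hi hj hpos.ne' with ⟨a, b⟩ | ⟨a, b⟩ | ⟨a, b⟩
  · refine ⟨i, j, .inl ⟨rfl, rfl⟩, .inl ⟨b, a, ?_, ?_⟩⟩
    · linarith [H28NT.row1q T 1 1 hwi hij hi (one_mul _).symm (by rw [a, one_mul])]
    · linarith [H28NT.row1q T 1 1 hwi hij.symm hj (by rw [b, one_mul]) (by rw [hji, a, one_mul])]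
  · rcases b with b | b
    · refine ⟨i, j, .inl ⟨rfl, rfl⟩, .inr (.inl ⟨b, a.trans b, ?_, ?_⟩)⟩
      · linarith [H28NT.row1q T 2 1 hwi hij hi (one_mul _).symm (by rw [a, b])]
      · linarith [H28NT.row1q T 2 2 hwi hij.symm hj b (by rw [hji, a, b])]
    · refine ⟨i, j, .inl ⟨rfl, rfl⟩, .inr (.inr ⟨b, a.trans b, ?_, ?_⟩)⟩
      · linarith [H28NT.row1q T 3 1 hwi hij hi (one_mul _).symm (by rw [a, b])]
      · linarith [H28NT.row1q T 3 3 hwi hij.symm hj b (by rw [hji, a, b])]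
  · rcases b with b | b
    · refine ⟨j, i, .inr ⟨rfl, rfl⟩, .inr (.inl ⟨b, by rw [hji, a, b], ?_, ?_⟩)⟩
      · linarith [H28NT.row1q T 2 1 hwj hij.symm hj (one_mul _).symm (by rw [hji, a, b])]
      · linarith [H28NT.row1q T 2 2 hwj hij hi b (by rw [a, b])]
    · refine ⟨j, i, .inr ⟨rfl, rfl⟩, .inr (.inr ⟨b, by rw [hji, a, b], ?_, ?_⟩)⟩
      · linarith [H28NT.row1q T 3 1 hwj hij.symm hj (one_mul _).symm (by rw [hji, a, b])]
      · linarith [H28NT.row1q T 3 3 hwj hij hi b (by rw [a, b])]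

end Groth.Agent.S3350
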