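import Groth.Statements.S3352
import Groth.Agent.H28Alg.Lattice

set_option autoImplicit false
open Models

namespace Groth.Agent.S3352

/-- Let L₀, L₁ be finite free ℤ-modules with positive definite symmetric integral bilinear forms, the
form on L₀ unimodular (x ↦ ⟨x, −⟩ is a bijection L₀ → Hom(L₀, ℤ)), and let d : L₀ → L₁ and d* : L₁ →
L₀ be adjoint. Identify Im(d)^# (the dual lattice of Im(d)) with Hom(Im(d), ℤ) through the form on
L₁. Then there is an isomorphism Φ from the torsion subgroup of Coker(d* d) onto Im(d)^#/Im(d),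
determined by: for x ∈ L₀ whose class is torsion, Φ[x] is the class of the functional d(y') ↦ ⟨x,
y'⟩ (equivalently the class of (1/a)·d(y) when a·x = d* d(y)). -/
theorem result {L₀ L₁ : Type} [AddCommGroup L₀] [AddCommGroup L₁]
    [Module.Finite ℤ L₀] [Module.Free ℤ L₀] [Module.Finite ℤ L₁] [Module.Free ℤ L₁]
    (B₀ : LinearMap.BilinForm ℤ L₀) (B₁ : LinearMap.BilinForm ℤ L₁) (h₀s : B₀.IsSymm) (h₁s : B₁.IsSymm)
    (h₀p : ∀ x, x ≠ 0 → 0 < B₀ x x) (h₁p : ∀ x, x ≠ 0 → 0 < B₁ x x) (huni : Function.Bijective B₀)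
    (d : L₀ →ₗ[ℤ] L₁) (ds : L₁ →ₗ[ℤ] L₀) (hadj : ∀ x y, B₁ (d x) y = B₀ x (ds y)) :
    ∃ Φ : ↥(Submodule.torsion ℤ (L₀ ⧸ LinearMap.range (ds ∘ₗ d))) ≃ₗ[ℤ]
        (Module.Dual ℤ ↥(LinearMap.range d) ⧸
          LinearMap.range ((B₁.compl₂ (LinearMap.range d).subtype) ∘ₗ (LinearMap.range d).subtype)),
      ∀ (x : L₀) (hx : Submodule.Quotient.mk x ∈ Submodule.torsion ℤ (L₀ ⧸ LinearMap.range (ds ∘ₗ d)))
        (ψ : Module.Dual ℤ ↥(LinearMap.range d)),
        (∀ y' : L₀, ψ ⟨d y', LinearMap.mem_range_self d y'⟩ = B₀ x y') →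
          Φ ⟨Submodule.Quotient.mk x, hx⟩ = Submodule.Quotient.mk ψ := by
  classical
  set R := LinearMap.range ((B₁.compl₂ (LinearMap.range d).subtype) ∘ₗ (LinearMap.range d).subtype) with hR
  let N : Submodule ℤ (L₀ ⧸ LinearMap.range (ds ∘ₗ d)) := Submodule.torsion ℤ _
  let P : Submodule ℤ L₀ := N.comap (LinearMap.range (ds ∘ₗ d)).mkQ
  -- the form is symmetric through the adjunction
  have key : ∀ z y', B₀ (ds (d z)) y' = B₁ (d z) (d y') := fun z y' => by
    rw [h₀s.eq (ds (d z)) y', ← hadj, h₁s.eq (d y')]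
  have hkill : ∀ x : L₀, x ∈ P → ∀ y', d y' = 0 → B₀ x y' = 0 := by
    intro x hx y' hy'
    obtain ⟨⟨c, hc⟩, hcx⟩ := (Submodule.mem_torsion_iff _).1 hx
    rw [Submonoid.smul_def, ← map_smul, Submodule.mkQ_apply, Submodule.Quotient.mk_eq_zero] at hcx
    obtain ⟨z, hz⟩ := hcx
    have h1 : B₀ (c • x) y' = 0 := by
      rw [← show ds (d z) = c • x from hz, key, hy', map_zero]
    rw [map_smul, LinearMap.smul_apply, smul_eq_mul] at h1
    exact (mul_eq_zero.1 h1).resolve_left (nonZeroDivisors.ne_zero hc)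
  let g : ↥P → Module.Dual ℤ ↥(LinearMap.range d) := fun x =>
    ((LinearMap.ker d).liftQ (B₀ (x : L₀)) fun y hy => hkill x x.2 y hy) ∘ₗ
      d.quotKerEquivRange.symm.toLinearMap
  have hg : ∀ (x : ↥P) y', g x ⟨d y', LinearMap.mem_range_self d y'⟩ = B₀ (x : L₀) y' := by
    intro x y'
    have : d.quotKerEquivRange.symm ⟨d y', LinearMap.mem_range_self d y'⟩ = Submodule.Quotient.mk y' := by
      rw [LinearEquiv.symm_apply_eq]; rfl
    show (LinearMap.ker d).liftQ (B₀ (x : L₀)) (fun y hy => hkill x x.2 y hy) (d.quotKerEquivRange.symm _) = _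
    rw [this]
    rfl
  have hext : ∀ ψ ψ' : Module.Dual ℤ ↥(LinearMap.range d),
      (∀ y', ψ ⟨d y', LinearMap.mem_range_self d y'⟩ = ψ' ⟨d y', LinearMap.mem_range_self d y'⟩) → ψ = ψ' := by
    intro ψ ψ' h
    refine LinearMap.ext fun ⟨z, hz⟩ => ?_
    obtain ⟨y', rfl⟩ := hz
    exact h y'
  let G : ↥P →ₗ[ℤ] Module.Dual ℤ ↥(LinearMap.range d) :=
    { toFun := g
      map_add' := fun x y => hext _ _ fun y' => by simp [LinearMap.add_apply, hg]
      map_smul' := fun c x => hext _ _ fun y' => by simp [LinearMap.smul_apply, hg] }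
  let F := R.mkQ ∘ₗ G
  let π : ↥P →ₗ[ℤ] ↥N := (LinearMap.range (ds ∘ₗ d)).mkQ.restrict fun x hx => hx
  have hπ : Function.Surjective π := by
    rintro ⟨q, hq⟩
    obtain ⟨x, rfl⟩ := Submodule.Quotient.mk_surjective _ q
    exact ⟨⟨x, hq⟩, rfl⟩
  have hker : LinearMap.ker π = LinearMap.ker F := by
    ext x
    have e1 : x ∈ LinearMap.ker π ↔ (x : L₀) ∈ LinearMap.range (ds ∘ₗ d) := by
      simp only [LinearMap.mem_ker, π, Subtype.ext_iff, LinearMap.restrict_apply, Submodule.mkQ_apply,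
        ZeroMemClass.coe_zero, Submodule.Quotient.mk_eq_zero]
    have e2 : x ∈ LinearMap.ker F ↔ G x ∈ R := by
      simp only [LinearMap.mem_ker, F, LinearMap.comp_apply, Submodule.mkQ_apply, Submodule.Quotient.mk_eq_zero]
    rw [e1, e2]
    constructor
    · rintro ⟨z, hz⟩
      refine ⟨⟨d z, LinearMap.mem_range_self d z⟩, hext _ _ fun y' => ?_⟩
      show _ = g x _
      rw [hg, ← show ds (d z) = (x : L₀) from hz, key]
      rfl
    · rintro ⟨⟨_, z, rfl⟩, hu⟩
      refine ⟨z, huni.1 (LinearMap.ext fun y' => ?_)⟩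
      have := LinearMap.congr_fun hu ⟨d y', LinearMap.mem_range_self d y'⟩
      rw [show G x ⟨d y', LinearMap.mem_range_self d y'⟩ = _ from hg x y'] at this
      show B₀ (ds (d z)) y' = B₀ (x : L₀) y'
      rw [← this, key]
      rfl
  have hF : Function.Surjective F := by
    intro q
    obtain ⟨ψ, rfl⟩ := Submodule.Quotient.mk_surjective _ q
    obtain ⟨x, hx⟩ := huni.2 (ψ ∘ₗ d.rangeRestrict)
    obtain ⟨c, ⟨_, z, rfl⟩, hc, h⟩ := H28Alg.exists_smul_eq_form B₁ h₁p (LinearMap.range d) ψ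
    have hxP : x ∈ P := by
      refine (Submodule.mem_torsion_iff _).2 ⟨⟨c, mem_nonZeroDivisors_of_ne_zero hc⟩, ?_⟩
      rw [Submonoid.smul_def, ← map_smul, Submodule.mkQ_apply, Submodule.Quotient.mk_eq_zero]
      refine ⟨z, huni.1 (LinearMap.ext fun y' => ?_)⟩
      have h2 := h ⟨d y', LinearMap.mem_range_self d y'⟩
      rw [map_smul, LinearMap.smul_apply, smul_eq_mul, hx]
      show B₀ (ds (d z)) y' = c * ψ ⟨d y', _⟩
      rw [key, h2]
    refine ⟨⟨x, hxP⟩, ?_⟩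
    show Submodule.Quotient.mk (g ⟨x, hxP⟩) = _
    congr 1
    exact hext _ _ fun y' => by rw [hg]; exact LinearMap.congr_fun hx y'
  refine ⟨((π.quotKerEquivOfSurjective hπ).symm.trans (Submodule.quotEquivOfEq _ _ hker)).trans
    (F.quotKerEquivOfSurjective hF), fun x hx ψ hψ => ?_⟩
  have e : (π.quotKerEquivOfSurjective hπ).symm ⟨Submodule.Quotient.mk x, hx⟩ = Submodule.Quotient.mk (⟨x, hx⟩ : ↥P) := by
    rw [LinearEquiv.symm_apply_eq]; rfl
  rw [LinearEquiv.trans_apply, LinearEquiv.trans_apply, e]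
  show Submodule.Quotient.mk (g ⟨x, hx⟩) = _
  congr 1
  exact hext _ _ fun y' => by rw [hg]; exact (hψ y').symm

end Groth.Agent.S3352
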