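import Groth.Statements.S3354
import Groth.Agent.H23Para.Lift.Subscheme

set_option autoImplicit false
universe u
open CategoryTheory CategoryTheory.Limits AlgebraicGeometry
open ParaF

namespace Groth.Agent.S3354

/-- Let A be a Noetherian local ring which is a quotient of a regular local ring, t an A-regular element
of the maximal ideal such that A is complete for the t-adic topology, X the punctured spectrum of A
and Y = V(t) ∩ X (the punctured spectrum of B = A/tA, as the closed subscheme of X cut out by t).
Assume (a) A_p has depth ≥ 2 for every prime p with dim A/p = 1 (the closed points of X) and (b) B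
has depth ≥ 3. Then the map Pic(X) → Pic(Y) has trivial kernel: an invertible O_X-module whose
pull-back to Y is trivial is trivial. In particular, if B is parafactorial then A is parafactorial. -/
theorem result (R : Type u) [CommRing R] [IsRegularLocalRing R] (A : Type u) [CommRing A] [IsLocalRing A] [IsNoetherianRing A] (π : R →+* A) (hπ : Function.Surjective π) (t : A) (ht : t ∈ IsLocalRing.maximalIdeal A) (hreg : IsSMulRegular A t) [IsAdicComplete (Ideal.span {t}) A] (ha : ∀ p : PrimeSpectrum A, ringKrullDim (A ⧸ p.asIdeal) = 1 → (2 : ℕ∞) ≤ LocCoh.depth (Localization.AtPrime p.asIdeal) (Localization.AtPrime p.asIdeal)) [IsLocalRing (A ⧸ Ideal.span {t})] (hb : (3 : ℕ∞) ≤ LocCoh.depth (A ⧸ Ideal.span {t}) (A ⧸ Ideal.span {t})) : Formal2.PicPullbackInjective (((Spec.map (CommRingCat.ofHom (Ideal.Quotient.mk (Ideal.span {t})))).ker.comap (FEt.puncturedSpec A).ι)).subschemeι ∧ (ParaF.IsParafactorialLocalRing (A ⧸ Ideal.span {t}) → ParaF.IsParafactorialLocalRing A) := by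
  let J : Ideal A := Ideal.span {t}
  have hJ : J ≠ ⊤ := ne_top_of_le_ne_top (IsLocalRing.maximalIdeal.isMaximal A).ne_top
    ((Ideal.span_singleton_le_iff_mem _).mpr ht)
  have hB : ∀ n, Nonempty (Groth.Agent.H23Para.Lift.GrBasis J n) := fun n => by
    have hn : J ^ n = Ideal.span {t ^ n} := Ideal.span_singleton_pow t n
    refine ⟨⟨1, fun _ => t ^ n, fun _ => hn ▸ Ideal.mem_span_singleton_self _, fun v hv => ?_, fun c hc l => ?_⟩⟩
    · rw [hn, Ideal.mem_span_singleton'] at hv
      obtain ⟨a, rfl⟩ := hv
      exact ⟨fun _ => a, by simp⟩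
    · rw [Fin.sum_univ_one, Ideal.span_singleton_pow, Ideal.mem_span_singleton'] at hc
      obtain ⟨a, ha⟩ := hc
      rw [Subsingleton.elim l 0]
      refine Ideal.mem_span_singleton'.mpr ⟨a, (hreg.pow n) ?_⟩
      show t ^ n * (a * t) = t ^ n * c 0
      rw [mul_comm (t ^ n) (c 0), ← ha]
      ring
  obtain ⟨k, hk⟩ := Groth.Agent.H23Para.Lift.exists_isPullback_subschemeι J
  refine ⟨fun L hL htriv => Groth.Agent.H23Para.Lift.iso_of_trivial_modulo J hJ hb (fun n => (hB n).some) hk L hL htriv,
    fun hp => ?_⟩
  obtain ⟨h3, hpic⟩ := Groth.Agent.H23Para.Lift.depth_and_picTrivial_of_grBasis A J hJ hb (fun n => (hB n).some)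
    (Groth.Agent.H23Para.isParafactorialLocalRing_iff.mp hp).2
  exact Groth.Agent.H23Para.isParafactorialLocalRing_iff.mpr
    ⟨Groth.Agent.H23Para.bijective_punctured_iff.mpr (le_trans (by norm_num) h3), hpic⟩

end Groth.Agent.S3354
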