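import Groth.Statements.S3362
import Groth.Agent.H3CAlg.Punct

set_option autoImplicit false
universe u
open CategoryTheory CategoryTheory.Limits AlgebraicGeometry TopologicalSpace
open LefX

namespace Groth.Agent.S3362

/-- Let A be a complete Noetherian local ring, X' the punctured spectrum of A and k ≥ 1. Assume (a_k)
every irreducible component of X' has dimension ≥ k + 1, and (b_k) X' is connected in dimension ≥ k,
i.e. X' minus any closed subset of dimension < k is connected. Let 0 ≤ m ≤ k and let f_1, …, f_m be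
elements of the maximal ideal, B = A/(f_1, …, f_m), Y' the punctured spectrum of B. Then Y'
satisfies (a_{k−m}) and (b_{k−m}); in particular Y' is connected. -/
theorem result (A : Type u) [CommRing A] [IsNoetherianRing A] [IsLocalRing A] [IsAdicComplete (IsLocalRing.maximalIdeal A) A] (k : ℕ) (hk : 1 ≤ k) (ha : ∀ Z ∈ irreducibleComponents ↥(FEt.puncturedSpec A), ((k + 1 : ℕ) : WithBot ℕ∞) ≤ topologicalKrullDim ↥Z) (hb : LefX.ConnectedInDim ↥(FEt.puncturedSpec A) k) (m : ℕ) (hm : m ≤ k) (f : Fin m → A) (hf : ∀ i, f i ∈ IsLocalRing.maximalIdeal A) [IsLocalRing (A ⧸ Ideal.span (Set.range f))] : (∀ Z ∈ irreducibleComponents ↥(FEt.puncturedSpec (A ⧸ Ideal.span (Set.range f))), ((k - m + 1 : ℕ) : WithBot ℕ∞) ≤ topologicalKrullDim ↥Z) ∧ LefX.ConnectedInDim ↥(FEt.puncturedSpec (A ⧸ Ideal.span (Set.range f))) (k - m) := by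
  classical
  set J := Ideal.span (Set.range f) with hJdef
  have hbA : LefX.ConnectedInDim ↥(H3CAlg.Punct.punct A) k := hb
  have haA : ∀ Z ∈ irreducibleComponents ↥(H3CAlg.Punct.punct A), ((k + 1 : ℕ) : WithBot ℕ∞) ≤ topologicalKrullDim ↥Z := ha
  have hc := H3CAlg.Punct.le_connDim_of_connectedInDim hbA
  have hne : (H3CAlg.Punct.punct A).Nonempty := by
    obtain ⟨⟨x, -⟩, -⟩ := hbA ∅ isClosed_empty (by
      rw [show topologicalKrullDim (∅ : Set ↥(H3CAlg.Punct.punct A)) = ⊥ from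
        Order.krullDim_eq_bot_iff.mpr ⟨fun Z => isEmptyElim Z.isIrreducible.nonempty.some⟩]
      exact WithBot.bot_lt_coe _)
    exact ⟨x.1, x.2⟩
  have hs := H3CAlg.Punct.le_subdim_of_components hne haA
  have hJ : J ≠ ⊤ := ne_top_of_le_ne_top (IsLocalRing.maximalIdeal.isMaximal A).ne_top
    (Ideal.span_le.2 (by rintro _ ⟨i, rfl⟩; exact hf i))
  let s : Finset A := Finset.univ.image f
  have hcd : LocCoh.CdLE A J m := fun M _ _ i hi => by
    have h := H4LC.cdLE_span_finset s M i (lt_of_le_of_lt (by exact_mod_cast Finset.card_image_le.trans (Finset.card_fin m).le) hi)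
    rwa [show Ideal.span (s : Set A) = J by rw [hJdef, Finset.coe_image, Finset.coe_univ, Set.image_univ]] at h
  refine ⟨H3CAlg.Punct.components_of_le_subdim fun q hq => ?_, H3CAlg.Punct.connectedInDim_of_le ?_⟩
  · haveI := hq.1.1
    have hQ : q.comap (Ideal.Quotient.mk J) ∈ J.minimalPrimes := by
      rw [Ideal.minimalPrimes_eq_comap]; exact ⟨q, hq, rfl⟩
    set Q := q.comap (Ideal.Quotient.mk J) with hQdef
    obtain ⟨p, hp, hpQ⟩ := Ideal.exists_minimalPrimes_le (I := (⊥ : Ideal A)) (J := Q) bot_le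
    haveI := hp.1.1
    haveI : IsLocalRing (A ⧸ p) := IsLocalRing.of_surjective' _ Ideal.Quotient.mk_surjective
    haveI := H4Conn.isAdicComplete_quotient p
    haveI hQp : (Q.map (Ideal.Quotient.mk p)).IsPrime := Ideal.isPrime_map_quotientMk_of_isPrime hpQ
    have hmin : Q.map (Ideal.Quotient.mk p) ∈ (J.map (Ideal.Quotient.mk p)).minimalPrimes := by
      refine ⟨⟨hQp, Ideal.map_mono hQ.1.2⟩, fun K hK hKQ => ?_⟩
      have hK' : K.comap (Ideal.Quotient.mk p) ≤ Q := (Ideal.comap_mono hKQ).trans (by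
        rw [Ideal.comap_map_of_surjective' _ Ideal.Quotient.mk_surjective, Ideal.mk_ker]
        exact sup_le le_rfl hpQ)
      exact Ideal.map_le_iff_le_comap.mpr
        (hQ.2 ⟨Ideal.IsPrime.comap (hK := hK.1) _, Ideal.map_le_iff_le_comap.mp hK.2⟩ hK')
    obtain ⟨n, hn⟩ := H4Conn.exists_nat_dim (R := A) hp.1.1.ne_top
    obtain ⟨e, he⟩ := H4Conn.exists_nat_dim (R := A ⧸ p) hQp.ne_top
    have h1 := H4Conn.dim_le_of_minimalPrime _ _ hmin m n e hn he (H4Conn.cdLE_quotient hcd p)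
    have h2 : ((k + 1 + 1 : ℕ) : WithBot ℕ∞) ≤ (n : WithBot ℕ∞) :=
      hs.trans ((H4Conn.subdim_le_dim_quotient hp).trans hn.le)
    have h2' : k + 1 + 1 ≤ n := by exact_mod_cast h2
    have h3 : ringKrullDim ((A ⧸ J) ⧸ q) = e := by
      rw [← he, ringKrullDim_eq_of_ringEquiv (DoubleQuot.quotQuotEquivQuotOfLE hpQ),
        ← ringKrullDim_eq_of_ringEquiv (DoubleQuot.quotQuotEquivQuotOfLE hQ.1.2)]
      exact ringKrullDim_eq_of_ringEquiv (Ideal.quotEquivOfEq
        (Ideal.map_comap_of_surjective _ Ideal.Quotient.mk_surjective q).symm)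
    rw [h3]
    exact_mod_cast (show k - m + 1 + 1 ≤ e by omega)
  · have h := H4Conn.min_le_connDim_quotient J hJ m hcd
    have h4 : ((k + 1 + 1 : ℕ) : WithBot ℕ∞) ≤
        min (LocCoh.connDim (PrimeSpectrum A) + 1) (LocCoh.subdim (PrimeSpectrum A)) :=
      le_min (by rw [Nat.cast_add (k + 1) 1, Nat.cast_one]; exact add_le_add hc le_rfl) hs
    have h5 := h4.trans h
    obtain ⟨c, hc'⟩ : ∃ c : ℕ∞, LocCoh.connDim (PrimeSpectrum (A ⧸ J)) = (c : WithBot ℕ∞) :=
      ⟨_, (WithBot.coe_unbot _ H4Conn.connDim_ne_bot).symm⟩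
    rw [hc'] at h5 ⊢
    induction c with
    | top => exact le_top
    | coe c =>
      have h6 : k + 1 + 1 ≤ c + m + 1 := by exact_mod_cast h5
      exact WithBot.coe_le_coe.2 (ENat.natCast_le_natCast.2 (show k - m + 1 ≤ c by omega))

end Groth.Agent.S3362
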