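import Groth.Statements.S3372
import Groth.Agent.H24Punct.Main

set_option autoImplicit false
set_option linter.style.haveILetI false
universe u
open CategoryTheory CategoryTheory.Limits AlgebraicGeometry
open Formal

attribute [-instance] CategoryTheory.catToReflQuiver

namespace Groth.Agent.S3372

/-- Let A be a Noetherian local ring which is a quotient of a regular ring, and t a member of the
maximal ideal for which A is separated and complete in the t-adic topology; let X be the punctured
spectrum of A and F a coherent O_X-module on which multiplication by t is injective. Let n be a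
natural number and assume that for every closed point x of X (the primes p with dim A/p = 1) the
stalk F_x has depth ≥ n + 1 over O_{X,x}. Then the canonical map H^i(X, F) → lim_k H^i(X,
F/t^(k+1)F) is bijective for i < n and injective for i = n. -/
theorem result (R : Type u) [CommRing R] [IsRegularRing R] (A : Type u) [CommRing A] [IsLocalRing A] [IsNoetherianRing A] (π : R →+* A) (hπ : Function.Surjective π) (t : A) (ht : t ∈ IsLocalRing.maximalIdeal A) [IsAdicComplete (Ideal.span {t}) A] (F : (↑(FEt.puncturedSpec A) : Scheme.{u}).Modules) (hF : Coh.IsCoh F) (hreg : Mono (Formal.smulMod A F t)) (n : ℕ) (hdepth : ∀ x : (↑(FEt.puncturedSpec A) : Scheme.{u}), IsClosed ({x} : Set (↑(FEt.puncturedSpec A) : Scheme.{u})) → ((n + 1 : ℕ) : ℕ∞) ≤ LocCoh.depth ((↑(FEt.puncturedSpec A) : Scheme.{u}).presheaf.stalk x) (F.presheaf.stalk x)) (i : ℕ) : (i < n → Function.Bijective (Formal.toHHlim (Ideal.span {t}) F i)) ∧ (i = n → Function.Injective (Formal.toHHlim (Ideal.span {t}) F i)) := by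
  exact Groth.Agent.H24Punct.toHHlim_of_depth A (IsLocalRing.maximalIdeal A) R π hπ t _ (Groth.Agent.H24Punct.puncturedSpec_eq A) F hF hreg n (fun x hx => hdepth x (Groth.Agent.H24Punct.isClosed_singleton_of_relCodim A x hx)) i

end Groth.Agent.S3372
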