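import Groth.Statements.S3374
import Groth.Agent.H11Leff.NFApply

set_option autoImplicit false
universe u
open CategoryTheory CategoryTheory.Limits AlgebraicGeometry
open LefX

namespace Groth.Agent.S3374

/-- Let A be a Noetherian local ring, J a proper ideal such that (i) A/J has depth ≥ 3, (ii) every
J^n/J^(n+1) is a free A/J-module (gr_J(A) is free over A/J), (iii) A is separated and complete for
the J-adic topology. Let U be the punctured spectrum of A, U_0 = U ∩ V(J) and Û the completion of U
along U_0. Then (a) for every finite locally free O_U-module D the map Hom(D, O_U) → lim_n Hom(D,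
O_U/J^(n+1)O_U) is bijective (the completion functor is fully faithful on finite locally free
modules), and (b) every levelwise finite locally free system of coherent modules on Û is isomorphic
to the completion of a coherent (not necessarily locally free) O_U-module. -/
theorem result (A : Type u) [CommRing A] [IsLocalRing A] [IsNoetherianRing A] (J : Ideal A) (hJ : J ≠ ⊤) [IsLocalRing (A ⧸ J)] (hd : (3 : ℕ∞) ≤ LocCoh.depth (A ⧸ J) (A ⧸ J)) (hgr : ∀ n : ℕ, Module.Free (A ⧸ J) (↥(J ^ n) ⧸ (J • (⊤ : Submodule A ↥(J ^ n))))) [IsAdicComplete J A] : (∀ D : (↑(FEt.puncturedSpec A) : Scheme.{u}).Modules, FlatMod.IsFinLocFree D → Lef.HomToFormalBijective ((Spec.map (CommRingCat.ofHom (Ideal.Quotient.mk J))).ker.comap (FEt.puncturedSpec A).ι) D) ∧ (∀ 𝔐 : FSch.ModSys (FSch.completionAlong (↑(FEt.puncturedSpec A) : Scheme.{u}) ((Spec.map (CommRingCat.ofHom (Ideal.Quotient.mk J))).ker.comap (FEt.puncturedSpec A).ι)), LefX.LevelwiseFinLocFree 𝔐 → ∃ F : (↑(FEt.puncturedSpec A) : Scheme.{u}).Modules, Coh.IsCoh F ∧ Nonempty (FSch.completionMod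 ((Spec.map (CommRingCat.ofHom (Ideal.Quotient.mk J))).ker.comap (FEt.puncturedSpec A).ι) F ≅ 𝔐)) := by
  have hnf := H11Leff.NF.isNormallyFlat_of_pieces J fun n => haveI := hgr n; inferInstance
  have hU : FEt.puncturedSpec A = LocCoh.puncturedOpen A (IsLocalRing.maximalIdeal A) := H24Punct.puncturedSpec_eq A
  refine ⟨fun D hD => H11Leff.NF.homToFormal_of_normallyFlat A J (IsLocalRing.maximalIdeal A) hnf
    (fun x hx _ => H11Leff.NF.depth_local J hd x hx) (fun x hx hJx => (hJx ?_).elim) _ hU D hD, fun 𝔐 hM => ?_⟩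
  · exact (IsLocalRing.le_maximalIdeal hJ).trans hx
  · exact H11Leff.NF.exists_algebraization A J (IsLocalRing.maximalIdeal A) hnf
      (H11Leff.NF.finite_H_local J hd) _ hU 𝔐 hM

end Groth.Agent.S3374
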