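import Groth.Statements.S3386
import Groth.Agent.H06Equidim.AffineSpace

set_option autoImplicit false
open CategoryTheory AlgebraicGeometry
universe u
open EGA43

namespace Groth.Agent.S3386

open TopologicalSpace Topology
set_option linter.style.haveILetI false
set_option backward.isDefEq.respectTransparency false

open CategoryTheory.Limits in
/-- Conditions a) and b): let f : X ⟶ Y be locally of finite type and fix a point x of X. Condition a)
is equidimensionality of f at x (the definition used here); condition b): there are a natural number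
e, an open neighbourhood U of x and a Y-morphism g from U to the affine space of dimension e over Y
which is locally quasi-finite and sends the generic point of every irreducible component of U to the
generic point of an irreducible component of the affine space. Then a) implies b); and b) implies a)
when Y is locally Noetherian. (The source states the equivalence over an arbitrary base; the
implication b) ⟹ a) uses that irreducible components are locally finite and fails without some such
hypothesis.) -/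
theorem result {X Y : Scheme.{u}}
    (f : X ⟶ Y) [LocallyOfFiniteType f] (x : X) :
    (EGA43.IsEquidimAt f x → (∃ (e : ℕ) (U : X.Opens) (g : (U : Scheme.{u}) ⟶ 𝔸(ULift.{u} (Fin e); Y)),
        x ∈ U ∧ g ≫ (𝔸(ULift.{u} (Fin e); Y) ↘ Y) = U.ι ≫ f ∧ LocallyQuasiFinite g ∧
        ∀ Z ∈ irreducibleComponents (↥U : Type u),
          closure (g.base '' Z) ∈ irreducibleComponents (↥𝔸(ULift.{u} (Fin e); Y) : Type u))) ∧
    (IsLocallyNoetherian Y → (∃ (e : ℕ) (U : X.Opens) (g : (U : Scheme.{u}) ⟶ 𝔸(ULift.{u} (Fin e); Y)),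
        x ∈ U ∧ g ≫ (𝔸(ULift.{u} (Fin e); Y) ↘ Y) = U.ι ≫ f ∧ LocallyQuasiFinite g ∧
        ∀ Z ∈ irreducibleComponents (↥U : Type u),
          closure (g.base '' Z) ∈ irreducibleComponents (↥𝔸(ULift.{u} (Fin e); Y) : Type u)) → EGA43.IsEquidimAt f x) := by
  constructor
  · rintro ⟨e, U, hxU, hcomp, hfib⟩
    have hdimU : ∀ z : U.toScheme, FlatMor.fibreDimAt (U.ι ≫ f) z = e :=
      H06Equidim.fibreDimAt_eq_of_dim_component_fibre (U.ι ≫ f) e hfib
    obtain ⟨(W : Y.Opens), (hW : IsAffineOpen W), hxW, -⟩ := Opens.isBasis_iff_nbhd.mp Y.isBasis_affineOpens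
      (show f x ∈ (⊤ : Y.Opens) from trivial)
    obtain ⟨(V : X.Opens), (hV : IsAffineOpen V), hxV, hVW⟩ := Opens.isBasis_iff_nbhd.mp X.isBasis_affineOpens
      (show x ∈ U ⊓ f ⁻¹ᵁ W from ⟨hxU, hxW⟩)
    obtain ⟨q, rfl⟩ : x ∈ Set.range hV.fromSpec := by rw [hV.range_fromSpec]; exact hxV
    letI := (f.appLE W V (hVW.trans inf_le_right)).hom.toAlgebra
    let φ := Spec.map (CommRingCat.ofHom (algebraMap Γ(Y, W) Γ(X, V)))
    haveI hft : Algebra.FiniteType Γ(Y, W) Γ(X, V) := f.finiteType_appLE hW hV _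
    haveI : LocallyOfFiniteType φ := (HasRingHomProperty.Spec_iff (P := @LocallyOfFiniteType)).mpr
      (RingHom.finiteType_algebraMap.mpr inferInstance)
    have hsq : φ ≫ hW.fromSpec = hV.fromSpec ≫ f :=
      IsAffineOpen.SpecMap_appLE_fromSpec f hW hV (hVW.trans inf_le_right)
    have hdim : ∀ w, FlatMor.fibreDimAt φ w = e := fun w => by
      have hwU : hV.fromSpec w ∈ U := (hVW (show hV.fromSpec w ∈ (V : Set X) from hV.range_fromSpec ▸ Set.mem_range_self w)).1
      rw [← H8Props.FieldDim.fibreDimAt_comp_openImmersion φ hW.fromSpec w, hsq,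
        H8Props.FieldDim.fibreDimAt_openImmersion_comp hV.fromSpec f w, ← hdimU ⟨_, hwU⟩,
        H06Equidim.fibreDimAt_opens_ι f U ⟨_, hwU⟩]
      rfl
    obtain ⟨σ, _, γ', hσ, hqf'⟩ := H8Props.FieldDim.exists_quasiFiniteAt_map q e (hdim q).le
    let ε : ULift.{u} (Fin (Fintype.card σ)) ≃ σ := Equiv.ulift.trans (Fintype.equivFin σ).symm
    let γ := γ'.comp (MvPolynomial.renameEquiv Γ(Y, W) ε).toAlgHom
    let G := Spec.map (CommRingCat.ofHom γ.toRingHom)
    have hGfac : G = Spec.map (CommRingCat.ofHom γ'.toRingHom) ≫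
        Spec.map (MvPolynomial.renameEquiv Γ(Y, W) ε).toRingEquiv.toCommRingCatIso.hom := by
      rw [← Spec.map_comp]
      rfl
    have hqf : G.QuasiFiniteAt q := by
      rw [hGfac]
      exact Scheme.Hom.quasiFiniteAt_comp_iff.mpr hqf'
    let π := Spec.map (CommRingCat.ofHom (algebraMap Γ(Y, W)
      (MvPolynomial (ULift.{u} (Fin (Fintype.card σ))) Γ(Y, W))))
    haveI : LocallyOfFiniteType π := (HasRingHomProperty.Spec_iff (P := @LocallyOfFiniteType)).mpr
      (RingHom.finiteType_algebraMap.mpr inferInstance)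
    have hGπ : G ≫ π = φ := by
      rw [← Spec.map_comp, ← CommRingCat.ofHom_comp, AlgHom.toRingHom_eq_coe, γ.comp_algebraMap]
    haveI : LocallyOfFiniteType G :=
      haveI : LocallyOfFiniteType (G ≫ π) := hGπ ▸ inferInstance
      locallyOfFiniteType_of_comp G π
    let j := (AffineSpace.SpecIso (ULift.{u} (Fin (Fintype.card σ))) Γ(Y, W)).inv ≫
      AffineSpace.map _ hW.fromSpec
    haveI : IsOpenImmersion (AffineSpace.map (ULift.{u} (Fin (Fintype.card σ))) hW.fromSpec) :=
      MorphismProperty.of_isPullback (AffineSpace.isPullback_map hW.fromSpec).flip inferInstance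
    let g := (hV.fromSpec.isoImage G.quasiFiniteLocus).inv ≫ (G.quasiFiniteLocus.ι ≫ G) ≫ j
    refine ⟨Fintype.card σ, hV.fromSpec ''ᵁ G.quasiFiniteLocus, g, ⟨q, hqf, rfl⟩, ?_, inferInstance, ?_⟩
    · have hjh : j ≫ (𝔸(ULift.{u} (Fin (Fintype.card σ)); Y) ↘ Y) = π ≫ hW.fromSpec := by
        simp only [j, Category.assoc, AffineSpace.map_over, AffineSpace.SpecIso_inv_over_assoc]
        rfl
      simp only [g, Category.assoc, hjh]
      rw [reassoc_of% hGπ, hsq, Scheme.Hom.isoImage_inv_ι_assoc]
    · intro Z hZ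
      obtain ⟨η', rfl, hη'⟩ := H8Props.FieldDim.mem_irreducibleComponents_iff
        (Z := (hV.fromSpec ''ᵁ G.quasiFiniteLocus).toScheme) hZ
      obtain ⟨z, rfl⟩ : ∃ z, (hV.fromSpec.isoImage G.quasiFiniteLocus).hom z = η' :=
        ⟨(hV.fromSpec.isoImage G.quasiFiniteLocus).inv η', by rw [← Scheme.Hom.comp_apply]; simp⟩
      let η := G.quasiFiniteLocus.ι z
      have hη : ∀ ζ, ζ ⤳ η → ζ = η := fun ζ hζ => by
        have hζV : ζ ∈ G.quasiFiniteLocus := hζ.mem_open G.quasiFiniteLocus.2 z.2
        have h1 := hη' ((hV.fromSpec.isoImage G.quasiFiniteLocus).hom ⟨ζ, hζV⟩)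
          (((G.quasiFiniteLocus.ι.isEmbedding.isInducing.specializes_iff).mp
            (show G.quasiFiniteLocus.ι ⟨ζ, hζV⟩ ⤳ G.quasiFiniteLocus.ι z from hζ)).map
            (Scheme.Hom.continuous _))
        have h2 := (hV.fromSpec.isoImage G.quasiFiniteLocus).hom.isEmbedding.injective h1
        exact congrArg G.quasiFiniteLocus.ι h2
      have hηV : hV.fromSpec η ∈ V := show hV.fromSpec η ∈ (V : Set X) from hV.range_fromSpec ▸ Set.mem_range_self η
      have hηU : hV.fromSpec η ∈ U := (hVW hηV).1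
      have hmaxU : ∀ ζ : U.toScheme, ζ ⤳ ⟨_, hηU⟩ → ζ = ⟨_, hηU⟩ := fun ζ hζ => by
        have hζX : U.ι ζ ⤳ hV.fromSpec η := hζ.map U.ι.continuous
        obtain ⟨a, ha⟩ : U.ι ζ ∈ Set.range hV.fromSpec := by
          rw [hV.range_fromSpec]; exact hζX.mem_open V.2 hηV
        rw [← ha] at hζX
        have h1 := hη a (hV.fromSpec.isEmbedding.isInducing.specializes_iff.mp hζX)
        refine U.ι.isEmbedding.injective ?_
        rw [← ha, h1]
        rfl
      have hmaxY : ∀ w, w ⤳ f (hV.fromSpec η) → w = f (hV.fromSpec η) := by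
        obtain ⟨W', hW', -, hW'eq⟩ := hcomp _
          (H06Equidim.closure_singleton_mem_irreducibleComponents (Z := U.toScheme) ⟨_, hηU⟩ hmaxU)
        have h1 : closure ({f (hV.fromSpec η)} : Set Y) ∈ irreducibleComponents Y := by
          have h2 := H06Equidim.closure_image_closure_singleton (U.ι ≫ f) ⟨_, hηU⟩
          exact (h2.symm.trans hW'eq : closure {f (hV.fromSpec η)} = W') ▸ hW'
        exact H06Equidim.eq_of_specializes_of_component h1
      have hcd : H8Props.FieldDim.cdim (π.asFiber (G η)) = FlatMor.fibreDimAt π (G η) := by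
        refine le_antisymm (H06Equidim.cdim_asFiber_le_fibreDimAt π _) ?_
        rw [(H8Props.FieldDim.affineSpace_fibre _ (G η)).1, Fintype.card_ulift, Fintype.card_fin]
        haveI : LocallyOfFiniteType (G ≫ π) := inferInstance
        have h1 : H8Props.FieldDim.cdim ((G ≫ π).asFiber η) = (e : WithBot ℕ∞) :=
          (H06Equidim.cdim_asFiber_eq_fibreDimAt (G ≫ π) η hη).trans (by rw [hGπ]; exact hdim η)
        rw [H06Equidim.cdim_asFiber_comp] at h1
        refine le_trans ?_ (le_trans h1.ge ((add_le_add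
          ((H06Equidim.cdim_asFiber_le_fibreDimAt G η).trans
            (H8Props.FieldDim.fibreDimAt_le_zero_of_quasiFiniteAt G z.2)) le_rfl).trans (zero_add _).le))
        exact_mod_cast hσ
      have hgη : g ((hV.fromSpec.isoImage G.quasiFiniteLocus).hom z) = j (G η) := by
        rw [← Scheme.Hom.comp_apply]
        simp only [g, Iso.hom_inv_id_assoc, Category.assoc]
        rfl
      rw [H06Equidim.closure_image_closure_singleton, hgη]
      refine H06Equidim.closure_singleton_mem_irreducibleComponents _ fun ζ hζ => ?_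
      obtain ⟨a, rfl⟩ : ζ ∈ Set.range j := hζ.mem_open j.opensRange.2 ⟨G η, rfl⟩
      have haG : a ⤳ G η := j.isEmbedding.isInducing.specializes_iff.mp hζ
      refine congrArg j (H06Equidim.eq_of_specializes_of_cdim_eq π (G η) hcd a haG ?_)
      apply hW.fromSpec.isEmbedding.injective
      refine (hmaxY _ ?_).trans ?_
      · rw [← Scheme.Hom.comp_apply hV.fromSpec f, ← hsq, ← hGπ]
        exact (haG.map π.continuous).map hW.fromSpec.continuous
      · rw [← Scheme.Hom.comp_apply hV.fromSpec f, ← hsq, ← hGπ]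
        rfl
  · intro hYn hb
    obtain ⟨e, U₀, g, hxU₀, hg, hlqf, hdom⟩ := hb
    haveI : IsLocallyNoetherian X := LocallyOfFiniteType.isLocallyNoetherian f
    let h := 𝔸(ULift.{u} (Fin e); Y) ↘ Y
    haveI : Flat h := H06Equidim.flat_affineSpace _
    haveI : LocallyOfFiniteType g :=
      haveI : LocallyOfFiniteType (g ≫ h) := by rw [hg]; infer_instance
      locallyOfFiniteType_of_comp g h
    have hgdim : ∀ z, FlatMor.fibreDimAt g z ≤ 0 := fun z =>
      H8Props.FieldDim.fibreDimAt_le_zero_of_quasiFiniteAt g (g.quasiFiniteAt z)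
    have hhdim : ∀ a, FlatMor.fibreDimAt h a = e := fun a => by
      rw [H06Equidim.fibreDimAt_affineSpace]; simp
    have hgen : ∀ η : U₀.toScheme, (∀ ζ, ζ ⤳ η → ζ = η) →
        (∀ w, w ⤳ f (U₀.ι η) → w = f (U₀.ι η)) ∧
          FlatMor.fibreDimAt (g ≫ h) η = e := fun η hη => by
      have h1 := hdom _ (H06Equidim.closure_singleton_mem_irreducibleComponents η hη)
      rw [H06Equidim.closure_image_closure_singleton] at h1
      have h2 := H06Equidim.eq_of_specializes_of_component h1
      constructor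
      · intro w hw
        rw [← Scheme.Hom.comp_apply U₀.ι f, ← hg, Scheme.Hom.comp_apply] at hw ⊢
        obtain ⟨a, ha, haw⟩ := Flat.generalizingMap h hw
        rw [← haw, h2 a ha]
      · refine le_antisymm (((H8Props.FieldDim.fibreDimAt_comp_le g h η).1).trans ?_) ?_
        · rw [hhdim]
          exact (add_le_add (hgdim η) le_rfl).trans (zero_add _).le
        · rw [← H06Equidim.cdim_asFiber_eq_fibreDimAt (g ≫ h) η hη, H06Equidim.cdim_asFiber_comp,
            H06Equidim.cdim_asFiber_eq_fibreDimAt h (g η) h2, hhdim]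
          obtain ⟨a, ha, -⟩ := H06Equidim.exists_trdeg_asFiber g η
          rw [ha]
          exact le_add_of_nonneg_left (Nat.cast_nonneg' _)
    have hdim : ∀ z : U₀.toScheme, FlatMor.fibreDimAt (U₀.ι ≫ f) z = e := fun z => by
      rw [← hg]
      obtain ⟨η, hη, hT⟩ := H8Props.FieldDim.exists_component_generization z
      refine le_antisymm (((H8Props.FieldDim.fibreDimAt_comp_le g h z).1).trans ?_) ?_
      · rw [hhdim]
        exact (add_le_add (hgdim z) le_rfl).trans (zero_add _).le
      · rw [← (hgen η (H06Equidim.eq_of_specializes_of_component hT)).2]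
        exact H8Props.FieldDim.fibreDimAt_le_of_specializes (g ≫ h) hη
    obtain ⟨U, hxU, hUle, hU⟩ := H06Equidim.exists_nhd_components_mem x U₀ hxU₀
    refine ⟨e, U, hxU, fun Z hZ => ?_, fun x' Z hZ =>
      H06Equidim.dim_component_fibre_of_fibreDimAt (U.ι ≫ f) e (fun z => ?_) _ Z hZ⟩
    · obtain ⟨η, rfl, hη⟩ := H8Props.FieldDim.mem_irreducibleComponents_iff (Z := U.toScheme) hZ
      have hηX : ∀ ζ, ζ ⤳ U.ι η → ζ = U.ι η := fun ζ hζ => by
        have hζU : ζ ∈ U := hζ.mem_open U.2 η.2
        rw [← hη ⟨ζ, hζU⟩ (U.ι.isEmbedding.isInducing.specializes_iff.mp hζ)]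
        rfl
      have hmaxY := (hgen ⟨U.ι η, hUle η.2⟩ fun ζ hζ =>
        U₀.ι.isEmbedding.injective (hηX _ (hζ.map U₀.ι.continuous))).1
      refine ⟨closure {(U.ι ≫ f) η},
        H06Equidim.closure_singleton_mem_irreducibleComponents _ hmaxY, ?_,
        H06Equidim.closure_image_closure_singleton _ _⟩
      exact specializes_iff_mem_closure.mp ((hU _ η.2 hηX).map f.continuous)
    · rw [H06Equidim.fibreDimAt_opens_ι f U z, ← hdim ⟨_, hUle z.2⟩,
        H06Equidim.fibreDimAt_opens_ι f U₀ ⟨_, hUle z.2⟩]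
      rfl

end Groth.Agent.S3386
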