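import Groth.Statements.S3387
import Groth.Agent.H06Equidim.AffineSpace

set_option autoImplicit false
open CategoryTheory AlgebraicGeometry
universe u
open EGA43

namespace Groth.Agent.S3387

open TopologicalSpace Topology
set_option linter.style.haveILetI false

/-- Let f : X ⟶ Y be locally of finite type and closed (as a map of underlying spaces). Then for every
natural number n the set of points y of Y whose fibre has dimension at least n is closed; that is,
the dimension of the fibre is upper semicontinuous on Y. -/
theorem result {X Y : Scheme.{u}} (f : X ⟶ Y) [LocallyOfFiniteType f]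
    (hf : IsClosedMap f.base) (n : ℕ) :
    IsClosed {y : Y | (n : WithBot ℕ∞) ≤ topologicalKrullDim ↥(f.fiber y)} := by
  have hset : {y : Y | (n : WithBot ℕ∞) ≤ topologicalKrullDim ↥(f.fiber y)} =
      f.base '' {x | (n : WithBot ℕ∞) ≤ FlatMor.fibreDimAt f x} := by
    ext y
    constructor
    · intro hy
      haveI := H8Props.FieldDim.locallyOfFiniteType_fiberToSpec f y
      obtain ⟨u, hu⟩ : ∃ u : f.fiber y, (n : WithBot ℕ∞) ≤ H8Props.FieldDim.cdim u := by
        by_contra hcon
        push Not at hcon
        refine (not_lt_of_ge (show (n : WithBot ℕ∞) ≤ topologicalKrullDim ↥(f.fiber y) from hy)) ?_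
        rw [H8Props.FieldDim.dim_eq_iSup_cdim]
        cases n with
        | zero =>
          refine lt_of_le_of_lt (iSup_le fun u => (?_ : _ ≤ (⊥ : WithBot ℕ∞))) (WithBot.bot_lt_coe _)
          exfalso
          obtain ⟨s, hs⟩ := H8Props.FieldDim.exists_nat_cdim (k := Y.residueField y) (f.fiberToSpecResidueField y) u
          have := hcon u
          rw [hs] at this
          exact absurd (Nat.cast_lt.mp this) (Nat.not_lt_zero s)
        | succ m =>
          refine lt_of_le_of_lt (iSup_le fun u => (?_ : _ ≤ ((m : ℕ) : WithBot ℕ∞))) (by exact_mod_cast Nat.lt_succ_self m)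
          obtain ⟨s, hs⟩ := H8Props.FieldDim.exists_nat_cdim (k := Y.residueField y) (f.fiberToSpecResidueField y) u
          have := hcon u
          rw [hs] at this ⊢
          exact_mod_cast Nat.lt_succ_iff.mp (Nat.cast_lt.mp this)
      refine ⟨f.fiberι y u, ?_, (f.range_fiberι y).subset (Set.mem_range_self u)⟩
      show _ ≤ FlatMor.fibreDimAt f (f.fiberι y u)
      rw [H8Props.FieldDim.fibreDimAt_eq_localDim f u,
        H8Props.FieldDim.localDim_eq (k := Y.residueField y) (f.fiberToSpecResidueField y)]
      exact le_iSup_of_le ⟨u, specializes_rfl⟩ hu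
    · rintro ⟨x, hx, rfl⟩
      exact le_trans hx (H28Top.localDim_le_dim _)
  rw [hset]
  refine hf _ ?_
  cases n with
  | zero =>
    convert isClosed_univ using 1
    refine Set.eq_univ_of_forall fun x => ?_
    obtain ⟨t, ht, -⟩ := H06Equidim.exists_trdeg_asFiber f x
    show _ ≤ FlatMor.fibreDimAt f x
    exact le_trans (by rw [ht]; exact_mod_cast Nat.zero_le t) (H06Equidim.cdim_asFiber_le_fibreDimAt f x)
  | succ m =>
    rw [← isOpen_compl_iff]
    convert H8Props.FieldDim.isOpen_fibreDimAt_le f m using 1
    ext x
    haveI := H8Props.FieldDim.locallyOfFiniteType_fiberToSpec f (f x)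
    obtain ⟨d, hd⟩ := H8Props.FieldDim.exists_nat_localDim (k := Y.residueField (f x))
      (f.fiberToSpecResidueField (f x)) (f.asFiber x)
    have hd : FlatMor.fibreDimAt f x = d := hd
    simp only [Set.mem_compl_iff, Set.mem_setOf_eq, hd, Nat.cast_le]
    omega

end Groth.Agent.S3387
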