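import Groth.Statements.S3388
import Groth.Agent.H06EGA14.FibreDims

set_option autoImplicit false
open CategoryTheory AlgebraicGeometry
universe u
open EGA43

namespace Groth.Agent.S3388

open TopologicalSpace Topology
set_option linter.style.haveILetI false
set_option backward.isDefEq.respectTransparency false

/-- Let X and Y be irreducible schemes and f : X ⟶ Y a dominant morphism locally of finite type; let e
be the dimension of the fibre over the generic point of Y. Then for every point x of X the local
dimension at x of the fibre through x is at least e. -/
theorem result {X Y : Scheme.{u}} [IrreducibleSpace X] [IrreducibleSpace Y]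
    (f : X ⟶ Y) [LocallyOfFiniteType f] [IsDominant f] (x : X) :
    topologicalKrullDim ↥(f.fiber (genericPoint Y)) ≤ FlatMor.fibreDimAt f x := by
  have hfη : f (genericPoint X) = genericPoint Y := H06EGA14.eq_of_closure_singleton_eq (by
    rw [← H06Equidim.closure_image_closure_singleton f (genericPoint X), genericPoint_closure, Set.image_univ,
      f.denseRange.closure_range, genericPoint_closure])
  refine le_trans ?_ (H8Props.FieldDim.fibreDimAt_le_of_specializes f (genericPoint_specializes x))
  refine le_trans (le_of_eq ?_) (H06Equidim.cdim_asFiber_le_fibreDimAt f _)
  rw [← H06EGA14.dim_inter_eq_cdim f _ hfη, genericPoint_closure, Set.univ_inter,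
    ← f.range_fiberι (genericPoint Y), H8Props.FieldDim.dim_range (f.fiberι (genericPoint Y)).isEmbedding]

end Groth.Agent.S3388
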