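import Groth.Statements.S3389
import Groth.Agent.H7Flat.FibreDimConstructible

set_option autoImplicit false
open CategoryTheory AlgebraicGeometry
universe u
open EGA43

namespace Groth.Agent.S3389

open Groth.Agent

/-- Let Y be a quasi-compact scheme and f : X ⟶ Y a morphism of finite type. Then there is a natural
number n bounding the dimension of every fibre of f. -/
theorem result {X Y : Scheme.{u}} [CompactSpace Y] (f : X ⟶ Y)
    [LocallyOfFiniteType f] [QuasiCompact f] :
    ∃ n : ℕ, ∀ y : Y, topologicalKrullDim ↥(f.fiber y) ≤ n := by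
  haveI : CompactSpace X := QuasiCompact.compactSpace_of_compactSpace f
  obtain ⟨n, hn⟩ := (isCompact_univ (X := X)).elim_directed_cover (fun n : ℕ => {x : X | FlatMor.fibreDimAt f x ≤ n})
    (fun n => H7Flat.isOpen_fibreDimAt_le' f _) (fun x _ => Set.mem_iUnion.mpr (by
      obtain ⟨n, hn⟩ := H7Flat.exists_nat_fibreDimAt f x
      exact ⟨n, hn⟩))
    (Monotone.directed_le (fun (a b : ℕ) hab x (hx : FlatMor.fibreDimAt f x ≤ _) => show FlatMor.fibreDimAt f x ≤ _ from hx.trans (by exact_mod_cast hab) : Monotone fun n : ℕ => {x : X | FlatMor.fibreDimAt f x ≤ n}))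
  exact ⟨n, fun y => (H7Flat.dim_fiber_le_iff f y _).mpr fun x _ => hn (Set.mem_univ x)⟩

end Groth.Agent.S3389
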