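import Groth.Statements.S3390
import Groth.Agent.H06EGA14.EquidimCriteria

set_option autoImplicit false
open CategoryTheory AlgebraicGeometry
universe u
open EGA43

namespace Groth.Agent.S3390

set_option backward.isDefEq.respectTransparency false
open TopologicalSpace Topology

/-- Let Y be an irreducible locally Noetherian scheme with generic point η and X an irreducible scheme,
and let f : X ⟶ Y be dominant and locally of finite type. Take a point x of X and write y = f x.
Suppose dim O_{X,x} = dim O_{Y,y} + dim O_{X_y,x}. Then the local dimension of the fibre X_y at x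
(FlatMor.fibreDimAt f x) equals the dimension of the generic fibre X_η (i.e. f is equidimensional at
x). -/
theorem result {X Y : Scheme.{u}} [IrreducibleSpace X] [IrreducibleSpace Y]
    [IsLocallyNoetherian Y] (f : X ⟶ Y) [LocallyOfFiniteType f] [IsDominant f] (x : X)
    (h : ringKrullDim (X.presheaf.stalk x) =
        ringKrullDim (Y.presheaf.stalk (f.base x)) + ringKrullDim ((f.fiber (f.base x)).presheaf.stalk (f.asFiber x))) :
    FlatMor.fibreDimAt f x = topologicalKrullDim ↥(f.fiber (genericPoint Y)) := by
  haveI : IsLocallyNoetherian X := LocallyOfFiniteType.isLocallyNoetherian f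
  obtain ⟨d, hd⟩ := H22Alg.exists_nat_ringKrullDim' (Y.presheaf.stalk (f x))
  obtain ⟨t, ht, -⟩ := H06Equidim.exists_trdeg_asFiber f x
  obtain ⟨e, hfd⟩ := H22Alg.exists_nat_fibreDimAt f x
  have hdim : ((d + e : ℕ) : WithBot ℕ∞) ≤ ringKrullDim (X.presheaf.stalk x) + (t : ℕ) := by
    rw [h, add_assoc, ← H06EGA14.fibreDimAt_eq_stalk_add f x t ht, hfd, hd, ← Nat.cast_add]
  have hmax : ∀ w, w ⤳ genericPoint X → w = genericPoint X := fun w hw =>
    (hw.antisymm (genericPoint_specializes w)).eq
  obtain ⟨hmaxY, hgen⟩ := H06EGA14.forall_component_of_dim f x (H06EGA14.isEquidim_stalk_of_irreducibleSpace x)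
    d t e hd ht hfd hdim (genericPoint X) (genericPoint_specializes x) hmax
  have hfη : f (genericPoint X) = genericPoint Y := (hmaxY _ (genericPoint_specializes _)).symm
  rw [hfd, ← hgen, ← H06Equidim.cdim_asFiber_eq_fibreDimAt f _ hmax, ← H06EGA14.dim_inter_eq_cdim f _ hfη,
    genericPoint_closure, Set.univ_inter,
    ← f.range_fiberι (genericPoint Y), H8Props.FieldDim.dim_range (f.fiberι (genericPoint Y)).isEmbedding]

end Groth.Agent.S3390
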