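import Groth.Statements.S3391
import Groth.Agent.H06EGA14.CatenaryFormula

set_option autoImplicit false
open CategoryTheory AlgebraicGeometry
universe u
open EGA43

namespace Groth.Agent.S3391

open TopologicalSpace Topology
set_option linter.style.haveILetI false
set_option backward.isDefEq.respectTransparency false

/-- With X, Y, f, x, y as in the first assertion, suppose O_{Y,y} is universally catenary and the local
dimension at x of the fibre through x equals the dimension of the generic fibre. Then dim O_{X,x} =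
dim O_{Y,y} + dim O_{X_y,x}. -/
theorem result {X Y : Scheme.{u}} [IrreducibleSpace X] [IrreducibleSpace Y]
    [IsLocallyNoetherian Y] (f : X ⟶ Y) [LocallyOfFiniteType f] [IsDominant f] (x : X)
    (hcat : CAlg.IsUniversallyCatenary (Y.presheaf.stalk (f.base x)))
    (h : FlatMor.fibreDimAt f x = topologicalKrullDim ↥(f.fiber (genericPoint Y))) :
    ringKrullDim (X.presheaf.stalk x) =
        ringKrullDim (Y.presheaf.stalk (f.base x)) + ringKrullDim ((f.fiber (f.base x)).presheaf.stalk (f.asFiber x)) := by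
  haveI : IsLocallyNoetherian X := LocallyOfFiniteType.isLocallyNoetherian f
  obtain ⟨t, ht, httr⟩ := H06Equidim.exists_trdeg_asFiber f x
  obtain ⟨e, hfd⟩ := H22Alg.exists_nat_fibreDimAt f x
  have hfη : f (genericPoint X) = genericPoint Y := H06EGA14.eq_of_closure_singleton_eq (by
    rw [← H06Equidim.closure_image_closure_singleton f (genericPoint X), genericPoint_closure, Set.image_univ,
      f.denseRange.closure_range, genericPoint_closure])
  obtain ⟨p, hp⟩ : genericPoint X ∈ Set.range (X.fromSpecStalk x) := by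
    rw [Scheme.range_fromSpecStalk]; exact genericPoint_specializes x
  let p₀ : PrimeSpectrum (Y.presheaf.stalk (f x)) := PrimeSpectrum.comap (f.stalkMap x).hom p
  have hp₀ : Y.fromSpecStalk (f x) p₀ = f (X.fromSpecStalk x p) :=
    congrArg (fun φ : Spec (X.presheaf.stalk x) ⟶ Y => φ p) (Scheme.SpecMap_stalkMap_fromSpecStalk f)
  have hpmin : p.asIdeal ∈ minimalPrimes (X.presheaf.stalk x) := by
    refine ⟨⟨p.2, bot_le⟩, fun J hJ hJle => ?_⟩
    have h1 : X.fromSpecStalk x ⟨J, hJ.1⟩ ⤳ genericPoint X := hp ▸ ((PrimeSpectrum.le_iff_specializes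
      (⟨J, hJ.1⟩ : PrimeSpectrum (X.presheaf.stalk x)) p).mp hJle).map (X.fromSpecStalk x).continuous
    exact (congrArg PrimeSpectrum.asIdeal ((X.fromSpecStalk x).isEmbedding.injective
      (((h1.antisymm (genericPoint_specializes _)).eq).trans hp.symm))).ge
  have hp₀min : p₀.asIdeal ∈ minimalPrimes (Y.presheaf.stalk (f x)) := by
    refine ⟨⟨p₀.2, bot_le⟩, fun J hJ hJle => ?_⟩
    have h1 : Y.fromSpecStalk (f x) ⟨J, hJ.1⟩ ⤳ genericPoint Y := hfη ▸ hp ▸ hp₀ ▸ ((PrimeSpectrum.le_iff_specializes
      (⟨J, hJ.1⟩ : PrimeSpectrum (Y.presheaf.stalk (f x))) p₀).mp hJle).map (Y.fromSpecStalk (f x)).continuous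
    exact (congrArg PrimeSpectrum.asIdeal ((Y.fromSpecStalk (f x)).isEmbedding.injective
      (((h1.antisymm (genericPoint_specializes _)).eq).trans (hp₀.trans ((congrArg f hp).trans hfη)).symm))).ge
  obtain ⟨d, hd⟩ := H22Alg.exists_nat_ringKrullDim' (Y.presheaf.stalk (f x))
  have he : H8Props.FieldDim.cdim (f.asFiber (X.fromSpecStalk x p)) = (e : WithBot ℕ∞) := by
    rw [hp, ← H06EGA14.dim_inter_eq_cdim f _ hfη, genericPoint_closure, Set.univ_inter,
      ← f.range_fiberι (genericPoint Y), H8Props.FieldDim.dim_range (f.fiberι (genericPoint Y)).isEmbedding,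
      ← h, hfd]
  have key := H06EGA14.quotient_dim_add_eq_of_catenary f x hcat p d t e
    ((H06EGA14.isEquidim_stalk_of_irreducibleSpace (f x) _ hp₀min).trans hd) ht he
  rw [H06EGA14.isEquidim_stalk_of_irreducibleSpace x _ hpmin] at key
  refine H06EGA14.withBot_add_nat_cancel (t := t) ?_
  rw [key, add_assoc, ← H06EGA14.fibreDimAt_eq_stalk_add f x t ht, hfd, hd, ← Nat.cast_add]

end Groth.Agent.S3391
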