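import Groth.Statements.S3392
import Groth.Agent.H06EGA14.CatenaryCriteria

set_option autoImplicit false
open CategoryTheory AlgebraicGeometry
universe u
open EGA43

namespace Groth.Agent.S3392

open TopologicalSpace Topology
set_option linter.style.haveILetI false
set_option backward.isDefEq.respectTransparency false

/-- Let Y be an irreducible locally Noetherian scheme, f : X ⟶ Y a morphism of finite type and y a point
of Y. Condition (a): for every point x of the fibre over y, dim O_{X,x} = dim O_{Y,y} + dim
O_{X_y,x}. Condition (b): for every point z of the fibre over y at which the local ring of the fibre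
has dimension 0 (the generic points of the irreducible components of the fibre), dim O_{X,z} = dim
O_{Y,y}. Then (a) implies (b), and (b) implies (a) if O_{Y,y} is universally catenary. -/
theorem result {X Y : Scheme.{u}} [IrreducibleSpace Y] [IsLocallyNoetherian Y]
    (f : X ⟶ Y) [LocallyOfFiniteType f] [QuasiCompact f] (y : Y) :
    ((∀ x : X, f.base x = y → ringKrullDim (X.presheaf.stalk x) =
        ringKrullDim (Y.presheaf.stalk (f.base x)) + ringKrullDim ((f.fiber (f.base x)).presheaf.stalk (f.asFiber x))) →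
      (∀ z : X, f.base z = y → ringKrullDim ((f.fiber (f.base z)).presheaf.stalk (f.asFiber z)) = 0 →
        ringKrullDim (X.presheaf.stalk z) = ringKrullDim (Y.presheaf.stalk (f.base z)))) ∧
    (CAlg.IsUniversallyCatenary (Y.presheaf.stalk y) →
      (∀ z : X, f.base z = y → ringKrullDim ((f.fiber (f.base z)).presheaf.stalk (f.asFiber z)) = 0 →
        ringKrullDim (X.presheaf.stalk z) = ringKrullDim (Y.presheaf.stalk (f.base z))) →
      (∀ x : X, f.base x = y → ringKrullDim (X.presheaf.stalk x) =
        ringKrullDim (Y.presheaf.stalk (f.base x)) + ringKrullDim ((f.fiber (f.base x)).presheaf.stalk (f.asFiber x)))) := by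
  haveI : IsLocallyNoetherian X := LocallyOfFiniteType.isLocallyNoetherian f
  refine ⟨fun h z hz h0 => by rw [h z hz, h0, add_zero], fun hcat h x hx => ?_⟩
  refine le_antisymm (H06EGA14.stalk_dim_le_add f x) ?_
  obtain ⟨t, ht, -⟩ := H06Equidim.exists_trdeg_asFiber f x
  obtain ⟨e, hfd⟩ := H22Alg.exists_nat_fibreDimAt f x
  obtain ⟨ξ, hξ, hfξ, hξmax, hξd⟩ := H06EGA14.exists_maximal_generization f x
  have hξfd : FlatMor.fibreDimAt f ξ = (e : ℕ) := by
    rw [← H06EGA14.cdim_asFiber_eq_fibreDimAt_of_fibre f ξ hξmax, hξd, hfd]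
  have h0 := (H06EGA14.fibre_stalk_dim_eq_zero_iff f ξ).mpr (H06EGA14.cdim_asFiber_eq_fibreDimAt_of_fibre f ξ hξmax)
  obtain ⟨η, hη, -, hfull, hcd⟩ := H06EGA14.exists_full_component f ξ e hξfd (hξd.trans hfd)
    (h ξ (hfξ.trans hx) h0)
  rw [hfξ] at hfull
  have key := H06EGA14.add_le_of_isFull f x η (hη.trans hξ) (hx ▸ hcat) hfull t e ht hcd
  rw [← hfd, H06EGA14.fibreDimAt_eq_stalk_add f x t ht, ← add_assoc] at key
  obtain ⟨d, hd⟩ := H22Alg.exists_nat_ringKrullDim' (X.presheaf.stalk x)
  rw [hd] at key ⊢
  generalize ringKrullDim (Y.presheaf.stalk (f x)) +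
      ringKrullDim ((f.fiber (f x)).presheaf.stalk (f.asFiber x)) = a at key ⊢
  induction a using WithBot.recBotCoe with
  | bot => exact bot_le
  | coe a =>
    induction a using ENat.recTopCoe with
    | top =>
      have h1 : (⊤ : ℕ∞) + (t : ℕ∞) ≤ ((d : ℕ∞) + (t : ℕ∞)) := WithBot.coe_le_coe.mp key
      simp at h1
    | coe a =>
      have h1 : a + t ≤ d + t := by exact_mod_cast key
      exact_mod_cast (show a ≤ d by omega)

end Groth.Agent.S3392
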