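import Groth.Statements.S3393
import Groth.Agent.H06EGA14.CatenaryCriteria

set_option autoImplicit false
open CategoryTheory AlgebraicGeometry
universe u
open EGA43

namespace Groth.Agent.S3393

open TopologicalSpace Topology
set_option linter.style.haveILetI false
set_option backward.isDefEq.respectTransparency false

/-- Let Y be an irreducible locally Noetherian scheme with generic point η, f : X ⟶ Y a morphism of
finite type and y a point of Y. Condition (b): for every point z of the fibre over y at which the
local ring of the fibre has dimension 0, dim O_{X,z} = dim O_{Y,y}. Condition (c): for every such z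
there is an irreducible component X' of X containing z such that the dimension of X' ∩ f⁻¹(η)
(topology induced from X) equals the local dimension at z of the fibre over y (the dimension of the
irreducible component of the fibre with generic point z). Then (b) implies (c), and (c) implies (b)
if O_{Y,y} is universally catenary. -/
theorem result {X Y : Scheme.{u}} [IrreducibleSpace Y] [IsLocallyNoetherian Y]
    (f : X ⟶ Y) [LocallyOfFiniteType f] [QuasiCompact f] (y : Y) :
    ((∀ z : X, f.base z = y → ringKrullDim ((f.fiber (f.base z)).presheaf.stalk (f.asFiber z)) = 0 →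
        ringKrullDim (X.presheaf.stalk z) = ringKrullDim (Y.presheaf.stalk (f.base z))) →
      (∀ z : X, f.base z = y → ringKrullDim ((f.fiber (f.base z)).presheaf.stalk (f.asFiber z)) = 0 →
        ∃ X' ∈ irreducibleComponents (X : Type u), z ∈ X' ∧
          topologicalKrullDim ↥(X' ∩ f.base ⁻¹' {genericPoint Y}) = FlatMor.fibreDimAt f z)) ∧
    (CAlg.IsUniversallyCatenary (Y.presheaf.stalk y) →
      (∀ z : X, f.base z = y → ringKrullDim ((f.fiber (f.base z)).presheaf.stalk (f.asFiber z)) = 0 →
        ∃ X' ∈ irreducibleComponents (X : Type u), z ∈ X' ∧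
          topologicalKrullDim ↥(X' ∩ f.base ⁻¹' {genericPoint Y}) = FlatMor.fibreDimAt f z) →
      (∀ z : X, f.base z = y → ringKrullDim ((f.fiber (f.base z)).presheaf.stalk (f.asFiber z)) = 0 →
        ringKrullDim (X.presheaf.stalk z) = ringKrullDim (Y.presheaf.stalk (f.base z)))) := by
  haveI : IsLocallyNoetherian X := LocallyOfFiniteType.isLocallyNoetherian f
  have hη₀ : ∀ w, w ⤳ genericPoint Y → w = genericPoint Y := fun w hw =>
    (hw.antisymm (genericPoint_specializes w)).eq
  refine ⟨fun h z hz h0 => ?_, fun hcat h z hz h0 => ?_⟩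
  · obtain ⟨e, hfd⟩ := H22Alg.exists_nat_fibreDimAt f z
    obtain ⟨η, hη, hηmax, hfull, hcd⟩ := H06EGA14.exists_full_component f z e hfd
      (((H06EGA14.fibre_stalk_dim_eq_zero_iff f z).mp h0).trans hfd) (h z hz h0)
    have hfη : f η = genericPoint Y := (hfull.maximal _ (genericPoint_specializes _)).symm
    refine ⟨closure {η}, H06Equidim.closure_singleton_mem_irreducibleComponents η hηmax, hη.mem_closure, ?_⟩
    rw [H06EGA14.dim_inter_eq_cdim f η hfη, hcd, hfd]
  · obtain ⟨X', hX', hzX', heq⟩ := h z hz h0
    obtain ⟨e, hfd⟩ := H22Alg.exists_nat_fibreDimAt f z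
    obtain ⟨η, rfl, hηmax⟩ := H06EGA14.exists_eq_closure_singleton hX'
    obtain ⟨⟨w, hwc, hwf⟩⟩ : Nonempty ↥(closure ({η} : Set X) ∩ f.base ⁻¹' {genericPoint Y}) := by
      by_contra hne
      rw [not_nonempty_iff] at hne
      rw [topologicalKrullDim, Order.krullDim_eq_bot_iff.mpr ⟨fun C => hne.elim C.2.nonempty.some⟩, hfd] at heq
      exact WithBot.bot_ne_coe heq
    have hfη : f η = genericPoint Y := hη₀ _ (by
      have h1 := (specializes_iff_mem_closure.mpr hwc).map f.continuous
      rwa [show f w = genericPoint Y from hwf] at h1)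
    have hfull : H06EGA14.IsFull (f z) (f η) := by
      rw [hfη]
      obtain ⟨p, hp⟩ : genericPoint Y ∈ Set.range (Y.fromSpecStalk (f z)) := by
        rw [Scheme.range_fromSpecStalk]; exact genericPoint_specializes _
      refine ⟨p, hp, H06EGA14.isEquidim_stalk_of_irreducibleSpace (f z) _ ?_⟩
      refine ⟨⟨p.2, bot_le⟩, fun J hJ hJle => ?_⟩
      have h1 : Y.fromSpecStalk (f z) ⟨J, hJ.1⟩ ⤳ genericPoint Y := hp ▸ ((PrimeSpectrum.le_iff_specializes
        (⟨J, hJ.1⟩ : PrimeSpectrum (Y.presheaf.stalk (f z))) p).mp hJle).map (Y.fromSpecStalk (f z)).continuous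
      exact (congrArg PrimeSpectrum.asIdeal ((Y.fromSpecStalk (f z)).isEmbedding.injective
        ((hη₀ _ h1).trans hp.symm))).ge
    rw [H06EGA14.dim_inter_eq_cdim f η hfη, hfd] at heq
    have key := H06EGA14.add_le_of_isFull f z η (specializes_iff_mem_closure.mpr hzX') (hz ▸ hcat) hfull e e
      (((H06EGA14.fibre_stalk_dim_eq_zero_iff f z).mp h0).trans hfd) heq
    refine le_antisymm ((H06EGA14.stalk_dim_le_add f z).trans (by rw [h0, add_zero])) ?_
    obtain ⟨d, hd⟩ := H22Alg.exists_nat_ringKrullDim' (X.presheaf.stalk z)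
    obtain ⟨d', hd'⟩ := H22Alg.exists_nat_ringKrullDim' (Y.presheaf.stalk (f z))
    rw [hd, hd'] at key ⊢
    have h1 : d' + e ≤ d + e := by exact_mod_cast key
    exact_mod_cast (show d' ≤ d by omega)

end Groth.Agent.S3393
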