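import Groth.Statements.S3395
import Groth.Agent.H06Noether.FibreSurj

set_option autoImplicit false
open CategoryTheory AlgebraicGeometry
universe u
open EGA43

namespace Groth.Agent.S3395

open CategoryTheory.Limits in
/-- Let X and Y be affine schemes, f : X ⟶ Y of finite type, y a point of f(X), e the dimension of the
fibre over y, and g a Y-morphism from X to the affine space of dimension e over Y whose base change
to the fibre of the affine space over y is finite. Then that base change is surjective, and g is
locally quasi-finite on some open U ⊆ X that contains the fibre f⁻¹(y). -/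
theorem result {X Y : Scheme.{u}} [IsAffine X] [IsAffine Y]
    (f : X ⟶ Y) [LocallyOfFiniteType f] (y : Y) (hy : y ∈ Set.range f.base) (e : ℕ)
    (he : topologicalKrullDim ↥(f.fiber y) = e) (g : X ⟶ 𝔸(ULift.{u} (Fin e); Y)) (hg : g ≫ (𝔸(ULift.{u} (Fin e); Y) ↘ Y) = f)
    (hfin : IsFinite (pullback.snd g ((𝔸(ULift.{u} (Fin e); Y) ↘ Y).fiberι y))) :
    Function.Surjective (pullback.snd g ((𝔸(ULift.{u} (Fin e); Y) ↘ Y).fiberι y)).base ∧
      ∃ U : X.Opens, f.base ⁻¹' {y} ⊆ (U : Set X) ∧ LocallyQuasiFinite (U.ι ≫ g) := by
  exact Groth.Agent.H06Noether.surjective_and_quasiFinite_nhd f y e he g hg hfin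

end Groth.Agent.S3395
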