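import Groth.Statements.S3396
import Groth.Agent.H06EGA14.CatenaryFormula

set_option autoImplicit false
open CategoryTheory AlgebraicGeometry
universe u
open EGA43

namespace Groth.Agent.S3396

open TopologicalSpace Topology
set_option linter.style.haveILetI false
set_option backward.isDefEq.respectTransparency false

/-- Let Y be locally Noetherian, f : X ⟶ Y locally of finite type and equidimensional at the point x,
and suppose the local ring O_{Y,f x} is universally catenary. If O_{Y,f x} is equidimensional, then
so is O_{X,x}. -/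
theorem result {X Y : Scheme.{u}} [IsLocallyNoetherian Y] (f : X ⟶ Y)
    [LocallyOfFiniteType f] (x : X) (h : EGA43.IsEquidimAt f x)
    (hcat : CAlg.IsUniversallyCatenary (Y.presheaf.stalk (f.base x)))
    (hY : EGA4.IsEquidim (Y.presheaf.stalk (f.base x))) :
    EGA4.IsEquidim (X.presheaf.stalk x) := by
  haveI : IsLocallyNoetherian X := LocallyOfFiniteType.isLocallyNoetherian f
  obtain ⟨t, ht, httr⟩ := H06Equidim.exists_trdeg_asFiber f x
  obtain ⟨e, hfd⟩ := H22Alg.exists_nat_fibreDimAt f x
  have key : ∀ q ∈ minimalPrimes (X.presheaf.stalk x),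
      ringKrullDim (X.presheaf.stalk x ⧸ q) + (t : ℕ) = ringKrullDim (Y.presheaf.stalk (f x)) + (e : ℕ) :=
    fun q hq => by
      obtain ⟨h1, h2⟩ := H06EGA14.quotient_dim_of_isEquidimAt f x h hcat t e ht hfd q hq
      rwa [hY _ h1] at h2
  intro p hp
  refine le_antisymm (ringKrullDim_quotient_le p) ?_
  rw [← ringKrullDim_eq_of_ringEquiv (RingEquiv.quotientBot (X.presheaf.stalk x))]
  exact H05EGA4.ringKrullDim_quotient_le_of_minimalPrimes ⊥ fun q hq =>
    (H06EGA14.withBot_add_nat_cancel ((key q hq).trans (key p hp).symm)).le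

end Groth.Agent.S3396
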