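import Groth.Statements.S3398
import Groth.Agent.H05EGA4.ConsChart

set_option autoImplicit false
open CategoryTheory AlgebraicGeometry
universe u
open EGA41

open Groth.Agent.H05EGA4
namespace Groth.Agent.S3398

/-- Let f : X' ⟶ X be a quasi-compact morphism of schemes and E' a pro-constructible subset of X'. Then
f(E') is pro-constructible in X; in particular f(X') is pro-constructible. -/
theorem result {X' X : Scheme.{u}} (f : X' ⟶ X) [QuasiCompact f]
    (E' : Set X') (hE' : ProCons.IsProConstructible E') :
    ProCons.IsProConstructible (f.base '' E') := by
  exact ConsChart.pro_image f hE'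

end Groth.Agent.S3398
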