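import Groth.Statements.S3404
import Groth.Agent.H05EGA4.ConsChart

set_option autoImplicit false
open CategoryTheory AlgebraicGeometry
universe u
open EGA41

open Groth.Agent.H05EGA4
namespace Groth.Agent.S3404

/-- Let f : X ⟶ Y be a morphism of schemes, x a point of X and y = f x. If f is open at x then every
generization of y is the image of a generization of x; when f is locally of finite presentation the
converse holds. -/
theorem result {X Y : Scheme.{u}} (f : X ⟶ Y) (x : X) :
    (EGA43.IsOpenAt f.base x → ∀ y' : Y, y' ⤳ f.base x → ∃ x' : X, x' ⤳ x ∧ f.base x' = y') ∧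
    (LocallyOfFinitePresentation f →
      ((EGA43.IsOpenAt f.base x) ↔ ∀ y' : Y, y' ⤳ f.base x → ∃ x' : X, x' ⤳ x ∧ f.base x' = y')) := by
  refine ⟨fun h y' hy' => ConsChart.exists_generization_of_isOpenAt f x h y' hy', fun hl => ?_⟩
  haveI := hl
  exact ⟨fun h y' hy' => ConsChart.exists_generization_of_isOpenAt f x h y' hy', ConsChart.isOpenAt_of_generizations f x⟩

end Groth.Agent.S3404
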