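import Groth.Statements.S3406
import Groth.Agent.H05EGA4.Samuel

set_option autoImplicit false
universe u
open EGA41

open Groth.Agent Groth.Agent.H05EGA4

namespace Groth.Agent.S3406

/-- The equality s(M) = dim(M): let A be a Noetherian ring with finitely many maximal ideals, r its
Jacobson radical and M a nonzero finitely generated A-module. Then the dimension of M (the Krull
dimension of its support) is the least n for which there are elements x_1, …, x_n of r such that
M/(x_1 M + ⋯ + x_n M) has finite length. -/
theorem result (A : Type u) [CommRing A] [IsNoetherianRing A]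
    [Finite (MaximalSpectrum A)] (M : Type u) [AddCommGroup M] [Module A M] [Module.Finite A M] [Nontrivial M] :
    Module.supportDim A M =
      sInf {k : WithBot ℕ∞ | ∃ (n : ℕ) (x : Fin n → A), k = n ∧ (∀ i, x i ∈ Ring.jacobson A) ∧
        IsFiniteLength A (M ⧸ (Ideal.span (Set.range x) • (⊤ : Submodule A M)))} := by
  obtain ⟨P, hP⟩ := Samuel.exists_samuel_polynomial A M
  have hd := Samuel.natDegree_eq_supportDim A M hP
  rw [← hd]
  refine le_antisymm (le_sInf ?_) ?_
  · rintro _ ⟨n, x, rfl, hx, hfin⟩
    exact_mod_cast Samuel.natDegree_le_of_finite_length hP hx (Module.length_ne_top_iff.mpr hfin)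
  · obtain ⟨s, hs, x, hx, hfin⟩ := Samuel.exists_parameters P.natDegree M hd.ge
    refine (sInf_le ?_).trans (show ((s : ℕ) : WithBot ℕ∞) ≤ (P.natDegree : WithBot ℕ∞) from by exact_mod_cast hs)
    exact ⟨s, x, rfl, hx, Module.length_ne_top_iff.mp hfin⟩

end Groth.Agent.S3406
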