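import Groth.Statements.S3407
import Groth.Agent.S2561
import Groth.Agent.H06FlatVal.MaximalImage
import Groth.Agent.H06GeomRed.Open
import Groth.Agent.H06EGA14.UnivOpen
import Groth.Agent.H7Lim.OpenMap
import Groth.Agent.H17.Reduced
import Groth.Agent.H18HTop.SpecLiftDVR

set_option autoImplicit false
open CategoryTheory AlgebraicGeometry
universe u
open EGA43

namespace Groth.Agent.S3407

open Groth.Agent TopologicalSpace

/-- Let Y be locally Noetherian, f : X ⟶ Y locally of finite type, x a point of X and y = f x. Suppose f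
is universally open at the generic point of every irreducible component of the fibre X_y passing
through x, and X_y is geometrically reduced at x. Then there is an open neighbourhood U of x such
that the restriction of f to U is universally open and, for every point x' of U, the fibre of f
through x' is geometrically reduced at x'. -/
theorem result {X Y : Scheme.{u}} [IsLocallyNoetherian Y] (f : X ⟶ Y)
    [LocallyOfFiniteType f] (x : X)
    (hopen : ∀ z : ↥(f.fiber (f.base x)), f.asFiber x ∈ closure {z} →
      (∀ z' : ↥(f.fiber (f.base x)), z ∈ closure {z'} → z' = z) →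
      EGA43.IsUnivOpenAt f ((f.fiberι (f.base x)).base z))
    (hred : FBase.IsGeomReducedAt (f.fiberToSpecResidueField (f.base x)) (f.asFiber x)) :
    ∃ U : X.Opens, x ∈ U ∧ UniversallyOpen (U.ι ≫ f) ∧
      ∀ x' : X, x' ∈ U → FBase.IsGeomReducedAt (f.fiberToSpecResidueField (f.base x')) (f.asFiber x') := by
  let I := Scheme.IdealSheafData.vanishingIdeal (X := Y) ⊤
  let k := I.subschemeι
  haveI : IsReduced I.subscheme := H17.isReduced_vanishingIdeal_subscheme _
  haveI : Surjective k := ⟨fun y => (H17.range_vanishingIdeal_subschemeι (X := Y) ⊤).ge trivial⟩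
  haveI : IsLocallyNoetherian I.subscheme := LocallyOfFiniteType.isLocallyNoetherian k
  let f' := Limits.pullback.snd f k
  let p := Limits.pullback.fst f k
  have hP : IsPullback p f' f k := IsPullback.of_hasPullback f k
  haveI : LocallyOfFinitePresentation f' := H18HTop.locallyOfFinitePresentation_of_noetherian f'
  haveI : Surjective p := inferInstance
  obtain ⟨x', rfl⟩ := p.surjective x
  have hred' : FBase.IsGeomReducedAt (f'.fiberToSpecResidueField (f'.base x')) (f'.asFiber x') :=
    H06SecComp.isGeomReducedAt_baseChange hP hred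
  have hflat := S2561.result f' x' (fun v hv hmax => by
    have hfz : f (p (f'.fiberι _ v)) = f (p x') := by
      rw [← Scheme.Hom.comp_apply, hP.w, Scheme.Hom.comp_apply,
        show f' (f'.fiberι (f' x') v) = f' x' from (f'.range_fiberι (f' x')).le ⟨v, rfl⟩, ← Scheme.Hom.comp_apply,
        ← hP.w, Scheme.Hom.comp_apply]
    obtain ⟨v₀, hv₀⟩ := (f.range_fiberι (f (p x'))).ge (show p (f'.fiberι _ v) ∈ f ⁻¹' {f (p x')} from hfz)
    have hmaxp := H06FlatVal.maximal_fst_of_maximal f k (f'.fiberι _ v) (fun w hw hwv => by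
      obtain ⟨w', rfl⟩ := (f'.range_fiberι (f' x')).ge (show w ∈ f' ⁻¹' {f' x'} from
        hw.trans ((f'.range_fiberι (f' x')).le ⟨v, rfl⟩))
      exact congrArg _ (hmax w' ((f'.fiberι _).isEmbedding.isInducing.specializes_iff.mp hwv).mem_closure))
    refine H06EGA14.isUnivOpenAt_of_isPullback ((hopen v₀ ?_ fun v' hv' => ?_)) hP _ hv₀.symm
    · refine ((f.fiberι (f (p x'))).isEmbedding.isInducing.specializes_iff.mp ?_).mem_closure
      rw [hv₀, f.fiberι_asFiber]
      have := ((specializes_iff_mem_closure.mpr hv).map (f'.fiberι (f' x')).continuous).map p.continuous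
      rwa [f'.fiberι_asFiber] at this
    · refine (f.fiberι (f (p x'))).isEmbedding.injective ((hmaxp (f.fiberι _ v') ?_ ?_).trans hv₀.symm)
      · exact ((f.range_fiberι (f (p x'))).le ⟨v', rfl⟩).trans hfz.symm
      · have := (specializes_iff_mem_closure.mpr hv').map (f.fiberι (f (p x'))).continuous
        rwa [hv₀] at this) hred' inferInstance
  let O : (Limits.pullback f k).Opens := ⟨_, H06GeomRed.isOpen_setOf_flat_and_mem_locus f'⟩
  have hxO : x' ∈ O := ⟨hflat, hred'⟩
  let U : X.Opens := ⟨p '' O, by
    have hq := p.isClosedEmbedding.isClosedMap.isQuotientMap p.continuous p.surjective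
    rw [← hq.isOpen_preimage, Set.preimage_image_eq _ p.isEmbedding.injective]
    exact O.isOpen⟩
  have hpU : p ⁻¹ᵁ U = O := Opens.ext (Set.preimage_image_eq _ p.isEmbedding.injective)
  refine ⟨U, ⟨x', hxO, rfl⟩, ?_, ?_⟩
  · haveI : Flat (O.ι ≫ f') := (Flat.iff_flat_stalkMap _).mpr fun w => by
      rw [Scheme.Hom.stalkMap_comp]
      simp only [CommRingCat.hom_comp]
      exact RingHom.Flat.comp (O.range_ι.le ⟨w, rfl⟩ : O.ι w ∈ O).1
        (RingHom.Flat.of_bijective (ConcreteCategory.bijective_of_isIso (O.ι.stalkMap w)))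
    haveI : LocallyOfFinitePresentation (O.ι ≫ f') := inferInstance
    haveI : UniversallyOpen (O.ι ≫ f') := inferInstance
    let j : O.toScheme ⟶ U.toScheme := p.resLE U O hpU.ge
    haveI : Surjective j := ⟨fun u => by
      obtain ⟨o, ho, hou⟩ : U.ι u ∈ p '' (O : Set ↥(Limits.pullback f k)) := U.range_ι.le ⟨u, rfl⟩
      obtain ⟨o', rfl⟩ := O.range_ι.ge ho
      refine ⟨o', U.ι.isOpenEmbedding.injective ?_⟩
      rw [← hou, ← Scheme.Hom.comp_apply, Scheme.Hom.resLE_comp_ι, Scheme.Hom.comp_apply]⟩
    haveI : UniversallyOpen k := by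
      refine ⟨fun T T' a b g h => ?_⟩
      have h1 : IsClosedImmersion g := MorphismProperty.of_isPullback (P := @IsClosedImmersion) h.flip inferInstance
      have h2 : Surjective g := MorphismProperty.of_isPullback (P := @Surjective) h.flip ‹_›
      exact (isHomeomorph_iff_isEmbedding_surjective.2 ⟨g.isClosedEmbedding.isEmbedding, h2.surj⟩).isOpenMap
    haveI : UniversallyOpen (j ≫ U.ι ≫ f) := by
      rw [Scheme.Hom.resLE_comp_ι_assoc, hP.w, ← Category.assoc]
      exact MorphismProperty.comp_mem @UniversallyOpen _ _ inferInstance inferInstance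
    exact H7Lim.universallyOpen_of_comp_surjective j (U.ι ≫ f)
  · rintro _ ⟨w, hw, rfl⟩
    exact H06SecComp.isGeomReducedAt_of_model hP hw.2

end Groth.Agent.S3407
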