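import Groth.Statements.S3410
import Groth.Agent.H06GeomInt.UniqueScheme

set_option autoImplicit false
open CategoryTheory AlgebraicGeometry
universe u
open EGA43

namespace Groth.Agent.S3410

/-- Let Y be locally Noetherian, f : X ⟶ Y locally of finite type, x a point of X and y = f x. Suppose f
is universally open at the generic point of every irreducible component of X_y through x, X_y is
geometrically pointwise integral at x, and O_{Y,y} is geometrically unibranch. Then x lies on
exactly one irreducible component of X. If moreover O_{Y,y} is a domain, then O_{X,x} is a domain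
and O_{Y,y} ⟶ O_{X,x} is flat. -/
theorem result {X Y : Scheme.{u}} [IsLocallyNoetherian Y]
    (f : X ⟶ Y) [LocallyOfFiniteType f] (x : X)
    (hopen : ∀ z : ↥(f.fiber (f.base x)), f.asFiber x ∈ closure {z} →
      (∀ z' : ↥(f.fiber (f.base x)), z ∈ closure {z'} → z' = z) →
      EGA43.IsUnivOpenAt f ((f.fiberι (f.base x)).base z))
    (hint : FBase.IsGeomPtIntegralAt (f.fiberToSpecResidueField (f.base x)) (f.asFiber x))
    (hY : CAlg2.IsGeomUnibranch (Y.presheaf.stalk (f.base x))) :
    (∃! Z : Set X, Z ∈ irreducibleComponents (X : Type u) ∧ x ∈ Z) ∧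
      (IsDomain (Y.presheaf.stalk (f.base x)) → IsDomain (X.presheaf.stalk x) ∧ (f.stalkMap x).hom.Flat) := by
  obtain ⟨w, hw, hleast⟩ := Groth.Agent.H06GeomInt.exists_least_generization f x hopen hint hY
  refine ⟨Groth.Agent.H06GeomInt.existsUnique_component_of_least hw hleast, fun hdom => ?_⟩
  haveI := hdom
  have hred := Groth.Agent.H06GeomInt.isGeomReducedAt_of_mem_locus f hint
  obtain ⟨U, hxU, hflatU, hredU⟩ := Groth.Agent.S3408.result f x hopen hred inferInstance
  haveI := hredU
  obtain ⟨x₁, hx₁⟩ := U.range_ι.ge hxU
  haveI : _root_.IsReduced (X.presheaf.stalk x) := by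
    subst hx₁
    exact isReduced_of_injective (asIso (U.ι.stalkMap x₁)).commRingCatIsoToRingEquiv.toRingHom
      (asIso (U.ι.stalkMap x₁)).commRingCatIsoToRingEquiv.injective
  exact ⟨Groth.Agent.H06GeomInt.isDomain_stalk_of_least x hw hleast,
    Groth.Agent.S2561.result f x hopen hred inferInstance⟩

end Groth.Agent.S3410
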