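import Groth.Statements.S3412
import Groth.Agent.H06EGA15.GeomPoints

set_option autoImplicit false
open CategoryTheory AlgebraicGeometry
universe u
open EGA43

namespace Groth.Agent.S3412

open Groth.Agent

/-- Let Y be locally Noetherian, f : X ⟶ Y separated and quasi-finite, n(z) the geometric number of
points of the fibre over z, and y a point such that f is universally open at every point of the
fibre over y. If n is constant on a neighbourhood of y, then f is proper at y: there is an open
neighbourhood U of y such that the restriction of f over U is proper. -/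
theorem result {X Y : Scheme.{u}} [IsLocallyNoetherian Y] (f : X ⟶ Y)
    [IsSeparated f] [LocallyQuasiFinite f] [LocallyOfFiniteType f] [QuasiCompact f] (y : Y)
    (h : ∀ x : X, f.base x = y → EGA43.IsUnivOpenAt f x)
    (hc : ∃ V ∈ nhds y, ∀ z ∈ V, MoreMor.nGeomConnComp f z = MoreMor.nGeomConnComp f y) :
    ∃ U : Y.Opens, y ∈ U ∧ IsProper (f ∣_ U) := by
  obtain ⟨V, hV, hVn⟩ := hc
  obtain ⟨W, hWV, hWo, hyW⟩ := mem_nhds_iff.mp hV
  exact H06EGA15.exists_nhd_isProper f y h fun y' hy' => hVn y' (hWV (hy'.mem_open hWo hyW))

end Groth.Agent.S3412
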