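import Groth.Statements.S3413
import Groth.Agent.H06EGA15.GeomPoints
import Groth.Agent.H06EGA15.DominantComponent
import Groth.Agent.H05EGA4.ConsChart
import Groth.Agent.H18HTop.SpecLiftDVR

set_option autoImplicit false
open CategoryTheory AlgebraicGeometry
universe u
open EGA43

namespace Groth.Agent.S3413

open Groth.Agent CategoryTheory.Limits TopologicalSpace

set_option backward.isDefEq.respectTransparency false in
/-- Let Y be locally Noetherian with all local rings geometrically unibranch, f : X ⟶ Y separated,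
quasi-finite and universally open, and n(z) the geometric number of points of the fibre over z. If n
is locally constant on Y, then the irreducible components of X are pairwise disjoint. -/
theorem result {X Y : Scheme.{u}} [IsLocallyNoetherian Y]
    (hY : ∀ y : Y, CAlg2.IsGeomUnibranch (Y.presheaf.stalk y)) (f : X ⟶ Y)
    [IsSeparated f] [LocallyQuasiFinite f] [LocallyOfFiniteType f] [QuasiCompact f] [UniversallyOpen f]
    (hn : IsLocallyConstant (fun z : Y => MoreMor.nGeomConnComp f z)) :
    ∀ Z ∈ irreducibleComponents (X : Type u), ∀ Z' ∈ irreducibleComponents (X : Type u), Z ≠ Z' → Disjoint Z Z' := by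
  haveI : LocallyOfFinitePresentation f := H18HTop.locallyOfFinitePresentation_of_noetherian f
  intro Z hZ Z' hZ' hne
  rw [Set.disjoint_left]
  intro x hxZ hxZ'
  apply hne
  have hZc := isClosed_of_mem_irreducibleComponents Z hZ
  have hZc' := isClosed_of_mem_irreducibleComponents Z' hZ'
  have hgz := hZ.1.isGenericPoint_genericPoint hZc
  have hgz' := hZ'.1.isGenericPoint_genericPoint hZc'
  set ζ := hZ.1.genericPoint
  set ζ' := hZ'.1.genericPoint
  -- generic points of components are maximal and so are their images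
  have hmax : ∀ (W : Set X) (hW : W ∈ irreducibleComponents ↥X) (w : X), IsGenericPoint w W → ∀ c, c ⤳ f w → c = f w := by
    intro W hW w hw c hc
    obtain ⟨v, hv, rfl⟩ := H05EGA4.ConsChart.exists_generization_of_isOpenAt f w
      (fun U hU => f.isOpenMap.image_mem_nhds hU) c hc
    have hvW : v ∈ W := by
      have hsub : W ⊆ closure {v} := fun u hu => specializes_iff_mem_closure.mp (hv.trans (hw.specializes hu))
      exact (hW.2 isIrreducible_singleton.closure hsub) (subset_closure rfl)
    rw [((hw.specializes hvW).antisymm hv).eq]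
  have hs : f ζ ⤳ f x := (hgz.specializes hxZ).map f.continuous
  have hs' : f ζ' ⤳ f x := (hgz'.specializes hxZ').map f.continuous
  have heq : f ζ = f ζ' := H06EGA15.eq_of_maximal_of_isGeomUnibranch (hY (f x)) hs hs'
    (hmax Z hZ ζ hgz) (hmax Z' hZ' ζ' hgz')
  obtain ⟨Ω, _, _, V, g, hgc, hgg⟩ := H06EGA15.exists_algClosed_valuation hs
  set q := pullback.snd f g
  obtain ⟨xb, hxb, hxb'⟩ := Scheme.Pullback.exists_preimage_pullback (f := f) (g := g) x (IsLocalRing.closedPoint V) hgc.symm
  have hn' : MoreMor.nGeomConnComp f (f x) = MoreMor.nGeomConnComp f (f ζ) := by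
    obtain ⟨U, hU, hxU, hconst⟩ := hn.exists_open (f x)
    exact (hconst _ (hs.mem_open hU hxU)).symm
  haveI : IsAlgClosed (IsLocalRing.ResidueField V) := H06EGA14.isAlgClosed_residueField V
  have hcard : (q ⁻¹' {(IsLocalRing.closedPoint V : Spec (CommRingCat.of V))}).encard =
      (q ⁻¹' {H06EGA15.genι V (IsLocalRing.closedPoint Ω)}).encard := by
    have h1 := H06EGA15.nGeomConnComp_eq_encard f g (H06EGA15.clι V)
    have h2 := H06EGA15.nGeomConnComp_eq_encard f g (H06EGA15.genι V)
    rw [H06EGA15.clι_apply, hgc] at h1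
    rw [hgg] at h2
    exact h1.symm.trans (hn'.trans h2)
  have key : ∀ (W : Set X) (hW : W ∈ irreducibleComponents ↥X) (w : X), IsGenericPoint w W → x ∈ W → f w = f ζ →
      ∃ η : ↥(pullback f g), q η = H06EGA15.genι V (IsLocalRing.closedPoint Ω) ∧ η ⤳ xb ∧ pullback.fst f g η = w := by
    intro W hW w hw hxW hfw
    obtain ⟨T, i, hi, hrange⟩ : ∃ (T : Scheme.{u}) (i : T ⟶ X), IsClosedImmersion i ∧ Set.range i = W :=
      ⟨_, (Scheme.IdealSheafData.vanishingIdeal ⟨W, isClosed_of_mem_irreducibleComponents W hW⟩).subschemeι, inferInstance, by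
        rw [Scheme.IdealSheafData.range_subschemeι, Scheme.IdealSheafData.coe_support_vanishingIdeal]; rfl⟩
    haveI : LocallyOfFinitePresentation (i ≫ f) := H18HTop.locallyOfFinitePresentation_of_noetherian (i ≫ f)
    obtain ⟨x₀, rfl⟩ : x ∈ Set.range i := hrange ▸ hxW
    obtain ⟨w₀, rfl⟩ : w ∈ Set.range i := hrange ▸ hw.mem
    have hu := H06EGA15.isUnivOpenAt_of_locallyQuasiFinite_dominant (i ≫ f) x₀ w₀
      (i.isClosedEmbedding.isInducing.specializes_iff.mp (hw.specializes hxW))
      (fun a ha => hmax W hW _ hw a ha) (hY _)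
    set j := pullback.fst i (pullback.fst f g)
    set i' := pullback.snd i (pullback.fst f g)
    have hsq : IsPullback j (i' ≫ q) (i ≫ f) g :=
      ((IsPullback.of_hasPullback i (pullback.fst f g)).flip.paste_horiz (IsPullback.of_hasPullback f g).flip).flip
    obtain ⟨xt, hxt, hxt'⟩ := Scheme.Pullback.exists_preimage_pullback (f := i) (g := pullback.fst f g) x₀ xb hxb.symm
    have hxq : (i' ≫ q) xt = (IsLocalRing.closedPoint V : Spec (CommRingCat.of V)) := by
      rw [Scheme.Hom.comp_apply, hxt', hxb']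
    have hlqf : LocallyQuasiFinite (i' ≫ q) :=
      MorphismProperty.of_isPullback hsq (inferInstanceAs (LocallyQuasiFinite (i ≫ f)))
    have hqc : QuasiCompact (i' ≫ q) := MorphismProperty.of_isPullback hsq (inferInstanceAs (QuasiCompact (i ≫ f)))
    obtain ⟨η, hη, hηs⟩ := H06EGA15.exists_specializes_of_isOpenAt V (i' ≫ q) xt hxq
      (H06EGA14.isOpenAt_of_isPullback hu hsq xt hxt)
    refine ⟨i' η, by rw [← Scheme.Hom.comp_apply]; exact hη, hxt' ▸ hηs.map i'.continuous, ?_⟩
    set z := pullback.fst f g (i' η)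
    have hz : z = i (j η) := by
      show pullback.fst f g (i' η) = _
      rw [← Scheme.Hom.comp_apply, ← Scheme.Hom.comp_apply, pullback.condition]
    have hzW : z ∈ W := hrange ▸ ⟨_, hz.symm⟩
    have hfz : f z = f ζ := by
      show f (pullback.fst f g (i' η)) = _
      rw [← Scheme.Hom.comp_apply, pullback.condition, Scheme.Hom.comp_apply, ← Scheme.Hom.comp_apply i' q, hη, hgg]
    haveI : DiscreteTopology ↥(f ⁻¹' {f ζ}) := isDiscrete_iff_discreteTopology.mp (f.isDiscrete_preimage_singleton (f ζ))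
    have hsp : (⟨i w₀, hfw⟩ : ↥(f ⁻¹' {f ζ})) ⤳ ⟨z, hfz⟩ := (subtype_specializes_iff _ _).mpr (hw.specializes hzW)
    exact (congrArg Subtype.val hsp.eq).symm
  have ho : ∀ z : ↥(pullback f g), q z = (IsLocalRing.closedPoint V : Spec (CommRingCat.of V)) → EGA43.IsOpenAt q.base z :=
    fun z _ U hU => q.isOpenMap.image_mem_nhds hU
  obtain ⟨η₁, h1, h1s, h1f⟩ := key Z hZ ζ hgz hxZ rfl
  obtain ⟨η₂, h2, h2s, h2f⟩ := key Z' hZ' ζ' hgz' hxZ' heq.symm
  have hee : η₁ = η₂ := H06EGA15.unique_generization V q ho hcard h1 h2 hxb' h1s h2s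
  have hzz : ζ = ζ' := by rw [← h1f, ← h2f, hee]
  rw [← hgz.def, ← hgz'.def, hzz]

end Groth.Agent.S3413
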