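import Groth.Statements.S3414
import Groth.Agent.H06ProperGC.DominantComponents

set_option autoImplicit false
open CategoryTheory AlgebraicGeometry
universe u
open EGA43

namespace Groth.Agent.S3414

/-- Let Y be an irreducible locally Noetherian scheme, f : X ⟶ Y proper, n(y) the geometric number of
connected components of the fibre over y, and suppose every irreducible component of X dominates Y.
If y₀ is a point of Y whose local ring is geometrically unibranch, then n is lower semicontinuous at
y₀. -/
theorem result {X Y : Scheme.{u}} [IrreducibleSpace Y]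
    [IsLocallyNoetherian Y] (f : X ⟶ Y) [IsProper f]
    (hdom : ∀ Z ∈ irreducibleComponents (X : Type u), closure (f.base '' Z) = Set.univ) (y₀ : Y)
    (hy : CAlg2.IsGeomUnibranch (Y.presheaf.stalk y₀)) :
    ∃ V ∈ nhds y₀, ∀ z ∈ V, MoreMor.nGeomConnComp f y₀ ≤ MoreMor.nGeomConnComp f z := by
  exact Groth.Agent.H06ProperGC.exists_nhds_le_nGeom f hdom y₀ hy

end Groth.Agent.S3414
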