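import Groth.Statements.S3415
import Groth.Agent.H06Conn.ProperCount
import Groth.Agent.H06EGA15.GeomPointsSemicont
import Groth.Agent.H18HTop.SpecLiftDVR

set_option autoImplicit false
open CategoryTheory AlgebraicGeometry
universe u
open EGA43

namespace Groth.Agent.S3415

open Groth.Agent

/-- Let Y be locally Noetherian, f : X ⟶ Y proper and n(z) the geometric number of connected components
of the fibre over z. If y is a point such that f is universally open at every point of the fibre
over y, then n is lower semicontinuous at y. -/
theorem result {X Y : Scheme.{u}} [IsLocallyNoetherian Y] (f : X ⟶ Y)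
    [IsProper f] (y : Y) (h : ∀ x : X, f.base x = y → EGA43.IsUnivOpenAt f x) :
    ∃ V ∈ nhds y, ∀ z ∈ V, MoreMor.nGeomConnComp f y ≤ MoreMor.nGeomConnComp f z := by
  haveI : LocallyOfFinitePresentation f := H18HTop.locallyOfFinitePresentation_of_noetherian f
  exact ⟨_, H06EGA15.setOf_le_mem_nhds f y (H06Conn.nGeomConnComp_lt_top f y)
    fun y' hy' => H06Conn.nGeomConnComp_le_of_specializes f hy' h, fun z hz => hz⟩

end Groth.Agent.S3415
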