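import Groth.Statements.S3418
import Groth.Agent.H06EGA15.GeomPointsSemicont

set_option autoImplicit false
open CategoryTheory AlgebraicGeometry
universe u
open EGA43

namespace Groth.Agent.S3418

open Groth.Agent CategoryTheory.Limits

/-- Let f : X ⟶ Y be flat, locally of finite presentation, separated and quasi-finite, and let n(y) be
the geometric number of points of the fibre over y. Then n is lower semicontinuous on Y, and if n is
constant on a neighbourhood of a point y₀ then f is proper over some open neighbourhood of y₀. -/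
theorem result {X Y : Scheme.{u}} (f : X ⟶ Y) [Flat f]
    [LocallyOfFinitePresentation f] [IsSeparated f] [LocallyQuasiFinite f] [QuasiCompact f] :
    LowerSemicontinuous (fun z : Y => MoreMor.nGeomConnComp f z) ∧
      ∀ y₀ : Y, (∃ V ∈ nhds y₀, ∀ z ∈ V, MoreMor.nGeomConnComp f z = MoreMor.nGeomConnComp f y₀) →
        ∃ U : Y.Opens, y₀ ∈ U ∧ IsProper (f ∣_ U) := by
  have hu : ∀ x : X, EGA43.IsUnivOpenAt f x := fun x Y' g x' _ U hU =>
    (pullback.snd f g).isOpenMap.image_mem_nhds hU
  refine ⟨fun y c hc => ?_, fun y₀ hc => ?_⟩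
  · exact Filter.mem_of_superset (H06EGA15.setOf_le_mem_nhds f y (H06EGA15.nGeomConnComp_lt_top f y)
      fun y' hy' => H06EGA15.nGeomConnComp_le_of_specializes f hy' fun x _ => hu x) fun z hz => hc.trans_le hz
  · obtain ⟨V, hV, hVn⟩ := hc
    obtain ⟨W, hWV, hWo, hyW⟩ := mem_nhds_iff.mp hV
    exact H06EGA15.exists_nhd_isProper f y₀ (fun x _ => hu x) fun y' hy' => hVn y' (hWV (hy'.mem_open hWo hyW))

end Groth.Agent.S3418
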