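import Groth.Statements.S3419
import Groth.Agent.H06EGA15.Component

set_option autoImplicit false
open CategoryTheory AlgebraicGeometry
universe u
open EGA43

namespace Groth.Agent.S3419

open Groth.Agent Groth.Agent.H06EGA15

/-- Let Y be locally Noetherian, f : X ⟶ Y locally of finite type and g a section of f; for y in Y let
X⁰_y be the connected component of the fibre f⁻¹(y) containing g(y). Suppose every X⁰_y is
irreducible. Then y ↦ dim X⁰_y is upper semicontinuous on Y; and if this function is constant on a
neighbourhood of a point y, then X⁰_y is contained in the closure of X⁰_{y'} for every generization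
y' of y. -/
theorem result {X Y : Scheme.{u}} [IsLocallyNoetherian Y] (f : X ⟶ Y)
    [LocallyOfFiniteType f] (g : Y ⟶ X) (hg : g ≫ f = 𝟙 Y)
    (hirr : ∀ y : Y, IsIrreducible (connectedComponentIn (f.base ⁻¹' {y}) (g.base y))) :
    UpperSemicontinuous (fun y : Y => topologicalKrullDim ↥(connectedComponentIn (f.base ⁻¹' {y}) (g.base y))) ∧
      ∀ y : Y, (∃ V ∈ nhds y, ∀ z ∈ V, topologicalKrullDim ↥(connectedComponentIn (f.base ⁻¹' {z}) (g.base z)) = topologicalKrullDim ↥(connectedComponentIn (f.base ⁻¹' {y}) (g.base y))) →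
        ∀ y' : Y, y' ⤳ y → connectedComponentIn (f.base ⁻¹' {y}) (g.base y) ⊆ closure (connectedComponentIn (f.base ⁻¹' {y'}) (g.base y')) := by
  refine ⟨upperSemicontinuous_dim_component f g hg hirr, fun y ⟨V, hV, hc⟩ y' hy => ?_⟩
  obtain ⟨W, hWV, hW, hyW⟩ := mem_nhds_iff.mp hV
  exact component_subset_closure f g hg hirr hy (hc y' (hWV (hy.mem_open hW hyW))).ge

end Groth.Agent.S3419
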