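import Groth.Statements.S3420
import Groth.Agent.H06SecComp.Interior
import Groth.Agent.H06EGA14.MaximalPoint

set_option autoImplicit false
open CategoryTheory AlgebraicGeometry
universe u
open EGA43

namespace Groth.Agent.S3420

open Groth.Agent Groth.Agent.H06SecComp

/-- Let Y be locally Noetherian, f : X ⟶ Y locally of finite type, g a section of f, X⁰_y the connected
component of f⁻¹(y) containing g(y) and X⁰ the union of the X⁰_y. If y is a point such that the
fibre over y is geometrically reduced at every point of X⁰_y and f is universally open at every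
point of X⁰_y, then X⁰ is a neighbourhood of X⁰_y in X. In particular, if f is universally open and
every fibre is geometrically reduced at the points of X⁰, then X⁰ is open in X. -/
theorem result {X Y : Scheme.{u}} [IsLocallyNoetherian Y] (f : X ⟶ Y)
    [LocallyOfFiniteType f] (g : Y ⟶ X) (hg : g ≫ f = 𝟙 Y) :
    (∀ y : Y, (∀ x ∈ connectedComponentIn (f.base ⁻¹' {y}) (g.base y), EGA43.IsUnivOpenAt f x ∧
        FBase.IsGeomReducedAt (f.fiberToSpecResidueField (f.base x)) (f.asFiber x)) →
      connectedComponentIn (f.base ⁻¹' {y}) (g.base y) ⊆ interior (MoreMor.sectionComponents f g)) ∧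
    (UniversallyOpen f → (∀ x ∈ MoreMor.sectionComponents f g,
        FBase.IsGeomReducedAt (f.fiberToSpecResidueField (f.base x)) (f.asFiber x)) →
      IsOpen (MoreMor.sectionComponents f g)) := by
  refine ⟨fun y h x hx => mem_interior_sectionComponents f g hg y h hx, fun huo hred => ?_⟩
  refine isOpen_iff_mem_nhds.mpr fun x hx => ?_
  refine mem_interior_iff_mem_nhds.mp (mem_interior_sectionComponents f g hg (f x) (fun x' hx' => ⟨?_, ?_⟩) hx)
  · intro Y' k x'' _
    exact H06EGA14.isOpenAt_of_isOpenMap (huo.out _ _ _ (IsPullback.of_hasPullback f k).flip : IsOpenMap (Limits.pullback.snd f k).base) x''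
  · refine hred x' ?_
    show x' ∈ connectedComponentIn (f ⁻¹' {f x'}) (g (f x'))
    rw [show f x' = f x from H06EGA15.apply_eq_of_mem hx']
    exact hx'

end Groth.Agent.S3420
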