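import Groth.Statements.S3423
import Groth.Agent.H06EGA9.SmoothFibreLocus

set_option autoImplicit false
open CategoryTheory AlgebraicGeometry
universe u
open EGA43

namespace Groth.Agent.S3423

open Groth.Agent.H06EGA9

/-- Let f : X ⟶ S be locally of finite presentation. The set of points x of X such that the fibre of f
through x is geometrically regular at x over the residue field of f x — equivalently, such that x
lies in the smooth locus of that fibre over the residue field — is locally constructible in X. -/
theorem result {X S : Scheme.{u}} (f : X ⟶ S)
    [LocallyOfFinitePresentation f]
    [∀ s : S, LocallyOfFinitePresentation (f.fiberToSpecResidueField s)] :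
    Topology.IsLocallyConstructible {x : X | f.asFiber x ∈ (f.fiberToSpecResidueField (f.base x)).smoothLocus} := by
  exact Groth.Agent.H06EGA9.isLocallyConstructible_smFib f

end Groth.Agent.S3423
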