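import Groth.Statements.S3425
import Groth.Agent.H06EGA9.FibreClosureGeneral

set_option autoImplicit false
open CategoryTheory AlgebraicGeometry
universe u
open EGA43

namespace Groth.Agent.S3425

open Groth.Agent

open CategoryTheory.Limits in
/-- Let g : Y ⟶ S and f : X ⟶ Y be such that X and Y are of finite presentation over S (locally of
finite presentation, quasi-compact and quasi-separated). For each point s of S let f_s be the
induced morphism from the fibre of f ≫ g over s to the fibre of g over s. Then the set of s for
which f_s is dominant is locally constructible in S. -/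
theorem result {X Y S : Scheme.{u}} (f : X ⟶ Y) (g : Y ⟶ S)
    [LocallyOfFinitePresentation g] [QuasiCompact g] [QuasiSeparated g]
    [LocallyOfFinitePresentation (f ≫ g)] [QuasiCompact (f ≫ g)] [QuasiSeparated (f ≫ g)] :
    Topology.IsLocallyConstructible {s : S |
      IsDominant (pullback.lift (pullback.fst (f ≫ g) (S.fromSpecResidueField s) ≫ f) (pullback.snd (f ≫ g) (S.fromSpecResidueField s))
          ((Category.assoc _ _ _).trans pullback.condition) :
        pullback (f ≫ g) (S.fromSpecResidueField s) ⟶ pullback g (S.fromSpecResidueField s))} := by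
  haveI : LocallyOfFinitePresentation f := H7Lim.locallyOfFinitePresentation_of_comp f g
  haveI : QuasiCompact f := QuasiCompact.of_comp f g
  have hR : Topology.IsLocallyConstructible (Set.range f) := by
    rw [← Set.image_univ]
    exact f.isLocallyConstructible_image .univ
  have key : ∀ s : S, IsDominant (H06EGA9.fibMap f g s) ↔ g ⁻¹' {s} ⊆ H06EGA9.fibClosure g (Set.range f) := by
    intro s
    let j := pullback.fst g (S.fromSpecResidueField s)
    have hj : Topology.IsEmbedding j := (g.fiberι s).isEmbedding
    have himg : j '' Set.range (H06EGA9.fibMap f g s) = Set.range f ∩ g ⁻¹' {s} := by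
      ext y
      constructor
      · rintro ⟨_, ⟨x', rfl⟩, rfl⟩
        refine ⟨⟨pullback.fst (f ≫ g) (S.fromSpecResidueField s) x', ?_⟩, (H06EGA9.range_fst g s).le (Set.mem_range_self _)⟩
        rw [← Scheme.Hom.comp_apply, ← Scheme.Hom.comp_apply, (H06EGA9.isPullback_fibMap f g s).w]
      · rintro ⟨⟨x, rfl⟩, hy⟩
        obtain ⟨y', hy'⟩ := (H06EGA9.range_fst g s).ge hy
        obtain ⟨x', -, hx'⟩ := Scheme.exists_preimage_of_isPullback (H06EGA9.isPullback_fibMap f g s) x y' hy'.symm
        exact ⟨y', ⟨x', hx'⟩, hy'⟩
    constructor
    · intro h y hy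
      obtain ⟨y', rfl⟩ := (H06EGA9.range_fst g s).ge hy
      have h1 := h.denseRange y'
      rw [hj.closure_eq_preimage_closure_image, himg] at h1
      rw [H06EGA9.mem_fibClosure, show g (j y') = s from hy]
      exact h1
    · refine fun h => ⟨fun y' => ?_⟩
      have hy : g (j y') = s := (H06EGA9.range_fst g s).le (Set.mem_range_self y')
      rw [hj.closure_eq_preimage_closure_image, himg, Set.mem_preimage]
      have h1 := h hy
      rwa [H06EGA9.mem_fibClosure, hy] at h1
  simp only [key]
  exact H06EGA9.isLocallyConstructible_setOf_fibre_subset g (H06EGA9.isLocallyConstructible_fibClosure g hR)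

end Groth.Agent.S3425
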