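import Groth.Statements.S3427
import Groth.Agent.H06EGA9.FibreClosureGeneral

set_option autoImplicit false
open CategoryTheory AlgebraicGeometry
universe u
open EGA43

namespace Groth.Agent.S3427

open Groth.Agent

/-- Let f : X ⟶ S be of finite presentation (locally of finite presentation, quasi-compact,
quasi-separated) and Z ⊆ Z' two locally constructible subsets of X. Then the set of points s of S
such that Z ∩ f⁻¹(s) is dense in Z' ∩ f⁻¹(s) (for the topology induced from X, which is that of the
fibre) is locally constructible in S. -/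
theorem result {X S : Scheme.{u}} (f : X ⟶ S) [LocallyOfFinitePresentation f]
    [QuasiCompact f] [QuasiSeparated f] (Z Z' : Set X) (hZ : Topology.IsLocallyConstructible Z)
    (hZ' : Topology.IsLocallyConstructible Z') (hle : Z ⊆ Z') :
    Topology.IsLocallyConstructible {s : S | Z' ∩ f.base ⁻¹' {s} ⊆ closure (Z ∩ f.base ⁻¹' {s})} := by
  have key : {s : S | Z' ∩ f.base ⁻¹' {s} ⊆ closure (Z ∩ f.base ⁻¹' {s})} =
      {s | f ⁻¹' {s} ⊆ H06EGA9.fibClosure f Z ∪ Z'ᶜ} := by
    ext s
    constructor
    · intro h x hx
      by_cases hxZ : x ∈ Z'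
      · exact Or.inl (by rw [H06EGA9.mem_fibClosure, show f x = s from hx]; exact h ⟨hxZ, hx⟩)
      · exact Or.inr hxZ
    · rintro h x ⟨hxZ, hx⟩
      have h' := (h hx).resolve_right (fun hn => hn hxZ)
      rwa [H06EGA9.mem_fibClosure, show f x = s from hx] at h'
  rw [key]
  exact H06EGA9.isLocallyConstructible_setOf_fibre_subset f
    ((H06EGA9.isLocallyConstructible_fibClosure f hZ).union (H7Lim.isLocallyConstructible_compl hZ'))

end Groth.Agent.S3427
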