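import Groth.Statements.S3428
import Groth.Agent.H06EGA9.FibreClosureGeneral

set_option autoImplicit false
open CategoryTheory AlgebraicGeometry
universe u
open EGA43

namespace Groth.Agent.S3428

open Groth.Agent

/-- Let f : X ⟶ S be of finite presentation (locally of finite presentation, quasi-compact,
quasi-separated) and Z a locally constructible subset of X. Then the set of points s of S such that
Z ∩ f⁻¹(s) is closed in the fibre f⁻¹(s) (with the topology induced from X), the set of s such that
it is open in the fibre, and the set of s such that it is locally closed in the fibre, are locally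
constructible in S. -/
theorem result {X S : Scheme.{u}} (f : X ⟶ S)
    [LocallyOfFinitePresentation f] [QuasiCompact f] [QuasiSeparated f] (Z : Set X)
    (hZ : Topology.IsLocallyConstructible Z) :
    Topology.IsLocallyConstructible {s : S | IsClosed (Subtype.val ⁻¹' Z : Set ↥(f.base ⁻¹' {s}))} ∧
      Topology.IsLocallyConstructible {s : S | IsOpen (Subtype.val ⁻¹' Z : Set ↥(f.base ⁻¹' {s}))} ∧
      Topology.IsLocallyConstructible {s : S | IsLocallyClosed (Subtype.val ⁻¹' Z : Set ↥(f.base ⁻¹' {s}))} := by
  have hmem : ∀ (E : Set X) (s : S) (y : ↥(f.base ⁻¹' {s})),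
      y ∈ closure (Subtype.val ⁻¹' E) ↔ y.1 ∈ H06EGA9.fibClosure f E := fun E s y => by
    rw [closure_subtype, Subtype.image_preimage_coe, H06EGA9.mem_fibClosure, show f y.1 = s from y.2,
      Set.inter_comm]
  have hclosed : ∀ E : Set X, {s : S | IsClosed (Subtype.val ⁻¹' E : Set ↥(f.base ⁻¹' {s}))} =
      {s | f ⁻¹' {s} ⊆ (H06EGA9.fibClosure f E)ᶜ ∪ E} := fun E => by
    ext s
    rw [Set.mem_setOf_eq, Set.mem_setOf_eq, ← closure_subset_iff_isClosed]
    constructor
    · intro h x hx
      by_cases hxc : x ∈ H06EGA9.fibClosure f E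
      · exact Or.inr (h ((hmem E s ⟨x, hx⟩).mpr hxc))
      · exact Or.inl hxc
    · intro h y hy
      exact (h y.2).resolve_left (fun hn => hn ((hmem E s y).mp hy))
  have hcons : ∀ E : Set X, Topology.IsLocallyConstructible E →
      Topology.IsLocallyConstructible {s : S | IsClosed (Subtype.val ⁻¹' E : Set ↥(f.base ⁻¹' {s}))} := fun E hE => by
    rw [hclosed E]
    exact H06EGA9.isLocallyConstructible_setOf_fibre_subset f
      ((H7Lim.isLocallyConstructible_compl (H06EGA9.isLocallyConstructible_fibClosure f hE)).union hE)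
  refine ⟨hcons Z hZ, ?_, ?_⟩
  · have : {s : S | IsOpen (Subtype.val ⁻¹' Z : Set ↥(f.base ⁻¹' {s}))} =
        {s : S | IsClosed (Subtype.val ⁻¹' Zᶜ : Set ↥(f.base ⁻¹' {s}))} := by
      ext s
      rw [Set.mem_setOf_eq, Set.mem_setOf_eq, Set.preimage_compl, isClosed_compl_iff]
    rw [this]
    exact hcons _ (H7Lim.isLocallyConstructible_compl hZ)
  · set D : Set X := H06EGA9.fibClosure f Z ∩ Zᶜ
    have hD : Topology.IsLocallyConstructible D :=
      (H06EGA9.isLocallyConstructible_fibClosure f hZ).inter (H7Lim.isLocallyConstructible_compl hZ)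
    have : {s : S | IsLocallyClosed (Subtype.val ⁻¹' Z : Set ↥(f.base ⁻¹' {s}))} =
        {s : S | IsClosed (Subtype.val ⁻¹' D : Set ↥(f.base ⁻¹' {s}))} := by
      ext s
      rw [Set.mem_setOf_eq, Set.mem_setOf_eq, isLocallyClosed_iff_isOpen_coborder, coborder, isOpen_compl_iff]
      refine iff_of_eq (congrArg IsClosed (Set.ext fun y => ?_))
      rw [Set.mem_sdiff, hmem, Set.mem_preimage, Set.mem_preimage]
      rfl
    rw [this]
    exact hcons D hD

end Groth.Agent.S3428
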