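import Groth.Statements.S3429
import Groth.Agent.H06QFlat.Topo

set_option autoImplicit false
open CategoryTheory AlgebraicGeometry
universe u
open EGA42

namespace Groth.Agent.S3429

/-- A morphism of schemes which is quasi-flat (some quasi-coherent module of finite type on the source,
flat over the base, has support the whole source) and locally of finite presentation is universally
open. -/
theorem result {X Y : Scheme.{u}} (f : X ⟶ Y)
    (hf : FDesc.IsQuasiFlat f) [LocallyOfFinitePresentation f] : UniversallyOpen f := by
  constructor
  intro A B i₁ i₂ q sq
  have hq : LocallyOfFinitePresentation q :=
    MorphismProperty.of_isPullback (P := @LocallyOfFinitePresentation) sq.flip inferInstance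
  refine isOpenMap_of_generalizingMap q ?_
  rw [← sq.flip.isoPullback_hom_snd]
  have h := GeneralizingMap.comp (Flat.generalizingMap sq.flip.isoPullback.hom)
    (H06QFlat.generalizingMap_pullback_snd i₂ f hf)
  exact h

end Groth.Agent.S3429
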