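import Groth.Statements.S3430
import Groth.Agent.H06Noether.FieldDim

set_option autoImplicit false
open CategoryTheory AlgebraicGeometry
universe u
open EGA42

namespace Groth.Agent.S3430

/-- Let X be a scheme of finite type over a field k and n a natural number. Then: dim X ≥ n if and only
if there are a dense open subscheme U of X and a surjective k-morphism from U to affine n-space over
k; dim X ≤ n if and only if there are such U and g with g finite; dim X = n if and only if there are
such U and g with g finite and surjective. -/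
theorem result (k : Type u) [Field k] {X : Scheme.{u}}
    (f : X ⟶ Spec (CommRingCat.of k)) [LocallyOfFiniteType f] [QuasiCompact f] (n : ℕ) :
    ((n : WithBot ℕ∞) ≤ topologicalKrullDim (X : Type u) ↔
      ∃ (U : X.Opens) (g : (U : Scheme.{u}) ⟶ 𝔸(ULift.{u} (Fin n); Spec (CommRingCat.of k))),
        Dense (U : Set X) ∧ g ≫ (𝔸(ULift.{u} (Fin n); Spec (CommRingCat.of k)) ↘ Spec (CommRingCat.of k)) = U.ι ≫ f ∧ Function.Surjective g.base) ∧
    (topologicalKrullDim (X : Type u) ≤ n ↔
      ∃ (U : X.Opens) (g : (U : Scheme.{u}) ⟶ 𝔸(ULift.{u} (Fin n); Spec (CommRingCat.of k))),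
        Dense (U : Set X) ∧ g ≫ (𝔸(ULift.{u} (Fin n); Spec (CommRingCat.of k)) ↘ Spec (CommRingCat.of k)) = U.ι ≫ f ∧ IsFinite g) ∧
    (topologicalKrullDim (X : Type u) = n ↔
      ∃ (U : X.Opens) (g : (U : Scheme.{u}) ⟶ 𝔸(ULift.{u} (Fin n); Spec (CommRingCat.of k))),
        Dense (U : Set X) ∧ g ≫ (𝔸(ULift.{u} (Fin n); Spec (CommRingCat.of k)) ↘ Spec (CommRingCat.of k)) = U.ι ≫ f ∧ IsFinite g ∧ Function.Surjective g.base) := by
  exact Groth.Agent.H06Noether.dim_iffs f n

end Groth.Agent.S3430
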