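import Groth.Statements.S3433
import Groth.Agent.H06Jacobson.Rings

set_option autoImplicit false
universe u
open EGA43

namespace Groth.Agent.S3433

/-- Let A be a Noetherian local ring with maximal ideal m and let Y be the punctured spectrum Spec A ∖
{m}. Then Y is a Jacobson space, and a point p of Y is closed in Y if and only if dim A/p = 1. -/
theorem result (A : Type u) [CommRing A] [IsNoetherianRing A] [IsLocalRing A] :
    JacobsonSpace ↥({IsLocalRing.closedPoint A}ᶜ : Set (PrimeSpectrum A)) ∧
      ∀ p : ↥({IsLocalRing.closedPoint A}ᶜ : Set (PrimeSpectrum A)),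
        IsClosed ({p} : Set ↥({IsLocalRing.closedPoint A}ᶜ : Set (PrimeSpectrum A))) ↔
          ringKrullDim (A ⧸ p.1.asIdeal) = 1 := by
  exact Groth.Agent.H06Jacobson.punctured A

end Groth.Agent.S3433
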