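import Groth.Statements.S3435
import Mathlib

set_option autoImplicit false
universe u
open EGA41


namespace Groth.Agent.S3435

open TensorProduct in
/-- Let Λ → A → B → C be ring homomorphisms. The homomorphism Ω_{B/Λ} ⊗_B C → Ω_{B/A} ⊗_B C maps the
imperfection module Υ_{C/B/Λ} (the kernel of Ω_{B/Λ} ⊗_B C → Ω_{C/Λ}) onto the imperfection module
Υ_{C/B/A} (the kernel of Ω_{B/A} ⊗_B C → Ω_{C/A}): every element of Υ_{C/B/A} is the image of some
element of Υ_{C/B/Λ}. -/
theorem result (Λ A B C : Type u) [CommRing Λ] [CommRing A] [CommRing B] [CommRing C]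
    [Algebra Λ A] [Algebra Λ B] [Algebra Λ C] [Algebra A B] [Algebra A C] [Algebra B C]
    [IsScalarTower Λ A B] [IsScalarTower Λ A C] [IsScalarTower Λ B C] [IsScalarTower A B C] :
    ∀ ω ∈ EGA41.imperfection A B C, ∃ η ∈ EGA41.imperfection Λ B C,
      (KaehlerDifferential.map Λ A B B).baseChange C η = ω := by
  intro ω hω
  have hω' : KaehlerDifferential.mapBaseChange A B C ω = 0 := hω
  obtain ⟨η₀, hη₀⟩ : ∃ η₀, (KaehlerDifferential.map Λ A B B).baseChange C η₀ = ω :=
    LinearMap.lTensor_surjective C (g := KaehlerDifferential.map Λ A B B) (KaehlerDifferential.map_surjective Λ A B) ω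
  have hsq : ∀ z, KaehlerDifferential.map Λ A C C (KaehlerDifferential.mapBaseChange Λ B C z) =
      KaehlerDifferential.mapBaseChange A B C ((KaehlerDifferential.map Λ A B B).baseChange C z) := by
    intro z
    induction z using TensorProduct.induction_on with
    | zero => simp
    | add x y hx hy => simp only [map_add, hx, hy]
    | tmul c w =>
      rw [LinearMap.baseChange_tmul, KaehlerDifferential.mapBaseChange_tmul, KaehlerDifferential.mapBaseChange_tmul,
        map_smul]
      congr 1
      have hw : w ∈ Submodule.span B (Set.range (KaehlerDifferential.D Λ B)) := by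
        rw [KaehlerDifferential.span_range_derivation]; trivial
      induction hw using Submodule.span_induction with
      | mem x hx =>
        obtain ⟨b, rfl⟩ := hx
        simp only [KaehlerDifferential.map_D, Algebra.algebraMap_self, RingHom.id_apply]
      | zero => simp
      | add x y _ _ hx hy => rw [map_add, map_add, map_add, map_add, hx, hy]
      | smul a x _ hx =>
        rw [map_smul (KaehlerDifferential.map Λ Λ B C), map_smul (KaehlerDifferential.map Λ A B B),
          map_smul (KaehlerDifferential.map A A B C), ← algebraMap_smul C a (KaehlerDifferential.map Λ Λ B C x),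
          map_smul (KaehlerDifferential.map Λ A C C), hx, algebraMap_smul]
  have h1 : KaehlerDifferential.map Λ A C C (KaehlerDifferential.mapBaseChange Λ B C η₀) = 0 := by
    rw [hsq, hη₀, hω']
  obtain ⟨z, hz⟩ := (KaehlerDifferential.exact_mapBaseChange_map Λ A C _).mp h1
  have key : ∀ z : C ⊗[A] Ω[A⁄Λ], ∃ η, (KaehlerDifferential.map Λ A B B).baseChange C η = 0 ∧
      KaehlerDifferential.mapBaseChange Λ B C η = KaehlerDifferential.mapBaseChange Λ A C z := by
    intro z
    induction z using TensorProduct.induction_on with
    | zero => exact ⟨0, by simp, by simp⟩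
    | add x y hx hy =>
      obtain ⟨a, ha, ha'⟩ := hx
      obtain ⟨b, hb, hb'⟩ := hy
      exact ⟨a + b, by rw [map_add, ha, hb, add_zero], by rw [map_add, map_add, ha', hb']⟩
    | tmul c w =>
      have hw : w ∈ Submodule.span A (Set.range (KaehlerDifferential.D Λ A)) := by
        rw [KaehlerDifferential.span_range_derivation]; trivial
      induction hw using Submodule.span_induction with
      | mem x hx =>
        obtain ⟨a, rfl⟩ := hx
        refine ⟨c ⊗ₜ[B] KaehlerDifferential.D Λ B (algebraMap A B a), ?_, ?_⟩
        · rw [LinearMap.baseChange_tmul, KaehlerDifferential.map_D, Algebra.algebraMap_self, RingHom.id_apply,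
            Derivation.map_algebraMap, TensorProduct.tmul_zero]
        · rw [KaehlerDifferential.mapBaseChange_tmul, KaehlerDifferential.mapBaseChange_tmul, KaehlerDifferential.map_D,
            KaehlerDifferential.map_D, ← IsScalarTower.algebraMap_apply A B C]
      | zero => exact ⟨0, by simp, by simp⟩
      | add x y _ _ hx hy =>
        obtain ⟨a, ha, ha'⟩ := hx
        obtain ⟨b, hb, hb'⟩ := hy
        exact ⟨a + b, by rw [map_add, ha, hb, add_zero], by rw [TensorProduct.tmul_add, map_add, map_add, ha', hb']⟩
      | smul a x _ hx =>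
        obtain ⟨η, h1, h2⟩ := hx
        refine ⟨algebraMap A C a • η, by rw [map_smul, h1, smul_zero], ?_⟩
        rw [map_smul, h2, TensorProduct.tmul_smul, algebraMap_smul, LinearMap.map_smul_of_tower]
  obtain ⟨η₁, h2, h3⟩ := key z
  refine ⟨η₀ - η₁, ?_, by rw [map_sub, hη₀, h2, sub_zero]⟩
  show KaehlerDifferential.mapBaseChange Λ B C (η₀ - η₁) = 0
  rw [map_sub, h3, hz, sub_self]

end Groth.Agent.S3435
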