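import Groth.Statements.S3436
import Groth.Agent.H02CA.EssFTSmooth
import Groth.Agent.H05EGA4.FSAdic

set_option autoImplicit false
open CategoryTheory AlgebraicGeometry
universe u
open EGA42

namespace Groth.Agent.S3436

open Groth.Agent
set_option backward.isDefEq.respectTransparency false

/-- Let X and Y be locally Noetherian schemes, f : X ⟶ Y locally of finite type, x a point of X and y =
f x; give O_{X,x} the O_{Y,y}-algebra structure coming from f. Then O_{X,x} is formally smooth over
O_{Y,y} for the adic topologies of the two local rings (topologies defined by the maximal ideals) if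
and only if it is formally smooth for the discrete topologies. -/
theorem result {X Y : Scheme.{u}} [IsLocallyNoetherian X] [IsLocallyNoetherian Y]
    (f : X ⟶ Y) [LocallyOfFiniteType f] (x : X) :
    letI : Algebra (Y.presheaf.stalk (f.base x)) (X.presheaf.stalk x) := (f.stalkMap x).hom.toAlgebra
    EGA41.IsFormallySmoothAdic (Y.presheaf.stalk (f.base x)) (IsLocalRing.maximalIdeal (Y.presheaf.stalk (f.base x)))
        (X.presheaf.stalk x) (IsLocalRing.maximalIdeal (X.presheaf.stalk x)) ↔
      Algebra.FormallySmooth (Y.presheaf.stalk (f.base x)) (X.presheaf.stalk x) := by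
  letI : Algebra (Y.presheaf.stalk (f.base x)) (X.presheaf.stalk x) := (f.stalkMap x).hom.toAlgebra
  haveI : Algebra.EssFiniteType (Y.presheaf.stalk (f.base x)) (X.presheaf.stalk x) :=
    LocallyOfFiniteType.stalkMap f x
  have hle : ∃ k : ℕ, ((IsLocalRing.maximalIdeal (Y.presheaf.stalk (f.base x))) ^ k).map
      (algebraMap (Y.presheaf.stalk (f.base x)) (X.presheaf.stalk x)) ≤ IsLocalRing.maximalIdeal (X.presheaf.stalk x) :=
    ⟨1, by rw [pow_one]; exact IsLocalRing.map_maximalIdeal_le (f.stalkMap x).hom⟩
  constructor
  · intro h
    exact H02CA.EssFTSmooth.formallySmooth_of_isAdicFormallySmooth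
      ((H05EGA4.isFormallySmoothAdic_iff_isAdicFormallySmooth _ _ hle).mp h)
  · intro h C _ _ J hJ _ u _
    exact Algebra.FormallySmooth.exists_lift J hJ u

end Groth.Agent.S3436
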