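import Groth.Statements.S3437
import Groth.Agent.H06EGA12.ConstrLoci
import Groth.Agent.H8Props.FieldDimFormula

set_option autoImplicit false
open CategoryTheory AlgebraicGeometry
universe u
open EGA43

namespace Groth.Agent.S3437

/-- Let f : X ⟶ S be of finite presentation (locally of finite presentation, quasi-compact and
quasi-separated). Then the set of points s of S such that every local ring of the fibre X_s is
Cohen–Macaulay is locally constructible in S. -/
theorem result {X S : Scheme.{u}} (f : X ⟶ S)
    [LocallyOfFinitePresentation f] [QuasiCompact f] [QuasiSeparated f] :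
    Topology.IsLocallyConstructible {s : S |
      ∀ z : ↥(f.fiber s), LocCoh.IsCohenMacaulayLocalRing ((f.fiber s).presheaf.stalk z)} := by
  have h : Topology.IsLocallyConstructible {x : X | H06EGA12.OnFibre f (Coh.structureModule X)
      (fun A _ _ M _ _ => Subsingleton M ∨ LocCoh.IsCohenMacaulayModule A M) (f.asFiber x)}ᶜ :=
    (H06EGA12.isLocallyConstructible_onFibre f (Coh.structureModule X) H06EGA9.isFP_structureModule
      H06EGA12.semilinearInvariant_cm H06EGA12.affineOpenDim_cm) |> H06EGA12.isLocallyConstructible_compl
  convert H06EGA12.isLocallyConstructible_compl (f.isLocallyConstructible_image h) using 1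
  ext s
  have key : ∀ z : f.fiber s, LocCoh.IsCohenMacaulayLocalRing ((f.fiber s).presheaf.stalk z) ↔
      H06EGA12.OnFibre f (Coh.structureModule X)
        (fun A _ _ M _ _ => Subsingleton M ∨ LocCoh.IsCohenMacaulayModule A M) z := by
    intro z
    refine Iff.trans ?_ (H06EGA12.onFibre_structureModule_iff f H06EGA12.semilinearInvariant_cm z).symm
    rw [or_iff_right (not_subsingleton _)]
    haveI := H8Props.FieldDim.locallyOfFiniteType_fiberToSpec f s
    haveI : IsLocallyNoetherian (f.fiber s) :=
      LocallyOfFiniteType.isLocallyNoetherian (f.fiberToSpecResidueField s)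
    exact ⟨fun h => h.supportDim_eq_depth, fun h => ⟨h⟩⟩
  constructor
  · rintro hs ⟨x, hx, rfl⟩
    exact hx ((H06EGA12.onFibre_iff_asFiber f _ _ (f.asFiber x) x (f.fiberι_asFiber x)).1 ((key _).1 (hs _)))
  · intro hs z
    refine (key z).2 ((H06EGA12.onFibre_iff_asFiber f _ _ z _ rfl).2 (not_not.1 fun hx => hs ⟨f.fiberι s z, hx, ?_⟩))
    exact (f.range_fiberι s).subset (Set.mem_range_self z)

end Groth.Agent.S3437
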