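import Groth.Statements.S3438
import Groth.Agent.H06EGA14.CatenaryFormula

set_option autoImplicit false
open CategoryTheory AlgebraicGeometry
universe u
open EGA43

namespace Groth.Agent.S3438

open TopologicalSpace Topology
set_option linter.style.haveILetI false
set_option backward.isDefEq.respectTransparency false

/-- Let Y be locally Noetherian, f : X ⟶ Y locally of finite type, x a point of X with y = f x, and
suppose O_{Y,y} is equidimensional and universally catenary. If f is equidimensional at x, then dim
O_{X,x} = dim O_{Y,y} + dim O_{X_y,x}. (That O_{X,x} is then also equidimensional is a separate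
result, not asserted here.) -/
theorem result {X Y : Scheme.{u}} [IsLocallyNoetherian Y] (f : X ⟶ Y)
    [LocallyOfFiniteType f] (x : X) (hY : EGA4.IsEquidim (Y.presheaf.stalk (f.base x)))
    (hcat : CAlg.IsUniversallyCatenary (Y.presheaf.stalk (f.base x))) (h : EGA43.IsEquidimAt f x) :
    ringKrullDim (X.presheaf.stalk x) =
        ringKrullDim (Y.presheaf.stalk (f.base x)) + ringKrullDim ((f.fiber (f.base x)).presheaf.stalk (f.asFiber x)) := by
  haveI : IsLocallyNoetherian X := LocallyOfFiniteType.isLocallyNoetherian f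
  obtain ⟨t, ht, httr⟩ := H06Equidim.exists_trdeg_asFiber f x
  obtain ⟨e, hfd⟩ := H22Alg.exists_nat_fibreDimAt f x
  have key : ∀ q ∈ minimalPrimes (X.presheaf.stalk x),
      ringKrullDim (X.presheaf.stalk x ⧸ q) + (t : ℕ) = ringKrullDim (Y.presheaf.stalk (f x)) + (e : ℕ) :=
    fun q hq => by
      obtain ⟨h1, h2⟩ := H06EGA14.quotient_dim_of_isEquidimAt f x h hcat t e ht hfd q hq
      rwa [hY _ h1] at h2
  obtain ⟨p, hp⟩ := Ideal.nonempty_minimalPrimes (I := (⊥ : Ideal (X.presheaf.stalk x))) bot_ne_top
  have hdx : ringKrullDim (X.presheaf.stalk x) = ringKrullDim (X.presheaf.stalk x ⧸ p) := by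
    refine le_antisymm ?_ (ringKrullDim_quotient_le p)
    rw [← ringKrullDim_eq_of_ringEquiv (RingEquiv.quotientBot (X.presheaf.stalk x))]
    exact H05EGA4.ringKrullDim_quotient_le_of_minimalPrimes ⊥ fun q hq =>
      (H06EGA14.withBot_add_nat_cancel ((key q hq).trans (key p hp).symm)).le
  refine H06EGA14.withBot_add_nat_cancel (t := t) ?_
  rw [hdx, key p hp, add_assoc, ← H06EGA14.fibreDimAt_eq_stalk_add f x t ht, hfd]

end Groth.Agent.S3438
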