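import Groth.Statements.S3440
import Groth.Agent.H06EGA14.EquidimCriteria
import Groth.Agent.H8Props.MiracleFlat
import Groth.Agent.H8Props.FlatDepth
import Groth.Agent.H8Props.CMAt
import Groth.Agent.S4656
import Groth.Agent.H8Props.FlatLocus.Scheme
import Groth.Agent.H12AlgSp.LocPCancel

set_option autoImplicit false
open CategoryTheory AlgebraicGeometry
universe u
open EGA43

namespace Groth.Agent.S3440

open Groth.Agent
set_option backward.isDefEq.respectTransparency false

/-- Let Y be locally Noetherian, f : X ⟶ Y locally of finite type, x a point of X and y = f x; suppose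
O_{Y,y} is regular and O_{X,x} is Cohen–Macaulay. The following are equivalent: a) O_{Y,y} ⟶ O_{X,x}
is flat and the local ring of X_y at x is Cohen–Macaulay; b) O_{Y,y} ⟶ O_{X,x} is flat; c) the
restriction of f to some open neighbourhood of x is universally open; d) f is open at the generic
point of every irreducible component of X_y through x; e') dim O_{X,x} = dim O_{Y,y} + dim
O_{X_y,x}. -/
theorem result {X Y : Scheme.{u}} [IsLocallyNoetherian Y] (f : X ⟶ Y)
    [LocallyOfFiniteType f] (x : X) (hreg : IsRegularLocalRing (Y.presheaf.stalk (f.base x)))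
    (hCM : LocCoh.IsCohenMacaulayLocalRing (X.presheaf.stalk x)) :
    List.TFAE [
      (f.stalkMap x).hom.Flat ∧ LocCoh.IsCohenMacaulayLocalRing ((f.fiber (f.base x)).presheaf.stalk (f.asFiber x)),
      (f.stalkMap x).hom.Flat,
      ∃ U : X.Opens, x ∈ U ∧ UniversallyOpen (U.ι ≫ f),
      (∀ z : ↥(f.fiber (f.base x)), f.asFiber x ∈ closure {z} →
          (∀ z' : ↥(f.fiber (f.base x)), z ∈ closure {z'} → z' = z) →
          EGA43.IsOpenAt f.base ((f.fiberι (f.base x)).base z)),
      ringKrullDim (X.presheaf.stalk x) =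
        ringKrullDim (Y.presheaf.stalk (f.base x)) + ringKrullDim ((f.fiber (f.base x)).presheaf.stalk (f.asFiber x)) ] := by
  haveI : IsLocallyNoetherian X := LocallyOfFiniteType.isLocallyNoetherian f
  haveI : LocallyOfFinitePresentation f := H12AlgSp.lfp_of_lft_of_isLocallyNoetherian f
  letI : Algebra (Y.presheaf.stalk (f x)) (X.presheaf.stalk x) := (f.stalkMap x).hom.toAlgebra
  haveI : IsLocalHom (algebraMap (Y.presheaf.stalk (f x)) (X.presheaf.stalk x)) :=
    inferInstanceAs (IsLocalHom (f.stalkMap x).hom)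
  haveI := hreg
  haveI := hCM
  let e := H8Props.FibreStalk.asFiberStalkEquiv f x
  tfae_have 1 → 2 := And.left
  tfae_have 2 → 3 := by
    intro hflat
    let W : X.Opens := ⟨_, H8Props.FlatLocus.isOpen_setOf_flat_stalkMap f⟩
    haveI : Flat (W.ι ≫ f) := by
      rw [Flat.iff_flat_stalkMap]
      intro z
      exact (S4656.result W.ι f z (Flat.stalkMap _ _)).mpr z.2
    exact ⟨W, hflat, inferInstance⟩
  tfae_have 3 → 4 := by
    rintro ⟨U, hxU, hU⟩ z hz -
    have hsp : f.fiberι (f x) z ⤳ x := by
      have := (specializes_iff_mem_closure.mpr hz).map (f.fiberι (f x)).continuous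
      rwa [show f.fiberι (f x) (f.asFiber x) = x from f.fiberι_asFiber x] at this
    intro N hN
    haveI := hU
    let w : U.toScheme := ⟨f.fiberι (f x) z, hsp.mem_open U.2 hxU⟩
    have h1 := (U.ι ≫ f).isOpenMap.image_mem_nhds (U.ι.continuous.continuousAt.preimage_mem_nhds
      (show N ∈ nhds (U.ι w) from hN))
    refine Filter.mem_of_superset h1 ?_
    rintro _ ⟨t, ht, rfl⟩
    exact ⟨U.ι t, ht, rfl⟩
  tfae_have 4 → 5 := H06EGA14.ringKrullDim_stalk_eq_of_isOpenAt f x
  tfae_have 5 → 1 := by
    intro h
    haveI : Module.Flat (Y.presheaf.stalk (f x)) (X.presheaf.stalk x) := by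
      refine H8Props.MiracleFlat.flat_of_regular_of_cohenMacaulay _ _ (le_of_eq ?_)
      rw [h, ← ringKrullDim_eq_of_ringEquiv e]
      rfl
    refine ⟨this, ?_⟩
    haveI := ((H8Props.FlatDepth.isCohenMacaulayLocalRing_iff (Y.presheaf.stalk (f x)) (X.presheaf.stalk x)).mp hCM).2
    exact H8Props.CMAt.isCohenMacaulayLocalRing_of_ringEquiv e
  tfae_finish

end Groth.Agent.S3440
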