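import Groth.Statements.S3447
import Groth.Agent.H05EGA4.DimLocal
import Groth.Agent.H8Props.FibreStalk

set_option autoImplicit false
open CategoryTheory AlgebraicGeometry
universe u
open EGA43

namespace Groth.Agent.S3447

/-- Let Y be locally Noetherian, f : X ⟶ Y of finite type and x a point of X with y = f x. Then dim
O_{X,x} ≤ dim O_{Y,y} + dim O_{X_y,x}, where X_y is the fibre through x. -/
theorem result {X Y : Scheme.{u}} [IsLocallyNoetherian Y] (f : X ⟶ Y)
    [LocallyOfFiniteType f] [QuasiCompact f] (x : X) :
    ringKrullDim (X.presheaf.stalk x) ≤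
      ringKrullDim (Y.presheaf.stalk (f.base x)) + ringKrullDim ((f.fiber (f.base x)).presheaf.stalk (f.asFiber x)) := by
  open IsLocalRing in
  haveI : IsLocallyNoetherian X := LocallyOfFiniteType.isLocallyNoetherian f
  letI := (f.stalkMap x).hom.toAlgebra
  haveI : IsLocalHom (algebraMap (Y.presheaf.stalk (f.base x)) (X.presheaf.stalk x)) :=
    inferInstanceAs (IsLocalHom (f.stalkMap x).hom)
  refine (H05EGA4.dimLocalHom (Y.presheaf.stalk (f.base x)) (X.presheaf.stalk x)).trans ?_
  exact (add_le_add le_rfl
    (ringKrullDim_eq_of_ringEquiv (H8Props.FibreStalk.asFiberStalkEquiv f x)).le)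

end Groth.Agent.S3447
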