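import Groth.Statements.S3448
import Groth.Agent.H06EGA14.CatenaryCriteria
import Groth.Agent.H06Unram.DimInjective

set_option autoImplicit false
open CategoryTheory AlgebraicGeometry
universe u
open EGA43

namespace Groth.Agent.S3448

open Groth.Agent H8Props.FieldDim
set_option backward.isDefEq.respectTransparency false

/-- Let Y be locally Noetherian, f : X ⟶ Y of finite type, x a point of X with y = f x, and suppose
O_{Y,y} is universally catenary. Then dim O_{X,x} = dim O_{Y,y} + dim O_{X_y,x} if and only if there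
is a point z of the fibre over y which is a generization of x, is maximal in the fibre (the generic
point of an irreducible component Z of X_y containing x), has local fibre dimension at z equal to
that at x (dim Z = dim_x X_y), and satisfies dim O_{X,z} = dim O_{Y,y}. -/
theorem result {X Y : Scheme.{u}} [IsLocallyNoetherian Y]
    (f : X ⟶ Y) [LocallyOfFiniteType f] [QuasiCompact f] (x : X)
    (hcat : CAlg.IsUniversallyCatenary (Y.presheaf.stalk (f.base x))) :
    ringKrullDim (X.presheaf.stalk x) =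
        ringKrullDim (Y.presheaf.stalk (f.base x)) + ringKrullDim ((f.fiber (f.base x)).presheaf.stalk (f.asFiber x)) ↔
      ∃ z : X, f.base z = f.base x ∧ z ⤳ x ∧ (∀ z' : X, f.base z' = f.base x → z' ⤳ z → z' = z) ∧
        FlatMor.fibreDimAt f z = FlatMor.fibreDimAt f x ∧
        ringKrullDim (X.presheaf.stalk z) = ringKrullDim (Y.presheaf.stalk (f.base z)) := by
  haveI : IsLocallyNoetherian X := LocallyOfFiniteType.isLocallyNoetherian f
  haveI := H8Props.FieldDim.locallyOfFiniteType_fiberToSpec f (f x)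
  haveI : IsLocallyNoetherian (f.fiber (f x)) :=
    LocallyOfFiniteType.isLocallyNoetherian (f.fiberToSpecResidueField (f x))
  obtain ⟨t, ht, -⟩ := H06Equidim.exists_trdeg_asFiber f x
  obtain ⟨d, hd⟩ := H22Alg.exists_nat_ringKrullDim' (Y.presheaf.stalk (f x))
  obtain ⟨F, hF⟩ := H22Alg.exists_nat_ringKrullDim' ((f.fiber (f x)).presheaf.stalk (f.asFiber x))
  have hfd : FlatMor.fibreDimAt f x = ((F + t : ℕ) : WithBot ℕ∞) := by
    rw [H06EGA14.fibreDimAt_eq_stalk_add f x t ht, hF]; push_cast; rfl
  have hle := H06EGA14.stalk_dim_le_add f x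
  rw [hd, hF] at hle ⊢
  let A := Y.presheaf.stalk (f x)
  let C := X.presheaf.stalk x
  letI : Algebra A C := (f.stalkMap x).hom.toAlgebra
  haveI : IsLocalHom (algebraMap A C) := inferInstanceAs (IsLocalHom (f.stalkMap x).hom)
  constructor
  · intro hdim
    obtain ⟨P', hP, hPd⟩ := H06EGA14.exists_minimalPrime_dim_eq C
    let P : PrimeSpectrum C := ⟨P', hP.1.1⟩
    let η := X.fromSpecStalk x P
    have hηx : η ⤳ x := by
      have : η ∈ Set.range (X.fromSpecStalk x) := ⟨P, rfl⟩
      rwa [Scheme.range_fromSpecStalk] at this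
    obtain ⟨c, hc, -⟩ := H06Equidim.exists_trdeg_asFiber f η
    have hce : c ≤ F + t := by
      have h1 : cdim (f.asFiber η) ≤ ((F + t : ℕ) : WithBot ℕ∞) :=
        (H06Equidim.cdim_asFiber_le_fibreDimAt f _).trans ((fibreDimAt_le_of_specializes f hηx).trans hfd.le)
      rw [hc] at h1
      exact_mod_cast h1
    let P₀ : PrimeSpectrum A := PrimeSpectrum.comap (f.stalkMap x).hom P
    haveI := P₀.2
    obtain ⟨d₀, hd₀⟩ := H05EGA4.exists_nat_dim_quotient_eq P₀.asIdeal
    have hdd : d₀ ≤ d := by
      have := (ringKrullDim_quotient_le P₀.asIdeal).trans hd.le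
      rw [hd₀] at this
      exact_mod_cast this
    have h2 := H06EGA14.quotient_dim_add_eq_of_catenary f x hcat P d₀ t c hd₀ ht hc
    rw [show ringKrullDim (C ⧸ P.asIdeal) = ringKrullDim C from hPd, hdim] at h2
    have h3 : d + F + t = d₀ + c := by exact_mod_cast h2
    have hfull : H06EGA14.IsFull (f x) (f η) :=
      ⟨P₀, congrArg (fun φ : Spec (X.presheaf.stalk x) ⟶ Y => φ P) (Scheme.SpecMap_stalkMap_fromSpecStalk f),
        by rw [hd₀, hd, show d₀ = d by omega]⟩
    -- a point of the fibre
    let J : Ideal C := P' ⊔ (IsLocalRing.maximalIdeal A).map (algebraMap A C)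
    have hJF : (F : WithBot ℕ∞) ≤ ringKrullDim (C ⧸ J) := by
      have h4 := H05EGA4.dimLocalHomQuot A C ⊥ P' bot_le
      rw [hPd, hdim, ringKrullDim_eq_of_ringEquiv (RingEquiv.quotientBot A), hd, add_comm (d : WithBot ℕ∞),
        add_comm (d : WithBot ℕ∞)] at h4
      exact H06Unram.DimInjective.le_of_le_add_nat d h4
    have hJtop : J ≠ ⊤ := ne_top_of_le_ne_top (IsLocalRing.maximalIdeal.isMaximal C).ne_top
      (sup_le (IsLocalRing.le_maximalIdeal hP.1.1.ne_top) (IsLocalRing.map_maximalIdeal_le _))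
    haveI : Nontrivial (C ⧸ J) := Ideal.Quotient.nontrivial_iff.mpr hJtop
    haveI : IsLocalRing (C ⧸ J) := .of_surjective' _ Ideal.Quotient.mk_surjective
    obtain ⟨q', hq', hqd⟩ := H06EGA14.exists_minimalPrime_dim_eq (C ⧸ J)
    haveI := hq'.1.1
    let q : PrimeSpectrum C := ⟨q'.comap (Ideal.Quotient.mk J), inferInstance⟩
    have hJq : J ≤ q.asIdeal := fun a ha => by
      show Ideal.Quotient.mk J a ∈ q'
      rw [Ideal.Quotient.eq_zero_iff_mem.mpr ha]; exact zero_mem _
    let z := X.fromSpecStalk x q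
    have hzx : z ⤳ x := by
      have : z ∈ Set.range (X.fromSpecStalk x) := ⟨q, rfl⟩
      rwa [Scheme.range_fromSpecStalk] at this
    have hq₀ : PrimeSpectrum.comap (f.stalkMap x).hom q = IsLocalRing.closedPoint A := by
      refine PrimeSpectrum.ext ((IsLocalRing.maximalIdeal.isMaximal A).eq_of_le (PrimeSpectrum.isPrime _).ne_top ?_).symm
      exact fun a ha => hJq (Ideal.mem_sup_right (Ideal.mem_map_of_mem _ ha))
    have hfz : f z = f x := by
      have h5 : Y.fromSpecStalk (f x) (PrimeSpectrum.comap (f.stalkMap x).hom q) = f z :=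
        congrArg (fun φ : Spec (X.presheaf.stalk x) ⟶ Y => φ q) (Scheme.SpecMap_stalkMap_fromSpecStalk f)
      rw [← h5, hq₀]
      exact Scheme.fromSpecStalk_closedPoint
    have hηz : η ⤳ z := ((PrimeSpectrum.le_iff_specializes P q).mp
      ((le_sup_left : P' ≤ J).trans hJq)).map (X.fromSpecStalk x).continuous
    obtain ⟨cz, hcz, -⟩ := H06Equidim.exists_trdeg_asFiber f z
    have hfdz : FlatMor.fibreDimAt f z ≤ ((F + t : ℕ) : WithBot ℕ∞) := (fibreDimAt_le_of_specializes f hzx).trans hfd.le
    have hqF : (F : WithBot ℕ∞) ≤ ringKrullDim (C ⧸ q.asIdeal) := by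
      have e1 : ringKrullDim (C ⧸ q.asIdeal) = ringKrullDim ((C ⧸ J) ⧸ q') := by
        rw [← ringKrullDim_eq_of_ringEquiv (DoubleQuot.quotQuotEquivQuotOfLE hJq)]
        refine ringKrullDim_eq_of_ringEquiv (Ideal.quotEquivOfEq ?_)
        exact Ideal.map_comap_of_surjective _ Ideal.Quotient.mk_surjective q'
      rw [e1, hqd]
      exact hJF
    have hz0 : ringKrullDim (A ⧸ q.asIdeal.comap (f.stalkMap x).hom) = ((0 : ℕ) : WithBot ℕ∞) := by
      rw [show q.asIdeal.comap (f.stalkMap x).hom = IsLocalRing.maximalIdeal A from congrArg PrimeSpectrum.asIdeal hq₀,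
        Nat.cast_zero]
      letI := Ideal.Quotient.field (IsLocalRing.maximalIdeal A)
      exact ringKrullDim_eq_zero_of_field _
    have h6 := H06EGA14.quotient_dim_add_eq_of_catenary f x hcat q 0 t cz hz0 ht hcz
    have hczeq : cz = F + t := by
      refine le_antisymm ?_ ?_
      · have h1 := (H06Equidim.cdim_asFiber_le_fibreDimAt f z).trans hfdz
        rw [hcz] at h1
        exact_mod_cast h1
      · have h7 : ((F + t : ℕ) : WithBot ℕ∞) ≤ ((0 + cz : ℕ) : WithBot ℕ∞) := by
          rw [← h6]; push_cast; exact add_le_add hqF le_rfl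
        simpa using (Nat.cast_le.mp h7)
    have hfdz' : FlatMor.fibreDimAt f z = ((F + t : ℕ) : WithBot ℕ∞) := le_antisymm hfdz (by
      have h1 := H06Equidim.cdim_asFiber_le_fibreDimAt f z
      rwa [hcz, hczeq] at h1)
    refine ⟨z, hfz, hzx, fun z' hz' hz'z => ?_, hfdz'.trans hfd.symm, ?_⟩
    · by_contra hne
      obtain ⟨w, hw⟩ : z' ∈ Set.range (f.fiberι (f z)) := by
        rw [f.range_fiberι]; exact hz'.trans hfz.symm
      haveI := H8Props.FieldDim.locallyOfFiniteType_fiberToSpec f (f z)
      have h8 : cdim (f.asFiber z) < cdim w := by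
        refine cdim_lt (k := Y.residueField (f z)) (f.fiberToSpecResidueField (f z)) ?_ fun e => hne ?_
        · rw [← (f.fiberι (f z)).isEmbedding.isInducing.specializes_iff, hw, f.fiberι_asFiber]
          exact hz'z
        · rw [← hw, e, f.fiberι_asFiber]
      refine absurd h8 (not_lt.mpr ?_)
      rw [hcz, hczeq, ← hfdz']
      show _ ≤ FlatMor.localDim (f.fiber (f z)) (f.asFiber z)
      rw [localDim_eq (k := Y.residueField (f z)) (f.fiberToSpecResidueField (f z))]
      refine le_iSup_of_le ⟨w, ?_⟩ le_rfl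
      rw [← (f.fiberι (f z)).isEmbedding.isInducing.specializes_iff, hw, f.fiberι_asFiber]
      exact hz'z
    · refine le_antisymm ?_ ?_
      · have h9 := H06EGA14.stalk_dim_le_add f z
        rwa [(H06EGA14.fibre_stalk_dim_eq_zero_iff f z).mpr (by rw [hcz, hczeq, hfdz']), add_zero] at h9
      · have h10 : c = F + t := by omega
        have h11 := H06EGA14.add_le_of_isFull f z η hηz (by rw [hfz]; exact hcat) (by rw [hfz]; exact hfull) cz c hcz hc
        rw [h10, hczeq] at h11
        exact H06Unram.DimInjective.le_of_le_add_nat _ h11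
  · rintro ⟨z, hfz, hzx, hzmax, hfdz, hdimz⟩
    obtain ⟨ξ, hξ, hfξ, -, hξd⟩ := H06EGA14.exists_maximal_generization f z
    obtain rfl : ξ = z := hzmax ξ (hfξ.trans hfz) hξ
    obtain ⟨η, hη, -, hfull, hηc⟩ := H06EGA14.exists_full_component f ξ (F + t) (hfdz.trans hfd)
      (hξd.trans (hfdz.trans hfd)) hdimz
    have h11 := H06EGA14.add_le_of_isFull f x η (hη.trans hzx) hcat
      (show H06EGA14.IsFull (f x) (f η) by rw [← hfz]; exact hfull) t (F + t) ht hηc
    refine le_antisymm hle (H06Unram.DimInjective.le_of_le_add_nat t ?_)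
    rw [hd] at h11
    push_cast at h11 ⊢
    rw [add_assoc]
    exact h11

end Groth.Agent.S3448
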