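import Groth.Statements.S3449
import Groth.Agent.H06EGA14.JacobsonDim

set_option autoImplicit false
open CategoryTheory AlgebraicGeometry
universe u
open EGA43

namespace Groth.Agent.S3449

open Groth.Agent Groth.Agent.H06EGA14 Groth.Agent.H8Props.FieldDim

/-- Let S be a locally Noetherian scheme which is Jacobson, whose local rings are universally catenary,
and whose irreducible components S' are equidimensional in the sense that for every closed point s
of S' the dimension of S' equals the dimension of S' at s (the Krull dimension of the set of
generizations of s inside S'). Let X and Y be S-schemes, each locally of finite type over the base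
S, and let f : X ⟶ Y be a morphism over S, with X irreducible and f dominant; let η be the generic
point of Y and e the dimension of the fibre over η. Then dim X = dim Y + e. -/
theorem result {X Y S : Scheme.{u}} [IsLocallyNoetherian S]
    [JacobsonSpace S] (h2 : ∀ s : S, CAlg.IsUniversallyCatenary (S.presheaf.stalk s))
    (h3 : ∀ S' ∈ irreducibleComponents (S : Type u), ∀ s ∈ S', IsClosed ({s} : Set S) →
      topologicalKrullDim (↥S' : Type u) = topologicalKrullDim ↥{t : S | t ∈ S' ∧ t ⤳ s})
    (p : X ⟶ S) (q : Y ⟶ S) [LocallyOfFiniteType p] [LocallyOfFiniteType q] (f : X ⟶ Y) (hf : f ≫ q = p)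
    [IrreducibleSpace X] [IrreducibleSpace Y] [IsDominant f] :
    topologicalKrullDim (X : Type u) =
      topologicalKrullDim (Y : Type u) + topologicalKrullDim ↥(f.fiber (genericPoint Y)) := by
  haveI : LocallyOfFiniteType (f ≫ q) := hf ▸ inferInstance
  haveI : LocallyOfFiniteType f := locallyOfFiniteType_of_comp f q
  have hη : f (genericPoint X) = genericPoint Y := by
    have h1 : DenseRange f := IsDominant.denseRange (f := f)
    have h2 : closure ({f (genericPoint X)} : Set Y) = Set.univ := by
      rw [← H06Equidim.closure_image_closure_singleton f (genericPoint X), genericPoint_closure, Set.image_univ]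
      exact h1.closure_range
    exact ((genericPoint_specializes (f (genericPoint X))).antisymm
      (specializes_iff_mem_closure.mpr (h2 ▸ Set.mem_univ _))).symm.eq
  obtain ⟨e₁, he₁, -⟩ := H06Equidim.exists_trdeg_asFiber f (genericPoint X)
  obtain ⟨e₂, he₂, -⟩ := H06Equidim.exists_trdeg_asFiber q (genericPoint Y)
  obtain ⟨D, hD⟩ := exists_dim_quotient_const h2 h3 (q (genericPoint Y))
  have hp : p (genericPoint X) = q (genericPoint Y) := by rw [← hf, Scheme.Hom.comp_apply, hη]
  have hX : cdim (p.asFiber (genericPoint X)) = ((e₁ + e₂ : ℕ) : WithBot ℕ∞) := by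
    subst hf
    rw [H06Equidim.cdim_asFiber_comp, he₁]
    have : cdim (q.asFiber (f (genericPoint X))) = (e₂ : WithBot ℕ∞) := by rw [hη]; exact he₂
    rw [this]; norm_cast
  rw [topologicalKrullDim_eq_add h2 p D (fun s hs hc r hr => hD s (hp ▸ hs) hc r (hr.trans hp)) (e₁ + e₂) hX,
    topologicalKrullDim_eq_add h2 q D hD e₂ he₂]
  have hfib : topologicalKrullDim ↥(f.fiber (genericPoint Y)) = (e₁ : WithBot ℕ∞) := by
    rw [← hη, ← he₁]
    show _ = topologicalKrullDim ↥(closure ({f.asFiber (genericPoint X)} : Set (f.fiber (f (genericPoint X)))))
    have : closure ({f.asFiber (genericPoint X)} : Set (f.fiber (f (genericPoint X)))) = Set.univ := by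
      refine Set.eq_univ_of_forall fun w => (specializes_iff_mem_closure.mp ?_)
      refine (f.fiberι _).isEmbedding.isInducing.specializes_iff.mp ?_
      rw [f.fiberι_asFiber]
      exact genericPoint_specializes _
    rw [this]
    exact (IsHomeomorph.topologicalKrullDim_eq _ (Homeomorph.Set.univ _).isHomeomorph).symm
  rw [hfib]
  push_cast
  abel

end Groth.Agent.S3449
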