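import Groth.Statements.S3452
import Groth.Agent.H06GeomInt.Loci

set_option autoImplicit false
open CategoryTheory AlgebraicGeometry
universe u
open EGA43

namespace Groth.Agent.S3452

/-- Let f : X ⟶ S be locally of finite presentation. The set of points x of X such that the fibre of f
through x is geometrically pointwise integral at x over the residue field of f x is locally
constructible in X. -/
theorem result {X S : Scheme.{u}} (f : X ⟶ S)
    [LocallyOfFinitePresentation f] :
    Topology.IsLocallyConstructible {x : X |
      FBase.IsGeomPtIntegralAt (f.fiberToSpecResidueField (f.base x)) (f.asFiber x)} := by
  exact Groth.Agent.H06GeomInt.isLocallyConstructible_locus f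

end Groth.Agent.S3452
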