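import Groth.Statements.S3453
import Groth.Agent.H06EGA12.ConstrLoci
import Groth.Agent.H8Props.FieldDimFormula

set_option autoImplicit false
open CategoryTheory AlgebraicGeometry
universe u
open EGA43

namespace Groth.Agent.S3453

/-- Let f : X ⟶ S be locally of finite presentation and n a natural number. The set of points x of X
such that the local ring of the fibre of f through x at x has codepth n (its Krull dimension equals
its depth plus n) is locally constructible in X. -/
theorem result {X S : Scheme.{u}} (f : X ⟶ S)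
    [LocallyOfFinitePresentation f] (n : ℕ) :
    Topology.IsLocallyConstructible {x : X |
      ringKrullDim ((f.fiber (f.base x)).presheaf.stalk (f.asFiber x)) =
        ((LocCoh.depth ((f.fiber (f.base x)).presheaf.stalk (f.asFiber x)) ((f.fiber (f.base x)).presheaf.stalk (f.asFiber x)) : ℕ∞) : WithBot ℕ∞) + n} := by
  have hd : ∀ x : X, ∃ a d : ℕ, ringKrullDim ((f.fiber (f x)).presheaf.stalk (f.asFiber x)) = (a : WithBot ℕ∞) ∧
      LocCoh.depth ((f.fiber (f x)).presheaf.stalk (f.asFiber x)) ((f.fiber (f x)).presheaf.stalk (f.asFiber x)) = (d : ℕ∞) ∧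
      d ≤ a := by
    intro x
    haveI := H8Props.FieldDim.locallyOfFiniteType_fiberToSpec f (f x)
    haveI : IsLocallyNoetherian (f.fiber (f x)) :=
      LocallyOfFiniteType.isLocallyNoetherian (f.fiberToSpecResidueField (f x))
    set O := (f.fiber (f x)).presheaf.stalk (f.asFiber x)
    obtain ⟨d, hd⟩ := ENat.ne_top_iff_exists.1 (H8Props.FlatDepth.depth_ne_top O O)
    have h1 : ringKrullDim O ≠ ⊤ := ringKrullDim_ne_top
    have h2 : ringKrullDim O ≠ ⊥ := ringKrullDim_ne_bot
    obtain ⟨b, hb⟩ := WithBot.ne_bot_iff_exists.1 h2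
    obtain ⟨a, rfl⟩ := ENat.ne_top_iff_exists.1 (show b ≠ ⊤ from fun h => h1 (by rw [← hb, h]; rfl))
    refine ⟨a, d, hb.symm, hd.symm, ?_⟩
    have h3 := H4Depth.depth_le_supportDim (R := O) (M := O)
    rw [Module.supportDim_self_eq_ringKrullDim, ← hb, ← hd] at h3
    exact_mod_cast h3
  have hle : ∀ k : ℕ, Topology.IsLocallyConstructible {x : X |
      ringKrullDim ((f.fiber (f x)).presheaf.stalk (f.asFiber x)) ≤
        ((LocCoh.depth ((f.fiber (f x)).presheaf.stalk (f.asFiber x)) ((f.fiber (f x)).presheaf.stalk (f.asFiber x)) : ℕ∞) : WithBot ℕ∞) + k} := by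
    intro k
    convert H06EGA12.isLocallyConstructible_onFibre f (Coh.structureModule X) H06EGA9.isFP_structureModule
      (H06EGA12.semilinearInvariant_supportDim_le k) (H06EGA12.affineOpenDim_coprof k) using 1
    ext x
    refine Iff.trans ?_ (H06EGA12.onFibre_structureModule_iff f (H06EGA12.semilinearInvariant_supportDim_le k)
      (f.asFiber x)).symm
    rw [Module.supportDim_self_eq_ringKrullDim]
    rfl
  have hcast : ∀ d k : ℕ, ((d : ℕ∞) : WithBot ℕ∞) + (k : WithBot ℕ∞) = ((d + k : ℕ) : WithBot ℕ∞) := by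
    intro d k; push_cast; rfl
  cases n with
  | zero =>
    convert hle 0 using 1
    ext x
    obtain ⟨a, d, ha, hd', hda⟩ := hd x
    simp only [Set.mem_setOf_eq]
    rw [ha, hd', hcast, Nat.cast_inj, Nat.cast_le]
    omega
  | succ m =>
    convert (hle (m + 1)).inter (H06EGA12.isLocallyConstructible_compl (hle m)) using 1
    ext x
    obtain ⟨a, d, ha, hd', hda⟩ := hd x
    simp only [Set.mem_inter_iff, Set.mem_compl_iff, Set.mem_setOf_eq]
    rw [ha, hd', hcast, hcast, Nat.cast_inj, Nat.cast_le, Nat.cast_le]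
    omega

end Groth.Agent.S3453
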