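import Groth.Statements.S3456
import Groth.Agent.H06EGA14.EquidimCriteria

set_option autoImplicit false
open CategoryTheory AlgebraicGeometry
universe u
open EGA43

namespace Groth.Agent.S3456

open TopologicalSpace Topology
set_option linter.style.haveILetI false
set_option backward.isDefEq.respectTransparency false

/-- Let Y be locally Noetherian, f : X ⟶ Y locally of finite type and x a point of X; let X_j run over
the (finitely many) irreducible components of X containing x. Then f is equidimensional at x if and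
only if there is a natural number e such that for every X_j: the closure Y_j of f(X_j) is an
irreducible component of Y; for every point η of Y whose closure equals Y_j (i.e. the generic point
of Y_j), the fibre X_j ∩ f⁻¹(η) has topological Krull dimension e; and the local dimension at x of
X_j ∩ f⁻¹(f x) is e. All subsets of X carry the induced topology. -/
theorem result {X Y : Scheme.{u}} [IsLocallyNoetherian Y] (f : X ⟶ Y)
    [LocallyOfFiniteType f] (x : X) :
    EGA43.IsEquidimAt f x ↔
      ∃ e : ℕ, ∀ Xj ∈ irreducibleComponents (X : Type u), ∀ hx : x ∈ Xj,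
        closure (f.base '' Xj) ∈ irreducibleComponents (Y : Type u) ∧
        (∀ η : Y, closure ({η} : Set Y) = closure (f.base '' Xj) →
          topologicalKrullDim ↥(Xj ∩ f.base ⁻¹' {η}) = e) ∧
        FlatMor.localDim ↥(Xj ∩ f.base ⁻¹' {f.base x}) ⟨x, ⟨hx, Set.mem_singleton (f.base x)⟩⟩ = e := by
  constructor
  · rintro ⟨e, U, hxU, hcomp, hfib⟩
    have hdimU : ∀ z : U.toScheme, FlatMor.fibreDimAt f (U.ι z) = e := fun z =>
      (H06Equidim.fibreDimAt_opens_ι f U z).symm.trans
        (H06Equidim.fibreDimAt_eq_of_dim_component_fibre (U.ι ≫ f) e hfib z)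
    refine ⟨e, fun Xj hXj hx => ?_⟩
    obtain ⟨η, rfl, hηmax⟩ := H06EGA14.exists_eq_closure_singleton hXj
    have hηx : η ⤳ x := specializes_iff_mem_closure.mpr hx
    have hηU : η ∈ U := hηx.mem_open U.2 hxU
    obtain ⟨W', hW', -, hW'eq⟩ := hcomp _ (H06Equidim.closure_singleton_mem_irreducibleComponents
      (Z := U.toScheme) ⟨η, hηU⟩ fun ζ hζ => U.ι.isEmbedding.injective (hηmax _ (hζ.map U.ι.continuous)))
    have hW : closure ({f η} : Set Y) = W' :=
      (H06Equidim.closure_image_closure_singleton (U.ι ≫ f) ⟨η, hηU⟩).symm.trans hW'eq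
    have hcd : H8Props.FieldDim.cdim (f.asFiber η) = (e : WithBot ℕ∞) :=
      (H06Equidim.cdim_asFiber_eq_fibreDimAt f η hηmax).trans (hdimU ⟨η, hηU⟩)
    refine ⟨?_, fun η' hη' => ?_, ?_⟩
    · rw [H06Equidim.closure_image_closure_singleton, hW]; exact hW'
    · rw [H06Equidim.closure_image_closure_singleton] at hη'
      obtain rfl : η' = f η := H06EGA14.eq_of_closure_singleton_eq hη'
      rw [H06EGA14.dim_inter_eq_cdim f η rfl, hcd]
    · refine le_antisymm ((H06EGA14.localDim_inter_le f x ⟨hx, rfl⟩).trans (hdimU ⟨x, hxU⟩).le) ?_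
      obtain ⟨p, rfl⟩ : η ∈ Set.range (X.fromSpecStalk x) := by rw [Scheme.range_fromSpecStalk]; exact hηx
      obtain ⟨Z, i, x', hi, hZ, hr, hix, -⟩ := H06EGA14.exists_integral_closure x p
      haveI := hi; haveI := hZ
      obtain ⟨ξ, hξ, hfξ, -, hξd⟩ := H06EGA14.exists_maximal_generization (i ≫ f) x'
      have hgen : i (genericPoint Z) = X.fromSpecStalk x p := by
        obtain ⟨b, hb⟩ : X.fromSpecStalk x p ∈ Set.range i := hr ▸ subset_closure rfl
        have h1 : i (genericPoint Z) ⤳ X.fromSpecStalk x p := hb ▸ (genericPoint_specializes b).map i.continuous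
        exact (h1.antisymm (specializes_iff_mem_closure.mpr (hr ▸ Set.mem_range_self _))).eq
      rw [H06EGA14.cdim_asFiber_comp_closedImmersion] at hξd
      have h2 : (e : WithBot ℕ∞) ≤ H8Props.FieldDim.cdim (f.asFiber (i ξ)) := by
        rw [hξd, ← hcd, ← hgen, ← H06EGA14.cdim_asFiber_comp_closedImmersion i f]
        exact (H06Equidim.cdim_asFiber_le_fibreDimAt (i ≫ f) _).trans
          (H8Props.FieldDim.fibreDimAt_le_of_specializes (i ≫ f) (genericPoint_specializes x'))
      refine h2.trans (H06EGA14.cdim_le_localDim_inter f x (i ξ) (hix ▸ hξ.map i.continuous) ?_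
        isClosed_closure (hr ▸ Set.mem_range_self ξ) _)
      rw [← hix, ← Scheme.Hom.comp_apply, hfξ, Scheme.Hom.comp_apply]
  · rintro ⟨e, he⟩
    haveI : IsLocallyNoetherian X := LocallyOfFiniteType.isLocallyNoetherian f
    refine H06EGA14.isEquidimAt_of_forall_component f x e ?_ fun ζ hζ hζmax => ?_
    · obtain ⟨ξ, hξ, hfξ, -, hξd⟩ := H06EGA14.exists_maximal_generization f x
      obtain ⟨η, hη, hT⟩ := H8Props.FieldDim.exists_component_generization ξ
      rw [← hξd]
      exact (H06EGA14.cdim_le_localDim_inter f x ξ hξ hfξ isClosed_closure hη.mem_closure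
        ⟨(hη.trans hξ).mem_closure, rfl⟩).trans (he _ hT (hη.trans hξ).mem_closure).2.2.le
    · obtain ⟨h1, h2, -⟩ := he _ (H06Equidim.closure_singleton_mem_irreducibleComponents ζ hζmax) hζ.mem_closure
      rw [H06Equidim.closure_image_closure_singleton] at h1 h2
      refine ⟨H06Equidim.eq_of_specializes_of_component h1, ?_⟩
      rw [← H06Equidim.cdim_asFiber_eq_fibreDimAt f ζ hζmax, ← H06EGA14.dim_inter_eq_cdim f ζ rfl]
      exact h2 (f ζ) rfl

end Groth.Agent.S3456
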