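import Groth.Statements.S3460


set_option autoImplicit false
open CategoryTheory AlgebraicGeometry
universe u
open EGA43

namespace Groth.Agent.S3460

open Groth.Agent

/-- Let Y be locally Noetherian and f : X ⟶ Y of finite type. Then there exist a scheme Z, a proper
morphism g : X ⟶ Z and an immersion h : Z ⟶ Y with f = g ≫ h if and only if f is proper at every
point of f(X), i.e. every point of f(X) has an open neighbourhood U in Y over which the restriction
of f is proper. -/
theorem result {X Y : Scheme.{u}} [IsLocallyNoetherian Y]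
    (f : X ⟶ Y) [LocallyOfFiniteType f] [QuasiCompact f] :
    (∃ (Z : Scheme.{u}) (g : X ⟶ Z) (h : Z ⟶ Y), IsProper g ∧ IsImmersion h ∧ g ≫ h = f) ↔
      ∀ x : X, ∃ U : Y.Opens, f.base x ∈ U ∧ IsProper (f ∣_ U) := by
  constructor
  · rintro ⟨Z, g, h, hg, hh, rfl⟩ x
    refine ⟨h.coborderRange, subset_coborder ⟨g x, rfl⟩, ?_⟩
    have he : (g ≫ h) ∣_ h.coborderRange = ((g ≫ h) ⁻¹ᵁ h.coborderRange).ι ≫ g ≫ h.liftCoborder := by
      rw [← cancel_mono h.coborderRange.ι, morphismRestrict_ι, Category.assoc, Category.assoc, h.liftCoborder_ι]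
    have htop : (g ≫ h) ⁻¹ᵁ h.coborderRange = ⊤ := top_le_iff.mp fun z _ => subset_coborder ⟨g z, rfl⟩
    haveI : IsIso ((g ≫ h) ⁻¹ᵁ h.coborderRange).ι := by rw [htop]; exact inferInstanceAs (IsIso X.topIso.hom)
    rw [he]
    infer_instance
  · intro hx
    choose U hU hP using hx
    let V : Y.Opens := ⨆ x, U x
    have hV : IsProper (f ∣_ V) := by
      refine (IsZariskiLocalAtTarget.iff_of_iSup_eq_top (P := @IsProper) (fun x => V.ι ⁻¹ᵁ U x) ?_).mpr fun x => ?_
      · rw [← Scheme.Hom.preimage_iSup]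
        exact V.ι_preimage_self
      · refine ((MorphismProperty.arrow_mk_iso_iff @IsProper
          (morphismRestrictRestrict f V (V.ι ⁻¹ᵁ U x))).mpr ?_)
        rw [Scheme.Hom.image_preimage_eq_opensRange_inf, Scheme.Opens.opensRange_ι, inf_eq_right.mpr (le_iSup U x)]
        exact hP _
    have htop : f ⁻¹ᵁ V = ⊤ := top_le_iff.mp fun z _ => TopologicalSpace.Opens.mem_iSup.mpr ⟨z, hU z⟩
    haveI : IsIso (f ⁻¹ᵁ V).ι := by rw [htop]; exact inferInstanceAs (IsIso X.topIso.hom)
    refine ⟨V, inv (f ⁻¹ᵁ V).ι ≫ f ∣_ V, V.ι, inferInstance, inferInstance, ?_⟩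
    rw [Category.assoc, IsIso.inv_comp_eq, morphismRestrict_ι]

end Groth.Agent.S3460
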