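import Groth.Statements.S3474
import Groth.Agent.H11SetBC.Apply
import Groth.Agent.H11SetBC.GeomConnEt
import Groth.Agent.H9Et.GeomConnOfAlgClosed

set_option autoImplicit false
universe u
open CategoryTheory CategoryTheory.Limits AlgebraicGeometry Opposite
open EtAcyc

namespace Groth.Agent.S3474

/-- Let g : X → Y be a flat morphism of schemes whose fibres are separable (every base change of a fibre
to a field is a reduced scheme), and assume either that X and Y are locally Noetherian or that g is
locally of finite presentation. Then g is universally locally 0-acyclic: after any base change,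
every induced morphism of strict localizations Spec R_X → Spec R_Y is 0-acyclic (units F → g'_* g'^*
F bijective for all sheaves of sets F on all etale V over Spec R_Y). -/
theorem result {X Y : Scheme.{u}} (g : X ⟶ Y) [Flat g]
    (hsep : ∀ (K : Type u) [Field K] (k : Spec (CommRingCat.of K) ⟶ Y), IsReduced (pullback g k))
    (h : (IsLocallyNoetherian X ∧ IsLocallyNoetherian Y) ∨ LocallyOfFinitePresentation g) :
    EtAcyc.IsULocZeroAcyclic g := by
  haveI : GeometricallyReduced g := ⟨fun K _ y Z fst snd hP => by
    haveI := hsep K y
    exact isReduced_of_isOpenImmersion hP.isoPullback.hom⟩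
  intro X₁ Y₁ g₁ b' b sq x RY RX _ _ _ _ _ _ _ _ _ _ _ _ hcomm
  have H : H11SetBC.SHConnFibres g₁ := by
    rcases h with ⟨hX, hY⟩ | hlfp
    · exact H11SetBC.shConnFibres_of_noetherian g₁ sq
    · haveI : Flat g₁ := MorphismProperty.of_isPullback (P := @Flat) sq inferInstance
      haveI : LocallyOfFinitePresentation g₁ :=
        MorphismProperty.of_isPullback (P := @LocallyOfFinitePresentation) sq inferInstance
      haveI : GeometricallyReduced g₁ := MorphismProperty.of_isPullback (P := @GeometricallyReduced) sq inferInstance
      exact H11SetBC.shConnFibres_of_lfp g₁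
  obtain ⟨hfl, hc⟩ := H x RY RX (algebraMap RY RX) hcomm
  let ψ := Spec.map (CommRingCat.ofHom (algebraMap RY RX))
  haveI : Flat ψ := Flat.SpecMap_iff.2 hfl
  haveI : QuasiCompact ψ := inferInstance
  haveI : GeometricallyConnected ψ := H9Et.geometricallyConnected_of_algClosed ψ hc
  intro V F
  haveI : Flat (EtAcyc.prj ψ V) := MorphismProperty.pullback_fst _ _ inferInstance
  haveI : QuasiCompact (EtAcyc.prj ψ V) := MorphismProperty.pullback_fst _ _ inferInstance
  haveI : GeometricallyConnected (EtAcyc.prj ψ V) := MorphismProperty.pullback_fst _ _ inferInstance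
  exact H11SetBC.isIso_unit_geomConn _ F (H18PBC.isUnivSubmersive_of_flat _)

end Groth.Agent.S3474
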