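import Groth.Statements.S3483
import Groth.Agent.H05EGA4.EtCl.Lower.RealCd
import Groth.Agent.H05EGA4.EtCl.Lower.Chain
import Groth.Agent.H05EGA4.EtCl.Lower.Descent
import Groth.Agent.H05EGA4.EtCl.Lower.FgFinite
import Groth.Agent.H8Props.FieldDimHeight

set_option autoImplicit false
set_option backward.isDefEq.respectTransparency false
set_option backward.isDefEq.respectTransparency.types false
universe u
open CategoryTheory CategoryTheory.Limits AlgebraicGeometry Opposite
open EtCd

namespace Groth.Agent.S3483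

/-- The descent to the base field, for a model of the local ring of a rational point of affine space. -/
theorem descent (k k' : Type u) [Field k] [Field k'] [Algebra k k']
    (hfg : ∃ s : Finset k', IntermediateField.adjoin k (s : Set k') = ⊤) (ℓ : ℕ) [Fact ℓ.Prime] (hℓk : (ℓ : k) ≠ 0)
    (t : ℕ) {s₀ : Set k'} (hs₀ : IsTranscendenceBasis k ((↑) : s₀ → k')) (e : s₀ ≃ Fin t)
    (B : Type u) [CommRing B] [IsDomain B] [IsNoetherianRing B] [IsLocalRing B] [Algebra k B]
    [Algebra (MvPolynomial (Fin t) k) B] [IsScalarTower k (MvPolynomial (Fin t) k) B]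
    (m : Ideal (MvPolynomial (Fin t) k)) (hmdef : m = RingHom.ker (MvPolynomial.constantCoeff (R := k) (σ := Fin t)))
    [m.IsPrime] [IsLocalization.AtPrime B m]
    (d : ℕ) (hd : Dix.CohDimLEAt (Spec (CommRingCat.of k')) ℓ d) :
    t ≤ d ∧ ((ℓ ≠ 2 ∨ IsSumSq (-1 : k)) → Dix.CohDimLEAt (Spec (CommRingCat.of k)) ℓ (d - t)) := by
  subst hmdef
  let x : Fin t → k' := fun i => (e.symm i : k')
  have hind : AlgebraicIndependent k x := hs₀.1.comp _ e.symm.injective
  let g : MvPolynomial (Fin t) k →ₐ[k] k' := MvPolynomial.aeval x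
  have hg : Function.Injective g := hind
  have hcc : Function.Surjective (MvPolynomial.constantCoeff (R := k) (σ := Fin t)) := fun c =>
    ⟨MvPolynomial.C c, MvPolynomial.constantCoeff_C _ c⟩
  have hdimB : ringKrullDim B = t := by
    rw [IsLocalization.AtPrime.ringKrullDim_eq_height (RingHom.ker (MvPolynomial.constantCoeff (R := k) (σ := Fin t))) B]
    have h1 := Groth.Agent.H8Props.FieldDim.hasHeightFormula_mvPolynomial k t (RingHom.ker (MvPolynomial.constantCoeff (R := k) (σ := Fin t))) inferInstance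
    let ec : (MvPolynomial (Fin t) k ⧸ (RingHom.ker (MvPolynomial.constantCoeff (R := k) (σ := Fin t)))) ≃ₐ[k] k :=
      Ideal.quotientKerAlgEquivOfSurjective (f := (⟨MvPolynomial.constantCoeff, fun c => MvPolynomial.constantCoeff_C _ c⟩ : MvPolynomial (Fin t) k →ₐ[k] k)) hcc
    rw [ec.trdeg_eq, trdeg_eq_zero, add_zero, Cardinal.ofENat_eq_nat] at h1
    rw [h1]
    rfl
  have hu : ∀ y : (RingHom.ker (MvPolynomial.constantCoeff (R := k) (σ := Fin t))).primeCompl, IsUnit (g y) := fun y => (Ne.isUnit fun h0 => y.2 (by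
    rw [show (y : MvPolynomial (Fin t) k) = 0 from hg (h0.trans (map_zero g).symm)]
    exact (RingHom.ker (MvPolynomial.constantCoeff (R := k) (σ := Fin t))).zero_mem))
  let gB : B →+* k' := IsLocalization.lift (M := (RingHom.ker (MvPolynomial.constantCoeff (R := k) (σ := Fin t))).primeCompl) (g := g.toRingHom) hu
  have hgB : Function.Injective gB := by
    refine (IsLocalization.lift_injective_iff (g := g.toRingHom) hu).2 fun a b => ?_
    exact ⟨fun h => congrArg g (IsLocalization.injective B (Ideal.primeCompl_le_nonZeroDivisors (RingHom.ker (MvPolynomial.constantCoeff (R := k) (σ := Fin t)))) h),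
      fun h => congrArg _ (hg h)⟩
  obtain ⟨gF, hgF⟩ : ∃ φ : FractionRing B →+* k',
      ∀ p, φ (algebraMap B (FractionRing B) (algebraMap (MvPolynomial (Fin t) k) B p)) = g p :=
    ⟨IsFractionRing.lift hgB, fun p =>
      (IsFractionRing.lift_algebraMap hgB _).trans (IsLocalization.lift_eq (g := g.toRingHom) hu p)⟩
  letI := gF.toAlgebra
  haveI : FiniteDimensional (FractionRing B) k' :=
    Groth.Agent.H05EGA4.EtCl.Lower.finiteDimensional_of_range hs₀ e hfg (FractionRing B) fun p => ⟨_, hgF p⟩
  have hℓB : IsUnit (ℓ : B) := by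
    rw [← map_natCast (algebraMap k B)]
    exact (Ne.isUnit hℓk).map _
  obtain ⟨htd, L, _, _, _, hL⟩ :=
    Groth.Agent.H05EGA4.EtCl.Lower.exists_cohDimLEAt_residue t B hdimB hℓB k' d hd
  refine ⟨htd, fun hyp => ?_⟩
  let φ : k →+* IsLocalRing.ResidueField B := algebraMap k (IsLocalRing.ResidueField B)
  have hφ : Function.Surjective φ := fun y => by
    obtain ⟨b, rfl⟩ := IsLocalRing.residue_surjective y
    obtain ⟨p, q, rfl⟩ := IsLocalization.exists_mk'_eq (RingHom.ker (MvPolynomial.constantCoeff (R := k) (σ := Fin t))).primeCompl b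
    have hres : ∀ r : MvPolynomial (Fin t) k, IsLocalRing.residue B (algebraMap _ B r) = φ (MvPolynomial.constantCoeff r) := fun r => by
      show _ = IsLocalRing.residue B (algebraMap k B (MvPolynomial.constantCoeff r))
      rw [IsScalarTower.algebraMap_apply k (MvPolynomial (Fin t) k) B, ← sub_eq_zero, ← map_sub,
        IsLocalRing.residue_eq_zero_iff, ← map_sub, IsLocalization.AtPrime.to_map_mem_maximal_iff B (RingHom.ker (MvPolynomial.constantCoeff (R := k) (σ := Fin t)))]
      show MvPolynomial.constantCoeff (r - _) = 0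
      rw [map_sub, MvPolynomial.algebraMap_eq, MvPolynomial.constantCoeff_C, sub_self]
    refine ⟨MvPolynomial.constantCoeff p / MvPolynomial.constantCoeff (q : MvPolynomial (Fin t) k), ?_⟩
    have hq : φ (MvPolynomial.constantCoeff (q : MvPolynomial (Fin t) k)) ≠ 0 :=
      (map_ne_zero φ).2 q.2
    rw [map_div₀, div_eq_iff hq, ← hres, ← hres, ← map_mul, IsLocalization.mk'_spec]
  letI : Algebra k L := ((algebraMap (IsLocalRing.ResidueField B) L).comp φ).toAlgebra
  haveI : FiniteDimensional k L :=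
    (RingHom.finite_algebraMap.2 (inferInstance : Module.Finite (IsLocalRing.ResidueField B) L)).comp
      (RingHom.Finite.of_surjective φ hφ)
  exact Groth.Agent.H05EGA4.EtCl.Lower.cohDimLEAt_of_finite_extension k L hℓk hyp hL

/-- Let k'/k be a finitely generated field extension of transcendence degree t and ℓ a prime different
from the characteristic of k. If cd_ℓ(k') < cd_ℓ(k) + t, that is, if for some d the cohomology of
ℓ-primary torsion sheaves on Spec k' vanishes above degree d while either d < t or cd_ℓ(k) ≤ d - t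
fails, then ℓ = 2, k admits an ordering making it an ordered field, and k' admits none. -/
theorem result (k k' : Type u) [Field k] [Field k'] [Algebra k k']
    (hfg : ∃ s : Finset k', IntermediateField.adjoin k (s : Set k') = ⊤) (ℓ : ℕ) (hℓ : ℓ.Prime) (hℓk : (ℓ : k) ≠ 0)
    (t : ℕ) (ht : Algebra.trdeg k k' = t)
    (hlt : ∃ d : ℕ, Dix.CohDimLEAt (Spec (CommRingCat.of k')) ℓ d ∧
      (d < t ∨ ¬ Dix.CohDimLEAt (Spec (CommRingCat.of k)) ℓ (d - t))) :
    ℓ = 2 ∧ (∃ _ : LinearOrder k, IsStrictOrderedRing k) ∧ ¬ (∃ _ : LinearOrder k', IsStrictOrderedRing k') := by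
  haveI : Fact ℓ.Prime := ⟨hℓ⟩
  classical
  obtain ⟨d, hd, hdt⟩ := hlt
  obtain ⟨s₀, hs₀⟩ := exists_isTranscendenceBasis k k'
  have hcard : Cardinal.mk s₀ = (t : Cardinal.{u}) := by
    have h1 := hs₀.lift_cardinalMk_eq_trdeg
    rw [Cardinal.lift_id, Cardinal.lift_id] at h1
    rw [h1, ht]
  obtain ⟨e⟩ : Nonempty (s₀ ≃ Fin t) := by
    have h1 : Cardinal.lift.{0} (Cardinal.mk s₀) = Cardinal.lift.{u} (Cardinal.mk (Fin t)) := by
      rw [hcard, Cardinal.mk_fin, Cardinal.lift_natCast, Cardinal.lift_natCast]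
    exact Cardinal.lift_mk_eq'.1 h1
  let m : Ideal (MvPolynomial (Fin t) k) := RingHom.ker (MvPolynomial.constantCoeff (R := k) (σ := Fin t))
  haveI hm : m.IsMaximal := RingHom.ker_isMaximal_of_surjective _ fun c =>
    ⟨MvPolynomial.C c, MvPolynomial.constantCoeff_C _ c⟩
  haveI : IsDomain (Localization.AtPrime m) := IsLocalization.isDomain_localization m.primeCompl_le_nonZeroDivisors
  haveI : IsNoetherianRing (Localization.AtPrime m) := IsLocalization.isNoetherianRing m.primeCompl _ inferInstance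
  obtain ⟨htd, hdesc'⟩ := descent k k' hfg ℓ hℓk t hs₀ e (Localization.AtPrime m) m rfl d hd
  have hdesc : (ℓ ≠ 2 ∨ IsSumSq (-1 : k)) → False := fun hyp => hdt.resolve_left (by omega) (hdesc' hyp)
  have h2 : ℓ = 2 := by
    by_contra hne
    exact hdesc (Or.inl hne)
  subst h2
  refine ⟨rfl, ?_, ?_⟩
  · rcases Groth.Agent.H05EGA4.EtCl.Lower.isSumSq_neg_one_or_orderable (F := k) with h | h
    · exact (hdesc (Or.inr h)).elim
    · exact h
  · rintro ⟨lo, ho⟩
    refine Groth.Agent.H05EGA4.EtCl.Lower.not_cohDimLEAt_two_of_orderable k' (fun hs => ?_) d hd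
    letI := lo
    haveI := ho
    exact absurd hs.nonneg (not_le.2 (neg_lt_zero.2 one_pos))


end Groth.Agent.S3483
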