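import Groth.Statements.S3484
import Groth.Agent.H05EGA4.EtCl.Lower.HensUpper
import Groth.Agent.H05EGA4.EtCl.Lower.DvrLower
import Groth.Agent.H05EGA4.EtCl.Mixed.DvrWild
import Groth.Agent.H05EGA4.EtCl.Mixed.Residue

set_option autoImplicit false
universe u
open CategoryTheory CategoryTheory.Limits AlgebraicGeometry Opposite
open EtCd

namespace Groth.Agent.S3484

/-- Let R be a henselian discrete valuation ring with fraction field K and residue field k, and ℓ a
prime. Assume either (i) ℓ is nonzero in k, or (ii) ℓ is nonzero in K, k is perfect and cd_ℓ(k) is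
finite. Then cd_ℓ(K) = cd_ℓ(k) + 1: for every d, cd_ℓ(k) ≤ d if and only if cd_ℓ(K) ≤ d + 1, and
cd_ℓ(K) is not ≤ 0 (cd_ℓ meaning vanishing of etale cohomology of ℓ-primary torsion sheaves above
the given degree). -/
theorem result (R K : Type u) [CommRing R] [IsDomain R] [IsDiscreteValuationRing R]
    [HenselianLocalRing R] [Field K] [Algebra R K] [IsFractionRing R K] (ℓ : ℕ) (hℓ : ℓ.Prime)
    (h : (ℓ : IsLocalRing.ResidueField R) ≠ 0 ∨
      ((ℓ : K) ≠ 0 ∧ PerfectField (IsLocalRing.ResidueField R) ∧
        ∃ d : ℕ, Dix.CohDimLEAt (Spec (CommRingCat.of (IsLocalRing.ResidueField R))) ℓ d)) :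
    (∀ d : ℕ, Dix.CohDimLEAt (Spec (CommRingCat.of (IsLocalRing.ResidueField R))) ℓ d ↔
        Dix.CohDimLEAt (Spec (CommRingCat.of K)) ℓ (d + 1)) ∧
      ¬ Dix.CohDimLEAt (Spec (CommRingCat.of K)) ℓ 0 := by
  haveI : Fact ℓ.Prime := ⟨hℓ⟩
  by_cases hk : (ℓ : IsLocalRing.ResidueField R) = 0
  · obtain ⟨hK, hperf, -⟩ := h.resolve_left (not_not_intro hk)
    haveI := hperf
    have hR : (ℓ : R) ≠ 0 := fun h0 => hK (by rw [← map_natCast (algebraMap R K), h0, map_zero])
    have hm : (ℓ : R) ∈ IsLocalRing.maximalIdeal R :=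
      (IsLocalRing.residue_eq_zero_iff _).1 (by rw [map_natCast]; exact hk)
    refine ⟨fun d => ⟨fun hd => Groth.Agent.H05EGA4.EtCl.Lower.cohDimLEAt_fractionField_of_local R K
      (fun T _ _ _ _ _ _ _ _ => ?_) hd, fun hd => ?_⟩, fun h0 => ?_⟩
    · let A := (Spec (CommRingCat.of R)).presheaf.stalk (IsLocalRing.closedPoint R)
      let γ : R →+* A := ((Spec (CommRingCat.of R)).presheaf.germ ⊤ (IsLocalRing.closedPoint R) trivial).hom.comp
        (Scheme.ΓSpecIso (CommRingCat.of R)).inv.hom
      have hγ : Function.Bijective γ := by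
        letI : Algebra R A := StructureSheaf.stalkAlgebra R (IsLocalRing.closedPoint R)
        haveI : IsLocalization.AtPrime A (IsLocalRing.closedPoint R).asIdeal :=
          StructureSheaf.IsLocalization.to_stalk R (IsLocalRing.closedPoint R)
        exact (IsLocalization.atUnits R (IsLocalRing.closedPoint R).asIdeal.primeCompl (S := A) fun a ha => by
          by_contra hu
          exact ha hu).bijective
      let e : R ≃+* A := RingEquiv.ofBijective γ hγ
      haveI : IsLocalHom e.toRingHom := isLocalHom_toRingHom e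
      haveI : PerfectField (IsLocalRing.ResidueField A) :=
        PerfectField.of_ringEquiv (IsLocalRing.ResidueField.mapEquiv e)
      haveI : Algebra.IsSeparable (IsLocalRing.ResidueField A) (IsLocalRing.ResidueField T) :=
        (inferInstance : Hensel.IsStrictHenselization A T).isSepClosure.2
      haveI : PerfectField (IsLocalRing.ResidueField T) := Algebra.IsAlgebraic.perfectField (IsLocalRing.ResidueField A)
      haveI : IsAlgClosed (IsLocalRing.ResidueField T) := inferInstance
      let φ : R →+* T := (algebraMap A T).comp γ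
      haveI : IsLocalHom φ := ⟨fun a ha => (isUnit_map_iff e a).1 ((isUnit_map_iff (algebraMap A T) _).1 ha)⟩
      have hφ : Function.Injective φ := by
        rw [injective_iff_map_eq_zero]
        intro a ha
        by_contra h0
        obtain ⟨k, _, _, _, _, _, π', hπ'⟩ := Groth.Agent.H9Hens.exists_isPtColim_of_isStrictHenselization (R := A) T
        haveI := hπ'.faithfullyFlat Groth.Agent.H9Hens.ker_algebraMap_of_tower
        exact h0 (hγ.1 ((FaithfulSMul.algebraMap_injective A T) (ha.trans (map_zero (algebraMap A T)).symm) |>.trans (map_zero γ).symm))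
      refine Groth.Agent.H05EGA4.EtCl.Mixed.cohDimLEAt_one T (FractionRing T) ℓ ?_ fun h1 => hR (hφ ?_)
      · intro hu
        exact hm ((isUnit_map_iff φ _).1 (by rwa [map_natCast]))
      · rw [map_natCast, map_zero]
        exact IsFractionRing.injective T (FractionRing T) (by rw [map_natCast, h1, map_zero])
    · rcases Nat.eq_zero_or_pos d with rfl | hd0
      · refine Groth.Agent.H05EGA4.EtCl.Mixed.cohDimLEAt_residue_zero R ℓ hk hR ?_
        exact Groth.Agent.H05EGA4.EtCl.cohDimLEAt_of_iso (Spec.map (IsLocalization.algEquiv (nonZeroDivisors R) K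
          (FractionRing R)).toRingEquiv.toCommRingCatIso.hom) hd
      · intro F hF q hq
        exact Groth.Agent.H05EGA4.EtCl.cohDimLEAt_field_charP ℓ (CommRingCat.of (IsLocalRing.ResidueField R))
          (Field.toIsField _) hk F hF q (by omega)
    · exact absurd (Groth.Agent.H05EGA4.EtCl.Lower.one_le_of_cohDimLEAt_of_unit_K R
        (by rw [← map_natCast (Scheme.ΓSpecIso (CommRingCat.of K)).inv.hom]; exact (Ne.isUnit hK).map _) h0) (by norm_num)
  · have hu : IsUnit (ℓ : R) := by
      rw [← IsLocalRing.residue_ne_zero_iff_isUnit, map_natCast]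
      exact hk
    exact ⟨fun d => ⟨fun hd => Groth.Agent.H05EGA4.EtCl.Lower.cohDimLEAt_fractionField_henselian R K hu hd,
      fun hd => by simpa using (Groth.Agent.H05EGA4.EtCl.Lower.cohDimLEAt_residue R K hu hd).2⟩,
      fun h0 => absurd (Groth.Agent.H05EGA4.EtCl.Lower.one_le_of_cohDimLEAt hu h0) (by norm_num)⟩


end Groth.Agent.S3484
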