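import Groth.Statements.S7138
import Groth.Agent.S0549
import Groth.Agent.S1965
import Groth.Agent.S11283
import Groth.Agent.H05EGA4.CompleteNormalization
import Groth.Agent.H29Curve.Trdeg
-- import your own Groth.Agent.* helpers here

set_option autoImplicit false
universe u
open EtAlg

namespace Groth.Agent.S7138


open IsLocalRing Polynomial

/-- Krasner: a primitive element can be chosen to be a root of a monic polynomial over `A`. -/
theorem exists_descended_generator (A : Type u) [CommRing A] [IsDomain A] [IsDiscreteValuationRing A]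
    (Kh : Type u) [Field Kh] [Algebra (AdicCompletion (maximalIdeal A) A) Kh]
    [IsFractionRing (AdicCompletion (maximalIdeal A) A) Kh]
    [Algebra A Kh] [IsScalarTower A (AdicCompletion (maximalIdeal A) A) Kh]
    (M : Type u) [Field M] [Algebra Kh M] [FiniteDimensional Kh M] [Algebra.IsSeparable Kh M] :
    ∃ (P₀ : A[X]) (b : M), P₀.Monic ∧ minpoly Kh b = P₀.map (algebraMap A Kh) ∧
      P₀.natDegree = Module.finrank Kh M := by
  classical
  obtain ⟨hd, hdvr⟩ := (Groth.Agent.S0549.result A).mp ⟨inferInstance, inferInstance⟩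
  haveI := hdvr
  haveI hcA : IsAdicComplete (maximalIdeal (AdicCompletion (maximalIdeal A) A)) (AdicCompletion (maximalIdeal A) A) := by
    rw [AdicCompletion.maximalIdeal_eq_map]
    exact AdicCompletion.isAdicComplete_self _ (IsNoetherian.noetherian _)
  let Ah := AdicCompletion (maximalIdeal A) A
  letI : Algebra Ah M := ((algebraMap Kh M).comp (algebraMap Ah Kh)).toAlgebra
  haveI : IsScalarTower Ah Kh M := IsScalarTower.of_algebraMap_eq fun _ => rfl
  haveI : FaithfulSMul Ah M := (faithfulSMul_iff_algebraMap_injective _ _).mpr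
    ((algebraMap Kh M).injective.comp (IsFractionRing.injective Ah Kh))
  obtain ⟨α₀, hα₀⟩ := Field.exists_primitive_element Kh M
  obtain ⟨m, hint⟩ := IsIntegral.exists_multiple_integral_of_isLocalization (R := Ah) (nonZeroDivisors Ah)
    (Rₘ := Kh) α₀ (Algebra.IsIntegral.isIntegral α₀)
  have hm : algebraMap Ah Kh m.1 ≠ 0 := IsFractionRing.to_map_ne_zero_of_mem_nonZeroDivisors m.2
  let α : M := m.1 • α₀
  have hintα : IsIntegral Ah α := hint
  have hαdeg : (minpoly Kh α).natDegree = Module.finrank Kh M := by
    rw [← Field.primitive_element_iff_minpoly_natDegree_eq, eq_top_iff, ← hα₀, IntermediateField.adjoin_simple_le_iff]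
    have : α₀ = (algebraMap Ah Kh m.1)⁻¹ • α := by
      rw [show α = algebraMap Ah Kh m.1 • α₀ from (algebraMap_smul Kh m.1 α₀).symm, inv_smul_smul₀ hm]
    rw [this, Algebra.smul_def]
    exact mul_mem (IntermediateField.algebraMap_mem _ _) (IntermediateField.mem_adjoin_simple_self _ _)
  have hP : minpoly Kh α = (minpoly Ah α).map (algebraMap Ah Kh) :=
    minpoly.isIntegrallyClosed_eq_field_fractions' Kh hintα
  let C := Algebra.adjoin Ah ({α} : Set M)
  haveI : Module.Finite Ah C := Module.Finite.iff_fg.mpr hintα.fg_adjoin_singleton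
  obtain ⟨hCl, hCc⟩ := Groth.Agent.H05EGA4.isAdicComplete_of_finite_domain (A := Ah) (A' := C)
  haveI : IsNoetherianRing C := IsNoetherianRing.of_finite Ah C
  haveI : Algebra.IsIntegral Ah C := Algebra.IsIntegral.of_finite Ah C
  have hCinj : Function.Injective (algebraMap Ah C) := fun x y h =>
    (faithfulSMul_iff_algebraMap_injective Ah M).mp inferInstance (congrArg Subtype.val h)
  haveI : FaithfulSMul Ah C := (faithfulSMul_iff_algebraMap_injective _ _).mpr hCinj
  have hmax : ∀ q : Ideal C, q ≠ ⊥ → q.IsPrime → q.IsMaximal := by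
    intro q hq hqp
    have h1 : q.comap (algebraMap Ah C) ≠ ⊥ := fun h => hq (Ideal.eq_bot_of_comap_eq_bot h)
    exact Ideal.isMaximal_of_isIntegral_of_isMaximal_comap q (Ideal.IsPrime.isMaximal inferInstance h1)
  have hdimC : ringKrullDim C = 1 := by
    refine le_antisymm (Ring.krullDimLE_iff.mp (Ring.krullDimLE_one_iff_of_isPrime_bot.mpr hmax)) ?_
    refine le_trans ?_ (Groth.Agent.H29Curve.ringKrullDim_le_of_isIntegral (algebraMap Ah C)
      (fun x => Algebra.IsIntegral.isIntegral x) hCinj)
    exact ((Groth.Agent.S0549.dvr_iff Ah).mp ⟨inferInstance, inferInstance⟩).2.ge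
  let I : Ideal C := (maximalIdeal Ah).map (algebraMap Ah C)
  obtain ⟨c, hc⟩ : ∃ c : ℕ, maximalIdeal C ^ c ≤ I := by
    refine Ideal.exists_pow_le_of_le_radical_of_fg ?_ (IsNoetherian.noetherian _)
    rw [Ideal.radical_eq_sInf]
    refine le_sInf fun q ⟨hq, hqp⟩ => ?_
    have hq0 : q ≠ ⊥ := by
      intro h
      rw [h, le_bot_iff, Ideal.map_eq_bot_iff_of_injective hCinj] at hq
      exact IsDiscreteValuationRing.not_a_field Ah hq
    exact (IsLocalRing.eq_maximalIdeal (hmax q hq0 hqp)).ge
  let αC : C := ⟨α, Algebra.self_mem_adjoin_singleton Ah α⟩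
  have haev : ∀ (p : Ah[X]) (x : C), (((p.map (algebraMap Ah C)).eval x : C) : M) = Polynomial.aeval (x : M) p := by
    intro p x
    rw [Polynomial.eval_map, ← Polynomial.aeval_def]
    exact Polynomial.aeval_subalgebra_coe p C x
  have hev : ((minpoly Ah α).map (algebraMap Ah C)).eval αC = 0 := Subtype.ext (by
    rw [haev]; simp [αC])
  have hev' : (derivative ((minpoly Ah α).map (algebraMap Ah C))).eval αC ≠ 0 := by
    intro h
    have hsep : ((minpoly Ah α).map (algebraMap Ah Kh)).Separable := hP ▸ Algebra.IsSeparable.isSeparable Kh α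
    refine hsep.aeval_derivative_ne_zero (x := α) (by rw [← hP]; exact minpoly.aeval _ _) ?_
    rw [Polynomial.derivative_map, Polynomial.aeval_map_algebraMap]
    have := congrArg Subtype.val h
    rw [Polynomial.derivative_map, haev] at this
    exact this
  obtain ⟨n, hn⟩ := Groth.Agent.S1965.result C hdimC _ αC hev hev' c
  choose a ha using fun i : ℕ => Groth.Agent.S11283Aux.exists_approx (R := A) n ((minpoly Ah α).coeff i)
  set d := (minpoly Ah α).natDegree with hddef
  let p : A[X] := ∑ i ∈ Finset.range d, monomial i (a i)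
  have hpdeg : p.degree < d := by
    refine (Polynomial.degree_sum_le _ _).trans_lt ((Finset.sup_lt_iff (WithBot.bot_lt_coe d)).mpr ?_)
    intro i hi
    exact (Polynomial.degree_monomial_le _ _).trans_lt (WithBot.coe_lt_coe.mpr (Finset.mem_range.mp hi))
  let P₀ : A[X] := X ^ d + p
  have hmonic : P₀.Monic := Polynomial.monic_X_pow_add hpdeg
  have hdeg : P₀.natDegree = d := by
    refine Polynomial.natDegree_eq_of_degree_eq_some ?_
    rw [show P₀ = X ^ d + p from rfl, Polynomial.degree_add_eq_left_of_degree_lt (by rwa [degree_X_pow]), degree_X_pow]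
  have hcoef : ∀ i, (minpoly Ah α).coeff i - algebraMap A Ah (P₀.coeff i) ∈ maximalIdeal Ah ^ n := by
    intro i
    simp only [P₀, p, coeff_add, coeff_X_pow, finsetSum_coeff, coeff_monomial, Finset.sum_ite_eq', Finset.mem_range]
    rcases lt_trichotomy i d with h | h | h
    · rw [if_neg h.ne, if_pos h, zero_add]; exact ha i
    · subst h
      rw [if_pos rfl, if_neg (lt_irrefl _), add_zero, map_one, show (minpoly Ah α).coeff d = 1 from
        (minpoly.monic hintα).coeff_natDegree, sub_self]
      exact zero_mem _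
    · rw [if_neg h.ne', if_neg h.not_gt, Polynomial.coeff_eq_zero_of_natDegree_lt h, add_zero, map_zero, sub_zero]
      exact zero_mem _
  let P₀h : Ah[X] := P₀.map (algebraMap A Ah)
  obtain ⟨β, hβ, hβα⟩ := hn ((P₀h - minpoly Ah α).map (algebraMap Ah C)) (fun i => by
    have h1 : (algebraMap Ah C) ((P₀h - minpoly Ah α).coeff i) ∈ (maximalIdeal Ah ^ n).map (algebraMap Ah C) := by
      refine Ideal.mem_map_of_mem _ ?_
      rw [coeff_sub, coeff_map, ← neg_sub]
      exact neg_mem (hcoef i)
    rw [Ideal.map_pow] at h1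
    rw [coeff_map]
    exact Ideal.pow_right_mono Groth.Agent.H05EGA4.map_le_maximalIdeal_of_finite n h1)
  rw [← Polynomial.map_add, add_sub_cancel] at hβ
  have hgen : (⊤ : Submodule Ah C) ≤ Subalgebra.toSubmodule (Algebra.adjoin Ah ({β} : Set C)) := by
    refine Submodule.le_of_le_smul_of_le_jacobson_bot Module.Finite.fg_top
      (IsLocalRing.maximalIdeal_le_jacobson ⊥) fun x _ => ?_
    have hx : (x : M) ∈ (Polynomial.aeval (R := Ah) α).range := by
      rw [← Algebra.adjoin_singleton_eq_range_aeval]; exact x.2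
    obtain ⟨q, hq⟩ := hx
    have hxq : Polynomial.aeval αC q = x := Subtype.ext (by
      rw [Polynomial.aeval_subalgebra_coe]; exact hq)
    refine Submodule.mem_sup.mpr ⟨Polynomial.aeval β q, ?_, Polynomial.aeval αC q - Polynomial.aeval β q, ?_, ?_⟩
    · rw [Subalgebra.mem_toSubmodule, Algebra.adjoin_singleton_eq_range_aeval]
      exact ⟨q, rfl⟩
    · rw [Ideal.smul_top_eq_map, Submodule.restrictScalars_mem]
      have hdvd := Polynomial.sub_dvd_eval_sub αC β (q.map (algebraMap Ah C))
      simp only [Polynomial.eval_map, ← Polynomial.aeval_def] at hdvd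
      obtain ⟨z, hz⟩ := hdvd
      rw [hz]
      refine Ideal.mul_mem_right _ _ ?_
      rw [← neg_sub]
      exact neg_mem (hc hβα)
    · rw [add_sub_cancel, hxq]
  have hα' : αC ∈ (Polynomial.aeval (R := Ah) β).range := by
    rw [← Algebra.adjoin_singleton_eq_range_aeval]
    exact hgen Submodule.mem_top
  obtain ⟨q, hq⟩ := hα'
  have hq' : Polynomial.aeval (β : M) q = α := by
    rw [← Polynomial.aeval_subalgebra_coe]; exact congrArg Subtype.val hq
  have hFb : Polynomial.aeval (β : M) (P₀.map (algebraMap A Kh)) = 0 := by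
    rw [IsScalarTower.algebraMap_eq A Ah Kh, ← Polynomial.map_map, Polynomial.aeval_map_algebraMap, ← haev, hβ]
    rfl
  have hrank : d = Module.finrank Kh M := by
    rw [← hαdeg, hP, (minpoly.monic hintα).natDegree_map]
  have hbdeg : (minpoly Kh (β : M)).natDegree = Module.finrank Kh M := by
    rw [← Field.primitive_element_iff_minpoly_natDegree_eq, eq_top_iff,
      ← (Field.primitive_element_iff_minpoly_natDegree_eq Kh α).mpr hαdeg, IntermediateField.adjoin_simple_le_iff, ← hq',
      ← Polynomial.aeval_map_algebraMap Kh]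
    exact IntermediateField.algebra_adjoin_le_adjoin _ _ (Polynomial.aeval_mem_adjoin_singleton _ _)
  refine ⟨P₀, β, hmonic, ?_, hdeg.trans hrank⟩
  refine (Polynomial.eq_of_monic_of_dvd_of_natDegree_le (minpoly.monic (Algebra.IsIntegral.isIntegral _))
    (hmonic.map _) (minpoly.dvd Kh _ hFb) ?_).symm
  rw [hbdeg, hmonic.natDegree_map, hdeg, hrank]

open TensorProduct in
/-- Let A be a discrete valuation ring, K its field of fractions, A^ its completion and K^ the fraction
field of A^. Every finite separable extension M of K^ arises by base change: M ≅ K^ ⊗_K L as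
K^-algebras for some finite separable extension L/K. -/
theorem result (A K : Type u) [CommRing A] [IsDomain A]
    [IsDiscreteValuationRing A] [Field K] [Algebra A K] [IsFractionRing A K]
    (Kh : Type u) [Field Kh] [Algebra (AdicCompletion (IsLocalRing.maximalIdeal A) A) Kh]
    [IsFractionRing (AdicCompletion (IsLocalRing.maximalIdeal A) A) Kh] [Algebra A Kh] [Algebra K Kh]
    [IsScalarTower A (AdicCompletion (IsLocalRing.maximalIdeal A) A) Kh] [IsScalarTower A K Kh]
    (M : Type u) [Field M] [Algebra Kh M] [FiniteDimensional Kh M] [Algebra.IsSeparable Kh M] :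
    ∃ (L : Type u) (_ : Field L) (_ : Algebra K L), FiniteDimensional K L ∧ Algebra.IsSeparable K L ∧
      Nonempty ((Kh ⊗[K] L) ≃ₐ[Kh] M) := by
  classical
  obtain ⟨P₀, b, hmonic, hmin, hdeg⟩ := exists_descended_generator A Kh M
  rw [IsScalarTower.algebraMap_eq A K Kh, ← Polynomial.map_map] at hmin
  set F := P₀.map (algebraMap A K) with hF
  letI : Algebra K M := ((algebraMap Kh M).comp (algebraMap K Kh)).toAlgebra
  haveI : IsScalarTower K Kh M := IsScalarTower.of_algebraMap_eq fun _ => rfl
  have hFm : F.Monic := hmonic.map _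
  have hirr : Irreducible F := hFm.irreducible_of_irreducible_map (algebraMap K Kh) F
    (hmin ▸ minpoly.irreducible (Algebra.IsIntegral.isIntegral b))
  have hb0 : Polynomial.aeval b F = 0 := by
    rw [← Polynomial.aeval_map_algebraMap Kh, ← hmin, minpoly.aeval]
  have hminK : F = minpoly K b := minpoly.eq_of_irreducible_of_monic hirr hb0 hFm
  have hintb : IsIntegral K b := ⟨F, hFm, by rwa [← Polynomial.aeval_def]⟩
  haveI : FiniteDimensional K (IntermediateField.adjoin K ({b} : Set M)) :=
    IntermediateField.adjoin.finiteDimensional hintb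
  refine ⟨IntermediateField.adjoin K ({b} : Set M), inferInstance, inferInstance, inferInstance, ?_, ?_⟩
  · rw [IntermediateField.isSeparable_adjoin_simple_iff_isSeparable, IsSeparable, ← hminK,
      ← Polynomial.separable_map (algebraMap K Kh), ← hmin]
    exact Algebra.IsSeparable.isSeparable Kh b
  · let Φ : (Kh ⊗[K] IntermediateField.adjoin K ({b} : Set M)) →ₐ[Kh] M :=
      Algebra.TensorProduct.lift (Algebra.ofId Kh M) (IntermediateField.adjoin K ({b} : Set M)).val
        (fun _ _ => Commute.all _ _)
    have hsurj : Function.Surjective Φ := by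
      have hbdeg : (minpoly Kh b).natDegree = Module.finrank Kh M := by
        rw [hmin, hFm.natDegree_map, hF, hmonic.natDegree_map, hdeg]
      have htop : Algebra.adjoin Kh ({b} : Set M) = ⊤ := by
        rw [← IntermediateField.adjoin_simple_toSubalgebra_of_isAlgebraic (Algebra.IsAlgebraic.isAlgebraic b),
          (Field.primitive_element_iff_minpoly_natDegree_eq Kh b).mpr hbdeg, IntermediateField.top_toSubalgebra]
      have hb : b ∈ Φ.range := ⟨1 ⊗ₜ ⟨b, IntermediateField.mem_adjoin_simple_self K b⟩, by simp [Φ]⟩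
      intro x
      have hx : x ∈ Φ.range :=
        (Algebra.adjoin_le (Set.singleton_subset_iff.mpr hb)) (htop ▸ Algebra.mem_top)
      exact hx
    have hrk : Module.finrank Kh (Kh ⊗[K] IntermediateField.adjoin K ({b} : Set M)) = Module.finrank Kh M := by
      rw [Module.finrank_baseChange, IntermediateField.adjoin.finrank hintb, ← hminK, hF, hmonic.natDegree_map, hdeg]
    have hinj : Function.Injective Φ :=
      (LinearMap.injective_iff_surjective_of_finrank_eq_finrank hrk (f := Φ.toLinearMap)).mpr hsurj
    exact ⟨AlgEquiv.ofBijective Φ ⟨hinj, hsurj⟩⟩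

end Groth.Agent.S7138
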