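import Groth.Statements.S3485
import Groth.Agent.H06Geom.SepClosedIn
import Groth.Agent.H18Et.FEtRestrictApps
import Groth.Agent.H9Ram.InertiaEtale
import Groth.Agent.S7138
import Groth.Agent.S0549
import Groth.Agent.S11283

set_option linter.style.haveILetI false
set_option backward.isDefEq.respectTransparency false

set_option autoImplicit false
universe u
open CategoryTheory CategoryTheory.Limits AlgebraicGeometry Opposite
open EtCd

namespace Groth.Agent.S3485

open TensorProduct IsLocalRing Polynomial

/-- A henselian discrete valuation ring is separably closed in its completion. -/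
theorem separableClosure_eq_bot (R K Khat : Type u) [CommRing R] [IsDomain R]
    [IsDiscreteValuationRing R] [HenselianLocalRing R] [Field K] [Algebra R K] [IsFractionRing R K]
    [Field Khat] [Algebra (AdicCompletion (maximalIdeal R) R) Khat]
    [IsFractionRing (AdicCompletion (maximalIdeal R) R) Khat]
    [Algebra R Khat] [IsScalarTower R (AdicCompletion (maximalIdeal R) R) Khat]
    [Algebra K Khat] [IsScalarTower R K Khat] : separableClosure K Khat = ⊥ := by
  classical
  set Rh := AdicCompletion (maximalIdeal R) R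
  haveI hdvr : IsDomain Rh := ((Groth.Agent.S0549.result R).mp ⟨inferInstance, inferInstance⟩).1
  haveI : IsDiscreteValuationRing Rh := ((Groth.Agent.S0549.result R).mp ⟨inferInstance, inferInstance⟩).2
  rw [eq_bot_iff]
  intro y hy
  let L := IntermediateField.adjoin K ({y} : Set Khat)
  have hsep : IsSeparable K y := mem_separableClosure_iff.1 hy
  haveI : Algebra.IsSeparable K L := (IntermediateField.isSeparable_adjoin_simple_iff_isSeparable K Khat).2 hsep
  haveI : FiniteDimensional K L := IntermediateField.adjoin.finiteDimensional hsep.isIntegral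
  set B := integralClosure R L
  haveI : Module.Finite R B := IsIntegralClosure.finite R K L B
  haveI : IsLocalRing B := Groth.Agent.H9Ram.isLocalRing_of_finite_of_henselian (R := R)
  haveI : IsDedekindDomain B := IsIntegralClosure.isDedekindDomain R K L B
  haveI : Algebra.IsIntegral R B := Algebra.IsIntegral.of_finite R B
  have hinjB : Function.Injective (algebraMap R B) := fun a b h => by
    have h' := congrArg (fun z : B => ((z : L) : Khat)) h
    change ((algebraMap R L a : L) : Khat) = ((algebraMap R L b : L) : Khat) at h'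
    rw [IsScalarTower.algebraMap_apply R K L, IsScalarTower.algebraMap_apply R K L] at h'
    exact IsFractionRing.injective R K ((algebraMap K Khat).injective h')
  have hBfield : ¬ IsField B := fun h =>
    IsDiscreteValuationRing.not_isField R ((Algebra.IsIntegral.isField_iff_isField hinjB).2 h)
  haveI : IsDiscreteValuationRing B := ((IsDiscreteValuationRing.TFAE B hBfield).out 0 2 :
    IsDiscreteValuationRing B ↔ IsDedekindDomain B).2 inferInstance
  -- the embedding into the completion
  have hmem : ∀ b : B, ∃ r : Rh, algebraMap Rh Khat r = ((b : L) : Khat) := fun b =>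
    IsIntegrallyClosed.isIntegral_iff.1 ((b.2.map (L.val.restrictScalars R)).tower_top (A := Rh))
  choose ψ₀ hψ₀ using hmem
  have hinj := IsFractionRing.injective Rh Khat
  let ψ : B →+* Rh :=
    { toFun := ψ₀
      map_one' := hinj (by rw [hψ₀, map_one]; rfl)
      map_mul' := fun a b => hinj (by rw [map_mul, hψ₀, hψ₀, hψ₀]; rfl)
      map_zero' := hinj (by rw [hψ₀, map_zero]; rfl)
      map_add' := fun a b => hinj (by rw [map_add, hψ₀, hψ₀, hψ₀]; rfl) }
  have hψR : ∀ r : R, ψ (algebraMap R B r) = algebraMap R Rh r := fun r => hinj (by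
    show algebraMap Rh Khat (ψ₀ _) = _
    rw [hψ₀, ← IsScalarTower.algebraMap_apply R Rh Khat]
    rfl)
  have hψinj : Function.Injective ψ := fun a b h => Subtype.ext (Subtype.ext (by
    rw [← hψ₀ a, ← hψ₀ b]; exact congrArg _ h))
  obtain ⟨p, hp⟩ := IsDiscreteValuationRing.exists_irreducible R
  obtain ⟨q, hq⟩ := IsDiscreteValuationRing.exists_irreducible B
  have hpmax : maximalIdeal Rh = Ideal.span {algebraMap R Rh p} := by
    rw [AdicCompletion.maximalIdeal_eq_map]
    have h := congrArg (Ideal.map (algebraMap R Rh)) hp.maximalIdeal_eq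
    rw [Ideal.map_span, Set.image_singleton] at h
    exact h
  have hpirr : Irreducible (algebraMap R Rh p) := by
    rw [IsDiscreteValuationRing.irreducible_iff_uniformizer]
    exact hpmax
  obtain ⟨e, w, he⟩ := IsDiscreteValuationRing.eq_unit_mul_pow_irreducible
    (fun h => hp.ne_zero (hinjB (h.trans (map_zero _).symm)) : algebraMap R B p ≠ 0) hq
  have hpu : ¬ IsUnit (algebraMap R B p) := fun h => hpirr.not_isUnit (hψR p ▸ h.map ψ)
  have he1 : e = 1 := by
    have hψp : algebraMap R Rh p = ψ w * ψ q ^ e := by rw [← hψR, he, map_mul, map_pow]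
    have hqu : ¬ IsUnit (ψ q) := fun h => hpirr.not_isUnit (hψp ▸ (w.isUnit.map ψ).mul (h.pow e))
    obtain ⟨n, v, hv⟩ := IsDiscreteValuationRing.eq_unit_mul_pow_irreducible
      (fun h => hq.ne_zero (hψinj (h.trans (map_zero ψ).symm)) : ψ q ≠ 0) hpirr
    have hn : n ≠ 0 := fun h => hqu (by rw [hv, h, pow_zero, mul_one]; exact v.isUnit)
    let U : Rhˣ := Units.map ψ.toMonoidHom w * v ^ e
    have h1 : ((1 : Rhˣ) : Rh) * algebraMap R Rh p ^ 1 = (U : Rh) * algebraMap R Rh p ^ (n * e) := by
      rw [Units.val_one, one_mul, pow_one, Units.val_mul, Units.val_pow_eq_pow_val, pow_mul, mul_assoc,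
        ← mul_pow, ← hv]
      exact hψp
    exact Nat.eq_one_of_mul_eq_one_left (IsDiscreteValuationRing.unit_mul_pow_congr_pow hpirr hpirr _ _ _ _ h1).symm
  have hmB : maximalIdeal B = (maximalIdeal R).map (algebraMap R B) := by
    rw [hp.maximalIdeal_eq, Ideal.map_span, Set.image_singleton, he, he1, pow_one,
      Ideal.span_singleton_mul_left_unit w.isUnit, hq.maximalIdeal_eq]
  -- the residue fields agree
  have hdense : ∀ b : B, ∃ r : R, b - algebraMap R B r ∈ maximalIdeal B := fun b => by
    obtain ⟨a, ha⟩ := Groth.Agent.S11283Aux.exists_approx (R := R) 1 (ψ b)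
    refine ⟨a, (IsLocalRing.mem_maximalIdeal _).2 fun hu => ?_⟩
    rw [pow_one] at ha
    refine (IsLocalRing.mem_maximalIdeal _).1 ha ?_
    have := hu.map ψ
    rwa [map_sub, hψR] at this
  have htop : (⊤ : Submodule R B) ≤ LinearMap.range (Algebra.linearMap R B) := by
    refine Submodule.le_of_le_smul_of_le_jacobson_bot Module.Finite.fg_top
      (IsLocalRing.maximalIdeal_le_jacobson ⊥) fun b _ => ?_
    obtain ⟨r, hr⟩ := hdense b
    refine Submodule.mem_sup.2 ⟨algebraMap R B r, ⟨r, rfl⟩, b - algebraMap R B r, ?_, add_sub_cancel _ _⟩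
    rw [Ideal.smul_top_eq_map, Submodule.restrictScalars_mem, ← hmB]
    exact hr
  -- conclusion
  haveI : IsFractionRing B L := IsIntegralClosure.isFractionRing_of_finite_extension R K L B
  obtain ⟨a, b, -, hab⟩ := IsFractionRing.div_surjective B (⟨y, IntermediateField.mem_adjoin_simple_self K y⟩ : L)
  obtain ⟨a', ha'⟩ := htop (Submodule.mem_top (x := a))
  obtain ⟨b', hb'⟩ := htop (Submodule.mem_top (x := b))
  refine IntermediateField.mem_bot.2 ⟨algebraMap R K a' / algebraMap R K b', ?_⟩
  have := congrArg (fun z : L => (z : Khat)) hab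
  simp only [← ha', ← hb', Algebra.linearMap_apply] at this
  rw [map_div₀, ← IsScalarTower.algebraMap_apply, ← IsScalarTower.algebraMap_apply]
  exact this

/-- Let R be a henselian discrete valuation ring with fraction field K, let R^ be its completion (adic
completion at the maximal ideal) and K^ the fraction field of R^. Then base change along Spec K^ →
Spec K is an equivalence from the category of finite etale schemes over Spec K to that over Spec K^
(equivalently the absolute Galois groups agree). -/
theorem result (R K Khat : Type u) [CommRing R] [IsDomain R]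
    [IsDiscreteValuationRing R] [HenselianLocalRing R] [Field K] [Algebra R K] [IsFractionRing R K]
    [Field Khat] [Algebra (AdicCompletion (IsLocalRing.maximalIdeal R) R) Khat]
    [IsFractionRing (AdicCompletion (IsLocalRing.maximalIdeal R) R) Khat]
    [Algebra R Khat] [IsScalarTower R (AdicCompletion (IsLocalRing.maximalIdeal R) R) Khat]
    [Algebra K Khat] [IsScalarTower R K Khat] :
    (FEt.restrict (Spec.map (CommRingCat.ofHom (algebraMap K Khat)))).IsEquivalence := by
  classical
  haveI := Groth.Agent.H06Geom.geometricallyConnected_Spec (separableClosure_eq_bot R K Khat)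
  haveI : ConnectedSpace ↥(pullback (Spec.map (CommRingCat.ofHom (algebraMap K Khat)))
      (Spec.map (CommRingCat.ofHom (algebraMap K (AlgebraicClosure K))))) :=
    GeometricallyConnected.geometrically_connectedSpace _ _ _ (IsPullback.of_hasPullback _ _)
  have h1 := Groth.Agent.H18Et.FEtRestrictApps.meetsClopens_over_field
    (Spec.map (CommRingCat.ofHom (algebraMap K Khat)))
  have hfaith := Groth.Agent.H18Et.FEtRestrict.faithful _ h1
  have hfull := Groth.Agent.H18Et.FEtRestrict.full _ h1
    (Groth.Agent.H18Et.FEtRestrictApps.clopensDescend_over_field _)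
  refine { full := hfull, faithful := hfaith, essSurj := ⟨fun V => ?_⟩ }
  haveI : IsFinite V.hom := V.prop.1
  haveI : Etale V.hom := V.prop.2
  haveI : IsAffine V.left := isAffine_of_isAffineHom (Y := Spec (CommRingCat.of Khat)) V.hom
  obtain ⟨φ, hφ⟩ := Spec.map_surjective (V.left.isoSpec.inv ≫ V.hom)
  letI : Algebra Khat Γ(V.left, ⊤) := φ.hom.toAlgebra
  haveI : Algebra.Etale Khat Γ(V.left, ⊤) := by
    have h : Etale (Spec.map φ) := by rw [hφ]; infer_instance
    exact RingHom.etale_algebraMap.1 ((HasRingHomProperty.Spec_iff (P := @Etale)).1 h)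
  obtain ⟨I, hI, M, _, _, eM, hM⟩ := (Algebra.Etale.iff_exists_algEquiv_prod Khat _).1
    (inferInstance : Algebra.Etale Khat Γ(V.left, ⊤))
  have hL : ∀ i, ∃ (L : Type u) (_ : Field L) (_ : Algebra K L), FiniteDimensional K L ∧
      Algebra.IsSeparable K L ∧ Nonempty ((Khat ⊗[K] L) ≃ₐ[Khat] M i) := fun i => by
    haveI := (hM i).1
    haveI := (hM i).2
    exact Groth.Agent.S7138.result R K Khat (M i)
  choose L hLf hLa hLfd hLs eL using hL
  haveI : Fintype I := Fintype.ofFinite I
  let A : Type u := ∀ i, L i
  haveI : Algebra.Etale K A := (Algebra.Etale.iff_exists_algEquiv_prod K A).2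
    ⟨I, hI, L, hLf, hLa, AlgEquiv.refl, fun i => ⟨hLfd i, hLs i⟩⟩
  let W : FEt.Cat (Spec (CommRingCat.of K)) := MorphismProperty.Over.mk ⊤
    (Spec.map (CommRingCat.ofHom (algebraMap K A)))
    ⟨(IsFinite.SpecMap_iff _).2 (RingHom.finite_algebraMap.2 (Module.Finite.pi : Module.Finite K A)),
      (HasRingHomProperty.Spec_iff (P := @Etale)).2 (RingHom.etale_algebraMap.2 inferInstance)⟩
  let ε : (Khat ⊗[K] A) ≃ₐ[Khat] Γ(V.left, ⊤) :=
    (Algebra.TensorProduct.piRight K Khat Khat L).trans
      ((AlgEquiv.piCongrRight fun i => (eL i).some).trans eM.symm)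
  let iso : ((FEt.restrict (Spec.map (CommRingCat.ofHom (algebraMap K Khat)))).obj W).left ≅ V.left :=
    pullbackSymmetry _ _ ≪≫ pullbackSpecIso K Khat A ≪≫
      (Scheme.Spec.mapIso (RingEquiv.toCommRingCatIso ε.toRingEquiv).op).symm ≪≫ V.left.isoSpec.symm
  refine ⟨W, ⟨MorphismProperty.Over.isoMk iso ?_⟩⟩
  show iso.hom ≫ V.hom = pullback.snd _ _
  have h2 : V.left.isoSpec.inv ≫ V.hom = Spec.map (CommRingCat.ofHom (algebraMap Khat Γ(V.left, ⊤))) := hφ.symm
  simp only [iso, Iso.trans_hom, Iso.symm_hom, Category.assoc]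
  rw [h2]
  show _ ≫ _ ≫ Spec.map _ ≫ Spec.map _ = _
  rw [← Spec.map_comp]
  have h3 : CommRingCat.ofHom (algebraMap Khat Γ(V.left, ⊤)) ≫ (RingEquiv.toCommRingCatIso ε.toRingEquiv).inv =
      CommRingCat.ofHom (algebraMap Khat (Khat ⊗[K] A)) := by
    ext a
    exact (ε.symm.commutes a)
  show _ ≫ _ ≫ Spec.map (CommRingCat.ofHom (algebraMap Khat Γ(V.left, ⊤)) ≫
    (RingEquiv.toCommRingCatIso ε.toRingEquiv).inv) = _
  rw [h3, show algebraMap Khat (Khat ⊗[K] A) = (Algebra.TensorProduct.includeLeftRingHom : Khat →+* Khat ⊗[K] A)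
    from rfl, pullbackSpecIso_hom_fst]
  exact pullbackSymmetry_hom_comp_fst _ _

end Groth.Agent.S3485
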