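import Groth.Statements.S3486
import Groth.Agent.H05EGA4.EtCl.Lower.HensUpper
import Groth.Agent.H05EGA4.EtCl.Lower.DvrLower
import Groth.Agent.H05EGA4.EtCl.Lower.Descent
import Groth.Agent.H05EGA4.EtCl.Lower.Orderable
import Groth.Agent.S6370

set_option autoImplicit false
set_option backward.isDefEq.respectTransparency false
set_option backward.isDefEq.respectTransparency.types false
universe u
open CategoryTheory CategoryTheory.Limits AlgebraicGeometry Opposite
open EtCd

namespace Groth.Agent.S3486

/-- Let A be a Noetherian henselian local ring of dimension 1 with residue field k, and ℓ a prime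
invertible in A. The ring of rational functions of Spec A is the product of the local rings at the
minimal primes P, whose ℓ-cohomological dimension is that of the fields Frac(A/P); the result: for
every minimal prime P, cd_ℓ(Frac(A/P)) ≤ cd_ℓ(k) + 1, and if ℓ ≠ 2 or k is not orderable then
cd_ℓ(Frac(A/P)) = cd_ℓ(k) + 1 exactly. -/
theorem result (A : Type u) [CommRing A] [IsNoetherianRing A] [HenselianLocalRing A]
    (hdim : ringKrullDim A = 1) (ℓ : ℕ) (hℓ : ℓ.Prime) (hℓA : IsUnit (ℓ : A))
    (P : Ideal A) (hP : P ∈ minimalPrimes A) :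
    (∀ d : ℕ, Dix.CohDimLEAt (Spec (CommRingCat.of (IsLocalRing.ResidueField A))) ℓ d →
        Dix.CohDimLEAt (Spec (CommRingCat.of (FractionRing (A ⧸ P)))) ℓ (d + 1)) ∧
    ((ℓ ≠ 2 ∨ ¬ ∃ _ : LinearOrder (IsLocalRing.ResidueField A), IsStrictOrderedRing (IsLocalRing.ResidueField A)) →
      (∀ d : ℕ, Dix.CohDimLEAt (Spec (CommRingCat.of (IsLocalRing.ResidueField A))) ℓ d ↔
          Dix.CohDimLEAt (Spec (CommRingCat.of (FractionRing (A ⧸ P)))) ℓ (d + 1)) ∧
        ¬ Dix.CohDimLEAt (Spec (CommRingCat.of (FractionRing (A ⧸ P)))) ℓ 0) := by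
  haveI : Fact ℓ.Prime := ⟨hℓ⟩
  haveI := hP.1.1
  let A' := A ⧸ P
  haveI : Nontrivial A' := Ideal.Quotient.nontrivial_iff.2 hP.1.1.ne_top
  have hsurj : Function.Surjective (algebraMap A A') := Ideal.Quotient.mk_surjective
  haveI : IsLocalRing A' := IsLocalRing.of_surjective' _ hsurj
  haveI : IsLocalHom (algebraMap A A') := IsLocalHom.of_surjective _ hsurj
  haveI : Algebra.IsIntegral A A' := ⟨fun x => RingHom.isIntegral_of_surjective _ hsurj x⟩
  haveI := (Groth.Agent.H9Hens.henselian_of_isIntegral (R := A) (T := A')).1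
  have hnm : ¬ P.IsMaximal := fun hmax => by
    have h0 : ringKrullDim A ≤ 0 := by
      haveI : Ring.KrullDimLE 0 A := Ring.KrullDimLE.mk₀ fun I hI => by
        have hle : P ≤ I := hP.2 ⟨hI, bot_le⟩ (le_trans (IsLocalRing.le_maximalIdeal hI.ne_top)
          (IsLocalRing.eq_maximalIdeal hmax).ge)
        exact hmax.eq_of_le hI.ne_top hle ▸ hmax
      exact Ring.krullDimLE_iff.1 inferInstance
    rw [hdim] at h0
    exact absurd h0 (by norm_num)
  have hA' : ringKrullDim A' = 1 := by
    refine le_antisymm (hdim ▸ ringKrullDim_quotient_le P) ?_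
    by_contra hlt
    haveI : Ring.KrullDimLE 0 A' := Ring.krullDimLE_iff.2 (by
      have h1 := not_le.1 hlt
      exact Order.le_of_lt_succ (by exact h1))
    exact hnm (Ideal.Quotient.maximal_of_isField _ Ring.KrullDimLE.isField_of_isDomain)
  let F := FractionRing A'
  let B := integralClosure A' F
  haveI : IsLocalRing B := Groth.Agent.H7Flat.FlatTransfer.isLocalRing_integralClosure A' F
  obtain ⟨hded, -, -, hfin⟩ := Groth.Agent.S6370.result A' F F B hA'
  haveI := hded
  haveI : FaithfulSMul A' F := (faithfulSMul_iff_algebraMap_injective A' F).2 (IsFractionRing.injective A' F)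
  have hnf : ¬ IsField B := fun hfld => by
    have := ringKrullDim_eq_zero_of_isField (isField_of_isIntegral_of_isField (FaithfulSMul.algebraMap_injective A' B) hfld)
    rw [hA'] at this
    exact one_ne_zero this
  have htfae : IsDiscreteValuationRing B ↔ IsDedekindDomain B := (IsDiscreteValuationRing.TFAE B hnf).out 0 2
  haveI : IsDiscreteValuationRing B := htfae.2 hded
  haveI : IsLocalHom (algebraMap A' B) :=
    (algebraMap_isIntegral_iff.mpr (inferInstance : Algebra.IsIntegral A' B)).isLocalHom
      (FaithfulSMul.algebraMap_injective A' B)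
  haveI := (Groth.Agent.H9Hens.henselian_of_isIntegral (R := A') (T := B)).1
  haveI : IsFractionRing B F := IsIntegralClosure.isFractionRing_of_finite_extension A' F F B
  have hℓB : IsUnit (ℓ : B) := by
    have h1 := (hℓA.map (algebraMap A A')).map (algebraMap A' B)
    rwa [map_natCast, map_natCast] at h1
  let φ : A →+* B := (algebraMap A' B).comp (algebraMap A A')
  haveI : IsLocalHom φ := RingHom.isLocalHom_comp _ _
  letI : Algebra A B := φ.toAlgebra
  haveI : IsScalarTower A A' B := IsScalarTower.of_algebraMap_eq' rfl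
  haveI : IsLocalHom (algebraMap A B) := (inferInstance : IsLocalHom φ)
  haveI hfin' : Module.Finite (IsLocalRing.ResidueField A) (IsLocalRing.ResidueField B) := by
    let J := (IsLocalRing.maximalIdeal B).comap (algebraMap A' B)
    haveI : Module.Finite (A' ⧸ J) (B ⧸ IsLocalRing.maximalIdeal B) := hfin (IsLocalRing.maximalIdeal B) inferInstance
    haveI : Module.Finite A' (A' ⧸ J) := Module.Finite.of_surjective (Algebra.linearMap A' (A' ⧸ J))
      Ideal.Quotient.mk_surjective
    haveI : Module.Finite A' (B ⧸ IsLocalRing.maximalIdeal B) := Module.Finite.trans (A' ⧸ J) _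
    haveI : Module.Finite A A' := Module.Finite.of_surjective (Algebra.linearMap A A') hsurj
    haveI : IsScalarTower A A' (B ⧸ IsLocalRing.maximalIdeal B) := inferInstance
    haveI : Module.Finite A (IsLocalRing.ResidueField B) :=
      (Module.Finite.trans A' _ : Module.Finite A (B ⧸ IsLocalRing.maximalIdeal B))
    exact Module.Finite.of_restrictScalars_finite A _ _
  have up : ∀ d : ℕ, Dix.CohDimLEAt (Spec (CommRingCat.of (IsLocalRing.ResidueField A))) ℓ d →
      Dix.CohDimLEAt (Spec (CommRingCat.of F)) ℓ (d + 1) := fun d hd =>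
    Groth.Agent.H05EGA4.EtCl.Lower.cohDimLEAt_fractionField_henselian B F hℓB
      (Groth.Agent.H05EGA4.EtCl.Lower.cohDimLEAt_algebraic _ _ hd)
  refine ⟨up, fun hord => ⟨fun d => ⟨up d, fun hd => ?_⟩, fun h0 => ?_⟩⟩
  · have h1 := (Groth.Agent.H05EGA4.EtCl.Lower.cohDimLEAt_residue B F hℓB hd).2
    rw [Nat.add_sub_cancel] at h1
    exact Groth.Agent.H05EGA4.EtCl.Lower.cohDimLEAt_of_finite_extension _ (IsLocalRing.ResidueField B)
      (by rw [← map_natCast (IsLocalRing.residue A)]; exact (IsLocalRing.residue_ne_zero_iff_isUnit _).2 hℓA)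
      (hord.imp_right Groth.Agent.H05EGA4.EtCl.Lower.isSumSq_of_not_orderable) h1
  · exact absurd (Groth.Agent.H05EGA4.EtCl.Lower.one_le_of_cohDimLEAt hℓB h0) (by norm_num)


end Groth.Agent.S3486
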