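import Groth.Statements.S3487
import Groth.Agent.H05EGA4.EtCl.Lower.StalkPrimes
import Groth.Agent.H05EGA4.EtCl.Lower.Descent
import Groth.Agent.H05EGA4.EtCl.Lower.Orderable

set_option autoImplicit false
universe u
open CategoryTheory CategoryTheory.Limits AlgebraicGeometry Opposite
open EtCd

namespace Groth.Agent.S3487

/-- Let A be a Noetherian local ring with residue field k and ℓ a prime invertible in A; assume ℓ ≠ 2 or
that no residue field of Spec A is orderable. Then cd_ℓ(R(A)) ≥ cd_ℓ(k) + dim A, where R(A) is the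
ring of rational functions of Spec A: if for some d the cohomology of ℓ-primary torsion sheaves on
Spec Frac(A/P) vanishes above degree d for every minimal prime P, then dim A ≤ d and cd_ℓ(k) ≤ d -
dim A. -/
theorem result (A : Type u) [CommRing A] [IsNoetherianRing A] [IsLocalRing A]
    (ℓ : ℕ) (hℓ : ℓ.Prime) (hℓA : IsUnit (ℓ : A))
    (hord : ℓ ≠ 2 ∨ ∀ p : PrimeSpectrum A, ¬ ∃ _ : LinearOrder (FractionRing (A ⧸ p.asIdeal)),
      IsStrictOrderedRing (FractionRing (A ⧸ p.asIdeal)))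
    (m : ℕ) (hm : ringKrullDim A = m) (d : ℕ)
    (hd : ∀ P ∈ minimalPrimes A, Dix.CohDimLEAt (Spec (CommRingCat.of (FractionRing (A ⧸ P)))) ℓ d) :
    m ≤ d ∧ Dix.CohDimLEAt (Spec (CommRingCat.of (IsLocalRing.ResidueField A))) ℓ (d - m) := by
  haveI : Fact ℓ.Prime := ⟨hℓ⟩
  obtain ⟨h1, L, _, _, _, hL⟩ := Groth.Agent.H05EGA4.EtCl.Lower.le_and_exists_residue A hℓA d hd hm
  refine ⟨h1, Groth.Agent.H05EGA4.EtCl.Lower.cohDimLEAt_of_finite_extension _ L ?_ ?_ hL⟩
  · rw [← map_natCast (IsLocalRing.residue A)]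
    exact (IsLocalRing.residue_ne_zero_iff_isUnit _).2 hℓA
  · refine hord.imp_right fun h => ?_
    let m := IsLocalRing.maximalIdeal A
    letI := Ideal.Quotient.field m
    let e : (A ⧸ m) ≃ₐ[A ⧸ m] FractionRing (A ⧸ m) := IsLocalization.atUnits (A ⧸ m) (nonZeroDivisors (A ⧸ m))
      fun a ha => (nonZeroDivisors.ne_zero ha).isUnit
    exact Groth.Agent.H05EGA4.EtCl.Lower.isSumSq_neg_one_of_hom
      (G := IsLocalRing.ResidueField A) (e.symm : FractionRing (A ⧸ m) →+* A ⧸ m) (h (IsLocalRing.closedPoint A))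

end Groth.Agent.S3487
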