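import Groth.Statements.S3488
import Groth.Agent.H05EGA4.EtCl.Lower.StalkPrimes
import Groth.Agent.H28Vert.NoIsolated
import Groth.Agent.H05EGA4.EtCl.CodimFun

set_option autoImplicit false
universe u
open CategoryTheory CategoryTheory.Limits AlgebraicGeometry Opposite
open EtCd

namespace Groth.Agent.S3488

/-- Let X be a Noetherian scheme and ℓ a prime invertible on X. Then cd_ℓ(R(X)) ≥ dim X, where R(X) is
the ring of rational functions (the product of the local rings at the maximal points): if for some d
the cohomology of ℓ-primary torsion sheaves on Spec κ(x) vanishes above degree d for every maximal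
point x of X (generic point of an irreducible component), then dim X ≤ d. -/
theorem result (X : Scheme.{u}) [IsNoetherian X] (ℓ : ℕ) (hℓ : ℓ.Prime)
    (hℓX : Dix.InvertibleOn X ℓ) (d : ℕ)
    (hd : ∀ x : X, closure {x} ∈ irreducibleComponents (X : Type u) →
      Dix.CohDimLEAt (Spec (X.residueField x)) ℓ d) :
    topologicalKrullDim X ≤ d := by
  haveI : Fact ℓ.Prime := ⟨hℓ⟩
  refine Groth.Agent.H28Vert.topologicalKrullDim_le_of_stalks _ fun y => ?_
  obtain ⟨m, hm⟩ := Groth.Agent.H05EGA4.EtCl.exists_ringKrullDim_eq (X.presheaf.stalk y)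
  have hℓy : IsUnit (ℓ : X.presheaf.stalk y) := by
    rw [← IsLocalRing.residue_ne_zero_iff_isUnit, map_natCast]
    exact hℓX y
  obtain ⟨h1, -⟩ := Groth.Agent.H05EGA4.EtCl.Lower.le_and_exists_residue _ hℓy d (fun P hP => by
    haveI := hP.1.1
    obtain ⟨η, h, hη, hker⟩ := Groth.Agent.H05EGA4.EtCl.Lower.exists_maxPt_of_minimalPrime y P hP
    obtain ⟨e⟩ := Groth.Agent.H05EGA4.EtCl.Lower.nonempty_residueField_equiv h P hker
    exact Groth.Agent.H05EGA4.EtCl.cohDimLEAt_of_ringEquiv e.symm
      (hd η (Groth.Agent.H05EGA4.EtCl.closure_mem_irreducibleComponents hη))) hm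
  rw [hm]
  exact_mod_cast h1

end Groth.Agent.S3488
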