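import Groth.Statements.S3489
import Groth.Agent.H05EGA4.EtCl.Lower.StalkPrimes
import Groth.Agent.H05EGA4.EtCl.TrdegCdFun
import Groth.Agent.H05EGA4.EtCl.CodimFun
import Groth.Agent.H8Props.FieldDimFormula
import Groth.Agent.S0541

set_option autoImplicit false
universe u
open CategoryTheory CategoryTheory.Limits AlgebraicGeometry Opposite
open EtCd

namespace Groth.Agent.S3489

/-- Let X be a scheme of finite type over a field k, ℓ a prime nonzero in k, x a point of X and A a
strict henselization of the local ring of X at x. Then cd_ℓ(R(A)) = dim A, where R(A) is the product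
of the local rings of A at its minimal primes: for every d, the cohomology of ℓ-primary torsion
sheaves on Spec Frac(A/P) vanishes above degree d for all minimal primes P of A if and only if dim A
≤ d. -/
theorem result (k : Type u) [Field k] (X : Scheme.{u})
    (f : X ⟶ Spec (CommRingCat.of k)) [LocallyOfFiniteType f] [QuasiCompact f] (ℓ : ℕ) (hℓ : ℓ.Prime) (hℓk : (ℓ : k) ≠ 0)
    (x : X) (R : Type u) [CommRing R] [IsLocalRing R] [Algebra (X.presheaf.stalk x) R]
      [IsLocalHom (algebraMap (X.presheaf.stalk x) R)] [Hensel.IsStrictHenselization (X.presheaf.stalk x) R] (d : ℕ) :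
    (∀ P ∈ minimalPrimes R, Dix.CohDimLEAt (Spec (CommRingCat.of (FractionRing (R ⧸ P)))) ℓ d) ↔
      ringKrullDim R ≤ d := by
  haveI : Fact ℓ.Prime := ⟨hℓ⟩
  haveI : IsLocallyNoetherian X := LocallyOfFiniteType.isLocallyNoetherian f
  haveI : CompactSpace X := QuasiCompact.compactSpace_of_compactSpace f
  haveI : AlgebraicGeometry.IsNoetherian X := {}
  haveI : IsNoetherianRing R := (Groth.Agent.S0540.result (X.presheaf.stalk x) R).1 inferInstance
  haveI : Module.FaithfullyFlat (X.presheaf.stalk x) R := Groth.Agent.S0539.result (X.presheaf.stalk x) R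
  have hℓR : IsUnit (ℓ : R) := by
    rw [← map_natCast ((algebraMap (X.presheaf.stalk x) R).comp
      (Groth.Agent.H05EGA4.EtCl.toStalk f x))]
    exact (Ne.isUnit hℓk).map _
  constructor
  · intro h
    obtain ⟨m, hm⟩ := Groth.Agent.H05EGA4.EtCl.exists_ringKrullDim_eq R
    obtain ⟨h1, -⟩ := Groth.Agent.H05EGA4.EtCl.Lower.le_and_exists_residue R hℓR d h hm
    rw [hm]
    exact_mod_cast h1
  · intro h P hP
    haveI := hP.1.1
    let A := X.presheaf.stalk x
    haveI : Algebra.HasGoingDown A R := inferInstance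
    have hp : P.comap (algebraMap A R) ∈ minimalPrimes A := by
      refine ⟨⟨inferInstance, bot_le⟩, fun q hq hle => ?_⟩
      haveI := hq.1
      haveI : P.LiesOver (P.comap (algebraMap A R)) := ⟨rfl⟩
      obtain ⟨Q, hQP, hQ, hQq⟩ := Ideal.exists_ideal_le_liesOver_of_le (S := R) (p := q) P hle
      exact (Ideal.comap_mono (hP.2 ⟨hQ, bot_le⟩ hQP)).trans hQq.over.ge
    obtain ⟨η, hηx, hη, hker⟩ := Groth.Agent.H05EGA4.EtCl.Lower.exists_maxPt_of_minimalPrime x _ hp
    have hP' : P ∈ ((RingHom.ker (Cyc.specMap x η hηx)).map (algebraMap A R)).minimalPrimes := by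
      rw [hker]
      exact ⟨⟨inferInstance, Ideal.map_comap_le⟩, fun Q hQ hle => hP.2 ⟨hQ.1, bot_le⟩ hle⟩
    have h1 := Groth.Agent.H05EGA4.EtCl.cohDimLEAt_minimalPrime f
      (Groth.Agent.H05EGA4.EtCl.delta f) (Groth.Agent.H05EGA4.EtCl.trdeg_eq_delta f) (ℓ := ℓ) hℓ hηx R P hP'
    intro F hF q hq
    refine h1 F hF q (lt_of_le_of_lt ?_ hq)
    -- the dimension formula
    obtain ⟨c, hc⟩ := Groth.Agent.H05EGA4.EtCl.exists_ringKrullDim_eq A
    have h2 := Groth.Agent.H8Props.FieldDim.localDim_eq f x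
    rw [Groth.Agent.H8Props.FieldDim.localDim_eq_stalk_add_cdim f x, hc,
      Groth.Agent.H05EGA4.EtCl.cdim_eq_delta f] at h2
    have h3 : Groth.Agent.H8Props.FieldDim.cdim η ≤ ((c + Groth.Agent.H05EGA4.EtCl.delta f x : ℕ) : WithBot ℕ∞) := by
      push_cast
      rw [h2]
      exact le_iSup (fun z : {z : X // z ⤳ x} => Groth.Agent.H8Props.FieldDim.cdim z.1) ⟨η, hηx⟩
    rw [Groth.Agent.H05EGA4.EtCl.cdim_eq_delta f] at h3
    have h4 : Groth.Agent.H05EGA4.EtCl.delta f η ≤ c + Groth.Agent.H05EGA4.EtCl.delta f x := by exact_mod_cast h3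
    have h5 : c ≤ d := by
      rw [Groth.Agent.S0541.result A R, hc] at h
      exact_mod_cast h
    omega

end Groth.Agent.S3489
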