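import Groth.Statements.S3490
import Groth.Agent.H05EGA4.EtCl.Lower.StrictBound
import Groth.Agent.H05EGA4.EtCl.Lower.StalkPrimes
import Groth.Agent.H05EGA4.EtCl.CodimFun

set_option autoImplicit false
set_option backward.isDefEq.respectTransparency false
set_option backward.isDefEq.respectTransparency.types false
universe u
open CategoryTheory CategoryTheory.Limits AlgebraicGeometry Opposite
open EtCd

namespace Groth.Agent.S3490

/-- Case of a discrete valuation ring as base: let V be a discrete valuation ring, X a scheme of finite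
type over Spec V, ℓ a prime invertible in V, x a point of X and A a strict henselization of the
local ring of X at x. Then cd_ℓ(R(A)) = dim A in the sense of the field case: for every d, the
cohomology of ℓ-primary torsion sheaves on Spec Frac(A/P) vanishes above degree d for all minimal
primes P of A if and only if dim A ≤ d. -/
theorem result (V : Type u) [CommRing V] [IsDomain V] [IsDiscreteValuationRing V]
    (X : Scheme.{u}) (f : X ⟶ Spec (CommRingCat.of V)) [LocallyOfFiniteType f] [QuasiCompact f]
    (ℓ : ℕ) (hℓ : ℓ.Prime) (hℓV : IsUnit (ℓ : V))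
    (x : X) (R : Type u) [CommRing R] [IsLocalRing R] [Algebra (X.presheaf.stalk x) R]
      [IsLocalHom (algebraMap (X.presheaf.stalk x) R)] [Hensel.IsStrictHenselization (X.presheaf.stalk x) R] (d : ℕ) :
    (∀ P ∈ minimalPrimes R, Dix.CohDimLEAt (Spec (CommRingCat.of (FractionRing (R ⧸ P)))) ℓ d) ↔
      ringKrullDim R ≤ d := by
  haveI : Fact ℓ.Prime := ⟨hℓ⟩
  haveI : IsLocallyNoetherian X := LocallyOfFiniteType.isLocallyNoetherian f
  haveI : IsNoetherianRing R := (Groth.Agent.S0540.result (X.presheaf.stalk x) R).1 inferInstance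
  obtain ⟨U, (hU : IsAffineOpen U), hxU, -⟩ :=
    TopologicalSpace.Opens.isBasis_iff_nbhd.mp X.isBasis_affineOpens (show x ∈ (⊤ : X.Opens) from trivial)
  let γ : V →+* Γ(X, U) := (f.appLE ⊤ U (le_top.trans_eq (f.preimage_top).symm)).hom.comp
    (Scheme.ΓSpecIso (CommRingCat.of V)).inv.hom
  letI : Algebra V Γ(X, U) := γ.toAlgebra
  haveI : Algebra.FiniteType V Γ(X, U) := (f.finiteType_appLE (isAffineOpen_top _) hU _).comp
    (RingHom.FiniteType.of_surjective _ (Scheme.ΓSpecIso (CommRingCat.of V)).symm.commRingCatIsoToRingEquiv.surjective)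
  letI : Algebra Γ(X, U) (X.presheaf.stalk x) := (X.presheaf.germ U x hxU).hom.toAlgebra
  let q := (hU.primeIdealOf ⟨x, hxU⟩).asIdeal
  haveI : IsLocalization.AtPrime (X.presheaf.stalk x) q := hU.isLocalization_stalk ⟨x, hxU⟩
  have hℓR : IsUnit (ℓ : R) := by
    rw [← map_natCast ((algebraMap (X.presheaf.stalk x) R).comp ((algebraMap Γ(X, U) (X.presheaf.stalk x)).comp γ))]
    exact hℓV.map _
  haveI : Module.FaithfullyFlat (X.presheaf.stalk x) R := Groth.Agent.S0539.result (X.presheaf.stalk x) R
  constructor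
  · intro h
    obtain ⟨m, hm⟩ := Groth.Agent.H05EGA4.EtCl.exists_ringKrullDim_eq R
    obtain ⟨h1, -⟩ := Groth.Agent.H05EGA4.EtCl.Lower.le_and_exists_residue R hℓR d h hm
    rw [hm]
    exact_mod_cast h1
  · intro h P hP
    haveI := hP.1.1
    refine Groth.Agent.H05EGA4.EtCl.Lower.cohDimLEAt_minimalPrime_dvr V hℓV Γ(X, U) q (X.presheaf.stalk x) R P hP ?_
    rwa [Groth.Agent.S0541.result (X.presheaf.stalk x) R] at h


end Groth.Agent.S3490
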