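import Groth.Statements.S3494
import Groth.Agent.H05EGA4.EtCl.Dev.CritDouble
import Groth.Agent.H9Et.GaZariski
import Groth.Agent.H9Et.ArtinSchreier
import Groth.Agent.H7Flat.CohDim.H1
import Groth.Agent.H10Coh.BaseChange

set_option autoImplicit false
set_option backward.isDefEq.respectTransparency false
set_option backward.isDefEq.respectTransparency.types false
universe u
open CategoryTheory CategoryTheory.Limits AlgebraicGeometry Opposite
open EtCd

namespace Groth.Agent.S3494

/-- Let p be a prime and X a Noetherian scheme of characteristic p (a scheme over Spec(Z/p)). Then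
cd_p(X) ≤ cd_qc(X) + 1: if the Zariski cohomology of every quasi-coherent O_X-module vanishes above
degree d, then the etale cohomology of every p-primary torsion abelian sheaf on X vanishes above
degree d + 1. -/
theorem result (p : ℕ) [Fact p.Prime] (X : Scheme.{u}) [IsNoetherian X]
    (a : X ⟶ Spec (CommRingCat.of (ULift.{u} (ZMod p)))) (d : ℕ)
    (hqc : ∀ M : X.Modules, Coh.IsQCoh M → ∀ q : ℕ, d < q → Subsingleton (Coh.HH X M q)) :
    Dix.CohDimLEAt X p (d + 1) := by
  open Groth.Agent.H05EGA4.EtCl.Dev in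
  refine Crit.cohDimLEAt_of_hConst (Crit.hConst_of_const fun W g _ q hq => ?_)
  have hp : (p : Γ(W, ⊤)) = 0 := by
    have h0 : (p : Γ(Spec (CommRingCat.of (ULift.{u} (ZMod p))), ⊤)) = 0 := by
      have h1 : (p : ULift.{u} (ZMod p)) = 0 := ULift.ext _ _ (ZMod.natCast_self p)
      rw [← map_natCast (Scheme.ΓSpecIso (CommRingCat.of (ULift.{u} (ZMod p)))).inv.hom p]
      exact (congrArg _ h1).trans (map_zero _)
    rw [← map_natCast (g ≫ a).appTop.hom p, h0, map_zero]
  rcases isEmpty_or_nonempty W with hW | ⟨⟨w⟩⟩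
  · exact Groth.Agent.H05EGA4.EtCl.Dev.subsingleton_H_of_isZero
      (Groth.Agent.H18Et.Cons.isZero_of_supp_eq_empty _ fun x => isEmptyElim x) q
  haveI : Nontrivial Γ(W, ⊤) := (W.evaluation ⊤ w trivial).hom.domain_nontrivial
  haveI : CharP Γ(W, ⊤) p := (CharP.charP_iff_prime_eq_zero (Fact.out : p.Prime)).2 hp
  obtain ⟨r, rfl⟩ : ∃ r, q = r + 2 := ⟨q - 2, by omega⟩
  have hO : ∀ i, d < i → Subsingleton (EtCoh.H W (EtCoh.Ga W) i) := fun i hi => by
    obtain ⟨e⟩ := Groth.Agent.H9Et.nonempty_H_Ga_equiv (S := W) i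
    haveI : (Coh.structureModule W).IsQuasicoherent := Groth.Agent.H10Coh.isQuasicoherent_unit
    haveI := hqc _ (Groth.Agent.H10Coh.isQuasicoherent_pushforward_of_isAffineHom g (Coh.structureModule W)) i hi
    haveI : Subsingleton (Coh.HH W (Coh.structureModule W) i) :=
      (Groth.Agent.H7Flat.CohDim.lerayHH g (Coh.structureModule W) i).symm.injective.subsingleton
    exact e.injective.subsingleton
  refine subsingleton_of_forall_eq 0 fun x => ?_
  obtain ⟨y, rfl⟩ := Abelian.Ext.covariant_sequence_exact₁ _ (Groth.Agent.H9Et.AS.shortExact_seq W p) x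
    ((hO (r + 2) (by omega)).elim _ _) (show r + 1 + 1 = r + 2 by omega)
  rw [(hO (r + 1) (by omega)).elim y 0]
  simp

end Groth.Agent.S3494
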