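import Groth.Statements.S3495
import Groth.Agent.H18AS.Vanish
import Groth.Agent.H27Weil.Geometry

set_option autoImplicit false
universe u
open CategoryTheory CategoryTheory.Limits AlgebraicGeometry Opposite
open EtCd

namespace Groth.Agent.S3495

/-- Let k be a separably closed field of characteristic p > 0 and X a quasi-projective scheme over k (X
admits a k-immersion into a projective space over k) of dimension at most n. Then cd_p(X) ≤ n: the
etale cohomology of every p-primary torsion abelian sheaf on X vanishes above degree n. -/
theorem result (k : Type u) [Field k] [IsSepClosed k] (p : ℕ) [Fact p.Prime] [CharP k p]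
    (X : Scheme.{u}) (f : X ⟶ Spec (CommRingCat.of k)) [LocallyOfFiniteType f]
    (hqp : ∃ (N : ℕ) (i : X ⟶ CohB1.ProjSpaceOver N (Spec (CommRingCat.of k))),
      IsImmersion i ∧ i ≫ CohB1.ProjSpaceOver.toBase N (Spec (CommRingCat.of k)) = f)
    (n : ℕ) (hn : topologicalKrullDim X ≤ n) :
    Dix.CohDimLEAt X p n := by
  obtain ⟨N, i, hi, hif⟩ := hqp
  haveI := hi
  let π := CohB1.ProjSpaceOver.toBase N (Spec (CommRingCat.of k))
  haveI : IsProper π := H27Weil.isProper_toBase N _
  haveI : IsLocallyNoetherian (CohB1.ProjSpaceOver N (Spec (CommRingCat.of k))) :=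
    LocallyOfFiniteType.isLocallyNoetherian π
  haveI : CompactSpace (CohB1.ProjSpaceOver N (Spec (CommRingCat.of k))) :=
    QuasiCompact.compactSpace_of_compactSpace π
  haveI : AlgebraicGeometry.IsNoetherian (CohB1.ProjSpaceOver N (Spec (CommRingCat.of k))) := {}
  haveI : TopologicalSpace.NoetherianSpace X := i.isEmbedding.isInducing.noetherianSpace
  haveI : QuasiCompact f := (quasiCompact_iff_forall_isAffineOpen).2 fun _ _ => TopologicalSpace.NoetherianSpace.isCompact (α := X) _
  haveI : IsSeparated f := by rw [← hif]; infer_instance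
  exact H18AS.cohDimLEAt_sepClosed k p f n hn

end Groth.Agent.S3495
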