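import Groth.Statements.S3509
import Groth.Agent.H05EGA4.EtCl.Lower.StalkPrimes
import Groth.Agent.H05EGA4.EtCl.Lower.Descent
import Groth.Agent.H05EGA4.EtCl.Lower.Orderable
import Groth.Agent.H8Props.FlatDimOneBase
import Groth.Agent.S3492

set_option autoImplicit false
universe u
open CategoryTheory CategoryTheory.Limits AlgebraicGeometry Opposite
open EtCd

namespace Groth.Agent.S3509

/-- Let X be a Noetherian scheme of dimension at most m and ℓ a prime invertible on X; assume that for
all points x, y with y in the closure of x, every strict henselization R of the local ring at y and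
every prime P of R minimal over p_x R one has cd_ℓ(Frac(R/P)) ≤ dim(R/p_x R), and that ℓ ≠ 2 or no
residue field of X is orderable. Then cd_ℓ(X) ≤ cd_ℓ(R(X)) + dim X: if cd_ℓ(κ(η)) ≤ c for every
maximal point η of X, then the etale cohomology of every ℓ-primary torsion abelian sheaf on X
vanishes above degree c + m. -/
theorem result (X : Scheme.{u}) [IsNoetherian X] (m : ℕ) (hm : topologicalKrullDim X ≤ m)
    (ℓ : ℕ) (hℓ : ℓ.Prime) (hℓX : Dix.InvertibleOn X ℓ)
    (h2 : ∀ (x y : X) (hxy : x ⤳ y), ∀ (R : Type u) [CommRing R] [IsLocalRing R] [Algebra (X.presheaf.stalk y) R]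
    [IsLocalHom (algebraMap (X.presheaf.stalk y) R)] [Hensel.IsStrictHenselization (X.presheaf.stalk y) R],
      ∀ P ∈ ((RingHom.ker (Cyc.specMap y x hxy)).map (algebraMap (X.presheaf.stalk y) R)).minimalPrimes,
        ∀ e : ℕ, ringKrullDim (R ⧸ (RingHom.ker (Cyc.specMap y x hxy)).map (algebraMap (X.presheaf.stalk y) R)) = e →
          Dix.CohDimLEAt (Spec (CommRingCat.of (FractionRing (R ⧸ P)))) ℓ e)
    (hord : ℓ ≠ 2 ∨ ∀ x : X, ¬ ∃ _ : LinearOrder (X.residueField x), IsStrictOrderedRing (X.residueField x))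
    (c : ℕ) (hc : ∀ x : X, closure {x} ∈ irreducibleComponents (X : Type u) →
      Dix.CohDimLEAt (Spec (X.residueField x)) ℓ c) :
    Dix.CohDimLEAt X ℓ (c + m) := by
  haveI : Fact ℓ.Prime := ⟨hℓ⟩
  have key : ∀ (y : X) (k : ℕ), ringKrullDim (X.presheaf.stalk y) = k →
      2 * k ≤ c + m ∧ Dix.CohDimLEAt (Spec (X.residueField y)) ℓ (c + m - 2 * k) := fun y k hk => by
    have hℓy : IsUnit (ℓ : X.presheaf.stalk y) := by
      rw [← IsLocalRing.residue_ne_zero_iff_isUnit, map_natCast]
      exact hℓX y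
    obtain ⟨h1, L, _, _, _, hL⟩ := Groth.Agent.H05EGA4.EtCl.Lower.le_and_exists_residue _ hℓy c (fun P hP => by
      haveI := hP.1.1
      obtain ⟨η, h, hη, hker⟩ := Groth.Agent.H05EGA4.EtCl.Lower.exists_maxPt_of_minimalPrime y P hP
      obtain ⟨e⟩ := Groth.Agent.H05EGA4.EtCl.Lower.nonempty_residueField_equiv h P hker
      exact Groth.Agent.H05EGA4.EtCl.cohDimLEAt_of_ringEquiv e.symm
        (hc η (Groth.Agent.H05EGA4.EtCl.closure_mem_irreducibleComponents hη))) hk
    have hkm : k ≤ m := by
      have h2 := (Groth.Agent.H8Props.FlatDimOneBase.ringKrullDim_stalk_le X y).trans hm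
      rw [hk] at h2
      exact_mod_cast h2
    refine ⟨by omega, fun F hF q hq => ?_⟩
    have h3 : Dix.CohDimLEAt (Spec (X.residueField y)) ℓ (c - k) :=
      Groth.Agent.H05EGA4.EtCl.Lower.cohDimLEAt_of_finite_extension (IsLocalRing.ResidueField (X.presheaf.stalk y)) L
        (hℓX y) (hord.imp_right fun h => Groth.Agent.H05EGA4.EtCl.Lower.isSumSq_of_not_orderable (h y)) hL
    exact h3 F hF q (by omega)
  intro F hF q hq
  refine Groth.Agent.S3492.result X ℓ hℓ (c + m) key h2 0 F hF (fun y _ => ?_) q (by omega)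
  exact_mod_cast ringKrullDim_nonneg_of_nontrivial

end Groth.Agent.S3509
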