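import Groth.Statements.S3510
import Groth.Agent.H1DFun.AcycEdge

set_option autoImplicit false
universe u
open CategoryTheory CategoryTheory.Limits AlgebraicGeometry Opposite
open EtAcyc

namespace Groth.Agent.S3510

set_option backward.isDefEq.respectTransparency false
set_option backward.isDefEq.respectTransparency.types false

open Groth.Agent.H1DFun

/-- (i) ⇔ (ii): let g : X → Y be a morphism of schemes, L a set of primes and n a natural number. Then g
is n-acyclic for L (form (ii): for every etale V → Y with projection g' : X ×_Y V → V and every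
abelian L-torsion sheaf F on V, H^q(V, F) → H^q(X ×_Y V, g'⁻¹F) is bijective for q ≤ n and injective
for q = n + 1) if and only if (form (i)) for every such V and F the unit F → g'_* g'⁻¹ F is an
isomorphism and R^q g'_* (g'⁻¹ F) = 0 for 1 ≤ q ≤ n. -/
theorem result {X Y : Scheme.{u}} (g : X ⟶ Y) (L : Set ℕ) (n : ℕ) :
    EtAcyc.IsAcyclicN g L n ↔
      ∀ (V : Y.Etale) (F : EtCoh.Ab V.left), EtAcyc.IsLTorsion L F →
        IsIso ((EtCoh.pullPushAdj (EtAcyc.prj g V)).unit.app F) ∧
          ∀ q : ℕ, 1 ≤ q → q ≤ n →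
            IsZero ((EtCoh.Rpush (EtAcyc.prj g V) q).obj ((EtCoh.pull (EtAcyc.prj g V)).obj F)) := by
  refine ⟨fun H V F hF => unit_vanishing_of_compN (EtAcyc.prj g V) (fun U => ?_) F hF,
    fun H V => compN_of_unit_vanishing (EtAcyc.prj g V) (H V)⟩
  haveI : Etale U.hom := U.prop
  haveI : Etale V.hom := V.prop
  let W : Y.Etale := Scheme.Etale.mk (U.hom ≫ V.hom)
  show EtAcyc.CompN (pullback.fst U.hom (pullback.fst V.hom g)) L n
  rw [← pullbackRightPullbackFstIso_hom_fst V.hom g U.hom]
  exact H14Acyc.compN_comp _ _ (H14Acyc.compN_of_isIso _) (H W)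

end Groth.Agent.S3510
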