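import Groth.Statements.S8542
import Mathlib.CategoryTheory.Adhesive.Basic
import Mathlib.CategoryTheory.Sites.LeftExact
import Groth.Agent.H18Et.StalkSets

set_option autoImplicit false
universe u
open CategoryTheory CategoryTheory.Limits AlgebraicGeometry Opposite
open EtBC

namespace Groth.Agent.S8542

theorem secPull_natural {X Y : Scheme.{u}} (h : Y ⟶ X) {F G : EtDesc.Sh X} (u : F ⟶ G)
    (s : EtDesc.sect F (EtCoh.top X)) :
    EtDesc.secPull h G (u.hom.app (op (EtCoh.top X)) s) =
      ((EtDesc.pullSh h).map u).hom.app (op (EtCoh.top Y)) (EtDesc.secPull h F s) := by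
  have h1 := congrArg (fun (m : F ⟶ (EtDesc.pushSh h).obj ((EtDesc.pullSh h).obj G)) => m.hom.app (op (EtCoh.top X)) s)
    ((EtDesc.adjSh h).unit.naturality u)
  exact (congrArg (fun t => ((EtDesc.pullSh h).obj G).obj.map (EtCore.bcTopIso h).inv.op t) h1).trans
    (ConcreteCategory.congr_hom (((EtDesc.pullSh h).map u).hom.naturality (EtCore.bcTopIso h).inv.op) _).symm

theorem exists_of_comp_eq {X : Scheme.{u}} {F G : EtDesc.Sh X} (u : F ⟶ G) [Mono u]
    (t : EtDesc.sect G (EtCoh.top X))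
    (ht : (pushout.inl u u).hom.app (op (EtCoh.top X)) t = (pushout.inr u u).hom.app (op (EtCoh.top X)) t) :
    ∃ s, u.hom.app (op (EtCoh.top X)) s = t := by
  have hP := (Adhesive.isPullback_of_isPushout_of_mono_left (IsPushout.of_hasPushout u u)).map
    (sheafToPresheaf X.smallEtaleTopology (Type (u + 1)) ⋙
      (evaluation X.Etaleᵒᵖ (Type (u + 1))).obj (op (EtCoh.top X)))
  obtain ⟨s, hs, -⟩ := Types.exists_of_isPullback hP t t ht
  exact ⟨s, hs⟩
theorem mono_pullSh {X Y : Scheme.{u}} (h : Y ⟶ X) {F G : EtDesc.Sh X} (u : F ⟶ G) [Mono u] :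
    Mono ((EtDesc.pullSh h).map u) :=
  (H18Et.mono_iff_stalkSh _).2 fun Ω _ _ ξ => by
    have h1 := ((MorphismProperty.monomorphisms (Type (u + 1))).arrow_mk_iso_iff
      (Arrow.isoMk ((H18Et.stalkPullShIso h ξ).app F) ((H18Et.stalkPullShIso h ξ).app G)
        ((H18Et.stalkPullShIso h ξ).hom.naturality u).symm)).2
      ((mono_iff_injective _).2 ((H18Et.mono_iff_stalkSh u).1 inferInstance Ω (ξ ≫ h)))
    exact (mono_iff_injective _).1 h1

/-- Let h : Y → X be a morphism of quasi-compact quasi-separated schemes such that for every sheaf of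
sets F on the small etale site of X the pullback map Γ(X, F) → Γ(Y, h^*F) is injective. Let u : F →
G be a monomorphism of sheaves of sets on X and ξ ∈ Γ(Y, h^*F) a section whose image in Γ(Y, h^*G)
lies in the image of Γ(X, G). Then ξ lies in the image of Γ(X, F). -/
theorem result {X Y : Scheme.{u}} [CompactSpace X] [QuasiSeparatedSpace X]
    [CompactSpace Y] [QuasiSeparatedSpace Y] (h : Y ⟶ X)
    (hinj : ∀ F : EtDesc.Sh X, Function.Injective (EtDesc.secPull h F))
    {F G : EtDesc.Sh X} (u : F ⟶ G) [Mono u] (ξ : EtDesc.sect ((EtDesc.pullSh h).obj F) (EtCoh.top Y))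
    (hξ : ((EtDesc.pullSh h).map u).hom.app (op (EtCoh.top Y)) ξ ∈ Set.range (EtDesc.secPull h G)) :
    ξ ∈ Set.range (EtDesc.secPull h F) := by
  obtain ⟨γ, hγ⟩ := hξ
  obtain ⟨s, hs⟩ := exists_of_comp_eq u γ (hinj _ (by
    rw [secPull_natural, secPull_natural, hγ]
    exact congrArg (fun m : (EtDesc.pullSh h).obj F ⟶ _ => m.hom.app (op (EtCoh.top Y)) ξ)
      ((((EtDesc.pullSh h).map_comp u (pushout.inl u u)).symm.trans
        (congrArg (EtDesc.pullSh h).map pushout.condition)).trans ((EtDesc.pullSh h).map_comp u (pushout.inr u u)))))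
  refine ⟨s, ?_⟩
  haveI := mono_pullSh h u
  have h1 : Mono (((EtDesc.pullSh h).map u).hom.app (op (EtCoh.top Y))) :=
    inferInstanceAs (Mono ((sheafToPresheaf _ _ ⋙ (evaluation _ _).obj (op (EtCoh.top Y))).map ((EtDesc.pullSh h).map u)))
  refine (mono_iff_injective _).1 h1 ?_
  rw [← hγ, ← hs, secPull_natural]

end Groth.Agent.S8542
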