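import Groth.Statements.S3517
import Groth.Agent.H15Site.SetDescent.Apps
import Groth.Agent.S8542

set_option autoImplicit false
set_option backward.isDefEq.respectTransparency false
universe u
open CategoryTheory CategoryTheory.Limits AlgebraicGeometry Opposite
open EtBC

namespace Groth.Agent.S3517

open Groth.Agent.H15Site.SetDescent

theorem bijective_app {Z : Scheme.{u}} {F G : EtDesc.Sh Z} (e : F ⟶ G) [IsIso e] (U : Z.Etale) :
    Function.Bijective (e.hom.app (op U)) :=
  (isIso_iff_bijective _).1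
    (inferInstanceAs (IsIso ((sheafToPresheaf _ _ ⋙ (evaluation _ _).obj (op U)).map e)))

/-- Pullback of sections over an object isomorphic to the final one, against `secPull`. -/
theorem pullSect_iso_eq {X Y : Scheme.{u}} (f : X ⟶ Y) (F : EtDesc.Sh Y) {U : Y.Etale}
    (e : U ≅ EtCoh.top Y) :
    Function.Injective (EtDesc.secPull f F) → Function.Injective (pullSect f F (U := U)) ∧
      (Function.Surjective (EtDesc.secPull f F) → Function.Surjective (pullSect f F (U := U))) := by
  intro hi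
  let c := ((EtCoh.bc f).mapIso e).trans (EtCore.bcTopIso f)
  have key : ∀ s, pullSect f F (U := U) (F.obj.map e.hom.op s) =
      ((EtDesc.pullSh f).obj F).obj.map c.hom.op (EtDesc.secPull f F s) := fun s => by
    rw [pullSect_map, secPull_eq]
    exact (map_map_eq _ c.hom (EtCore.bcTopIso f).inv ((EtCoh.bc f).map e.hom) (by simp [c]) _).symm
  have hc := bijective_map_iso ((EtDesc.pullSh f).obj F).obj c
  have he := bijective_map_iso F.obj e
  refine ⟨fun a b h => ?_, fun hs t => ?_⟩
  · obtain ⟨a, rfl⟩ := he.2 a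
    obtain ⟨b, rfl⟩ := he.2 b
    rw [key, key] at h
    rw [hi (hc.1 h)]
  · obtain ⟨t, rfl⟩ := hc.2 t
    obtain ⟨s, rfl⟩ := hs t
    exact ⟨_, key s⟩


variable {X Y Xb Yb : Scheme.{u}} (h : Y ⟶ X) (p : Xb ⟶ X) (hb : Yb ⟶ Xb) (pY : Yb ⟶ Y)

/-- The adjunct of the base change map. -/
noncomputable abbrev adjunct (w : hb ≫ p = pY ≫ h) (Fb : EtDesc.Sh Xb) :
    (EtDesc.pushSh p).obj Fb ⟶ (EtDesc.pushSh h).obj ((EtDesc.pushSh pY).obj ((EtDesc.pullSh hb).obj Fb)) :=
  (EtDesc.pushSh p).map ((EtDesc.adjSh hb).unit.app Fb) ≫ (EtDesc.pushCompSh p hb).hom.app _ ≫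
    (pushCongrSh w).hom.app _ ≫ (EtDesc.pushCompSh h pY).inv.app _

/-- The base change map sends a pulled back section to the value of the adjunct. -/
theorem baseChange_pullSect (w : hb ≫ p = pY ≫ h) (Fb : EtDesc.Sh Xb) (W : X.Etale)
    (s : ((EtDesc.pushSh p).obj Fb).obj.obj (op W)) :
    (baseChange0Sh p h pY hb w Fb).hom.app (op ((EtCoh.bc h).obj W)) (pullSect h _ s) =
      (adjunct h p hb pY w Fb).hom.app (op W) s := by
  conv_rhs => rw [← ((EtDesc.adjSh h).homEquiv _ _).apply_symm_apply (adjunct h p hb pY w Fb),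
    Adjunction.homEquiv_unit]
  rfl

theorem adjunct_injective (w : hb ≫ p = pY ≫ h) (Fb : EtDesc.Sh Xb)
    (hi : Function.Injective (EtDesc.secPull hb Fb)) :
    Function.Injective ((adjunct h p hb pY w Fb).hom.app (op (EtCoh.top X))) ∧
      (Function.Surjective (EtDesc.secPull hb Fb) →
        Function.Surjective ((adjunct h p hb pY w Fb).hom.app (op (EtCoh.top X)))) := by
  have h1 := pullSect_iso_eq hb Fb (EtCore.bcTopIso p) hi
  have h2 := bijective_app ((EtDesc.pushCompSh p hb).hom.app ((EtDesc.pullSh hb).obj Fb) ≫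
    (pushCongrSh w).hom.app _ ≫ (EtDesc.pushCompSh h pY).inv.app _) (EtCoh.top X)
  exact ⟨h2.1.comp h1.1, fun hs => h2.2.comp (h1.2 hs)⟩

theorem map_unit_secPull (F G : EtDesc.Sh X) (η : F ⟶ G) (x : F.obj.obj (op (EtCoh.top X))) :
    ((EtDesc.pullSh h).map η).hom.app (op ((EtCoh.bc h).obj (EtCoh.top X))) (pullSect h F x) =
      pullSect h G (η.hom.app (op (EtCoh.top X)) x) :=
  pullSect_naturality h η x

theorem injective_secPull (w : hb ≫ p = pY ≫ h) [Surjective p]
    (hi : ∀ Fb : EtDesc.Sh Xb, Function.Injective (EtDesc.secPull hb Fb)) (F : EtDesc.Sh X) :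
    Function.Injective (EtDesc.secPull h F) := by
  intro s t hst
  rw [secPull_eq, secPull_eq] at hst
  have h0 := (bijective_map_iso ((EtDesc.pullSh h).obj F).obj (EtCore.bcTopIso h).symm).1 hst
  have h1 : pullSect h ((EtDesc.pushSh p).obj ((EtDesc.pullSh p).obj F)) (pullSect p F s) =
      pullSect h ((EtDesc.pushSh p).obj ((EtDesc.pullSh p).obj F)) (pullSect p F t) :=
    (map_unit_secPull h F _ ((EtDesc.adjSh p).unit.app F) s).symm.trans
      ((congrArg _ h0).trans (map_unit_secPull h F _ ((EtDesc.adjSh p).unit.app F) t))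
  have h2 := congrArg ((baseChange0Sh p h pY hb w ((EtDesc.pullSh p).obj F)).hom.app
    (op ((EtCoh.bc h).obj (EtCoh.top X)))) h1
  rw [baseChange_pullSect, baseChange_pullSect] at h2
  exact pullSect_injective p F _ ((adjunct_injective h p hb pY w _ (hi _)).1 h2)

theorem surjective_secPull (w : hb ≫ p = pY ≫ h) [Surjective p]
    (hb' : ∀ Fb : EtDesc.Sh Xb, Function.Bijective (EtDesc.secPull hb Fb))
    (hm : ∀ Fb : EtDesc.Sh Xb, Mono (baseChange0Sh p h pY hb w Fb)) (F : EtDesc.Sh X) :
    Function.Surjective (EtDesc.secPull h F) := by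
  intro ξ
  let G := (EtDesc.pushSh p).obj ((EtDesc.pullSh p).obj F)
  let η : F ⟶ G := (EtDesc.adjSh p).unit.app F
  haveI : Mono η := (sheafToPresheaf _ _).mono_of_mono_map <| by
    haveI : ∀ U, Mono (η.hom.app U) := fun U =>
      (mono_iff_injective _).2 (pullSect_injective p F U.unop)
    exact NatTrans.mono_of_mono_app η.hom
  let β := baseChange0Sh p h pY hb w ((EtDesc.pullSh p).obj F)
  let x := ((EtDesc.pullSh h).obj F).obj.map (EtCore.bcTopIso h).hom.op ξ
  let y := ((EtDesc.pullSh h).map η).hom.app (op ((EtCoh.bc h).obj (EtCoh.top X))) x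
  obtain ⟨z, hz⟩ := (adjunct_injective h p hb pY w ((EtDesc.pullSh p).obj F) (hb' _).1).2 (hb' _).2
    (β.hom.app _ y)
  have hβ : Mono (β.hom.app (op ((EtCoh.bc h).obj (EtCoh.top X)))) := by
    haveI : Mono β := hm _
    exact inferInstanceAs (Mono ((sheafToPresheaf _ _ ⋙ (evaluation _ _).obj
      (op ((EtCoh.bc h).obj (EtCoh.top X)))).map β))
  have hz' : pullSect h G z = y :=
    (mono_iff_injective _).1 hβ ((baseChange_pullSect h p hb pY w _ _ z).trans hz)
  have hx : EtDesc.secPull h G z = ((EtDesc.pullSh h).map η).hom.app (op (EtCoh.top Y)) ξ := by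
    rw [secPull_eq, hz', ← NatTrans.naturality_apply ((EtDesc.pullSh h).map η).hom,
      map_map_eq _ _ _ (𝟙 _) (EtCore.bcTopIso h).inv_hom_id ξ, op_id, CategoryTheory.Functor.map_id]
    rfl
  have hinj := injective_secPull h p hb pY w (fun Fb => (hb' Fb).1)
  obtain ⟨s, hs⟩ := S8542.exists_of_comp_eq η z (hinj _ (by
    rw [S8542.secPull_natural, S8542.secPull_natural, hx]
    exact congrArg (fun m : (EtDesc.pullSh h).obj F ⟶ _ => m.hom.app (op (EtCoh.top Y)) ξ)
      ((((EtDesc.pullSh h).map_comp η (pushout.inl η η)).symm.trans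
        (congrArg (EtDesc.pullSh h).map pushout.condition)).trans
          ((EtDesc.pullSh h).map_comp η (pushout.inr η η)))))
  refine ⟨s, ?_⟩
  haveI := S8542.mono_pullSh h η
  have h1 : Mono (((EtDesc.pullSh h).map η).hom.app (op (EtCoh.top Y))) :=
    inferInstanceAs (Mono ((sheafToPresheaf _ _ ⋙ (evaluation _ _).obj (op (EtCoh.top Y))).map
      ((EtDesc.pullSh h).map η)))
  refine (mono_iff_injective _).1 h1 ?_
  rw [← hx, ← hs, S8542.secPull_natural]

/-- Let h : Y → X and p : X̄ → X be morphisms of schemes with p surjective, Ȳ = Y ×_X X̄ with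
projections h̄ : Ȳ → X̄ and p_Y : Ȳ → Y. If for every sheaf of sets F̄ on X̄ the pullback map on
global sections Γ(X̄, F̄) → Γ(Ȳ, h̄^* F̄) is injective, then for every sheaf of sets F on X the map
Γ(X, F) → Γ(Y, h^* F) is injective. If those maps for h̄ are bijective and moreover the base change
morphism h^* p_* F̄ → p_{Y*} h̄^* F̄ is a monomorphism for every sheaf of sets F̄ on X̄, then the
maps Γ(X, F) → Γ(Y, h^* F) are bijective. -/
theorem result {X Y Xb Yb : Scheme.{u}} (h : Y ⟶ X) (p : Xb ⟶ X)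
    (hb : Yb ⟶ Xb) (pY : Yb ⟶ Y) (sq : IsPullback hb pY p h) (hp : Function.Surjective p.base) :
    ((∀ Fb : EtDesc.Sh Xb, Function.Injective (EtDesc.secPull hb Fb)) →
      ∀ F : EtDesc.Sh X, Function.Injective (EtDesc.secPull h F)) ∧
    ((∀ Fb : EtDesc.Sh Xb, Function.Bijective (EtDesc.secPull hb Fb)) →
      (∀ Fb : EtDesc.Sh Xb, Mono (EtBC.baseChange0Sh p h pY hb sq.w Fb)) →
      ∀ F : EtDesc.Sh X, Function.Bijective (EtDesc.secPull h F)) := by
  haveI : Surjective p := ⟨hp⟩
  exact ⟨fun hi F => injective_secPull h p hb pY sq.w hi F, fun hbij hm F =>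
    ⟨injective_secPull h p hb pY sq.w (fun Fb => (hbij Fb).1) F, surjective_secPull h p hb pY sq.w hbij hm F⟩⟩

end Groth.Agent.S3517
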