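import Groth.Statements.S3520
import Groth.Agent.H05EGA4.EtCl.CurveTorsApps

set_option autoImplicit false
universe u
open CategoryTheory CategoryTheory.Limits AlgebraicGeometry Opposite
open EtCd

namespace Groth.Agent.S3520

/-- Let X be a Noetherian scheme of dimension at most 1 and ℓ a prime invertible on X such that
cd_ℓ(κ(x)) ≤ 1 for every maximal point x of X (so the ring of rational functions has ℓ-cohomological
dimension ≤ 1), and assume the residue field of every closed point is separably closed. Then H^i(X,
G_m) has no ℓ-primary torsion for i ≥ 2. (In the published statement the subscript ℓ on these groups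
means 'no ℓ-torsion', and the result is stated in that sense: every element of H^i(X, G_m), i ≥ 2,
killed by a power of ℓ is zero.) -/
theorem result (X : Scheme.{u}) [IsNoetherian X] (hdim : topologicalKrullDim X ≤ 1)
    (ℓ : ℕ) (hℓ : ℓ.Prime) (hinv : Dix.InvertibleOn X ℓ)
    (hcd : ∀ x : X, closure {x} ∈ irreducibleComponents (X : Type u) → Dix.CohDimLEAt (Spec (X.residueField x)) ℓ 1)
    (hcl : ∀ x : X, IsClosed ({x} : Set X) → IsSepClosed (X.residueField x))
    (i : ℕ) (hi : 2 ≤ i) (ξ : EtCoh.H X (EtCoh.Gm X) i) (hξ : ∃ k : ℕ, ℓ ^ k • ξ = 0) : ξ = 0 := by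
  obtain ⟨k, hk⟩ := hξ
  exact H05EGA4.EtCl.eq_zero_of_pow_nsmul hdim hcl ℓ hℓ hinv
    (fun x hx => hcd x (H05EGA4.EtCl.closure_mem_irreducibleComponents hx)) k i hi ξ hk

end Groth.Agent.S3520
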