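import Groth.Statements.S3527
import Groth.Agent.H1CAlg.Tor
import Groth.Agent.H3CAlg.TorLES
import Groth.Agent.H3CAlg.TorBasic
import Mathlib.RingTheory.Flat.Equalizer

set_option autoImplicit false
universe u
open HTor

namespace Groth.Agent.S3527

open CategoryTheory CategoryTheory.Limits CategoryTheory.MonoidalCategory

theorem isZero_Tor_of_flat_right {A : Type u} [CommRing A] : ∀ (i : ℕ) (M : ModuleCat.{u} A) [Module.Flat A M]
    (N : ModuleCat.{u} A), IsZero (((CategoryTheory.Tor (ModuleCat.{u} A) (i + 1)).obj N).obj M) := by
  intro i
  induction i with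
  | zero =>
    intro M _ N
    obtain ⟨K, f, w, hS⟩ := Groth.Agent.H3CAlg.Tor.exists_presentation M
    haveI : Projective (ShortComplex.mk f (Projective.π M) w).X₂ := Projective.projective_over M
    exact (Groth.Agent.H3CAlg.Tor.isZero_one_iff_injective N _ hS).mpr
      (LinearMap.lTensor_injective_of_exact_of_flat (Projective.π M).hom
        ((ModuleCat.epi_iff_surjective _).mp hS.epi_g) f.hom ((ModuleCat.mono_iff_injective _).mp hS.mono_f)
        ((ShortComplex.ShortExact.moduleCat_exact_iff_function_exact _).mp hS.exact) N)
  | succ i ih =>
    intro M _ N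
    obtain ⟨K, f, w, hS⟩ := Groth.Agent.H3CAlg.Tor.exists_presentation M
    haveI : Module.Projective A (Projective.over M : ModuleCat.{u} A) :=
      ModuleCat.projective_of_module_projective _
    haveI : Module.Flat A K := by
      refine Module.Flat.iff_rTensor_injective'.mpr fun I => ?_
      have h1 : Function.Injective (f.hom.lTensor I) :=
        LinearMap.lTensor_injective_of_exact_of_flat (Projective.π M).hom
          ((ModuleCat.epi_iff_surjective _).mp hS.epi_g) f.hom ((ModuleCat.mono_iff_injective _).mp hS.mono_f)
          ((ShortComplex.ShortExact.moduleCat_exact_iff_function_exact _).mp hS.exact) I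
      have h2 := Module.Flat.rTensor_preserves_injective_linearMap (M := (Projective.over M : ModuleCat.{u} A))
        I.subtype I.subtype_injective
      refine Function.Injective.of_comp (f := f.hom.lTensor A) ?_
      rw [← LinearMap.coe_comp, LinearMap.lTensor_comp_rTensor, ← LinearMap.rTensor_comp_lTensor, LinearMap.coe_comp]
      exact h2.comp h1
    obtain ⟨-, -, δ, w₁, w₂, h₁, h₂⟩ := Groth.Agent.H3CAlg.Tor.les₂ N _ hS (i + 1)
    have hmono : Mono δ := h₁.mono_g ((isZero_Tor_succ_of_projective _ N (Projective.over M) (i + 1)).eq_of_src _ _)
    exact IsZero.of_mono δ (ih K N)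

/-- If A is a commutative ring and M is a flat A-module, then Tor_p^A(M, N) = 0 and Tor_p^A(N, M) = 0
for every A-module N and every p ≥ 1. (The published statement is about local hypertor sheaves over
general S, X, Y; in the affine case these are the sheaves attached to Tor_n^A, and only the
resulting statement about A-modules is given here. Tor is Mathlib's, left derived in the second
variable; vanishing is stated as Subsingleton, and both orders are stated.) -/
theorem result (A : Type u) [CommRing A] (M N : Type u) [AddCommGroup M] [Module A M]
    [AddCommGroup N] [Module A N] [Module.Flat A M] (p : ℕ) (hp : 0 < p) :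
    Subsingleton (DRing.Tor A p M N) ∧ Subsingleton (DRing.Tor A p N M) := by
  obtain ⟨i, rfl⟩ := Nat.exists_eq_succ_of_ne_zero hp.ne'
  exact ⟨ModuleCat.isZero_iff_subsingleton.mp (Groth.Agent.H1CAlg.isZero_Tor_of_flat (ModuleCat.of A M) (ModuleCat.of A N) i),
    ModuleCat.isZero_iff_subsingleton.mp (isZero_Tor_of_flat_right i (ModuleCat.of A M) (ModuleCat.of A N))⟩

end Groth.Agent.S3527
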