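import Groth.Statements.S3543
import Groth.Agent.H02CA.Kunneth.RelFlatTensor
import Groth.Agent.H02CA.FMConv.Comp
import Groth.Agent.H16Derived.QCohD.RpushUnb

set_option autoImplicit false
set_option backward.isDefEq.respectTransparency false
universe u
attribute [local instance] HasDerivedCategory.standard
open HTor

namespace Groth.Agent.S3543

open CategoryTheory CategoryTheory.Limits AlgebraicGeometry in
/-- Künneth formula over an arbitrary base scheme S, in derived form: let f₁ : X₁ ⟶ S and f₂ : X₂ ⟶ S be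
quasi-compact and separated, P₁ and P₂ complexes of quasi-coherent modules on X₁ and X₂ vanishing in
large degrees, with every term of P₁ flat over S, and f : X₁ ×_S X₂ ⟶ S the structure morphism. Let
E₂ be any complex of O_S-modules representing Rf₂_* P₂. Then, the derived functors involved being
taken under their existence binders, Rf_*(pr₁^* P₁ ⊗ pr₂^* P₂) and Rf₁_* P₁ ⊗^L E₂ are isomorphic in
D(O_S): the global hypertor of P₁ and P₂ over S is the hypercohomology of their external tensor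
product. (The published statement gives a canonical isomorphism of bi-∂-functors; only the existence
of an isomorphism is asserted here. It is also more general, with X₁ and X₂ over intermediate bases
Y⁽¹⁾ and Y⁽²⁾ over S; this is its case Y⁽¹⁾ = Y⁽²⁾ = S.) -/
theorem result {X₁ X₂ S : Scheme.{u}} (f₁ : X₁ ⟶ S) (f₂ : X₂ ⟶ S)
    [QuasiCompact f₁] [IsSeparated f₁] [QuasiCompact f₂] [IsSeparated f₂]
    [DCoh.HasRpush f₁] [DCoh.HasRpush f₂] [DCoh.HasRpush (pullback.fst f₁ f₂ ≫ f₁)]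
    (P₁ : CochainComplex X₁.Modules ℤ) (P₂ : CochainComplex X₂.Modules ℤ)
    (hq₁ : ∀ i : ℤ, Coh.IsQCoh (P₁.X i)) (hq₂ : ∀ i : ℤ, Coh.IsQCoh (P₂.X i))
    (b₁ : ∃ b : ℤ, ∀ i : ℤ, b < i → IsZero (P₁.X i)) (b₂ : ∃ b : ℤ, ∀ i : ℤ, b < i → IsZero (P₂.X i))
    (hfl : ∀ i : ℤ, FlatMod.IsFlatOver f₁ (P₁.X i))
    (E₂ : CochainComplex S.Modules ℤ) (hE₂ : Nonempty (DCoh.toD S E₂ ≅ (DCoh.Rpush f₂).obj (DCoh.toD X₂ P₂)))
    [DCoh.HasLTensorCx E₂] :
    Nonempty ((DCoh.Rpush (pullback.fst f₁ f₂ ≫ f₁)).obj (DCoh.toD _ (HTor.extTensorCx f₁ f₂ P₁ P₂)) ≅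
      (DCoh.LTensorCx E₂).obj ((DCoh.Rpush f₁).obj (DCoh.toD X₁ P₁))) := by
  open Groth.Agent.H16Derived Groth.Agent.H02CA Groth.Agent.H16Derived.KFlat.Stalk in
  exact by
    haveI := QCohD.hasRpush (pullback.snd f₁ f₂)
    haveI := hasLpull (pullback.fst f₁ f₂)
    haveI := hasLpull (pullback.snd f₁ f₂)
    haveI := hasLpull f₂
    obtain ⟨c₁, hc₁⟩ := b₁
    obtain ⟨c₂, hc₂⟩ := b₂
    obtain ⟨eE⟩ := hE₂
    haveI : P₂.IsStrictlyLE c₂ := (CochainComplex.isStrictlyLE_iff _ _).2 hc₂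
    let A := (HTor.pullCx (pullback.fst f₁ f₂)).obj P₁
    let m := DCoh.toD _ A
    let k := DCoh.toD X₂ P₂
    let r := (DCoh.Rpush f₁).obj (DCoh.toD X₁ P₁)
    have hk : DCoh.IsQCohD k := QCohD.AffineUnit.isQCohD_Q P₂ hq₂
    have hm : DCoh.IsQCohD m := QCohD.AffineUnit.isQCohD_Q A fun i => H29Fitt.isQCoh_pullback _ _ (hq₁ i)
    have hr : DCoh.IsQCohD r := QCohD.isQCohD_rpush f₁ (QCohD.AffineUnit.isQCohD_Q P₁ hq₁)
    obtain ⟨e₁⟩ := Kunneth.nonempty_tot_pull (pullback.snd f₁ f₂) A c₁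
      (fun q hq => Functor.map_isZero (Scheme.Modules.pullback (pullback.fst f₁ f₂)) (hc₁ q hq))
      (fun q => BaseChange.isFlatOver_pullback (IsPullback.of_hasPullback f₁ f₂) (hfl q)) P₂ c₂
    obtain ⟨p₁⟩ := FMConv.nonempty_projection_TFlip (pullback.snd f₁ f₂)
      ((Functor.const (Discrete PUnit.{1})).obj m) (fun _ => hm) hk
    obtain ⟨bc⟩ := Kunneth.nonempty_flat_baseChange (IsPullback.of_hasPullback f₁ f₂) P₁ ⟨c₁, hc₁⟩ hq₁ hfl
    obtain ⟨p₂⟩ := FMConv.nonempty_projection_TFlip f₂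
      ((Functor.const (Discrete PUnit.{1})).obj k) (fun _ => hk) hr
    obtain ⟨cw⟩ := H25FM.nonempty_rpush_comp (pullback.snd f₁ f₂) f₂ (pullback.fst f₁ f₂ ≫ f₁)
      pullback.condition.symm
    exact ⟨(cw.app _).symm ≪≫ (DCoh.Rpush f₂).mapIso
        ((DCoh.Rpush (pullback.snd f₁ f₂)).mapIso e₁ ≪≫ (p₁.app ⟨⟨⟩⟩).symm ≪≫
          ((Dual.T X₂).flip.obj k).mapIso bc.symm ≪≫ Dual.σ _ _) ≪≫
      (p₂.app ⟨⟨⟩⟩).symm ≪≫ ((Dual.T S).flip.obj r).mapIso eE.symm ≪≫ Dual.σ _ _ ≪≫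
      (Dual.ltensorCxIsoT E₂).app r⟩

end Groth.Agent.S3543
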