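import Groth.Statements.S3529
import Groth.Agent.H02CA.HTorComp.Tilde
import Groth.Agent.S3543
import Groth.Agent.LeadBrown.PerfTensor

set_option autoImplicit false
set_option backward.isDefEq.respectTransparency false
universe u
attribute [local instance] HasDerivedCategory.standard
open HTor

namespace Groth.Agent.S3529

open CategoryTheory CategoryTheory.Limits AlgebraicGeometry in
/-- Let A be a ring, X₁, X₂ quasi-compact separated schemes over Spec A and P₁, P₂ complexes of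
quasi-coherent modules on them vanishing in large degrees, every term of P₁ being flat over Spec A.
If L₁, L₂ are complexes of projective A-modules vanishing in large degrees that compute RΓ(X₁, P₁)
and RΓ(X₂, P₂) in D(A), then L₁ ⊗_A L₂ computes RΓ(X₁ ×_A X₂, pr₁^*P₁ ⊗ pr₂^*P₂): the global
hypertor of P₁ and P₂ over Spec A is the hypercohomology of their external tensor product. (The
published statement, over a general base and pair of base schemes, gives a canonical isomorphism;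
here the base is affine and equal to both, and only the existence of an isomorphism in D(A) is
asserted.) -/
theorem result (A : Type u) [CommRing A] (X₁ X₂ : Scheme.{u})
    (f₁ : X₁ ⟶ Spec (CommRingCat.of A)) (f₂ : X₂ ⟶ Spec (CommRingCat.of A))
    [QuasiCompact f₁] [IsSeparated f₁] [QuasiCompact f₂] [IsSeparated f₂]
    [HTor.HasRΓA f₁] [HTor.HasRΓA f₂] [HTor.HasRΓA (pullback.fst f₁ f₂ ≫ f₁)]
    (P₁ : CochainComplex X₁.Modules ℤ) (P₂ : CochainComplex X₂.Modules ℤ)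
    (hq₁ : ∀ i : ℤ, Coh.IsQCoh (P₁.X i)) (hq₂ : ∀ i : ℤ, Coh.IsQCoh (P₂.X i))
    (b₁ : ∃ b : ℤ, ∀ i : ℤ, b < i → IsZero (P₁.X i)) (b₂ : ∃ b : ℤ, ∀ i : ℤ, b < i → IsZero (P₂.X i))
    (hfl : ∀ i : ℤ, FlatMod.IsFlatOver f₁ (P₁.X i))
    (L₁ L₂ : DRing.Cx A) (hL₁ : ∀ i : ℤ, Projective (L₁.X i)) (hL₂ : ∀ i : ℤ, Projective (L₂.X i))
    (c₁ : ∃ c : ℤ, DRing.VanishesAbove L₁ c) (c₂ : ∃ c : ℤ, DRing.VanishesAbove L₂ c)
    (e₁ : HTor.Computes f₁ L₁ (DCoh.toD X₁ P₁)) (e₂ : HTor.Computes f₂ L₂ (DCoh.toD X₂ P₂)) :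
    HTor.Computes (pullback.fst f₁ f₂ ≫ f₁) (HTor.tensorCx L₁ L₂)
      (DCoh.toD (pullback f₁ f₂) (HTor.extTensorCx f₁ f₂ P₁ P₂)) := by
  open Groth.Agent.H16Derived Groth.Agent.H02CA Groth.Agent.H16Derived.KFlat.Stalk in
  exact by
    haveI := QCohD.hasRpush f₁
    haveI := QCohD.hasRpush f₂
    haveI := QCohD.hasRpush (pullback.fst f₁ f₂ ≫ f₁)
    haveI := hasLpull (pullback.snd f₁ f₂)
    haveI := KFlat.Stalk.hasLTensorCx (HTorComp.tX L₂)
    obtain ⟨d₁, hd₁⟩ := c₁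
    obtain ⟨cP, hcP⟩ := b₁
    obtain ⟨cQ, hcQ⟩ := b₂
    obtain ⟨eL₁⟩ := (HTorComp.computes_iff f₁ (QCohD.AffineUnit.isQCohD_Q P₁ hq₁) L₁).1 e₁
    obtain ⟨eL₂⟩ := (HTorComp.computes_iff f₂ (QCohD.AffineUnit.isQCohD_Q P₂ hq₂) L₂).1 e₂
    let φL := (tilde.functor (CommRingCat.of A)).mapDerivedCategoryFactors.app L₂
    obtain ⟨k⟩ := Groth.Agent.S3543.result f₁ f₂ P₁ P₂ hq₁ hq₂ ⟨cP, hcP⟩ ⟨cQ, hcQ⟩ hfl
      (HTorComp.tX L₂) ⟨φL.symm ≪≫ eL₂⟩
    haveI : P₂.IsStrictlyLE cQ := (CochainComplex.isStrictlyLE_iff _ _).2 hcQ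
    obtain ⟨t⟩ := Kunneth.nonempty_tot_pull (pullback.snd f₁ f₂)
      ((HTor.pullCx (pullback.fst f₁ f₂)).obj P₁) cP
      (fun q hq => Functor.map_isZero (Scheme.Modules.pullback (pullback.fst f₁ f₂)) (hcP q hq))
      (fun q => BaseChange.isFlatOver_pullback (IsPullback.of_hasPullback f₁ f₂) (hfl q)) P₂ cQ
    refine (HTorComp.computes_iff (pullback.fst f₁ f₂ ≫ f₁) (QCohD.isQCohD_iso t.symm
      (LeadBrown.isQCohD_T (QCohD.AffineUnit.isQCohD_Q _ fun i => H29Fitt.isQCoh_pullback _ _ (hq₁ i))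
        (QCohD.isQCohD_lpull _ (QCohD.AffineUnit.isQCohD_Q P₂ hq₂)))) _).2 ?_
    obtain ⟨eT⟩ := HTorComp.nonempty_T_tilde hL₁ d₁ hd₁ L₂
    exact ⟨eT.symm ≪≫ ((Dual.T _).obj _).mapIso φL ≪≫ (Dual.ltensorCxIsoT (HTorComp.tX L₂)).app _ ≪≫
      (DCoh.LTensorCx (HTorComp.tX L₂)).mapIso eL₁ ≪≫ k.symm⟩

end Groth.Agent.S3529
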