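import Groth.Statements.S3530
import Groth.Agent.H02CA.HTorComp.Tilde

set_option autoImplicit false
set_option backward.isDefEq.respectTransparency false
universe u
attribute [local instance] HasDerivedCategory.standard
open HTor

namespace Groth.Agent.S3530

open CategoryTheory CategoryTheory.Limits AlgebraicGeometry in
/-- Cohomology and base change for a complex flat over an affine base, in derived form. Let X be
quasi-compact and separated over Spec A, P a complex of quasi-coherent O_X-modules vanishing in
large degrees with every term flat over Spec A, and A → A′ any ring map; put X′ = X ×_A A′ and let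
P′ be the pulled-back complex on X′. If a complex L of projective A-modules vanishing in large
degrees computes RΓ(X, P) in D(A), then L ⊗_A A′ computes RΓ(X′, P′) in D(A′). No flatness of A′
over A is assumed. The published statement gives a canonical isomorphism; here only the existence of
an isomorphism in D(A′) is asserted. -/
theorem result (A A' : Type u) [CommRing A] [CommRing A'] (φ : A →+* A')
    (X : Scheme.{u}) (f : X ⟶ Spec (CommRingCat.of A)) [QuasiCompact f] [IsSeparated f] [HTor.HasRΓA f]
    [HTor.HasRΓA (pullback.snd f (Spec.map (CommRingCat.ofHom φ)))]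
    (P : CochainComplex X.Modules ℤ) (hq : ∀ i : ℤ, Coh.IsQCoh (P.X i))
    (bP : ∃ b : ℤ, ∀ i : ℤ, b < i → IsZero (P.X i)) (hfl : ∀ i : ℤ, FlatMod.IsFlatOver f (P.X i))
    (L : DRing.Cx A) (hL : ∀ i : ℤ, Projective (L.X i)) (c : ∃ c : ℤ, DRing.VanishesAbove L c)
    (e : HTor.Computes f L (DCoh.toD X P)) :
    HTor.Computes (pullback.snd f (Spec.map (CommRingCat.ofHom φ))) (CohIII.bcCx φ L)
      (DCoh.toD _ ((HTor.pullCx (pullback.fst f (Spec.map (CommRingCat.ofHom φ)))).obj P)) := by
  open Groth.Agent.H16Derived Groth.Agent.H02CA Groth.Agent.H16Derived.KFlat.Stalk in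
  exact by
    haveI := QCohD.hasRpush f
    haveI := QCohD.hasRpush (pullback.snd f (Spec.map (CommRingCat.ofHom φ)))
    haveI := hasLpull (Spec.map (CommRingCat.ofHom φ))
    haveI := hasLpull (pullback.fst f (Spec.map (CommRingCat.ofHom φ)))
    obtain ⟨cL, hcL⟩ := c
    obtain ⟨eL⟩ := (HTorComp.computes_iff f (QCohD.AffineUnit.isQCohD_Q P hq) L).1 e
    refine (HTorComp.computes_iff (pullback.snd f (Spec.map (CommRingCat.ofHom φ)))
      (QCohD.AffineUnit.isQCohD_Q _ fun i => H29Fitt.isQCoh_pullback _ _ (hq i)) _).2 ?_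
    obtain ⟨bc⟩ := Kunneth.nonempty_flat_baseChange
      (IsPullback.of_hasPullback f (Spec.map (CommRingCat.ofHom φ))) P bP hq hfl
    obtain ⟨eT⟩ := HTorComp.nonempty_lpull_tilde φ hL cL hcL
    exact ⟨eT.symm ≪≫ (DCoh.Lpull _).mapIso eL ≪≫ bc⟩

end Groth.Agent.S3530
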