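import Groth.Statements.S3531
import Groth.Agent.H02CA.HTorComp.Tilde
import Groth.Agent.H02CA.FMConv.Comp
import Groth.Agent.LeadBrown.PerfTensor

set_option autoImplicit false
set_option backward.isDefEq.respectTransparency false
universe u
attribute [local instance] HasDerivedCategory.standard
open HTor

namespace Groth.Agent.S3531

open CategoryTheory CategoryTheory.Limits AlgebraicGeometry in
/-- (One factor, base Spec A, in derived form.) Let X be quasi-compact and separated over Spec A via f,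
and P a complex of quasi-coherent O_X-modules vanishing in large degrees, with every term flat over
Spec A. If a complex L of projective A-modules vanishing in large degrees computes RΓ(X, P), then
for every complex Q of A-modules vanishing in large degrees, L ⊗_A Q computes RΓ(X, P ⊗_A Q), where
P ⊗_A Q is the total complex of the P^i ⊗_{O_X} f^*(Q^j)~. (The published statement gives a
canonical isomorphism; here only the existence of an isomorphism in D(A) is asserted.) -/
theorem result (A : Type u) [CommRing A] (X : Scheme.{u})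
    (f : X ⟶ Spec (CommRingCat.of A)) [QuasiCompact f] [IsSeparated f] [HTor.HasRΓA f]
    (P : CochainComplex X.Modules ℤ) (hq : ∀ i : ℤ, Coh.IsQCoh (P.X i))
    (bP : ∃ b : ℤ, ∀ i : ℤ, b < i → IsZero (P.X i)) (hfl : ∀ i : ℤ, FlatMod.IsFlatOver f (P.X i))
    (L : DRing.Cx A) (hL : ∀ i : ℤ, Projective (L.X i)) (c : ∃ c : ℤ, DRing.VanishesAbove L c)
    (e : HTor.Computes f L (DCoh.toD X P)) (Q : DRing.Cx A) (bQ : ∃ b : ℤ, DRing.VanishesAbove Q b) :
    HTor.Computes f (HTor.tensorCx L Q) (DCoh.toD X (HTor.tensorACx f P Q)) := by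
  open Groth.Agent.H16Derived Groth.Agent.H02CA Groth.Agent.H16Derived.KFlat.Stalk in
  exact by
    haveI := QCohD.hasRpush f
    haveI := hasLpull f
    obtain ⟨cL, hcL⟩ := c
    obtain ⟨cP, hcP⟩ := bP
    obtain ⟨cQ, hcQ⟩ := bQ
    have hP : DCoh.IsQCohD (DCoh.toD X P) := QCohD.AffineUnit.isQCohD_Q P hq
    obtain ⟨eL⟩ := (HTorComp.computes_iff f hP L).1 e
    haveI : (HTorComp.tX Q).IsStrictlyLE cQ := (CochainComplex.isStrictlyLE_iff _ _).2
      fun i hi => Functor.map_isZero (tilde.functor (CommRingCat.of A)) (hcQ i hi)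
    let tQ := (DCoh.tildeD (CommRingCat.of A)).obj (DRing.toD Q)
    have htQ : DCoh.IsQCohD tQ := QCohD.isQCohD_tildeD _ _
    obtain ⟨e₁⟩ := Kunneth.nonempty_tot_pull f P cP hcP hfl (HTorComp.tX Q) cQ
    let e₂ : DCoh.toD X (HTor.tensorACx f P Q) ≅
        ((Dual.T X).obj (DCoh.toD X P)).obj ((DCoh.Lpull f).obj tQ) :=
      e₁ ≪≫ ((Dual.T X).obj _).mapIso ((DCoh.Lpull f).mapIso
        ((tilde.functor (CommRingCat.of A)).mapDerivedCategoryFactors.app Q).symm)
    refine (HTorComp.computes_iff f (QCohD.isQCohD_iso e₂.symm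
      (LeadBrown.isQCohD_T hP (QCohD.isQCohD_lpull f htQ))) _).2 ?_
    obtain ⟨p⟩ := FMConv.nonempty_projection_TFlip f
      ((Functor.const (Discrete PUnit.{1})).obj (DCoh.toD X P)) (fun _ => hP) htQ
    obtain ⟨eT⟩ := HTorComp.nonempty_T_tilde hL cL hcL Q
    exact ⟨eT.symm ≪≫ ((Dual.T _).flip.obj tQ).mapIso eL ≪≫ p.app ⟨⟨⟩⟩ ≪≫
      (DCoh.Rpush f).mapIso e₂.symm⟩

end Groth.Agent.S3531
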