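import Groth.Statements.S3532
import Groth.Agent.H16Derived.ML

set_option autoImplicit false
universe u
open HomAlg3

namespace Groth.Agent.S3532

open Opposite
open Groth.Agent.H16Derived.ML

open CategoryTheory in
/-- Category of abelian groups, system indexed by the natural numbers: Let (A_k)_{k ≥ 0} be an inverse
system of abelian groups. For p ≤ k write Im_k(A_p) for the image of A_k → A_p, and K_p for the
kernel of A_p → A_{p-1} (K_0 = A_0). Then (A_k) satisfies the Mittag-Leffler condition (for each p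
the subgroups Im_k(A_p) are eventually constant in k) if and only if for each p the subgroups
Im_k(A_p) ∩ K_p are eventually constant in k. -/
theorem result (F : ℕᵒᵖ ⥤ AddCommGrpCat.{u}) :
    (F ⋙ forget AddCommGrpCat).IsMittagLeffler ↔
      ((∃ k₀ : ℕ, ∀ (k : ℕ) (hk : k₀ ≤ k),
          (F.map (homOfLE (Nat.zero_le k)).op).hom.range = (F.map (homOfLE (Nat.zero_le k₀)).op).hom.range) ∧
        ∀ p : ℕ, ∃ k₀ : ℕ, ∃ h₀ : p + 1 ≤ k₀, ∀ (k : ℕ) (hk : k₀ ≤ k),
          (F.map (homOfLE (h₀.trans hk)).op).hom.range ⊓ (F.map (homOfLE (Nat.le_succ p)).op).hom.ker =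
            (F.map (homOfLE h₀).op).hom.range ⊓ (F.map (homOfLE (Nat.le_succ p)).op).hom.ker) := by
  have le : ∀ {i j k : ℕ} (h : i ≤ j) (h' : j ≤ k),
      (F.map (homOfLE (h.trans h')).op).hom.range ≤ (F.map (homOfLE h).op).hom.range := by
    rintro i j k h h' _ ⟨y, rfl⟩
    exact ⟨trHom F h' y, trHom_trHom F h h' y⟩
  constructor
  · intro hF
    have H := (isMittagLeffler_iff_ab F).1 hF
    refine ⟨?_, fun p => ?_⟩
    · obtain ⟨j, hij, hj⟩ := H 0
      refine ⟨j, fun k hk => le_antisymm (le hij hk) ?_⟩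
      rintro _ ⟨x, rfl⟩
      exact hj k hk x
    · obtain ⟨j, hij, hj⟩ := H (p + 1)
      refine ⟨j, hij, fun k hk => le_antisymm (inf_le_inf_right _ (le hij hk))
        (inf_le_inf_right _ ?_)⟩
      rintro _ ⟨x, rfl⟩
      exact hj k hk x
  · rintro ⟨⟨k₀, h₀⟩, hgr⟩
    refine (isMittagLeffler_iff_ab F).2 fun i => ?_
    induction i with
    | zero =>
      refine ⟨k₀, Nat.zero_le _, fun k hk x => ?_⟩
      have hx : trHom F (Nat.zero_le k₀) x ∈ (F.map (homOfLE (Nat.zero_le k₀)).op).hom.range :=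
        ⟨x, rfl⟩
      rw [← h₀ k hk] at hx
      exact hx
    | succ p ih =>
      obtain ⟨j, hij, hj⟩ := ih
      obtain ⟨k₁, h₁, hk₁⟩ := hgr p
      have hjm : j ≤ max j k₁ := le_max_left _ _
      have hkm : k₁ ≤ max j k₁ := le_max_right _ _
      refine ⟨max j k₁, h₁.trans hkm, fun k hk x => ?_⟩
      obtain ⟨y, hy⟩ := hj k (hjm.trans hk) (trHom F hjm x)
      have hd : trHom F (h₁.trans hkm) x - trHom F (h₁.trans (hkm.trans hk)) y ∈
          (F.map (homOfLE h₁).op).hom.range ⊓ (F.map (homOfLE (Nat.le_succ p)).op).hom.ker := by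
        refine ⟨⟨trHom F hkm x - trHom F (hkm.trans hk) y, ?_⟩, ?_⟩
        · change trHom F h₁ _ = _
          rw [map_sub, trHom_trHom, trHom_trHom]
        · change trHom F (Nat.le_succ p) _ = 0
          rw [map_sub, trHom_trHom, trHom_trHom, hy, trHom_trHom, sub_self]
      rw [← hk₁ k (hkm.trans hk)] at hd
      obtain ⟨z, hz⟩ := hd.1
      refine ⟨y + z, ?_⟩
      rw [map_add]
      exact (congrArg _ hz).trans (add_sub_cancel _ _)

end Groth.Agent.S3532
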