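import Groth.Statements.S3533
import Groth.Agent.H02CA.HTorCoh.Main

set_option autoImplicit false
set_option backward.isDefEq.respectTransparency false
universe u
attribute [local instance] HasDerivedCategory.standard
open HTor

namespace Groth.Agent.S3533

open CategoryTheory CategoryTheory.Limits AlgebraicGeometry in
/-- Let f : X ⟶ S be a flat morphism with X locally Noetherian, g : Y ⟶ S a morphism, and suppose Z = X
×_S Y is locally Noetherian. As X is flat over S, the local hypertor sheaves Tor_n^S(F, G) on Z are
taken to be the cohomology sheaves in degree −n of L pr₁^* F ⊗^L pr₂^* G, where pr₂^* G is the plain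
pullback of G viewed as a complex in degree 0 and the derived pullback L pr₁^* and the derived
tensor product are taken under their existence binders; the statement is made in that form. Then for
F a coherent O_X-module and G a coherent O_Y-module, every cohomology sheaf of L pr₁^* F ⊗^L pr₂^* G
is a coherent O_Z-module. -/
theorem result (X Y S : Scheme.{u}) (f : X ⟶ S) (g : Y ⟶ S) [Flat f]
    [IsLocallyNoetherian X] [IsLocallyNoetherian (pullback f g)] (F : X.Modules) (G : Y.Modules)
    (hF : Coh.IsCoh F) (hG : Coh.IsCoh G) [DCoh.HasLpull (pullback.fst f g)]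
    [DCoh.HasLTensorCx ((HTor.pullCx (pullback.snd f g)).obj
      ((HomologicalComplex.single Y.Modules (ComplexShape.up ℤ) 0).obj G))] (n : ℤ) :
    Coh.IsCoh (DCoh.HD ((DCoh.LTensorCx ((HTor.pullCx (pullback.snd f g)).obj
      ((HomologicalComplex.single Y.Modules (ComplexShape.up ℤ) 0).obj G))).obj
        ((DCoh.Lpull (pullback.fst f g)).obj (DCoh.inD X F))) n) := by
  let e : DCoh.toD Y ((HomologicalComplex.single Y.Modules (ComplexShape.up ℤ) 0).obj G) ≅ DCoh.inD Y G :=
    ((DerivedCategory.singleFunctorIsoCompQ Y.Modules 0).app G).symm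
  haveI : (DCoh.toD Y ((HomologicalComplex.single Y.Modules (ComplexShape.up ℤ) 0).obj G)).IsLE 0 :=
    DerivedCategory.TStructure.t.isLE_of_iso e.symm 0
  exact H02CA.HTorCoh.main f g (DCoh.inD X F) (H02CA.HTorCoh.isCohD_inD hF) 0 _
    (H16Derived.Dual.isCohD_iso e.symm (H02CA.HTorCoh.isCohD_inD hG)) 0 n

end Groth.Agent.S3533
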