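import Groth.Statements.S3537
import Groth.Agent.H26Tor.BaseChange

set_option autoImplicit false
universe u
open HTor

namespace Groth.Agent.S3537

open CategoryTheory CategoryTheory.Limits MonoidalCategory

/-- Base change for Tor: let A → A′ be a homomorphism of commutative rings, P an A-module with
Tor_q^A(P, A′) = 0 for all q ≥ 1, and Q′ an A′-module, regarded also as an A-module. Then for every
n ≥ 0 there is a bijective map Tor_n^A(P, Q′) → Tor_n^{A′}(A′ ⊗_A P, Q′) that is semilinear over A →
A′. Here Tor is the left derived functor of the tensor product in the second variable, and only the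
existence of such a bijective semilinear map is asserted. The published statement is the degenerate
case of a base-change spectral sequence for hypertor of modules over schemes; stated here in the
affine case with a single module. -/
theorem result (A A' : Type u) [CommRing A] [CommRing A'] [Algebra A A']
    (P : Type u) [AddCommGroup P] [Module A P] (Q' : Type u) [AddCommGroup Q'] [Module A' Q'] [Module A Q']
    [IsScalarTower A A' Q'] (hP : ∀ q : ℕ, 0 < q → Subsingleton (DRing.Tor A q P A')) (n : ℕ) :
    ∃ φ : DRing.Tor A n P Q' →ₛₗ[algebraMap A A'] DRing.Tor A' n (TensorProduct A A' P) Q',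
      Function.Bijective φ := by
  let L := projectiveResolution (ModuleCat.of A P)
  obtain ⟨φ, hφ⟩ := H26Tor.exists_semilinear_tor_left (A := A) (A' := A') Q' L (fun m => by
    haveI := hP (m + 1) (Nat.succ_pos m)
    obtain ⟨u⟩ := H26Tor.balance L (m + 1) (ModuleCat.of A A')
    have hz : IsZero (((Tor (ModuleCat.{u} A) (m + 1)).obj (ModuleCat.of A P)).obj (ModuleCat.of A A')) :=
      ModuleCat.isZero_of_subsingleton _
    exact ((((H26Tor.leftRes L).obj (ModuleCat.of A A')).exactAt_iff_isZero_homology _).2 (hz.of_iso u.symm)).of_iso
      ((NatIso.mapHomologicalComplex (BraidedCategory.tensorLeftIsoTensorRight (ModuleCat.of A A')) (ComplexShape.down ℕ)).app L.complex).symm) n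
  let e := ((Tor (ModuleCat.{u} A') n).mapIso
    (H26Tor.extendEquiv (A' := A') (ModuleCat.of A P)).symm.toModuleIso).app (ModuleCat.of A' Q')
  exact ⟨e.toLinearEquiv.toLinearMap.comp φ, e.toLinearEquiv.bijective.comp hφ⟩

end Groth.Agent.S3537
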