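import Groth.Statements.S3538
import Groth.Agent.LeadBrown.RHomPullPC
import Groth.Agent.LeadBrown.BCAdjointPC
import Groth.Agent.H16Derived.Dual.Main
import Groth.Agent.H16Derived.Dual.PseudoCoh

set_option autoImplicit false
universe u
attribute [local instance] HasDerivedCategory.standard
open HomAlg3

namespace Groth.Agent.S3538

open CategoryTheory CategoryTheory.Limits AlgebraicGeometry in
/-- Let f : X ⟶ Y be a flat morphism of schemes with Y locally Noetherian, F a coherent O_Y-module and G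
any O_Y-module. Then for every p the O_X-modules f^* Ext^p_{O_Y}(F, G) and Ext^p_{O_X}(f^* F, f^* G)
are isomorphic. Here Ext^p(F, G) is the p-th cohomology sheaf of RHom(F, G), the internal hom of the
derived category, taken under instance hypotheses asserting its existence. (Only the existence of an
isomorphism is asserted; the published statement is stronger: the canonical comparison maps are
isomorphisms.) -/
theorem result (X Y : Scheme.{u}) (f : X ⟶ Y) [Flat f] [IsLocallyNoetherian Y]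
    (F G : Y.Modules) (hF : Coh.IsCoh F)
    [DCoh.HasLTensorCx ((HomologicalComplex.single Y.Modules (ComplexShape.up ℤ) 0).obj F)]
    [DCoh.HasRSheafHom ((HomologicalComplex.single Y.Modules (ComplexShape.up ℤ) 0).obj F)]
    [DCoh.HasLTensorCx ((HomologicalComplex.single X.Modules (ComplexShape.up ℤ) 0).obj ((Scheme.Modules.pullback f).obj F))]
    [DCoh.HasRSheafHom ((HomologicalComplex.single X.Modules (ComplexShape.up ℤ) 0).obj ((Scheme.Modules.pullback f).obj F))]
    (p : ℤ) :
    Nonempty ((Scheme.Modules.pullback f).obj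
        (DCoh.HD ((DCoh.RSheafHom ((HomologicalComplex.single Y.Modules (ComplexShape.up ℤ) 0).obj F)).obj (DCoh.inD Y G)) p) ≅
      DCoh.HD ((DCoh.RSheafHom ((HomologicalComplex.single X.Modules (ComplexShape.up ℤ) 0).obj
        ((Scheme.Modules.pullback f).obj F))).obj (DCoh.inD X ((Scheme.Modules.pullback f).obj G))) p) := by
  open Groth.Agent in
  open Groth.Agent.H16Derived in
  classical
  haveI := QCohD.hasRpush f
  haveI := KFlat.Stalk.hasLpull f
  haveI := KFlat.Stalk.preservesFiniteLimits_pullback_of_flat f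
  let φ := Scheme.Modules.pullback f
  haveI : φ.Additive := Functor.additive_of_preserves_binary_products _
  haveI : (DCoh.inD Y F).IsLE 0 := inferInstanceAs (((DerivedCategory.singleFunctor Y.Modules 0).obj F).IsLE 0)
  haveI : (DCoh.inD Y G).IsGE 0 := inferInstanceAs (((DerivedCategory.singleFunctor Y.Modules 0).obj G).IsGE 0)
  have hpc := fun m => KFlat.Stalk.isPseudoCoherentD_inD_of_isCoh' hF m
  haveI := LeadBrown.isIso_wR_pseudoCoherent f 0
    (fun M a ha => by simpa using LeadBrown.isGE_lpull_flat f M a ha) hpc (DCoh.inD Y G) 0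
  obtain ⟨eR⟩ := H8Props.ClosedBC.nonempty_lpull_flat f ((Dual.R (DCoh.inD Y F)).obj (DCoh.inD Y G))
  obtain ⟨eF⟩ := H8Props.ClosedBC.nonempty_lpull_flat f (DCoh.inD Y F)
  obtain ⟨eG⟩ := H8Props.ClosedBC.nonempty_lpull_flat f (DCoh.inD Y G)
  have hs : ∀ M : Y.Modules, Nonempty (φ.mapDerivedCategory.obj (DCoh.inD Y M) ≅ DCoh.inD X (φ.obj M)) := fun M =>
    ⟨(φ.mapDerivedCategorySingleFunctor 0).app M⟩
  obtain ⟨sF⟩ := hs F
  obtain ⟨sG⟩ := hs G
  let SF := (HomologicalComplex.single Y.Modules (ComplexShape.up ℤ) 0).obj F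
  let SX := (HomologicalComplex.single X.Modules (ComplexShape.up ℤ) 0).obj (φ.obj F)
  let iF : DCoh.inD Y F ≅ DerivedCategory.Q.obj SF :=
    (DerivedCategory.singleFunctorIsoCompQ Y.Modules 0).app F
  let iX : DCoh.inD X (φ.obj F) ≅ DerivedCategory.Q.obj SX :=
    (DerivedCategory.singleFunctorIsoCompQ X.Modules 0).app (φ.obj F)
  let eY : (DCoh.RSheafHom SF).obj (DCoh.inD Y G) ≅ (Dual.R (DCoh.inD Y F)).obj (DCoh.inD Y G) :=
    (Dual.rsheafHomIso SF ≪≫ Dual.RIso iF.symm).app _
  let eX : (DCoh.RSheafHom SX).obj (DCoh.inD X (φ.obj G)) ≅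
      (DCoh.Lpull f).obj ((Dual.R (DCoh.inD Y F)).obj (DCoh.inD Y G)) :=
    (Dual.rsheafHomIso SX ≪≫ Dual.RIso (iX.symm ≪≫ sF.symm ≪≫ eF.symm)).app _ ≪≫
      (Dual.R ((DCoh.Lpull f).obj (DCoh.inD Y F))).mapIso (sG.symm ≪≫ eG.symm) ≪≫
      (asIso (LeadBrown.wR f (DCoh.inD Y F) (DCoh.inD Y G))).symm
  let Z := DerivedCategory.Q.objPreimage ((Dual.R (DCoh.inD Y F)).obj (DCoh.inD Y G))
  let eZ := DerivedCategory.Q.objObjPreimageIso ((Dual.R (DCoh.inD Y F)).obj (DCoh.inD Y G))
  exact ⟨φ.mapIso ((DerivedCategory.homologyFunctor _ p).mapIso (eY ≪≫ eZ.symm) ≪≫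
      (DerivedCategory.homologyFunctorFactors _ p).app Z) ≪≫
    ((Z.sc p).mapHomologyIso φ).symm ≪≫
    ((DerivedCategory.homologyFunctorFactors _ p).app ((φ.mapHomologicalComplex _).obj Z)).symm ≪≫
    (DerivedCategory.homologyFunctor _ p).mapIso ((φ.mapDerivedCategoryFactors.app Z).symm ≪≫
      φ.mapDerivedCategory.mapIso eZ ≪≫ eR.symm ≪≫ eX.symm)⟩

end Groth.Agent.S3538
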