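import Groth.Statements.S3541
import Groth.Agent.H02CA.HTorComp.Bound
import Groth.Agent.H16Derived.QCohD.AffineUnit
import Groth.Agent.H4DR.Hom.Regular

set_option autoImplicit false
set_option backward.isDefEq.respectTransparency false
universe u
attribute [local instance] HasDerivedCategory.standard
open HTor

namespace Groth.Agent.S3541

open CategoryTheory CategoryTheory.Limits AlgebraicGeometry in
/-- Let A be a ring all of whose modules have projective dimension ≤ d, X a scheme with a quasi-compact
separated morphism f : X → Spec A, covered by N + 1 affine opens, and P a complex of quasi-coherent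
O_X-modules with P^k = 0 unless a ≤ k ≤ b. Then RΓ(X, P) ∈ D(A) is represented by a complex L of
projective A-modules with L^k = 0 unless a - d ≤ k ≤ b + N. (The published statement gives a
canonical isomorphism, in a more general relative setting with several factors; here only one factor
over the base Spec A is treated and only the existence of an isomorphism in D(A) is asserted.) -/
theorem result (A : Type u) [CommRing A] (d : ℕ)
    (hA : ∀ M : ModuleCat.{u} A, HasProjectiveDimensionLT M (d + 1)) (X : Scheme.{u})
    (f : X ⟶ Spec (CommRingCat.of A)) [QuasiCompact f] [IsSeparated f] [HTor.HasRΓA f]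
    (N : ℕ) (U : Fin (N + 1) → X.Opens) (hU : ∀ i, IsAffineOpen (U i)) (hcov : ⨆ i, U i = ⊤)
    (P : CochainComplex X.Modules ℤ) (hq : ∀ i : ℤ, Coh.IsQCoh (P.X i)) (a b : ℤ)
    (hab : ∀ i : ℤ, i < a ∨ b < i → IsZero (P.X i)) :
    ∃ L : DRing.Cx A, (∀ i : ℤ, Module.Projective A (L.X i)) ∧ DRing.VanishesOutside L (a - d) (b + N) ∧
      HTor.Computes f L (DCoh.toD X P) := by
  open Groth.Agent.H16Derived Groth.Agent.H02CA Groth.Agent.H16Derived.KFlat.Stalk Groth.Agent.H4DR in
  exact by
    haveI := QCohD.hasRpush f
    have hK : DCoh.IsQCohD (DCoh.toD X P) := QCohD.AffineUnit.isQCohD_Q P hq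
    haveI : P.IsStrictlyLE b := (CochainComplex.isStrictlyLE_iff _ _).2 (fun i hi => hab i (Or.inr hi))
    obtain ⟨M, ⟨eM⟩, ⟨tM⟩⟩ := HTorComp.exists_computes f hK
    have hM : ∀ i, b + (N : ℤ) < i → Subsingleton (Dual.HD A (DRing.toD M) i) := fun i hi => by
      haveI : DerivedCategory.IsLE (DCoh.toD X P) b := inferInstance
      exact HTorComp.subsingleton_HD_of_isZero _ i ((QCohD.isZero_rpush_of_isLE f
        (HTorComp.bound_of_affine_cover f N U hU hcov) _ hK b i (by push_cast; omega)).of_iso
          ((DerivedCategory.homologyFunctor _ i).mapIso tM))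
    haveI : P.IsStrictlyGE a := (CochainComplex.isStrictlyGE_iff _ _).2 fun i hi => hab i (Or.inl hi)
    have hlo : ∀ i, i < a → Subsingleton (Dual.HD A (DRing.toD M) i) := fun i hi => by
      haveI : DerivedCategory.IsGE (DCoh.toD X P) a := inferInstance
      haveI := KFlat.Stalk.isGE_rpush f (DCoh.toD X P) a
      exact HTorComp.subsingleton_HD_of_isZero _ i
        ((DerivedCategory.isZero_of_isGE ((DCoh.Rpush f).obj (DCoh.toD X P)) a i hi).of_iso
          ((DerivedCategory.homologyFunctor _ i).mapIso tM))
    obtain ⟨L, hL, ⟨eL⟩⟩ := TorAmp.exists_projRep hM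
    have hco := Hom.projective_coker_of_pd hL d a (hA _) fun j _ hj =>
      Hom.exactAt_of_subsingleton eL (hlo j hj)
    obtain ⟨h3, h4⟩ := Hom.truncGE_projective hL hco
    haveI : L.IsGE (a - d) := (CochainComplex.isGE_iff L _).2 fun i hi =>
      Hom.exactAt_of_subsingleton eL (hlo i (by omega))
    exact ⟨_, h4, h3, ⟨(asIso (DerivedCategory.Q.map (L.πTruncGE (a - d)))).symm ≪≫ eL ≪≫ eM⟩⟩

end Groth.Agent.S3541
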