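import Groth.Statements.S3544
import Groth.Agent.H16Derived.Euler

set_option autoImplicit false
universe u
open HomAlg3

namespace Groth.Agent.S3544

open CategoryTheory CategoryTheory.Limits in
/-- Let E be a cohomological spectral sequence of modules over a ring A, starting at page 2, such that
the E₂ terms have finite length and only finitely many of them (all inside the finite set s of
bidegrees) are nonzero. Then for every r ≥ 2 the Euler–Poincaré characteristic of page r, the
alternating sum over s of (-1)^{p+q} times the length of E_r^{pq}, equals that of page 2. -/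
theorem result {A : Type u} [Ring A]
    (E : E₂CohomologicalSpectralSequence (ModuleCat.{u} A)) (s : Finset (ℤ × ℤ))
    (hs : ∀ pq : ℤ × ℤ, pq ∉ s → IsZero ((E.page 2).X pq))
    (hfl : ∀ pq : ℤ × ℤ, IsFiniteLength A ((E.page 2).X pq)) (r : ℤ) (hr : 2 ≤ r) :
    (s.sum fun pq => (((pq.1 + pq.2).negOnePow : ℤˣ) : ℤ) * ((Module.length A ((E.page r hr).X pq)).toNat : ℤ)) =
      s.sum fun pq => (((pq.1 + pq.2).negOnePow : ℤˣ) : ℤ) * ((Module.length A ((E.page 2).X pq)).toNat : ℤ) := by
  open Groth.Agent.H16Derived.Euler in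
  suffices H : ∀ n : ℕ, ∀ (h : (2 : ℤ) ≤ 2 + n),
      (∀ pq : ℤ × ℤ, pq ∉ s → IsZero ((E.page (2 + n) h).X pq)) ∧
      (∀ pq : ℤ × ℤ, IsFiniteLength A ((E.page (2 + n) h).X pq)) ∧
      (s.sum fun pq => (((pq.1 + pq.2).negOnePow : ℤˣ) : ℤ) * ((Module.length A ((E.page (2 + n) h).X pq)).toNat : ℤ)) =
      s.sum fun pq => (((pq.1 + pq.2).negOnePow : ℤˣ) : ℤ) * ((Module.length A ((E.page 2).X pq)).toNat : ℤ) by
    obtain ⟨n, rfl⟩ := Int.le.dest hr
    exact (H n hr).2.2
  intro n
  induction n with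
  | zero => intro h; exact ⟨hs, hfl, rfl⟩
  | succ n ih =>
    intro h
    obtain ⟨hz, hf, heq⟩ := ih (by lia)
    let e := fun pq => E.iso (2 + n) (2 + (n + 1 : ℕ)) pq (by lia) (by lia)
    refine ⟨fun pq hpq => ?_, fun pq => ?_, ?_⟩
    · exact (ShortComplex.exact_iff_isZero_homology _).1
        (ShortComplex.exact_of_isZero_X₂ _ (hz pq hpq)) |>.of_iso (e pq).symm
    · have := isFiniteLength_homology ((E.page (2 + n) (by lia)).sc pq) (hf pq)
      rw [← Module.length_ne_top_iff] at this ⊢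
      rw [← (e pq).toLinearEquiv.length_eq]
      exact this
    · rw [← heq]
      refine Eq.trans (Finset.sum_congr rfl fun pq _ => ?_)
        (euler (E.page (2 + n) (by lia)) (fun pq => (((pq.1 + pq.2).negOnePow : ℤˣ) : ℤ))
          ?_ s hz hf).symm
      · rw [← (e pq).toLinearEquiv.length_eq]
      · intro i j hij
        obtain rfl : i + (⟨2 + (n : ℤ), 1 - (2 + (n : ℤ))⟩ : ℤ × ℤ) = j := hij
        rw [show (i + (⟨2 + (n : ℤ), 1 - (2 + (n : ℤ))⟩ : ℤ × ℤ)).1 +
          (i + (⟨2 + (n : ℤ), 1 - (2 + (n : ℤ))⟩ : ℤ × ℤ)).2 = i.1 + i.2 + 1 by simp; ring]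
        simp [Int.negOnePow_succ]

end Groth.Agent.S3544
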