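import Groth.Statements.S3547
import Groth.Agent.H11Tilde.Frac

set_option autoImplicit false
universe u
open CategoryTheory CategoryTheory.Limits AlgebraicGeometry
open EGA2

open TopologicalSpace Opposite
namespace Groth.Agent.S3547

/-- Let S be a graded ring, M a graded S-module, X = Proj S and p a point of X. The stalk of M(n)~ at p
is the module of fractions m/f in M_p with m, f homogeneous, f not in p and deg m = deg f + n:
precisely, evaluation at p is a bijection from the stalk at p of the sheaf of local sections of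
M(n)~ onto that module of fractions. -/
theorem result {R A : Type u} [CommRing R] [CommRing A] [Algebra R A] (𝒜 : ℕ → Submodule R A) [GradedAlgebra 𝒜]
    {M : Type u} [AddCommGroup M] [Module R M] [Module A M] [IsScalarTower R A M] (ℳ : ℕ → Submodule R M) [DirectSum.Decomposition ℳ] [SetLike.GradedSMul 𝒜 ℳ] (n : ℤ)
    (p : ProjectiveSpectrum 𝒜) :
    Function.Bijective (TopCat.stalkToFiber (GrTilde.isLocFrac 𝒜 ℳ n) p) := by
  refine ⟨TopCat.stalkToFiber_injective _ _ ?_, TopCat.stalkToFiber_surjective _ _ ?_⟩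
  · intro U V fU hfU fV hfV heq
    obtain ⟨U', hpU, iU, i, j, ⟨a, ha⟩, ⟨s, hs⟩, snin, -, hwU⟩ := hfU ⟨p, U.2⟩
    obtain ⟨V', hpV, iV, i', j', ⟨b, hb⟩, ⟨t, ht⟩, tnin, -, hwV⟩ := hfV ⟨p, V.2⟩
    have h1 := hwU ⟨p, hpU⟩
    have h2 := hwV ⟨p, hpV⟩
    have h3 : Groth.Agent.H11Tilde.fracAt 𝒜 p a s (snin ⟨p, hpU⟩) =
        Groth.Agent.H11Tilde.fracAt 𝒜 p b t (tnin ⟨p, hpV⟩) :=
      h1.symm.trans ((congrArg Subtype.val heq).trans h2)
    obtain ⟨r, hr, hr0⟩ := Groth.Agent.H11Tilde.exists_of_fracAt_eq 𝒜 p _ _ h3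
    refine ⟨⟨U' ⊓ V' ⊓ ProjectiveSpectrum.basicOpen 𝒜 r, ⟨⟨hpU, hpV⟩, hr⟩⟩,
      homOfLE (fun y hy => iU.le hy.1.1), homOfLE (fun y hy => iV.le hy.1.2), fun w => ?_⟩
    refine Subtype.ext ((hwU ⟨w.1, w.2.1.1⟩).trans (Eq.trans ?_ (hwV ⟨w.1, w.2.1.2⟩).symm))
    refine LocalizedModule.mk_eq.2 ⟨⟨r, w.2.2⟩, ?_⟩
    rw [smul_sub, sub_eq_zero] at hr0
    exact hr0
  · intro q
    rcases Groth.Agent.H11Tilde.exists_eq_fracAt_of_mem 𝒜 ℳ p q with h0 | ⟨i, j, m, s, hs, hm, hsj, hd, hq⟩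
    · exact ⟨⟨⊤, trivial⟩, fun _ => 0, GrTilde.zero_mem' n (op ⊤), Subtype.ext h0.symm⟩
    · refine ⟨⟨ProjectiveSpectrum.basicOpen 𝒜 s, hs⟩,
        (Groth.Agent.H11Tilde.secOf 𝒜 ℳ hm hsj (V := ProjectiveSpectrum.basicOpen 𝒜 s) (fun x hx => hx) hd).1,
        (Groth.Agent.H11Tilde.secOf 𝒜 ℳ hm hsj (V := ProjectiveSpectrum.basicOpen 𝒜 s) (fun x hx => hx) hd).2,
        Subtype.ext hq.symm⟩

end Groth.Agent.S3547
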