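import Groth.Statements.S3548
import Groth.Agent.H11Tilde.Frac

set_option autoImplicit false
universe u
open CategoryTheory CategoryTheory.Limits AlgebraicGeometry
open EGA2

open TopologicalSpace Opposite
namespace Groth.Agent.S3548

/-- Let S be a graded ring, M a graded S-module and X = Proj S. If for every z in M and every
homogeneous f of positive degree some power of f annihilates z, then the O_X-module M~ is zero. -/
theorem result {R A : Type u} [CommRing R] [CommRing A] [Algebra R A] (𝒜 : ℕ → Submodule R A) [GradedAlgebra 𝒜]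
    {M : Type u} [AddCommGroup M] [Module R M] [Module A M] [IsScalarTower R A M] (ℳ : ℕ → Submodule R M) [DirectSum.Decomposition ℳ] [SetLike.GradedSMul 𝒜 ℳ]
    (h : ∀ (z : M) (d : ℕ) (f : A), 0 < d → f ∈ 𝒜 d → ∃ k : ℕ, f ^ k • z = 0) :
    IsZero (GrTilde.tilde 𝒜 ℳ 0) := by
  classical
  have hzero : ∀ (U : (Opens (ProjectiveSpectrum.top 𝒜))ᵒᵖ) (s : GrTilde.sect 𝒜 ℳ 0 U), s = 0 := by
    intro U s
    refine Groth.Agent.H11Tilde.sect_ext 𝒜 ℳ fun x => ?_
    rcases Groth.Agent.H11Tilde.exists_eq_fracAt_of_mem 𝒜 ℳ x.1 (s.1 x) with h0 | ⟨i, j, m, t, ht, -, -, -, hq⟩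
    · exact h0
    · refine hq.trans ?_
      change _ = (0 : GrTilde.LocMod 𝒜 (M := M) x.1)
      rw [Groth.Agent.H11Tilde.fracAt_eq_zero_iff]
      obtain ⟨a, ha, hax⟩ := SetLike.not_le_iff_exists.1 x.1.not_irrelevant_le
      have : ∃ d, 0 < d ∧ (DirectSum.decompose 𝒜 a d : A) ∉ x.1.asHomogeneousIdeal := by
        by_contra hne
        push Not at hne
        refine hax (show a ∈ x.1.asHomogeneousIdeal.toIdeal from ?_)
        rw [← DirectSum.sum_support_decompose 𝒜 a]
        refine Ideal.sum_mem _ fun d _ => ?_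
        rcases Nat.eq_zero_or_pos d with rfl | hd
        · rw [show (DirectSum.decompose 𝒜 a 0 : A) = 0 from
            (HomogeneousIdeal.mem_irrelevant_iff 𝒜 a).1 ha]
          exact zero_mem _
        · exact hne d hd
      obtain ⟨d, hd, hfx⟩ := this
      obtain ⟨k, hk⟩ := h m d _ hd (DirectSum.decompose 𝒜 a d).2
      exact ⟨_, Groth.Agent.H11Tilde.pow_notMem 𝒜 hfx k, hk⟩
  rw [IsZero.iff_id_eq_zero]
  refine Scheme.Modules.hom_ext _ _ fun U => ?_
  ext s
  exact hzero (op U) s

end Groth.Agent.S3548
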