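import Groth.Statements.S3549
import Groth.Agent.H11Tilde.Frac

set_option autoImplicit false
universe u
open CategoryTheory CategoryTheory.Limits AlgebraicGeometry
open EGA2

open TopologicalSpace Opposite
namespace Groth.Agent.S3549

/-- Let S be a graded ring whose irrelevant ideal S_+ is generated by the degree-one elements, M a
graded S-module and X = Proj S. If the O_X-module M~ is zero, then for every z in M and every
homogeneous f of positive degree some power of f annihilates z. -/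
theorem result {R A : Type u} [CommRing R] [CommRing A] [Algebra R A] (𝒜 : ℕ → Submodule R A) [GradedAlgebra 𝒜]
    (hgen : (HomogeneousIdeal.irrelevant 𝒜).toIdeal = Ideal.span (𝒜 1 : Set A))
    {M : Type u} [AddCommGroup M] [Module R M] [Module A M] [IsScalarTower R A M] (ℳ : ℕ → Submodule R M) [DirectSum.Decomposition ℳ] [SetLike.GradedSMul 𝒜 ℳ]
    (h : IsZero (GrTilde.tilde 𝒜 ℳ 0)) (z : M) (d : ℕ) (f : A) (hd : 0 < d) (hf : f ∈ 𝒜 d) :
    ∃ k : ℕ, f ^ k • z = 0 := by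
  classical
  have hzero : ∀ (U : Opens (ProjectiveSpectrum.top 𝒜)) (s : GrTilde.sect 𝒜 ℳ 0 (op U)), s = 0 := by
    intro U s
    exact congrArg (fun φ : GrTilde.tilde 𝒜 ℳ 0 ⟶ GrTilde.tilde 𝒜 ℳ 0 => φ.app U s) (IsZero.iff_id_eq_zero _ |>.1 h)
  have hhom : ∀ i (m : M), m ∈ ℳ i → ∃ k : ℕ, f ^ k • m = 0 := by
    intro i m hm
    refine Groth.Agent.H11Tilde.exists_pow_smul_eq_zero 𝒜 ℳ hd hf hm fun x _ => ?_
    obtain ⟨a, ha, hax⟩ : ∃ a ∈ 𝒜 1, a ∉ x.asHomogeneousIdeal := by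
      by_contra hne
      push Not at hne
      refine x.not_irrelevant_le ?_
      intro y hy
      have : y ∈ (HomogeneousIdeal.irrelevant 𝒜).toIdeal := hy
      rw [hgen] at this
      exact Ideal.span_le.2 hne this
    have hai : a ^ i ∈ 𝒜 i := by simpa using SetLike.pow_mem_graded i ha
    have hs := Groth.Agent.H11Tilde.secOf 𝒜 ℳ hm hai (n := 0) (V := ProjectiveSpectrum.basicOpen 𝒜 a)
      (fun y hy => Groth.Agent.H11Tilde.pow_notMem 𝒜 hy i) (by simp)
    have h1 := congrArg (fun s : GrTilde.sect 𝒜 ℳ 0 (op (ProjectiveSpectrum.basicOpen 𝒜 a)) =>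
      ((s.1 ⟨x, hax⟩ : GrTilde.tildeAt 𝒜 ℳ 0 x) : GrTilde.LocMod 𝒜 (M := M) x))
      (hzero _ (Groth.Agent.H11Tilde.secOf 𝒜 ℳ hm hai (n := 0) (V := ProjectiveSpectrum.basicOpen 𝒜 a)
        (fun y hy => Groth.Agent.H11Tilde.pow_notMem 𝒜 hy i) (by simp)))
    exact (Groth.Agent.H11Tilde.fracAt_eq_zero_iff 𝒜 x m _ (Groth.Agent.H11Tilde.pow_notMem 𝒜 hax i)).1 h1
  choose k hk using fun i => hhom i (DirectSum.decompose ℳ z i) (DirectSum.decompose ℳ z i).2
  refine ⟨(DirectSum.decompose ℳ z).support.sup k, ?_⟩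
  rw [show f ^ ((DirectSum.decompose ℳ z).support.sup k) • z = f ^ ((DirectSum.decompose ℳ z).support.sup k) •
    ∑ i ∈ (DirectSum.decompose ℳ z).support, (DirectSum.decompose ℳ z i : M) from
    congrArg _ (DirectSum.sum_support_decompose ℳ z).symm]
  rw [Finset.smul_sum]
  refine Finset.sum_eq_zero fun i hi => ?_
  obtain ⟨r, hr⟩ := Nat.exists_eq_add_of_le (Finset.le_sup (f := k) hi)
  rw [hr, pow_add, mul_comm, mul_smul, hk, smul_zero]

end Groth.Agent.S3549
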