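import Groth.Statements.S3550
import Groth.Agent.H11Tilde.GammaStar.Transfer

set_option autoImplicit false
universe u
open CategoryTheory CategoryTheory.Limits AlgebraicGeometry
open EGA2

open TopologicalSpace Opposite
namespace Groth.Agent.S3550

/-- Let S be a graded ring whose irrelevant ideal S_+ is generated by finitely many elements of degree
one, and X = Proj S. Then every quasi-coherent O_X-module F is isomorphic to M~ for some graded
S-module M (graded in nonnegative degrees). -/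
theorem result {R A : Type u} [CommRing R] [CommRing A] [Algebra R A] (𝒜 : ℕ → Submodule R A) [GradedAlgebra 𝒜]
    (s : Finset A) (hs1 : ∀ f ∈ s, f ∈ 𝒜 1)
    (hs : (HomogeneousIdeal.irrelevant 𝒜).toIdeal = Ideal.span (s : Set A))
    (F : (Proj 𝒜).Modules) (hF : Coh.IsQCoh F) :
    ∃ (M : Type u) (_ : AddCommGroup M) (_ : Module R M) (_ : Module A M) (_ : IsScalarTower R A M)
      (ℳ : ℕ → Submodule R M) (_ : DirectSum.Decomposition ℳ) (_ : SetLike.GradedSMul 𝒜 ℳ),
      Nonempty (GrTilde.tilde 𝒜 ℳ 0 ≅ F) := by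
  classical
  let f : ↥(s : Set A) → A := fun i => i.1
  have hf : ∀ i, f i ∈ 𝒜 1 := fun i => hs1 i.1 i.2
  have hcov : ∀ x : Proj 𝒜, ∃ i, f i ∉ x.asHomogeneousIdeal := fun x => by
    by_contra hne
    push Not at hne
    exact x.not_irrelevant_le (hs.le.trans (Ideal.span_le.2 fun a ha => hne ⟨a, ha⟩))
  let M := ↥(Groth.Agent.H11Tilde.gamma 𝒜 f hf F)
  letI : Module R M := Module.compHom M (algebraMap R A)
  haveI : IsScalarTower R A M := ⟨fun r a m => by
    change (r • a) • m = algebraMap R A r • (a • m)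
    rw [Algebra.smul_def, mul_smul]⟩
  let ℳ : ℕ → Submodule R M := fun n =>
    { (Groth.Agent.H11Tilde.piece 𝒜 f hf F n).toAddSubmonoid with
      smul_mem' := fun r m hm => by
        have h := SetLike.GradedSMul.smul_mem (A := 𝒜) (B := Groth.Agent.H11Tilde.piece 𝒜 f hf F)
          (SetLike.algebraMap_mem_graded 𝒜 r) hm
        rw [show (0 : ℕ) +ᵥ n = n from zero_add n] at h
        exact h }
  letI dec : DirectSum.Decomposition ℳ := Groth.Agent.H11Tilde.decompositionOfProj ℳ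
    (Groth.Agent.H11Tilde.gproj 𝒜 f hf F) (Groth.Agent.H11Tilde.gproj_mem 𝒜 f hf F)
    (Groth.Agent.H11Tilde.gproj_same 𝒜 f hf F) (Groth.Agent.H11Tilde.gproj_ne 𝒜 f hf F)
    (Groth.Agent.H11Tilde.sum_gproj 𝒜 f hf F)
  haveI hsm : SetLike.GradedSMul 𝒜 ℳ := ⟨fun {_ _ _ _} ha hm =>
    (SetLike.GradedSMul.smul_mem (B := Groth.Agent.H11Tilde.piece 𝒜 f hf F) ha hm :)⟩
  obtain ⟨e⟩ := Groth.Agent.H11Tilde.nonempty_tilde_gamma_iso hf F hcov hF
  exact ⟨M, inferInstance, inferInstance, inferInstance, inferInstance, ℳ, dec, hsm,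
    ⟨Groth.Agent.H11Tilde.tildeIsoOfPiecesEq 𝒜 ℳ (Groth.Agent.H11Tilde.piece 𝒜 f hf F) (fun _ _ => Iff.rfl) 0 ≪≫ e⟩⟩

end Groth.Agent.S3550
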