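import Groth.Statements.S3555
import Groth.Agent.H11Tilde.Frac

set_option autoImplicit false
universe u
open CategoryTheory CategoryTheory.Limits AlgebraicGeometry
open EGA2

open TopologicalSpace Opposite
namespace Groth.Agent.S3555

/-- Let S be a graded ring whose irrelevant ideal S_+ is generated by the degree-one elements, X = Proj
S, and f homogeneous of degree d > 0. Then D_+(f) is the set of points p of X at which the global
section f/1 of O_X(d) does not vanish, i.e. at which its value generates the module of degree-d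
fractions at p. -/
theorem result {R A : Type u} [CommRing R] [CommRing A] [Algebra R A] (𝒜 : ℕ → Submodule R A) [GradedAlgebra 𝒜]
    (hgen : (HomogeneousIdeal.irrelevant 𝒜).toIdeal = Ideal.span (𝒜 1 : Set A))
    {d : ℕ} (hd : 0 < d) (f : 𝒜 d) (p : ProjectiveSpectrum 𝒜) :
    p ∈ ProjectiveSpectrum.basicOpen 𝒜 (f : A) ↔
      Submodule.span (Twist.A0 𝒜 p) {(Twist.globalOf 𝒜 f).1 ⟨p, trivial⟩} = ⊤ := by
  classical
  have hval : ((Twist.globalOf 𝒜 f).1 ⟨p, trivial⟩ : Twist.Loc 𝒜 p) =
      Localization.mk (f : A) ⟨1, Groth.Agent.H11Tilde.one_notMem 𝒜 p⟩ := rfl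
  constructor
  · intro hp
    rw [eq_top_iff]
    rintro q -
    rw [Submodule.mem_span_singleton]
    rcases Groth.Agent.H11Tilde.exists_eq_fracAt_of_mem 𝒜 𝒜 p q with h0 | ⟨i, j, m, s, hs, hm, hsj, hdeg, hq⟩
    · refine ⟨0, Subtype.ext ?_⟩
      rw [Twist.coe_smul_val, HomogeneousLocalization.val_zero, zero_mul]
      exact h0.symm
    · have hi : i = j + d := by omega
      refine ⟨HomogeneousLocalization.mk ⟨j + d, ⟨m, hi ▸ hm⟩, ⟨s * f, SetLike.mul_mem_graded hsj f.2⟩,
        Groth.Agent.H11Tilde.mul_notMem 𝒜 hs hp⟩, Subtype.ext ?_⟩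
      rw [Twist.coe_smul_val, hval, HomogeneousLocalization.val_mk, Localization.mk_mul]
      refine Eq.trans ?_ hq.symm
      refine Localization.mk_eq_mk_iff.2 (Localization.r_iff_exists.2 ⟨1, ?_⟩)
      simp only [OneMemClass.coe_one, one_mul, Submonoid.coe_mul]
      ring
  · intro hsp hf
    obtain ⟨a, ha, hap⟩ : ∃ a ∈ 𝒜 1, a ∉ p.asHomogeneousIdeal := by
      by_contra hne
      push Not at hne
      refine p.not_irrelevant_le ?_
      intro y hy
      have : y ∈ (HomogeneousIdeal.irrelevant 𝒜).toIdeal := hy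
      rw [hgen] at this
      exact Ideal.span_le.2 hne this
    have had : a ^ d ∈ 𝒜 d := by simpa using SetLike.pow_mem_graded d ha
    let q : Twist.twistAt 𝒜 (d : ℤ) p :=
      ⟨Localization.mk (a ^ d) ⟨1, Groth.Agent.H11Tilde.one_notMem 𝒜 p⟩,
        Submodule.subset_span ⟨d, 0, ⟨a ^ d, had⟩, ⟨1, SetLike.GradedOne.one_mem⟩,
          Groth.Agent.H11Tilde.one_notMem 𝒜 p, by simp, rfl⟩⟩
    have hq : q ∈ Submodule.span (Twist.A0 𝒜 p) {(Twist.globalOf 𝒜 f).1 ⟨p, trivial⟩} := by
      rw [hsp]; trivial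
    obtain ⟨c, hc⟩ := Submodule.mem_span_singleton.1 hq
    obtain ⟨c, rfl⟩ := HomogeneousLocalization.mk_surjective c
    have h1 := congrArg Subtype.val hc
    rw [Twist.coe_smul_val, hval, HomogeneousLocalization.val_mk, Localization.mk_mul] at h1
    obtain ⟨t, ht⟩ := Localization.r_iff_exists.1 (Localization.mk_eq_mk_iff.1 h1)
    simp only [Submonoid.coe_mul, one_mul, mul_one] at ht
    have hmem : (t : A) * ((c.den : A) * a ^ d) ∈ p.asHomogeneousIdeal.toIdeal := by
      rw [← ht]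
      exact Ideal.mul_mem_left _ _ (Ideal.mul_mem_left _ _ hf)
    exact Groth.Agent.H11Tilde.mul_notMem 𝒜 t.2 (Groth.Agent.H11Tilde.mul_notMem 𝒜 c.den_mem
      (Groth.Agent.H11Tilde.pow_notMem 𝒜 hap d)) hmem

end Groth.Agent.S3555
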