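import Groth.Statements.S3578
import Groth.Agent.H11Proj.Spectrum

set_option autoImplicit false
universe u
open EGA2

namespace Groth.Agent.S3578

/-- Via the correspondence between closed subsets of Proj S and radical graded ideals of S_+: let S be a
graded ring and Z a closed subset of Proj S, with J = S_+ ∩ (vanishing ideal of Z). Then Z is
irreducible if and only if J is a prime ideal of the ring-without-unit S_+: J ≠ S_+ and a product of
two elements of S_+ lies in J only if one factor does. -/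
theorem result {R A : Type u} [CommRing R] [CommRing A] [Algebra R A] (𝒜 : ℕ → Submodule R A) [GradedAlgebra 𝒜]
    (Z : Set (ProjectiveSpectrum 𝒜)) (hZ : IsClosed Z) :
    IsIrreducible Z ↔
      (¬ (HomogeneousIdeal.irrelevant 𝒜).toIdeal ≤ (ProjectiveSpectrum.vanishingIdeal Z).toIdeal ∧
        ∀ f ∈ (HomogeneousIdeal.irrelevant 𝒜).toIdeal, ∀ g ∈ (HomogeneousIdeal.irrelevant 𝒜).toIdeal,
          f * g ∈ (ProjectiveSpectrum.vanishingIdeal Z).toIdeal →
            f ∈ (ProjectiveSpectrum.vanishingIdeal Z).toIdeal ∨ g ∈ (ProjectiveSpectrum.vanishingIdeal Z).toIdeal) := by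
  have hIv := Groth.Agent.H11Proj.mem_vanishingIdeal_iff 𝒜 Z
  constructor
  · intro hirr
    refine ⟨fun hle => ?_, fun f _ g _ hfg => ?_⟩
    · obtain ⟨x, hx⟩ := hirr.nonempty
      exact x.not_irrelevant_le fun a ha => (hIv a).1 (hle ha) x hx
    · have hcov : Z ⊆ ProjectiveSpectrum.zeroLocus 𝒜 {f} ∪ ProjectiveSpectrum.zeroLocus 𝒜 {g} := by
        intro x hx
        rcases x.isPrime.mem_or_mem ((hIv _).1 hfg x hx) with h | h
        · exact Or.inl (by simpa using h)
        · exact Or.inr (by simpa using h)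
      rcases isPreirreducible_iff_isClosed_union_isClosed.1 hirr.2 _ _
          (ProjectiveSpectrum.isClosed_zeroLocus 𝒜 _) (ProjectiveSpectrum.isClosed_zeroLocus 𝒜 _) hcov
        with h | h
      · exact Or.inl ((hIv f).2 fun x hx => by simpa using h hx)
      · exact Or.inr ((hIv g).2 fun x hx => by simpa using h hx)
  · rintro ⟨hne, hprime⟩
    refine ⟨?_, isPreirreducible_iff_isClosed_union_isClosed.2 fun z₁ z₂ hz₁ hz₂ hcov => ?_⟩
    · by_contra hZ'
      exact hne fun a _ => (hIv a).2 fun x hx => absurd ⟨x, hx⟩ hZ'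
    · by_contra hcon
      push Not at hcon
      obtain ⟨h₁, h₂⟩ := hcon
      rw [Set.not_subset] at h₁ h₂
      obtain ⟨x₁, hx₁, hx₁'⟩ := h₁
      obtain ⟨x₂, hx₂, hx₂'⟩ := h₂
      obtain ⟨s₁, rfl⟩ := (ProjectiveSpectrum.isClosed_iff_zeroLocus 𝒜 z₁).1 hz₁
      obtain ⟨s₂, rfl⟩ := (ProjectiveSpectrum.isClosed_iff_zeroLocus 𝒜 z₂).1 hz₂
      simp only [ProjectiveSpectrum.mem_zeroLocus, Set.not_subset] at hx₁' hx₂'
      obtain ⟨e₁, he₁, he₁'⟩ := hx₁'
      obtain ⟨e₂, he₂, he₂'⟩ := hx₂'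
      obtain ⟨t₁, ht₁, ht₁'⟩ := SetLike.not_le_iff_exists.1 x₁.not_irrelevant_le
      obtain ⟨t₂, ht₂, ht₂'⟩ := SetLike.not_le_iff_exists.1 x₂.not_irrelevant_le
      have := hprime (t₁ * e₁) (Ideal.mul_mem_right _ _ ht₁) (t₂ * e₂) (Ideal.mul_mem_right _ _ ht₂)
        ((hIv _).2 fun x hx => by
          rcases hcov hx with h | h
          · exact Ideal.mul_mem_right _ _ (Ideal.mul_mem_left _ _ (h he₁))
          · exact Ideal.mul_mem_left _ _ (Ideal.mul_mem_left _ _ (h he₂)))
      rcases this with h | h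
      · exact (x₁.isPrime.mem_or_mem ((hIv _).1 h x₁ hx₁)).elim ht₁' he₁'
      · exact (x₂.isPrime.mem_or_mem ((hIv _).1 h x₂ hx₂)).elim ht₂' he₂'

end Groth.Agent.S3578
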