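import Groth.Statements.S3557
import Groth.Agent.H11Proj.Scheme
import Groth.Agent.S3578

set_option autoImplicit false
universe u
open CategoryTheory CategoryTheory.Limits AlgebraicGeometry
open EGA2

namespace Groth.Agent.S3557

/-- Let S be a graded ring which is essentially reduced (S_+ contains no nonzero nilpotent). Then Proj S
is an integral scheme if and only if S is essentially integral, i.e. S_+ is nonzero and the product
of two nonzero elements of S_+ is nonzero. -/
theorem result {R A : Type u} [CommRing R] [CommRing A] [Algebra R A] (𝒜 : ℕ → Submodule R A) [GradedAlgebra 𝒜]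
    (hred : ∀ f ∈ (HomogeneousIdeal.irrelevant 𝒜).toIdeal, IsNilpotent f → f = 0) :
    AlgebraicGeometry.IsIntegral (Proj 𝒜) ↔
      ((∃ f ∈ (HomogeneousIdeal.irrelevant 𝒜).toIdeal, f ≠ 0) ∧
        ∀ f ∈ (HomogeneousIdeal.irrelevant 𝒜).toIdeal, ∀ g ∈ (HomogeneousIdeal.irrelevant 𝒜).toIdeal,
          f * g = 0 → f = 0 ∨ g = 0) := by
  have hred' : AlgebraicGeometry.IsReduced (Proj 𝒜) := Groth.Agent.H11Proj.isReduced_proj hred
  have hvI : ∀ a ∈ (HomogeneousIdeal.irrelevant 𝒜).toIdeal,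
      (a ∈ (ProjectiveSpectrum.vanishingIdeal (Set.univ : Set (ProjectiveSpectrum 𝒜))).toIdeal ↔ a = 0) := by
    intro a ha
    rw [Groth.Agent.H11Proj.mem_vanishingIdeal_iff]
    refine ⟨fun h => hred a ha (Groth.Agent.H11Proj.isNilpotent_of_forall_point 𝒜 ha fun x => h x trivial),
      fun h x _ => h ▸ zero_mem _⟩
  rw [isIntegral_iff_irreducibleSpace_and_isReduced, and_iff_left hred']
  change IrreducibleSpace (ProjectiveSpectrum 𝒜) ↔ _
  rw [irreducibleSpace_def, Set.top_eq_univ, Groth.Agent.S3578.result 𝒜 _ isClosed_univ]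
  refine and_congr ⟨fun h => ?_, fun ⟨f, hf, hf0⟩ h => hf0 ((hvI f hf).1 (h hf))⟩ ?_
  · obtain ⟨f, hf, hf'⟩ := SetLike.not_le_iff_exists.1 h
    exact ⟨f, hf, fun h0 => hf' ((hvI f hf).2 h0)⟩
  · refine forall₂_congr fun f hf => forall₂_congr fun g hg => ?_
    rw [hvI f hf, hvI g hg, hvI _ (Ideal.mul_mem_right g _ hf)]

end Groth.Agent.S3557
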