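import Groth.Statements.S3559
import Groth.Agent.H11Proj.Spectrum

set_option autoImplicit false
universe u
open CategoryTheory CategoryTheory.Limits AlgebraicGeometry
open EGA2

namespace Groth.Agent.S3559

/-- Let S be a graded ring and (f_i) a family of homogeneous elements of positive degree. The opens
D_+(f_i) cover Proj S if and only if every element of S_+ has a power in the ideal generated by the
f_i. -/
theorem result {R A : Type u} [CommRing R] [CommRing A] [Algebra R A] (𝒜 : ℕ → Submodule R A) [GradedAlgebra 𝒜]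
    {ι : Type u} (f : ι → A) (hf : ∀ i, ∃ d : ℕ, 0 < d ∧ f i ∈ 𝒜 d) :
    (⨆ i, Proj.basicOpen 𝒜 (f i)) = ⊤ ↔
      (HomogeneousIdeal.irrelevant 𝒜).toIdeal ≤ (Ideal.span (Set.range f)).radical := by
  constructor
  · intro h a ha
    have hI : (Ideal.span (Set.range f)).IsHomogeneous 𝒜 :=
      Ideal.homogeneous_span _ _ fun x ⟨i, hi⟩ => hi ▸ ⟨(hf i).choose, (hf i).choose_spec.2⟩
    refine Groth.Agent.H11Proj.mem_radical_of_forall_point 𝒜 hI ha fun x hx => ?_
    obtain ⟨i, hi⟩ := TopologicalSpace.Opens.mem_iSup.1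
      (h.ge (trivial : (x : Proj 𝒜) ∈ (⊤ : (Proj 𝒜).Opens)))
    exact absurd (hx (Ideal.subset_span ⟨i, rfl⟩)) hi
  · intro h
    refine top_le_iff.1 fun (x : Proj 𝒜) _ => TopologicalSpace.Opens.mem_iSup.2 ?_
    by_contra H
    push Not at H
    refine x.not_irrelevant_le fun a ha => ?_
    obtain ⟨n, hn⟩ := h ha
    refine x.isPrime.mem_of_pow_mem n (Ideal.span_le.2 ?_ hn)
    rintro _ ⟨i, rfl⟩
    by_contra hi
    exact H i hi

end Groth.Agent.S3559
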