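import Groth.Statements.S3560
import Groth.Agent.H11Proj.Spectrum
import Mathlib.RingTheory.Noetherian.Nilpotent

set_option autoImplicit false
universe u
open CategoryTheory CategoryTheory.Limits AlgebraicGeometry
open EGA2

namespace Groth.Agent.S3560

/-- Let S be a graded ring whose irrelevant ideal S_+ is finitely generated. Then Proj S is empty if and
only if there is n such that S_k = 0 for all k ≥ n. -/
theorem result {R A : Type u} [CommRing R] [CommRing A] [Algebra R A] (𝒜 : ℕ → Submodule R A) [GradedAlgebra 𝒜]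
    (hfg : (HomogeneousIdeal.irrelevant 𝒜).toIdeal.FG) :
    IsEmpty (Proj 𝒜) ↔ ∃ n : ℕ, ∀ k : ℕ, n ≤ k → 𝒜 k = ⊥ := by
  refine (Groth.Agent.H11Proj.isEmpty_iff 𝒜).trans ⟨fun h => ?_, ?_⟩
  · have : Algebra.FiniteType (𝒜 0) A := Groth.Agent.H11Proj.finiteType_of_irrelevant_fg 𝒜 hfg
    obtain ⟨N, hN⟩ := (Ideal.FG.isNilpotent_iff_le_nilradical hfg).2 fun f hf => h f hf
    obtain ⟨m₀, hm⟩ := Groth.Agent.H11Proj.exists_graded_le_irrelevant_pow 𝒜 N
    refine ⟨m₀, fun k hk => (Submodule.eq_bot_iff _).2 fun x hx => ?_⟩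
    have := hm k hk x hx
    rw [hN] at this
    exact this
  · rintro ⟨n, hn⟩ f hf
    have hle : (HomogeneousIdeal.irrelevant 𝒜).toIdeal ≤ nilradical A :=
      (Groth.Agent.H11Proj.irrelevant_le_iff 𝒜).2 fun d hd a ha => by
        refine ⟨n + 1, ?_⟩
        have h1 : a ^ (n + 1) ∈ 𝒜 ((n + 1) • d) := SetLike.pow_mem_graded _ ha
        rw [hn _ (by rw [smul_eq_mul]; nlinarith), Submodule.mem_bot] at h1
        exact h1
    exact hle hf

end Groth.Agent.S3560
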