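import Groth.Statements.S3561
import Groth.Agent.H11Tilde.FinType

set_option autoImplicit false
universe u
open CategoryTheory CategoryTheory.Limits AlgebraicGeometry
open EGA2

open TopologicalSpace Opposite
namespace Groth.Agent.S3561

/-- Let S be a graded ring whose irrelevant ideal S_+ is finitely generated, and M a graded S-module
satisfying (TF): for some n the submodule generated by the homogeneous elements of degree at least n
is a finitely generated S-module. Then the O_X-module M~ on X = Proj S is of finite type. -/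
theorem result {R A : Type u} [CommRing R] [CommRing A] [Algebra R A] (𝒜 : ℕ → Submodule R A) [GradedAlgebra 𝒜]
    (hfg : (HomogeneousIdeal.irrelevant 𝒜).toIdeal.FG)
    {M : Type u} [AddCommGroup M] [Module R M] [Module A M] [IsScalarTower R A M] (ℳ : ℕ → Submodule R M) [DirectSum.Decomposition ℳ] [SetLike.GradedSMul 𝒜 ℳ]
    (hTF : ∃ n : ℕ, (Submodule.span A (⋃ k ∈ Set.Ici n, (ℳ k : Set M))).FG) :
    CohB1.IsFT (GrTilde.tilde 𝒜 ℳ 0) := by
  haveI := Groth.Agent.H11Tilde.tilde_isQuasicoherent 𝒜 ℳ 0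
  change CohB1.IsFT (GrMod.tilde 𝒜 ℳ 0)
  refine (Groth.Agent.H10Coh.isFT_isFP_of_affineCover _
    (fun i : Σ d : ℕ, 𝒜 (d + 1) => Proj.basicOpen 𝒜 (i.2 : A)) ?_
    (fun i => Proj.isAffineOpen_basicOpen 𝒜 _ i.2.2 i.1.succ_pos)
    fun i => Groth.Agent.H11Tilde.finite_sections_basicOpen 𝒜 ℳ hfg hTF 0 i.1.succ_pos i.2.2).1
  refine TopologicalSpace.IsOpenCover.mk (top_le_iff.1 fun x _ => ?_)
  obtain ⟨d, f, hd, hf, hfx⟩ := Groth.Agent.H11Tilde.exists_posHom_notMem 𝒜 x
  obtain ⟨d, rfl⟩ : ∃ e, d = e + 1 := ⟨d - 1, by omega⟩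
  exact Opens.mem_iSup.2 ⟨⟨d, ⟨f, hf⟩⟩, hfx⟩

end Groth.Agent.S3561
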