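import Groth.Statements.S3562
import Groth.Agent.S3548
import Groth.Agent.S3549
import Groth.Agent.H11Proj.Graded

set_option autoImplicit false
universe u
open CategoryTheory CategoryTheory.Limits AlgebraicGeometry
open EGA2

open TopologicalSpace Opposite
namespace Groth.Agent.S3562

/-- Let S be a graded ring whose irrelevant ideal S_+ is finitely generated and generated by the
degree-one elements, and M a graded S-module satisfying (TF) (some tail of M generates a finitely
generated submodule). Then M~ = 0 on Proj S if and only if M satisfies (TN): M_k = 0 for all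
sufficiently large k. (The published statement assumes only that S_+ is finitely generated; the
statement then fails when S_+ has no system of degree-one generators, e.g. S = k[t] with t of degree
2 and M = S shifted into odd degrees, whose M~ vanishes although no M_k does. Stated here with S_+
generated by degree-one elements, where the published proof applies.) -/
theorem result {R A : Type u} [CommRing R] [CommRing A] [Algebra R A] (𝒜 : ℕ → Submodule R A) [GradedAlgebra 𝒜]
    (hfg : (HomogeneousIdeal.irrelevant 𝒜).toIdeal.FG)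
    (hgen : (HomogeneousIdeal.irrelevant 𝒜).toIdeal = Ideal.span (𝒜 1 : Set A))
    {M : Type u} [AddCommGroup M] [Module R M] [Module A M] [IsScalarTower R A M] (ℳ : ℕ → Submodule R M) [DirectSum.Decomposition ℳ] [SetLike.GradedSMul 𝒜 ℳ]
    (hTF : ∃ n : ℕ, (Submodule.span A (⋃ k ∈ Set.Ici n, (ℳ k : Set M))).FG) :
    IsZero (GrTilde.tilde 𝒜 ℳ 0) ↔ ∃ n : ℕ, ∀ k : ℕ, n ≤ k → ℳ k = ⊥ := by
  classical
  have pow_mem : ∀ q : ℕ, ∀ x ∈ 𝒜 q, x ∈ ((HomogeneousIdeal.irrelevant 𝒜).toIdeal) ^ q := by
    intro q
    induction q with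
    | zero => intro x _; simp
    | succ q ih =>
      intro x hx
      have h1 : x ∈ Ideal.span (𝒜 1 : Set A) := hgen ▸ Groth.Agent.H11Proj.mem_irrelevant_of_pos 𝒜 q.succ_pos hx
      have h2 := Groth.Agent.H11Proj.proj_mem_closure_of_mem_span 𝒜 (fun _ => 1) (fun e he => he) h1 (q + 1)
      rw [DirectSum.decompose_of_mem_same 𝒜 hx] at h2
      refine AddSubmonoid.closure_induction ?_ (zero_mem _) (fun a b _ _ ha hb => add_mem ha hb) h2
      rintro y ⟨e, he, j, c, hc, hj, rfl⟩
      have hjq : j = q := by omega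
      rw [pow_succ]
      exact Ideal.mul_mem_mul (ih c (hjq ▸ hc)) (hgen ▸ Ideal.subset_span he)
  constructor
  · intro hzero
    obtain ⟨n, hn⟩ := hTF
    have hkill : ∀ z : M, ∃ L : ℕ, ∀ x ∈ (HomogeneousIdeal.irrelevant 𝒜).toIdeal ^ L, x • z = 0 := by
      intro z
      let J : Ideal A := LinearMap.ker (LinearMap.toSpanSingleton A M z)
      have hle : (HomogeneousIdeal.irrelevant 𝒜).toIdeal ≤ J.radical := by
        rw [hgen, Ideal.span_le]
        intro a ha
        obtain ⟨k, hk⟩ := Groth.Agent.S3549.result 𝒜 hgen ℳ hzero z 1 a Nat.one_pos ha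
        exact ⟨k, by simpa [J] using hk⟩
      obtain ⟨L, hL⟩ := Ideal.exists_pow_le_of_le_radical_of_fg hle hfg
      exact ⟨L, fun x hx => by simpa [J] using hL hx⟩
    obtain ⟨T, hT, hspan⟩ := (Submodule.fg_span_iff_fg_span_finset_subset _).1 hn
    choose L hL using hkill
    choose deg hdeg using fun z : T => (Set.mem_iUnion₂.1 (hT z.2))
    let N := Finset.univ.sup (fun z : T => L z.1 + deg z)
    refine ⟨max n N, fun k hk => (Submodule.eq_bot_iff _).2 fun m hm => ?_⟩
    have hmem : m ∈ Submodule.span A (T : Set M) := hspan ▸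
      Submodule.subset_span (Set.mem_iUnion₂.2 ⟨k, le_of_max_le_left hk, hm⟩)
    rw [← DirectSum.decompose_of_mem_same ℳ hm]
    obtain ⟨c, hc⟩ := Submodule.mem_span_finset'.1 hmem
    rw [← hc, DirectSum.decompose_sum, DFinsupp.finsetSum_apply, AddSubmonoidClass.coe_finsetSum]
    refine Finset.sum_eq_zero fun z _ => ?_
    obtain ⟨hzn, hzm⟩ := hdeg z
    rw [← DirectSum.sum_support_decompose 𝒜 (c z), Finset.sum_smul, DirectSum.decompose_sum,
      DFinsupp.finsetSum_apply, AddSubmonoidClass.coe_finsetSum]
    refine Finset.sum_eq_zero fun j _ => ?_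
    have hj : (DirectSum.decompose 𝒜 (c z) j : A) • z.1 ∈ ℳ (j + deg z) :=
      SetLike.GradedSMul.smul_mem (DirectSum.decompose 𝒜 (c z) j).2 hzm
    by_cases hjk : j + deg z = k
    · have hLj : L z.1 ≤ j := by
        have h1 : L z.1 + deg z ≤ N := Finset.le_sup (f := fun z : T => L z.1 + deg z) (Finset.mem_univ z)
        have h2 := le_of_max_le_right hk
        omega
      rw [hL z.1 _ (Ideal.pow_le_pow_right hLj (pow_mem j _ (DirectSum.decompose 𝒜 (c z) j).2))]
      simp
    · rw [DirectSum.decompose_of_mem_ne ℳ hj hjk]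
  · rintro ⟨n, hn⟩
    refine Groth.Agent.S3548.result 𝒜 ℳ fun z d f hd hf => ⟨n, ?_⟩
    rw [← DirectSum.sum_support_decompose ℳ z, Finset.smul_sum]
    refine Finset.sum_eq_zero fun i _ => ?_
    have h1 : f ^ n • (DirectSum.decompose ℳ z i : M) ∈ ℳ (n * d + i) :=
      SetLike.GradedSMul.smul_mem (SetLike.pow_mem_graded n hf) (DirectSum.decompose ℳ z i).2
    rw [hn _ (le_add_right (Nat.le_mul_of_pos_right n hd))] at h1
    exact (Submodule.mem_bot R).1 h1

end Groth.Agent.S3562
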