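import Groth.Statements.S3564
import Groth.Agent.H11Proj.ClosedSub

set_option autoImplicit false
universe u
open CategoryTheory CategoryTheory.Limits AlgebraicGeometry
open EGA2

open TopologicalSpace Opposite
namespace Groth.Agent.S3564

/-- Let S be a graded ring whose irrelevant ideal S_+ is generated by finitely many elements of degree
one, X = Proj S, and Z → X a closed immersion. Then Z is X-isomorphic to Proj S' for a graded
quotient S' of S (a surjective homomorphism of graded rings S → S'), the isomorphism being
compatible with the morphism Proj S' → X induced by the quotient map. (The source moreover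
identifies the kernel: the largest graded ideal with this property, the inverse image of Γ_*(J)
under α; that description is not stated here.) -/
theorem result {R A : Type u} [CommRing R] [CommRing A] [Algebra R A] (𝒜 : ℕ → Submodule R A) [GradedAlgebra 𝒜]
    (s : Finset A) (hs1 : ∀ f ∈ s, f ∈ 𝒜 1)
    (hs : (HomogeneousIdeal.irrelevant 𝒜).toIdeal = Ideal.span (s : Set A))
    {Z : Scheme.{u}} (i : Z ⟶ Proj 𝒜) [IsClosedImmersion i] :
    ∃ (B : Type u) (_ : CommRing B) (_ : Algebra R B) (ℬ : ℕ → Submodule R B) (_ : GradedAlgebra ℬ)
      (φ : 𝒜 →+*ᵍ ℬ) (_ : Function.Surjective φ)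
      (hφ : HomogeneousIdeal.irrelevant ℬ ≤ (HomogeneousIdeal.irrelevant 𝒜).map φ)
      (e : Z ≅ Proj ℬ), e.hom ≫ Proj.map φ hφ = i := by
  exact Groth.Agent.H11Proj.exists_quotient_iso 𝒜 (fun j : ↥(s : Set A) => (j : A)) (fun j => hs1 j.1 j.2) i
    fun x => by
      by_contra hne
      push Not at hne
      exact x.not_irrelevant_le (hs.le.trans (Ideal.span_le.2 fun a ha => hne ⟨a, ha⟩))

end Groth.Agent.S3564
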