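import Groth.Statements.S3565
import Groth.Agent.H11Norm.RelDescent

set_option autoImplicit false
universe u
open CategoryTheory CategoryTheory.Limits AlgebraicGeometry
open EGA2

namespace Groth.Agent.S3565

/-- Let f : X → Y be a quasi-compact morphism, g : X' → X a finite surjective morphism such that the
direct image of the structure sheaf of X' is a finite locally free O_X-module, and L an invertible
O_X-module. Then L is ample relative to f if and only if its inverse image on X' is ample relative
to f ∘ g. -/
theorem result {X X' Y : Scheme.{u}} (f : X ⟶ Y) [QuasiCompact f]
    (g : X' ⟶ X) [IsFinite g] [Surjective g]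
    (hfree : FlatMod.IsFinLocFree ((Coh.push g).obj (Coh.structureModule X')))
    (L : X.Modules) (hL : PicF.IsInvertible L) :
    RelAmple.IsRelAmple f L ↔ RelAmple.IsRelAmple (g ≫ f) ((Scheme.Modules.pullback g).obj L) := by
  constructor
  · exact H11Ample.isRelAmple_pullback_of_isQuasiAffine (H11Norm.isQuasiAffine_of_isAffineHom g)
  · intro h
    refine H11Norm.isRelAmple_of_normData f g hL h fun V hV => ?_
    exact H11Norm.exists_normData_of_chart g (f.isCompact_preimage (U := V) hV.isCompact)
      fun x _ => H11Norm.exists_chart_of_isFinLocFree g hfree x

end Groth.Agent.S3565
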