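import Groth.Statements.S3568
import Groth.Agent.H11Cone.ToNormal

set_option autoImplicit false
universe u
open CategoryTheory CategoryTheory.Limits AlgebraicGeometry
open EGA2

namespace Groth.Agent.S3568

/-- Let U be an integral scheme, V a normal integral scheme (all local rings integrally closed domains)
and h : U → V a morphism which is universally closed, radicial (universally injective) and
birational (it sends the generic point of U to that of V and induces an isomorphism of the residue
fields there). Then h is an isomorphism. (The source assumes only V normal; integrality of V, needed
here to speak of its generic point, follows from the other hypotheses.) -/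
theorem result {U V : Scheme.{u}} [AlgebraicGeometry.IsIntegral U] [AlgebraicGeometry.IsIntegral V]
    (hN : Pi1.IsNormalScheme V) (h : U ⟶ V) [UniversallyClosed h]
    [UniversallyInjective h] (hgen : h.base (genericPoint U) = genericPoint V)
    (hbir : Function.Bijective (h.residueFieldMap (genericPoint U)).hom) :
    IsIso h := by
  haveI := H11Cone.isIso_stalkMap_of_bijective_residueFieldMap h hgen hbir
  exact H11Cone.isIso_of_injective_birational hN h h.injective hgen

end Groth.Agent.S3568
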