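import Groth.Statements.S3574
import Mathlib.AlgebraicGeometry.ProjectiveSpectrum.Functor

set_option autoImplicit false
universe u
open CategoryTheory CategoryTheory.Limits AlgebraicGeometry
open EGA2

namespace Groth.Agent.S3574

/-- Let S be an ℕ-graded algebra over a ring, C = Spec S its affine cone, E = C − V(S_+) the pointed
affine cone and X = Proj S. Then there is exactly one morphism π : E → X (the canonical retraction)
whose restriction to each chart Spec S_f of E, for f homogeneous of positive degree, is the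
composite Spec S_f → Spec S_(f) ≅ D_+(f) ⊆ X induced by the inclusion S_(f) → S_f. The published
statement is not limited to an affine base. -/
theorem result {R A : Type u} [CommRing R] [CommRing A] [Algebra R A] (𝒜 : ℕ → Submodule R A) [GradedAlgebra 𝒜] :
    ∃! π : (Cone.pointed 𝒜 : Scheme.{u}) ⟶ Proj 𝒜,
      ∀ (d : ℕ) (f : A) (hd : 0 < d) (hf : f ∈ 𝒜 d),
        Cone.chart hf hd ≫ π =
          Spec.map (CommRingCat.ofHom (algebraMap (HomogeneousLocalization.Away 𝒜 f) (Localization.Away f))) ≫
            Proj.awayι 𝒜 f hf hd := by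
  have cι : ∀ {d : ℕ} {f : A} (hf : f ∈ 𝒜 d) (hd : 0 < d), Cone.chart hf hd ≫ (Cone.pointed 𝒜).ι =
      Spec.map (CommRingCat.ofHom (algebraMap A (Localization.Away f))) := fun _ _ => IsOpenImmersion.lift_fac _ _ _
  have hoi : ∀ {d : ℕ} {f : A} (hf : f ∈ 𝒜 d) (hd : 0 < d), IsOpenImmersion (Cone.chart hf hd) := fun {d f} hf hd => by
    have : IsOpenImmersion (Cone.chart hf hd ≫ (Cone.pointed 𝒜).ι) := by
      rw [cι hf hd]
      exact IsOpenImmersion.of_isLocalization f
    exact IsOpenImmersion.of_comp _ (Cone.pointed 𝒜).ι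
  have hcov : ∀ x : (Cone.pointed 𝒜 : Scheme.{u}), ∃ (d : ℕ) (f : A) (hd : 0 < d) (hf : f ∈ 𝒜 d),
      ∃ y, (Cone.chart hf hd).base y = x := by
    intro x
    obtain ⟨d, hd, f, hf, hfx⟩ : ∃ d, 0 < d ∧ ∃ f ∈ 𝒜 d, f ∉ (x.1 : PrimeSpectrum A).asIdeal := by
      by_contra hc
      push Not at hc
      refine x.2 ((PrimeSpectrum.mem_zeroLocus _ _).2 ?_)
      exact (HomogeneousIdeal.toIdeal_irrelevant_le 𝒜).2 fun d hd a ha => hc d hd a ha
    obtain ⟨y, hy⟩ : (x.1 : PrimeSpectrum A) ∈ Set.range (PrimeSpectrum.comap (algebraMap A (Localization.Away f))) := by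
      rw [PrimeSpectrum.localization_away_comap_range (Localization.Away f) f]
      exact hfx
    refine ⟨d, f, hd, hf, y, (Cone.pointed 𝒜).ι.isOpenEmbedding.injective ?_⟩
    rw [← Scheme.Hom.comp_apply, cι hf hd]
    exact hy
  let 𝒰 : (Cone.pointed 𝒜 : Scheme.{u}).OpenCover :=
    .mkOfCovers (Σ i : PNat, 𝒜 i) (fun j => Spec (CommRingCat.of (Localization.Away (j.2 : A))))
      (fun j => Cone.chart j.2.2 j.1.2)
      (fun x => by
        obtain ⟨d, f, hd, hf, y, hy⟩ := hcov x
        exact ⟨⟨⟨d, hd⟩, f, hf⟩, y, hy⟩)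
      (fun j => hoi j.2.2 j.1.2)
  let g : ∀ j : (Σ i : PNat, 𝒜 i), Spec (CommRingCat.of (Localization.Away (j.2 : A))) ⟶ Proj 𝒜 := fun j =>
    Spec.map (CommRingCat.ofHom (algebraMap (HomogeneousLocalization.Away 𝒜 (j.2 : A)) (Localization.Away (j.2 : A)))) ≫
      Proj.awayι 𝒜 (j.2 : A) j.2.2 j.1.2
  have hg : ∀ s t : (Σ i : PNat, 𝒜 i),
      pullback.fst (𝒰.f s) (𝒰.f t) ≫ g s = pullback.snd (𝒰.f s) (𝒰.f t) ≫ g t := by
    rintro ⟨i, f, hf⟩ ⟨l, k, hk⟩
    have hd : 0 < (i : ℕ) := i.2
    have he : 0 < (l : ℕ) := l.2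
    have := hoi hf hd
    have := hoi hk he
    change pullback.fst (Cone.chart hf hd) (Cone.chart hk he) ≫ _ = pullback.snd (Cone.chart hf hd) (Cone.chart hk he) ≫ _
    let a : Localization.Away f →+* Localization.Away (f * k) :=
      IsLocalization.Away.awayToAwayRight (S := Localization.Away f) f k
    let b : Localization.Away k →+* Localization.Away (f * k) :=
      IsLocalization.Away.awayToAwayLeft (S := Localization.Away k) k f
    have ha : a.comp (algebraMap A _) = algebraMap A _ := IsLocalization.lift_comp _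
    have hb : b.comp (algebraMap A _) = algebraMap A _ := IsLocalization.lift_comp _
    have ha' : Spec.map (CommRingCat.ofHom a) ≫ Cone.chart hf hd ≫ (Cone.pointed 𝒜).ι =
        Spec.map (CommRingCat.ofHom (algebraMap A (Localization.Away (f * k)))) := by
      rw [cι hf hd, ← Spec.map_comp, ← CommRingCat.ofHom_comp, ha]
    have hb' : Spec.map (CommRingCat.ofHom b) ≫ Cone.chart hk he ≫ (Cone.pointed 𝒜).ι =
        Spec.map (CommRingCat.ofHom (algebraMap A (Localization.Away (f * k)))) := by
      rw [cι hk he, ← Spec.map_comp, ← CommRingCat.ofHom_comp, hb]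
    have hA : IsOpenImmersion (Spec.map (CommRingCat.ofHom a)) := by
      have : IsOpenImmersion (Spec.map (CommRingCat.ofHom a) ≫ Cone.chart hf hd ≫ (Cone.pointed 𝒜).ι) := by
        rw [ha']; exact IsOpenImmersion.of_isLocalization (f * k)
      exact IsOpenImmersion.of_comp _ (Cone.chart hf hd ≫ (Cone.pointed 𝒜).ι)
    have sq : IsPullback (Spec.map (CommRingCat.ofHom a)) (Spec.map (CommRingCat.ofHom b))
        (Cone.chart hf hd) (Cone.chart hk he) := by
      have hB : IsOpenImmersion (Spec.map (CommRingCat.ofHom b)) := by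
        have : IsOpenImmersion (Spec.map (CommRingCat.ofHom b) ≫ Cone.chart hk he ≫ (Cone.pointed 𝒜).ι) := by
          rw [hb']; exact IsOpenImmersion.of_isLocalization (f * k)
        exact IsOpenImmersion.of_comp _ (Cone.chart hk he ≫ (Cone.pointed 𝒜).ι)
      apply IsOpenImmersion.isPullback
      · exact (cancel_mono (Cone.pointed 𝒜).ι).1 (by rw [Category.assoc, Category.assoc, ha', hb'])
      · ext z
        have hr : ∀ (c : A), Set.range (Spec.map (CommRingCat.ofHom (algebraMap A (Localization.Away c)))).base =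
            (PrimeSpectrum.basicOpen c : Set (PrimeSpectrum A)) := fun c =>
          PrimeSpectrum.localization_away_comap_range _ c
        constructor
        · rintro ⟨w, hw⟩
          have h1 : (Spec.map (CommRingCat.ofHom (algebraMap A (Localization.Away k)))).base z ∈
              Set.range (Spec.map (CommRingCat.ofHom (algebraMap A (Localization.Away f)))).base :=
            ⟨w, by rw [← cι hf hd, ← cι hk he, Scheme.Hom.comp_apply, Scheme.Hom.comp_apply, hw]⟩
          rw [hr f] at h1
          have h2 : (Spec.map (CommRingCat.ofHom (algebraMap A (Localization.Away k)))).base z ∈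
              (PrimeSpectrum.basicOpen k : Set (PrimeSpectrum A)) := hr k ▸ ⟨z, rfl⟩
          have h3 : (Spec.map (CommRingCat.ofHom (algebraMap A (Localization.Away k)))).base z ∈
              Set.range (Spec.map (CommRingCat.ofHom (algebraMap A (Localization.Away (f * k))))).base := by
            rw [hr (f * k), PrimeSpectrum.basicOpen_mul]
            exact ⟨h1, h2⟩
          obtain ⟨w', hw'⟩ := h3
          refine ⟨w', ?_⟩
          have hinj : IsOpenImmersion (Spec.map (CommRingCat.ofHom (algebraMap A (Localization.Away k)))) :=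
            IsOpenImmersion.of_isLocalization k
          refine (Spec.map (CommRingCat.ofHom (algebraMap A (Localization.Away k)))).isOpenEmbedding.injective ?_
          rw [← Scheme.Hom.comp_apply]
          refine Eq.trans ?_ hw'
          congr 2
          rw [← hb', cι hk he]
        · rintro ⟨w, rfl⟩
          refine ⟨(Spec.map (CommRingCat.ofHom a)).base w, ?_⟩
          have hc : Spec.map (CommRingCat.ofHom a) ≫ Cone.chart hf hd = Spec.map (CommRingCat.ofHom b) ≫ Cone.chart hk he :=
            (cancel_mono (Cone.pointed 𝒜).ι).1 (by rw [Category.assoc, Category.assoc, ha', hb'])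
          rw [← Scheme.Hom.comp_apply, ← Scheme.Hom.comp_apply, hc]
    rw [← cancel_epi sq.isoPullback.hom, IsPullback.isoPullback_hom_fst_assoc, IsPullback.isoPullback_hom_snd_assoc]
    simp only [g]
    have e₁ : a.comp (algebraMap (HomogeneousLocalization.Away 𝒜 f) (Localization.Away f)) =
        (algebraMap (HomogeneousLocalization.Away 𝒜 (f * k)) (Localization.Away (f * k))).comp
          (HomogeneousLocalization.awayMap 𝒜 hk rfl) := by
      refine RingHom.ext fun z => ?_
      simp only [RingHom.comp_apply, HomogeneousLocalization.algebraMap_apply, HomogeneousLocalization.val_awayMap]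
      rfl
    have e₂ : b.comp (algebraMap (HomogeneousLocalization.Away 𝒜 k) (Localization.Away k)) =
        (algebraMap (HomogeneousLocalization.Away 𝒜 (f * k)) (Localization.Away (f * k))).comp
          (HomogeneousLocalization.awayMap 𝒜 hf (mul_comm f k)) := by
      refine RingHom.ext fun z => ?_
      simp only [RingHom.comp_apply, HomogeneousLocalization.algebraMap_apply, HomogeneousLocalization.val_awayMap]
      rfl
    rw [← Spec.map_comp_assoc, ← Spec.map_comp_assoc, ← CommRingCat.ofHom_comp, ← CommRingCat.ofHom_comp, e₁, e₂]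
    rw [CommRingCat.ofHom_comp, CommRingCat.ofHom_comp, Spec.map_comp_assoc, Spec.map_comp_assoc,
      Proj.SpecMap_awayMap_awayι, Proj.SpecMap_awayMap_awayι]
    rfl
  refine ⟨𝒰.glueMorphisms g hg, fun d f hd hf => 𝒰.ι_glueMorphisms g hg ⟨⟨d, hd⟩, ⟨f, hf⟩⟩, fun p hp => ?_⟩
  refine 𝒰.hom_ext _ _ fun j => ?_
  exact (hp j.1 j.2 j.1.2 j.2.2).trans (𝒰.ι_glueMorphisms g hg j).symm

end Groth.Agent.S3574
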