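import Groth.Statements.S3576
import Groth.Agent.H11Cone.PointedRetr
import Groth.Agent.H11Cone.RetrFibre

set_option autoImplicit false
universe u
open CategoryTheory CategoryTheory.Limits AlgebraicGeometry
open EGA2

namespace Groth.Agent.S3576

/-- Over an affine base Spec R: let S be a graded R-algebra whose irrelevant ideal is generated by its
degree-one elements, E the pointed affine cone of S and π : E → X = Proj S the canonical retraction
(the morphism restricting on each chart D(f), f homogeneous of positive degree, to Spec S_f → Spec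
S_(f) → Proj S). Then π is of finite type, and for every point x of X the fibre of π at x is
isomorphic over the residue field κ(x) to Spec κ(x)[T, T⁻¹]. -/
theorem result {R A : Type u} [CommRing R] [CommRing A] [Algebra R A] (𝒜 : ℕ → Submodule R A) [GradedAlgebra 𝒜]
    (hgen : (HomogeneousIdeal.irrelevant 𝒜).toIdeal = Ideal.span (𝒜 1 : Set A))
    (π : (Cone.pointed 𝒜 : Scheme.{u}) ⟶ Proj 𝒜)
    (hπ : ∀ (d : ℕ) (f : A) (hd : 0 < d) (hf : f ∈ 𝒜 d),
        Cone.chart hf hd ≫ π =
          Spec.map (CommRingCat.ofHom (algebraMap (HomogeneousLocalization.Away 𝒜 f) (Localization.Away f))) ≫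
            Proj.awayι 𝒜 f hf hd)
    (x : Proj 𝒜) :
    LocallyOfFiniteType π ∧ QuasiCompact π ∧
      ∃ e : pullback π ((Proj 𝒜).fromSpecResidueField x) ≅
          Spec (CommRingCat.of (LaurentPolynomial ((Proj 𝒜).residueField x))),
        e.hom ≫ Spec.map (CommRingCat.ofHom (algebraMap ((Proj 𝒜).residueField x)
          (LaurentPolynomial ((Proj 𝒜).residueField x)))) = pullback.snd π ((Proj 𝒜).fromSpecResidueField x) := by
  have H : ∀ y : Proj 𝒜, Groth.Agent.H11Cone.RetrFibre.LaurentChartAt π y := fun y => by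
    obtain ⟨f, hf, hy⟩ := Groth.Agent.H11Cone.RetrFibre.exists_degree_one_notMem 𝒜 hgen.le y
    refine ⟨_, Proj.awayι 𝒜 f hf one_pos, inferInstance, _, inferInstance, _, _,
      RingEquiv.ofBijective _ (Groth.Agent.H11Proj.PolyAway.laurentHom_bijective 𝒜 hf),
      Groth.Agent.H11Cone.PointedRetr.isPullback_chart π hπ hf one_pos, ?_, RingHom.ext fun c => ?_⟩
    · rwa [Proj.opensRange_awayι]
    · exact Groth.Agent.H11Proj.PolyAway.laurentHom_C 𝒜 c
  obtain ⟨h1, h2, h3⟩ := Groth.Agent.H11Cone.RetrFibre.laurent_conclusion H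
  exact ⟨h1, h2, h3 x⟩

end Groth.Agent.S3576
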