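import Groth.Statements.S3584
import Groth.Agent.H11Tilde.Global

set_option autoImplicit false
universe u
open CategoryTheory CategoryTheory.Limits AlgebraicGeometry
open EGA2

open TopologicalSpace Opposite
namespace Groth.Agent.S3584

/-- Let S be a graded ring whose irrelevant ideal S_+ is generated by finitely many elements of degree
one. Then the twisting sheaf O_X(1) on X = Proj S is ample (X is quasi-compact and covered by the
affine non-vanishing loci of sections of the positive powers of O_X(1)). -/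
theorem result {R A : Type u} [CommRing R] [CommRing A] [Algebra R A] (𝒜 : ℕ → Submodule R A) [GradedAlgebra 𝒜]
    (s : Finset A) (hs1 : ∀ f ∈ s, f ∈ 𝒜 1)
    (hs : (HomogeneousIdeal.irrelevant 𝒜).toIdeal = Ideal.span (s : Set A)) :
    CohB1.IsAmple (Twist.twist 𝒜 1) := by
  classical
  have h1 : ∀ x : Proj 𝒜, ∃ f ∈ s, f ∉ x.asHomogeneousIdeal := by
    intro x
    by_contra hne
    push Not at hne
    exact x.not_irrelevant_le (hs.le.trans (Ideal.span_le.2 hne))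
  have hdeg : ∀ x : Proj 𝒜, ∃ f ∈ 𝒜 1, f ∉ x.asHomogeneousIdeal := fun x =>
    let ⟨f, hf, hfx⟩ := h1 x
    ⟨f, hs1 f hf, hfx⟩
  refine ⟨Groth.Agent.H11Tilde.isInvertible_twist 𝒜 hdeg 1, ?_, fun x => ?_⟩
  · refine isCompact_univ_iff.1 ?_
    have hcov : (Set.univ : Set (Proj 𝒜)) = ⋃ f ∈ s, (Proj.basicOpen 𝒜 f : Set (Proj 𝒜)) := by
      refine Set.eq_univ_iff_forall.2 (fun x => ?_) |>.symm
      obtain ⟨f, hf, hfx⟩ := h1 x
      exact Set.mem_iUnion₂.2 ⟨f, hf, hfx⟩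
    rw [hcov]
    exact s.finite_toSet.isCompact_biUnion fun f hf =>
      (Proj.isAffineOpen_basicOpen 𝒜 f (hs1 f hf) Nat.one_pos).isCompact
  · obtain ⟨f, hf, hfx⟩ := h1 x
    obtain ⟨e⟩ := Groth.Agent.H11Tilde.nonempty_twist_iso_tensorPow 𝒜 hdeg 1
    refine ⟨0, Groth.Agent.H11Tilde.homOfGlobal _ (Groth.Agent.H11Tilde.globalSec 𝒜 (hs1 f hf)) ≫ e.hom, ?_⟩
    have hg : CohB1.genLocus _ (Groth.Agent.H11Tilde.homOfGlobal _ (Groth.Agent.H11Tilde.globalSec 𝒜 (hs1 f hf)) ≫ e.hom) =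
        Proj.basicOpen 𝒜 f :=
      (Groth.Agent.H11Tilde.genLocus_comp_iso _ _).trans (Groth.Agent.H11Tilde.genLocus_globalSec 𝒜 (hs1 f hf) hdeg)
    refine Eq.mpr (congrArg (fun O => x ∈ O ∧ IsAffineOpen O) hg) ?_
    exact ⟨hfx, Proj.isAffineOpen_basicOpen 𝒜 f (hs1 f hf) Nat.one_pos⟩

end Groth.Agent.S3584
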