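import Groth.Statements.S3588
import Groth.Agent.H11Proj.Scheme

set_option autoImplicit false
universe u
open CategoryTheory CategoryTheory.Limits AlgebraicGeometry
open EGA2

open Groth.Agent.H11Proj

namespace Groth.Agent.S3588

/-- Let S be a graded ring, N_+ the set of nilpotent elements of S_+ (an ideal of S), and S → S/N_+ the
quotient (here: any surjective homomorphism of graded rings φ : S → S' whose kernel is N_+). Then
the induced morphism Proj S' → Proj S is a closed immersion which is a homeomorphism of the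
underlying spaces, and Proj S' is reduced; thus Proj S' is the reduced closed subscheme (Proj
S)_red. -/
theorem result {R A : Type u} [CommRing R] [CommRing A] [Algebra R A] (𝒜 : ℕ → Submodule R A) [GradedAlgebra 𝒜]
    {B : Type u} [CommRing B] [Algebra R B] (ℬ : ℕ → Submodule R B) [GradedAlgebra ℬ]
    (φ : 𝒜 →+*ᵍ ℬ) (hsurj : Function.Surjective φ)
    (hker : ∀ a : A, φ a = 0 ↔ a ∈ (HomogeneousIdeal.irrelevant 𝒜).toIdeal ∧ IsNilpotent a)
    (hφ : HomogeneousIdeal.irrelevant ℬ ≤ (HomogeneousIdeal.irrelevant 𝒜).map φ) :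
    IsClosedImmersion (Proj.map φ hφ) ∧ IsHomeomorph (Proj.map φ hφ).base ∧
      AlgebraicGeometry.IsReduced (Proj ℬ) := by
  have hcl := isClosedImmersion_map φ hφ hsurj
  refine ⟨hcl, ?_, ?_⟩
  · have hd : DenseRange (Proj.map φ hφ).base :=
      denseRange_map φ hφ fun a ha => ((hker a).1 ha).2
    have hc := (Proj.map φ hφ).isClosedEmbedding
    refine isHomeomorph_iff_isEmbedding_surjective.2 ⟨hc.toIsEmbedding, ?_⟩
    rw [← Set.range_eq_univ, ← hc.isClosed_range.closure_eq]
    exact hd.closure_range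
  · refine isReduced_proj fun b hb hnb => ?_
    obtain ⟨a, rfl⟩ := hsurj b
    classical
    have h0 : φ (DirectSum.decompose 𝒜 a 0 : A) = 0 := by
      rw [map_proj φ a 0]
      exact decompose_zero_eq_zero_of_mem_irrelevant ℬ hb
    let a' : A := a - (DirectSum.decompose 𝒜 a 0 : A)
    have hφa : φ a' = φ a := by rw [map_sub, h0, sub_zero]
    have ha' : a' ∈ (HomogeneousIdeal.irrelevant 𝒜).toIdeal := by
      change GradedRing.proj 𝒜 0 a' = 0
      simp only [a', map_sub, GradedRing.proj_apply]
      rw [DirectSum.decompose_of_mem_same 𝒜 (DirectSum.decompose 𝒜 a 0).2, sub_self]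
    obtain ⟨k, hk⟩ := hnb
    have hk' : φ (a' ^ k) = 0 := by rw [map_pow, hφa, hk]
    obtain ⟨m, hm⟩ := ((hker _).1 hk').2
    rw [← hφa]
    exact (hker a').2 ⟨ha', k * m, by rw [pow_mul, hm]⟩

end Groth.Agent.S3588
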