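import Groth.Statements.S3593
import Groth.Agent.H11Proj.DegZeroProj

set_option autoImplicit false
universe u
open CategoryTheory CategoryTheory.Limits AlgebraicGeometry
open EGA2

open Groth.Agent.H11Proj

namespace Groth.Agent.S3593

/-- Let S be a graded R-algebra, Ŝ a graded R-algebra with a graded homomorphism φ : S → Ŝ making Ŝ an
S-algebra, and z an element of Ŝ of degree one such that the S-algebra map S[X] → Ŝ, X ↦ z, is
bijective (so Ŝ = S[z] with z in degree one, the graded ring of the projective cone of S). Then
there is a ring isomorphism S ≅ Ŝ_(z) onto the degree-zero localization at z, sending a homogeneous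
a of degree n to φ(a)/z^n. (This is the isomorphism that identifies the affine cone Spec S with the
open D_+(z) of the projective cone Proj Ŝ; that identification itself is not asserted here.) -/
theorem result {R A : Type u} [CommRing R] [CommRing A] [Algebra R A] (𝒜 : ℕ → Submodule R A) [GradedAlgebra 𝒜]
    {B : Type u} [CommRing B] [Algebra R B] (ℬ : ℕ → Submodule R B) [GradedAlgebra ℬ]
    [Algebra A B] [IsScalarTower R A B] (φ : 𝒜 →+*ᵍ ℬ) (hφ : ∀ a : A, φ a = algebraMap A B a)
    (z : B) (hz : z ∈ ℬ 1) (hhat : Function.Bijective (Polynomial.aeval (R := A) z)) :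
    ∃ θ : A ≃+* HomogeneousLocalization.Away ℬ z,
      ∀ (n : ℕ) (a : A), a ∈ 𝒜 n → (θ a).val = Localization.mk (φ a) ⟨z ^ n, pow_mem (Submonoid.mem_powers z) n⟩ := by
  let L := awayProj ℬ hz
  have hLmul : ∀ a b : B, L (a * b) = L a * L b := fun a b => by
    refine eq_on_homogeneous ℬ (g₁ := L.comp (AddMonoidHom.mulRight b))
      (g₂ := (AddMonoidHom.mulRight (L b)).comp L) (fun k c hc => ?_) a
    exact awayProj_mul ℬ hz one_pos (n := k) (by rwa [smul_eq_mul, mul_one]) b
  let L' : B →+* HomogeneousLocalization.Away ℬ z :=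
    { L with
      map_one' := by
        have h1 : (1 : B) ∈ ℬ (0 • 1) := by rw [zero_smul]; exact SetLike.GradedOne.one_mem
        change L 1 = 1
        rw [show L 1 = _ from awayProj_mk ℬ hz one_pos h1]
        apply HomogeneousLocalization.val_injective
        rw [HomogeneousLocalization.val_one, HomogeneousLocalization.Away.val_mk, ← Localization.mk_one]
        congr 1
        exact Subtype.ext (pow_zero z)
      map_mul' := hLmul }
  let θ : A →+* HomogeneousLocalization.Away ℬ z := L'.comp φ.toRingHom
  let e : B →+* A := (Polynomial.evalRingHom 1).comp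
    (AlgEquiv.ofBijective (Polynomial.aeval (R := A) z) hhat).symm.toRingEquiv.toRingHom
  have heaev : ∀ q : Polynomial A, e (Polynomial.aeval z q) = q.eval 1 := fun q => by
    change Polynomial.eval 1 ((AlgEquiv.ofBijective (Polynomial.aeval (R := A) z) hhat).symm
      ((AlgEquiv.ofBijective (Polynomial.aeval (R := A) z) hhat) q)) = _
    rw [AlgEquiv.symm_apply_apply]
  have hez : e z = 1 := by simpa using heaev Polynomial.X
  have heφ : ∀ a, e (φ a) = a := fun a => by simpa [hφ] using heaev (Polynomial.C a)
  have hLz : L' z = 1 := awayProj_self ℬ hz one_pos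
  have hθe : ∀ b : B, θ (e b) = L' b := fun b => by
    obtain ⟨q, rfl⟩ := hhat.2 b
    rw [heaev]
    induction q using Polynomial.induction_on' with
    | add p q hp hq => simp only [Polynomial.eval_add, map_add, hp, hq]
    | monomial n a =>
      rw [Polynomial.eval_monomial, one_pow, mul_one, Polynomial.aeval_monomial, map_mul, map_pow, hLz,
        one_pow, mul_one, ← hφ]
      rfl
  have hu : IsUnit (e z) := by rw [hez]; exact isUnit_one
  let ε : Localization.Away z →+* A := IsLocalization.Away.lift z hu
  have hεθ : ∀ a, ε (θ a).val = a := fun a => by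
    refine eq_on_homogeneous 𝒜 (g₁ := (ε.comp
      ((algebraMap (HomogeneousLocalization.Away ℬ z) (Localization.Away z)).comp θ)).toAddMonoidHom)
      (g₂ := AddMonoidHom.id A) (fun k c hc => ?_) a
    change ε (L (φ c)).val = c
    have hc' : φ c ∈ ℬ (k • 1) := by rw [smul_eq_mul, mul_one]; exact φ.2 hc
    rw [show L (φ c) = _ from awayProj_mk ℬ hz one_pos hc', HomogeneousLocalization.Away.val_mk,
      Localization.mk_eq_mk']
    refine (IsLocalization.lift_mk'_spec _ _ _ _).2 ?_
    simp [hez, heφ]
  have hbij : Function.Bijective θ := by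
    refine ⟨fun a b h => by rw [← hεθ a, ← hεθ b, h], fun w => ?_⟩
    obtain ⟨n, b, hb, rfl⟩ := HomogeneousLocalization.Away.mk_surjective ℬ hz w
    exact ⟨e b, (hθe b).trans (awayProj_mk ℬ hz one_pos hb)⟩
  refine ⟨RingEquiv.ofBijective θ hbij, fun n a ha => ?_⟩
  have ha' : φ a ∈ ℬ (n • 1) := by rw [smul_eq_mul, mul_one]; exact φ.2 ha
  change (L (φ a)).val = _
  rw [show L (φ a) = _ from awayProj_mk ℬ hz one_pos ha', HomogeneousLocalization.Away.val_mk]

end Groth.Agent.S3593
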