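import Groth.Statements.S3594
import Groth.Agent.H11Proj.Scheme

set_option autoImplicit false
universe u
open CategoryTheory CategoryTheory.Limits AlgebraicGeometry
open EGA2

open Groth.Agent.H11Proj

namespace Groth.Agent.S3594

/-- The closed immersion at infinity of a projective cone: let S be a graded R-algebra and Ŝ a graded
R-algebra over S such that the structure map φ : S → Ŝ is a graded homomorphism and Ŝ = S[z] is the
polynomial algebra on an element z of degree one (evaluation at z is a bijection S[T] → Ŝ); let ψ :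
Ŝ → S be a graded homomorphism retracting φ and killing z, with S₊ contained in the ideal generated
by ψ(Ŝ₊) so that j = Proj(ψ) : X = Proj S → Ĉ = Proj Ŝ is defined (it is the canonical closed
immersion). Then the image of j is exactly the complement of the open subset D₊(z) of Proj Ŝ (which
is the affine cone C = Spec S). -/
theorem result {R A : Type u} [CommRing R] [CommRing A] [Algebra R A] (𝒜 : ℕ → Submodule R A) [GradedAlgebra 𝒜]
    {B : Type u} [CommRing B] [Algebra R B] (ℬ : ℕ → Submodule R B) [GradedAlgebra ℬ]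
    [Algebra A B] [IsScalarTower R A B] (φ : 𝒜 →+*ᵍ ℬ) (hφ : ∀ a : A, φ a = algebraMap A B a)
    (z : B) (hz : z ∈ ℬ 1) (hhat : Function.Bijective (Polynomial.aeval (R := A) z))
    (ψ : ℬ →+*ᵍ 𝒜) (hψφ : ∀ a : A, ψ (φ a) = a) (hψz : ψ z = 0)
    (hψ : HomogeneousIdeal.irrelevant 𝒜 ≤ (HomogeneousIdeal.irrelevant ℬ).map ψ) :
    Set.range (Proj.map ψ hψ).base = ((Proj.basicOpen ℬ z : Set (Proj ℬ)))ᶜ := by
  have hψs : Function.Surjective ψ := fun a => ⟨φ a, hψφ a⟩
  have hker : ∀ b : B, ψ b = 0 → z ∣ b := by
    intro b hb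
    obtain ⟨q, rfl⟩ := hhat.2 b
    have h : ψ (Polynomial.aeval z q) = q.coeff 0 := by
      clear hb
      induction q using Polynomial.induction_on' with
      | add p q hp hq => rw [map_add, map_add, hp, hq, Polynomial.coeff_add]
      | monomial n a =>
        rw [Polynomial.aeval_monomial, map_mul, map_pow, hψz, ← hφ, hψφ, Polynomial.coeff_monomial]
        cases n <;> simp
    obtain ⟨r, hr⟩ := Polynomial.X_dvd_iff.2 (h.symm.trans hb)
    exact ⟨Polynomial.aeval z r, by rw [hr, map_mul, Polynomial.aeval_X]⟩
  ext x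
  constructor
  · rintro ⟨y, rfl⟩ hz'
    apply hz'
    change ψ z ∈ y.asHomogeneousIdeal.toIdeal
    rw [hψz]
    exact zero_mem _
  · intro hx
    have hzx : z ∈ x.asHomogeneousIdeal.toIdeal := not_not.1 hx
    have hle : RingHom.ker ψ.toRingHom ≤ x.asHomogeneousIdeal.toIdeal := fun b hb => by
      obtain ⟨c, rfl⟩ := hker b hb
      exact Ideal.mul_mem_right _ _ hzx
    have hcm : (x.asHomogeneousIdeal.toIdeal.map ψ.toRingHom).comap ψ.toRingHom =
        x.asHomogeneousIdeal.toIdeal := by
      exact (Ideal.comap_map_of_surjective' ψ.toRingHom hψs _).trans (sup_eq_left.2 hle)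
    have := x.isPrime
    let y : Proj 𝒜 :=
      { asHomogeneousIdeal := x.asHomogeneousIdeal.map ψ
        isPrime := by
          change (x.asHomogeneousIdeal.toIdeal.map ψ.toRingHom).IsPrime
          exact Ideal.map_isPrime_of_surjective hψs hle
        not_irrelevant_le := fun h => x.not_irrelevant_le ((irrelevant_le_iff ℬ).2 fun d hd b hb => by
          exact hcm.le (show b ∈ (x.asHomogeneousIdeal.toIdeal.map ψ.toRingHom).comap ψ.toRingHom from
            h (mem_irrelevant_of_pos 𝒜 hd (ψ.2 hb)))) }
    exact ⟨y, ProjectiveSpectrum.ext (HomogeneousIdeal.toIdeal_injective hcm)⟩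

end Groth.Agent.S3594
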