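import Groth.Statements.S3597
import Groth.Agent.H11Proj.PCone

set_option autoImplicit false
universe u
open CategoryTheory CategoryTheory.Limits AlgebraicGeometry
open EGA2

open Groth.Agent.H11Proj Groth.Agent.H11Proj.PConeLib

namespace Groth.Agent.S3597

/-- Let S be a graded algebra over a ring and Ŝ = S[z] the graded S-algebra obtained by adjoining a
variable z in degree 1 (an S-algebra with an element z of degree 1 such that S[T] → Ŝ, T ↦ z, is
bijective), with φ : S → Ŝ the graded structure map and ψ : Ŝ → S the graded retraction with ψ ∘ φ =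
id and ψ(z) = 0 (the irrelevant-ideal containment needed to define Proj(ψ) on all of X = Proj S
carried as a hypothesis). Let Ê ⊆ Ĉ = Proj Ŝ be the pointed projective cone, the open union of the
D_+(φ f) for f ∈ S homogeneous of positive degree, and p : Ê → X a morphism which on each chart
D_+(φ f) = Spec Ŝ_{(φ f)} is induced by S_{(f)} → Ŝ_{(φ f)} (the canonical retraction). Then p is
surjective, and the closed immersion j = Proj(ψ) : X → Ĉ factors through Ê with p ∘ j = id_X. -/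
theorem result {R A : Type u} [CommRing R] [CommRing A] [Algebra R A] (𝒜 : ℕ → Submodule R A) [GradedAlgebra 𝒜]
    {B : Type u} [CommRing B] [Algebra R B] (ℬ : ℕ → Submodule R B) [GradedAlgebra ℬ]
    [Algebra A B] [IsScalarTower R A B] (φ : 𝒜 →+*ᵍ ℬ) (hφ : ∀ a : A, φ a = algebraMap A B a)
    (z : B) (hz : z ∈ ℬ 1) (hhat : Function.Bijective (Polynomial.aeval (R := A) z))
    (ψ : ℬ →+*ᵍ 𝒜) (hψφ : ∀ a : A, ψ (φ a) = a) (hψz : ψ z = 0)
    (hψ : HomogeneousIdeal.irrelevant 𝒜 ≤ (HomogeneousIdeal.irrelevant ℬ).map ψ)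
    (p : (PCone.dom φ : Scheme.{u}) ⟶ Proj 𝒜) (hp : ∀ (d : ℕ) (f : A) (hd : 0 < d) (hf : f ∈ 𝒜 d),
        PCone.chart φ hf hd ≫ p =
          Spec.map (CommRingCat.ofHom (HomogeneousLocalization.Away.map φ f)) ≫ Proj.awayι 𝒜 f hf hd) :
    Surjective p ∧ ∃ j : Proj 𝒜 ⟶ (PCone.dom φ : Scheme.{u}), j ≫ (PCone.dom φ).ι = Proj.map ψ hψ ∧ j ≫ p = 𝟙 (Proj 𝒜) := by
  have hrange : Set.range (Proj.map ψ hψ).base ⊆ Set.range (PCone.dom φ).ι.base := by
    rw [Scheme.Opens.range_ι]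
    rintro _ ⟨x, rfl⟩
    obtain ⟨d, hd, f, hf, hfx⟩ : ∃ d, 0 < d ∧ ∃ f ∈ 𝒜 d, f ∉ x.asHomogeneousIdeal.toIdeal := by
      by_contra h
      push Not at h
      exact x.not_irrelevant_le ((irrelevant_le_iff 𝒜).2 fun d hd a ha => h d hd a ha)
    refine (mem_dom_iff φ _).2 ⟨d, hd, f, hf, ?_⟩
    change x ∈ Proj.map ψ hψ ⁻¹ᵁ Proj.basicOpen ℬ (φ f)
    rw [Proj.map_preimage_basicOpen, hψφ]
    exact hfx
  let j : Proj 𝒜 ⟶ (PCone.dom φ : Scheme.{u}) := IsOpenImmersion.lift (PCone.dom φ).ι (Proj.map ψ hψ) hrange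
  have hj : j ≫ (PCone.dom φ).ι = Proj.map ψ hψ := IsOpenImmersion.lift_fac _ _ _
  have hjp : j ≫ p = 𝟙 (Proj 𝒜) := by
    refine (Proj.affineOpenCover 𝒜).openCover.hom_ext _ _ fun (i : Σ n : PNat, 𝒜 n) => ?_
    obtain ⟨n, f, hf⟩ := i
    have hd : 0 < (n : ℕ) := n.2
    rw [Category.comp_id]
    suffices H : ∀ (s : A) (hs : s ∈ 𝒜 n), s = ψ (φ f) →
        Proj.awayι 𝒜 s hs hd ≫ j ≫ p = Proj.awayι 𝒜 s hs hd from H f hf (hψφ f).symm
    rintro s hs rfl
    have hfac : Proj.awayι 𝒜 (ψ (φ f)) hs hd ≫ j =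
        Spec.map (CommRingCat.ofHom (HomogeneousLocalization.Away.map ψ (φ f))) ≫ PCone.chart φ hf hd := by
      rw [← cancel_mono (PCone.dom φ).ι, Category.assoc, Category.assoc, hj, chart_ι]
      exact Proj.awayι_comp_map ψ hψ hd (φ f) (φ.2 hf)
    rw [← Category.assoc, hfac, Category.assoc, hp n f hd hf, ← Spec.map_comp_assoc, ← CommRingCat.ofHom_comp]
    refine specMap_awayι_of_id hf hs hd (hψφ f) _ fun k a ha => ?_
    rw [RingHom.comp_apply, HomogeneousLocalization.Away.map_mk φ f hf k a ha,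
      HomogeneousLocalization.Away.map_mk ψ (φ f) (φ.2 hf) k (φ a) (φ.2 ha)]
    apply HomogeneousLocalization.val_injective
    simp [hψφ]
  refine ⟨⟨fun x => ⟨j.base x, ?_⟩⟩, j, hj, hjp⟩
  exact (Scheme.Hom.comp_apply j p x).symm.trans (by rw [hjp]; rfl)

end Groth.Agent.S3597
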