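import Groth.Statements.S3608
import Groth.Agent.LeadBrown.Independent

set_option autoImplicit false
set_option linter.style.haveILetI false
universe u
open CategoryTheory CategoryTheory.Limits AlgebraicGeometry
attribute [local instance] HasDerivedCategory.standard
open Dual3

namespace Groth.Agent.S3608

/-- Let S be a Noetherian scheme, X and Y schemes separated and of finite type over S and f : X → Y a
morphism over S; compute f^! through a compactification f = j ∘ p (j : X → X' an open immersion, p :
X' → Y proper, Rp_* on D_QCoh assumed to exist and to preserve quasi-coherence of cohomology, a a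
right adjoint of Rp_*, restriction of modules to opens assumed exact), so that f^!K = a(K)|_X. If f
is an open immersion then f^! is isomorphic, as a functor on D^+_QCoh(O_Y), to restriction K ↦ K|_X. -/
theorem result (S X Y : Scheme.{u}) [IsNoetherian S] (p : X ⟶ S) (q : Y ⟶ S) [Dual3.IsSepFT p] [Dual3.IsSepFT q] (f : X ⟶ Y) (w : f ≫ q = p) [IsOpenImmersion f] (c : DEt.Compactification f) [DCoh.HasRpush c.fbar] (hc : DCoh.RpushPreservesQCoh c.fbar) (a : DCoh.DQCoh Y ⥤ DCoh.DQCoh c.Xbar) (adj : DCoh.RpushQ c.fbar hc ⊣ a) [∀ (U V : Scheme.{u}) (j : U ⟶ V) [IsOpenImmersion j], PreservesFiniteLimits (Scheme.Modules.restrictFunctor j)] : Nonempty (Dual3.bddι Y ⋙ Dual3.shriekC c a ≅ Dual3.bddι Y ⋙ ObjectProperty.ι _ ⋙ DCoh.restrictD f) := by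
  haveI : IsNoetherian X := LeadBrown.isNoetherian_of_isSepFT p
  haveI : IsNoetherian Y := LeadBrown.isNoetherian_of_isSepFT q
  haveI := c.isOpenImmersion
  haveI := c.isProper
  let g := c.j.imageι ≫ c.fbar
  haveI := H16Derived.QCohD.hasRpush g
  haveI : CompactSpace c.Xbar := QuasiCompact.compactSpace_of_compactSpace c.fbar
  haveI : QuasiSeparatedSpace c.Xbar := quasiSeparatedSpace_of_quasiSeparated c.fbar
  haveI : QuasiCompact c.j := quasiCompact_of_compactSpace c.j
  haveI : CompactSpace c.j.image := QuasiCompact.compactSpace_of_compactSpace c.j.imageι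
  haveI : QuasiSeparatedSpace c.j.image := quasiSeparatedSpace_of_quasiSeparated c.j.imageι
  haveI : QuasiCompact c.j.toImage := inferInstance
  have hg : DCoh.RpushPreservesQCoh g := fun K hK => H16Derived.QCohD.isQCohD_rpush g hK
  haveI := LeadBrown.isLeftAdjoint_rpushQ g hg
  let aZ := (DCoh.RpushQ g hg).rightAdjoint
  have adjZ : DCoh.RpushQ g hg ⊣ aZ := Adjunction.ofIsLeftAdjoint _
  obtain ⟨e⟩ := LeadBrown.nonempty_shriek_iso c adj c.j.imageι c.j.toImage c.j.toImage_imageι adjZ
  have w' : c.j.toImage ≫ g = f := by rw [← Category.assoc, Scheme.Hom.toImage_imageι, c.fac]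
  obtain ⟨φ, hnat, hiso⟩ := LeadBrown.nonempty_rd_rightAdjoint_iso adjZ f c.j.toImage w'
    (LeadBrown.range_eq_preimage g f c.j.toImage w')
  refine ⟨e.symm ≪≫ NatIso.ofComponents (fun K => @asIso _ _ _ _ (φ K.obj) ?_) ?_⟩
  · obtain ⟨n, hn⟩ := K.property
    exact hiso _ n hn
  · intro K K' k
    exact hnat _ _ k.hom

end Groth.Agent.S3608
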