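import Groth.Statements.S3610
import Groth.Agent.LeadBrown.LCIShriek
import Groth.Agent.LeadBrown.ShriekTensor
import Groth.Agent.LeadBrown.SelfHom
import Groth.Agent.S1514

set_option autoImplicit false
universe u
open CategoryTheory CategoryTheory.Limits AlgebraicGeometry
attribute [local instance] HasDerivedCategory.standard
open Dual3

namespace Groth.Agent.S3610

/-- Let S be a Noetherian scheme, X and Y schemes separated and of finite type over S and f : X → Y a
morphism over S; compute f^! through a compactification f = j ∘ p (j : X → X' an open immersion, p :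
X' → Y proper, Rp_* on D_QCoh assumed to exist and to preserve quasi-coherence of cohomology, a a
right adjoint of Rp_*, restriction of modules to opens assumed exact), so that f^!K = a(K)|_X. If f
is a local complete intersection morphism then for every bounded below K in D_QCoh(O_Y) which is
perfect, f^!K is a perfect object of D(O_X). -/
theorem result (S X Y : Scheme.{u}) [IsNoetherian S] (p : X ⟶ S) (q : Y ⟶ S) [Dual3.IsSepFT p] [Dual3.IsSepFT q] (f : X ⟶ Y) (w : f ≫ q = p) (hf : Dual3.IsLCIMor f) (c : DEt.Compactification f) [DCoh.HasRpush c.fbar] (hc : DCoh.RpushPreservesQCoh c.fbar) (a : DCoh.DQCoh Y ⥤ DCoh.DQCoh c.Xbar) (adj : DCoh.RpushQ c.fbar hc ⊣ a) [∀ (U V : Scheme.{u}) (j : U ⟶ V) [IsOpenImmersion j], PreservesFiniteLimits (Scheme.Modules.restrictFunctor j)] (K : DCoh.DQCoh Y) (c₀ : ℤ) (hK : ∀ i : ℤ, i < c₀ → IsZero (DCoh.HD K.obj i)) (hP : DCoh.IsPerfect K.obj) : DCoh.IsPerfect ((Dual3.shriekC c a).obj K) := by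
  haveI := LeadBrown.isNoetherian_of_isSepFT p
  haveI := LeadBrown.isNoetherian_of_isSepFT q
  haveI := c.isOpenImmersion
  have hperf : MoreMor.IsPerfectMor f := (S1514.result f fun U V hU hV hUV =>
    (H8Props.KoszImm.isKoszulAt_chart_iff f hU hV hUV).1 fun x _ => by
      obtain ⟨U₀, V₀, e, hx, h⟩ := hf x
      exact (H8Props.KoszImm.isKoszulAt_chart_iff f U₀.2 V₀.2 e).2 h x hx).2.2
  haveI := H16Derived.KFlat.Stalk.hasLpull f
  let O : DCoh.DQCoh Y := ⟨DCoh.inD Y (Coh.structureModule Y), LeadBrown.isQCohD_oX Y⟩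
  let E := DerivedCategory.Q.objPreimage ((H16Derived.KFlat.Stalk.rd c.j).obj (a.obj O).obj)
  let eE : DCoh.toD X E ≅ (H16Derived.KFlat.Stalk.rd c.j).obj (a.obj O).obj := DerivedCategory.Q.objObjPreimageIso _
  haveI := H16Derived.KFlat.Stalk.hasLTensorCx E
  obtain ⟨φ⟩ := LeadBrown.nonempty_shriek_iso_lpull_tensor hperf c adj O H16Derived.Dual.oneIso E eE
  have hE : DCoh.IsPerfect (DCoh.toD X E) := by
    refine H16Derived.KFlat.Stalk.isPerfect_of_iso eE.symm (H16Derived.KFlat.Stalk.isPerfect_of_rd fun x => ?_)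
    obtain ⟨U, n, hx, ⟨e⟩⟩ := LeadBrown.isInvertibleD_shriek hf c adj O (Iso.refl _) x
    exact ⟨U, hx, H16Derived.KFlat.Stalk.isPerfect_of_iso e.symm
      (H16Derived.KFlat.Stalk.isPerfect_shift (H16Derived.PnD.isPerfect_one _) n)⟩
  let L := (DCoh.Lpull f).obj K.obj
  have hT := LeadBrown.isPerfect_TObj (H16Derived.KFlat.Stalk.isPerfect_lpull f hP) hE
  have hKb : Dual3.IsBddBelowQ Y K := ⟨c₀, (DerivedCategory.isGE_iff _ _).2 hK⟩
  exact H16Derived.KFlat.Stalk.isPerfect_of_iso
    (((H16Derived.Dual.ltensorCxIsoT E).app L) ≪≫ (φ.app ⟨K, hKb⟩).symm) hT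

end Groth.Agent.S3610
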