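import Groth.Statements.S3613
import Groth.Agent.LeadBrown.Rel.Main

set_option autoImplicit false
universe u
open CategoryTheory CategoryTheory.Limits AlgebraicGeometry
attribute [local instance] HasDerivedCategory.standard
open Dual3

namespace Groth.Agent.S3613

/-- Let S be a Noetherian scheme, X and Y schemes separated and of finite type over S and f : X → Y a
morphism over S; compute f^! through a compactification f = j ∘ p (j : X → X' an open immersion, p :
X' → Y proper, Rp_* on D_QCoh assumed to exist and to preserve quasi-coherence of cohomology, a a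
right adjoint of Rp_*, restriction of modules to opens assumed exact), so that f^!K = a(K)|_X.
Assume f is flat and quasi-finite and let O be the structure sheaf of Y in degree 0. Then H^i(f^!O)
= 0 for i ≠ 0 and H^0(f^!O) is a coherent O_X-module which is flat over Y; that is, f^!O = ω[0] for
a coherent Y-flat module ω. -/
theorem result (S X Y : Scheme.{u}) [IsNoetherian S] (p : X ⟶ S) (q : Y ⟶ S) [Dual3.IsSepFT p] [Dual3.IsSepFT q] (f : X ⟶ Y) (w : f ≫ q = p) [Flat f] [LocallyQuasiFinite f] (c : DEt.Compactification f) [DCoh.HasRpush c.fbar] (hc : DCoh.RpushPreservesQCoh c.fbar) (a : DCoh.DQCoh Y ⥤ DCoh.DQCoh c.Xbar) (adj : DCoh.RpushQ c.fbar hc ⊣ a) [∀ (U V : Scheme.{u}) (j : U ⟶ V) [IsOpenImmersion j], PreservesFiniteLimits (Scheme.Modules.restrictFunctor j)] (O : DCoh.DQCoh Y) (hO : Nonempty (O.obj ≅ DCoh.inD Y (Coh.structureModule Y))) : (∀ i : ℤ, i ≠ 0 → IsZero (DCoh.HD ((Dual3.shriekC c a).obj O) i)) ∧ Coh.IsCoh (DCoh.HD ((Dual3.shriekC c a).obj O) 0) ∧ FlatMod.IsFlatOver f (DCoh.HD ((Dual3.shriekC c a).obj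 O) 0) := by
  haveI : IsNoetherian X := LeadBrown.isNoetherian_of_isSepFT p
  haveI : IsNoetherian Y := LeadBrown.isNoetherian_of_isSepFT q
  haveI : LocallyOfFiniteType f := by
    haveI : LocallyOfFiniteType (f ≫ q) := by rw [w]; exact Dual3.IsSepFT.locallyOfFiniteType
    exact locallyOfFiniteType_of_comp f q
  have hd : ∀ x, FlatMor.localDim (f.fiber (f x)) (f.asFiber x) = ((0 : ℕ) : WithBot ℕ∞) := fun x => by
    exact_mod_cast H8Props.FieldDim.fibreDimAt_eq_zero_of_lqf f x
  have hCM : ∀ x, MoreMor.IsCMAt f x := fun x => by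
    obtain ⟨P⟩ := LeadBrown.Rel.nonempty_atPoint c adj O hO x
    have h0 : P.n = 0 := by exact_mod_cast P.dim.symm.trans (hd x)
    refine P.single_cm fun i hi h => hi ?_
    have := P.range i h
    omega
  simpa using LeadBrown.Rel.concentrated c adj O hO hCM 0 hd

end Groth.Agent.S3613
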