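import Groth.Statements.S3615
import Groth.Agent.LeadBrown.Rel.Main

set_option autoImplicit false
universe u
open CategoryTheory CategoryTheory.Limits AlgebraicGeometry
attribute [local instance] HasDerivedCategory.standard
open Dual3

namespace Groth.Agent.S3615

/-- Let S be a Noetherian scheme, X and Y schemes separated and of finite type over S and f : X → Y a
morphism over S; compute f^! through a compactification f = j ∘ p (j : X → X' an open immersion, p :
X' → Y proper, Rp_* on D_QCoh assumed to exist and to preserve quasi-coherence of cohomology, a a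
right adjoint of Rp_*, restriction of modules to opens assumed exact), so that f^!K = a(K)|_X.
Assume f is flat and let O be the structure sheaf of Y in degree 0 and x a point of X. Then f is
Cohen–Macaulay at x if and only if there are an open neighbourhood U of x and an integer n such that
H^i(f^!O) restricts to zero on U for every i ≠ n while H^n(f^!O) does not. -/
theorem result (S X Y : Scheme.{u}) [IsNoetherian S] (p : X ⟶ S) (q : Y ⟶ S) [Dual3.IsSepFT p] [Dual3.IsSepFT q] (f : X ⟶ Y) (w : f ≫ q = p) [Flat f] (c : DEt.Compactification f) [DCoh.HasRpush c.fbar] (hc : DCoh.RpushPreservesQCoh c.fbar) (a : DCoh.DQCoh Y ⥤ DCoh.DQCoh c.Xbar) (adj : DCoh.RpushQ c.fbar hc ⊣ a) [∀ (U V : Scheme.{u}) (j : U ⟶ V) [IsOpenImmersion j], PreservesFiniteLimits (Scheme.Modules.restrictFunctor j)] (O : DCoh.DQCoh Y) (hO : Nonempty (O.obj ≅ DCoh.inD Y (Coh.structureModule Y))) (x : X) : MoreMor.IsCMAt f x ↔ ∃ (U : X.Opens) (n : ℤ), x ∈ U ∧ (∀ i : ℤ, i ≠ n → IsZero ((DCoh.HD ((Dual3.shriekC c a).obj O) i).restrict U.ι)) ∧ ¬ IsZero ((DCoh.HD ((Dual3.shriekC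 c a).obj O) n).restrict U.ι) := by
  haveI : IsNoetherian X := LeadBrown.isNoetherian_of_isSepFT p
  haveI : IsNoetherian Y := LeadBrown.isNoetherian_of_isSepFT q
  haveI : LocallyOfFiniteType f := by
    haveI : LocallyOfFiniteType (f ≫ q) := by rw [w]; exact Dual3.IsSepFT.locallyOfFiniteType
    exact locallyOfFiniteType_of_comp f q
  exact LeadBrown.Rel.isCMAt_iff c adj O hO x

end Groth.Agent.S3615
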