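import Groth.Statements.S3616
import Groth.Agent.LeadBrown.Rel.Gorenstein
-- import your own Groth.Agent.* helpers here

set_option autoImplicit false
universe u
open CategoryTheory CategoryTheory.Limits AlgebraicGeometry
attribute [local instance] HasDerivedCategory.standard
open Dual3

namespace Groth.Agent.S3616

/-- Let S be a Noetherian scheme, X and Y schemes separated and of finite type over S and f : X → Y a
morphism over S; compute f^! through a compactification f = j ∘ p (j : X → X' an open immersion, p :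
X' → Y proper, Rp_* on D_QCoh assumed to exist and to preserve quasi-coherence of cohomology, a a
right adjoint of Rp_*, restriction of modules to opens assumed exact), so that f^!K = a(K)|_X.
Assume f is flat and let O be the structure sheaf of Y in degree 0. Then f is Gorenstein at a point
x (flat at x with Gorenstein local ring of the fibre) if and only if x has an open neighbourhood U
such that (f^!O)|_U is an invertible object of D(O_U); and the Gorenstein locus of f is an open
subset of X. -/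
theorem result (S X Y : Scheme.{u}) [IsNoetherian S] (p : X ⟶ S) (q : Y ⟶ S) [Dual3.IsSepFT p] [Dual3.IsSepFT q] (f : X ⟶ Y) (w : f ≫ q = p) [Flat f] (c : DEt.Compactification f) [DCoh.HasRpush c.fbar] (hc : DCoh.RpushPreservesQCoh c.fbar) (a : DCoh.DQCoh Y ⥤ DCoh.DQCoh c.Xbar) (adj : DCoh.RpushQ c.fbar hc ⊣ a) [∀ (U V : Scheme.{u}) (j : U ⟶ V) [IsOpenImmersion j], PreservesFiniteLimits (Scheme.Modules.restrictFunctor j)] (O : DCoh.DQCoh Y) (hO : Nonempty (O.obj ≅ DCoh.inD Y (Coh.structureModule Y))) : (∀ x : X, Dual3.IsGorensteinAt f x ↔ ∃ U : X.Opens, x ∈ U ∧ Dual3.IsInvertibleD ((DCoh.restrictD U.ι).obj ((Dual3.shriekC c a).obj O))) ∧ IsOpen {x : X | Dual3.IsGorensteinAt f x} := by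
  haveI : IsNoetherian X := LeadBrown.isNoetherian_of_isSepFT p
  haveI : IsNoetherian Y := LeadBrown.isNoetherian_of_isSepFT q
  haveI : LocallyOfFiniteType f := by
    haveI : LocallyOfFiniteType (f ≫ q) := by rw [w]; exact Dual3.IsSepFT.locallyOfFiniteType
    exact locallyOfFiniteType_of_comp f q
  haveI : LocallyOfFinitePresentation f := inferInstance
  haveI : ∀ (R : CommRingCat.{u}), PreservesFiniteLimits (tilde.functor R) := inferInstance
  haveI : ∀ y : Y, DCoh.HasLpull (f.fiberι y) := fun y => H16Derived.KFlat.Stalk.hasLpull _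
  haveI := c.isOpenImmersion
  have hf := H8Props.PseudoCoh.isPerfectMor_of_flat f
  obtain ⟨eO⟩ := hO
  have key : ∀ x : X, Dual3.IsGorensteinAt f x ↔ ∃ U : X.Opens, x ∈ U ∧
      Dual3.IsInvertibleD ((DCoh.restrictD U.ι).obj ((Dual3.shriekC c a).obj O)) := fun x => by
    constructor
    · intro h
      obtain ⟨U, l, hl, m, hx, ⟨e⟩⟩ := LeadBrown.Rel.exists_unit_of_isGorensteinAt hf c adj O eO h
      refine ⟨l.opensRange, hx, H4RSH.isInvertibleD_of_isLocUnit fun v => ?_⟩
      exact ⟨U, l.isoOpensRange.hom, inferInstance, m, ⟨l.isoOpensRange.inv.base v,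
        congr($(l.isoOpensRange.inv_hom_id).base v)⟩,
        ⟨(H16Derived.KFlat.Stalk.rdComp l.isoOpensRange.hom l.opensRange.ι l l.isoOpensRange_hom_ι _).symm ≪≫ e⟩⟩
    · rintro ⟨U, hxU, hinv⟩
      obtain ⟨V, n, hxV, ⟨e⟩⟩ := hinv ⟨x, hxU⟩
      exact LeadBrown.Rel.isGorensteinAt_of_unit hf c adj O eO (V.ι ≫ U.ι) ⟨⟨⟨x, hxU⟩, hxV⟩, rfl⟩ n
        (H16Derived.KFlat.Stalk.rdComp V.ι U.ι (V.ι ≫ U.ι) rfl _ ≪≫ e)
  refine ⟨key, isOpen_iff_forall_mem_open.2 fun x hx => ?_⟩
  obtain ⟨U, hxU, hU⟩ := (key x).1 hx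
  exact ⟨U, fun y hy => (key y).2 ⟨U, hy, hU⟩, U.2, hxU⟩

end Groth.Agent.S3616
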