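import Groth.Statements.S3618
import Groth.Agent.LeadBrown.BCAdjoint
import Groth.Agent.H16Derived.Exchange.ProperPerf

set_option autoImplicit false
universe u
open CategoryTheory CategoryTheory.Limits AlgebraicGeometry
attribute [local instance] HasDerivedCategory.standard
open Dual3

namespace Groth.Agent.S3618

/-- Consider a cartesian square of schemes X' = Y' ×_Y X with projections f' : X' → Y' and g' : X' → X,
in which X, Y and Y' are Noetherian, X' is quasi-compact and quasi-separated, f : X → Y is perfect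
and proper, and g : Y' → Y is flat. Assume the derived direct images along f, f', g and g' exist and
preserve quasi-coherence of cohomology, giving functors Rf_*, Rf'_*, Rg_*, Rg'_* between the
categories D_QCoh; let a and a' be right adjoints of Rf_* and Rf'_* on D_QCoh; and assume the
derived pullbacks Lg^* and Lg'^* exist, preserve D_QCoh and are left adjoint there to Rg_* and
Rg'_*. Then there is an identification e : Rf_* ∘ Rg'_* ≅ Rg_* ∘ Rf'_* with the following two
properties. First, for every M in D_QCoh(O_{Y'}) the map ξ_M : Rg'_* a'(M) → a(Rg_* M), adjoint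
under Rf_* ⊣ a to the composite Rf_* Rg'_* a'(M) ≅ Rg_* Rf'_* a'(M) → Rg_* M of e with Rg_* of the
counit of Rf'_* ⊣ a', is an isomorphism. Second, for every K in D_QCoh(O_Y) the base change map
Lg'^* a(K) → a'(Lg^* K), the composite Lg'^* a(K) → Lg'^* a(Rg_* Lg^* K) → Lg'^* Rg'_* a'(Lg^* K) →
a'(Lg^* K) of the unit of Lg^* ⊣ Rg_*, the inverse of ξ and the counit of Lg'^* ⊣ Rg'_*, is an
isomorphism. (The published statement is for Tor-independent base change; a flat g is a special
case, and only that case is stated here.) -/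
theorem result (X Y X' Y' : Scheme.{u}) [IsNoetherian X] [IsNoetherian Y] [IsNoetherian Y'] [CompactSpace X'] [QuasiSeparatedSpace X'] (f : X ⟶ Y) (g : Y' ⟶ Y) (f' : X' ⟶ Y') (g' : X' ⟶ X) (hsq : IsPullback g' f' f g) [IsProper f] (hperf : MoreMor.IsPerfectMor f) [Flat g] [DCoh.HasRpush f] [DCoh.HasRpush f'] [DCoh.HasRpush g] [DCoh.HasRpush g'] (hf : DCoh.RpushPreservesQCoh f) (hf' : DCoh.RpushPreservesQCoh f') (hg : DCoh.RpushPreservesQCoh g) (hg' : DCoh.RpushPreservesQCoh g') (a : DCoh.DQCoh Y ⥤ DCoh.DQCoh X) (a' : DCoh.DQCoh Y' ⥤ DCoh.DQCoh X') (adj : DCoh.RpushQ f hf ⊣ a) (adj' : DCoh.RpushQ f' hf' ⊣ a') [DCoh.HasLpull g] [DCoh.HasLpull g'] (hLg : Dual3.LpullPreservesQCoh g) (hLg' : Dual3.LpullPreservesQCoh g') (adjg : Dual3.LpullQ g hLg ⊣ DCoh.RpushQ g hg) (adjg' : Dual3.LpullQ g' hLg' ⊣ DCoh.RpushQ g' hg') : ∃ (e : (DCoh.RpushQ g' hg' ⋙ DCoh.RpushQ f hf ≅ DCoh.RpushQ f' hf' ⋙ DCoh.RpushQ g hg)) (hξ : ∀ M : DCoh.DQCoh Y', IsIso (Dual3.xi adj adj' e M)), ∀ K :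 DCoh.DQCoh Y, IsIso (Dual3.bcMap adj adj' e adjg adjg' K (hξ _)) := by
  haveI : CompactSpace Y' := inferInstance
  obtain ⟨e, -, hξ, hβ⟩ := LeadBrown.exists_bcAdjoint hsq (H16Derived.BaseChange.ti_of_flat' f g) hf hf' adj adj'
    adjg adjg'
  refine ⟨e, hξ, fun K => hβ K (fun Q hQ => LeadBrown.hw_of_perfect
    (fun E hE => H16Derived.Exchange.isPerfect_rpush_of_perfectMor f hperf hE) K.property Q hQ) _ ?_⟩
  haveI : IsIso (H25Dual3.Compat.ξ adj adj' e ((Dual3.LpullQ g hLg).obj K)) := hξ _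
  exact H25Dual3.Compat.trace adj adj' adjg adjg' e K

end Groth.Agent.S3618
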