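import Groth.Statements.S3632
import Groth.Agent.LeadBrown.ClosedHomO2

set_option autoImplicit false
universe u
open CategoryTheory CategoryTheory.Limits AlgebraicGeometry
attribute [local instance] HasDerivedCategory.standard
open Dual3

namespace Groth.Agent.S3632

/-- Let i : Z → X be a closed immersion with X locally Noetherian, and R Hom(O_Z, −) : D^+(O_X) →
D^+(O_Z) the right derived functor of the right adjoint of i_* (that right adjoint and enough
injective O_X-modules are assumed through instance binders). If K in D^+(O_X) has quasi-coherent
cohomology sheaves then so does R Hom(O_Z, K). (The published statement assumes only that the closed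
immersion is pseudo-coherent; here X is taken locally Noetherian, which implies this.) -/
theorem result (Z X : Scheme.{u}) [IsLocallyNoetherian X] (i : Z ⟶ X) [IsClosedImmersion i] [Dual3.HasHomO i] [EnoughInjectives X.Modules] (K : DerivedCategory.Plus X.Modules) (hK : DCoh.IsQCohD K.obj) : DCoh.IsQCohD ((Dual3.RHomOPlus i).obj K).obj := by
  haveI : Limits.PreservesColimitsOfSize.{u, u} (Scheme.Modules.pushforward i) :=
    Groth.Agent.H17.PushColim.preservesColimits_pushforward_of_isClosedEmbedding i i.isClosedEmbedding
  haveI : Limits.PreservesFiniteColimits (Scheme.Modules.pushforward i) :=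
    Limits.PreservesColimitsOfSize.preservesFiniteColimits _
  haveI : (Scheme.Modules.pushforward i).IsRightAdjoint :=
    (Scheme.Modules.pullbackPushforwardAdjunction i).isRightAdjoint
  obtain ⟨G, ⟨adjG⟩⟩ := LeadBrown.exists_rightAdjoint_pushD i
  obtain ⟨c⟩ := LeadBrown.nonempty_RHomOPlus_iso i adjG
  obtain ⟨n, hn⟩ := K.property
  haveI : DerivedCategory.IsGE K.obj n := hn
  have h := LeadBrown.isQCohD_rightAdjoint_pushD i adjG (LeadBrown.pcStr_of_locallyNoetherian i) hK n
  exact fun m => Groth.Agent.H16Derived.QCohD.isQCoh_iso ((DerivedCategory.homologyFunctor Z.Modules m).mapIso (c.app K)) (h m)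

end Groth.Agent.S3632
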