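import Groth.Statements.S3633
import Groth.Agent.LeadBrown.ClosedHomO2

set_option autoImplicit false
universe u
open CategoryTheory CategoryTheory.Limits AlgebraicGeometry
attribute [local instance] HasDerivedCategory.standard
open Dual3

namespace Groth.Agent.S3633

/-- Let i : Z → X be a closed immersion with X locally Noetherian and R Hom(O_Z, -) : D^+(O_X) →
D^+(O_Z) the right derived functor of the right adjoint of i_* (injective resolutions assumed). If K
in D^+(O_X) has coherent cohomology sheaves then so does R Hom(O_Z, K). -/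
theorem result (Z X : Scheme.{u}) [IsLocallyNoetherian X] (i : Z ⟶ X) [IsClosedImmersion i] [Dual3.HasHomO i] [EnoughInjectives X.Modules] (K : DerivedCategory.Plus X.Modules) (hK : DCoh.IsCohD K.obj) : DCoh.IsCohD ((Dual3.RHomOPlus i).obj K).obj := by
  haveI : Limits.PreservesColimitsOfSize.{u, u} (Scheme.Modules.pushforward i) :=
    Groth.Agent.H17.PushColim.preservesColimits_pushforward_of_isClosedEmbedding i i.isClosedEmbedding
  haveI : Limits.PreservesFiniteColimits (Scheme.Modules.pushforward i) :=
    Limits.PreservesColimitsOfSize.preservesFiniteColimits _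
  haveI : (Scheme.Modules.pushforward i).IsRightAdjoint :=
    (Scheme.Modules.pullbackPushforwardAdjunction i).isRightAdjoint
  obtain ⟨G, ⟨adjG⟩⟩ := LeadBrown.exists_rightAdjoint_pushD i
  obtain ⟨c⟩ := LeadBrown.nonempty_RHomOPlus_iso i adjG
  obtain ⟨n, hn⟩ := K.property
  haveI : DerivedCategory.IsGE (DerivedCategory.Plus.ι.obj K) n := hn
  exact Groth.Agent.H16Derived.Dual.isCohD_iso (c.app K)
    (LeadBrown.isCohD_rightAdjoint_pushD i adjG (LeadBrown.pcStr_of_locallyNoetherian i) (L := DerivedCategory.Plus.ι.obj K) hK n)

end Groth.Agent.S3633
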