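import Groth.Statements.S3642
import Groth.Agent.LeadBrown.ShriekBC
import Groth.Agent.LeadBrown.Dominate
import Groth.Agent.S3608

set_option autoImplicit false
universe u
open CategoryTheory CategoryTheory.Limits AlgebraicGeometry
attribute [local instance] HasDerivedCategory.standard
open Dual3

namespace Groth.Agent.S3642

/-- Let S be a Noetherian scheme, X and Y schemes separated and of finite type over S and f : X → Y a
morphism over S; compute f^! through a compactification f = j ∘ p (j : X → X' an open immersion, p :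
X' → Y proper, Rp_* on D_QCoh assumed to exist and to preserve quasi-coherence of cohomology, a a
right adjoint of Rp_*, restriction of modules to opens assumed exact), so that f^!K = a(K)|_X. If f
is étale and Lf^* denotes its derived pullback (assumed to exist), then f^! ≅ Lf^* as functors on
D^+_QCoh(O_Y). -/
theorem result (S X Y : Scheme.{u}) [IsNoetherian S] (p : X ⟶ S) (q : Y ⟶ S) [Dual3.IsSepFT p] [Dual3.IsSepFT q] (f : X ⟶ Y) (w : f ≫ q = p) [Etale f] (c : DEt.Compactification f) [DCoh.HasRpush c.fbar] (hc : DCoh.RpushPreservesQCoh c.fbar) (a : DCoh.DQCoh Y ⥤ DCoh.DQCoh c.Xbar) (adj : DCoh.RpushQ c.fbar hc ⊣ a) [∀ (U V : Scheme.{u}) (j : U ⟶ V) [IsOpenImmersion j], PreservesFiniteLimits (Scheme.Modules.restrictFunctor j)] [DCoh.HasLpull f] : Nonempty (Dual3.bddι Y ⋙ Dual3.shriekC c a ≅ Dual3.bddι Y ⋙ ObjectProperty.ι _ ⋙ DCoh.Lpull f) := by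
  haveI : IsNoetherian X := LeadBrown.isNoetherian_of_isSepFT p
  haveI : IsNoetherian Y := LeadBrown.isNoetherian_of_isSepFT q
  haveI := c.isOpenImmersion
  haveI := c.isProper
  haveI : QuasiCompact f := quasiCompact_of_compactSpace f
  let X₂ := pullback f f
  let p₁ : X₂ ⟶ X := pullback.fst f f
  let p₂ : X₂ ⟶ X := pullback.snd f f
  have hsq : IsPullback p₁ p₂ f f := IsPullback.of_hasPullback f f
  haveI : CompactSpace X₂ := QuasiCompact.compactSpace_of_compactSpace p₂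
  haveI : IsLocallyNoetherian X₂ := LocallyOfFiniteType.isLocallyNoetherian p₂
  haveI : IsNoetherian X₂ := { }
  let Δ : X ⟶ X₂ := pullback.diagonal f
  have hΔ1 : Δ ≫ p₁ = 𝟙 X := pullback.diagonal_fst f
  have hΔ2 : Δ ≫ p₂ = 𝟙 X := pullback.diagonal_snd f
  haveI : IsOpenImmersion Δ := inferInstanceAs (IsOpenImmersion (pullback.diagonal f))
  haveI : CompactSpace c.Xbar := QuasiCompact.compactSpace_of_compactSpace c.fbar
  haveI : QuasiSeparatedSpace c.Xbar := quasiSeparatedSpace_of_quasiSeparated c.fbar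
  let Z := pullback c.fbar f
  let j' : X₂ ⟶ Z := pullback.lift (p₁ ≫ c.j) p₂ (by rw [Category.assoc, c.fac, hsq.w])
  have hj1 : j' ≫ pullback.fst c.fbar f = p₁ ≫ c.j := pullback.lift_fst _ _ _
  have hj2 : j' ≫ pullback.snd c.fbar f = p₂ := pullback.lift_snd _ _ _
  have hjsq : IsPullback p₁ j' c.j (pullback.fst c.fbar f) :=
    IsPullback.of_bot (by rw [hj2, c.fac]; exact hsq) hj1.symm (IsPullback.of_hasPullback _ _)
  haveI hj : IsOpenImmersion j' := MorphismProperty.of_isPullback hjsq c.isOpenImmersion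
  let c₂ : DEt.Compactification p₂ := ⟨Z, j', pullback.snd c.fbar f, hj, inferInstance, hj2⟩
  let c₀ : DEt.Compactification (𝟙 X) :=
    ⟨Z, Δ ≫ j', pullback.snd c.fbar f, inferInstance, inferInstance, by rw [Category.assoc, hj2, hΔ2]⟩
  haveI : CompactSpace Z := QuasiCompact.compactSpace_of_compactSpace (pullback.snd c.fbar f)
  haveI : QuasiSeparatedSpace Z := quasiSeparatedSpace_of_quasiSeparated (pullback.snd c.fbar f)
  haveI := H16Derived.QCohD.hasRpush c₂.fbar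
  haveI : DCoh.HasRpush c₀.fbar := H16Derived.QCohD.hasRpush c₂.fbar
  have hc₂ : DCoh.RpushPreservesQCoh c₂.fbar := fun K hK => H16Derived.QCohD.isQCohD_rpush _ hK
  haveI := LeadBrown.isLeftAdjoint_rpushQ c₂.fbar hc₂
  have adj₂ : DCoh.RpushQ c₂.fbar hc₂ ⊣ (DCoh.RpushQ c₂.fbar hc₂).rightAdjoint := Adjunction.ofIsLeftAdjoint _
  haveI := H16Derived.KFlat.Stalk.hasLpull p₁
  have hLf : Dual3.LpullPreservesQCoh f := fun K hK => H16Derived.QCohD.isQCohD_lpull f hK
  obtain ⟨β⟩ := LeadBrown.nonempty_shriekC_baseChange hsq c c₂ adj adj₂ hLf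
  obtain ⟨γ⟩ := S3608.result S X X p p (𝟙 X) (Category.id_comp p) c₀ hc₂ _ adj₂
  haveI : QuasiCompact c.j := quasiCompact_of_compactSpace c.j
  haveI : QuasiCompact Δ := quasiCompact_of_compactSpace Δ
  haveI := H16Derived.QCohD.hasRpush c.j
  haveI := H16Derived.QCohD.hasRpush Δ
  haveI := H16Derived.QCohD.hasRpush (𝟙 X)
  haveI := H16Derived.KFlat.Stalk.hasLpull c.j
  haveI := H16Derived.KFlat.Stalk.hasLpull Δ
  haveI := H16Derived.KFlat.Stalk.hasLpull (𝟙 X)
  obtain ⟨σ⟩ := LeadBrown.nonempty_rdCompIso Δ j' (Δ ≫ j') rfl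
  open H16Derived.BaseChange in
  obtain ⟨u₁⟩ := IsLp.unique (((isLp_self c.j).comp (isLp_self p₁)).comp (isLp_self Δ) |>.congr
    (show Δ ≫ p₁ ≫ c.j = c.j by rw [← Category.assoc, hΔ1, Category.id_comp])) (isLp_self c.j)
  open H16Derived.BaseChange in
  obtain ⟨u₂⟩ := IsLp.unique ((isLp_self f).comp (isLp_self (𝟙 X)) |>.congr (Category.id_comp f)) (isLp_self f)
  let Lb : (Dual3.IsBddBelowQ Y).FullSubcategory ⥤ (Dual3.IsBddBelowQ X).FullSubcategory :=
    ObjectProperty.lift _ (Dual3.bddι Y ⋙ Dual3.LpullQ f hLf) fun K => by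
      obtain ⟨n, hn⟩ := K.property
      exact ⟨n, LeadBrown.isGE_lpull_flat f _ n hn⟩
  let F := Dual3.bddι Y ⋙ a ⋙ ObjectProperty.ι DCoh.IsQCohD
  let e₁ := Functor.isoWhiskerLeft F (LeadBrown.rdIsoLpull c.j ≪≫ u₁ ≪≫
    Functor.isoWhiskerRight (Functor.isoWhiskerRight (LeadBrown.rdIsoLpull c.j).symm (DCoh.Lpull p₁)) (DCoh.Lpull Δ) ≪≫
    Functor.isoWhiskerLeft _ (LeadBrown.rdIsoLpull Δ).symm)
  let e₂ := Functor.isoWhiskerLeft (Dual3.bddι Y ⋙ ObjectProperty.ι _ ⋙ DCoh.Lpull f)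
    (LeadBrown.rdIsoLpull (𝟙 X))
  let e₃ := Functor.isoWhiskerLeft (Dual3.bddι Y ⋙ ObjectProperty.ι _) u₂
  refine ⟨(e₁ : _) ≪≫ Functor.isoWhiskerRight β (DCoh.restrictD Δ) ≪≫ ?_ ≪≫ e₂ ≪≫ e₃.symm⟩
  exact Functor.isoWhiskerLeft (Dual3.bddι Y ⋙ Dual3.LpullQ f hLf ⋙
      (DCoh.RpushQ c₂.fbar hc₂).rightAdjoint ⋙ ObjectProperty.ι DCoh.IsQCohD) σ.symm ≪≫
    Functor.isoWhiskerLeft Lb γ

end Groth.Agent.S3642
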