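import Groth.Statements.S3645
import Groth.Agent.LeadBrown.ShriekPerfect

set_option autoImplicit false
universe u
open CategoryTheory CategoryTheory.Limits AlgebraicGeometry
attribute [local instance] HasDerivedCategory.standard
open Dual3

namespace Groth.Agent.S3645

/-- Let S be a Noetherian scheme, X and Y schemes separated and of finite type over S and f : X → Y a
morphism over S; compute f^! through a compactification f = j ∘ p (j : X → X' an open immersion, p :
X' → Y proper, Rp_* on D_QCoh assumed to exist and to preserve quasi-coherence of cohomology, a a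
right adjoint of Rp_*, restriction of modules to opens assumed exact), so that f^!K = a(K)|_X.
Assume f is flat and let O be the structure sheaf of Y in degree 0. Then f^!O is Y-perfect
(pseudo-coherent and locally of finite tor dimension relative to Y), and for any complex E
representing f^!O with - ⊗^L E ⊣ RHom(E, -) assumed and any identification υ : O_X ⊗^L E ≅ E, the
map O_X → RHom(E, E) adjoint to υ is an isomorphism. -/
theorem result (S X Y : Scheme.{u}) [IsNoetherian S] (p : X ⟶ S) (q : Y ⟶ S) [Dual3.IsSepFT p] [Dual3.IsSepFT q] (f : X ⟶ Y) (w : f ≫ q = p) [Flat f] (c : DEt.Compactification f) [DCoh.HasRpush c.fbar] (hc : DCoh.RpushPreservesQCoh c.fbar) (a : DCoh.DQCoh Y ⥤ DCoh.DQCoh c.Xbar) (adj : DCoh.RpushQ c.fbar hc ⊣ a) [∀ (U V : Scheme.{u}) (j : U ⟶ V) [IsOpenImmersion j], PreservesFiniteLimits (Scheme.Modules.restrictFunctor j)] (O : DCoh.DQCoh Y) (hO : Nonempty (O.obj ≅ DCoh.inD Y (Coh.structureModule Y))) : ((∀ m : ℤ, DCoh.IsPseudoCoherentD m ((Dual3.shriekC c a).obj O)) ∧ DCoh.LocHasFiniteRelTorDim f ((Dual3.shriekC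 c a).obj O)) ∧ ∀ (E : CochainComplex X.Modules ℤ) (hE : Nonempty (DCoh.toD X E ≅ (Dual3.shriekC c a).obj O)) [DCoh.HasLTensorCx E] [DCoh.HasRSheafHom E] (υ : (DCoh.LTensorCx E).obj (DCoh.inD X (Coh.structureModule X)) ≅ DCoh.toD X E), IsIso (((DCoh.RSheafHomAdj E).homEquiv (DCoh.inD X (Coh.structureModule X)) (DCoh.toD X E)) υ.hom) := by
  haveI := LeadBrown.isNoetherian_of_isSepFT p
  haveI := LeadBrown.isNoetherian_of_isSepFT q
  haveI : LocallyOfFiniteType f := by
    haveI : LocallyOfFiniteType (f ≫ q) := w ▸ inferInstance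
    exact locallyOfFiniteType_of_comp f q
  haveI : LocallyOfFinitePresentation f := LocallyOfFinitePresentation.iff_locallyOfFiniteType.2 inferInstance
  have hf : MoreMor.IsPerfectMor f := Groth.Agent.S7172.result f
  exact ⟨LeadBrown.relPerfect_shriek hf c adj O hO, fun E hE _ _ υ =>
    LeadBrown.isIso_shriek_unit hf c adj O hO E hE υ⟩

end Groth.Agent.S3645
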