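import Groth.Statements.S3650
import Groth.Agent.LeadBrown.Rigidity

set_option autoImplicit false
universe u
open CategoryTheory CategoryTheory.Limits AlgebraicGeometry
attribute [local instance] HasDerivedCategory.standard
open Dual3

namespace Groth.Agent.S3650

/-- Let S be a quasi-compact and quasi-separated scheme and f : X → S proper, flat and of finite
presentation. Let Rf_* : D_QCoh(O_X) → D_QCoh(O_S) be the derived direct image (assumed, hypothesis
hf, to preserve complexes with quasi-coherent cohomology) with a right adjoint a, and let O be the
structure sheaf of S in degree 0. Then a(O) underlies a relative dualizing complex for f in the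
rigid sense: it is pseudo-coherent, locally of finite tor dimension relative to S, and admits a map
ξ : Δ_*O_X → L pr₁^* a(O) on X ×_S X through which Hom(M, O_X[j]) → Hom(Δ_*M, (L pr₁^* a(O))[j]) is
bijective for all M and j. (Derived pullback along pr₁, exactness of Δ_* and derived pushforward
along f are carried as binders.) -/
theorem result (X S : Scheme.{u}) [CompactSpace S] [QuasiSeparatedSpace S] (f : X ⟶ S) [IsProper f] [Flat f] [LocallyOfFinitePresentation f] [DCoh.HasLpull (pullback.fst f f)] [PreservesFiniteLimits (Scheme.Modules.pushforward (pullback.diagonal f))] [PreservesFiniteColimits (Scheme.Modules.pushforward (pullback.diagonal f))] [DCoh.HasRpush f] (hf : DCoh.RpushPreservesQCoh f) (a : DCoh.DQCoh S ⥤ DCoh.DQCoh X) (adj : DCoh.RpushQ f hf ⊣ a) (O : DCoh.DQCoh S) (hO : Nonempty (O.obj ≅ DCoh.inD S (Coh.structureModule S))) : Dual3.IsRelDualizing f (a.obj O).obj := by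
  obtain ⟨eO⟩ := hO
  exact LeadBrown.isRelDualizing f adj O eO

end Groth.Agent.S3650
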