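import Groth.Statements.S3655
import Groth.Agent.LeadBrown.CompShriek

set_option autoImplicit false
set_option linter.style.haveILetI false
universe u
open CategoryTheory CategoryTheory.Limits AlgebraicGeometry
attribute [local instance] HasDerivedCategory.standard
open Dual3

namespace Groth.Agent.S3655

/-- Let S be a Noetherian scheme, X, Y, Z separated and of finite type over S and f : X → Y, g : Y → Z
morphisms over S. Compute f^!, g^! and (g ∘ f)^! through compactifications of f, g, g ∘ f with right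
adjoints a, b, c of the derived direct images of the proper parts (assumed to exist and preserve
quasi-coherence; restriction to opens exact and assumed to preserve quasi-coherence of cohomology,
so that g^!K is again an object of D_QCoh). Then (g ∘ f)^! ≅ f^! ∘ g^! as functors on D^+_QCoh(O_Z). -/
theorem result (S X Y Z : Scheme.{u}) [IsNoetherian S] (p : X ⟶ S) (q : Y ⟶ S) (r : Z ⟶ S) [Dual3.IsSepFT p] [Dual3.IsSepFT q] [Dual3.IsSepFT r] (f : X ⟶ Y) (g : Y ⟶ Z) (w : f ≫ q = p) (wg : g ≫ r = q) (cf : DEt.Compactification f) (cg : DEt.Compactification g) (cgf : DEt.Compactification (f ≫ g)) [DCoh.HasRpush cf.fbar] [DCoh.HasRpush cg.fbar] [DCoh.HasRpush cgf.fbar] (hf : DCoh.RpushPreservesQCoh cf.fbar) (hg : DCoh.RpushPreservesQCoh cg.fbar) (hgf : DCoh.RpushPreservesQCoh cgf.fbar) (a : DCoh.DQCoh Y ⥤ DCoh.DQCoh cf.Xbar) (b : DCoh.DQCoh Z ⥤ DCoh.DQCoh cg.Xbar) (c : DCoh.DQCoh Z ⥤ DCoh.DQCoh cgf.Xbar) (adjf : DCoh.RpushQ cf.fbar hf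 ⊣ a) (adjg : DCoh.RpushQ cg.fbar hg ⊣ b) (adjgf : DCoh.RpushQ cgf.fbar hgf ⊣ c) [∀ (U V : Scheme.{u}) (j : U ⟶ V) [IsOpenImmersion j], PreservesFiniteLimits (Scheme.Modules.restrictFunctor j)] (hres : ∀ K : DCoh.D cg.Xbar, DCoh.IsQCohD K → DCoh.IsQCohD ((DCoh.restrictD cg.j).obj K)) : Nonempty (Dual3.bddι Z ⋙ Dual3.shriekC cgf c ≅ Dual3.bddι Z ⋙ ObjectProperty.lift DCoh.IsQCohD (Dual3.shriekC cg b) (fun K => hres (b.obj K).obj (b.obj K).property) ⋙ Dual3.shriekC cf a) := by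
  haveI : IsNoetherian X := LeadBrown.isNoetherian_of_isSepFT p
  haveI : IsNoetherian Y := LeadBrown.isNoetherian_of_isSepFT q
  haveI : IsNoetherian Z := LeadBrown.isNoetherian_of_isSepFT r
  haveI := cf.isOpenImmersion
  haveI := cg.isOpenImmersion
  haveI := cgf.isOpenImmersion
  haveI := cf.isProper
  haveI := cg.isProper
  haveI := cgf.isProper
  haveI : CompactSpace cg.Xbar := QuasiCompact.compactSpace_of_compactSpace cg.fbar
  haveI : QuasiSeparatedSpace cg.Xbar := quasiSeparatedSpace_of_quasiSeparated cg.fbar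
  haveI : IsLocallyNoetherian cg.Xbar := LocallyOfFiniteType.isLocallyNoetherian cg.fbar
  haveI : IsNoetherian cg.Xbar := { }
  -- the closure of `X`
  let φ : X ⟶ pullback cgf.fbar cg.fbar := pullback.lift cgf.j (f ≫ cg.j)
    (by rw [cgf.fac, Category.assoc, cg.fac])
  haveI : IsImmersion (φ ≫ pullback.fst cgf.fbar cg.fbar) := by
    rw [show φ ≫ pullback.fst cgf.fbar cg.fbar = cgf.j from pullback.lift_fst _ _ _]; infer_instance
  haveI : IsImmersion φ := IsImmersion.of_comp φ (pullback.fst cgf.fbar cg.fbar)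
  haveI : QuasiSeparatedSpace (pullback cgf.fbar cg.fbar : Scheme.{u}) :=
    quasiSeparatedSpace_of_quasiSeparated (pullback.fst cgf.fbar cg.fbar ≫ cgf.fbar)
  haveI : QuasiCompact φ := quasiCompact_of_compactSpace φ
  let π : φ.image ⟶ cg.Xbar := φ.imageι ≫ pullback.snd _ _
  let p₁ : φ.image ⟶ cgf.Xbar := φ.imageι ≫ pullback.fst _ _
  have w₁ : φ.toImage ≫ p₁ = cgf.j := by
    rw [← Category.assoc, Scheme.Hom.toImage_imageι, pullback.lift_fst]
  have wπ : φ.toImage ≫ π = f ≫ cg.j := by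
    rw [← Category.assoc, Scheme.Hom.toImage_imageι, pullback.lift_snd]
  have hfac : p₁ ≫ cgf.fbar = π ≫ cg.fbar := by
    simp only [p₁, π, Category.assoc, pullback.condition]
  haveI : CompactSpace φ.image := QuasiCompact.compactSpace_of_compactSpace π
  haveI : QuasiSeparatedSpace φ.image := quasiSeparatedSpace_of_quasiSeparated π
  haveI := H16Derived.QCohD.hasRpush (p₁ ≫ cgf.fbar)
  haveI := H16Derived.QCohD.hasRpush π
  have h₁ : DCoh.RpushPreservesQCoh (p₁ ≫ cgf.fbar) := fun K hK => H16Derived.QCohD.isQCohD_rpush _ hK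
  have hπ : DCoh.RpushPreservesQCoh π := fun K hK => H16Derived.QCohD.isQCohD_rpush _ hK
  haveI := LeadBrown.isLeftAdjoint_rpushQ (p₁ ≫ cgf.fbar) h₁
  haveI := LeadBrown.isLeftAdjoint_rpushQ π hπ
  obtain ⟨E₁⟩ := LeadBrown.nonempty_shriek_iso cgf adjgf p₁ φ.toImage w₁
    (Adjunction.ofIsLeftAdjoint (DCoh.RpushQ (p₁ ≫ cgf.fbar) h₁))
  obtain ⟨eA⟩ : Nonempty ((DCoh.RpushQ (p₁ ≫ cgf.fbar) h₁).rightAdjoint ≅
      b ⋙ (DCoh.RpushQ π hπ).rightAdjoint) := by
    haveI := H16Derived.QCohD.hasRpush (π ≫ cg.fbar)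
    have h₂ : DCoh.RpushPreservesQCoh (π ≫ cg.fbar) := fun K hK => H16Derived.QCohD.isQCohD_rpush _ hK
    haveI := LeadBrown.isLeftAdjoint_rpushQ (π ≫ cg.fbar) h₂
    have h : Nonempty (DCoh.RpushQ (π ≫ cg.fbar) h₂ ≅ DCoh.RpushQ (p₁ ≫ cgf.fbar) h₁) := by
      simp only [hfac]; exact ⟨Iso.refl _⟩
    exact LeadBrown.nonempty_rightAdjoint_comp π cg.fbar hπ hg h₂ (Adjunction.ofIsLeftAdjoint _) adjg
      (Adjunction.ofIsLeftAdjoint _) |>.map fun e =>
        ((Adjunction.ofIsLeftAdjoint (DCoh.RpushQ (p₁ ≫ cgf.fbar) h₁)).rightAdjointUniq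
          ((Adjunction.ofIsLeftAdjoint _).ofNatIsoLeft h.some)) ≪≫ e
  -- the part over `Y`
  let qY : pullback π cg.j ⟶ Y := pullback.snd π cg.j
  let k : pullback π cg.j ⟶ φ.image := pullback.fst π cg.j
  let jY : X ⟶ pullback π cg.j := pullback.lift φ.toImage f wπ
  have hk : jY ≫ k = φ.toImage := pullback.lift_fst _ _ _
  haveI : IsOpenImmersion jY := by
    haveI : IsOpenImmersion (jY ≫ k) := by rw [hk]; infer_instance
    exact IsOpenImmersion.of_comp jY k
  let c' : DEt.Compactification f :=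
    ⟨_, jY, qY, inferInstance, inferInstance, pullback.lift_snd _ _ _⟩
  haveI : DCoh.HasRpush c'.fbar := H16Derived.QCohD.hasRpush _
  haveI : CompactSpace (pullback π cg.j : Scheme.{u}) := QuasiCompact.compactSpace_of_compactSpace qY
  haveI : QuasiSeparatedSpace (pullback π cg.j : Scheme.{u}) := quasiSeparatedSpace_of_quasiSeparated qY
  haveI : DCoh.HasRpush qY := H16Derived.QCohD.hasRpush _
  have hq : DCoh.RpushPreservesQCoh qY := fun K hK => H16Derived.QCohD.isQCohD_rpush _ hK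
  haveI := LeadBrown.isLeftAdjoint_rpushQ qY hq
  obtain ⟨E₂⟩ := LeadBrown.nonempty_shriekC_independent c' cf (h₁ := hq)
    (Adjunction.ofIsLeftAdjoint (DCoh.RpushQ qY hq)) adjf
  obtain ⟨E₃⟩ := LeadBrown.nonempty_rdCompIso jY k φ.toImage hk
  -- base change
  let T : DCoh.DQCoh cg.Xbar ⥤ DCoh.DQCoh Y :=
    ObjectProperty.lift DCoh.IsQCohD (ObjectProperty.ι _ ⋙ DCoh.restrictD cg.j) (fun K => hres K.obj K.property)
  have hrange : Set.range k.base = π.base ⁻¹' Set.range cg.j.base := IsOpenImmersion.range_pullbackFst cg.j π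
  haveI : QuasiCompact cg.j := quasiCompact_of_compactSpace cg.j
  haveI : QuasiCompact k := quasiCompact_of_compactSpace k
  obtain ⟨θ, hnat, hiso⟩ := LeadBrown.exists_bc (Adjunction.ofIsLeftAdjoint (DCoh.RpushQ π hπ)) cg.j k
    (Adjunction.ofIsLeftAdjoint (DCoh.RpushQ qY hq)) pullback.condition hrange T.obj (fun _ => rfl)
  have hge : ∀ K : (Dual3.IsBddBelowQ Z).FullSubcategory, ∃ n : ℤ, (b.obj K.obj).obj.IsGE n := fun K => by
    obtain ⟨n, hn⟩ := K.property
    exact LeadBrown.exists_isGE adjg K.obj n hn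
  let G : (Dual3.IsBddBelowQ Z).FullSubcategory ⥤ (Dual3.IsBddBelowQ Y).FullSubcategory :=
    ObjectProperty.lift _ (Dual3.bddι Z ⋙ ObjectProperty.lift DCoh.IsQCohD (Dual3.shriekC cg b)
      (fun K => hres (b.obj K).obj (b.obj K).property)) fun K => by
        obtain ⟨n, hn⟩ := hge K
        exact ⟨n, LeadBrown.isGE_rd' cg.j _ n hn⟩
  let aq := (DCoh.RpushQ qY hq).rightAdjoint
  let E₄ : Dual3.bddι Z ⋙ b ⋙ (DCoh.RpushQ π hπ).rightAdjoint ⋙ ObjectProperty.ι _ ⋙ DCoh.restrictD k ≅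
      G ⋙ Dual3.bddι Y ⋙ aq ⋙ ObjectProperty.ι _ :=
    NatIso.ofComponents (fun K => @asIso _ _ _ _ (θ (b.obj K.obj))
      (hiso _ _ (hge K).choose_spec)) fun {K K'} φ' =>
        hnat _ _ (b.map φ'.hom) (T.map (b.map φ'.hom)) (by simp [T])
  exact ⟨E₁.symm ≪≫
    Functor.isoWhiskerLeft (Dual3.bddι Z) (Functor.isoWhiskerRight eA (ObjectProperty.ι _ ⋙ DCoh.restrictD φ.toImage)) ≪≫
    Functor.isoWhiskerLeft (Dual3.bddι Z ⋙ b ⋙ (DCoh.RpushQ π hπ).rightAdjoint ⋙ ObjectProperty.ι _) E₃ ≪≫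
    Functor.isoWhiskerRight E₄ (DCoh.restrictD jY) ≪≫
    Functor.isoWhiskerLeft G E₂⟩

end Groth.Agent.S3655
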