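import Groth.Statements.S3657
import Groth.Agent.LeadBrown.FiniteDual

set_option autoImplicit false
universe u
open CategoryTheory CategoryTheory.Limits AlgebraicGeometry
attribute [local instance] HasDerivedCategory.standard
open Dual3

namespace Groth.Agent.S3657

/-- Let f : Y → X be a finite morphism of Noetherian schemes, with derived direct image Rf_* on D_QCoh
(assumed to exist and to preserve quasi-coherence) and a right adjoint a of Rf_* : D_QCoh(O_Y) →
D_QCoh(O_X). Let E be a complex of O_X-modules representing f_*O_Y placed in degree 0, with − ⊗^L E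
and RHom(E, −) assumed to exist. Then Rf_* ∘ a ≅ RHom(E, −) = RHom_{O_X}(f_*O_Y, −) as functors on
D^+_QCoh(O_X) (the form f_* f^! = RHom(f_*O_Y, −) of duality for a finite morphism). -/
theorem result (Y X : Scheme.{u}) [IsNoetherian X] [IsNoetherian Y] (f : Y ⟶ X) [IsFinite f] [DCoh.HasRpush f] (hf : DCoh.RpushPreservesQCoh f) (a : DCoh.DQCoh X ⥤ DCoh.DQCoh Y) (adj : DCoh.RpushQ f hf ⊣ a) (E : CochainComplex X.Modules ℤ) (hE : Nonempty (DCoh.toD X E ≅ DCoh.inD X ((Scheme.Modules.pushforward f).obj (Coh.structureModule Y)))) [DCoh.HasLTensorCx E] [DCoh.HasRSheafHom E] : Nonempty (Dual3.bddι X ⋙ a ⋙ DCoh.RpushQ f hf ⋙ ObjectProperty.ι _ ≅ Dual3.bddι X ⋙ ObjectProperty.ι _ ⋙ DCoh.RSheafHom E) := by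
  haveI : CompactSpace Y := inferInstance
  haveI := Groth.Agent.H16Derived.KFlat.Stalk.hasLpull f
  obtain ⟨e₁⟩ := LeadBrown.nonempty_rpush_one f
  obtain ⟨eE⟩ := hE
  obtain ⟨φ⟩ := LeadBrown.nonempty_rpush_rightAdjoint_R f adj
    (LeadBrown.pseudoCoherent_rpush_of_perfect f _ (LeadBrown.isPerfect_one' Y))
  exact ⟨φ ≪≫ Functor.isoWhiskerLeft (Dual3.bddι X) (Functor.isoWhiskerLeft (ObjectProperty.ι _)
    (LeadBrown.isoR (eE ≪≫ e₁.symm) ≪≫
      (Groth.Agent.H16Derived.Dual.rsheafHomIso E).symm))⟩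

end Groth.Agent.S3657
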