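import Groth.Statements.S3659
import Groth.Agent.LeadBrown.PerfTensor

set_option autoImplicit false
set_option linter.unusedVariables false
universe u
open CategoryTheory CategoryTheory.Limits AlgebraicGeometry
attribute [local instance] HasDerivedCategory.standard
open Dual3

namespace Groth.Agent.S3659

/-- Let f : X → Y be a morphism of quasi-compact quasi-separated schemes. Assume the derived direct
image Rf_* exists and preserves quasi-coherence of cohomology sheaves (both known results), so that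
it restricts to a functor D_QCoh(O_X) → D_QCoh(O_Y), and let a : D_QCoh(O_Y) → D_QCoh(O_X) be a
right adjoint of this restricted functor. Let Lf^* be the derived pullback (assumed to exist), K a
perfect object of D_QCoh(O_Y) and L any object of D_QCoh(O_Y). Let K' be a complex representing K,
with the derived tensor product − ⊗^L K' assumed to exist and K ⊗^L L (computed as L ⊗^L K') assumed
to lie again in D_QCoh (a known fact, taken as a hypothesis), and let E be a complex representing
a(L), with − ⊗^L E assumed to exist. Then a(K ⊗^L L) ≅ Lf^*K ⊗^L a(L) in D(O_X). -/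
theorem result (X Y : Scheme.{u}) [CompactSpace X] [QuasiSeparatedSpace X] [CompactSpace Y] [QuasiSeparatedSpace Y] (f : X ⟶ Y) [DCoh.HasRpush f] (hf : DCoh.RpushPreservesQCoh f) (a : DCoh.DQCoh Y ⥤ DCoh.DQCoh X) (adj : DCoh.RpushQ f hf ⊣ a) [DCoh.HasLpull f] (K L : DCoh.DQCoh Y) (hK : DCoh.IsPerfect K.obj) (K' : CochainComplex Y.Modules ℤ) (hK' : Nonempty (DCoh.toD Y K' ≅ K.obj)) [DCoh.HasLTensorCx K'] (hKL : DCoh.IsQCohD ((DCoh.LTensorCx K').obj L.obj)) (E : CochainComplex X.Modules ℤ) (hE : Nonempty (DCoh.toD X E ≅ (a.obj L).obj)) [DCoh.HasLTensorCx E] : Nonempty ((a.obj ⟨(DCoh.LTensorCx K').obj L.obj, hKL⟩).obj ≅ (DCoh.LTensorCx E).obj ((DCoh.Lpull f).obj K.obj)) := by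
  obtain ⟨eK⟩ := hK'
  obtain ⟨eE⟩ := hE
  obtain ⟨Φ⟩ := LeadBrown.nonempty_rightAdjoint_tensor f adj hK
  let eK' : DerivedCategory.Q.obj K' ≅ K.obj := eK
  let eE' : DerivedCategory.Q.obj E ≅ (a.obj L).obj := eE
  exact ⟨(ObjectProperty.ι _).mapIso (a.mapIso (ObjectProperty.isoMk DCoh.IsQCohD (X := ⟨(DCoh.LTensorCx K').obj L.obj, hKL⟩)
      (Y := (LeadBrown.tensorQ K.obj (H16Derived.Dual.isQCohD_of_isPerfect hK)).obj L)
      (((H16Derived.Dual.ltensorCxIsoT K').app L.obj).symm ≪≫
        ((H16Derived.Dual.T Y).obj L.obj).mapIso eK'))) ≪≫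
    (ObjectProperty.ι _).mapIso (Φ.app L).symm ≪≫ H16Derived.Dual.σ (a.obj L).obj ((DCoh.Lpull f).obj K.obj) ≪≫
    ((H16Derived.Dual.T X).obj ((DCoh.Lpull f).obj K.obj)).mapIso eE'.symm ≪≫
    (H16Derived.Dual.ltensorCxIsoT E).app _⟩

end Groth.Agent.S3659
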