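import Groth.Statements.S3661
import Groth.Agent.H4RSH.Invertible

set_option autoImplicit false
universe u
open CategoryTheory CategoryTheory.Limits AlgebraicGeometry
attribute [local instance] HasDerivedCategory.standard
open Dual3

namespace Groth.Agent.S3661

/-- Let X be a locally Noetherian scheme and K, K' dualizing complexes on X (exactness instances as in
the definition). Then there are an invertible object L of D(O_X) and a complex E representing L,
with - ⊗^L E existing, such that K' ≅ K ⊗^L L in D(O_X). -/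
theorem result (X : Scheme.{u}) [IsLocallyNoetherian X] [∀ (U V : Scheme.{u}) (j : U ⟶ V) [IsOpenImmersion j], PreservesFiniteLimits (Scheme.Modules.restrictFunctor j)] [∀ (R : CommRingCat.{u}), PreservesFiniteLimits (tilde.functor R)] (K K' : DCoh.D X) (hK : Dual2.IsDualizingSch X K) (hK' : Dual2.IsDualizingSch X K') : ∃ (E : CochainComplex X.Modules ℤ) (hL : DCoh.HasLTensorCx E), Dual3.IsInvertibleD (DCoh.toD X E) ∧ Nonempty (K' ≅ (DCoh.LTensorCx E).obj K) := by
  let L := (Groth.Agent.H16Derived.Dual.R K).obj K'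
  have hu : Groth.Agent.H4RSH.IsLocUnit L := Groth.Agent.H4RSH.isLocUnit_R hK hK'
  obtain ⟨E, -, ⟨eE⟩⟩ := Groth.Agent.H16Derived.KFlat.Stalk.exists_kflat_rep L
  have hE : Groth.Agent.H4RSH.IsLocUnit (DCoh.toD X E) := fun x => by
    obtain ⟨U, j, hj, m, hx, ⟨e⟩⟩ := hu x
    exact ⟨U, j, hj, m, hx, ⟨(Groth.Agent.H16Derived.KFlat.Stalk.rd j).mapIso eE ≪≫ e⟩⟩
  haveI := Groth.Agent.H16Derived.KFlat.Stalk.hasLTensorCx E
  refine ⟨E, inferInstance, Groth.Agent.H4RSH.isInvertibleD_of_isLocUnit hE, ⟨?_⟩⟩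
  haveI := Groth.Agent.H4RSH.isIso_η hK' (k := K) (Groth.Agent.H4RSH.isCohD_of_isDualizingSch hK)
  haveI := Groth.Agent.H4RSH.isIso_evS hu K'
  exact (asIso (Groth.Agent.LeadBrown.evS L K')).symm ≪≫
    ((Groth.Agent.H16Derived.Dual.T X).obj L).mapIso (asIso (Groth.Agent.H4RSH.η K' K)).symm ≪≫
    Groth.Agent.H16Derived.Dual.σ L K ≪≫
    ((Groth.Agent.H16Derived.Dual.T X).obj K).mapIso eE.symm ≪≫
    (Groth.Agent.H16Derived.Dual.ltensorCxIsoT E).app K

end Groth.Agent.S3661
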