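import Groth.Statements.S3665
import Groth.Agent.LeadDev.Stalks
import Groth.Agent.H29Blow.WeakAssAffine
import Groth.Agent.H11Tilde.ModLoc
import Mathlib

set_option autoImplicit false
universe u
open CategoryTheory CategoryTheory.Limits AlgebraicGeometry
attribute [local instance] HasDerivedCategory.standard
open Dual3

namespace Groth.Agent.S3665

open AlgebraicGeometry CategoryTheory CategoryTheory.Limits

theorem exists_kernel_app {X : Scheme.{u}} {G H : X.Modules} (η : G ⟶ H) (V : X.Opens) (m : Γ(G, V))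
    (hm : η.app V m = 0) : ∃ k, (kernel.ι η).app V k = m := by
  have hK : (ShortComplex.mk (kernel.ι η) (Abelian.factorThruImage η) (by
      rw [← cancel_mono (Abelian.image.ι η), Category.assoc, Abelian.image.fac, kernel.condition,
        zero_comp])).ShortExact := by
    refine ShortComplex.ShortExact.mk' (ShortComplex.exact_of_f_is_kernel _ ?_) inferInstance inferInstance
    refine KernelFork.IsLimit.ofι' (kernel.ι η) _ fun {W} g hg => ⟨kernel.lift η g ?_, kernel.lift_ι _ _ _⟩
    refine Eq.trans (congrArg (g ≫ ·) (Abelian.image.fac η).symm) ?_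
    show g ≫ Abelian.factorThruImage η ≫ Abelian.image.ι η = 0
    rw [← Category.assoc, hg, zero_comp]
  exact Groth.Agent.H10Coh.exists_app_eq_of_exact hK V m (by
    refine Groth.Agent.H10Coh.injective_app_of_mono' (Abelian.image.ι η) V (Eq.trans ?_ (map_zero _).symm)
    refine Eq.trans ?_ hm
    exact congr($(congr(Scheme.Modules.Hom.app $(Abelian.image.fac η) V)) m))


/-- Let X be proper over a field k, I a quasi-coherent ideal with vanishing locus Z and F a coherent
O_X-module, so that H^0_c(X ∖ Z, F) = lim_n H^0(X, I^n F) = ⋂_n Γ(X, I^n F) inside Γ(X, F). Then a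
global section s of F lies in the image of Γ(X, I^n F) for every n if and only if s restricts to
zero on some open neighbourhood of Z. -/
theorem result (k : Type u) [Field k] (X : Scheme.{u}) (f : X ⟶ Spec (CommRingCat.of k)) [IsProper f] (I : X.IdealSheafData) (F : X.Modules) (hF : Coh.IsCoh F) (s : F.val.obj (Opposite.op ⊤)) : (∀ n : ℕ, ∃ t : ((Dual3.idealMul (I ^ n)).obj F).val.obj (Opposite.op ⊤), (Dual3.idealMulι (I ^ n) F).val.app (Opposite.op ⊤) t = s) ↔ ∃ V : X.Opens, I.supportSet ⊆ (V : Set X) ∧ F.val.map (homOfLE le_top : V ⟶ ⊤).op s = 0 := by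
  haveI : IsLocallyNoetherian X := LocallyOfFiniteType.isLocallyNoetherian f
  haveI : CompactSpace X := QuasiCompact.compactSpace_of_compactSpace f
  haveI : AlgebraicGeometry.IsNoetherian X := {}
  constructor
  · intro h
    let S : Set X.Opens := {W | F.presheaf.map (homOfLE le_top : W ⟶ ⊤).op s = 0}
    refine ⟨sSup S, fun z hz => ?_, ?_⟩
    · obtain ⟨_, ⟨V, hV : IsAffineOpen V, rfl⟩, hzV, -⟩ :=
        X.isBasis_affineOpens.exists_subset_of_mem_open (Set.mem_univ z) isOpen_univ
      haveI : IsNoetherianRing Γ(X, V) := IsLocallyNoetherian.component_noetherian ⟨V, hV⟩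
      haveI := ((Groth.Agent.H10Coh.isCoh_iff_finite_sections F).1 hF).2 V hV
      set m : Γ(F, V) := F.presheaf.map (homOfLE le_top : V ⟶ ⊤).op s with hm
      have hmem : m ∈ (⨅ n : ℕ, I.ideal ⟨V, hV⟩ ^ n • (⊤ : Submodule Γ(X, V) Γ(F, V))) := by
        rw [Submodule.mem_iInf]
        intro n
        obtain ⟨t, ht⟩ := h n
        have h1 := Groth.Agent.LeadDev.idealMulι_app_mem (I ^ n) F hF ⟨V, hV⟩
          (((Dual3.idealMul (I ^ n)).obj F).presheaf.map (homOfLE le_top : V ⟶ ⊤).op t)
        rw [Groth.Agent.H11Tilde.app_map_apply, Scheme.IdealSheafData.ideal_pow, Pi.pow_apply] at h1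
        rw [hm]
        rw [show (Dual3.idealMulι (I ^ n) F).app ⊤ t = s from ht] at h1
        exact h1
      obtain ⟨⟨r, hr⟩, hrm⟩ := (Ideal.mem_iInf_smul_pow_eq_bot_iff _ _).1 hmem
      have hu : z ∈ X.basicOpen (1 - r) := by
        rw [Scheme.mem_basicOpen _ _ z hzV, map_sub, map_one]
        have hnu : ¬ IsUnit (X.presheaf.germ V z hzV r) := fun hc => by
          have h3 := (Scheme.IdealSheafData.mem_supportSet_iff_of_mem (U := ⟨V, hV⟩) hzV).1 hz
          rw [Scheme.mem_zeroLocus_iff] at h3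
          exact h3 r hr ((Scheme.mem_basicOpen _ _ z hzV).2 hc)
        exact IsLocalRing.isUnit_one_sub_self_of_mem_nonunits _ hnu
      have h0 : F.presheaf.map (homOfLE (X.basicOpen_le (1 - r))).op m = 0 := by
        have h4 : (1 - r) • m = 0 := by rw [sub_smul, one_smul, hrm, sub_self]
        have h5 := congrArg (F.presheaf.map (homOfLE (X.basicOpen_le (1 - r))).op) h4
        rw [Scheme.Modules.map_smul, map_zero] at h5
        have h6 : IsUnit (X.presheaf.map (homOfLE (X.basicOpen_le (1 - r))).op (1 - r)) :=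
          X.toRingedSpace.isUnit_res_basicOpen (1 - r)
        exact h6.smul_eq_zero.1 h5
      refine TopologicalSpace.Opens.mem_sSup.2 ⟨X.basicOpen (1 - r), ?_, hu⟩
      show F.presheaf.map _ s = 0
      rw [hm, ← ConcreteCategory.comp_apply, ← Functor.map_comp] at h0
      exact h0
    · refine Groth.Agent.H11Tilde.eq_of_locally (F := F) (W := sSup S) _ _ fun x hx => ?_
      obtain ⟨W, hW, hxW⟩ := TopologicalSpace.Opens.mem_sSup.1 hx
      refine ⟨W, le_sSup hW, hxW, ?_⟩
      refine Eq.trans ?_ (map_zero _).symm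
      refine Eq.trans ?_ hW
      exact congr($((F.presheaf.map_comp (homOfLE (le_top : sSup S ≤ ⊤)).op (homOfLE (le_sSup hW)).op).symm) s)
  · rintro ⟨V0, hZ, h0⟩ n
    refine exists_kernel_app _ ⊤ s ?_
    refine Groth.Agent.H11Tilde.eq_of_locally _ _ fun x _ => ?_
    obtain ⟨_, ⟨V, hV : IsAffineOpen V, rfl⟩, hxV, -⟩ :=
      X.isBasis_affineOpens.exists_subset_of_mem_open (Set.mem_univ x) isOpen_univ
    refine ⟨V, le_top, hxV, ?_⟩
    rw [← Groth.Agent.H11Tilde.app_map_apply, map_zero]
    set m : Γ(F, V) := F.presheaf.map (homOfLE le_top : V ⟶ ⊤).op s with hm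
    have htop : H29Blow.secAnn F m ⊔ I.ideal ⟨V, hV⟩ = ⊤ := by
      by_contra hne
      obtain ⟨p, hp, hle⟩ := Ideal.exists_le_maximal _ hne
      let q : Spec Γ(X, V) := ⟨p, hp.isPrime⟩
      have hzV : hV.fromSpec q ∈ V := hV.range_fromSpec.subset (Set.mem_range_self q)
      have e : hV.primeIdealOf ⟨hV.fromSpec q, hzV⟩ = q :=
        hV.fromSpec.isOpenEmbedding.injective (hV.fromSpec_primeIdealOf ⟨_, hzV⟩)
      have hzI : hV.fromSpec q ∈ I.supportSet := by
        rw [Scheme.IdealSheafData.mem_supportSet_iff_of_mem (U := ⟨V, hV⟩) hzV, Scheme.mem_zeroLocus_iff]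
        intro r hr hb
        rw [← Groth.Agent.LeadDev.UnitAt] at hb
        exact ((Groth.Agent.H17.AssPts.mem_primeIdealOf hV hzV r).1 (by rw [e]; exact le_sup_right.trans hle hr)) hb
      refine (H29Blow.germ_ne_zero_iff F hF.1 hV ⟨_, hzV⟩ m).2 (by rw [e]; exact le_sup_left.trans hle) ?_
      rw [hm, TopCat.Presheaf.germ_res_apply,
        ← TopCat.Presheaf.germ_res_apply F.presheaf (homOfLE (le_top : V0 ≤ ⊤)) _ (hZ hzI)]
      exact (congrArg _ h0).trans (map_zero _)
    obtain ⟨a, ha, b, hb, hab⟩ := Submodule.mem_sup.1 ((Ideal.eq_top_iff_one _).1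
      (Ideal.sup_pow_eq_top (n := n) htop))
    rw [← one_smul Γ(X, V) m, ← hab, add_smul, (H29Blow.mem_secAnn F).1 ha, zero_add]
    refine (OmegaSh.pullSect_smul (I ^ n).subschemeι F V b m).trans ?_
    have hb0 : (I ^ n).subschemeι.app V b = 0 := by
      refine ((I ^ n).ker_subschemeι_app ⟨V, hV⟩).symm.le ?_
      rw [Scheme.IdealSheafData.ideal_pow, Pi.pow_apply]
      exact hb
    rw [hb0]
    exact zero_smul _ _

end Groth.Agent.S3665
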