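import Groth.Statements.S3669
import Groth.Agent.H25HomO.Killed
import Mathlib

set_option autoImplicit false
universe u
open CategoryTheory CategoryTheory.Limits AlgebraicGeometry
attribute [local instance] HasDerivedCategory.standard
open Dual3

namespace Groth.Agent.S3669

/-- Let i : Z → X be a closed immersion of schemes with ideal sheaf I, Hom(O_Z, -) a right adjoint of
i_* on modules (it exists; here the chosen one) with counit i_* Hom(O_Z, F) → F. Then for every
O_X-module F and every affine open U ⊆ X, the counit on sections over U, Γ(i⁻¹U, Hom(O_Z, F)) → Γ(U,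
F), is injective with image exactly the sections s of F over U with I(U) · s = 0. -/
theorem result (Z X : Scheme.{u}) (i : Z ⟶ X) [IsClosedImmersion i] [Dual3.HasHomO i] (F : X.Modules) (U : X.affineOpens) : Function.Injective ⇑(ConcreteCategory.hom (((Dual3.homOAdj i).counit.app F).val.app (Opposite.op U.1))) ∧ Set.range ⇑(ConcreteCategory.hom (((Dual3.homOAdj i).counit.app F).val.app (Opposite.op U.1))) = ((LocCoh.torsionBy (i.ker.ideal U) (F.val.obj (Opposite.op U.1)) : Submodule Γ(X, U.1) (F.val.obj (Opposite.op U.1))) : Set (F.val.obj (Opposite.op U.1))) := by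
  haveI := Groth.Agent.H25HomO.mono_counit i F
  refine ⟨Groth.Agent.H10Coh.injective_app_of_mono' ((Dual3.homOAdj i).counit.app F) U.1, Set.ext fun s => ⟨?_, fun hs => ?_⟩⟩
  · rintro ⟨h, rfl⟩
    refine (Submodule.mem_torsionBySet_iff _ _).2 fun ⟨a, ha⟩ => ?_
    refine (((Dual3.homOAdj i).counit.app F).app_smul a h).symm.trans ?_
    refine (congrArg _ ?_).trans (map_zero _)
    have h0 : i.app U.1 a = 0 := by
      rw [Scheme.Hom.ker_apply] at ha; exact ha
    exact (congrArg (fun r => r • (show Γ((Dual3.homO i).obj F, i ⁻¹ᵁ U.1) from h)) h0).trans (zero_smul _ _)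
  · have hk : Groth.Agent.H25HomO.IsKilled i F (V := U.1) s :=
      Groth.Agent.H25HomO.isKilled_of_affine i F s fun a ha => (Submodule.mem_torsionBySet_iff _ _).1 hs ⟨a, ha⟩
    obtain ⟨g, hg⟩ := Groth.Agent.H25HomO.exists_factor i F
    exact ⟨g.app U.1 ⟨s, hk⟩, congr($(congrArg (fun φ => Scheme.Modules.Hom.app φ U.1) hg) ⟨s, hk⟩)⟩

end Groth.Agent.S3669
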