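import Groth.Statements.S3675
import Groth.Agent.H4DualSch.Basic
open CategoryTheory CategoryTheory.Limits

set_option autoImplicit false
set_option linter.style.haveILetI false
universe u
open CategoryTheory CategoryTheory.Limits AlgebraicGeometry
attribute [local instance] HasDerivedCategory.standard
open Dual3

namespace Groth.Agent.S3675

theorem _root_.Groth.Agent.H4DualSch.exists_mem_support {A : Type u} [CommRing A] [IsNoetherianRing A] {ω : Dual.D A}
    (hω : Dual.IsDualizing A ω) (p : PrimeSpectrum A) : ∃ i : ℤ, p ∈ Module.support A (Dual.HD A ω i) := by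
  have hp : p ∈ Module.support A A := by
    rw [Module.mem_support_iff_of_finite, Module.annihilator_eq_bot.2 inferInstance]
    exact bot_le
  obtain ⟨δ, D, -, -, -, h1, -, -⟩ := Groth.Agent.H4DR.Dualizing.exists_interval hω A p hp
  refine ⟨Groth.Agent.H4DR.Dualizing.deg hω p - ↑δ, ?_⟩
  rw [← (Groth.Agent.H4DR.Ext.evalEquiv ω _).support_eq]
  exact h1


/-- Let X be a locally Noetherian scheme (exactness instances as in the definition of dualizing
complexes) and ω a coherent O_X-module such that ω[0] is a dualizing complex on X. Then X is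
Cohen–Macaulay: every local ring O_{X,x} is a Cohen–Macaulay local ring. -/
theorem result (X : Scheme.{u}) [IsLocallyNoetherian X] [∀ (U V : Scheme.{u}) (j : U ⟶ V) [IsOpenImmersion j], PreservesFiniteLimits (Scheme.Modules.restrictFunctor j)] [∀ (R : CommRingCat.{u}), PreservesFiniteLimits (tilde.functor R)] (ω : X.Modules) (hω : Coh.IsCoh ω) (hD : Dual2.IsDualizingSch X (DCoh.inD X ω)) (x : X) : LocCoh.IsCohenMacaulayLocalRing (X.presheaf.stalk x) := by
  obtain ⟨A, _, j, _, y, rfl⟩ : ∃ (A : Type u) (_ : CommRing A) (j : Spec (CommRingCat.of A) ⟶ X)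
      (_ : IsOpenImmersion j) (p : PrimeSpectrum A), j.base p = x := by
    obtain ⟨y, hy⟩ := X.affineCover.covers x
    exact ⟨_, inferInstance, X.affineCover.f (X.affineCover.idx x),
      (inferInstanceAs (IsOpenImmersion (X.affineCover.f (X.affineCover.idx x)))), y, hy⟩
  obtain ⟨ωA, hωA, ⟨e⟩⟩ := hD A j
  haveI := Groth.Agent.H4DualSch.isNoetherianRing_chart j
  rw [Groth.Agent.H4DualSch.isCM_stalk_iff j y, Groth.Agent.H4DualSch.cm_iff_existsUnique hωA y]
  have hzero : ∀ i : ℤ, i ≠ 0 → y ∉ Module.support _ (Dual.HD _ ωA i) := fun i hi hmem => by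
    have hnt := (Groth.Agent.H4DualSch.nontrivial_stalk_HD_iff j _ ωA e y i).2 hmem
    have hz : IsZero (DCoh.HD (DCoh.inD X ω) i) := by
      rcases lt_or_gt_of_ne hi with h | h
      · exact DerivedCategory.isZero_of_isGE _ 0 i h
      · exact DerivedCategory.isZero_of_isLE _ 0 i h
    haveI := (((Scheme.Modules.toPresheaf X ⋙ TopCat.Presheaf.stalkFunctor _ (j.base y)).map_isZero hz))
    haveI := AddCommGrpCat.subsingleton_of_isZero this
    exact not_subsingleton ((DCoh.HD (DCoh.inD X ω) i).presheaf.stalk (j.base y)) (by assumption)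
  obtain ⟨i, hi⟩ := Groth.Agent.H4DualSch.exists_mem_support hωA y
  have hi0 : i = 0 := by_contra fun h => hzero i h hi
  exact ⟨i, hi, fun k hk => (by_contra fun h => hzero k h hk : k = 0).trans hi0.symm⟩

end Groth.Agent.S3675
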