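import Groth.Statements.S3678
import Groth.Agent.H18PBC.Specialization

set_option autoImplicit false
universe u
open Pi1

namespace Groth.Agent.S3678

open AlgebraicGeometry CategoryTheory CategoryTheory.Limits in
/-- Let A be a strictly henselian local ring (a henselian local ring with separably closed residue
field), f : X → Spec A a morphism which is proper, flat and of finite presentation and all of whose
geometric fibres are connected and reduced, and t : Spec Ω → Spec A a geometric point, with Ω an
algebraically closed field. Then the functor restricting finite étale covers of X to the geometric
fibre X_t = X ×_{Spec A} Spec Ω is fully faithful; equivalently, the specialisation homomorphism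
from the fundamental group of X_t to that of X is surjective. (The published statement is the
surjectivity of this homomorphism; it is stated here as full faithfulness of the restriction
functor.) -/
theorem result (A : Type u) [CommRing A] [HenselianLocalRing A]
    [IsSepClosed (IsLocalRing.ResidueField A)] {X : Scheme.{u}} (f : X ⟶ Spec (CommRingCat.of A))
    [IsProper f] [Flat f] [LocallyOfFinitePresentation f]
    (hfib : ∀ (Ω : Type u) [Field Ω] [IsAlgClosed Ω] (s : Spec (CommRingCat.of Ω) ⟶ Spec (CommRingCat.of A)),
      ConnectedSpace ↥(pullback f s) ∧ IsReduced (pullback f s))
    (Ω : Type u) [Field Ω] [IsAlgClosed Ω] (t : Spec (CommRingCat.of Ω) ⟶ Spec (CommRingCat.of A)) :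
    (FEt.restrict (pullback.fst f t)).Full ∧ (FEt.restrict (pullback.fst f t)).Faithful := by
  haveI := H18PBC.Spec.geometricallyReduced_of_geomFibres f fun Ω _ _ s => (hfib Ω s).2
  exact H18PBC.Spec.fullyFaithful_fibre f Ω t

end Groth.Agent.S3678
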