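import Groth.Statements.S3687
import Groth.Agent.S14773
-- import your own Groth.Agent.* helpers here

set_option autoImplicit false
open CategoryTheory CategoryTheory.Limits AlgebraicGeometry Opposite
universe u
open SGA1

namespace Groth.Agent.S3687

/-- Let g : S' ⟶ S be finite, surjective and locally of finite presentation (S arbitrary). Then every
descent datum relative to g whose underlying scheme is etale, separated and quasi-compact over S' is
isomorphic to the canonical descent datum of a scheme etale, separated and quasi-compact over S.
(Descent data relative to g are taken in functor-of-points form.) -/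
theorem result {S' S : Scheme.{u}} (g : S' ⟶ S) [IsFinite g] [Surjective g]
    [LocallyOfFinitePresentation g]
    (D : Desc.SchDD g) [QuasiCompact D.obj.hom] [IsSeparated D.obj.hom] [Etale D.obj.hom] :
    ∃ U : Over S, QuasiCompact U.hom ∧ IsSeparated U.hom ∧ Etale U.hom ∧ Nonempty ((Desc.toDD g).obj U ≅ D) := by
  exact Groth.Agent.S14773.result g D

end Groth.Agent.S3687
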