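import Groth.Statements.S3698
import Groth.Agent.H18PBC.AbCover.Isogeny
import Groth.Agent.H25Rig.GroupMaps
import Mathlib.AlgebraicGeometry.Group.Abelian

set_option autoImplicit false
universe u
open CategoryTheory MonoidalCategory CartesianMonoidalCategory MonObj GrpObj AlgebraicGeometry
open Pi1

namespace Groth.Agent.S3698

/-- The fundamental group of an abelian variety, in the form underlying its computation: let k be an
algebraically closed field and A an abelian variety over k (a proper, geometrically integral group
scheme over k). Then every connected finite étale cover Z → A is dominated by a multiplication map: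
for some integer d ≥ 1 there is a morphism A → Z over A, where A is viewed as a scheme over A
through multiplication by d. (Multiplication by d is the d-th power of the identity in the group
Hom(A, A); consequently the fundamental group of A is the inverse limit of the groups of k-points of
the kernels of these multiplications.) -/
theorem result (k : Type u) [Field k] [IsAlgClosed k]
    (A : Over (Spec (CommRingCat.of k))) [GrpObj A] [IsProper A.hom] [GeometricallyIntegral A.hom]
    (Z : FEt.Cat A.left) [ConnectedSpace Z.left] :
    ∃ d : ℕ, 1 ≤ d ∧ ∃ ψ : A.left ⟶ Z.left, ψ ≫ Z.hom = ((𝟙 A) ^ (d : ℤ)).left := by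
  haveI : IsIntegral A.left := GeometricallyIntegral.isIntegral_of_subsingleton A.hom
  haveI : GeometricallyIntegral (A ⊗ A).hom := H25Rig.geometricallyIntegral_tensor A A
  haveI : IsIntegral (A ⊗ A).left := GeometricallyIntegral.isIntegral_of_subsingleton (A ⊗ A).hom
  haveI : IsCommMonObj A := isCommMonObj_of_isProper_of_isIntegral_tensorObj_of_isAlgClosed A
  have hcomm : ∀ (X : Over (Spec (CommRingCat.of k))) (g h : X ⟶ A), g * h = h * g := fun X g h => mul_comm g h
  haveI : IsFinite Z.hom := Z.prop.1
  haveI : Etale Z.hom := Z.prop.2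
  let Y : Over (Spec (CommRingCat.of k)) := Over.mk (Z.hom ≫ A.hom)
  let φ : Y ⟶ A := Over.homMk Z.hom rfl
  haveI : IsFinite φ.left := ‹IsFinite Z.hom›
  haveI : Etale φ.left := ‹Etale Z.hom›
  haveI : ConnectedSpace Y.left := ‹ConnectedSpace Z.left›
  haveI : Surjective φ.left := Groth.Agent.H18PBC.AbCover.surjective_of_finite_etale φ.left
  haveI : IsProper Y.hom := by rw [← Over.w φ]; infer_instance
  obtain ⟨y₀, h₀⟩ := Groth.Agent.H18PBC.AbCover.exists_lift_point φ η[A]
  obtain ⟨inst, hinst⟩ := Groth.Agent.H18PBC.AbCover.exists_grpObj φ y₀ h₀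
  letI := inst
  haveI := hinst
  obtain ⟨hcard, hfin⟩ := Groth.Agent.H18PBC.AbCover.card_kerPts φ
  obtain ⟨ψ, -, hψ⟩ := Groth.Agent.H18PBC.AbCover.exists_hom_comp_eq_pow φ hcomm _ dvd_rfl
  refine ⟨_, hcard ▸ Nat.card_pos, ψ.left, ?_⟩
  rw [zpow_natCast, ← hψ]
  rfl

end Groth.Agent.S3698
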