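import Groth.Statements.S3699
import Groth.Agent.H06DegNormal.Basic
import Groth.Agent.S2771

set_option autoImplicit false
universe u
open SGA1

namespace Groth.Agent.S3699

set_option backward.isDefEq.respectTransparency false

open AlgebraicGeometry CategoryTheory CategoryTheory.Limits in
/-- Let f : X -> Y be separated, quasi-finite and of finite type, with Y irreducible and locally
Noetherian, X reduced, and every irreducible component of X dominating Y (every maximal point of X
maps to the generic point η of Y). Let n be the degree of X over Y, the dimension over κ(η) of the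
ring of global sections of the generic fibre (the sum of the degrees of the function fields of the
components of X over that of Y), and for a point y let n(y) be the number of points of the geometric
fibre of f at y. If the local ring of Y at y is a normal domain, then n(y) ≤ n, with equality if and
only if over some open neighbourhood U of y the restriction of f is a finite etale cover of U. -/
theorem result {X Y : Scheme.{u}} (f : X ⟶ Y) [IsSeparated f] [LocallyQuasiFinite f]
    [LocallyOfFiniteType f] [QuasiCompact f] [IrreducibleSpace Y] [IsLocallyNoetherian Y] [IsReduced X]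
    (hdom : ∀ x : X, (∀ x' : X, x' ⤳ x → x' = x) → f.base x = genericPoint Y)
    (y : Y) [IsDomain (Y.presheaf.stalk y)] (hy : IsIntegrallyClosed (Y.presheaf.stalk y)) :
    letI := (((pullback.snd f (Y.fromSpecResidueField (genericPoint Y))).appTop).hom.comp
      (Scheme.ΓSpecIso (Y.residueField (genericPoint Y))).inv.hom).toAlgebra
    letI n := Module.finrank (Y.residueField (genericPoint Y)) Γ(pullback f (Y.fromSpecResidueField (genericPoint Y)), ⊤)
    letI ny := Nat.card ↥(pullback f (Spec.map (CommRingCat.ofHom (algebraMap (Y.residueField y)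
      (AlgebraicClosure (Y.residueField y)))) ≫ Y.fromSpecResidueField y))
    ny ≤ n ∧ (ny = n ↔ ∃ U : Y.Opens, y ∈ U ∧ IsFinite (f ∣_ U) ∧ Etale (f ∣_ U)) := by
  classical
  obtain ⟨V, hyV, hVint⟩ := H06DegNormal.exists_isIntegral_nbhd y
  haveI := hVint
  let η := genericPoint Y
  let g := f ∣_ V
  let y' : V.toScheme := ⟨y, hyV⟩
  haveI : IsReduced (f ⁻¹ᵁ V).toScheme := isReduced_of_isOpenImmersion (f ⁻¹ᵁ V).ι
  have hgen : V.ι (genericPoint V.toScheme) = η := genericPoint_eq_of_isOpenImmersion V.ι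
  have hηV : η ∈ V := (genericPoint_specializes y).mem_open V.2 hyV
  haveI : LocallyOfFiniteType g := IsZariskiLocalAtTarget.restrict ‹_› V
  haveI : LocallyQuasiFinite g := IsZariskiLocalAtTarget.restrict ‹_› V
  haveI : QuasiCompact g := IsZariskiLocalAtTarget.restrict ‹_› V
  haveI : IsSeparated g := IsZariskiLocalAtTarget.restrict ‹_› V
  haveI hy' : IsIntegrallyClosed (V.toScheme.presheaf.stalk y') :=
    IsIntegrallyClosed.of_equiv (V.stalkIso y').symm.commRingCatIsoToRingEquiv
  have hgfx : ∀ x : (f ⁻¹ᵁ V).toScheme, V.ι (g x) = f x.1 := fun x => by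
    rw [← Scheme.Hom.comp_apply, morphismRestrict_ι]; rfl
  have hdom' : ∀ Z ∈ irreducibleComponents ↥(f ⁻¹ᵁ V).toScheme, genericPoint V.toScheme ∈ g.base '' Z := by
    intro Z hZ
    obtain ⟨ξ, hξ⟩ := QuasiSober.sober hZ.1 (isClosed_of_mem_irreducibleComponents Z hZ)
    refine ⟨ξ, hξ.mem, V.ι.isOpenEmbedding.injective ?_⟩
    rw [hgen]
    refine (hgfx ξ).trans (hdom ξ.1 fun x' hx' => ?_)
    have hxV : x' ∈ f ⁻¹ᵁ V := hx'.mem_open (f ⁻¹ᵁ V).2 ξ.2
    have hsp : (⟨x', hxV⟩ : (f ⁻¹ᵁ V).toScheme) ⤳ ξ :=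
      Topology.IsInducing.subtypeVal.specializes_iff.mp hx'
    have hsub : Z ⊆ closure {(⟨x', hxV⟩ : (f ⁻¹ᵁ V).toScheme)} := by
      rw [← hξ.def]; exact closure_minimal (Set.singleton_subset_iff.2 (specializes_iff_mem_closure.1 hsp)) isClosed_closure
    have hmax := hZ.2 isIrreducible_singleton.closure hsub
    have hsp' : ξ ⤳ (⟨x', hxV⟩ : (f ⁻¹ᵁ V).toScheme) := hξ.specializes (hmax (subset_closure rfl))
    exact congrArg Subtype.val (hsp.antisymm hsp').eq
  have hfin := f.finite_preimage_singleton η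
  have hfin' := g.finite_preimage_singleton (genericPoint V.toScheme)
  have hfy := g.finite_preimage_singleton y'
  -- the degree
  haveI : IsIso (Y.residue η) := by
    haveI := hVint
    refine (ConcreteCategory.isIso_iff_bijective _).mpr ⟨?_, Y.residue_surjective η⟩
    have hF : IsField (Y.presheaf.stalk η) := by
      have h1 : IsField (V.toScheme.presheaf.stalk (genericPoint V.toScheme)) := Field.toIsField V.toScheme.functionField
      rw [← hgen]
      exact (V.stalkIso (genericPoint V.toScheme)).commRingCatIsoToRingEquiv.symm.toMulEquiv.isField h1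
    letI := hF.toField
    exact (Y.residue η).hom.injective
  haveI : Flat (Y.fromSpecResidueField η) := inferInstanceAs (Flat (Spec.map (Y.residue η) ≫ Y.fromSpecStalk η))
  have hη : (Y.fromSpecResidueField η) (IsLocalRing.closedPoint (Y.residueField η)) = η :=
    Scheme.fromSpecResidueField_apply _ _
  have hn := H06DegNormal.finrank_sections_generic f (K := Y.residueField η) (Y.fromSpecResidueField η)
    (hfin.subset fun x hx => Set.mem_singleton_iff.2 ((Set.mem_singleton_iff.1 hx).trans hη))
  have hconv : ∑ x ∈ hfin.toFinset, EGA4loc.residueDegree f x = ∑ x ∈ hfin'.toFinset, EGA4loc.residueDegree g x := by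
    rw [← finsum_mem_eq_finite_toFinset_sum _ hfin, ← finsum_mem_eq_finite_toFinset_sum _ hfin']
    refine (finsum_mem_eq_of_bijOn (fun x => x.1) ⟨?_, fun _ _ _ _ h => Subtype.ext h, ?_⟩ fun x _ => ?_).symm
    · intro x hx
      show f x.1 = η
      rw [← hgfx, show g x = _ from hx, hgen]
    · intro x hx
      have hxV : x ∈ f ⁻¹ᵁ V := by show f x ∈ V; rw [show f x = η from hx]; exact hηV
      refine ⟨⟨x, hxV⟩, V.ι.isOpenEmbedding.injective ?_, rfl⟩
      rw [hgen, hgfx]; exact hx
    · have h1 := H22Alg.CycBasic.residueDegree_comp g V.ι x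
      have h2 := H22Alg.CycBasic.residueDegree_comp (f ⁻¹ᵁ V).ι f x
      rw [H06DegNormal.residueDegree_preimmersion V.ι, one_mul] at h1
      rw [H06DegNormal.residueDegree_preimmersion (f ⁻¹ᵁ V).ι, mul_one] at h2
      show g.residueDegree x = f.residueDegree ((f ⁻¹ᵁ V).ι x)
      rw [← h1, ← h2, morphismRestrict_ι]
  -- the geometric fibre
  have hcard := H06DegNormal.card_pullback_residue f V y hyV (AlgebraicClosure (Y.residueField y)) hfy
  have hT : ∀ x ∈ hfy.toFinset, g x = y' ∧ g.QuasiFiniteAt x := fun x hx =>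
    ⟨hfy.mem_toFinset.mp hx, H06Unram.SepDegreeFibre.quasiFiniteAt_of_finite g hfy (hfy.mem_toFinset.mp hx)⟩
  have hle : ∑ x ∈ hfy.toFinset, EGA4loc.residueSepDegree g x ≤ ∑ x ∈ hfin'.toFinset, EGA4loc.residueDegree g x :=
    (H06Unram.SepDegreeFibre.sum_le g hdom' hfin' (H06EGA14.isGeomUnibranch_of_isIntegrallyClosed _) _ hT).trans
      (Finset.sum_le_sum fun x hx => H06Unram.SepDegreeFibre.residueSepDegree_le g
        (H06Unram.SepDegreeFibre.quasiFiniteAt_of_finite g hfin' (hfin'.mem_toFinset.mp hx)))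
  have hset : {x | g.base x = y' ∧ g.QuasiFiniteAt x} = g.base ⁻¹' {y'} :=
    Set.ext fun x => ⟨fun h => h.1, fun h => ⟨h, H06Unram.SepDegreeFibre.quasiFiniteAt_of_finite g hfy h⟩⟩
  have hiff := S2771.result g hdom' hfin' y' hy'
  rw [hset, finsum_mem_eq_finite_toFinset_sum _ hfy] at hiff
  have hn' : ∀ m : ℕ, m = ∑ x ∈ hfy.toFinset, EGA4loc.residueSepDegree g x → ∀ N : ℕ,
      N = ∑ x ∈ hfin'.toFinset, EGA4loc.residueDegree g x →
      m ≤ N ∧ (m = N ↔ ∃ U : Y.Opens, y ∈ U ∧ IsFinite (f ∣_ U) ∧ Etale (f ∣_ U)) := by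
    rintro m rfl N rfl
    refine ⟨hle, ?_, ?_⟩
    · intro h
      obtain ⟨U, hyU, hf, he⟩ := hiff.1 ⟨hfy, h⟩
      refine ⟨V.ι ''ᵁ U, ⟨y', hyU, rfl⟩, ?_, ?_⟩
      · exact (MorphismProperty.arrow_mk_iso_iff (P := @IsFinite) (morphismRestrictRestrict f V U)).1 hf
      · exact (MorphismProperty.arrow_mk_iso_iff (P := @Etale) (morphismRestrictRestrict f V U)).1 he
    · rintro ⟨U, hyU, hf, he⟩
      refine (hiff.2 ⟨V.ι ⁻¹ᵁ U, hyU, ?_, ?_⟩).2
      · refine (MorphismProperty.arrow_mk_iso_iff (P := @IsFinite) (morphismRestrictRestrict f V (V.ι ⁻¹ᵁ U))).2 ?_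
        have hle' : V.ι ''ᵁ (V.ι ⁻¹ᵁ U) ≤ U := Set.image_preimage_subset _ _
        exact H06DegNormal.restrict_of_le f @IsFinite hle' hf
      · refine (MorphismProperty.arrow_mk_iso_iff (P := @Etale) (morphismRestrictRestrict f V (V.ι ⁻¹ᵁ U))).2 ?_
        have hle' : V.ι ''ᵁ (V.ι ⁻¹ᵁ U) ≤ U := Set.image_preimage_subset _ _
        exact H06DegNormal.restrict_of_le f @Etale hle' he
  refine hn' _ hcard _ ?_
  refine hn.trans (Eq.trans ?_ hconv)
  refine Finset.sum_congr (Finset.ext fun x => ?_) fun _ _ => rfl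
  rw [Set.Finite.mem_toFinset, Set.Finite.mem_toFinset, Set.mem_preimage, Set.mem_preimage, Set.mem_singleton_iff,
    Set.mem_singleton_iff]
  exact ⟨fun h => h.trans hη, fun h => h.trans hη.symm⟩

end Groth.Agent.S3699
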