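import Groth.Statements.S3700
import Groth.Agent.H06Unram.SmoothAlongRegular
import Groth.Agent.H13CInt.Spread
import Groth.Agent.H24Hilb.RegularObsTheory
import Groth.Agent.S8656
-- import your own Groth.Agent.* helpers here

set_option autoImplicit false
universe u
open SGA1

namespace Groth.Agent.S3700


open AlgebraicGeometry CategoryTheory

theorem isRegularIdeal_of_smooth {X Y S : Scheme.{u}} [IsLocallyNoetherian X] (f : X ⟶ S)
    [LocallyOfFinitePresentation f] (j : Y ⟶ X) [IsClosedImmersion j] [LocallyOfFinitePresentation (j ≫ f)]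
    (y : Y) (hX : j y ∈ f.smoothLocus) (hY : y ∈ (j ≫ f).smoothLocus) :
    CInt.IsRegularIdeal (RingHom.ker (j.stalkMap y).hom) := by
  obtain ⟨U, hxU, hU⟩ := (Groth.Agent.H17.LocusBC.mem_smoothLocus_iff_exists f _).mp hX
  obtain ⟨V, hyV, hV⟩ := (Groth.Agent.H17.LocusBC.mem_smoothLocus_iff_exists (j ≫ f) _).mp hY
  let O : X.Opens := U ⊓ ⟨(j '' (V : Set Y)ᶜ)ᶜ, (j.isClosedEmbedding.isClosedMap _ V.2.isClosed_compl).isOpen_compl⟩
  have hyO : j y ∈ O := ⟨hxU, fun ⟨z, hz, hzy⟩ => hz (j.isClosedEmbedding.injective hzy ▸ hyV)⟩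
  have hle : j ⁻¹ᵁ O ≤ V := fun z hz => by
    by_contra hzV
    exact hz.2 ⟨z, hzV, rfl⟩
  haveI : Smooth (O.ι ≫ f) := by
    rw [← X.homOfLE_ι (inf_le_left : O ≤ U), Category.assoc]; infer_instance
  haveI hc : IsClosedImmersion (j ∣_ O) := inferInstance
  haveI : Smooth ((j ∣_ O) ≫ O.ι ≫ f) := by
    rw [morphismRestrict_ι_assoc, ← Y.homOfLE_ι hle, Category.assoc]; infer_instance
  have hi : RegImm.IsRegularImmersion .koszul (j ∣_ O) :=
    Groth.Agent.S8656.result _ (fun z => Groth.Agent.H8Props.AlgSpLci.isKoszulAt_of_smooth _ z) (O.ι ≫ f) (j ∣_ O) rfl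
  have hq : RegImm.IsRegularIdeal RegImm.Kind.quasi (j ∣_ O).ker := by
    intro x hx
    obtain ⟨z, rfl⟩ : x ∈ Set.range (j ∣_ O) := by
      have h1 := Scheme.Hom.support_ker (j ∣_ O)
      rw [← SetLike.mem_coe, h1] at hx
      rwa [(j ∣_ O).isClosedEmbedding.isClosed_range.closure_eq] at hx
    obtain ⟨U', hzU, -, rs, hrs, hI⟩ := hi.2 z
    exact ⟨U', hzU, rs, Groth.Agent.H29Slice.isQuasiRegular_of_isH1Regular
      (Groth.Agent.H29Slice.isH1Regular_of_isKoszulRegular hrs), (Scheme.Hom.ker_apply _ U').trans hI⟩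
  have hreg : Mor2.IsRegularClosedImmersion (j ∣_ O) := by
    refine ⟨hc, fun z => ?_⟩
    obtain ⟨U', hzU, rs, hrs, hI⟩ := Groth.Agent.H17.RegQuasi.regularIdeal_of_quasi _ hq ((j ∣_ O) z) (by
      rw [← SetLike.mem_coe, Scheme.Hom.support_ker]; exact subset_closure (Set.mem_range_self z))
    exact ⟨U'.1, U'.2, hzU, rs, hrs, hI⟩
  exact (H13CInt.regularNear_iff j y).mp ⟨O, hyO, hreg⟩

theorem smooth_of_isRegularIdeal {X Y S : Scheme.{u}} [IsLocallyNoetherian X] (f : X ⟶ S)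
    [LocallyOfFinitePresentation f] (j : Y ⟶ X) [IsClosedImmersion j] [LocallyOfFinitePresentation (j ≫ f)]
    (y : Y) (hY : y ∈ (j ≫ f).smoothLocus) (h : CInt.IsRegularIdeal (RingHom.ker (j.stalkMap y).hom)) :
    j y ∈ f.smoothLocus := by
  obtain ⟨O, hyO, hc, hreg⟩ := (H13CInt.regularNear_iff j y).mpr h
  obtain ⟨V, hyV, hV⟩ := (Groth.Agent.H17.LocusBC.mem_smoothLocus_iff_exists (j ≫ f) _).mp hY
  haveI := hc
  let y' : (j ⁻¹ᵁ O).toScheme := ⟨y, hyO⟩
  have e : (j ∣_ O) ≫ O.ι ≫ f = (j ⁻¹ᵁ O).ι ≫ j ≫ f := morphismRestrict_ι_assoc _ _ _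
  obtain ⟨U', hU', hsm⟩ := Groth.Agent.H06Unram.SmoothAlongRegular.smooth_nhd (O.ι ≫ f) ((j ⁻¹ᵁ O).ι ≫ j ≫ f)
    (j ∣_ O) e y' ⟨(j ⁻¹ᵁ O).ι ⁻¹ᵁ V, hyV, by
      rw [← Category.assoc, ← morphismRestrict_ι, Category.assoc]; infer_instance⟩ (hreg y')
  refine (Groth.Agent.H17.LocusBC.mem_smoothLocus_iff_exists f _).mpr ⟨O.ι ''ᵁ U', ⟨(j ∣_ O) y', hU', ?_⟩, ?_⟩
  · exact morphismRestrict_base_coe j O y'
  · haveI := hsm
    rw [show (O.ι ''ᵁ U').ι = (O.ι.isoImage U').inv ≫ U'.ι ≫ O.ι from (O.ι.isoImage_inv_ι U').symm]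
    simp only [Category.assoc]
    infer_instance

open AlgebraicGeometry CategoryTheory CategoryTheory.Limits in
/-- Let S be locally Noetherian, f : X -> S locally of finite type, Y the closed subscheme of X defined
by a quasi-coherent ideal, and x a point of Y at which Y is smooth over S. Then X is smooth over S
at x if and only if the closed immersion of Y in X is regular at x, that is, the kernel of O_{X,x}
-> O_{Y,x} is generated by a regular sequence. (Smoothness at a point is membership in Mathlib's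
smooth locus, the set of points where the map of local rings is formally smooth.) -/
theorem result {X S : Scheme.{u}} [IsLocallyNoetherian S] (f : X ⟶ S)
    [LocallyOfFiniteType f] [LocallyOfFinitePresentation f] (I : X.IdealSheafData)
    [LocallyOfFinitePresentation (I.subschemeι ≫ f)] (x : ↥I.subscheme) (hY : x ∈ (I.subschemeι ≫ f).smoothLocus) :
    I.subschemeι.base x ∈ f.smoothLocus ↔ CInt.IsRegularIdeal (RingHom.ker (I.subschemeι.stalkMap x).hom) := by
  haveI : IsLocallyNoetherian X := LocallyOfFiniteType.isLocallyNoetherian f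
  exact ⟨fun hX => isRegularIdeal_of_smooth f I.subschemeι x hX hY, fun h => smooth_of_isRegularIdeal f I.subschemeι x hY h⟩

end Groth.Agent.S3700
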