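import Groth.Statements.S3707
import Mathlib.AlgebraicGeometry.Morphisms.FormallyUnramified
import Mathlib.AlgebraicGeometry.PullbackCarrier

set_option autoImplicit false
universe u
open SGA1

namespace Groth.Agent.S3707

open AlgebraicGeometry CategoryTheory CategoryTheory.Limits in
/-- Let g : S' -> S be a surjective morphism of schemes, X and Y schemes over S with Y unramified over S
(formally unramified and locally of finite type), and X', Y' their base changes to S'. Then the map
sending an S-morphism X -> Y to the induced S'-morphism X' -> Y' is injective. -/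
theorem result {S S' X Y : Scheme.{u}} (g : S' ⟶ S) [Surjective g]
    (p : X ⟶ S) (q : Y ⟶ S) [FormallyUnramified q] [LocallyOfFiniteType q]
    (u v : X ⟶ Y) (hu : p ≫ 𝟙 S = u ≫ q) (hv : p ≫ 𝟙 S = v ≫ q)
    (h : pullback.map p g q g u (𝟙 S') (𝟙 S) hu ((Category.comp_id _).trans (Category.id_comp _).symm) =
      pullback.map p g q g v (𝟙 S') (𝟙 S) hv ((Category.comp_id _).trans (Category.id_comp _).symm)) :
    u = v := by
  let w := pullback.fst p g
  have hw : w ≫ u = w ≫ v := by
    have := congrArg (· ≫ pullback.fst q g) h
    simp only [pullback.map, pullback.lift_fst] at this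
    exact this
  have hfg : u ≫ q = v ≫ q := hu.symm.trans hv
  let m : X ⟶ pullback q q := pullback.lift u v hfg
  let j := pullback.fst m (pullback.diagonal q)
  have hj : j ≫ u = j ≫ v := by
    have h0 := pullback.condition (f := m) (g := pullback.diagonal q)
    have h1 := congrArg (· ≫ pullback.fst q q) h0
    have h2 := congrArg (· ≫ pullback.snd q q) h0
    simp only [Category.assoc, pullback.diagonal_fst, pullback.diagonal_snd, m, pullback.lift_fst,
      pullback.lift_snd] at h1 h2
    exact h1.trans h2.symm
  let s : pullback p g ⟶ pullback m (pullback.diagonal q) := pullback.lift w (w ≫ u) (by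
    refine pullback.hom_ext ?_ ?_
    · rw [Category.assoc, Category.assoc, Category.assoc, pullback.diagonal_fst, Category.comp_id]
      exact congrArg (w ≫ ·) (pullback.lift_fst u v hfg)
    · rw [Category.assoc, Category.assoc, Category.assoc, pullback.diagonal_snd, Category.comp_id]
      exact (congrArg (w ≫ ·) (pullback.lift_snd u v hfg)).trans hw.symm)
  have : Surjective j := ⟨fun x => by
    obtain ⟨z, hz⟩ := (inferInstance : Surjective w).surj x
    refine ⟨s.base z, ?_⟩
    rw [← hz, ← pullback.lift_fst (f := m) (g := pullback.diagonal q) w (w ≫ u)]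
    rfl⟩
  haveI : IsIso j := by
    rw [isIso_iff_isOpenImmersion_and_epi_base]
    exact ⟨inferInstance, (TopCat.epi_iff_surjective _).2 j.surjective⟩
  exact (cancel_epi j).1 hj

end Groth.Agent.S3707
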