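import Groth.Statements.S3709
import Groth.Agent.H9Et.EtaleDescentHom
-- import your own Groth.Agent.* helpers here

set_option autoImplicit false
set_option linter.style.haveILetI false
set_option backward.isDefEq.respectTransparency.types false
universe u
open SGA1

namespace Groth.Agent.S3709

open AlgebraicGeometry CategoryTheory CategoryTheory.Limits in
/-- A universally submersive morphism is a descent morphism for etale schemes (exactness of Hom_S(X, Y)
-> Hom_S'(X', Y') => Hom_S''(X'', Y'')): let g : S' -> S be universally submersive, X and Y schemes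
over S with Y etale over S, X' and Y' their base changes along g, and f' : X' -> Y' an S'-morphism
whose two pullbacks to S'' = S' x_S S' coincide (equivalently: the two composites X'' -> X' -> Y' ->
Y along the two projections agree). Then there is exactly one S-morphism u : X -> Y whose base
change is f'. -/
theorem result {S S' X Y : Scheme.{u}} (g : S' ⟶ S) (hg : SGA1.UnivSubmersive g)
    (p : X ⟶ S) (q : Y ⟶ S) [Etale q]
    (f' : pullback p g ⟶ pullback q g) (hf' : f' ≫ pullback.snd q g = pullback.snd p g)
    (hcoc : pullback.map p (pullback.fst g g ≫ g) p g (𝟙 X) (pullback.fst g g) (𝟙 S)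
        ((Category.comp_id _).trans (Category.id_comp _).symm) (Category.comp_id _) ≫ f' ≫ pullback.fst q g =
      pullback.map p (pullback.fst g g ≫ g) p g (𝟙 X) (pullback.snd g g) (𝟙 S)
        ((Category.comp_id _).trans (Category.id_comp _).symm) ((Category.comp_id _).trans pullback.condition) ≫
        f' ≫ pullback.fst q g) :
    ∃! u : X ⟶ Y, u ≫ q = p ∧ f' ≫ pullback.fst q g = pullback.fst p g ≫ u := by
  have ht : (f' ≫ pullback.fst q g) ≫ q = pullback.fst p g ≫ p := by
    rw [Category.assoc, pullback.condition, ← Category.assoc, hf', pullback.condition]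
  let gX := pullback.fst p g
  let ω : pullback gX gX ⟶ pullback p (pullback.fst g g ≫ g) :=
    pullback.lift (pullback.fst gX gX ≫ gX)
      (pullback.lift (pullback.fst gX gX ≫ pullback.snd p g) (pullback.snd gX gX ≫ pullback.snd p g)
        (by rw [Category.assoc, Category.assoc, ← pullback.condition, ← Category.assoc, pullback.condition, Category.assoc]))
      (by rw [← Category.assoc _ (pullback.fst g g), pullback.lift_fst, Category.assoc, Category.assoc,
        pullback.condition])
  obtain ⟨u, ⟨h1, h2⟩, hu⟩ := Groth.Agent.H9Et.existsUnique_hom g hg p q (f' ≫ pullback.fst q g) ht (by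
    have := congrArg (ω ≫ ·) hcoc
    rw [← Category.assoc ω, ← Category.assoc ω] at this
    refine Eq.trans ?_ (this.trans ?_)
    · refine congrArg (· ≫ f' ≫ pullback.fst q g) (pullback.hom_ext ?_ ?_)
      · rw [Category.assoc, pullback.lift_fst, Category.comp_id, pullback.lift_fst]
      · rw [Category.assoc, pullback.lift_snd, ← Category.assoc ω, pullback.lift_snd, pullback.lift_fst]
    · refine congrArg (· ≫ f' ≫ pullback.fst q g) (pullback.hom_ext ?_ ?_)
      · rw [Category.assoc, pullback.lift_fst, Category.comp_id, pullback.lift_fst, pullback.condition]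
      · rw [Category.assoc, pullback.lift_snd, ← Category.assoc ω, pullback.lift_snd, pullback.lift_snd])
  exact ⟨u, ⟨h1, h2.symm⟩, fun v hv => hu v ⟨hv.1, hv.2.symm⟩⟩

end Groth.Agent.S3709
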