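import Groth.Statements.S3711
import Groth.Agent.H15Site.TamePrincipal.Main

set_option autoImplicit false
open CategoryTheory CategoryTheory.Limits AlgebraicGeometry
universe u
open SGA1t

namespace Groth.Agent.S3711

/-- Case of a constant group: let f : X -> S and φ_1, ..., φ_r cut out a strict normal crossings divisor
relative to S with complement U, and let P be a principal C-cover of U for a finite group C whose
order is invertible in every residue field of S. Then P is tamely ramified on X relatively to S. -/
theorem result {X S : Scheme.{u}} (f : X ⟶ S) {r : ℕ} (φ : Fin r → Γ(X, ⊤))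
    (hD : SGA1t.IsRelSNC f φ) (C : Type) [Group C] [Finite C] (hC : ∀ s : S, IsUnit ((Nat.card C : ℕ) : S.residueField s))
    (P : FEt.Cat (SGA1t.compl φ : Scheme.{u})) (ρ : C →* Aut P) (hP : SGA1t.IsPrincipal C P ρ) :
    SGA1t.IsRelTame f φ P := by
  exact Groth.Agent.H15Site.TamePrincipal.main f φ C hC P ρ hP

end Groth.Agent.S3711
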