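import Groth.Statements.S3718
import Groth.Agent.H18PBC.AbCover.Isogeny
import Groth.Agent.H18PBC.SteinEt.ConstFamily
import Groth.Agent.H25Rig.GroupMaps
import Mathlib.AlgebraicGeometry.Group.Abelian

set_option autoImplicit false
universe u
open CategoryTheory MonoidalCategory CartesianMonoidalCategory MonObj GrpObj AlgebraicGeometry
open Pi1

namespace Groth.Agent.S3718

/-- The covers that compute the prime-to-p part of the fundamental group of an abelian variety: let k be
algebraically closed, A an abelian variety over k (a proper, geometrically integral group scheme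
over k) and n ≥ 1 an integer invertible in k. Granted that multiplication by n (the n-th power of
the identity in the group Hom(A, A)) is a finite etale cover of A, it is a Galois cover, and its
automorphisms over A are exactly the translations x -> x + a by the k-points a of A with n a = 0,
each such a giving exactly one automorphism. (With the domination row this identifies the maximal
prime-to-p quotient of the fundamental group with the inverse limit of the prime-to-p torsion
points.) -/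
theorem result (k : Type u) [Field k] [IsAlgClosed k]
    (A : Over (Spec (CommRingCat.of k))) [GrpObj A] [IsProper A.hom] [GeometricallyIntegral A.hom]
    (n : ℕ) (hn1 : 1 ≤ n) (hn : IsUnit ((n : ℕ) : k)) :
    ∀ [hF : IsFinite ((𝟙 A) ^ (n : ℤ)).left] [hE : Etale ((𝟙 A) ^ (n : ℤ)).left],
      PiSp.IsGaloisCover (MorphismProperty.Over.mk ⊤ ((𝟙 A) ^ (n : ℤ)).left ⟨hF, hE⟩ : FEt.Cat A.left) ∧
      (∀ θ : Aut (MorphismProperty.Over.mk ⊤ ((𝟙 A) ^ (n : ℤ)).left ⟨hF, hE⟩ : FEt.Cat A.left),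
        ∃! a : 𝟙_ (Over (Spec (CommRingCat.of k))) ⟶ A, a ^ (n : ℤ) = 1 ∧
          θ.hom.left = ((𝟙 A) * (toUnit A ≫ a)).left) ∧
      (∀ a : 𝟙_ (Over (Spec (CommRingCat.of k))) ⟶ A, a ^ (n : ℤ) = 1 →
        ∃ θ : Aut (MorphismProperty.Over.mk ⊤ ((𝟙 A) ^ (n : ℤ)).left ⟨hF, hE⟩ : FEt.Cat A.left),
          θ.hom.left = ((𝟙 A) * (toUnit A ≫ a)).left) := by
  intro hF hE
  haveI : IsIntegral A.left := GeometricallyIntegral.isIntegral_of_subsingleton A.hom
  haveI : GeometricallyIntegral (A ⊗ A).hom := H25Rig.geometricallyIntegral_tensor A A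
  haveI : IsIntegral (A ⊗ A).left := GeometricallyIntegral.isIntegral_of_subsingleton (A ⊗ A).hom
  haveI : IsCommMonObj A := isCommMonObj_of_isProper_of_isIntegral_tensorObj_of_isAlgClosed A
  haveI : Nonempty (𝟙_ (Over (Spec (CommRingCat.of k)))).left := ⟨IsLocalRing.closedPoint k⟩
  let N : A ⟶ A := (𝟙 A) ^ (n : ℤ)
  haveI : IsFinite N.left := hF
  haveI : Etale N.left := hE
  let Z : FEt.Cat A.left := MorphismProperty.Over.mk ⊤ N.left ⟨hF, hE⟩
  have hN : ∀ {T : Over (Spec (CommRingCat.of k))} (f : T ⟶ A), f ≫ N = f ^ n := fun f => by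
    simp only [N, zpow_natCast, MonObj.comp_pow, Category.comp_id]
  have hηone : (η[A] : 𝟙_ (Over (Spec (CommRingCat.of k))) ⟶ A) = 1 := MonObj.one_eq_one A
  let τ : (𝟙_ (Over (Spec (CommRingCat.of k))) ⟶ A) → (A ⟶ A) := fun a => (𝟙 A) * (toUnit A ≫ a)
  have hτcomp : ∀ {T : Over (Spec (CommRingCat.of k))} (f : T ⟶ A) a, f ≫ τ a = f * (toUnit T ≫ a) := fun f a => by
    simp only [τ, MonObj.comp_mul, Category.comp_id, comp_toUnit_assoc]
  have hτN : ∀ a : 𝟙_ (Over (Spec (CommRingCat.of k))) ⟶ A, a ^ n = 1 → τ a ≫ N = N := fun a ha => by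
    rw [hN, show N = (𝟙 A) ^ n from zpow_natCast _ _, mul_pow, ← MonObj.comp_pow, ha, MonObj.comp_one, _root_.mul_one]
  have haut : ∀ a : 𝟙_ (Over (Spec (CommRingCat.of k))) ⟶ A, a ^ n = 1 → ∃ θ : Aut Z, θ.hom.left = (τ a).left := by
    intro a ha
    have ha' : a⁻¹ ^ n = 1 := by rw [inv_pow, ha, inv_one]
    have e₁ : τ a ≫ τ a⁻¹ = 𝟙 A := by
      rw [hτcomp, _root_.mul_assoc, ← MonObj.comp_mul, mul_inv_cancel, MonObj.comp_one, _root_.mul_one]
    have e₂ : τ a⁻¹ ≫ τ a = 𝟙 A := by
      rw [hτcomp, _root_.mul_assoc, ← MonObj.comp_mul, inv_mul_cancel, MonObj.comp_one, _root_.mul_one]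
    let f : Z ⟶ Z := MorphismProperty.Over.homMk (τ a).left (congrArg CommaMorphism.left (hτN a ha)) trivial
    let g : Z ⟶ Z := MorphismProperty.Over.homMk (τ a⁻¹).left (congrArg CommaMorphism.left (hτN _ ha')) trivial
    refine ⟨⟨f, g, ?_, ?_⟩, rfl⟩
    · ext1
      exact congrArg (fun q : A ⟶ A => q.left) e₁
    · ext1
      exact congrArg (fun q : A ⟶ A => q.left) e₂
  refine ⟨⟨(inferInstance : ConnectedSpace A.left), ?_⟩, fun θ => ?_, fun a ha => ?_⟩
  · intro Ω _ _ ξ s t
    let T : Over (Spec (CommRingCat.of k)) := Over.mk (s.1 ≫ A.hom)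
    let so : T ⟶ A := Over.homMk s.1 rfl
    let tk : T ⟶ A := Over.homMk t.1 (by
      show t.1 ≫ A.hom = s.1 ≫ A.hom
      rw [← Over.w N]
      exact (Category.assoc _ _ _).symm.trans ((congrArg (· ≫ A.hom) (t.2.trans s.2.symm)).trans (Category.assoc _ _ _)))
    have hst : so ≫ N = tk ≫ N := Over.OverMorphism.ext (s.2.trans t.2.symm)
    let c : T ⟶ A := so⁻¹ * tk
    have hc : c ≫ N = toUnit T ≫ η[A] := by
      rw [hN, hηone, MonObj.comp_one, mul_pow, inv_pow, ← hN, ← hN, hst, inv_mul_cancel]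
    obtain ⟨b, hb, hcb⟩ := Groth.Agent.H18PBC.SteinEt.exists_rational_point T.hom η[A].left Z
      (𝟙 T.left) c.left ((congrArg CommaMorphism.left hc).trans (Category.id_comp _).symm)
    let a : 𝟙_ (Over (Spec (CommRingCat.of k))) ⟶ A := Over.homMk b (by
      show b ≫ A.hom = 𝟙 _
      rw [← Over.w N]
      exact (Category.assoc _ _ _).symm.trans ((congrArg (· ≫ A.hom) hb).trans (Over.w η[A])))
    have ha : a ^ n = 1 := by
      rw [← hN, ← hηone]
      exact Over.OverMorphism.ext hb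
    have hca : c = toUnit T ≫ a := Over.OverMorphism.ext (hcb.trans (Category.id_comp _))
    obtain ⟨σ, hσ⟩ := haut a ha
    refine ⟨σ, Subtype.ext ?_⟩
    show s.1 ≫ σ.hom.left = t.1
    rw [hσ]
    refine congrArg CommaMorphism.left (?_ : so ≫ τ a = tk)
    rw [hτcomp, ← hca, mul_inv_cancel_left]
  · let u : A ⟶ A := Over.homMk θ.hom.left (by
      rw [← Over.w N]
      exact (Category.assoc _ _ _).symm.trans (congrArg (· ≫ A.hom) (Over.w θ.hom.hom)))
    have huN : u ≫ N = N := Over.OverMorphism.ext (Over.w θ.hom.hom)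
    have ha : (η[A] ≫ u) ^ n = 1 := by
      rw [← hN, Category.assoc, huN, hN, hηone, one_pow]
    refine ⟨η[A] ≫ u, ⟨(zpow_natCast _ _).trans ha, congrArg CommaMorphism.left (?_ : u = τ (η[A] ≫ u))⟩, fun a' ha' => ?_⟩
    · refine Groth.Agent.H18PBC.AbCover.hom_eq_of_point N η[A] _ _ ?_ ?_
      · rw [huN, hτN _ ha]
      · rw [hτcomp, hηone, _root_.one_mul, Subsingleton.elim (toUnit (𝟙_ (Over (Spec (CommRingCat.of k))))) (𝟙 _),
          Category.id_comp]
    · have h : u = τ a' := Over.OverMorphism.ext ha'.2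
      rw [h, hτcomp, hηone, _root_.one_mul, Subsingleton.elim (toUnit (𝟙_ (Over (Spec (CommRingCat.of k))))) (𝟙 _),
        Category.id_comp]
  · exact haut a ((zpow_natCast _ _).symm.trans ha)

end Groth.Agent.S3718
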