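import Groth.Statements.S3719
-- import your own Groth.Agent.* helpers here
import Groth.Agent.H3CAlg.BigSection
import Groth.Agent.H18Et.FEtNormal
import Groth.Agent.H06Norm.Criterion


set_option autoImplicit false
universe u
open Pi1

namespace Groth.Agent.S3719

open AlgebraicGeometry CategoryTheory CategoryTheory.Limits in
/-- Let k be algebraically closed, X a proper, irreducible, normal k-scheme, g : X -> P^r_k a k-morphism
whose image has closure of dimension at least 2, H the hyperplane where a nonzero linear form ℓ
vanishes, and X' a connected finite etale cover of X. Then the inverse image of H in X' is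
connected. (For X' = X this is the connectedness of the hyperplane section Y = g⁻¹(H), and the
general case is the surjectivity of the fundamental group of Y onto that of X.) -/
theorem result (k : Type u) [Field k] [IsAlgClosed k] (X : Scheme.{u})
    [X.Over (Spec (CommRingCat.of k))] [IsProper (X ↘ Spec (CommRingCat.of k))] [IrreducibleSpace X]
    (hN : Pi1.IsNormalScheme X) (r : ℕ) (g : X ⟶ CohB1.ProjSpace r k)
    (hg : g ≫ CohB1.ProjSpace.toSpec r k = X ↘ Spec (CommRingCat.of k))
    (hdim : 2 ≤ topologicalKrullDim ↥(closure (Set.range g.base)))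
    (ℓ : MvPolynomial (Fin (r + 1)) k) (hℓ : ℓ ∈ CohB1.polyGrading r k 1) (hℓ0 : ℓ ≠ 0)
    (X' : FEt.Cat X) [ConnectedSpace X'.left] :
    IsConnected (((X'.hom ≫ g).base ⁻¹' (Proj.basicOpen (CohB1.polyGrading r k) ℓ).carrier)ᶜ) := by
  haveI : IsReduced X := Groth.Agent.H06Norm.isReduced_of_isNormalScheme hN
  haveI : IsIntegral X := isIntegral_of_irreducibleSpace_of_isReduced X
  obtain ⟨hint, -⟩ := Groth.Agent.H18Et.FEtNormal.isIntegral_and_isNormalScheme hN X'
  haveI := hint
  let q : X'.left ⟶ X := X'.hom
  haveI : IsFinite q := X'.prop.1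
  haveI : Etale q := X'.prop.2
  have hsurj : Function.Surjective q.base := by
    rw [← Set.range_eq_univ]
    exact IsClopen.eq_univ ⟨q.isClosedMap.isClosed_range, q.isOpenMap.isOpen_range⟩ (Set.range_nonempty _)
  let fk : X ⟶ Spec (CommRingCat.of k) := X ↘ Spec (CommRingCat.of k)
  have hclosed : IsClosed (Set.range g.base) := by
    haveI : IsProper (CohB1.ProjSpace.toSpec r k) := Groth.Agent.H27Weil.isProper_toSpec r k
    haveI : IsProper (g ≫ CohB1.ProjSpace.toSpec r k) := by rw [hg]; infer_instance
    haveI : IsProper g := IsProper.of_comp g (CohB1.ProjSpace.toSpec r k)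
    exact g.isClosedMap.isClosed_range
  have hr : Set.range (q ≫ g).base = Set.range g.base := hsurj.range_comp g.base
  rw [hclosed.closure_eq, ← hr] at hdim
  exact Groth.Agent.H3CAlg.BigSection.isConnected_preimage_compl (q ≫ fk) r (q ≫ g)
    (by rw [Category.assoc, hg]) hdim hℓ

end Groth.Agent.S3719
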