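import Groth.Statements.S3720
import Groth.Agent.H8Props.PrincipalGalois.Scheme

set_option autoImplicit false
open CategoryTheory CategoryTheory.Limits AlgebraicGeometry
universe u
open SGA1t

namespace Groth.Agent.S3720

/-- Kummer theory over a local ring: let A be a local ring, n ≥ 1 an integer invertible in A, and
suppose A contains a primitive n-th root of unity (so that the group μ_n(A) of n-th roots of unity
in A is cyclic of order n). Then every principal μ_n(A)-cover P of Spec A is isomorphic over Spec A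
to a Kummer cover Spec A[T]/(Tⁿ − a) for some unit a of A, compatibly with the actions: the given
action of a root of unity ζ on P corresponds to the automorphism of A[T]/(Tⁿ − a) induced by T ↦ ζT. -/
theorem result (A : Type u) [CommRing A] [IsLocalRing A] (n : ℕ) (hn1 : 1 ≤ n)
    (hn : IsUnit ((n : ℕ) : A)) (ζ₀ : A) (hζ₀ : IsPrimitiveRoot ζ₀ n)
    (P : FEt.Cat (Spec (CommRingCat.of A))) (ρ : ↥(rootsOfUnity n A) →* Aut P)
    (hP : SGA1t.IsPrincipal ↥(rootsOfUnity n A) P ρ) :
    ∃ (a : Aˣ) (e : P.left ≅ Spec (CommRingCat.of (SGA1t.kummer A (fun _ : Unit => (a : A)) (fun _ => n)))),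
      e.hom ≫ Spec.map (CommRingCat.ofHom (algebraMap A (SGA1t.kummer A (fun _ : Unit => (a : A)) (fun _ => n)))) = P.hom ∧
      ∀ ζ : ↥(rootsOfUnity n A), (ρ ζ).hom.left ≫ e.hom =
        e.hom ≫ Spec.map (CommRingCat.ofHom (SGA1t.kummerTwist A (fun _ : Unit => (a : A)) (fun _ => n) (fun _ => ζ))) := by
  obtain ⟨B, _, _, σ, e, het, hfin, hact, he, hρ⟩ := H8Props.PrincipalGalois.exists_alg A P ρ hP
  haveI := het
  haveI := hfin
  classical
  haveI : NeZero n := ⟨by omega⟩
  let c : ↥(rootsOfUnity n A) → A := fun g => ((g : Aˣ) : A)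
  have hc1 : c 1 = 1 := rfl
  have hcmul : ∀ g k, c (g * k) = c g * c k := fun _ _ => rfl
  have hcpow : ∀ g, c g ^ n = 1 := fun g => by
    rw [← Units.val_pow_eq_pow_val, (mem_rootsOfUnity n _).1 g.2, Units.val_one]
  let res := IsLocalRing.residue A
  -- roots of unity reduce injectively
  have hres : ∀ g, res (c g) = 1 → c g = 1 := fun g hg => by
    have h1 : (c g - 1) * ∑ k ∈ Finset.range n, c g ^ k = 0 := by rw [mul_geom_sum, hcpow, sub_self]
    have h2 : IsUnit (∑ k ∈ Finset.range n, c g ^ k) := IsLocalRing.residue_ne_zero_iff_isUnit _ |>.1 (by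
      rw [map_sum]; simp only [map_pow]; erw [hg]
      simp only [one_pow, Finset.sum_const, Finset.card_range, nsmul_eq_mul, mul_one]
      exact (IsLocalRing.residue_ne_zero_iff_isUnit (n : A)).2 hn ∘ (map_natCast res n).trans)
    exact sub_eq_zero.1 (h2.mul_left_eq_zero.1 h1)
  have hsub : ∀ g, g ≠ 1 → IsUnit (c g - 1) := fun g hg => by
    refine IsLocalRing.residue_ne_zero_iff_isUnit _ |>.1 fun h0 => hg ?_
    rw [map_sub, map_one, sub_eq_zero] at h0
    exact Subtype.ext (Units.ext (hres g h0))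
  let red : ↥(rootsOfUnity n A) →* ↥(rootsOfUnity n (IsLocalRing.ResidueField A)) := restrictRootsOfUnity res n
  have hred : Function.Injective red := (injective_iff_map_eq_one red).2 fun g hg => by
    refine Subtype.ext (Units.ext (hres g ?_))
    exact congrArg (fun x : ↥(rootsOfUnity n (IsLocalRing.ResidueField A)) => ((x : (IsLocalRing.ResidueField A)ˣ) : IsLocalRing.ResidueField A)) hg
  haveI : Finite ↥(rootsOfUnity n A) := Finite.of_injective red hred
  haveI := Fintype.ofFinite ↥(rootsOfUnity n A)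
  have hcard : Nat.card ↥(rootsOfUnity n A) = n := by
    refine le_antisymm ((Nat.card_le_card_of_injective red hred).trans (card_rootsOfUnity _ _)) ?_
    let z := (hζ₀.toRootsOfUnity)
    have := Nat.card_le_card_of_injective (fun i : Fin n => z ^ (i : ℕ)) fun i j hij => by
      have h := congrArg c hij
      simp only [c, SubmonoidClass.coe_pow, Units.val_pow_eq_pow_val] at h
      exact Fin.ext (hζ₀.pow_inj i.2 j.2 h)
    rwa [Nat.card_eq_fintype_card, Fintype.card_fin] at this
  have hinv : ∀ x : B, (∀ g, σ g x = x) → x ∈ Set.range (algebraMap A B) :=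
    H8Props.PrincipalGalois.mem_range_of_invariant hact
  haveI : Module.FaithfullyFlat A B := Module.FaithfullyFlat.of_comap_surjective hact.surjective
  have hσσ : ∀ g k (x : B), σ g (σ k x) = σ (g * k) x := fun g k x => (AlgHom.congr_fun (hact.mul g k) x).symm
  let r : B → B := fun y => ∑ g, algebraMap A B (c g⁻¹) * σ g y
  let r' : B → B := fun y => ∑ g, algebraMap A B (c g) * σ g y
  have hr : ∀ k y, σ k (r y) = algebraMap A B (c k) * r y := fun k y => by
    simp only [r, map_sum, map_mul, AlgHom.commutes, hσσ, Finset.mul_sum, ← mul_assoc]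
    refine Fintype.sum_equiv (Equiv.mulLeft k) _ _ fun g => ?_
    rw [Equiv.coe_mulLeft, ← map_mul, ← hcmul]
    congr 3
    simp [mul_comm, mul_left_comm]
  have hr' : ∀ k y, σ k (r' y) = algebraMap A B (c k⁻¹) * r' y := fun k y => by
    simp only [r', map_sum, map_mul, AlgHom.commutes, hσσ, Finset.mul_sum, ← mul_assoc]
    refine Fintype.sum_equiv (Equiv.mulLeft k) _ _ fun g => ?_
    rw [Equiv.coe_mulLeft, ← map_mul, ← hcmul]
    congr 3
    simp [mul_comm, mul_left_comm]
  obtain ⟨m, x, y, hxy, hxy0⟩ := H8Props.PrincipalGalois.exists_delta hact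
  have hd : ∀ F : ↥(rootsOfUnity n A) → A, F 1 = 1 → ∑ i, x i * ∑ g, algebraMap A B (F g) * σ g (y i) = 1 := fun F hF => by
    simp only [Finset.mul_sum, mul_left_comm (x _)]
    rw [Finset.sum_comm, Finset.sum_eq_single (1 : ↥(rootsOfUnity n A))
      (fun g _ hg => by rw [← Finset.mul_sum, hxy0 g hg, mul_zero]) (by simp), ← Finset.mul_sum, hF, map_one, one_mul]
    rw [hact.one]
    exact hxy
  have hprod : ∀ i j, r (y i) * r' (y j) ∈ Set.range (algebraMap A B) := fun i j => hinv _ fun k => by
    rw [map_mul, hr, hr', mul_mul_mul_comm, ← map_mul, ← hcmul, mul_inv_cancel, hc1, map_one, one_mul]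
  choose q hq using hprod
  have hexu : ∃ i j, IsUnit (q i j) := by
    by_contra hne
    push Not at hne
    have h1 : (1 : B) ∈ (IsLocalRing.maximalIdeal A).map (algebraMap A B) := by
      have : (1 : B) = ∑ i, ∑ j, x i * x j * algebraMap A B (q i j) := by
        simp only [hq]
        rw [← one_mul (1 : B)]
        nth_rewrite 1 [← hd (fun g => c g⁻¹) (by simp [hc1])]
        rw [← hd c hc1, Finset.sum_mul_sum]
        exact Finset.sum_congr rfl fun i _ => Finset.sum_congr rfl fun j _ => by ring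
      rw [this]
      exact Ideal.sum_mem _ fun i _ => Ideal.sum_mem _ fun j _ =>
        Ideal.mul_mem_left _ _ (Ideal.mem_map_of_mem _ ((IsLocalRing.mem_maximalIdeal _).2 (hne i j)))
    have h2 : (1 : A) ∈ IsLocalRing.maximalIdeal A := by
      rw [← Ideal.comap_map_eq_self_of_faithfullyFlat (B := B) (IsLocalRing.maximalIdeal A), Ideal.mem_comap, map_one]
      exact h1
    exact (IsLocalRing.mem_maximalIdeal _).1 h2 isUnit_one
  obtain ⟨i₀, j₀, hu⟩ := hexu
  let θ : B := r (y i₀)
  have hθu : IsUnit θ := isUnit_of_mul_isUnit_left ((hq i₀ j₀) ▸ hu.map (algebraMap A B))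
  have hθ : ∀ g, σ g θ = algebraMap A B (c g) * θ := fun g => hr g _
  obtain ⟨θu, hθu'⟩ := hθu
  let θ' : B := ↑θu⁻¹
  have hθ' : θ * θ' = 1 := by rw [← hθu']; exact θu.mul_inv
  have hθ'σ : ∀ g, σ g θ' = algebraMap A B (c g⁻¹) * θ' := fun g => by
    have h1 : σ g θ * σ g θ' = 1 := by rw [← map_mul, hθ', map_one]
    calc σ g θ' = algebraMap A B (c g⁻¹ * c g) * (θ * θ') * σ g θ' := by
          rw [hθ', ← hcmul, inv_mul_cancel, hc1, map_one, one_mul, one_mul]
      _ = algebraMap A B (c g⁻¹) * θ' * (σ g θ * σ g θ') := by rw [hθ, map_mul]; ring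
      _ = _ := by rw [h1, mul_one]
  obtain ⟨a₀, ha₀⟩ := hinv (θ ^ n) fun g => by rw [map_pow, hθ, mul_pow, ← map_pow, hcpow, map_one, one_mul]
  obtain ⟨b₀, hb₀⟩ := hinv (θ' ^ n) fun g => by rw [map_pow, hθ'σ, mul_pow, ← map_pow, hcpow, map_one, one_mul]
  have hab : a₀ * b₀ = 1 := FaithfulSMul.algebraMap_injective A B (by
    rw [map_mul, ha₀, hb₀, ← mul_pow, hθ', one_pow, map_one])
  let a : Aˣ := ⟨a₀, b₀, hab, by rw [mul_comm, hab]⟩
  let K := SGA1t.kummer A (fun _ : Unit => (a : A)) (fun _ => n)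
  let f : K →ₐ[A] B := Ideal.Quotient.liftₐ _ (MvPolynomial.aeval fun _ => θ) fun g hg => by
    have hle : Ideal.span (Set.range fun i : Unit => (MvPolynomial.X i : MvPolynomial Unit A) ^ n - MvPolynomial.C (a : A)) ≤
        RingHom.ker (MvPolynomial.aeval fun _ : Unit => θ) := by
      rw [Ideal.span_le]
      rintro _ ⟨i, rfl⟩
      simp [RingHom.mem_ker, a, ha₀]
    exact hle hg
  let T : K := Ideal.Quotient.mk _ (MvPolynomial.X ())
  have hfT : f T = θ := MvPolynomial.aeval_X (fun _ : Unit => θ) ()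
  obtain ⟨nu, hnu⟩ := hn
  let ν : B := algebraMap A B ↑nu⁻¹
  have hsurj : Function.Surjective f := fun z => by
    have hco : ∀ k, ν * ∑ g, σ g (z * θ' ^ k) ∈ Set.range (algebraMap A B) := fun k => hinv _ fun h => by
      rw [map_mul, AlgHom.commutes, map_sum]
      congr 1
      exact Fintype.sum_equiv (Equiv.mulLeft h) _ _ fun g => hσσ h g _
    choose co hco using hco
    refine ⟨∑ k ∈ Finset.range n, algebraMap A K (co k) * T ^ k, ?_⟩
    simp only [map_sum, map_mul, map_pow, AlgHom.commutes, hfT, hco, hθ'σ, mul_assoc, Finset.sum_mul, ← Finset.mul_sum]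
    rw [Finset.sum_comm]
    have hterm : ∀ g, ∑ k ∈ Finset.range n, σ g z * ((algebraMap A B (c g⁻¹) * θ') ^ k * θ ^ k) =
        σ g z * algebraMap A B (∑ k ∈ Finset.range n, c g⁻¹ ^ k) := fun g => by
      rw [← Finset.mul_sum, map_sum]
      congr 1
      refine Finset.sum_congr rfl fun k _ => ?_
      rw [← mul_pow, mul_assoc, mul_comm θ' θ, hθ', mul_one, map_pow]
    simp only [hterm]
    rw [Finset.sum_eq_single (1 : ↥(rootsOfUnity n A))]
    · simp only [inv_one, hc1, one_pow, Finset.sum_const, Finset.card_range, nsmul_eq_mul, mul_one, hact.one,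
        AlgHom.id_apply, ν]
      rw [mul_left_comm, ← map_mul, show (↑nu⁻¹ : A) * (n : A) = 1 by rw [← hnu]; exact nu.inv_mul, map_one, mul_one]
    · intro g _ hg
      have h1 : (c g⁻¹ - 1) * ∑ k ∈ Finset.range n, c g⁻¹ ^ k = 0 := by rw [mul_geom_sum, hcpow, sub_self]
      rw [(hsub g⁻¹ (inv_ne_one.2 hg)).mul_right_eq_zero.1 h1, map_zero, mul_zero]
    · simp
  let F : Polynomial A := Polynomial.X ^ n - Polynomial.C (a : A)
  have hF : F.Monic := Polynomial.monic_X_pow_sub_C _ (by omega)
  let eK : K ≃ₐ[A] Polynomial A ⧸ Ideal.span {F} := Ideal.quotientEquivAlg _ _ (MvPolynomial.pUnitAlgEquiv A) (by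
    rw [Set.range_unique, Ideal.map_span, Set.image_singleton]
    congr 1
    simp [F])
  haveI := hF.free_quotient
  haveI := hF.finite_quotient
  haveI : Module.Free A K := Module.Free.of_equiv eK.symm.toLinearEquiv
  haveI : Module.Finite A K := Module.Finite.equiv eK.symm.toLinearEquiv
  have hbij : Function.Bijective f := H8Props.PrincipalGalois.bijective_of_surjective hact (by
    rw [eK.toLinearEquiv.finrank_eq, finrank_quotient_span_eq_natDegree' hF, Polynomial.natDegree_X_pow_sub_C, hcard]) f hsurj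
  let f' := (RingEquiv.ofBijective f hbij).toCommRingCatIso
  refine ⟨a, e ≪≫ Scheme.Spec.mapIso f'.op, ?_, fun g => ?_⟩
  · rw [Iso.trans_hom, Category.assoc, ← he]
    congr 1
    show Spec.map f'.hom ≫ Spec.map _ = _
    rw [← Spec.map_comp]
    exact congrArg Spec.map (CommRingCat.hom_ext (RingHom.ext fun r => f.commutes r))
  · rw [Iso.trans_hom, ← Category.assoc, hρ, Category.assoc, Category.assoc]
    congr 1
    show _ ≫ Spec.map f'.hom = Spec.map f'.hom ≫ _
    rw [← Spec.map_comp, ← Spec.map_comp]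
    refine congrArg Spec.map (CommRingCat.hom_ext (Ideal.Quotient.ringHom_ext (MvPolynomial.ringHom_ext (fun r => ?_) fun i => ?_)))
    · show σ g (f (algebraMap A K r)) = f (SGA1t.kummerTwist A (fun _ : Unit => (a : A)) (fun _ => n) (fun _ => g) (algebraMap A K r))
      have : SGA1t.kummerTwist A (fun _ : Unit => (a : A)) (fun _ => n) (fun _ => g) (algebraMap A K r) = algebraMap A K r :=
        congrArg (Ideal.Quotient.mk _) (MvPolynomial.aeval_C _ r)
      rw [this, AlgHom.commutes, AlgHom.commutes]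
    · show σ g (f T) = f (SGA1t.kummerTwist A (fun _ : Unit => (a : A)) (fun _ => n) (fun _ => g) T)
      rw [hfT, hθ, show SGA1t.kummerTwist A (fun _ : Unit => (a : A)) (fun _ => n) (fun _ => g) T = algebraMap A K (c g) * T from
        (congrArg (Ideal.Quotient.mk _) (MvPolynomial.aeval_X _ _)).trans (map_mul _ _ _), map_mul, AlgHom.commutes, hfT]

end Groth.Agent.S3720
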