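import Groth.Statements.S3721
import Groth.Agent.H8Props.PrincipalGalois.Scheme

set_option autoImplicit false
open CategoryTheory CategoryTheory.Limits AlgebraicGeometry
universe u
open SGA1t

namespace Groth.Agent.S3721

/-- Let p be a prime and A a commutative ring of characteristic p. Then every principal ℤ/p-cover P of
Spec A (a finite étale cover with an action of ℤ/p making it a torsor) is isomorphic over Spec A to
an Artin–Schreier cover Spec A[T]/(T^p − T − a) for some a ∈ A, compatibly with the actions: under
the isomorphism the given action of j ∈ ℤ/p on P corresponds to the automorphism of the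
Artin–Schreier cover induced by T ↦ T + j. The published statement is for any base S of
characteristic p on which Frobenius fixes no nonzero element of H¹(S, O_S); it is stated here for S
= Spec A affine. -/
theorem result (A : Type u) [CommRing A] (p : ℕ) [Fact p.Prime] [CharP A p]
    (P : FEt.Cat (Spec (CommRingCat.of A))) (ρ : Multiplicative (ZMod p) →* Aut P)
    (hP : SGA1t.IsPrincipal (Multiplicative (ZMod p)) P ρ) :
    ∃ (a : A) (e : P.left ≅ Spec (CommRingCat.of (SGA1t.artinSchreier A p a))),
      e.hom ≫ Spec.map (CommRingCat.ofHom (algebraMap A (SGA1t.artinSchreier A p a))) = P.hom ∧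
      ∀ j : ZMod p, (ρ (Multiplicative.ofAdd j)).hom.left ≫ e.hom =
        e.hom ≫ Spec.map (CommRingCat.ofHom (SGA1t.artinSchreierShift A p a j)) := by
  obtain ⟨B, _, _, σ', e, het, hfin, hact, he, hρ⟩ := H8Props.PrincipalGalois.exists_alg A P ρ hP
  haveI := het
  haveI := hfin
  classical
  let σ : ZMod p → B →ₐ[A] B := fun j => σ' (Multiplicative.ofAdd j)
  have hσadd : ∀ j k (b : B), σ k (σ j b) = σ (k + j) b := fun j k b =>
    ((AlgHom.congr_fun (hact.mul (Multiplicative.ofAdd k) (Multiplicative.ofAdd j)) b)).symm
  let eq : ZMod p ≃ Multiplicative (ZMod p) := Multiplicative.ofAdd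
  have hσ0 : ∀ b : B, σ 0 b = b := fun b => AlgHom.congr_fun hact.one b
  obtain ⟨b, hb⟩ := H8Props.PrincipalGalois.exists_sum_eq_one hact
  have hb' : ∑ j : ZMod p, σ j b = 1 := (Fintype.sum_equiv eq _ _ fun _ => rfl).trans hb
  let c : ZMod p →+* A := ZMod.castHom (dvd_refl p) A
  let θ : B := -∑ j, algebraMap A B (c j) * σ j b
  have hθ : ∀ k, σ k θ = θ + algebraMap A B (c k) := fun k => by
    have h1 : ∑ j, algebraMap A B (c j) * σ k (σ j b) = ∑ j, algebraMap A B (c (j - k)) * σ j b := by
      refine Fintype.sum_equiv (Equiv.addLeft k) _ _ fun j => ?_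
      rw [Equiv.coe_addLeft, add_sub_cancel_left, hσadd]
    simp only [θ, map_neg, map_sum, map_mul, AlgHom.commutes]
    rw [h1]
    simp only [map_sub, sub_mul, Finset.sum_sub_distrib, ← Finset.mul_sum, hb', mul_one]
    ring
  have hinv : ∀ x : B, (∀ j, σ j x = x) → x ∈ Set.range (algebraMap A B) := fun x hx =>
    H8Props.PrincipalGalois.mem_range_of_invariant hact x fun g => by
      obtain ⟨j, rfl⟩ := eq.surjective g
      exact hx j
  obtain ⟨a, ha⟩ := hinv (θ ^ p - θ) fun j => by
    haveI : CharP B p ∨ Subsingleton B := (subsingleton_or_nontrivial B).symm.imp_left fun hnt => by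
      haveI := hnt
      refine ⟨fun n => ⟨fun h => ?_, fun h => ?_⟩⟩
      · exact (ZMod.natCast_eq_zero_iff n p).1 (((algebraMap A B).comp c).injective (by rw [map_natCast, map_zero, h]))
      · rw [← map_natCast (algebraMap A B), (CharP.cast_eq_zero_iff A p n).2 h, map_zero]
    rcases this with hB | hB
    · rw [map_sub, map_pow, hθ, add_pow_char, ← map_pow, ← map_pow, ZMod.pow_card]
      ring
    · exact Subsingleton.elim _ _
  let Fp : Polynomial A := Polynomial.X ^ p - Polynomial.X - Polynomial.C a
  let f : SGA1t.artinSchreier A p a →ₐ[A] B := Ideal.Quotient.liftₐ _ (Polynomial.aeval θ) fun g hg => by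
    obtain ⟨d, rfl⟩ := Ideal.mem_span_singleton.1 hg
    simp [ha]
  have hfX : f (Ideal.Quotient.mk _ Polynomial.X) = θ := Polynomial.aeval_X θ
  have hsurj : Function.Surjective f := fun x => by
    let F : Polynomial B := ∑ j : ZMod p, Polynomial.C (σ j x) *
      (1 - (Polynomial.X - Polynomial.C (θ + algebraMap A B (c j))) ^ (p - 1))
    have hF : ∀ k, F.map (σ k).toRingHom = F := fun k => by
      simp only [F, Polynomial.map_sum, Polynomial.map_mul, Polynomial.map_sub, Polynomial.map_one,
        Polynomial.map_pow, Polynomial.map_X, Polynomial.map_C]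
      refine Fintype.sum_equiv (Equiv.addLeft k) _ _ fun j => ?_
      simp only [AlgHom.toRingHom_eq_coe, RingHom.coe_coe, Equiv.coe_addLeft, hσadd, map_add, hθ, AlgHom.commutes,
        add_assoc]
    have hmem : F ∈ Polynomial.lifts (algebraMap A B) := (Polynomial.lifts_iff_coeff_lifts F).2 fun n =>
      hinv _ fun k => by conv_rhs => rw [← hF k]
                         rw [Polynomial.coeff_map]; rfl
    obtain ⟨F0, hF0⟩ := (Polynomial.mem_lifts F).1 hmem
    refine ⟨Ideal.Quotient.mk _ F0, ?_⟩
    show Polynomial.aeval θ F0 = x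
    rw [Polynomial.aeval_def, ← Polynomial.eval_map, hF0]
    simp only [F, Polynomial.eval_finsetSum, Polynomial.eval_mul, Polynomial.eval_C, Polynomial.eval_sub,
      Polynomial.eval_one, Polynomial.eval_pow, Polynomial.eval_X]
    rw [Finset.sum_eq_single (0 : ZMod p)]
    · have : p - 1 ≠ 0 := by have := (Fact.out : p.Prime).two_le; omega
      simp [hσ0, zero_pow this]
    · intro j _ hj
      rw [sub_add_cancel_left, ← map_neg, ← map_neg, ← map_pow, ← map_pow,
        ZMod.pow_card_sub_one_eq_one (neg_ne_zero.2 hj)]
      simp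
    · simp
  have hFp : Fp.Monic := by
    have h2 := (Fact.out : p.Prime).two_le
    rw [show Fp = Polynomial.X ^ p - (Polynomial.X + Polynomial.C a) from sub_sub _ _ _]
    exact Polynomial.monic_X_pow_sub (lt_of_le_of_lt (Polynomial.degree_add_le _ _) (by
      rw [max_lt_iff]
      exact ⟨lt_of_le_of_lt Polynomial.degree_X_le (by exact_mod_cast h2),
        lt_of_le_of_lt Polynomial.degree_C_le (by exact_mod_cast (show 0 < p by omega))⟩))
  haveI : Module.Free A (SGA1t.artinSchreier A p a) := hFp.free_quotient
  haveI : Module.Finite A (SGA1t.artinSchreier A p a) := hFp.finite_quotient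
  have hbij : Function.Bijective f := by
    rcases subsingleton_or_nontrivial A with hA | hA
    · haveI := Module.subsingleton A B
      haveI := Module.subsingleton A (SGA1t.artinSchreier A p a)
      exact ⟨fun _ _ _ => Subsingleton.elim _ _, hsurj⟩
    refine H8Props.PrincipalGalois.bijective_of_surjective hact ?_ f hsurj
    rw [finrank_quotient_span_eq_natDegree' hFp, ← Nat.card_congr eq, Nat.card_zmod]
    have h2 := (Fact.out : p.Prime).two_le
    rw [show Fp = Polynomial.X ^ p - (Polynomial.X + Polynomial.C a) from sub_sub _ _ _,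
      Polynomial.natDegree_sub_eq_left_of_natDegree_lt] <;> simp <;> omega
  let f' := (RingEquiv.ofBijective f hbij).toCommRingCatIso
  refine ⟨a, e ≪≫ Scheme.Spec.mapIso f'.op, ?_, fun j => ?_⟩
  · rw [Iso.trans_hom, Category.assoc, ← he]
    congr 1
    show Spec.map f'.hom ≫ Spec.map _ = _
    rw [← Spec.map_comp]
    exact congrArg Spec.map (CommRingCat.hom_ext (RingHom.ext fun r => f.commutes r))
  · rw [Iso.trans_hom, ← Category.assoc, hρ, Category.assoc, Category.assoc]
    congr 1
    show _ ≫ Spec.map f'.hom = Spec.map f'.hom ≫ _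
    rw [← Spec.map_comp, ← Spec.map_comp]
    refine congrArg Spec.map (CommRingCat.hom_ext (Ideal.Quotient.ringHom_ext (Polynomial.ringHom_ext (fun r => ?_) ?_)))
    · show σ j (f (algebraMap A _ r)) = f (SGA1t.artinSchreierShift A p a j (algebraMap A _ r))
      rw [AlgHom.commutes, AlgHom.commutes]
      have : SGA1t.artinSchreierShift A p a j (algebraMap A _ r) = algebraMap A _ r :=
        congrArg (Ideal.Quotient.mk _) (Polynomial.aeval_C _ r)
      rw [this, AlgHom.commutes]
    · show σ j (f (Ideal.Quotient.mk _ Polynomial.X)) = f (SGA1t.artinSchreierShift A p a j (Ideal.Quotient.mk _ Polynomial.X))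
      rw [hfX, hθ, show SGA1t.artinSchreierShift A p a j (Ideal.Quotient.mk _ Polynomial.X) =
        Ideal.Quotient.mk _ Polynomial.X + algebraMap A _ (c j) from
          (congrArg (Ideal.Quotient.mk _) (Polynomial.aeval_X _)).trans (map_add _ _ _), map_add, hfX, AlgHom.commutes]

end Groth.Agent.S3721
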