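import Groth.Statements.S3731
import Groth.Agent.H16Derived.DTrunc

set_option autoImplicit false
universe u v
open CategoryTheory CategoryTheory.Limits
attribute [local instance] HasDerivedCategory.standard
open EtDl

namespace Groth.Agent.S3731

open CategoryTheory.Pretriangulated DerivedCategory DerivedCategory.TStructure Groth.Agent.H16Derived.DTrunc

/-- Let A be an abelian category, k ≥ 0, and K_0 -> K_1 -> ... -> K_{2k} a chain of 2k morphisms in the
derived category of A such that every K_i has H^p(K_i) = 0 for p outside [0, k] and every morphism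
K_i -> K_{i+1} induces the zero map on H^p for all p < k. Let π : K_0 -> H^k(K_0)[-k] be the
morphism to the top cohomology object placed in degree k that induces the identity on H^k. Then the
composite K_0 -> K_{2k} factors through π. -/
theorem result {A : Type u} [Category.{v} A] [Abelian A] (k : ℕ)
    (K : ComposableArrows (DerivedCategory A) (2 * k))
    (hK : ∀ (i : ℕ) (hi : i ≤ 2 * k) (p : ℤ), p < 0 ∨ (k : ℤ) < p →
      IsZero ((DerivedCategory.homologyFunctor A p).obj (K.obj' i)))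
    (hf : ∀ (i : ℕ) (hi : i < 2 * k) (p : ℤ), p < (k : ℤ) →
      (DerivedCategory.homologyFunctor A p).map (K.map' i (i + 1)) = 0)
    (π : K.obj' 0 ⟶ (DerivedCategory.singleFunctor A (k : ℤ)).obj
      ((DerivedCategory.homologyFunctor A (k : ℤ)).obj (K.obj' 0)))
    (hπ : (DerivedCategory.homologyFunctor A (k : ℤ)).map π ≫
      (DerivedCategory.singleFunctorCompHomologyFunctorIso A (k : ℤ)).hom.app
        ((DerivedCategory.homologyFunctor A (k : ℤ)).obj (K.obj' 0)) = 𝟙 _) :
    ∃ φ : (DerivedCategory.singleFunctor A (k : ℤ)).obj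
        ((DerivedCategory.homologyFunctor A (k : ℤ)).obj (K.obj' 0)) ⟶ K.obj' (2 * k),
      K.map' 0 (2 * k) = π ≫ φ := by
    have : (K.obj' 0).IsGE 0 := (isGE_iff _ _).2 fun i hi => hK 0 (by omega) i (Or.inl hi)
    have : (K.obj' 0).IsLE (k : ℤ) := (isLE_iff _ _).2 fun i hi => hK 0 (by omega) i (Or.inr hi)
    have chain : ∀ j : ℕ, ∀ hj : j ≤ k,
        ∃ ψ : (t.truncLT (k : ℤ)).obj (K.obj' 0) ⟶ (t.truncLT ((k : ℤ) - j)).obj (K.obj' j (by omega)),
        ψ ≫ (t.truncLTι _).app _ = (t.truncLTι (k : ℤ)).app _ ≫ K.map' 0 j (by omega) (by omega) := by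
      intro j hj
      induction j with
      | zero =>
        have : DerivedCategory.IsLE ((t.truncLT (k : ℤ)).obj (K.obj' 0)) ((k : ℤ) - 1) :=
          t.isLE_truncLT_obj _ _ _ (by lia)
        exact ⟨t.liftTruncLT ((t.truncLTι (k : ℤ)).app _ ≫ K.map' 0 0) ((k : ℤ) - 1) _ (by simp),
          t.liftTruncLT_ι _ _ _ _⟩
      | succ j ih =>
        obtain ⟨φ, hφ⟩ := ih (by omega)
        have : DerivedCategory.IsLE ((t.truncLT ((k : ℤ) - j)).obj (K.obj' j (by omega))) ((k : ℤ) - j - 1) :=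
          t.isLE_truncLT_obj _ _ _ (by lia)
        obtain ⟨ψ, hψ⟩ := exists_factor_truncLT
          ((t.truncLTι ((k : ℤ) - j)).app _ ≫ K.map' j (j + 1) (by omega) (by omega)) ((k : ℤ) - j - 1) (by
            rw [Functor.map_comp, hf j (by omega) _ (by omega), comp_zero])
        rw [show (k : ℤ) - ((j + 1 : ℕ) : ℤ) = (k : ℤ) - j - 1 by omega]
        refine ⟨φ ≫ ψ, ?_⟩
        rw [Category.assoc, hψ, reassoc_of% hφ, ← K.map'_comp 0 j (j + 1)]
    obtain ⟨ψ, hψ⟩ := chain k le_rfl
    have hz : IsZero ((t.truncLT ((k : ℤ) - k)).obj (K.obj' k (by omega))) := by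
      have : (K.obj' k (by omega)).IsGE 0 := (isGE_iff _ _).2 fun i hi => hK k (by omega) i (Or.inl hi)
      rw [sub_self]
      have h1 : DerivedCategory.IsGE ((t.truncLT (0 : ℤ)).obj (K.obj' k (by omega))) 0 := isGE_truncLT _ 0 0
      have h2 : t.IsLE ((t.truncLT (0 : ℤ)).obj (K.obj' k (by omega))) (-1) := t.isLE_truncLT_obj _ _ _ (by lia)
      have h3 : t.IsGE ((t.truncLT (0 : ℤ)).obj (K.obj' k (by omega))) 0 := h1
      rw [IsZero.iff_id_eq_zero]
      exact t.zero_of_isLE_of_isGE _ (-1) 0 (by lia) h2 h3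
    have h0 : (t.truncLTι (k : ℤ)).app (K.obj' 0) ≫ K.map' 0 (2 * k) = 0 := by
      rw [K.map'_comp 0 k (2 * k) (by omega) (by omega) (by omega), ← reassoc_of% hψ, hz.eq_of_tgt ψ 0,
        zero_comp]
    obtain ⟨a, ha⟩ := Triangle.yoneda_exact₂ _ (t.triangleLTGE_distinguished (k : ℤ) _) (K.map' 0 (2 * k)) h0
    obtain ⟨π', hπ'⟩ : ∃ π', (t.truncGEπ (k : ℤ)).app (K.obj' 0) ≫ π' = π :=
      ⟨t.descTruncGE π _, t.π_descTruncGE π _⟩
    have : DerivedCategory.IsLE ((t.truncGE (k : ℤ)).obj (K.obj' 0)) k := isLE_truncGE _ _ _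
    have : DerivedCategory.IsGE ((t.truncGE (k : ℤ)).obj (K.obj' 0)) k := inferInstanceAs (t.IsGE _ (k : ℤ))
    have : IsIso π' := by
      rw [DerivedCategory.isIso_iff]
      intro i
      have hzero : i ≠ (k : ℤ) → IsIso ((homologyFunctor A i).map π') := fun hne => by
        rcases lt_or_gt_of_ne hne with h | h
        · exact ⟨0, (DerivedCategory.isZero_of_isGE _ (k : ℤ) i h).eq_of_src _ _,
            (DerivedCategory.isZero_of_isGE _ (k : ℤ) i h).eq_of_src _ _⟩
        · exact ⟨0, (DerivedCategory.isZero_of_isLE _ (k : ℤ) i h).eq_of_src _ _,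
            (DerivedCategory.isZero_of_isLE _ (k : ℤ) i h).eq_of_src _ _⟩
      rcases eq_or_ne i (k : ℤ) with rfl | h
      · have := isIso_homology_truncGEπ (K.obj' 0) (k : ℤ) k le_rfl
        have hq : IsIso ((homologyFunctor A (k : ℤ)).map π) := IsIso.of_isIso_fac_right hπ
        rw [← hπ', Functor.map_comp] at hq
        exact IsIso.of_isIso_comp_left ((homologyFunctor A (k : ℤ)).map ((t.truncGEπ (k : ℤ)).app _)) _
      · exact hzero h
    refine ⟨inv π' ≫ a, ?_⟩
    rw [← hπ', Category.assoc, IsIso.hom_inv_id_assoc]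
    exact ha

end Groth.Agent.S3731
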