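import Groth.Statements.S3743
import Mathlib
import Groth.Agent.H22Alg.KAmple

set_option autoImplicit false
universe v u
open CategoryTheory CategoryTheory.Limits AlgebraicGeometry
attribute [local instance] HasDerivedCategory.standard
open KRR

namespace Groth.Agent.S3743

/-- Let X be a connected Noetherian scheme and (K, P, φ) a model of the λ-ring K(X) of finite locally
free modules with its positive structure (classes of bundles, augmentation = rank). If L is an ample
invertible O_X-module, then u = [L] is an ample line element of K(X): u is a line element and for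
every x ∈ K(X) and all sufficiently large n, u^n x is a positive element minus a natural number. -/
theorem result (X : Scheme.{u}) [IsNoetherian X] [ConnectedSpace ↥X]
    (K : Type v) [CommRing K] [LambdaRing.LambdaOps K] (P : LambdaRing.PosStructure K) (φ : SGA6.Kvb X →+ K) (hK : KRR.IsModel X K P φ)
    (L : X.Modules) (hL : CohB1.IsAmple L) :
    KRR.IsAmpleElt P (φ (KRR.cl X L)) := by
  refine ⟨⟨by simpa using H22Alg.KModel.pow_line_pos hK hL.1 1, H22Alg.KModel.aug_line hK hL.1⟩, fun x => ?_⟩
  obtain ⟨e, f, he, hf, rfl⟩ := P.exists_sub x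
  obtain ⟨n₀, hn₀⟩ := H22Alg.KModel.exists_compl hL hK hf
  refine ⟨n₀, fun n hn => ?_⟩
  obtain ⟨y, N, hy, h⟩ := hn₀ n hn
  refine ⟨e * φ (KRR.cl X L) ^ n + y, N, P.add_mem _ _ (P.mul_mem _ _ he (H22Alg.KModel.pow_line_pos hK hL.1 n)) hy, ?_⟩
  rw [← h]; ring

end Groth.Agent.S3743
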