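import Groth.Statements.S3747
import Groth.Agent.H22Alg.KClOps
import Mathlib

set_option autoImplicit false
universe v u
open CategoryTheory CategoryTheory.Limits AlgebraicGeometry
attribute [local instance] HasDerivedCategory.standard
open KRR

namespace Groth.Agent.S3747

/-- Let f : X ⟶ Y be a regular closed imbedding of connected Noetherian schemes, where on Y every
coherent module is a quotient of a finite locally free one. Let (KX, PX, φX), (KY, PY, φY) be models
of the λ-rings K(X), K(Y); let g : K(Y) ⟶ K(X) be the pull-back f^K ([E] ↦ [f^*E]) and h : K(X) ⟶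
K(Y) the push-forward f_K ([F] ↦ alternating sum of the terms of a finite locally free resolution of
f_*F). Then h (x · g y) = h x · y for all x, y. -/
theorem result {X Y : Scheme.{u}} (f : X ⟶ Y) (hf : Mor2.IsRegularClosedImmersion f)
    [IsNoetherian X] [ConnectedSpace ↥X] [IsNoetherian Y] [ConnectedSpace ↥Y] (hYe : KRR.HasEnoughLocFree Y)
    (KX : Type v) [CommRing KX] [LambdaRing.LambdaOps KX] (PX : LambdaRing.PosStructure KX) (φX : SGA6.Kvb X →+ KX) (hKX : KRR.IsModel X KX PX φX)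
    (KY : Type v) [CommRing KY] [LambdaRing.LambdaOps KY] (PY : LambdaRing.PosStructure KY) (φY : SGA6.Kvb Y →+ KY) (hKY : KRR.IsModel Y KY PY φY)
    (g : KY →+ KX) (hg : KRR.IsPull f φY φX g) (h : KX →+ KY) (hh : KRR.IsPushCl f φX φY h)
    (x : KX) (y : KY) : h (x * g y) = h x * y := by
  haveI := hf.1
  have hc := Groth.Agent.H22Alg.KClOps.ctxφ hYe φY
  obtain ⟨x₀, rfl⟩ := hKX.bijective.2 x
  obtain ⟨y₀, rfl⟩ := hKY.bijective.2 y
  have key : ∀ E : Y.Modules, FlatMod.IsFinLocFree E →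
      h.comp ((AddMonoidHom.mulRight (g (φY (KRR.cl Y E)))).comp φX) =
        (AddMonoidHom.mulRight (φY (KRR.cl Y E))).comp (h.comp φX) := fun E hE => by
    refine Groth.Agent.H22Alg.KModel.kvb_ext fun F hF => ?_
    have hN := Groth.Agent.H16Derived.KFlat.Stalk.isFinLocFree_pullback f hE
    obtain ⟨h1, h2, h3⟩ := Groth.Agent.H22Alg.KClOps.TR_data hE
    obtain ⟨n, L, π, hL⟩ : KRR.HasLFRes ((Scheme.Modules.pushforward f).obj F) := by
      obtain ⟨n, a, ha⟩ := Groth.Agent.H22Alg.KPushCl.exists_val_push f hYe hf hF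
      exact Groth.Agent.H22Alg.KLFRes.hasLFRes_of_val ha
    have hv := Groth.Agent.H22Alg.KLFRes.val_of_isLFRes hc hL (Groth.Agent.H22Alg.KPushCl.isCoh_push f hF)
    have hv' := Groth.Agent.H22Alg.KClOps.val_map (Groth.Agent.H10Coh.PF.TR E) h1 h2 h3
      (AddMonoidHom.mulRight (φY (KRR.cl Y E))) (c' := fun M => φY (KRR.cl Y M))
      (fun E' hE' => (hKY.map_mul E' E hE' hE).symm) hc _ _ _ hv
    have := Groth.Agent.H10Coh.PF.isIso_ψ_of_isFinLocFree f hE F
    have hv'' := Groth.Agent.H22Alg.ResEuler.val_iso hc (asIso (Groth.Agent.H16Derived.ProjFormula.ψ f F E)) hv'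
    simp only [AddMonoidHom.comp_apply, AddMonoidHom.mulRight_apply, hg E hE]
    rw [hKX.map_mul F _ hF hN, Groth.Agent.H22Alg.KClOps.pushCl_val hYe hh hF hv]
    exact Groth.Agent.H22Alg.KClOps.pushCl_val hYe hh
      (Groth.Agent.H16Derived.KFlat.Stalk.isFinLocFree_tensor hF hN) hv''
  have key2 : h.comp ((AddMonoidHom.mulLeft (φX x₀)).comp (g.comp φY)) =
      (AddMonoidHom.mulLeft (h (φX x₀))).comp φY :=
    Groth.Agent.H22Alg.KModel.kvb_ext fun E hE => DFunLike.congr_fun (key E hE) x₀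
  exact DFunLike.congr_fun key2 y₀

end Groth.Agent.S3747
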