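import Groth.Statements.S3748
import Groth.Agent.H22Alg.KClOps
import Mathlib

set_option autoImplicit false
universe v u
open CategoryTheory CategoryTheory.Limits AlgebraicGeometry
attribute [local instance] HasDerivedCategory.standard
open KRR

namespace Groth.Agent.S3748

/-- Let f : X ⟶ Y and g : Y ⟶ Z be regular closed imbeddings of connected Noetherian schemes, where on Y
and on Z every coherent module is a quotient of a finite locally free one. With models of K(X),
K(Y), K(Z) and push-forwards a = f_K, b = g_K, c = (f ≫ g)_K (each defined through finite locally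
free resolutions of direct images of bundles), one has c = b ∘ a. -/
theorem result {X Y Z : Scheme.{u}} (f : X ⟶ Y) (g : Y ⟶ Z)
    (hf : Mor2.IsRegularClosedImmersion f) (hg : Mor2.IsRegularClosedImmersion g)
    [IsNoetherian X] [ConnectedSpace ↥X] [IsNoetherian Y] [ConnectedSpace ↥Y] (hYe : KRR.HasEnoughLocFree Y) [IsNoetherian Z] [ConnectedSpace ↥Z] (hZe : KRR.HasEnoughLocFree Z)
    (KX : Type v) [CommRing KX] [LambdaRing.LambdaOps KX] (PX : LambdaRing.PosStructure KX) (φX : SGA6.Kvb X →+ KX) (hKX : KRR.IsModel X KX PX φX)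
    (KY : Type v) [CommRing KY] [LambdaRing.LambdaOps KY] (PY : LambdaRing.PosStructure KY) (φY : SGA6.Kvb Y →+ KY) (hKY : KRR.IsModel Y KY PY φY)
    (KZ : Type v) [CommRing KZ] [LambdaRing.LambdaOps KZ] (PZ : LambdaRing.PosStructure KZ) (φZ : SGA6.Kvb Z →+ KZ) (hKZ : KRR.IsModel Z KZ PZ φZ)
    (a : KX →+ KY) (ha : KRR.IsPushCl f φX φY a) (b : KY →+ KZ) (hb : KRR.IsPushCl g φY φZ b)
    (c : KX →+ KZ) (hc : KRR.IsPushCl (f ≫ g) φX φZ c) : c = b.comp a := by
  haveI := hf.1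
  haveI := hg.1
  refine AddMonoidHom.ext fun x => ?_
  obtain ⟨x₀, rfl⟩ := hKX.bijective.2 x
  obtain ⟨b₀, hb₀⟩ := Groth.Agent.H22Alg.KPushCl.exists_pushCl g hZe hg
  let cY := Groth.Agent.H22Alg.KLFRes.ctxK hYe
  let cZ := Groth.Agent.H22Alg.KLFRes.ctxK hZe
  have hbφ : b.comp φY = φZ.comp b₀ := by
    refine Groth.Agent.H22Alg.KModel.kvb_ext fun F hF => ?_
    obtain ⟨m, a', ha'⟩ := Groth.Agent.H22Alg.KPushCl.exists_val_push g hZe hg hF
    obtain ⟨n, L, π, hL⟩ := Groth.Agent.H22Alg.KLFRes.hasLFRes_of_val ha'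
    simp only [AddMonoidHom.comp_apply]
    rw [hb F hF n L π hL, hb₀ F hF n _ (Groth.Agent.H22Alg.KLFRes.val_of_isLFRes cZ hL
      (Groth.Agent.H22Alg.KPushCl.isCoh_push g hF))]
    simp only [map_sum, map_zsmul]
  have key : c.comp φX = (b.comp a).comp φX := by
    refine Groth.Agent.H22Alg.KModel.kvb_ext fun F hF => ?_
    obtain ⟨n, a₀, ha₀⟩ := Groth.Agent.H22Alg.KPushCl.exists_val_push f hYe hf hF
    obtain ⟨n', L, π, hL⟩ := Groth.Agent.H22Alg.KLFRes.hasLFRes_of_val ha₀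
    have e1 : a (φX (KRR.cl X F)) = φY a₀ := by
      rw [ha F hF n' L π hL, Groth.Agent.H22Alg.ResEuler.val_unique' cY ha₀
        (Groth.Agent.H22Alg.KLFRes.val_of_isLFRes cY hL (Groth.Agent.H22Alg.KPushCl.isCoh_push f hF))]
      simp only [map_sum, map_zsmul]
    obtain ⟨m, hm⟩ := Groth.Agent.H22Alg.KClOps.val_push g hZe hg b₀ hb₀ n _ a₀ ha₀
    have hm' := Groth.Agent.H22Alg.ResEuler.val_iso cZ ((Scheme.Modules.pushforwardComp f g).app F) hm
    obtain ⟨m', L', π', hL'⟩ := Groth.Agent.H22Alg.KLFRes.hasLFRes_of_val hm'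
    simp only [AddMonoidHom.comp_apply]
    rw [hc F hF m' L' π' hL', e1, show b (φY a₀) = φZ (b₀ a₀) from DFunLike.congr_fun hbφ a₀,
      Groth.Agent.H22Alg.ResEuler.val_unique' cZ hm' (Groth.Agent.H22Alg.KLFRes.val_of_isLFRes cZ hL'
        (Groth.Agent.H22Alg.KPushCl.isCoh_push (f ≫ g) hF))]
    simp only [map_sum, map_zsmul]
  exact DFunLike.congr_fun key x₀

end Groth.Agent.S3748
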