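import Groth.Statements.S3750
import Mathlib
import Groth.Agent.H22Alg.KPullFree

set_option autoImplicit false
universe v u
open CategoryTheory CategoryTheory.Limits AlgebraicGeometry
attribute [local instance] HasDerivedCategory.standard
open KRR

namespace Groth.Agent.S3750

/-- Let F : P ⟶ M and f : X ⟶ Y be regular closed imbeddings whose conormal sheaves are locally free of
the same rank d, fitting in a cartesian square with φ : Y ⟶ M and ψ : X ⟶ P (so X = Y ×_M P), all
these schemes Noetherian and connected and Y, M having enough locally free sheaves. Let k : Z ⟶ Y be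
a morphism from a connected Noetherian scheme whose image is disjoint from f(X), and h = k ≫ φ : Z ⟶
M. Then, on models of the λ-rings K(P), K(M) and K(Z), the pull-back h^K : K(M) → K(Z) kills the
image of the push-forward F_K : K(P) → K(M): h^K(F_K(p)) = 0 for every p ∈ K(P). -/
theorem result {X Y P M Z : Scheme.{u}} (F : P ⟶ M) (φ : Y ⟶ M) (f : X ⟶ Y) (ψ : X ⟶ P)
    (hsq : IsPullback f ψ φ F) (hF : Mor2.IsRegularClosedImmersion F) (hf : Mor2.IsRegularClosedImmersion f) (d : ℕ)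
    (hcF : FlatMod.IsFinLocFreeOfRank d (Omega.conormal F)) (hcf : FlatMod.IsFinLocFreeOfRank d (Omega.conormal f))
    (k : Z ⟶ Y) (hk : Disjoint (Set.range k.base) (Set.range f.base))
    [IsNoetherian X] [ConnectedSpace ↥X] [IsNoetherian P] [ConnectedSpace ↥P] [IsNoetherian Z] [ConnectedSpace ↥Z] [IsNoetherian Y] [ConnectedSpace ↥Y] (hYe : KRR.HasEnoughLocFree Y) [IsNoetherian M] [ConnectedSpace ↥M] (hMe : KRR.HasEnoughLocFree M)
    (KP : Type v) [CommRing KP] [LambdaRing.LambdaOps KP] (PP : LambdaRing.PosStructure KP) (φP : SGA6.Kvb P →+ KP) (hKP : KRR.IsModel P KP PP φP)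
    (KM : Type v) [CommRing KM] [LambdaRing.LambdaOps KM] (PM : LambdaRing.PosStructure KM) (φM : SGA6.Kvb M →+ KM) (hKM : KRR.IsModel M KM PM φM)
    (KZ : Type v) [CommRing KZ] [LambdaRing.LambdaOps KZ] (PZ : LambdaRing.PosStructure KZ) (φZ : SGA6.Kvb Z →+ KZ) (hKZ : KRR.IsModel Z KZ PZ φZ)
    (gh : KM →+ KZ) (hgh : KRR.IsPull (k ≫ φ) φM φZ gh)
    (gF : KP →+ KM) (hgF : KRR.IsPushCl F φP φM gF) (p : KP) : gh (gF p) = 0 := by
  haveI := hF.1
  obtain ⟨p₀, rfl⟩ := hKP.bijective.2 p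
  suffices h0 : gh.comp (gF.comp φP) = 0 from DFunLike.congr_fun h0 p₀
  refine H22Alg.KModel.kvb_ext fun E hE => ?_
  obtain ⟨n, a, ha⟩ := H22Alg.KLFRes.exists_val_of_pd hMe _ (H22Alg.KClOps.ctxφ hMe φM)
    (H22Alg.KPushCl.isCoh_push F hE) (H22Alg.KPushCl.exists_pd_push F hF hE)
  rw [AddMonoidHom.comp_apply, AddMonoidHom.comp_apply, AddMonoidHom.zero_apply,
    H22Alg.KClOps.pushCl_val hMe hgF hE ha]
  refine H22Alg.KPullFree.pull_val_zero (k ≫ φ) hgh ha fun z =>
    H16Derived.ProjFormula.subsingleton_stalk_push F E _ ?_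
  rintro ⟨q, hq⟩
  obtain ⟨x, hx, -⟩ := Scheme.exists_preimage_of_isPullback hsq (k.base z) q
    ((Scheme.Hom.comp_apply k φ z).symm.trans hq.symm)
  exact Set.disjoint_left.1 hk ⟨z, rfl⟩ ⟨x, hx⟩

end Groth.Agent.S3750
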