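import Groth.Statements.S3752
import Groth.Agent.H22Alg.KAdamsPr

set_option autoImplicit false
universe v u
open CategoryTheory CategoryTheory.Limits AlgebraicGeometry
attribute [local instance] HasDerivedCategory.standard
open scoped TensorProduct
open KRR

namespace Groth.Agent.S3752

/-- Adams Riemann–Roch for the projection p : P = Pⁿ_Y ⟶ Y: let S be an affine Noetherian scheme, Y
connected, Noetherian and quasi-projective over S, (KP, PP, φP) and (KY, PY, φY) models of K(P) and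
K(Y) as λ-rings with positive structure, and g = p_K : K(P) → K(Y) the push-forward ([F] ↦ [p_*F] on
regular finite locally free F). Fix j ≥ 1, put R = ℤ[1/j] and let q = [p^*O_Y^{n+1} ⊗ O_P(−1)] ∈
K(P) (the class of the cotangent module of p plus 1, by the Euler sequence), so that the usual Adams
Riemann–Roch multiplier θ^j(T_p^∨)^{−1} is j · θ^j(q)^{−1}, θ^j denoting the Bott cannibalistic
class. Then 1 ⊗ θ^j(q) is invertible in R ⊗ K(P) and, for every z ∈ K(P) and every inverse w of 1 ⊗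
θ^j(q): 1 ⊗ ψ^j(p_K z) = (R ⊗ p_K)(j · (1 ⊗ ψ^j z) · w) in R ⊗ K(Y). -/
theorem result (S : Scheme.{u}) [IsAffine S] [IsNoetherian S] (n : ℕ) (Y : Scheme.{u}) [IsNoetherian Y] [ConnectedSpace ↥Y] (qY : Y ⟶ S) (hqY : KRR.IsQProjOver qY)
    (KP : Type v) [CommRing KP] [LambdaRing.LambdaOps KP] (PP : LambdaRing.PosStructure KP) (φP : SGA6.Kvb (KRR.PY n Y) →+ KP) (hKP : KRR.IsModel (KRR.PY n Y) KP PP φP)
    (KY : Type v) [CommRing KY] [LambdaRing.LambdaOps KY] (PY : LambdaRing.PosStructure KY) (φY : SGA6.Kvb Y →+ KY) (hKY : KRR.IsModel Y KY PY φY)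
    (g : KP →+ KY) (hg : KRR.IsPushPr n Y φP φY g) (j : ℕ) (hj : 1 ≤ j) (z : KP)
    :
    (∃ w : TensorProduct ℤ (Localization.Away (j : ℤ)) KP, w * ((1 : Localization.Away (j : ℤ)) ⊗ₜ[ℤ] KRR.bott PP j (φP (KRR.cl (KRR.PY n Y)
      (KRR.twF n Y (-1) ((Scheme.Modules.pullback (KRR.pr n Y)).obj (FlatMod.freeMod Y (n + 1))))))) = 1) ∧
    ∀ w : TensorProduct ℤ (Localization.Away (j : ℤ)) KP, w * ((1 : Localization.Away (j : ℤ)) ⊗ₜ[ℤ] KRR.bott PP j (φP (KRR.cl (KRR.PY n Y)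
      (KRR.twF n Y (-1) ((Scheme.Modules.pullback (KRR.pr n Y)).obj (FlatMod.freeMod Y (n + 1))))))) = 1 →
    (1 : Localization.Away (j : ℤ)) ⊗ₜ[ℤ] LambdaRing.adams PY j (g z) =
      LinearMap.lTensor (Localization.Away (j : ℤ)) g.toIntLinearMap
        ((j : TensorProduct ℤ (Localization.Away (j : ℤ)) KP) * ((1 : Localization.Away (j : ℤ)) ⊗ₜ[ℤ] LambdaRing.adams PP j z) * w) := by
  obtain ⟨h1, h2⟩ := Groth.Agent.H22Alg.KAdamsPr.main n Y hKP hKY g hg (Localization.Away (j : ℤ)) j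
    (by simpa using IsLocalization.Away.algebraMap_isUnit (S := Localization.Away (j : ℤ)) (j : ℤ)) hj
  exact ⟨h1, fun w hw => h2 w hw z⟩

end Groth.Agent.S3752
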