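import Groth.Statements.S3757
import Mathlib
import Groth.Agent.H22Alg.RegBundle

set_option autoImplicit false
universe v u
open CategoryTheory CategoryTheory.Limits AlgebraicGeometry
attribute [local instance] HasDerivedCategory.standard
open KRR

namespace Groth.Agent.S3757

/-- Let Y be a Noetherian scheme, p : P = P^n_Y ⟶ Y the structure morphism of projective n-space over Y,
and F a finite locally free O_P-module. Then there is m₀ such that p_*(F(m)) is a finite locally
free O_Y-module for every m ≥ m₀. -/
theorem result (n : ℕ) (Y : Scheme.{u}) [IsNoetherian Y]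
    (F : (KRR.PY n Y).Modules) (hF : FlatMod.IsFinLocFree F) :
    ∃ m₀ : ℕ, ∀ m : ℕ, m₀ ≤ m →
      FlatMod.IsFinLocFree ((Scheme.Modules.pushforward (KRR.pr n Y)).obj (KRR.twF n Y (m : ℤ) F)) := by
  obtain ⟨m₀, h⟩ := H22Alg.RegBundle.exists_reg_twist (n := n) (H22Alg.RegBundle.isCoh_vb hF)
  exact ⟨m₀, fun m hm => H22Alg.RegBundle.finLocFree_push (H22Alg.RegBundle.finLocFree_twF _ hF) (h m hm)⟩

end Groth.Agent.S3757
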