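import Groth.Statements.S3758
import Groth.Agent.H22Alg.KReg
import Mathlib

set_option autoImplicit false
universe v u
open CategoryTheory CategoryTheory.Limits AlgebraicGeometry
attribute [local instance] HasDerivedCategory.standard
open KRR

namespace Groth.Agent.S3758

/-- Let Y be a Noetherian scheme and P = P^n_Y. The homomorphism from K₀ of the regular (relative to P ⟶
Y) finite locally free O_P-modules to K₀ of all finite locally free O_P-modules, induced by the
inclusion (recorded by the argument h), is bijective. -/
theorem result (n : ℕ) (Y : Scheme.{u}) [IsNoetherian Y]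
    (h : ∀ M : (KRR.PY n Y).Modules, FlatMod.IsFinLocFree M ∧ KRR.IsRegSheaf n Y M → FlatMod.IsFinLocFree M) :
    Function.Bijective (SGA6.mapSub (𝟭 (KRR.PY n Y).Modules)
      (fun M : (KRR.PY n Y).Modules => FlatMod.IsFinLocFree M ∧ KRR.IsRegSheaf n Y M) (KRR.vbP (KRR.PY n Y)) h) := by
  exact Groth.Agent.H22Alg.KReg.bijective_incl h

end Groth.Agent.S3758
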