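import Groth.Statements.S3765
import Groth.Agent.H22Alg.KSection
import Groth.Agent.S1676
import Mathlib

set_option autoImplicit false
universe v u
open CategoryTheory CategoryTheory.Limits AlgebraicGeometry
attribute [local instance] HasDerivedCategory.standard
open KRR

namespace Groth.Agent.S3765

/-- For the trivial bundle P = P^n_Y: let Y be a connected Noetherian scheme, p : P ⟶ Y the projection
and s : Y ⟶ P a section of p (s ≫ p = 𝟙); assume every coherent module on P is a quotient of a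
finite locally free one. Then s is a regular closed imbedding (of codimension n), and with models of
K(Y), K(P), the push-forward s_K (via finite locally free resolutions of s_*F) and p_K (via regular
sheaves) satisfy p_K ∘ s_K = id. -/
theorem result (n : ℕ) (Y : Scheme.{u}) [IsNoetherian Y] [ConnectedSpace ↥Y]
    (hPe : KRR.HasEnoughLocFree (KRR.PY n Y)) (s : Y ⟶ KRR.PY n Y) (hs : s ≫ KRR.pr n Y = 𝟙 Y)
    (KP : Type v) [CommRing KP] [LambdaRing.LambdaOps KP] (PP : LambdaRing.PosStructure KP) (φP : SGA6.Kvb (KRR.PY n Y) →+ KP) (hKP : KRR.IsModel (KRR.PY n Y) KP PP φP)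
    (KY : Type v) [CommRing KY] [LambdaRing.LambdaOps KY] (PY : LambdaRing.PosStructure KY) (φY : SGA6.Kvb Y →+ KY) (hKY : KRR.IsModel Y KY PY φY)
    (gs : KY →+ KP) (hgs : KRR.IsPushCl s φY φP gs) (gp : KP →+ KY) (hgp : KRR.IsPushPr n Y φP φY gp) :
    Mor2.IsRegularClosedImmersion s ∧ gp.comp gs = AddMonoidHom.id KY := by
  haveI := Groth.Agent.H22Alg.KSection.isClosedImmersion_section s hs
  have hreg : Mor2.IsRegularClosedImmersion s :=
    @Groth.Agent.S1676.result _ _ (KRR.pr n Y) (Groth.Agent.H26Smooth.smooth_toBase n Y) s hs _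
  refine ⟨hreg, ?_⟩
  haveI := Groth.Agent.H22Alg.KSection.isNoetherian_PY n Y
  have hYe := Groth.Agent.H22Alg.KSection.hasEnoughLocFree_of_section s hs hPe
  obtain ⟨g₀, hg₀⟩ := Groth.Agent.H22Alg.KReg.exists_push n Y
  have hgp₀ : gp.comp φP = φY.comp g₀ := by
    obtain ⟨hb1, hb2⟩ := Groth.Agent.H22Alg.KReg.bijective_incl (n := n) (Y := Y) (fun _ h => h.1)
    refine AddMonoidHom.ext fun z => ?_
    obtain ⟨w, rfl⟩ := hb2 z
    exact DFunLike.congr_fun (Groth.Agent.H22Alg.KReg.clSub_ext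
      (a := (gp.comp φP).comp (Groth.Agent.H22Alg.KReg.incl n Y fun _ h => h.1))
      (b := (φY.comp g₀).comp (Groth.Agent.H22Alg.KReg.incl n Y fun _ h => h.1)) fun M hM => by
        simp only [AddMonoidHom.comp_apply, Groth.Agent.H22Alg.KReg.incl_cls (fun _ h => h.1) hM]
        rw [hgp M hM.1 hM.2, hg₀ M hM.1 hM.2]) w
  have key : (gp.comp gs).comp φY = φY := by
    refine Groth.Agent.H22Alg.KModel.kvb_ext fun F hF => ?_
    obtain ⟨m, a, ha⟩ := Groth.Agent.H22Alg.KPushCl.exists_val_push s hPe hreg hF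
    obtain ⟨m', L, π, hL⟩ := Groth.Agent.H22Alg.KLFRes.hasLFRes_of_val ha
    have hv := Groth.Agent.H22Alg.KLFRes.val_of_isLFRes (Groth.Agent.H22Alg.KLFRes.ctxK hPe) hL
      (Groth.Agent.H22Alg.KPushCl.isCoh_push s hF)
    have e := DFunLike.congr_fun hgp₀
      (∑ k ∈ Finset.range (m' + 1), (-1 : ℤ) ^ k • KRR.cl (KRR.PY n Y) (L.X k))
    simp only [AddMonoidHom.comp_apply] at e ⊢
    rw [hgs F hF m' L π hL]
    simp only [map_sum, map_zsmul] at e ⊢
    rw [e]
    have e2 := congrArg φY (Groth.Agent.H22Alg.KSection.push_section s hs hYe g₀ hg₀ hF hv)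
    simpa only [map_sum, map_zsmul] using e2
  refine AddMonoidHom.ext fun y => ?_
  obtain ⟨y₀, rfl⟩ := hKY.bijective.2 y
  exact DFunLike.congr_fun key y₀

end Groth.Agent.S3765
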