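import Groth.Statements.S3766
import Groth.Agent.H22Alg.KBaseChangeCl
import Mathlib

set_option autoImplicit false
universe v u
open CategoryTheory CategoryTheory.Limits AlgebraicGeometry
attribute [local instance] HasDerivedCategory.standard
open KRR

namespace Groth.Agent.S3766

/-- Let i : X ⟶ Y be a regular closed imbedding of connected Noetherian schemes, j : P^n_X ⟶ P^n_Y the
induced morphism, g : P^n_X ⟶ X and f : P^n_Y ⟶ Y the projections; assume every coherent module on Y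
and on P^n_Y is a quotient of a finite locally free one. Then j is a regular closed imbedding and,
with models of the four K-rings and push-forwards i_K, j_K (via resolutions), g_K, f_K (via regular
sheaves): i_K ∘ g_K = f_K ∘ j_K. -/
theorem result (n : ℕ) {X Y : Scheme.{u}} (i : X ⟶ Y) (hi : Mor2.IsRegularClosedImmersion i)
    [IsNoetherian X] [ConnectedSpace ↥X] [IsNoetherian Y] [ConnectedSpace ↥Y] (hYe : KRR.HasEnoughLocFree Y) (hPe : KRR.HasEnoughLocFree (KRR.PY n Y))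
    (KX : Type v) [CommRing KX] [LambdaRing.LambdaOps KX] (PX : LambdaRing.PosStructure KX) (φX : SGA6.Kvb X →+ KX) (hKX : KRR.IsModel X KX PX φX)
    (KY : Type v) [CommRing KY] [LambdaRing.LambdaOps KY] (PY : LambdaRing.PosStructure KY) (φY : SGA6.Kvb Y →+ KY) (hKY : KRR.IsModel Y KY PY φY)
    (KPX : Type v) [CommRing KPX] [LambdaRing.LambdaOps KPX] (PPX : LambdaRing.PosStructure KPX) (φPX : SGA6.Kvb (KRR.PY n X) →+ KPX) (hKPX : KRR.IsModel (KRR.PY n X) KPX PPX φPX)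
    (KPY : Type v) [CommRing KPY] [LambdaRing.LambdaOps KPY] (PPY : LambdaRing.PosStructure KPY) (φPY : SGA6.Kvb (KRR.PY n Y) →+ KPY) (hKPY : KRR.IsModel (KRR.PY n Y) KPY PPY φPY)
    (gi : KX →+ KY) (hgi : KRR.IsPushCl i φX φY gi)
    (gj : KPX →+ KPY) (hgj : KRR.IsPushCl (KRR.projSpaceMap n i) φPX φPY gj)
    (gX : KPX →+ KX) (hgX : KRR.IsPushPr n X φPX φX gX) (gY : KPY →+ KY) (hgY : KRR.IsPushPr n Y φPY φY gY) :
    Mor2.IsRegularClosedImmersion (KRR.projSpaceMap n i) ∧ gi.comp gX = gY.comp gj := by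
  haveI := hi.1
  have hjr := Groth.Agent.H22Alg.KBaseChangeCl.isRegular_map (n := n) i hi
  refine ⟨hjr, ?_⟩
  haveI := Groth.Agent.H22Alg.KSection.isNoetherian_PY n X
  haveI := Groth.Agent.H22Alg.KSection.isNoetherian_PY n Y
  obtain ⟨i₀, hi₀, hgi₀⟩ := Groth.Agent.H22Alg.KBaseChangeCl.exists_pushCl_comp i hYe hi hgi
  obtain ⟨j₀, hj₀, hgj₀⟩ := Groth.Agent.H22Alg.KBaseChangeCl.exists_pushCl_comp _ hPe hjr hgj
  obtain ⟨pX, hpX⟩ := Groth.Agent.H22Alg.KReg.exists_push n X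
  obtain ⟨pY, hpY⟩ := Groth.Agent.H22Alg.KReg.exists_push n Y
  have hgX₀ := Groth.Agent.H22Alg.KBaseChangeCl.pushPr_comp hgX pX hpX
  have hgY₀ := Groth.Agent.H22Alg.KBaseChangeCl.pushPr_comp hgY pY hpY
  have key : (gi.comp gX).comp φPX = (gY.comp gj).comp φPX := by
    obtain ⟨hb1, hb2⟩ := Groth.Agent.H22Alg.KReg.bijective_incl (n := n) (Y := X) (fun _ h => h.1)
    refine AddMonoidHom.ext fun z => ?_
    obtain ⟨w, rfl⟩ := hb2 z
    refine DFunLike.congr_fun (Groth.Agent.H22Alg.KReg.clSub_ext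
      (a := ((gi.comp gX).comp φPX).comp (Groth.Agent.H22Alg.KReg.incl n X fun _ h => h.1))
      (b := ((gY.comp gj).comp φPX).comp (Groth.Agent.H22Alg.KReg.incl n X fun _ h => h.1)) fun M hM => ?_) w
    simp only [AddMonoidHom.comp_apply, Groth.Agent.H22Alg.KReg.incl_cls (fun _ h => h.1) hM]
    obtain ⟨m, a, ha⟩ := Groth.Agent.H22Alg.KPushCl.exists_val_push _ hPe hjr hM.1
    have e := Groth.Agent.H22Alg.KBaseChangeCl.push_map i hYe hi pX hpX pY hpY i₀ hi₀ hM.1 hM.2 ha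
    rw [← hj₀ M hM.1 m a ha] at e
    have e1 := DFunLike.congr_fun hgX₀ (KRR.cl _ M)
    have e2 := DFunLike.congr_fun hgi₀ (pX (KRR.cl _ M))
    have e3 := DFunLike.congr_fun hgj₀ (KRR.cl _ M)
    have e4 := DFunLike.congr_fun hgY₀ (j₀ (KRR.cl _ M))
    simp only [AddMonoidHom.comp_apply] at e1 e2 e3 e4
    rw [e1, e2, e3, e4, e]
  refine AddMonoidHom.ext fun y => ?_
  obtain ⟨y₀, rfl⟩ := hKPX.bijective.2 y
  exact DFunLike.congr_fun key y₀

end Groth.Agent.S3766
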