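import Groth.Statements.S3768
import Mathlib
import Groth.Agent.H22Alg.KComp

set_option autoImplicit false
universe v u
open CategoryTheory CategoryTheory.Limits AlgebraicGeometry
attribute [local instance] HasDerivedCategory.standard
open KRR

namespace Groth.Agent.S3768

/-- Let Y, Z be connected Noetherian schemes such that every coherent module on Y, Z, on each P^a over
them and on each P^a over P^b over them is a quotient of a finite locally free one. Let f = i ≫ p :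
X ⟶ Y and g = j ≫ q : Y ⟶ Z be regular morphisms factored through P^n_Y and P^m_Z (i, j regular
closed imbeddings; X connected), and let f ≫ g = k ≫ r be a factorization through P^l_Z with k a
regular closed imbedding. With models and push-forwards as before: (r_K ∘ k_K) = (q_K ∘ j_K) ∘ (p_K
∘ i_K). -/
theorem result (n m l : ℕ) {X Y Z : Scheme.{u}} [IsNoetherian Y] [ConnectedSpace ↥Y] (hYe : KRR.HasEnoughLocFree Y) [IsNoetherian Z] [ConnectedSpace ↥Z] (hZe : KRR.HasEnoughLocFree Z)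
    (hstarY : ∀ a : ℕ, KRR.HasEnoughLocFree (KRR.PY a Y) ∧ ∀ b : ℕ, KRR.HasEnoughLocFree (KRR.PY a (KRR.PY b Y)))
    (hstarZ : ∀ a : ℕ, KRR.HasEnoughLocFree (KRR.PY a Z) ∧ ∀ b : ℕ, KRR.HasEnoughLocFree (KRR.PY a (KRR.PY b Z)))
    [ConnectedSpace ↥X] (f : X ⟶ Y) (g : Y ⟶ Z)
    (i : X ⟶ KRR.PY n Y) (hi : Mor2.IsRegularClosedImmersion i) (hf : i ≫ KRR.pr n Y = f)
    (j : Y ⟶ KRR.PY m Z) (hj : Mor2.IsRegularClosedImmersion j) (hg : j ≫ KRR.pr m Z = g)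
    (k : X ⟶ KRR.PY l Z) (hk : Mor2.IsRegularClosedImmersion k) (hfg : k ≫ KRR.pr l Z = f ≫ g)
    (KX : Type v) [CommRing KX] [LambdaRing.LambdaOps KX] (PX : LambdaRing.PosStructure KX) (φX : SGA6.Kvb X →+ KX) (hKX : KRR.IsModel X KX PX φX)
    (KY : Type v) [CommRing KY] [LambdaRing.LambdaOps KY] (PY : LambdaRing.PosStructure KY) (φY : SGA6.Kvb Y →+ KY) (hKY : KRR.IsModel Y KY PY φY)
    (KZ : Type v) [CommRing KZ] [LambdaRing.LambdaOps KZ] (PZ : LambdaRing.PosStructure KZ) (φZ : SGA6.Kvb Z →+ KZ) (hKZ : KRR.IsModel Z KZ PZ φZ)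
    (K₁ : Type v) [CommRing K₁] [LambdaRing.LambdaOps K₁] (P₁ : LambdaRing.PosStructure K₁) (φ₁ : SGA6.Kvb (KRR.PY n Y) →+ K₁) (hK₁ : KRR.IsModel (KRR.PY n Y) K₁ P₁ φ₁)
    (K₂ : Type v) [CommRing K₂] [LambdaRing.LambdaOps K₂] (P₂ : LambdaRing.PosStructure K₂) (φ₂ : SGA6.Kvb (KRR.PY m Z) →+ K₂) (hK₂ : KRR.IsModel (KRR.PY m Z) K₂ P₂ φ₂)
    (K₃ : Type v) [CommRing K₃] [LambdaRing.LambdaOps K₃] (P₃ : LambdaRing.PosStructure K₃) (φ₃ : SGA6.Kvb (KRR.PY l Z) →+ K₃) (hK₃ : KRR.IsModel (KRR.PY l Z) K₃ P₃ φ₃)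
    (a₁ : KX →+ K₁) (ha₁ : KRR.IsPushCl i φX φ₁ a₁) (b₁ : K₁ →+ KY) (hb₁ : KRR.IsPushPr n Y φ₁ φY b₁)
    (a₂ : KY →+ K₂) (ha₂ : KRR.IsPushCl j φY φ₂ a₂) (b₂ : K₂ →+ KZ) (hb₂ : KRR.IsPushPr m Z φ₂ φZ b₂)
    (a₃ : KX →+ K₃) (ha₃ : KRR.IsPushCl k φX φ₃ a₃) (b₃ : K₃ →+ KZ) (hb₃ : KRR.IsPushPr l Z φ₃ φZ b₃) :
    b₃.comp a₃ = (b₂.comp a₂).comp (b₁.comp a₁) := by
  haveI := hi.1
  haveI := hj.1
  haveI := hk.1
  haveI := Groth.Agent.H22Alg.KSection.isNoetherian_PY n Y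
  haveI := Groth.Agent.H22Alg.KSection.isNoetherian_PY m Z
  haveI := Groth.Agent.H22Alg.KSection.isNoetherian_PY l Z
  haveI : IsLocallyNoetherian X := LocallyOfFiniteType.isLocallyNoetherian i
  haveI : CompactSpace ↥X := QuasiCompact.compactSpace_of_compactSpace i
  haveI : IsNoetherian X := ⟨⟩
  obtain ⟨c₁, hc₁, e₁⟩ := Groth.Agent.H22Alg.KBaseChangeCl.exists_pushCl_comp i (hstarY n).1 hi ha₁
  obtain ⟨c₂, hc₂, e₂⟩ := Groth.Agent.H22Alg.KBaseChangeCl.exists_pushCl_comp j (hstarZ m).1 hj ha₂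
  obtain ⟨c₃, hc₃, e₃⟩ := Groth.Agent.H22Alg.KBaseChangeCl.exists_pushCl_comp k (hstarZ l).1 hk ha₃
  obtain ⟨pn, hpn⟩ := Groth.Agent.H22Alg.KReg.exists_push n Y
  obtain ⟨pm, hpm⟩ := Groth.Agent.H22Alg.KReg.exists_push m Z
  obtain ⟨pl, hpl⟩ := Groth.Agent.H22Alg.KReg.exists_push l Z
  have f₁ := Groth.Agent.H22Alg.KBaseChangeCl.pushPr_comp hb₁ pn hpn
  have f₂ := Groth.Agent.H22Alg.KBaseChangeCl.pushPr_comp hb₂ pm hpm
  have f₃ := Groth.Agent.H22Alg.KBaseChangeCl.pushPr_comp hb₃ pl hpl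
  have hh : k ≫ KRR.pr l Z = (i ≫ KRR.pr n Y) ≫ (j ≫ KRR.pr m Z) := by rw [hfg, hf, hg]
  have key := Groth.Agent.H22Alg.KComp.push_comp hYe hZe i hi j hj k hk hh c₁ hc₁ c₂ hc₂ c₃ hc₃
    pn hpn pm hpm pl hpl
  refine AddMonoidHom.ext fun y => ?_
  obtain ⟨x, rfl⟩ := hKX.bijective.2 y
  have g₁ := DFunLike.congr_fun e₁ x
  have g₂ := DFunLike.congr_fun e₂ (pn (c₁ x))
  have g₃ := DFunLike.congr_fun e₃ x
  have g₄ := DFunLike.congr_fun f₁ (c₁ x)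
  have g₅ := DFunLike.congr_fun f₂ (c₂ (pn (c₁ x)))
  have g₆ := DFunLike.congr_fun f₃ (c₃ x)
  have g₇ := DFunLike.congr_fun key x
  simp only [AddMonoidHom.comp_apply] at g₁ g₂ g₃ g₄ g₅ g₆ g₇ ⊢
  rw [g₁, g₃, g₄, g₆, g₂, g₅, g₇]

end Groth.Agent.S3768
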