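import Groth.Statements.S3771
import Groth.Agent.H11Blow.Main
import Groth.Agent.H29Ref.ConormalQReg
import Groth.Agent.H22Alg.ExtPowSum

set_option autoImplicit false
universe v u
open CategoryTheory CategoryTheory.Limits AlgebraicGeometry
attribute [local instance] HasDerivedCategory.standard
open KRR

namespace Groth.Agent.S3771

set_option linter.style.haveILetI false in
open Groth.Agent.H06Mod Groth.Agent.H29Omega Groth.Agent.H17.Conormal in
set_option backward.isDefEq.respectTransparency false in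
/-- A regular closed immersion with conormal module of rank `c` has codimension `c`. -/
theorem ofCodim {X P : Scheme.{u}} [IsLocallyNoetherian P] (f : X ⟶ P) (h : Mor2.IsRegularClosedImmersion f)
    {c : ℕ} (hlf' : FlatMod.IsFinLocFreeOfRank c (Omega.conormal f)) :
    RegImm.IsRegularImmersionOfCodim .regular c f := by
  haveI := h.1
  refine ⟨inferInstance, fun x => ?_⟩
  obtain ⟨U0, hU, hzU, rs, hrs, hker'⟩ := h.2 x
  let U : P.affineOpens := ⟨U0, hU⟩
  have hker : RingHom.ker (f.app U.1).hom = Ideal.ofList rs := by rw [← hker', Scheme.Hom.ker_apply]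
  haveI := U.2.isLocalization_stalk ⟨f.base x, hzU⟩
  letI := P.presheaf.algebra_section_stalk (⟨f.base x, hzU⟩ : U.1)
  haveI : Module.Flat Γ(P, U.1) (P.presheaf.stalk (f.base x)) :=
    IsLocalization.flat _ (U.2.primeIdealOf ⟨f.base x, hzU⟩).asIdeal.primeCompl
  let φ := algebraMap Γ(P, U.1) (P.presheaf.stalk (f.base x))
  let gv : Fin rs.length → P.presheaf.stalk (f.base x) := fun i => φ (rs.get i)
  let I := RingHom.ker (f.stalkMap x).hom
  have hspan : Ideal.span (Set.range gv) = I := by
    show _ = RingHom.ker (f.stalkMap x).hom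
    rw [H17.ker_stalkMap_eq_map f U.2 x hzU, hker, Ideal.map_ofList]
    refine congrArg Ideal.span (Set.ext fun a => ⟨?_, fun h => ?_⟩)
    · rintro ⟨i, rfl⟩; exact List.mem_map.2 ⟨_, List.get_mem rs i, rfl⟩
    · obtain ⟨b, hb, rfl⟩ := List.mem_map.1 h
      obtain ⟨i, rfl⟩ := List.mem_iff_get.1 hb
      exact ⟨i, rfl⟩
  have hqr : CAlgX.IsQuasiRegular gv := by
    refine H06QR.Regular.isQuasiRegular_of_isWeaklyRegular gv ?_
    rw [show gv = φ ∘ rs.get from rfl, ← List.map_ofFn, List.ofFn_get]
    exact hrs.toIsWeaklyRegular.of_flat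
  let fv : Fin rs.length → I := fun i => ⟨gv i, hspan ▸ Ideal.subset_span ⟨i, rfl⟩⟩
  have hli : LinearIndependent (X.presheaf.stalk x) fun i => cgen f x (fv i) := by
    obtain ⟨hli, -⟩ := H06QR.cotangent_basis hqr hspan fv fun i => rfl
    rw [Fintype.linearIndependent_iff] at hli ⊢
    intro d hd k
    choose a ha using fun k => f.stalkMap_surjective x (d k)
    have h0 : cgen f x (∑ i, a i • fv i) = 0 := by
      rw [map_sum]
      refine Eq.trans (Finset.sum_congr rfl fun i _ => ?_) hd
      rw [cgen_smul, ha i]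
    have h1 : I.toCotangent (∑ i, a i • fv i) = 0 :=
      (Ideal.toCotangent_eq_zero _ _).2 (mem_sq_of_cgen_eq_zero f x _ h0)
    rw [map_sum] at h1
    have h2 := hli (fun i => Ideal.Quotient.mk I (a i)) (Eq.trans (Finset.sum_congr rfl fun i _ => by
      rw [map_smul]
      exact algebraMap_smul (P.presheaf.stalk (f.base x) ⧸ I) (a i) _) h1) k
    rw [← ha k]
    exact RingHom.mem_ker.1 (Ideal.Quotient.eq_zero_iff_mem.1 h2)
  let b : Module.Basis (Fin rs.length) (X.presheaf.stalk x) ((Omega.conormal f).presheaf.stalk x) :=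
    Module.Basis.mk hli (by
      rintro v -
      obtain ⟨a, rfl⟩ := exists_cgen_eq f x v
      have hmem : a.1 ∈ Ideal.span (Set.range gv) := hspan.symm ▸ a.2
      obtain ⟨d, hd⟩ := Ideal.mem_span_range_iff_exists_fun.1 hmem
      rw [show a = ∑ k, d k • fv k from
        Subtype.ext (hd.symm.trans (by rw [AddSubmonoidClass.coe_finsetSum]; rfl)), map_sum]
      refine Submodule.sum_mem _ fun k _ => ?_
      rw [cgen_smul]
      exact Submodule.smul_mem _ _ (Submodule.subset_span ⟨k, rfl⟩))
  have hlf : FlatMod.IsFinLocFree (Omega.conormal f) := fun y => by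
    obtain ⟨W, hW, he⟩ := hlf' y
    exact ⟨W, c, hW, he⟩
  obtain ⟨W, hxW, ⟨e⟩⟩ := hlf' x
  obtain ⟨V, hV, hxV, hle⟩ := exists_isAffineOpen_mem_and_subset (x := x) (U := W) hxW
  obtain ⟨bW⟩ := H8Props.FinLocFree.exists_basis_of_chart _ e hle
  obtain ⟨bx⟩ := H22Alg.ExtPowSum.exists_stalkBasis (H8Props.FinLocFree.isQCoh_of_isFinLocFree _ hlf) hV bW hxV
  have hm : c = rs.length := by
    simpa using (Module.finrank_eq_card_basis bx).symm.trans (Module.finrank_eq_card_basis b)
  exact ⟨U, hzU, IsZariskiLocalAtTarget.restrict (P := @IsClosedImmersion) inferInstance U.1, rs, hm.symm, hrs, hker⟩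

set_option linter.style.haveILetI false in
/-- Let S be an affine Noetherian scheme, Y a connected Noetherian scheme quasi-projective over S all of
whose local rings are regular, f : X ⟶ Y a regular closed immersion of codimension d ≥ 1 (conormal
module finite locally free of rank d) with X connected and all local rings of X regular, and φ : Y₁
⟶ Y a blowing up of Y along X (universal property with respect to the kernel ideal sheaf of f). Then
the canonical map O_Y ⟶ φ_* φ^* O_Y = φ_* O_{Y₁} is an isomorphism and R^i φ_* O_{Y₁} = 0 for every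
i ≥ 1 (higher direct images of the underlying abelian sheaf). (The published statement is more
general; this is the case where X and Y are regular.) -/
theorem result (S : Scheme.{u}) [IsAffine S] [IsNoetherian S] {X Y Y₁ : Scheme.{u}} [IsNoetherian Y] [ConnectedSpace ↥Y] (qY : Y ⟶ S) (hqY : KRR.IsQProjOver qY)
    (hYreg : ∀ y : Y, IsRegularLocalRing (Y.presheaf.stalk y))
    (f : X ⟶ Y) (hf : Mor2.IsRegularClosedImmersion f) [ConnectedSpace ↥X] (d : ℕ) (hd : 1 ≤ d)
    (hC : FlatMod.IsFinLocFreeOfRank d (Omega.conormal f)) (hXreg : ∀ x : X, IsRegularLocalRing (X.presheaf.stalk x))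
    (φ : Y₁ ⟶ Y) (hφ : BlowUp.IsBlowUp φ f.ker) :
    IsIso ((Scheme.Modules.pullbackPushforwardAdjunction φ).unit.app (Coh.structureModule Y)) ∧
    ∀ i : ℕ, 1 ≤ i → IsZero ((Coh.RpushAb φ i).obj (Coh.toAb (Coh.structureModule Y₁))) := by
  obtain ⟨n, rfl⟩ : ∃ n, d = n + 1 := ⟨d - 1, by omega⟩
  haveI := hf.1
  have hi : RegImm.IsRegularImmersionOfCodim .regular (n + 1) f := ofCodim f hf hC
  haveI : IsProper φ := H26Blow.isProper_of_isBlowUp hφ fun y => by
    obtain ⟨U, hU, hyU, -⟩ := exists_isAffineOpen_mem_and_subset (U := ⊤) (x := y) trivial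
    haveI : IsNoetherianRing Γ(Y, U) := IsLocallyNoetherian.component_noetherian ⟨U, hU⟩
    exact ⟨⟨U, hU⟩, hyU, IsNoetherian.noetherian _⟩
  refine ⟨H28Pinch.isIso_unit_of_isFinLocFree φ (H11Blow.bijective_app hYreg f n hi hφ) _
    (fun _ => ⟨⊤, 1, trivial, ⟨Scheme.Modules.restrictUnitIso (⊤ : Y.Opens).ι ≪≫
      (coproductUniqueIso fun _ : Fin 1 => Coh.structureModule (↑(⊤ : Y.Opens) : Scheme.{u})).symm⟩⟩), fun i hi' => H11Blow.isZero_of_good f n hi _ hi' fun W hG =>
      H11Blow.subsingleton_structure hφ hG i hi'⟩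

end Groth.Agent.S3771
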