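import Groth.Statements.S3776
import Groth.Agent.H22Alg.KPushFil
import Groth.Agent.S3762
import Groth.Agent.H11Proj.ProjSpace
import Mathlib

set_option autoImplicit false
universe v u
open CategoryTheory CategoryTheory.Limits AlgebraicGeometry
attribute [local instance] HasDerivedCategory.standard
open KRR

namespace Groth.Agent.S3776

/-- For the trivial bundle of rank n+1: let Y be a connected Noetherian scheme and p : P^n_Y ⟶ Y. With
models and p_K the push-forward: p_K(F^k K(P^n_Y)) ⊆ F^{k-n} K(Y) for all k (γ-filtrations; F^m = K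
for m ≤ 0). No tensoring with ℚ is needed here. -/
theorem result (n : ℕ) (Y : Scheme.{u}) [IsNoetherian Y] [ConnectedSpace ↥Y]
    (KP : Type v) [CommRing KP] [LambdaRing.LambdaOps KP] (PP : LambdaRing.PosStructure KP) (φP : SGA6.Kvb (KRR.PY n Y) →+ KP) (hKP : KRR.IsModel (KRR.PY n Y) KP PP φP)
    (KY : Type v) [CommRing KY] [LambdaRing.LambdaOps KY] (PY : LambdaRing.PosStructure KY) (φY : SGA6.Kvb Y →+ KY) (hKY : KRR.IsModel Y KY PY φY)
    (g : KP →+ KY) (hg : KRR.IsPushPr n Y φP φY g) (k : ℕ) (x : KP) (hx : x ∈ LambdaRing.gammaFiltration PP k) :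
    g x ∈ LambdaRing.gammaFiltration PY (k - n) := by
  obtain ⟨s₀, hs₀⟩ := Groth.Agent.H11Proj.ProjSpace.exists_section n (ULift.{u} ℤ)
  let s : Y ⟶ KRR.PY n Y := pullback.lift (specULiftZIsTerminal.from Y ≫ s₀) (𝟙 Y)
    (by rw [Category.assoc, hs₀, Category.comp_id, Category.id_comp])
  haveI hY : Nonempty ↥Y := ConnectedSpace.toNonempty
  haveI : Nonempty ↥(KRR.PY n Y) := ⟨s.base hY.some⟩
  exact Groth.Agent.H22Alg.KPushFil.push_gammaFiltration hKP hKY g
    (fun q hq x y => Groth.Agent.S3762.result n Y KP PP φP hKP KY PY φY hKY g hg q hq x y) hx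

end Groth.Agent.S3776
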