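import Groth.Statements.S3781
import Mathlib
import Groth.Agent.H22Alg.LamDet
import Groth.Agent.S3290
import Groth.Agent.S3288

set_option autoImplicit false
universe v u
open CategoryTheory CategoryTheory.Limits AlgebraicGeometry
attribute [local instance] HasDerivedCategory.standard
open KRR

namespace Groth.Agent.S3781

/-- Let K be a λ-ring with positive structure having the splitting property, L its group of line
elements and F^n the γ-filtration. Assume moreover that the inverse of a line element is a line
element and that for a positive e with ε(e) = r the element det e = λ^r(e) is positive (hence a line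
element); these are part of the published setting but are not implied by the axioms used here, so
they are hypotheses. Then u ↦ u − 1 induces an isomorphism L ≅ Gr^1 K = F^1/F^2: every x ∈ F^1 is
congruent modulo F^2 to u − 1 for some line element u, and line elements u, v with u − v ∈ F^2 are
equal. -/
theorem result (K : Type v) [CommRing K] [LambdaRing.LambdaOps K] (P : LambdaRing.PosStructure K) (hK : LambdaRing.HasSplitting K P)
    (hLinv : ∀ w : K, P.IsLine w → ∃ w' : K, P.IsLine w' ∧ w * w' = 1)
    (hdet : ∀ e : K, e ∈ P.pos → LambdaRing.LambdaOps.lam (P.aug e).toNat e ∈ P.pos) :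
    (∀ x : K, x ∈ LambdaRing.gammaFiltration P 1 → ∃ u : K, P.IsLine u ∧ x - (u - 1) ∈ LambdaRing.gammaFiltration P 2) ∧
    ∀ u v : K, P.IsLine u → P.IsLine v → u - v ∈ LambdaRing.gammaFiltration P 2 → u = v := by
  classical
  have mem2 : ∀ {a b : K}, a ∈ LambdaRing.gammaFiltration P 1 → b ∈ LambdaRing.gammaFiltration P 1 →
      a * b ∈ LambdaRing.gammaFiltration P 2 := by
    intro a b ha hb
    rw [Groth.Agent.H27Lambda.gammaFiltration_eq] at ha hb ⊢
    exact Groth.Agent.H27Lambda.gammaFil_mul_mem _ ha hb le_rfl
  have haug0 : ∀ x ∈ LambdaRing.gammaFiltration P 1, P.aug x = 0 := by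
    intro x hx
    rw [LambdaRing.gammaFiltration, if_neg one_ne_zero] at hx
    induction hx using AddSubgroup.closure_induction with
    | mem y hy =>
      obtain ⟨l, hl1, hl2, rfl⟩ := hy
      obtain ⟨p, hp, hp1⟩ : ∃ p ∈ l, 1 ≤ p.1 := by
        by_contra hcon
        push Not at hcon
        have : (l.map Prod.fst).sum = 0 := List.sum_eq_zero fun n hn => by
          obtain ⟨p, hp, rfl⟩ := List.mem_map.1 hn
          have := hcon p hp
          omega
        omega
      rw [map_list_prod, List.prod_eq_zero]
      refine List.mem_map.2 ⟨_, List.mem_map.2 ⟨p, hp, rfl⟩, ?_⟩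
      rw [LambdaRing.gamma, if_neg (by omega), map_sum]
      refine Finset.sum_eq_zero fun j _ => ?_
      rw [map_mul]
      split_ifs with hj
      · simp
      · have h := congrArg (PowerSeries.coeff j) (Groth.Agent.H27Lambda.lamSeries_aug P hK p.2)
        rw [PowerSeries.coeff_map, Groth.Agent.H27Lambda.coeff_lamSeries, hl1 p hp] at h
        rw [h]
        obtain ⟨i, rfl⟩ : ∃ i, j = i + 1 := ⟨j - 1, by omega⟩
        simp [Groth.Agent.H27Lambda.binSer, Ring.choose_zero_succ]
    | zero => simp
    | add a b _ _ iha ihb => simp [iha, ihb]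
    | neg a _ iha => simp [iha]
  have hem : ∀ e ∈ P.pos, Groth.Agent.H22Alg.LamDet.top P e - 1 - (e - ((P.aug e).toNat : K)) ∈
      LambdaRing.gammaFiltration P 2 := by
    intro e he
    have h := congrArg (Polynomial.eval (1 : K)) (Groth.Agent.S3290.result K P e he)
    simp only [Polynomial.eval_finsetSum, Polynomial.eval_mul, Polynomial.eval_C, Polynomial.eval_pow,
      Polynomial.eval_X, Polynomial.eval_sub, Polynomial.eval_one, one_pow, mul_one, sub_self] at h
    have hR : ∑ i ∈ Finset.range ((P.aug e).toNat + 1),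
        LambdaRing.LambdaOps.lam i e * (0 : K) ^ ((P.aug e).toNat - i) = Groth.Agent.H22Alg.LamDet.top P e := by
      rw [Finset.sum_range_succ, Finset.sum_eq_zero (fun i hi => by
        rw [zero_pow (by simp only [Finset.mem_range] at hi; omega), mul_zero])]
      simp [Groth.Agent.H22Alg.LamDet.top]
    rw [hR] at h
    obtain ⟨n, hn⟩ : ∃ n, (P.aug e).toNat = n + 1 := ⟨(P.aug e).toNat - 1, by
      have := P.aug_pos e he
      omega⟩
    rw [← h, hn, Finset.sum_range_succ', Finset.sum_range_succ', Groth.Agent.H27Lambda.gamma_zero,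
      zero_add, Groth.Agent.H27Lambda.gamma_one, add_sub_cancel_right, add_sub_cancel_right]
    refine sum_mem fun i _ => ?_
    rw [Groth.Agent.H27Lambda.gammaFiltration_eq]
    refine Groth.Agent.H27Lambda.gammaFil_antitone _ (show 2 ≤ i + 1 + 1 by omega)
      (Groth.Agent.H27Lambda.gamma_mem_gammaFil _ _ ?_)
    rw [map_sub, map_natCast, ← hn, Int.toNat_of_nonneg (P.aug_pos e he).le, sub_self]
  refine ⟨fun x hx => ?_, fun u v hu hv huv => ?_⟩
  · obtain ⟨a, b, ha, hb, rfl⟩ := P.exists_sub x
    have hab : P.aug a = P.aug b := by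
      have := haug0 _ hx
      rw [map_sub] at this
      omega
    have hline : ∀ e ∈ P.pos, P.IsLine (Groth.Agent.H22Alg.LamDet.top P e) := by
      intro e he
      refine ⟨hdet e he, ?_⟩
      rw [Groth.Agent.H22Alg.LamDet.top, Groth.Agent.S3288.result K P hK e he, Nat.choose_self]
      rfl
    obtain ⟨w', hw', hw⟩ := hLinv _ (hline b hb)
    refine ⟨Groth.Agent.H22Alg.LamDet.top P a * w', Groth.Agent.H27Lambda.isLine_mul (hline a ha) hw', ?_⟩
    set A := Groth.Agent.H22Alg.LamDet.top P a
    set B := Groth.Agent.H22Alg.LamDet.top P b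
    have h1 := hem a ha
    have h2 := hem b hb
    rw [hab] at h1
    have hB : B - 1 ∈ LambdaRing.gammaFiltration P 1 := by
      rw [Groth.Agent.H27Lambda.gammaFiltration_eq, ← Groth.Agent.H27Lambda.gamma_one (B - 1)]
      exact Groth.Agent.H27Lambda.gamma_mem_gammaFil _ _ (by rw [map_sub, (hline b hb).2, map_one, sub_self])
    have hW : A * w' - 1 ∈ LambdaRing.gammaFiltration P 1 := by
      rw [Groth.Agent.H27Lambda.gammaFiltration_eq, ← Groth.Agent.H27Lambda.gamma_one (A * w' - 1)]
      exact Groth.Agent.H27Lambda.gamma_mem_gammaFil _ _ (by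
        rw [map_sub, map_mul, (hline a ha).2, hw'.2, map_one]; ring)
    have h4 := add_mem (sub_mem h2 h1) (mem2 hW hB)
    convert h4 using 1
    linear_combination (-A) * hw
  · have h1 := Groth.Agent.H22Alg.LamDet.det_eq_one_of_mem hK huv
    have h2 := Groth.Agent.H22Alg.LamDet.det_sub hu.1 hv.1
    rw [h1, one_mul, Groth.Agent.H22Alg.LamDet.top_line hu, Groth.Agent.H22Alg.LamDet.top_line hv] at h2
    exact h2.symm

end Groth.Agent.S3781
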