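import Groth.Statements.S3783
import Groth.Agent.H22Alg.KPullLam
import Groth.Agent.H11Proj.ProjSpace
import Mathlib

set_option autoImplicit false
universe v u
open CategoryTheory CategoryTheory.Limits AlgebraicGeometry
attribute [local instance] HasDerivedCategory.standard
open KRR

namespace Groth.Agent.S3783

/-- For P = P^n_Y: let Y be a connected Noetherian scheme, p : P^n_Y ⟶ Y, with models of K(P), K(Y)
having the splitting property and q = p^K the pull-back. Then for every k, an element y ∈ K(Y) lies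
in F^k K(Y) if and only if p^K y lies in F^k K(P) (γ-filtrations). -/
theorem result (n : ℕ) (Y : Scheme.{u}) [IsNoetherian Y] [ConnectedSpace ↥Y]
    (KP : Type v) [CommRing KP] [LambdaRing.LambdaOps KP] (PP : LambdaRing.PosStructure KP) (φP : SGA6.Kvb (KRR.PY n Y) →+ KP) (hKP : KRR.IsModel (KRR.PY n Y) KP PP φP) (hsP : LambdaRing.HasSplitting KP PP)
    (KY : Type v) [CommRing KY] [LambdaRing.LambdaOps KY] (PY : LambdaRing.PosStructure KY) (φY : SGA6.Kvb Y →+ KY) (hKY : KRR.IsModel Y KY PY φY) (hsY : LambdaRing.HasSplitting KY PY)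
    (q : KY →+ KP) (hq : KRR.IsPull (KRR.pr n Y) φY φP q) (k : ℕ) :
    (LambdaRing.gammaFiltration PP k).comap q = LambdaRing.gammaFiltration PY k := by
  obtain ⟨s₀, hs₀⟩ := Groth.Agent.H11Proj.ProjSpace.exists_section n (ULift.{u} ℤ)
  let s : Y ⟶ KRR.PY n Y := pullback.lift (specULiftZIsTerminal.from Y ≫ s₀) (𝟙 Y)
    (by rw [Category.assoc, hs₀, Category.comp_id, Category.id_comp])
  have hs : s ≫ KRR.pr n Y = 𝟙 Y := pullback.lift_snd _ _ _
  haveI hY : Nonempty ↥Y := ConnectedSpace.toNonempty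
  haveI : Nonempty ↥(KRR.PY n Y) := ⟨s.base hY.some⟩
  obtain ⟨a, ha⟩ := Groth.Agent.H22Alg.KModel.exists_lift (X := KRR.PY n Y)
    (fun E => φY (KRR.cl Y ((Scheme.Modules.pullback s).obj E))) (fun S hS h₁ h₂ h₃ => by
      rw [← map_add]
      exact congrArg φY (Groth.Agent.H22Alg.KModel.cl_add (Groth.Agent.H22Alg.KModel.shortExact_pullback s hS h₃)
        (Groth.Agent.H16Derived.KFlat.Stalk.isFinLocFree_pullback s h₁)
        (Groth.Agent.H16Derived.KFlat.Stalk.isFinLocFree_pullback s h₂)
        (Groth.Agent.H16Derived.KFlat.Stalk.isFinLocFree_pullback s h₃)))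
  let eP := AddEquiv.ofBijective φP hKP.bijective
  let r : KP →+ KY := a.comp eP.symm.toAddMonoidHom
  have hr : KRR.IsPull s φP φY r := fun E hE => by
    show a (eP.symm (eP (KRR.cl _ E))) = _
    rw [AddEquiv.symm_apply_apply]
    exact ha E hE
  have hrq : ∀ y, r (q y) = y := by
    intro y
    obtain ⟨y₀, rfl⟩ := hKY.bijective.2 y
    have : (r.comp q).comp φY = φY := Groth.Agent.H22Alg.KModel.kvb_ext fun E hE => by
      simp only [AddMonoidHom.comp_apply]
      rw [hq E hE, hr _ (Groth.Agent.H16Derived.KFlat.Stalk.isFinLocFree_pullback _ hE)]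
      exact congrArg φY (Groth.Agent.H22Alg.KModel.cl_iso ((Scheme.Modules.pullbackComp s (KRR.pr n Y)).app E ≪≫
        (Scheme.Modules.pullbackCongr hs).app E ≪≫ (Scheme.Modules.pullbackId Y).app E)
        (Groth.Agent.H16Derived.KFlat.Stalk.isFinLocFree_pullback _
          (Groth.Agent.H16Derived.KFlat.Stalk.isFinLocFree_pullback _ hE)))
    exact DFunLike.congr_fun this y₀
  refine AddSubgroup.ext fun y => ⟨fun h => ?_, fun h => ?_⟩
  · have := Groth.Agent.H22Alg.KPullLam.map_gammaFiltration hKY hKP hr (AddSubgroup.mem_comap.1 h)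
    rwa [hrq] at this
  · exact AddSubgroup.mem_comap.2 (Groth.Agent.H22Alg.KPullLam.map_gammaFiltration hKP hKY hq h)

end Groth.Agent.S3783
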