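import Groth.Statements.S3784
import Groth.Agent.H22Alg.PB.Split
import Mathlib

set_option autoImplicit false
universe v u
open CategoryTheory CategoryTheory.Limits AlgebraicGeometry
attribute [local instance] HasDerivedCategory.standard
open KRR

namespace Groth.Agent.S3784

/-- Let X be a connected Noetherian scheme, (K, P, φ) a model of the λ-ring K(X), and E a finite locally
free O_X-module of rank m. Then there are a connected Noetherian scheme X', a morphism f : X' ⟶ X, a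
model (K', P', φ') of K(X') and the pull-back g = f^K : K ⟶ K' such that g is injective, g⁻¹(F^k K')
= F^k K for all k (γ-filtrations), and g[E] = [L₁] + ⋯ + [L_m] for invertible O_{X'}-modules L_i. -/
theorem result (X : Scheme.{u}) [IsNoetherian X] [ConnectedSpace ↥X]
    (K : Type v) [CommRing K] [LambdaRing.LambdaOps K] (P : LambdaRing.PosStructure K) (φ : SGA6.Kvb X →+ K) (hK : KRR.IsModel X K P φ) (m : ℕ) (E : X.Modules) (hE : FlatMod.IsFinLocFreeOfRank m E) :
    ∃ (X' : Scheme.{u}) (_ : IsNoetherian X') (_ : ConnectedSpace ↥X') (f : X' ⟶ X)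
      (K' : Type (u + 1)) (_ : CommRing K') (_ : LambdaRing.LambdaOps K') (P' : LambdaRing.PosStructure K')
      (φ' : SGA6.Kvb X' →+ K') (_ : KRR.IsModel X' K' P' φ') (g : K →+ K') (_ : KRR.IsPull f φ φ' g),
      Function.Injective g ∧ (∀ k : ℕ, (LambdaRing.gammaFiltration P' k).comap g = LambdaRing.gammaFiltration P k) ∧
      ∃ L : Fin m → X'.Modules, (∀ j, FlatMod.IsFinLocFreeOfRank 1 (L j)) ∧ g (φ (KRR.cl X E)) = ∑ j, φ' (KRR.cl X' (L j)) := by
  obtain ⟨K₁, _, _, P₁, φ₁, hK₁⟩ := Groth.Agent.H22Alg.KExists.exists_model (X := X)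
  obtain ⟨g₀, hg₀⟩ := Groth.Agent.H22Alg.PB.Split.exists_pull (𝟙 X) hK φ₁
  obtain ⟨g₁, hg₁⟩ := Groth.Agent.H22Alg.PB.Split.exists_pull (𝟙 X) hK₁ φ
  have hid : ∀ E : X.Modules, FlatMod.IsFinLocFree E →
      KRR.cl X ((Scheme.Modules.pullback (𝟙 X)).obj E) = KRR.cl X E := fun E hE =>
    (Groth.Agent.H22Alg.KModel.cl_iso ((Scheme.Modules.pullbackId X).app E).symm hE).symm
  have hinv : ∀ x, g₁ (g₀ x) = x := fun x => by
    obtain ⟨y, rfl⟩ := hK.bijective.2 x
    refine DFunLike.congr_fun (Groth.Agent.H22Alg.KModel.kvb_ext (a := g₁.comp (g₀.comp φ)) (b := φ)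
      fun F hF => ?_) y
    simp only [AddMonoidHom.comp_apply, hg₀ F hF, hid F hF, hg₁ F hF]
  obtain ⟨X', hn, hc, f, K', _, _, P', φ', hK', g, hg, hinj, hfil, L, hL, hsum⟩ :=
    Groth.Agent.H22Alg.PB.Split.exists_split m hK₁ hE
  have hG : KRR.IsPull (f ≫ 𝟙 X) φ φ' (g.comp g₀) := Groth.Agent.H22Alg.PB.Split.isPull_comp hg₀ hg
  refine ⟨X', hn, hc, f ≫ 𝟙 X, K', _, _, P', φ', hK', g.comp g₀, hG,
    hinj.comp (Function.LeftInverse.injective hinv), fun k => le_antisymm (fun x hx => ?_) (fun x hx => ?_),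
    L, hL, ?_⟩
  · rw [← hinv x]
    exact Groth.Agent.H22Alg.KPullLam.map_gammaFiltration hK hK₁ hg₁
      (hfil (fun Z _ _ M _ _ Q ψ h => Groth.Agent.H22Alg.PB.Split.hasSplitting h) k _ hx)
  · exact Groth.Agent.H22Alg.KPullLam.map_gammaFiltration hK' hK hG hx
  · rw [← hsum, AddMonoidHom.comp_apply, hg₀ E (Groth.Agent.H22Alg.KModel.finLocFree_of_rank hE),
      hid E (Groth.Agent.H22Alg.KModel.finLocFree_of_rank hE)]

end Groth.Agent.S3784
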