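import Groth.Statements.S3790
import Mathlib
import Groth.Agent.H22Alg.KTorPull
import Groth.Agent.H22Alg.KIndep
import Groth.Agent.S3747

set_option autoImplicit false
universe v u
open CategoryTheory CategoryTheory.Limits AlgebraicGeometry
attribute [local instance] HasDerivedCategory.standard
open KRR

namespace Groth.Agent.S3790

/-- Let X be a connected Noetherian scheme on which every coherent module is a quotient of a finite
locally free one, and i : Y ⟶ X, j : Z ⟶ X regular closed imbeddings (Y, Z connected) meeting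
regularly: with W = Y ×_X Z and projections h : W ⟶ Y, g : W ⟶ Z, the base change g is a regular
closed imbedding of the same codimension as i (conormal modules of i and g finite locally free of
the same rank), W connected. With models and push-forwards i_K, j_K, (g ≫ j)_K: [O_Y] · [O_Z] =
[O_{Y ∩ Z}] in K(X), i.e. i_K(1) · j_K(1) = (g ≫ j)_K(1). -/
theorem result {X Y Z W : Scheme.{u}} [IsNoetherian X] [ConnectedSpace ↥X] (hXe : KRR.HasEnoughLocFree X)
    (i : Y ⟶ X) (hi : Mor2.IsRegularClosedImmersion i) [ConnectedSpace ↥Y]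
    (j : Z ⟶ X) (hj : Mor2.IsRegularClosedImmersion j) [ConnectedSpace ↥Z]
    (h : W ⟶ Y) (g : W ⟶ Z) (hsq : IsPullback g h j i) (hg : Mor2.IsRegularClosedImmersion g) [ConnectedSpace ↥W]
    (d : ℕ) (hci : FlatMod.IsFinLocFreeOfRank d (Omega.conormal i)) (hcg : FlatMod.IsFinLocFreeOfRank d (Omega.conormal g))
    (KX : Type v) [CommRing KX] [LambdaRing.LambdaOps KX] (PX : LambdaRing.PosStructure KX) (φX : SGA6.Kvb X →+ KX) (hKX : KRR.IsModel X KX PX φX)
    (KY : Type v) [CommRing KY] [LambdaRing.LambdaOps KY] (PY : LambdaRing.PosStructure KY) (φY : SGA6.Kvb Y →+ KY) (hKY : KRR.IsModel Y KY PY φY)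
    (KZ : Type v) [CommRing KZ] [LambdaRing.LambdaOps KZ] (PZ : LambdaRing.PosStructure KZ) (φZ : SGA6.Kvb Z →+ KZ) (hKZ : KRR.IsModel Z KZ PZ φZ)
    (KW : Type v) [CommRing KW] [LambdaRing.LambdaOps KW] (PW : LambdaRing.PosStructure KW) (φW : SGA6.Kvb W →+ KW) (hKW : KRR.IsModel W KW PW φW)
    (a : KY →+ KX) (ha : KRR.IsPushCl i φY φX a) (b : KZ →+ KX) (hb : KRR.IsPushCl j φZ φX b)
    (c : KW →+ KX) (hc : KRR.IsPushCl (g ≫ j) φW φX c) :
    a 1 * b 1 = c 1 := by
  haveI := hi.1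
  haveI := hj.1
  haveI := hg.1
  haveI : IsLocallyNoetherian Y := LocallyOfFiniteType.isLocallyNoetherian i
  haveI : IsNoetherian Y := { __ := ‹IsLocallyNoetherian Y›, __ := QuasiCompact.compactSpace_of_compactSpace i }
  haveI : IsLocallyNoetherian Z := LocallyOfFiniteType.isLocallyNoetherian j
  haveI : IsNoetherian Z := { __ := ‹IsLocallyNoetherian Z›, __ := QuasiCompact.compactSpace_of_compactSpace j }
  haveI : IsLocallyNoetherian W := LocallyOfFiniteType.isLocallyNoetherian g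
  haveI : IsNoetherian W := { __ := ‹IsLocallyNoetherian W›, __ := QuasiCompact.compactSpace_of_compactSpace g }
  have hZe := H22Alg.KIndep.hasEnoughLocFree_of_closedImm j hXe
  have hφ : ∀ {n : ℕ} {M : X.Modules} {A : SGA6.Kvb X},
      H22Alg.ResEuler.Val (H22Alg.KLFRes.vb X) (H22Alg.KLFRes.coh X) (KRR.cl X) n M A →
      H22Alg.ResEuler.Val (H22Alg.KLFRes.vb X) (H22Alg.KLFRes.coh X) (fun M => φX (KRR.cl X M)) n M (φX A) :=
    fun {n M A} hv => H22Alg.KTorPull.val_hom φX n M A hv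
  obtain ⟨j₀, hj₀⟩ := H22Alg.KModel.exists_lift
    (fun E : X.Modules => KRR.cl Z ((Scheme.Modules.pullback j).obj E)) fun S hS h₁ h₂ h₃ =>
    H22Alg.KModel.cl_add (H22Alg.KModel.shortExact_pullback j hS h₃)
      (H16Derived.KFlat.Stalk.isFinLocFree_pullback j h₁) (H16Derived.KFlat.Stalk.isFinLocFree_pullback j h₂)
      (H16Derived.KFlat.Stalk.isFinLocFree_pullback j h₃)
  let eX := AddEquiv.ofBijective φX hKX.bijective
  let gj : KX →+ KZ := φZ.comp (j₀.comp eX.symm.toAddMonoidHom)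
  have hgj : ∀ A : SGA6.Kvb X, gj (φX A) = φZ (j₀ A) := fun A =>
    congrArg (fun t => φZ (j₀ t)) (eX.symm_apply_apply A)
  have hgj' : KRR.IsPull j φX φZ gj := fun E hE => (hgj _).trans (congrArg φZ (hj₀ E hE))
  have hOY : FlatMod.IsFinLocFree (Coh.structureModule Y) :=
    H22Alg.PnVan.finLocFree_of_inv (H22Alg.PnDeg0.isInvertible_structure Y)
  have hOW : FlatMod.IsFinLocFree (Coh.structureModule W) :=
    H22Alg.PnVan.finLocFree_of_inv (H22Alg.PnDeg0.isInvertible_structure W)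
  obtain ⟨n, A, hA⟩ := H22Alg.KPushCl.exists_val_push i hXe hi hOY
  have hB := H22Alg.KTorPull.val_bc hsq hi hg hci hcg hOY (H22Alg.KLFRes.ctxK hZe) j₀ hj₀ hA
  obtain ⟨eO⟩ := H11Ample.nonempty_pullback_structureModule_iso h
  obtain ⟨b₀, hb₀⟩ := H22Alg.KPushCl.exists_pushCl j hXe hj
  obtain ⟨m, hm⟩ := H22Alg.KClOps.val_push j hXe hj b₀ hb₀ n _ _ hB
  have hm' := H22Alg.ResEuler.val_iso (H22Alg.KLFRes.ctxK hXe)
    ((Scheme.Modules.pushforward j).mapIso ((Scheme.Modules.pushforward g).mapIso eO) ≪≫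
      (Scheme.Modules.pushforwardComp g j).app _) hm
  have hbφ : b.comp φZ = φX.comp b₀ := H22Alg.KModel.kvb_ext fun F hF => by
    obtain ⟨m', A', hA'⟩ := H22Alg.KPushCl.exists_val_push j hXe hj hF
    simp only [AddMonoidHom.comp_apply]
    rw [hb₀ F hF m' A' hA', H22Alg.KClOps.pushCl_val hXe hb hF (hφ hA')]
  have ha1 : a 1 = φX A := by
    rw [← hKY.map_one]
    exact H22Alg.KClOps.pushCl_val hXe ha hOY (hφ hA)
  have hc1 : c 1 = φX (b₀ (j₀ A)) := by
    rw [← hKW.map_one]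
    exact H22Alg.KClOps.pushCl_val hXe hc hOW (hφ hm')
  have key := S3747.result j hj hXe KZ PZ φZ hKZ KX PX φX hKX gj hgj' b hb 1 (a 1)
  rw [mul_comm, ← key, one_mul, ha1, hgj, hc1]
  exact DFunLike.congr_fun hbφ (j₀ A)

end Groth.Agent.S3790
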