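import Groth.Statements.S3791
import Mathlib

set_option autoImplicit false
universe v u
open CategoryTheory CategoryTheory.Limits AlgebraicGeometry
attribute [local instance] HasDerivedCategory.standard
open KRR

namespace Groth.Agent.S3791

/-- Let K be a λ-ring with positive structure P and u an ample line element (for every x, u^n x is a
positive element minus a natural number for all large n). Then for every line element v, the element
v - 1 is nilpotent. -/
theorem result (K : Type v) [CommRing K] [LambdaRing.LambdaOps K] (P : LambdaRing.PosStructure K)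
    (u : K) (hu : KRR.IsAmpleElt P u) (w : K) (hw : P.IsLine w) : IsNilpotent (w - 1) := by
  classical
  obtain ⟨⟨hu1, hu2⟩, hamp⟩ := hu
  obtain ⟨hw1, hw2⟩ := hw
  -- every line element `a` with `m - a` positive satisfies `(1 - a)^m = 0`
  have key : ∀ (a e : K) (m : ℕ), a ∈ P.pos → P.aug a = 1 → e ∈ P.pos → e + a = m →
      IsNilpotent (a - 1) := by
    intro a e m ha1 ha2 he hea
    have haug : P.aug e + 1 = m := by
      have := congrArg P.aug hea
      rw [map_add, ha2, map_natCast] at this
      exact_mod_cast this
    have hnat : ∀ (n i : ℕ), LambdaRing.LambdaOps.lam i ((n : K) + 1) = ((n + 1).choose i : K) := by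
      have h1 : ∀ i : ℕ, LambdaRing.LambdaOps.lam i (1 : K) = ((1 : ℕ).choose i : K) := by
        intro i
        match i with
        | 0 => simp [LambdaRing.LambdaOps.lam_zero]
        | 1 => simp [LambdaRing.LambdaOps.lam_one]
        | i + 2 =>
          rw [Nat.choose_eq_zero_of_lt (by omega), Nat.cast_zero]
          refine P.lam_eq_zero 1 ?_ _ ?_
          · simpa using P.natCast_mem 1 one_pos
          · rw [map_one]; omega
      intro n
      induction n with
      | zero => intro i; simpa using h1 i
      | succ n ih =>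
        intro i
        rw [LambdaRing.LambdaOps.lam_add, Nat.add_choose_eq,
          Finset.Nat.sum_antidiagonal_eq_sum_range_succ_mk]
        push_cast
        refine Finset.sum_congr rfl (fun j _ => ?_)
        rw [ih j, h1]
    obtain ⟨n, rfl⟩ : ∃ n, m = n + 1 := ⟨m - 1, by have := P.aug_pos e he; omega⟩
    have hc : ∀ k : ℕ, LambdaRing.LambdaOps.lam k e =
        ∑ i ∈ Finset.range (k + 1), ((n + 1).choose i : K) * (-a) ^ (k - i) := by
      intro k
      induction k with
      | zero => simp [LambdaRing.LambdaOps.lam_zero]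
      | succ k ih =>
        have h2 := LambdaRing.LambdaOps.lam_add (k + 1) a e
        rw [add_comm a e, hea, Nat.cast_add, Nat.cast_one, hnat] at h2
        rw [Finset.sum_range_succ', Finset.sum_range_succ',
          Finset.sum_eq_zero (fun i _ => by
            rw [P.lam_eq_zero a ha1 (i + 1 + 1) (by rw [ha2]; omega), zero_mul])] at h2
        simp only [zero_add, LambdaRing.LambdaOps.lam_zero, LambdaRing.LambdaOps.lam_one,
          Nat.sub_zero, one_mul, Nat.add_sub_cancel] at h2
        have hs : ∑ i ∈ Finset.range (k + 1), ((n + 1).choose i : K) * (-a) ^ (k + 1 - i) =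
            -a * LambdaRing.LambdaOps.lam k e := by
          rw [ih, Finset.mul_sum]
          refine Finset.sum_congr rfl (fun i hi => ?_)
          rw [Nat.sub_add_comm (Nat.lt_succ_iff.1 (Finset.mem_range.1 hi)), pow_succ]
          ring
        rw [Finset.sum_range_succ, hs, Nat.sub_self, pow_zero, mul_one, h2]
        ring
    refine ⟨n + 1, ?_⟩
    have h0 := P.lam_eq_zero e he (n + 1) (by omega)
    rw [hc] at h0
    have hp := add_pow (1 : K) (-a) (n + 1)
    have hz : (1 + -a) ^ (n + 1) = 0 := by
      rw [hp, ← h0]
      refine Finset.sum_congr rfl (fun i _ => ?_)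
      rw [one_pow, one_mul, mul_comm]
    rw [show a - 1 = (-1 : K) * (1 + -a) by ring, mul_pow, hz, mul_zero]
  have huunit : IsUnit u := by
    have := P.isUnit_lam u hu1
    rwa [hu2, Int.toNat_one, LambdaRing.LambdaOps.lam_one] at this
  obtain ⟨p, hp⟩ := hamp (-1)
  obtain ⟨q, hq⟩ := hamp (-w)
  have hpow : ∀ n, 1 ≤ n → u ^ n ∈ P.pos ∧ P.aug (u ^ n) = 1 := by
    intro n hn
    induction n, hn using Nat.le_induction with
    | base => simp [hu1, hu2]
    | succ n _ ih => exact ⟨pow_succ u n ▸ P.mul_mem _ _ ih.1 hu1, by rw [map_pow, hu2, one_pow]⟩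
  have hn1 : ∀ n, max 1 p ≤ n → IsNilpotent (u ^ n - 1) := by
    intro n hn
    obtain ⟨e, m, he, hem⟩ := hp n (le_of_max_le_right hn)
    exact key _ e m (hpow n (le_of_max_le_left hn)).1 (hpow n (le_of_max_le_left hn)).2 he
      (by linear_combination -hem)
  have hA : IsNilpotent (u ^ (max (max 1 p) q) - 1) := hn1 _ (le_max_left _ _)
  obtain ⟨e, m, he, hem⟩ := hq (max (max 1 p) q) (le_max_right _ _)
  have h1n : 1 ≤ max (max 1 p) q := le_trans (le_max_left _ _) (le_max_left _ _)
  have hB : IsNilpotent (u ^ (max (max 1 p) q) * w - 1) :=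
    key _ e m (P.mul_mem _ _ (hpow _ h1n).1 hw1) (by rw [map_mul, (hpow _ h1n).2, hw2, one_mul]) he
      (by linear_combination -hem)
  have : w - 1 = (u ^ (max (max 1 p) q) * w - 1) - w * (u ^ (max (max 1 p) q) - 1) := by ring
  rw [this]
  exact (Commute.all _ _).isNilpotent_sub hB ((Commute.all _ _).isNilpotent_mul_left hA)

end Groth.Agent.S3791
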