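import Groth.Statements.S3792
import Mathlib
import Groth.Agent.H22Alg.LamCore

set_option autoImplicit false
universe v u
open CategoryTheory CategoryTheory.Limits AlgebraicGeometry
attribute [local instance] HasDerivedCategory.standard
open KRR

namespace Groth.Agent.S3792

/-- Let K be a λ-ring with positive structure having the splitting property, e a positive element and j
≥ 1. Then ψ^j(λ_{-1}(e)) = λ_{-1}(e) · θ^j(e), where λ_{-1}(e) = Σ_{i ≤ ε(e)} (-1)^i λ^i(e), ψ^j is
the Adams operation and θ^j(e) is Bott's cannibalistic class (the universal polynomial in the λ^i(e)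
which is Π (1 + u_i + ⋯ + u_i^{j-1}) on a splitting e = Σ u_i). -/
theorem result (K : Type v) [CommRing K] [LambdaRing.LambdaOps K] (P : LambdaRing.PosStructure K) (hK : LambdaRing.HasSplitting K P) (e : K) (he : e ∈ P.pos) (j : ℕ) (hj : 1 ≤ j) :
    LambdaRing.adams P j (KRR.lamAlt P e) = KRR.lamAlt P e * KRR.bott P j e := by
  classical
  open Groth.Agent.H27Lambda in
  obtain ⟨L, _, _, Q, f, hf, hs⟩ := exists_split hK [e] (by simp [he])
  obtain ⟨s, hs1, hs2⟩ := hs e (by simp)
  obtain ⟨u, rfl⟩ := Quot.exists_rep s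
  have hm : (P.aug e).toNat = u.length := by
    rw [← hf.aug_comp, ← hs2, Groth.Agent.H27Lambda.aug_sum_lines hs1, Int.toNat_natCast]
    rfl
  set w : Fin u.length → L := fun i => u.get i
  have hu : (Finset.univ.val.map w : Multiset L) = (u : Multiset L) := by
    show ((List.finRange u.length).map u.get : Multiset L) = _
    simp
  have hw : ∀ i, Q.IsLine (w i) := fun i => hs1 _ (List.get_mem u i)
  have hlam : ∀ i, f (LambdaRing.LambdaOps.lam i e) = (Finset.univ.val.map w).esymm i := by
    intro i
    rw [hf.isLambdaHom, ← hs2, hu]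
    exact Groth.Agent.H27Lambda.lam_sum_lines hs1 i
  have hA : f (KRR.lamAlt P e) = ∏ i, (1 - w i) := by
    rw [KRR.lamAlt, hm, map_sum, Finset.prod_eq_multiset_prod,
      show (Finset.univ.val.map fun i => 1 - w i) = (Finset.univ.val.map w).map fun v => 1 - v by
        rw [Multiset.map_map]; rfl,
      Groth.Agent.H27Lambda.prod_one_sub_eq, Multiset.card_map]
    simp [map_mul, hlam]
  have hB : f (KRR.bott P j e) = ∏ i, ∑ k ∈ Finset.range j, w i ^ k := by
    have h1 : ∀ (n : ℕ) (hn : n = u.length),
        f (MvPolynomial.aeval (fun i : Fin n => LambdaRing.LambdaOps.lam (i.1 + 1) e) (KRR.bottPoly j n)) =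
          ∏ i, ∑ k ∈ Finset.range j, w i ^ k := by
      intro n hn
      subst hn
      rw [Groth.Agent.H27Lambda.aeval_int_map f, show (∏ i, ∑ k ∈ Finset.range j, w i ^ k) =
        MvPolynomial.aeval w (KRR.bottSym j u.length) by simp [KRR.bottSym]]
      have h2 : (MvPolynomial.aeval (fun i : Fin u.length => MvPolynomial.esymm (Fin u.length) ℤ (i + 1))
          (KRR.bottPoly j u.length)) = KRR.bottSym j u.length := by
        rw [← MvPolynomial.esymmAlgHom_apply, KRR.bottPoly]
        exact congrArg Subtype.val ((MvPolynomial.esymmAlgEquiv (Fin u.length) ℤ (Fintype.card_fin _)).apply_symm_apply _)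
      rw [← h2, ← AlgHom.comp_apply, MvPolynomial.comp_aeval]
      congr 2
      funext i
      rw [hlam, MvPolynomial.aeval_esymm_eq_multiset_esymm]
    exact h1 _ hm
  apply hf.injective
  rw [Groth.Agent.H27Lambda.map_adams hf.isLambdaHom hf.aug_comp, map_mul, hA, hB,
    ← Finset.prod_mul_distrib]
  have hone : ∀ i, LambdaRing.adams Q j (1 - w i) = 1 - w i ^ j := fun i => by
    rw [← Groth.Agent.H27Lambda.adamsHom_apply, map_sub, Groth.Agent.H27Lambda.adamsHom_apply,
      Groth.Agent.H27Lambda.adamsHom_apply, Groth.Agent.H27Lambda.adams_one,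
      Groth.Agent.H27Lambda.adams_line Q (hw i)]
  have hprod : ∀ F : Finset (Fin u.length),
      LambdaRing.adams Q j (∏ i ∈ F, (1 - w i)) = ∏ i ∈ F, (1 - w i ^ j) := by
    have hmul : ∀ (i : Fin u.length) (x : L),
        LambdaRing.adams Q j (w i * x) = w i ^ j * LambdaRing.adams Q j x →
        LambdaRing.adams Q j ((1 - w i) * x) = (1 - w i ^ j) * LambdaRing.adams Q j x := by
      intro i x h
      rw [sub_mul, one_mul, ← Groth.Agent.H27Lambda.adamsHom_apply, map_sub,
        Groth.Agent.H27Lambda.adamsHom_apply, Groth.Agent.H27Lambda.adamsHom_apply, h]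
      ring
    have hline : ∀ (F : Finset (Fin u.length)) (v : L), Q.IsLine v →
        LambdaRing.adams Q j (v * ∏ i ∈ F, (1 - w i)) = v ^ j * ∏ i ∈ F, (1 - w i ^ j) := by
      intro F
      induction F using Finset.induction with
      | empty => intro v hv; simp [Groth.Agent.H27Lambda.adams_line Q hv]
      | insert a F ha ih =>
        intro v hv
        rw [Finset.prod_insert ha, Finset.prod_insert ha,
          show v * ((1 - w a) * ∏ i ∈ F, (1 - w i)) =
            v * ∏ i ∈ F, (1 - w i) - (v * w a) * ∏ i ∈ F, (1 - w i) by ring,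
          ← Groth.Agent.H27Lambda.adamsHom_apply, map_sub, Groth.Agent.H27Lambda.adamsHom_apply,
          Groth.Agent.H27Lambda.adamsHom_apply, ih v hv,
          ih (v * w a) (Groth.Agent.H27Lambda.isLine_mul hv (hw a))]
        ring
    intro F
    simpa using hline F 1 (Groth.Agent.H27Lambda.isLine_one Q)
  rw [hprod Finset.univ]
  refine Finset.prod_congr rfl fun i _ => ?_
  rw [mul_neg_geom_sum]

end Groth.Agent.S3792
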