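import Groth.Statements.S3794
import Mathlib
import Groth.Agent.H22Alg.LamChern

set_option autoImplicit false
universe v u
open CategoryTheory CategoryTheory.Limits AlgebraicGeometry
attribute [local instance] HasDerivedCategory.standard
open scoped TensorProduct
open KRR

namespace Groth.Agent.S3794

/-- Let K be a λ-ring with positive structure having the splitting property, whose γ-filtration
satisfies F^{d+1} K = 0. Then the Chern character ch : K ⟶ ℚGr K = ℚ ⊗ (⊕ F^n/F^{n+1}) (from the
Chern classes c^i(x) = γ^i(x - ε x) mod F^{i+1} through the Hirzebruch polynomials of exp, truncated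
at d) is additive and induces a bijection ℚ ⊗ K ⟶ ℚGr K: there is a ℚ-linear Φ with Φ(1 ⊗ x) = ch(x)
for all x, and it is bijective. -/
theorem result (K : Type v) [CommRing K] [LambdaRing.LambdaOps K] (P : LambdaRing.PosStructure K) (hK : LambdaRing.HasSplitting K P) (d : ℕ) (hd : LambdaRing.gammaFiltration P (d + 1) = ⊥)
    :
    ∃ Φ : TensorProduct ℤ ℚ K →ₗ[ℚ] KGr.Gr P, (∀ x : K, Φ ((1 : ℚ) ⊗ₜ[ℤ] x) = KGr.chK P d x) ∧ Function.Bijective Φ := by
  exact Groth.Agent.H22Alg.LamChern.bijective_gr hK d hd

end Groth.Agent.S3794
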