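import Groth.Statements.S3795
import Mathlib
import Groth.Agent.S3292
import Groth.Agent.H27Lambda.Splitting

set_option autoImplicit false
universe v u
open CategoryTheory CategoryTheory.Limits AlgebraicGeometry
attribute [local instance] HasDerivedCategory.standard
open KRR

namespace Groth.Agent.S3795

/-- Let K be a λ-ring with positive structure having the splitting property, j ≥ 2, n ≥ 0 and x ∈ K. If
ψ^j(x) - j^n x lies in ℚF^{n+1} (some positive multiple lies in F^{n+1}, γ-filtration), then x lies
in ℚF^n (some positive multiple of x lies in F^n). -/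
theorem result (K : Type v) [CommRing K] [LambdaRing.LambdaOps K] (P : LambdaRing.PosStructure K) (hK : LambdaRing.HasSplitting K P) (j : ℕ) (hj : 2 ≤ j) (n : ℕ) (x : K)
    (hx : ∃ N : ℕ, 1 ≤ N ∧ (N : K) * (LambdaRing.adams P j x - (j : K) ^ n * x) ∈ LambdaRing.gammaFiltration P (n + 1)) :
    ∃ N : ℕ, 1 ≤ N ∧ (N : K) * x ∈ LambdaRing.gammaFiltration P n := by
  classical
  obtain ⟨N, hN1, hN⟩ := hx
  suffices h : ∀ k, k ≤ n → ∃ M : ℕ, 1 ≤ M ∧ (M : K) * x ∈ LambdaRing.gammaFiltration P k from h n le_rfl
  intro k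
  induction k with
  | zero => intro _; exact ⟨1, le_rfl, by simp [LambdaRing.gammaFiltration]⟩
  | succ k ih =>
    intro hk
    obtain ⟨M, hM1, hM⟩ := ih (by omega)
    have h1 := Groth.Agent.S3292.result K P hK j (by omega) k _ hM
    have hjk : j ^ k < j ^ n := Nat.pow_lt_pow_right (by omega) hk
    refine ⟨N * M * (j ^ n - j ^ k), Nat.one_le_iff_ne_zero.2 (by
      have : 0 < j ^ n - j ^ k := by omega
      positivity), ?_⟩
    rw [Groth.Agent.H27Lambda.gammaFiltration_eq] at h1 ⊢
    have h2 : (N : K) * (LambdaRing.adams P j x - (j : K) ^ n * x) ∈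
        LambdaRing.gammaFil P.aug (k + 1) := by
      rw [Groth.Agent.H27Lambda.gammaFiltration_eq] at hN
      exact Groth.Agent.H27Lambda.gammaFil_antitone _ (by omega) hN
    have h3 : LambdaRing.adams P j ((M : K) * x) = (M : K) * LambdaRing.adams P j x := by
      rw [← nsmul_eq_mul, ← nsmul_eq_mul, ← Groth.Agent.H27Lambda.adamsHom_apply, map_nsmul,
        Groth.Agent.H27Lambda.adamsHom_apply]
    rw [h3] at h1
    have h4 := Ideal.sub_mem _ (Ideal.mul_mem_left _ (N : K) h1) (Ideal.mul_mem_left _ (M : K) h2)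
    convert h4 using 1
    push_cast [Nat.cast_sub hjk.le]
    ring

end Groth.Agent.S3795
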