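import Groth.Statements.S3798
import Groth.Agent.H22Alg.KReg
import Mathlib

set_option autoImplicit false
universe v u
open CategoryTheory CategoryTheory.Limits AlgebraicGeometry
attribute [local instance] HasDerivedCategory.standard
open KRR

namespace Groth.Agent.S3798

/-- Let Y be a connected Noetherian scheme, p : P^n_Y ⟶ Y, and (KP, PP, φP), (KY, PY, φY) models of
K(P^n_Y), K(Y). Then there is a unique additive map g : K(P^n_Y) ⟶ K(Y) with g[F] = [p_* F] for
every finite locally free F which is regular relative to p (the push-forward p_K). -/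
theorem result (n : ℕ) (Y : Scheme.{u}) [IsNoetherian Y] [ConnectedSpace ↥Y]
    (KP : Type v) [CommRing KP] [LambdaRing.LambdaOps KP] (PP : LambdaRing.PosStructure KP) (φP : SGA6.Kvb (KRR.PY n Y) →+ KP) (hKP : KRR.IsModel (KRR.PY n Y) KP PP φP)
    (KY : Type v) [CommRing KY] [LambdaRing.LambdaOps KY] (PY : LambdaRing.PosStructure KY) (φY : SGA6.Kvb Y →+ KY) (hKY : KRR.IsModel Y KY PY φY) :
    ∃! g : KP →+ KY, KRR.IsPushPr n Y φP φY g := by
  obtain ⟨g, hg⟩ := Groth.Agent.H22Alg.KReg.exists_push n Y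
  have hb := Groth.Agent.H22Alg.KReg.bijective_incl (n := n) (Y := Y) (fun _ h => h.1)
  let e : SGA6.Kvb (KRR.PY n Y) ≃+ KP := AddEquiv.ofBijective φP hKP.bijective
  refine ⟨φY.comp (g.comp e.symm.toAddMonoidHom), fun F hF hreg => ?_, fun g' hg' => ?_⟩
  · show φY (g (e.symm (e (KRR.cl _ F)))) = _
    rw [e.symm_apply_apply, hg F hF hreg]
  · refine AddMonoidHom.ext fun x => ?_
    obtain ⟨y, rfl⟩ := hKP.bijective.2 x
    obtain ⟨z, rfl⟩ := hb.2 y
    have h : (g'.comp φP).comp (Groth.Agent.H22Alg.KReg.incl n Y fun _ h => h.1) =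
        ((φY.comp (g.comp e.symm.toAddMonoidHom)).comp φP).comp (Groth.Agent.H22Alg.KReg.incl n Y fun _ h => h.1) := by
      refine Groth.Agent.H22Alg.KReg.clSub_ext fun M hM => ?_
      simp only [AddMonoidHom.comp_apply, Groth.Agent.H22Alg.KReg.incl_cls (fun _ h => h.1) hM]
      rw [hg' M hM.1 hM.2]
      show _ = φY (g (e.symm (e (KRR.cl _ M))))
      rw [e.symm_apply_apply, hg M hM.1 hM.2]
    exact DFunLike.congr_fun h z

end Groth.Agent.S3798
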