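import Groth.Statements.S3799
import Groth.Agent.H22Alg.KPushCl
import Mathlib

set_option autoImplicit false
universe v u
open CategoryTheory CategoryTheory.Limits AlgebraicGeometry
attribute [local instance] HasDerivedCategory.standard
open KRR

namespace Groth.Agent.S3799

/-- Let f : X ⟶ Y be a regular closed imbedding of connected Noetherian schemes, where every coherent
module on Y is a quotient of a finite locally free one, and (KX, PX, φX), (KY, PY, φY) models of
K(X), K(Y). Then there is a unique additive map h : K(X) ⟶ K(Y) such that h[F] = Σ_k (-1)^k [L_k]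
for every finite locally free F on X and every finite resolution L of f_* F by finite locally free
modules (the push-forward f_K). -/
theorem result {X Y : Scheme.{u}} (f : X ⟶ Y) (hf : Mor2.IsRegularClosedImmersion f)
    [IsNoetherian X] [ConnectedSpace ↥X] [IsNoetherian Y] [ConnectedSpace ↥Y] (hYe : KRR.HasEnoughLocFree Y)
    (KX : Type v) [CommRing KX] [LambdaRing.LambdaOps KX] (PX : LambdaRing.PosStructure KX) (φX : SGA6.Kvb X →+ KX) (hKX : KRR.IsModel X KX PX φX)
    (KY : Type v) [CommRing KY] [LambdaRing.LambdaOps KY] (PY : LambdaRing.PosStructure KY) (φY : SGA6.Kvb Y →+ KY) (hKY : KRR.IsModel Y KY PY φY) :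
    ∃! h : KX →+ KY, KRR.IsPushCl f φX φY h := by
  haveI := hf.1
  obtain ⟨g, hg⟩ := Groth.Agent.H22Alg.KPushCl.exists_pushCl f hYe hf
  let e : SGA6.Kvb X ≃+ KX := AddEquiv.ofBijective φX hKX.bijective
  refine ⟨φY.comp (g.comp e.symm.toAddMonoidHom), fun F hF n L π hL => ?_, fun g' hg' => ?_⟩
  · show φY (g (e.symm (e (KRR.cl X F)))) = _
    rw [e.symm_apply_apply, hg F hF n _ (Groth.Agent.H22Alg.KLFRes.val_of_isLFRes
      (Groth.Agent.H22Alg.KLFRes.ctxK hYe) hL (Groth.Agent.H22Alg.KPushCl.isCoh_push f hF))]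
    simp only [map_sum, map_zsmul]
  · refine AddMonoidHom.ext fun x => ?_
    obtain ⟨y, rfl⟩ := hKX.bijective.2 x
    have h : g'.comp φX = (φY.comp (g.comp e.symm.toAddMonoidHom)).comp φX := by
      refine Groth.Agent.H22Alg.KModel.kvb_ext fun F hF => ?_
      obtain ⟨m, a, ha⟩ := Groth.Agent.H22Alg.KPushCl.exists_val_push f hYe hf hF
      obtain ⟨n, L, π, hL⟩ := Groth.Agent.H22Alg.KLFRes.hasLFRes_of_val ha
      simp only [AddMonoidHom.comp_apply]
      rw [hg' F hF n L π hL]
      show _ = φY (g (e.symm (e (KRR.cl X F))))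
      rw [e.symm_apply_apply, hg F hF n _ (Groth.Agent.H22Alg.KLFRes.val_of_isLFRes
        (Groth.Agent.H22Alg.KLFRes.ctxK hYe) hL (Groth.Agent.H22Alg.KPushCl.isCoh_push f hF))]
      simp only [map_sum, map_zsmul]
    exact DFunLike.congr_fun h y

end Groth.Agent.S3799
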