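import Groth.Statements.S3802
import Mathlib
import Groth.Agent.H22Alg.LamCore

set_option autoImplicit false
universe v u
open CategoryTheory CategoryTheory.Limits AlgebraicGeometry
attribute [local instance] HasDerivedCategory.standard
open KRR

namespace Groth.Agent.S3802

/-- Let K be a λ-ring with positive structure having the splitting property, c positive with ε(c) = r +
1, and K_c = K[T]/(p_c) with generator ℓ, equipped with a λ-structure extending that of K with
λ^i(ℓ) = 0 for i ≥ 2 and a positive structure making K ⟶ K_c an extension with ℓ a line element and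
c - ℓ positive (when r ≥ 1), having the splitting property; let f : K_c ⟶ K be the associated
K-linear functional (f(ℓ^i) = σ^i(c) for i ≤ r). If z ∈ K_c satisfies z (1 - ℓ) = 0, then z = f(z) ·
λ_{-1}(c - ℓ), where λ_{-1}(c - ℓ) = Σ_{i ≤ r} (-1)^i λ^i(c - ℓ). -/
theorem result (K : Type v) [CommRing K] [LambdaRing.LambdaOps K] (P : LambdaRing.PosStructure K) (hK : LambdaRing.HasSplitting K P) (c : K) (hc : c ∈ P.pos) (r : ℕ) (hr : P.aug c = r + 1)
    (inst : LambdaRing.LambdaOps (AdjoinRoot (KRR.extPoly P c))) (Pc : @LambdaRing.PosStructure _ _ inst)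
    (hext : @LambdaRing.IsExtension K _ _ _ _ inst P Pc (AdjoinRoot.of (KRR.extPoly P c)))
    (hroot : ∀ i : ℕ, 2 ≤ i → @LambdaRing.LambdaOps.lam _ _ inst i (AdjoinRoot.root (KRR.extPoly P c)) = 0)
    (hline : @LambdaRing.PosStructure.IsLine _ _ inst Pc (AdjoinRoot.root (KRR.extPoly P c)))
    (hpos : 1 ≤ r → AdjoinRoot.of (KRR.extPoly P c) c - AdjoinRoot.root (KRR.extPoly P c) ∈ (@LambdaRing.PosStructure.pos _ _ inst Pc))
    (hsplit : @LambdaRing.HasSplitting _ _ inst Pc)
    (f : AdjoinRoot (KRR.extPoly P c) →ₗ[K] K)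
    (hf : ∀ i : ℕ, i ≤ r → f (AdjoinRoot.root (KRR.extPoly P c) ^ i) = KRR.sigma i c)
    (z : AdjoinRoot (KRR.extPoly P c)) (hz : z * (1 - AdjoinRoot.root (KRR.extPoly P c)) = 0) :
    z = AdjoinRoot.of (KRR.extPoly P c) (f z) *
      @KRR.lamAlt _ _ inst Pc (AdjoinRoot.of (KRR.extPoly P c) c - AdjoinRoot.root (KRR.extPoly P c)) := by
  haveI := Groth.Agent.H22Alg.LamCore.nontrivial_of_pos P
  have hm : (P.aug c).toNat = r + 1 := by rw [hr]; omega
  have hmon := Groth.Agent.H22Alg.LamCore.monic_extPoly (K := K) hm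
  have hdeg := Groth.Agent.H22Alg.LamCore.natDegree_extPoly (K := K) hm
  obtain ⟨g, hgdeg, hg⟩ := Groth.Agent.H22Alg.LamCore.exists_rep hm z
  -- g(T)(1 - T) is a constant multiple of p
  have hdvd : KRR.extPoly P c ∣ g * (1 - Polynomial.X) := by
    rw [← AdjoinRoot.mk_eq_zero, map_mul, hg, map_sub, map_one, AdjoinRoot.mk_X, hz]
  obtain ⟨q, hq⟩ := hdvd
  have hgle : g.natDegree ≤ r := by
    rcases eq_or_ne g 0 with rfl | h0
    · simp
    · exact Nat.lt_succ_iff.1 ((Polynomial.natDegree_lt_iff_degree_lt h0).2 hgdeg)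
  have hqc : q = Polynomial.C (q.coeff 0) := by
    refine Polynomial.eq_C_of_natDegree_eq_zero ?_
    by_contra hne
    have h1 : (KRR.extPoly P c * q).natDegree = r + 1 + q.natDegree := by
      rw [hmon.natDegree_mul' (fun h => hne (by simp [h])), hdeg]
    have h2 : (g * (1 - Polynomial.X)).natDegree ≤ r + 1 :=
      Polynomial.natDegree_mul_le.trans (Nat.add_le_add hgle
        ((Polynomial.natDegree_sub_le _ _).trans (by simp)))
    rw [hq] at h2
    omega
  set a : K := q.coeff 0
  set s : K := ∑ j ∈ Finset.range (r + 1 + 1), (-1 : K) ^ j * LambdaRing.LambdaOps.lam j c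
  have hquot : Groth.Agent.H22Alg.LamCore.quot P c r * (Polynomial.X - 1) =
      KRR.extPoly P c - Polynomial.C s := Groth.Agent.H22Alg.LamCore.quot_spec hm
  rw [hqc] at hq
  have hX : ((Polynomial.X : Polynomial K) - 1).Monic := by
    simpa using Polynomial.monic_X_sub_C (1 : K)
  have has : a * s = 0 := by
    have h1 := congrArg (Polynomial.eval (1 : K)) hq
    have h2 := congrArg (Polynomial.eval (1 : K)) hquot
    simp only [Polynomial.eval_mul, Polynomial.eval_sub, Polynomial.eval_one, Polynomial.eval_X,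
      Polynomial.eval_C, sub_self, mul_zero] at h1 h2
    linear_combination -h1 + a * h2
  have hgq : g = -(Polynomial.C a * Groth.Agent.H22Alg.LamCore.quot P c r) := by
    refine hX.isRegular.right ?_
    show g * (Polynomial.X - 1) = _ * (Polynomial.X - 1)
    have h3 : Polynomial.C a * Polynomial.C s = 0 := by rw [← map_mul, has, map_zero]
    linear_combination -hq + Polynomial.C a * hquot - h3
  have hlam : @KRR.lamAlt _ _ inst Pc (AdjoinRoot.of (KRR.extPoly P c) c - AdjoinRoot.root (KRR.extPoly P c)) =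
      AdjoinRoot.mk (KRR.extPoly P c) (Groth.Agent.H22Alg.LamCore.quot P c r) := by
    letI := inst
    have haug : Pc.aug (AdjoinRoot.of (KRR.extPoly P c) c - AdjoinRoot.root (KRR.extPoly P c)) = r := by
      rw [map_sub, hext.aug_comp, hline.2, hr]; ring
    rw [KRR.lamAlt, haug, Int.toNat_natCast, Groth.Agent.H22Alg.LamCore.quot, map_sum]
    refine Finset.sum_congr rfl fun i _ => ?_
    rw [Groth.Agent.H22Alg.LamCore.lam_sub_root inst (fun i x => (hext.isLambdaHom i x).symm) hroot, ← mul_assoc, ← mul_pow]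
    simp
  have hfq : f (AdjoinRoot.mk (KRR.extPoly P c) (Groth.Agent.H22Alg.LamCore.quot P c r)) = 1 := by
    simp only [Groth.Agent.H22Alg.LamCore.quot, map_sum, map_mul, map_pow, AdjoinRoot.mk_C,
      AdjoinRoot.mk_X]
    simp only [← map_pow (AdjoinRoot.of (KRR.extPoly P c)), ← map_mul (AdjoinRoot.of (KRR.extPoly P c)),
      Groth.Agent.H22Alg.LamCore.map_of_mul, Groth.Agent.H22Alg.LamCore.map_root_pow hc hm hf,
      Groth.Agent.H22Alg.LamCore.sum_sigma]
    simp
  rw [hlam, ← hg, hgq]
  simp only [map_neg, map_mul, AdjoinRoot.mk_C, Groth.Agent.H22Alg.LamCore.map_of_mul, hfq]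
  simp

end Groth.Agent.S3802
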