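import Groth.Statements.S3805
import Groth.Agent.H06DiffOp.PrincipalParts

set_option autoImplicit false
universe u
open scoped TensorProduct
open PP16

namespace Groth.Agent.S3805

/-- For an A-algebra B, the image of the principal-part map d^n : B → P^n_{B/A} generates P^n_{B/A} as a
B-module (for the B-module structure through the first factor). -/
theorem result (n : ℕ) (A B : Type u) [CommRing A] [CommRing B] [Algebra A B] :
    Submodule.span B (Set.range (PP16.dn n A B)) = ⊤ := by
  exact Groth.Agent.H06DiffOp.span_range_dn n A B

end Groth.Agent.S3805
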