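import Groth.Statements.S3806
import Groth.Agent.H06PP.BaseChange

set_option autoImplicit false
universe u
open scoped TensorProduct
attribute [local instance] PP16.mapAlgebra PP16.isScalarTower_mapAlgebra
open PP16

namespace Groth.Agent.S3806

/-- Let A → A' be a ring map, B an A-algebra and B' = B ⊗_A A'. Then the canonical map P^n_{B/A} ⊗_B B'
→ P^n_{B'/A'} induced by functoriality of principal parts is an isomorphism; that is, the square B →
P^n_{B/A}, B → B', with P^n_{B'/A'} in the corner, is a pushout of rings. -/
theorem result (n : ℕ) (A B A' B' : Type u) [CommRing A] [CommRing B] [Algebra A B]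
    [CommRing A'] [CommRing B'] [Algebra A' B'] [Algebra A A'] [Algebra B B'] [Algebra A B']
    [IsScalarTower A A' B'] [IsScalarTower A B B'] [Algebra.IsPushout A B A' B'] :
    Algebra.IsPushout B (PP16.P n A B) B' (PP16.P n A' B') := by
  letI : Algebra (PP16.P n A B) (B' ⊗[B] PP16.P n A B) := Algebra.TensorProduct.rightAlgebra
  exact H06PP.isPushout_of_isPushout (Q := B' ⊗[B] PP16.P n A B)

end Groth.Agent.S3806
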