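import Groth.Statements.S3807
import Groth.Agent.H06PP.BaseChange

set_option autoImplicit false
universe u
open scoped TensorProduct
attribute [local instance] PP16.mapAlgebra PP16.isScalarTower_mapAlgebra
open PP16

namespace Groth.Agent.S3807

/-- Let B be an A-algebra, S a multiplicative subset of B and B' = S⁻¹B. Then the canonical map
S⁻¹P^n_{B/A} → P^n_{B'/A} induced by functoriality is an isomorphism: P^n_{B'/A} is the localization
of P^n_{B/A} at the image of S. -/
theorem result (n : ℕ) (A B B' : Type u) [CommRing A] [CommRing B] [Algebra A B]
    [CommRing B'] [Algebra B B'] [Algebra A B'] [IsScalarTower A B B'] (S : Submonoid B) [IsLocalization S B'] :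
    IsLocalization (S.map (algebraMap B (PP16.P n A B))) (PP16.P n A B') := by
  letI : Algebra (PP16.P n A B) (B' ⊗[B] PP16.P n A B) := Algebra.TensorProduct.rightAlgebra
  exact (Algebra.isLocalization_iff_isPushout S B').mpr
    (H06PP.isLocalization_map S (Q := B' ⊗[B] PP16.P n A B))

end Groth.Agent.S3807
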