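import Groth.Statements.S3809
import Groth.Agent.H06PP.Basic

set_option autoImplicit false
universe u
open scoped TensorProduct
open PP16

namespace Groth.Agent.S3809

/-- Let A → B → C be ring maps. Then the canonical map P^n_{C/A} → P^n_{C/B} is surjective, and its
kernel is the ideal generated by the image, under the canonical map P^n_{B/A} → P^n_{C/A}, of the
augmentation ideal of P^n_{B/A}. -/
theorem result (n : ℕ) (A B C : Type u) [CommRing A] [CommRing B] [CommRing C]
    [Algebra A B] [Algebra B C] [Algebra A C] [IsScalarTower A B C] :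
    Function.Surjective (PP16.map n A C B C) ∧
      RingHom.ker (PP16.map n A C B C) = (PP16.augIdeal n A B).map (PP16.map n A B A C) := by
  classical
  have hs : Function.Surjective (PP16.map n A C B C) := H06PP.map_surjective n A C B C fun c => ⟨c, rfl⟩
  refine ⟨hs, ?_⟩
  let K := (PP16.augIdeal n A B).map (PP16.map n A B A C)
  have hmk : ∀ b : B, PP16.dn n A C (algebraMap B C b) - algebraMap C (PP16.P n A C) (algebraMap B C b) ∈ K := by
    intro b
    rw [← PP16.map_dn n A B A C, ← PP16.map_algebraMap n A B A C, ← map_sub]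
    exact Ideal.mem_map_of_mem _ (H06PP.dn_sub_mem n A B b)
  apply le_antisymm
  · refine (H06PP.ker_map_le (A' := B) (B' := C) (Q := PP16.P n A C ⧸ K) (fun c => ⟨c, rfl⟩) (Ideal.Quotient.mk K)
      ((Ideal.Quotient.mk K).comp (algebraMap C (PP16.P n A C)))
      ((Ideal.Quotient.mk K).comp (PP16.dn n A C).toRingHom) (fun b => rfl) (fun b => rfl)
      fun b => Ideal.Quotient.eq.mpr (hmk b)).trans ?_
    rw [Ideal.mk_ker]
  · rw [H06PP.augIdeal_eq_span, Ideal.map_span, Ideal.span_le]
    rintro _ ⟨_, ⟨b, rfl⟩, rfl⟩
    rw [SetLike.mem_coe, RingHom.mem_ker, map_sub, map_sub, PP16.map_dn, PP16.map_algebraMap,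
      PP16.map_dn, PP16.map_algebraMap, Algebra.algebraMap_self_apply, AlgHom.commutes,
      ← IsScalarTower.algebraMap_apply B C (PP16.P n B C), sub_self]

end Groth.Agent.S3809
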