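import Groth.Statements.S3810
import Groth.Agent.H06PP.Basic

set_option autoImplicit false
universe u
open scoped TensorProduct
open PP16

namespace Groth.Agent.S3810

/-- Let B be an A-algebra, K an ideal of B and C = B/K. Then the canonical map P^n_{B/A} → P^n_{C/A} is
surjective and its kernel is the ideal generated by the image of K under the structure map B →
P^n_{B/A} together with the image of K under the principal-part map d^n (the latter is an additive
subgroup, not a B-submodule, in general). -/
theorem result (n : ℕ) (A B : Type u) [CommRing A] [CommRing B] [Algebra A B]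
    (K : Ideal B) :
    Function.Surjective (PP16.map n A B A (B ⧸ K)) ∧
      RingHom.ker (PP16.map n A B A (B ⧸ K)) =
        K.map (algebraMap B (PP16.P n A B)) ⊔ K.map (PP16.dn n A B) := by
  classical
  have hs : Function.Surjective (PP16.map n A B A (B ⧸ K)) :=
    H06PP.map_surjective n A B A (B ⧸ K) Ideal.Quotient.mk_surjective
  refine ⟨hs, ?_⟩
  let J : Ideal (PP16.P n A B) := K.map (algebraMap B (PP16.P n A B)) ⊔ K.map (PP16.dn n A B)
  have hJ1 : ∀ b ∈ K, algebraMap B (PP16.P n A B) b ∈ J := fun b hb =>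
    Ideal.mem_sup_left (Ideal.mem_map_of_mem _ hb)
  have hJ2 : ∀ b ∈ K, PP16.dn n A B b ∈ J := fun b hb =>
    Ideal.mem_sup_right (Ideal.mem_map_of_mem _ hb)
  apply le_antisymm
  · refine (H06PP.ker_map_le (A' := A) (B' := B ⧸ K) (Q := PP16.P n A B ⧸ J) Ideal.Quotient.mk_surjective (Ideal.Quotient.mk J)
      (Ideal.Quotient.lift K ((Ideal.Quotient.mk J).comp (algebraMap B (PP16.P n A B)))
        fun b hb => Ideal.Quotient.eq_zero_iff_mem.mpr (hJ1 b hb))
      (Ideal.Quotient.lift K ((Ideal.Quotient.mk J).comp (PP16.dn n A B).toRingHom)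
        fun b hb => Ideal.Quotient.eq_zero_iff_mem.mpr (hJ2 b hb)) (fun b => rfl) (fun b => rfl)
      fun a => ?_).trans ?_
    · show Ideal.Quotient.mk J (PP16.dn n A B (algebraMap A B a)) =
        Ideal.Quotient.mk J (algebraMap B (PP16.P n A B) (algebraMap A B a))
      rw [AlgHom.commutes, ← IsScalarTower.algebraMap_apply A B (PP16.P n A B)]
    · rw [Ideal.mk_ker]
  · rw [sup_le_iff, Ideal.map_le_iff_le_comap, Ideal.map_le_iff_le_comap]
    constructor <;> intro b hb <;> rw [Ideal.mem_comap, RingHom.mem_ker]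
    · rw [PP16.map_algebraMap, Ideal.Quotient.algebraMap_eq, Ideal.Quotient.eq_zero_iff_mem.mpr hb,
        map_zero]
    · rw [PP16.map_dn, Ideal.Quotient.algebraMap_eq, Ideal.Quotient.eq_zero_iff_mem.mpr hb, map_zero]

end Groth.Agent.S3810
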