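import Groth.Statements.S3811
import Groth.Agent.H06PP.Basic

set_option autoImplicit false
universe u
open scoped TensorProduct
open PP16

namespace Groth.Agent.S3811

/-- Let B be an A-algebra with an A-algebra retraction g : B → A, and K the kernel of g. The composite
of d^n : B → P^n_{B/A} with the projection P^n_{B/A} → P^n_{B/A} / K P^n_{B/A} (base change of
P^n_{B/A} along g) is surjective with kernel K^(n+1); thus P^n_{B/A} ⊗_B A is identified with
B/K^(n+1), the class of d^n t corresponding to the class of t. -/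
theorem result (n : ℕ) (A B : Type u) [CommRing A] [CommRing B] [Algebra A B]
    (g : B →ₐ[A] A) :
    Function.Surjective ((Ideal.Quotient.mk ((RingHom.ker g).map (algebraMap B (PP16.P n A B)))).comp
        (PP16.dn n A B).toRingHom) ∧
      RingHom.ker ((Ideal.Quotient.mk ((RingHom.ker g).map (algebraMap B (PP16.P n A B)))).comp
        (PP16.dn n A B).toRingHom) = RingHom.ker g ^ (n + 1) := by
  classical
  let K := RingHom.ker g
  let L : Ideal (PP16.P n A B) := K.map (algebraMap B (PP16.P n A B))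
  let θ : B →+* PP16.P n A B ⧸ L := (Ideal.Quotient.mk L).comp (PP16.dn n A B).toRingHom
  have hK : ∀ b : B, b - algebraMap A B (g b) ∈ K := fun b => by
    show g (b - algebraMap A B (g b)) = 0
    rw [map_sub, AlgHom.commutes]
    exact sub_self _
  have hθA : ∀ b : B, Ideal.Quotient.mk L (algebraMap B (PP16.P n A B) b) = θ (algebraMap A B (g b)) := by
    intro b
    refine (Ideal.Quotient.eq.mpr ?_ : _ = Ideal.Quotient.mk L (algebraMap A (PP16.P n A B) (g b))).trans ?_
    · rw [IsScalarTower.algebraMap_apply A B (PP16.P n A B), ← map_sub]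
      exact Ideal.mem_map_of_mem _ (hK b)
    · exact congrArg (Ideal.Quotient.mk L) (AlgHom.commutes (PP16.dn n A B) (g b)).symm
  refine ⟨fun x => ?_, le_antisymm (fun t ht => ?_) ?_⟩
  · obtain ⟨x, rfl⟩ := Ideal.Quotient.mk_surjective x
    obtain ⟨x, rfl⟩ := Ideal.Quotient.mk_surjective x
    induction x using TensorProduct.induction_on with
    | zero => exact ⟨0, by simp⟩
    | add x y hx hy =>
      obtain ⟨a, ha⟩ := hx
      obtain ⟨b, hb⟩ := hy
      exact ⟨a + b, by rw [map_add, ha, hb, map_add, map_add]⟩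
    | tmul b c =>
      refine ⟨algebraMap A B (g b) * c, ?_⟩
      rw [H06PP.mk_tmul, map_mul (Ideal.Quotient.mk L), hθA, map_mul]
      rfl
  · letI alg : Algebra B (B ⧸ K ^ (n + 1)) :=
      RingHom.toAlgebra (R := B) (S := B ⧸ K ^ (n + 1))
        ((algebraMap A (B ⧸ K ^ (n + 1))).comp g.toRingHom)
    haveI : @IsScalarTower A B (B ⧸ K ^ (n + 1)) _ alg.toSMul _ :=
      @IsScalarTower.of_algebraMap_eq A B (B ⧸ K ^ (n + 1)) _ _ _ _ alg _ fun a => by
        show _ = algebraMap A (B ⧸ K ^ (n + 1)) (g (algebraMap A B a))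
        rw [AlgHom.commutes]
        rfl
    let δ : B →ₐ[A] (B ⧸ K ^ (n + 1)) := Ideal.Quotient.mkₐ A (K ^ (n + 1))
    let ψ := @H06PP.desc n A B _ _ _ (B ⧸ K ^ (n + 1)) _ _ alg _ δ (K.map (Ideal.Quotient.mk (K ^ (n + 1))))
      (by rw [← Ideal.map_pow, Ideal.map_quotient_self]) fun b => by
        show Ideal.Quotient.mk _ b - Ideal.Quotient.mk _ (algebraMap A B (g b)) ∈ _
        rw [← map_sub]
        exact Ideal.mem_map_of_mem _ (hK b)
    have hL : L ≤ RingHom.ker ψ.toRingHom := by
      rw [Ideal.map_le_iff_le_comap]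
      intro b hb
      show ψ (algebraMap B _ b) = 0
      rw [AlgHom.commutes]
      show algebraMap A (B ⧸ K ^ (n + 1)) (g b) = 0
      rw [show g b = 0 from hb, map_zero]
    have h0 : PP16.dn n A B t ∈ L := Ideal.Quotient.eq_zero_iff_mem.mp ht
    have h1 : ψ (PP16.dn n A B t) = 0 := hL h0
    rw [H06PP.desc_dn] at h1
    exact Ideal.Quotient.eq_zero_iff_mem.mp h1
  · refine H06PP.map_pow_eq_bot (n := n) (A := A) (Q := PP16.P n A B ⧸ L) (Ideal.Quotient.mk L) θ K
      fun b hb => ⟨_, H06PP.dn_sub_mem n A B b, ?_⟩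
    rw [map_sub, hθA, show g b = 0 from hb, map_zero, map_zero, sub_zero]
    rfl

end Groth.Agent.S3811
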