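import Groth.Statements.S3812
import Groth.Agent.H06PP.Basic

set_option autoImplicit false
universe u
open scoped TensorProduct
open PP16

namespace Groth.Agent.S3812

theorem aux {A : Type u} [CommRing A] {σ : Type u} (n : ℕ) {Q : Type u} [CommRing Q] [Algebra A Q]
    [Algebra (MvPolynomial σ A) Q] [IsScalarTower A (MvPolynomial σ A) Q]
    (p : MvPolynomial σ (MvPolynomial σ A) →ₐ[MvPolynomial σ A] Q) (hp : Function.Surjective p)
    (hker : RingHom.ker p.toRingHom =
      Ideal.span (Set.range (MvPolynomial.X : σ → MvPolynomial σ (MvPolynomial σ A))) ^ (n + 1)) :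
    ∃ e : PP16.P n A (MvPolynomial σ A) ≃ₐ[MvPolynomial σ A] Q, ∀ i : σ,
      e (PP16.dn n A (MvPolynomial σ A) (MvPolynomial.X i)) =
        p (MvPolynomial.C (MvPolynomial.X i : MvPolynomial σ A) + MvPolynomial.X i) := by
  classical
  let B := MvPolynomial σ A
  let R := MvPolynomial σ B
  let I : Ideal R := Ideal.span (Set.range (MvPolynomial.X : σ → R))
  let δ : B →ₐ[A] Q :=
    MvPolynomial.aeval fun i => p (MvPolynomial.C (MvPolynomial.X i : B) + MvPolynomial.X i)
  let N : Ideal Q := I.map p.toRingHom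
  have hN : N ^ (n + 1) = ⊥ := H06PP.map_pow_of_ker p.toRingHom I hker
  have hgen : ∀ b ∈ Set.range (MvPolynomial.X : σ → B), δ b - algebraMap B Q b ∈ N := by
    rintro _ ⟨i, rfl⟩
    rw [MvPolynomial.aeval_X, map_add, ← MvPolynomial.algebraMap_eq, AlgHom.commutes, add_sub_cancel_left]
    exact Ideal.mem_map_of_mem p.toRingHom (Ideal.subset_span ⟨i, rfl⟩)
  have hδ : ∀ b, δ b - algebraMap B Q b ∈ N :=
    H06PP.sub_mem_of_generators δ N MvPolynomial.adjoin_range_X hgen
  let θ₀ : R →ₐ[B] PP16.P n A B := MvPolynomial.aeval fun i =>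
    PP16.dn n A B (MvPolynomial.X i) - algebraMap B (PP16.P n A B) (MvPolynomial.X i)
  have hθI : ∀ x ∈ I, θ₀ x ∈ PP16.augIdeal n A B := fun x hx => by
    induction hx using Submodule.span_induction with
    | mem y hy =>
      obtain ⟨i, rfl⟩ := hy
      rw [MvPolynomial.aeval_X]
      exact H06PP.dn_sub_mem n A B _
    | zero => simp
    | add a b _ _ ha hb => rw [map_add]; exact add_mem ha hb
    | smul c a _ ha => rw [smul_eq_mul, map_mul]; exact Ideal.mul_mem_left _ _ ha
  have hθ : RingHom.ker p.toRingHom ≤ RingHom.ker θ₀.toRingHom :=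
    hker.le.trans (H06PP.pow_le_ker θ₀.toRingHom I hθI)
  let θ : Q →ₐ[B] PP16.P n A B := AlgHom.liftOfSurjective p hp θ₀ hθ
  have hθp : ∀ r, θ (p r) = θ₀ r := fun r => AlgHom.liftOfSurjective_apply ..
  have h1 : ∀ b, θ (δ b) = PP16.dn n A B b := fun b => AlgHom.congr_fun
    (show (θ.restrictScalars A).comp δ = PP16.dn n A B from MvPolynomial.algHom_ext fun i => by
      show θ (δ (MvPolynomial.X i)) = _
      rw [MvPolynomial.aeval_X, hθp, map_add, MvPolynomial.aeval_X, MvPolynomial.aeval_C, add_sub_cancel]) b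
  have hψ : (H06PP.desc δ N hN hδ).comp θ₀ = p := MvPolynomial.algHom_ext fun i => by
    rw [AlgHom.comp_apply, MvPolynomial.aeval_X, map_sub, H06PP.desc_dn, AlgHom.commutes,
      MvPolynomial.aeval_X, map_add, ← MvPolynomial.algebraMap_eq, AlgHom.commutes, add_sub_cancel_left]
  have h2 : (H06PP.desc δ N hN hδ).comp θ = AlgHom.id B Q := by
    refine AlgHom.ext fun q => ?_
    obtain ⟨q, rfl⟩ := hp q
    rw [AlgHom.comp_apply, hθp]
    exact AlgHom.congr_fun hψ q
  refine ⟨H06PP.equivOfInverse δ N hN hδ θ h1 h2, fun i => ?_⟩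
  rw [H06PP.equivOfInverse_dn, MvPolynomial.aeval_X]

/-- Let B = A[T_i] be a polynomial algebra. There is an isomorphism of B-algebras from P^n_{B/A} onto
B[U_i]/(U)^(n+1), where (U) is the ideal generated by the new indeterminates, sending the principal
part d^n T_i to the class of T_i + U_i for every i (so d^n F(T) goes to the class of F(T + U)). -/
theorem result (n : ℕ) (A : Type u) [CommRing A] (σ : Type u) :
    ∃ e : PP16.P n A (MvPolynomial σ A) ≃ₐ[MvPolynomial σ A]
        (MvPolynomial σ (MvPolynomial σ A) ⧸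
          Ideal.span (Set.range (MvPolynomial.X : σ → MvPolynomial σ (MvPolynomial σ A))) ^ (n + 1)),
      ∀ i : σ, e (PP16.dn n A (MvPolynomial σ A) (MvPolynomial.X i)) =
        Ideal.Quotient.mk _ (MvPolynomial.C (MvPolynomial.X i : MvPolynomial σ A) +
          (MvPolynomial.X i : MvPolynomial σ (MvPolynomial σ A))) := by
  exact aux (A := A) (σ := σ) n
    (Q := MvPolynomial σ (MvPolynomial σ A) ⧸
      Ideal.span (Set.range (MvPolynomial.X : σ → MvPolynomial σ (MvPolynomial σ A))) ^ (n + 1))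
    (Ideal.Quotient.mkₐ (MvPolynomial σ A) _) Ideal.Quotient.mk_surjective Ideal.mk_ker

end Groth.Agent.S3812
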