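import Groth.Statements.S3813
import Groth.Agent.H06PP.Basic

set_option autoImplicit false
universe u
open scoped TensorProduct
open PP16

namespace Groth.Agent.S3813

theorem adjoin_range_ι {A : Type u} [CommRing A] {E : Type u} [AddCommGroup E] [Module A E] :
    Algebra.adjoin A (Set.range (SymmetricAlgebra.ι A E)) = ⊤ :=
  eq_top_iff.mpr fun x _ => by
    induction x using SymmetricAlgebra.induction with
    | algebraMap r => exact Subalgebra.algebraMap_mem _ r
    | ι x => exact Algebra.subset_adjoin ⟨x, rfl⟩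
    | mul a b ha hb => exact mul_mem (ha trivial) (hb trivial)
    | add a b ha hb => exact add_mem (ha trivial) (hb trivial)

theorem eq_of_ι {A : Type u} [CommRing A] {E : Type u} [AddCommGroup E] [Module A E]
    {Q : Type u} [CommRing Q] [Algebra A Q] {f g : SymmetricAlgebra A E →ₐ[A] Q}
    (h : ∀ t, f (SymmetricAlgebra.ι A E t) = g (SymmetricAlgebra.ι A E t)) : f = g :=
  SymmetricAlgebra.algHom_ext (LinearMap.ext h)

theorem aux {A : Type u} [CommRing A] {E : Type u} [AddCommGroup E] [Module A E] (n : ℕ)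
    {C : Type u} [CommRing C] [Algebra A C] (p : SymmetricAlgebra A E →ₐ[A] C)
    (hp : Function.Surjective p)
    (hker : RingHom.ker p.toRingHom = RingHom.ker (SymmetricAlgebra.lift (0 : E →ₗ[A] A)) ^ (n + 1)) :
    ∃ e : PP16.P n A (SymmetricAlgebra A E) ≃ₐ[SymmetricAlgebra A E] (SymmetricAlgebra A E ⊗[A] C),
      ∀ t : E, e (PP16.dn n A (SymmetricAlgebra A E) (SymmetricAlgebra.ι A E t)) =
        SymmetricAlgebra.ι A E t ⊗ₜ 1 + 1 ⊗ₜ p (SymmetricAlgebra.ι A E t) := by
  classical
  let B := SymmetricAlgebra A E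
  let K : Ideal B := RingHom.ker (SymmetricAlgebra.lift (0 : E →ₗ[A] A))
  let Q := B ⊗[A] C
  let r : B →ₐ[A] Q := (Algebra.TensorProduct.includeRight : C →ₐ[A] Q).comp p
  let δ : B →ₐ[A] Q := SymmetricAlgebra.lift (A := Q)
    ((Algebra.TensorProduct.includeLeft : B →ₐ[A] Q).toLinearMap ∘ₗ SymmetricAlgebra.ι A E +
      r.toLinearMap ∘ₗ SymmetricAlgebra.ι A E)
  have hδι : ∀ t : E, δ (SymmetricAlgebra.ι A E t) =
      SymmetricAlgebra.ι A E t ⊗ₜ 1 + 1 ⊗ₜ p (SymmetricAlgebra.ι A E t) := fun t => by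
    rw [SymmetricAlgebra.lift_ι_apply]
    rfl
  let N : Ideal Q := (K.map p.toRingHom).map (Algebra.TensorProduct.includeRight : C →ₐ[A] Q).toRingHom
  have hN : N ^ (n + 1) = ⊥ := by
    rw [← Ideal.map_pow, H06PP.map_pow_of_ker p.toRingHom K hker, Ideal.map_bot]
  have hKι : ∀ t : E, SymmetricAlgebra.ι A E t ∈ K := fun t => by
    rw [RingHom.mem_ker, SymmetricAlgebra.lift_ι_apply]
    rfl
  have hgen : ∀ b ∈ Set.range (SymmetricAlgebra.ι A E), δ b - algebraMap B Q b ∈ N := by
    rintro _ ⟨t, rfl⟩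
    rw [hδι, Algebra.TensorProduct.algebraMap_apply, Algebra.algebraMap_self_apply, add_sub_cancel_left]
    exact Ideal.mem_map_of_mem (Algebra.TensorProduct.includeRight : C →ₐ[A] Q).toRingHom
      (Ideal.mem_map_of_mem _ (hKι t))
  have hδ : ∀ b, δ b - algebraMap B Q b ∈ N :=
    H06PP.sub_mem_of_generators δ N adjoin_range_ι hgen
  let ρ : B →ₐ[A] PP16.P n A B := SymmetricAlgebra.lift (A := PP16.P n A B)
    ((PP16.dn n A B).toLinearMap ∘ₗ SymmetricAlgebra.ι A E -
      (IsScalarTower.toAlgHom A B (PP16.P n A B)).toLinearMap ∘ₗ SymmetricAlgebra.ι A E)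
  have hρι : ∀ t : E, ρ (SymmetricAlgebra.ι A E t) = PP16.dn n A B (SymmetricAlgebra.ι A E t) -
      algebraMap B (PP16.P n A B) (SymmetricAlgebra.ι A E t) := fun t => by
    rw [SymmetricAlgebra.lift_ι_apply]
    rfl
  have hρK : ∀ b ∈ K, ρ b ∈ PP16.augIdeal n A B := by
    intro b hb
    let ε : B →ₐ[A] A := SymmetricAlgebra.lift (0 : E →ₗ[A] A)
    have key : ∀ x, ρ x - algebraMap A (PP16.P n A B) (ε x) ∈ PP16.augIdeal n A B := by
      intro x
      induction x using SymmetricAlgebra.induction with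
      | algebraMap r =>
        show ρ (algebraMap A B r) - algebraMap A _ (ε (algebraMap A B r)) ∈ _
        rw [AlgHom.commutes, AlgHom.commutes, Algebra.algebraMap_self_apply, sub_self]
        exact zero_mem _
      | ι t =>
        rw [hρι, SymmetricAlgebra.lift_ι_apply, LinearMap.zero_apply, map_zero, sub_zero]
        exact H06PP.dn_sub_mem n A B _
      | mul a c ha hc =>
        rw [map_mul, map_mul, map_mul,
          show ρ a * ρ c - algebraMap A _ (ε a) * algebraMap A _ (ε c) = (ρ a - algebraMap A _ (ε a)) * ρ c +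
            algebraMap A (PP16.P n A B) (ε a) * (ρ c - algebraMap A _ (ε c)) by ring]
        exact add_mem (Ideal.mul_mem_right _ _ ha) (Ideal.mul_mem_left _ _ hc)
      | add a c ha hc => rw [map_add, map_add, map_add, add_sub_add_comm]; exact add_mem ha hc
    have := key b
    rwa [show ε b = 0 from hb, map_zero, sub_zero] at this
  have hρn : RingHom.ker p.toRingHom ≤ RingHom.ker ρ.toRingHom :=
    hker.le.trans (H06PP.pow_le_ker ρ.toRingHom K hρK)
  let ρ' : C →ₐ[A] PP16.P n A B := AlgHom.liftOfSurjective p hp ρ hρn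
  have hρ' : ∀ b, ρ' (p b) = ρ b := fun b => AlgHom.liftOfSurjective_apply ..
  let θ : Q →ₐ[B] PP16.P n A B :=
    Algebra.TensorProduct.lift (Algebra.ofId B _) ρ' fun _ _ => Commute.all _ _
  have h1 : ∀ b, θ (δ b) = PP16.dn n A B b := fun b => AlgHom.congr_fun
    (show (θ.restrictScalars A).comp δ = PP16.dn n A B from
      eq_of_ι (fun t => by
        show θ (δ (SymmetricAlgebra.ι A E t)) = _
        rw [hδι, map_add, Algebra.TensorProduct.lift_tmul, Algebra.TensorProduct.lift_tmul, map_one,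
          map_one, mul_one, one_mul, hρ', hρι, Algebra.ofId_apply, add_sub_cancel])) b
  have h2 : (H06PP.desc δ N hN hδ).comp θ = AlgHom.id B Q := by
    have hC : (((H06PP.desc δ N hN hδ).comp θ).restrictScalars A).comp
        (Algebra.TensorProduct.includeRight : C →ₐ[A] Q) = Algebra.TensorProduct.includeRight := by
      refine AlgHom.ext fun c => ?_
      obtain ⟨c, rfl⟩ := hp c
      refine AlgHom.congr_fun (show ((((H06PP.desc δ N hN hδ).comp θ).restrictScalars A).comp
        (Algebra.TensorProduct.includeRight : C →ₐ[A] Q)).comp p = r from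
          eq_of_ι (fun t => ?_)) c
      show H06PP.desc δ N hN hδ (θ ((1 : B) ⊗ₜ p (SymmetricAlgebra.ι A E t))) =
        (1 : B) ⊗ₜ p (SymmetricAlgebra.ι A E t)
      rw [Algebra.TensorProduct.lift_tmul, map_one, one_mul, hρ', hρι, map_sub, H06PP.desc_dn,
        AlgHom.commutes, hδι, Algebra.TensorProduct.algebraMap_apply, Algebra.algebraMap_self_apply,
        add_sub_cancel_left]
    exact Algebra.TensorProduct.ext (Subsingleton.elim _ _) hC
  refine ⟨H06PP.equivOfInverse δ N hN hδ θ h1 h2, fun t => ?_⟩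
  rw [H06PP.equivOfInverse_dn, hδι]

/-- Let E be an A-module, B = Sym_A(E) its symmetric algebra and K the augmentation ideal of B (the
kernel of the A-algebra map B → A killing E). For every n there is an isomorphism of B-algebras from
P^n_{B/A} onto B ⊗_A (B/K^(n+1)) sending the principal part d^n t of an element t of E to t ⊗ 1 + 1
⊗ (class of t). -/
theorem result (n : ℕ) (A : Type u) [CommRing A] (E : Type u) [AddCommGroup E]
    [Module A E] :
    ∃ e : PP16.P n A (SymmetricAlgebra A E) ≃ₐ[SymmetricAlgebra A E]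
        (SymmetricAlgebra A E ⊗[A] (SymmetricAlgebra A E ⧸
          RingHom.ker (SymmetricAlgebra.lift (0 : E →ₗ[A] A)) ^ (n + 1))),
      ∀ t : E, e (PP16.dn n A (SymmetricAlgebra A E) (SymmetricAlgebra.ι A E t)) =
        SymmetricAlgebra.ι A E t ⊗ₜ 1 + 1 ⊗ₜ Ideal.Quotient.mk _ (SymmetricAlgebra.ι A E t) := by
  exact aux (A := A) (E := E) n
    (C := SymmetricAlgebra A E ⧸ RingHom.ker (SymmetricAlgebra.lift (0 : E →ₗ[A] A)) ^ (n + 1))
    (Ideal.Quotient.mkₐ A _) Ideal.Quotient.mk_surjective Ideal.mk_ker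

end Groth.Agent.S3813
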