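import Groth.Statements.S3816
import Groth.Agent.H06PP.Monomials

set_option autoImplicit false
universe u
open scoped TensorProduct
open scoped BigOperators
open PP16

namespace Groth.Agent.S3816

open Groth.Agent.H06PP

theorem qr_of_diffSmooth {A B : Type u} [CommRing A] [CommRing B] [Algebra A B] {ι : Type} {z : ι → B}
    (hB : PP16.IsDiffSmooth A B) (b : Module.Basis ι B (KaehlerDifferential A B))
    (hb : ∀ i, b i = KaehlerDifferential.D A B (z i)) : Monomials.QR A z :=
  Monomials.qr_of_basis z b hb fun ι _ => Graded.phi_injective_of_isDiffSmooth hB ι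

theorem span_top {A B : Type u} [CommRing A] [CommRing B] [Algebra A B] {ι : Type} {z : ι → B}
    (b : Module.Basis ι B (KaehlerDifferential A B))
    (hb : ∀ i, b i = KaehlerDifferential.D A B (z i)) :
    Submodule.span B (Set.range fun i => KaehlerDifferential.D A B (z i)) = ⊤ := by
  rw [← funext hb]; exact b.span_eq

theorem dual_of_basis {A B : Type u} [CommRing A] [CommRing B] [Algebra A B] {ι : Type} [Fintype ι]
    [DecidableEq ι] {z : ι → B}
    (hz : Submodule.span B (Set.range fun i => KaehlerDifferential.D A B (z i)) = ⊤)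
    (hqr : Monomials.QR A z) (p : ι → ℕ) :
    ∃ D : B →ₗ[A] B, (∃ k, Diff16.IsDiffOpLE A B B B k D) ∧ ∀ q : ι → ℕ, D (∏ i, z i ^ q i) =
      ((∏ i, Nat.choose (q i) (p i) : ℕ) : B) * ∏ i, z i ^ (q i - p i) := by
  classical
  let m := ∑ i, p i
  obtain ⟨c, hc⟩ := Monomials.exists_basis_pp hz hqr m
  let π : B ⊗[A] B →ₗ[B] B := (c.coord ⟨p, le_rfl⟩) ∘ₗ (Ideal.Quotient.mkₐ B _).toLinearMap
  let D : B →ₗ[A] B :=
    π.restrictScalars A ∘ₗ (Algebra.TensorProduct.includeRight : B →ₐ[A] B ⊗[A] B).toLinearMap
  have hlin : ∀ x, Diff16.linearize A B B B D x = π x := by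
    intro x
    induction x using TensorProduct.induction_on with
    | zero => simp
    | tmul a b =>
      rw [H06DiffOp.linearize_tmul]
      show a • π ((1 : B) ⊗ₜ b) = π (a ⊗ₜ b)
      rw [← map_smul, TensorProduct.smul_tmul', smul_eq_mul, mul_one]
    | add x y hx hy => rw [map_add, map_add, hx, hy]
  refine ⟨D, ⟨m, (H06DiffOp.diffOp_iff_linearize_vanish m D).mpr fun x hx => ?_⟩, fun q => ?_⟩
  · rw [hlin]
    show c.coord _ (Ideal.Quotient.mk _ x) = 0
    rw [Ideal.Quotient.eq_zero_iff_mem.mpr hx, map_zero]
  · show π ((1 : B) ⊗ₜ[A] (∏ i, z i ^ q i)) = _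
    rw [← Monomials.ev_shift_monomial (A := A) z q, ← Monomials.coeff_shift_monomial z p q]
    refine LinearMap.congr_fun (f := π ∘ₗ (Monomials.ev A z).toLinearMap)
      (g := MvPolynomial.lcoeff B (Finsupp.equivFunOnFinite.symm p)) ?_ _
    refine LinearMap.ext fun f => ?_
    induction f using MvPolynomial.induction_on' with
    | add a b ha hb => rw [map_add, map_add, ha, hb]
    | monomial d r =>
      rw [← mul_one r, ← smul_eq_mul, ← MvPolynomial.smul_monomial, map_smul, map_smul]
      refine congrArg (r • ·) ?_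
      show c.coord ⟨p, le_rfl⟩ (Ideal.Quotient.mk _ (Monomials.ev A z (MvPolynomial.monomial d 1))) =
        MvPolynomial.coeff (Finsupp.equivFunOnFinite.symm p) (MvPolynomial.monomial d 1)
      by_cases hd : ∑ i, d i ≤ m
      · have e := hc ⟨d, hd⟩
        rw [Finsupp.equivFunOnFinite_symm_coe] at e
        rw [← e, Module.Basis.coord_apply, Module.Basis.repr_self, Finsupp.single_apply,
          MvPolynomial.coeff_monomial]
        refine if_congr ?_ rfl rfl
        rw [Subtype.ext_iff]
        exact ⟨fun h => DFunLike.coe_injective (h.trans (Finsupp.coe_equivFunOnFinite_symm p).symm),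
          fun h => (congrArg (fun v : ι →₀ ℕ => (v : ι → ℕ)) h).trans (Finsupp.coe_equivFunOnFinite_symm p)⟩
      · rw [Ideal.Quotient.eq_zero_iff_mem.mpr (Ideal.pow_le_pow_right (by omega)
          (Monomials.ev_mem z (Monomials.isHomogeneous_mem
            (MvPolynomial.isHomogeneous_monomial _ (Finsupp.degree_eq_sum d))))), map_zero,
          MvPolynomial.coeff_monomial, if_neg]
        intro h
        exact hd (by rw [h, Finsupp.coe_equivFunOnFinite_symm])


/-- a) iff b) (affine form, finite family): let B be an A-algebra and z_1, …, z_r elements of B whose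
differentials generate the module of differentials of B over A. The following are equivalent: (a) B
is differentially smooth over A and (dz_i) is a basis of the module of differentials; (b) there is a
family (D_p), indexed by multi-indices p, of differential operators B → B (each of some finite
order) with D_p(z^q) = (∏ binom(q_i, p_i)) z^(q-p) for all p, q. -/
theorem result (A B : Type u) [CommRing A] [CommRing B]
    [Algebra A B] (ι : Type) [Fintype ι] [DecidableEq ι] (z : ι → B)
    (hz : Submodule.span B (Set.range fun i => KaehlerDifferential.D A B (z i)) = ⊤) :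
    (PP16.IsDiffSmooth A B ∧
        ∃ b : Module.Basis ι B (KaehlerDifferential A B), ∀ i, b i = KaehlerDifferential.D A B (z i)) ↔
      ∃ Dp : (ι → ℕ) → (B →ₗ[A] B),
        (∀ p, ∃ k : ℕ, Diff16.IsDiffOpLE A B B B k (Dp p)) ∧
        ∀ p q : ι → ℕ, Dp p (∏ i, z i ^ q i) =
          ((∏ i, Nat.choose (q i) (p i) : ℕ) : B) * ∏ i, z i ^ (q i - p i) := by
  constructor
  · rintro ⟨hB, b, hb⟩
    choose Dp hk hD using dual_of_basis hz (qr_of_diffSmooth hB b hb)
    exact ⟨Dp, hk, hD⟩
  · rintro ⟨Dp, hk, hD⟩
    have hqr := Monomials.qr_of_dual hz Dp hk hD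
    obtain ⟨b, hb⟩ := Monomials.basis_of_qr hz hqr
    exact ⟨Graded.isDiffSmooth_of_injective (Module.Projective.of_basis b)
      fun ι _ => Monomials.phi_injective_of_qr z b hb hqr ι, b, hb⟩

end Groth.Agent.S3816
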