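import Groth.Statements.S3817
import Groth.Agent.H06PP.Monomials

set_option autoImplicit false
universe u
open scoped TensorProduct
open scoped BigOperators
open PP16

namespace Groth.Agent.S3817

open Groth.Agent.H06PP

theorem qr_of_diffSmooth {A B : Type u} [CommRing A] [CommRing B] [Algebra A B] {ι : Type} {z : ι → B}
    (hB : PP16.IsDiffSmooth A B) (b : Module.Basis ι B (KaehlerDifferential A B))
    (hb : ∀ i, b i = KaehlerDifferential.D A B (z i)) : Monomials.QR A z :=
  Monomials.qr_of_basis z b hb fun ι _ => Graded.phi_injective_of_isDiffSmooth hB ι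

theorem span_top {A B : Type u} [CommRing A] [CommRing B] [Algebra A B] {ι : Type} {z : ι → B}
    (b : Module.Basis ι B (KaehlerDifferential A B))
    (hb : ∀ i, b i = KaehlerDifferential.D A B (z i)) :
    Submodule.span B (Set.range fun i => KaehlerDifferential.D A B (z i)) = ⊤ := by
  rw [← funext hb]; exact b.span_eq

/-- (Affine form, finite family.) Let B be an A-algebra which is differentially smooth over A and (z_i)
a finite family of elements of B whose differentials form a basis of the module of differentials
Ω_{B/A}. Then for every m the monomials ζ^p with |p| ≤ m in the elements ζ_i = d^m z_i - z_i form a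
basis of the B-module P^m_{B/A} (first-factor structure); in particular the P^m are free of finite
rank. -/
theorem result (A B : Type u) [CommRing A] [CommRing B] [Algebra A B]
    (hB : PP16.IsDiffSmooth A B) (ι : Type) [Fintype ι] [DecidableEq ι] (z : ι → B)
    (hz : ∃ b : Module.Basis ι B (KaehlerDifferential A B), ∀ i, b i = KaehlerDifferential.D A B (z i)) (m : ℕ) :
    ∃ b : Module.Basis {p : ι → ℕ // ∑ i, p i ≤ m} B (PP16.P m A B),
      ∀ p, b p = ∏ i, (PP16.dn m A B (z i) - algebraMap B (PP16.P m A B) (z i)) ^ (p.1 i) := by
  obtain ⟨b, hb⟩ := hz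
  obtain ⟨c, hc⟩ := Monomials.exists_basis_pp (span_top b hb) (qr_of_diffSmooth hB b hb) m
  refine ⟨c, fun p => ?_⟩
  rw [hc, MvPolynomial.monomial_eq, map_one, one_mul, Finsupp.prod_fintype _ _ fun i => by simp,
    map_prod, map_prod]
  refine Finset.prod_congr rfl fun i _ => ?_
  rw [map_pow, map_pow, Finsupp.equivFunOnFinite_symm_apply_apply]
  refine congrArg (· ^ p.1 i) ?_
  show Ideal.Quotient.mk _ (MvPolynomial.aeval _ (MvPolynomial.X i)) = _
  rw [MvPolynomial.aeval_X, Graded.zeta, map_sub]
  rfl

end Groth.Agent.S3817
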