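import Groth.Statements.S3818
import Groth.Agent.H06PP.Monomials

set_option autoImplicit false
universe u
open scoped TensorProduct
open scoped BigOperators
open PP16

namespace Groth.Agent.S3818

open Groth.Agent.H06PP

theorem linB_sum {A B : Type u} [CommRing A] [CommRing B] [Algebra A B] {κ : Type*} (s : Finset κ)
    (c : κ → B) (E : κ → B →ₗ[A] B) (x : B ⊗[A] B) :
    Monomials.linB (∑ p ∈ s, c p • E p) x = ∑ p ∈ s, c p * Monomials.linB (E p) x := by
  induction x using TensorProduct.induction_on with
  | zero => simp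
  | tmul a b =>
    show Diff16.linearize A B B B _ (a ⊗ₜ b) = _
    rw [H06DiffOp.linearize_tmul, LinearMap.sum_apply, Finset.smul_sum]
    refine Finset.sum_congr rfl fun p _ => ?_
    show _ = c p * Diff16.linearize A B B B (E p) (a ⊗ₜ b)
    rw [H06DiffOp.linearize_tmul, LinearMap.smul_apply, smul_eq_mul, smul_eq_mul, smul_eq_mul]
    ring
  | add x y hx hy => simp only [map_add, hx, hy, mul_add, Finset.sum_add_distrib]

/-- Last assertion (affine form, finite family): let B be an A-algebra, z_1, …, z_r elements of B whose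
differentials generate the module of differentials, and (D_p) a family of differential operators B →
B (each of some finite order) with D_p(z^q) = (∏ binom(q_i, p_i)) z^(q-p). Then D_p has order at
most |p|, and every differential operator B → B of order at most m relative to A can be written in
exactly one way as a B-linear combination ∑_{|p| ≤ m} a_p D_p. -/
theorem result (A B : Type u) [CommRing A] [CommRing B] [Algebra A B]
    (ι : Type) [Fintype ι] [DecidableEq ι] (z : ι → B)
    (hz : Submodule.span B (Set.range fun i => KaehlerDifferential.D A B (z i)) = ⊤)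
    (Dp : (ι → ℕ) → (B →ₗ[A] B)) (hD : ∀ p, ∃ k : ℕ, Diff16.IsDiffOpLE A B B B k (Dp p))
    (hDz : ∀ p q : ι → ℕ, Dp p (∏ i, z i ^ q i) =
        ((∏ i, Nat.choose (q i) (p i) : ℕ) : B) * ∏ i, z i ^ (q i - p i)) :
    (∀ p, Diff16.IsDiffOpLE A B B B (∑ i, p i) (Dp p)) ∧
      ∀ (m : ℕ) (D : B →ₗ[A] B), Diff16.IsDiffOpLE A B B B m D →
        ∃! a : {p : ι → ℕ // ∑ i, p i ≤ m} →₀ B, D = a.sum fun p c => c • Dp p.1 := by
  classical
  refine ⟨fun p => Monomials.diffOp_order hz (hD p) (hDz p), fun m D hDm => ?_⟩
  rw [H06DiffOp.diffOp_iff_linearize_vanish] at hDm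
  let e : (p : {p : ι → ℕ // ∑ i, p i ≤ m}) → MvPolynomial ι B := fun p =>
    MvPolynomial.monomial (Finsupp.equivFunOnFinite.symm p.1) 1
  have hkey : ∀ (a : {p : ι → ℕ // ∑ i, p i ≤ m} →₀ B) (f : MvPolynomial ι B),
      Monomials.linB (a.sum fun p c => c • Dp p.1) (Monomials.ev A z f) =
        a.sum fun p c => c * f.coeff (Finsupp.equivFunOnFinite.symm p.1) := by
    intro a f
    rw [Finsupp.sum, Finsupp.sum, linB_sum]
    exact Finset.sum_congr rfl fun p _ => by rw [Monomials.linB_ev_eq_coeff (hDz p.1)]
  let fin : Fintype {p : ι → ℕ // ∑ i, p i ≤ m} :=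
    Fintype.ofInjective (fun p i => (⟨p.1 i, Nat.lt_succ_of_le ((Finset.single_le_sum
      (fun j _ => Nat.zero_le (p.1 j)) (Finset.mem_univ i)).trans p.2)⟩ : Fin (m + 1)))
      fun p q h => Subtype.ext (funext fun i => Fin.ext_iff.mp (congrFun h i))
  let a : {p : ι → ℕ // ∑ i, p i ≤ m} →₀ B :=
    Finsupp.equivFunOnFinite.symm fun p => Monomials.linB D (Monomials.ev A z (e p))
  have hcoeff : ∀ (a : {p : ι → ℕ // ∑ i, p i ≤ m} →₀ B) q,
      Monomials.linB (a.sum fun p c => c • Dp p.1) (Monomials.ev A z (e q)) = a q := by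
    intro a q
    rw [hkey, Finsupp.sum_fintype _ _ fun p => zero_mul _]
    simp only [e, MvPolynomial.coeff_monomial, Finsupp.equivFunOnFinite.symm.injective.eq_iff,
      Subtype.coe_inj, mul_ite, mul_one, mul_zero, Finset.sum_ite_eq, Finset.mem_univ, if_true]
  refine ⟨a, ?_, fun a' ha' => ?_⟩
  · refine LinearMap.ext fun b => ?_
    obtain ⟨f, -, hfb⟩ := Monomials.exists_reduce z hz (m + 1) (k := 0)
      (x := (1 : B) ⊗ₜ[A] b) (by simp)
    rw [zero_add] at hfb
    have hval : ∀ E : B →ₗ[A] B, Diff16.IsDiffOpLE A B B B m E →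
        E b = Monomials.linB E (Monomials.ev A z f) := by
      intro E hE
      have h := (H06DiffOp.diffOp_iff_linearize_vanish m E).mp hE _ hfb
      rw [map_sub, H06DiffOp.linearize_tmul, one_smul, sub_eq_zero] at h
      exact h
    have hsum : Diff16.IsDiffOpLE A B B B m (a.sum fun p c => c • Dp p.1) := by
      rw [H06DiffOp.diffOp_iff_linearize_vanish]
      intro x hx
      show Monomials.linB (a.sum fun p c => c • Dp p.1) x = 0
      rw [Finsupp.sum, linB_sum]
      refine Finset.sum_eq_zero fun p _ => ?_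
      rw [show Monomials.linB (Dp p.1) x = 0 from (H06DiffOp.diffOp_iff_linearize_vanish _ _).mp
        (Monomials.diffOp_order hz (hD p.1) (hDz p.1)) x (Ideal.pow_le_pow_right (by have := p.2; omega) hx),
        mul_zero]
    rw [hval D ((H06DiffOp.diffOp_iff_linearize_vanish m D).mpr hDm), hval _ hsum]
    clear hfb hval
    induction f using MvPolynomial.induction_on' with
    | add g g' hg hg' => rw [map_add, map_add, map_add, hg, hg']
    | monomial d r =>
      rw [← mul_one r, ← smul_eq_mul, ← MvPolynomial.smul_monomial, map_smul, map_smul, map_smul]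
      refine congrArg (r • ·) ?_
      by_cases hd : ∑ i, d i ≤ m
      · have h := hcoeff a ⟨d, hd⟩
        simp only [e, a, Finsupp.equivFunOnFinite_symm_coe, Finsupp.equivFunOnFinite_symm_apply_apply] at h ⊢
        exact h.symm
      · have hmem : Monomials.ev A z (MvPolynomial.monomial d 1) ∈
            (KaehlerDifferential.ideal A B) ^ (m + 1) :=
          Ideal.pow_le_pow_right (by omega) (Monomials.ev_mem z (Monomials.isHomogeneous_mem
            (MvPolynomial.isHomogeneous_monomial _ (Finsupp.degree_eq_sum d))))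
        rw [show Monomials.linB D (Monomials.ev A z (MvPolynomial.monomial d 1)) = 0 from hDm _ hmem]
        exact ((H06DiffOp.diffOp_iff_linearize_vanish m _).mp hsum (Monomials.ev A z (MvPolynomial.monomial d 1)) hmem).symm
  · subst ha'
    refine Finsupp.ext fun q => (hcoeff a' q).symm.trans ?_
    simp only [a, Finsupp.equivFunOnFinite_symm_apply_apply]

end Groth.Agent.S3818
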