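import Groth.Statements.S3820
import Groth.Agent.H06PP.Lifts

set_option autoImplicit false
universe u
open scoped TensorProduct
open PP16

namespace Groth.Agent.S3820

/-- Let B be an A-algebra which is formally smooth (for the discrete topologies). Then Spec B is
differentially smooth over Spec A: the module of differentials is projective and the canonical
surjections Sym^n(Ω_{B/A}) → I^n/I^(n+1) are bijective for all n. -/
theorem result (A B : Type u) [CommRing A] [CommRing B] [Algebra A B]
    [Algebra.FormallySmooth A B] : PP16.IsDiffSmooth A B := by
  refine H06PP.isDiffSmooth_of_lifts inferInstance fun k Q _ _ _ _ N L h => ?_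
  obtain ⟨s, p, hp, hker, rfl, rfl⟩ := h
  exact H06PP.exists_second_of_formallySmooth _ ⟨k + 1, H06PP.map_pow_of_ker p.toRingHom _ hker⟩ _
    fun ω => Ideal.mem_map_of_mem p.toRingHom (H06PP.lin_mem s ω)

end Groth.Agent.S3820
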