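import Groth.Statements.S3821
import Groth.Agent.H06PP.SmoothBaseChange

set_option autoImplicit false
universe u
open scoped TensorProduct
open PP16

namespace Groth.Agent.S3821

open Groth.Agent.H06PP

theorem aux {A B A' B' : Type u} [CommRing A] [CommRing B] [Algebra A B]
    [CommRing A'] [CommRing B'] [Algebra A' B'] [Algebra A A'] [Algebra B B'] [Algebra A B']
    [IsScalarTower A A' B'] [IsScalarTower A B B'] [Algebra.IsPushout A B A' B'] {ι : Type u} [Fintype ι]
    (k : ℕ) (h : PP16.IsDiffSmooth A B) {s : KaehlerDifferential A B →ₗ[B] KaehlerDifferential A B →₀ B}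
    (hs : Function.LeftInverse (Finsupp.linearCombination B id) s)
    (L : KaehlerDifferential A' B' →ₗ[B'] MvPolynomial (KaehlerDifferential A B) B')
    (hLD : ∀ b, L (KaehlerDifferential.D A' B' (algebraMap B B' b)) =
        MvPolynomial.map (algebraMap B B') (lin s (KaehlerDifferential.D A B b)))
    (hLmem : ∀ ω, L ω ∈ MvPolynomial.idealOfVars (KaehlerDifferential A B) B')
    (hinj : Function.Injective (SymPow.eval (ι := ι) L))
    (hhom : ∀ t, (SymPow.eval (ι := ι) L t).IsHomogeneous (Fintype.card ι))
    {Q : Type u} [CommRing Q] [Algebra B' Q] (p : MvPolynomial (KaehlerDifferential A B) B' →ₐ[B'] Q)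
    (hp : ∀ x, p x = 0 ↔ x ∈ MvPolynomial.idealOfVars (KaehlerDifferential A B) B' ^ (k + 1))
    (hk : k = Fintype.card ι) :
    Function.Injective (Graded.phi (A := A') (B := B') (ι := ι)) := by
  subst hk
  let _ : Algebra B Q := ((algebraMap B' Q).comp (algebraMap B B')).toAlgebra
  have : IsScalarTower B B' Q := .of_algebraMap_eq fun _ => rfl
  let _ : Algebra A' Q := ((algebraMap B' Q).comp (algebraMap A' B')).toAlgebra
  have : IsScalarTower A' B' Q := .of_algebraMap_eq fun _ => rfl
  let _ : Algebra A Q := ((algebraMap A' Q).comp (algebraMap A A')).toAlgebra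
  have : IsScalarTower A A' Q := .of_algebraMap_eq fun _ => rfl
  have : IsScalarTower A B Q := .of_algebraMap_eq fun a => by
    show algebraMap B' Q (algebraMap A' B' (algebraMap A A' a)) =
      algebraMap B' Q (algebraMap B B' (algebraMap A B a))
    rw [← IsScalarTower.algebraMap_apply A A' B', ← IsScalarTower.algebraMap_apply A B B']
  let J := MvPolynomial.idealOfVars (KaehlerDifferential A B) B'
  let pB : MvPolynomial (KaehlerDifferential A B) B →ₐ[B] Q :=
    { p.toRingHom.comp (MvPolynomial.map (algebraMap B B')) with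
      commutes' := fun b => by
        show p (MvPolynomial.map (algebraMap B B') (MvPolynomial.C b)) = algebraMap B' Q (algebraMap B B' b)
        rw [MvPolynomial.map_C, ← MvPolynomial.algebraMap_eq, AlgHom.commutes] }
  have hJ : (MvPolynomial.idealOfVars (KaehlerDifferential A B) B).map
      (MvPolynomial.map (algebraMap B B')) = J := by
    rw [MvPolynomial.idealOfVars, Ideal.map_span, ← Set.range_comp]
    refine congrArg Ideal.span (congrArg Set.range (funext fun i => ?_))
    exact MvPolynomial.map_X _ i
  have hker : MvPolynomial.idealOfVars _ B ^ (Fintype.card ι + 1) ≤ RingHom.ker pB.toRingHom := by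
    intro x hx
    refine (hp _).mpr ?_
    show _ ∈ J ^ _
    rw [← hJ, ← Ideal.map_pow]
    exact Ideal.mem_map_of_mem _ hx
  obtain ⟨δ₀, hδ₀⟩ := SmoothBC.exists_second_of_isDiffSmooth h _ s hs pB hker
  let N : Ideal Q := J.map p.toRingHom
  have hNB : (MvPolynomial.idealOfVars (KaehlerDifferential A B) B).map pB.toRingHom = N := by
    show Ideal.map _ _ = J.map p.toRingHom
    rw [← hJ, Ideal.map_map]
  have hkerp : RingHom.ker p.toRingHom = J ^ (Fintype.card ι + 1) :=
    Ideal.ext fun x => RingHom.mem_ker.trans (hp x)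
  obtain ⟨δ, hδ⟩ := SmoothBC.exists_second_pushout (A' := A') (B' := B') δ₀ N (p.toLinearMap ∘ₗ L)
    (fun ω => Ideal.mem_map_of_mem p.toRingHom (hLmem ω)) fun b => by
      have := hδ₀ b
      rw [hNB] at this
      show _ - p (L _) ∈ _
      rw [hLD]
      exact this
  refine Graded.phi_injective_of_second δ N (map_pow_of_ker p.toRingHom J hkerp) (p.toLinearMap ∘ₗ L)
    (fun ω => Ideal.mem_map_of_mem p.toRingHom (hLmem ω)) hδ ?_
  rw [SymPow.eval_comp]
  refine LinearMap.ker_eq_bot.mp ((Submodule.eq_bot_iff _).mpr fun t ht => ?_)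
  refine hinj ?_
  rw [eq_zero_of_homogeneous (hhom t) ((hp _).mp ht), map_zero]

/-- Let B be an A-algebra, A → A' a ring map and B' = B ⊗_A A'. If B is differentially smooth over A,
then B' is differentially smooth over A'. -/
theorem result (A B A' B' : Type u) [CommRing A] [CommRing B] [Algebra A B]
    [CommRing A'] [CommRing B'] [Algebra A' B'] [Algebra A A'] [Algebra B B'] [Algebra A B']
    [IsScalarTower A A' B'] [IsScalarTower A B B'] [Algebra.IsPushout A B A' B']
    (h : PP16.IsDiffSmooth A B) : PP16.IsDiffSmooth A' B' := by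
  have hP := h.1
  obtain ⟨s, hs⟩ := hP.out
  obtain ⟨L, hLD, hLmem, hLinj⟩ := SmoothBC.exists_baseChange_lin A' B' s hs
  have : Algebra.IsPushout A A' B B' := Algebra.IsPushout.symm inferInstance
  have hP' : Module.Projective B' (KaehlerDifferential A' B') :=
    Module.Projective.of_equiv (KaehlerDifferential.tensorKaehlerEquiv A A' B B')
  refine Graded.isDiffSmooth_of_injective hP' fun ι _ => ?_
  exact aux (Fintype.card ι) h hs L hLD hLmem (hLinj ι).1 (hLinj ι).2
    (Q := MvPolynomial (KaehlerDifferential A B) B' ⧸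
      MvPolynomial.idealOfVars (KaehlerDifferential A B) B' ^ (Fintype.card ι + 1))
    (Ideal.Quotient.mkₐ B' _) (fun x => Ideal.Quotient.eq_zero_iff_mem) rfl

end Groth.Agent.S3821
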