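import Groth.Statements.S3822
import Groth.Agent.H06PP.SmoothBaseChange
import Groth.Agent.H1CAlg.ProjDescent
import Mathlib.RingTheory.Finiteness.Descent

set_option autoImplicit false
universe u
open scoped TensorProduct
open PP16

namespace Groth.Agent.S3822

open Groth.Agent.H06PP

theorem injective_descend {A B A' B' : Type u} [CommRing A] [CommRing B] [Algebra A B]
    [CommRing A'] [CommRing B'] [Algebra A' B'] [Algebra A A'] [Algebra B B'] [Algebra A B']
    [IsScalarTower A A' B'] [IsScalarTower A B B'] [Algebra.IsPushout A B A' B'] [Module.FaithfullyFlat B B']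
    (h : PP16.IsDiffSmooth A' B') (hP : Module.Projective B (KaehlerDifferential A B)) (ι : Type u) [Fintype ι] :
    Function.Injective (Graded.phi (A := A) (B := B) (ι := ι)) := by
  classical
  obtain ⟨s, hs⟩ := hP.out
  obtain ⟨L, hLD, -, hLinj⟩ := SmoothBC.exists_baseChange_lin A' B' s hs
  refine LinearMap.ker_eq_bot.mp ((Submodule.eq_bot_iff _).mpr fun t ht => ?_)
  rw [LinearMap.mem_ker] at ht
  let T := PP16.tensorMap A B A' B'
  suffices ∀ t, ∃ t' : SymmetricPower B' ι (KaehlerDifferential A' B'),
      SymPow.eval L t' = MvPolynomial.map (algebraMap B B') (SymPow.eval (lin s) t) ∧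
      ∀ (x : B ⊗[A] B) hx, Graded.phi t = Graded.cls _ x hx →
        ∀ hx', Graded.phi t' = Graded.cls _ (T x) hx' by
    obtain ⟨t', he, hp⟩ := this t
    have h0 : Graded.phi t' = 0 := by
      rw [hp 0 (zero_mem _) (by rw [ht]; exact ((Graded.cls_eq_zero _).mpr (zero_mem _)).symm)
        (by rw [map_zero]; exact zero_mem _)]
      exact (Graded.cls_eq_zero _).mpr (by rw [map_zero]; exact zero_mem _)
    rw [Graded.phi_injective_of_isDiffSmooth h ι (h0.trans (map_zero (Graded.phi (A := A') (B := B') (ι := ι))).symm),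
      map_zero] at he
    refine eval_lin_injective s hs ι ?_
    rw [map_zero]
    refine MvPolynomial.map_injective _ ?_ (he.symm.trans (map_zero _).symm)
    exact FaithfulSMul.algebraMap_injective B B'
  clear ht t
  intro t
  have hT : ∀ k, ∀ x ∈ KaehlerDifferential.ideal A B ^ k, T x ∈ KaehlerDifferential.ideal A' B' ^ k := by
    intro k x hx
    have h1 := Ideal.pow_right_mono (n := k) (PP16.ideal_map_tensorMap_le A B A' B')
    rw [← Ideal.map_pow] at h1
    exact h1 (Ideal.mem_map_of_mem _ hx)
  have hmem : t ∈ Submodule.span B (Set.range fun b : ι → B =>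
      SymmetricPower.tprod B fun i => KaehlerDifferential.D A B (b i)) := by
    rw [Graded.span_tprod_D]; trivial
  induction hmem using Submodule.span_induction with
  | mem y hy =>
    obtain ⟨b, rfl⟩ := hy
    refine ⟨SymmetricPower.tprod B' fun i => KaehlerDifferential.D A' B' (algebraMap B B' (b i)), ?_,
      fun x hx hb hx' => ?_⟩
    · rw [SymPow.eval_tprod, SymPow.eval_tprod, map_prod]
      simp only [hLD]
    · rw [Graded.phi_tprod_D] at hb ⊢
      have h1 := hT _ _ ((Graded.cls_eq_iff (Graded.prod_mem (fun i => Graded.zeta A B (b i))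
        fun i => Graded.zeta_mem A B _) hx).mp hb)
      refine Graded.cls_eq _ _ ?_
      show ∏ i, Graded.zeta A' B' (algebraMap B B' (b i)) - T x ∈ _
      have e : ∀ c, T (Graded.zeta A B c) = Graded.zeta A' B' (algebraMap B B' c) := fun c => by
        rw [Graded.zeta, map_sub, PP16.tensorMap_tmul, PP16.tensorMap_tmul, map_one]
        rfl
      simp only [← e, ← map_prod, ← map_sub]
      exact h1
  | zero =>
    refine ⟨0, by rw [map_zero, map_zero, map_zero], fun x hx hb hx' => ?_⟩
    rw [map_zero] at hb ⊢
    exact ((Graded.cls_eq_zero _).mpr (hT _ _ ((Graded.cls_eq_zero hx).mp hb.symm))).symm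
  | add a c _ _ ha hc =>
    obtain ⟨a', ha1, ha2⟩ := ha
    obtain ⟨c', hc1, hc2⟩ := hc
    refine ⟨a' + c', by rw [map_add, ha1, hc1, map_add, map_add], fun x hx hb hx' => ?_⟩
    obtain ⟨⟨xa, hxa⟩, hqa⟩ := Submodule.Quotient.mk_surjective _ (Graded.phi a)
    obtain ⟨⟨xc, hxc⟩, hqc⟩ := Submodule.Quotient.mk_surjective _ (Graded.phi c)
    rw [map_add, ha2 xa hxa hqa.symm (hT _ _ hxa), hc2 xc hxc hqc.symm (hT _ _ hxc)]
    rw [map_add, ← hqa, ← hqc, ← Submodule.Quotient.mk_add] at hb
    have h1 := hT _ _ ((Graded.cls_eq_iff (add_mem hxa hxc) hx).mp hb)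
    refine Graded.cls_eq (x := T xa + T xc) (add_mem (hT _ _ hxa) (hT _ _ hxc)) hx' ?_
    rw [← map_add, ← map_sub]
    exact h1
  | smul r a _ ha =>
    obtain ⟨a', ha1, ha2⟩ := ha
    refine ⟨algebraMap B B' r • a', ?_, fun x hx hb hx' => ?_⟩
    · rw [map_smul, ha1, map_smul, Algebra.smul_def, Algebra.smul_def r, map_mul, MvPolynomial.algebraMap_eq,
        MvPolynomial.algebraMap_eq, MvPolynomial.map_C]
    obtain ⟨⟨xa, hxa⟩, hqa⟩ := Submodule.Quotient.mk_surjective _ (Graded.phi a)
    rw [map_smul, ha2 xa hxa hqa.symm (hT _ _ hxa)]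
    rw [map_smul, ← hqa, ← Submodule.Quotient.mk_smul] at hb
    have h1 := hT _ _ ((Graded.cls_eq_iff (k := Fintype.card ι) (x := r • xa)
      (Submodule.smul_of_tower_mem _ r hxa) hx).mp hb)
    refine Graded.cls_eq (x := algebraMap B B' r • T xa)
      (Submodule.smul_of_tower_mem _ _ (hT _ _ hxa)) hx' ?_
    have e : T (r • xa) = algebraMap B B' r • T xa := by
      rw [Algebra.smul_def, Algebra.smul_def, map_mul, Algebra.TensorProduct.algebraMap_apply,
        Algebra.TensorProduct.algebraMap_apply, Algebra.algebraMap_self_apply, PP16.tensorMap_tmul, map_one,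
        Algebra.algebraMap_self_apply]
    rw [← e, ← map_sub]
    exact h1

/-- Let B be an A-algebra, A → A' a faithfully flat ring map and B' = B ⊗_A A'. If B' is differentially
smooth over A' and its module of differentials is finitely generated, then B is differentially
smooth over A and its module of differentials is finitely generated. -/
theorem result (A B A' B' : Type u) [CommRing A] [CommRing B] [Algebra A B]
    [CommRing A'] [CommRing B'] [Algebra A' B'] [Algebra A A'] [Algebra B B'] [Algebra A B']
    [IsScalarTower A A' B'] [IsScalarTower A B B'] [Algebra.IsPushout A B A' B'] [Module.FaithfullyFlat A A']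
    (h : PP16.IsDiffSmooth A' B') (hfin : Module.Finite B' (KaehlerDifferential A' B')) :
    PP16.IsDiffSmooth A B ∧ Module.Finite B (KaehlerDifferential A B) := by
  have hP' := h.1
  have : Algebra.IsPushout A A' B B' := Algebra.IsPushout.symm inferInstance
  let e := KaehlerDifferential.tensorKaehlerEquiv A A' B B'
  have : Module.FaithfullyFlat B B' :=
    Module.FaithfullyFlat.of_linearEquiv (N := B') B (B ⊗[A] A')
      (Algebra.IsPushout.equiv A B A' B').symm.toLinearEquiv
  have : Module.Finite B' (B' ⊗[B] KaehlerDifferential A B) := Module.Finite.equiv e.symm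
  have hfinB : Module.Finite B (KaehlerDifferential A B) :=
    Module.Finite.of_finite_tensorProduct_of_faithfullyFlat B'
  have : Module.Projective B' (B' ⊗[B] KaehlerDifferential A B) := Module.Projective.of_equiv e.symm
  have hP : Module.Projective B (KaehlerDifferential A B) := H1CAlg.projective_of_baseChange B B' _
  exact ⟨Graded.isDiffSmooth_of_injective hP fun ι _ => injective_descend h hP ι, hfinB⟩

end Groth.Agent.S3822
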