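import Groth.Statements.S3823
import Groth.Agent.H06QR.Criterion
import Groth.Agent.H06PP.Graded

set_option autoImplicit false
universe u
open scoped TensorProduct
open PP16

namespace Groth.Agent.S3823

open Groth.Agent in
theorem sub_smul_mem {A B : Type u} [CommRing A] [CommRing B] [Algebra A B] (r : B ⊗[A] B)
    (x : KaehlerDifferential A B) : r • x = Algebra.TensorProduct.lmul' A r • x := by
  refine Eq.trans ?_ (algebraMap_smul (B ⊗[A] B) (Algebra.TensorProduct.lmul' A r) x)
  rw [← sub_eq_zero, ← sub_smul]
  obtain ⟨y, rfl⟩ := Ideal.toCotangent_surjective _ x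
  refine (map_smul _ _ y).symm.trans ((Ideal.toCotangent_eq_zero _ _).mpr ?_)
  show (r - _) * (y : B ⊗[A] B) ∈ KaehlerDifferential.ideal A B ^ 2
  rw [pow_two]
  exact Ideal.mul_mem_mul (H06PP.Graded.sub_mul'_mem r) y.2

open Groth.Agent in
theorem sym_iff {A B : Type u} [CommRing A] [CommRing B] [Algebra A B] :
    (∀ (ι : Type u) [Fintype ι], Function.Injective (H06PP.Graded.phi (A := A) (B := B) (ι := ι))) ↔
      ∀ (ι : Type u) [Fintype ι] [Nonempty ι],
        Function.Injective (H06QR.phiJ (J := KaehlerDifferential.ideal A B) (ι := ι)) := by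
  let R := B ⊗[A] B
  let m : R →+* B := (Algebra.TensorProduct.lmul' A).toRingHom
  have hmb : ∀ b : B, m (algebraMap B R b) = b := fun b => by
    show Algebra.TensorProduct.lmul' A (b ⊗ₜ[A] (1 : B)) = b
    simp
  -- a dictionary between the symmetric powers over `R` and over `B`
  have key : ∀ (ι : Type u) [Fintype ι] [Nonempty ι],
      ∃ (Θ : SymmetricPower R ι (KaehlerDifferential.ideal A B).Cotangent → SymmetricPower B ι (KaehlerDifferential A B))
        (Θ' : SymmetricPower B ι (KaehlerDifferential A B) → SymmetricPower R ι (KaehlerDifferential.ideal A B).Cotangent),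
      (∀ t, Θ' (Θ t) = t) ∧ (∀ t, Θ (Θ' t) = t) ∧ Θ 0 = 0 ∧ Θ' 0 = 0 ∧
      ∀ t (x : R) hx hx', H06QR.phiJ t = H06QR.cls _ x hx → H06PP.Graded.phi (Θ t) = H06PP.Graded.cls _ x hx' := by
    intro ι _ _
    let _ : Module R (SymmetricPower B ι (KaehlerDifferential A B)) := Module.compHom _ m
    let _ : Module B (SymmetricPower R ι (KaehlerDifferential.ideal A B).Cotangent) :=
      Module.compHom _ (algebraMap B R)
    let F₁ : MultilinearMap R (fun _ : ι => (KaehlerDifferential.ideal A B).Cotangent)
        (SymmetricPower B ι (KaehlerDifferential A B)) :=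
      { toFun := fun x => SymmetricPower.tprod B (fun i => (x i : KaehlerDifferential A B))
        map_update_add' := fun x i a b => (SymmetricPower.tprod B).map_update_add x i a b
        map_update_smul' := fun x i c a => by
          exact (congrArg (fun y => SymmetricPower.tprod B (Function.update x i y)) (sub_smul_mem c a)).trans
            ((SymmetricPower.tprod B).map_update_smul x i (m c) a) }
    let F₂ : MultilinearMap B (fun _ : ι => KaehlerDifferential A B)
        (SymmetricPower R ι (KaehlerDifferential.ideal A B).Cotangent) :=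
      { toFun := fun x => SymmetricPower.tprod R (fun i => (x i : (KaehlerDifferential.ideal A B).Cotangent))
        map_update_add' := fun x i a b => (SymmetricPower.tprod R).map_update_add x i a b
        map_update_smul' := fun x i c a => by
          exact (congrArg (fun y => SymmetricPower.tprod R (Function.update x i y)) (algebraMap_smul R c a).symm).trans
            ((SymmetricPower.tprod R).map_update_smul x i (algebraMap B R c) a) }
    let Θ := H06PP.SymPow.lift F₁ fun e x => SymmetricPower.tprod_equiv e x
    let Θ' := H06PP.SymPow.lift F₂ fun e x => SymmetricPower.tprod_equiv e x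
    have hspanR := SymmetricPower.span_tprod_eq_top R ι (KaehlerDifferential.ideal A B).Cotangent
    have hΘsmul : ∀ (c : R) t, Θ (c • t) = m c • Θ t := fun c t => map_smul Θ c t
    have hΘ'smul : ∀ (c : B) t, Θ' (c • t) = algebraMap B R c • Θ' t := fun c t => map_smul Θ' c t
    refine ⟨Θ, Θ', fun t => ?_, fun t => ?_, map_zero Θ, map_zero Θ', fun t => ?_⟩
    · have ht : t ∈ Submodule.span R (Set.range (SymmetricPower.tprod R (ι := ι)
        (M := (KaehlerDifferential.ideal A B).Cotangent))) := by rw [hspanR]; trivial
      induction ht using Submodule.span_induction with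
      | mem y hy =>
        obtain ⟨x, rfl⟩ := hy
        exact (congrArg Θ' (H06PP.SymPow.lift_tprod F₁ _ x)).trans (H06PP.SymPow.lift_tprod F₂ _ _)
      | zero => rw [map_zero, map_zero]
      | add a c _ _ ha hc => rw [map_add, map_add, ha, hc]
      | smul c a _ ha =>
        rw [hΘsmul, hΘ'smul, ha, ← sub_eq_zero, ← sub_smul]
        refine H06QR.smul_eq_zero_of_mem ?_ a
        rw [← neg_sub]
        exact neg_mem (H06PP.Graded.sub_mul'_mem c)
    · have ht : t ∈ Submodule.span B (Set.range (SymmetricPower.tprod B (ι := ι)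
        (M := KaehlerDifferential A B))) := by rw [SymmetricPower.span_tprod_eq_top]; trivial
      induction ht using Submodule.span_induction with
      | mem y hy =>
        obtain ⟨x, rfl⟩ := hy
        exact (congrArg Θ (H06PP.SymPow.lift_tprod F₂ _ x)).trans (H06PP.SymPow.lift_tprod F₁ _ _)
      | zero => rw [map_zero, map_zero]
      | add a c _ _ ha hc => rw [map_add, map_add, ha, hc]
      | smul c a _ ha => rw [hΘ'smul, hΘsmul, ha, hmb]
    · have ht : t ∈ Submodule.span R (Set.range (SymmetricPower.tprod R (ι := ι)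
        (M := (KaehlerDifferential.ideal A B).Cotangent))) := by rw [hspanR]; trivial
      induction ht using Submodule.span_induction with
      | mem y hy =>
        obtain ⟨x, rfl⟩ := hy
        choose w hw using fun i => Ideal.toCotangent_surjective _ (x i)
        obtain rfl : x = fun i => (KaehlerDifferential.ideal A B).toCotangent (w i) := funext fun i => (hw i).symm
        intro z hz hz' h
        rw [H06QR.phiJ_tprod] at h
        refine (congrArg H06PP.Graded.phi (H06PP.SymPow.lift_tprod F₁ _ _)).trans ?_
        refine (H06PP.Graded.phi_tprod _ (fun i => (w i : R)) (fun i => (w i).2) fun i => rfl).trans ?_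
        exact H06PP.Graded.cls_eq _ _ ((H06QR.cls_eq_iff
          (H06QR.prod_mem (fun i => (w i : R)) fun i => (w i).2) hz).mp h)
      | zero =>
        intro z hz hz' h
        rw [map_zero] at h ⊢
        rw [map_zero]
        exact ((H06PP.Graded.cls_eq_zero hz').mpr ((H06QR.cls_eq_zero hz).mp h.symm)).symm
      | add a c _ _ ha hc =>
        intro z hz hz' h
        obtain ⟨⟨za, hza⟩, hqa⟩ := Submodule.Quotient.mk_surjective _ (H06QR.phiJ a)
        obtain ⟨⟨zc, hzc⟩, hqc⟩ := Submodule.Quotient.mk_surjective _ (H06QR.phiJ c)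
        rw [map_add, map_add, ha za hza hza hqa.symm, hc zc hzc hzc hqc.symm]
        rw [map_add, ← hqa, ← hqc, ← Submodule.Quotient.mk_add] at h
        exact H06PP.Graded.cls_eq (x := za + zc) (add_mem hza hzc) hz'
          ((H06QR.cls_eq_iff (add_mem hza hzc) hz).mp h)
      | smul r a _ ha =>
        intro z hz hz' h
        obtain ⟨⟨za, hza⟩, hqa⟩ := Submodule.Quotient.mk_surjective _ (H06QR.phiJ a)
        rw [hΘsmul, map_smul, ha za hza hza hqa.symm]
        rw [map_smul, ← hqa, ← Submodule.Quotient.mk_smul] at h
        refine (H06PP.Graded.cls_eq (x := m r • za) (Submodule.smul_of_tower_mem _ _ hza) hz' ?_)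
        have h1 := (H06QR.cls_eq_iff (x := r * za) (Ideal.mul_mem_left _ r hza) hz).mp h
        rw [show m r • za - z = (r * za - z) - (r - algebraMap B R (m r)) * za by
          rw [Algebra.smul_def]; ring]
        refine sub_mem h1 ?_
        rw [pow_succ' (KaehlerDifferential.ideal A B)]
        exact Ideal.mul_mem_mul (H06PP.Graded.sub_mul'_mem r) hza
  constructor
  · intro h ι _ _
    obtain ⟨Θ, Θ', h1, -, -, h0', hphi⟩ := key ι
    refine LinearMap.ker_eq_bot.mp ((Submodule.eq_bot_iff _).mpr fun t ht => ?_)
    have := hphi t 0 (zero_mem _) (zero_mem _)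
      ((LinearMap.mem_ker.mp ht).trans ((H06QR.cls_eq_zero _).mpr (zero_mem _)).symm)
    rw [(H06PP.Graded.cls_eq_zero _).mpr (zero_mem _)] at this
    rw [← h1 t, h ι (this.trans (map_zero (H06PP.Graded.phi (A := A) (B := B) (ι := ι))).symm), h0']
  · intro h ι _
    refine LinearMap.ker_eq_bot.mp ((Submodule.eq_bot_iff _).mpr fun t ht => ?_)
    rw [LinearMap.mem_ker] at ht
    cases isEmpty_or_nonempty ι
    · have htm : t ∈ Submodule.span B {SymmetricPower.tprod B (fun i : ι => (isEmptyElim i : KaehlerDifferential A B))} := by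
        have := (SymmetricPower.span_tprod_eq_top B ι (KaehlerDifferential A B)).ge (Submodule.mem_top (x := t))
        refine Submodule.span_mono ?_ this
        rintro _ ⟨x, rfl⟩
        exact congrArg _ (funext fun i => isEmptyElim i)
      obtain ⟨c, rfl⟩ := Submodule.mem_span_singleton.mp htm
      rw [map_smul, H06PP.Graded.phi_tprod _ (fun i => isEmptyElim i) (fun i => isEmptyElim i)
        fun i => isEmptyElim i, ← Submodule.Quotient.mk_smul, Submodule.Quotient.mk_eq_zero] at ht
      have hc : c • (∏ i : ι, (isEmptyElim i : R)) ∈ KaehlerDifferential.ideal A B ^ (Fintype.card ι + 1) := ht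
      rw [Finset.univ_eq_empty, Finset.prod_empty, Fintype.card_eq_zero, zero_add, pow_one,
        ← Algebra.algebraMap_eq_smul_one] at hc
      have : c = 0 := by
        have h' : m (algebraMap B R c) = 0 := hc
        rwa [hmb] at h'
      rw [this, zero_smul]
    · obtain ⟨Θ, Θ', h1, h2, h0, -, hphi⟩ := key ι
      obtain ⟨⟨x, hx⟩, hq⟩ := Submodule.Quotient.mk_surjective _
        (H06QR.phiJ (J := KaehlerDifferential.ideal A B) (Θ' t))
      have e := hphi (Θ' t) x hx hx hq.symm
      rw [h2, ht] at e
      have : H06QR.phiJ (J := KaehlerDifferential.ideal A B) (Θ' t) = 0 := by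
        rw [← hq]
        exact (H06QR.cls_eq_zero hx).mpr ((H06PP.Graded.cls_eq_zero hx).mp e.symm)
      rw [← h2 t, h ι (this.trans (map_zero (H06QR.phiJ (J := KaehlerDifferential.ideal A B) (ι := ι))).symm), h0]

theorem projective_iff {A B : Type u} [CommRing A] [CommRing B] [Algebra A B] :
    Module.Projective B (KaehlerDifferential A B) ↔
      Module.Projective ((B ⊗[A] B) ⧸ KaehlerDifferential.ideal A B) (KaehlerDifferential.ideal A B).Cotangent := by
  let ρ : B →+* (B ⊗[A] B) ⧸ KaehlerDifferential.ideal A B :=
    (Ideal.Quotient.mk _).comp (algebraMap B (B ⊗[A] B))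
  have hm : ∀ b : B, Algebra.TensorProduct.lmul' A (algebraMap B (B ⊗[A] B) b) = b := fun b => by
    show Algebra.TensorProduct.lmul' A (b ⊗ₜ[A] (1 : B)) = b
    simp
  have hρ : Function.Bijective ρ := by
    refine ⟨fun a b h => ?_, fun x => ?_⟩
    · have h' : algebraMap B (B ⊗[A] B) a - algebraMap B (B ⊗[A] B) b ∈ KaehlerDifferential.ideal A B :=
        (Ideal.Quotient.mk_eq_mk_iff_sub_mem _ _).mp h
      have h'' : Algebra.TensorProduct.lmul' A (algebraMap B (B ⊗[A] B) a - algebraMap B (B ⊗[A] B) b) = 0 := h'
      rwa [map_sub, hm, hm, sub_eq_zero] at h''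
    · obtain ⟨x, rfl⟩ := Ideal.Quotient.mk_surjective x
      exact ⟨Algebra.TensorProduct.lmul' A x,
        ((Ideal.Quotient.mk_eq_mk_iff_sub_mem _ _).mpr (Groth.Agent.H06PP.Graded.sub_mul'_mem x)).symm⟩
  let e := RingEquiv.ofBijective ρ hρ
  let σ : B →+* (B ⊗[A] B) ⧸ KaehlerDifferential.ideal A B := (e : _ →+* _)
  let σ' : (B ⊗[A] B) ⧸ KaehlerDifferential.ideal A B →+* B := (e.symm : _ →+* _)
  have : RingHomInvPair σ σ' := RingHomInvPair.of_ringEquiv e
  have : RingHomInvPair σ' σ := RingHomInvPair.of_ringEquiv e.symm
  let f : KaehlerDifferential A B ≃ₛₗ[σ] (KaehlerDifferential.ideal A B).Cotangent :=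
    { AddEquiv.refl _ with map_smul' := fun b x => (algebraMap_smul (B ⊗[A] B) b x).symm }
  exact ⟨fun _ => Module.Projective.of_equiv f, fun _ => Module.Projective.of_equiv f.symm⟩


/-- Let B be an A-algebra of finite type. Then B is differentially smooth over A if and only if the
diagonal immersion is quasi-regular, that is, the kernel I of B ⊗_A B → B is a quasi-regular ideal:
every prime of B ⊗_A B containing I has a basic open neighbourhood on which I is generated by a
quasi-regular sequence. -/
theorem result (A B : Type u) [CommRing A] [CommRing B] [Algebra A B]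
    [Algebra.FiniteType A B] :
    PP16.IsDiffSmooth A B ↔ PP16.IsLocallyQuasiRegular (B ⊗[A] B) (KaehlerDifferential.ideal A B) := by
  rw [H06QR.isLocallyQuasiRegular_iff]
  have hfg := KaehlerDifferential.ideal_fg A B
  constructor
  · intro h P hP hIP
    haveI := projective_iff.mp h.1
    exact H06QR.exists_chart hfg (H06QR.symGr_of_injective
      (sym_iff.mp fun ι _ => H06PP.Graded.phi_injective_of_isDiffSmooth h ι)) P hIP
  · intro h
    exact H06PP.Graded.isDiffSmooth_of_injective (projective_iff.mpr (H06QR.projective_of_charts h))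
      (sym_iff.mpr fun ι _ _ => H06QR.phiJ_injective_of_charts h ι)

end Groth.Agent.S3823
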