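import Groth.Statements.S3825
import Groth.Agent.H06QR.Basic

set_option autoImplicit false
universe u
open QReg16

namespace Groth.Agent.S3825

/-- a) iff c) (affine local form): let A be a local ring and I a proper ideal generated by some
quasi-regular sequence. For a finite family (f_i) of elements of I, the following are equivalent:
(a) (f_i) is a quasi-regular sequence generating I; (c) the classes of the f_i form a basis of the
A/I-module I/I² (equivalently, b): (f_i) is a minimal system of generators of I). -/
theorem result {A : Type u} [CommRing A] [IsLocalRing A]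
    (I : Ideal A) (hI : I ≤ IsLocalRing.maximalIdeal A)
    (hq : ∃ (r : ℕ) (g : Fin r → A), CAlgX.IsQuasiRegular g ∧ Ideal.span (Set.range g) = I)
    {m : ℕ} (f : Fin m → I) :
    (CAlgX.IsQuasiRegular (fun i => (f i : A)) ∧ Ideal.span (Set.range fun i => (f i : A)) = I) ↔
      (LinearIndependent (A ⧸ I) (fun i => I.toCotangent (f i)) ∧
        Submodule.span (A ⧸ I) (Set.range fun i => I.toCotangent (f i)) = ⊤) := by
  obtain ⟨r, g, hg, hgI⟩ := hq
  constructor
  · rintro ⟨hf, hfI⟩
    exact H06QR.cotangent_basis hf hfI f fun _ => rfl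
  · rintro ⟨hli, hsp⟩
    have hne : I ≠ ⊤ := fun h => (IsLocalRing.maximalIdeal.isMaximal A).ne_top (top_le_iff.mp (h ▸ hI))
    haveI : Nontrivial (A ⧸ I) := Ideal.Quotient.nontrivial_iff.mpr hne
    have hfg : I.FG := hgI ▸ Submodule.fg_span (Set.finite_range g)
    have hspan : Ideal.span (Set.range fun i => (f i : A)) = I := by
      refine le_antisymm (Ideal.span_le.mpr (by rintro _ ⟨i, rfl⟩; exact (f i).2)) ?_
      refine Submodule.le_of_le_smul_of_le_jacobson_bot (I := I) hfg
        (hI.trans (IsLocalRing.maximalIdeal_le_jacobson ⊥)) fun x hx => ?_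
      have hx' : I.toCotangent ⟨x, hx⟩ ∈
          Submodule.span (A ⧸ I) (Set.range fun i => I.toCotangent (f i)) := hsp ▸ Submodule.mem_top
      obtain ⟨c, hc⟩ := (Submodule.mem_span_range_iff_exists_fun _).mp hx'
      choose c' hc' using fun i => Ideal.Quotient.mk_surjective (c i)
      have h2 : I.toCotangent ⟨x, hx⟩ = I.toCotangent (∑ i, c' i • f i) := by
        rw [map_sum, ← hc]
        refine Finset.sum_congr rfl fun i _ => ?_
        rw [map_smul, ← hc']
        rfl
      rw [Ideal.toCotangent_eq, Submodule.coe_sum] at h2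
      simp only [Submodule.coe_smul, smul_eq_mul] at h2
      refine Submodule.mem_sup.mpr ⟨_, Submodule.sum_mem (t := Finset.univ) _ fun i _ =>
        Ideal.mul_mem_left _ (c' i) (Ideal.subset_span ⟨i, rfl⟩), _, ?_, add_sub_cancel _ x⟩
      rw [smul_eq_mul, ← pow_two]
      exact h2
    have hgm : ∀ i, g i ∈ I := fun i => hgI.le (Ideal.subset_span ⟨i, rfl⟩)
    have hgb := H06QR.cotangent_basis hg hgI (fun i => ⟨g i, hgm i⟩) fun _ => rfl
    obtain rfl : m = r := by
      simpa using Fintype.card_congr ((Module.Basis.mk hli hsp.ge).indexEquiv (Module.Basis.mk hgb.1 hgb.2.ge))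
    exact ⟨H06QR.isQuasiRegular_of_span_eq hg _ (hspan.trans hgI.symm), hspan⟩

end Groth.Agent.S3825
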