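import Groth.Statements.S3830
import Groth.Agent.H06Unram.SmoothQF

set_option autoImplicit false
universe u
open Unram17

namespace Groth.Agent.S3830

/-- b) implies a) (affine pointwise form): let B be an A-algebra of finite presentation and q a prime of
B. If B is smooth over A at q and quasi-finite over A at q, then B is étale over A at q. -/
theorem result (A B : Type u) [CommRing A] [CommRing B] [Algebra A B]
    [Algebra.FinitePresentation A B] (q : Ideal B) [q.IsPrime] [Algebra.QuasiFiniteAt A q]
    (h : Algebra.IsSmoothAt A q) : Algebra.IsEtaleAt A q := by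
  classical
  obtain ⟨f, hfq, hf⟩ := Algebra.IsSmoothAt.exists_notMem_smooth (R := A) q
  obtain ⟨S', hS', r, hrq, H⟩ :=
    Algebra.QuasiFiniteAt.exists_fg_and_exists_notMem_and_awayMap_bijective (R := A) q
  have : Module.Finite A S' := ⟨(Submodule.fg_top _).mpr hS'⟩
  have : Algebra.QuasiFinite A (Localization.Away r) := .trans _ S' _
  have : Algebra.QuasiFinite A (Localization.Away r.1) :=
    .of_surjective_algHom (Localization.awayMapₐ S'.val r) H.2
  set g := f * r.1 with hg
  have hu : IsUnit (algebraMap B (Localization.Away g) r.1) := by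
    have := IsLocalization.Away.algebraMap_isUnit (S := Localization.Away g) g
    rw [hg, map_mul] at this
    exact isUnit_of_mul_isUnit_right this
  let φ : Localization.Away r.1 →ₐ[B] Localization.Away g :=
    IsLocalization.Away.liftAlgHom r.1 (f := Algebra.ofId _ _) hu
  have : Algebra.QuasiFinite A (Localization.Away g) := by
    refine .of_forall_exists_mul_mem_range (φ.restrictScalars A) fun x ↦ ?_
    obtain ⟨x, ⟨s, hs⟩, rfl⟩ := IsLocalization.exists_mk'_eq (Submonoid.powers g) x
    exact ⟨algebraMap _ _ s, by simpa using IsLocalization.map_units _ ⟨s, hs⟩,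
      algebraMap _ _ x, by simp⟩
  have : Algebra.Smooth A (Localization.Away g) := by
    refine ⟨?_, Algebra.FinitePresentation.trans A B _⟩
    rw [← Algebra.basicOpen_subset_smoothLocus_iff]
    refine le_trans (PrimeSpectrum.basicOpen_mul_le_left f r.1) ?_
    exact Algebra.basicOpen_subset_smoothLocus_iff.mpr hf.formallySmooth
  have := H06Unram.etale_of_smooth_of_quasiFinite A (Localization.Away g)
  have hgq : g ∉ q := fun hgm => ((‹q.IsPrime›.mem_or_mem hgm).elim hfq hrq)
  exact Algebra.basicOpen_subset_etaleLocus_iff_etale.mpr this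
    (show (⟨q, inferInstance⟩ : PrimeSpectrum B) ∈ PrimeSpectrum.basicOpen g from hgq)

end Groth.Agent.S3830
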