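import Groth.Statements.S3837
import Groth.Agent.H05EGA4.NormalUnivOpen
-- import your own Groth.Agent.* helpers here

set_option autoImplicit false
universe u
open CategoryTheory CategoryTheory.Limits AlgebraicGeometry TopologicalSpace
open Rat20

namespace Groth.Agent.S3837

/-- Let X be a normal S-scheme (locally integral with integrally closed local rings), Y an S-scheme
locally of finite type and separated over S, h : U → Y an S-morphism on a dense open subset (a
rational S-map ω), and f : X' → X a morphism locally of finite type and universally open with X'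
reduced, so that f⁻¹(U) is dense and ω ∘ f is defined. Then for x' in X' with image x, ω is defined
at x if and only if ω ∘ f is defined at x': some S-morphism on an open neighbourhood of x agrees
with h on U if and only if some S-morphism on an open neighbourhood of x' agrees with h ∘ f on the
preimage of U. -/
theorem result {X X' Y S : Scheme.{u}} (pX : X ⟶ S) (pY : Y ⟶ S)
    [LocallyOfFiniteType pY] [IsSeparated pY] (hX : ∀ y : ↥X, ∃ W : X.Opens, y ∈ W ∧ IsIntegral (W : Scheme.{u}))
    (hXn : ∀ y : ↥X, IsIntegrallyClosed (X.presheaf.stalk y))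
    (U : X.Opens) (hU : Dense (U : Set ↥X)) (h : (U : Scheme.{u}) ⟶ Y) (hh : h ≫ pY = U.ι ≫ pX)
    (f : X' ⟶ X) [LocallyOfFiniteType f] [UniversallyOpen f] [IsReduced X'] (x' : ↥X') :
    (∃ (V : X.Opens) (v : (V : Scheme.{u}) ⟶ Y), f x' ∈ V ∧ v ≫ pY = V.ι ≫ pX ∧
        X.homOfLE (inf_le_right : U ⊓ V ≤ V) ≫ v = X.homOfLE (inf_le_left : U ⊓ V ≤ U) ≫ h) ↔
      ∃ (V' : X'.Opens) (v' : (V' : Scheme.{u}) ⟶ Y), x' ∈ V' ∧ v' ≫ pY = V'.ι ≫ f ≫ pX ∧
        X'.homOfLE (inf_le_right : f ⁻¹ᵁ U ⊓ V' ≤ V') ≫ v' =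
          X'.homOfLE (inf_le_left : f ⁻¹ᵁ U ⊓ V' ≤ f ⁻¹ᵁ U) ≫ (f ∣_ U) ≫ h := by
  exact Groth.Agent.H05EGA4.NormalUnivOpen.defined_iff pX pY hX hXn U hU h hh f x'

end Groth.Agent.S3837
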