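import Groth.Statements.S3845


set_option autoImplicit false
universe u
open CategoryTheory CategoryTheory.Limits AlgebraicGeometry TopologicalSpace
open Unram17

namespace Groth.Agent.S3845

open AlgebraicGeometry CategoryTheory CategoryTheory.Limits

/-- a) iff b): let f : X → Y be locally of finite presentation and x a point of X. Then f is unramified
on some open neighbourhood of x if and only if the diagonal X → X ×_Y X is a local isomorphism at x
(its restriction to some open neighbourhood of x is an open immersion). -/
theorem result {X Y : Scheme.{u}} (f : X ⟶ Y)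
    [LocallyOfFinitePresentation f] (x : ↥X) :
    (∃ U : X.Opens, x ∈ U ∧ FormallyUnramified (U.ι ≫ f)) ↔
      SchLoc.IsLocalIsoAt (pullback.diagonal f) x := by
  have key : ∀ U : X.Opens, FormallyUnramified (U.ι ≫ f) ↔ IsOpenImmersion (U.ι ≫ pullback.diagonal f) := by
    intro U
    let m := pullback.map (U.ι ≫ f) (U.ι ≫ f) f f U.ι U.ι (𝟙 Y) (Category.comp_id _) (Category.comp_id _)
    haveI : IsOpenImmersion m := MorphismProperty.pullbackMap (P := @IsOpenImmersion) (inferInstanceAs (IsOpenImmersion U.ι)) (inferInstanceAs (IsOpenImmersion U.ι)) rfl rfl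
    have e : U.ι ≫ pullback.diagonal f = pullback.diagonal (U.ι ≫ f) ≫ m := by
      apply pullback.hom_ext
      · simp only [Category.assoc, pullback.diagonal_fst, Category.comp_id]
        erw [pullback.lift_fst, pullback.diagonal_fst_assoc]
      · simp only [Category.assoc, pullback.diagonal_snd, Category.comp_id]
        erw [pullback.lift_snd, pullback.diagonal_snd_assoc]
    rw [e]
    constructor
    · intro _
      infer_instance
    · intro _
      haveI : IsOpenImmersion (pullback.diagonal (U.ι ≫ f)) := IsOpenImmersion.of_comp _ m
      infer_instance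
  exact ⟨fun ⟨U, hx, h⟩ => ⟨U, hx, (key U).1 h⟩, fun ⟨U, hx, h⟩ => ⟨U, hx, (key U).2 h⟩⟩

end Groth.Agent.S3845
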