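import Groth.Statements.S3846
import Groth.Agent.S3845

set_option autoImplicit false
universe u
open CategoryTheory CategoryTheory.Limits AlgebraicGeometry TopologicalSpace
open Unram17

namespace Groth.Agent.S3846

set_option linter.style.haveILetI false

/-- a) iff b''): let f : X → Y be locally of finite presentation and x a point of X. Then f is
unramified on some open neighbourhood of x if and only if, for every base change g : Y' → Y and
every section s' of X ×_Y Y' → Y', s' is a local isomorphism at every point y' of Y' such that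
s'(y') lies over x. -/
theorem result {X Y : Scheme.{u}} (f : X ⟶ Y) [LocallyOfFinitePresentation f]
    (x : ↥X) :
    (∃ U : X.Opens, x ∈ U ∧ FormallyUnramified (U.ι ≫ f)) ↔
      ∀ (Y' : Scheme.{u}) (g : Y' ⟶ Y) (s' : Y' ⟶ pullback f g), s' ≫ pullback.snd f g = 𝟙 Y' →
        ∀ y' : ↥Y', pullback.fst f g (s' y') = x → SchLoc.IsLocalIsoAt s' y' := by
  haveI : MorphismProperty.IsMultiplicative @IsOpenImmersion.{u} :=
    inferInstance
  haveI : MorphismProperty.IsStableUnderBaseChange (@FormallyUnramified.{u} ⊓ @LocallyOfFiniteType.{u}) :=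
    ⟨fun h ha => ⟨MorphismProperty.of_isPullback (P := @FormallyUnramified) h ha.1,
      MorphismProperty.of_isPullback (P := @LocallyOfFiniteType) h ha.2⟩⟩
  haveI : MorphismProperty.HasOfPostcompProperty @IsOpenImmersion.{u}
      (@FormallyUnramified.{u} ⊓ @LocallyOfFiniteType.{u}) :=
    MorphismProperty.hasOfPostcompProperty_iff_le_diagonal.mpr fun _ _ h ⟨h1, h2⟩ => by
      haveI := h1
      haveI := h2
      exact (inferInstance : IsOpenImmersion (pullback.diagonal h))
  constructor
  · rintro ⟨U, hxU, hU⟩ Y' g s' hs y' hy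
    haveI := hU
    let V : Y'.Opens := (s' ≫ pullback.fst f g) ⁻¹ᵁ U
    have hyV : y' ∈ V := by
      show pullback.fst f g (s' y') ∈ U
      rw [hy]; exact hxU
    refine ⟨V, hyV, ?_⟩
    let a : V.toScheme ⟶ U.toScheme := IsOpenImmersion.lift U.ι (V.ι ≫ s' ≫ pullback.fst f g) (by
      rintro _ ⟨z, rfl⟩
      rw [U.range_ι]
      exact z.2)
    have ha : a ≫ U.ι = V.ι ≫ s' ≫ pullback.fst f g := IsOpenImmersion.lift_fac _ _ _
    let m := pullback.map (U.ι ≫ f) g f g U.ι (𝟙 Y') (𝟙 Y) (Category.comp_id _) (by simp)
    let t : V.toScheme ⟶ pullback (U.ι ≫ f) g := pullback.lift a V.ι (by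
      rw [← Category.assoc, ha, Category.assoc, Category.assoc, pullback.condition, reassoc_of% hs])
    have ht : t ≫ m = V.ι ≫ s' := by
      apply pullback.hom_ext
      · rw [Category.assoc, pullback.lift_fst, pullback.lift_fst_assoc, ha, Category.assoc]
      · rw [Category.assoc, pullback.lift_snd, Category.comp_id, pullback.lift_snd, Category.assoc, hs,
          Category.comp_id]
    haveI : FormallyUnramified (pullback.snd (U.ι ≫ f) g) :=
      MorphismProperty.of_isPullback (P := @FormallyUnramified) (IsPullback.of_hasPullback (U.ι ≫ f) g) hU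
    haveI : LocallyOfFiniteType (pullback.snd (U.ι ≫ f) g) :=
      MorphismProperty.of_isPullback (P := @LocallyOfFiniteType) (IsPullback.of_hasPullback (U.ι ≫ f) g) inferInstance
    haveI : IsOpenImmersion t := MorphismProperty.of_postcomp (W := @IsOpenImmersion.{u})
      (W' := @FormallyUnramified.{u} ⊓ @LocallyOfFiniteType.{u}) t (pullback.snd (U.ι ≫ f) g) ⟨‹_›, ‹_›⟩
      (by rw [pullback.lift_snd]; infer_instance)
    haveI : IsOpenImmersion m := MorphismProperty.pullbackMap (P := @IsOpenImmersion.{u})
      (i₁ := U.ι) (i₂ := 𝟙 Y') inferInstance inferInstance rfl (Category.id_comp g).symm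
    rw [← ht]; infer_instance
  · intro H
    exact (S3845.result f x).2 (H X f (pullback.diagonal f) (pullback.diagonal_snd f) x (by
      rw [← Scheme.Hom.comp_apply, pullback.diagonal_fst]; rfl))

end Groth.Agent.S3846
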