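import Groth.Statements.S3849
import Groth.Agent.H05EGA4.NormalPointExt
-- import your own Groth.Agent.* helpers here

set_option autoImplicit false
universe u
open CategoryTheory CategoryTheory.Limits AlgebraicGeometry TopologicalSpace
open Rat20

namespace Groth.Agent.S3849

/-- In the case S = X (sections of q : Y → X): let X be a locally Noetherian scheme, q : Y → X
separated, locally of finite type and locally quasi-finite, U a dense open subset of X, h : U → Y a
section of q over U, and x a point of X outside U whose local ring is an integrally closed domain.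
Then h extends to a section of q over an open subset containing U and x if and only if there exist a
discrete valuation ring R, a morphism u : Spec R → X sending the closed point to x and the generic
point into U, and a morphism Spec R → Y over X agreeing with h at the generic point. -/
theorem result {X Y : Scheme.{u}} [IsLocallyNoetherian X] (q : Y ⟶ X)
    [LocallyOfFiniteType q] [IsSeparated q] [LocallyQuasiFinite q] (U : X.Opens) (hU : Dense (U : Set ↥X))
    (h : (U : Scheme.{u}) ⟶ Y) (hh : h ≫ q = U.ι) (x : ↥X) (hxU : x ∉ U) [IsDomain ↑(X.presheaf.stalk x)]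
    (hx : IsIntegrallyClosed ↑(X.presheaf.stalk x)) :
    (∃ (U' : X.Opens) (hUU' : U ≤ U') (h' : (U' : Scheme.{u}) ⟶ Y),
        x ∈ U' ∧ h' ≫ q = U'.ι ∧ X.homOfLE hUU' ≫ h' = h) ↔
      ∃ (R : Type u) (_ : CommRing R) (_ : IsDomain R) (_ : IsDiscreteValuationRing R)
        (u : Spec (CommRingCat.of R) ⟶ X) (ub : Spec (CommRingCat.of (FractionRing R)) ⟶ (U : Scheme.{u}))
        (h₁ : Spec (CommRingCat.of R) ⟶ Y),
        u (IsLocalRing.closedPoint R) = x ∧
          ub ≫ U.ι = Spec.map (CommRingCat.ofHom (algebraMap R (FractionRing R))) ≫ u ∧
          h₁ ≫ q = u ∧ Spec.map (CommRingCat.ofHom (algebraMap R (FractionRing R))) ≫ h₁ = ub ≫ h := by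
  exact Groth.Agent.H05EGA4.NormalPointExt.quasiFinite_case q U hU h hh x hxU hx

end Groth.Agent.S3849
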