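import Groth.Statements.S3851
import Groth.Agent.H05EGA4.CKCrit

set_option autoImplicit false
universe u
open scoped TensorProduct
open EGA418

namespace Groth.Agent.S3851

/-- a) iff a') iff b), and b) implies d): let k be a field, A a complete Noetherian local k-algebra
whose residue field is finite over k, p a non-maximal prime of A, n the largest dimension of an
irreducible component of Spec A containing p, and Ω̂ the completion of the module of differentials
of A over k for the topology of the maximal ideal. For a field extension k' of k write A' = A ⊗̂_k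
k' (the completion of A ⊗_k k' for the extension of the maximal ideal). The following are
equivalent: (a) for every extension k' and every prime p' of A' over p, A'_{p'} is regular; (a') for
some perfect extension k' and some prime p' of A' over p, A'_{p'} is regular; (b) Ω̂_p is a free
A_p-module of rank n. Moreover (b) implies (d): A_p is geometrically regular over k. (The converse
of the last implication, valid when [k : k^p] is finite, is not stated.) -/
theorem result (k A : Type u) [Field k] [CommRing A]
    [IsLocalRing A] [IsNoetherianRing A] [Algebra k A] [IsAdicComplete (IsLocalRing.maximalIdeal A) A]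
    [Module.Finite k (IsLocalRing.ResidueField A)] (p : Ideal A) [p.IsPrime] (hp : p ≠ IsLocalRing.maximalIdeal A)
    (n : ℕ) (hn₁ : ∀ q ∈ minimalPrimes A, q ≤ p → ringKrullDim (A ⧸ q) ≤ n)
    (hn₂ : ∃ q ∈ minimalPrimes A, q ≤ p ∧ ringKrullDim (A ⧸ q) = n) :
    List.TFAE [
      ∀ (k' : Type u) [Field k'] [Algebra k k']
        (p' : Ideal (AdicCompletion ((IsLocalRing.maximalIdeal A).map
          (Algebra.TensorProduct.includeLeft : A →ₐ[k] A ⊗[k] k')) (A ⊗[k] k'))) [p'.IsPrime],
        (p'.comap (algebraMap (A ⊗[k] k') _)).comap
            (Algebra.TensorProduct.includeLeft : A →ₐ[k] A ⊗[k] k').toRingHom = p →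
          IsRegularLocalRing (Localization.AtPrime p'),
      ∃ (k' : Type u) (_ : Field k') (_ : Algebra k k') (_ : PerfectField k')
        (p' : Ideal (AdicCompletion ((IsLocalRing.maximalIdeal A).map
          (Algebra.TensorProduct.includeLeft : A →ₐ[k] A ⊗[k] k')) (A ⊗[k] k'))) (_ : p'.IsPrime),
        (p'.comap (algebraMap (A ⊗[k] k') _)).comap
            (Algebra.TensorProduct.includeLeft : A →ₐ[k] A ⊗[k] k').toRingHom = p ∧
          IsRegularLocalRing (Localization.AtPrime p'),
      Module.Free (Localization.AtPrime p)
          (LocalizedModule p.primeCompl (AdicCompletion (IsLocalRing.maximalIdeal A) (KaehlerDifferential k A))) ∧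
        Module.finrank (Localization.AtPrime p)
          (LocalizedModule p.primeCompl (AdicCompletion (IsLocalRing.maximalIdeal A) (KaehlerDifferential k A))) = n] ∧
    ((Module.Free (Localization.AtPrime p)
          (LocalizedModule p.primeCompl (AdicCompletion (IsLocalRing.maximalIdeal A) (KaehlerDifferential k A))) ∧
        Module.finrank (Localization.AtPrime p)
          (LocalizedModule p.primeCompl (AdicCompletion (IsLocalRing.maximalIdeal A) (KaehlerDifferential k A))) = n) →
      CAlg.IsGeometricallyRegular k (Localization.AtPrime p)) := by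
  have crit := Groth.Agent.H05EGA4.CKCrit.main k A p hp n hn₁ hn₂
  refine ⟨?_, fun h => (crit (Groth.Agent.H05EGA4.CKCrit.bound_of_free k A p n h)).2.1⟩
  tfae_have 3 → 1 := fun h k' _ _ p' _ hp' =>
    Groth.Agent.H05EGA4.CKCrit.regular_of_free k A p hp n hn₁ hn₂ h k' _
      (Groth.Agent.H05EGA4.CKCrit.completedIdeal_eq k A k') p' hp'
  tfae_have 1 → 2 := fun h => by
    obtain ⟨p', hp'1, hp'⟩ := Groth.Agent.H05EGA4.CKCrit.exists_prime k A p (AlgebraicClosure k) _
      (Groth.Agent.H05EGA4.CKCrit.completedIdeal_eq k A (AlgebraicClosure k))
    exact ⟨AlgebraicClosure k, inferInstance, inferInstance, inferInstance, p', hp'1, hp', @h _ _ _ p' hp'1 hp'⟩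
  tfae_have 2 → 3 := by
    rintro ⟨k', _, _, _, p', hp'1, hp', hreg⟩
    haveI := hp'1
    haveI := hreg
    exact (crit (Groth.Agent.H05EGA4.CKCrit.bound_of_regular k A p n hn₁ k' _
      (Groth.Agent.H05EGA4.CKCrit.completedIdeal_eq k A k') p' hp')).1
  tfae_finish

end Groth.Agent.S3851
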