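import Groth.Statements.S3856
import Groth.Agent.H24Adic.Noetherian
import Mathlib.RingTheory.FiniteType

set_option autoImplicit false
universe u
open AdicRing

namespace Groth.Agent.S3856

/-- Let A be a ring that is complete and separated for the J-adic topology of an ideal J. If A/J² is
Noetherian (equivalently, A/J is Noetherian and J/J² is a finitely generated A/J-module), then A is
Noetherian. The published statement is phrased for a formal spectrum Spf(A) all of whose levels
Spec(A/J^(n+1)) are Noetherian; it is stated here with the weaker hypothesis that A/J² is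
Noetherian. -/
theorem result (A : Type u) [CommRing A]
    (J : Ideal A) [IsAdicComplete J A] [IsNoetherianRing (A ⧸ J ^ 2)] : IsNoetherianRing A := by
  haveI : IsNoetherianRing (A ⧸ J) := by
    exact isNoetherianRing_of_surjective (A ⧸ J ^ 2) (A ⧸ J) _
      (Ideal.Quotient.factor_surjective (Ideal.pow_le_self two_ne_zero))
  refine Groth.Agent.H24Adic.isNoetherianRing_of_isAdicComplete J ?_
  haveI : IsHausdorff J J := Groth.Agent.H24Adic.isHausdorff_ideal J J
  haveI : IsNoetherian A (A ⧸ J ^ 2) := by
    rw [isNoetherian_def]
    intro N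
    have h := (IsNoetherian.noetherian (R := A ⧸ J ^ 2) (Submodule.span (A ⧸ J ^ 2) (N : Set (A ⧸ J ^ 2)))).restrictScalars_of_surjective (R := A) Ideal.Quotient.mk_surjective
    rwa [Submodule.restrictScalars_span A _ Ideal.Quotient.mk_surjective, Submodule.span_eq] at h
  let g : J →ₗ[A] (A ⧸ J ^ 2) := (Submodule.mkQ (J ^ 2)) ∘ₗ J.subtype
  have hker : LinearMap.ker g = J • (⊤ : Submodule A J) := by
    ext ⟨z, hz⟩
    rw [LinearMap.mem_ker, ← SetLike.mem_coe (p := (J • ⊤ : Submodule A J)), ← J.injective_subtype.mem_set_image, ← Submodule.map_coe, SetLike.mem_coe]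
    simp [g, Submodule.map_smul'', Ideal.Quotient.eq_zero_iff_mem, sq]
  haveI : Module.Finite A (J ⧸ (J • ⊤ : Submodule A J)) := by
    rw [← hker]
    exact Module.Finite.of_injective (Submodule.liftQ _ g le_rfl)
      (LinearMap.ker_eq_bot.mp (Submodule.ker_liftQ_eq_bot' _ g rfl))
  haveI := Groth.Agent.H24Adic.finite_of_finite_quotient J (M := J)
  exact (Submodule.fg_top J).mp Module.Finite.fg_top

end Groth.Agent.S3856
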