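import Groth.Statements.S3859
import Mathlib.CategoryTheory.Limits.Shapes.Pullback.IsPullback.Basic

set_option autoImplicit false
set_option linter.style.haveILetI false
universe u
open FCompl

open CategoryTheory CategoryTheory.Limits AlgebraicGeometry

namespace Groth.Agent.S3859

open AlgebraicGeometry in
open CategoryTheory in
/-- In the presentation by systems of thickenings: For morphisms of systems X -> S and Y -> S, the
levelwise fibre product with its two projections is a fibre product in the category of systems; it
presents the fibre product of formal schemes when one factor is adic over the base, and otherwise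
only up to cofinality of the levels. -/
theorem result {𝔛 𝔜 𝔖 : FSch.Sys.{u}} (f : 𝔛 ⟶ 𝔖) (g : 𝔜 ⟶ 𝔖) :
    IsPullback (FSch.pullbackFst f g) (FSch.pullbackSnd f g) f g := by
  have w : FSch.pullbackFst f g ≫ f = FSch.pullbackSnd f g ≫ g :=
    FSch.Hom.ext (funext fun n => pullback.condition)
  refine IsPullback.of_isLimit' ⟨w⟩ (PullbackCone.IsLimit.mk _
    (fun c => ⟨fun n => pullback.lift ((c.fst : FSch.Hom _ _).app n) ((c.snd : FSch.Hom _ _).app n)
      (congrArg (fun φ : FSch.Hom c.pt 𝔖 => φ.app n) c.condition), fun n => ?_⟩) ?_ ?_ ?_)
  · dsimp only [FSch.pullbackSys, pullback.map]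
    apply pullback.hom_ext
    · rw [Category.assoc, pullback.lift_fst, pullback.lift_fst_assoc, Category.assoc, pullback.lift_fst]
      exact (c.fst : FSch.Hom _ _).comm n
    · rw [Category.assoc, pullback.lift_snd, pullback.lift_snd_assoc, Category.assoc, pullback.lift_snd]
      exact (c.snd : FSch.Hom _ _).comm n
  · exact fun c => FSch.Hom.ext (funext fun n => pullback.lift_fst _ _ _)
  · exact fun c => FSch.Hom.ext (funext fun n => pullback.lift_snd _ _ _)
  · intro c m h1 h2
    refine FSch.Hom.ext (funext fun n => pullback.hom_ext ?_ ?_)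
    · exact (congrArg (fun φ : FSch.Hom c.pt 𝔛 => φ.app n) h1).trans (pullback.lift_fst _ _ _).symm
    · exact (congrArg (fun φ : FSch.Hom c.pt 𝔜 => φ.app n) h2).trans (pullback.lift_snd _ _ _).symm

end Groth.Agent.S3859
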