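import Groth.Statements.S3860
import Mathlib.RingTheory.AdicCompletion.RingHom

set_option autoImplicit false
universe u
open FCompl

open CategoryTheory AlgebraicGeometry

namespace Groth.Agent.S3860

open AlgebraicGeometry in
/-- (Affine adic case; the formal spectra presented as the systems Spec(A/I^(n+1)) and Spec(B/K^(n+1)).)
Let I be an ideal of a ring A which is complete and separated for the I-adic topology, and K an
ideal of a ring B. Then φ ↦ (Spec of the induced maps B/K^(n+1) -> A/I^(n+1)) is a bijection from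
the ring homomorphisms φ : B -> A with φ(K) ⊆ I onto the morphisms of systems from Spf(A) to Spf(B),
i.e. the compatible families of morphisms Spec(A/I^(n+1)) -> Spec(B/K^(n+1)). -/
theorem result (A B : Type u) [CommRing A] [CommRing B] (I : Ideal A) (K : Ideal B)
    [IsAdicComplete I A] :
    Function.Bijective (fun φ : {φ : B →+* A // K ≤ I.comap φ} ↦ FSch.spfMap I K φ.1 φ.2) := by
  constructor
  · rintro ⟨φ, hφ⟩ ⟨ψ, hψ⟩ h
    refine Subtype.ext (RingHom.ext fun b => (IsHausdorff.eq_iff_smodEq (I := I)).mpr fun n => ?_)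
    have hn := congrArg (fun F : FSch.Hom _ _ => F.app n) h
    simp only [FSch.spfMap_app] at hn
    have h2 := congrArg CommRingCat.Hom.hom (Spec.map_injective hn)
    have h3 : Ideal.Quotient.mk (I ^ (n + 1)) (φ b) = Ideal.Quotient.mk (I ^ (n + 1)) (ψ b) :=
      RingHom.congr_fun h2 (Ideal.Quotient.mk _ b)
    rw [SModEq.sub_mem, smul_eq_mul, Ideal.mul_top]
    exact Ideal.pow_le_pow_right (Nat.le_succ n) (Ideal.Quotient.eq.mp h3)
  · intro F
    let ψ : ∀ n, B ⧸ K ^ (n + 1) →+* A ⧸ I ^ (n + 1) := fun n => (Spec.preimage ((F : FSch.Hom _ _).app n)).hom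
    have hψ : ∀ n, Spec.map (CommRingCat.ofHom (ψ n)) = (F : FSch.Hom _ _).app n := fun n => Spec.map_preimage _
    have hc : ∀ n b, Ideal.Quotient.factor (Ideal.pow_le_pow_right (Nat.le_succ (n + 1))) (ψ (n + 1) (Ideal.Quotient.mk _ b)) =
        ψ n (Ideal.Quotient.mk _ b) := by
      intro n b
      have h := (F : FSch.Hom _ _).comm n
      rw [← hψ n, ← hψ (n + 1)] at h
      have h2 : CommRingCat.ofHom ((ψ n).comp (Ideal.Quotient.factor (Ideal.pow_le_pow_right (I := K) (Nat.le_succ (n + 1))))) =
          CommRingCat.ofHom ((Ideal.Quotient.factor (Ideal.pow_le_pow_right (I := I) (Nat.le_succ (n + 1)))).comp (ψ (n + 1))) := by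
        apply Spec.map_injective
        rw [CommRingCat.ofHom_comp, CommRingCat.ofHom_comp, Spec.map_comp, Spec.map_comp]
        exact h
      have h3 := RingHom.congr_fun (congrArg CommRingCat.Hom.hom h2) (Ideal.Quotient.mk _ b)
      exact h3.symm
    let f : ∀ n, B →+* A ⧸ I ^ n := fun n =>
      ((Ideal.Quotient.factor (Ideal.pow_le_pow_right (Nat.le_succ n))).comp (ψ n)).comp (Ideal.Quotient.mk _)
    have hstep : ∀ n, (Ideal.Quotient.factorPow I (Nat.le_succ n)).comp (f (n + 1)) = f n := by
      intro n
      refine RingHom.ext fun b => ?_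
      simp only [f, RingHom.comp_apply, ← hc n b]
    have hf : ∀ {m n : ℕ} (hle : m ≤ n), (Ideal.Quotient.factorPow I hle).comp (f n) = f m := by
      intro m n hle
      induction n, hle using Nat.le_induction with
      | base =>
        refine RingHom.ext fun b => ?_
        obtain ⟨a, ha⟩ := Ideal.Quotient.mk_surjective (f m b)
        rw [RingHom.comp_apply, ← ha]
        rfl
      | succ n hmn ih =>
        refine RingHom.ext fun b => ?_
        have h1 := RingHom.congr_fun ih b
        have h2 := RingHom.congr_fun (hstep n) b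
        simp only [RingHom.comp_apply] at h1 h2 ⊢
        rw [← h1, ← h2]
        obtain ⟨a, ha⟩ := Ideal.Quotient.mk_surjective (f (n + 1) b)
        rw [← ha]
        rfl
    let φ : B →+* A := IsAdicComplete.liftRingHom I f @hf
    have hφ : ∀ n b, Ideal.Quotient.mk (I ^ (n + 1)) (φ b) = ψ n (Ideal.Quotient.mk _ b) := by
      intro n b
      rw [IsAdicComplete.mk_liftRingHom (hf := @hf)]
      exact hc n b
    have hK : K ≤ I.comap φ := by
      intro k hk
      rw [Ideal.mem_comap]
      have h := hφ 0 k
      rw [Ideal.Quotient.eq_zero_iff_mem.mpr (show k ∈ K ^ (0 + 1) by simpa using hk), map_zero,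
        Ideal.Quotient.eq_zero_iff_mem] at h
      simpa using h
    refine ⟨⟨φ, hK⟩, FSch.Hom.ext (funext fun n => ?_)⟩
    rw [FSch.spfMap_app, ← hψ n]
    congr 2
    exact Ideal.Quotient.ringHom_ext (RingHom.ext fun b => hφ n b)

end Groth.Agent.S3860
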