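import Groth.Statements.S3862
import Groth.Agent.H24FSch.Sub

set_option autoImplicit false
set_option linter.style.haveILetI false
universe u
open FCompl

open CategoryTheory CategoryTheory.Limits AlgebraicGeometry

namespace Groth.Agent.S3862

open AlgebraicGeometry in
open CategoryTheory in
/-- Completions are presented by the closed subschemes cut out by the powers of an ideal sheaf 𝓚 on Y
and by the powers of its inverse image ideal on X. For a morphism of schemes f : X → Y, the
completion X̂ of X along the inverse image ideal is X ×_Y Ŷ: at every level n the square formed by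
the inclusion X'_n → X, the completed morphism X'_n → Y'_n, f and the inclusion Y'_n → Y is
cartesian, and the completed morphism X̂ → Ŷ is adic (each square X'_n → X'_(n+1), Y'_n → Y'_(n+1)
is cartesian). The compatibility of f with the powers of the two ideals (the inverse image of
𝓚^(n+1) is contained in the (n+1)-st power of the inverse image ideal of 𝓚), needed to define the
completed morphism, holds for inverse image ideals and is carried as the hypothesis h. -/
theorem result {X Y : Scheme.{u}} (f : X ⟶ Y) (𝓚 : Y.IdealSheafData)
    (h : FSch.PowCompat f (𝓚.comap f) 𝓚) :
    (∀ n : ℕ, IsPullback (FSch.completionToX X (𝓚.comap f) n)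
        ((FSch.completionMap f (𝓚.comap f) 𝓚 h : FSch.Hom _ _).app n) f (FSch.completionToX Y 𝓚 n)) ∧
      FSch.IsAdicHom (FSch.completionMap f (𝓚.comap f) 𝓚 h) := by
  exact ⟨Groth.Agent.H24FSch.isPullback_completionMap f 𝓚 h, Groth.Agent.H24FSch.isAdicHom_completionMap f 𝓚 h⟩

end Groth.Agent.S3862
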