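import Groth.Statements.S3867
import Groth.Agent.H24FSch.Fibre
import Groth.Agent.H24FSch.Levels
import Mathlib.RingTheory.Nakayama

set_option autoImplicit false
set_option linter.style.haveILetI false
universe u
open FCompl

open CategoryTheory AlgebraicGeometry

namespace Groth.Agent.S3867

open AlgebraicGeometry in
/-- Formal spectra are presented as the systems Spec(A/I^(n+1)) and Spec(B/K^(n+1)), a morphism of
systems being adic when all its squares are cartesian. Let A be a Noetherian ring, complete and
separated for the I-adic topology of an ideal I, K an ideal of a ring B and φ : B → A a ring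
homomorphism with φ(K) ⊆ I. Then the induced morphism Spf(A) → Spf(B) is adic if and only if the
ideal of A generated by φ(K) is I. -/
theorem result (A B : Type u) [CommRing A] [CommRing B] [IsNoetherianRing A]
    (I : Ideal A) (K : Ideal B) [IsAdicComplete I A] (φ : B →+* A) (h : K ≤ I.comap φ) :
    FSch.IsAdicHom (FSch.spfMap I K φ h) ↔ K.map φ = I := by
  have hker : ∀ (R : Type u) [CommRing R] (L : Ideal R) (n : ℕ),
      (FSch.spfToSpec R L n).ker = FSch.idealSpec R (L ^ (n + 1)) := fun R _ L n => rfl
  constructor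
  · intro hf
    have h0 := hf 0
    haveI : IsClosedImmersion ((FSch.spf B K).ι 0) :=
      IsClosedImmersion.spec_of_surjective _ (Ideal.Quotient.factor_surjective (Ideal.pow_le_pow_right (Nat.le_succ (0 + 1))))
    have hk := Groth.Agent.H24FSch.ker_of_isPullback h0
    change (Spec.map (CommRingCat.ofHom (Ideal.Quotient.factor (Ideal.pow_le_pow_right (Nat.le_succ (0 + 1)))))).ker =
      Scheme.IdealSheafData.comap (Spec.map (CommRingCat.ofHom (Ideal.Quotient.factor (Ideal.pow_le_pow_right (Nat.le_succ (0 + 1)))))).ker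
        (Spec.map (CommRingCat.ofHom (FSch.quotPowMap I K φ h (0 + 1)))) at hk
    rw [Groth.Agent.H24FSch.ker_specMap_of_surjective _ (Ideal.Quotient.factor_surjective _),
      Groth.Agent.H24FSch.ker_specMap_of_surjective _ (Ideal.Quotient.factor_surjective _),
      Groth.Agent.H24FSch.comap_idealSpec] at hk
    have hk2 := congrArg (fun D : Scheme.IdealSheafData _ => D.ideal ⟨⊤, isAffineOpen_top _⟩) hk
    simp only [Groth.Agent.H24FSch.idealSpec_ideal_top, Ideal.Quotient.factor_ker] at hk2
    have hk3 := congrArg (Ideal.map (Scheme.ΓSpecIso (CommRingCat.of (A ⧸ I ^ (0 + 1 + 1)))).hom.hom) hk2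
    have hid : ∀ L : Ideal (A ⧸ I ^ (0 + 1 + 1)),
        (L.map (Scheme.ΓSpecIso (CommRingCat.of (A ⧸ I ^ (0 + 1 + 1)))).inv.hom).map
          (Scheme.ΓSpecIso (CommRingCat.of (A ⧸ I ^ (0 + 1 + 1)))).hom.hom = L := fun L => by
      rw [Ideal.map_map, ← CommRingCat.hom_comp, Iso.inv_hom_id, CommRingCat.hom_id]
      exact Ideal.map_id L
    erw [hid, hid] at hk3
    simp only [pow_one, zero_add] at hk3
    refine le_antisymm (Ideal.map_le_iff_le_comap.mpr h) ?_
    have hle : I ≤ K.map φ ⊔ I ^ 2 := by
      intro x hx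
      have hx' := Ideal.mem_map_of_mem (Ideal.Quotient.mk (I ^ (1 + 1))) hx
      rw [hk3, Ideal.map_map, show (FSch.quotPowMap I K φ h 1).comp (Ideal.Quotient.mk (K ^ (1 + 1))) =
        (Ideal.Quotient.mk (I ^ (1 + 1))).comp φ from RingHom.ext fun b => rfl, ← Ideal.map_map,
        Ideal.mem_map_iff_of_surjective _ Ideal.Quotient.mk_surjective] at hx'
      obtain ⟨y, hy, hxy⟩ := hx'
      rw [show x = y + (x - y) by ring]
      refine add_mem (Ideal.mem_sup_left hy) (Ideal.mem_sup_right ?_)
      rw [← neg_sub]
      exact neg_mem (Ideal.Quotient.eq.mp hxy)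
    refine Submodule.le_of_le_smul_of_le_jacobson_bot (I := I) (IsNoetherian.noetherian I)
      (IsAdicComplete.le_jacobson_bot I) ?_
    rw [smul_eq_mul, ← pow_two]
    exact hle
  · intro hKI n
    have hsq : ∀ n, IsPullback (FSch.spfToSpec A I n) ((FSch.spfMap I K φ h : FSch.Hom _ _).app n)
        (Spec.map (CommRingCat.ofHom φ)) (FSch.spfToSpec B K n) := fun n => by
      haveI : IsClosedImmersion (FSch.spfToSpec A I n) := IsClosedImmersion.spec_of_surjective _ Ideal.Quotient.mk_surjective
      haveI : IsClosedImmersion (FSch.spfToSpec B K n) := IsClosedImmersion.spec_of_surjective _ Ideal.Quotient.mk_surjective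
      refine isPullback_of_isClosedImmersion _ _ _ _ ?_ ?_
      · show Spec.map _ ≫ _ = Spec.map _ ≫ Spec.map _
        rw [← Spec.map_comp, ← Spec.map_comp]
        rfl
      · rw [hker, hker, Groth.Agent.H24FSch.comap_idealSpec, Ideal.map_pow, hKI]
    refine IsPullback.of_right ?_ ((FSch.spfMap I K φ h : FSch.Hom _ _).comm n).symm (hsq (n + 1))
    have := hsq n
    convert this using 1
    · exact CohB1.specQuotTrans_specQuot I n
    · exact CohB1.specQuotTrans_specQuot K n

end Groth.Agent.S3867
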