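import Groth.Statements.S3874
import Groth.Agent.H24Val.TruncFP
import Groth.Prelude.Def_FSch3

set_option autoImplicit false
set_option linter.style.haveILetI false
universe u
open FCompl

namespace Groth.Agent.S3874

/-- Let A be a Noetherian ring, J an ideal, f ∈ A and n ≥ 0, and let A_{f} be the completion of the
localization A_f for the topology defined by the extension of J. There is a ring isomorphism from
the localization of A/J^(n+1) away from the class of f onto A_{f} modulo the (n+1)-st power of the
extension of J to A_{f}, compatible with the canonical maps from A (and hence unique). In terms of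
formal spectra: the open D(f) of Spf(A) is Spf(A_{f}), and at level n its ring is the ring
(A/J^(n+1))_f of the open D(f) of Spec(A/J^(n+1)). -/
theorem result (A : Type u) [CommRing A] [IsNoetherianRing A] (J : Ideal A)
    (f : A) (n : ℕ) :
    ∃ e : Localization.Away (Ideal.Quotient.mk (J ^ (n + 1)) f) ≃+*
        FSch.cAway A J f ⧸ (J.map (algebraMap A (FSch.cAway A J f))) ^ (n + 1),
      ∀ a : A, e (algebraMap (A ⧸ J ^ (n + 1)) _ (Ideal.Quotient.mk (J ^ (n + 1)) a)) =
        Ideal.Quotient.mk _ (algebraMap A (FSch.cAway A J f) a) := by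
  let S := Localization.Away f
  let J' := J.map (algebraMap A S)
  let C := AdicCompletion J' S
  haveI hloc := IsLocalization.of_surjective (Submonoid.powers f) S (Ideal.Quotient.mk (J ^ (n + 1)))
    Ideal.Quotient.mk_surjective (Ideal.Quotient.mk ((J ^ (n + 1)).map (algebraMap A S))) Ideal.Quotient.mk_surjective
    (show _ = (algebraMap (A ⧸ J ^ (n + 1)) (S ⧸ (J ^ (n + 1)).map (algebraMap A S))).comp _ from rfl) (by simp)
  haveI : IsLocalization.Away (Ideal.Quotient.mk (J ^ (n + 1)) f) (S ⧸ (J ^ (n + 1)).map (algebraMap A S)) := by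
    rw [Submonoid.map_powers] at hloc
    exact hloc
  have hfg : J'.FG := Ideal.FG.map (IsNoetherian.noetherian J) _
  have hk : RingHom.ker (AdicCompletion.evalₐ J' (n + 1)).toRingHom =
      (J.map (algebraMap A (FSch.cAway A J f))) ^ (n + 1) := by
    have := Groth.Agent.H24Val.ker_evalₐ hfg (n + 1)
    rw [Ideal.map_pow, Ideal.map_map, ← IsScalarTower.algebraMap_eq] at this
    exact this
  let e1 := (IsLocalization.algEquiv (Submonoid.powers (Ideal.Quotient.mk (J ^ (n + 1)) f))
    (Localization.Away (Ideal.Quotient.mk (J ^ (n + 1)) f)) (S ⧸ (J ^ (n + 1)).map (algebraMap A S))).toRingEquiv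
  let e2 := (Ideal.quotEquivOfEq hk.symm).trans
    (RingHom.quotientKerEquivOfSurjective (f := (AdicCompletion.evalₐ J' (n + 1)).toRingHom)
      (AdicCompletion.surjective_evalₐ J' (n + 1)))
  let e3 : S ⧸ (J ^ (n + 1)).map (algebraMap A S) ≃+* S ⧸ J' ^ (n + 1) := Ideal.quotEquivOfEq (Ideal.map_pow _ _ _)
  refine ⟨(e1.trans e3).trans e2.symm, fun a => ?_⟩
  rw [RingEquiv.trans_apply, RingEquiv.symm_apply_eq, RingEquiv.trans_apply]
  have h1 : e1 (algebraMap (A ⧸ J ^ (n + 1)) _ (Ideal.Quotient.mk (J ^ (n + 1)) a)) =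
      Ideal.Quotient.mk _ (algebraMap A S a) := (IsLocalization.algEquiv _ _ _).commutes _
  rw [h1]
  show Ideal.Quotient.mk (J' ^ (n + 1)) (algebraMap A S a) =
    AdicCompletion.evalₐ J' (n + 1) (algebraMap A (FSch.cAway A J f) a)
  rw [IsScalarTower.algebraMap_apply A S (FSch.cAway A J f), AlgHom.commutes]
  rfl

end Groth.Agent.S3874
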