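import Groth.Statements.S3881
import Groth.Agent.H15Site.HyperBuild.Refine

set_option autoImplicit false
universe u
open CategoryTheory
open Hyper

set_option linter.style.haveILetI false
set_option backward.isDefEq.respectTransparency false
open Groth.Agent.H15Site

namespace Groth.Agent.S3881

open Opposite CategoryTheory.Limits in
/-- For hypercoverings of an object X of a small site with fibre products (coskeleta assumed to exist):
let K be a hypercovering of X, n ≥ 0 and u : Z -> K_n a covering morphism of semi-representable
objects over X. Then there are a hypercovering L of X, a morphism f : L -> K and a morphism g : L_n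
-> Z with g followed by u equal to f_n. -/
theorem result {C : Type u} [SmallCategory C] [HasPullbacks C]
    (J : GrothendieckTopology C) (X : C)
    [∀ (n : ℕ) (F : (SimplexCategory.Truncated n)ᵒᵖ ⥤ Limits.FormalCoproduct.{u} (Over X)),
      (SimplexCategory.Truncated.inclusion n).op.HasRightKanExtension F]
    (K : SimplicialObject (FormalCoproduct.{u} (Over X))) (hK : Hyper.IsHypercovering J X K) (n : ℕ)
    (Z : FormalCoproduct.{u} (Over X)) (u : Z ⟶ K.obj (op (SimplexCategory.mk n)))
    (hu : Hyper.IsSRCovering (J.over X) u) :
    ∃ (L : SimplicialObject (FormalCoproduct.{u} (Over X))) (f : L ⟶ K)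
      (g : L.obj (op (SimplexCategory.mk n)) ⟶ Z),
      Hyper.IsHypercovering J X L ∧ g ≫ u = f.app (op (SimplexCategory.mk n)) := by
  haveI := HyperOver.isLocallySurjective_homP_of_isSRCovering u hu
  obtain ⟨L, f, g, hL, hg⟩ := HyperBuild.exists_refinement (J := J.over X) K ((HyperSite.homP (Over X)).map u)
    (HyperBuild.fill_of_isHypercovering hK)
  refine ⟨L, f, HyperBuild.homDesc g, HyperBuild.isHypercovering_of_fill hL, ?_⟩
  refine HyperBuild.hom_ext_pts _ _ fun i => ?_
  rw [← Category.assoc, HyperBuild.fromIncl_homDesc]
  exact ConcreteCategory.congr_hom (congr_app hg (op _)) (FormalCoproduct.Hom.fromIncl i (𝟙 _))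

end Groth.Agent.S3881
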