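import Groth.Statements.S3882
import Groth.Agent.H15Site.HyperBuild.Refine
import Groth.Prelude.Def_Hyper2

set_option autoImplicit false
universe u
open CategoryTheory
open Hyper

set_option linter.style.haveILetI false
set_option backward.isDefEq.respectTransparency false
open Groth.Agent.H15Site

namespace Groth.Agent.S3882

open Opposite CategoryTheory.Limits in
/-- The statement its proof reduces the result to (hypercoverings of an object X of a small site with
fibre products; coskeleta assumed to exist): let N be a presheaf of abelian groups whose associated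
sheaf is zero, K a hypercovering of X and ξ a class in the p-th Cech cohomology group of N with
respect to K. Then there is a morphism of hypercoverings f : L -> K such that ξ maps to zero in the
p-th Cech cohomology group of N with respect to L. (So Cech cohomology over all hypercoverings up to
homotopy kills such presheaves in every degree.) -/
theorem result {C : Type u} [SmallCategory C] [HasPullbacks C]
    (J : GrothendieckTopology C) (X : C)
    [∀ (n : ℕ) (F : (SimplexCategory.Truncated n)ᵒᵖ ⥤ Limits.FormalCoproduct.{u} (Over X)),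
      (SimplexCategory.Truncated.inclusion n).op.HasRightKanExtension F]
    (K : SimplicialObject (FormalCoproduct.{u} (Over X))) (hK : Hyper.IsHypercovering J X K)
    (N : Cᵒᵖ ⥤ AddCommGrpCat.{u}) (hN : IsZero ((presheafToSheaf J AddCommGrpCat.{u}).obj N))
    (p : ℕ) (ξ : Hyper.cechH X K N p) :
    ∃ (L : SimplicialObject (FormalCoproduct.{u} (Over X))) (f : L ⟶ K),
      Hyper.IsHypercovering J X L ∧ Hyper.cechHMap X f N p ξ = 0 := by
  obtain ⟨z, hz⟩ := (AddCommGrpCat.epi_iff_surjective ((Hyper.cechCx X K N).homologyπ p)).1 inferInstance ξ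
  let Y := K.obj (op (SimplexCategory.mk p))
  let x : ∀ i : Y.I, N.obj (op (Y.obj i).left) := fun i =>
    Pi.π (fun i : Y.I => N.obj (op (Y.obj i).left)) i ((Hyper.cechCx X K N).iCycles p z)
  let Z : FormalCoproduct.{u} (Over X) :=
    ⟨Σ i : Y.I, {v : Σ V : Over X, V ⟶ Y.obj i // N.map v.2.left.op (x i) = 0}, fun a => a.2.1.1⟩
  let u : Z ⟶ Y := ⟨fun a => a.1, fun a => a.2.1.2⟩
  have hu : Hyper.IsSRCovering (J.over X) u := fun i => by
    have h0 : (toSheafify J N).app (op (Y.obj i).left) (x i) = (toSheafify J N).app (op (Y.obj i).left) 0 := by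
      have hS : IsZero (sheafify J N) := (sheafToPresheaf J _).map_isZero hN
      have : (toSheafify J N) = 0 := hS.eq_of_tgt _ _
      rw [this]
      rfl
    refine (J.over X).superset_covering (fun V v hv => ?_)
      (J.overEquiv_symm_mem_over (Y.obj i) _ (Presheaf.equalizerSieve_mem J (toSheafify J N) _ _ h0))
    rw [Sieve.overEquiv_symm_iff] at hv
    have h1 : N.map v.left.op (x i) = 0 := hv.trans (map_zero _)
    exact ⟨V, 𝟙 V, _, Presieve.ofArrows.mk (⟨⟨i, ⟨⟨V, v⟩, h1⟩⟩, rfl⟩ : {a : Z.I // u.f a = i}),
      (Category.id_comp _).trans (Category.comp_id v)⟩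
  haveI := HyperOver.isLocallySurjective_homP_of_isSRCovering u hu
  obtain ⟨L, f, g, hL, hg⟩ := HyperBuild.exists_refinement (J := J.over X) K ((HyperSite.homP (Over X)).map u)
    (HyperBuild.fill_of_isHypercovering hK)
  refine ⟨L, f, HyperBuild.isHypercovering_of_fill hL, ?_⟩
  have hzero : HomologicalComplex.cyclesMap (Hyper.cechMap X f N) p z = 0 := by
    refine (AddCommGrpCat.mono_iff_injective ((Hyper.cechCx X L N).iCycles p)).1 inferInstance ?_
    rw [map_zero]
    refine (ConcreteCategory.congr_hom (HomologicalComplex.cyclesMap_i (Hyper.cechMap X f N) p) z).trans ?_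
    refine Concrete.limit_ext _ _ _ fun j => ?_
    obtain ⟨j⟩ := j
    refine Eq.trans ?_ (map_zero _).symm
    have e : (Hyper.cechMap X f N).f p ≫
        Pi.π (fun j => N.obj (op ((L.obj (op (SimplexCategory.mk p))).obj j).left)) j =
        Pi.π (fun i : Y.I => N.obj (op (Y.obj i).left)) ((f.app (op (SimplexCategory.mk p))).f j) ≫
          N.map ((f.app (op (SimplexCategory.mk p))).φ j).left.op :=
      limit.lift_π _ (Discrete.mk j)
    refine (ConcreteCategory.congr_hom e ((Hyper.cechCx X K N).iCycles p z)).trans ?_
    change N.map _ (x _) = 0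
    let a := FormalCoproduct.Hom.fromIncl j (𝟙 ((L.obj (op (SimplexCategory.mk p))).obj j))
    have h2 : g.app (op _) a ≫ u = a ≫ f.app (op (SimplexCategory.mk p)) :=
      ConcreteCategory.congr_hom (congr_app hg (op _)) a
    let w := g.app (op _) a
    obtain ⟨h3, h4⟩ := (FormalCoproduct.hom_ext_iff' _ _).1 h2 PUnit.unit
    have key : ∀ (i i' : Y.I) (h : i = i') (r : ((L.obj (op (SimplexCategory.mk p))).obj j) ⟶ Y.obj i)
        (r' : ((L.obj (op (SimplexCategory.mk p))).obj j) ⟶ Y.obj i'), r ≫ eqToHom (congrArg Y.obj h) = r' →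
        N.map r.left.op (x i) = 0 → N.map r'.left.op (x i') = 0 := by
      intro i i' h r r' hp hp0
      subst h
      rw [eqToHom_refl, Category.comp_id] at hp
      exact hp ▸ hp0
    refine (congrArg (fun t => N.map t (x _)) (congrArg (fun t : (L.obj (op (SimplexCategory.mk p))).obj j ⟶ _ => t.left.op) (Category.id_comp _).symm)).trans
      (key _ _ h3 _ _ h4 ?_)
    change N.map (w.φ PUnit.unit ≫ (w.f PUnit.unit).2.1.2).left.op (x (w.f PUnit.unit).1) = 0
    rw [Over.comp_left, op_comp, N.map_comp, ConcreteCategory.comp_apply, (w.f PUnit.unit).2.2, map_zero]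
  rw [← hz]
  refine (ConcreteCategory.congr_hom
    (HomologicalComplex.homologyπ_naturality (Hyper.cechMap X f N) p) z).trans ?_
  exact (ConcreteCategory.comp_apply _ _ _).trans
    ((congrArg ((Hyper.cechCx X L N).homologyπ p) hzero).trans (map_zero _))

end Groth.Agent.S3882
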