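import Groth.Statements.S3884
import Groth.Agent.H14EtLim.Push

set_option autoImplicit false
open CategoryTheory CategoryTheory.Limits AlgebraicGeometry Opposite
universe u
open EtLim

namespace Groth.Agent.S3884

/-- Let ι be a nonempty directed preordered set, (X_i) an inverse system of quasi-compact
quasi-separated schemes indexed by ι with affine transition morphisms, X a limit with projections
u_i : X -> X_i, and F an abelian sheaf on the small etale site of X. Then the canonical maps
H^n(X_i, u_{i*} F) -> H^n(X, F) (pull back along u_i, then apply the counit u_i^{-1} u_{i*} F -> F)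
identify H^n(X, F) with the directed colimit of the H^n(X_i, u_{i*} F), in the concrete sense: every
class on X comes from some stage, and a class at stage j mapping to zero on X already maps to zero
at some stage k ≥ j under the transition map. (Exactness of pullback of abelian sheaves, which
always holds, is carried as an instance hypothesis.) -/
theorem result {ι : Type u} [Preorder ι] [Nonempty ι] [IsDirected ι (· ≤ ·)] (Xs : ιᵒᵖ ⥤ Scheme.{u})
    (haff : ∀ ⦃a b : ιᵒᵖ⦄ (h : a ⟶ b), IsAffineHom (Xs.map h))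
    (hqc : ∀ a, CompactSpace ↥(Xs.obj a)) (hqs : ∀ a, QuasiSeparatedSpace ↥(Xs.obj a))
    (c : Cone Xs) (hc : IsLimit c) (F : EtCoh.Ab c.pt) (n : ℕ)
    [∀ a, PreservesFiniteLimits (EtCoh.pull (c.π.app a))]
    [∀ ⦃a b : ιᵒᵖ⦄ (h : a ⟶ b), PreservesFiniteLimits (EtCoh.pull (Xs.map h))] :
    (∀ ξ : EtCoh.H c.pt F n,
      ∃ (j : ι) (ξj : EtCoh.H (Xs.obj (op j)) ((EtCoh.push (c.π.app (op j))).obj F) n),
        EtLim.HofPush (c.π.app (op j)) F n ξj = ξ) ∧
    (∀ (j : ι) (ξj : EtCoh.H (Xs.obj (op j)) ((EtCoh.push (c.π.app (op j))).obj F) n),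
      EtLim.HofPush (c.π.app (op j)) F n ξj = 0 →
        ∃ (k : ι) (hk : j ≤ k),
          EtLim.HpushTrans (Xs.map (homOfLE hk).op) (c.π.app (op k)) (c.π.app (op j))
            (c.w (homOfLE hk).op) F n ξj = 0) := by
  haveI : IsCofiltered ιᵒᵖ := by
    haveI : IsFiltered ι := inferInstance
    infer_instance
  haveI : ∀ ⦃a b : ιᵒᵖ⦄ (f : a ⟶ b), IsAffineHom (Xs.map f) := haff
  haveI := hqc
  haveI := hqs
  obtain ⟨hs, hi⟩ := Groth.Agent.H14EtLim.push_surj_inj Xs c hc F n
  refine ⟨fun ξ => ?_, fun j ξj h => ?_⟩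
  · obtain ⟨⟨k⟩, y, hy⟩ := hs ξ
    exact ⟨k, y, hy⟩
  · obtain ⟨⟨k⟩, a, ha⟩ := hi (op j) ξj h
    exact ⟨k, a.unop.le, ha⟩

end Groth.Agent.S3884
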