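import Groth.Statements.S3885
import Groth.Agent.H14EtLim.Gamma

set_option autoImplicit false
open CategoryTheory CategoryTheory.Limits AlgebraicGeometry Opposite
universe u
open EtLim

namespace Groth.Agent.S3885

/-- For the multiplicative group (the source treats any commutative group scheme locally of finite
presentation over some stage): let ι be a nonempty directed preordered set, (X_i) an inverse system
of quasi-compact quasi-separated schemes indexed by ι with affine transition morphisms, and X a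
limit with projections u_i. Then the pullback maps H^n(X_i, G_m) -> H^n(X, G_m) on etale cohomology
identify H^n(X, G_m) with the directed colimit of the H^n(X_i, G_m), in the concrete sense: every
class on X comes from some stage, and a class at stage j mapping to zero on X already maps to zero
at some stage k ≥ j. (Exactness of pullback of abelian sheaves, which always holds, is carried as an
instance hypothesis.) -/
theorem result {ι : Type u} [Preorder ι] [Nonempty ι] [IsDirected ι (· ≤ ·)] (Xs : ιᵒᵖ ⥤ Scheme.{u})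
    (haff : ∀ ⦃a b : ιᵒᵖ⦄ (h : a ⟶ b), IsAffineHom (Xs.map h))
    (hqc : ∀ a, CompactSpace ↥(Xs.obj a)) (hqs : ∀ a, QuasiSeparatedSpace ↥(Xs.obj a))
    (c : Cone Xs) (hc : IsLimit c) (n : ℕ)
    [∀ a, PreservesFiniteLimits (EtCoh.pull (c.π.app a))]
    [∀ ⦃a b : ιᵒᵖ⦄ (h : a ⟶ b), PreservesFiniteLimits (EtCoh.pull (Xs.map h))] :
    (∀ ξ : EtCoh.H c.pt (EtCoh.Gm c.pt) n,
      ∃ (j : ι) (ξj : EtCoh.H (Xs.obj (op j)) (EtCoh.Gm (Xs.obj (op j))) n),
        EtLim.HGmPull (c.π.app (op j)) n ξj = ξ) ∧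
    (∀ (j : ι) (ξj : EtCoh.H (Xs.obj (op j)) (EtCoh.Gm (Xs.obj (op j))) n),
      EtLim.HGmPull (c.π.app (op j)) n ξj = 0 →
        ∃ (k : ι) (hk : j ≤ k), EtLim.HGmPull (Xs.map (homOfLE hk).op) n ξj = 0) := by
  haveI : IsCofiltered ιᵒᵖ := by
    haveI : IsFiltered ι := inferInstance
    infer_instance
  haveI : ∀ ⦃a b : ιᵒᵖ⦄ (f : a ⟶ b), IsAffineHom (Xs.map f) := haff
  haveI := hqc
  haveI := hqs
  obtain ⟨hs, hi⟩ := Groth.Agent.H14EtLim.smallPush_surj_inj ⟨EtCoh.ΓUnits, EtCoh.isSheaf_ΓUnits⟩ Xs c hc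
    Groth.Agent.H14EtLim.isLimCompat_ΓUnits n
  refine ⟨fun ξ => ?_, fun j ξj h => ?_⟩
  · obtain ⟨⟨k⟩, y, hy⟩ := hs ξ
    exact ⟨k, y, hy⟩
  · obtain ⟨⟨k⟩, a, ha⟩ := hi (op j) ξj h
    exact ⟨k, a.unop.le, ha⟩

end Groth.Agent.S3885
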