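import Groth.Statements.S3889
import Groth.Agent.H1DFun.LimTop

set_option autoImplicit false
open CategoryTheory CategoryTheory.Limits AlgebraicGeometry Opposite
universe u
open EtLim

set_option backward.isDefEq.respectTransparency false
set_option backward.isDefEq.respectTransparency.types false

open Groth.Agent.H1DFun in
private theorem aux_id {C : Type*} [Category C] {A B : C} (f : A ⟶ B) : f ≫ 𝟙 B = 𝟙 A ≫ f := by simp

namespace Groth.Agent.S3889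

open Groth.Agent.H1DFun

theorem toLim_top {ι : Type u} [Preorder ι] [Nonempty ι] [IsDirected ι (· ≤ ·)]
    (Xs : ιᵒᵖ ⥤ Scheme.{u}) (haff : ∀ ⦃a b : ιᵒᵖ⦄ (h : a ⟶ b), IsAffineHom (Xs.map h))
    (hqc : ∀ a, CompactSpace ↥(Xs.obj a)) (hqs : ∀ a, QuasiSeparatedSpace ↥(Xs.obj a))
    (c : Cone Xs) (hc : IsLimit c)
    [∀ a, PreservesFiniteLimits (EtCoh.pull (c.π.app a))]
    [∀ ⦃a b : ιᵒᵖ⦄ (h : a ⟶ b), PreservesFiniteLimits (EtCoh.pull (Xs.map h))]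
    (F : ∀ i : ι, EtCoh.Ab (Xs.obj (op i)))
    (φ : ∀ ⦃i j : ι⦄ (h : i ≤ j), (EtCoh.pull (Xs.map (homOfLE h).op)).obj (F i) ⟶ F j)
    (hφ : ∀ ⦃i j k : ι⦄ (hij : i ≤ j) (hjk : j ≤ k),
      φ (hij.trans hjk) = (EtLim.pullTrans Xs hij hjk).hom.app (F i) ≫
        (EtCoh.pull (Xs.map (homOfLE hjk).op)).map (φ hij) ≫ φ hjk)
    (G : ι ⥤ EtCoh.Ab c.pt) (ψ : ∀ i : ι, (EtCoh.pull (c.π.app (op i))).obj (F i) ≅ G.obj i)
    (hψ : ∀ ⦃i j : ι⦄ (hij : i ≤ j), (ψ i).hom ≫ G.map (homOfLE hij) =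
      (EtLim.pullTransCone Xs c hij).hom.app (F i) ≫ (EtCoh.pull (c.π.app (op j))).map (φ hij) ≫ (ψ j).hom)
    (n : ℕ) (j : ι) (x : EtCoh.H (Xs.obj (op j)) (F j) n) :
    toLim Xs c F G ψ n j (𝟙 _) (c.π.app (op j)) (𝟙 c.pt) (aux_id _) (topC (F j) n (𝟙 _) x) =
      topC (colimit G) n (𝟙 c.pt) (EtLim.HpullThen (c.π.app (op j)) (F j) ((ψ j).hom ≫ colimit.ι G j) n x) :=
  (toLim_topC Xs c F G ψ n j (aux_id _) x).trans (congrArg _ (HpullThen_eq n _ _ _ x).symm)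

theorem lim_surj {ι : Type u} [Preorder ι] [Nonempty ι] [IsDirected ι (· ≤ ·)]
    (Xs : ιᵒᵖ ⥤ Scheme.{u}) (haff : ∀ ⦃a b : ιᵒᵖ⦄ (h : a ⟶ b), IsAffineHom (Xs.map h))
    (hqc : ∀ a, CompactSpace ↥(Xs.obj a)) (hqs : ∀ a, QuasiSeparatedSpace ↥(Xs.obj a))
    (c : Cone Xs) (hc : IsLimit c)
    [∀ a, PreservesFiniteLimits (EtCoh.pull (c.π.app a))]
    [∀ ⦃a b : ιᵒᵖ⦄ (h : a ⟶ b), PreservesFiniteLimits (EtCoh.pull (Xs.map h))]
    (F : ∀ i : ι, EtCoh.Ab (Xs.obj (op i)))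
    (φ : ∀ ⦃i j : ι⦄ (h : i ≤ j), (EtCoh.pull (Xs.map (homOfLE h).op)).obj (F i) ⟶ F j)
    (hφ : ∀ ⦃i j k : ι⦄ (hij : i ≤ j) (hjk : j ≤ k),
      φ (hij.trans hjk) = (EtLim.pullTrans Xs hij hjk).hom.app (F i) ≫
        (EtCoh.pull (Xs.map (homOfLE hjk).op)).map (φ hij) ≫ φ hjk)
    (G : ι ⥤ EtCoh.Ab c.pt) (ψ : ∀ i : ι, (EtCoh.pull (c.π.app (op i))).obj (F i) ≅ G.obj i)
    (hψ : ∀ ⦃i j : ι⦄ (hij : i ≤ j), (ψ i).hom ≫ G.map (homOfLE hij) =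
      (EtLim.pullTransCone Xs c hij).hom.app (F i) ≫ (EtCoh.pull (c.π.app (op j))).map (φ hij) ≫ (ψ j).hom)
    (n : ℕ) (ξ : EtCoh.H c.pt (colimit G) n) :
    ∃ (j : ι) (ξj : EtCoh.H (Xs.obj (op j)) (F j) n),
      EtLim.HpullThen (c.π.app (op j)) (F j) ((ψ j).hom ≫ colimit.ι G j) n ξj = ξ := by
  obtain ⟨i₁⟩ := ‹Nonempty ι›
  let D : Over (op i₁) ⥤ Scheme.{u} := Over.forget (op i₁) ⋙ Xs
  haveI : ∀ ⦃a b : Over (op i₁)⦄ (f : a ⟶ b), IsAffineHom (D.map f) := fun a b f => haff f.left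
  haveI : ∀ a, CompactSpace ↥(D.obj a) := fun a => hqc a.left
  haveI : ∀ a, QuasiSeparatedSpace ↥(D.obj a) := fun a => hqs a.left
  haveI : IsFiltered ι := inferInstance
  let c' : Cone D := c.whisker (Over.forget (op i₁))
  have hc' : IsLimit c' := (Functor.Initial.isLimitWhiskerEquiv (Over.forget (op i₁)) c).symm hc
  have ha : ∀ {i k : Over (op i₁)} (m : k ⟶ i), D.map m ≫ 𝟙 (Xs.obj (op i.left.unop)) =
      𝟙 (Xs.obj (op k.left.unop)) ≫ Xs.map (homOfLE m.left.unop.le).op := fun {i k} m => aux_id _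
  have ha' : ∀ k : Over (op i₁), c'.π.app k ≫ 𝟙 (Xs.obj (op k.left.unop)) =
      𝟙 c.pt ≫ c.π.app (op k.left.unop) := fun k => aux_id _
  obtain ⟨l, y, hy⟩ := sys_surj Xs c F φ G ψ hψ n D c' hc'
    (fun k => 𝟙 (Xs.obj (op k.left.unop))) ha (𝟙 c.pt) ha' (topC (colimit G) n (𝟙 c.pt) ξ)
  obtain ⟨y₀, rfl⟩ := (topC_id_bijective (F l.left.unop) n).2 y
  exact ⟨l.left.unop, y₀, (topC_id_bijective (colimit G) n).1
    ((toLim_top Xs haff hqc hqs c hc F φ hφ G ψ hψ n l.left.unop y₀).symm.trans hy)⟩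

theorem lim_inj {ι : Type u} [Preorder ι] [Nonempty ι] [IsDirected ι (· ≤ ·)]
    (Xs : ιᵒᵖ ⥤ Scheme.{u}) (haff : ∀ ⦃a b : ιᵒᵖ⦄ (h : a ⟶ b), IsAffineHom (Xs.map h))
    (hqc : ∀ a, CompactSpace ↥(Xs.obj a)) (hqs : ∀ a, QuasiSeparatedSpace ↥(Xs.obj a))
    (c : Cone Xs) (hc : IsLimit c)
    [∀ a, PreservesFiniteLimits (EtCoh.pull (c.π.app a))]
    [∀ ⦃a b : ιᵒᵖ⦄ (h : a ⟶ b), PreservesFiniteLimits (EtCoh.pull (Xs.map h))]
    (F : ∀ i : ι, EtCoh.Ab (Xs.obj (op i)))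
    (φ : ∀ ⦃i j : ι⦄ (h : i ≤ j), (EtCoh.pull (Xs.map (homOfLE h).op)).obj (F i) ⟶ F j)
    (hφ : ∀ ⦃i j k : ι⦄ (hij : i ≤ j) (hjk : j ≤ k),
      φ (hij.trans hjk) = (EtLim.pullTrans Xs hij hjk).hom.app (F i) ≫
        (EtCoh.pull (Xs.map (homOfLE hjk).op)).map (φ hij) ≫ φ hjk)
    (G : ι ⥤ EtCoh.Ab c.pt) (ψ : ∀ i : ι, (EtCoh.pull (c.π.app (op i))).obj (F i) ≅ G.obj i)
    (hψ : ∀ ⦃i j : ι⦄ (hij : i ≤ j), (ψ i).hom ≫ G.map (homOfLE hij) =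
      (EtLim.pullTransCone Xs c hij).hom.app (F i) ≫ (EtCoh.pull (c.π.app (op j))).map (φ hij) ≫ (ψ j).hom)
    (n : ℕ) (j : ι) (ξj : EtCoh.H (Xs.obj (op j)) (F j) n)
    (h : EtLim.HpullThen (c.π.app (op j)) (F j) ((ψ j).hom ≫ colimit.ι G j) n ξj = 0) :
    ∃ (k : ι) (hk : j ≤ k), EtLim.HpullThen (Xs.map (homOfLE hk).op) (F j) (φ hk) n ξj = 0 := by
  obtain ⟨i₁⟩ := ‹Nonempty ι›
  let D : Over (op i₁) ⥤ Scheme.{u} := Over.forget (op i₁) ⋙ Xs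
  haveI : ∀ ⦃a b : Over (op i₁)⦄ (f : a ⟶ b), IsAffineHom (D.map f) := fun a b f => haff f.left
  haveI : ∀ a, CompactSpace ↥(D.obj a) := fun a => hqc a.left
  haveI : ∀ a, QuasiSeparatedSpace ↥(D.obj a) := fun a => hqs a.left
  haveI : IsFiltered ι := inferInstance
  let c' : Cone D := c.whisker (Over.forget (op i₁))
  have hc' : IsLimit c' := (Functor.Initial.isLimitWhiskerEquiv (Over.forget (op i₁)) c).symm hc
  have ha : ∀ {i k : Over (op i₁)} (m : k ⟶ i), D.map m ≫ 𝟙 (Xs.obj (op i.left.unop)) =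
      𝟙 (Xs.obj (op k.left.unop)) ≫ Xs.map (homOfLE m.left.unop.le).op := fun {i k} m => aux_id _
  have ha' : ∀ k : Over (op i₁), c'.π.app k ≫ 𝟙 (Xs.obj (op k.left.unop)) =
      𝟙 c.pt ≫ c.π.app (op k.left.unop) := fun k => aux_id _
  obtain ⟨j', hj, hj₁⟩ := exists_ge_ge j i₁
  have e2 : toLim Xs c F G ψ n j' (𝟙 _) (c.π.app (op j')) (𝟙 c.pt) (aux_id _)
      (toStage Xs F φ n hj (𝟙 _) (𝟙 _) (Xs.map (homOfLE hj).op) (aux_id _) (topC (F j) n (𝟙 _) ξj)) = 0 :=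
    (toLim_toStage Xs c F φ G ψ n hψ hj (𝟙 _) (𝟙 _) _ _ (c.π.app (op j')) (c.π.app (op j)) (𝟙 c.pt) _
      (aux_id _) (c.w (homOfLE hj).op) _).trans
      ((toLim_top Xs haff hqc hqs c hc F φ hφ G ψ hψ n j ξj).trans ((congrArg _ h).trans (map_zero _)))
  obtain ⟨l, m, hl⟩ := sys_inj Xs c F φ hφ G ψ hψ n D c' hc'
    (fun k => 𝟙 (Xs.obj (op k.left.unop))) ha (𝟙 c.pt) ha' (Over.mk (homOfLE hj₁).op) _ e2
  have e3 := (toStage_toStage Xs F φ n hφ hj m.left.unop.le (𝟙 _) (𝟙 _) (𝟙 _)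
    (Xs.map (homOfLE hj).op) (D.map m) (Xs.map (homOfLE (hj.trans m.left.unop.le)).op) (aux_id _) (ha m)
    (aux_id _) ((Xs.map_comp _ _).symm) (topC (F j) n (𝟙 _) ξj)).symm.trans hl
  refine ⟨l.left.unop, hj.trans m.left.unop.le, (topC_id_bijective _ n).1 ?_⟩
  refine (congrArg _ (HpullThen_eq n _ _ _ ξj)).trans ?_
  exact (toStage_topC Xs F φ n (hj.trans m.left.unop.le) (aux_id _) ξj).symm.trans (e3.trans (map_zero _).symm)

/-- Let ι be a nonempty directed preordered set, (X_i) an inverse system of quasi-compact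
quasi-separated schemes indexed by ι with affine transition morphisms u_ij : X_j -> X_i, and X a
limit with projections u_i. Let (F_i) be abelian sheaves on the small etale sites of the X_i
together with maps φ_ij : u_ij^{-1} F_i -> F_j for i ≤ j satisfying the cocycle condition φ_ik =
φ_jk ∘ u_jk^{-1}(φ_ij) (a sheaf on the fibred etale site of the system), and let F_∞ be the colimit
on X of the sheaves u_i^{-1} F_i along the maps induced by the φ_ij; here F_∞ is presented as the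
colimit of any diagram G identified with (u_i^{-1} F_i) compatibly with the φ_ij. Then the canonical
maps H^n(X_i, F_i) -> H^n(X, F_∞) identify H^n(X, F_∞) with the directed colimit of the H^n(X_i,
F_i) (transition maps: pull back along u_ij, then apply φ_ij), in the concrete sense: every class on
X comes from some stage, and a class at stage j mapping to zero on X already maps to zero at some
stage k ≥ j. (Exactness of pullback of abelian sheaves, which always holds, is carried as an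
instance hypothesis.) -/
theorem result {ι : Type u} [Preorder ι] [Nonempty ι] [IsDirected ι (· ≤ ·)]
    (Xs : ιᵒᵖ ⥤ Scheme.{u}) (haff : ∀ ⦃a b : ιᵒᵖ⦄ (h : a ⟶ b), IsAffineHom (Xs.map h))
    (hqc : ∀ a, CompactSpace ↥(Xs.obj a)) (hqs : ∀ a, QuasiSeparatedSpace ↥(Xs.obj a))
    (c : Cone Xs) (hc : IsLimit c)
    [∀ a, PreservesFiniteLimits (EtCoh.pull (c.π.app a))]
    [∀ ⦃a b : ιᵒᵖ⦄ (h : a ⟶ b), PreservesFiniteLimits (EtCoh.pull (Xs.map h))]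
    (F : ∀ i : ι, EtCoh.Ab (Xs.obj (op i)))
    (φ : ∀ ⦃i j : ι⦄ (h : i ≤ j), (EtCoh.pull (Xs.map (homOfLE h).op)).obj (F i) ⟶ F j)
    (hφ : ∀ ⦃i j k : ι⦄ (hij : i ≤ j) (hjk : j ≤ k),
      φ (hij.trans hjk) = (EtLim.pullTrans Xs hij hjk).hom.app (F i) ≫
        (EtCoh.pull (Xs.map (homOfLE hjk).op)).map (φ hij) ≫ φ hjk)
    (G : ι ⥤ EtCoh.Ab c.pt) (ψ : ∀ i : ι, (EtCoh.pull (c.π.app (op i))).obj (F i) ≅ G.obj i)
    (hψ : ∀ ⦃i j : ι⦄ (hij : i ≤ j), (ψ i).hom ≫ G.map (homOfLE hij) =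
      (EtLim.pullTransCone Xs c hij).hom.app (F i) ≫ (EtCoh.pull (c.π.app (op j))).map (φ hij) ≫ (ψ j).hom)
    (n : ℕ) :
    (∀ ξ : EtCoh.H c.pt (colimit G) n, ∃ (j : ι) (ξj : EtCoh.H (Xs.obj (op j)) (F j) n),
        EtLim.HpullThen (c.π.app (op j)) (F j) ((ψ j).hom ≫ colimit.ι G j) n ξj = ξ) ∧
    (∀ (j : ι) (ξj : EtCoh.H (Xs.obj (op j)) (F j) n),
      EtLim.HpullThen (c.π.app (op j)) (F j) ((ψ j).hom ≫ colimit.ι G j) n ξj = 0 →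
        ∃ (k : ι) (hk : j ≤ k), EtLim.HpullThen (Xs.map (homOfLE hk).op) (F j) (φ hk) n ξj = 0) := by
  exact ⟨lim_surj Xs haff hqc hqs c hc F φ hφ G ψ hψ n, lim_inj Xs haff hqc hqs c hc F φ hφ G ψ hψ n⟩

end Groth.Agent.S3889
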