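import Groth.Statements.S3894
import Mathlib.CategoryTheory.Sites.Limits
import Mathlib.CategoryTheory.Limits.Types.Products

set_option linter.style.haveILetI false
open CategoryTheory CategoryTheory.Limits Opposite

set_option autoImplicit false
universe u
open CategoryTheory CategoryTheory.Limits Opposite
open Tors

namespace Groth.Agent.S3894

section

variable {C : Type u} [SmallCategory C] {J : GrothendieckTopology C} {G : Sheaf J AddCommGrpCat.{u}}

theorem nonempty_top (U : Cᵒᵖ) : Nonempty ((⊤_ (Sheaf J (Type u))).obj.obj U) := by
  let e := Types.isTerminalEquivUnique _ (IsTerminal.isTerminalObj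
    (sheafToPresheaf J (Type u) ⋙ (evaluation Cᵒᵖ (Type u)).obj U) _ terminalIsTerminal)
  exact ⟨e.default⟩
end

/-- A torsor P under an abelian sheaf G is trivial, i.e. equivariantly isomorphic to G acting on itself
by translations, if and only if P has a global section (a morphism from the final sheaf of sets). -/
theorem result {C : Type u} [SmallCategory C] {J : GrothendieckTopology C}
    {G : Sheaf J AddCommGrpCat.{u}} (T : Tors.Torsor G) : T.IsTrivial ↔ T.HasSection := by
  constructor
  · rintro ⟨e, -⟩
    refine ⟨⟨{ app := fun U => ↾fun _ => e.hom.hom.app U (0 : G.obj.obj U)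
               naturality := fun U V f => ?_ }⟩⟩
    ext x
    exact (congrArg (e.hom.hom.app V) (map_zero (G.obj.map f).hom).symm).trans
      (ConcreteCategory.congr_hom (e.hom.hom.naturality f) (0 : G.obj.obj U))
  · rintro ⟨σ⟩
    classical
    let pt : ∀ U : Cᵒᵖ, (⊤_ (Sheaf J (Type u))).obj.obj U := fun U => (nonempty_top U).some
    have hpt : ∀ (U : Cᵒᵖ) (x : (⊤_ (Sheaf J (Type u))).obj.obj U), x = pt U := by
      intro U x
      let e := Types.isTerminalEquivUnique _ (IsTerminal.isTerminalObj
        (sheafToPresheaf J (Type u) ⋙ (evaluation Cᵒᵖ (Type u)).obj U) _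
        (terminalIsTerminal : IsTerminal (⊤_ (Sheaf J (Type u)))))
      exact (e.uniq x).trans (e.uniq (pt U)).symm
    let φ : ((sheafCompose J (forget AddCommGrpCat.{u})).obj G).obj ⟶ T.P.obj :=
      { app := fun U => ↾fun g => T.vadd (U := U) g (σ.hom.app U (pt U))
        naturality := fun U V f => by
          ext g
          refine Eq.trans ?_ (T.map_vadd f g (σ.hom.app U (pt U))).symm
          refine congrArg (T.vadd (U := V) _) ?_
          exact (congrArg (σ.hom.app V) (hpt V _)).symm.trans
            (ConcreteCategory.congr_hom (σ.hom.naturality f) (pt U)) }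
    haveI : ∀ U, IsIso (φ.app U) := fun U => by
      rw [CategoryTheory.isIso_iff_bijective]
      exact Function.bijective_iff_existsUnique _ |>.2 fun q => T.free_transitive _ q
    haveI : IsIso φ := NatIso.isIso_of_isIso_app φ
    refine ⟨(fullyFaithfulSheafToPresheaf J (Type u)).preimageIso (asIso φ), fun U g h => ?_⟩
    exact T.add_vadd g h _

end Groth.Agent.S3894
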