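import Groth.Statements.S3896
import Groth.Agent.H18Et.Subterminal

set_option autoImplicit false
open CategoryTheory CategoryTheory.Limits AlgebraicGeometry Opposite
universe u
open EtDesc

namespace Groth.Agent.S3896

/-- Let X be a scheme. Sending a Zariski open U of X to the etale sheaf of sets attached to the open
immersion U -> X gives an isomorphism of ordered sets from the opens of X onto the subobjects of the
final object of the etale topos of X: (a) each such sheaf is a subobject of the final sheaf; (b) U ≤
V if and only if there is a morphism between the attached sheaves; (c) every subobject of the final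
sheaf is isomorphic to the sheaf attached to some open. -/
theorem result (X : Scheme.{u}) :
    (∀ U : X.Opens, Mono (terminal.from (EtDesc.repSh (EtDesc.ofOpen U)))) ∧
    (∀ U V : X.Opens, U ≤ V ↔ Nonempty (EtDesc.repSh (EtDesc.ofOpen U) ⟶ EtDesc.repSh (EtDesc.ofOpen V))) ∧
    (∀ F : EtDesc.Sh X, Mono (terminal.from F) → ∃ U : X.Opens, Nonempty (F ≅ EtDesc.repSh (EtDesc.ofOpen U))) := by
  refine ⟨fun U => ⟨fun {G} a b _ => ?_⟩, fun U V => ⟨fun h => ?_, ?_⟩, fun F hF => ?_⟩
  · refine ObjectProperty.hom_ext _ (NatTrans.ext (funext fun Z => ?_))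
    ext g
    exact (Groth.Agent.H18Et.Subterminal.subsingleton_repSh U Z).elim _ _
  · exact ⟨(presheafToSheaf X.smallEtaleTopology (Type (u + 1))).map
      (Functor.whiskerRight (yoneda.map (MorphismProperty.Over.homMk (X.homOfLE h) (X.homOfLE_ι h) :
        EtDesc.ofOpen U ⟶ EtDesc.ofOpen V)) uliftFunctor.{u + 1, u})⟩
  · rintro ⟨φ⟩ x hx
    have h := (Groth.Agent.H18Et.Subterminal.nonempty_repSh_iff U (op (EtDesc.ofOpen U))).2
      fun z => z.2
    exact (Groth.Agent.H18Et.Subterminal.nonempty_repSh_iff V (op (EtDesc.ofOpen U))).1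
      (h.map (φ.hom.app _)) ⟨x, hx⟩
  · have hs : ∀ Z : X.Etale, Subsingleton (F.obj.obj (op Z)) := fun Z => by
      haveI : Mono ((terminal.from F).hom.app (op Z)) := inferInstance
      haveI : Subsingleton ((⊤_ (EtDesc.Sh X)).obj.obj (op Z)) :=
        (Types.isTerminalEquivUnique _ (IsTerminal.isTerminalObj
          (sheafToPresheaf X.smallEtaleTopology (Type (u + 1)) ⋙ (evaluation _ _).obj (op Z)) _
          terminalIsTerminal)).instSubsingleton
      exact ((CategoryTheory.mono_iff_injective _).1 ‹Mono ((terminal.from F).hom.app (op Z))›).subsingleton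
    obtain ⟨U, hU⟩ := Groth.Agent.H18Et.Subterminal.exists_open F hs
    obtain ⟨e⟩ := Groth.Agent.H18Et.Subterminal.nonempty_iso (P := F.obj) (Q := (EtDesc.repSh (EtDesc.ofOpen U)).obj)
      (fun Z => hs Z.unop) (fun Z => Groth.Agent.H18Et.Subterminal.subsingleton_repSh U Z)
      (fun Z => (hU Z.unop).trans (Groth.Agent.H18Et.Subterminal.nonempty_repSh_iff U Z).symm)
    exact ⟨U, ⟨(fullyFaithfulSheafToPresheaf _ _).preimageIso e⟩⟩

end Groth.Agent.S3896
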