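import Groth.Statements.S3897
import Groth.Agent.H18Et.EtaleRestrict
import Groth.Agent.H18Et.Subterminal
import Groth.Prelude.Def_EtShriek2
import Mathlib.CategoryTheory.Comma.Over.Pullback

set_option autoImplicit false
set_option linter.style.haveILetI false
set_option backward.isDefEq.respectTransparency false
set_option backward.isDefEq.respectTransparency.types false
open CategoryTheory CategoryTheory.Limits AlgebraicGeometry Opposite
universe u
open EtDesc

namespace Groth.Agent.S3897

open Groth.Agent.H18Et EtaleRestrict

variable {X : Scheme.{u}} (U : X.Opens)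

/-- Restriction of sheaves of sets. -/
noncomputable abbrev res : EtDesc.Sh X ⥤ EtDesc.Sh U.toScheme :=
  (emap U.ι).sheafPushforwardContinuous (Type (u + 1)) U.toScheme.smallEtaleTopology X.smallEtaleTopology

/-- Restriction is left adjoint to direct image. -/
noncomputable def resPushAdj : res U ⊣ EtDesc.pushSh U.ι :=
  (emapAdj U.ι).sheafPushforwardContinuous (E := Type (u + 1)) U.toScheme.smallEtaleTopology X.smallEtaleTopology

theorem unique_hom (V : X.Etale) (a b : V ⟶ EtDesc.ofOpen U) : a = b :=
  MorphismProperty.Over.Hom.ext ((cancel_mono U.ι).1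
    ((MorphismProperty.Over.w a).trans (MorphismProperty.Over.w b).symm))

theorem isIso_of_res {F G : Over (EtDesc.repSh (EtDesc.ofOpen U))} (φ : F ⟶ G)
    [IsIso ((res U).map φ.left)] : IsIso φ := by
  haveI : IsIso φ.left := by
    haveI : IsIso ((sheafToPresheaf _ _).map φ.left) := by
      refine @NatIso.isIso_of_isIso_app _ _ _ _ _ _ _ fun V => ?_
      refine (ConcreteCategory.isIso_iff_bijective _).2 ?_
      by_cases h : Nonempty (V.unop ⟶ EtDesc.ofOpen U)
      · obtain ⟨a⟩ := h
        haveI : Etale V.unop.hom := V.unop.prop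
        haveI : Etale (a.left ≫ U.ι) := by
          rw [show a.left ≫ U.ι = V.unop.hom from MorphismProperty.Over.w a]; infer_instance
        haveI : Etale a.left := Etale.of_comp a.left U.ι
        let W : U.toScheme.Etale := Scheme.Etale.mk a.left
        let e : (emap U.ι).obj W ≅ V.unop :=
          MorphismProperty.Over.isoMk (Iso.refl _)
            ((Category.id_comp _).trans (MorphismProperty.Over.w a).symm)
        haveI h1 : IsIso (((res U).map φ.left).hom.app (op W)) :=
          inferInstanceAs (IsIso (((sheafToPresheaf _ _).map ((res U).map φ.left)).app _))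
        haveI h2 : IsIso (φ.left.hom.app (op ((emap U.ι).obj W))) := h1
        have hn := φ.left.hom.naturality e.hom.op
        haveI : IsIso (φ.left.hom.app V ≫ G.left.obj.map e.hom.op) := by
          rw [show φ.left.hom.app V ≫ G.left.obj.map e.hom.op = _ from hn.symm]
          exact IsIso.comp_isIso' inferInstance h2
        haveI := IsIso.of_isIso_comp_right (φ.left.hom.app V) (G.left.obj.map e.hom.op)
        exact ConcreteCategory.bijective_of_isIso (φ.left.hom.app V)
      · have hF : ∀ (K : Over (EtDesc.repSh (EtDesc.ofOpen U))), IsEmpty (ToType (K.left.obj.obj V)) :=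
          fun K => ⟨fun x => h ((Subterminal.nonempty_hom_iff U V.unop).2
            ((Subterminal.nonempty_repSh_iff U V).1 ⟨K.hom.hom.app V x⟩))⟩
        exact ⟨fun x => ((hF F).false x).elim, fun x => ((hF G).false x).elim⟩
    exact isIso_of_reflects_iso φ.left (sheafToPresheaf _ _)
  haveI : IsIso ((Over.forget _).map φ) := this
  exact isIso_of_reflects_iso φ (Over.forget _)

/-- Let U be a Zariski open of the scheme X, with open immersion j : U -> X and attached subterminal
etale sheaf of sets U~ on X. Then the functor from sheaves of sets on X over U~ to sheaves of sets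
on U, (F -> U~) ↦ j^* F, is an equivalence of categories. -/
theorem result (X : Scheme.{u}) (U : X.Opens) :
    (Over.forget (EtDesc.repSh (EtDesc.ofOpen U)) ⋙ EtDesc.pullSh U.ι).IsEquivalence := by
  let R := EtDesc.repSh (EtDesc.ofOpen U)
  let adj : Over.forget R ⋙ res U ⊣ EtDesc.pushSh U.ι ⋙ Over.star R :=
    (Over.forgetAdjStar R).comp (resPushAdj U)
  haveI : IsIso (resPushAdj U).counit := by
    let a := emapAdj U.ι
    haveI : (emap U.ι).Full := EtShriek.full_compEtale U.ι
    haveI : (emap U.ι).Faithful := EtShriek.faithful_compEtale U.ι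
    haveI : IsIso a.unit := a.unit_isIso_of_L_fully_faithful
    refine @NatIso.isIso_of_isIso_app _ _ _ _ _ _ _ fun S => ?_
    refine (isIso_iff_of_reflects_iso _ (sheafToPresheaf _ _)).1 ?_
    refine @NatIso.isIso_of_isIso_app _ _ _ _ _ _ _ fun V => ?_
    haveI : IsIso (a.unit.app V.unop) := inferInstance
    haveI h1 : IsIso (a.unit.app V.unop).op := isIso_op _
    exact @Functor.map_isIso _ _ _ _ _ _ S.obj (a.unit.app V.unop).op h1
  haveI hc : ∀ G, IsIso (adj.counit.app G) := fun G => by
    haveI := (resPushAdj U).rightAdjoint_preservesLimits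
    haveI : PreservesLimitsOfSize.{0, 0} (res U) := inferInstance
    haveI : IsIso ((res U).map ((Over.forgetAdjStar R).counit.app ((EtDesc.pushSh U.ι).obj G))) := by
      rw [Over.forgetAdjStar_counit_app]
      refine (isIso_iff_of_reflects_iso _ (sheafToPresheaf _ _)).1 ?_
      refine @NatIso.isIso_of_isIso_app _ _ _ _ _ _ _ fun V => ?_
      have hp := isLimitOfPreserves (res U ⋙ sheafToPresheaf _ _ ⋙ (evaluation _ _).obj V)
        (prodIsProd R ((EtDesc.pushSh U.ι).obj G))
      haveI := Subterminal.subsingleton_repSh U (op ((emap U.ι).obj V.unop))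
      haveI : Subsingleton (ToType (((res U).obj R).obj.obj V)) :=
        Subterminal.subsingleton_repSh U (op ((emap U.ι).obj V.unop))
      haveI : Nonempty (ToType (((res U).obj R).obj.obj V)) :=
        (Subterminal.nonempty_repSh_iff U (op ((emap U.ι).obj V.unop))).2 fun z => (V.unop.hom z).2
      refine (ConcreteCategory.isIso_iff_bijective _).2 ⟨fun x y h => ?_, fun z => ?_⟩
      · refine Concrete.isLimit_ext _ hp x y ?_
        rintro ⟨_ | _⟩
        · exact Subsingleton.elim (α := ToType (((res U).obj R).obj.obj V)) _ _
        · exact h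
      · let c : Cone ((pair R ((EtDesc.pushSh U.ι).obj G)) ⋙ (res U ⋙ sheafToPresheaf _ _ ⋙ (evaluation _ _).obj V)) :=
          { pt := PUnit.{u + 2}
            π := Discrete.natTrans fun i => match i with
              | ⟨WalkingPair.left⟩ => TypeCat.ofHom fun _ => (Classical.arbitrary (ToType (((res U).obj R).obj.obj V)))
              | ⟨WalkingPair.right⟩ => TypeCat.ofHom fun _ => z }
        exact ⟨hp.lift c PUnit.unit, ConcreteCategory.congr_hom (hp.fac c ⟨WalkingPair.right⟩) PUnit.unit⟩
    rw [Adjunction.comp_counit_app]
    infer_instance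
  haveI : IsIso adj.counit := NatIso.isIso_of_isIso_app _
  haveI hu : ∀ F, IsIso (adj.unit.app F) := fun F => by
    haveI : IsIso ((Over.forget R ⋙ res U).map (adj.unit.app F) ≫ adj.counit.app ((Over.forget R ⋙ res U).obj F)) := by
      rw [show (Over.forget R ⋙ res U).map (adj.unit.app F) ≫ adj.counit.app ((Over.forget R ⋙ res U).obj F) = _ from adj.left_triangle_components F]
      exact IsIso.id _
    haveI : IsIso ((res U).map (adj.unit.app F).left) :=
      IsIso.of_isIso_comp_right ((Over.forget R ⋙ res U).map (adj.unit.app F))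
        (adj.counit.app ((Over.forget R ⋙ res U).obj F))
    exact isIso_of_res U (adj.unit.app F)
  haveI : IsIso adj.unit := NatIso.isIso_of_isIso_app _
  haveI : (Over.forget R ⋙ res U).IsEquivalence := adj.toEquivalence.isEquivalence_functor
  exact Functor.isEquivalence_of_iso
    (Functor.isoWhiskerLeft (Over.forget R) ((resPushAdj U).leftAdjointUniq (EtDesc.adjSh U.ι)))

end Groth.Agent.S3897
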