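import Groth.Statements.S3952
import Groth.Agent.H21Split.Bru.BorelFibre
-- import your own Groth.Agent.* helpers here

set_option autoImplicit false
open CategoryTheory MonoidalCategory CartesianMonoidalCategory MonObj GrpObj AlgebraicGeometry
universe u
open RedSub

namespace Groth.Agent.S3952

/-- Let G be a split reductive S-group (splitting D), b a system of simple roots and e an enumeration of
the positive roots in any order. Then the morphism T x_S G_a^{R_+} ⟶ G, (t, x) ↦ i(t) u_{e 0}(x_0) ⋯
u_{e (m-1)}(x_{m-1}), is a closed immersion, and its image is a Borel subgroup of G: there are a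
Borel subgroup B ⟶ G (closed, smooth, with Borel geometric fibres) and an isomorphism of T x_S
G_a^{R_+} with B over G. -/
theorem result {S : Scheme.{u}} {G : Over S} [GrpObj G] (D : Red.SplitRed G)
    (b : D.P.Base) {m : ℕ} (epos : Fin m → D.idx) (hpos : RedSub.Enumerates (RedSub.posRoots D.P b) epos) :
    IsClosedImmersion (RedSub.borelMap D epos).left ∧
      ∃ (B : Over S) (_ : GrpObj B) (i : B ⟶ G) (e : D.T ⊗ RedSub.pow (Red.Ga S) m ≅ B),
        Red.IsBorel i ∧ e.hom ≫ i = RedSub.borelMap D epos := by
  obtain ⟨hgrp, hmon⟩ := Groth.Agent.H21Split.exists_borelGrp D b hpos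
  letI := hgrp
  haveI := hmon
  have hcl := Groth.Agent.H21Split.isClosedImmersion_borelMap D b hpos
  refine ⟨hcl, D.T ⊗ RedSub.pow (Red.Ga S) m, hgrp, RedSub.borelMap D epos, Iso.refl _, ?_, Category.id_comp _⟩
  exact ⟨hmon, hcl, Groth.Agent.H21Split.smooth_borelDom D m, fun s =>
    Groth.Agent.H21Split.isBorelOver_borel D b hpos (Red.geomPt s)⟩

end Groth.Agent.S3952
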