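import Groth.Statements.S3988
import Groth.Agent.H21Split.BorelStd

set_option autoImplicit false
open CategoryTheory MonoidalCategory CartesianMonoidalCategory MonObj GrpObj AlgebraicGeometry
universe u
open RedSub

set_option backward.isDefEq.respectTransparency false

namespace Groth.Agent.S3988

/-- Let G be a split reductive S-group (splitting D) and B a Borel subgroup of G containing the torus T
of the splitting. Then locally on S, B is the Borel subgroup of a system of positive roots: every
point of S has an open neighbourhood V and a system of simple roots b such that, over V, the root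
homomorphism u_a factors through B exactly when a is positive for b. -/
theorem result {S : Scheme.{u}} {G B : Over S} [GrpObj G] [GrpObj B]
    (D : Red.SplitRed G) (i : B ⟶ G) (hB : Red.IsBorel i) (t : D.T ⟶ B) (ht : t ≫ i = D.i) (s : S) :
    ∃ (V : S.Opens), s ∈ V ∧ ∃ b : D.P.Base, ∀ a : D.idx,
      (∃ v : Red.bc V.ι (Red.Ga S) ⟶ Red.bc V.ι B, v ≫ (Over.pullback V.ι).map i = (Over.pullback V.ι).map (D.u a)) ↔
        a ∈ RedSub.posRoots D.P b := by
  exact Groth.Agent.H21Split.BorelStd.exists_standard D i hB t ht s

end Groth.Agent.S3988
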