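import Groth.Statements.S4008
import Groth.Agent.H9Quad.Deform
-- import your own Groth.Agent.* helpers here

set_option autoImplicit false
universe u
open VanCyc

namespace Groth.Agent.S4008

/-- Let A be a henselian local ring with residue field k, B₀ a finitely presented A-algebra and P a
maximal ideal of B₀ above the maximal ideal of A, with B = (B₀)_P flat over A and residue field B₀/P
purely inseparable over k (a closed point x of the closed fibre of X = Spec B₀ -> S = Spec A with
k(x) radicial over k). Suppose the closed fibre B/𝔪_A B has at its closed point a non-degenerate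
quadratic singularity of dimension n. Then there are a non-degenerate quadratic form Q in n + 1
variables with coefficients in A (coefficient matrix a) and an element b of the maximal ideal of A
such that the henselisation of B is A-isomorphic to the henselisation of A[x_0, …, x_n]/(Q - b) at
the origin of its closed fibre. -/
theorem result (A : Type u) [CommRing A] [HenselianLocalRing A]
    (B₀ : Type u) [CommRing B₀] [Algebra A B₀] [Algebra.FinitePresentation A B₀]
    (P : Ideal B₀) [P.IsMaximal] (hP : (IsLocalRing.maximalIdeal A).map (algebraMap A B₀) ≤ P)
    (hPi : ∀ y : B₀, ∃ (e : ℕ) (c : A),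
      y ^ ringExpChar (IsLocalRing.ResidueField A) ^ e - algebraMap A B₀ c ∈ P)
    [Module.Flat A (Localization.AtPrime P)] (n : ℕ)
    (hq : VanCyc.IsNondegQuadPt (VanCyc.fibHom A (Localization.AtPrime P)) n)
    (Bh : Type u) [CommRing Bh] [IsLocalRing Bh] [Algebra (Localization.AtPrime P) Bh]
    [IsLocalHom (algebraMap (Localization.AtPrime P) Bh)] [Hensel.IsHenselization (Localization.AtPrime P) Bh]
    [Algebra A Bh] [IsScalarTower A (Localization.AtPrime P) Bh] :
    ∃ (a : Fin (n + 1) → Fin (n + 1) → A) (b : A), VanCyc.QuadNondeg a ∧ b ∈ IsLocalRing.maximalIdeal A ∧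
      ∀ [(VanCyc.originQuot A a b).IsPrime] (C : Type u) [CommRing C] [IsLocalRing C]
        [Algebra (Localization.AtPrime (VanCyc.originQuot A a b)) C]
        [IsLocalHom (algebraMap (Localization.AtPrime (VanCyc.originQuot A a b)) C)]
        [Hensel.IsHenselization (Localization.AtPrime (VanCyc.originQuot A a b)) C]
        [Algebra A C] [IsScalarTower A (Localization.AtPrime (VanCyc.originQuot A a b)) C],
        Nonempty (Bh ≃ₐ[A] C) := by
  exact H9Quad.henselization_iso_deformation A B₀ P hP hPi n hq Bh

end Groth.Agent.S4008
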