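import Groth.Statements.S4014
import Groth.Agent.H9Quad.DegDeform
-- import your own Groth.Agent.* helpers here

set_option autoImplicit false
universe u
open VanCyc

namespace Groth.Agent.S4014

/-- Let A be a henselian local ring whose residue field k has characteristic 2, B₀ a finitely presented
A-algebra and P a maximal ideal of B₀ above the maximal ideal of A, with B = (B₀)_P flat over A and
B₀/P = k (a k-rational point). Suppose the closed fibre B/𝔪_A B has at its closed point an ordinary
quadratic singularity of even dimension 2m which is degenerate, i.e. not non-degenerate (in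
characteristic 2 and even dimension every ordinary quadratic point is degenerate). Then there are a
non-degenerate quadratic form Q' in 2m variables over A (coefficient matrix a'), b in the maximal
ideal of A and c in A such that the henselisation of B is A-isomorphic to the henselisation of
A[x_0, …, x_{2m}]/(x_0² + b x_0 + c + Q'(x_1, …, x_{2m})) at the point of its closed fibre where
x_1, …, x_{2m} vanish (the unique maximal ideal containing 𝔪_A and x_1, …, x_{2m}). (The published
statement allows a residue field purely inseparable over k; there it fails, because the quadratic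
form of the model has its coefficients in A, so the rational case is taken here.) -/
theorem result (A : Type u) [CommRing A] [HenselianLocalRing A]
    (hA : CharP (IsLocalRing.ResidueField A) 2)
    (B₀ : Type u) [CommRing B₀] [Algebra A B₀] [Algebra.FinitePresentation A B₀]
    (P : Ideal B₀) [P.IsMaximal] (hP : (IsLocalRing.maximalIdeal A).map (algebraMap A B₀) ≤ P)
    (hPi : ∀ y : B₀, ∃ c : A, y - algebraMap A B₀ c ∈ P)
    [Module.Flat A (Localization.AtPrime P)] (m : ℕ)
    (hq : VanCyc.IsOrdQuadPt (VanCyc.fibHom A (Localization.AtPrime P)) (2 * m))
    (hq' : ¬ VanCyc.IsNondegQuadPt (VanCyc.fibHom A (Localization.AtPrime P)) (2 * m))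
    (Bh : Type u) [CommRing Bh] [IsLocalRing Bh] [Algebra (Localization.AtPrime P) Bh]
    [IsLocalHom (algebraMap (Localization.AtPrime P) Bh)] [Hensel.IsHenselization (Localization.AtPrime P) Bh]
    [Algebra A Bh] [IsScalarTower A (Localization.AtPrime P) Bh] :
    ∃ (a' : Fin (2 * m) → Fin (2 * m) → A) (b c : A), VanCyc.QuadNondeg a' ∧ b ∈ IsLocalRing.maximalIdeal A ∧
      ∀ (Q : Ideal (VanCyc.degQuadRing A a' b c)) [Q.IsMaximal], VanCyc.sideIdeal A a' b c ≤ Q →
        ∀ (C : Type u) [CommRing C] [IsLocalRing C] [Algebra (Localization.AtPrime Q) C]
          [IsLocalHom (algebraMap (Localization.AtPrime Q) C)] [Hensel.IsHenselization (Localization.AtPrime Q) C]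
          [Algebra A C] [IsScalarTower A (Localization.AtPrime Q) C],
          Nonempty (Bh ≃ₐ[A] C) := by
  exact H9Quad.henselization_iso_degenerate A B₀ P hP hPi m hq hq' Bh

end Groth.Agent.S4014
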