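import Groth.Statements.S4023
import Groth.Agent.H25Quad.Smooth
import Groth.Agent.H25Quad.Completion
import Groth.Agent.H29Blow.Stalk
import Groth.Agent.H19Grp.RegularSmooth
import Groth.Agent.H8Props.FieldDimSmooth

set_option autoImplicit false
universe u
open CategoryTheory CategoryTheory.Limits AlgebraicGeometry
open LefPen

namespace Groth.Agent.S4023

open MvPolynomial in
theorem sub_C_eval_mem_span {σ : Type*} {R : Type*} [CommRing R] (a : σ → R) (F : MvPolynomial σ R) :
    F - C (eval a F) ∈ Ideal.span (Set.range fun l => X l - C (a l)) := by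
  induction F using MvPolynomial.induction_on with
  | C c => simp
  | add p q hp hq =>
    rw [map_add, map_add]
    have := Ideal.add_mem _ hp hq
    convert this using 1
    ring
  | mul_X p l hp =>
    have := Ideal.add_mem _ (Ideal.mul_mem_right (X l) _ hp)
      (Ideal.mul_mem_left _ (C (eval a p)) (Ideal.subset_span (Set.mem_range_self (f := fun l => X l - C (a l)) l)))
    convert this using 1
    rw [map_mul, eval_X, map_mul]
    ring

/-- Let k be an algebraically closed field and X an irreducible smooth proper k-scheme of dimension n ≥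
1 embedded in projective r-space by a closed immersion i. For every closed point x₀ of X and every d
≥ 2 there is a degree-d form H such that x₀ lies on X ∩ V(H) and is an ordinary quadratic
singularity of it. -/
theorem result (k : Type u) [Field k] [IsAlgClosed k] (r n : ℕ) (hn : 1 ≤ n)
    {X : Scheme.{u}} (i : X ⟶ CohB1.ProjSpace r k) [IsClosedImmersion i] [IrreducibleSpace X]
    [SmoothOfRelativeDimension n (i ≫ CohB1.ProjSpace.toSpec r k)]
    (x₀ : X) (hx₀ : IsClosed ({x₀} : Set X)) (d : ℕ) (hd : 2 ≤ d) :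
    ∃ (H : LefPen.Form r k d) (y : LefPen.Sec i ({H} : Set (LefPen.Form r k d))),
      LefPen.secι i ({H} : Set (LefPen.Form r k d)) y = x₀ ∧
      LefPen.IsOrdQuadSing k (n - 1) (LefPen.secToSpec i ({H} : Set (LefPen.Form r k d))) y := by
  classical
  haveI := SmoothOfRelativeDimension.smooth n (i ≫ CohB1.ProjSpace.toSpec r k)
  obtain ⟨j, hj⟩ : ∃ j, i x₀ ∈ chart r k j := by
    have : i x₀ ∈ (⨆ j, chart r k j) := by
      rw [show (⨆ j, chart r k j) = ⊤ from H11Proj.ProjSpace.iSup_basicOpen r k]; trivial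
    exact TopologicalSpace.Opens.mem_iSup.mp this
  let V : X.affineOpens := ⟨i ⁻¹ᵁ chart r k j, (H25Transversal.chartU r k j).2.preimage i⟩
  have hxV : x₀ ∈ V.1 := hj
  have hV : IsAffineOpen V.1 := V.2
  let φ := (Scheme.ΓSpecIso (CommRingCat.of k)).inv ≫
    (i ≫ CohB1.ProjSpace.toSpec r k).appLE ⊤ V.1 (fun _ _ => trivial)
  letI : Algebra k Γ(X, V.1) := φ.hom.toAlgebra
  let ψR : MvPolynomial (Fin (r + 1)) k →+* Γ(X, V.1) :=
    (i.appLE (chart r k j) V.1 le_rfl).hom.comp (H25Transversal.polyToSection r k j)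
  have hψC : ∀ c, ψR (MvPolynomial.C c) = algebraMap k Γ(X, V.1) c := by
    have h1 : Spec.map φ = Spec.map (CommRingCat.ofHom (ψR.comp MvPolynomial.C)) := by
      rw [show CommRingCat.ofHom (ψR.comp MvPolynomial.C) =
        CommRingCat.ofHom ((H25Transversal.polyToSection r k j).comp MvPolynomial.C) ≫
          i.appLE (chart r k j) V.1 le_rfl from rfl, Spec.map_comp _ (i.appLE _ _ _),
        ← H25Transversal.fromSpec_toSpec]
      refine Eq.trans ?_ (Category.assoc _ _ _)
      erw [IsAffineOpen.SpecMap_appLE_fromSpec i (H25Transversal.chartU r k j).2 hV le_rfl]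
      rw [Category.assoc, ← IsAffineOpen.SpecMap_appLE_fromSpec
        (i ≫ CohB1.ProjSpace.toSpec r k) (isAffineOpen_top _) hV (fun _ _ => trivial),
        IsAffineOpen.fromSpec_top, Scheme.isoSpec_Spec_inv, ← Spec.map_comp]
    intro c
    exact (RingHom.congr_fun (congrArg CommRingCat.Hom.hom (Spec.map_injective h1)) c).symm
  have hψR : Function.Surjective ψR := by
    have h : Function.Surjective (i.app (chart r k j)).hom :=
      i.app_surjective _ (H25Transversal.chartU r k j).2
    rw [Scheme.Hom.app_eq_appLE] at h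
    exact h.comp (H25Transversal.polyToSection_surjective j)
  haveI : Algebra.FiniteType k Γ(X, V.1) := by
    let g : MvPolynomial (Fin (r + 1)) k →ₐ[k] Γ(X, V.1) := { ψR with commutes' := hψC }
    exact (inferInstance : Algebra.FiniteType k (MvPolynomial (Fin (r + 1)) k)).of_surjective
      (f := g) hψR
  let P := hV.primeIdealOf ⟨x₀, hxV⟩
  have hP : P.asIdeal.IsMaximal := hV.primeIdealOf_isMaximal_of_isClosed ⟨x₀, hxV⟩ hx₀
  obtain ⟨p, hp⟩ := H25Transversal.exists_point (k := k) hP.ne_top
  have hPker : P.asIdeal = RingHom.ker p.toRingHom :=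
    hP.eq_of_le (RingHom.ker_ne_top _) (fun z hz => hp z hz)
  let a : Fin (r + 1) → k := fun l => p (ψR (MvPolynomial.X l))
  have hpψ : ∀ F, p (ψR F) = MvPolynomial.eval a F := fun F => by
    change (p.toRingHom.comp ψR) F = MvPolynomial.eval a F
    congr 1
    refine MvPolynomial.ringHom_ext (fun c => ?_) (fun l => ?_)
    · simp [hψC]
    · simp [a]
  have haj : a j = 1 := by
    change p ((i.appLE _ _ _).hom (H25Transversal.polyToSection r k j _)) = 1
    rw [H25Transversal.polyToSection_self, map_one, map_one]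
  let L : Fin (r + 1) → MvPolynomial (Fin (r + 1)) k := fun l =>
    MvPolynomial.X l - MvPolynomial.C (a l)
  have hPspan : P.asIdeal = Ideal.span (Set.range fun l => ψR (L l)) := by
    refine le_antisymm (fun z hz => ?_) (Ideal.span_le.mpr ?_)
    · obtain ⟨F, rfl⟩ := hψR z
      rw [hPker, RingHom.mem_ker] at hz
      have h0 : MvPolynomial.eval a F = 0 := (hpψ F).symm.trans hz
      have := Ideal.mem_map_of_mem ψR (sub_C_eval_mem_span a F)
      rw [h0, map_zero, sub_zero, Ideal.map_span, ← Set.range_comp] at this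
      exact this
    · rintro _ ⟨l, rfl⟩
      rw [SetLike.mem_coe, hPker, RingHom.mem_ker]
      exact (hpψ _).trans (by simp [L])
  -- the local ring
  let gm := (X.presheaf.germ V.1 x₀ hxV).hom
  let v : k →+* X.presheaf.stalk x₀ :=
    (X.presheaf.germ ⊤ x₀ trivial).hom.comp (Coh.toGlobal (i ≫ CohB1.ProjSpace.toSpec r k))
  have hv : ∀ c, gm (algebraMap k Γ(X, V.1) c) = v c := fun c => by
    have key : ∀ z, X.presheaf.germ V.1 x₀ hxV ((X.presheaf.map
        (homOfLE (le_top : V.1 ≤ ⊤)).op).hom z) = X.presheaf.germ ⊤ x₀ trivial z :=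
      fun z => X.presheaf.germ_res_apply _ _ _ _
    exact key (Coh.toGlobal (i ≫ CohB1.ProjSpace.toSpec r k) c)
  letI : Algebra Γ(X, V.1) (X.presheaf.stalk x₀) := gm.toAlgebra
  haveI : IsLocalization.AtPrime (X.presheaf.stalk x₀) P.asIdeal := hV.isLocalization_stalk ⟨x₀, hxV⟩
  haveI : IsLocallyNoetherian X :=
    LocallyOfFiniteType.isLocallyNoetherian (i ≫ CohB1.ProjSpace.toSpec r k)
  haveI : IsRegularLocalRing (X.presheaf.stalk x₀) :=
    H19Grp.isRegularLocalRing_stalk_of_smooth (i ≫ CohB1.ProjSpace.toSpec r k) x₀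
  have hdim : ringKrullDim (X.presheaf.stalk x₀) = n := by
    have h := H8Props.FieldDim.localDim_eq_stalk_add_cdim (i ≫ CohB1.ProjSpace.toSpec r k) x₀
    rw [H8Props.FieldDim.localDim_eq_of_smooth (i ≫ CohB1.ProjSpace.toSpec r k) n] at h
    have h0 : H8Props.FieldDim.cdim x₀ = 0 := by
      rw [H8Props.FieldDim.cdim, hx₀.closure_eq]
      refine le_antisymm (topologicalKrullDim_zero_of_discreteTopology _) ?_
      haveI : Nonempty (TopologicalSpace.IrreducibleCloseds ↥({x₀} : Set X)) :=
        ⟨⟨closure {⟨x₀, rfl⟩}, isIrreducible_singleton.closure, isClosed_closure⟩⟩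
      exact Order.krullDim_nonneg
    rw [h0, add_zero] at h
    exact h.symm
  have hm : IsLocalRing.maximalIdeal (X.presheaf.stalk x₀) =
      Ideal.span (Set.range fun l => gm (ψR (L l))) := by
    rw [← IsLocalization.AtPrime.map_eq_maximalIdeal P.asIdeal (X.presheaf.stalk x₀)]
    exact (congrArg (Ideal.map _) hPspan).trans
      ((Ideal.map_span _ _).trans (congrArg Ideal.span (Set.range_comp _ _).symm))
  have hres : ∀ b, ∃ c, v c - b ∈ IsLocalRing.maximalIdeal (X.presheaf.stalk x₀) := fun b => by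
    rw [← IsLocalization.AtPrime.map_eq_maximalIdeal P.asIdeal (X.presheaf.stalk x₀)]
    obtain ⟨⟨z, ⟨s, hs⟩⟩, hzs⟩ := IsLocalization.surj P.asIdeal.primeCompl b
    have hps : p s ≠ 0 := fun h => hs (hPker ▸ h)
    refine ⟨p z / p s, ?_⟩
    have h1 : algebraMap k Γ(X, V.1) (p z / p s) * s - z ∈ P.asIdeal := by
      rw [hPker, RingHom.mem_ker]
      simp [div_mul_cancel₀ _ hps]
    have h2 := Ideal.mem_map_of_mem (algebraMap Γ(X, V.1) (X.presheaf.stalk x₀)) h1
    rw [map_sub, map_mul, ← hzs, ← sub_mul] at h2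
    rw [← hv]
    exact (Ideal.mul_unit_mem_iff_mem _
      (IsLocalization.map_units (X.presheaf.stalk x₀) (⟨s, hs⟩ : P.asIdeal.primeCompl))).mp h2
  -- coordinates
  let mO := IsLocalRing.maximalIdeal (X.presheaf.stalk x₀)
  let κ := IsLocalRing.ResidueField (X.presheaf.stalk x₀)
  let gen : Fin (r + 1) → mO := fun l => ⟨gm (ψR (L l)), by
    change gm (ψR (L l)) ∈ IsLocalRing.maximalIdeal _
    rw [hm]; exact Ideal.subset_span ⟨l, rfl⟩⟩
  have hgen : Submodule.span (X.presheaf.stalk x₀) (Set.range gen) = ⊤ := by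
    apply Submodule.map_injective_of_injective (f := mO.subtype) Subtype.val_injective
    rw [Submodule.map_span, ← Set.range_comp, Submodule.map_top, Submodule.range_subtype]
    exact hm.symm
  have hcot : Submodule.span κ (mO.toCotangent '' Set.range gen) = ⊤ :=
    IsLocalRing.CotangentSpace.span_image_eq_top_iff.mpr hgen
  obtain ⟨f₀, hf₀, hspan₀, -⟩ :=
    Submodule.exists_fun_fin_finrank_span_eq κ (mO.toCotangent '' Set.range gen)
  have hN : Module.finrank κ (Submodule.span κ (mO.toCotangent '' Set.range gen)) = n := by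
    rw [hcot, finrank_top]
    have := (IsRegularLocalRing.iff_finrank_cotangentSpace _).mp
      (inferInstance : IsRegularLocalRing (X.presheaf.stalk x₀))
    rw [hdim] at this
    exact_mod_cast this
  let f₁ : Fin n → mO.Cotangent := fun t => f₀ (Fin.cast hN.symm t)
  have hf₁ : ∀ t, ∃ l, mO.toCotangent (gen l) = f₁ t := fun t => by
    obtain ⟨_, ⟨l, rfl⟩, hl⟩ := hf₀ (Fin.cast hN.symm t)
    exact ⟨l, hl⟩
  choose σ hσ using hf₁
  let u : Fin n → X.presheaf.stalk x₀ := fun t => gm (ψR (L (σ t)))
  have hu : Ideal.span (Set.range u) = mO := by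
    have h1 : Submodule.span κ (mO.toCotangent '' Set.range fun t => gen (σ t)) = ⊤ := by
      rw [← Set.range_comp, show (mO.toCotangent ∘ fun t => gen (σ t)) = f₁ from funext hσ,
        show Set.range f₁ = Set.range f₀ from (finCongr hN.symm).surjective.range_comp f₀, hspan₀,
        hcot]
    have h2 := IsLocalRing.CotangentSpace.span_image_eq_top_iff.mp h1
    have h3 := congrArg (Submodule.map mO.subtype) h2
    rw [Submodule.map_span, ← Set.range_comp, Submodule.map_top, Submodule.range_subtype] at h3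
    exact h3
  -- the form
  have hn' : n - 1 + 1 = n := Nat.sub_add_cancel hn
  let u' : Fin (n - 1 + 1) → X.presheaf.stalk x₀ := fun t => u (Fin.cast hn' t)
  have hu' : Ideal.span (Set.range u') = mO := by
    rw [show Set.range u' = Set.range u from (finCongr hn').surjective.range_comp u]
    exact hu
  let q := H25Quad.q k (n - 1 + 1)
  let lin : Fin (n - 1 + 1) → MvPolynomial (Fin (r + 1)) k := fun t =>
    MvPolynomial.X (σ (Fin.cast hn' t)) -
      MvPolynomial.C (a (σ (Fin.cast hn' t))) * MvPolynomial.X j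
  let H : Form r k d := ⟨MvPolynomial.X j ^ (d - 2) * MvPolynomial.aeval lin q, by
    have h := ((MvPolynomial.isHomogeneous_X k j).pow (d - 2)).mul
      ((H25Quad.isHomogeneous_q (k := k) (n - 1 + 1)).aeval lin
        (fun t => (MvPolynomial.isHomogeneous_X k _).sub (MvPolynomial.isHomogeneous_C_mul_X _ _)))
    rw [show 1 * (d - 2) + 1 * 2 = d by omega] at h
    exact h⟩
  let b : Fin (n - 1 + 1) → Γ(X, V.1) := fun t => ψR (L (σ (Fin.cast hn' t)))
  let h := MvPolynomial.eval₂ (algebraMap k Γ(X, V.1)) b q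
  have hH : ψR H.1 = h := by
    have hXj : ψR (MvPolynomial.X j) = 1 := by
      change (i.appLE _ _ _).hom (H25Transversal.polyToSection r k j _) = 1
      rw [H25Transversal.polyToSection_self, map_one]
    change ψR (MvPolynomial.X j ^ (d - 2) * MvPolynomial.aeval lin q) = h
    rw [map_mul, map_pow, hXj, one_pow, one_mul, MvPolynomial.aeval_def,
      MvPolynomial.eval₂_comp_left]
    congr 1
    · exact RingHom.ext hψC
    · funext t
      simp [lin, b, L, hXj]
  have hI : (secIdeal i {H}).ideal V = Ideal.span {h} := by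
    rw [secIdeal, iSup_singleton, H29Blow.ideal_comap _ i (H25Transversal.chartU r k j) V le_rfl,
      H25Transversal.hypIdeal_ideal_chart]
    refine (Ideal.map_span _ _).trans ((congrArg Ideal.span Set.image_singleton).trans ?_)
    rw [← hH]
    change Ideal.span {(i.appLE _ _ _).hom (dehom H j)} = _
    rw [← H25Transversal.polyToSection_form]
    rfl
  have hhP : h ∈ P.asIdeal := by
    rw [hPker, RingHom.mem_ker]
    change p.toRingHom (MvPolynomial.eval₂ (algebraMap k Γ(X, V.1)) b q) = 0
    rw [MvPolynomial.eval₂_comp_left]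
    have hb : p.toRingHom ∘ b = 0 := funext fun t => (hpψ _).trans (by simp [L])
    rw [hb]
    simp [q, H25Quad.q, apply_ite]
  have hy : x₀ ∈ Set.range (secι i ({H} : Set (Form r k d))) := by
    change x₀ ∈ Set.range (secIdeal i {H}).subschemeι
    rw [Scheme.IdealSheafData.range_subschemeι, SetLike.mem_coe,
      Scheme.IdealSheafData.mem_support_iff_of_mem (U := V) hxV, hI, Scheme.zeroLocus_span,
      Scheme.zeroLocus_singleton]
    intro hbo
    rw [SetLike.mem_coe, Scheme.mem_basicOpen _ _ _ hxV] at hbo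
    exact (IsLocalization.AtPrime.isUnit_to_map_iff (X.presheaf.stalk x₀) P.asIdeal h).mp hbo hhP
  obtain ⟨y, hy⟩ := hy
  refine ⟨H, y, hy, ?_, ?_⟩
  · convert hx₀.preimage (secι i ({H} : Set (Form r k d))).continuous using 1
    ext y'
    exact ⟨fun e => by rw [Set.mem_singleton_iff.mp e]; exact hy,
      fun e => (secι i ({H} : Set (Form r k d))).isEmbedding.injective (e.trans hy.symm)⟩
  have D : ∀ x, x = x₀ → ∃ (hxV : x ∈ V.1) (v : k →+* X.presheaf.stalk x)
      (u : Fin (n - 1 + 1) → X.presheaf.stalk x),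
      v = (X.presheaf.germ ⊤ x trivial).hom.comp
        (Coh.toGlobal (i ≫ CohB1.ProjSpace.toSpec r k)) ∧
      IsRegularLocalRing (X.presheaf.stalk x) ∧ ringKrullDim (X.presheaf.stalk x) = n ∧
      (∀ b, ∃ c, v c - b ∈ IsLocalRing.maximalIdeal (X.presheaf.stalk x)) ∧
      Ideal.span (Set.range u) = IsLocalRing.maximalIdeal (X.presheaf.stalk x) ∧
      (X.presheaf.germ V.1 x hxV).hom h = MvPolynomial.eval₂ v u q := by
    rintro x rfl
    exact ⟨hxV, v, u', rfl, inferInstance, hdim, hres, hu',
      (MvPolynomial.eval₂_comp_left gm _ _ q).trans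
        (congrArg (fun g => MvPolynomial.eval₂ g _ q) (RingHom.ext hv))⟩
  obtain ⟨hxV, v, u', hvdef, hreg, hdim, hres, hu', hgerm⟩ := D _ hy
  have hker : RingHom.ker ((secι i ({H} : Set (Form r k d))).stalkMap y).hom =
      Ideal.span {MvPolynomial.eval₂ v u' q} := by
    rw [H29Blow.ker_stalkMap_subschemeι _ y V hxV, hI, Ideal.map_span, Set.image_singleton]
    exact congrArg (fun z => Ideal.span {z}) hgerm
  obtain ⟨e, he⟩ := H25Quad.exists_completion_equiv k (X.presheaf.stalk (secι i _ y)) v hres
    (n := n - 1 + 1) (by rw [hn']; exact hdim) u' hu' q _ ((secι i _).stalkMap y).hom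
    ((secι i _).stalkMap_surjective y) hker
  refine ⟨_, ⟨q, H25Quad.isHomogeneous_q _⟩, e, fun c => ?_, fun m hm => ?_, fun m _ => ?_,
    H25Quad.nondegQuad_q⟩
  · refine Eq.trans ?_ (he c)
    congr 2
    rw [hvdef]
    symm
    change (secι i _).stalkMap y (X.presheaf.germ ⊤ _ trivial _) = _
    refine (Scheme.Hom.germ_stalkMap_apply (secι i ({H} : Set (Form r k d))) ⊤ y trivial _).trans ?_
    rfl
  · rw [MvPolynomial.coeff_coe]
    by_contra hne
    have := (H25Quad.isHomogeneous_q (k := k) (n - 1 + 1)) hne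
    rw [show (Finsupp.weight (1 : Fin (n - 1 + 1) → ℕ)) m = m.degree by
      rw [Finsupp.degree_eq_weight_one]; rfl] at this
    omega
  · exact (MvPolynomial.coeff_coe _ _).symm

end Groth.Agent.S4023
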