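import Groth.Statements.S4024
import Groth.Agent.H25TangentForms

set_option autoImplicit false
universe u
open CategoryTheory CategoryTheory.Limits AlgebraicGeometry
open LefPen

namespace Groth.Agent.S4024


/-- Let k be a field (the source works over an algebraically closed field; the count is the same over
any field), d ≥ 2, x₁ = [v₁] and x₂ = [v₂] two distinct points of projective r-space and P(W₁) ∋ x₁,
P(W₂) ∋ x₂ linear subspaces. In the space of degree-d forms, those whose hypersurface passes through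
x₁ tangentially to P(W₁) and through x₂ tangentially to P(W₂) form a linear subspace of codimension
dim P(W₁) + dim P(W₂) + 2 = dim W₁ + dim W₂ when d ≥ 3 or when the line x₁x₂ is not contained in
both P(W₁) and P(W₂), and of codimension dim W₁ + dim W₂ - 1 when d = 2 and the line x₁x₂ lies in
P(W₁) ∩ P(W₂). -/
theorem result (k : Type u) [Field k] (r d : ℕ) (hd : 2 ≤ d)
    (W₁ W₂ : Submodule k (Fin (r + 1) → k)) (v₁ v₂ : Fin (r + 1) → k) (h₁ : v₁ ∈ W₁) (h₂ : v₂ ∈ W₂)
    (hv : LinearIndependent k ![v₁, v₂]) :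
    ((3 ≤ d ∨ ¬ (v₂ ∈ W₁ ∧ v₁ ∈ W₂)) →
      Module.finrank k (LefPen.Form r k d) =
        Module.finrank k ↥(LefPen.tangentForms k d W₁ v₁ W₂ v₂) + (Module.finrank k ↥W₁ + Module.finrank k ↥W₂)) ∧
    ((d = 2 ∧ v₂ ∈ W₁ ∧ v₁ ∈ W₂) →
      Module.finrank k (LefPen.Form r k d) + 1 =
        Module.finrank k ↥(LefPen.tangentForms k d W₁ v₁ W₂ v₂) + (Module.finrank k ↥W₁ + Module.finrank k ↥W₂)) := by
  have hfin : Module.Finite k (LefPen.Form r k d) :=
    Module.Finite.iff_fg.mpr (MvPolynomial.homogeneousSubmodule_fg (σ := Fin (r + 1)) (R := k) d)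
  have hv1 : v₁ ≠ 0 := by simpa using hv.ne_zero 0
  have hv2 : v₂ ≠ 0 := by simpa using hv.ne_zero 1
  let Φ := H25TangentForms.T₂ (d := d) W₁ W₂ h₁ h₂
  have hker : LinearMap.ker Φ = LefPen.tangentForms k d W₁ v₁ W₂ v₂ :=
    H25TangentForms.ker_T₂ W₁ W₂ h₁ h₂
  have hrn := LinearMap.finrank_range_add_finrank_ker (K := k) (V := LefPen.Form r k d)
    (V₂ := LinearMap.ker (H25TangentForms.ξ d W₁ h₁) × LinearMap.ker (H25TangentForms.ξ d W₂ h₂)) Φ
  rw [hker] at hrn
  have hE : Module.finrank k (LinearMap.ker (H25TangentForms.ξ d W₁ h₁) ×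
      LinearMap.ker (H25TangentForms.ξ d W₂ h₂)) =
      Module.finrank k W₁ + Module.finrank k W₂ := by
    haveI : ∀ (W : Submodule k (Fin (r + 1) → k)) (v : Fin (r + 1) → k) (h : v ∈ W),
        Module.Free k (LinearMap.ker (H25TangentForms.ξ d W h)) := fun W v h =>
      Module.Free.of_divisionRing k ↥(LinearMap.ker (H25TangentForms.ξ d W h))
    rw [Module.finrank_prod, H25TangentForms.finrank_ker_ξ d W₁ h₁ hv1,
      H25TangentForms.finrank_ker_ξ d W₂ h₂ hv2]
  constructor
  · intro hcase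
    have hsurj : Function.Surjective Φ := by
      rintro ⟨e₁, e₂⟩
      by_cases h12 : 3 ≤ d ∨ v₂ ∉ W₁ ∨ v₁ ∈ W₂
      · refine H25TangentForms.surj_pair hd h₁ h₂ hv e₁ e₂ ?_ h12
        rcases hcase with h | h
        · exact Or.inl h
        · by_cases h3 : 3 ≤ d
          · exact Or.inl h3
          · exact Or.inr fun hm => ⟨by omega, fun h' => absurd ⟨hm, h'⟩ h⟩
      · push Not at h12
        obtain ⟨hd3, hm, hn⟩ := h12
        obtain ⟨G, hG⟩ := H25TangentForms.surj_pair hd h₂ h₁
          (LinearIndependent.pair_symm_iff.mp hv) e₂ e₁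
          (Or.inr fun h' => absurd h' hn) (Or.inr (Or.inl hn))
        exact ⟨G, Prod.ext (congrArg Prod.snd hG) (congrArg Prod.fst hG)⟩
    rw [LinearMap.range_eq_top.mpr hsurj, finrank_top, hE] at hrn
    omega
  · rintro ⟨rfl, hm, hn⟩
    let χ : (LinearMap.ker (H25TangentForms.ξ 2 W₁ h₁) ×
        LinearMap.ker (H25TangentForms.ξ 2 W₂ h₂)) →ₗ[k] k :=
      ((Module.Dual.eval k W₁ ⟨v₂, hm⟩).comp ((LinearMap.snd k k _).comp (Submodule.subtype _))).comp
          (LinearMap.fst k _ _) -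
      ((Module.Dual.eval k W₂ ⟨v₁, hn⟩).comp ((LinearMap.snd k k _).comp (Submodule.subtype _))).comp
          (LinearMap.snd k _ _)
    have hrange : LinearMap.range Φ = LinearMap.ker χ := by
      refine le_antisymm ?_ fun e he => ?_
      · rintro _ ⟨G, rfl⟩
        change (H25TangentForms.T W₁ v₁ G).2 ⟨v₂, hm⟩ - (H25TangentForms.T W₂ v₂ G).2 ⟨v₁, hn⟩ = 0
        rw [H25TangentForms.T_snd, H25TangentForms.T_snd,
          H25TangentForms.polar_comm G.2, sub_self]
      · exact H25TangentForms.surj_pair hd h₁ h₂ hv e.1 e.2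
          (Or.inr fun _ => ⟨rfl, fun _ => sub_eq_zero.mp he⟩) (Or.inr (Or.inr hn))
    have hχ : Function.Surjective χ := by
      obtain ⟨μ, hμ, hμ0⟩ := H25TangentForms.exists_dual_one
        (p := Submodule.span k {v₁}) (v := v₂) (by
          rw [Submodule.mem_span_singleton]
          rintro ⟨c, hc⟩
          exact one_ne_zero ((LinearIndependent.pair_iff.mp
            (LinearIndependent.pair_symm_iff.mp hv) 1 (-c) (by simp [← hc])).1))
      intro a
      refine ⟨(⟨(0, a • μ.comp W₁.subtype), ?_⟩, 0), ?_⟩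
      · rw [H25TangentForms.mem_ker_ξ]
        simp [hμ0 v₁ (Submodule.mem_span_singleton_self v₁)]
      · simp [χ, hμ]
    have hχr := LinearMap.finrank_range_add_finrank_ker (K := k) (V₂ := k)
      (V := LinearMap.ker (H25TangentForms.ξ 2 W₁ h₁) × LinearMap.ker (H25TangentForms.ξ 2 W₂ h₂)) χ
    rw [LinearMap.range_eq_top.mpr hχ, finrank_top, Module.finrank_self, hE] at hχr
    rw [hrange] at hrn
    omega

end Groth.Agent.S4024
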