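import Groth.Statements.S4027
import Mathlib

set_option autoImplicit false
universe u
open LefPen

namespace Groth.Agent.S4027

open scoped LaurentPolynomial

theorem tcancel {A : Type*} [CommRing A] (a b x y : A) (h : x * y = 1) : a * x * (b * y) = a * b := by
  linear_combination (a * b) * h

theorem monomial_of_mul_eq {S : Type*} [CommRing S] [IsDomain S] {p q : Polynomial S} {g : S} {N : ℕ} (hg : g ≠ 0)
    (h : p * q = Polynomial.C g * Polynomial.X ^ N) : ∃ (c : S) (i : ℕ), p = Polynomial.C c * Polynomial.X ^ i := by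
  have h0 : p * q ≠ 0 := by rw [h]; exact mul_ne_zero (Polynomial.C_ne_zero.2 hg) (pow_ne_zero _ Polynomial.X_ne_zero)
  have h1 := congrArg Polynomial.natDegree h
  have h2 := congrArg Polynomial.natTrailingDegree h
  rw [Polynomial.natDegree_mul (left_ne_zero_of_mul h0) (right_ne_zero_of_mul h0),
    Polynomial.natDegree_C_mul_X_pow N g hg] at h1
  rw [Polynomial.natTrailingDegree_mul (left_ne_zero_of_mul h0) (right_ne_zero_of_mul h0),
    Polynomial.C_mul_X_pow_eq_monomial, Polynomial.natTrailingDegree_monomial hg] at h2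
  have h3 := Polynomial.natTrailingDegree_le_natDegree p
  have h4 := Polynomial.natTrailingDegree_le_natDegree q
  refine ⟨p.coeff p.natDegree, p.natDegree, Polynomial.ext fun j => ?_⟩
  rw [Polynomial.coeff_C_mul_X_pow]
  split_ifs with hj
  · rw [hj]
  · rcases lt_or_gt_of_ne hj with hj | hj
    · exact Polynomial.coeff_eq_zero_of_lt_natTrailingDegree (by omega)
    · exact Polynomial.coeff_eq_zero_of_natDegree_lt hj

theorem laurent_monomial {S : Type*} [CommRing S] [IsDomain S] {a b : S[T;T⁻¹]} {g : S} (hg : g ≠ 0)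
    (h : a * b = LaurentPolynomial.C g) : ∃ (c : S) (w : ℤ), a = LaurentPolynomial.C c * LaurentPolynomial.T w := by
  obtain ⟨n, p, hp⟩ := a.exists_T_pow
  obtain ⟨m, q, hq⟩ := b.exists_T_pow
  have h' : p * q = Polynomial.C g * Polynomial.X ^ (n + m) := Polynomial.toLaurent_injective (by
    rw [map_mul, Polynomial.toLaurent_C_mul_X_pow, hp, hq, mul_mul_mul_comm, h, ← LaurentPolynomial.T_add]
    push_cast
    rfl)
  obtain ⟨c, i, hc⟩ := monomial_of_mul_eq hg h'
  refine ⟨c, (i : ℤ) - n, ?_⟩
  rw [hc, Polynomial.toLaurent_C_mul_X_pow] at hp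
  rw [sub_eq_add_neg, LaurentPolynomial.T_add, ← mul_assoc, hp, mul_assoc, ← LaurentPolynomial.T_add, add_neg_cancel,
    LaurentPolynomial.T_zero, mul_one]

/-- Let k be an algebraically closed field, r ≥ 2, and F ∈ k[X_1, …, X_r] an irreducible polynomial with
F(0) ≠ 0 (in the source the origin is the base point of the lines considered and lies off the
hypersurface F = 0; without this the claim fails, e.g. for X_1 - X_2^2). Then the polynomial G(T) =
F(X_1 T, …, X_r T), with coefficients in the field of rational functions k(X_1, …, X_r), is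
irreducible. -/
theorem result (k : Type u) [Field k] [IsAlgClosed k] (r : ℕ) (hr : 2 ≤ r)
    (F : MvPolynomial (Fin r) k) (hF : Irreducible F) (hF0 : MvPolynomial.eval (fun _ => (0 : k)) F ≠ 0) :
    Irreducible ((MvPolynomial.eval₂ (Polynomial.C.comp MvPolynomial.C)
        (fun j => Polynomial.C (MvPolynomial.X j) * Polynomial.X) F).map
      (algebraMap (MvPolynomial (Fin r) k) (FractionRing (MvPolynomial (Fin r) k)))) := by
  classical
  let Φ : (MvPolynomial (Fin r) k) →+* (Polynomial (MvPolynomial (Fin r) k)) := MvPolynomial.eval₂Hom (Polynomial.C.comp MvPolynomial.C)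
    (fun j => Polynomial.C (MvPolynomial.X j) * Polynomial.X)
  show Irreducible ((Φ F).map _)
  have hΦ1 : ∀ P : (MvPolynomial (Fin r) k), (Φ P).eval 1 = P := fun P => by
    have : (Polynomial.evalRingHom (1 : (MvPolynomial (Fin r) k))).comp Φ = RingHom.id (MvPolynomial (Fin r) k) := by
      refine MvPolynomial.ringHom_ext (fun c => ?_) fun i => ?_ <;> simp [Φ]
    exact congr($this P)
  let c₀ := MvPolynomial.eval (fun _ => (0 : k)) F
  have hΦ0 : ∀ P : (MvPolynomial (Fin r) k), (Φ P).eval 0 = MvPolynomial.C (MvPolynomial.eval (fun _ => (0 : k)) P) := fun P => by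
    have : (Polynomial.evalRingHom (0 : (MvPolynomial (Fin r) k))).comp Φ =
        MvPolynomial.C.comp (MvPolynomial.eval fun _ => (0 : k)) := by
      refine MvPolynomial.ringHom_ext (fun c => ?_) fun i => ?_ <;> simp [Φ]
    exact congr($this P)
  have hc0 : (Φ F).coeff 0 = MvPolynomial.C c₀ := by rw [Polynomial.coeff_zero_eq_eval_zero, hΦ0]
  have hunit : IsUnit (MvPolynomial.C c₀ : (MvPolynomial (Fin r) k)) := (isUnit_iff_ne_zero.2 hF0).map MvPolynomial.C
  have hprim : (Φ F).IsPrimitive := fun x hx =>
    isUnit_of_dvd_unit ((Polynomial.C_dvd_iff_dvd_coeff x _).1 hx 0) (hc0 ▸ hunit)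
  rw [← Polynomial.IsPrimitive.irreducible_iff_irreducible_map_fraction_map hprim]
  let Θ : (Polynomial (MvPolynomial (Fin r) k)) →+* (Polynomial (MvPolynomial (Fin r) k))[T;T⁻¹] := Polynomial.eval₂RingHom
    (MvPolynomial.eval₂Hom (LaurentPolynomial.C.comp (Polynomial.C.comp MvPolynomial.C))
      (fun j => LaurentPolynomial.C (Polynomial.C (MvPolynomial.X j)) * LaurentPolynomial.T 1))
    (LaurentPolynomial.C Polynomial.X * LaurentPolynomial.T (-1))
  have hΘΦ : ∀ P, Θ (Φ P) = LaurentPolynomial.C (Φ P) := fun P => by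
    have : Θ.comp Φ = LaurentPolynomial.C.comp Φ := by
      refine MvPolynomial.ringHom_ext (fun c => by simp [Θ, Φ]) fun i => ?_
      simp only [Θ, Φ, RingHom.comp_apply, MvPolynomial.eval₂Hom_X', map_mul, Polynomial.coe_eval₂RingHom,
        Polynomial.eval₂_mul, Polynomial.eval₂_C, Polynomial.eval₂_X]
      have hT : (LaurentPolynomial.T 1 * LaurentPolynomial.T (-1) : (Polynomial (MvPolynomial (Fin r) k))[T;T⁻¹]) = 1 := by
        rw [← LaurentPolynomial.T_add, add_neg_cancel, LaurentPolynomial.T_zero]
      exact tcancel (LaurentPolynomial.C (Polynomial.C (MvPolynomial.X i)) :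
        (Polynomial (MvPolynomial (Fin r) k))[T;T⁻¹]) (LaurentPolynomial.C Polynomial.X) _ _ hT
    exact congr($this P)
  have hone : ∀ p : (Polynomial (MvPolynomial (Fin r) k)), LaurentPolynomial.eval₂ (RingHom.id (Polynomial (MvPolynomial (Fin r) k))) 1 (Θ p) = p := fun p => by
    have : (LaurentPolynomial.eval₂ (RingHom.id (Polynomial (MvPolynomial (Fin r) k))) 1).comp Θ = RingHom.id (Polynomial (MvPolynomial (Fin r) k)) := by
      refine Polynomial.ringHom_ext' (MvPolynomial.ringHom_ext (fun c => ?_) fun i => ?_) ?_ <;>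
        simp [Θ, LaurentPolynomial.eval₂_T]
    exact congr($this p)
  have hF0' : F ≠ 0 := hF.ne_zero
  have hG : Φ F ≠ 0 := fun h0 => hF0' (by rw [← hΦ1 F, h0, Polynomial.eval_zero])
  have key : ∀ a b : (Polynomial (MvPolynomial (Fin r) k)), Φ F = a * b → a = Φ (a.eval 1) := by
    intro a b hab
    have h1 : Θ a * Θ b = LaurentPolynomial.C (Φ F) := by rw [← map_mul, ← hab, hΘΦ]
    obtain ⟨c, w, hcw⟩ := laurent_monomial hG h1
    have hc : c = a := by
      have := hone a
      rw [hcw, map_mul, LaurentPolynomial.eval₂_C, LaurentPolynomial.eval₂_T] at this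
      simpa using this
    subst hc
    let L := FractionRing (Polynomial (MvPolynomial (Fin r) k))
    let ι : (Polynomial (MvPolynomial (Fin r) k)) →+* L := algebraMap (Polynomial (MvPolynomial (Fin r) k)) L
    have hι : Function.Injective ι := IsFractionRing.injective (Polynomial (MvPolynomial (Fin r) k)) L
    let t : Lˣ := Units.mk0 (ι Polynomial.X) ((map_ne_zero_iff ι hι).2 Polynomial.X_ne_zero)
    let e₀ : (Polynomial (MvPolynomial (Fin r) k)) →+* L := ι.comp (Polynomial.C.comp (Polynomial.evalRingHom (0 : (MvPolynomial (Fin r) k))))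
    have hw : w = 0 := by
      have hev : ∀ p, LaurentPolynomial.eval₂ e₀ t (Θ p) = ι (Φ ((Polynomial.evalRingHom (0 : (MvPolynomial (Fin r) k))) p)) := fun p => by
        have : (LaurentPolynomial.eval₂ e₀ t).comp Θ = ι.comp (Φ.comp (Polynomial.evalRingHom (0 : (MvPolynomial (Fin r) k)))) := by
          refine Polynomial.ringHom_ext' (MvPolynomial.ringHom_ext (fun c => ?_) fun i => ?_) ?_ <;>
            simp [Θ, Φ, e₀, t, LaurentPolynomial.eval₂_T]
        exact congr($this p)
      have hu : IsUnit (c.eval 0) := by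
        have := congrArg (Polynomial.eval 0) hab
        rw [Polynomial.eval_mul, hΦ0] at this
        exact isUnit_of_mul_isUnit_left (this ▸ hunit)
      obtain ⟨d, hd⟩ := MvPolynomial.isUnit_iff_eq_C_of_isReduced.1 hu
      have h2 := hev c
      rw [hcw, map_mul, LaurentPolynomial.eval₂_C, LaurentPolynomial.eval₂_T] at h2
      simp only [e₀, RingHom.comp_apply, Polynomial.coe_evalRingHom, hd.2] at h2
      rw [show Φ (MvPolynomial.C d) = Polynomial.C (MvPolynomial.C d) from MvPolynomial.eval₂Hom_C _ _ _] at h2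
      have hne : ι (Polynomial.C (MvPolynomial.C d)) ≠ 0 :=
        (map_ne_zero_iff ι hι).2 (Polynomial.C_ne_zero.2 (hd.2 ▸ hu.ne_zero))
      have h3 : (ι Polynomial.X) ^ w = 1 := by
        have := mul_left_cancel₀ hne (h2.trans (mul_one _).symm)
        simpa [t] using this
      rcases Int.eq_nat_or_neg w with ⟨n, rfl | rfl⟩
      all_goals
        simp only [zpow_neg, zpow_natCast, inv_eq_one] at h3
        rw [← map_pow, ← map_one ι] at h3
        have := congrArg Polynomial.natDegree (hι h3)
        simp only [Polynomial.natDegree_X_pow, Polynomial.natDegree_one] at this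
        subst this
        simp
    subst hw
    have hev' : ∀ p, LaurentPolynomial.eval₂ ι t (Θ p) = ι (Φ ((Polynomial.evalRingHom (1 : (MvPolynomial (Fin r) k))) p)) := fun p => by
      have : (LaurentPolynomial.eval₂ ι t).comp Θ = ι.comp (Φ.comp (Polynomial.evalRingHom (1 : (MvPolynomial (Fin r) k)))) := by
        refine Polynomial.ringHom_ext' (MvPolynomial.ringHom_ext (fun c => ?_) fun i => ?_) ?_ <;>
          simp [Θ, Φ, t, LaurentPolynomial.eval₂_T, mul_inv_cancel₀ ((map_ne_zero_iff ι hι).2 Polynomial.X_ne_zero)]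
      exact congr($this p)
    have h2 := hev' c
    rw [hcw, LaurentPolynomial.T_zero, mul_one, LaurentPolynomial.eval₂_C] at h2
    exact hι h2
  constructor
  · intro hu
    have := hu.map (Polynomial.evalRingHom (1 : (MvPolynomial (Fin r) k)))
    rw [Polynomial.coe_evalRingHom, hΦ1] at this
    exact hF.not_isUnit this
  · intro a b hab
    have ha := key a b hab
    have hb := key b a (hab.trans (mul_comm a b))
    have hFab : F = a.eval 1 * b.eval 1 := by rw [← hΦ1 F, hab, Polynomial.eval_mul]
    rcases hF.isUnit_or_isUnit hFab with h | h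
    · exact Or.inl (ha ▸ h.map Φ)
    · exact Or.inr (hb ▸ h.map Φ)

end Groth.Agent.S4027
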