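import Groth.Statements.S4039
import Groth.Agent.H23Quad.Points

set_option autoImplicit false
universe u
open CategoryTheory CategoryTheory.Limits AlgebraicGeometry
open LefPen

namespace Groth.Agent.S4039

/-- Let k be a finite field with q elements, n ≥ 0, and Q a quadratic form in n + 2 variables over k
whose zero scheme X = V(Q) ⊆ P^{n+1}_k is smooth over k of relative dimension n (a smooth quadric of
dimension n over k). Then the number of k-rational points of X is Σ_{i=0}^{n} q^i if n is odd, and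
Σ_{i=0}^{n} q^i + ε q^{n/2} with ε = 1 or ε = -1 if n is even, where ε = 1 exactly when X is split,
i.e. contains a k-rational linear subspace of dimension n/2 (Q vanishes on a subspace of k^{n+2} of
dimension n/2 + 1). -/
theorem result (k : Type u) [Field k] [Fintype k] (n : ℕ) (Q : LefPen.Form (n + 1) k 2)
    [SmoothOfRelativeDimension n ((LefPen.hypIdeal Q).subschemeι ≫ CohB1.ProjSpace.toSpec (n + 1) k)] :
    (Odd n → (SgaExt.pointCount ((LefPen.hypIdeal Q).subschemeι ≫ CohB1.ProjSpace.toSpec (n + 1) k) k : ℤ) =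
      ∑ i ∈ Finset.range (n + 1), (Fintype.card k : ℤ) ^ i) ∧
    (Even n → ∃ ε : ℤ, (ε = 1 ∨ ε = -1) ∧
      (SgaExt.pointCount ((LefPen.hypIdeal Q).subschemeι ≫ CohB1.ProjSpace.toSpec (n + 1) k) k : ℤ) =
        (∑ i ∈ Finset.range (n + 1), (Fintype.card k : ℤ) ^ i) + ε * (Fintype.card k : ℤ) ^ (n / 2) ∧
      (ε = 1 ↔ ∃ W : Submodule k (Fin (n + 1 + 1) → k), Module.finrank k ↥W = n / 2 + 1 ∧
        ∀ w ∈ W, MvPolynomial.eval w Q.1 = 0)) := by
  classical
  obtain ⟨q2, hev, hexp, hzero⟩ := Groth.Agent.H23Quad.exists_quadraticMap Q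
  have hnd := Groth.Agent.H23Quad.nondeg_of_smooth (n := n) Q q2 hexp hzero
  have hfin : Module.finrank k (Fin (n + 1 + 1) → k) = n + 2 := by rw [Module.finrank_fin_fun]
  obtain ⟨ho, he⟩ := Groth.Agent.H23Quad.count_main (n + 2) q2 hnd hfin
  set N := SgaExt.pointCount ((LefPen.hypIdeal Q).subschemeι ≫ CohB1.ProjSpace.toSpec (n + 1) k) k with hN
  have hq1 : 1 < Fintype.card k := Fintype.one_lt_card
  have hz : (Groth.Agent.H23Quad.numZeros q2 : ℤ) = ((Fintype.card k : ℤ) - 1) * N + 1 := by
    have h := Groth.Agent.H23Quad.card_zeros_eq Q (by norm_num)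
    rw [Nat.card_eq_fintype_card (α := k), ← hN] at h
    rw [Groth.Agent.H23Quad.numZeros,
      show Nat.card {v // q2 v = 0} = (Fintype.card k - 1) * N + 1 by rw [← h]; simp only [hev]]
    rw [Nat.cast_add, Nat.cast_mul, Nat.cast_sub hq1.le, Nat.cast_one]
  have hq0 : (Fintype.card k : ℤ) - 1 ≠ 0 := by omega
  have hgeom := geom_sum_mul (Fintype.card k : ℤ) (n + 1)
  simp only [Nat.card_eq_fintype_card] at ho he
  refine ⟨fun hodd => ?_, fun heven => ?_⟩
  · obtain ⟨s, rfl⟩ := hodd
    have h := ho (s + 1) (by omega)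
    apply mul_left_cancel₀ hq0
    rw [hz] at h
    linear_combination h - hgeom
  · obtain ⟨s, rfl⟩ := heven
    obtain ⟨ε, hε, h, hsplit⟩ := he (s + 1) (by omega)
    refine ⟨ε, hε, ?_, ?_⟩
    · rw [show (s + s) / 2 = s by omega]
      apply mul_left_cancel₀ hq0
      apply mul_left_cancel₀ (show (Fintype.card k : ℤ) ≠ 0 by omega)
      rw [hz] at h
      linear_combination h - (Fintype.card k : ℤ) * hgeom
    · rw [hsplit, show (s + s) / 2 = s by omega]
      simp only [Groth.Agent.H23Quad.Split, hev]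

end Groth.Agent.S4039
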