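import Groth.Statements.S4047
import Mathlib

set_option autoImplicit false
universe u
open LefPen

namespace Groth.Agent.S4047

open Finset

section
variable (p f : ℕ) [NeZero f]

def rot : List ℕ → Fin f → ℕ
  | [], _ => 0
  | a :: as, l => a * p ^ (l : ℕ) + rot as (l + 1)

lemma sum_rot (as : List ℕ) : ∑ l, rot p f as l = as.sum * ∑ l : Fin f, p ^ (l : ℕ) := by
  induction as with
  | nil => simp [rot]
  | cons a as ih =>
    simp only [rot, sum_add_distrib, List.sum_cons, add_mul, ← mul_sum]
    congr 1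
    rw [← ih]
    exact Equiv.sum_comp (Equiv.addRight (1 : Fin f)) (rot p f as)

lemma rot_mod (Q : ℕ) (hP : (p : ZMod Q) ^ f = 1) (as : List ℕ) (l : Fin f) :
    (rot p f as l : ZMod Q) = (p : ZMod Q) ^ (l : ℕ) * (Nat.ofDigits p as : ℕ) := by
  induction as generalizing l with
  | nil => simp [rot, Nat.ofDigits]
  | cons a as ih =>
    have h : (p : ZMod Q) ^ ((l + 1 : Fin f) : ℕ) = (p : ZMod Q) ^ ((l : ℕ) + 1) := by
      rw [Fin.val_add, Fin.val_one', Nat.add_mod_mod, ← pow_eq_pow_mod _ hP]
    simp only [rot, Nat.ofDigits_cons, Nat.cast_add, Nat.cast_mul, Nat.cast_pow, ih, h]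
    ring

lemma rot_pos (hp : 0 < p) (as : List ℕ) (l : Fin f) (h : as.sum ≠ 0) : 0 < rot p f as l := by
  induction as generalizing l with
  | nil => simp at h
  | cons a as ih =>
    simp only [rot]
    rcases Nat.eq_zero_or_pos a with ha | ha
    · have := ih (l + 1) (by simpa [ha] using h)
      omega
    · have : 0 < a * p ^ (l : ℕ) := by positivity
      omega

lemma key {ι σ : Type*} [Fintype σ] (hp : 1 < p) (s : Finset ι) (w : ι → σ → ℕ) (e : ι → ℕ)
    (d j v : ℕ) (hd : 0 < d) (hw : ∀ m ∈ s, ∑ i, w m i = d) (hj : j * d < Fintype.card σ)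
    (hs : (p ^ f - 1) ∣ ∑ m ∈ s, e m)
    (hA : ∀ i, (p ^ f - 1) ∣ ∑ m ∈ s, e m * w m i)
    (hv : (p - 1) * (v + f) = ∑ m ∈ s, (Nat.digits p (e m)).sum) :
    f * j ≤ v + f * #{i | ∑ m ∈ s, e m * w m i = 0} := by
  set Q := p ^ f - 1 with hQ
  set z := #{i | ∑ m ∈ s, e m * w m i = 0} with hz
  have hp0 : 0 < p := by omega
  have h1 : 1 ≤ p ^ f := Nat.one_le_pow _ _ hp0
  have hQ0 : 0 < Q := by
    have := Nat.one_lt_pow (NeZero.ne f) hp
    omega
  have hP : (p : ZMod Q) ^ f = 1 := by
    have h : p ^ f = Q + 1 := by omega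
    calc (p : ZMod Q) ^ f = ((p ^ f : ℕ) : ZMod Q) := by push_cast; rfl
      _ = ((Q + 1 : ℕ) : ZMod Q) := by rw [h]
      _ = 1 := by simp
  have step : ∀ l : Fin f, Q * (j + 1) ≤
      (∑ m ∈ s, rot p f (Nat.digits p (e m)) l) + Q * z := by
    intro l
    set H := ∑ m ∈ s, rot p f (Nat.digits p (e m)) l with hH
    obtain ⟨h, hh⟩ : Q ∣ H := by
      rw [← ZMod.natCast_eq_zero_iff] at *
      simp only [hH, Nat.cast_sum, rot_mod p f Q hP, Nat.ofDigits_digits, ← mul_sum]
      rw [← Nat.cast_sum, hs, mul_zero]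
    let B : σ → ℕ := fun i => ∑ m ∈ s, rot p f (Nat.digits p (e m)) l * w m i
    have hB : ∀ i, ∑ m ∈ s, e m * w m i ≠ 0 → Q ≤ B i := by
      intro i hi
      apply Nat.le_of_dvd
      · obtain ⟨m, hm, hne⟩ := Finset.exists_ne_zero_of_sum_ne_zero hi
        refine lt_of_lt_of_le ?_ (single_le_sum (fun a _ => Nat.zero_le _) hm)
        refine Nat.mul_pos (rot_pos p f hp0 _ l ?_) (Nat.pos_of_ne_zero (right_ne_zero_of_mul hne))
        intro h0
        apply left_ne_zero_of_mul hne
        by_contra he
        have hlast := Nat.getLast_digit_ne_zero p he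
        exact hlast (List.sum_eq_zero_iff.mp h0 _ (List.getLast_mem _))
      · rw [← ZMod.natCast_eq_zero_iff]
        have := (ZMod.natCast_eq_zero_iff _ Q).mpr (hA i)
        simp only [B, Nat.cast_sum, Nat.cast_mul, rot_mod p f Q hP, Nat.ofDigits_digits,
          mul_assoc, ← mul_sum] at this ⊢
        rw [this, mul_zero]
    have hsum : ∑ i, B i = d * H := by
      simp only [B]
      rw [sum_comm, hH, mul_sum]
      refine sum_congr rfl fun m hm => ?_
      rw [← mul_sum, hw m hm, mul_comm]
    have hc : #({i | ∑ m ∈ s, e m * w m i ≠ 0} : Finset σ) * Q ≤ d * H := by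
      rw [← hsum]
      refine le_trans ?_ (sum_le_sum_of_subset (subset_univ
        ({i | ∑ m ∈ s, e m * w m i ≠ 0} : Finset σ)))
      rw [← smul_eq_mul]
      exact card_nsmul_le_sum _ _ _ fun i hi => hB i (mem_filter.mp hi).2
    set P := #({i | ∑ m ∈ s, e m * w m i ≠ 0} : Finset σ) with hPdef
    have hzp : z + P = Fintype.card σ :=
      card_filter_add_card_filter_not (s := univ) _
    have hPh : P ≤ d * h := by
      refine Nat.le_of_mul_le_mul_right ?_ hQ0
      calc P * Q ≤ d * H := hc
        _ = d * h * Q := by rw [hh]; ring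
    rw [hh, ← mul_add]
    refine Nat.mul_le_mul_left _ ?_
    by_contra hcon
    push Not at hcon
    have h2 : d * (h + z) ≤ d * j := Nat.mul_le_mul_left _ (by omega)
    have : z ≤ d * z := Nat.le_mul_of_pos_left z hd
    rw [mul_add] at h2
    rw [mul_comm j d] at hj
    omega
  have hsum := sum_le_sum (s := (univ : Finset (Fin f))) fun l _ => step l
  rw [sum_add_distrib, sum_comm (γ := Fin f)] at hsum
  simp only [sum_rot, sum_const, card_univ, Fintype.card_fin, smul_eq_mul, ← sum_mul] at hsum
  rw [← hv] at hsum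
  have hG : (p - 1) * ∑ l : Fin f, p ^ (l : ℕ) = Q := by
    rw [Fin.sum_univ_eq_sum_range (fun l => p ^ l) f, mul_comm, geom_sum_mul_of_one_le hp.le]
  have : Q * (f * j + f) ≤ Q * (v + f + f * z) := by
    calc Q * (f * j + f) = f * (Q * (j + 1)) := by ring
      _ ≤ _ := hsum
      _ = ((p - 1) * ∑ l : Fin f, p ^ (l : ℕ)) * (v + f) + f * (Q * z) := by ring
      _ = Q * (v + f + f * z) := by rw [hG]; ring
  have := Nat.le_of_mul_le_mul_left this hQ0
  omega

omit [NeZero f] in
lemma digits_sum_pow_mul (hp : 1 < p) (n m : ℕ) :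
    (Nat.digits p (p ^ n * m)).sum = (Nat.digits p m).sum := by
  induction n with
  | zero => simp
  | succ n ih =>
    rcases Nat.eq_zero_or_pos m with hm | hm
    · simp [hm]
    · have hpm : p ^ n * m ≠ 0 := by positivity
      rw [show p ^ (n + 1) * m = 0 + p * (p ^ n * m) by ring,
        Nat.digits_add p hp 0 _ (by omega) (Or.inr hpm), List.sum_cons, ih, zero_add]

omit [NeZero f] in
lemma digits_sum_pred (hp : 1 < p) (n : ℕ) :
    (Nat.digits p (p ^ n - 1)).sum = n * (p - 1) := by
  induction n with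
  | zero => simp
  | succ n ih =>
    have h1 : 1 ≤ p ^ n := Nat.one_le_pow _ _ (by omega)
    have h : p ^ (n + 1) - 1 = (p - 1) + p * (p ^ n - 1) := by
      have hh : p * (p ^ n - 1) + p = p ^ (n + 1) := by
        rw [Nat.mul_sub, mul_one, Nat.sub_add_cancel (Nat.le_mul_of_pos_right p h1), pow_succ']
      omega
    rw [h, Nat.digits_add p hp _ _ (by omega) (Or.inl (by omega)), List.sum_cons, ih]
    ring

omit [NeZero f] in
lemma val_multinomial [Fact p.Prime] {ι : Type*} (s : Finset ι) (e : ι → ℕ) :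
    (p - 1) * padicValNat p (Nat.multinomial s e) + (Nat.digits p (∑ m ∈ s, e m)).sum
      = ∑ m ∈ s, (Nat.digits p (e m)).sum := by
  classical
  have hf : ∀ n, (p - 1) * padicValNat p n.factorial + (Nat.digits p n).sum = n := fun n => by
    rw [sub_one_mul_padicValNat_factorial, Nat.sub_add_cancel (Nat.digit_sum_le p n)]
  have hprod : ∀ t : Finset ι, (p - 1) * padicValNat p (∏ m ∈ t, (e m).factorial)
      + ∑ m ∈ t, (Nat.digits p (e m)).sum = ∑ m ∈ t, e m := by
    intro t
    induction t using Finset.induction with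
    | empty => simp
    | insert a t ha ih =>
      rw [prod_insert ha, sum_insert ha, sum_insert ha, padicValNat.mul (Nat.factorial_ne_zero _)
        (prod_ne_zero_iff.mpr fun m _ => Nat.factorial_ne_zero _), mul_add]
      linarith [hf (e a)]
  have h0 : Nat.multinomial s e ≠ 0 := (Nat.multinomial_pos _ _).ne'
  have := hf (∑ m ∈ s, e m)
  rw [← Nat.multinomial_spec, padicValNat.mul
    (prod_ne_zero_iff.mpr fun m _ => Nat.factorial_ne_zero _) h0, mul_add] at this
  linarith [hprod s]

end

/-- Let k be a finite field with q elements, F a homogeneous form of degree d > 0 in N variables over k,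
and j a natural number with j d < N. Then q^j divides the number of zeros of F in k^N. -/
theorem result (k : Type u) [Field k] [Fintype k] [DecidableEq k] (N d j : ℕ)
    (hd : 0 < d) (F : MvPolynomial (Fin N) k) (hF : F.IsHomogeneous d) (hj : j * d < N) :
    Fintype.card k ^ j ∣ Fintype.card {x : Fin N → k // MvPolynomial.eval x F = 0} := by
  obtain ⟨p, hp⟩ := CharP.exists k
  obtain ⟨⟨f, hf⟩, hprime, hq⟩ := FiniteField.card k p
  simp only [PNat.mk_coe] at hq
  haveI := Fact.mk hprime
  haveI : NeZero f := ⟨hf.ne'⟩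
  set q := Fintype.card k with hqdef
  rw [hq, ← pow_mul]
  set n := f * j with hn
  set Z := Fintype.card {x : Fin N → k // MvPolynomial.eval x F = 0} with hZ
  let T : k →* WittVector p k := WittVector.teichmuller p
  have hT0 : ∀ a, (T a).coeff 0 = a := WittVector.teichmuller_coeff_zero p
  have hTinj : Function.Injective T := fun a b h => by rw [← hT0 a, h, hT0]
  let c : WittVector p k →+* k := WittVector.constantCoeff
  have hcT : ∀ a, c (T a) = a := hT0
  have hdvd : ∀ y : WittVector p k, (p : WittVector p k) ∣ y ↔ c y = 0 := fun y => by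
    rw [← Ideal.mem_span_singleton, WittVector.mem_span_p_iff_coeff_zero_eq_zero]
    rfl
  suffices h : ((p : WittVector p k) ^ n) ∣ (Z : WittVector p k) by
    rcases Nat.eq_zero_or_pos Z with hz | hz
    · simp [hz]
    obtain ⟨v, u, hu, hZu⟩ := Nat.exists_eq_pow_mul_and_not_dvd hz.ne' p hprime.ne_one
    rw [hZu] at h ⊢
    refine dvd_mul_of_dvd_left (pow_dvd_pow p ?_) _
    by_contra hlt
    push Not at hlt
    push_cast at h
    obtain ⟨r, hr⟩ := Nat.exists_eq_add_of_lt hlt
    rw [hr, add_assoc, pow_add] at h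
    have hp0 : (p : WittVector p k) ≠ 0 := (WittVector.irreducible p).ne_zero
    have h2 := (dvd_pow_self _ (Nat.succ_ne_zero r)).trans
      ((mul_dvd_mul_iff_left (pow_ne_zero v hp0)).mp h)
    rw [hdvd, map_natCast, CharP.cast_eq_zero_iff k p] at h2
    exact hu h2
  set M := (q - 1) * (p ^ f) ^ n with hM
  have hqQ : q - 1 = p ^ f - 1 := by rw [hq]
  let Y : (Fin N → k) → WittVector p k := fun x =>
    ∑ m ∈ F.support, T (F.coeff m * ∏ i, x i ^ m i)
  have hcY : ∀ x, c (Y x) = MvPolynomial.eval x F := fun x => by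
    simp only [Y, map_sum, hcT]
    rw [MvPolynomial.eval_eq']
  have hn1 : n + 1 ≤ M := by
    have h1 : n < (p ^ f) ^ n := Nat.lt_pow_self (Nat.one_lt_pow (NeZero.ne f) hprime.one_lt)
    have h2 : 1 ≤ q - 1 := by have := Fintype.one_lt_card (α := k); omega
    exact le_trans h1 (Nat.le_mul_of_pos_left _ h2)
  have hloc : ∀ x, ((p : WittVector p k) ^ n) ∣
      ((if MvPolynomial.eval x F = 0 then (1 : WittVector p k) else 0) - (1 - Y x ^ M)) := by
    intro x
    split_ifs with hx
    · have : (p : WittVector p k) ∣ Y x := (hdvd _).mpr (by rw [hcY, hx])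
      simpa using (pow_dvd_pow _ (by omega : n ≤ M)).trans (pow_dvd_pow_of_dvd this M)
    · have h1 : (p : WittVector p k) ∣ Y x ^ (q - 1) - 1 :=
        (hdvd _).mpr (by rw [map_sub, map_pow, hcY, map_one, FiniteField.pow_card_sub_one_eq_one _ hx,
          sub_self])
      have h2 := dvd_sub_pow_of_dvd_sub h1 (f * n)
      rw [one_pow, ← pow_mul, pow_mul p f n, ← hM] at h2
      have h3 : n ≤ f * n + 1 := le_add_right (Nat.le_mul_of_pos_left n hf)
      have h4 := (pow_dvd_pow (p : WittVector p k) h3).trans h2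
      convert h4 using 1
      ring
  have hsum : ((p : WittVector p k) ^ n) ∣ ∑ x, Y x ^ M := by
    simp only [Y, sum_pow_eq_sum_piAntidiag]
    rw [sum_comm]
    refine dvd_sum fun e he => ?_
    rw [← mul_sum]
    set A : Fin N → ℕ := fun i => ∑ m ∈ F.support, e m * m i with hA
    have key' : ∑ x : Fin N → k, ∏ m ∈ F.support, T (F.coeff m * ∏ i, x i ^ m i) ^ e m
        = (∏ m ∈ F.support, T (F.coeff m) ^ e m) * ∏ i, ∑ a : k, T a ^ A i := by
      rw [Fintype.prod_sum, mul_sum]
      refine sum_congr rfl fun x _ => ?_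
      simp only [map_mul, map_prod, map_pow, mul_pow, prod_mul_distrib, ← prod_pow, ← pow_mul]
      congr 1
      rw [prod_comm]
      refine prod_congr rfl fun i _ => ?_
      rw [prod_pow_eq_pow_sum]
      congr 1
      exact sum_congr rfl fun m _ => mul_comm _ _
    rw [key']
    by_cases hall : ∀ i, (q - 1) ∣ A i
    · have hz : (q : WittVector p k) ^ #{i | A i = 0} ∣ ∏ i, ∑ a : k, T a ^ A i := by
        refine dvd_trans ?_ (prod_dvd_prod_of_subset _ _ _ (subset_univ
          ({i | A i = 0} : Finset (Fin N))))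
        rw [← prod_const]
        refine prod_dvd_prod_of_dvd _ _ fun i hi => ?_
        simp [(mem_filter.mp hi).2, hqdef]
      rw [mem_piAntidiag] at he
      set v := padicValNat p (Nat.multinomial F.support e)
      have hw : ∀ m ∈ F.support, ∑ i, m i = d := fun m hm => by
        have := hF (MvPolynomial.mem_support_iff.mp hm)
        simpa [Finsupp.weight_apply, Finsupp.sum_fintype] using this
      have hv : (p - 1) * (v + f) = ∑ m ∈ F.support, (Nat.digits p (e m)).sum := by
        rw [← val_multinomial p F.support e, he.1, hM, mul_comm (q - 1), ← pow_mul,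
          digits_sum_pow_mul p hprime.one_lt, hqQ, digits_sum_pred p hprime.one_lt]
        ring
      have hk := key p f hprime.one_lt F.support (fun m i => m i) e d j v hd hw (by simpa using hj)
        (by rw [he.1, hM, hqQ]; exact dvd_mul_right _ _) (fun i => hqQ ▸ hall i) hv
      refine (pow_dvd_pow _ hk).trans ?_
      rw [pow_add]
      refine mul_dvd_mul ?_ (dvd_mul_of_dvd_right (dvd_trans ?_ hz) _)
      · rw [← Nat.cast_pow]
        exact Nat.cast_dvd_cast pow_padicValNat_dvd
      · rw [hq, Nat.cast_pow, ← pow_mul]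
    · push Not at hall
      obtain ⟨i, hi⟩ := hall
      have h0 : ∑ a : k, T a ^ A i = 0 := by
        obtain ⟨u, hu⟩ : ∃ u : kˣ, u ^ A i ≠ 1 := by
          by_contra hc
          push Not at hc
          exact hi ((FiniteField.forall_pow_eq_one_iff k (A i)).mp hc)
        have hmul : T (u : k) ^ A i * ∑ a : k, T a ^ A i = ∑ a : k, T a ^ A i := by
          rw [mul_sum]
          simp_rw [← mul_pow, ← map_mul]
          exact Equiv.sum_comp (Units.mulLeft u) (fun a => T a ^ A i)
        rcases mul_left_eq_self₀.mp hmul with h | h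
        · exfalso
          rw [← map_pow, ← map_one T] at h
          exact hu (Units.ext (by simpa using hTinj h))
        · exact h
      rw [prod_eq_zero (mem_univ i) h0]
      simp
  have hZeq : (Z : WittVector p k) =
      ∑ x : Fin N → k, if MvPolynomial.eval x F = 0 then (1 : WittVector p k) else 0 := by
    rw [sum_boole, hZ, Fintype.card_subtype]
  have h1 : ((p : WittVector p k) ^ n) ∣ ∑ _x : Fin N → k, (1 : WittVector p k) := by
    have hjN : j ≤ N := le_trans (Nat.le_mul_of_pos_right j hd) hj.le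
    simp only [sum_const, card_univ, Fintype.card_fun, Fintype.card_fin, nsmul_eq_mul, mul_one]
    rw [← hqdef, hq, ← pow_mul, Nat.cast_pow]
    exact pow_dvd_pow _ (Nat.mul_le_mul_left f hjN)
  have := dvd_add (dvd_sum fun x (_ : x ∈ (univ : Finset (Fin N → k))) => hloc x) (dvd_sub h1 hsum)
  rw [hZeq]
  rw [sum_sub_distrib, sum_sub_distrib] at this
  convert this using 1
  ring

end Groth.Agent.S4047
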