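import Groth.Statements.S4058
import Groth.Agent.H28NT.ProperClosedFibre
import Groth.Agent.H05EGA4.Regular
import Groth.Agent.H28Neron.Extend
import Groth.Agent.H05EGA4.CompleteNormalization

set_option autoImplicit false
set_option linter.style.haveILetI false
universe u
open CategoryTheory CategoryTheory.Limits AlgebraicGeometry MonObj
open SGA7

namespace Groth.Agent.S4058

/-- (iii) ⇒ (iv): let R be a discrete valuation ring with fraction field K and residue field k, and N a
group scheme over Spec R which is a Néron model of its generic fibre, an abelian variety over K. If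
the special fibre N ×_R k is proper over k, then N is proper over Spec R. (In (iii) as published the
special fibre is an abelian variety; connectedness of the special fibre is not assumed here.) -/
theorem result (R K : Type u) [CommRing R] [IsDomain R] [IsDiscreteValuationRing R] [Field K]
    [Algebra R K] [IsFractionRing R K]
    (N : Over (Spec (CommRingCat.of R))) [GrpObj N] (hN : SGA7.IsNeron R K N)
    [IsProper ((SGA7.genFib R K).obj N).hom] [GeometricallyIntegral ((SGA7.genFib R K).obj N).hom]
    [IsProper (Red.bc (Spec.map (CommRingCat.ofHom (IsLocalRing.residue R))) N).hom] :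
    IsProper N.hom := by
  obtain ⟨hsm, hsep, hqc, -⟩ := hN
  haveI := hsm
  haveI := hsep
  haveI := hqc
  let j : Spec (CommRingCat.of K) ⟶ Spec (CommRingCat.of R) := Spec.map (CommRingCat.ofHom (algebraMap R K))
  haveI : IsDominant j := ⟨PrimeSpectrum.denseRange_comap_iff_ker_le_nilRadical (algebraMap R K) |>.2
    (((RingHom.injective_iff_ker_eq_bot _).1 (IsFractionRing.injective R K)).trans_le bot_le)⟩
  haveI : IsSchemeTheoreticallyDominant j := .of_isDominant _
  haveI : GeometricallyIntegral (pullback.snd N.hom j) :=
    inferInstanceAs (GeometricallyIntegral ((SGA7.genFib R K).obj N).hom)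
  haveI : Subsingleton ↥(Spec (CommRingCat.of K)) := inferInstanceAs (Subsingleton (PrimeSpectrum K))
  haveI : IsIntegral (Limits.pullback N.hom j) :=
    GeometricallyIntegral.isIntegral_of_subsingleton (pullback.snd N.hom j)
  haveI : IsReduced N.left := IsSchemeTheoreticallyDominant.isReduced (pullback.fst N.hom j)
  haveI : IsDominant (pullback.fst N.hom j) := inferInstance
  haveI : IrreducibleSpace N.left := by
    refine (irreducibleSpace_def _).2 ?_
    rw [Set.top_eq_univ, ← (Scheme.Hom.denseRange (pullback.fst N.hom j)).closure_eq, ← Set.image_univ]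
    exact ((IrreducibleSpace.isIrreducible_univ _).image _
      (pullback.fst N.hom j).continuous.continuousOn).closure
  haveI : IsIntegral N.left := isIntegral_of_irreducibleSpace_of_isReduced N.left
  let e : Spec (CommRingCat.of R) ⟶ N.left := (η[N]).left
  have he : e ≫ N.hom = 𝟙 _ := Over.w (η[N])
  let σ : Spec (CommRingCat.of (FractionRing R)) ⟶ N.left :=
    Spec.map (CommRingCat.ofHom (algebraMap R (FractionRing R))) ≫ e
  haveI : IsRegularRing R := Groth.Agent.H05EGA4.isRegularRing_of_isRegularLocalRing _
  haveI := Groth.Agent.H28Neron.isRegularLocalRing_stalk_of_smooth N.hom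
    (σ.base (IsLocalRing.closedPoint (FractionRing R)))
  haveI := Groth.Agent.H05EGA4.isIntegrallyClosed_of_isRegularLocalRing
    (N.left.presheaf.stalk (σ.base (IsLocalRing.closedPoint (FractionRing R))))
  haveI : IsProper (pullback.snd N.hom (Spec.map (CommRingCat.ofHom (IsLocalRing.residue R)))) :=
    inferInstanceAs (IsProper (Red.bc (Spec.map (CommRingCat.ofHom (IsLocalRing.residue R))) N).hom)
  exact Groth.Agent.H28NT.isProper_of_isProper_closedFibre N.hom σ
    (by simp only [σ, Category.assoc, he, Category.comp_id]) (IsLocalRing.closedPoint R) rfl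
    ⟨e.base (IsLocalRing.closedPoint R), (Scheme.Hom.comp_apply e N.hom _).symm.trans
      (congrArg (fun f : Spec (CommRingCat.of R) ⟶ Spec (CommRingCat.of R) => f.base (IsLocalRing.closedPoint R)) he)⟩

end Groth.Agent.S4058
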