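import Groth.Statements.S4059
import Groth.Agent.H28SemiAb.MulFlat
import Groth.Agent.H28Neron.ComponentTorsion
import Groth.Agent.H28Neron.SmoothDim
import Groth.Agent.H28Neron.SpecialFibreImage

set_option autoImplicit false
set_option linter.style.haveILetI false
set_option backward.isDefEq.respectTransparency false
set_option backward.isDefEq.respectTransparency.types false
set_option maxHeartbeats 1600000
attribute [local instance] CategoryTheory.Functor.grpObjObj
universe u
open CategoryTheory CategoryTheory.Limits AlgebraicGeometry MonObj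
open SGA7

attribute [local instance 2000] CategoryTheory.Hom.group CategoryTheory.Hom.monoid

namespace Groth.Agent.S4059

/-- The four equivalent conditions, for a group scheme with the properties of the identity component of
a Néron model: let R be a discrete valuation ring with fraction field K and G a smooth separated
group scheme of finite type over Spec R with connected fibres whose generic fibre is an abelian
variety over K (proper and geometrically integral); let m > 0 and write [m] : G -> G for the m-th
power morphism. The following are equivalent: (i) [m] is flat; (ii) [m] is surjective; (iii) [m] is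
locally quasi-finite; (iv) m is invertible in the residue field of R, or the geometric special fibre
of G contains no copy of the additive group. -/
theorem result (R K : Type u) [CommRing R] [IsDomain R] [IsDiscreteValuationRing R] [Field K]
    [Algebra R K] [IsFractionRing R K]
    (G : Over (Spec (CommRingCat.of R))) [GrpObj G] [Smooth G.hom] [IsSeparated G.hom] [QuasiCompact G.hom]
    (hconn : ∀ s : ↥(Spec (CommRingCat.of R)), ConnectedSpace ↥(Red.bc ((Spec (CommRingCat.of R)).fromSpecResidueField s) G).left)
    [IsProper ((SGA7.genFib R K).obj G).hom] [GeometricallyIntegral ((SGA7.genFib R K).obj G).hom]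
    (m : ℕ) (hm : 0 < m) :
    [Flat ((𝟙 G : G ⟶ G) ^ m).left, Surjective ((𝟙 G : G ⟶ G) ^ m).left,
      LocallyQuasiFinite ((𝟙 G : G ⟶ G) ^ m).left,
      (m : IsLocalRing.ResidueField R) ≠ 0 ∨
        SGA7.FibreUnipotentRankZero (IsLocalRing.closedPoint R) G].TFAE := by
  let S := Spec (CommRingCat.of R)
  let c : S := IsLocalRing.closedPoint R
  let F := SGA7.genFib R K
  haveI : IsCommMonObj (F.obj G) := isCommMonObj_of_isProper_of_geometricallyIntegral (F.obj G)
  haveI : IsCommMonObj G := Groth.Agent.H28Neron.ComponentTorsion.isCommMonObj_of_genericFibre R K G ‹_›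
  let u : G ⟶ G := (𝟙 G) ^ m
  haveI : IsMonHom u := Groth.Agent.H28SemiAb.isMonHom_pow' m
  haveI : LocallyOfFinitePresentation u.left := Groth.Agent.H19Grp.locallyOfFinitePresentation_left u
  haveI : IsLocallyNoetherian (Spec (CommRingCat.of R)) := inferInstance
  haveI : IsIntegral (F.obj G).left := GeometricallyIntegral.isIntegral_of_subsingleton (F.obj G).hom
  haveI : IrreducibleSpace ↥(pullback G.hom (Spec.map (CommRingCat.ofHom (algebraMap R K)))) :=
    inferInstanceAs (IrreducibleSpace (F.obj G).left)
  obtain ⟨d, hd⟩ := Groth.Agent.H25Grp.exists_nat_dim (F.obj G).hom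
  have hiff : LocallyQuasiFinite u.left ↔ Flat u.left := by
    haveI : Smooth (u.left ≫ G.hom) := by rw [Over.w u]; infer_instance
    refine Groth.Agent.H28Neron.SmoothDim.flat_iff_lqf u.left G.hom d (fun x => ?_) (fun y => ?_)
    · rw [Over.w u]
      exact (Groth.Agent.H28Neron.SmoothDim.fibreDimAt_eq_generic (K := K) G.hom x).trans hd
    · exact (Groth.Agent.H28Neron.SmoothDim.fibreDimAt_eq_generic (K := K) G.hom y).trans hd
  haveI : QuasiCompact (u.left ≫ G.hom) := by rw [Over.w]; infer_instance
  haveI : QuasiCompact u.left := QuasiCompact.of_comp _ G.hom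
  tfae_have 1 → 2 := by
    intro hf
    refine ⟨fun y => ?_⟩
    let js := S.fromSpecResidueField (G.hom y)
    let Gs := (Over.pullback js).obj G
    haveI : LocallyOfFiniteType Gs.hom := inferInstanceAs (LocallyOfFiniteType (pullback.snd G.hom js))
    haveI : Flat ((Over.pullback js).map u).left :=
      MorphismProperty.of_isPullback (P := @Flat) (Groth.Agent.H19Grp.isPullback_map js u) hf
    haveI : ConnectedSpace Gs.left := hconn (G.hom y)
    have him := Groth.Agent.H28Neron.SpecialFibreImage.image_eq_of_flat (k := (S.residueField (G.hom y) : Type u))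
      ((Over.pullback js).map u)
    simp only [PreconnectedSpace.connectedComponent_eq_univ, Set.image_univ] at him
    obtain ⟨z, hz⟩ := Groth.Agent.H19Grp.exists_fibre_point G (rfl : G.hom y = G.hom y)
    obtain ⟨w, hw⟩ := him.ge (Set.mem_univ z)
    refine ⟨pullback.fst G.hom js w, ?_⟩
    refine Eq.trans ?_ hz
    rw [← hw]
    exact (congrArg (fun f => f.base w) (Groth.Agent.H19Grp.isPullback_map js u).w)
  tfae_have 2 → 1 := by
    intro hs
    refine (Flat.iff_flat_stalkMap _).2 fun x => Groth.Agent.H19Grp.flatPt_of_fibre u x ?_
    let js := S.fromSpecResidueField (G.hom x)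
    let Gs := (Over.pullback js).obj G
    haveI : Smooth Gs.hom := inferInstanceAs (Smooth (pullback.snd G.hom js))
    haveI : Surjective ((Over.pullback js).map u).left :=
      MorphismProperty.of_isPullback (P := @Surjective) (Groth.Agent.H19Grp.isPullback_map js u) hs
    haveI : QuasiCompact ((Over.pullback js).map u).left :=
      MorphismProperty.of_isPullback (P := @QuasiCompact) (Groth.Agent.H19Grp.isPullback_map js u) inferInstance
    exact Groth.Agent.H19Grp.flat_of_surjective (K := (S.residueField (G.hom x) : Type u)) ((Over.pullback js).map u)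
  tfae_have 1 ↔ 3 := hiff.symm
  tfae_have 3 → 4 := by
    intro hq
    refine or_iff_not_imp_left.2 fun hm0 => ?_
    rw [not_not] at hm0
    let Ω := AlgebraicClosure (S.residueField c)
    let g : Spec (CommRingCat.of Ω) ⟶ S := Red.geomPt c
    let A := (Over.pullback g).obj G
    haveI : QuasiCompact A.hom := inferInstanceAs (QuasiCompact (pullback.snd G.hom g))
    haveI : IsSeparated A.hom := inferInstanceAs (IsSeparated (pullback.snd G.hom g))
    obtain ⟨ψ, hψ⟩ : ∃ ψ, Spec.map ψ = g := Spec.map_surjective _
    have hmR : (m : R) ∈ IsLocalRing.maximalIdeal R := by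
      rw [← IsLocalRing.residue_eq_zero_iff, map_natCast]; exact hm0
    have h1 : PrimeSpectrum.comap ψ.hom (IsLocalRing.closedPoint Ω) = (c : PrimeSpectrum R) :=
      (congrArg (fun f => f.base (IsLocalRing.closedPoint Ω)) hψ).trans (Scheme.fromSpecResidueField_apply c _)
    have h2 : (m : R) ∈ (PrimeSpectrum.comap ψ.hom (IsLocalRing.closedPoint Ω)).asIdeal := by
      rw [h1]; exact hmR
    have hmΩ : (m : Ω) = 0 := by
      have h3 : ψ.hom (m : R) ∈ IsLocalRing.maximalIdeal Ω := h2
      rw [IsLocalRing.maximalIdeal_eq_bot, Ideal.mem_bot, map_natCast] at h3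
      exact h3
    have hmap : (Over.pullback g).map u = ((𝟙 A) ^ m : A ⟶ A) :=
      (map_pow (Functor.homMonoidHom (Over.pullback g)) _ m).trans
        (congrArg (fun x : A ⟶ A => x ^ m) ((Over.pullback g).map_id G))
    haveI : LocallyQuasiFinite ((𝟙 A) ^ m : A ⟶ A).left :=
      hmap ▸ MorphismProperty.of_isPullback (P := @LocallyQuasiFinite) (Groth.Agent.H19Grp.isPullback_map g u) hq
    exact fun j hj hjc => Groth.Agent.H28SemiAb.noGa_of_lqf_pow A hmΩ j hj hjc
  tfae_have 4 → 1 := by
    rintro (hm0 | hU)
    · haveI : Etale u.left := Groth.Agent.H28Neron.ComponentTorsion.etale_pow G m (by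
        rw [← IsLocalRing.residue_ne_zero_iff_isUnit, map_natCast]; exact hm0)
      infer_instance
    · obtain ⟨t, ht, hiso⟩ := Groth.Agent.H28SemiAb.isIsogenyOver_pow_of_genFib (K := K) G hm
      obtain ⟨U, hcU, hUl⟩ := Groth.Agent.H28SemiAb.exists_nhd_loci u (ht c) hU hiso
      refine (Flat.iff_flat_stalkMap _).2 fun x => (hUl x ?_).1
      exact (IsLocalRing.specializes_closedPoint (R := R) (G.hom x)).mem_open U.2 hcU
  tfae_finish

end Groth.Agent.S4059
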