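import Groth.Statements.S4060
import Groth.Agent.H28SemiAb.MonoNhd

set_option autoImplicit false
set_option linter.style.haveILetI false
set_option backward.isDefEq.respectTransparency false
set_option backward.isDefEq.respectTransparency.types false
set_option maxHeartbeats 1600000
universe u
open CategoryTheory CategoryTheory.Limits AlgebraicGeometry MonObj
open SGA7

namespace Groth.Agent.S4060

/-- Let S be an irreducible scheme with generic point t, G a commutative group scheme over S which is
flat, separated and of finite presentation, H a smooth quasi-separated group scheme over S, u : G ->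
H a homomorphism and s a point of S such that the geometric fibre of G at s contains no copy of the
additive group. If the homomorphism u_t induced on the fibres at t is an isogeny (surjective with
finite kernel) and a monomorphism, then there is an open neighbourhood U of s over which u restricts
to an open immersion (an isomorphism of G|_U onto an open subgroup of H|_U). -/
theorem result {S : Scheme.{u}} [IrreducibleSpace ↥S] (t : ↥S)
    (ht : ∀ x : ↥S, t ⤳ x) (G H : Over S) [GrpObj G] [IsCommMonObj G] [Flat G.hom] [IsSeparated G.hom]
    [LocallyOfFinitePresentation G.hom] [QuasiCompact G.hom] [GrpObj H] [Smooth H.hom] [QuasiSeparated H.hom]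
    (u : G ⟶ H) [IsMonHom u] (s : ↥S) (hs : SGA7.FibreUnipotentRankZero s G)
    (hiso : SGA7.IsIsogenyOver (SGA7.fibreHom t u)) [Mono (SGA7.fibreHom t u)] :
    ∃ U : S.Opens, s ∈ U ∧ IsOpenImmersion ((Over.pullback U.ι).map u).left := by
  exact Groth.Agent.H28SemiAb.exists_nhd_isOpenImmersion u ht hs hiso (Groth.Agent.H28SemiAb.kerTriv_of_mono u t)

end Groth.Agent.S4060
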