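import Groth.Statements.S4061
import Groth.Agent.H28SemiAb.IsogenyNhd

set_option autoImplicit false
set_option linter.style.haveILetI false
set_option backward.isDefEq.respectTransparency false
set_option backward.isDefEq.respectTransparency.types false
set_option maxHeartbeats 1600000
universe u
open CategoryTheory CategoryTheory.Limits AlgebraicGeometry MonObj
open SGA7

namespace Groth.Agent.S4061

/-- Let S be a scheme, G a commutative group scheme over S which is flat, separated and of finite
presentation, H a smooth quasi-separated group scheme over S, u : G -> H a homomorphism, s a point
of S such that the geometric fibre of G at s contains no copy of the additive group, and t a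
generization of s such that the homomorphism u_t induced on the fibres at t is an isogeny
(surjective with finite kernel). Then there is an open neighbourhood U of s over which u is flat and
locally quasi-finite. -/
theorem result {S : Scheme.{u}} (G H : Over S) [GrpObj G] [IsCommMonObj G]
    [Flat G.hom] [IsSeparated G.hom] [LocallyOfFinitePresentation G.hom] [QuasiCompact G.hom]
    [GrpObj H] [Smooth H.hom] [QuasiSeparated H.hom]
    (u : G ⟶ H) [IsMonHom u] (s t : ↥S) (hts : t ⤳ s) (hs : SGA7.FibreUnipotentRankZero s G)
    (hiso : SGA7.IsIsogenyOver (SGA7.fibreHom t u)) :
    ∃ U : S.Opens, s ∈ U ∧ Flat ((Over.pullback U.ι).map u).left ∧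
      LocallyQuasiFinite ((Over.pullback U.ι).map u).left := by
  exact Groth.Agent.H28SemiAb.exists_nhd_flat_lqf u hts hs hiso

end Groth.Agent.S4061
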