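import Groth.Statements.S4064
import Groth.Agent.H28Alg.ExtOne

set_option autoImplicit false
universe w v v'
open CategoryTheory CategoryTheory.Abelian
open SGA7

namespace Groth.Agent.S4064

/-- Let P -> F -> R and R -> E -> Q be short exact sequences in an abelian category (F an extension of R
by P, E an extension of Q by R). A blended extension of E by F is an object X with a monomorphism i
: F -> X and an epimorphism p : X -> E such that P -> X -> E (via i) and F -> X -> Q (via p) are
short exact and F -> X -> E is the composite F -> R -> E. Such an X exists if and only if the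
composite of the two extension classes, an element of Ext^2(Q, P), is zero. -/
theorem result {C : Type w} [Category.{v} C] [Abelian C]
    [HasExt.{v'} C] {P F R E Q : C} (a : P ⟶ F) (b : F ⟶ R) (wF : a ≫ b = 0)
    (hF : (ShortComplex.mk a b wF).ShortExact) (c : R ⟶ E) (d : E ⟶ Q) (wE : c ≫ d = 0)
    (hE : (ShortComplex.mk c d wE).ShortExact) :
    (∃ (X : C) (i : F ⟶ X) (p : X ⟶ E), i ≫ p = b ≫ c ∧
        (∃ w : (a ≫ i) ≫ p = 0, (ShortComplex.mk (a ≫ i) p w).ShortExact) ∧
        (∃ w : i ≫ (p ≫ d) = 0, (ShortComplex.mk i (p ≫ d) w).ShortExact)) ↔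
      hE.extClass.comp hF.extClass (rfl : 1 + 1 = 2) = 0 := by
  haveI : Mono a := hF.mono_f
  haveI : Epi b := hF.epi_g
  haveI : Mono c := hE.mono_f
  haveI : Epi d := hE.epi_g
  constructor
  · rintro ⟨X, i, p, hip, ⟨w₁, h₁⟩, ⟨w₂, h₂⟩⟩
    let φ : ShortComplex.mk i (p ≫ d) w₂ ⟶ ShortComplex.mk c d wE :=
      { τ₁ := b, τ₂ := p, τ₃ := 𝟙 Q, comm₁₂ := hip.symm, comm₂₃ := (Category.comp_id _).symm }
    have h : h₂.extClass.comp (Ext.mk₀ b) (add_zero 1) = (Ext.mk₀ (𝟙 Q)).comp hE.extClass (zero_add 1) :=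
      ShortComplex.ShortExact.extClass_naturality h₂ hE φ
    rw [Ext.mk₀_id_comp] at h
    rw [← h, Ext.comp_assoc_of_second_deg_zero]
    have h0 : (Ext.mk₀ b).comp hF.extClass (zero_add 1) = 0 := hF.comp_extClass
    rw [h0, Ext.comp_zero]
  · intro h
    obtain ⟨ξ, hξ⟩ := Ext.covariant_sequence_exact₃ Q hF hE.extClass (rfl : 1 + 1 = 2) h
    obtain ⟨X, i, q, w₀, hS, rfl⟩ := H28Alg.exists_shortExact_extClass_eq ξ
    have hξ' : hS.extClass.comp (Ext.mk₀ b) (add_zero 1) = (Ext.mk₀ (𝟙 Q)).comp hE.extClass (zero_add 1) := by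
      rw [Ext.mk₀_id_comp]; exact hξ
    obtain ⟨p, hp1, hp2⟩ := H28Alg.exists_map_of_extClass_comp hS hE b (𝟙 Q) hξ'
    have hp1' : i ≫ p = b ≫ c := hp1
    have hp2' : p ≫ d = q := hp2.trans (Category.comp_id _)
    have hw : (a ≫ i) ≫ p = 0 := by
      rw [Category.assoc, hp1', ← Category.assoc, wF, CategoryTheory.Limits.zero_comp]
    haveI : Mono i := hS.mono_f
    haveI : Epi q := hS.epi_g
    refine ⟨X, i, p, hp1', ⟨hw, { exact := ?_, mono_f := inferInstanceAs (Mono (a ≫ i)), epi_g := ?_ }⟩,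
      ⟨by rw [hp2']; exact w₀, ?_⟩⟩
    · refine ShortComplex.exact_of_f_is_kernel _ (CategoryTheory.Limits.KernelFork.IsLimit.ofι' (a ≫ i) hw fun {K} k hk => ?_)
      haveI : Mono (a ≫ i) := inferInstance
      have hk' : k ≫ p = 0 := hk
      have hkq : k ≫ q = 0 := by rw [← hp2', ← Category.assoc, hk', CategoryTheory.Limits.zero_comp]
      have hlift : hS.exact.lift k hkq ≫ i = k := hS.exact.lift_f k hkq
      have hkb : hS.exact.lift k hkq ≫ b = 0 := by
        rw [← cancel_mono c, Category.assoc, ← hp1', ← Category.assoc, hlift, hk', CategoryTheory.Limits.zero_comp]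
      refine ⟨hF.exact.lift _ hkb, ?_⟩
      have hlift2 : hF.exact.lift _ hkb ≫ a = hS.exact.lift k hkq := hF.exact.lift_f _ hkb
      rw [← Category.assoc, hlift2, hlift]
    · refine Preadditive.epi_of_cancel_zero _ fun {K} k hk => ?_
      have hk' : p ≫ k = 0 := hk
      have hck : c ≫ k = 0 := by
        rw [← cancel_epi b, ← Category.assoc, ← hp1', Category.assoc, hk', CategoryTheory.Limits.comp_zero, CategoryTheory.Limits.comp_zero]
      have hdesc : d ≫ hE.exact.desc k hck = k := hE.exact.g_desc k hck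
      have h0 : hE.exact.desc k hck = 0 := by
        rw [← cancel_epi q, ← hp2', Category.assoc, hdesc, hk', CategoryTheory.Limits.comp_zero]
      rw [← hdesc, h0, CategoryTheory.Limits.comp_zero]
    · refine ShortComplex.shortExact_of_iso ?_ hS
      exact ShortComplex.isoMk (Iso.refl _) (Iso.refl _) (Iso.refl _)
        ((Category.id_comp _).trans (Category.comp_id _).symm) ((Category.id_comp _).trans (hp2'.trans (Category.comp_id _).symm))

end Groth.Agent.S4064
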