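import Groth.Statements.S4065

set_option autoImplicit false
universe w v
open CategoryTheory
open SGA7

namespace Groth.Agent.S4065

/-- Let P -> F -> R and R -> E -> Q be short exact sequences in an abelian category and X a blended
extension of E by F: i : F -> X and p : X -> E with i, p composing to F -> R -> E and with P -> X ->
E and F -> X -> Q short exact. Then u ↦ 1_X + (X -> E -> Q -> P -> F -> X) is a bijection from
Hom(Q, P) onto the set of endomorphisms φ of X with i φ = i and φ p = p (the automorphisms of the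
blended extension; every such φ is invertible), and it turns addition into composition (a group
isomorphism Hom(Q, P) ≅ Aut(X)). -/
theorem result {C : Type w} [Category.{v} C] [Abelian C]
    {P F R E Q X : C} (a : P ⟶ F) (b : F ⟶ R) (wF : a ≫ b = 0)
    (hF : (ShortComplex.mk a b wF).ShortExact) (c : R ⟶ E) (d : E ⟶ Q) (wE : c ≫ d = 0)
    (hE : (ShortComplex.mk c d wE).ShortExact) (i : F ⟶ X) (p : X ⟶ E) (hip : i ≫ p = b ≫ c)
    (w₁ : (a ≫ i) ≫ p = 0) (h₁ : (ShortComplex.mk (a ≫ i) p w₁).ShortExact)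
    (w₂ : i ≫ (p ≫ d) = 0) (h₂ : (ShortComplex.mk i (p ≫ d) w₂).ShortExact) :
    Set.BijOn (fun v : Q ⟶ P => 𝟙 X + p ≫ d ≫ v ≫ a ≫ i) Set.univ
      {φ : X ⟶ X | i ≫ φ = i ∧ φ ≫ p = p} ∧
      ∀ v v' : Q ⟶ P, 𝟙 X + p ≫ d ≫ (v + v') ≫ a ≫ i =
        (𝟙 X + p ≫ d ≫ v ≫ a ≫ i) ≫ (𝟙 X + p ≫ d ≫ v' ≫ a ≫ i) := by
  haveI := h₁.mono_f
  haveI := h₂.epi_g
  have w₁' : a ≫ i ≫ p = 0 := by rw [← Category.assoc]; exact w₁
  have hsq : ∀ {Z : C} (z : X ⟶ Z), i ≫ p ≫ d = 0 := fun _ => w₂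
  refine ⟨⟨fun v _ => ⟨?_, ?_⟩, fun v _ v' _ h => ?_, fun φ hφ => ?_⟩, fun v v' => ?_⟩
  · dsimp only
    rw [Preadditive.comp_add, Category.comp_id, ← Category.assoc p d, ← Category.assoc i (p ≫ d), w₂, CategoryTheory.Limits.zero_comp, add_zero]
  · dsimp only
    simp [Preadditive.add_comp, w₁']
  · simp only [add_right_inj] at h
    rw [← Category.assoc p d, ← Category.assoc p d] at h
    haveI : Epi (p ≫ d) := h₂.epi_g
    haveI : Mono (a ≫ i) := h₁.mono_f
    rw [cancel_epi] at h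
    exact (cancel_mono (a ≫ i)).1 h
  · obtain ⟨h1, h2⟩ := hφ
    haveI : Epi (p ≫ d) := h₂.epi_g
    obtain ⟨e, he⟩ : ∃ e : Q ⟶ X, (p ≫ d) ≫ e = φ - 𝟙 X :=
      ⟨h₂.exact.desc (φ - 𝟙 X) (by simp [Preadditive.comp_sub, h1]), h₂.exact.g_desc _ _⟩
    have hep : e ≫ p = 0 := by
      rw [← cancel_epi (p ≫ d), ← Category.assoc, he, Preadditive.sub_comp, h2, Category.id_comp, sub_self, CategoryTheory.Limits.comp_zero]
    refine ⟨h₁.exact.lift e hep, trivial, ?_⟩
    have hl : h₁.exact.lift e hep ≫ a ≫ i = e := h₁.exact.lift_f e hep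
    dsimp only
    rw [hl, ← Category.assoc p d, he, add_sub_cancel]
  · simp [Preadditive.add_comp, Preadditive.comp_add, reassoc_of% w₁']
    abel

end Groth.Agent.S4065
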