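import Groth.Statements.S4070
import Groth.Agent.H28Neron.ComponentSections

set_option autoImplicit false
set_option linter.style.haveILetI false
universe u
open CategoryTheory CategoryTheory.Limits AlgebraicGeometry MonObj
open MonoidalCategory
open SGA7
open CartesianMonoidalCategory

namespace Groth.Agent.S4070

/-- Let R be a strictly henselian discrete valuation ring (henselian, separably closed residue field)
with fraction field K and N a group scheme over Spec R which is a Néron model of its generic fibre,
an abelian variety A over K, so that sections of N over Spec R are the K-points of A. Then the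
special fibre of N has finitely many connected components, every one of them is met by a section,
and two sections x, y meet the same connected component if and only if x · y⁻¹ meets the connected
component of the unit section: the component group of the special fibre is A(K) modulo the subgroup
of points reducing into the identity component. -/
theorem result (R K : Type u) [CommRing R] [IsDomain R] [IsDiscreteValuationRing R] [HenselianLocalRing R]
    [IsSepClosed (IsLocalRing.ResidueField R)] [Field K] [Algebra R K] [IsFractionRing R K]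
    (N : Over (Spec (CommRingCat.of R))) [GrpObj N] (hN : SGA7.IsNeron R K N)
    [IsProper ((SGA7.genFib R K).obj N).hom] [GeometricallyIntegral ((SGA7.genFib R K).obj N).hom] :
    (Set.range (SGA7.secComp R N)).Finite ∧
    (∀ z ∈ SGA7.specialFibreSet R N, ∃ x : 𝟙_ (Over (Spec (CommRingCat.of R))) ⟶ N, z ∈ SGA7.secComp R N x) ∧
      ∀ x y : 𝟙_ (Over (Spec (CommRingCat.of R))) ⟶ N,
        SGA7.secComp R N x = SGA7.secComp R N y ↔ x * y⁻¹ ∈ SGA7.secUnitComp R N := by
  haveI : Smooth N.hom := hN.1
  haveI : QuasiCompact N.hom := hN.2.2.1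
  haveI : IsLocallyNoetherian N.left := LocallyOfFiniteType.isLocallyNoetherian N.hom
  haveI : CompactSpace N.left := QuasiCompact.compactSpace_of_compactSpace N.hom
  haveI : AlgebraicGeometry.IsNoetherian N.left := {}
  let F := SGA7.specialFibreSet R N
  let c : Spec (CommRingCat.of R) := IsLocalRing.closedPoint R
  have hmem : ∀ x : 𝟙_ (Over (Spec (CommRingCat.of R))) ⟶ N, x.left.base c ∈ F := fun x => by
    show N.hom.base (x.left.base c) = c
    have hw : x.left ≫ N.hom = 𝟙 _ := Over.w x
    rw [← Scheme.Hom.comp_apply, hw]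
    rfl
  have hcomp : ∀ x : 𝟙_ (Over (Spec (CommRingCat.of R))) ⟶ N,
      SGA7.secComp R N x = Subtype.val '' connectedComponent (⟨x.left.base c, hmem x⟩ : F) := fun x =>
    connectedComponentIn_eq_image (hmem x)
  refine ⟨?_, ?_, ?_⟩
  · refine (H28Neron.ComponentSections.finite_range_connectedComponent (α := F)).image (Subtype.val '' ·) |>.subset ?_
    rintro _ ⟨x, rfl⟩
    exact ⟨_, ⟨⟨x.left.base c, hmem x⟩, rfl⟩, (hcomp x).symm⟩
  · intro z hz
    obtain ⟨O, hO, hOC⟩ := isOpen_induced_iff.1
      (H28Neron.ComponentSections.isOpen_connectedComponent_of_noetherian (⟨z, hz⟩ : F))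
    have hzO : z ∈ O := (Set.ext_iff.1 hOC ⟨z, hz⟩).2 mem_connectedComponent
    obtain ⟨σ, hσ, hσO⟩ := H28Neron.ComponentSections.exists_section_mem N.hom ⟨O, hO⟩ hzO hz
    let x : 𝟙_ (Over (Spec (CommRingCat.of R))) ⟶ N := Over.homMk σ hσ
    refine ⟨x, ?_⟩
    have h1 : (⟨x.left.base c, hmem x⟩ : F) ∈ connectedComponent (⟨z, hz⟩ : F) :=
      (Set.ext_iff.1 hOC ⟨_, hmem x⟩).1 hσO
    rw [hcomp, ← connectedComponent_eq h1]
    exact ⟨⟨z, hz⟩, mem_connectedComponent, rfl⟩
  · intro x y
    let ρ : N ⟶ N := 𝟙 N * (toUnit N ≫ y⁻¹)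
    let ρ' : N ⟶ N := 𝟙 N * (toUnit N ≫ y)
    have hu : toUnit N ≫ y⁻¹ = (toUnit N ≫ y)⁻¹ := GrpObj.comp_inv ..
    have hρρ' : ρ ≫ ρ' = 𝟙 N := by
      simp only [ρ', MonObj.comp_mul, Category.comp_id, ← Category.assoc, toUnit_unique (ρ ≫ toUnit N) (toUnit N)]
      simp only [ρ, hu, inv_mul_cancel_right]
    have hρ'ρ : ρ' ≫ ρ = 𝟙 N := by
      simp only [ρ, MonObj.comp_mul, Category.comp_id, ← Category.assoc, toUnit_unique (ρ' ≫ toUnit N) (toUnit N)]
      simp only [ρ', hu, mul_inv_cancel_right]
    let e : N ≅ N := ⟨ρ, ρ', hρρ', hρ'ρ⟩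
    let h : N.left ≃ₜ N.left := Scheme.homeoOfIso ((Over.forget _).mapIso e)
    have hF : h '' F = F := by
      have key : ∀ g : N ⟶ N, ∀ a ∈ F, g.left.base a ∈ F := fun g a ha => by
        show N.hom.base (g.left.base a) = c
        rw [← Scheme.Hom.comp_apply, Over.w g]
        exact ha
      refine Set.Subset.antisymm (Set.image_subset_iff.2 fun a ha => key ρ a ha) fun a ha =>
        ⟨h.symm a, key ρ' a ha, h.apply_symm_apply a⟩
    have happ : ∀ w : 𝟙_ (Over (Spec (CommRingCat.of R))) ⟶ N, h (w.left.base c) = (w * y⁻¹).left.base c := fun w => by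
      have : w ≫ ρ = w * y⁻¹ := by
        simp only [ρ, MonObj.comp_mul, Category.comp_id, ← Category.assoc,
          toUnit_unique (w ≫ toUnit N) (𝟙 _), Category.id_comp]
      rw [← this]
      exact (Scheme.Hom.comp_apply w.left ρ.left c).symm
    have hone : (y * y⁻¹).left.base c = η[N].left.base c := by
      have : (1 : 𝟙_ (Over (Spec (CommRingCat.of R))) ⟶ N) = η[N] := by
        rw [Hom.one_def, toUnit_unique (toUnit (𝟙_ (Over (Spec (CommRingCat.of R))))) (𝟙 _), Category.id_comp]
      rw [mul_inv_cancel, this]
    have key : h '' SGA7.secComp R N y = connectedComponentIn F (η[N].left.base c) := by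
      show h '' connectedComponentIn F (y.left.base c) = _
      rw [h.image_connectedComponentIn (hmem y), hF, happ, hone]
    show connectedComponentIn F (x.left.base c) = connectedComponentIn F (y.left.base c) ↔
      (x * y⁻¹).left.base c ∈ connectedComponentIn F (η[N].left.base c)
    rw [← happ, ← key, h.injective.mem_set_image]
    exact ⟨fun hxy => (show _ ∈ connectedComponentIn F (y.left.base c) from hxy ▸ mem_connectedComponentIn (hmem x)),
      fun hxy => (connectedComponentIn_eq hxy).symm⟩

end Groth.Agent.S4070
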