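import Groth.Statements.S4071
import Groth.Agent.S4070
import Groth.Agent.H28Neron.ComponentTorsion

set_option autoImplicit false
set_option linter.style.haveILetI false
set_option linter.unusedVariables false
universe u
open CategoryTheory CategoryTheory.Limits AlgebraicGeometry MonObj
open MonoidalCategory
open SGA7

namespace Groth.Agent.S4071

/-- Let R be a strictly henselian discrete valuation ring with fraction field K, N a group scheme over
Spec R which is a Néron model of its generic fibre, an abelian variety A over K, and n an integer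
invertible in the residue field of R. If x is a section of N (a K-point of A) whose n-th power meets
the connected component of the unit section in the special fibre, then there is a section y with y^n
= 1 such that x · y⁻¹ meets the connected component of the unit section: the n-torsion of the
component group is the image of the n-torsion of A(K). -/
theorem result (R K : Type u) [CommRing R] [IsDomain R] [IsDiscreteValuationRing R] [HenselianLocalRing R]
    [IsSepClosed (IsLocalRing.ResidueField R)] [Field K] [Algebra R K] [IsFractionRing R K]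
    (N : Over (Spec (CommRingCat.of R))) [GrpObj N] (hN : SGA7.IsNeron R K N)
    [IsProper ((SGA7.genFib R K).obj N).hom] [GeometricallyIntegral ((SGA7.genFib R K).obj N).hom]
    (n : ℕ) (hn : (n : IsLocalRing.ResidueField R) ≠ 0)
    (x : 𝟙_ (Over (Spec (CommRingCat.of R))) ⟶ N) (hx : x ^ n ∈ SGA7.secUnitComp R N) :
    ∃ y : 𝟙_ (Over (Spec (CommRingCat.of R))) ⟶ N, y ^ n = 1 ∧ x * y⁻¹ ∈ SGA7.secUnitComp R N := by
  haveI : Smooth N.hom := hN.1
  haveI : IsSeparated N.hom := hN.2.1
  haveI : QuasiCompact N.hom := hN.2.2.1
  haveI : IsLocallyNoetherian N.left := LocallyOfFiniteType.isLocallyNoetherian N.hom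
  haveI : CompactSpace N.left := QuasiCompact.compactSpace_of_compactSpace N.hom
  haveI : AlgebraicGeometry.IsNoetherian N.left := {}
  letI : GrpObj ((SGA7.genFib R K).obj N) := Functor.grpObjObj
  haveI : IsCommMonObj N := H28Neron.ComponentTorsion.isCommMonObj_of_genericFibre R K N
    (isCommMonObj_of_isProper_of_geometricallyIntegral ((SGA7.genFib R K).obj N))
  have hn' : IsUnit (n : R) := by
    by_contra h
    exact hn (by rw [← map_natCast (IsLocalRing.residue R), IsLocalRing.residue_eq_zero_iff]; exact h)
  let c : Spec (CommRingCat.of R) := IsLocalRing.closedPoint R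
  have hmemF : ∀ a : 𝟙_ (Over (Spec (CommRingCat.of R))) ⟶ N, a.left.base c ∈ SGA7.specialFibreSet R N :=
    fun a => by
      show N.hom.base (a.left.base c) = c
      have hw : a.left ≫ N.hom = 𝟙 _ := Over.w a
      rw [← Scheme.Hom.comp_apply, hw]
      rfl
  have hdiff : ∀ a b : 𝟙_ (Over (Spec (CommRingCat.of R))) ⟶ N, a ∈ SGA7.secUnitComp R N →
      b ∈ SGA7.secUnitComp R N → a * b⁻¹ ∈ SGA7.secUnitComp R N := fun a b ha hb =>
    ((Groth.Agent.S4070.result R K N hN).2.2 a b).1
      ((connectedComponentIn_eq ha).symm.trans (connectedComponentIn_eq hb))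
  obtain ⟨z, hz, hzn⟩ := H28Neron.ComponentTorsion.exists_pow_eq N n hn' (x ^ n) hx hdiff
    (H28Neron.ComponentTorsion.isPreirreducible_unitComponent N)
  refine ⟨x * z⁻¹, ?_, ?_⟩
  · rw [mul_pow, inv_pow, hzn, mul_inv_cancel]
  · rw [mul_inv_rev, inv_inv, mul_comm z, mul_inv_cancel_left]
    exact hz

end Groth.Agent.S4071
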