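import Groth.Statements.S4075
import Groth.Agent.H28SGA7.Inertia
import Groth.Agent.H28SGA7.SpecLift
import Groth.Agent.H28SGA7.Unram

set_option autoImplicit false
set_option backward.isDefEq.respectTransparency.types false
set_option linter.style.haveILetI false
universe u
open CategoryTheory CategoryTheory.Limits AlgebraicGeometry MonObj
open SGA7

namespace Groth.Agent.S4075

/-- Let R be a henselian discrete valuation ring with fraction field K, Ω a separable closure of K, W a
valuation subring of Ω lying over R, N a group scheme over Spec R which is a Néron model of its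
generic fibre A = N_K, an abelian variety, and m an integer invertible in the residue field. For an
m-torsion Ω-point x of A, the inertia group at W fixes x if and only if the point of N underlying x
specialises to a point of the special fibre of N (x factors through the finite part of the m-torsion
of N): the fixed part of the m-torsion is the inertia invariants. -/
theorem result (R K Ω : Type u) [CommRing R] [IsDomain R]
    [IsDiscreteValuationRing R] [HenselianLocalRing R] [Field K] [Algebra R K] [IsFractionRing R K]
    [Field Ω] [Algebra K Ω] [IsSepClosure K Ω] (W : ValuationSubring Ω) (hW : SGA7.LiesOver K R W)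
    (N : Over (Spec (CommRingCat.of R))) [GrpObj N] (hN : SGA7.IsNeron R K N)
    [IsProper ((SGA7.genFib R K).obj N).hom] [GeometricallyIntegral ((SGA7.genFib R K).obj N).hom]
    (m : ℕ) (hm : (m : IsLocalRing.ResidueField R) ≠ 0)
    (x : SGA7.Pts Ω ((SGA7.genFib R K).obj N)) (hx : x ^ m = 1) :
    (∀ σ : Ω ≃ₐ[K] Ω, SGA7.IsInertia W σ → SGA7.galAct σ x = x) ↔
      ∃ z ∈ SGA7.specialFibreSet R N,
        (x.left ≫ pullback.fst N.hom (Spec.map (CommRingCat.ofHom (algebraMap R K)))).base
          (IsLocalRing.closedPoint Ω) ⤳ z := by
  obtain ⟨hsm, hsep, hqc, hmap⟩ := hN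
  haveI := hsm
  haveI := hsep
  haveI := hqc
  letI : Algebra R Ω := ((algebraMap K Ω).comp (algebraMap R K)).toAlgebra
  haveI : IsScalarTower R K Ω := IsScalarTower.of_algebraMap_eq fun r => rfl
  constructor
  · intro hfix
    obtain ⟨z, hz, hs⟩ := Groth.Agent.H28SGA7.Unram.exists_specializes R K Ω hW N hmap x hfix
    exact ⟨z, hz, hs⟩
  · rintro ⟨z, hz, hs⟩ σ hσ
    letI : GrpObj ((SGA7.genFib R K).obj N) := Functor.grpObjObj
    haveI : IsCommMonObj N := Groth.Agent.H28Neron.ComponentTorsion.isCommMonObj_of_genericFibre R K N
      (isCommMonObj_of_isProper_of_geometricallyIntegral ((SGA7.genFib R K).obj N))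
    have hm' : IsUnit (m : R) := by
      by_contra h
      exact hm (by rw [← map_natCast (IsLocalRing.residue R), IsLocalRing.residue_eq_zero_iff]; exact h)
    obtain ⟨Y, hY₁, hY₂⟩ := Groth.Agent.H28SGA7.SpecLift.exists_lift_of_specializes R K Ω W hW N
      (x.left ≫ pullback.fst N.hom (Spec.map (CommRingCat.ofHom (algebraMap R K)))) (by
        rw [Category.assoc, pullback.condition, ← Category.assoc, CommRingCat.ofHom_comp, Spec.map_comp]
        exact congrArg (· ≫ Spec.map (CommRingCat.ofHom (algebraMap R K))) (Over.w x)) z hz hs
    exact Groth.Agent.H28SGA7.Inertia.galAct_eq_of_lift R K Ω W hW N m hm' σ hσ x hx Y hY₁ hY₂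

end Groth.Agent.S4075
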