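import Groth.Statements.S4078
import Groth.Agent.H28SemiAb.Endo

set_option autoImplicit false
set_option linter.style.haveILetI false
set_option backward.isDefEq.respectTransparency false
set_option backward.isDefEq.respectTransparency.types false
set_option maxHeartbeats 1600000
universe u
open CategoryTheory CategoryTheory.Limits AlgebraicGeometry MonObj
open SGA7

namespace Groth.Agent.S4078

/-- Let k be a field, G a smooth connected commutative group scheme over k whose geometric fibre
contains no copy of the additive group (an extension of an abelian variety by a torus), n ≥ 2 an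
integer and u an automorphism of the group scheme G of finite order (some positive power of u under
composition is the identity) which induces the identity on the n-torsion: for every k-scheme T and
every T-point x of G with x^n = 1 one has u(x) = x. Then u is the identity if n ≥ 3, and u composed
with itself is the identity if n = 2. -/
theorem result (k : Type u) [Field k] (G : Over (Spec (CommRingCat.of k))) [GrpObj G]
    [IsCommMonObj G] [Smooth G.hom] [ConnectedSpace ↥G.left] (hG : SGA7.FibresUnipotentRankZero G)
    (n : ℕ) (hn : 2 ≤ n) (u : Aut G) [IsMonHom u.hom] (N : ℕ) (hN : 0 < N) (huN : u ^ N = 1)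
    (hu : ∀ (T : Over (Spec (CommRingCat.of k))) (x : T ⟶ G), x ^ n = 1 → x ≫ u.hom = x) :
    (3 ≤ n → u = 1) ∧ (n = 2 → u * u = 1) := by
  obtain ⟨pt⟩ : Nonempty ↥(Spec (CommRingCat.of k)) := ⟨IsLocalRing.closedPoint k⟩
  let g := Red.geomPt (S := Spec (CommRingCat.of k)) pt
  have hNo : Groth.Agent.H28SemiAb.NoGa ((Over.pullback g).obj G) := fun j hj hjc => hG pt j hj hjc
  have hn0 : 0 < n := by omega
  have hS := Groth.Agent.H28SemiAb.noDiv_endo G g hNo
  obtain ⟨v, hv, he⟩ := Groth.Agent.H28SemiAb.exists_sub_eq_mul G g hNo hn0 u.hom (𝟙 G) fun T x hx => by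
    rw [Category.comp_id]; exact hu T x hx
  haveI := hv
  rw [Groth.Agent.H28SemiAb.toEndo_id] at he
  have hN1 : Groth.Agent.H28SemiAb.toEndo G u.hom ^ N = 1 := by
    obtain ⟨h, e⟩ := Groth.Agent.H28SemiAb.toEndo_aut_pow G u N
    haveI := h
    rw [← e]
    refine Eq.trans ?_ (Groth.Agent.H28SemiAb.toEndo_id G)
    exact Groth.Agent.H28SemiAb.toEndo_congr G (by rw [huN]; rfl)
  obtain ⟨h3, h2⟩ := Groth.Agent.H28SemiAb.serre_lemma hS hn hN _ _ he hN1
  refine ⟨fun h => Iso.ext ?_, fun h => Iso.ext ?_⟩
  · exact Groth.Agent.H28SemiAb.toEndo_injective G (g := 𝟙 G)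
      ((h3 h).trans (Groth.Agent.H28SemiAb.toEndo_id G).symm)
  · show u.hom ≫ u.hom = 𝟙 G
    refine Groth.Agent.H28SemiAb.toEndo_injective G ?_
    rw [Groth.Agent.H28SemiAb.toEndo_comp, h2 h, Groth.Agent.H28SemiAb.toEndo_id]

end Groth.Agent.S4078
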