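import Groth.Statements.S4092
import Groth.Agent.H19Grp.FlatMonoFactor

set_option autoImplicit false
universe u
open CategoryTheory MonoidalCategory CartesianMonoidalCategory MonObj GrpObj AlgebraicGeometry CategoryTheory.Limits
open GrpQ

namespace Groth.Agent.S4092

/-- Let f : X → Y be a morphism of schemes which is locally of finite presentation. Then f factors as f
= f'' ∘ f' with f' : X → X' surjective, flat and locally of finite presentation and f'' : X' → Y a
monomorphism if and only if the first projection X ×_Y X → X is flat. Moreover two such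
factorisations are isomorphic: there is an isomorphism of the middle schemes compatible with both
maps. -/
theorem result {X Y : Scheme.{u}} (f : X ⟶ Y) [LocallyOfFinitePresentation f] :
    ((∃ (X' : Scheme.{u}) (f' : X ⟶ X') (f'' : X' ⟶ Y),
        Surjective f' ∧ Flat f' ∧ LocallyOfFinitePresentation f' ∧ Mono f'' ∧ f' ≫ f'' = f) ↔
      Flat (pullback.fst f f)) ∧
    (∀ (X₁ X₂ : Scheme.{u}) (g₁ : X ⟶ X₁) (h₁ : X₁ ⟶ Y) (g₂ : X ⟶ X₂) (h₂ : X₂ ⟶ Y),
      Surjective g₁ → Flat g₁ → LocallyOfFinitePresentation g₁ → Mono h₁ → g₁ ≫ h₁ = f →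
      Surjective g₂ → Flat g₂ → LocallyOfFinitePresentation g₂ → Mono h₂ → g₂ ≫ h₂ = f →
      ∃ φ : X₁ ≅ X₂, g₁ ≫ φ.hom = g₂ ∧ φ.hom ≫ h₂ = h₁) := by
  refine ⟨⟨?_, fun h => Groth.Agent.H19Grp.FlatMonoFactor.exists_factor f h⟩, ?_⟩
  · rintro ⟨X', f', f'', _, _, _, _, rfl⟩
    have hsq : IsPullback (pullback.fst f' f') (pullback.snd f' f') (f' ≫ f'') (f' ≫ f'') :=
      IsPullback.of_isLimit (PullbackCone.isLimitOfCompMono f' f' f'' (PullbackCone.mk _ _ pullback.condition)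
        (pullbackIsPullback f' f'))
    have e : pullback.fst (f' ≫ f'') (f' ≫ f'') = hsq.isoPullback.inv ≫ pullback.fst f' f' :=
      (IsPullback.isoPullback_inv_fst hsq).symm
    rw [e]
    infer_instance
  · intro X₁ X₂ g₁ h₁ g₂ h₂ _ _ _ _ e₁ _ _ _ _ e₂
    obtain ⟨φ, hφ, hφh⟩ := Groth.Agent.H19Grp.FlatMonoFactor.exists_desc g₁ h₁ g₂ h₂ (e₁.trans e₂.symm)
    obtain ⟨ψ, -, hψh⟩ := Groth.Agent.H19Grp.FlatMonoFactor.exists_desc g₂ h₂ g₁ h₁ (e₂.trans e₁.symm)
    exact ⟨⟨φ, ψ, by rw [← cancel_mono h₁, Category.assoc, hψh, hφh, Category.id_comp],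
      by rw [← cancel_mono h₂, Category.assoc, hφh, hψh, Category.id_comp]⟩, hφ, hφh⟩

end Groth.Agent.S4092
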