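import Groth.Statements.S4093
import Groth.Agent.H19Grp.FlatMonoFactor
import Groth.Agent.H7Lim.DescendUnramified
import Groth.Agent.H19Grp.OrbitSmooth

set_option autoImplicit false
set_option maxHeartbeats 1000000
set_option synthInstance.maxHeartbeats 100000
set_option linter.style.haveILetI false
set_option backward.isDefEq.respectTransparency false
universe u
open CategoryTheory MonoidalCategory CartesianMonoidalCategory MonObj GrpObj AlgebraicGeometry CategoryTheory.Limits
open GrpQ

namespace Groth.Agent.S4093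

theorem isPullback_orbit {S : Scheme.{u}} {G X : Over S} [GrpObj G] (a : AlgGrp.Action G X)
    (ξ : 𝟙_ (Over S) ⟶ X) :
    IsPullback ((G ◁ pullback.fst (a.orbitMap ξ) ξ) ≫ μ[G]) (fst G (pullback (a.orbitMap ξ) ξ))
      (a.orbitMap ξ) (a.orbitMap ξ) := by
  let o := a.orbitMap ξ
  let H := pullback o ξ
  let k : H ⟶ G := pullback.fst o ξ
  have ho : ∀ {T : Over S} (g : T ⟶ G), g ≫ o = lift g (toUnit T ≫ ξ) ≫ a.act := fun {T} g => by
    show g ≫ lift (𝟙 G) (toUnit G ≫ ξ) ≫ a.act = _
    rw [← Category.assoc, comp_lift, Category.comp_id, ← Category.assoc g (toUnit G),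
      toUnit_unique (g ≫ toUnit G) (toUnit T)]
  have hμ : (G ◁ k) ≫ μ[G] = fst G H * (snd G H ≫ k) := by rw [Hom.mul_def]; congr 1
  have hk : ∀ {T : Over S} (h : T ⟶ H), (h ≫ k) ≫ o = toUnit T ≫ ξ := fun {T} h => by
    rw [Category.assoc, show k ≫ o = pullback.snd o ξ ≫ ξ from pullback.condition, ← Category.assoc,
      toUnit_unique (h ≫ pullback.snd o ξ) (toUnit T)]
  refine ⟨⟨?_⟩, ⟨PullbackCone.IsLimit.mk _ (fun z => lift z.snd (pullback.lift (z.snd⁻¹ * z.fst) (toUnit _) ?_))
    (fun z => ?_) (fun z => lift_fst _ _) (fun z m h1 h2 => ?_)⟩⟩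
  · show ((G ◁ k) ≫ μ[G]) ≫ o = fst G H ≫ o
    rw [hμ, ho, ho, Groth.Agent.H19Grp.act_mul]
    exact congrArg (fun m => lift (fst G H) m ≫ a.act) ((ho _).symm.trans (hk (snd G H)))
  · have hz : z.fst ≫ o = z.snd ≫ o := z.condition
    rw [ho] at hz ⊢
    rw [ho] at hz
    rw [Groth.Agent.H19Grp.act_mul, hz, ← Groth.Agent.H19Grp.act_mul, inv_mul_cancel,
      Groth.Agent.H19Grp.act_one]
  · show _ ≫ (G ◁ k) ≫ μ[G] = _
    rw [hμ, MonObj.comp_mul, lift_fst, lift_snd_assoc, pullback.lift_fst, mul_inv_cancel_left]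
  · ext : 1
    · rw [h2, lift_fst]
    · rw [lift_snd]
      apply pullback.hom_ext
      · rw [pullback.lift_fst]
        change m ≫ (G ◁ k) ≫ μ[G] = z.fst at h1
        rw [hμ, MonObj.comp_mul, h2] at h1
        rw [← h1, inv_mul_cancel_left, Category.assoc]
      · exact toUnit_unique _ _


/-- Case a: ): let S be a scheme, G an S-group scheme locally of finite presentation over S acting on an
S-scheme X which is locally of finite type over S, and ξ an S-point of X whose stabilizer H (the
fibre of the orbit map g ↦ g·ξ over ξ) is flat over S. Then there are an S-scheme Q, locally of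
finite presentation over S, and a factorisation of the orbit map as p : G → Q followed by i : Q → X,
where p is surjective, flat and locally of finite presentation and i is a monomorphism; moreover the
square formed by (g, h) ↦ g·h, the first projection G ×_S H → G and p is cartesian (Q is the
quotient G/H). -/
theorem result (S : Scheme.{u}) (G X : Over S) [GrpObj G]
    [LocallyOfFinitePresentation G.hom] [LocallyOfFiniteType X.hom] (a : AlgGrp.Action G X)
    (ξ : 𝟙_ (Over S) ⟶ X) (hH : Flat (pullback (a.orbitMap ξ) ξ).hom) :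
    ∃ (Q : Over S) (p : G ⟶ Q) (i : Q ⟶ X), p ≫ i = a.orbitMap ξ ∧
      Surjective p.left ∧ Flat p.left ∧ LocallyOfFinitePresentation p.left ∧ Mono i ∧
      LocallyOfFinitePresentation Q.hom ∧
      IsPullback ((G ◁ pullback.fst (a.orbitMap ξ) ξ) ≫ μ[G]) (fst G (pullback (a.orbitMap ξ) ξ)) p p := by
  have sq := isPullback_orbit a ξ
  haveI : Flat (fst G (pullback (a.orbitMap ξ) ξ)).left := MorphismProperty.pullback_fst _ _ hH
  have hflat : Flat (pullback.fst (a.orbitMap ξ).left (a.orbitMap ξ).left) := by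
    have hsq : IsPullback (fst G (pullback (a.orbitMap ξ) ξ)).left _ (a.orbitMap ξ).left (a.orbitMap ξ).left :=
      sq.flip.map (Over.forget S)
    rw [← IsPullback.isoPullback_inv_fst hsq]
    infer_instance
  haveI : LocallyOfFinitePresentation (a.orbitMap ξ).left := by
    haveI : LocallyOfFinitePresentation ((a.orbitMap ξ).left ≫ X.hom) := by rw [Over.w]; infer_instance
    exact Groth.Agent.H7Lim.locallyOfFinitePresentation_of_comp (a.orbitMap ξ).left X.hom
  obtain ⟨Q₀, p₀, i₀, hp1, hp2, hp3, hi, hpi⟩ :=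
    Groth.Agent.H19Grp.FlatMonoFactor.exists_factor (a.orbitMap ξ).left hflat
  let Q : Over S := Over.mk (i₀ ≫ X.hom)
  let p : G ⟶ Q := Over.homMk p₀ (by
    show p₀ ≫ i₀ ≫ X.hom = G.hom
    rw [reassoc_of% hpi, Over.w (a.orbitMap ξ)])
  let i : Q ⟶ X := Over.homMk i₀ rfl
  haveI : Mono i.left := hi
  haveI : Mono i := (Over.forget S).mono_of_mono_map (inferInstanceAs (Mono i.left))
  haveI : Surjective p.left := hp1
  haveI : Flat p.left := hp2
  haveI : LocallyOfFinitePresentation p.left := hp3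
  have hpi' : p ≫ i = a.orbitMap ξ := Over.OverMorphism.ext hpi
  haveI : LocallyOfFinitePresentation (p.left ≫ Q.hom) := by rw [Over.w]; infer_instance
  refine ⟨Q, p, i, hpi', hp1, hp2, hp3, ‹_›, Groth.Agent.H13Flat.lfp_of_flat_surjective p.left Q.hom, ?_⟩
  refine ⟨⟨?_⟩, ⟨PullbackCone.IsLimit.mk _ (fun z => sq.lift z.fst z.snd ?_) (fun z => sq.lift_fst _ _ _)
    (fun z => sq.lift_snd _ _ _) (fun z k h1 h2 => sq.hom_ext ?_ ?_)⟩⟩
  · rw [← cancel_mono i, Category.assoc, hpi', sq.w, Category.assoc, hpi']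
  · rw [← hpi', reassoc_of% z.condition]
  · rw [h1, sq.lift_fst]
  · rw [h2, sq.lift_snd]

end Groth.Agent.S4093
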