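import Groth.Statements.S4094
import Groth.Agent.H19Grp.FlatMonoFactor
import Groth.Agent.H19Grp.NeutralOpen
import Groth.Agent.H7Lim.DescendUnramified

set_option autoImplicit false
set_option maxHeartbeats 1000000
set_option synthInstance.maxHeartbeats 100000
set_option linter.style.haveILetI false
set_option backward.isDefEq.respectTransparency false
universe u
open CategoryTheory MonoidalCategory CartesianMonoidalCategory MonObj GrpObj AlgebraicGeometry CategoryTheory.Limits
open GrpQ

namespace Groth.Agent.S4094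

theorem exists_desc_over {S : Scheme.{u}} {A B C D : Over S} (g₁ : A ⟶ B) (g₂ : A ⟶ C) (h₂ : C ⟶ D) (h₁ : B ⟶ D)
    [Surjective g₁.left] [Flat g₁.left] [LocallyOfFinitePresentation g₁.left] [Mono h₂.left]
    (e : g₁ ≫ h₁ = g₂ ≫ h₂) : ∃ φ : B ⟶ C, g₁ ≫ φ = g₂ ∧ φ ≫ h₂ = h₁ := by
  obtain ⟨φ, h1, h2⟩ := Groth.Agent.H19Grp.FlatMonoFactor.exists_desc g₁.left h₁.left g₂.left h₂.left
    (congrArg (·.left) e)
  refine ⟨Over.homMk φ (by rw [← Over.w h₂, reassoc_of% h2, Over.w h₁]), ?_, ?_⟩
  · exact Over.OverMorphism.ext h1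
  · exact Over.OverMorphism.ext h2


/-- Let u : G → H be a homomorphism of S-group schemes with G locally of finite presentation and H
locally of finite type over S, whose kernel K is flat over S. Then there are an S-group scheme Q,
locally of finite presentation over S, and homomorphisms p : G → Q, i : Q → H with p ≫ i = u, p
surjective, flat and locally of finite presentation with kernel K, and i a monomorphism. -/
theorem result (S : Scheme.{u}) (G H : Over S) [GrpObj G] [GrpObj H]
    [LocallyOfFinitePresentation G.hom] [LocallyOfFiniteType H.hom] (u : G ⟶ H) [IsMonHom u]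
    (hK : Flat (pullback u η[H]).hom) :
    ∃ (Q : Over S) (_ : GrpObj Q) (p : G ⟶ Q) (i : Q ⟶ H), IsMonHom p ∧ IsMonHom i ∧ p ≫ i = u ∧
      Surjective p.left ∧ Flat p.left ∧ LocallyOfFinitePresentation p.left ∧ Mono i ∧
      LocallyOfFinitePresentation Q.hom ∧ AlgGrp.IsKernel (pullback.fst u η[H]) p := by
  have hflat : Flat (pullback.fst u.left u.left) := by
    let K := pullback u η[H]
    let k : K ⟶ G := pullback.fst u η[H]
    have hk : k ≫ u = 1 := by
      rw [pullback.condition, Hom.one_def, toUnit_unique (pullback.snd u η[H]) (toUnit _)]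
    let P := pullback u u
    let d : P ⟶ G := (pullback.fst u u)⁻¹ * pullback.snd u u
    have hd : d ≫ u = 1 := by
      simp only [d, MonObj.mul_comp, GrpObj.inv_comp, pullback.condition, inv_mul_cancel]
    let c : P ⟶ K := pullback.lift d (toUnit P) (by rw [hd, Hom.one_def])
    let e : P ≅ G ⊗ K :=
      { hom := lift (pullback.fst u u) c
        inv := pullback.lift (fst G K) (fst G K * (snd G K ≫ k)) (by
          rw [MonObj.mul_comp, Category.assoc, hk, MonObj.comp_one, _root_.mul_one])
        hom_inv_id := by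
          apply pullback.hom_ext
          · simp
          · simp [c, k, d, MonObj.comp_mul]
        inv_hom_id := by
          ext : 1
          · simp
          · simp only [Category.assoc, lift_snd, Category.id_comp]
            apply pullback.hom_ext
            · simp [c, k, d, MonObj.comp_mul, GrpObj.comp_inv]
            · exact toUnit_unique _ _ }
    haveI : Flat (fst G K).left := MorphismProperty.pullback_fst _ _ hK
    have hsq : IsPullback (pullback.fst u u).left (pullback.snd u u).left u.left u.left :=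
      (IsPullback.of_hasPullback u u).map (Over.forget S)
    have e1 : e.hom ≫ fst G K = pullback.fst u u := lift_fst _ _
    have e2 : pullback.fst u.left u.left = hsq.isoPullback.inv ≫ e.hom.left ≫ (fst G K).left := by
      rw [← Over.comp_left, e1, IsPullback.isoPullback_inv_fst]
    haveI : IsIso e.hom.left := ((Over.forget S).mapIso e).isIso_hom
    rw [e2]
    infer_instance
  haveI : LocallyOfFinitePresentation u.left := by
    haveI : LocallyOfFinitePresentation (u.left ≫ H.hom) := by rw [Over.w]; infer_instance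
    exact Groth.Agent.H7Lim.locallyOfFinitePresentation_of_comp u.left H.hom
  obtain ⟨Q₀, p₀, i₀, hp1, hp2, hp3, hi, hpi⟩ := Groth.Agent.H19Grp.FlatMonoFactor.exists_factor u.left hflat
  let Q : Over S := Over.mk (i₀ ≫ H.hom)
  let p : G ⟶ Q := Over.homMk p₀ (by
    show p₀ ≫ i₀ ≫ H.hom = G.hom
    rw [reassoc_of% hpi, Over.w u])
  let i : Q ⟶ H := Over.homMk i₀ rfl
  haveI : Mono i.left := hi
  haveI : Mono i := (Over.forget S).mono_of_mono_map (inferInstanceAs (Mono i.left))
  haveI : Surjective p.left := hp1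
  haveI : Flat p.left := hp2
  haveI : LocallyOfFinitePresentation p.left := hp3
  have hpi' : p ≫ i = u := Over.OverMorphism.ext hpi
  haveI : Surjective (p ⊗ₘ p).left := by
    rw [Over.tensorHom_left]
    exact MorphismProperty.pullbackMap (P := @Surjective) ‹_› ‹_› (Over.w p).symm (Over.w p).symm
  haveI : Flat (p ⊗ₘ p).left := by
    rw [Over.tensorHom_left]
    exact MorphismProperty.pullbackMap (P := @Flat) ‹_› ‹_› (Over.w p).symm (Over.w p).symm
  haveI : LocallyOfFinitePresentation (p ⊗ₘ p).left := by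
    rw [Over.tensorHom_left]
    exact MorphismProperty.pullbackMap (P := @LocallyOfFinitePresentation) ‹_› ‹_› (Over.w p).symm (Over.w p).symm
  obtain ⟨m₀, hm₁, hm₀⟩ := exists_desc_over (p ⊗ₘ p) (μ[G] ≫ p) i ((i ⊗ₘ i) ≫ μ[H]) (by
    rw [tensorHom_comp_tensorHom_assoc, hpi', Category.assoc, hpi', IsMonHom.mul_hom u])
  obtain ⟨j₀, -, hj₀⟩ := exists_desc_over p (ι[G] ≫ p) i (i ≫ ι[H]) (by
    rw [← Category.assoc, hpi', Category.assoc, hpi', GrpObj.inv_hom u])
  obtain ⟨hQ, hiQ⟩ := Groth.Agent.H19Grp.exists_grpObj_of_mono H i (η[G] ≫ p)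
    (by rw [Category.assoc, hpi', IsMonHom.one_hom u]) m₀ hm₀ j₀ hj₀
  letI := hQ
  haveI := hiQ
  haveI : IsMonHom p := by
    refine ⟨?_, ?_⟩
    · rw [← cancel_mono i, Category.assoc, hpi', IsMonHom.one_hom u, IsMonHom.one_hom i]
    · rw [← cancel_mono i, Category.assoc, hpi', IsMonHom.mul_hom u, Category.assoc, IsMonHom.mul_hom i,
        tensorHom_comp_tensorHom_assoc, hpi']
  haveI : LocallyOfFinitePresentation (p.left ≫ Q.hom) := by rw [Over.w]; infer_instance
  refine ⟨Q, hQ, p, i, ‹_›, hiQ, hpi', ‹_›, ‹_›, ‹_›, ‹_›,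
    Groth.Agent.H13Flat.lfp_of_flat_surjective p.left Q.hom, ?_⟩
  have sq := IsPullback.of_hasPullback u η[H]
  refine ⟨⟨?_⟩, ⟨PullbackCone.IsLimit.mk _ (fun z => sq.lift z.fst (toUnit _) ?_) (fun z => sq.lift_fst _ _ _)
    (fun z => toUnit_unique _ _) (fun z k h1 h2 => sq.hom_ext ?_ (toUnit_unique _ _))⟩⟩
  · rw [← cancel_mono i, Category.assoc, hpi', Category.assoc, IsMonHom.one_hom i, sq.w,
      toUnit_unique (pullback.snd u η[H]) (toUnit _)]
  · rw [← hpi', ← Category.assoc, z.condition, Category.assoc, IsMonHom.one_hom i,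
      toUnit_unique z.snd (toUnit _)]
  · rw [h1, sq.lift_fst]

end Groth.Agent.S4094
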