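import Groth.Statements.S4096
import Groth.Agent.S4092
import Groth.Agent.H19Grp.FlatMonoFactor
import Groth.Agent.H7Lim.DescendUnramified
import Groth.Agent.H19Grp.OrbitSmooth
import Groth.Agent.H19Grp.Basic
import Groth.Agent.H12AlgSp.LocPCancel
import Groth.Agent.H7Flat.ThickeningHom
import Groth.Agent.H13AlgSp.LocPDescent

set_option autoImplicit false
set_option maxHeartbeats 1000000
set_option synthInstance.maxHeartbeats 100000
set_option linter.style.haveILetI false
set_option backward.isDefEq.respectTransparency false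
universe u
open CategoryTheory MonoidalCategory CartesianMonoidalCategory MonObj GrpObj AlgebraicGeometry CategoryTheory.Limits
open GrpQ

namespace Groth.Agent.S4096

theorem flat_iff_flat_stabilizer {S : Scheme.{u}} {G X : Over S} [GrpObj G] (a : AlgGrp.Action G X) :
    Flat (pullback.fst (lift a.act (snd G X)).left (lift a.act (snd G X)).left) ↔
      Flat (pullback.snd (lift a.act (snd G X)) (lift (𝟙 X) (𝟙 X))).left := by
  let d : G ⊗ X ⟶ X ⊗ X := lift a.act (snd G X)
  let Δ : X ⟶ X ⊗ X := lift (𝟙 X) (𝟙 X)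
  let F := pullback d Δ
  let φ : F ⟶ X := pullback.snd d Δ
  let k : F ⟶ G ⊗ X := pullback.fst d Δ
  have hk1 : k ≫ a.act = φ := by simpa [d, Δ] using congrArg (· ≫ fst X X) (pullback.condition (f := d) (g := Δ))
  have hk2 : k ≫ snd G X = φ := by simpa [d, Δ] using congrArg (· ≫ snd X X) (pullback.condition (f := d) (g := Δ))
  let W := pullback (snd G X) φ
  let q₁ : W ⟶ G ⊗ X := pullback.fst (snd G X) φ
  let r : W ⟶ F := pullback.snd (snd G X) φ
  let q₂ : W ⟶ G ⊗ X := lift ((q₁ ≫ fst G X) * (r ≫ k ≫ fst G X)) (q₁ ≫ snd G X)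
  have hr : ∀ {T : Over S} (f : T ⟶ F), lift (f ≫ k ≫ fst G X) (f ≫ φ) ≫ a.act = f ≫ φ := fun {T} f => by
    have : lift (f ≫ k ≫ fst G X) (f ≫ φ) = f ≫ k := by
      ext : 1
      · simp
      · simp [hk2]
    rw [this, Category.assoc, hk1]
  have hd : ∀ {T : Over S} (z : T ⟶ G ⊗ X), z ≫ d = lift (lift (z ≫ fst G X) (z ≫ snd G X) ≫ a.act) (z ≫ snd G X) :=
    fun {T} z => by
      rw [← comp_lift z (fst G X) (snd G X), lift_fst_snd, Category.comp_id, comp_lift]
  have hq : q₁ ≫ snd G X = r ≫ φ := pullback.condition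
  have sq : IsPullback q₁ q₂ d d := by
    refine ⟨⟨?_⟩, ⟨PullbackCone.IsLimit.mk _ (fun z => pullback.lift z.fst (pullback.lift
      (lift ((z.fst ≫ fst G X)⁻¹ * (z.snd ≫ fst G X)) (z.fst ≫ snd G X)) (z.fst ≫ snd G X) ?_) ?_)
      (fun z => pullback.lift_fst _ _ _) (fun z => ?_) (fun z m h1 h2 => ?_)⟩⟩
    · rw [hd, hd]
      simp only [q₂, lift_fst, lift_snd, Groth.Agent.H19Grp.act_mul]
      rw [hq, hr]
    · have e := z.condition
      rw [hd, hd] at e
      have e1 := congrArg (· ≫ fst X X) e
      have e2 := congrArg (· ≫ snd X X) e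
      simp only [lift_fst, lift_snd] at e1 e2
      rw [hd, lift_fst, lift_snd, Groth.Agent.H19Grp.act_mul, e2, ← e1, e2, ← Groth.Agent.H19Grp.act_mul,
        inv_mul_cancel, Groth.Agent.H19Grp.act_one, comp_lift, Category.comp_id]
    · rw [pullback.lift_snd]
    · have e := congrArg (· ≫ snd X X) z.condition
      simp only [d, Category.assoc, lift_snd] at e
      ext : 1
      · simp [q₂, q₁, r, k, MonObj.comp_mul]
      · simp [q₂, q₁, e]
    · apply pullback.hom_ext
      · rw [h1, pullback.lift_fst]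
      · rw [pullback.lift_snd]
        apply pullback.hom_ext
        · rw [pullback.lift_fst]
          ext : 1
          · rw [lift_fst, ← h2, ← h1]
            simp [q₂, q₁, r, k, MonObj.comp_mul]
          · rw [lift_snd, Category.assoc, Category.assoc, hk2, ← hq, ← Category.assoc m, h1]
        · rw [pullback.lift_snd, Category.assoc]
          show m ≫ r ≫ φ = _
          rw [← hq, ← Category.assoc m, h1]
  have sqL : IsPullback q₁.left q₂.left d.left d.left := sq.map (Over.forget S)
  have e : pullback.fst d.left d.left = sqL.isoPullback.inv ≫ q₁.left := (IsPullback.isoPullback_inv_fst sqL).symm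
  have sqW : IsPullback r.left q₁.left φ.left (snd G X).left :=
    (IsPullback.of_hasPullback (snd G X) φ).flip.map (Over.forget S)
  constructor
  · intro hfl
    haveI : Flat q₁.left := by
      rw [show q₁.left = sqL.isoPullback.hom ≫ pullback.fst d.left d.left by rw [e, Iso.hom_inv_id_assoc]]
      have : Flat (pullback.fst d.left d.left) := hfl
      infer_instance
    let s : X ⟶ G ⊗ X := lift (toUnit X ≫ η[G]) (𝟙 X)
    have hs : s ≫ snd G X = 𝟙 X := lift_snd _ _
    let t : F ⟶ W := pullback.lift (φ ≫ s) (𝟙 F) (by rw [Category.assoc, hs, Category.comp_id, Category.id_comp])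
    have outer : IsPullback (𝟙 F.left) φ.left φ.left (𝟙 X.left) := IsPullback.of_horiz_isIso ⟨by simp⟩
    have : IsPullback t.left φ.left q₁.left s.left := by
      refine IsPullback.of_right (h₁₂ := r.left) (h₂₂ := (snd G X).left) (v₁₃ := φ.left) ?_ ?_ sqW
      · rw [← Over.comp_left, ← Over.comp_left, hs, pullback.lift_snd]
        exact outer
      · rw [← Over.comp_left, ← Over.comp_left, pullback.lift_fst]
    exact MorphismProperty.of_isPullback this ‹Flat q₁.left›
  · intro hfl
    haveI : Flat q₁.left := MorphismProperty.of_isPullback sqW hfl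
    show Flat (pullback.fst d.left d.left)
    rw [e]
    infer_instance


/-- Let S be noetherian, G an S-group scheme flat and of finite type acting on an S-scheme X of finite
type, d = (d₀, d₁) : G ×_S X → X ×_S X, and F the stabilizer of the diagonal. Then a) d factors as ψ
: G ×_S X → Y surjective, flat and locally of finite presentation followed by a monomorphism τ : Y →
X ×_S X (Y represents the sheaf image of d) if and only if F is flat over X; b) in that case the two
morphisms Y → X induced by the projections are surjective, flat and of finite presentation. -/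
theorem result (S : Scheme.{u}) [IsNoetherian S] (G X : Over S) [GrpObj G]
    [Flat G.hom] [LocallyOfFiniteType G.hom] [QuasiCompact G.hom] [LocallyOfFiniteType X.hom] [QuasiCompact X.hom]
    (a : AlgGrp.Action G X) :
    ((∃ (Y : Over S) (ψ : G ⊗ X ⟶ Y) (τ : Y ⟶ X ⊗ X), ψ ≫ τ = lift a.act (snd G X) ∧
        Surjective ψ.left ∧ Flat ψ.left ∧ LocallyOfFinitePresentation ψ.left ∧ Mono τ) ↔
      Flat (pullback.snd (lift a.act (snd G X)) (lift (𝟙 X) (𝟙 X))).left) ∧
    (∀ (Y : Over S) (ψ : G ⊗ X ⟶ Y) (τ : Y ⟶ X ⊗ X), ψ ≫ τ = lift a.act (snd G X) →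
      Surjective ψ.left → Flat ψ.left → LocallyOfFinitePresentation ψ.left → Mono τ →
      (Surjective (τ ≫ fst X X).left ∧ Flat (τ ≫ fst X X).left ∧ LocallyOfFinitePresentation (τ ≫ fst X X).left ∧
        QuasiCompact (τ ≫ fst X X).left ∧ QuasiSeparated (τ ≫ fst X X).left ∧
       Surjective (τ ≫ snd X X).left ∧ Flat (τ ≫ snd X X).left ∧ LocallyOfFinitePresentation (τ ≫ snd X X).left ∧
        QuasiCompact (τ ≫ snd X X).left ∧ QuasiSeparated (τ ≫ snd X X).left)) := by
  haveI : LocallyOfFinitePresentation G.hom := Groth.Agent.H12AlgSp.lfp_of_lft_of_isLocallyNoetherian _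
  haveI : IsLocallyNoetherian X.left := LocallyOfFiniteType.isLocallyNoetherian X.hom
  haveI : QuasiSeparated X.hom := inferInstance
  haveI : LocallyOfFinitePresentation X.hom := Groth.Agent.H12AlgSp.lfp_of_lft_of_isLocallyNoetherian _
  refine ⟨⟨?_, fun hF => ?_⟩, ?_⟩
  · rintro ⟨Y, ψ, τ, hψτ, h1, h2, h3, h4⟩
    haveI : Mono τ.left := (Over.forget S).map_mono τ
    rw [← flat_iff_flat_stabilizer]
    haveI : LocallyOfFiniteType (X ⊗ X).hom := by
      show LocallyOfFiniteType (pullback.fst X.hom X.hom ≫ X.hom)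
      infer_instance
    haveI : LocallyOfFinitePresentation ((lift a.act (snd G X)).left ≫ (X ⊗ X).hom) := by
      rw [Over.w]
      show LocallyOfFinitePresentation (pullback.fst G.hom X.hom ≫ G.hom)
      infer_instance
    haveI : LocallyOfFinitePresentation (lift a.act (snd G X)).left :=
      Groth.Agent.H7Lim.locallyOfFinitePresentation_of_comp _ (X ⊗ X).hom
    exact (S4092.result (lift a.act (snd G X)).left).1.1 ⟨Y.left, ψ.left, τ.left, h1, h2, h3, ‹_›,
      congrArg (·.left) hψτ⟩
  · rw [← flat_iff_flat_stabilizer] at hF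
    haveI : LocallyOfFiniteType (X ⊗ X).hom := by
      show LocallyOfFiniteType (pullback.fst X.hom X.hom ≫ X.hom)
      infer_instance
    haveI : LocallyOfFinitePresentation ((lift a.act (snd G X)).left ≫ (X ⊗ X).hom) := by
      rw [Over.w]
      show LocallyOfFinitePresentation (pullback.fst G.hom X.hom ≫ G.hom)
      infer_instance
    haveI : LocallyOfFinitePresentation (lift a.act (snd G X)).left :=
      Groth.Agent.H7Lim.locallyOfFinitePresentation_of_comp _ (X ⊗ X).hom
    obtain ⟨Y₀, p₀, i₀, hp1, hp2, hp3, hi, hpi⟩ :=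
      Groth.Agent.H19Grp.FlatMonoFactor.exists_factor (lift a.act (snd G X)).left hF
    let Y : Over S := Over.mk (i₀ ≫ (X ⊗ X).hom)
    let p : G ⊗ X ⟶ Y := Over.homMk p₀ (by
      show p₀ ≫ i₀ ≫ (X ⊗ X).hom = (G ⊗ X).hom
      rw [reassoc_of% hpi, Over.w (lift a.act (snd G X))])
    let i : Y ⟶ X ⊗ X := Over.homMk i₀ rfl
    haveI : Mono i := (Over.forget S).mono_of_mono_map hi
    exact ⟨Y, p, i, Over.OverMorphism.ext hpi, hp1, hp2, hp3, ‹_›⟩
  · intro Y ψ τ hψτ hs hf hl hm
    haveI := hs; haveI := hf; haveI := hl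
    haveI : Mono τ.left := (Over.forget S).map_mono τ
    haveI : Surjective G.hom := ⟨fun s => ⟨η[G].left s, by
      rw [← Scheme.Hom.comp_apply, Over.w η[G]]; rfl⟩⟩
    haveI : Surjective a.act.left := Groth.Agent.H19Grp.act_left_of a @Surjective ‹_›
    haveI : Flat a.act.left := Groth.Agent.H19Grp.act_left_of a @Flat ‹_›
    haveI : LocallyOfFinitePresentation a.act.left := Groth.Agent.H19Grp.act_left_of a @LocallyOfFinitePresentation ‹_›
    haveI : QuasiCompact a.act.left := Groth.Agent.H19Grp.act_left_of a @QuasiCompact ‹_›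
    haveI : Surjective (snd G X).left := MorphismProperty.pullback_snd G.hom X.hom ‹_›
    haveI : Flat (snd G X).left := MorphismProperty.pullback_snd G.hom X.hom ‹_›
    haveI : LocallyOfFinitePresentation (snd G X).left := MorphismProperty.pullback_snd G.hom X.hom ‹_›
    haveI : QuasiCompact (snd G X).left := MorphismProperty.pullback_snd G.hom X.hom ‹_›
    haveI : QuasiSeparated (fst X X).left := MorphismProperty.pullback_fst X.hom X.hom ‹_›
    haveI : QuasiSeparated (snd X X).left := MorphismProperty.pullback_snd X.hom X.hom ‹_›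
    haveI : QuasiSeparated τ.left := inferInstance
    have key : ∀ (v : Y.left ⟶ X.left) (m : (G ⊗ X).left ⟶ X.left), ψ.left ≫ v = m → Surjective m → Flat m →
        LocallyOfFinitePresentation m → QuasiCompact m →
        Surjective v ∧ Flat v ∧ LocallyOfFinitePresentation v ∧ QuasiCompact v := by
      rintro v m rfl h1 h2 h3 h4
      refine ⟨⟨fun z => ?_⟩, ?_, Groth.Agent.H13Flat.lfp_of_flat_surjective ψ.left v,
        Groth.Agent.H7Flat.quasiCompact_of_comp_surjective ψ.left v⟩
      · obtain ⟨w, rfl⟩ := h1.surj z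
        exact ⟨ψ.left w, rfl⟩
      · have : Flat (𝟙 (G ⊗ X).left ≫ ψ.left) := by rw [Category.id_comp]; infer_instance
        have : Surjective (𝟙 (G ⊗ X).left ≫ ψ.left) := by rw [Category.id_comp]; infer_instance
        exact Groth.Agent.H13Desc.flat_of_refinement ψ.left v (𝟙 _)
    obtain ⟨a1, a2, a3, a4⟩ := key (τ ≫ fst X X).left a.act.left
      (by rw [← Over.comp_left, reassoc_of% hψτ, lift_fst]) ‹_› ‹_› ‹_› ‹_›
    obtain ⟨b1, b2, b3, b4⟩ := key (τ ≫ snd X X).left (snd G X).left
      (by rw [← Over.comp_left, reassoc_of% hψτ, lift_snd]) ‹_› ‹_› ‹_› ‹_›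
    exact ⟨a1, a2, a3, a4, inferInstanceAs (QuasiSeparated (τ.left ≫ (fst X X).left)),
      b1, b2, b3, b4, inferInstanceAs (QuasiSeparated (τ.left ≫ (snd X X).left))⟩

end Groth.Agent.S4096
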