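import Groth.Statements.S4098
import Groth.Agent.H19Grp.NeutralOpen

set_option autoImplicit false
set_option linter.style.haveILetI false
set_option backward.isDefEq.respectTransparency false
universe u
open CategoryTheory MonoidalCategory CartesianMonoidalCategory MonObj GrpObj AlgebraicGeometry CategoryTheory.Limits
open SGA3

namespace Groth.Agent.S4098

open Groth.Agent.H19Grp


/-- Let G be an S-group scheme which is smooth over S at every point of the unit section (some open of G
containing the unit section is smooth over S). Then the union G⁰ of the connected components of the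
unit in the fibres G_s is open in G, and there is an open subgroup scheme of G, smooth and
quasi-compact over S, with underlying set G⁰. -/
theorem result (S : Scheme.{u}) (G : Over S) [GrpObj G]
    (hsm : ∃ U : G.left.Opens, Smooth (U.ι ≫ G.hom) ∧ ∀ p : ↥(𝟙_ (Over S)).left, η[G].left.base p ∈ U) :
    IsOpen (SGA3x.neutralSet G) ∧
    ∃ (G0 : Over S) (_ : GrpObj G0) (i : G0 ⟶ G), IsMonHom i ∧ IsOpenImmersion i.left ∧
      Set.range i.left.base = SGA3x.neutralSet G ∧ Smooth G0.hom ∧ QuasiCompact G0.hom := by
  obtain ⟨U, hU, hη⟩ := hsm
  have hN := isOpen_neutralSet_of_smooth G U hη hU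
  obtain ⟨inst, hm⟩ := exists_grpObj_neutralOpen G hN
  exact ⟨hN, neutralOpen G hN, inst, neutralOpenι G hN, hm, inferInstance, range_neutralOpenι G hN,
    smooth_neutralOpen G hN U hη hU, quasiCompact_neutralOpen G hN U hη (Or.inr hU)⟩

end Groth.Agent.S4098
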