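import Groth.Statements.S4102
import Groth.Agent.H06GenSub.ClassClosed

set_option autoImplicit false
universe u
open CategoryTheory MonoidalCategory CartesianMonoidalCategory MonObj GrpObj AlgebraicGeometry CategoryTheory.Limits
open SGA3

namespace Groth.Agent.S4102

/-- Let G be an S-group scheme which is smooth, quasi-compact and separated over S. Then the set of
points s of S such that the geometric fibre of G at s is a solvable group is closed in S. (Part (i):
without flatness and separation the set is only locally constructible.) -/
theorem result (S : Scheme.{u}) (G : Over S) [GrpObj G]
    [Smooth G.hom] [QuasiCompact G.hom] [IsSeparated G.hom] :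
    IsClosed {s : S | Red.IsSolvableGrp (Red.geomFibre s G)} := by
  exact Groth.Agent.H06GenSub.ClassLocus.isClosed_solvable

end Groth.Agent.S4102
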