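import Groth.Statements.S4104
import Groth.Agent.H20FF.SubHopf
import Mathlib

set_option autoImplicit false
set_option linter.style.haveILetI false
set_option backward.isDefEq.respectTransparency false
universe u
open CategoryTheory MonoidalCategory CartesianMonoidalCategory MonObj GrpObj AlgebraicGeometry CategoryTheory.Limits
open SGA3

namespace Groth.Agent.S4104
open scoped TensorProduct
open TensorProduct

/-- Let φ : A' → A be a bialgebra map between commutative Hopf algebras over a field k (a homomorphism
of affine k-groups Spec A → Spec A', not necessarily of finite type). If the corresponding morphism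
of schemes is a monomorphism, i.e. φ is an epimorphism in the category of commutative rings, then φ
is surjective (the homomorphism is a closed immersion). -/
theorem result (k : Type u) [Field k] (A' A : Type u) [CommRing A'] [HopfAlgebra k A']
    [CommRing A] [HopfAlgebra k A] (φ : A' →ₐc[k] A)
    (hepi : ∀ (R : Type u) [CommRing R] (f g : A →+* R), f.comp (φ : A' →+* A) = g.comp (φ : A' →+* A) → f = g) :
    Function.Surjective φ := by
  let C : Subalgebra k A := (φ : A' →ₐ[k] A).range
  haveI : Module.FaithfullyFlat C A :=
    H20FF.faithfullyFlat_subalgebra (H20FF.isHopfSub_range φ)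
  intro a
  have hφ : ((Algebra.TensorProduct.includeLeftRingHom : A →+* A ⊗[C] A).comp (φ : A' →+* A)) =
      ((Algebra.TensorProduct.includeRight : A →ₐ[C] A ⊗[C] A).toRingHom.comp (φ : A' →+* A)) := by
    refine RingHom.ext fun x => ?_
    show (φ x : A) ⊗ₜ[C] (1 : A) = (1 : A) ⊗ₜ[C] (φ x : A)
    rw [show (φ x : A) = (⟨φ x, x, rfl⟩ : C) • (1 : A) from (_root_.mul_one _).symm, TensorProduct.smul_tmul]
  have h := RingHom.congr_fun (hepi _ _ _ hφ) a
  obtain ⟨c, hc⟩ : ∃ c : C, algebraMap C A c = a := by
    have h0 : (1 : A) ⊗ₜ[C] (Submodule.mkQ (LinearMap.range (Algebra.linearMap C A)) a) = 0 := by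
      have := congrArg ((LinearMap.range (Algebra.linearMap C A)).mkQ.lTensor A) h.symm
      refine Eq.trans this ?_
      show a ⊗ₜ[C] (Submodule.mkQ _ (1 : A)) = 0
      rw [Submodule.mkQ_apply, (Submodule.Quotient.mk_eq_zero _).mpr
        (LinearMap.mem_range.mpr ⟨(1 : C), map_one (algebraMap C A)⟩ : (1 : A) ∈ LinearMap.range (Algebra.linearMap C A)),
        tmul_zero]
    have := Module.FaithfullyFlat.tensorProduct_mk_injective (A := C) (B := A) _ (h0.trans (tmul_zero _ _).symm)
    exact (Submodule.Quotient.mk_eq_zero _).mp this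
  obtain ⟨x, hx⟩ := c.2
  exact ⟨x, hx.trans hc⟩

end Groth.Agent.S4104
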