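import Groth.Statements.S4105
import Groth.Agent.H20Normal.Gen

set_option autoImplicit false
universe u
open CategoryTheory MonoidalCategory CartesianMonoidalCategory MonObj GrpObj AlgebraicGeometry CategoryTheory.Limits
open scoped TensorProduct
open SGA3

namespace Groth.Agent.S4105

/-- Let A be a commutative Hopf algebra over a field k, B a sub-Hopf-algebra of A and J a normal Hopf
ideal of A (a normal closed subgroup N of G = Spec A). Then J is the ideal generated by the
augmentation ideal of B (N is the kernel of G → Spec B) if and only if B consists exactly of the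
elements x with Δ(x) - x ⊗ 1 in the image of A ⊗ J (B is the ring of functions on G/N). This
expresses that N ↦ O(G/N) and B ↦ Spec (A/AB₊) are inverse bijections. -/
theorem result (k : Type u) [Field k] (A : Type u) [CommRing A] [HopfAlgebra k A]
    (B : Subalgebra k A) (hB : SGA3.IsHopfSubalgebra k A B) (J : Ideal A) [J.IsHopfIdeal k]
    (hJ : SGA3.IsNormalHopfIdeal k A J) :
    J = SGA3.augIdealSpan k A B ↔
      (B : Set A) = {x : A | CoalgebraStruct.comul (R := k) (A := A) x - x ⊗ₜ[k] (1 : A) ∈
        LinearMap.range (LinearMap.lTensor A (J.restrictScalars k).subtype)} := by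
  have hset : {x : A | CoalgebraStruct.comul (R := k) (A := A) x - x ⊗ₜ[k] (1 : A) ∈
      LinearMap.range (LinearMap.lTensor A (J.restrictScalars k).subtype)} = (H20Normal.coinv k J : Set A) := by
    ext x
    have hex := lTensor_exact A (f := (J.restrictScalars k).subtype) (g := (Ideal.Quotient.mkₐ k J).toLinearMap)
      (fun y => ⟨fun hy => ⟨⟨y, Ideal.Quotient.eq_zero_iff_mem.1 hy⟩, rfl⟩, by
        rintro ⟨z, rfl⟩; exact Ideal.Quotient.eq_zero_iff_mem.2 z.2⟩)
      Ideal.Quotient.mk_surjective
    refine (hex _).symm.trans ?_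
    rw [map_sub, sub_eq_zero, LinearMap.lTensor_tmul,
      show (Ideal.Quotient.mkₐ k J).toLinearMap (1 : A) = 1 from map_one (Ideal.Quotient.mkₐ k J)]
    exact H20Normal.mem_coinv.symm
  rw [hset, SetLike.coe_set_eq]
  constructor
  · intro hJB
    refine le_antisymm (fun b hb => ?_) fun c hc => ?_
    · obtain ⟨z, hz⟩ := hB.1 b hb
      rw [H20Normal.mem_coinv]
      refine Eq.trans ?_ (show ((Algebra.linearMap k (A ⧸ J)) ∘ₗ CoalgebraStruct.counit (R := k) (A := A)).lTensor A
        (CoalgebraStruct.comul (R := k) b) = b ⊗ₜ[k] (1 : A ⧸ J) by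
          rw [LinearMap.lTensor_comp, LinearMap.comp_apply, Coalgebra.lTensor_counit_comul, LinearMap.lTensor_tmul]
          simp)
      rw [← hz]
      clear hz
      induction z using TensorProduct.induction_on with
      | zero => simp
      | tmul p q =>
        simp only [TensorProduct.map_tmul, LinearMap.lTensor_tmul]
        congr 1
        refine sub_eq_zero.1 ?_
        have hq : (q : A) - algebraMap k A (CoalgebraStruct.counit (R := k) (q : A)) ∈ J := by
          rw [hJB]
          refine Ideal.subset_span ⟨sub_mem q.2 (B.algebraMap_mem _), ?_⟩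
          rw [map_sub, Bialgebra.counit_algebraMap, sub_self]
        have h0 : Ideal.Quotient.mkₐ k J ((q : A) - algebraMap k A (CoalgebraStruct.counit (R := k) (q : A))) = 0 :=
          Ideal.Quotient.eq_zero_iff_mem.2 hq
        rw [map_sub, AlgHom.commutes] at h0
        exact h0
      | add x y hx hy => simp only [map_add, hx, hy]
    · letI := H20FF.subHopf (C := B) hB
      let v : B →ₐc[k] A := H20FF.subVal (C := B) hB
      obtain ⟨b, hb⟩ := H20FF.mem_range_of_coinvariant v (Bialgebra.Quotient.mkBialgHom J) Subtype.val_injective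
        Ideal.Quotient.mk_surjective (fun a ha => by
          have ha' : a ∈ SGA3.augIdealSpan k A B := hJB ▸ Ideal.Quotient.eq_zero_iff_mem.1 ha
          refine (Ideal.span_le.2 ?_ : SGA3.augIdealSpan k A B ≤ _) ha'
          rintro x ⟨hx, hx0⟩
          exact Ideal.mem_map_of_mem (v : B →+* A)
            (show (⟨x, hx⟩ : B) ∈ RingHom.ker (Bialgebra.counitAlgHom k B) from RingHom.mem_ker.2 hx0))
        (H20Normal.mem_coinv.1 hc)
      exact hb ▸ b.2
  · rintro rfl
    exact le_antisymm (H20Normal.le_span_coinv hJ) (Ideal.span_le.2 fun a ha => H20Normal.mem_of_coinv ha.1 ha.2)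

end Groth.Agent.S4105
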