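import Groth.Statements.S4110
import Mathlib
import Groth.Agent.H20OT.Truncated

set_option autoImplicit false
set_option linter.style.haveILetI false
set_option backward.isDefEq.respectTransparency false
universe u
open CategoryTheory MonoidalCategory CartesianMonoidalCategory MonObj GrpObj AlgebraicGeometry CategoryTheory.Limits
open SGA3
open scoped TensorProduct

namespace Groth.Agent.S4110

/-- (iv) ⟹ (ii), over a local base: let R be a local ring of prime characteristic p and A a commutative
Hopf algebra over R which is of finite presentation and flat over R (an R-group G locally of finite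
presentation and flat; finiteness is then a consequence) and of height ≤ 1: every element a of the
augmentation ideal satisfies a^p = 0 (the Frobenius of G is trivial). Then A is isomorphic as an
R-algebra to R[X₁, …, Xₙ]/(X₁^p, …, Xₙ^p) for some n (n is the rank of the conormal module ω_G,
which is free). -/
theorem result (p : ℕ) [Fact p.Prime] (R : Type u) [CommRing R]
    [IsLocalRing R] [CharP R p] (A : Type u) [CommRing A] [HopfAlgebra R A] [Algebra.FinitePresentation R A] [Module.Flat R A]
    (h1 : ∀ a : A, Bialgebra.counitAlgHom R A a = 0 → a ^ p = 0) :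
    ∃ n : ℕ, Nonempty (A ≃ₐ[R] (MvPolynomial (Fin n) R ⧸
      Ideal.span (Set.range fun i : Fin n => (MvPolynomial.X i : MvPolynomial (Fin n) R) ^ p))) := by
  classical
  haveI : Algebra.IsIntegral R A := ⟨fun a => ⟨(Polynomial.X - Polynomial.C (Bialgebra.counitAlgHom R A a)) ^ p,
    (Polynomial.monic_X_sub_C _).pow p, by
      rw [← Polynomial.aeval_def, map_pow, map_sub, Polynomial.aeval_X, Polynomial.aeval_C]
      refine h1 _ ?_
      rw [map_sub, AlgHom.commutes]
      exact sub_self _⟩⟩
  haveI : Module.Finite R A := Algebra.IsIntegral.finite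
  haveI : CharP (IsLocalRing.ResidueField R) p :=
    (CharP.charP_iff_prime_eq_zero (Fact.out : p.Prime)).2 (by
      rw [← map_natCast (IsLocalRing.residue R), CharP.cast_eq_zero, map_zero])
  let κ := IsLocalRing.ResidueField R
  let B := κ ⊗[R] A
  have hsurj : Function.Surjective (TensorProduct.mk R κ A 1) :=
    TensorProduct.mk_surjective R A κ IsLocalRing.residue_surjective
  have hone : ∀ r : R, (1 : κ) ⊗ₜ[R] algebraMap R A r = algebraMap κ B (IsLocalRing.residue R r) := fun r => by
    rw [Algebra.algebraMap_eq_smul_one r, TensorProduct.tmul_smul, Algebra.algebraMap_eq_smul_one,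
      ← Algebra.TensorProduct.one_def]
    exact (IsScalarTower.algebraMap_smul κ r _).symm
  have hε : ∀ a : A, Bialgebra.counitAlgHom κ B ((1 : κ) ⊗ₜ[R] a) = IsLocalRing.residue R (Bialgebra.counitAlgHom R A a) := fun a => by
    show Coalgebra.counit (R := κ) ((1 : κ) ⊗ₜ[R] a) = _
    rw [TensorProduct.counit_tmul, CommSemiring.counit_apply, Algebra.smul_def, _root_.mul_one]
    rfl
  have hlift : ∀ z : B, Bialgebra.counitAlgHom κ B z = 0 →
      ∃ a : A, Bialgebra.counitAlgHom R A a = 0 ∧ (1 : κ) ⊗ₜ[R] a = z := fun z hz => by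
    obtain ⟨a, rfl⟩ := hsurj z
    refine ⟨a - algebraMap R A (Bialgebra.counitAlgHom R A a), by rw [map_sub, AlgHom.commutes]; exact sub_self _, ?_⟩
    rw [TensorProduct.mk_apply, hε] at hz
    rw [TensorProduct.tmul_sub, hone, hz, map_zero, sub_zero]
    rfl
  have hB : ∀ z : B, Bialgebra.counitAlgHom κ B z = 0 → z ^ p = 0 := fun z hz => by
    obtain ⟨a, ha, rfl⟩ := hlift z hz
    rw [Algebra.TensorProduct.tmul_pow, h1 a ha, TensorProduct.tmul_zero]
  haveI : IsNoetherianRing B := IsNoetherianRing.of_finite κ B
  haveI := H20OT.finite_cotangent (k := κ) (A := B)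
  let b := Module.finBasis κ (RingHom.ker (Bialgebra.counitAlgHom κ B)).Cotangent
  obtain ⟨L⟩ := H20OT.exists_cotLift b
  have hnil : RingHom.ker (Bialgebra.counitAlgHom κ B) ≤ nilradical B := fun f hf => ⟨p, hB f hf⟩
  obtain ⟨m, hm⟩ := Ideal.exists_radical_pow_le_of_fg (⊥ : Ideal B) (IsNoetherian.noetherian _)
  have hn : H20OT.augIdeal κ B ^ m = ⊥ := le_bot_iff.mp ((Ideal.pow_right_mono hnil m).trans hm)
  have hJ : Ideal.span ((fun a : B => a ^ p) '' (H20OT.augIdeal κ B : Set B)) = ⊥ :=
    Ideal.span_eq_bot.mpr (by rintro _ ⟨f, hf, rfl⟩; exact hB f hf)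
  generalize Module.finrank κ (RingHom.ker (Bialgebra.counitAlgHom κ B)).Cotangent = n at L ⊢
  choose a ha ha' using fun i => hlift (L.x i) (L.mem i)
  -- restricted monomials
  let S : Set (Fin n →₀ ℕ) := {bb | ∀ i, bb i ≤ p - 1}
  have hbij : Function.Bijective ((MvPolynomial.aeval L.x (R := κ)).toLinearMap ∘ₗ
      (MvPolynomial.restrictDegree (Fin n) κ (p - 1)).subtype) := by
    have h := L.bijective_restrict p hn
    have hq : Function.Bijective (Ideal.Quotient.mkₐ κ
        (Ideal.span ((fun a : B => a ^ p) '' (H20OT.augIdeal κ B : Set B)))).toLinearMap := by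
      refine ⟨fun x y hxy => ?_, Ideal.Quotient.mk_surjective⟩
      have := Ideal.Quotient.eq.mp hxy
      rwa [hJ, Ideal.mem_bot, sub_eq_zero] at this
    exact (hq.of_comp_iff' _).mp h
  let w : Module.Basis S κ B :=
    (MvPolynomial.basisRestrictSupport κ S).map (LinearEquiv.ofBijective _ hbij)
  let v : S → A := fun bb => MvPolynomial.aeval a (MvPolynomial.monomial bb.1 (1 : R))
  have hv : ∀ bb : S, (1 : κ) ⊗ₜ[R] v bb = w bb := fun bb => by
    have e1 : w bb = MvPolynomial.aeval L.x (MvPolynomial.monomial bb.1 (1 : κ)) := by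
      have hb : ((MvPolynomial.basisRestrictSupport κ S) bb : MvPolynomial (Fin n) κ) = MvPolynomial.monomial bb.1 1 := by
        have hm' : MvPolynomial.monomial bb.1 (1 : κ) ∈ MvPolynomial.restrictSupport κ S := by
          rw [MvPolynomial.mem_restrictSupport_iff]
          exact (Finset.coe_subset.2 MvPolynomial.support_monomial_subset).trans (by simpa using bb.2)
        have : (MvPolynomial.basisRestrictSupport κ S) bb = ⟨_, hm'⟩ := by
          apply (MvPolynomial.basisRestrictSupport κ S).repr.injective
          rw [Module.Basis.repr_self]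
          ext gg
          simp [MvPolynomial.basisRestrictSupport, AddMonoidAlgebra.supportedEquivFinsupp, Finsupp.single_apply,
            Subtype.ext_iff]
          exact (MvPolynomial.coeff_monomial gg.1 bb.1 (1 : κ)).symm
        rw [this]
      exact congrArg (MvPolynomial.aeval L.x) hb
    rw [e1]
    show Algebra.TensorProduct.includeRight (R := R) (A := κ) (MvPolynomial.aeval a (MvPolynomial.monomial bb.1 (1 : R))) = _
    rw [MvPolynomial.aeval_monomial, MvPolynomial.aeval_monomial, map_one, map_one, _root_.one_mul, _root_.one_mul,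
      map_finsuppProd]
    refine Finsupp.prod_congr fun i _ => ?_
    rw [map_pow]
    exact congrArg (· ^ _) (ha' i)
  have hli : LinearIndependent R v := Module.IsLocalRing.linearIndependent_of_flat _ (by
    have : ⇑(TensorProduct.mk R κ A 1) ∘ v = ⇑w := funext hv
    rw [this]; exact w.linearIndependent)
  let bA : Module.Basis S R A := Module.Basis.mk hli (IsLocalRing.span_eq_top_of_tmul_eq_basis v w hv).ge
  let I : Ideal (MvPolynomial (Fin n) R) :=
    Ideal.span (Set.range fun i : Fin n => (MvPolynomial.X i : MvPolynomial (Fin n) R) ^ p)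
  let φ : (MvPolynomial (Fin n) R ⧸ I) →ₐ[R] A := Ideal.Quotient.liftₐ I (MvPolynomial.aeval a) (fun x hx => by
    refine (Ideal.span_le.2 ?_ : I ≤ RingHom.ker (MvPolynomial.aeval a (R := R))) hx
    rintro _ ⟨i, rfl⟩
    rw [SetLike.mem_coe, RingHom.mem_ker, map_pow, MvPolynomial.aeval_X, h1 _ (ha i)])
  let ψ : A →ₗ[R] (MvPolynomial (Fin n) R ⧸ I) :=
    bA.constr R fun bb => Ideal.Quotient.mk I (MvPolynomial.monomial bb.1 1)
  have h12 : φ.toLinearMap ∘ₗ ψ = LinearMap.id := bA.ext fun bb => by
    simp only [LinearMap.comp_apply, ψ, Module.Basis.constr_basis, LinearMap.id_apply]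
    rw [Module.Basis.mk_apply]
    rfl
  have h21 : ψ ∘ₗ φ.toLinearMap ∘ₗ (Ideal.Quotient.mkₐ R I).toLinearMap = (Ideal.Quotient.mkₐ R I).toLinearMap :=
    (MvPolynomial.basisMonomials (Fin n) R).ext fun bb => by
      simp only [MvPolynomial.coe_basisMonomials, LinearMap.comp_apply]
      by_cases hbb : bb ∈ S
      · have : φ.toLinearMap ((Ideal.Quotient.mkₐ R I).toLinearMap (MvPolynomial.monomial bb 1)) = bA ⟨bb, hbb⟩ := by
          rw [Module.Basis.mk_apply]; rfl
        rw [this, Module.Basis.constr_basis]
        rfl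
      · have : ∃ i, p ≤ bb i := by
          simp only [S, Set.mem_setOf_eq, not_forall, not_le] at hbb
          obtain ⟨i, hi⟩ := hbb
          exact ⟨i, by have := (Fact.out : p.Prime).pos; omega⟩
        obtain ⟨i, hi⟩ := this
        have hmem : MvPolynomial.monomial bb (1 : R) ∈ I := by
          have : MvPolynomial.monomial bb (1 : R) =
              MvPolynomial.monomial (bb - Finsupp.single i p) 1 * (MvPolynomial.X i) ^ p := by
            rw [MvPolynomial.X_pow_eq_monomial, MvPolynomial.monomial_mul, _root_.one_mul,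
              tsub_add_cancel_of_le (Finsupp.single_le_iff.2 hi)]
          rw [this]
          exact Ideal.mul_mem_left _ _ (Ideal.subset_span ⟨i, rfl⟩)
        have h0 : (Ideal.Quotient.mkₐ R I).toLinearMap (MvPolynomial.monomial bb 1) = 0 :=
          Ideal.Quotient.eq_zero_iff_mem.2 hmem
        rw [h0, map_zero, map_zero]
  have hbij2 : Function.Bijective φ := by
    constructor
    · intro x y e
      obtain ⟨x, rfl⟩ := Ideal.Quotient.mk_surjective x
      obtain ⟨y, rfl⟩ := Ideal.Quotient.mk_surjective y
      have h3 := LinearMap.congr_fun h21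
      exact (h3 x).symm.trans ((congrArg ψ e).trans (h3 y))
    · exact fun z => ⟨ψ z, LinearMap.congr_fun h12 z⟩
  exact ⟨n, ⟨(AlgEquiv.ofBijective φ hbij2).symm⟩⟩

end Groth.Agent.S4110
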