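import Groth.Statements.S4111
import Groth.Agent.H19Grp.EtaleEndo

set_option autoImplicit false
set_option linter.style.haveILetI false
set_option backward.isDefEq.respectTransparency false
universe u
open CategoryTheory MonoidalCategory CartesianMonoidalCategory MonObj GrpObj AlgebraicGeometry CategoryTheory.Limits
open SGA3

namespace Groth.Agent.S4111

/-- The published statement says that the power map is etale; stated here as etale at the unit section,
which holds for every G (for commutative G the global form is the companion statement): let G be an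
algebraic group over a field k and n a natural number invertible in k. Then the n-th power morphism
G → G, g ↦ gⁿ, is etale at the points of the unit section: there is an open U of G containing the
unit section on which it is etale. -/
theorem result (k : Type u) [Field k] (G : Over (Spec (CommRingCat.of k))) [GrpObj G]
    [LocallyOfFiniteType G.hom] [QuasiCompact G.hom] (n : ℕ) (hn : (n : k) ≠ 0) :
    ∃ U : G.left.Opens, (∀ p : ↥(𝟙_ (Over (Spec (CommRingCat.of k)))).left, η[G].left.base p ∈ U) ∧
      Etale (U.ι ≫ ((𝟙 G : G ⟶ G) ^ n).left) := by
  have hf1 : η[G] ≫ ((𝟙 G : G ⟶ G) ^ n) = η[G] := by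
    rw [MonObj.comp_pow, Category.comp_id, MonObj.one_eq_one, one_pow]
  have hge : ((𝟙 G : G ⟶ G) ^ n).left (η[G].left (IsLocalRing.closedPoint k)) =
      η[G].left (IsLocalRing.closedPoint k) := by
    rw [← Scheme.Hom.comp_apply, ← Over.comp_left, hf1]
  obtain ⟨U, hU, hUe⟩ := Groth.Agent.H19Grp.etale_nhd_endo ((𝟙 G : G ⟶ G) ^ n) η[G]
    (G.left.presheaf.stalkCongr (.of_eq hge)) fun x hx hxf => by
      rw [MonObj.one_eq_one] at hx
      rw [MonObj.one_eq_one, MonObj.comp_one] at hxf ⊢
      rw [MonObj.comp_pow, MonObj.comp_pow, Category.comp_id, Category.comp_id, one_pow] at hxf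
      refine Groth.Agent.H19Grp.TangentPow.eq_one_of_zpow_eq_one hx (n : ℤ) (by simpa using hn) ?_
      rwa [zpow_natCast]
  exact ⟨U, fun p => by rwa [show p = IsLocalRing.closedPoint k from Subsingleton.elim (α := Spec (CommRingCat.of k)) _ _], hUe⟩

end Groth.Agent.S4111
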