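import Groth.Statements.S4115
import Groth.Agent.H21Diag.RedRankLocal

set_option autoImplicit false
universe u
open CategoryTheory MonoidalCategory CartesianMonoidalCategory MonObj GrpObj AlgebraicGeometry CategoryTheory.Limits
open SGA3x

set_option linter.style.haveILetI false
set_option backward.isDefEq.respectTransparency false
set_option synthInstance.maxHeartbeats 400000
set_option maxHeartbeats 1000000

namespace Groth.Agent.S4115

/-- Let G be an S-group scheme which is affine and smooth over S. The following are equivalent: (i) the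
reductive rank of the geometric fibres of G is a locally constant function on S; (ii) G acquires a
maximal torus after an etale surjective base change. -/
theorem result (S : Scheme.{u}) (G : Over S) [GrpObj G]
    [IsAffineHom G.hom] [Smooth G.hom] :
    SGA3x.RedRankLocallyConstant G ↔ SGA3x.HasMaxTorusEtaleLocally G := by
  haveI hGs : Smooth G.hom := inferInstance
  constructor
  · intro h
    have key : ∀ s : S, ∃ (m : ℕ) (W : S.Opens) (V : Scheme.{u}) (e : V ⟶ S) (v : Red.DS V (Fin m → ℤ) ⟶ Red.bc e G),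
        Etale e ∧ s ∈ Set.range e.base ∧ (∀ p : V, e.base p ∈ W) ∧ IsMonHom v ∧ Mono v ∧
        ∀ t ∈ W, SGA3x.HasRedRank G t (m : WithBot ℕ∞) := by
      intro s
      obtain ⟨W, hsW, r, hr⟩ := h s
      obtain ⟨T, gT, i, hi, hd⟩ := hr s hsW
      letI := gT
      obtain ⟨hi1, hi2, hT, -⟩ := id hi
      haveI := hi1
      haveI := hi2
      obtain ⟨m, ⟨ε⟩⟩ := H21Diag.exists_DS_iso_algClosed T hT
      have hrm : r = (m : WithBot ℕ∞) := by
        rw [← hd]
        exact (Scheme.homeoOfIso ((Over.forget _).mapIso ((Grp.forget _).mapIso ε))).isHomeomorph.topologicalKrullDim_eq.trans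
          (H21Diag.dim_DS_field m)
      haveI : IsMonHom ε.inv.hom.hom := ε.inv.hom.isMonHom_hom
      haveI : IsIso ε.inv.hom.hom := ((Grp.forget _).mapIso ε).isIso_inv
      obtain ⟨U, e, he, hsr, v, hv, hv'⟩ := H21Diag.exists_etale_splitTorus (Red.geomPt s) G m (ε.inv.hom.hom ≫ i)
      haveI := he
      haveI := hv
      haveI := hv'
      obtain ⟨p, hp⟩ := hsr
      have hps : e.base p = s := by
        rw [hp, Scheme.Hom.comp_apply]
        exact Scheme.fromSpecResidueField_apply s _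
      let V₀ : U.Opens := e ⁻¹ᵁ W
      haveI := (Over.mapPullbackAdj V₀.ι).isRightAdjoint
      haveI : Mono ((Over.pullback V₀.ι).map v) := inferInstance
      haveI : IsMonHom ((Over.pullback V₀.ι).map v) := H21Diag.isMonHom_map V₀.ι v
      let θ := H21Red0.bcTrans V₀.ι e (V₀.ι ≫ e) rfl G
      haveI : IsMonHom θ.hom := H21Red0.isMonHom_bcTrans V₀.ι e _ rfl G
      let ε' := H21Diag.bcDSIso V₀.ι (Fin m → ℤ)
      haveI : IsMonHom ε'.inv.hom.hom := ε'.inv.hom.isMonHom_hom
      haveI : IsIso ε'.inv.hom.hom := ((Grp.forget _).mapIso ε').isIso_inv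
      have hpW : p ∈ V₀ := by show e.base p ∈ W; rw [hps]; exact hsW
      exact ⟨m, W, V₀, V₀.ι ≫ e, ε'.inv.hom.hom ≫ (Over.pullback V₀.ι).map v ≫ θ.hom, inferInstance,
        ⟨⟨p, hpW⟩, (Scheme.Hom.comp_apply _ _ _).trans hps⟩, fun q => q.2, inferInstance, inferInstance,
        fun t ht => hrm ▸ hr t ht⟩
    choose m W V e v he hs heW hv hv' hrk using key
    let f : (∐ V) ⟶ S := Sigma.desc e
    haveI : Etale f := IsZariskiLocalAtSource.sigmaDesc (P := @Etale) he
    have hf : ∀ (i : S) (p : V i), f.base ((Sigma.ι V i).base p) = (e i).base p := fun i p => by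
      rw [← Scheme.Hom.comp_apply, Sigma.ι_desc]
    haveI : Surjective f := ⟨fun s => ⟨(Sigma.ι V s).base (hs s).choose, (hf s _).trans (hs s).choose_spec⟩⟩
    let θ : ∀ i, Red.bc (Sigma.ι V i) (Red.bc f G) ≅ Red.bc (e i) G := fun i =>
      H21Red0.bcTrans (Sigma.ι V i) f (e i) (Sigma.ι_desc _ _) G
    haveI : ∀ i, IsMonHom (θ i).hom := fun i => H21Red0.isMonHom_bcTrans (Sigma.ι V i) f (e i) (Sigma.ι_desc _ _) G
    haveI : ∀ i, IsMonHom (θ i).inv := fun i => inferInstance
    haveI : ∀ i, IsMonHom (v i ≫ (θ i).inv) := fun i => by haveI := hv i; infer_instance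
    haveI : ∀ i, Mono (v i ≫ (θ i).inv) := fun i => by haveI := hv' i; infer_instance
    obtain ⟨X, gX, x, hx, hxm, hφ⟩ := H21Diag.exists_sigma_sub (Red.bc f G)
      (fun i => Red.DS (V i) (Fin (m i) → ℤ)) (fun i => v i ≫ (θ i).inv)
    letI := gX
    haveI := hx
    haveI := hxm
    refine ⟨∐ V, f, inferInstance, inferInstance, X, gX, x, H21Diag.isMaximalTorus_of_rank x fun s' => ?_⟩
    obtain ⟨i, p, rfl⟩ := (sigmaOpenCover V).exists_eq s'
    obtain ⟨φ, hφm, -⟩ := hφ i
    haveI := hφm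
    refine ⟨(Sigma.ι V i).opensRange, ⟨p, rfl⟩, m i,
      H21Diag.isSplit_comp (Sigma.ι V i) (Sigma.ι V i).isoOpensRange.inv
        (Scheme.Hom.isoOpensRange_inv_comp _).symm ⟨(Grp.mkIso' φ).symm⟩, fun n u _ _ => ?_⟩
    let z := Red.geomPt ((sigmaOpenCover V).f i p) ≫ f
    let ψ := H21Red0.bcTrans (Red.geomPt ((sigmaOpenCover V).f i p)) f z rfl G
    haveI : IsMonHom ψ.hom := H21Red0.isMonHom_bcTrans (Red.geomPt ((sigmaOpenCover V).f i p)) f z rfl G
    have h1 := H21Diag.rank_le_of_hasRedRank (hrk i _ (heW i p)) z (by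
      rw [Scheme.Hom.comp_apply, ← hf i p, Scheme.Hom.comp_apply]
      exact congrArg f.base (Scheme.fromSpecResidueField_apply _ _)) (u ≫ ψ.hom)
    exact_mod_cast h1
  · rintro ⟨S', f, hf, hfs, T, gT, i, hi⟩
    letI := gT
    haveI := hf
    haveI := hfs
    haveI : IsAffineHom (Red.bc f G).hom := MorphismProperty.pullback_snd (P := @IsAffineHom) _ _ inferInstance
    haveI : Smooth (Red.bc f G).hom := MorphismProperty.pullback_snd (P := @Smooth) _ _ hGs
    obtain ⟨hi1, hi2, hT, -⟩ := id hi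
    haveI := hi1
    haveI := hi2
    intro s
    obtain ⟨s', rfl⟩ := f.surjective s
    obtain ⟨V, r, hsV, hV⟩ := H21Diag.exists_rank_nhd hT s'
    refine ⟨⟨f.base '' (V : Set S'), f.isOpenMap _ V.isOpen⟩, ⟨s', hsV, rfl⟩, (r : WithBot ℕ∞), ?_⟩
    rintro _ ⟨t, htV, rfl⟩
    have hrk : SGA3x.HasRedRank (Red.bc f G) t (r : WithBot ℕ∞) := by
      obtain ⟨ε⟩ := hV t htV
      exact ⟨Red.geomFibre t T, inferInstance, _, H21Diag.isMaximalTorus_bc inferInstance inferInstance i (Red.geomPt t) hi,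
        (Scheme.homeoOfIso ((Over.forget _).mapIso ((Grp.forget _).mapIso ε))).isHomeomorph.topologicalKrullDim_eq.trans
          (H21Diag.dim_DS_field r)⟩
    obtain ⟨z, hz, hzt⟩ := H21Diag.exists_geomPt_lift' f t
    obtain ⟨w, hw⟩ := H21Diag.exists_factor_geomPt z hzt
    have hsplit : Red.IsSplitTorusWith (Fin r → ℤ) (Red.bc z T) :=
      H21Diag.isSplit_comp (Red.geomPt t) w hw.symm (hV t htV)
    haveI := (Over.mapPullbackAdj z).isRightAdjoint
    haveI : IsMonHom ((Over.pullback z).map i) := H21Diag.isMonHom_map z i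
    let ψ := H21Red0.bcTrans z f (Red.geomPt (f.base t)) hz G
    haveI : IsMonHom ψ.hom := H21Red0.isMonHom_bcTrans z f _ hz G
    haveI : IsMonHom ψ.inv := inferInstance
    refine ⟨Red.bc z T, inferInstance, (Over.pullback z).map i ≫ ψ.hom,
      H21Diag.isMaximalTorus_of_rank _ fun p => ⟨⊤, trivial, r,
        H21Diag.isSplit_comp (𝟙 _) _ (Category.comp_id _).symm
          ⟨H21Diag.bcMapIso _ hsplit.some ≪≫ H21Diag.bcDSIso _ _⟩, fun n u _ _ => ?_⟩, ?_⟩
    · haveI : IsMonHom ((Over.pullback (Red.geomPt p)).map ψ.inv) := H21Diag.isMonHom_map _ ψ.inv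
      let χ := H21Red0.bcTrans (Red.geomPt p) z (Red.geomPt p ≫ z) rfl (Red.bc f G)
      haveI : IsMonHom χ.hom := H21Red0.isMonHom_bcTrans (Red.geomPt p) z _ rfl (Red.bc f G)
      have h1 := H21Diag.rank_le_of_hasRedRank hrk (Red.geomPt p ≫ z) (by
        rw [Scheme.Hom.comp_apply]
        exact (congrArg z.base (Subsingleton.elim (α := PrimeSpectrum _) _ _)).trans hzt)
        (u ≫ (Over.pullback (Red.geomPt p)).map ψ.inv ≫ χ.hom)
      exact_mod_cast h1
    · obtain ⟨ε⟩ := hsplit
      exact (Scheme.homeoOfIso ((Over.forget _).mapIso ((Grp.forget _).mapIso ε))).isHomeomorph.topologicalKrullDim_eq.trans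
        (H21Diag.dim_DS_field r)

end Groth.Agent.S4115
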