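import Groth.Statements.S4130
import Groth.Agent.H19Chev.CoradSplit

set_option autoImplicit false
set_option maxHeartbeats 1000000
set_option synthInstance.maxHeartbeats 100000
set_option linter.style.haveILetI false
set_option backward.isDefEq.respectTransparency false
universe u
open TensorProduct
open SGA3

namespace Groth.Agent.S4130

open Groth.Agent


/-- Let A be a finitely generated commutative and cocommutative Hopf algebra over a field k (a
commutative affine algebraic group G = Spec A). Then G has a largest subgroup M of multiplicative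
type and G/M is unipotent: there is a Hopf ideal J of A (defining M) such that A/J is of
multiplicative type (diagonalizable after a faithfully flat extension of k), J is contained in every
Hopf ideal I with A/I of multiplicative type, and J is the ideal generated by the augmentation ideal
of the image of an injective bialgebra map φ : B → A from a Hopf algebra B (so Spec B = G/M) which
is unipotent in the fixed-vector sense. -/
theorem result (k : Type u) [Field k]
    (A : Type u) [CommRing A] [HopfAlgebra k A] [Algebra.FiniteType k A] [Coalgebra.IsCocomm k A] :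
    ∃ (J : Ideal A) (_ : J.IsHopfIdeal k), SGA3b.IsMultTypeConst k (A ⧸ J) ∧
      (∀ (I : Ideal A) [I.IsHopfIdeal k], SGA3b.IsMultTypeConst k (A ⧸ I) → J ≤ I) ∧
      ∃ (B : Type u) (_ : CommRing B) (_ : HopfAlgebra k B) (φ : B →ₐc[k] A), Function.Injective φ ∧
        J = Ideal.map (φ : B →+* A) (RingHom.ker (Bialgebra.counitAlgHom k B)) ∧ HopfRep.IsUnipotent k B := by
  obtain ⟨J, hJH, hJ, hJeq⟩ := H19Chev.CoradSplit.exists_largest_multType (k := k) (A := A)
  haveI := hJH
  have hC := H19Chev.CoradSplit.isHopfSub_uni (k := k) (A := A)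
  letI := H20FF.subHopf hC
  refine ⟨J, hJH, hJ, fun I _ hI => ?_, H19Chev.CoradSplit.uni k A, inferInstance, inferInstance, H20FF.subVal hC,
    Subtype.val_injective, hJeq, H19Chev.CoradSplit.isUnipotent_uni⟩
  obtain ⟨R', _, _, hff, M, _, ⟨e⟩⟩ := hI
  haveI := hff
  haveI : Nontrivial R' := by
    by_contra hn
    haveI := not_nontrivial_iff_subsingleton.1 hn
    haveI : FaithfulSMul k R' := Module.FaithfullyFlat.faithfulSMul
    exact zero_ne_one (α := k) (FaithfulSMul.algebraMap_injective k R' (Subsingleton.elim _ _))
  obtain ⟨m, hm⟩ := Ideal.exists_maximal R'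
  letI := Ideal.Quotient.field m
  obtain ⟨e'⟩ := H19Mult.isDiag_baseChange e (R' ⧸ m)
  have hD : HopfRep.IsDiagonalizable (R' ⧸ m) ((R' ⧸ m) ⊗[k] (A ⧸ I)) := by
    refine eq_top_iff.2 fun y hy0 => ?_
    clear hy0
    obtain ⟨z, rfl⟩ := e'.symm.toEquiv.surjective y
    show e'.symm z ∈ _
    induction z using MonoidAlgebra.induction_linear with
    | zero => rw [map_zero]; exact zero_mem _
    | add a b ha hb => rw [map_add]; exact add_mem ha hb
    | single x r =>
      rw [show MonoidAlgebra.single x r = r • MonoidAlgebra.single x (1 : R' ⧸ m) by simp, map_smul]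
      exact Submodule.smul_mem _ _ (Submodule.subset_span
        (IsGroupLikeElem.map e'.symm (MonoidAlgebra.isGroupLikeElem_single_one x)))
  rw [hJeq, Ideal.map_le_iff_le_comap]
  intro b hb
  rw [RingHom.mem_ker] at hb
  have h := H20Comod.baseChange_map_mem_one H19Chev.CoradSplit.isUnipotent_uni hD
    ((Bialgebra.Quotient.mkBialgHom I).comp (H20FF.subVal hC)) b
  rw [show CoalgebraStruct.counit (R := k) b = 0 from hb, map_zero, TensorProduct.tmul_zero] at h
  have hinj : Function.Injective (fun x : A ⧸ I => (1 : R' ⧸ m) ⊗ₜ[k] x) :=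
    Algebra.TensorProduct.includeRight_injective (B := A ⧸ I) (algebraMap k (R' ⧸ m)).injective
  exact (Ideal.Quotient.eq_zero_iff_mem (I := I)).1 (hinj (h.trans (TensorProduct.tmul_zero _ _).symm))

end Groth.Agent.S4130
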