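import Groth.Statements.S4135
import Groth.Agent.H26MM.Adams
import Groth.Agent.H26MM.Inject

set_option autoImplicit false
universe u
open TensorProduct
attribute [local instance] LieRing.ofAssociativeRing
open SGA3y

namespace Groth.Agent.S4135

open Groth.Agent.H26MM

/-- Let k be a field of characteristic zero and H a cocommutative bialgebra over k which is connected
(every nonzero subcoalgebra contains 1). Then the canonical algebra homomorphism from the universal
enveloping algebra of the Lie algebra of primitive elements of H to H is bijective. -/
theorem result (k : Type u) [Field k] [CharZero k] (H : Type u) [Ring H]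
    [Bialgebra k H] [Coalgebra.IsCocomm k H] (hconn : SGA3y.IsConnectedCoalg k H) :
    Function.Bijective (UniversalEnvelopingAlgebra.lift k (SGA3y.primLie k H).incl) := by
  classical
  let P := SGA3y.primLie k H
  let φ := UniversalEnvelopingAlgebra.lift k P.incl
  have hφ : ∀ x : P, φ (UniversalEnvelopingAlgebra.ι k x) = (x : H) := fun x =>
    UniversalEnvelopingAlgebra.lift_ι_apply k P.incl x
  constructor
  · let b := Module.Basis.ofVectorSpace k P
    letI : LinearOrder (Module.Basis.ofVectorSpaceIndex k P) := linearOrderOfSTO WellOrderingRel
    obtain ⟨B, hB⟩ := Groth.Agent.H20PBW.exists_basis b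
    have hli : LinearIndependent k fun i => ((b i : P) : H) :=
      b.linearIndependent.map' P.toSubmodule.subtype (Submodule.ker_subtype _)
    have h2 : LinearIndependent k (φ.toLinearMap ∘ B) := by
      have h := linearIndependent_prod (k := k) (fun i => ((b i : P) : H)) (fun i => (b i).2) hli
      have e : (φ.toLinearMap ∘ B) = fun l => (l.1.map fun i => ((b i : P) : H)).prod := by
        funext l
        show φ (B l) = _
        rw [hB, Groth.Agent.H20PBW.mon, map_list_prod, List.map_map]
        congr 1
        exact List.map_congr_left fun i _ => hφ _
      rw [e]
      exact h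
    show Function.Injective φ.toLinearMap
    rw [← LinearMap.ker_eq_bot, eq_bot_iff]
    intro x hx
    rw [Submodule.mem_bot, ← B.linearCombination_repr x]
    have h3 : Finsupp.linearCombination k (φ.toLinearMap ∘ B) (B.repr x) = 0 := by
      rw [← Finsupp.apply_linearCombination, B.linearCombination_repr]
      exact hx
    rw [linearIndependent_iff.1 h2 _ h3, map_zero]
  · intro y
    exact eq_top_of_subalgebra hconn φ.range (fun p hp => ⟨UniversalEnvelopingAlgebra.ι k ⟨p, hp⟩, hφ _⟩) y

end Groth.Agent.S4135
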