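import Groth.Statements.S4136
import Groth.Agent.H21Diag.RedRank

set_option autoImplicit false
universe u
open CategoryTheory MonoidalCategory CartesianMonoidalCategory MonObj GrpObj AlgebraicGeometry CategoryTheory.Limits
open SGA3x

set_option linter.style.haveILetI false
set_option backward.isDefEq.respectTransparency false
set_option synthInstance.maxHeartbeats 400000
set_option maxHeartbeats 1000000

namespace Groth.Agent.S4136

/-- First assertion: let G be an S-group scheme which is affine and smooth over S. Then the reductive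
rank of the geometric fibres (the dimension of their maximal tori) is a lower semicontinuous
function on S: for every n the set of points whose geometric fibre has a maximal torus of dimension
≥ n is open. (The source also proves that the nilpotent rank is upper semicontinuous.) -/
theorem result (S : Scheme.{u}) (G : Over S) [GrpObj G] [IsAffineHom G.hom] [Smooth G.hom] (n : ℕ) :
    IsOpen {s : S | ∃ r : WithBot ℕ∞, SGA3x.HasRedRank G s r ∧ (n : WithBot ℕ∞) ≤ r} := by
  refine isOpen_iff_forall_mem_open.mpr ?_
  rintro s ⟨_, ⟨T, gT, i, hi, rfl⟩, hn⟩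
  letI := gT
  obtain ⟨hi1, hi2, hT, -⟩ := id hi
  haveI := hi1
  haveI := hi2
  obtain ⟨m, ⟨e⟩⟩ := H21Diag.exists_DS_iso_algClosed T hT
  haveI : IsMonHom e.inv.hom.hom := e.inv.hom.isMonHom_hom
  haveI : IsIso e.inv.hom.hom := ((Grp.forget _).mapIso e).isIso_inv
  have hm : n ≤ m := by
    have hd : topologicalKrullDim ↥T.left = (m : WithBot ℕ∞) :=
      (Scheme.homeoOfIso ((Over.forget _).mapIso ((Grp.forget _).mapIso e))).isHomeomorph.topologicalKrullDim_eq.trans
        (H21Diag.dim_DS_field m)
    rw [hd] at hn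
    exact_mod_cast hn
  obtain ⟨U, g, hg, hsr, v, hv, hv'⟩ := H21Diag.exists_etale_splitTorus (Red.geomPt s) G m (e.inv.hom.hom ≫ i)
  haveI := hg
  haveI := hv
  haveI := hv'
  refine ⟨Set.range g.base, ?_, g.isOpenMap.isOpen_range, ?_⟩
  · rintro _ ⟨w, rfl⟩
    obtain ⟨z, hz⟩ := H21Diag.exists_geomPt_lift g w
    haveI := (Over.mapPullbackAdj z).isRightAdjoint
    haveI : Mono ((Over.pullback z).map v) := inferInstance
    haveI : IsMonHom ((Over.pullback z).map v) := H21Diag.isMonHom_map z v
    let θ := H21Red0.bcTrans z g (Red.geomPt (g.base w)) hz G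
    haveI : IsMonHom θ.hom := H21Red0.isMonHom_bcTrans z g _ hz G
    let ε := H21Diag.bcDSIso z (Fin m → ℤ)
    haveI : IsMonHom ε.inv.hom.hom := ε.inv.hom.isMonHom_hom
    haveI : IsIso ε.inv.hom.hom := ((Grp.forget _).mapIso ε).isIso_inv
    haveI : IsAffineHom (Red.geomFibre (g.base w) G).hom :=
      MorphismProperty.pullback_snd (P := @IsAffineHom) _ _ inferInstance
    haveI : LocallyOfFiniteType (Red.geomFibre (g.base w) G).hom :=
      MorphismProperty.pullback_snd (P := @LocallyOfFiniteType) _ _ inferInstance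
    obtain ⟨r, i', hmr, hmax⟩ := H21Diag.exists_maxTorus_rank_ge (Red.geomFibre (g.base w) G) m
      (ε.inv.hom.hom ≫ (Over.pullback z).map v ≫ θ.hom)
    exact ⟨r, ⟨_, _, i', hmax, H21Diag.dim_DS_field r⟩, by exact_mod_cast hm.trans hmr⟩
  · obtain ⟨w, hw⟩ := hsr
    refine ⟨w, hw.trans ?_⟩
    rw [Scheme.Hom.comp_apply]
    exact Scheme.fromSpecResidueField_apply s _

end Groth.Agent.S4136
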