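import Groth.Statements.S4137
import Groth.Agent.H06Spread.Transporter
import Groth.Agent.H19Grp.QuasiFiniteHom
import Groth.Agent.H19Grp.TransporterRel
import Groth.Agent.H21Cent.SubObj

set_option autoImplicit false
universe u
open CategoryTheory MonoidalCategory CartesianMonoidalCategory MonObj GrpObj AlgebraicGeometry CategoryTheory.Limits
open SGA3

namespace Groth.Agent.S4137

open Groth.Agent Groth.Agent.H06Spread
open scoped CategoryTheory.Obj

set_option backward.isDefEq.respectTransparency false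
set_option linter.style.haveILetI false
set_option synthInstance.maxHeartbeats 400000
set_option maxHeartbeats 1000000

/-- A finitely presented closed subscheme of points over which a morphism factors. -/
theorem exists_factor_fp {S : Scheme.{u}} {G X Z' W : Over S} (hX : SGA3x.IsEssentiallyFree X.hom)
    [QuasiCompact X.hom] (c : G ⊗ X ⟶ W) (y : Z' ⟶ W) [IsClosedImmersion y.left]
    [LocallyOfFinitePresentation y.left] :
    ∃ (T : Over S) (t : T ⟶ G), IsClosedImmersion t.left ∧ LocallyOfFinitePresentation t.left ∧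
      ∀ (S' : Over S) (g : S' ⟶ G), (∃ z : S' ⟶ T, z ≫ t = g) ↔
        ∀ (S'' : Over S) (s : S'' ⟶ S') (x : S'' ⟶ X), ∃ x' : S'' ⟶ Z', x' ≫ y = lift (s ≫ g) x ≫ c := by
  have hfree : SGA3x.IsEssentiallyFree (fst G X).left := by
    have h := essFree_of_iso (pullbackSymmetry G.hom X.hom) _ (H20EssFree.isEssentiallyFree_snd X.hom G.hom hX)
    rwa [pullbackSymmetry_hom_comp_snd] at h
  haveI : QuasiCompact (fst G X).left := inferInstanceAs (QuasiCompact (pullback.fst G.hom X.hom))
  let j := pullback.fst c.left y.left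
  haveI : IsClosedImmersion j := inferInstance
  haveI : LocallyOfFinitePresentation j := inferInstance
  obtain ⟨T, t, ht, hiff, hfp⟩ := S4101.result G.left (G ⊗ X).left _ (fst G X).left hfree j
  refine ⟨Over.mk (t ≫ G.hom), Over.homMk t rfl, ht, hfp inferInstance inferInstance, fun S' g => ?_⟩
  have key : (∃ z : S'.left ⟶ T, z ≫ t = g.left) ↔
      ∃ z : S' ⟶ Over.mk (t ≫ G.hom), z ≫ Over.homMk t rfl = g :=
    ⟨fun ⟨z, hz⟩ => ⟨Over.homMk z (by change z ≫ t ≫ G.hom = S'.hom; rw [← Category.assoc, hz]; exact Over.w g),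
      Over.OverMorphism.ext hz⟩, fun ⟨z, hz⟩ => ⟨z.left, congrArg (fun m : S' ⟶ G => m.left) hz⟩⟩
  rw [← key, hiff, ← H19Grp.contains_iff_isIso, H19Grp.contains_fst_iff_rel c y g]
  constructor
  · rintro ⟨x', hx'⟩ S'' s x
    exact ⟨lift s x ≫ x', by rw [Category.assoc, hx', ← Category.assoc, lift_whiskerRight]⟩
  · intro H
    obtain ⟨x', hx'⟩ := H (S' ⊗ X) (fst S' X) (snd S' X)
    refine ⟨x', hx'.trans ?_⟩
    congr 1

/-- A subscheme of points closed under the group operations is a subgroup. -/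
theorem exists_grpObj_of_iff {S : Scheme.{u}} {G T : Over S} [GrpObj G] (t : T ⟶ G) [Mono t]
    (P : ∀ X : Over S, (X ⟶ G) → Prop) (h : ∀ (X : Over S) (g : X ⟶ G), (∃ z, z ≫ t = g) ↔ P X g)
    (h1 : ∀ X : Over S, P X 1) (hmul : ∀ (X : Over S) (g g' : X ⟶ G), P X g → P X g' → P X (g * g'))
    (hinv : ∀ (X : Over S) (g : X ⟶ G), P X g → P X g⁻¹) : ∃ _ : GrpObj T, IsMonHom t :=
  H21Cent.exists_grpObj_of_mono t ((h _ _).mpr (h1 _))
    ((h _ _).mpr (hmul _ _ _ ((h _ _).mp ⟨_, rfl⟩) ((h _ _).mp ⟨_, rfl⟩)))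
    ((h _ _).mpr (hinv _ _ ((h _ _).mp ⟨𝟙 _, Category.id_comp _⟩)))

/-- Let S be an integral scheme, G and H S-group schemes of finite presentation over S and i : H → G a
homomorphism which is a quasi-compact monomorphism. Then there is a non-empty open U of S over which
i becomes a closed immersion and the centralizer and the normalizer of H_U in G_U are representable
by closed subgroup schemes of G_U of finite presentation over U. -/
theorem result (S : Scheme.{u}) [IsIntegral S] (G H : Over S)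
    [GrpObj G] [GrpObj H] [LocallyOfFinitePresentation G.hom] [QuasiCompact G.hom] [QuasiSeparated G.hom]
    [LocallyOfFinitePresentation H.hom] [QuasiCompact H.hom] [QuasiSeparated H.hom]
    (i : H ⟶ G) [IsMonHom i] [Mono i] [QuasiCompact i.left] :
    ∃ U : S.Opens, (U : Set S).Nonempty ∧ IsClosedImmersion ((Over.pullback U.ι).map i).left ∧
      ∃ (C N : Over (U : Scheme.{u})) (_ : GrpObj C) (_ : GrpObj N) (c : C ⟶ Red.bc U.ι G) (n : N ⟶ Red.bc U.ι G),
        Red.IsCentralizerOf ((Over.pullback U.ι).map i) c ∧ IsClosedImmersion c.left ∧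
          LocallyOfFinitePresentation C.hom ∧ QuasiCompact C.hom ∧
        Red.IsNormalizerOf ((Over.pullback U.ι).map i) n ∧ IsClosedImmersion n.left ∧
          LocallyOfFinitePresentation N.hom ∧ QuasiCompact N.hom := by
  haveI : Mono i.left := (Over.forget S).map_mono i
  let j := S.fromSpecResidueField (genericPoint S)
  have hgen : IsClosedImmersion ((Over.pullback j).map i).left := by
    haveI : LocallyOfFiniteType (Red.bc j G).hom := inferInstanceAs (LocallyOfFiniteType (pullback.snd G.hom j))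
    haveI : LocallyOfFiniteType (Red.bc j H).hom := inferInstanceAs (LocallyOfFiniteType (pullback.snd H.hom j))
    haveI : QuasiCompact ((Over.pullback j).map i).left :=
      MorphismProperty.of_isPullback (P := @QuasiCompact) (H06GenSub.CommSpread.isPullback_map j i) inferInstance
    haveI : Mono ((Over.pullback j).map i) := inferInstance
    exact H19Grp.QuasiFiniteHom.isClosedImmersion_of_mono _
  obtain ⟨U₀, hU₀, hcl⟩ := exists_open_isClosedImmersion H G i hgen
  obtain ⟨U₁, hU₁, hsep⟩ := exists_open_isSeparated G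
  obtain ⟨U₂, hU₂, hfree⟩ := exists_open_essFree H.hom
  let U : S.Opens := U₀ ⊓ U₁ ⊓ U₂
  refine ⟨U, ⟨genericPoint S, ⟨hU₀, hU₁⟩, hU₂⟩, hcl U (inf_le_left.trans inf_le_left), ?_⟩
  haveI : IsClosedImmersion ((Over.pullback U.ι).map i).left := hcl U (inf_le_left.trans inf_le_left)
  haveI : IsSeparated (Red.bc U.ι G).hom := hsep U (inf_le_left.trans inf_le_right)
  have hH := essFree_of_le H (inf_le_right : U ≤ U₂) hfree
  let G' := Red.bc U.ι G
  let H' := Red.bc U.ι H
  letI : GrpObj G' := inferInstanceAs (GrpObj (Red.bc U.ι G))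
  let i' : H' ⟶ G' := (Over.pullback U.ι).map i
  haveI : LocallyOfFinitePresentation G'.hom :=
    inferInstanceAs (LocallyOfFinitePresentation (pullback.snd G.hom U.ι))
  haveI : LocallyOfFinitePresentation H'.hom :=
    inferInstanceAs (LocallyOfFinitePresentation (pullback.snd H.hom U.ι))
  haveI : QuasiCompact G'.hom := inferInstanceAs (QuasiCompact (pullback.snd G.hom U.ι))
  haveI : QuasiCompact H'.hom := inferInstanceAs (QuasiCompact (pullback.snd H.hom U.ι))
  haveI : LocallyOfFinitePresentation i'.left := by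
    haveI : LocallyOfFinitePresentation (i'.left ≫ G'.hom) := by rw [Over.w i']; infer_instance
    exact H12AlgSp.lfp_of_comp i'.left G'.hom
  obtain ⟨C, c, hc, hcfp, hC⟩ := exists_equalizer_fp (Y := H') (T := G') (W := G')
    (H20EssFree.isEssentiallyFree_snd _ _ hH) (snd H' G' * (fst H' G' ≫ i')) ((fst H' G' ≫ i') * snd H' G')
  haveI := hc
  haveI := hcfp
  have hC' : ∀ (X : Over (U : Scheme.{u})) (g : X ⟶ G'), (∃ z, z ≫ c = g) ↔
      ∀ (X' : Over (U : Scheme.{u})) (x : X' ⟶ X) (h : X' ⟶ H'),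
        (x ≫ g) * (h ≫ i') = (h ≫ i') * (x ≫ g) := fun X g => by
    rw [hC X g]
    refine forall₃_congr fun X' x h => ?_
    simp only [MonObj.comp_mul, lift_fst_assoc, lift_snd]
  haveI : Mono c := Over.mono_of_mono_left _
  obtain ⟨instC, hcm⟩ := exists_grpObj_of_iff c _ hC'
    (fun X X' x h => by simp [MonObj.comp_one])
    (fun X g g' hg hg' X' x h => by
      rw [MonObj.comp_mul, _root_.mul_assoc, hg' X' x h, ← _root_.mul_assoc, hg X' x h, _root_.mul_assoc])
    (fun X g hg X' x h => by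
      rw [GrpObj.comp_inv, inv_mul_eq_iff_eq_mul, ← _root_.mul_assoc, hg X' x h, mul_inv_cancel_right])
  let cj : G' ⊗ H' ⟶ G' ⊗ G' :=
    lift (fst G' H' * (snd G' H' ≫ i') * (fst G' H')⁻¹) ((fst G' H')⁻¹ * (snd G' H' ≫ i') * fst G' H')
  let ii : H' ⊗ H' ⟶ G' ⊗ G' := i' ⊗ₘ i'
  have hii : IsClosedImmersion ii.left ∧ LocallyOfFinitePresentation ii.left := by
    rw [show ii.left = pullback.map H'.hom H'.hom G'.hom G'.hom i'.left i'.left (𝟙 _)
      (by rw [Category.comp_id, Over.w i']) (by rw [Category.comp_id, Over.w i']) from Over.tensorHom_left _ _]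
    exact ⟨MorphismProperty.pullbackMap (P := @IsClosedImmersion) (by infer_instance) (by infer_instance)
        (by rw [Over.w i']) (by rw [Over.w i']),
      MorphismProperty.pullbackMap (P := @LocallyOfFinitePresentation) (by infer_instance) (by infer_instance)
        (by rw [Over.w i']) (by rw [Over.w i'])⟩
  haveI := hii.1
  haveI := hii.2
  obtain ⟨N, n, hn, hnfp, hN⟩ := exists_factor_fp hH cj ii
  haveI := hn
  haveI := hnfp
  have hcj : ∀ (X' : Over (U : Scheme.{u})) (p : X' ⟶ G') (h : X' ⟶ H'),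
      lift p h ≫ cj = lift (p * (h ≫ i') * p⁻¹) (p⁻¹ * (h ≫ i') * p) := fun X' p h => by
    simp only [cj, comp_lift, MonObj.comp_mul, GrpObj.comp_inv, lift_fst, lift_snd_assoc]
  have hN' : ∀ (X : Over (U : Scheme.{u})) (g : X ⟶ G'), (∃ z, z ≫ n = g) ↔
      ∀ (X' : Over (U : Scheme.{u})) (x : X' ⟶ X) (h : X' ⟶ H'),
        (∃ h' : X' ⟶ H', (x ≫ g) * (h ≫ i') * (x ≫ g)⁻¹ = h' ≫ i') ∧
        (∃ h' : X' ⟶ H', (x ≫ g)⁻¹ * (h ≫ i') * (x ≫ g) = h' ≫ i') := fun X g => by
    rw [hN X g]
    refine forall₃_congr fun X' x h => ?_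
    rw [hcj X' (x ≫ g) h]
    constructor
    · rintro ⟨x', hx'⟩
      refine ⟨⟨x' ≫ fst H' H', ?_⟩, ⟨x' ≫ snd H' H', ?_⟩⟩
      · have h1 := congrArg (· ≫ fst G' G') hx'
        simp only [ii, Category.assoc, tensorHom_fst, lift_fst] at h1
        rw [Category.assoc, h1]
      · have h1 := congrArg (· ≫ snd G' G') hx'
        simp only [ii, Category.assoc, tensorHom_snd, lift_snd] at h1
        rw [Category.assoc, h1]
    · rintro ⟨⟨a, ha⟩, ⟨b, hb⟩⟩
      exact ⟨lift a b, by rw [lift_map, ha, hb]⟩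
  haveI : Mono n := Over.mono_of_mono_left _
  obtain ⟨instN, hnm⟩ := exists_grpObj_of_iff n _ hN'
    (fun X X' x h => ⟨⟨h, by simp [MonObj.comp_one]⟩, ⟨h, by simp [MonObj.comp_one]⟩⟩)
    (fun X g g' hg hg' X' x h => by
      obtain ⟨h₁, e₁⟩ := (hg' X' x h).1
      obtain ⟨h₂, e₂⟩ := (hg X' x h₁).1
      obtain ⟨h₃, e₃⟩ := (hg X' x h).2
      obtain ⟨h₄, e₄⟩ := (hg' X' x h₃).2
      refine ⟨⟨h₂, ?_⟩, ⟨h₄, ?_⟩⟩
      · rw [← e₂, ← e₁, MonObj.comp_mul]; group
      · rw [← e₄, ← e₃, MonObj.comp_mul]; group)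
    (fun X g hg X' x h => by
      obtain ⟨⟨a, ha⟩, ⟨b, hb⟩⟩ := hg X' x h
      exact ⟨⟨b, by rw [GrpObj.comp_inv, _root_.inv_inv]; exact hb⟩, ⟨a, by rw [GrpObj.comp_inv, _root_.inv_inv]; exact ha⟩⟩)
  refine ⟨C, N, instC, instN, c, n, ⟨hcm, inferInstance, hC'⟩, hc, by rw [← Over.w c]; infer_instance,
    by rw [← Over.w c]; infer_instance, ⟨hnm, inferInstance, hN'⟩, hn, by rw [← Over.w n]; infer_instance,
    by rw [← Over.w n]; infer_instance⟩

end Groth.Agent.S4137
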