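import Groth.Statements.S4139
import Groth.Agent.S4115
import Groth.Agent.H21Diag.CommMaxTorus
import Groth.Agent.H21Cent.SubDescent

set_option autoImplicit false
universe u
open CategoryTheory MonoidalCategory CartesianMonoidalCategory MonObj GrpObj AlgebraicGeometry CategoryTheory.Limits
open SGA3x

set_option linter.style.haveILetI false
set_option backward.isDefEq.respectTransparency false
set_option synthInstance.maxHeartbeats 400000
set_option maxHeartbeats 1000000

namespace Groth.Agent.S4139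

open CategoryTheory.Limits

theorem points_comm {S : Scheme.{u}} {G : Over S} [GrpObj G] [IsCommMonObj G] {X : Over S} (a b : X ⟶ G) :
    a * b = b * a := by
  rw [Hom.mul_def, Hom.mul_def]
  conv_rhs => rw [← IsCommMonObj.mul_comm (X := G), ← Category.assoc]
  congr 1
  refine CartesianMonoidalCategory.hom_ext _ _ ?_ ?_ <;> simp

theorem points_comm_bc {S S' : Scheme.{u}} (f : S' ⟶ S) {G : Over S} [GrpObj G] [IsCommMonObj G] {X : Over S'}
    (a b : X ⟶ Red.bc f G) : a * b = b * a := by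
  apply (H21Diag.bcEquiv f G X).symm.injective
  rw [H21Diag.bcEquiv_symm_mul, H21Diag.bcEquiv_symm_mul, points_comm]

theorem isMaximalTorus_precomp_iso {S : Scheme.{u}} {A B G : Over S} [GrpObj A] [GrpObj B] [GrpObj G] (φ : A ≅ B)
    [IsMonHom φ.hom] (hA : Red.IsTorus A) {i : B ⟶ G} (hi : Red.IsMaximalTorus i) :
    Red.IsMaximalTorus (φ.hom ≫ i) := by
  obtain ⟨hi1, hi2, -, hmax⟩ := hi
  haveI := hi1
  haveI := hi2
  refine ⟨inferInstance, inferInstance, hA, fun s T' _ j _ _ f hT' hf => ?_⟩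
  let F := Over.pullback (Red.geomPt s)
  have h := hmax s T' j (F.map φ.inv ≫ f) hT' (by
    rw [Category.assoc, hf, ← Functor.map_comp, Iso.inv_hom_id_assoc])
  exact @IsIso.of_isIso_comp_left _ _ _ _ _ (F.map φ.inv) f (F.mapIso φ).isIso_inv h

/-- Let G be a commutative S-group scheme, smooth and affine over S, whose geometric fibres have locally
constant reductive rank. Then G has a maximal torus T, and every subtorus of G is contained in T (in
particular T is the unique maximal torus). -/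
theorem result (S : Scheme.{u}) (G : Over S) [GrpObj G] [IsCommMonObj G]
    [IsAffineHom G.hom] [Smooth G.hom] (hr : SGA3x.RedRankLocallyConstant G) :
    ∃ (T : Over S) (_ : GrpObj T) (i : T ⟶ G), Red.IsMaximalTorus i ∧
      ∀ (R : Over S) [GrpObj R] (j : R ⟶ G) [IsMonHom j] [Mono j], Red.IsTorus R → ∃ f : R ⟶ T, f ≫ i = j := by
  obtain ⟨S', π, het, hsurj, T', gT', i', hi'⟩ := (S4115.result S G).mp hr
  letI := gT'
  haveI := het
  haveI := hsurj
  obtain ⟨hi1, hi2, hT', -⟩ := id hi'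
  haveI := hi1
  haveI := hi2
  haveI : Mono i'.left := (Over.forget S').map_mono i'
  haveI hGs : Smooth G.hom := inferInstance
  have hGa : IsAffineHom G.hom := inferInstance
  haveI : Smooth (Red.bc π G).hom := MorphismProperty.pullback_snd (P := @Smooth) _ _ hGs
  haveI : IsAffineHom (Red.bc π G).hom := MorphismProperty.pullback_snd (P := @IsAffineHom) _ _ hGa
  have hcov := H21Diag.qc_cover_of_openMap π π.isOpenMap
  have hπ := H21Cent.singleton_mem_fpqc π hcov
  have hTm : SGA3x.IsMultTypeFT T' := H21Diag.isMultTypeFT_of_isTorus hT'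
  haveI : IsAffineHom T'.hom := H21Diag.isAffineHom_of_multTypeFT hTm
  have hmove : ∀ (T : Scheme.{u}) (x₀ x₁ : T ⟶ S') (_ : x₀ ≫ π = x₁ ≫ π) (v : Desc.Lifts T' x₀),
      ∃ v' : Desc.Lifts T' x₁, v'.1 ≫ i'.left ≫ pullback.fst G.hom π = v.1 ≫ i'.left ≫ pullback.fst G.hom π := by
    intro T x₀ x₁ hx v
    let θ₀ := H21Red0.bcTrans x₀ π (x₀ ≫ π) rfl G
    let θ₁ := H21Red0.bcTrans x₁ π (x₀ ≫ π) hx.symm G
    haveI : IsMonHom θ₀.hom := H21Red0.isMonHom_bcTrans x₀ π _ rfl G
    haveI : IsMonHom θ₁.hom := H21Red0.isMonHom_bcTrans x₁ π _ hx.symm G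
    haveI : IsMonHom θ₁.inv := inferInstance
    haveI : IsMonHom ((Over.pullback x₀).map i') := H21Diag.isMonHom_map x₀ i'
    haveI : Smooth (Red.bc x₁ (Red.bc π G)).hom := MorphismProperty.pullback_snd (P := @Smooth) _ _ inferInstance
    haveI : IsAffineHom (Red.bc x₁ (Red.bc π G)).hom :=
      MorphismProperty.pullback_snd (P := @IsAffineHom) _ _ inferInstance
    obtain ⟨f, hf⟩ := H21Diag.exists_le_maxTorus
      (H21Diag.isMaximalTorus_bc inferInstance inferInstance i' x₁ hi')
      ((Over.pullback x₀).map i' ≫ θ₀.hom ≫ θ₁.inv) (H21Diag.isTorus_bc hT' x₀) fun X x g => by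
        haveI : IsMonHom θ₁.hom := H21Red0.isMonHom_bcTrans x₁ π _ hx.symm G
        refine (cancel_mono θ₁.hom).mp ?_
        rw [MonObj.mul_comp, MonObj.mul_comp, points_comm_bc]
    let l : T ⟶ (Red.bc x₀ T').left := pullback.lift v.1 (𝟙 T) (by rw [v.2, Category.id_comp])
    have hfs : f.left ≫ pullback.snd T'.hom x₁ = pullback.snd T'.hom x₀ := Over.w f
    refine ⟨⟨l ≫ f.left ≫ pullback.fst T'.hom x₁, ?_⟩, ?_⟩
    · rw [Category.assoc, Category.assoc, pullback.condition, reassoc_of% hfs]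
      exact (Category.assoc _ _ _).symm.trans (by rw [pullback.lift_snd, Category.id_comp])
    · have m₀ : ((Over.pullback x₀).map i').left ≫ pullback.fst (pullback.snd G.hom π) x₀ =
          pullback.fst T'.hom x₀ ≫ i'.left := pullback.lift_fst _ _ _
      have m₁ : ((Over.pullback x₁).map i').left ≫ pullback.fst (pullback.snd G.hom π) x₁ =
          pullback.fst T'.hom x₁ ≫ i'.left := pullback.lift_fst _ _ _
      have t₀ : θ₀.hom.left ≫ pullback.fst G.hom (x₀ ≫ π) =
          pullback.fst (pullback.snd G.hom π) x₀ ≫ pullback.fst G.hom π := pullback.lift_fst _ _ _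
      have t₁ : θ₁.hom.left ≫ pullback.fst G.hom (x₀ ≫ π) =
          pullback.fst (pullback.snd G.hom π) x₁ ≫ pullback.fst G.hom π := pullback.lift_fst _ _ _
      have h1 := congrArg (fun k => l ≫ (k ≫ θ₁.hom).left ≫ pullback.fst G.hom (x₀ ≫ π)) hf
      simp only [Category.assoc, Iso.inv_hom_id, Category.comp_id, Over.comp_left] at h1
      rw [t₀, t₁, reassoc_of% m₀, reassoc_of% m₁, ← Category.assoc l (pullback.fst T'.hom x₀), pullback.lift_fst] at h1
      simpa only [Category.assoc] using h1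
  obtain ⟨U, j, φ, hφ⟩ := H21Cent.exists_descended_obj π i' hπ hmove
  haveI : Mono ((Over.pullback π).map j).left := by
    rw [← hφ]
    haveI : IsIso φ.hom.left := ((Over.forget S').mapIso φ).isIso_hom
    rw [Over.comp_left]; infer_instance
  haveI : Mono j.left := ⟨fun {A} w₁ w₂ hw => by
    have ha : w₁ ≫ U.hom = w₂ ≫ U.hom := by
      rw [← Over.w j, ← Category.assoc, hw, Category.assoc]
    let l₁ := pullback.lift (pullback.snd π (w₁ ≫ U.hom) ≫ w₁) (pullback.fst π (w₁ ≫ U.hom))
      (f := U.hom) (g := π) (by rw [Category.assoc, pullback.condition])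
    let l₂ := pullback.lift (pullback.snd π (w₁ ≫ U.hom) ≫ w₂) (pullback.fst π (w₁ ≫ U.hom))
      (f := U.hom) (g := π) (by rw [Category.assoc, ← ha, pullback.condition])
    have hl : l₁ = l₂ := (cancel_mono ((Over.pullback π).map j).left).mp (pullback.hom_ext
      (by simp [l₁, l₂, hw]) (by simp [l₁, l₂]))
    have h' := congrArg (· ≫ pullback.fst U.hom π) hl
    simp only [l₁, l₂, pullback.lift_fst] at h'
    exact (H21Cent.existsUnique_desc π hπ (w₁ ≫ U.hom) (pullback.snd π (w₁ ≫ U.hom) ≫ w₁) fun T a b e => by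
      rw [← Category.assoc, e, Category.assoc]).unique rfl h'.symm⟩
  obtain ⟨gU, hj, -⟩ := H21Cent.exists_grpObj_desc π i' hcov hTm hφ
  haveI := hj
  haveI : Mono j := Over.mono_of_mono_left _
  haveI : IsMonHom φ.hom := by
    haveI : IsMonHom (φ.hom ≫ i') := by
      rw [hφ]; exact H21Diag.isMonHom_map π j
    exact H21Diag.isMonHom_of_comp_mono φ.hom i'
  have hUt : Red.IsTorus (Red.bc π U) := by
    obtain ⟨S₁, g, hg, hgs, hgc, hloc⟩ := hT'
    exact ⟨S₁, g, hg, hgs, hgc, fun s => by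
      obtain ⟨W, hW, r, ⟨e⟩⟩ := hloc s
      exact ⟨W, hW, r, ⟨H21Diag.bcMapIso _ (Grp.mkIso' φ) ≪≫ e⟩⟩⟩
  have hU : Red.IsTorus U := by
    obtain ⟨S₁, g, hg, hgs, hgc, hloc⟩ := id hUt
    haveI := hg
    haveI := hgs
    exact ⟨S₁, g ≫ π, inferInstance, inferInstance, H21Diag.comp_cover π g hcov hgc, fun s => by
      obtain ⟨W, hW, r, hr⟩ := hloc s
      obtain ⟨e⟩ := hr
      exact ⟨W, hW, r, ⟨H21Diag.bcCongrIso (Category.assoc _ _ _).symm U ≪≫
        H21Diag.bcCompIso (W.ι ≫ g) π U ≪≫ e⟩⟩⟩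
  have hmax : Red.IsMaximalTorus j := H21Diag.isMaximalTorus_of_bc j hU π hsurj (by
    rw [← hφ]; exact isMaximalTorus_precomp_iso φ hUt hi')
  exact ⟨U, gU, j, hmax, fun R _ u _ _ hR => H21Diag.exists_le_maxTorus hmax u hR fun X x g => points_comm _ _⟩

end Groth.Agent.S4139
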