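import Groth.Statements.S4140
import Groth.Agent.S5334

set_option autoImplicit false
universe u
open CategoryTheory MonoidalCategory CartesianMonoidalCategory MonObj GrpObj AlgebraicGeometry CategoryTheory.Limits
open SGA3

set_option backward.isDefEq.respectTransparency false

namespace Groth.Agent.S4140

/-- Let G be an S-group scheme locally of finite presentation over S such that s ↦ dim G_s is locally
constant, and σ, τ two S-points of G with values in the neutral component G⁰ (their images lie in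
the union of the neutral components of the fibres). Then the subscheme of coincidences of σ and τ
(the pullback of the diagonal of G along (σ, τ)) is a closed subscheme of S. -/
theorem result (S : Scheme.{u}) (G : Over S) [GrpObj G]
    [LocallyOfFinitePresentation G.hom]
    (hdim : IsLocallyConstant (fun s : S => topologicalKrullDim ↥(G.hom.base ⁻¹' {s})))
    (σ τ : 𝟙_ (Over S) ⟶ G) (hσ : Set.range σ.left.base ⊆ SGA3x.neutralSet G)
    (hτ : Set.range τ.left.base ⊆ SGA3x.neutralSet G) :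
    IsClosedImmersion (pullback.fst (lift σ τ) (lift (𝟙 G) (𝟙 G))).left := by
  let a : AlgGrp.Action G G := ⟨μ[G], MonObj.one_mul G, MonObj.mul_assoc G⟩
  let c := (pullback.fst (lift σ τ) (lift (𝟙 G) (𝟙 G))).left
  let e : S ⟶ G.left := η[G].left
  haveI : IsPreimmersion c := by
    have hd : (lift (𝟙 G) (𝟙 G)).left = pullback.diagonal G.hom := by
      refine pullback.hom_ext ?_ ?_
      · exact (congrArg Over.Hom.left (lift_fst (𝟙 G) (𝟙 G))).trans (pullback.diagonal_fst _).symm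
      · exact (congrArg Over.Hom.left (lift_snd (𝟙 G) (𝟙 G))).trans (pullback.diagonal_snd _).symm
    have hdi : IsImmersion (lift (𝟙 G) (𝟙 G)).left := by
      rw [hd]; exact inferInstanceAs (IsImmersion (pullback.diagonal G.hom))
    haveI : IsImmersion c := MorphismProperty.of_isPullback (P := @IsImmersion)
      ((IsPullback.of_hasPullback (lift σ τ) (lift (𝟙 G) (𝟙 G))).map (Over.forget S)).flip hdi
    infer_instance
  refine IsClosedImmersion.iff_isPreimmersion.mpr ⟨‹IsPreimmersion c›, ?_⟩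
  rw [← isOpen_compl_iff, isOpen_iff_forall_mem_open]
  intro (s₀ : S) hs₀
  obtain ⟨U, hU, heU, -⟩ :=
    exists_isAffineOpen_mem_and_subset (X := G.left) (x := e s₀) (U := ⊤) trivial
  haveI : IsAffine U.toScheme := hU
  obtain ⟨V, hV, hVsep⟩ := S5334.result S G G hdim a U inferInstance
  let S' : S.Opens := e ⁻¹ᵁ U
  let T : Over S := Over.mk S'.ι
  let j : T ⟶ 𝟙_ (Over S) := Over.homMk S'.ι (Category.comp_id _)
  let V' : Over S := Over.mk (V.ι ≫ G.hom)
  let iV : V' ⟶ G := Over.homMk V.ι rfl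
  haveI : IsSeparated V'.hom := hVsep
  haveI : Mono iV := Over.mono_of_mono_left _
  have hmem : ∀ x : G.left, x ∈ SGA3x.neutralSet G → G.hom x ∈ S' → x ∈ (V : Set G.left) := by
    intro x hx hxS
    rw [hV]
    refine ⟨(lift (𝟙 G) (toUnit G ≫ η[G])).left x, ⟨?_, ?_⟩, ?_⟩
    · rw [← Scheme.Hom.comp_apply, ← Over.comp_left, lift_fst]
      exact hx
    · rw [← Scheme.Hom.comp_apply, ← Over.comp_left, lift_snd]
      exact hxS
    · rw [← Scheme.Hom.comp_apply, ← Over.comp_left, show lift (𝟙 G) (toUnit G ≫ η[G]) ≫ a.act = 𝟙 G from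
        MonObj.lift_comp_one_right _ _]
      rfl
  have hfac : ∀ ρ : 𝟙_ (Over S) ⟶ G, Set.range ρ.left ⊆ SGA3x.neutralSet G → ∃ ρ' : T ⟶ V', ρ' ≫ iV = j ≫ ρ := by
    intro ρ hρ
    have hr : Set.range (j ≫ ρ).left ⊆ Set.range V.ι := by
      rintro _ ⟨t, rfl⟩
      rw [V.range_ι]
      refine hmem _ (hρ ⟨S'.ι t, rfl⟩) ?_
      rw [← Scheme.Hom.comp_apply, Over.w (j ≫ ρ)]
      exact t.2
    exact ⟨Over.homMk (IsOpenImmersion.lift V.ι (j ≫ ρ).left hr)
      (by show _ ≫ V.ι ≫ G.hom = _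
          rw [IsOpenImmersion.lift_fac_assoc, Over.w]), Over.OverMorphism.ext (IsOpenImmersion.lift_fac _ _ _)⟩
  obtain ⟨σ', hσ'⟩ := hfac σ hσ
  obtain ⟨τ', hτ'⟩ := hfac τ hτ
  let q := equalizer.ι σ' τ'
  have hq : IsClosed (Set.range q.left) := q.left.isClosedEmbedding.isClosed_range
  refine ⟨(S' : Set S) ∩ (S'.ι '' Set.range q.left)ᶜ, ?_, ?_, ⟨heU, ?_⟩⟩
  · rintro s ⟨hsS, hsq⟩ ⟨z, rfl⟩
    let P := pullback (lift σ τ) (lift (𝟙 G) (𝟙 G))
    let O : P.left.Opens := c ⁻¹ᵁ S'
    let P' : Over S := Over.mk (O.ι ≫ P.hom)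
    let o : P' ⟶ P := Over.homMk O.ι rfl
    let r : P' ⟶ T := Over.homMk (c ∣_ S') (by
      show (c ∣_ S') ≫ S'.ι = O.ι ≫ P.hom
      rw [morphismRestrict_ι, ← Over.w (pullback.fst (lift σ τ) (lift (𝟙 G) (𝟙 G)))]
      exact congrArg (_ ≫ ·) (Category.comp_id c).symm)
    have hrj : r ≫ j = o ≫ pullback.fst (lift σ τ) (lift (𝟙 G) (𝟙 G)) :=
      Over.OverMorphism.ext (morphismRestrict_ι c S')
    have hfst : pullback.fst (lift σ τ) (lift (𝟙 G) (𝟙 G)) ≫ σ = pullback.fst _ _ ≫ τ := by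
      have h1 := congrArg (· ≫ fst G G) (pullback.condition (f := lift σ τ) (g := lift (𝟙 G) (𝟙 G)))
      have h2 := congrArg (· ≫ snd G G) (pullback.condition (f := lift σ τ) (g := lift (𝟙 G) (𝟙 G)))
      simp only [Category.assoc, lift_fst, lift_snd] at h1 h2
      exact h1.trans h2.symm
    have heq : r ≫ σ' = r ≫ τ' := by
      rw [← cancel_mono iV, Category.assoc, Category.assoc, hσ', hτ', ← Category.assoc, ← Category.assoc, hrj,
        Category.assoc, Category.assoc, hfst]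
    refine hsq ⟨(c ∣_ S') ⟨z, hsS⟩, ⟨(equalizer.lift r heq).left ⟨z, hsS⟩,
      congrArg (fun m : P'.left ⟶ T.left => m ⟨z, hsS⟩) (congrArg Over.Hom.left (equalizer.lift_ι r heq))⟩, ?_⟩
    exact congrArg (fun m : O.toScheme ⟶ S => m ⟨z, hsS⟩) (morphismRestrict_ι c S')
  · have hi : (S' : Set S) ∩ (S'.ι '' Set.range q.left)ᶜ = S'.ι '' (Set.range q.left)ᶜ := by
      rw [Set.image_compl_eq_range_diff_image S'.ι.isOpenEmbedding.injective, S'.range_ι]
      rfl
    rw [hi]
    exact S'.ι.isOpenMap _ hq.isOpen_compl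
  · rintro ⟨_, ⟨w, rfl⟩, hw⟩
    have heq : (q ≫ j) ≫ lift σ τ = ((q ≫ j) ≫ σ) ≫ lift (𝟙 G) (𝟙 G) := by
      rw [comp_lift, comp_lift, Category.comp_id]
      congr 1
      rw [Category.assoc, Category.assoc, ← hσ', ← hτ', ← Category.assoc, ← Category.assoc]
      exact congrArg (· ≫ iV) (equalizer.condition σ' τ').symm
    exact hs₀ ⟨(pullback.lift _ _ heq).left w, (congrArg (fun m : _ ⟶ S => m w)
      (congrArg Over.Hom.left (pullback.lift_fst _ _ heq))).trans hw⟩

end Groth.Agent.S4140
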