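import Groth.Statements.S4141
import Groth.Agent.H19Chev.FieldBasic

set_option autoImplicit false
set_option maxHeartbeats 1000000
set_option synthInstance.maxHeartbeats 100000
set_option linter.style.haveILetI false
set_option backward.isDefEq.respectTransparency false
universe u
open CategoryTheory MonoidalCategory CartesianMonoidalCategory MonObj GrpObj AlgebraicGeometry CategoryTheory.Limits
open SGA3

namespace Groth.Agent.S4141

open CategoryTheory.Limits MonObj
open Groth.Agent Groth.Agent.H25AbCube Groth.Agent.H19Quot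


/-- Let k be a perfect field and G a smooth connected algebraic group over k. Then there is an affine,
smooth, connected closed subgroup scheme L of G, normal in G, such that the quotient G/L is an
abelian variety: there is a surjective flat homomorphism q : G → Q with kernel L onto a proper,
smooth, connected k-group scheme Q. Moreover L is unique: any affine smooth connected normal closed
subgroup with proper smooth connected quotient coincides with L. -/
theorem result (k : Type u) [Field k] [PerfectField k]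
    (G : Over (Spec (CommRingCat.of k))) [GrpObj G] [Smooth G.hom] [QuasiCompact G.hom] [ConnectedSpace ↥G.left] :
    ∃ (L : Over (Spec (CommRingCat.of k))) (_ : GrpObj L) (l : L ⟶ G) (Q : Over (Spec (CommRingCat.of k))) (_ : GrpObj Q)
      (q : G ⟶ Q), IsMonHom l ∧ IsClosedImmersion l.left ∧ IsAffine L.left ∧ Smooth L.hom ∧ ConnectedSpace ↥L.left ∧
      AlgGrp.IsNormalHom l ∧ IsMonHom q ∧ Surjective q.left ∧ Flat q.left ∧ AlgGrp.IsKernel l q ∧
      IsProper Q.hom ∧ Smooth Q.hom ∧ ConnectedSpace ↥Q.left ∧
      ∀ (L' : Over (Spec (CommRingCat.of k))) [GrpObj L'] (l' : L' ⟶ G) (Q' : Over (Spec (CommRingCat.of k))) [GrpObj Q']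
        (q' : G ⟶ Q'), IsMonHom l' → IsClosedImmersion l'.left → IsAffine L'.left → Smooth L'.hom → ConnectedSpace ↥L'.left →
        AlgGrp.IsNormalHom l' → IsMonHom q' → Surjective q'.left → Flat q'.left → AlgGrp.IsKernel l' q' →
        IsProper Q'.hom → Smooth Q'.hom → ConnectedSpace ↥Q'.left → ∃ φ : L' ≅ L, φ.hom ≫ l = l' := by
  obtain ⟨L, gL, l, Q, gQ, q, hl, hlc, hLa, hLn, hnorm, hq, hqs, hqf, hqp, hk, hQp, hQs, hQn, hLs⟩ :=
    H19Chev.exists_chevalley_field G
  haveI := hl; haveI := hlc; haveI := hLa; haveI := hLn; haveI := hq; haveI := hQp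
  haveI : Smooth L.hom := hLs inferInstance
  refine ⟨L, gL, l, Q, gQ, q, hl, hlc, hLa, inferInstance, hLn, hnorm, hq, hqs, hqf, hk, hQp, hQs, hQn, ?_⟩
  intro L' gL' l' Q' gQ' q' hl' hlc' hLa' hLs' hLn' hnorm' hq' hqs' hqf' hk' hQp' hQs' hQn'
  haveI := hl'; haveI := hlc'; haveI := hLa'; haveI := hLs'; haveI := hLn'; haveI := hq'; haveI := hQp'
  obtain ⟨a, ha⟩ := H19Grp.kernel_lift hk l' (H19Chev.eq_one_of_affine_to_proper_field (l' ≫ q))
  obtain ⟨b, hb⟩ := H19Grp.kernel_lift hk' l (H19Chev.eq_one_of_affine_to_proper_field (l ≫ q'))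
  haveI : Mono l := H19Grp.kernel_mono hk
  haveI : Mono l' := H19Grp.kernel_mono hk'
  exact ⟨⟨a, b, by rw [← cancel_mono l', Category.assoc, hb, ha, Category.id_comp],
    by rw [← cancel_mono l, Category.assoc, ha, hb, Category.id_comp]⟩, ha⟩

end Groth.Agent.S4141
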