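import Groth.Statements.S4143
import Groth.Agent.H02CA.QuotThick.Main

set_option autoImplicit false
universe u
open CategoryTheory MonoidalCategory CartesianMonoidalCategory MonObj GrpObj AlgebraicGeometry CategoryTheory.Limits
open GrpQ

namespace Groth.Agent.S4143

/-- Let A be a ring and (U, R, s, t, c) a groupoid scheme over Spec A which is an equivalence relation
((t, s) a monomorphism) with s and t surjective, flat and of finite presentation. Let c₀ : U₀ → U be
a closed subscheme defined by a nilpotent ideal (a finite order thickening) which is saturated: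
s⁻¹(U₀) and t⁻¹(U₀) are the same subscheme R₀ of R. If the induced equivalence relation R₀ ⇉ U₀ has
an fppf quotient scheme (a surjective flat locally finitely presented p₀ : U₀ → Y₀ with R₀ ≅ U₀
×_{Y₀} U₀), then so does R ⇉ U. -/
theorem result (A : Type u) [CommRing A] (G : Grpd.GroupoidScheme (Spec (CommRingCat.of A)))
    [Mono G.j] [Surjective G.s] [Flat G.s] [LocallyOfFinitePresentation G.s] [QuasiCompact G.s] [QuasiSeparated G.s]
    [Surjective G.t] [Flat G.t] [LocallyOfFinitePresentation G.t] [QuasiCompact G.t] [QuasiSeparated G.t]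
    (U₀ : Scheme.{u}) (c₀ : U₀ ⟶ G.U) (hc : MoreMor.IsFiniteOrderThickening c₀)
    (ψ : pullback G.s c₀ ≅ pullback G.t c₀) (hψ : ψ.hom ≫ pullback.fst G.t c₀ = pullback.fst G.s c₀)
    (h₀ : ∃ (Y₀ : Scheme.{u}) (p₀ : U₀ ⟶ Y₀), Surjective p₀ ∧ Flat p₀ ∧ LocallyOfFinitePresentation p₀ ∧
      IsPullback (ψ.hom ≫ pullback.snd G.t c₀) (pullback.snd G.s c₀) p₀ p₀) :
    ∃ (Y : Scheme.{u}) (p : G.U ⟶ Y), Surjective p ∧ Flat p ∧ LocallyOfFinitePresentation p ∧ IsPullback G.t G.s p p := by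
  obtain ⟨Y₀, p₀, hp₀s, hp₀f, hp₀p, sq₀⟩ := h₀
  obtain ⟨⟨hcc, hcs⟩, -⟩ := hc
  have := hp₀s
  have := hp₀f
  have := hp₀p
  have := hcc
  have := hcs
  have hψ' : ∀ {Z : Scheme.{u}} (k : G.U ⟶ Z),
      (ψ.hom ≫ pullback.snd G.t c₀) ≫ c₀ ≫ k = pullback.fst G.s c₀ ≫ G.t ≫ k := by
    intro Z k
    rw [← hψ, Category.assoc, ← pullback.condition_assoc, Category.assoc]
  have hbase : (ψ.hom ≫ pullback.snd G.t c₀) ≫ c₀ ≫ G.pU = pullback.snd G.s c₀ ≫ c₀ ≫ G.pU := by
    rw [hψ', ← pullback.condition_assoc, G.t_over, G.s_over]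
  let d := EffectiveEpi.desc p₀ (c₀ ≫ G.pU) (fun {W} g₁ g₂ hg => by
    obtain ⟨z, rfl, rfl⟩ := sq₀.exists_lift g₁ g₂ hg
    simp only [Category.assoc] at hbase ⊢
    rw [hbase])
  have hd : p₀ ≫ d = c₀ ≫ G.pU := EffectiveEpi.fac p₀ _ _
  let s : Over.mk G.pR ⟶ Over.mk G.pU := Over.homMk G.s G.s_over
  let t : Over.mk G.pR ⟶ Over.mk G.pU := Over.homMk G.t G.t_over
  let R₀ : Over (Spec (CommRingCat.of A)) := Over.mk (pullback.snd G.s c₀ ≫ c₀ ≫ G.pU)
  have heq : AlgSp.IsEqvRel s t := by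
    refine ⟨fun T r r' h₁ h₂ => Over.OverMorphism.ext ((cancel_mono G.j).1 ?_), fun T => ⟨?_, ?_, ?_⟩⟩
    · apply pullback.hom_ext
      · rw [Category.assoc, Category.assoc, Grpd.GroupoidScheme.j]
        simp only [pullback.lift_fst, pullback.lift_snd]
        exact congrArg (·.left) h₁
      · rw [Category.assoc, Category.assoc, Grpd.GroupoidScheme.j]
        simp only [pullback.lift_fst, pullback.lift_snd]
        exact congrArg (·.left) h₂
    · intro x
      refine ⟨x ≫ Over.homMk G.e (by simp [← G.s_over, reassoc_of% G.e_s]), ?_, ?_⟩ <;>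
        exact Over.OverMorphism.ext (by simp [s, t, G.e_s, G.e_t])
    · rintro x z ⟨r, rfl, rfl⟩
      refine ⟨r ≫ Over.homMk G.i (by simp [← G.s_over, reassoc_of% G.i_s]; rw [G.t_over, G.s_over]), ?_, ?_⟩ <;>
        exact Over.OverMorphism.ext (by simp [s, t, G.i_s, G.i_t])
    · rintro x z w ⟨r, rfl, rfl⟩ ⟨r', h₁, rfl⟩
      have hh : r.left ≫ G.s = r'.left ≫ G.t := (congrArg (·.left) h₁).symm
      refine ⟨Over.homMk (pullback.lift r.left r'.left hh ≫ G.c) ?_, ?_, ?_⟩
      · show (_ ≫ G.c) ≫ G.pR = _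
        refine (congrArg (_ ≫ ·) G.s_over.symm).trans ?_
        rw [← Category.assoc, G.comp_s, Category.assoc, G.s_over]
        exact Over.w r'
      · exact Over.OverMorphism.ext (G.comp_t _ _ hh)
      · exact Over.OverMorphism.ext (G.comp_s _ _ hh)
  let U₀' : Over (Spec (CommRingCat.of A)) := Over.mk (c₀ ≫ G.pU)
  let a : R₀ ⟶ Over.mk G.pR := Over.homMk (pullback.fst G.s c₀) (by simp [R₀, ← G.s_over, pullback.condition_assoc])
  let l : R₀ ⟶ U₀' := Over.homMk (ψ.hom ≫ pullback.snd G.t c₀) hbase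
  let r : R₀ ⟶ U₀' := Over.homMk (pullback.snd G.s c₀) rfl
  let c : U₀' ⟶ Over.mk G.pU := Over.homMk c₀ rfl
  let p : U₀' ⟶ Over.mk d := Over.homMk p₀ hd
  have : IsClosedImmersion c.left := hcc
  have : Surjective c.left := hcs
  have : Surjective p.left := hp₀s
  have : Flat p.left := hp₀f
  have : LocallyOfFinitePresentation p.left := hp₀p
  have : Flat s.left := ‹Flat G.s›
  have : LocallyOfFinitePresentation s.left := ‹LocallyOfFinitePresentation G.s›
  obtain ⟨Y, q, ⟨⟨hq₁, hq₂⟩, hq₃⟩, sq⟩ :=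
    Groth.Agent.H02CA.QuotThick.exists_quotient_of_saturated_thickening heq c p a l r
      (IsPullback.of_map (Over.forget _) (Over.OverMorphism.ext pullback.condition) (IsPullback.of_hasPullback G.s c₀))
      (Over.OverMorphism.ext (by
        show pullback.fst G.s c₀ ≫ G.t = (ψ.hom ≫ pullback.snd G.t c₀) ≫ c₀
        rw [← hψ, Category.assoc, Category.assoc, pullback.condition]))
      (IsPullback.of_map (Over.forget _) (Over.OverMorphism.ext sq₀.w) sq₀)
  exact ⟨Y.left, q.left, hq₁, hq₂, hq₃, sq⟩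

end Groth.Agent.S4143
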