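import Groth.Statements.S4149
import Groth.Agent.LeadTorus.NilpMult

set_option autoImplicit false
universe u
open CategoryTheory MonoidalCategory CartesianMonoidalCategory MonObj GrpObj AlgebraicGeometry CategoryTheory.Limits
open SGA3x

namespace Groth.Agent.S4149

/-- Let G be an affine, connected algebraic group over a field k which is nilpotent (for some n the n-th
term of the lower central series of G(X) is trivial for every k-scheme X). Then G has a largest
subgroup of multiplicative type M — a closed subgroup scheme of multiplicative type and of finite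
type through which every such subgroup factors — and M is central in G. (The source adds that M is
characteristic and G/M unipotent.) -/
theorem result (k : Type u) [Field k] (G : Over (Spec (CommRingCat.of k)))
    [GrpObj G] [IsAffine G.left] [LocallyOfFiniteType G.hom] [ConnectedSpace ↥G.left]
    (hnil : ∃ n : ℕ, ∀ X : Over (Spec (CommRingCat.of k)), (⊤ : Subgroup (X ⟶ G)).lowerCentralSeries n = ⊥) :
    ∃ (M : Over (Spec (CommRingCat.of k))) (_ : GrpObj M) (m : M ⟶ G), IsMonHom m ∧ IsClosedImmersion m.left ∧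
      SGA3x.IsMultTypeFT M ∧
      (∀ (M' : Over (Spec (CommRingCat.of k))) [GrpObj M'] (m' : M' ⟶ G) [IsMonHom m'] [Mono m'],
        SGA3x.IsMultTypeFT M' → ∃ f : M' ⟶ M, f ≫ m = m') ∧
      ∀ (X : Over (Spec (CommRingCat.of k))) (x : X ⟶ M) (g : X ⟶ G), (x ≫ m) * g = g * (x ≫ m) := by
  obtain ⟨n, hn⟩ := hnil
  obtain ⟨M, gM, m, hm, hmono, hmc, hMt, hcen, huniv⟩ := Groth.Agent.H21RCentre.exists_reductiveCentre G
  letI := gM
  refine ⟨M, gM, m, hm, hmc, hMt, fun M' _ m' _ _ hM' => ?_, hcen⟩
  haveI : IsSeparated G.hom := inferInstance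
  haveI := Groth.Agent.H21Diag.isMonHom_map (𝟙 (Spec (CommRingCat.of k))) m'
  obtain ⟨w, hw⟩ := huniv _ (𝟙 _) (Red.bc (𝟙 _) M') ((Over.pullback (𝟙 _)).map m')
    (Groth.Agent.H21Diag.isMultTypeFT_bc hM' (𝟙 _)) fun X x g => by
      apply (Groth.Agent.H21Diag.bcEquiv (𝟙 (Spec (CommRingCat.of k))) G X).symm.injective
      rw [Groth.Agent.H21Diag.bcEquiv_symm_mul, Groth.Agent.H21Diag.bcEquiv_symm_mul,
        show (Groth.Agent.H21Diag.bcEquiv (𝟙 (Spec (CommRingCat.of k))) G X).symm
            (x ≫ (Over.pullback (𝟙 _)).map m') =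
          (Groth.Agent.H21Diag.bcEquiv (𝟙 (Spec (CommRingCat.of k))) M' X).symm x ≫ m' from
          (Over.mapPullbackAdj _).homEquiv_naturality_right_symm x m']
      exact Groth.Agent.LeadTorus.central_of_nilpotent hn hM' m' _ _ _
  haveI : IsIso (Groth.Agent.H21Diag.bcIdHom M') := inferInstance
  refine ⟨inv (Groth.Agent.H21Diag.bcIdHom M') ≫ w ≫ Groth.Agent.H21Diag.bcIdHom M, ?_⟩
  have hnat : ∀ {A : Over (Spec (CommRingCat.of k))} [GrpObj A] (v : A ⟶ G),
      (Over.pullback (𝟙 _)).map v ≫ Groth.Agent.H21Diag.bcIdHom G = Groth.Agent.H21Diag.bcIdHom A ≫ v :=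
    fun v => Over.OverMorphism.ext (Limits.pullback.lift_fst _ _ _)
  rw [Category.assoc, Category.assoc, ← hnat m, reassoc_of% hw, hnat m', IsIso.inv_hom_id_assoc]

end Groth.Agent.S4149
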