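import Groth.Statements.S4150
import Groth.Agent.H19Quot.AbelianCat

set_option autoImplicit false
set_option maxHeartbeats 1000000
set_option synthInstance.maxHeartbeats 100000
set_option linter.style.haveILetI false
set_option backward.isDefEq.respectTransparency false
universe u
open CategoryTheory MonoidalCategory CartesianMonoidalCategory MonObj GrpObj AlgebraicGeometry CategoryTheory.Limits
open SGA3

namespace Groth.Agent.S4150

/-- Let k be a field. The category of commutative algebraic k-groups (commutative group objects in
k-schemes whose underlying scheme is of finite type over k, as a full subcategory of commutative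
group objects over Spec k) is an abelian category. -/
theorem result (k : Type u) [Field k] :
    Nonempty (Abelian (ObjectProperty.FullSubcategory
      (fun G : CommGrp (Over (Spec (CommRingCat.of k))) => LocallyOfFiniteType G.X.hom ∧ QuasiCompact G.X.hom))) := by
  refine H19Quot.AbelianCat.nonempty_abelian (P := fun G : CommGrp (Over (Spec (CommRingCat.of k))) =>
    LocallyOfFiniteType G.X.hom ∧ QuasiCompact G.X.hom) ⟨fun A h => ⟨h.1, h.2⟩, ?_, ?_, ?_, ?_⟩
  · constructor
    · show LocallyOfFiniteType (𝟙 _); infer_instance
    · show QuasiCompact (𝟙 _); infer_instance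
  · intro A B hA hB
    haveI := hA.1; haveI := hA.2; haveI := hB.1; haveI := hB.2
    constructor
    · show LocallyOfFiniteType (pullback.fst A.X.hom B.X.hom ≫ A.X.hom); infer_instance
    · show QuasiCompact (pullback.fst A.X.hom B.X.hom ≫ A.X.hom); infer_instance
  · intro A B i _ _ hB
    obtain ⟨h₁, h₂⟩ := H19Quot.AbelianCat.isFT_of_closed i ⟨hB.1, hB.2⟩
    exact ⟨h₁, h₂⟩
  · intro A B p _ _ _ _ hA
    obtain ⟨h₁, h₂⟩ := H19Quot.AbelianCat.isFT_of_fppf p ⟨hA.1, hA.2⟩
    exact ⟨h₁, h₂⟩

end Groth.Agent.S4150
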