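import Groth.Statements.S4183
import Groth.Agent.H05EGA4.An.Pts

set_option autoImplicit false
open CategoryTheory AlgebraicGeometry Topology TopologicalSpace
open An

open Groth.Agent.H05EGA4 Topology CategoryTheory
namespace Groth.Agent.S4183

/-- For affine n-space over ℂ, the map sending a ℂ-point to the values of the n coordinate functions is
a homeomorphism from its space of ℂ-points, with the complex topology of this problem, onto ℂ^n with
its usual topology. -/
theorem result (n : ℕ) :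
    IsHomeomorph (fun (x : An.Pts (𝔸(Fin n; An.SC))) (i : Fin n) => x.evTop (AffineSpace.coord An.SC i)) := by
  let s : Fin n → Γ(𝔸(Fin n; An.SC), ⊤) := AffineSpace.coord An.SC
  let str := (𝔸(Fin n; An.SC) ↘ An.SC).appTop
  have h1 : Function.Surjective (MvPolynomial.eval₂Hom str.hom s) := fun a => by
    obtain ⟨b, hb⟩ : ∃ b, (AffineSpace.isoOfIsAffine (Fin n) An.SC).hom.appTop b = a :=
      ⟨(AffineSpace.isoOfIsAffine (Fin n) An.SC).inv.appTop a, by
        rw [← CommRingCat.comp_apply, ← Scheme.Hom.comp_appTop, Iso.hom_inv_id, Scheme.Hom.id_appTop]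
        rfl⟩
    refine ⟨(Scheme.ΓSpecIso _).hom b, ?_⟩
    rw [← hb, AffineSpace.isoOfIsAffine_hom_appTop]
    rfl
  have hs : Function.Surjective (MvPolynomial.eval₂Hom (An.strHom 𝔸(Fin n; An.SC)) s) := fun a => by
    obtain ⟨P, rfl⟩ := h1 a
    obtain ⟨Q, rfl⟩ := MvPolynomial.map_surjective (σ := Fin n) (Scheme.ΓSpecIso (CommRingCat.of ℂ)).inv.hom
      (ConcreteCategory.bijective_of_isIso (Scheme.ΓSpecIso (CommRingCat.of ℂ)).inv).2 P
    exact ⟨Q, (MvPolynomial.eval₂_map _ _ _ _).symm⟩
  have hemb := AnPts.isClosedEmbedding_evTop s hs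
  refine isHomeomorph_iff_isEmbedding_surjective.mpr ⟨hemb.isEmbedding, fun z => ?_⟩
  refine ⟨⟨AffineSpace.homOfVector (𝟙 An.SC) (fun i => (Scheme.ΓSpecIso (CommRingCat.of ℂ)).inv (z i)),
    AffineSpace.homOfVector_over _ _⟩, funext fun i => ?_⟩
  refine (AnPts.evTop_eq _ _).trans ?_
  refine (congrArg (Scheme.ΓSpecIso (CommRingCat.of ℂ)).hom (AffineSpace.homOfVector_appTop_coord _ _ i)).trans ?_
  exact (Scheme.ΓSpecIso (CommRingCat.of ℂ)).commRingCatIsoToRingEquiv.apply_symm_apply (z i)

end Groth.Agent.S4183
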