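import Groth.Statements.S4185
import Groth.Agent.H05EGA4.An.Pts

set_option autoImplicit false
open CategoryTheory AlgebraicGeometry Topology TopologicalSpace
open An

open Groth.Agent.H05EGA4 Topology CategoryTheory
namespace Groth.Agent.S4185

/-- For X locally of finite type over ℂ the space X(ℂ) with its complex topology is locally compact. -/
theorem result (X : Scheme.{0}) [X.Over An.SC] [LocallyOfFiniteType (X ↘ An.SC)] :
    LocallyCompactSpace (An.Pts X) := by
  constructor
  intro x s hs
  obtain ⟨U, hU, hxU, -⟩ := exists_isAffineOpen_mem_and_subset (x := x.pt) (U := (⊤ : X.Opens)) trivial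
  letI : U.toScheme.Over An.SC := ⟨U.ι ≫ X ↘ An.SC⟩
  haveI : U.ι.IsOver An.SC := ⟨rfl⟩
  haveI : IsAffine U.toScheme := hU
  haveI : LocallyOfFiniteType (U.toScheme ↘ An.SC) := inferInstanceAs (LocallyOfFiniteType (U.ι ≫ X ↘ An.SC))
  obtain ⟨n, g, hg⟩ := AnPts.exists_generators (X := U.toScheme)
  haveI : LocallyCompactSpace (An.Pts U.toScheme) := (AnPts.isClosedEmbedding_evTop g hg).locallyCompactSpace
  have hι := AnPts.isOpenEmbedding_map U.ι
  obtain ⟨y, rfl⟩ : x ∈ Set.range (An.Pts.map U.ι) := by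
    rw [AnPts.range_map U.ι U.ι.isOpenEmbedding.injective]
    show x.pt ∈ Set.range U.ι
    rw [Scheme.Opens.range_ι]
    exact hxU
  obtain ⟨k, hk, hks, hkc⟩ := local_compact_nhds (hι.continuous.continuousAt.preimage_mem_nhds hs)
  exact ⟨An.Pts.map U.ι '' k, hι.isOpenMap.image_mem_nhds hk, Set.image_subset_iff.mpr hks, hkc.image hι.continuous⟩

end Groth.Agent.S4185
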