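import Groth.Statements.S4203
import Groth.Agent.H05EGA4.An.Proper

set_option autoImplicit false
open CategoryTheory AlgebraicGeometry Topology TopologicalSpace
open An

open Groth.Agent.H05EGA4 Topology CategoryTheory
namespace Groth.Agent.S4203

/-- Let f : X → Y be quasi-compact with X, Y locally of finite type over ℂ. Then f is finite if and only
if X(ℂ) → Y(ℂ) is proper (universally closed), separated and has finite fibres. -/
theorem result (X Y : Scheme.{0}) [X.Over An.SC] [LocallyOfFiniteType (X ↘ An.SC)]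
    [Y.Over An.SC] [LocallyOfFiniteType (Y ↘ An.SC)] (f : X ⟶ Y) [f.IsOver An.SC] [QuasiCompact f] :
    IsFinite f ↔ IsProperMap (An.Pts.map f) ∧ IsSeparatedMap (An.Pts.map f) ∧
      ∀ y : An.Pts Y, (An.Pts.map f ⁻¹' {y}).Finite := by
  constructor
  · intro _
    refine ⟨AnPts.isProperMap_map f, (AnPts.isSeparated_iff f).mp inferInstance, fun y => ?_⟩
    refine ((f.finite_preimage_singleton y.pt).preimage AnPts.pt_injective.injOn).subset fun x hx => ?_
    show f x.pt = y.pt
    rw [← An.Pts.pt_map, show An.Pts.map f x = y from hx]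
  · rintro ⟨h1, h2, h3⟩
    haveI := AnPts.isProper_of_isProperMap f h1 h2
    haveI : LocallyQuasiFinite f := by
      rw [← Scheme.Hom.quasiFiniteLocus_eq_top_iff]
      ext1
      refine Set.eq_univ_of_forall fun p => ?_
      by_contra hp
      obtain ⟨x, hx⟩ := AnPts.exists_pts_mem (f.quasiFiniteLocus.2.isClosed_compl).isLocallyClosed ⟨p, hp⟩
      refine hx (Scheme.Hom.quasiFiniteAt_iff_isOpen_singleton_asFiber.mpr ?_)
      have hF : IsClosed (f ⁻¹' {f x.pt} : Set X) :=
        (An.Pts.pt_map f x ▸ AnPts.isClosed_pt (An.Pts.map f x)).preimage f.continuous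
      have hcl : (f ⁻¹' {f x.pt} : Set X) ⊆ An.Pts.pt '' (An.Pts.map f ⁻¹' {An.Pts.map f x}) := by
        haveI : JacobsonSpace X := LocallyOfFiniteType.jacobsonSpace (X ↘ An.SC)
        have hc := JacobsonSpace.closure_inter_closedPoints_eq_closure hF.isLocallyClosed
        rw [hF.closure_eq] at hc
        rw [← hc]
        refine closure_minimal ?_ ?_
        · rintro q ⟨hq, hqc⟩
          obtain ⟨z, rfl⟩ := AnPts.exists_pts (mem_closedPoints_iff.mp hqc)
          refine ⟨z, AnPts.pt_injective ?_, rfl⟩
          rw [An.Pts.pt_map, An.Pts.pt_map]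
          exact hq
        · rw [← Set.biUnion_of_singleton (An.Pts.pt '' (An.Pts.map f ⁻¹' {An.Pts.map f x}))]
          refine ((h3 _).image _).isClosed_biUnion fun q hq => ?_
          obtain ⟨z, -, rfl⟩ := hq
          exact AnPts.isClosed_pt z
      haveI : Finite ↑(f ⁻¹' {f x.pt} : Set X) := (((h3 _).image _).subset hcl).to_subtype
      haveI : T1Space ↑(f ⁻¹' {f x.pt} : Set X) := ⟨fun q => by
        obtain ⟨z, -, hz⟩ := hcl q.2
        have h4 : IsClosed (Subtype.val ⁻¹' ({(q : X)} : Set X) : Set ↑(f ⁻¹' {f x.pt} : Set X)) :=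
          (hz ▸ AnPts.isClosed_pt z).preimage continuous_subtype_val
        convert h4 using 1
        ext w
        simp [Subtype.ext_iff]⟩
      rw [← (f.fiberHomeo (f x.pt)).isOpen_image]
      exact isOpen_discrete _
    exact IsFinite.of_isProper_of_locallyQuasiFinite f

end Groth.Agent.S4203
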