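import Groth.Statements.S4204
import Groth.Agent.H05EGA4.An.Pullback

set_option autoImplicit false
open CategoryTheory AlgebraicGeometry Topology TopologicalSpace
open An

open Groth.Agent.H05EGA4 Topology CategoryTheory
namespace Groth.Agent.S4204

/-- Let X be a scheme locally of finite type over ℂ. Then X is separated over ℂ if and only if X(ℂ) with
the complex topology is Hausdorff. -/
theorem result (X : Scheme.{0}) [X.Over An.SC] [LocallyOfFiniteType (X ↘ An.SC)] :
    IsSeparated (X ↘ An.SC) ↔ T2Space (An.Pts X) := by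
  have hid : (An.SC ↘ An.SC) = 𝟙 An.SC := by
    show Spec.map (CommRingCat.ofHom (algebraMap ℂ ℂ)) = _
    rw [Algebra.algebraMap_self, CommRingCat.ofHom_id, Spec.map_id]
  haveI : LocallyOfFiniteType (An.SC ↘ An.SC) := by rw [hid]; infer_instance
  have hsub : ∀ a : An.Pts An.SC, a.1 = 𝟙 An.SC := fun a =>
    (Category.comp_id a.1).symm.trans ((congrArg (fun m => a.1 ≫ m) hid.symm).trans a.2)
  haveI : (X ↘ An.SC).IsOver An.SC := ⟨by rw [hid]; exact Category.comp_id _⟩
  rw [AnPts.isSeparated_iff (X ↘ An.SC), isSeparatedMap_iff_disjoint_nhds, t2Space_iff_disjoint_nhds]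
  exact ⟨fun h x y hne => h x y (Subsingleton.elim (h := ⟨fun a b => Subtype.ext
      ((hsub a).trans (hsub b).symm)⟩) _ _) hne,
    fun h x y _ hne => h hne⟩

end Groth.Agent.S4204
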