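import Groth.Statements.S4205
import Groth.Agent.H05EGA4.An.Proper

set_option autoImplicit false
open CategoryTheory AlgebraicGeometry Topology TopologicalSpace
open An

open Groth.Agent.H05EGA4 Topology CategoryTheory
namespace Groth.Agent.S4205

/-- Let X be a scheme of finite type over ℂ (locally of finite type and quasi-compact over ℂ, carried as
two instance hypotheses). Then X is proper over ℂ if and only if X(ℂ) with the complex topology is
compact and Hausdorff. -/
theorem result (X : Scheme.{0}) [X.Over An.SC] [LocallyOfFiniteType (X ↘ An.SC)] [QuasiCompact (X ↘ An.SC)] :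
    IsProper (X ↘ An.SC) ↔ CompactSpace (An.Pts X) ∧ T2Space (An.Pts X) := by
  have hid : (An.SC ↘ An.SC) = 𝟙 An.SC := by
    show Spec.map (CommRingCat.ofHom (algebraMap ℂ ℂ)) = _
    rw [Algebra.algebraMap_self, CommRingCat.ofHom_id, Spec.map_id]
  haveI : LocallyOfFiniteType (An.SC ↘ An.SC) := by rw [hid]; infer_instance
  have hsub : ∀ a : An.Pts An.SC, a.1 = 𝟙 An.SC := fun a =>
    (Category.comp_id a.1).symm.trans ((congrArg (fun m => a.1 ≫ m) hid.symm).trans a.2)
  haveI : Subsingleton (An.Pts An.SC) := ⟨fun a b => Subtype.ext ((hsub a).trans (hsub b).symm)⟩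
  haveI : (X ↘ An.SC).IsOver An.SC := ⟨by rw [hid]; exact Category.comp_id _⟩
  have hsep : IsSeparatedMap (An.Pts.map (X ↘ An.SC)) ↔ T2Space (An.Pts X) := by
    rw [isSeparatedMap_iff_disjoint_nhds, t2Space_iff_disjoint_nhds]
    exact ⟨fun h x y hne => h x y (Subsingleton.elim _ _) hne, fun h x y _ hne => h hne⟩
  constructor
  · intro hp
    have h1 := AnPts.isProperMap_map (X ↘ An.SC)
    refine ⟨⟨?_⟩, hsep.mp ((AnPts.isSeparated_iff _).mp inferInstance)⟩
    have h2 := h1.isCompact_preimage (Set.subsingleton_univ (α := An.Pts An.SC)).isCompact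
    rwa [Set.preimage_univ] at h2
  · rintro ⟨hc, h2⟩
    exact AnPts.isProper_of_isProperMap _ (An.Pts.continuous_map _).isProperMap (hsep.mpr h2)

end Groth.Agent.S4205
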