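import Groth.Statements.S4206
import Groth.Agent.H05EGA4.An.Proper
import Groth.Agent.H05EGA4.An.Etale

set_option autoImplicit false
open CategoryTheory AlgebraicGeometry Topology TopologicalSpace
open An

open Groth.Agent.H05EGA4 Topology CategoryTheory
namespace Groth.Agent.S4206

/-- A finite etale morphism f : X → Y of schemes locally of finite type over ℂ (f a ℂ-morphism) induces
a covering map X(ℂ) → Y(ℂ) with finite fibres for the complex topologies. -/
theorem result (X Y : Scheme.{0}) [X.Over An.SC] [LocallyOfFiniteType (X ↘ An.SC)]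
    [Y.Over An.SC] [LocallyOfFiniteType (Y ↘ An.SC)] (f : X ⟶ Y) [f.IsOver An.SC] [IsFinite f] [Etale f] :
    IsCoveringMap (An.Pts.map f) ∧ ∀ y : An.Pts Y, (An.Pts.map f ⁻¹' {y}).Finite := by
  have hfin : ∀ y : An.Pts Y, (An.Pts.map f ⁻¹' {y}).Finite := fun y => by
    refine ((f.finite_preimage_singleton y.pt).preimage AnPts.pt_injective.injOn).subset fun x hx => ?_
    show f x.pt = y.pt
    rw [← An.Pts.pt_map, show An.Pts.map f x = y from hx]
  refine ⟨fun y => ?_, hfin⟩
  obtain ⟨V, hV, hyV, -⟩ := exists_isAffineOpen_mem_and_subset (x := y.pt) (U := (⊤ : Y.Opens)) trivial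
  let s : Set (An.Pts Y) := An.Pts.pt ⁻¹' (V : Set Y)
  have hs : IsOpen s := An.Pts.isOpen_preimage_pt V
  let U : X.Opens := f ⁻¹ᵁ V
  haveI : IsAffine U.toScheme := hV.preimage f
  letI : U.toScheme.Over An.SC := ⟨U.ι ≫ X ↘ An.SC⟩
  haveI : U.ι.IsOver An.SC := ⟨rfl⟩
  haveI : LocallyOfFiniteType (U.toScheme ↘ An.SC) := inferInstanceAs (LocallyOfFiniteType (U.ι ≫ X ↘ An.SC))
  obtain ⟨n, g, hg⟩ := AnPts.exists_generators (X := U.toScheme)
  haveI : T2Space (An.Pts U.toScheme) := (AnPts.isClosedEmbedding_evTop g hg).isEmbedding.t2Space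
  haveI : T2Space ↑(Set.range (An.Pts.map U.ι)) := (AnPts.isEmbedding_map U.ι).toHomeomorph.t2Space
  haveI : T2Space ↑(An.Pts.map f ⁻¹' s) := by
    rw [show An.Pts.map f ⁻¹' s = Set.range (An.Pts.map U.ι) by
      rw [AnPts.range_map U.ι U.ι.isOpenEmbedding.injective, Scheme.Opens.range_ι]
      ext x
      show (An.Pts.map f x).pt ∈ V ↔ f x.pt ∈ V
      rw [An.Pts.pt_map]]
    infer_instance
  have hlh : IsLocalHomeomorph (An.Pts.map f) := AnEtale.etaleLH X Y f
  have hlh' : IsLocalHomeomorph (s.restrictPreimage (An.Pts.map f)) :=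
    IsLocalHomeomorph.of_comp
      (show IsLocalHomeomorph (Subtype.val ∘ s.restrictPreimage (An.Pts.map f)) from
        hlh.comp (hs.preimage hlh.continuous).isOpenEmbedding_subtypeVal.isLocalHomeomorph)
      hs.isOpenEmbedding_subtypeVal.isLocalHomeomorph (hlh.continuous.restrictPreimage)
  refine (IsCoveringMapOn.of_isCoveringMap_restrictPreimage (f := An.Pts.map f) (s := s) hs (hs.preimage hlh.continuous) ?_) y hyV
  rw [isCoveringMap_iff_isCoveringMapOn_univ]
  refine IsClosedMap.isCoveringMapOn_of_isLocalHomeomorphOn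
    ((AnPts.isProperMap_map f).isClosedMap.restrictPreimage s)
    (fun z _ => ?_) hlh'.isLocalHomeomorphOn
  refine ((hfin z.1).preimage Subtype.val_injective.injOn).subset fun x hx => ?_
  exact congrArg Subtype.val hx

end Groth.Agent.S4206
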