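import Groth.Statements.S4208
import Groth.Agent.H05EGA4.An.Lifts
import Groth.Agent.H05EGA4.An.EpsCont

set_option autoImplicit false
open CategoryTheory AlgebraicGeometry Topology TopologicalSpace
open An


namespace Groth.Agent.S4208

set_option backward.isDefEq.respectTransparency.types false

/-- For X locally of finite type over ℂ, the functor U ↦ U(ℂ) from etale X-schemes to spaces over X(ℂ)
is faithful, and it is full towards etale X-schemes V that are separated over X: every continuous
map U(ℂ) → V(ℂ) over X(ℂ) is induced by a unique X-morphism U → V. Finite etale X-schemes are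
separated over X, so this contains the full faithfulness of the passage from finite etale covers of
X to finite covering spaces of X(ℂ). The statement assumes that every etale morphism of schemes
locally of finite type over ℂ induces a local homeomorphism on ℂ-points (this holds and is stated
separately). (The published statement asserts fullness for all etale X-schemes V; its published
proof treats affine, hence separated, V, and fullness is stated here for targets separated over X
only.) -/
theorem result (X : Scheme.{0}) [X.Over An.SC] [LocallyOfFiniteType (X ↘ An.SC)]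
    [Fact An.EtaleLH] :
    (∀ (U V : X.Etale) [IsSeparated (V.left ↘ X)],
        Function.Surjective ((An.eps X).map : (U ⟶ V) → ((An.eps X).obj U ⟶ (An.eps X).obj V))) ∧
      (An.eps X).Faithful := by
  refine ⟨fun U V _ φ => ?_, ⟨fun {U V} {g₁ g₂} h => ?_⟩⟩
  · haveI := Groth.Agent.H05EGA4.AnEpsCont.lft_left X U
    haveI := Groth.Agent.H05EGA4.AnEpsCont.lft_left X V
    haveI : Etale (V.left ↘ X) := V.prop
    obtain ⟨m, hm, hσ⟩ := Groth.Agent.H05EGA4.AnLifts.exists_lift (U.left ↘ X) (V.left ↘ X) φ.toFun φ.continuous φ.over
    refine ⟨MorphismProperty.Over.homMk m hm trivial, An.Cl.hom_ext (funext fun a => Subtype.ext ?_)⟩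
    exact (hσ a).symm
  · haveI := Groth.Agent.H05EGA4.AnEpsCont.lft_left X U
    haveI := Groth.Agent.H05EGA4.AnEpsCont.lft_left X V
    haveI : Etale (V.left ↘ X) := V.prop
    refine MorphismProperty.Over.Hom.ext (Groth.Agent.H05EGA4.AnLifts.hom_eq_of_pts (V.left ↘ X) g₁.left g₂.left
      ((Over.w g₁.hom).trans (Over.w g₂.hom).symm) fun a => ?_)
    exact congrArg Subtype.val (congrFun (congrArg (fun t => t.toFun) h) a)

end Groth.Agent.S4208
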