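import Groth.Statements.S4228
import Groth.Agent.H05EGA4.An.Bertini

set_option autoImplicit false
open CategoryTheory AlgebraicGeometry
universe u
open An

namespace Groth.Agent.S4228

/-- In the affine hyperplane case to which the proof reduces (the published statement is for a
projective scheme V ⊆ P^n_k of pure dimension r and a general linear subspace of any dimension,
parametrised by a dense open subset of the Grassmannian; part (ii), hypersurfaces of degree ≥ 2
through a point, is not stated here): let k be an infinite field (for a finite field the condition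
below on coefficient vectors could hold at no rational point, so the dense-open formulation is
rendered only for infinite k) and A = k[x_1, …, x_n]/I a quotient of the polynomial ring (V = Spec A
⊆ A^n_k) such that every irreducible component of V has dimension r. Then there is a nonzero
polynomial g in the n + 1 coefficients such that for every a = (a_0, …, a_n) with g(a) ≠ 0 the
hyperplane a_0 + Σ a_i x_i = 0 cuts V transversally at every point of the hyperplane section where V
is smooth over k: the section Spec (A/(a_0 + Σ a_i x_i)) is smooth over k of relative dimension r −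
1 on a neighbourhood of each such point. -/
theorem result (k : Type u) [Field k] [Infinite k] (n r : ℕ) (A : Type u) [CommRing A]
    [Algebra k A] (x : Fin n → A)
    (hx : Function.Surjective (MvPolynomial.aeval x : MvPolynomial (Fin n) k →ₐ[k] A))
    (hdim : ∀ P ∈ minimalPrimes A, ringKrullDim (A ⧸ P) = r) :
    ∃ g : MvPolynomial (Fin (n + 1)) k, g ≠ 0 ∧
      ∀ a : Fin (n + 1) → k, MvPolynomial.eval a g ≠ 0 →
        ∀ (q : Ideal (A ⧸ Ideal.span {algebraMap k A (a 0) + ∑ i : Fin n, algebraMap k A (a i.succ) * x i}))
          (_ : q.IsPrime),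
          (∃ f : A, f ∉ q.comap (Ideal.Quotient.mk _) ∧
            Smooth (Spec.map (CommRingCat.ofHom (algebraMap k (Localization.Away f))))) →
          ∃ f : A ⧸ Ideal.span {algebraMap k A (a 0) + ∑ i : Fin n, algebraMap k A (a i.succ) * x i},
            f ∉ q ∧ SmoothOfRelativeDimension (r - 1)
              (Spec.map (CommRingCat.ofHom (algebraMap k (Localization.Away f)))) := by
  classical
  haveI : Algebra.FiniteType k A := Algebra.FiniteType.of_surjective (MvPolynomial.aeval x) hx
  haveI : Algebra.FinitePresentation k A := Algebra.FinitePresentation.of_finiteType.1 inferInstance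
  haveI : IsNoetherianRing A := Algebra.FiniteType.isNoetherianRing k A
  obtain ⟨T, hTS, hTspan⟩ := Submodule.fg_span_iff_fg_span_finset_subset
    {f : A | Algebra.IsStandardSmooth k (Localization.Away f)} |>.1
    (IsNoetherian.noetherian (Ideal.span {f : A | Algebra.IsStandardSmooth k (Localization.Away f)}))
  have main : ∀ f : T, ∃ g : MvPolynomial (Fin (n + 1)) k, g ≠ 0 ∧
      ∀ a : Fin (n + 1) → k, MvPolynomial.eval a g ≠ 0 →
        ∀ q : Ideal A, q.IsPrime → (f : A) ∉ q →
          algebraMap k A (a 0) + ∑ i : Fin n, algebraMap k A (a i.succ) * x i ∈ q →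
          ∃ w, w ∉ q ∧ ∃ (C : Type u) (_ : CommRing C) (_ : Algebra k C)
            (_ : Algebra (A ⧸ Ideal.span {algebraMap k A (a 0) +
              ∑ i : Fin n, algebraMap k A (a i.succ) * x i}) C)
            (_ : IsScalarTower k (A ⧸ Ideal.span {algebraMap k A (a 0) +
              ∑ i : Fin n, algebraMap k A (a i.succ) * x i}) C)
            (_ : IsLocalization.Away (Ideal.Quotient.mk (Ideal.span {algebraMap k A (a 0) +
              ∑ i : Fin n, algebraMap k A (a i.succ) * x i}) w) C),
            RingHom.Locally (RingHom.IsStandardSmoothOfRelativeDimension (r - 1))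
              (algebraMap k C) :=
    fun f => Groth.Agent.H05EGA4.An.Bertini.chart r hdim x hx f (hTS f.2)
  choose g hg0 hg using main
  refine ⟨∏ f, g f, Finset.prod_ne_zero_iff.2 fun f _ => hg0 f, fun a ha q hq hsm => ?_⟩
  rw [map_prod, Finset.prod_ne_zero_iff] at ha
  obtain ⟨f, hf, hsm⟩ := hsm
  rw [HasRingHomProperty.Spec_iff (P := @Smooth)] at hsm
  replace hsm := Algebra.basicOpen_subset_smoothLocus_iff_smooth.2 (RingHom.smooth_algebraMap.1 hsm)
  set q' := q.comap (Ideal.Quotient.mk _) with hq'
  haveI : q'.IsPrime := hq.comap _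
  haveI : Algebra.IsSmoothAt k q' := hsm (show (⟨q', inferInstance⟩ : PrimeSpectrum A) ∈ _ from hf)
  obtain ⟨f', hf', hstd⟩ := Algebra.IsSmoothAt.exists_notMem_isStandardSmooth k q'
  obtain ⟨f₁, hf₁T, hf₁⟩ : ∃ f₁ ∈ T, f₁ ∉ q' := by
    by_contra hall
    push Not at hall
    have hmem : f' ∈ Submodule.span A (↑T : Set A) := hTspan ▸ Submodule.subset_span hstd
    exact hf' (Submodule.span_le.2 hall hmem)
  obtain ⟨w, hw, C, _, _, _, _, _, hloc⟩ := hg ⟨f₁, hf₁T⟩ a (ha _ (Finset.mem_univ _)) q' inferInstance
    hf₁ (by rw [hq', Ideal.mem_comap, Ideal.Quotient.eq_zero_iff_mem.2 (Ideal.mem_span_singleton_self _)]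
            exact q.zero_mem)
  set v := Ideal.Quotient.mk (Ideal.span {algebraMap k A (a 0) +
    ∑ i : Fin n, algebraMap k A (a i.succ) * x i}) w with hv
  refine ⟨v, hw, ?_⟩
  rw [HasRingHomProperty.Spec_iff (P := @SmoothOfRelativeDimension (r - 1))]
  let e : C ≃ₐ[k] Localization.Away v :=
    (IsLocalization.algEquiv (Submonoid.powers v) C (Localization.Away v)).restrictScalars k
  have := (RingHom.locally_respectsIso RingHom.isStandardSmoothOfRelativeDimension_respectsIso).1
    (algebraMap k C) e.toRingEquiv hloc
  exact e.toAlgHom.comp_algebraMap ▸ this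

end Groth.Agent.S4228
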