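import Groth.Statements.S4243
import Mathlib.FieldTheory.Finite.Polynomial
import Mathlib.RingTheory.MvPolynomial.Homogeneous

set_option autoImplicit false
open SGA4h

namespace Groth.Agent.S4243

/-- Let k be a finite field with q elements and P a nonzero homogeneous polynomial of degree d in r+1
variables over k. If P vanishes at every point of k^{r+1} (that is, the hypersurface P = 0 in
projective r-space passes through every rational point), then d ≥ q + 1. -/
theorem result (k : Type) [Field k] [Fintype k] (r d : ℕ)
    (P : MvPolynomial (Fin (r + 1)) k) (hP : P.IsHomogeneous d) (hP0 : P ≠ 0)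
    (hvan : ∀ x : Fin (r + 1) → k, MvPolynomial.eval x P = 0) :
    Fintype.card k + 1 ≤ d := by
  classical
  by_contra hlt
  push Not at hlt
  have hdeg : ∀ s ∈ P.support, s.degree = d := fun s hs => by
    have := hP (MvPolynomial.mem_support_iff.1 hs)
    rw [Finsupp.degree_eq_weight_one]; exact this
  have hle : ∀ s : Fin (r + 1) →₀ ℕ, ∀ i, s i ≤ s.degree := fun s i => Finsupp.le_degree i s
  have hpure : ∀ s : Fin (r + 1) →₀ ℕ, ∀ i, s.degree = d → s i = d → s = Finsupp.single i d := by
    intro s i h1 h2
    ext j
    rcases eq_or_ne j i with rfl | hj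
    · simp [h2]
    · rw [Finsupp.single_eq_of_ne hj]
      have h3 : s = Finsupp.single i (s i) + s.erase i := (Finsupp.single_add_erase i s).symm
      have h4 : s.degree = s i + (s.erase i).degree := by
        conv_lhs => rw [h3]
        rw [map_add, Finsupp.degree_single]
      have h5 := Finsupp.le_degree j (s.erase i)
      rw [Finsupp.erase_ne hj] at h5
      omega
  rcases Nat.eq_zero_or_pos d with hd0 | hdpos
  · refine hP0 (MvPolynomial.eq_zero_of_eval_eq_zero _ _ P hvan ?_)
    rw [MvPolynomial.mem_restrictDegree]
    intro s hs i
    have := hle s i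
    rw [hdeg s hs, hd0] at this
    omega
  refine hP0 (MvPolynomial.eq_zero_of_eval_eq_zero _ _ P hvan ?_)
  rw [MvPolynomial.mem_restrictDegree]
  intro s hs i
  have h1 := hle s i
  rw [hdeg s hs] at h1
  by_contra hbig
  push Not at hbig
  have hid : s i = d := by omega
  have hs' := hpure s i (hdeg s hs) hid
  have hev := hvan (Pi.single i 1)
  rw [MvPolynomial.eval_eq] at hev
  rw [Finset.sum_eq_single s] at hev
  · refine MvPolynomial.mem_support_iff.1 hs ?_
    rw [hs'] at hev ⊢
    simpa [Finsupp.support_single_ne_zero _ hdpos.ne'] using hev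
  · intro t ht hts
    by_cases hall : ∀ j ∈ t.support, j = i
    · refine absurd ?_ hts
      have : t = Finsupp.single i (t i) := Finsupp.ext fun j => by
        rcases eq_or_ne j i with rfl | hj
        · simp
        · rw [Finsupp.single_eq_of_ne hj]
          exact Finsupp.notMem_support_iff.1 fun hm => hj (hall j hm)
      have hd := hdeg t ht
      rw [this, Finsupp.degree_single] at hd
      rw [hs', this, hd]
    · push Not at hall
      obtain ⟨j, hj, hji⟩ := hall
      rw [Finset.prod_eq_zero hj, mul_zero]
      rw [Pi.single_eq_of_ne hji, zero_pow (Finsupp.mem_support_iff.1 hj)]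
  · intro h; exact absurd hs h

end Groth.Agent.S4243
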