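import Groth.Statements.S4256
import Mathlib.NumberTheory.GaussSum

set_option autoImplicit false
open scoped BigOperators
open SGA4h

namespace Groth.Agent.S4256

/-- Let k be a finite field, ψ a nontrivial additive character of k with values in a domain R, and n ≥
1. Then the generalised Kloosterman sum with parameter 0, Σ ψ(x_1 + ⋯ + x_n) over all (x_1, …, x_n)
∈ k^n with x_1 ⋯ x_n = 0, equals (-1)^{n-1}. -/
theorem result (k : Type) [Field k] [Fintype k] [DecidableEq k] (R : Type) [CommRing R] [IsDomain R]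
    (ψ : AddChar k R) (hψ : ψ ≠ 1) (n : ℕ) (hn : 1 ≤ n) :
    ∑ x ∈ (Finset.univ : Finset (Fin n → k)).filter (fun x => ∏ i, x i = 0), ψ (∑ i, x i) = (-1) ^ (n - 1) := by
  classical
  have hsp : ∀ x : Fin n → k, ψ (∑ i, x i) = ∏ i, ψ (x i) := fun x =>
    Finset.induction_on (Finset.univ : Finset (Fin n)) (by simp) fun i s hi ih => by
      rw [Finset.sum_insert hi, Finset.prod_insert hi, AddChar.map_add_eq_mul, ih]
  have htot : ∀ (_ : Unit), ∑ x : Fin n → k, ψ (∑ i, x i) = 0 := fun _ => by
    simp_rw [hsp]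
    rw [← Fintype.prod_sum, AddChar.sum_eq_zero_of_ne_one hψ, Finset.prod_const, Finset.card_univ,
      Fintype.card_fin, zero_pow (by omega)]
  have hne : ∑ x ∈ (Finset.univ : Finset (Fin n → k)).filter (fun x => ¬ ∏ i, x i = 0), ψ (∑ i, x i) =
      (-1) ^ n := by
    have h1 : (Finset.univ : Finset (Fin n → k)).filter (fun x => ¬ ∏ i, x i = 0) =
        Fintype.piFinset fun _ => (Finset.univ : Finset k).erase 0 := by
      ext x; simp [Finset.prod_eq_zero_iff]
    have h2 : ∑ y ∈ (Finset.univ : Finset k).erase 0, ψ y = -1 := by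
      have := Finset.add_sum_erase Finset.univ (fun y => ψ y) (Finset.mem_univ (0 : k))
      rw [AddChar.map_zero_eq_one, AddChar.sum_eq_zero_of_ne_one hψ] at this
      linear_combination this
    rw [h1]
    simp_rw [hsp]
    rw [← Finset.prod_univ_sum, h2, Finset.prod_const, Finset.card_univ, Fintype.card_fin]
  have := Finset.sum_filter_add_sum_filter_not (Finset.univ : Finset (Fin n → k))
    (fun x => ∏ i, x i = 0) (fun x => ψ (∑ i, x i))
  rw [htot (), hne] at this
  obtain ⟨m, rfl⟩ : ∃ m, n = m + 1 := ⟨n - 1, by omega⟩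
  rw [Nat.add_sub_cancel]
  linear_combination this

end Groth.Agent.S4256
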