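import Groth.Statements.S4265
import Groth.Agent.H16Derived.Exchange.ProjBound
import Groth.Agent.H16Derived.BaseChange.FinitePC

set_option autoImplicit false
universe u
open CategoryTheory CategoryTheory.Limits AlgebraicGeometry
attribute [local instance] HasDerivedCategory.standard
open KSix

namespace Groth.Agent.S4265

open Groth.Agent.H16Derived

/-- Let Y be an affine scheme, X = P^r_Y with projection f : X ⟶ Y, and E an object of D(O_X) which is
pseudo-coherent with bounded cohomology, acyclic in degrees > a. Assuming the total derived functor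
Rf_* exists, Rf_*E is acyclic in degrees > a + r. -/
theorem result (Y : Scheme.{u}) [IsAffine Y] (r : ℕ)
    [DCoh.HasRpush (CohB1.ProjSpaceOver.toBase r Y)]
    (E : DCoh.D (CohB1.ProjSpaceOver r Y)) (hE : ∀ m : ℤ, DCoh.IsPseudoCoherentD m E)
    (a b : ℤ) [E.IsGE b] [E.IsLE a] :
    ((DCoh.Rpush (CohB1.ProjSpaceOver.toBase r Y)).obj E).IsLE (a + r) := by
  haveI : IsProper (CohB1.ProjSpaceOver.toBase r Y) := Groth.Agent.H27Weil.isProper_toBase r Y
  refine (DerivedCategory.isLE_iff _ _).2 fun k hk => ?_
  exact QCohD.vanish_isGE _ (Exchange.bound_toBase Y r) E b a (BaseChange.isQCohD_of_pc hE) k (by push_cast; omega)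

end Groth.Agent.S4265
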