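import Groth.Statements.S4270
import Groth.Agent.LeadResProp.Family

set_option autoImplicit false
universe u
open CategoryTheory CategoryTheory.Limits AlgebraicGeometry
attribute [local instance] HasDerivedCategory.standard
open KSix

namespace Groth.Agent.S4270

/-- A scheme admitting an ample family of invertible modules has the resolution property: every
quasi-coherent module of finite type is a quotient of a finite locally free module. -/
theorem result (X : Scheme.{u}) (hX : MoreMor.HasAmpleFamily X) :
    PerfAux.HasResolutionProperty X := by
  exact LeadResProp.hasResolutionProperty_of_ampleFamily hX

end Groth.Agent.S4270
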