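import Groth.Statements.S4273
import Groth.Agent.H16Derived.QRep.Main

set_option autoImplicit false
universe u
open CategoryTheory CategoryTheory.Limits AlgebraicGeometry
attribute [local instance] HasDerivedCategory.standard
open KSix

namespace Groth.Agent.S4273

set_option linter.style.haveILetI false

/-- The converse is immediate): let X be a scheme with an ample family (L_i) of invertible modules, and
assume X separated or Noetherian. If E ∈ D(O_X) has perfect amplitude in [m, n], then E is
isomorphic in D(O_X) to (the image of) a complex F with F^i = 0 for i outside [m, n], F^i a finite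
direct sum of modules L_j^{⊗ -k} (k > 0) for i > m, and F^m finite locally free. -/
theorem result (X : Scheme.{u}) {ι : Type u} (L : ι → X.Modules)
    (hL : KSix.IsAmpleFamily L) (hX : X.IsSeparated ∨ IsNoetherian X)
    (E : DCoh.D X) (m n : ℤ) (hE : KSix.HasPerfectAmplitudeIn m n E) :
    ∃ F : CochainComplex X.Modules ℤ, DCoh.VanishesOutside F m n ∧ (∀ i : ℤ, m < i → KSix.InAddL L (F.X i)) ∧
      FlatMod.IsFinLocFree (F.X m) ∧ Nonempty (DCoh.toD X F ≅ E) := by
  have hres := H16Derived.QRep.hasResolutionProperty_of_isAmpleFamily hL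
  haveI := hL.1
  haveI := hL.2.1
  rcases le_or_gt m n with hmn | hmn
  · obtain ⟨F, hFa, hFq, ⟨e⟩⟩ := H16Derived.QRep.exists_qcoh_rep_amp hres E hE
    obtain ⟨G, φ, hφ, hv, hP, hf⟩ := H16Derived.QRep.exists_finite_qis (P := KSix.InAddL L)
      (fun _ h => H16Derived.QRep.isFinLocFree_of_inAddL hL h) (fun e h => H16Derived.QRep.inAddL_of_iso e h)
      (fun _ h => H16Derived.QRep.inAddL_of_isZero h)
      (fun M hM hM' => H16Derived.AmpleNegQuot.exists_inAddL_epi hL hM hM')
      F hFq m n hmn (H16Derived.QRep.hasPerfectAmplitudeIn_of_iso e.symm hE)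
    haveI : IsIso (DerivedCategory.Q.map φ) := H16Derived.KFlat.Stalk.isIso_Q_map _ hφ
    exact ⟨G, hv, hP, hf m, ⟨asIso (DerivedCategory.Q.map φ) ≪≫ e⟩⟩
  · let F₀ := DerivedCategory.Q.objPreimage E
    let e₀ : DCoh.toD X F₀ ≅ E := DerivedCategory.Q.objObjPreimageIso E
    obtain ⟨h1, h2⟩ := H16Derived.TorTest.bounds_of_ta (𝟙 X) (H16Derived.TorTest.hasTorAmplitude_of_hasPerfectAmplitudeIn
      (H16Derived.QRep.hasPerfectAmplitudeIn_of_iso e₀.symm hE))
    have hz : IsZero (DCoh.toD X F₀) := DerivedCategory.TStructure.t.isZero _ n m hmn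
    obtain ⟨Z, z⟩ := HasZeroObject.zero (C := CochainComplex X.Modules ℤ)
    have hX0 : ∀ i, IsZero (Z.X i) := fun i =>
      (HomologicalComplex.eval X.Modules (ComplexShape.up ℤ) i).map_isZero z
    exact ⟨Z, fun i _ => hX0 i, fun i _ => H16Derived.QRep.inAddL_of_isZero (hX0 i),
      H16Derived.KFlat.Stalk.isFinLocFree_of_isZero (hX0 m),
      ⟨(DerivedCategory.Q.map_isZero z).iso (hz.of_iso e₀.symm)⟩⟩

end Groth.Agent.S4273
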