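import Groth.Statements.S4274
import Groth.Agent.H16Derived.QRep.Main
import Groth.Agent.H16Derived.BaseChange.FinitePC

set_option autoImplicit false
universe u
open CategoryTheory CategoryTheory.Limits AlgebraicGeometry
attribute [local instance] HasDerivedCategory.standard
open KSix

namespace Groth.Agent.S4274

set_option linter.style.haveILetI false

/-- Existence of global resolutions: let X be a scheme with an ample family (L_i) of invertible modules,
and assume X separated or Noetherian. Every pseudo-coherent object E of D(O_X) with bounded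
cohomology is isomorphic in D(O_X) to (the image of) a bounded above complex F all of whose terms
are finite direct sums of modules L_j^{⊗ -k} with k > 0. -/
theorem result (X : Scheme.{u}) {ι : Type u} (L : ι → X.Modules)
    (hL : KSix.IsAmpleFamily L) (hX : X.IsSeparated ∨ IsNoetherian X)
    (E : DCoh.D X) (hE : ∀ k : ℤ, DCoh.IsPseudoCoherentD k E) (a b : ℤ) [E.IsGE a] [E.IsLE b] :
    ∃ (F : CochainComplex X.Modules ℤ) (c : ℤ), (∀ i : ℤ, c < i → IsZero (F.X i)) ∧ (∀ i : ℤ, KSix.InAddL L (F.X i)) ∧
      Nonempty (DCoh.toD X F ≅ E) := by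
  have hres := H16Derived.QRep.hasResolutionProperty_of_isAmpleFamily hL
  haveI := hL.1
  haveI := hL.2.1
  obtain ⟨F, hFa, hFb, hFq, ⟨e⟩⟩ := H16Derived.QRep.exists_qcoh_rep
    (fun U V hU hV => H14ResProp.AffineDiag.isAffineOpen_inf hres hU hV) E a b
    (H16Derived.BaseChange.isQCohD_of_pc hE)
  have hpc : ∀ k, DCoh.IsPseudoCoherentD k (DCoh.toD X F) := fun k =>
    H16Derived.KFlat.Stalk.isPseudoCoherentD_of_iso e.symm (hE k)
  obtain ⟨G, φ, hG, hP, hφ⟩ := H16Derived.QRep.exists_resolution (P := KSix.InAddL L) (F := F) (b₀ := b)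
    (fun e h => H16Derived.QRep.inAddL_of_iso e h) (fun _ h => H16Derived.QRep.inAddL_of_isZero h)
    (fun i hi => (HomologicalComplex.exactAt_iff_isZero_homology _ _).1
      (HomologicalComplex.ExactAt.of_isZero (F.isZero_of_isStrictlyLE b i hi)))
    (H16Derived.QRep.canStep (fun _ h => H16Derived.QRep.isFinLocFree_of_inAddL hL h)
      (fun M hM hM' => H16Derived.AmpleNegQuot.exists_inAddL_epi hL hM hM') F hFq hpc b)
  haveI := hG
  haveI : IsIso (DerivedCategory.Q.map φ) := H16Derived.KFlat.Stalk.isIso_Q_map _ hφ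
  exact ⟨G, b, fun i hi => G.isZero_of_isStrictlyLE b i hi, hP, ⟨asIso (DerivedCategory.Q.map φ) ≪≫ e⟩⟩

end Groth.Agent.S4274
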