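import Groth.Statements.S4275
import Groth.Agent.H16Derived.TorTest.PerfAmpIn

set_option autoImplicit false
universe u
open CategoryTheory CategoryTheory.Limits AlgebraicGeometry
attribute [local instance] HasDerivedCategory.standard
open KSix

namespace Groth.Agent.S4275

open Groth.Agent.H16Derived Groth.Agent.H16Derived.KFlat Groth.Agent.H16Derived.KFlat.Stalk

/-- For the ringed space underlying a scheme: let E ∈ D(O_X) and m ≤ n. Then E has perfect amplitude in
[m, n] (locally isomorphic to a complex of finite locally free modules placed in degrees [m, n]) if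
and only if E is (m-1)-pseudo-coherent and has tor amplitude in [m, n] (is isomorphic to a complex
of flat modules placed in degrees [m, n]). (The source states this on an arbitrary ringed topos,
with tor amplitude defined through Tor sheaves.) -/
theorem result (X : Scheme.{u}) (E : DCoh.D X) (m n : ℤ) (hmn : m ≤ n) :
    KSix.HasPerfectAmplitudeIn m n E ↔ DCoh.IsPseudoCoherentD (m - 1) E ∧ DCoh.HasFlatAmplitudeIn m n E := by
  let F := DerivedCategory.Q.objPreimage E
  let eF : DCoh.toD X F ≅ E := DerivedCategory.Q.objObjPreimageIso E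
  constructor
  · intro h
    have hF : KSix.HasPerfectAmplitudeIn m n (DCoh.toD X F) := fun x => by
      obtain ⟨V, hx, hV⟩ := h x
      exact ⟨V, hx, fun G ⟨eG⟩ => hV G ⟨eG ≪≫ eF⟩⟩
    have hta := TorTest.hasTorAmplitude_of_hasPerfectAmplitudeIn hF
    haveI := (TorTest.bounds_of_ta (𝟙 X) hta).2
    obtain ⟨C, h1, h2, ⟨e⟩⟩ := (S6200.result F n m n).2 hta
    exact ⟨isPseudoCoherentD_of_isPerfect (TorTest.isPerfect_of_hasPerfectAmplitudeIn h) _,
      C, h1, h2, ⟨e ≪≫ eF⟩⟩
  · rintro ⟨hpc, C, h1, h2, ⟨e⟩⟩
    exact TorTest.hasPerfectAmplitudeIn_of_at e hpc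
      (TorTest.hasTorAmplitude_of_flat (𝟙 X) h1 fun i => isFlatOver_id (h2 i))

end Groth.Agent.S4275
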