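import Groth.Statements.S4276
import Groth.Agent.H12Pic.AlgEquivEuler
-- import your own Groth.Agent.* helpers here

set_option autoImplicit false
universe u
open CategoryTheory CategoryTheory.Limits AlgebraicGeometry
open Pic13

namespace Groth.Agent.S4276

/-- Let k be an algebraically closed field, X a proper k-scheme of dimension ≤ d and L an invertible
O_X-module which is τ-equivalent to zero (some positive power of L is algebraically equivalent to
zero). Then χ(F ⊗ L) = χ(F) for every coherent O_X-module F (Euler characteristics computed in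
degrees ≤ d). -/
theorem result (k : Type u) [Field k] [IsAlgClosed k] (X : Scheme.{u}) [X.Over (Spec (CommRingCat.of k))]
    [IsProper (X ↘ Spec (CommRingCat.of k))] (d : ℕ) (hd : topologicalKrullDim X ≤ d)
    (L : X.Modules) (hL : PicF.IsInvertible L) (hτ : Pic13.IsTauEquivZero k X L) (F : X.Modules) (hF : Coh.IsCoh F) :
    FGA.eulerCharLE k X (CohB1.tensorMod F L) d = FGA.eulerCharLE k X F d := by
  open Groth.Agent Groth.Agent.H28Int in
  haveI := isNoetherian k (X := X)
  have hFL : Coh.IsCoh (CohB1.tensorMod F L) := H11Ample.isCoh_tensor hF hL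
  rw [eulerCharLE_eq k hd hFL.1, eulerCharLE_eq k hd hF.1,
    H25Euler.euler_congr (H10Coh.Tw.commIso F L)]
  refine H12Pic.AlgEquivEuler.euler_twist_of_tauEquiv k hL hτ (d + 1) hF ?_
  exact ((Topology.IsInducing.subtypeVal.topologicalKrullDim_le).trans hd).trans_lt
    (by exact_mod_cast Nat.lt_succ_self d)

end Groth.Agent.S4276
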