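import Groth.Statements.S4290
import Groth.Agent.H12Pic.Hodge.Numerical

set_option autoImplicit false
universe u
open CategoryTheory CategoryTheory.Limits AlgebraicGeometry
open Pic13

namespace Groth.Agent.S4290

/-- Let k be an algebraically closed field, X an irreducible proper k-scheme of dimension r = s + 2 ≥ 2
carrying an ample invertible module H, and L an invertible module with (c₁(L)·c₁(H)^{r-1}) = 0 and
(c₁(L)²·c₁(H)^{r-2}) ≥ 0. Then L is numerically equivalent to zero. Intersection numbers are those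
of FGA.intNum, which takes inverses H', L' of H, L as arguments. -/
theorem result (k : Type u) [Field k] [IsAlgClosed k] (X : Scheme.{u}) [X.Over (Spec (CommRingCat.of k))]
    [IsProper (X ↘ Spec (CommRingCat.of k))] [IrreducibleSpace X] (s : ℕ) (hdim : topologicalKrullDim X = (s + 2 : ℕ))
    (H H' L L' : X.Modules) (hH : CohB1.IsAmple H) (hL : PicF.IsInvertible L)
    (hHH' : Nonempty (CohB1.tensorMod H H' ≅ Coh.structureModule X)) (hLL' : Nonempty (CohB1.tensorMod L L' ≅ Coh.structureModule X))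
    (horth : FGA.intNum k X (s + 2) (Matrix.vecCons L' (fun _ : Fin (s + 1) => H')) (Coh.structureModule X) = 0)
    (hsq : 0 ≤ FGA.intNum k X (s + 2) (Matrix.vecCons L' (Matrix.vecCons L' (fun _ : Fin s => H'))) (Coh.structureModule X)) :
    Pic13.IsNumEquivZero k X L := by
  obtain ⟨eH⟩ := hHH'
  obtain ⟨eL⟩ := hLL'
  have hH'i := LeadBC.TrivFiber.isInvertible_of_tensor hH.1 eH
  have hL'i := LeadBC.TrivFiber.isInvertible_of_tensor hL eL
  have hO := H10Coh.isCoh_structureModule' X
  haveI := H28Int.isNoetherian k (X := X)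
  have hdl : topologicalKrullDim (CohB1.support (Coh.structureModule X)) ≤ ((s + 2 : ℕ) : WithBot ℕ∞) :=
    (Topology.IsInducing.subtypeVal.topologicalKrullDim_le).trans hdim.le
  have h1 : FGA.intNum k X (s + 2) (Matrix.vecCons L' (fun _ : Fin (s + 1) => H')) (Coh.structureModule X) =
      H22Alg.NefQ.Q k (List.ofFn (Matrix.vecCons L (fun _ : Fin (s + 1) => H))) (Coh.structureModule X) :=
    H12Pic.Hodge.intNum_inverses k hdim.le (Fin.cases hL fun _ => hH.1) (Fin.cases hL'i fun _ => hH'i)
      (Fin.cases ⟨eL⟩ fun _ => ⟨eH⟩) hO hdl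
  have h2 : FGA.intNum k X (s + 2) (Matrix.vecCons L' (Matrix.vecCons L' (fun _ : Fin s => H'))) (Coh.structureModule X) =
      H22Alg.NefQ.Q k (List.ofFn (Matrix.vecCons L (Matrix.vecCons L (fun _ : Fin s => H)))) (Coh.structureModule X) :=
    H12Pic.Hodge.intNum_inverses k hdim.le (Fin.cases hL (Fin.cases hL fun _ => hH.1))
      (Fin.cases hL'i (Fin.cases hL'i fun _ => hH'i)) (Fin.cases ⟨eL⟩ (Fin.cases ⟨eL⟩ fun _ => ⟨eH⟩)) hO hdl
  rw [h1, List.ofFn_succ] at horth
  rw [h2, List.ofFn_succ, List.ofFn_succ] at hsq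
  simp only [Matrix.cons_val_zero, Matrix.cons_val_succ, List.ofFn_const] at horth hsq
  exact (H12Pic.Hodge.index_irreducible k hdim hH hL horth).2 hsq

end Groth.Agent.S4290
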