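import Groth.Statements.S4291
import Groth.Agent.H12Pic.Bdd.Tau

set_option autoImplicit false
universe u
open CategoryTheory CategoryTheory.Limits AlgebraicGeometry
open Pic13
open Groth.Agent.H25Theta (pb pT pC pI tI)

namespace Groth.Agent.S4291

/-- Let k be an algebraically closed field, f : X ⟶ Y a surjective k-morphism of proper k-schemes, and P
a bounded family of O_X-modules. Then the family of invertible O_Y-modules M whose pullback f^*M is
isomorphic to a member of P is bounded. -/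
theorem result (k : Type u) [Field k] [IsAlgClosed k] (X Y : Scheme.{u})
    [X.Over (Spec (CommRingCat.of k))] [Y.Over (Spec (CommRingCat.of k))]
    [IsProper (X ↘ Spec (CommRingCat.of k))] [IsProper (Y ↘ Spec (CommRingCat.of k))]
    (f : X ⟶ Y) (hf : f ≫ (Y ↘ Spec (CommRingCat.of k)) = X ↘ Spec (CommRingCat.of k)) [Surjective f]
    (P : X.Modules → Prop) (hP : Pic13.IsBounded k X P) :
    Pic13.IsBounded k Y (fun M : Y.Modules => PicF.IsInvertible M ∧ ∃ L : X.Modules, P L ∧ Nonempty ((Scheme.Modules.pullback f).obj M ≅ L)) := by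
  haveI := H28Int.isNoetherian k (X := X)
  haveI := H28Int.isNoetherian k (X := Y)
  let F := fun M : Y.Modules => (Scheme.Modules.pullback f).obj M
  obtain ⟨q, M, hM, hrep⟩ := H12Pic.Bdd.exists_reps_bounded k
    (fun M : Y.Modules => PicF.IsInvertible M ∧ ∃ L, P L ∧ Nonempty (F M ≅ L)) F
    (P := fun L => ∃ L', P L' ∧ Nonempty (L' ≅ L))
    (by
      obtain ⟨T, p, h1, h2, G, hG, hmem⟩ := hP
      refine ⟨T, p, h1, h2, G, hG, fun L ⟨L', hL', ⟨e⟩⟩ => ?_⟩
      obtain ⟨t, ht, ⟨e'⟩⟩ := hmem L' hL'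
      exact ⟨t, ht, ⟨e' ≪≫ e⟩⟩)
    (fun M ⟨hM, L, hL, ⟨e⟩⟩ => ⟨⟨L, hL, ⟨e.symm⟩⟩, H11Ample.isInvertible_pullback f hM⟩)
  refine ((H12Pic.Bdd.Bdd.iUnion fun j : Fin q =>
    ((H12Pic.Bdd.bdd_of_isBounded (H12Pic.Bdd.isBounded_nt_proper k Y)).tensor
      (H11Ample.isCoh_of_isInvertible (hM j).1))).subset fun N hN => ?_).isBounded
  obtain ⟨j, hj⟩ := hrep N hN
  obtain ⟨A', hA', ⟨e⟩⟩ := H12Pic.Bdd.exists_right_inverse (hM j).1
  have hA'f := H11Ample.isInvertible_pullback f hA'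
  have hD := H11Ample.isInvertible_tensor hN.1 hA'
  let e₂ : CohB1.tensorMod (F (M j)) (F A') ≅ Coh.structureModule X :=
    (pT f _ _).symm ≪≫ (Scheme.Modules.pullback f).mapIso e ≪≫ H16Derived.KFlat.Stalk.structurePullbackIso f
  have hnt : H12Pic.NumTriv.NT k (CohB1.tensorMod N A') := H12Pic.Bdd.nt_of_pullback k f hf hD
    (H12Pic.Bdd.nt_of_algEquiv k (H11Ample.isInvertible_pullback f hD)
      (H12Pic.Bdd.isAlgEquivZero_congr k (hj _ hA'f ⟨e₂⟩) (pT f N A').symm))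
  exact ⟨j, CohB1.tensorMod N A', hnt,
    ⟨H10Coh.Tw.commIso _ _ ≪≫ (H12Pic.Bdd.cancelInv e N).symm⟩⟩

end Groth.Agent.S4291
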