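import Groth.Statements.S4292
import Groth.Agent.H12Pic.Bdd.Tau

set_option autoImplicit false
universe u
open CategoryTheory CategoryTheory.Limits AlgebraicGeometry
open Pic13

namespace Groth.Agent.S4292

/-- The n-th power map on the Picard functor is of finite type: over S = Spec k with k algebraically
closed and for n > 0: let X be a proper k-scheme and P a bounded family of O_X-modules. Then the
family of invertible O_X-modules M such that M^{⊗ n} is isomorphic to a member of P is bounded. (The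
source allows every integer n ≠ 0.) -/
theorem result (k : Type u) [Field k] [IsAlgClosed k] (X : Scheme.{u}) [X.Over (Spec (CommRingCat.of k))]
    [IsProper (X ↘ Spec (CommRingCat.of k))] (n : ℕ) (hn : 0 < n)
    (P : X.Modules → Prop) (hP : Pic13.IsBounded k X P) :
    Pic13.IsBounded k X (fun M : X.Modules => PicF.IsInvertible M ∧ ∃ L : X.Modules, P L ∧ Nonempty (CohB1.tensorPow M n ≅ L)) := by
  obtain ⟨q, M, hM, hrep⟩ := H12Pic.Bdd.exists_reps_bounded k
    (fun M : X.Modules => PicF.IsInvertible M ∧ ∃ L, P L ∧ Nonempty (CohB1.tensorPow M n ≅ L))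
    (fun M => CohB1.tensorPow M n)
    (P := fun L => ∃ L', P L' ∧ Nonempty (L' ≅ L))
    (by
      obtain ⟨T, p, h1, h2, G, hG, hmem⟩ := hP
      refine ⟨T, p, h1, h2, G, hG, fun L ⟨L', hL', ⟨e⟩⟩ => ?_⟩
      obtain ⟨t, ht, ⟨e'⟩⟩ := hmem L' hL'
      exact ⟨t, ht, ⟨e' ≪≫ e⟩⟩)
    (fun M ⟨hM, L, hL, ⟨e⟩⟩ => ⟨⟨L, hL, ⟨e.symm⟩⟩, H11Ample.isInvertible_tensorPow hM n⟩)
  haveI := H28Int.isNoetherian k (X := X)
  refine ((H12Pic.Bdd.Bdd.iUnion fun j : Fin q =>
    ((H12Pic.Bdd.bdd_of_isBounded (H12Pic.Bdd.isBounded_nt_proper k X)).tensor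
      (H11Ample.isCoh_of_isInvertible (hM j).1))).subset fun N hN => ?_).isBounded
  obtain ⟨j, hj⟩ := hrep N hN
  obtain ⟨A', hA', ⟨e⟩⟩ := H12Pic.Bdd.exists_right_inverse (hM j).1
  have hA'n := H11Ample.isInvertible_tensorPow hA' n
  have hD := H11Ample.isInvertible_tensor hN.1 hA'
  obtain ⟨e₁⟩ := H11Ample.exists_iso_tensorPow_tensor hN.1 hA' n
  obtain ⟨e₂⟩ := H10Coh.Tw.nonempty_tensorPow_inverse e (hM j).1 hA' n
  have hnt : H12Pic.NumTriv.NT k (CohB1.tensorMod N A') := H12Pic.Bdd.nt_of_pow k hD hn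
    (H12Pic.Bdd.nt_of_algEquiv k (H11Ample.isInvertible_tensorPow hD n)
      (H12Pic.Bdd.isAlgEquivZero_congr k (hj _ hA'n ⟨e₂⟩) e₁))
  exact ⟨j, CohB1.tensorMod N A', hnt,
    ⟨H10Coh.Tw.commIso _ _ ≪≫ (H12Pic.Bdd.cancelInv e N).symm⟩⟩

end Groth.Agent.S4292
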