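import Groth.Statements.S4295
import Groth.Agent.H02CA.PC.Tower

set_option autoImplicit false
universe w v u
open CategoryTheory CategoryTheory.Limits
open PCoh

namespace Groth.Agent.S4295
open CategoryTheory.Category CategoryTheory.Pretriangulated Groth.Agent.H02CA.PC

/-- Punctual site: let C be an abelian category and C₀ a strictly full additive subcategory (closed
under isomorphisms, containing zero, closed under binary products) which is quasi-stable under
kernels of epimorphisms and quasi-liftable in C. If F ∈ D(C) is C₀-pseudo-coherent (for every n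
isomorphic to a bounded above complex with terms in C₀ from degree n on), then F is isomorphic in
D(C) to the image of one bounded above complex all of whose terms lie in C₀. -/
theorem result {C : Type u} [Category.{v} C] [Abelian C] [HasDerivedCategory.{w} C]
    (P : ObjectProperty C) [P.IsClosedUnderIsomorphisms] [P.ContainsZero] (hsum : ∀ X Y : C, P X → P Y → P (X ⨯ Y))
    (hqs : PCoh.IsQuasiStableUnderKernels P) (hql : PCoh.IsQuasiLiftable P)
    (F : DerivedCategory C) (hF : PCoh.IsPC P F) :
    ∃ E : CochainComplex C ℤ, PCoh.IsStrictPCAll P E ∧ Nonempty (DerivedCategory.Q.obj E ≅ F) := by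
  obtain ⟨b, hb⟩ := DPC.exists_bound (hF 0)
  obtain ⟨F₀, ⟨e⟩⟩ := exists_rep F
  obtain ⟨E, s, hE, hs, -⟩ := resolveAll hsum hqs hql (b + 1) (fun k => DPC.of_iso (hF k) e.symm)
    fun i hi => isZero_homology_rep e i (hb i (by omega))
  haveI := hs
  exact ⟨E, hE, ⟨asIso (DerivedCategory.Q.map s) ≪≫ e⟩⟩

end Groth.Agent.S4295
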