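import Groth.Statements.S4296
import Groth.Agent.H02CA.PC.Tower

set_option autoImplicit false
universe w v u
open CategoryTheory CategoryTheory.Limits
open PCoh

namespace Groth.Agent.S4296
open CategoryTheory.Category CategoryTheory.Pretriangulated Groth.Agent.H02CA.PC

/-- Punctual site: fullness of K⁻(C₀)/(acyclic complexes) ⟶ D(C): let C be an abelian category and C₀ a
strictly full additive subcategory, quasi-stable under kernels of epimorphisms and quasi-liftable.
For bounded above complexes E, E' with terms in C₀ and any morphism α : E ⟶ E' in D(C), there are a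
bounded above complex E'' with terms in C₀, a quasi-isomorphism s : E'' ⟶ E and a chain map f : E''
⟶ E' with s ≫ α = f in D(C). -/
theorem result {C : Type u} [Category.{v} C] [Abelian C] [HasDerivedCategory.{w} C]
    (P : ObjectProperty C) [P.IsClosedUnderIsomorphisms] [P.ContainsZero] (hsum : ∀ X Y : C, P X → P Y → P (X ⨯ Y))
    (hqs : PCoh.IsQuasiStableUnderKernels P) (hql : PCoh.IsQuasiLiftable P)
    (E E' : CochainComplex C ℤ) (hE : PCoh.IsStrictPCAll P E) (hE' : PCoh.IsStrictPCAll P E')
    (α : DerivedCategory.Q.obj E ⟶ DerivedCategory.Q.obj E') :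
    ∃ (E'' : CochainComplex C ℤ) (s : E'' ⟶ E) (f : E'' ⟶ E'), PCoh.IsStrictPCAll P E'' ∧ QuasiIso s ∧
      DerivedCategory.Q.map s ≫ α = DerivedCategory.Q.map f := by
  obtain ⟨E₀, s, hs, g, hg⟩ := DerivedCategory.right_fac α
  obtain ⟨E'', t, hE'', ht⟩ := resolveQis hsum hqs hql hE s hs
  haveI := hs
  refine ⟨E'', t ≫ s, t ≫ g, hE'', ?_, ?_⟩
  · haveI : QuasiIso s := (DerivedCategory.isIso_Q_map_iff_quasiIso _ s).1 hs
    infer_instance
  · rw [Functor.map_comp, Functor.map_comp, assoc, hg, IsIso.hom_inv_id_assoc]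

end Groth.Agent.S4296
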