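import Groth.Statements.S4297
import Groth.Agent.H02CA.PC.Tower

set_option autoImplicit false
universe w v u
open CategoryTheory CategoryTheory.Limits
open PCoh

namespace Groth.Agent.S4297
open CategoryTheory.Category CategoryTheory.Pretriangulated Groth.Agent.H02CA.PC

/-- Punctual site: faithfulness of K⁻(C₀)/(acyclic complexes) ⟶ D(C): let C be an abelian category and
C₀ a strictly full additive subcategory, quasi-stable under kernels of epimorphisms and
quasi-liftable. If two chain maps f, g : E ⟶ E' between bounded above complexes with terms in C₀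
have the same image in D(C), then there are a bounded above complex E'' with terms in C₀ and a
quasi-isomorphism s : E'' ⟶ E such that s ≫ f and s ≫ g are homotopic. -/
theorem result {C : Type u} [Category.{v} C] [Abelian C] [HasDerivedCategory.{w} C]
    (P : ObjectProperty C) [P.IsClosedUnderIsomorphisms] [P.ContainsZero] (hsum : ∀ X Y : C, P X → P Y → P (X ⨯ Y))
    (hqs : PCoh.IsQuasiStableUnderKernels P) (hql : PCoh.IsQuasiLiftable P)
    (E E' : CochainComplex C ℤ) (hE : PCoh.IsStrictPCAll P E) (hE' : PCoh.IsStrictPCAll P E')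
    (f g : E ⟶ E') (hfg : DerivedCategory.Q.map f = DerivedCategory.Q.map g) :
    ∃ (E'' : CochainComplex C ℤ) (s : E'' ⟶ E), PCoh.IsStrictPCAll P E'' ∧ QuasiIso s ∧ Nonempty (Homotopy (s ≫ f) (s ≫ g)) := by
  let e := DerivedCategory.quotientCompQhIso C
  have h : DerivedCategory.Qh.map ((HomotopyCategory.quotient C _).map f) =
      DerivedCategory.Qh.map ((HomotopyCategory.quotient C _).map g) := by
    rw [← cancel_mono (e.hom.app E')]
    exact (e.hom.naturality f).trans ((congrArg _ hfg).trans (e.hom.naturality g).symm)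
  obtain ⟨X, s, hs, hsfg⟩ := (MorphismProperty.map_eq_iff_precomp DerivedCategory.Qh
    (HomotopyCategory.quasiIso C (ComplexShape.up ℤ)) _ _).1 h
  obtain ⟨X, rfl⟩ := HomotopyCategory.quotient_obj_surjective X
  obtain ⟨s, rfl⟩ := (HomotopyCategory.quotient _ _).map_surjective s
  rw [HomotopyCategory.quotient_map_mem_quasiIso_iff] at hs
  haveI : QuasiIso s := hs
  obtain ⟨E'', t, hE'', ht⟩ := resolveQis hsum hqs hql hE s inferInstance
  rw [← Functor.map_comp, ← Functor.map_comp] at hsfg
  exact ⟨E'', t ≫ s, hE'', inferInstance,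
    ⟨(((HomotopyCategory.homotopyOfEq _ _ hsfg).compLeft t).trans (Homotopy.ofEq (assoc t s g).symm) |>
      (Homotopy.ofEq (assoc t s f)).trans)⟩⟩

end Groth.Agent.S4297
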