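import Groth.Statements.S4300
import Groth.Agent.H12Pic.TauOpen.Main

set_option autoImplicit false
set_option backward.isDefEq.respectTransparency.types false
universe u
open CategoryTheory CategoryTheory.Limits AlgebraicGeometry
open Pic13

namespace Groth.Agent.S4300

/-- In the form reached in its proof: let S be a Noetherian scheme, f : X ⟶ S a proper morphism and L an
invertible O_X-module. Then the set of points s of S such that L is τ-equivalent to zero on the
geometric fibre of f at s is open. (The source's (i): Pic^τ_{X/S} ⟶ Pic_{X/S} is representable by an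
open immersion.) -/
theorem result {X S : Scheme.{u}} [IsNoetherian S] (f : X ⟶ S) [IsProper f] (L : X.Modules) (hL : PicF.IsInvertible L) :
    IsOpen {s : S | Pic13.IsTauTrivialAt f L s} := by
  have h : {s : S | Pic13.IsTauTrivialAt f L s} = {s : S | Groth.Agent.H12Pic.TauOpen.NTAt f L s} :=
    Set.ext fun s => Groth.Agent.H12Pic.TauOpen.tauTrivialAt_iff f hL s
  rw [h]
  exact Groth.Agent.H12Pic.TauOpen.isOpen_ntAt f hL

end Groth.Agent.S4300
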