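import Groth.Statements.S4305
import Groth.Agent.H12Pic.AlgEquivEuler
import Groth.Agent.LeadBC.TrivFiber
-- import your own Groth.Agent.* helpers here

set_option autoImplicit false
universe u
open CategoryTheory CategoryTheory.Limits AlgebraicGeometry
open Pic13

namespace Groth.Agent.S4305

/-- Let k be an algebraically closed field, X an irreducible proper k-scheme of dimension ≤ d carrying
an ample invertible module H with inverse H', and L an invertible module with inverse L'. Condition
(v): χ(L^{⊗ m} ⊗ H^{⊗ n}) = χ(H^{⊗ n}) for all integers m, n — written with natural exponents on L,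
L', H, H' to cover all signs, Euler characteristics in degrees ≤ d; condition (i): L is τ-equivalent
to zero. -/
theorem result (k : Type u) [Field k] [IsAlgClosed k] (X : Scheme.{u})
    [X.Over (Spec (CommRingCat.of k))] [IsProper (X ↘ Spec (CommRingCat.of k))] [IrreducibleSpace X]
    (d : ℕ) (hd : topologicalKrullDim X ≤ d) (H H' L L' : X.Modules) (hH : CohB1.IsAmple H) (hL : PicF.IsInvertible L)
    (hHH' : Nonempty (CohB1.tensorMod H H' ≅ Coh.structureModule X)) (hLL' : Nonempty (CohB1.tensorMod L L' ≅ Coh.structureModule X))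
    (hτ : Pic13.IsTauEquivZero k X L) :
    ∀ m n : ℕ,
      FGA.eulerCharLE k X (CohB1.tensorMod (CohB1.tensorPow L m) (CohB1.tensorPow H n)) d = FGA.eulerCharLE k X (CohB1.tensorPow H n) d ∧
      FGA.eulerCharLE k X (CohB1.tensorMod (CohB1.tensorPow L m) (CohB1.tensorPow H' n)) d = FGA.eulerCharLE k X (CohB1.tensorPow H' n) d ∧
      FGA.eulerCharLE k X (CohB1.tensorMod (CohB1.tensorPow L' m) (CohB1.tensorPow H n)) d = FGA.eulerCharLE k X (CohB1.tensorPow H n) d ∧
      FGA.eulerCharLE k X (CohB1.tensorMod (CohB1.tensorPow L' m) (CohB1.tensorPow H' n)) d = FGA.eulerCharLE k X (CohB1.tensorPow H' n) d := by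
  open Groth.Agent Groth.Agent.H28Int in
  haveI := isNoetherian k (X := X)
  obtain ⟨eH⟩ := hHH'
  obtain ⟨eL⟩ := hLL'
  have hHi : PicF.IsInvertible H := hH.1
  have hH' : PicF.IsInvertible H' := LeadBC.TrivFiber.isInvertible_of_tensor hHi eH
  have hL' : PicF.IsInvertible L' := LeadBC.TrivFiber.isInvertible_of_tensor hL eL
  have hL1 : ∀ F : X.Modules, Coh.IsCoh F → Curv2.euler k X (CohB1.tensorMod L F) = Curv2.euler k X F :=
    fun F hF => H12Pic.AlgEquivEuler.euler_twist_of_tauEquiv k hL hτ (d + 1) hF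
      (((Topology.IsInducing.subtypeVal.topologicalKrullDim_le).trans hd).trans_lt
        (by exact_mod_cast Nat.lt_succ_self d))
  have hL2 : ∀ F : X.Modules, Coh.IsCoh F → Curv2.euler k X (CohB1.tensorMod L' F) = Curv2.euler k X F := by
    intro F hF
    rw [← hL1 _ (isCoh_twist hL' hF)]
    exact H25Euler.euler_congr ((H10Coh.Tw.assoc L L' F).symm ≪≫ H25Theta.tI eL (Iso.refl F) ≪≫
      H10Coh.Tw.leftUnitIso F)
  have hpow : ∀ M : X.Modules, PicF.IsInvertible M →
      (∀ F : X.Modules, Coh.IsCoh F → Curv2.euler k X (CohB1.tensorMod M F) = Curv2.euler k X F) →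
      ∀ (m : ℕ) (G : X.Modules), PicF.IsInvertible G →
        FGA.eulerCharLE k X (CohB1.tensorMod (CohB1.tensorPow M m) G) d = FGA.eulerCharLE k X G d := by
    intro M hM hM1 m G hG
    have hc : ∀ j, Coh.IsCoh (CohB1.tensorMod (CohB1.tensorPow M j) G) := fun j =>
      H11Ample.isCoh_of_isInvertible (H11Ample.isInvertible_tensor (H11Ample.isInvertible_tensorPow hM j) hG)
    rw [eulerCharLE_eq k hd (hc m).1, eulerCharLE_eq k hd (H11Ample.isCoh_of_isInvertible hG).1]
    induction m with
    | zero => exact H25Euler.euler_congr (H10Coh.Tw.leftUnitIso G)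
    | succ m ih =>
      rw [← ih, ← hM1 _ (hc m)]
      exact H25Euler.euler_congr (H25Theta.tI (H10Coh.Tw.commIso (CohB1.tensorPow M m) M) (Iso.refl G) ≪≫
        H10Coh.Tw.assoc M (CohB1.tensorPow M m) G)
  exact fun m n => ⟨hpow L hL hL1 m _ (H11Ample.isInvertible_tensorPow hHi n),
    hpow L hL hL1 m _ (H11Ample.isInvertible_tensorPow hH' n),
    hpow L' hL' hL2 m _ (H11Ample.isInvertible_tensorPow hHi n),
    hpow L' hL' hL2 m _ (H11Ample.isInvertible_tensorPow hH' n)⟩

end Groth.Agent.S4305
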