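import Groth.Statements.S4306
import Groth.Agent.H12Pic.Hodge.Numerical
import Groth.Agent.H12Pic.Bdd.Tau

set_option autoImplicit false
universe u
open CategoryTheory CategoryTheory.Limits AlgebraicGeometry
open Pic13

namespace Groth.Agent.S4306

open Groth.Agent.H22Alg

/-- Iterated differences along `H` only see the Euler characteristics of the twists by powers of `H`. -/
theorem D_replicate_congr {k : Type u} [Field k] {X : Scheme.{u}} [X.Over (Spec (CommRingCat.of k))]
    [IsProper (X ↘ Spec (CommRingCat.of k))] {H : X.Modules} :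
    ∀ (n : ℕ) (F G : X.Modules), (∀ j, Curv2.euler k X (CohB1.tensorMod (CohB1.tensorPow H j) F) =
      Curv2.euler k X (CohB1.tensorMod (CohB1.tensorPow H j) G)) →
    H28Int.D k (List.replicate n H) F = H28Int.D k (List.replicate n H) G
  | 0, F, G, h => by
    have h0 := h 0
    exact ((H25Euler.euler_congr (H10Coh.Tw.leftUnitIso F)).symm.trans h0).trans
      (H25Euler.euler_congr (H10Coh.Tw.leftUnitIso G))
  | n + 1, F, G, h => by
    rw [List.replicate_succ]
    show H28Int.D k _ F - H28Int.D k _ _ = H28Int.D k _ G - H28Int.D k _ _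
    rw [D_replicate_congr n F G h, D_replicate_congr n (CohB1.tensorMod H F) (CohB1.tensorMod H G) fun j => by
      rw [← H25Euler.euler_congr (H10Coh.Tw.assoc (CohB1.tensorPow H j) H F),
        ← H25Euler.euler_congr (H10Coh.Tw.assoc (CohB1.tensorPow H j) H G)]
      exact h (j + 1)]

/-- Let k be an algebraically closed field, X an irreducible proper k-scheme of dimension ≤ d carrying
an ample invertible module H with inverse H', and L an invertible module with inverse L'. Condition
(v): χ(L^{⊗ m} ⊗ H^{⊗ n}) = χ(H^{⊗ n}) for all integers m, n — written with natural exponents on L,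
L', H, H' to cover all signs, Euler characteristics in degrees ≤ d; condition (i): L is τ-equivalent
to zero. -/
theorem result (k : Type u) [Field k] [IsAlgClosed k] (X : Scheme.{u})
    [X.Over (Spec (CommRingCat.of k))] [IsProper (X ↘ Spec (CommRingCat.of k))] [IrreducibleSpace X]
    (d : ℕ) (hd : topologicalKrullDim X ≤ d) (H H' L L' : X.Modules) (hH : CohB1.IsAmple H) (hL : PicF.IsInvertible L)
    (hHH' : Nonempty (CohB1.tensorMod H H' ≅ Coh.structureModule X)) (hLL' : Nonempty (CohB1.tensorMod L L' ≅ Coh.structureModule X))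
    (hv : ∀ m n : ℕ,
      FGA.eulerCharLE k X (CohB1.tensorMod (CohB1.tensorPow L m) (CohB1.tensorPow H n)) d = FGA.eulerCharLE k X (CohB1.tensorPow H n) d ∧
      FGA.eulerCharLE k X (CohB1.tensorMod (CohB1.tensorPow L m) (CohB1.tensorPow H' n)) d = FGA.eulerCharLE k X (CohB1.tensorPow H' n) d ∧
      FGA.eulerCharLE k X (CohB1.tensorMod (CohB1.tensorPow L' m) (CohB1.tensorPow H n)) d = FGA.eulerCharLE k X (CohB1.tensorPow H n) d ∧
      FGA.eulerCharLE k X (CohB1.tensorMod (CohB1.tensorPow L' m) (CohB1.tensorPow H' n)) d = FGA.eulerCharLE k X (CohB1.tensorPow H' n) d) :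
    Pic13.IsTauEquivZero k X L := by
  haveI := H28Int.isNoetherian k (X := X)
  obtain ⟨eH⟩ := hHH'
  obtain ⟨eL⟩ := hLL'
  have hH'i := LeadBC.TrivFiber.isInvertible_of_tensor hH.1 eH
  have hL'i := LeadBC.TrivFiber.isInvertible_of_tensor hL eL
  let O := Coh.structureModule X
  have hO : Coh.IsCoh O := H10Coh.isCoh_structureModule' X
  have heu : ∀ m n : ℕ, Curv2.euler k X (CohB1.tensorMod (CohB1.tensorPow L' m) (CohB1.tensorPow H' n)) =
      Curv2.euler k X (CohB1.tensorPow H' n) := fun m n => by
    rw [← H28Int.eulerCharLE_eq k hd (H11Ample.isCoh_of_isInvertible (H11Ample.isInvertible_tensor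
        (H11Ample.isInvertible_tensorPow hL'i m) (H11Ample.isInvertible_tensorPow hH'i n))).1,
      ← H28Int.eulerCharLE_eq k hd (H11Ample.isCoh_of_isInvertible (H11Ample.isInvertible_tensorPow hH'i n)).1]
    exact (hv m n).2.2.2
  have hF1 : ∀ n, H28Int.D k (List.replicate n H') (CohB1.tensorMod L' O) = H28Int.D k (List.replicate n H') O :=
    fun n => D_replicate_congr n _ _ fun j => by
      rw [H25Euler.euler_congr (PicGrp.tensorModIso (Iso.refl _)
          (H10Coh.Tw.rightUnitIso L' ≪≫ (H10Coh.Tw.leftUnitIso L').symm) ≪≫ H10Coh.Tw.commIso _ _ :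
            CohB1.tensorMod (CohB1.tensorPow H' j) (CohB1.tensorMod L' O) ≅
              CohB1.tensorMod (CohB1.tensorPow L' 1) (CohB1.tensorPow H' j)), heu 1 j,
        H25Euler.euler_congr (H10Coh.Tw.rightUnitIso (CohB1.tensorPow H' j))]
  have hF2 : ∀ n, H28Int.D k (List.replicate n H') (CohB1.tensorMod L' (CohB1.tensorMod L' O)) =
      H28Int.D k (List.replicate n H') O :=
    fun n => D_replicate_congr n _ _ fun j => by
      rw [H25Euler.euler_congr (PicGrp.tensorModIso (Iso.refl _)
          ((H10Coh.Tw.assoc L' L' O).symm ≪≫ H10Coh.Tw.rightUnitIso _ ≪≫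
            PicGrp.tensorModIso (H10Coh.Tw.leftUnitIso L').symm (Iso.refl L')) ≪≫ H10Coh.Tw.commIso _ _ :
            CohB1.tensorMod (CohB1.tensorPow H' j) (CohB1.tensorMod L' (CohB1.tensorMod L' O)) ≅
              CohB1.tensorMod (CohB1.tensorPow L' 2) (CohB1.tensorPow H' j)), heu 2 j,
        H25Euler.euler_congr (H10Coh.Tw.rightUnitIso (CohB1.tensorPow H' j))]
  have hd1 : ∀ n, H28Int.D k (L' :: List.replicate n H') O = 0 := fun n => by
    show H28Int.D k _ O - H28Int.D k _ _ = 0
    rw [hF1 n, sub_self]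
  have hd2 : ∀ n, H28Int.D k (L' :: L' :: List.replicate n H') O = 0 := fun n => by
    show (H28Int.D k (List.replicate n H') O - H28Int.D k (List.replicate n H') (CohB1.tensorMod L' O)) -
      (H28Int.D k (List.replicate n H') (CohB1.tensorMod L' O) -
        H28Int.D k (List.replicate n H') (CohB1.tensorMod L' (CohB1.tensorMod L' O))) = 0
    rw [hF1 n, hF2 n, sub_self]
  have hrep : ∀ m, List.Forall₂ (fun A A' => PicF.IsInvertible A ∧ PicF.IsInvertible A' ∧
      Nonempty (CohB1.tensorMod A A' ≅ Coh.structureModule X)) (List.replicate m H) (List.replicate m H') := fun m => by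
    induction m with
    | zero => exact List.Forall₂.nil
    | succ m ih => exact List.Forall₂.cons ⟨hH.1, hH'i, ⟨eH⟩⟩ ih
  have hsd : ∀ r : ℕ, topologicalKrullDim X = (r : WithBot ℕ∞) →
      topologicalKrullDim (CohB1.support O) ≤ (r : WithBot ℕ∞) := fun r hr =>
    (Topology.IsInducing.subtypeVal.topologicalKrullDim_le).trans hr.le
  obtain ⟨r, hr⟩ : ∃ r : ℕ, topologicalKrullDim X = (r : WithBot ℕ∞) := by
    obtain ⟨s, hs, -⟩ := VarDim.exists_cdim_trdeg k X (genericPoint X)
    exact ⟨s, (VarDim.cdim_genericPoint X).symm.trans hs⟩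
  refine H12Pic.Bdd.isTauEquivZero_of_nt k ⟨hL, ?_⟩
  have hQ1 : ∀ n, r = n + 1 → NefQ.Q k (L :: List.replicate n H) O = 0 := fun n hn => by
    have h := H12Pic.Hodge.Q_inverses k hO (List.Forall₂.cons ⟨hL, hL'i, ⟨eL⟩⟩ (hrep n)) [] (by simp)
      (by simpa [hn] using hsd r hr)
    simp only [List.nil_append] at h
    rw [NefQ.Q, hd1 n, mul_zero] at h
    exact (mul_eq_zero.1 h.symm).resolve_left (by simp)
  rcases r with _ | _ | s
  · refine (H12Pic.NumTriv.num_iff_Q k hL).2 fun Z i _ _ hZ => absurd ?_ (not_le.2 (WithBot.coe_lt_coe.2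
      (ENat.natCast_lt_natCast.2 one_pos)))
    refine le_of_eq_of_le hZ.symm ?_
    rw [i.isClosedEmbedding.isEmbedding.toHomeomorph.isHomeomorph.topologicalKrullDim_eq]
    exact Topology.IsInducing.subtypeVal.topologicalKrullDim_le.trans hr.le
  · obtain ⟨W, oW, pW, hW, j, hji, hj, hrange, hWd, c, hc, hrel⟩ := H12Pic.Hodge.exists_red k hr
    letI := oW
    haveI := pW; haveI := hW; haveI := hji
    haveI := H28Int.isNoetherian k (X := W)
    have h := hrel [L] (by simpa using hL) rfl
    have hQ := hQ1 0 rfl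
    rw [List.replicate_zero] at hQ
    rw [hQ] at h
    have h0 := (mul_eq_zero.1 h.symm).resolve_left hc.ne'
    refine (H12Pic.NumTriv.num_iff_Q k hL).2 fun Z i _ _ hZ => H12Pic.Hodge.Q_eq_zero_of_restrict k j hj hL
      (fun Z' i' _ _ hZ' => ?_) (LeadDev.isCoh_push_structure _) (by rw [hrange]; exact Set.subset_univ _)
      (H12Pic.NefBC.support_quotMod_ker_le k i hZ)
    have hgen : i' (genericPoint Z') = genericPoint W := by
      by_contra hne
      have hlt := DevLength.dim_closure_lt (genericPoint_specializes _) hne (d := 1)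
        ((H22Alg.VarDim.cdim_genericPoint W).le.trans hWd.le)
      rw [← LeadDev.range_eq_closure i' rfl,
        ← i'.isClosedEmbedding.isEmbedding.toHomeomorph.isHomeomorph.topologicalKrullDim_eq, hZ'] at hlt
      exact lt_irrefl _ hlt
    rw [IntPullback.quotMod_ker, hgen]
    have h2 := Nakai.D_quotMod_id k (l := [(Scheme.Modules.pullback j).obj L])
      (by simpa using H11Ample.isInvertible_pullback j hL) hWd
    rw [IntPullback.quotMod_ker (𝟙 W)] at h2
    exact (congrArg (fun a => (-1 : ℤ) ^ 1 * a) h2).trans h0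
  · have h2 : NefQ.Q k (L :: L :: List.replicate s H) O = 0 := by
      have h := H12Pic.Hodge.Q_inverses k hO (List.Forall₂.cons ⟨hL, hL'i, ⟨eL⟩⟩
        (List.Forall₂.cons ⟨hL, hL'i, ⟨eL⟩⟩ (hrep s))) [] (by simp) (by simpa using hsd _ hr)
      simp only [List.nil_append] at h
      rw [NefQ.Q, hd2 s, mul_zero] at h
      exact (mul_eq_zero.1 h.symm).resolve_left (by simp)
    exact (H12Pic.Hodge.index_irreducible k hr hH hL (hQ1 (s + 1) rfl)).2 h2.ge

end Groth.Agent.S4306
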