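import Groth.Statements.S4301
import Groth.Agent.S4305
import Groth.Agent.S4306
import Groth.Agent.H11Ample.HQProj
import Groth.Agent.H11Ample.RelPullback
import Groth.Agent.H28Bc.EulerConst
import Groth.Agent.H28Bc.FieldPoint
import Groth.Agent.H06EGA9.StructureStalk

set_option linter.style.haveILetI false
set_option autoImplicit false
set_option backward.isDefEq.respectTransparency.types false
universe u
open CategoryTheory CategoryTheory.Limits AlgebraicGeometry
open Pic13

namespace Groth.Agent.S4301

/-- Let S be a Noetherian scheme, i : X ⟶ P^n_S a closed immersion with f : X ⟶ S the composite with the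
projection, f flat with integral geometric fibres, and L an invertible O_X-module. Then the set of
points s of S such that L is τ-equivalent to zero on the geometric fibre at s is closed (it is also
open, but only closedness is asserted here). (The published statement is that Pic^τ_{X/S} ⟶
Pic_{X/S} is representable by an open and closed immersion; this is the form reached in its proof.) -/
theorem result {X S : Scheme.{u}} [IsNoetherian S] (n : ℕ)
    (i : X ⟶ CohB1.ProjSpaceOver n S) [IsClosedImmersion i] [Flat (i ≫ CohB1.ProjSpaceOver.toBase n S)]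
    (hint : ∀ (Ω : Type u) [Field Ω] [IsAlgClosed Ω] (σ : Spec (CommRingCat.of Ω) ⟶ S), IsIntegral (pullback (i ≫ CohB1.ProjSpaceOver.toBase n S) σ))
    (L : X.Modules) (hL : PicF.IsInvertible L) :
    IsClosed {s : S | Pic13.IsTauTrivialAt (i ≫ CohB1.ProjSpaceOver.toBase n S) L s} := by
  let f := i ≫ CohB1.ProjSpaceOver.toBase n S
  haveI : IsProper (CohB1.ProjSpaceOver.toBase n S) := H27Weil.isProper_toBase n S
  haveI : IsProper f := inferInstanceAs (IsProper (i ≫ CohB1.ProjSpaceOver.toBase n S))
  haveI : Flat f := inferInstanceAs (Flat (i ≫ CohB1.ProjSpaceOver.toBase n S))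
  haveI : IsLocallyNoetherian X := LocallyOfFiniteType.isLocallyNoetherian f
  haveI : LocallyOfFinitePresentation f := LocallyOfFinitePresentation.iff_locallyOfFiniteType.2 inferInstance
  let H := (Scheme.Modules.pullback i).obj (Twist.twistOver n S 1)
  have hHrel : RelAmple.IsRelAmple f H :=
    H11Ample.isRelAmple_pullback_of_isQuasiAffine (H11Ample.isQuasiAffineHom_of_isEmbedding i i.isEmbedding)
      (H11Ample.isRelAmple_twistOver n S)
  have hH : PicF.IsInvertible H := H11Ample.isInvertible_of_isRelAmple hHrel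
  obtain ⟨H', hH', ⟨eH'⟩⟩ := H11Sym.exists_inverse hH
  obtain ⟨L', hL', ⟨eL'⟩⟩ := H11Sym.exists_inverse hL
  let eH := H10Coh.Tw.commIso H H' ≪≫ eH'
  let eL := H10Coh.Tw.commIso L L' ≪≫ eL'
  let e : X.Modules → S → ℤ := fun G s => PerfAux.eulerChar f G s
  let P : X.Modules → X.Modules → ℕ → ℕ → X.Modules := fun A B m j =>
    CohB1.tensorMod (CohB1.tensorPow A m) (CohB1.tensorPow B j)
  let C : S → ℕ → ℕ → Prop := fun s m j =>
    e (P L H m j) s = e (CohB1.tensorPow H j) s ∧ e (P L H' m j) s = e (CohB1.tensorPow H' j) s ∧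
      e (P L' H m j) s = e (CohB1.tensorPow H j) s ∧ e (P L' H' m j) s = e (CohB1.tensorPow H' j) s
  have hflat : ∀ G : X.Modules, PicF.IsInvertible G → FlatMod.IsFlatOver f G := fun G hG x =>
    (H06EGA9.isFlatOverAt_congr_iso f (H10Coh.Tw.leftUnitIso G) x).1
      (H12Pic.AlgEquivEuler.isFlatOverAt_tensor f hG
        ((H06EGA9.isFlatOverAt_structureModule_iff f x).2 (Flat.stalkMap f x)))
  have hloc : ∀ G : X.Modules, PicF.IsInvertible G → IsLocallyConstant (e G) := fun G hG => by
    have hc := H11Ample.isCoh_of_isInvertible hG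
    haveI : G.IsQuasicoherent := hc.1
    exact H28Bc.isLocallyConstant_eulerChar f G (H10Coh.isFP_of_isCoh G hc) (hflat G hG)
  -- the condition on a geometric fibre
  have key : ∀ (Ω : Type u) [Field Ω] [IsAlgClosed Ω] (σ : Spec (CommRingCat.of Ω) ⟶ S) (s : S),
      Set.range σ.base = {s} → ((∀ m j, C s m j) ↔
        @Pic13.IsTauEquivZero Ω _ (pullback f σ) ⟨pullback.snd f σ⟩ ((Scheme.Modules.pullback (pullback.fst f σ)).obj L)) := by
    intro Ω _ _ σ s hσ
    let Y := pullback f σ
    let q : Y ⟶ X := pullback.fst f σ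
    letI oY : Y.Over (Spec (CommRingCat.of Ω)) := ⟨pullback.snd f σ⟩
    haveI : IsProper (Y ↘ Spec (CommRingCat.of Ω)) := inferInstanceAs (IsProper (pullback.snd f σ))
    haveI : IsIntegral Y := hint Ω σ
    haveI := H28Int.isNoetherian Ω (X := Y)
    obtain ⟨d, hd⟩ : ∃ d : ℕ, topologicalKrullDim Y = (d : WithBot ℕ∞) := by
      obtain ⟨t, ht, -⟩ := H22Alg.VarDim.exists_cdim_trdeg Ω Y (genericPoint Y)
      exact ⟨t, (H22Alg.VarDim.cdim_genericPoint Y).symm.trans ht⟩
    let Q := Scheme.Modules.pullback q
    have hAq : CohB1.IsAmple (Q.obj H) :=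
      (H11Ample.isRelAmple_iff_isAmple_of_isAffine (f := pullback.snd f σ)).1 (H11Ample.isRelAmple_baseChange f σ hHrel)
    let eQH : CohB1.tensorMod (Q.obj H) (Q.obj H') ≅ Coh.structureModule Y :=
      (H25Theta.pT q H H').symm ≪≫ Q.mapIso eH ≪≫ H16Derived.KFlat.Stalk.structurePullbackIso q
    let eQL : CohB1.tensorMod (Q.obj L) (Q.obj L') ≅ Coh.structureModule Y :=
      (H25Theta.pT q L L').symm ≪≫ Q.mapIso eL ≪≫ H16Derived.KFlat.Stalk.structurePullbackIso q
    have hbc : ∀ G : X.Modules, PicF.IsInvertible G → FGA.eulerCharLE Ω Y (Q.obj G) d = e G s := fun G hG => by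
      rw [H28Int.eulerCharLE_eq Ω hd.le (H11Ample.isCoh_of_isInvertible (H11Ample.isInvertible_pullback q hG)).1]
      exact H28Bc.euler_eq_eulerChar f G (H11Ample.isCoh_of_isInvertible hG) (hflat G hG) q σ
        (IsPullback.of_hasPullback f σ) (fun z => (hσ ▸ Set.mem_range_self z : σ.base z ∈ ({s} : Set S)))
    have hpow : ∀ B : X.Modules, PicF.IsInvertible B → ∀ j,
        FGA.eulerCharLE Ω Y (CohB1.tensorPow (Q.obj B) j) d = e (CohB1.tensorPow B j) s := fun B hB j => by
      obtain ⟨w⟩ := H11Ample.exists_iso_pullback_tensorPow q hB j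
      rw [← hbc _ (H11Ample.isInvertible_tensorPow hB j),
        H28Int.eulerCharLE_eq Ω hd.le (H11Ample.isCoh_of_isInvertible
          (H11Ample.isInvertible_tensorPow (H11Ample.isInvertible_pullback q hB) j)).1,
        H28Int.eulerCharLE_eq Ω hd.le (H11Ample.isCoh_of_isInvertible
          (H11Ample.isInvertible_pullback q (H11Ample.isInvertible_tensorPow hB j))).1]
      exact H25Euler.euler_congr w.symm
    have hprod : ∀ A B : X.Modules, PicF.IsInvertible A → PicF.IsInvertible B → ∀ m j,
        FGA.eulerCharLE Ω Y (CohB1.tensorMod (CohB1.tensorPow (Q.obj A) m) (CohB1.tensorPow (Q.obj B) j)) d =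
          e (P A B m j) s := fun A B hA hB m j => by
      obtain ⟨wA⟩ := H11Ample.exists_iso_pullback_tensorPow q hA m
      obtain ⟨wB⟩ := H11Ample.exists_iso_pullback_tensorPow q hB j
      have hi : PicF.IsInvertible (P A B m j) :=
        H11Ample.isInvertible_tensor (H11Ample.isInvertible_tensorPow hA m) (H11Ample.isInvertible_tensorPow hB j)
      rw [← hbc _ hi,
        H28Int.eulerCharLE_eq Ω hd.le (H11Ample.isCoh_of_isInvertible (H11Ample.isInvertible_tensor
          (H11Ample.isInvertible_tensorPow (H11Ample.isInvertible_pullback q hA) m)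
          (H11Ample.isInvertible_tensorPow (H11Ample.isInvertible_pullback q hB) j))).1,
        H28Int.eulerCharLE_eq Ω hd.le (H11Ample.isCoh_of_isInvertible (H11Ample.isInvertible_pullback q hi)).1]
      exact H25Euler.euler_congr (H25Theta.pT q _ _ ≪≫ PicGrp.tensorModIso wA wB).symm
    constructor
    · intro hC
      exact Groth.Agent.S4306.result Ω Y d hd.le (Q.obj H) (Q.obj H') (Q.obj L) (Q.obj L') hAq
        (H11Ample.isInvertible_pullback q hL) ⟨eQH⟩ ⟨eQL⟩ fun m j => by
          rw [hprod L H hL hH, hprod L H' hL hH', hprod L' H hL' hH, hprod L' H' hL' hH', hpow H hH, hpow H' hH']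
          exact hC m j
    · intro hτ m j
      have h := Groth.Agent.S4305.result Ω Y d hd.le (Q.obj H) (Q.obj H') (Q.obj L) (Q.obj L') hAq
        (H11Ample.isInvertible_pullback q hL) ⟨eQH⟩ ⟨eQL⟩ hτ m j
      rwa [hprod L H hL hH, hprod L H' hL hH', hprod L' H hL' hH, hprod L' H' hL' hH', hpow H hH, hpow H' hH'] at h
  have hset : {s : S | Pic13.IsTauTrivialAt f L s} = ⋂ p : ℕ × ℕ, {s : S | C s p.1 p.2} := by
    ext s
    simp only [Set.mem_setOf_eq, Set.mem_iInter, Prod.forall]
    constructor
    · intro h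
      let Ω := AlgebraicClosure (S.residueField s)
      let σ : Spec (CommRingCat.of Ω) ⟶ S :=
        Spec.map (CommRingCat.ofHom (algebraMap (S.residueField s) Ω)) ≫ S.fromSpecResidueField s
      have hσ : Set.range σ.base = {s} := by
        rw [Set.eq_singleton_iff_unique_mem]
        have hmem : ∀ z, σ.base z ∈ Set.range (S.fromSpecResidueField s).base := fun z => ⟨_, rfl⟩
        simp only [Scheme.range_fromSpecResidueField, Set.mem_singleton_iff] at hmem
        exact ⟨⟨default, hmem _⟩, by rintro _ ⟨z, rfl⟩; exact hmem z⟩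
      exact (key Ω σ s hσ).2 (h Ω σ hσ)
    · intro hC Ω _ _ σ hσ
      exact (key Ω σ s hσ).1 hC
  rw [hset]
  refine isClosed_iInter fun p => ?_
  have hP : ∀ A B : X.Modules, PicF.IsInvertible A → PicF.IsInvertible B →
      IsClosed {s : S | e (P A B p.1 p.2) s = e (CohB1.tensorPow B p.2) s} := fun A B hA hB =>
    isClosed_eq (hloc _ (H11Ample.isInvertible_tensor (H11Ample.isInvertible_tensorPow hA _)
      (H11Ample.isInvertible_tensorPow hB _))).continuous (hloc _ (H11Ample.isInvertible_tensorPow hB _)).continuous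
  exact (hP L H hL hH).inter ((hP L H' hL hH').inter ((hP L' H hL' hH).inter (hP L' H' hL' hH')))

end Groth.Agent.S4301
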