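import Groth.Statements.S4302
import Groth.Agent.H16Derived.TorTest.PerfAmpIn
import Groth.Agent.H16Derived.Exchange.ProjBound
import Groth.Agent.H16Derived.Exchange.ProjPC
import Groth.Agent.H16Derived.KFlat.PushPull

set_option autoImplicit false
universe u
open CategoryTheory CategoryTheory.Limits AlgebraicGeometry
attribute [local instance] HasDerivedCategory.standard
open KSix

namespace Groth.Agent.S4302

open Groth.Agent.H16Derived Groth.Agent.H16Derived.KFlat Groth.Agent.H16Derived.KFlat.Stalk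

/-- Over an affine base Y, through the embedding criterion for perfect amplitude: let i : X ⟶ P^r_Y be a
closed immersion with Y affine, f : X ⟶ Y the composite with the projection, and E a bounded object
of D(O_X) such that Ri_*E has perfect amplitude in [a, b] on P^r_Y. Assuming the derived functors
exist, Rf_*E has perfect amplitude in [a, b + r] on Y (r bounds the cohomological dimension of f on
quasi-coherent modules). -/
theorem result {X Y : Scheme.{u}} [IsAffine Y] (r : ℕ)
    (i : X ⟶ CohB1.ProjSpaceOver r Y) [IsClosedImmersion i]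
    [DCoh.HasRpush i] [DCoh.HasRpush (i ≫ CohB1.ProjSpaceOver.toBase r Y)]
    (E : DCoh.D X) (a₀ b₀ : ℤ) [E.IsGE a₀] [E.IsLE b₀] (a b : ℤ)
    (hE : KSix.HasPerfectAmplitudeIn a b ((DCoh.Rpush i).obj E)) :
    KSix.HasPerfectAmplitudeIn a (b + r) ((DCoh.Rpush (i ≫ CohB1.ProjSpaceOver.toBase r Y)).obj E) := by
  let π := CohB1.ProjSpaceOver.toBase r Y
  haveI : IsProper π := Groth.Agent.H27Weil.isProper_toBase r Y
  haveI : Flat π := Exchange.flat_toBase r
  haveI : LocallyOfFinitePresentation π := Exchange.lfp_toBase r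
  haveI := QCohD.hasRpush π
  obtain ⟨ec⟩ := nonempty_rpushCompIso i π
  let F := DerivedCategory.Q.objPreimage ((DCoh.Rpush i).obj E)
  let eF : DCoh.toD _ F ≅ (DCoh.Rpush i).obj E := DerivedCategory.Q.objObjPreimageIso _
  have hPA : KSix.HasPerfectAmplitudeIn a b (DCoh.toD _ F) := fun x => by
    obtain ⟨V, hx, hV⟩ := hE x
    exact ⟨V, hx, fun G ⟨eG⟩ => hV G ⟨eG ≪≫ eF⟩⟩
  have hpc := fun m => isPseudoCoherentD_of_isPerfect (TorTest.isPerfect_of_hasPerfectAmplitudeIn hPA) m
  have hqc := BaseChange.isQCohD_of_pc hpc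
  have hta : DerSch.HasTorAmplitude π a b F := fun x =>
    (TorTest.at_congr (Category.id_comp π) a b F x).1
      (TorTest.at_comp_flat (𝟙 _) π (TorTest.hasTorAmplitude_of_hasPerfectAmplitudeIn hPA x))
  have hN : ∀ M : (CohB1.ProjSpaceOver r Y).Modules, Coh.IsQCoh M → ∀ j : ℤ, (r : ℤ) < j →
      IsZero (DCoh.HD ((DCoh.Rpush π).obj (DCoh.inD _ M)) j) := fun M hM j hj =>
    QCohD.vanish_isGE π (Exchange.bound_toBase Y r) (DCoh.inD _ M) 0 0 (TorTest.isQCohD_inD hM) j
      (by push_cast; omega)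
  let K := DerivedCategory.Q.objPreimage ((DCoh.Rpush π).obj (DCoh.toD _ F))
  let eK : DCoh.toD Y K ≅ (DCoh.Rpush π).obj (DCoh.toD _ F) := DerivedCategory.Q.objObjPreimageIso _
  have hK := TorTest.hasTorAmplitudeD_rpush_bound π (𝟙 Y) π F (Category.comp_id π) hqc r hN hta K ⟨eK⟩
  let e : DCoh.toD Y K ≅ (DCoh.Rpush (i ≫ π)).obj E := eK ≪≫ (DCoh.Rpush π).mapIso eF ≪≫ ec.app E
  exact TorTest.hasPerfectAmplitudeIn_of_at e
    (isPseudoCoherentD_of_iso (eK.symm ≪≫ e) (BaseChange.isPseudoCoherentD_rpush π hpc _)) hK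

end Groth.Agent.S4302
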