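import Groth.Statements.S4303
import Groth.Agent.H12Pic.BoundedEuler
import Groth.Agent.H28Int.Surface
import Groth.Agent.H17.InvertibleTensor
import Groth.Agent.H10Coh.TensorTilde

set_option autoImplicit false
set_option linter.style.haveILetI false
universe u
open CategoryTheory CategoryTheory.Limits AlgebraicGeometry
open Pic13
open Groth.Agent Groth.Agent.H28Int Groth.Agent.H25Theta

namespace Groth.Agent.S4303

/-- (i) implies (iii), over S = Spec k with k algebraically closed: let X be a proper integral k-scheme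
of dimension r = s + 2 ≥ 2 carrying an ample invertible module H with inverse H', and P a family of
invertible O_X-modules. Condition (iii): as L runs through P (with inverse L'), the degree
(c₁(L)·c₁(H)^{r-1}) stays bounded and (c₁(L)²·c₁(H)^{r-2}) stays bounded below; condition (i): P is
bounded. Intersection numbers are those of FGA.intNum, taking the inverse modules as arguments. -/
theorem result (k : Type u) [Field k] [IsAlgClosed k] (X : Scheme.{u})
    [X.Over (Spec (CommRingCat.of k))] [IsProper (X ↘ Spec (CommRingCat.of k))] [IsIntegral X] (s : ℕ)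
    (hdim : topologicalKrullDim X = (s + 2 : ℕ)) (H H' : X.Modules) (hH : CohB1.IsAmple H)
    (hHH' : Nonempty (CohB1.tensorMod H H' ≅ Coh.structureModule X))
    (P : X.Modules → Prop) (hP : ∀ L, P L → PicF.IsInvertible L)
    (hb : Pic13.IsBounded k X P) :
    ∃ B : ℤ, ∀ L L' : X.Modules, P L → Nonempty (CohB1.tensorMod L L' ≅ Coh.structureModule X) →
      |FGA.intNum k X (s + 2) (Matrix.vecCons L' (fun _ : Fin (s + 1) => H')) (Coh.structureModule X)| ≤ B ∧
      -B ≤ FGA.intNum k X (s + 2) (Matrix.vecCons L' (Matrix.vecCons L' (fun _ : Fin s => H'))) (Coh.structureModule X) := by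
  obtain ⟨T, q, hq1, hq2, F, hF, hfam⟩ := hb
  haveI := hq1
  haveI := hq2
  haveI : IsLocallyNoetherian T := LocallyOfFiniteType.isLocallyNoetherian q
  haveI : IsLocallyNoetherian (Pic13.prodK k X q) :=
    LocallyOfFiniteType.isLocallyNoetherian (pullback.snd (X ↘ Spec (CommRingCat.of k)) q)
  haveI := H28Int.isNoetherian k (X := X)
  obtain ⟨eH⟩ := hHH'
  have hH' : PicF.IsInvertible H' :=
    H17.InvertibleTensor.isInvertible_of_tensor_iso H' H (H10Coh.Tw.commIso H' H ≪≫ eH)
  have hrep : ∀ j, ∀ A ∈ List.replicate j H', PicF.IsInvertible A := fun j A hA =>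
    (List.eq_of_mem_replicate hA) ▸ hH'
  obtain ⟨B₁, hB₁⟩ := H12Pic.BoundedEuler.exists_bound_D k q _ (hrep (s + 1)) F hF
  obtain ⟨B₂, hB₂⟩ := H12Pic.BoundedEuler.exists_bound_D k q _ (hrep s) F hF
  obtain ⟨B₃, hB₃⟩ := H12Pic.BoundedEuler.exists_bound_D k q _ (hrep s) (CohB1.tensorMod F F)
    (H10Coh.TT.isCoh_tensorMod hF hF)
  set O := Coh.structureModule X with hOdef
  have hO : Coh.IsCoh O := Surface.isCoh_structure k
  have hd : topologicalKrullDim X ≤ ((s + 2 : ℕ) : WithBot ℕ∞) := hdim.le
  have hdO : topologicalKrullDim (CohB1.support O) ≤ ((s + 2 : ℕ) : WithBot ℕ∞) :=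
    Topology.IsInducing.subtypeVal.topologicalKrullDim_le.trans hd
  refine ⟨B₁ + |H28Int.D k (List.replicate (s + 1) H') O| + B₃ + 2 * B₂ + |H28Int.D k (List.replicate s H') O|,
    fun L L' hLP hLL' => ?_⟩
  obtain ⟨eL⟩ := hLL'
  have hL := hP L hLP
  let eL' : CohB1.tensorMod L' L ≅ O := H10Coh.Tw.commIso L' L ≪≫ eL
  have hL' : PicF.IsInvertible L' := H17.InvertibleTensor.isInvertible_of_tensor_iso L' L eL'
  obtain ⟨t, ht, ⟨et⟩⟩ := hfam L hLP
  have h1 := hB₁ t ht
  rw [(isAddFn_D k _ (hrep (s + 1))).congr et] at h1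
  have h2 := hB₂ t ht
  rw [(isAddFn_D k _ (hrep s)).congr et] at h2
  have h3 := hB₃ t ht
  rw [show H28Int.D k (List.replicate s H') (Pic13.fibreMod k X q t ht (CohB1.tensorMod F F)) = _ from
    (isAddFn_D k _ (hrep s)).congr (pT (Pic13.sliceAt k X q t ht) F F ≪≫ tI et et)] at h3
  have hcons : ∀ (l : List X.Modules), (∀ A ∈ l, PicF.IsInvertible A) → ∀ A ∈ L' :: l, PicF.IsInvertible A :=
    fun l hl => List.forall_mem_cons.2 ⟨hL', hl⟩
  have hdeg : H28Int.D k (L' :: List.replicate (s + 1) H') O =
      H28Int.D k (List.replicate (s + 1) H') L - H28Int.D k (List.replicate (s + 1) H') O := by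
    rw [← D_twist k (hcons _ (hrep _)) hL hO (le_of_le_of_eq hdO (by simp [List.length_replicate]; ring)),
      (isAddFn_D k _ (hcons _ (hrep _))).congr (H10Coh.Tw.rightUnitIso L)]
    show H28Int.D k _ L - H28Int.D k _ (CohB1.tensorMod L' L) = _
    rw [(isAddFn_D k _ (hrep _)).congr eL']
  have hsq : H28Int.D k (L' :: L' :: List.replicate s H') O =
      H28Int.D k (List.replicate s H') (CohB1.tensorMod L L) - 2 * H28Int.D k (List.replicate s H') L +
        H28Int.D k (List.replicate s H') O := by
    let e2 : CohB1.tensorMod L' (CohB1.tensorMod L L) ≅ L :=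
      (H10Coh.Tw.assoc L' L L).symm ≪≫ tI eL' (Iso.refl L) ≪≫ H10Coh.Tw.leftUnitIso L
    rw [← D_twist k (hcons _ (hcons _ (hrep _))) (H11Ample.isInvertible_tensor hL hL) hO (le_of_le_of_eq hdO (by simp [List.length_replicate]; ring)),
      (isAddFn_D k _ (hcons _ (hcons _ (hrep _)))).congr (H10Coh.Tw.rightUnitIso _)]
    show H28Int.D k (L' :: List.replicate s H') _ - H28Int.D k (L' :: List.replicate s H') _ = _
    rw [(isAddFn_D k _ (hcons _ (hrep _))).congr e2]
    show (H28Int.D k _ (CohB1.tensorMod L L) - H28Int.D k _ _) - (H28Int.D k _ L - H28Int.D k _ (CohB1.tensorMod L' L)) = _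
    rw [(isAddFn_D k _ (hrep _)).congr e2, (isAddFn_D k _ (hrep _)).congr eL']
    ring
  have i1 : FGA.intNum k X (s + 2) (Matrix.vecCons L' (fun _ : Fin (s + 1) => H')) O =
      H28Int.D k (L' :: List.replicate (s + 1) H') O := by
    refine (H28Int.intNum_eq k hd _ (fun j => ?_) hO).trans ?_
    · cases j using Fin.cases with
      | zero => exact hL'
      | succ j => exact hH'
    · rw [List.ofFn_succ]
      simp only [Matrix.cons_val_succ, Matrix.cons_val_zero, List.ofFn_const]
  have i2 : FGA.intNum k X (s + 2) (Matrix.vecCons L' (Matrix.vecCons L' (fun _ : Fin s => H'))) O =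
      H28Int.D k (L' :: L' :: List.replicate s H') O := by
    refine (H28Int.intNum_eq k hd _ (fun j => ?_) hO).trans ?_
    · cases j using Fin.cases with
      | zero => exact hL'
      | succ j =>
        cases j using Fin.cases with
        | zero => exact hL'
        | succ j => exact hH'
    · rw [List.ofFn_succ, List.ofFn_succ]
      simp [Matrix.cons_val_succ, List.ofFn_const]
  rw [i1, i2, hdeg, hsq]
  have := abs_le.1 h2
  have := abs_le.1 h3
  have := abs_le.1 h1
  have := neg_abs_le (H28Int.D k (List.replicate s H') O)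
  have := abs_nonneg (H28Int.D k (List.replicate (s + 1) H') O)
  have := abs_nonneg (H28Int.D k (List.replicate s H') O)
  have := abs_le.1 (le_refl |H28Int.D k (List.replicate (s + 1) H') O|)
  refine ⟨abs_le.2 ⟨?_, ?_⟩, ?_⟩ <;> linarith

end Groth.Agent.S4303
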