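import Groth.Statements.S4304
import Groth.Agent.H12Pic.Hodge.Classes
-- import your own Groth.Agent.* helpers here

set_option autoImplicit false
universe u
open CategoryTheory CategoryTheory.Limits AlgebraicGeometry
open Pic13

namespace Groth.Agent.S4304

/-- (iii) implies (i), over S = Spec k with k algebraically closed: let X be a proper integral k-scheme
of dimension r = s + 2 ≥ 2 carrying an ample invertible module H with inverse H', and P a family of
invertible O_X-modules. Condition (iii): as L runs through P (with inverse L'), the degree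
(c₁(L)·c₁(H)^{r-1}) stays bounded and (c₁(L)²·c₁(H)^{r-2}) stays bounded below; condition (i): P is
bounded. Intersection numbers are those of FGA.intNum, taking the inverse modules as arguments. -/
theorem result (k : Type u) [Field k] [IsAlgClosed k] (X : Scheme.{u})
    [X.Over (Spec (CommRingCat.of k))] [IsProper (X ↘ Spec (CommRingCat.of k))] [IsIntegral X] (s : ℕ)
    (hdim : topologicalKrullDim X = (s + 2 : ℕ)) (H H' : X.Modules) (hH : CohB1.IsAmple H)
    (hHH' : Nonempty (CohB1.tensorMod H H' ≅ Coh.structureModule X))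
    (P : X.Modules → Prop) (hP : ∀ L, P L → PicF.IsInvertible L)
    (hiii : ∃ B : ℤ, ∀ L L' : X.Modules, P L → Nonempty (CohB1.tensorMod L L' ≅ Coh.structureModule X) →
      |FGA.intNum k X (s + 2) (Matrix.vecCons L' (fun _ : Fin (s + 1) => H')) (Coh.structureModule X)| ≤ B ∧
      -B ≤ FGA.intNum k X (s + 2) (Matrix.vecCons L' (Matrix.vecCons L' (fun _ : Fin s => H'))) (Coh.structureModule X)) :
    Pic13.IsBounded k X P := by
  haveI := H28Int.isNoetherian k (X := X)
  obtain ⟨eH⟩ := hHH'
  obtain ⟨B, hB⟩ := hiii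
  have hH'i := LeadBC.TrivFiber.isInvertible_of_tensor hH.1 eH
  have hO := H10Coh.isCoh_structureModule' X
  have hdl : topologicalKrullDim (CohB1.support (Coh.structureModule X)) ≤ ((s + 2 : ℕ) : WithBot ℕ∞) :=
    (Topology.IsInducing.subtypeVal.topologicalKrullDim_le).trans hdim.le
  refine ((H12Pic.Hodge.bdd_pset k hdim hH B).subset fun L hL => ?_).isBounded
  have hLi := hP L hL
  obtain ⟨L', hL'i, ⟨e₀⟩⟩ := H11Sym.exists_inverse hLi
  let eL := H10Coh.Tw.commIso L L' ≪≫ e₀
  obtain ⟨h1, h2⟩ := hB L L' hL ⟨eL⟩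
  rw [show FGA.intNum k X (s + 2) (Matrix.vecCons L' (fun _ : Fin (s + 1) => H')) (Coh.structureModule X) =
      H22Alg.NefQ.Q k (List.ofFn (Matrix.vecCons L (fun _ : Fin (s + 1) => H))) (Coh.structureModule X) from
    H12Pic.Hodge.intNum_inverses k hdim.le (Fin.cases hLi fun _ => hH.1) (Fin.cases hL'i fun _ => hH'i)
      (Fin.cases ⟨eL⟩ fun _ => ⟨eH⟩) hO hdl, List.ofFn_succ] at h1
  rw [show FGA.intNum k X (s + 2) (Matrix.vecCons L' (Matrix.vecCons L' (fun _ : Fin s => H'))) (Coh.structureModule X) =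
      H22Alg.NefQ.Q k (List.ofFn (Matrix.vecCons L (Matrix.vecCons L (fun _ : Fin s => H)))) (Coh.structureModule X) from
    H12Pic.Hodge.intNum_inverses k hdim.le (Fin.cases hLi (Fin.cases hLi fun _ => hH.1))
      (Fin.cases hL'i (Fin.cases hL'i fun _ => hH'i)) (Fin.cases ⟨eL⟩ (Fin.cases ⟨eL⟩ fun _ => ⟨eH⟩)) hO hdl,
    List.ofFn_succ, List.ofFn_succ] at h2
  simp only [Matrix.cons_val_zero, Matrix.cons_val_succ, List.ofFn_const] at h1 h2
  exact ⟨hLi, h1, h2⟩
end Groth.Agent.S4304
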