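import Groth.Statements.S4313
import Groth.Agent.H05EGA4.An.StalkNoetherian

set_option autoImplicit false
open CategoryTheory AlgebraicGeometry Topology TopologicalSpace
open An

namespace Groth.Agent.S4313

/-- The flatness assertion: for X reduced and locally of finite type over ℂ (the associated analytic
space being X(ℂ) with the sheaf of holomorphic functions): for every ℂ-point x, the induced map on
stalks O_{X, x} → O_{X^an, x} (germs of regular functions to germs of holomorphic functions) is
flat. The published statement is the stronger one that it induces an isomorphism on completions. -/
theorem result (X : Scheme.{0}) [X.Over An.SC] [LocallyOfFiniteType (X ↘ An.SC)]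
    [IsReduced X] (x : An.Pts X) :
    (PresheafedSpace.Hom.stalkMap (An.anToScheme X) x).hom.Flat := by
  exact Groth.Agent.H05EGA4.AnStalkNoetherian.flat_φ x

end Groth.Agent.S4313
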