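import Groth.Statements.S4315
import Groth.Agent.H05EGA4.An.EtaleStalk
import Groth.Agent.H05EGA4.An.Lifts

set_option autoImplicit false
open CategoryTheory AlgebraicGeometry Topology TopologicalSpace
open An

namespace Groth.Agent.S4315

/-- For X and Y reduced and locally of finite type over ℂ (associated analytic spaces = ℂ-points with
holomorphic functions): a morphism f : X → Y over ℂ is an isomorphism if and only if f^an is, i.e.
if and only if the induced map X(ℂ) → Y(ℂ) is a homeomorphism whose inverse is holomorphic. -/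
theorem result (X Y : Scheme.{0}) [X.Over An.SC] [Y.Over An.SC]
    [LocallyOfFiniteType (X ↘ An.SC)] [LocallyOfFiniteType (Y ↘ An.SC)] [IsReduced X] [IsReduced Y]
    (f : X ⟶ Y) [f.IsOver An.SC] :
    IsIso f ↔ ∃ e : An.Pts X ≃ₜ An.Pts Y, (⇑e = An.Pts.map f) ∧
      An.IsHolMap (⟨e.symm, e.symm.continuous⟩ : C(An.Pts Y, An.Pts X)) := by
  constructor
  · intro _
    haveI : (inv f).IsOver An.SC := ⟨by rw [IsIso.inv_comp_eq, comp_over f]⟩
    refine ⟨{ toFun := An.Pts.map f
              invFun := An.Pts.map (inv f)
              left_inv := fun x => Subtype.ext (by simp)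
              right_inv := fun y => Subtype.ext (by simp)
              continuous_toFun := An.Pts.continuous_map f
              continuous_invFun := An.Pts.continuous_map (inv f) }, rfl, fun V g hg => ?_⟩
    exact An.holPred_comp (inv f) V g hg
  · rintro ⟨e, he, hol⟩
    have hb : ∀ x, Function.Bijective (Groth.Agent.H05EGA4.AnStalk.anStalk f x) := by
      intro x
      constructor
      · intro a b hab
        obtain ⟨V, hV, s, rfl⟩ := TopCat.Presheaf.exists_germ_eq (An.holPresheaf Y) a
        obtain ⟨V', hV', t, rfl⟩ := TopCat.Presheaf.exists_germ_eq (An.holPresheaf Y) b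
        have h1 : TopCat.Presheaf.germ (An.holPresheaf X) ((Opens.map (An.topMap f)).obj V) x hV (An.anMapApp f V s) =
            TopCat.Presheaf.germ (An.holPresheaf X) ((Opens.map (An.topMap f)).obj V') x hV' (An.anMapApp f V' t) :=
          ((congrArg (fun k => k s) (PresheafedSpace.stalkMap_germ (An.anMap f) V x hV)).symm.trans hab).trans
            (congrArg (fun k => k t) (PresheafedSpace.stalkMap_germ (An.anMap f) V' x hV'))
        obtain ⟨W, hxW, i1, i2, hres⟩ := TopCat.Presheaf.germ_eq (An.holPresheaf X) x _ _ _ _ h1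
        let W' : Opens (An.top Y) := ⟨An.Pts.map f '' W.1, he ▸ e.isOpenMap _ W.2⟩
        have hW1 : W' ≤ V := by rintro _ ⟨z, hz, rfl⟩; exact i1.le hz
        have hW2 : W' ≤ V' := by rintro _ ⟨z, hz, rfl⟩; exact i2.le hz
        refine TopCat.Presheaf.germ_ext (An.holPresheaf Y) W' ⟨x, hxW, rfl⟩ (homOfLE hW1) (homOfLE hW2) ?_
        refine Subtype.ext (funext ?_)
        rintro ⟨_, z, hz, rfl⟩
        exact congrFun (congrArg Subtype.val hres) ⟨z, hz⟩
      · intro b
        obtain ⟨V, hV, t, rfl⟩ := TopCat.Presheaf.exists_germ_eq (An.holPresheaf X) b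
        have hs : ∀ z, e.symm (An.Pts.map f z) = z := fun z => (congrArg e.symm (congrFun he z).symm).trans (e.symm_apply_apply z)
        let φ : C(An.Pts Y, An.Pts X) := ⟨e.symm, e.symm.continuous⟩
        let V' : Opens (An.top Y) := (Opens.map (TopCat.ofHom φ)).obj V
        have hxV' : An.Pts.map f x ∈ V' := by
          show e.symm _ ∈ V
          rw [hs]
          exact hV
        let t' : (An.holPresheaf Y).obj (Opposite.op V') := ⟨fun y => t.1 ⟨φ y.1, y.2⟩, hol V t.1 t.2⟩
        refine ⟨TopCat.Presheaf.germ (An.holPresheaf Y) V' (An.Pts.map f x) hxV' t', ?_⟩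
        refine (congrArg (fun k => k t') (PresheafedSpace.stalkMap_germ (An.anMap f) V' x hxV')).trans ?_
        let W : Opens (An.top X) := V ⊓ (Opens.map (An.topMap f)).obj V'
        refine TopCat.Presheaf.germ_ext (An.holPresheaf X) W ⟨hV, hxV'⟩ (homOfLE inf_le_right) (homOfLE inf_le_left) ?_
        exact Subtype.ext (funext fun z => congrArg t.1 (Subtype.ext (hs z.1)))
    haveI := Groth.Agent.H05EGA4.AnEtaleStalk.etale_of_bijective f hb
    exact Groth.Agent.H05EGA4.AnLifts.isIso_of_bijective_map f (he ▸ e.bijective)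

end Groth.Agent.S4315
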