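import Groth.Statements.S4323
import Groth.Agent.H05EGA4.An.AnStalk

set_option autoImplicit false
open CategoryTheory AlgebraicGeometry Topology TopologicalSpace
open An

namespace Groth.Agent.S4323

/-- Let X and Y be reduced schemes locally of finite type over ℂ and f : X → Y a morphism over ℂ. Then f
is unramified (encoded as formally unramified, f being locally of finite type automatically) if and
only if f^an is, i.e. if and only if for every ℂ-point x of X and every maximal ideal m of
O_{X^an,x}, m is generated by the image of a maximal ideal of O_{Y^an,f(x)} under the stalk map of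
f^an (these stalks being local rings, this says m_{f(x)} O_{X^an,x} = m_x). -/
theorem result (X Y : Scheme.{0}) [X.Over An.SC] [Y.Over An.SC] [LocallyOfFiniteType (X ↘ An.SC)]
    [LocallyOfFiniteType (Y ↘ An.SC)] [IsReduced X] [IsReduced Y] (f : X ⟶ Y) [f.IsOver An.SC] :
    FormallyUnramified f ↔ ∀ (x : An.Pts X) (m : Ideal ((An.anSpace X).presheaf.stalk x)), m.IsMaximal →
      ∃ m' : Ideal ((An.anSpace Y).presheaf.stalk (An.Pts.map f x)), m'.IsMaximal ∧
        m'.map (PresheafedSpace.Hom.stalkMap (An.anMap f) x).hom = m := by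
  open Groth.Agent.H05EGA4.AnGerm Groth.Agent.H05EGA4.AnStalk in
  (rw [Groth.Agent.H05EGA4.AnStalk.formallyUnramified_iff f]
   refine ⟨fun h x m hm => ?_, fun h x => ?_⟩
   · obtain ⟨κ⟩ := exists_chart x
     obtain ⟨κ'⟩ := exists_chart (An.Pts.map f x)
     refine ⟨_, κ'.ker_evalO_isMaximal, ?_⟩
     rw [κ.eq_ker_of_isMaximal hm]
     exact (stalk_unramified_iff f x).mp (h x)
   · obtain ⟨κ⟩ := exists_chart x
     obtain ⟨κ'⟩ := exists_chart (An.Pts.map f x)
     obtain ⟨m', hm', he⟩ := h x _ κ.ker_evalO_isMaximal
     rw [κ'.eq_ker_of_isMaximal hm'] at he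
     exact (stalk_unramified_iff f x).mpr he)

end Groth.Agent.S4323
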