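import Groth.Statements.S4329
import Groth.Agent.H16Derived.ExactRightAdj
import Groth.Agent.H16Derived.ExactAdj
import Groth.Agent.H18Et.StalkSets

set_option autoImplicit false
universe u
open CategoryTheory CategoryTheory.Limits AlgebraicGeometry Opposite
attribute [local instance] HasDerivedCategory.standard
open EtSix

namespace Groth.Agent.S4329

open CategoryTheory.Functor in
theorem aux {X Y Z : Scheme.{u}} (f : X ⟶ Y) (g : Y ⟶ Z)
    [DCoh.HasRpushEt X f] [DCoh.HasRpushEt Y g] [DCoh.HasRpushEt X (f ≫ g)]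
    (I : CochainComplex (EtCoh.Ab X) ℤ) [I.IsKInjective] :
    IsIso ((EtSix.compMap f g).app (DerivedCategory.Qh.obj ((HomotopyCategory.quotient _ _).obj I))) := by
  haveI := Groth.Agent.H18Et.pull_preservesFiniteLimits f
  haveI : PreservesFiniteColimits (EtCoh.pull f) := by
    haveI := (EtCoh.pullPushAdj f).leftAdjoint_preservesColimits
    exact PreservesColimitsOfSize.preservesFiniteColimits.{0, 0} _
  haveI : (EtCoh.pull f).Additive := (EtCoh.pullPushAdj f).left_adjoint_additive
  let K := (HomotopyCategory.quotient (EtCoh.Ab X) (ComplexShape.up ℤ)).obj I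
  haveI hFI : CochainComplex.IsKInjective
      (((EtCoh.push f).mapHomologicalComplex (ComplexShape.up ℤ)).obj I) :=
    Groth.Agent.H16Derived.ExactAdj.isKInjective_map (EtCoh.pullPushAdj f) I
  haveI h1 : IsIso (((DCoh.pushEtKh X (f ≫ g)).totalRightDerivedUnit DerivedCategory.Qh
      (HomotopyCategory.quasiIso (EtCoh.Ab X) (ComplexShape.up ℤ))).app K) :=
    Groth.Agent.H16Derived.ExactRightAdj.isIso_β (F := EtCoh.push (f ≫ g)) I
  haveI h2 : IsIso (((DCoh.pushEtKh X f).totalRightDerivedUnit DerivedCategory.Qh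
      (HomotopyCategory.quasiIso (EtCoh.Ab X) (ComplexShape.up ℤ))).app K) :=
    Groth.Agent.H16Derived.ExactRightAdj.isIso_β (F := EtCoh.push f) I
  haveI h3 : IsIso (((DCoh.pushEtKh Y g).totalRightDerivedUnit DerivedCategory.Qh
      (HomotopyCategory.quasiIso (EtCoh.Ab Y) (ComplexShape.up ℤ))).app
        (((EtCoh.push f).mapHomotopyCategory (ComplexShape.up ℤ)).obj K)) :=
    Groth.Agent.H16Derived.ExactRightAdj.isIso_β (F := EtCoh.push g)
      (((EtCoh.push f).mapHomologicalComplex (ComplexShape.up ℤ)).obj I)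
  haveI : IsIso (NatTrans.mapHomotopyCategory (EtCoh.pushComp g f).inv (ComplexShape.up ℤ)) := by
    refine ⟨NatTrans.mapHomotopyCategory (EtCoh.pushComp g f).hom _, ?_, ?_⟩ <;>
      rw [← NatTrans.mapHomotopyCategory_comp] <;> simp
  haveI : IsIso ((EtSix.compUnit f g).app K) := by
    dsimp [EtSix.compUnit]
    infer_instance
  have hfac := (DCoh.RpushEt X (f ≫ g)).rightDerived_fac_app
    ((DCoh.pushEtKh X (f ≫ g)).totalRightDerivedUnit DerivedCategory.Qh
      (HomotopyCategory.quasiIso (EtCoh.Ab X) (ComplexShape.up ℤ)))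
    (HomotopyCategory.quasiIso (EtCoh.Ab X) (ComplexShape.up ℤ))
    (DCoh.RpushEt X f ⋙ DCoh.RpushEt Y g) (EtSix.compUnit f g) K
  exact (isIso_comp_left_iff (((DCoh.pushEtKh X (f ≫ g)).totalRightDerivedUnit DerivedCategory.Qh
      (HomotopyCategory.quasiIso (EtCoh.Ab X) (ComplexShape.up ℤ))).app K) _).1 (hfac ▸ inferInstance)

/-- Composition of derived direct images: for the small etale sites of schemes and abelian sheaves: let
f : X -> Y and g : Y -> Z be morphisms of schemes and assume the unbounded derived direct images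
Rf_*, Rg_* and R(g ∘ f)_* exist (they do; the existence is recorded as instance hypotheses). Then
the canonical morphism R(g ∘ f)_* -> Rg_* ∘ Rf_* of functors D(X_et) -> D(Z_et), induced by (g ∘
f)_* ≅ g_* ∘ f_* through the universal property of R(g ∘ f)_* as a right derived functor, is an
isomorphism. -/
theorem result {X Y Z : Scheme.{u}} (f : X ⟶ Y) (g : Y ⟶ Z)
    [DCoh.HasRpushEt X f] [DCoh.HasRpushEt Y g] [DCoh.HasRpushEt X (f ≫ g)] :
    IsIso (EtSix.compMap f g) := by
  refine (NatTrans.isIso_iff_isIso_app _).2 fun M => ?_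
  obtain ⟨I, hI, s, hs⟩ := Groth.Agent.H16Derived.ExactRightAdj.exists_local
    ((HomotopyCategory.quotient (EtCoh.Ab X) (ComplexShape.up ℤ)).obj (DerivedCategory.Q.objPreimage M))
  haveI := Localization.inverts DerivedCategory.Qh _ s hs
  let e : DerivedCategory.Qh.obj ((HomotopyCategory.quotient _ _).obj I) ≅ M :=
    (asIso (DerivedCategory.Qh.map s)).symm ≪≫ (DerivedCategory.quotientCompQhIso (EtCoh.Ab X)).app _ ≪≫
      DerivedCategory.Q.objObjPreimageIso M
  exact (NatTrans.isIso_app_iff_of_iso _ e).1 (aux f g I)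

end Groth.Agent.S4329
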