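import Groth.Statements.S4332
import Groth.Agent.H05EGA4.EtMod.Acyclic

set_option autoImplicit false
universe u
open CategoryTheory CategoryTheory.Limits AlgebraicGeometry Opposite
attribute [local instance] HasDerivedCategory.standard
open EtSix

namespace Groth.Agent.S4332.Aux

open Abelian Groth.Agent.H05EGA4.EtMod

set_option backward.isDefEq.respectTransparency false
set_option backward.isDefEq.respectTransparency.types false

variable (Λ : Type (u + 1)) [CommRing Λ] {X : Scheme.{u}}
  [PreservesFiniteLimits (EtModD.forgetToAb Λ X)] [PreservesFiniteColimits (EtModD.forgetToAb Λ X)]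
  [(EtModD.forgetToAb Λ X).Additive]

theorem bijective_zero (F : EtModW.Mod Λ X) : Function.Bijective (EtSix.HModToH Λ F 0) := by
  let Fo := EtModD.forgetToAb Λ X
  let Z := (constantSheaf X.smallEtaleTopology AddCommGrpCat.{u + 1}).obj (AddCommGrpCat.of (ULift.{u + 1} ℤ))
  let q : (constΛ Λ X ⟶ F) → (Z ⟶ Fo.obj F) := fun φ => intToConstΛ Λ X ≫ Fo.map φ
  have hq : Function.Bijective q := by
    let A := (EtCore.constAdj X).homEquiv (AddCommGrpCat.of (ULift.{u + 1} ℤ)) (Fo.obj F)
    let B := (constModAdj Λ X).homEquiv (ModuleCat.of Λ Λ) F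
    refine (Function.Bijective.of_comp_iff' A.bijective q).1 ?_
    have hA : ∀ φ, A (q φ) = AddCommGrpCat.ofHom
        ((zmultiplesHom ↥((Fo.obj F).obj.obj (op (EtCoh.top X))) ((B φ).hom (1 : Λ))).comp (AddEquiv.ulift (α := ℤ)).toAddMonoidHom) := fun φ => by
      refine ((EtCore.constAdj X).homEquiv_naturality_right _ _).trans ?_
      refine (congrArg (fun t => t ≫ _) (Equiv.apply_symm_apply _ _)).trans ?_
      refine AddCommGrpCat.hom_ext (AddMonoidHom.ext fun z => ?_)
      exact map_zsmul ((Fo.map φ).hom.app (op (EtCoh.top X))).hom z.down _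
    refine ⟨fun φ ψ h => B.injective (ModuleCat.hom_ext (LinearMap.ext_ring ?_)), fun t => ?_⟩
    · have := ConcreteCategory.congr_hom ((hA φ).symm.trans (h.trans (hA ψ))) (ULift.up (1 : ℤ))
      exact (one_zsmul _).symm.trans (this.trans (one_zsmul _))
    · let m : (gsecMod Λ X).obj F := t.hom (ULift.up (1 : ℤ))
      refine ⟨B.symm (ModuleCat.ofHom (LinearMap.toSpanSingleton Λ
        ((gsecMod Λ X).obj F) m)), (hA _).trans ?_⟩
      rw [Equiv.apply_symm_apply]
      refine AddCommGrpCat.hom_ext (AddMonoidHom.ext fun z => ?_)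
      have hz : z = z.down • ULift.up.{u + 1} (1 : ℤ) := ULift.ext _ _ (by simp)
      refine ((congrArg (fun a => z.down • a) (one_smul Λ m)).trans (map_zsmul t.hom z.down _).symm).trans ?_
      exact congrArg t.hom hz.symm
  refine (Function.Bijective.of_comp_iff _ (Ext.mk₀_bijective _ _)).1 ?_
  have e : ∀ φ : constΛ Λ X ⟶ F, EtSix.HModToH Λ F 0 (Ext.mk₀ φ) = Ext.mk₀ (q φ) := fun φ =>
    (congrArg (fun t => (Ext.mk₀ (intToConstΛ Λ X)).comp t (zero_add 0))
      (Ext.mapExactFunctor_mk₀ Fo φ)).trans (Ext.mk₀_comp_mk₀ _ _)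
  exact (congrArg Function.Bijective (funext e)).mpr ((Ext.mk₀_bijective _ _).comp hq)

theorem natural {A B : EtModW.Mod Λ X} {a b n : ℕ} (h : a + b = n)
    (x : Ext.{u + 1} (constΛ Λ X) A a) (y : Ext.{u + 1} A B b) :
    EtSix.HModToH Λ B n (x.comp y h) =
      (EtSix.HModToH Λ A a x).comp (y.mapExactFunctor (EtModD.forgetToAb Λ X)) h :=
  (congrArg (fun t => (Ext.mk₀ (intToConstΛ Λ X)).comp t (zero_add n))
    (Ext.mapExactFunctor_comp _ x y h)).trans
    (Ext.comp_assoc _ _ _ (zero_add a) h (by omega)).symm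

theorem bijective : ∀ (n : ℕ) (F : EtModW.Mod Λ X), Function.Bijective (EtSix.HModToH Λ F n) := by
  intro n
  induction n with
  | zero => exact bijective_zero Λ
  | succ n ih =>
    intro F
    let Fo := EtModD.forgetToAb Λ X
    let S := ShortComplex.mk (Injective.ι F) (cokernel.π (Injective.ι F)) (cokernel.condition _)
    have hS : S.ShortExact := { exact := ShortComplex.exact_of_g_is_cokernel _ (cokernelIsCokernel _) }
    have hT : (S.map Fo).ShortExact := hS.map_of_exact Fo
    haveI : Subsingleton (EtCoh.H X (Fo.obj S.X₂) (n + 1)) := subsingleton_H_forgetToAb Λ _ n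
    have hδ : ∀ x : Ext.{u + 1} (constΛ Λ X) S.X₃ n, EtSix.HModToH Λ F (n + 1) (x.comp hS.extClass rfl) =
        (EtSix.HModToH Λ S.X₃ n x).comp hT.extClass rfl := fun x =>
      (natural Λ rfl x hS.extClass).trans
        (congrArg (fun t => (EtSix.HModToH Λ S.X₃ n x).comp t rfl) (Ext.mapExactFunctor_extClass Fo hS))
    have hsurjA : ∀ z : Ext.{u + 1} (constΛ Λ X) F (n + 1), ∃ x : Ext.{u + 1} (constΛ Λ X) S.X₃ n, x.comp hS.extClass rfl = z := fun z =>
      Ext.covariant_sequence_exact₁ _ hS z (Ext.eq_zero_of_injective _) rfl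
    refine ⟨(injective_iff_map_eq_zero _).2 fun z hz => ?_, fun z => ?_⟩
    · obtain ⟨x, rfl⟩ := hsurjA z
      rw [hδ] at hz
      obtain ⟨w, hw⟩ := Ext.covariant_sequence_exact₃ _ hT _ rfl hz
      obtain ⟨v, rfl⟩ := (ih S.X₂).2 w
      have : x = v.comp (Ext.mk₀ S.g) (add_zero n) := (ih S.X₃).1 (by
        rw [natural, Ext.mapExactFunctor_mk₀]
        exact hw.symm)
      rw [this, Ext.comp_assoc_of_second_deg_zero, hS.comp_extClass, Ext.comp_zero]
    · obtain ⟨y, hy⟩ := Ext.covariant_sequence_exact₁ _ hT z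
        (Subsingleton.elim (α := EtCoh.H X (Fo.obj S.X₂) (n + 1)) _ _) rfl
      obtain ⟨x, rfl⟩ := (ih S.X₃).2 y
      exact ⟨x.comp hS.extClass rfl, (hδ x).trans hy⟩

end Groth.Agent.S4332.Aux

namespace Groth.Agent.S4332

/-- Cohomology of a sheaf of modules agrees with that of its underlying abelian sheaf: for the constant
sheaf of rings Λ on the small etale site of a scheme X, through the canonical map: for every sheaf F
of Λ-modules and every n, the map Ext^n(Λ_X, F) -> Ext^n(Z_X, F_ab) = H^n(X, F_ab) obtained by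
applying the forgetful functor to an Ext class (computed in sheaves of Λ-modules) and precomposing
with Z_X -> Λ_X, 1 ↦ 1, is bijective. The exactness and additivity of the forgetful functor, which
hold, are recorded as instance hypotheses. -/
theorem result (Λ : Type (u + 1)) [CommRing Λ] {X : Scheme.{u}}
    [PreservesFiniteLimits (EtModD.forgetToAb Λ X)] [PreservesFiniteColimits (EtModD.forgetToAb Λ X)]
    [(EtModD.forgetToAb Λ X).Additive] (F : EtModW.Mod Λ X) (n : ℕ) :
    Function.Bijective (EtSix.HModToH Λ F n) := by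
  exact Aux.bijective Λ n F

end Groth.Agent.S4332
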