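import Groth.Statements.S4334
import Groth.Agent.H05EGA4.EtCl.CurveGm
import Groth.Agent.H05EGA4.EtCl.SkySum

set_option autoImplicit false
universe u
open CategoryTheory CategoryTheory.Limits AlgebraicGeometry Opposite
open EtSix

namespace Groth.Agent.S4334

/-- The degree-two step in canonical form: let X be a smooth projective curve over an algebraically
closed field k (here: X integral, with a proper morphism X -> Spec k that is smooth of relative
dimension 1), and n an integer that is nonzero in k, so that the n-th power map on G_m is an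
epimorphism of sheaves on the small etale site (taken as the hypothesis h). Then the boundary map
H^1(X, G_m) -> H^2(X, μ_n) of the Kummer sequence is surjective, and its kernel is the image of
multiplication by n on H^1(X, G_m). -/
theorem result (k : Type u) [Field k] [IsAlgClosed k] {X : Scheme.{u}} [IsIntegral X]
    (f : X ⟶ Spec (CommRingCat.of k)) [IsProper f] [SmoothOfRelativeDimension 1 f]
    (n : ℕ) (hn : (n : k) ≠ 0) (h : Epi (EtCoh.powMap X n)) :
    Function.Surjective (EtSix.kummerBoundary h 1) ∧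
      (EtSix.kummerBoundary h 1).ker = (n • AddMonoidHom.id (EtCoh.H X (EtCoh.Gm X) 1)).range := by
  haveI : CompactSpace X := QuasiCompact.compactSpace_of_compactSpace f
  haveI : IsLocallyNoetherian X := LocallyOfFiniteType.isLocallyNoetherian f
  haveI : AlgebraicGeometry.IsNoetherian X := {}
  have h2 : Subsingleton (EtCoh.H X (EtCoh.Gm X) 2) :=
    Groth.Agent.H05EGA4.EtCl.subsingleton_H_Gm_curve f
      (Groth.Agent.H05EGA4.EtCl.topologicalKrullDim_le_of_smooth f) 0
  have hp : ∀ y : EtCoh.H X (EtCoh.Gm X) 1,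
      y.comp (Abelian.Ext.mk₀ (EtCoh.powMap X n)) (add_zero 1) = n • y := fun y => by
    rw [EtCoh.powMap, show Abelian.Ext.mk₀ (n • 𝟙 (EtCoh.Gm X)) = n • Abelian.Ext.mk₀ (𝟙 (EtCoh.Gm X)) from
        map_nsmul Abelian.Ext.addEquiv₀.symm _ _,
      ← Abelian.Ext.bilinearComp_apply_apply (h := add_zero 1), map_nsmul, Abelian.Ext.bilinearComp_apply_apply,
      Abelian.Ext.comp_mk₀_id]
  refine ⟨fun x => ?_, ?_⟩
  · obtain ⟨y, hy⟩ := Abelian.Ext.covariant_sequence_exact₁ _ (kummerShortExact h) x
      (h2.elim _ _) (rfl : 1 + 1 = 2)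
    exact ⟨y, hy⟩
  · ext y
    refine ⟨fun hy => ?_, ?_⟩
    · obtain ⟨z, hz⟩ := Abelian.Ext.covariant_sequence_exact₃ _ (kummerShortExact h) y (rfl : 1 + 1 = 2) hy
      exact ⟨z, (hp z).symm.trans hz⟩
    · rintro ⟨z, rfl⟩
      show (n • z).comp (kummerShortExact h).extClass (rfl : 1 + 1 = 2) = 0
      rw [← hp z, Abelian.Ext.comp_assoc (a₁₂ := 1) (a₂₃ := 1) _ _ _ (add_zero 1) (zero_add 1) (by omega)]
      erw [(kummerShortExact h).comp_extClass, Abelian.Ext.comp_zero]

end Groth.Agent.S4334
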