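import Groth.Statements.S4337
import Groth.Agent.H24Lin.Basic
import Groth.Agent.S2276
import Mathlib.LinearAlgebra.TensorProduct.RightExactness
import Mathlib.RingTheory.Nakayama

set_option autoImplicit false
set_option linter.style.haveILetI false
universe u
open LinTop

namespace Groth.Agent.S4337

/-- Let A be an admissible ring, J an ideal of definition, and u : M -> N a homomorphism of A-modules
with N of finite type. Then u is surjective if and only if u tensored with A/J is surjective. -/
theorem result
    (A : Type u) [CommRing A] [UniformSpace A] [IsUniformAddGroup A] [IsTopologicalRing A]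
    (hA : LinTop.IsAdmissible A) (J : Ideal A) (hJ : LinTop.IsIdealOfDefinition A J)
    (M N : Type u) [AddCommGroup M] [Module A M] [AddCommGroup N] [Module A N] [Module.Finite A N]
    (u : M →ₗ[A] N) :
    Function.Surjective u ↔ Function.Surjective (u.rTensor (A ⧸ J)) := by
  refine ⟨fun h => LinearMap.rTensor_surjective _ h, fun h => ?_⟩
  have hj : J ≤ (⊥ : Ideal A).jacobson := (Groth.Agent.S2276.result A hA J hJ).2
  rw [← LinearMap.range_eq_top, eq_top_iff]
  refine Submodule.le_of_le_smul_of_le_jacobson_bot Module.Finite.fg_top hj ?_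
  intro y _
  obtain ⟨t, ht⟩ := h (TensorProduct.tmul A y 1)
  let e : TensorProduct A N (A ⧸ J) ≃ₗ[A] N ⧸ (J • ⊤ : Submodule A N) :=
    TensorProduct.tensorQuotEquivQuotSMul N J
  have key : ∀ t : TensorProduct A M (A ⧸ J), ∃ m, e (u.rTensor (A ⧸ J) t) = Submodule.Quotient.mk (u m) := by
    intro t
    induction t using TensorProduct.induction_on with
    | zero => exact ⟨0, by simp⟩
    | tmul m a =>
      obtain ⟨a, rfl⟩ := Ideal.Quotient.mk_surjective a
      exact ⟨a • m, by simp [e, LinearMap.rTensor_tmul]⟩
    | add s t hs ht =>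
      obtain ⟨m, hm⟩ := hs
      obtain ⟨m', hm'⟩ := ht
      exact ⟨m + m', by simp [map_add, hm, hm']⟩
  obtain ⟨m, hm⟩ := key t
  rw [ht, show (1 : A ⧸ J) = Ideal.Quotient.mk J 1 from rfl] at hm
  simp only [e, TensorProduct.tensorQuotEquivQuotSMul_tmul_mk, one_smul] at hm
  rw [← sub_add_cancel y (u m), add_comm]
  exact Submodule.add_mem_sup ⟨m, rfl⟩ ((Submodule.Quotient.eq _).mp hm)

end Groth.Agent.S4337
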