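import Groth.Statements.S4343
import Groth.Agent.H22Alg.SpreadUnique

set_option autoImplicit false
universe u
open RatMapD

namespace Groth.Agent.S4343

set_option backward.isDefEq.respectTransparency false

open AlgebraicGeometry in
open CategoryTheory in
/-- Let X, Y be S-schemes with X irreducible and Y locally of finite type over S. Two S-rational maps
from X to Y to which corresponds the same morphism Spec(O_x) -> Y, x the generic point of X, are
equal. (The published statement has Y of finite type over S; only local finite type is used. X is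
not assumed reduced.) -/
theorem result
    (S X Y : Scheme.{u}) [X.Over S] [Y.Over S] [IrreducibleSpace X]
    [LocallyOfFiniteType (Y ↘ S)] (f g : X ⤏ Y) [f.IsOver S] [g.IsOver S]
    (h : f.fromFunctionField = g.fromFunctionField) : f = g := by
  obtain ⟨a, ha, rfl⟩ := f.exists_partialMap_over S
  obtain ⟨b, hb, rfl⟩ := g.exists_partialMap_over S
  rw [Scheme.RationalMap.fromFunctionField_toRationalMap, Scheme.RationalMap.fromFunctionField_toRationalMap] at h
  refine Scheme.PartialMap.toRationalMap_eq_iff.mpr ?_
  have hη : ∀ U : X.Opens, Dense (U : Set X) → genericPoint X ∈ U := fun U hU =>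
    (genericPoint_specializes _).mem_open U.2 hU.nonempty.choose_spec
  have hxa := hη _ a.dense_domain
  have hxb := hη _ b.dense_domain
  set D := a.domain ⊓ b.domain
  have hdense : Dense (D : Set X) := a.dense_domain.inter_of_isOpen_left b.dense_domain a.domain.2
  have h' : a.fromSpecStalkOfMem hxa = b.fromSpecStalkOfMem hxb := h
  have hover : (X.homOfLE inf_le_left ≫ a.hom) ≫ (Y ↘ S) =
      (X.homOfLE (inf_le_right : D ≤ b.domain) ≫ b.hom) ≫ (Y ↘ S) := by
    have e1 := Scheme.PartialMap.isOver_iff.mp ha
    have e2 := Scheme.PartialMap.isOver_iff.mp hb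
    simp only [Scheme.PartialMap.compHom_hom] at e1 e2
    simp [e1, e2, D]
  have := Groth.Agent.H22Alg.exists_agree_of_fromSpecStalk (Y ↘ S) (X := D.toScheme)
    (x := ⟨genericPoint X, hxa, hxb⟩) (X.homOfLE inf_le_left ≫ a.hom) (X.homOfLE inf_le_right ≫ b.hom) hover ?_
  · obtain ⟨U, hxU, e⟩ := this
    refine ⟨D.ι ''ᵁ U, (D.ι ''ᵁ U).2.dense ⟨_, ⟨_, hxU, rfl⟩⟩,
      ((Set.image_subset_range _ _).trans_eq (Subtype.range_val)).trans inf_le_left,
      ((Set.image_subset_range _ _).trans_eq (Subtype.range_val)).trans inf_le_right, ?_⟩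
    refine (cancel_epi (Scheme.Hom.isoImage D.ι U).hom).mp ?_
    simp only [Scheme.PartialMap.restrict_hom, ← Category.assoc] at e ⊢
    convert! e using 2 <;> rw [← cancel_mono (Scheme.Opens.ι _)] <;> simp [D]
  · rw [← a.fromSpecStalkOfMem_restrict hdense inf_le_left (x := genericPoint X) ⟨hxa, hxb⟩,
      ← b.fromSpecStalkOfMem_restrict hdense inf_le_right (x := genericPoint X) ⟨hxa, hxb⟩] at h'
    have h'' : D.fromSpecStalkOfMem (genericPoint X) ⟨hxa, hxb⟩ ≫ X.homOfLE inf_le_left ≫ a.hom =
        D.fromSpecStalkOfMem (genericPoint X) ⟨hxa, hxb⟩ ≫ X.homOfLE inf_le_right ≫ b.hom := h'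
    simp only [Scheme.Opens.fromSpecStalkOfMem, Category.assoc] at h''
    exact (cancel_epi _).mp h''

end Groth.Agent.S4343
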