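import Groth.Statements.S4345
import Mathlib.RingTheory.LocalRing.LocalSubring
import Mathlib.Tactic.LinearCombination
import Mathlib.Tactic.TFAE

set_option autoImplicit false
universe u
open SchLoc

namespace Groth.Agent.S4345


variable {R : Type u} [Field R]

theorem trace_ofPrime {A : Subring R} (p : Ideal A) [p.IsPrime] :
    (IsLocalRing.maximalIdeal (LocalSubring.ofPrime A p).toSubring).comap
      (Subring.inclusion (LocalSubring.le_ofPrime A p)) = p :=
  IsLocalization.AtPrime.under_maximalIdeal (LocalSubring.ofPrime A p).toSubring p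

theorem ofPrime_le_iff {A : Subring R} {p : Ideal A} [p.IsPrime] {Q : LocalSubring R} :
    LocalSubring.ofPrime A p ≤ Q ↔
      ∃ h : A ≤ Q.toSubring, (IsLocalRing.maximalIdeal Q.toSubring).comap (Subring.inclusion h) = p := by
  constructor
  · rintro ⟨h, hloc⟩
    refine ⟨(LocalSubring.le_ofPrime A p).trans h, ?_⟩
    have h2 : (IsLocalRing.maximalIdeal Q.toSubring).comap (Subring.inclusion h) =
        IsLocalRing.maximalIdeal (LocalSubring.ofPrime A p).toSubring := by
      ext x
      simp only [Ideal.mem_comap, IsLocalRing.mem_maximalIdeal, mem_nonunits_iff]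
      exact not_congr (isUnit_map_iff (Subring.inclusion h) x)
    conv_rhs => rw [← trace_ofPrime p, ← h2, Ideal.comap_comap]
    rfl
  · rintro ⟨h, hp⟩
    have key : ∀ z : (LocalSubring.ofPrime A p).toSubring, ∃ (a : A) (s : A) (hs : IsUnit (Subring.inclusion h s)),
        (z : R) = (a : R) * ((↑hs.unit⁻¹ : Q.toSubring) : R) ∧ (IsUnit z ↔ a ∉ p) := by
      intro z
      obtain ⟨⟨a, s⟩, e⟩ := IsLocalization.surj p.primeCompl z
      have hs : IsUnit (Subring.inclusion h s.1) := by
        have h1 : s.1 ∉ (IsLocalRing.maximalIdeal Q.toSubring).comap (Subring.inclusion h) := hp.symm ▸ s.2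
        simpa using h1
      have hsR : (z : R) * (s.1 : R) = (a : R) := congrArg Subtype.val e
      refine ⟨a, s, hs, ?_, ?_⟩
      · have h3 : ((↑hs.unit⁻¹ : Q.toSubring) : R) * (s.1 : R) = 1 := congrArg Subtype.val hs.val_inv_mul
        rw [← hsR]
        linear_combination (-(z : R)) * h3
      · refine Iff.trans ?_ (IsLocalization.AtPrime.isUnit_to_map_iff (LocalSubring.ofPrime A p).toSubring p a)
        rw [← e]
        exact ⟨fun hz => hz.mul (IsLocalization.map_units _ s), isUnit_of_mul_isUnit_left⟩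
    have hle : (LocalSubring.ofPrime A p).toSubring ≤ Q.toSubring := by
      intro z hz
      obtain ⟨a, s, hs, e, -⟩ := key ⟨z, hz⟩
      replace e : z = (a : R) * ((↑hs.unit⁻¹ : Q.toSubring) : R) := e
      rw [e]
      exact mul_mem (h a.2) (SetLike.coe_mem _)
    refine ⟨hle, ⟨fun z hz => ?_⟩⟩
    obtain ⟨a, s, hs, e, hiff⟩ := key z
    refine hiff.2 fun ha => ?_
    have hne : Subring.inclusion h a ∈ IsLocalRing.maximalIdeal Q.toSubring := by
      rw [← hp] at ha
      exact ha
    have e' : Subring.inclusion hle z = Subring.inclusion h a * ↑hs.unit⁻¹ := Subtype.ext e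
    rw [e'] at hz
    exact hne (isUnit_of_mul_isUnit_left hz)

/-- The trace of the maximal ideal of `Q` on a subring. -/
abbrev tr (Q : LocalSubring R) {A : Subring R} (h : A ≤ Q.toSubring) : Ideal A :=
  (IsLocalRing.maximalIdeal Q.toSubring).comap (Subring.inclusion h)

theorem eq_of_ofPrime_eq {A : Subring R} {p q : Ideal A} [p.IsPrime] [q.IsPrime]
    (h : LocalSubring.ofPrime A p = LocalSubring.ofPrime A q) : p = q := by
  obtain ⟨hA, hp⟩ := ofPrime_le_iff.1 h.le
  exact hp.symm.trans (trace_ofPrime q)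

theorem ofPrime_congr {A : Subring R} {p q : Ideal A} [p.IsPrime] [q.IsPrime] (h : p = q) :
    LocalSubring.ofPrime A p = LocalSubring.ofPrime A q := by
  subst h; rfl

variable {A B : Subring R}

theorem eq_sup_ofPrime {P : LocalSubring R} {p : Ideal A} [p.IsPrime] (hP : P = LocalSubring.ofPrime A p)
    (hB : B ≤ P.toSubring) :
    ∃ r : PrimeSpectrum ↥(A ⊔ B), P = LocalSubring.ofPrime (A ⊔ B) r.asIdeal := by
  have hA : A ≤ P.toSubring := hP ▸ LocalSubring.le_ofPrime A p
  have hC : A ⊔ B ≤ P.toSubring := sup_le hA hB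
  refine ⟨⟨tr P hC, inferInstance⟩, le_antisymm ?_ (ofPrime_le_iff.2 ⟨hC, rfl⟩)⟩
  subst hP
  refine ofPrime_le_iff.2 ⟨le_sup_left.trans (LocalSubring.le_ofPrime _ _), ?_⟩
  conv_rhs => rw [← trace_ofPrime p]
  have h := trace_ofPrime (A := A ⊔ B) (tr (LocalSubring.ofPrime A p) hC)
  have h2 := congrArg (Ideal.comap (Subring.inclusion (le_sup_left : A ≤ A ⊔ B))) h
  rw [Ideal.comap_comap] at h2
  simp only [tr, Ideal.comap_comap] at h2
  exact h2

/-- Let A and B be subrings of a field R, C the subring generated by A and B, and for a subring E let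
L(E) be the set of local subrings E_p of R, p a prime ideal of E. The following are equivalent: (i)
for every local subring Q of R containing A and B, the localizations of A and of B at the traces of
the maximal ideal of Q coincide; (ii) for every prime ideal r of C the localizations of A and B at
the traces of r coincide; (iii) two members of L(A) and L(B) dominated by a common local subring of
R are equal; (iv) the intersection of L(A) and L(B) is L(C). -/
theorem result
    (R : Type u) [Field R] (A B : Subring R) :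
    [ ∀ (Q : LocalSubring R) (hA : A ≤ Q.toSubring) (hB : B ≤ Q.toSubring),
        LocalSubring.ofPrime A ((IsLocalRing.maximalIdeal Q.toSubring).comap (Subring.inclusion hA)) =
          LocalSubring.ofPrime B ((IsLocalRing.maximalIdeal Q.toSubring).comap (Subring.inclusion hB)),
      ∀ r : PrimeSpectrum ↥(A ⊔ B),
        LocalSubring.ofPrime A (r.asIdeal.comap (Subring.inclusion (le_sup_left : A ≤ A ⊔ B))) =
          LocalSubring.ofPrime B (r.asIdeal.comap (Subring.inclusion (le_sup_right : B ≤ A ⊔ B))),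
      ∀ (p : PrimeSpectrum A) (q : PrimeSpectrum B),
        (∃ Q : LocalSubring R, LocalSubring.ofPrime A p.asIdeal ≤ Q ∧ LocalSubring.ofPrime B q.asIdeal ≤ Q) →
          LocalSubring.ofPrime A p.asIdeal = LocalSubring.ofPrime B q.asIdeal,
      Set.range (fun p : PrimeSpectrum A ↦ LocalSubring.ofPrime A p.asIdeal) ∩
          Set.range (fun q : PrimeSpectrum B ↦ LocalSubring.ofPrime B q.asIdeal) =
        Set.range (fun r : PrimeSpectrum ↥(A ⊔ B) ↦ LocalSubring.ofPrime (A ⊔ B) r.asIdeal) ].TFAE := by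
  tfae_have 1 → 2 := by
    intro h r
    have hA : A ≤ (LocalSubring.ofPrime (A ⊔ B) r.asIdeal).toSubring :=
      le_sup_left.trans (LocalSubring.le_ofPrime _ _)
    have hB : B ≤ (LocalSubring.ofPrime (A ⊔ B) r.asIdeal).toSubring :=
      le_sup_right.trans (LocalSubring.le_ofPrime _ _)
    refine ((ofPrime_congr ?_).trans (h _ hA hB)).trans (ofPrime_congr ?_)
    · conv_lhs => rw [← trace_ofPrime r.asIdeal, Ideal.comap_comap]
      rfl
    · conv_rhs => rw [← trace_ofPrime r.asIdeal, Ideal.comap_comap]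
      rfl
  tfae_have 2 → 3 := by
    rintro h p q ⟨Q, hp, hq⟩
    obtain ⟨hA, hp⟩ := ofPrime_le_iff.1 hp
    obtain ⟨hB, hq⟩ := ofPrime_le_iff.1 hq
    refine ((ofPrime_congr ?_).trans (h ⟨tr Q (A := A ⊔ B) (sup_le hA hB), inferInstance⟩)).trans (ofPrime_congr ?_)
    · rw [← hp]
      exact (Ideal.comap_comap (Subring.inclusion (le_sup_left : A ≤ A ⊔ B)) (Subring.inclusion (sup_le hA hB))).symm
    · rw [← hq]; exact Ideal.comap_comap _ _
  tfae_have 3 → 1 := fun h Q hA hB =>
    h ⟨tr Q hA, inferInstance⟩ ⟨tr Q hB, inferInstance⟩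
      ⟨Q, ofPrime_le_iff.2 ⟨hA, rfl⟩, ofPrime_le_iff.2 ⟨hB, rfl⟩⟩
  tfae_have 2 → 4 := by
    intro h
    refine Set.ext fun P => ⟨?_, ?_⟩
    · rintro ⟨⟨p, rfl⟩, q, hq⟩
      obtain ⟨r, hr⟩ := eq_sup_ofPrime (B := B) (P := LocalSubring.ofPrime A p.asIdeal) rfl
        (by dsimp only at hq; rw [← hq]; exact LocalSubring.le_ofPrime B q.asIdeal)
      exact ⟨r, hr.symm⟩
    · rintro ⟨r, rfl⟩
      let p := r.asIdeal.comap (Subring.inclusion (le_sup_left : A ≤ A ⊔ B))
      let q := r.asIdeal.comap (Subring.inclusion (le_sup_right : B ≤ A ⊔ B))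
      have hpq : LocalSubring.ofPrime A p = LocalSubring.ofPrime B q := h r
      have hle : LocalSubring.ofPrime A p ≤ LocalSubring.ofPrime (A ⊔ B) r.asIdeal :=
        ofPrime_le_iff.2 ⟨le_sup_left.trans (LocalSubring.le_ofPrime _ _), by
          conv_rhs => simp only [p]; rw [← trace_ofPrime r.asIdeal, Ideal.comap_comap]
          rfl⟩
      obtain ⟨r', hr'⟩ := eq_sup_ofPrime (B := B) (P := LocalSubring.ofPrime A p) rfl
        (hpq ▸ LocalSubring.le_ofPrime B q)
      rw [hr'] at hle
      obtain ⟨_, hrr⟩ := ofPrime_le_iff.1 hle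
      have h' := hr'.trans (ofPrime_congr (hrr.symm.trans (trace_ofPrime r.asIdeal)))
      exact ⟨⟨⟨p, inferInstance⟩, h'⟩, ⟨q, inferInstance⟩, hpq.symm.trans h'⟩
  tfae_have 4 → 3 := by
    rintro h p q ⟨Q, hp, hq⟩
    obtain ⟨hA, hp⟩ := ofPrime_le_iff.1 hp
    obtain ⟨hB, hq⟩ := ofPrime_le_iff.1 hq
    obtain ⟨⟨p', hp'⟩, q', hq'⟩ := (Set.ext_iff.1 h
      (LocalSubring.ofPrime (A ⊔ B) (tr Q (sup_le hA hB)))).2 ⟨⟨tr Q (sup_le hA hB), inferInstance⟩, rfl⟩
    dsimp only at hp' hq'
    obtain ⟨hA', hp''⟩ := ofPrime_le_iff.1 hp'.le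
    obtain ⟨hB', hq''⟩ := ofPrime_le_iff.1 hq'.le
    have hCQ : LocalSubring.ofPrime (A ⊔ B) (tr Q (sup_le hA hB)) ≤ Q := ofPrime_le_iff.2 ⟨sup_le hA hB, rfl⟩
    obtain ⟨_, e1⟩ := ofPrime_le_iff.1 (hp'.le.trans hCQ)
    obtain ⟨_, e2⟩ := ofPrime_le_iff.1 (hq'.le.trans hCQ)
    rw [ofPrime_congr (hp.symm.trans e1), ofPrime_congr (hq.symm.trans e2), hp', hq']
  tfae_finish

end Groth.Agent.S4345
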