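import Groth.Statements.S4348
import Groth.Agent.H10Coh.QcqsPush
import Groth.Agent.H10Coh.QCohOps
import Groth.Agent.H10Coh.Serre
-- import your own Groth.Agent.* helpers here

set_option autoImplicit false
universe u
open QCohSup

namespace Groth.Agent.S4348

open AlgebraicGeometry in
open CategoryTheory in
open CategoryTheory.Limits in
/-- Let X be a scheme and U an open subscheme such that the inclusion j : U -> X is quasi-compact. For a
quasi-coherent O_X-module F and a quasi-coherent submodule G of F|U, the canonical extension of G to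
X (the preimage of j_*(G) under F -> j_*(F|U), here the fibre product in the category of
O_X-modules) is quasi-coherent. -/
theorem result
    {X : Scheme.{u}} (U : X.Opens) [QuasiCompact U.ι] (F : X.Modules) [Coh.IsQCoh F]
    (G : (U : Scheme.{u}).Modules) [Coh.IsQCoh G]
    (i : G ⟶ (Scheme.Modules.pullback U.ι).obj F) [Mono i] :
    Coh.IsQCoh (pullback ((Scheme.Modules.pushforward U.ι).map i)
      ((Scheme.Modules.pullbackPushforwardAdjunction U.ι).unit.app F)) := by
  haveI : F.IsQuasicoherent := (inferInstance : Coh.IsQCoh F)
  haveI : G.IsQuasicoherent := (inferInstance : Coh.IsQCoh G)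
  haveI : ((Scheme.Modules.pullback U.ι).obj F).IsQuasicoherent :=
    Groth.Agent.H10Coh.isQuasicoherent_of_iso ((Scheme.Modules.restrictFunctorIsoPullback U.ι).app F)
  have h1 := Groth.Agent.H10Coh.isQuasicoherent_pushforward U.ι G
  have h2 := Groth.Agent.H10Coh.isQuasicoherent_pushforward U.ι ((Scheme.Modules.pullback U.ι).obj F)
  let f := (Scheme.Modules.pushforward U.ι).map i
  let g := (Scheme.Modules.pullbackPushforwardAdjunction U.ι).unit.app F
  haveI : ((Scheme.Modules.pullback U.ι ⋙ Scheme.Modules.pushforward U.ι).obj F).IsQuasicoherent := h2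
  haveI : ((Scheme.Modules.pushforward U.ι).obj G).IsQuasicoherent := h1
  haveI : ((𝟭 X.Modules).obj F).IsQuasicoherent := (inferInstance : F.IsQuasicoherent)
  haveI : (((Scheme.Modules.pushforward U.ι).obj G) ⊞ (𝟭 X.Modules).obj F).IsQuasicoherent :=
    Groth.Agent.H10Coh.isQuasicoherent_biprod _ _
  haveI := Groth.Agent.H10Coh.isQuasicoherent_kernel (biprod.desc f (-g))
  let e : pullback f g ≅ kernel (biprod.desc f (-g)) := by
    refine (limit.isLimit _).conePointUniqueUpToIso (PullbackCone.IsLimit.mk (f := f) (g := g)
      (fst := kernel.ι (biprod.desc f (-g)) ≫ biprod.fst) (snd := kernel.ι (biprod.desc f (-g)) ≫ biprod.snd) ?_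
      (fun s => kernel.lift _ (biprod.lift s.fst s.snd) (by simp [s.condition]))
      (fun s => by simp) (fun s => by simp) (fun s m h1 h2 => ?_))
    · have := kernel.condition (biprod.desc f (-g))
      conv_lhs at this => arg 2; rw [biprod.desc_eq]
      rw [Preadditive.comp_add, Preadditive.comp_neg, Preadditive.comp_neg,
        ← Category.assoc, ← Category.assoc, add_neg_eq_zero] at this
      exact this
    · refine (cancel_mono (kernel.ι _)).1 (biprod.hom_ext _ _ ?_ ?_) <;> simp only [Category.assoc, kernel.lift_ι, biprod.lift_fst, biprod.lift_snd] <;> assumption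
  exact Groth.Agent.H10Coh.isQuasicoherent_of_iso e.symm

end Groth.Agent.S4348
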