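import Groth.Statements.S4351
import Groth.Agent.H17.QCAlgGen
-- import your own Groth.Agent.* helpers here

set_option autoImplicit false
universe u
open QCohSup

namespace Groth.Agent.S4351

open AlgebraicGeometry in
open CategoryTheory in
open Opposite in
/-- Case a), in the sectionwise form its proof gives. Let X be a scheme whose underlying space is
locally Noetherian and B a quasi-coherent O_X-algebra. Every section of B over an affine open U lies
in a quasi-coherent sub-O_X-algebra of B whose sections over every affine open form an algebra of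
finite type over the functions (a condition equivalent to being of finite type near every point);
hence B is the inductive limit of its quasi-coherent sub-O_X-algebras of finite type. -/
theorem result
    {X : Scheme.{u}}
    (hX : ∀ x : X, ∃ U : X.Opens, x ∈ U ∧ TopologicalSpace.NoetherianSpace (U : Set X))
    (B : RelSpec.QCAlg X)
    (U : X.affineOpens) (b : B.presheaf.obj (op (U : X.Opens))) :
    ∃ (B' : RelSpec.QCAlg X) (φ : B' ⟶ B),
      (∀ V : X.Opens, Function.Injective (φ.hom.app (op V)).hom) ∧
      (∀ V : X.affineOpens, (B'.str.app (op (V : X.Opens))).hom.FiniteType) ∧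
      b ∈ Set.range (φ.hom.app (op (U : X.Opens))).hom := by
  have hF := Groth.Agent.H17.QCAlgSub.isQCoh_toModule B
  let b' : Γ(B.toModule, U.1) := b
  have hch : Groth.Agent.LeadQSub.HasCharts (Groth.Agent.LeadQSub.ofSet U.1 {b'}) U.1 := fun x hx =>
    ⟨U.1, {b'}, hx, le_rfl, U.2, Set.finite_singleton _,
      fun s hs => Groth.Agent.LeadQSub.locSpan_gen ⟨U.1, s⟩ ⟨s, hs, rfl⟩,
      Groth.Agent.LeadQSub.leOn_of_subset subset_rfl⟩
  obtain ⟨Γs, hsub, hch', -⟩ := Groth.Agent.LeadQSub.exists_extension_locallyNoetherian hX U.1 hF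
    (by rintro _ ⟨s, -, rfl⟩; exact le_rfl) hch
  obtain ⟨y, hy⟩ := (Groth.Agent.LeadQSub.mem_range_spanι Γs).2
    (Groth.Agent.LeadQSub.locSpan_gen ⟨U.1, b'⟩ (hsub ⟨b', Set.mem_singleton _, rfl⟩))
  exact Groth.Agent.H17.QCAlgSub.exists_finiteType_subAlg B (Groth.Agent.LeadQSub.spanι Γs)
    (Groth.Agent.LeadQSub.isQuasicoherent_spanMod hF hch') (Groth.Agent.LeadQSub.isFT_spanMod hF hch') U b
    ⟨y, hy⟩

end Groth.Agent.S4351
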