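import Groth.Statements.S4358
import Groth.Agent.H24FSch.Stalk
import Groth.Agent.H9Hens.FlatEpi

set_option autoImplicit false
set_option linter.style.haveILetI false
universe u
open FCompl

namespace Groth.Agent.S4358

/-- Affine content (the completion of X = Spec A along V(J) has as stalk ring at an open prime 𝔭 the
ring A_{S}, S = A ∖ 𝔭, realised here as the union of the images of the completed rings A_{f}, f ∉ 𝔭,
inside the completed local ring A{S⁻¹}; flatness of the canonical morphism of ringed spaces from the
completion to X is flatness of A_{S} over the local ring of X at 𝔭, equivalently over A). For A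
Noetherian and J ⊆ 𝔭, the canonical ring map A → A_{S} is flat; the hypothesis h records that A →
A{S⁻¹} takes values in A_{S}, which always holds. -/
theorem result
    (A : Type u) [CommRing A] [IsNoetherianRing A] (J 𝔭 : Ideal A) [𝔭.IsPrime] (hJ : J ≤ 𝔭)
    (h : ∀ a : A, ((algebraMap (Localization.AtPrime 𝔭) (FSch.cAtPrime A J 𝔭)).comp
      (algebraMap A (Localization.AtPrime 𝔭))) a ∈ FSch.stalkSubring A J 𝔭) :
    (((algebraMap (Localization.AtPrime 𝔭) (FSch.cAtPrime A J 𝔭)).comp
      (algebraMap A (Localization.AtPrime 𝔭))).codRestrict (FSch.stalkSubring A J 𝔭) h).Flat := by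
  let C := FSch.cAtPrime A J 𝔭
  let g : A →+* C := (algebraMap (Localization.AtPrime 𝔭) C).comp (algebraMap A (Localization.AtPrime 𝔭))
  haveI : IsNoetherianRing (Localization.AtPrime 𝔭) := IsLocalization.isNoetherianRing 𝔭.primeCompl _ inferInstance
  haveI := Groth.Agent.H24FSch.faithfullyFlat_subtype A J 𝔭 hJ
  letI : Algebra A (FSch.stalkSubring A J 𝔭) := (g.codRestrict _ h).toAlgebra
  haveI : IsScalarTower A (FSch.stalkSubring A J 𝔭) C := IsScalarTower.of_algebraMap_eq fun a =>
    IsScalarTower.algebraMap_apply A (Localization.AtPrime 𝔭) C a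
  haveI : Module.Flat A C := Module.Flat.trans A (Localization.AtPrime 𝔭) C
  exact Groth.Agent.H9Hens.flat_of_faithfullyFlat_tower A (FSch.stalkSubring A J 𝔭) C

end Groth.Agent.S4358
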