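import Groth.Statements.S4359
import Groth.Agent.H17.Topology

set_option autoImplicit false
universe u
open FinCond

namespace Groth.Agent.S4359

open CategoryTheory Limits AlgebraicGeometry TopologicalSpace

open AlgebraicGeometry in
open CategoryTheory in
/-- Let S be a locally Noetherian scheme, p : X -> S a morphism of finite type (locally of finite type
and quasi-compact) and q : Y -> S any morphism. Then every morphism f : X -> Y with f followed by q
equal to p is of finite type, that is, locally of finite type and quasi-compact. -/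
theorem result
    {X Y S : Scheme.{u}} [IsLocallyNoetherian S] (p : X ⟶ S) (q : Y ⟶ S)
    [LocallyOfFiniteType p] [QuasiCompact p] (f : X ⟶ Y) (hf : f ≫ q = p) :
    LocallyOfFiniteType f ∧ QuasiCompact f := by
  subst hf
  have hf' : LocallyOfFiniteType f := locallyOfFiniteType_of_comp f q
  refine ⟨hf', ?_⟩
  have : IsLocallyNoetherian X := LocallyOfFiniteType.isLocallyNoetherian (f ≫ q)
  have hX : ∀ x : X, ∃ U ∈ nhds x, NoetherianSpace U := fun x => by
    obtain ⟨_, ⟨U, hU, rfl⟩, hxU, -⟩ :=
      X.isBasis_affineOpens.exists_subset_of_mem_open (Set.mem_univ x) isOpen_univ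
    have : IsNoetherianRing Γ(X, U) := IsLocallyNoetherian.component_noetherian ⟨U, hU⟩
    exact ⟨U, U.2.mem_nhds hxU, noetherianSpace_of_isAffineOpen U hU⟩
  refine quasiCompact_iff_forall_isAffineOpen.mpr fun V hV => ?_
  choose W hW hmem using fun z : S => (S.isBasis_affineOpens.exists_subset_of_mem_open (Set.mem_univ z) isOpen_univ)
  obtain ⟨t, -, ht⟩ := (hV.isCompact.image q.continuous).elim_nhds_subcover W fun z _ => by
    obtain ⟨O, -, hO⟩ := hW z
    have h := (hmem z).1
    rw [← hO] at h ⊢
    exact O.2.mem_nhds h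
  have hK : IsCompact (⋃ z ∈ t, (f ≫ q) ⁻¹' W z) := t.isCompact_biUnion fun z _ => by
    obtain ⟨O, hO', hO⟩ := hW z
    rw [← hO]
    exact (f ≫ q).isCompact_preimage (IsAffineOpen.isCompact hO')
  refine Groth.Agent.H17.isCompact_of_subset_compact hX hK fun x hx => ?_
  obtain ⟨z, hz, hxz⟩ := Set.mem_iUnion₂.mp (ht (Set.mem_image_of_mem q hx))
  exact Set.mem_iUnion₂.mpr ⟨z, hz, hxz⟩

end Groth.Agent.S4359
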