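import Groth.Statements.S4361
import Groth.Agent.H17.Topology

set_option autoImplicit false
universe u
open FinCond

namespace Groth.Agent.S4361

open CategoryTheory Limits AlgebraicGeometry TopologicalSpace

open AlgebraicGeometry in
open CategoryTheory in
/-- Let f : X -> Y and g : Y -> Z be morphisms whose composite is quasi-compact, and suppose the
underlying space of X is locally Noetherian (every point has an open neighbourhood which is a
Noetherian topological space). Then f is quasi-compact. (The published statement also covers the
case g separated, which is the standard cancellation property; this row states only the case of a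
locally Noetherian source.) -/
theorem result
    {X Y Z : Scheme.{u}} (f : X ⟶ Y) (g : Y ⟶ Z) [QuasiCompact (f ≫ g)]
    (hX : ∀ x : X, ∃ U : X.Opens, x ∈ U ∧ TopologicalSpace.NoetherianSpace U) :
    QuasiCompact f := by
  refine quasiCompact_iff_forall_isAffineOpen.mpr fun V hV => ?_
  choose W hW hmem using fun z : Z => (Z.isBasis_affineOpens.exists_subset_of_mem_open (Set.mem_univ z) isOpen_univ)
  obtain ⟨t, -, ht⟩ := (hV.isCompact.image g.continuous).elim_nhds_subcover W fun z _ => by
    obtain ⟨O, -, hO⟩ := hW z
    have h := (hmem z).1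
    rw [← hO] at h ⊢
    exact O.2.mem_nhds h
  have hK : IsCompact (⋃ z ∈ t, (f ≫ g) ⁻¹' W z) := t.isCompact_biUnion fun z _ => by
    obtain ⟨O, hO', hO⟩ := hW z
    rw [← hO]
    exact (f ≫ g).isCompact_preimage (IsAffineOpen.isCompact hO')
  refine Groth.Agent.H17.isCompact_of_subset_compact
    (fun y => let ⟨U, h, hN⟩ := hX y; ⟨U, U.2.mem_nhds h, hN⟩) hK fun x hx => ?_
  obtain ⟨z, hz, hxz⟩ := Set.mem_iUnion₂.mp (ht (Set.mem_image_of_mem g hx))
  exact Set.mem_iUnion₂.mpr ⟨z, hz, hxz⟩

end Groth.Agent.S4361
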