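import Groth.Statements.S4363
import Groth.Agent.H17.Imports

set_option autoImplicit false
universe u v
open RedSep

namespace Groth.Agent.S4363

open CategoryTheory Limits AlgebraicGeometry TopologicalSpace Opposite

open AlgebraicGeometry in
open CategoryTheory in
/-- Let Y be an affine scheme, f : X -> Y a morphism and (U i) a cover of X by affine open subschemes.
Then f is separated if and only if, for every pair of indices i, j, the intersection of U i and U j
is an affine open and its ring of sections is generated, as a ring, by the images of the rings of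
sections of U i and of U j under the restriction maps. -/
theorem result
    {X Y : Scheme.{u}} [IsAffine Y] (f : X ⟶ Y) {ι : Type v} (U : ι → X.Opens)
    (hU : ∀ i, IsAffineOpen (U i)) (hcov : ⨆ i, U i = ⊤) :
    IsSeparated f ↔ ∀ i j, IsAffineOpen (U i ⊓ U j) ∧
      Subring.closure (Set.range (X.presheaf.map (homOfLE (inf_le_left : U i ⊓ U j ≤ U i)).op).hom ∪
        Set.range (X.presheaf.map (homOfLE (inf_le_right : U i ⊓ U j ≤ U j)).op).hom) = ⊤ := by
  let Q : AffineTargetMorphismProperty := affineAnd (fun {R S} [CommRing R] [CommRing S] (φ : R →+* S) => Function.Surjective φ)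
  have hAP : HasAffineProperty @IsClosedImmersion Q := inferInstance
  have hQl : Q.IsLocal := HasAffineProperty.isLocal_affineProperty @IsClosedImmersion
  have hdiag : IsSeparated f ↔ Q.diagonal f := by
    rw [HasAffineProperty.diagonal_iff @IsClosedImmersion, isSeparated_iff]
    rfl
  have hgen : ∀ {P A B C : CommRingCat.{u}} {c₁ : C ⟶ A} {c₂ : C ⟶ B} {a : A ⟶ P} {b : B ⟶ P},
      IsPushout c₁ c₂ a b → Subring.closure (Set.range a.hom ∪ Set.range b.hom) = ⊤ := by
    intro P A B C c₁ c₂ a b h
    let T := Subring.closure (Set.range a.hom ∪ Set.range b.hom)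
    let a' : A ⟶ CommRingCat.of T := CommRingCat.ofHom (a.hom.codRestrict T fun x => Subring.subset_closure (Or.inl ⟨x, rfl⟩))
    let b' : B ⟶ CommRingCat.of T := CommRingCat.ofHom (b.hom.codRestrict T fun x => Subring.subset_closure (Or.inr ⟨x, rfl⟩))
    have hw : c₁ ≫ a' = c₂ ≫ b' := by
      ext x; exact congr($(h.w) x)
    have hid : h.desc a' b' hw ≫ CommRingCat.ofHom T.subtype = 𝟙 P := by
      apply h.hom_ext
      · rw [IsPushout.inl_desc_assoc, Category.comp_id]; rfl
      · rw [IsPushout.inr_desc_assoc, Category.comp_id]; rfl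
    refine eq_top_iff.mpr fun p _ => ?_
    rw [← show T.subtype (h.desc a' b' hw p) = p from congr($hid p)]
    exact (h.desc a' b' hw p).2
  have hPa : ∀ i j, IsAffine (pullback ((U i).ι ≫ f) ((U j).ι ≫ f)) := fun i j => by
    have : IsAffine (U i).toScheme := hU i
    have : IsAffine (U j).toScheme := hU j
    infer_instance
  have hsurj : ∀ i j, (Q (pullback.mapDesc (U i).ι (U j).ι f) ↔ IsAffineOpen (U i ⊓ U j) ∧
      Subring.closure (Set.range (X.presheaf.map (homOfLE (inf_le_left : U i ⊓ U j ≤ U i)).op).hom ∪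
        Set.range (X.presheaf.map (homOfLE (inf_le_right : U i ⊓ U j ≤ U j)).op).hom) = ⊤) := by
    intro i j
    have : IsAffine (U i).toScheme := hU i
    have : IsAffine (U j).toScheme := hU j
    let d := (isPullback_opens_inf (U i) (U j)).isoPullback.hom ≫ pullback.mapDesc (U i).ι (U j).ι f
    rw [← Q.cancel_left_of_respectsIso (isPullback_opens_inf (U i) (U j)).isoPullback.hom]
    change IsAffine (U i ⊓ U j).toScheme ∧ Function.Surjective d.appTop ↔ _
    refine and_congr_right fun _ => ?_
    let p₁ := pullback.fst ((U i).ι ≫ f) ((U j).ι ≫ f)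
    let p₂ := pullback.snd ((U i).ι ≫ f) ((U j).ι ≫ f)
    have h1 : d ≫ p₁ = X.homOfLE (inf_le_left : U i ⊓ U j ≤ U i) := by
      simp only [d, p₁, Category.assoc, pullback.mapDesc, pullback.lift_fst, Category.comp_id]
      exact (isPullback_opens_inf (U i) (U j)).isoPullback_hom_fst
    have h2 : d ≫ p₂ = X.homOfLE (inf_le_right : U i ⊓ U j ≤ U j) := by
      simp only [d, p₂, Category.assoc, pullback.mapDesc, pullback.lift_snd, Category.comp_id]
      exact (isPullback_opens_inf (U i) (U j)).isoPullback_hom_snd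
    have hP := hgen (isPushout_appTop_of_isPullback (IsPullback.of_hasPullback ((U i).ι ≫ f) ((U j).ι ≫ f)))
    have e1 : ∀ t, d.appTop (p₁.appTop t) = (X.homOfLE (inf_le_left : U i ⊓ U j ≤ U i)).appTop t := by
      intro t; rw [← h1, Scheme.Hom.comp_appTop]; rfl
    have e2 : ∀ t, d.appTop (p₂.appTop t) = (X.homOfLE (inf_le_right : U i ⊓ U j ≤ U j)).appTop t := by
      intro t; rw [← h2, Scheme.Hom.comp_appTop]; rfl
    have himg : d.appTop.hom.range = Subring.closure (Set.range (X.homOfLE (inf_le_left : U i ⊓ U j ≤ U i)).appTop.hom ∪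
        Set.range (X.homOfLE (inf_le_right : U i ⊓ U j ≤ U j)).appTop.hom) := by
      rw [RingHom.range_eq_map, ← hP, RingHom.map_closure, Set.image_union, ← Set.range_comp, ← Set.range_comp]
      congr 3
      · funext t; exact e1 t
      · funext t; exact e2 t
    -- transport along `Γ(X, W) ≅ Γ(X, W.ι ''ᵁ ⊤)`
    let η : ∀ W : X.Opens, Γ(X, W) ≅ Γ(X, W.ι ''ᵁ ⊤) := fun W => X.presheaf.mapIso (eqToIso W.ι_image_top).op
    let ε := (η (U i ⊓ U j)).commRingCatIsoToRingEquiv
    have hres : ∀ (W : X.Opens) (h : U i ⊓ U j ≤ W), Set.range (X.homOfLE h).appTop.hom =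
        ε '' Set.range (X.presheaf.map (homOfLE h).op).hom := by
      intro W h
      have hpt : ∀ t, (X.homOfLE h).appTop.hom ((η W).commRingCatIsoToRingEquiv t) = ε ((X.presheaf.map (homOfLE h).op).hom t) := by
        intro t
        rw [Scheme.homOfLE_appTop]
        show (X.presheaf.map _ ≫ X.presheaf.map _) t = (X.presheaf.map _ ≫ X.presheaf.map _) t
        rw [← Functor.map_comp, ← Functor.map_comp]
        rfl
      ext z
      constructor
      · rintro ⟨t', rfl⟩
        obtain ⟨t, rfl⟩ := (η W).commRingCatIsoToRingEquiv.surjective t'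
        exact ⟨_, ⟨t, rfl⟩, (hpt t).symm⟩
      · rintro ⟨_, ⟨t, rfl⟩, rfl⟩
        exact ⟨_, hpt t⟩
    have key : (Subring.closure (Set.range (X.presheaf.map (homOfLE (inf_le_left : U i ⊓ U j ≤ U i)).op).hom ∪
        Set.range (X.presheaf.map (homOfLE (inf_le_right : U i ⊓ U j ≤ U j)).op).hom)).map ε.toRingHom = d.appTop.hom.range := by
      rw [himg, RingHom.map_closure, Set.image_union, hres _ inf_le_left, hres _ inf_le_right]
      rfl
    rw [← RingHom.range_eq_top, ← key]
    constructor
    · intro h
      refine eq_top_iff.mpr fun x _ => ?_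
      obtain ⟨y, hy, e⟩ := h.ge (Subring.mem_top (ε x))
      rwa [← ε.injective e]
    · intro h
      rw [h, ← RingHom.range_eq_map]
      exact RingHom.range_eq_top.mpr ε.surjective
  simp_rw [← hsurj]
  constructor
  · intro hs i j
    have : IsAffine (U i).toScheme := hU i
    have : IsAffine (U j).toScheme := hU j
    exact hdiag.mp hs (U i).ι (U j).ι
  · intro h
    let 𝒰 := X.openCoverOfIsOpenCover U hcov
    have : ∀ i, IsAffine (𝒰.X i) := hU
    exact hdiag.mpr (AffineTargetMorphismProperty.diagonal_of_openCover_source f 𝒰 h)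

end Groth.Agent.S4363
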