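import Groth.Statements.S4365
import Groth.Agent.H17.Imports
import Mathlib.RingTheory.NoetherNormalization
import Mathlib.FieldTheory.IsAlgClosed.Basic

set_option autoImplicit false
universe u
open FinCond

namespace Groth.Agent.S4365

open CategoryTheory Limits AlgebraicGeometry TopologicalSpace

open AlgebraicGeometry in
open CategoryTheory in
/-- Let K be a field, X and Y schemes locally of finite type over K, f : X -> Y a K-morphism and Ω an
algebraically closed extension field of K of infinite transcendence degree over K (there is an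
algebraically independent sequence in Ω). Then f is surjective if and only if the map it induces
from the K-points of X with values in Ω to those of Y is surjective, i.e. every K-morphism Spec Ω ->
Y factors through f. (The published proposition assumes X and Y of finite type over K, and a later
remark of the same text extends it to X and Y locally of finite type over K, the form stated here.) -/
theorem result
    (K Ω : Type u) [Field K] [Field Ω] [IsAlgClosed Ω] [Algebra K Ω]
    (t : ℕ → Ω) (ht : AlgebraicIndependent K t)
    {X Y : Scheme.{u}} (pX : X ⟶ Spec (CommRingCat.of K)) (pY : Y ⟶ Spec (CommRingCat.of K))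
    [LocallyOfFiniteType pX] [LocallyOfFiniteType pY] (f : X ⟶ Y) (hf : f ≫ pY = pX) :
    Surjective f ↔ ∀ y : Spec (CommRingCat.of Ω) ⟶ Y,
      y ≫ pY = Spec.map (CommRingCat.ofHom (algebraMap K Ω)) →
        ∃ x : Spec (CommRingCat.of Ω) ⟶ X, x ≫ f = y := by
  have : LocallyOfFiniteType (f ≫ pY) := hf ▸ inferInstance
  have : LocallyOfFiniteType f := locallyOfFiniteType_of_comp f pY
  constructor
  · intro hs y _
    let p₁ : pullback y f ⟶ Spec (CommRingCat.of Ω) := pullback.fst y f
    have : Surjective p₁ := MorphismProperty.pullback_fst y f hs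
    have : JacobsonSpace (pullback y f : Scheme.{u}) := LocallyOfFiniteType.jacobsonSpace p₁
    obtain ⟨z₀, -⟩ := p₁.surjective (IsLocalRing.closedPoint Ω)
    obtain ⟨z, -, hz⟩ := nonempty_inter_closedPoints (Z := Set.univ (α := (pullback y f : Scheme.{u})))
      ⟨z₀, trivial⟩ isOpen_univ.isLocallyClosed
    let g := (pullback y f).fromSpecResidueField z ≫ p₁
    have : IsClosedImmersion ((pullback y f).fromSpecResidueField z) := by
      refine IsClosedImmersion.of_isPreimmersion _ ?_
      rw [Scheme.range_fromSpecResidueField]; exact hz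
    have : IsFinite g := (isFinite_iff_locallyOfFiniteType_of_jacobsonSpace (f := g)).mpr inferInstance
    obtain ⟨φ, hφ⟩ := Spec.map_surjective g
    have hfin : φ.hom.Finite := by
      rw [← IsFinite.SpecMap_iff, hφ]; infer_instance
    have hbij : Function.Bijective φ.hom := by
      algebraize [φ.hom]
      exact IsAlgClosed.algebraMap_bijective_of_isIntegral (k := Ω) (K := (pullback y f).residueField z)
    have : IsIso φ := (ConcreteCategory.isIso_iff_bijective φ).mpr hbij
    have : IsIso g := hφ ▸ inferInstance
    refine ⟨inv g ≫ (pullback y f).fromSpecResidueField z ≫ pullback.snd y f, ?_⟩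
    rw [Category.assoc, Category.assoc, ← pullback.condition, ← Category.assoc ((pullback y f).fromSpecResidueField z)]
    exact IsIso.inv_hom_id_assoc _ _
  · intro h
    refine ⟨fun y => ?_⟩
    obtain ⟨U, hU, hyU, -⟩ := exists_isAffineOpen_mem_and_subset (Opens.mem_top y)
    obtain ⟨φ, hφ⟩ := Spec.map_surjective (hU.fromSpec ≫ pY)
    have hfin : φ.hom.FiniteType := by
      rw [← HasRingHomProperty.Spec_iff (P := @LocallyOfFiniteType), hφ]; infer_instance
    algebraize [φ.hom]
    let p := hU.primeIdealOf ⟨y, hyU⟩
    let D := Γ(Y, U) ⧸ p.asIdeal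
    have : Algebra.FiniteType K D :=
      Algebra.FiniteType.of_surjective (Ideal.Quotient.mkₐ K p.asIdeal) Ideal.Quotient.mk_surjective
    obtain ⟨s, g, hginj, hgint⟩ := exists_integral_inj_algHom_of_fg K D
    let N := MvPolynomial (Fin s) K
    let e : N →ₐ[K] Ω := MvPolynomial.aeval (fun i : Fin s => t i)
    have he : Function.Injective e := (ht.comp (fun i : Fin s => (i : ℕ)) Fin.val_injective)
    let _ : Algebra N D := g.toRingHom.toAlgebra
    let _ : Algebra N Ω := e.toRingHom.toAlgebra
    have : IsScalarTower K N D := .of_algebraMap_eq fun a => (g.commutes a).symm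
    have : IsScalarTower K N Ω := .of_algebraMap_eq fun a => (e.commutes a).symm
    have : Algebra.IsIntegral N D := ⟨hgint⟩
    have := (faithfulSMul_iff_algebraMap_injective N D).mpr hginj
    have := (faithfulSMul_iff_algebraMap_injective N Ω).mpr he
    let σ : D →ₐ[N] Ω := IsAlgClosed.lift
    have hσ : Function.Injective σ := by
      rw [injective_iff_map_eq_zero]
      have hker : RingHom.ker σ.toRingHom = ⊥ := by
        refine Ideal.eq_bot_of_comap_eq_bot (R := N) ?_
        refine (Submodule.eq_bot_iff _).mpr fun n hn => ?_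
        rw [Ideal.mem_comap, RingHom.mem_ker] at hn
        exact he ((σ.commutes n).symm.trans hn |>.trans (map_zero e).symm)
      intro d hd
      exact (Ideal.mem_bot).mp (hker ▸ (RingHom.mem_ker.mpr hd : d ∈ RingHom.ker σ.toRingHom))
    let ψ : Γ(Y, U) ⟶ CommRingCat.of Ω := CommRingCat.ofHom (σ.toRingHom.comp (Ideal.Quotient.mk p.asIdeal))
    obtain ⟨x, hx⟩ := h (Spec.map ψ ≫ hU.fromSpec) (by
      rw [Category.assoc, ← hφ, ← Spec.map_comp]
      congr 1
      ext a
      show σ (Ideal.Quotient.mk p.asIdeal (algebraMap K Γ(Y, U) a)) = algebraMap K Ω a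
      rw [show Ideal.Quotient.mk p.asIdeal (algebraMap K Γ(Y, U) a) = algebraMap K D a from rfl,
        IsScalarTower.algebraMap_apply K N D, σ.commutes, ← IsScalarTower.algebraMap_apply])
    refine ⟨x (IsLocalRing.closedPoint Ω), ?_⟩
    rw [← Scheme.Hom.comp_apply, hx, Scheme.Hom.comp_apply]
    have : Spec.map ψ (IsLocalRing.closedPoint Ω) = p := by
      apply PrimeSpectrum.ext
      ext a
      show σ (Ideal.Quotient.mk p.asIdeal a) ∈ IsLocalRing.maximalIdeal Ω ↔ a ∈ p.asIdeal
      rw [IsLocalRing.maximalIdeal_eq_bot, Ideal.mem_bot, map_eq_zero_iff σ hσ, Ideal.Quotient.eq_zero_iff_mem]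
    rw [this, hU.fromSpec_primeIdealOf]

end Groth.Agent.S4365
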