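import Groth.Statements.S4370
import Groth.Agent.H17.Reduced

set_option autoImplicit false
universe u
open RedSep

namespace Groth.Agent.S4370

open CategoryTheory Limits AlgebraicGeometry TopologicalSpace

open AlgebraicGeometry in
open CategoryTheory in
/-- Let f : X -> Y be an open immersion and let g : X_red -> Y_red be the morphism of reduced schemes
induced by f, i.e. the morphism between the closed subschemes defined by the nilradicals whose
composite with the inclusion of Y_red in Y is the inclusion of X_red in X followed by f. Then g is
an open immersion. -/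
theorem result
    {X Y : Scheme.{u}} (f : X ⟶ Y) [IsOpenImmersion f]
    (g : X.nilradical.subscheme ⟶ Y.nilradical.subscheme)
    (hg : g ≫ Y.nilradical.subschemeι = X.nilradical.subschemeι ≫ f) :
    IsOpenImmersion g := by
  have hX : IsReduced X.nilradical.subscheme :=
    (Groth.Agent.H17.eq_nilradical_iff _ X.support_nilradical).mpr rfl
  have hY : IsReduced Y.nilradical.subscheme :=
    (Groth.Agent.H17.eq_nilradical_iff _ Y.support_nilradical).mpr rfl
  let O := Y.nilradical.subschemeι ⁻¹ᵁ f.opensRange
  have : IsReduced O.toScheme := isReduced_of_isOpenImmersion O.ι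
  have hY' : Set.range Y.nilradical.subschemeι = Set.univ := by
    rw [Scheme.IdealSheafData.range_subschemeι, Scheme.support_nilradical]; rfl
  have hX' : Set.range X.nilradical.subschemeι = Set.univ := by
    rw [Scheme.IdealSheafData.range_subschemeι, Scheme.support_nilradical]; rfl
  have hr : Set.range (X.nilradical.subschemeι ≫ f) = Set.range (O.ι ≫ Y.nilradical.subschemeι) := by
    rw [Scheme.Hom.comp_base, TopCat.coe_comp, Set.range_comp, hX', Set.image_univ,
      Scheme.Hom.comp_base, TopCat.coe_comp, Set.range_comp, Scheme.Opens.range_ι]
    show _ = Y.nilradical.subschemeι '' (Y.nilradical.subschemeι ⁻¹' Set.range f)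
    rw [Set.image_preimage_eq_range_inter, hY', Set.univ_inter]
  obtain ⟨e, he⟩ := Groth.Agent.H17.exists_iso_of_range_eq (X.nilradical.subschemeι ≫ f)
    (O.ι ≫ Y.nilradical.subschemeι) hr
  have : g = e.hom ≫ O.ι := by
    rw [← cancel_mono Y.nilradical.subschemeι, hg, Category.assoc, he]
  rw [this]; infer_instance

end Groth.Agent.S4370
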