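import Groth.Statements.S4371
import Groth.Agent.H17.Imports

set_option autoImplicit false
universe u
open RedSep

namespace Groth.Agent.S4371

open CategoryTheory Limits AlgebraicGeometry TopologicalSpace

open AlgebraicGeometry in
open CategoryTheory in
/-- Let K be a field and Y = Spec K[s, t] the affine plane over K. The open subset D(s) ∪ D(t) of Y, the
complement of the closed point s = t = 0, is not affine. -/
theorem result
    (K : Type u) [Field K] :
    ¬ IsAffineOpen (X := Spec (CommRingCat.of (MvPolynomial (Fin 2) K)))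
      (PrimeSpectrum.basicOpen (MvPolynomial.X 0 : MvPolynomial (Fin 2) K) ⊔
        PrimeSpectrum.basicOpen (MvPolynomial.X 1 : MvPolynomial (Fin 2) K)) := by
  let R := CommRingCat.of (MvPolynomial (Fin 2) K)
  let S := Spec R
  let D : Fin 2 → S.Opens := fun i => PrimeSpectrum.basicOpen (MvPolynomial.X i : MvPolynomial (Fin 2) K)
  let U : S.Opens := D 0 ⊔ D 1
  intro hU
  change IsAffineOpen U at hU
  let ρ : R ⟶ Γ(S, U) := (Scheme.ΓSpecIso R).inv ≫ S.presheaf.map (homOfLE (le_top : U ≤ ⊤)).op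
  have hD : ∀ i, D i = S.basicOpen ((Scheme.ΓSpecIso R).inv (MvPolynomial.X i)) := fun i =>
    (basicOpen_eq_of_affine _).symm
  have hD0 : ∀ i, ((D i : S.Opens) : Set S).Nonempty := by
    intro i
    refine ⟨⟨⊥, Ideal.isPrime_bot⟩, ?_⟩
    exact fun h => MvPolynomial.X_ne_zero i ((Ideal.mem_bot).mp h)
  have : Nonempty U := ⟨⟨_, Or.inl (hD0 0).some_mem⟩⟩
  have hρ : Function.Injective ρ := by
    intro a b h
    have := map_injective_of_isIntegral S (homOfLE (le_top : U ≤ ⊤))
    exact (Scheme.ΓSpecIso R).commRingCatIsoToRingEquiv.symm.injective (this h)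
  have hden : ∀ i, D i ≤ U → ∀ p : Γ(S, U), ∃ (n : ℕ) (a : R), p * ρ (MvPolynomial.X i) ^ n = ρ a := by
    intro i hi p
    have hloc := (isAffineOpen_top S).isLocalization_of_eq_basicOpen
      ((Scheme.ΓSpecIso R).inv (MvPolynomial.X i)) (homOfLE (le_top : D i ≤ ⊤)) (hD i)
    let := (S.presheaf.map (homOfLE (le_top : D i ≤ ⊤)).op).hom.toAlgebra
    obtain ⟨n, a, ha⟩ := IsLocalization.Away.surj ((Scheme.ΓSpecIso R).inv (MvPolynomial.X i))
      (S.presheaf.map (homOfLE hi).op p)
    refine ⟨n, (Scheme.ΓSpecIso R).hom a, ?_⟩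
    have : Nonempty (D i) := ⟨⟨_, (hD0 i).some_mem⟩⟩
    apply map_injective_of_isIntegral S (homOfLE hi)
    rw [map_mul, map_pow]
    simp only [ρ, CommRingCat.comp_apply, ← ConcreteCategory.comp_apply (S.presheaf.map _) (S.presheaf.map _), ← Functor.map_comp]
    rw [CategoryTheory.Iso.hom_inv_id_apply]
    exact ha
  have hcont : ∀ p : Γ(S, U), ∃ c : R, p = ρ c := by
    intro p
    obtain ⟨n, a, ha⟩ := hden 0 le_sup_left p
    obtain ⟨m, b, hb⟩ := hden 1 le_sup_right p
    have he : a * MvPolynomial.X 1 ^ m = b * MvPolynomial.X 0 ^ n := by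
      apply hρ
      simp only [map_mul, map_pow, ← ha, ← hb]
      ring
    have hp : Prime (MvPolynomial.X 0 : MvPolynomial (Fin 2) K) := MvPolynomial.X_prime
    have hnd : ¬ (MvPolynomial.X 0 : MvPolynomial (Fin 2) K) ∣ MvPolynomial.X 1 ^ m := by
      intro h
      have := hp.dvd_of_dvd_pow h
      rw [MvPolynomial.X_dvd_X] at this
      exact absurd this (by decide)
    obtain ⟨c, hc⟩ := (hp.pow_dvd_of_dvd_mul_right n hnd ⟨b, by rw [he]; ring⟩)
    refine ⟨c, ?_⟩
    rw [hc, map_mul, map_pow] at ha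
    have hne : ρ (MvPolynomial.X 0) ≠ 0 := fun h => MvPolynomial.X_ne_zero 0 (hρ (h.trans (map_zero _).symm))
    have : IsDomain Γ(S, U) := inferInstance
    exact mul_right_cancel₀ (pow_ne_zero n hne) (ha.trans (mul_comm _ _))
  have hspan : Ideal.span (Set.range fun i => ρ (MvPolynomial.X i)) = ⊤ := by
    rw [← hU.self_le_iSup_basicOpen_iff]
    intro x hx
    obtain ⟨i, hi⟩ : ∃ i, x ∈ D i := hx.elim (fun h => ⟨0, h⟩) (fun h => ⟨1, h⟩)
    refine Opens.mem_iSup.mpr ⟨⟨_, i, rfl⟩, ?_⟩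
    show x ∈ S.basicOpen (ρ (MvPolynomial.X i))
    rw [CommRingCat.comp_apply, Scheme.basicOpen_res, ← hD]
    exact ⟨hx, hi⟩
  obtain ⟨c, hc⟩ := (Ideal.mem_span_range_iff_exists_fun).mp ((Ideal.eq_top_iff_one _).mp hspan)
  choose d hd using fun i => hcont (c i)
  have h1 : ∑ i, d i * MvPolynomial.X i = (1 : MvPolynomial (Fin 2) K) := by
    apply hρ
    rw [map_sum, map_one, ← hc]
    simp only [map_mul, ← hd]
  have := congrArg (MvPolynomial.eval (fun _ : Fin 2 => (0 : K))) h1
  simp at this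

end Groth.Agent.S4371
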