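import Groth.Statements.S4372
import Groth.Agent.H17.Reduced

set_option autoImplicit false
universe u
open RedSep

namespace Groth.Agent.S4372

open CategoryTheory Limits AlgebraicGeometry TopologicalSpace

open AlgebraicGeometry in
open CategoryTheory in
/-- Let h : Z -> X be an immersion with Z reduced (a reduced subscheme of X), and let W be the reduced
closed subscheme of X whose underlying space is the closure of h(Z). Then Z is an open subscheme of
W: h factors as an open immersion Z -> W followed by the closed immersion W -> X. Stated as the
existence of such a factorization through a reduced scheme W closed-immersed onto the closure of the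
image. -/
theorem result
    {Z X : Scheme.{u}} (h : Z ⟶ X) [IsImmersion h] [IsReduced Z] :
    ∃ (W : Scheme.{u}) (j : Z ⟶ W) (i : W ⟶ X), IsOpenImmersion j ∧ IsClosedImmersion i ∧
      IsReduced W ∧ Set.range i = closure (Set.range h) ∧ j ≫ i = h := by
  set C : Closeds X := ⟨closure (Set.range h), isClosed_closure⟩
  set i := (Scheme.IdealSheafData.vanishingIdeal C).subschemeι
  have hW : IsReduced (Scheme.IdealSheafData.vanishingIdeal C).subscheme :=
    Groth.Agent.H17.isReduced_vanishingIdeal_subscheme C
  have hi : Set.range i = closure (Set.range h) := Groth.Agent.H17.range_vanishingIdeal_subschemeι C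
  let O := i ⁻¹ᵁ h.coborderRange
  have : IsReduced O.toScheme := isReduced_of_isOpenImmersion O.ι
  have : IsClosedImmersion i := inferInstance
  have hr : Set.range h = Set.range (O.ι ≫ i) := by
    rw [Scheme.Hom.comp_base, TopCat.coe_comp, Set.range_comp, Scheme.Opens.range_ι]
    show Set.range h = i '' (i ⁻¹' coborder (Set.range h))
    rw [Set.image_preimage_eq_range_inter, hi, closure_inter_coborder]
  obtain ⟨e, he⟩ := Groth.Agent.H17.exists_iso_of_range_eq h (O.ι ≫ i) hr
  exact ⟨_, e.hom ≫ O.ι, i, inferInstance, inferInstance, hW, hi, by rw [Category.assoc, he]⟩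

end Groth.Agent.S4372
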