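import Groth.Statements.S4375
import Groth.Agent.LeadAff.CriterionFree

set_option autoImplicit false
universe u
open CategoryTheory CategoryTheory.Limits AlgebraicGeometry
open EGA2

namespace Groth.Agent.S4375


/-- (c') ⇒ (a): let X be a quasi-compact separated scheme. Suppose that for every n, every
quasi-coherent O_X-module F admitting a monomorphism into the free module O_X^n, and every
epimorphism p : F → F'' onto a quasi-coherent O_X-module, the map induced by p on global sections is
surjective. Then X is affine. (The published statement also allows X to be a scheme whose underlying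
space is Noetherian; this row assumes it quasi-compact and separated.) -/
theorem result (X : Scheme.{u}) [CompactSpace X] [X.IsSeparated]
    (h : ∀ (n : ℕ) (F F'' : X.Modules) (i : F ⟶ FlatMod.freeMod X n) (p : F ⟶ F''),
      Mono i → Epi p → Coh.IsQCoh F → Coh.IsQCoh F'' →
        Function.Surjective (p.val.app (Opposite.op ⊤)).hom) :
    IsAffine X := by
  refine LeadAff.SubFree.isAffine_of_gammaExact ⟨fun {Q} p _ hQ => ?_, fun {F Q} i p _ hi hF hQ => ?_⟩
  · let l : Coh.structureModule X ⟶ FlatMod.freeMod X 1 := Sigma.ι (fun _ : Fin 1 => Coh.structureModule X) 0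
    haveI : Mono (l ≫ Sigma.desc fun _ => 𝟙 (Coh.structureModule X)) := by
      simp only [l, colimit.ι_desc, Cofan.mk_ι_app]; infer_instance
    exact h 1 _ Q l p (mono_of_mono l (Sigma.desc fun _ => 𝟙 (Coh.structureModule X))) inferInstance
      H10Coh.isQuasicoherent_unit hQ
  · let l : Coh.structureModule X ⊞ Coh.structureModule X ⟶ FlatMod.freeMod X 2 :=
      biprod.desc (Sigma.ι (fun _ : Fin 2 => Coh.structureModule X) 0) (Sigma.ι (fun _ : Fin 2 => Coh.structureModule X) 1)
    let r : FlatMod.freeMod X 2 ⟶ Coh.structureModule X ⊞ Coh.structureModule X :=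
      Sigma.desc ![biprod.inl, biprod.inr]
    have hlr : l ≫ r = 𝟙 _ := biprod.hom_ext' _ _ (by simp [l, r]) (by simp [l, r])
    haveI : Mono (l ≫ r) := by rw [hlr]; infer_instance
    haveI : Mono l := mono_of_mono l r
    exact h 2 F Q (i ≫ l) p (mono_comp i l) inferInstance hF hQ

end Groth.Agent.S4375
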