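import Groth.Statements.S4378
import Groth.Agent.H11Val.LocalExt

set_option autoImplicit false
universe u
open CategoryTheory CategoryTheory.Limits AlgebraicGeometry
open EGA2

open Groth.Agent.H11Val
namespace Groth.Agent.S4378

/-- Let q : Y → S be separated and of finite type, and f : X → Y a morphism such that X is also
separated and of finite type over S through f ≫ q. Then f is proper if and only if for every scheme
S' over S the morphism X ×_S S' → Y ×_S S' induced by f is closed (as a map of topological spaces). -/
theorem result {X Y S : Scheme.{u}} (q : Y ⟶ S) (f : X ⟶ Y)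
    [IsSeparated q] [LocallyOfFiniteType q] [QuasiCompact q]
    [IsSeparated (f ≫ q)] [LocallyOfFiniteType (f ≫ q)] [QuasiCompact (f ≫ q)] :
    IsProper f ↔ ∀ (S' : Scheme.{u}) (g : S' ⟶ S),
      IsClosedMap (pullback.map (f ≫ q) g q g f (𝟙 S') (𝟙 S) (Category.comp_id (f ≫ q))
        ((Category.comp_id g).trans (Category.id_comp g).symm)).base := by
  constructor
  · intro hf S' g
    have sq : IsPullback (pullback.fst (f ≫ q) g)
        (pullback.map (f ≫ q) g q g f (𝟙 S') (𝟙 S) (Category.comp_id (f ≫ q)) ((Category.comp_id g).trans (Category.id_comp g).symm))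
        f (pullback.fst q g) := by
      refine IsPullback.of_bot ?_ (pullback.lift_fst _ _ _).symm (IsPullback.of_hasPullback q g)
      rw [show pullback.map (f ≫ q) g q g f (𝟙 S') (𝟙 S) (Category.comp_id (f ≫ q))
          ((Category.comp_id g).trans (Category.id_comp g).symm) ≫ pullback.snd q g = pullback.snd (f ≫ q) g from
        (pullback.lift_snd _ _ _).trans (Category.comp_id _)]
      exact IsPullback.of_hasPullback (f ≫ q) g
    have : UniversallyClosed (pullback.map (f ≫ q) g q g f (𝟙 S') (𝟙 S) (Category.comp_id (f ≫ q))
        ((Category.comp_id g).trans (Category.id_comp g).symm)) := MorphismProperty.of_isPullback sq inferInstance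
    exact Scheme.Hom.isClosedMap _
  · intro h
    have : IsSeparated f := IsSeparated.of_comp f q
    have : LocallyOfFiniteType f := locallyOfFiniteType_of_comp f q
    have : QuasiCompact f := QuasiCompact.of_comp f q
    have hUC : UniversallyClosed f := by
      constructor
      intro P T a g b hb Z hZ
      let Γ : T ⟶ pullback q (g ≫ q) := pullback.lift g (𝟙 T) (by simp)
      let j : P ⟶ pullback (f ≫ q) (g ≫ q) := pullback.lift a b (by rw [← Category.assoc, ← hb.w, Category.assoc])
      have : IsClosedImmersion Γ := by
        have : IsClosedImmersion (Γ ≫ pullback.snd q (g ≫ q)) := by rw [pullback.lift_snd]; infer_instance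
        exact IsClosedImmersion.of_comp Γ (pullback.snd q (g ≫ q))
      have hj : IsClosedImmersion j := by
        let j' := pullback.lift (f := f) (g := g) a b hb.w.symm
        have : j = hb.flip.isoPullback.hom ≫ pullback.mapDesc f g q := by
          apply pullback.hom_ext <;> simp [j, pullback.mapDesc, pullback.lift_fst, pullback.lift_snd, pullback.map]
        rw [this]
        infer_instance
      let m := pullback.map (f ≫ q) (g ≫ q) q (g ≫ q) f (𝟙 T) (𝟙 S) (Category.comp_id (f ≫ q))
        ((Category.comp_id (g ≫ q)).trans (Category.id_comp (g ≫ q)).symm)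
      have hcomp : j ≫ m = b ≫ Γ := by
        apply pullback.hom_ext <;> simp [j, m, Γ, hb.w, pullback.lift_fst, pullback.lift_snd, pullback.lift_fst_assoc, pullback.lift_snd_assoc, pullback.map]
      have hclosed : IsClosed (Γ.base '' (b.base '' Z)) := by
        rw [← Set.image_comp, ← TopCat.coe_comp, ← Scheme.Hom.comp_base, ← hcomp, Scheme.Hom.comp_base,
          TopCat.coe_comp, Set.image_comp]
        exact h T (g ≫ q) _ (j.isClosedEmbedding.isClosedMap _ hZ)
      rw [← Γ.isClosedEmbedding.injective.preimage_image (b.base '' Z)]
      exact hclosed.preimage Γ.continuous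
    exact { }

end Groth.Agent.S4378
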