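import Groth.Statements.S4385
import Groth.Agent.H11QMap.CoprodAmple

set_option autoImplicit false
universe u
open CategoryTheory CategoryTheory.Limits AlgebraicGeometry
open EGA2

namespace Groth.Agent.S4385

/-- Let f : X → Y and f' : X' → Y be quasi-compact morphisms, X'' = X ⨿ X' their disjoint union with f''
: X'' → Y the morphism restricting to f and f', and L'' an O_{X''}-module whose inverse images L on
X and L' on X' (along the two coprojections) are invertible. Then L'' is ample relative to f'' if
and only if L is ample relative to f and L' is ample relative to f'. -/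
theorem result {X X' Y : Scheme.{u}} (f : X ⟶ Y) (f' : X' ⟶ Y) [QuasiCompact f] [QuasiCompact f']
    (L'' : (X ⨿ X').Modules)
    (hL : PicF.IsInvertible ((Scheme.Modules.pullback (coprod.inl : X ⟶ X ⨿ X')).obj L''))
    (hL' : PicF.IsInvertible ((Scheme.Modules.pullback (coprod.inr : X' ⟶ X ⨿ X')).obj L'')) :
    RelAmple.IsRelAmple (coprod.desc f f') L'' ↔
      RelAmple.IsRelAmple f ((Scheme.Modules.pullback (coprod.inl : X ⟶ X ⨿ X')).obj L'') ∧
        RelAmple.IsRelAmple f' ((Scheme.Modules.pullback (coprod.inr : X' ⟶ X ⨿ X')).obj L'') := by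
  exact Groth.Agent.H11QMap.isRelAmple_coprod_iff f f' L''

end Groth.Agent.S4385
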