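import Groth.Statements.S4391
import Groth.Agent.H11Proj.Graded

set_option autoImplicit false
universe u
open EGA2

namespace Groth.Agent.S4391

/-- For a ring S graded in nonnegative degrees, being Noetherian is equivalent to S_0 being Noetherian
with S of finite type as an S_0-algebra. -/
theorem result {R A : Type u} [CommRing R] [CommRing A] [Algebra R A] (𝒜 : ℕ → Submodule R A) [GradedAlgebra 𝒜] :
    IsNoetherianRing A ↔ IsNoetherianRing (𝒜 0) ∧ Algebra.FiniteType (𝒜 0) A := by
  exact Groth.Agent.H11Proj.isNoetherianRing_iff 𝒜

end Groth.Agent.S4391
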