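import Groth.Statements.S4395
import Mathlib.RingTheory.GradedAlgebra.Radical

set_option autoImplicit false
universe u
open EGA2

namespace Groth.Agent.S4395

/-- Let S be a ring graded in nonnegative degrees, n₀ > 0 an integer and, for every n ≥ n₀, p_n an
additive subgroup of S_n. Then there is a graded prime ideal p of S not containing S_+ with p ∩ S_n
= p_n for all n ≥ n₀ if and only if: (1) S_m p_n ⊆ p_{m+n} for all m ≥ 0 and n ≥ n₀; (2) for m ≥ n₀,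
n ≥ n₀, f ∈ S_m, g ∈ S_n, fg ∈ p_{m+n} implies f ∈ p_m or g ∈ p_n; (3) p_n ≠ S_n for at least one n
≥ n₀. Moreover such a graded prime ideal is unique. -/
theorem result {R A : Type u} [CommRing R] [CommRing A] [Algebra R A] (𝒜 : ℕ → Submodule R A) [GradedAlgebra 𝒜]
    (n₀ : ℕ) (hn₀ : 0 < n₀) (p : ℕ → AddSubgroup A) (hp : ∀ n : ℕ, n₀ ≤ n → (p n : Set A) ⊆ 𝒜 n) :
    ((∃ 𝔭 : HomogeneousIdeal 𝒜, 𝔭.toIdeal.IsPrime ∧ ¬ HomogeneousIdeal.irrelevant 𝒜 ≤ 𝔭 ∧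
        ∀ n : ℕ, n₀ ≤ n → (𝔭.toIdeal : Set A) ∩ 𝒜 n = p n) ↔
      ((∀ m n : ℕ, n₀ ≤ n → ∀ a ∈ 𝒜 m, ∀ b ∈ p n, a * b ∈ p (m + n)) ∧
        (∀ m n : ℕ, n₀ ≤ m → n₀ ≤ n → ∀ f ∈ 𝒜 m, ∀ g ∈ 𝒜 n, f * g ∈ p (m + n) → f ∈ p m ∨ g ∈ p n) ∧
        ∃ n : ℕ, n₀ ≤ n ∧ (p n : Set A) ≠ 𝒜 n)) ∧
    ∀ 𝔭 𝔮 : HomogeneousIdeal 𝒜, 𝔭.toIdeal.IsPrime → 𝔮.toIdeal.IsPrime →
      ¬ HomogeneousIdeal.irrelevant 𝒜 ≤ 𝔭 → ¬ HomogeneousIdeal.irrelevant 𝒜 ≤ 𝔮 →
      (∀ n : ℕ, n₀ ≤ n → (𝔭.toIdeal : Set A) ∩ 𝒜 n = p n) → (∀ n : ℕ, n₀ ≤ n → (𝔮.toIdeal : Set A) ∩ 𝒜 n = p n) →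
      𝔭 = 𝔮 := by
  classical
  have hcompat : ∀ 𝔭 : HomogeneousIdeal 𝒜, (∀ n : ℕ, n₀ ≤ n → (𝔭.toIdeal : Set A) ∩ 𝒜 n = p n) →
      ∀ n, n₀ ≤ n → ∀ a, a ∈ p n ↔ a ∈ 𝔭.toIdeal ∧ a ∈ 𝒜 n := by
    intro 𝔭 h n hn a
    rw [← SetLike.mem_coe (p := p n), ← h n hn]
    rfl
  have hexf : ∀ 𝔭 : HomogeneousIdeal 𝒜, 𝔭.toIdeal.IsPrime → ¬ HomogeneousIdeal.irrelevant 𝒜 ≤ 𝔭 →
      ∃ d, n₀ ≤ d ∧ ∃ f ∈ 𝒜 d, f ∉ 𝔭.toIdeal := by
    intro 𝔭 hp' hirr
    obtain ⟨d, hd, f, hf, hfp⟩ : ∃ d, 0 < d ∧ ∃ f ∈ 𝒜 d, f ∉ 𝔭.toIdeal := by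
      by_contra hc
      push Not at hc
      exact hirr ((HomogeneousIdeal.toIdeal_irrelevant_le 𝒜).2 fun d hd a ha => hc d hd a ha)
    refine ⟨n₀ • d, Nat.le_mul_of_pos_right n₀ hd, f ^ n₀, SetLike.pow_mem_graded n₀ hf,
      fun h => hfp (hp'.mem_of_pow_mem _ h)⟩
  refine ⟨⟨?_, ?_⟩, ?_⟩
  · rintro ⟨𝔭, hprime, hirr, h⟩
    have hc := hcompat 𝔭 h
    refine ⟨?_, ?_, ?_⟩
    · intro m n hn a ha b hb
      rw [hc _ (hn.trans (Nat.le_add_left n m))]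
      rw [hc n hn] at hb
      exact ⟨Ideal.mul_mem_left _ _ hb.1, SetLike.mul_mem_graded ha hb.2⟩
    · intro m n hm hn f hf g hg hfg
      rw [hc _ (hn.trans (Nat.le_add_left n m))] at hfg
      rcases hprime.mem_or_mem hfg.1 with h1 | h1
      · exact Or.inl ((hc m hm f).2 ⟨h1, hf⟩)
      · exact Or.inr ((hc n hn g).2 ⟨h1, hg⟩)
    · obtain ⟨d, hd, f, hf, hfp⟩ := hexf 𝔭 hprime hirr
      exact ⟨d, hd, fun e => hfp ((hc d hd f).1 (e.ge hf)).1⟩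
  · rintro ⟨h1, h2, d, hd, hne⟩
    obtain ⟨f, hf, hfp⟩ : ∃ f ∈ 𝒜 d, f ∉ p d := by
      by_contra hc
      push Not at hc
      exact hne (Set.Subset.antisymm (hp d hd) hc)
    have hle : ∀ i, n₀ ≤ i + d := fun i => hd.trans (Nat.le_add_left d i)
    let I : Ideal A :=
      { carrier := {a | ∀ i, (DirectSum.decompose 𝒜 a i : A) * f ∈ p (i + d)}
        add_mem' := fun {a b} ha hb i => by
          rw [DirectSum.decompose_add, DirectSum.add_apply, Submodule.coe_add, add_mul]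
          exact add_mem (ha i) (hb i)
        zero_mem' := fun i => by simp
        smul_mem' := fun c a ha => by
          simp only [smul_eq_mul, Set.mem_setOf_eq] at ha ⊢
          induction c using DirectSum.Decomposition.inductionOn 𝒜 with
          | zero => intro i; simp
          | homogeneous c =>
            rename_i m
            intro i
            rcases le_or_gt m i with hm | hm
            · rw [DirectSum.coe_decompose_mul_of_left_mem_of_le 𝒜 c.2 hm, mul_assoc,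
                show i + d = m + (i - m + d) by omega]
              exact h1 m _ (hle _) _ c.2 _ (ha _)
            · rw [DirectSum.coe_decompose_mul_of_left_mem_of_not_le 𝒜 c.2 (not_le.2 hm), zero_mul]
              exact zero_mem _
          | add c c' hc hc' =>
            intro i
            rw [add_mul, DirectSum.decompose_add, DirectSum.add_apply, Submodule.coe_add, add_mul]
            exact add_mem (hc i) (hc' i) }
    have hmem : ∀ i a, a ∈ 𝒜 i → (a ∈ I ↔ a * f ∈ p (i + d)) := by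
      intro i a ha
      refine ⟨fun h => by simpa [DirectSum.decompose_of_mem_same 𝒜 ha] using h i, fun h j => ?_⟩
      rcases eq_or_ne i j with rfl | hij
      · rwa [DirectSum.decompose_of_mem_same 𝒜 ha]
      · rw [DirectSum.decompose_of_mem_ne 𝒜 ha hij, zero_mul]
        exact zero_mem _
    have hmem' : ∀ n, n₀ ≤ n → ∀ a ∈ 𝒜 n, (a ∈ I ↔ a ∈ p n) := by
      intro n hn a ha
      rw [hmem n a ha]
      refine ⟨fun h => (h2 n d hn hd a ha f hf h).resolve_right hfp, fun h => ?_⟩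
      rw [mul_comm, add_comm]
      exact h1 d n hn f hf a h
    have hhom : I.IsHomogeneous 𝒜 := fun i a ha => (hmem i _ (DirectSum.decompose 𝒜 a i).2).2 (ha i)
    refine ⟨⟨I, hhom⟩, ?_, ?_, fun n hn => ?_⟩
    · refine hhom.isPrime_of_homogeneous_mem_or_mem ?_ ?_
      · intro e
        exact hfp ((hmem' d hd f hf).1 (e ▸ Submodule.mem_top))
      · intro a b ha hb hab
        obtain ⟨i, ha⟩ := ha
        obtain ⟨j, hb⟩ := hb
        rw [hmem i a ha, hmem j b hb]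
        have h3 := (hmem (i + j) _ (SetLike.mul_mem_graded ha hb)).1 hab
        have h4 : a * f * (b * f) ∈ p ((i + d) + (j + d)) := by
          rw [show a * f * (b * f) = f * (a * b * f) by ring, show i + d + (j + d) = d + (i + j + d) by omega]
          exact h1 d _ (hle _) f hf _ h3
        exact h2 _ _ (hle i) (hle j) _ (SetLike.mul_mem_graded ha hf) _ (SetLike.mul_mem_graded hb hf) h4
    · intro hirr
      exact hfp ((hmem' d hd f hf).1 (hirr (HomogeneousIdeal.mem_irrelevant_of_mem 𝒜 (lt_of_lt_of_le hn₀ hd) hf)))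
    · ext a
      exact ⟨fun ⟨ha, ha'⟩ => (hmem' n hn a ha').1 ha, fun ha => ⟨(hmem' n hn a (hp n hn ha)).2 ha, hp n hn ha⟩⟩
  · intro 𝔭 𝔮 h𝔭 h𝔮 i𝔭 i𝔮 c𝔭 c𝔮
    obtain ⟨d, hd, f, hf, hfp⟩ := hexf 𝔭 h𝔭 i𝔭
    have hfq : f ∉ 𝔮.toIdeal := fun h => hfp ((hcompat 𝔭 c𝔭 d hd f).1 ((hcompat 𝔮 c𝔮 d hd f).2 ⟨h, hf⟩)).1
    have key : ∀ (𝔞 : HomogeneousIdeal 𝒜), 𝔞.toIdeal.IsPrime → f ∉ 𝔞.toIdeal →
        (∀ n : ℕ, n₀ ≤ n → (𝔞.toIdeal : Set A) ∩ 𝒜 n = p n) → ∀ a, a ∈ 𝔞.toIdeal ↔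
          ∀ i, (DirectSum.decompose 𝒜 a i : A) * f ∈ p (i + d) := by
      intro 𝔞 ha hfa hca a
      have hh : ∀ i, ((DirectSum.decompose 𝒜 a i : A) * f ∈ p (i + d) ↔ (DirectSum.decompose 𝒜 a i : A) ∈ 𝔞.toIdeal) := by
        intro i
        rw [hcompat 𝔞 hca (i + d) (hd.trans (Nat.le_add_left d i))]
        exact ⟨fun h => (ha.mem_or_mem h.1).resolve_right hfa,
          fun h => ⟨Ideal.mul_mem_right _ _ h, SetLike.mul_mem_graded (DirectSum.decompose 𝒜 a i).2 hf⟩⟩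
      refine ⟨fun h i => (hh i).2 (𝔞.isHomogeneous i h), fun h => ?_⟩
      rw [← DirectSum.sum_support_decompose 𝒜 a]
      exact sum_mem fun i _ => (hh i).1 (h i)
    exact HomogeneousIdeal.ext (Ideal.ext fun a => (key 𝔭 h𝔭 hfp c𝔭 a).trans (key 𝔮 h𝔮 hfq c𝔮 a).symm)

end Groth.Agent.S4395
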