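import Groth.Statements.S4396
import Groth.Agent.H11Proj.DegZeroProj

set_option autoImplicit false
universe u
open AlgebraicGeometry
open EGA2

open Groth.Agent.H11Proj

namespace Groth.Agent.S4396

/-- Let S be a ring graded in nonnegative degrees, d > 0, and S^{(d)} the graded ring whose degree-n
part is S_{nd} (given here as any graded ring S' with an injective algebra homomorphism φ : S' → S
carrying S'_n onto S_{nd} for every n); let f' ∈ S'_1, with image f = φ(f') ∈ S_d. Then there is a
ring isomorphism between the degree-zero homogeneous localization S_(f) and the quotient S'/(f' -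
1)S', whose inverse sends the class of an element x of S'_n to the fraction φ(x)/f^n. (The module
part of the published statement is not stated here.) -/
theorem result {R A : Type u} [CommRing R] [CommRing A] [Algebra R A] (𝒜 : ℕ → Submodule R A) [GradedAlgebra 𝒜]
    {B : Type u} [CommRing B] [Algebra R B] (ℬ : ℕ → Submodule R B) [GradedAlgebra ℬ]
    (d : ℕ) (hd : 0 < d) (φ : B →ₐ[R] A) (hφ : Function.Injective φ)
    (hdeg : ∀ n : ℕ, Submodule.map φ.toLinearMap (ℬ n) = 𝒜 (n * d)) (f' : B) (hf' : f' ∈ ℬ 1) :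
    ∃ e : HomogeneousLocalization.Away 𝒜 (φ f') ≃+* B ⧸ Ideal.span {f' - 1},
      ∀ (n : ℕ) (x : B), x ∈ ℬ n →
        (e.symm (Ideal.Quotient.mk (Ideal.span {f' - 1}) x)).val =
          Localization.mk (φ x) ⟨φ f' ^ n, pow_mem (Submonoid.mem_powers (φ f')) n⟩ := by
  have hmem : ∀ {n : ℕ} {x : B}, x ∈ ℬ n → φ x ∈ 𝒜 (n • d) := fun {n x} hx => by
    rw [smul_eq_mul]
    exact (hdeg n).le (Submodule.mem_map_of_mem hx)
  have hf : φ f' ∈ 𝒜 d := by simpa using hmem hf'
  let L := awayProj 𝒜 hf
  have hmul : ∀ a b : B, L (φ (a * b)) = L (φ a) * L (φ b) := fun a b => by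
    refine eq_on_homogeneous ℬ
      (g₁ := (L.comp φ.toLinearMap.toAddMonoidHom).comp (AddMonoidHom.mulRight b))
      (g₂ := (AddMonoidHom.mulRight (L (φ b))).comp (L.comp φ.toLinearMap.toAddMonoidHom))
      (fun k c hc => ?_) a
    change L (φ (c * b)) = L (φ c) * L (φ b)
    rw [map_mul]
    exact awayProj_mul 𝒜 hf hd (hmem hc) _
  let θ : B →+* HomogeneousLocalization.Away 𝒜 (φ f') :=
    { L.comp φ.toLinearMap.toAddMonoidHom with
      map_one' := by
        have h1 : (1 : A) ∈ 𝒜 (0 • d) := by rw [zero_smul]; exact SetLike.GradedOne.one_mem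
        change L (φ 1) = 1
        rw [map_one, show L 1 = _ from awayProj_mk 𝒜 hf hd h1]
        apply HomogeneousLocalization.val_injective
        rw [HomogeneousLocalization.val_one, HomogeneousLocalization.Away.val_mk, ← Localization.mk_one]
        congr 1
        exact Subtype.ext (pow_zero _)
      map_mul' := hmul }
  let I : Ideal B := Ideal.span {f' - 1}
  have hθf : θ f' = 1 := awayProj_self 𝒜 hf hd
  have hle : ∀ b ∈ I, θ b = 0 := fun b hb => by
    obtain ⟨c, rfl⟩ := Ideal.mem_span_singleton'.1 hb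
    rw [map_mul, map_sub, hθf, map_one, sub_self, mul_zero]
  have hpow : ∀ (l : ℕ) (y : B), f' ^ l * y - y ∈ I := fun l y => by
    rw [← sub_one_mul]
    refine Ideal.mul_mem_right _ _ (Ideal.mem_span_singleton.2 ?_)
    simpa using sub_dvd_pow_sub_pow f' 1 l
  have key : ∀ x : B, θ x = 0 → x ∈ I := fun x hx => by
    classical
    obtain ⟨N, hN⟩ : ∃ N : ℕ, ∀ k ∈ (DirectSum.decompose ℬ x).support, k ≤ N :=
      ⟨_, fun k hk => Finset.le_sup (f := id) hk⟩
    let y : B := ∑ k ∈ (DirectSum.decompose ℬ x).support, f' ^ (N - k) * (DirectSum.decompose ℬ x k : B)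
    have hxy : y - x ∈ I := by
      have : y - x = ∑ k ∈ (DirectSum.decompose ℬ x).support,
          (f' ^ (N - k) * (DirectSum.decompose ℬ x k : B) - (DirectSum.decompose ℬ x k : B)) := by
        rw [Finset.sum_sub_distrib, DirectSum.sum_support_decompose ℬ x]
      rw [this]
      exact sum_mem fun k _ => hpow _ _
    have hy : y ∈ ℬ N := sum_mem fun k hk => by
      have h' := graded_mul_mem ℬ (SetLike.pow_mem_graded (N - k) hf') (DirectSum.decompose ℬ x k).2
      have e : (N - k) • 1 + k = N := by rw [smul_eq_mul, mul_one]; exact Nat.sub_add_cancel (hN k hk)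
      rwa [e] at h'
    have hθy : θ y = 0 := by
      have := hle _ hxy
      rwa [map_sub, hx, sub_zero] at this
    have h0 := congrArg HomogeneousLocalization.val hθy
    rw [show θ y = _ from awayProj_mk 𝒜 hf hd (hmem hy), HomogeneousLocalization.Away.val_mk,
      HomogeneousLocalization.val_zero, mk_eq_zero_iff_exists_pow] at h0
    obtain ⟨l, hl⟩ := h0
    have hl' : f' ^ l * y = 0 := hφ (by rw [map_mul, map_pow, hl, map_zero])
    have hyI : y ∈ I := by
      have := hpow l y
      rwa [hl', zero_sub, neg_mem_iff] at this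
    simpa using I.sub_mem hyI hxy
  let θ' : B ⧸ I →+* HomogeneousLocalization.Away 𝒜 (φ f') := Ideal.Quotient.lift I θ hle
  have hbij : Function.Bijective θ' := by
    refine ⟨(injective_iff_map_eq_zero _).2 fun q hq => ?_, fun w => ?_⟩
    · obtain ⟨x, rfl⟩ := Ideal.Quotient.mk_surjective q
      exact Ideal.Quotient.eq_zero_iff_mem.2 (key x hq)
    · obtain ⟨n, a, ha, rfl⟩ := HomogeneousLocalization.Away.mk_surjective 𝒜 hf w
      have ha' : a ∈ 𝒜 (n * d) := by rwa [smul_eq_mul] at ha
      rw [← hdeg] at ha'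
      obtain ⟨b, -, rfl⟩ := ha'
      exact ⟨Ideal.Quotient.mk I b, awayProj_mk 𝒜 hf hd ha⟩
  refine ⟨(RingEquiv.ofBijective θ' hbij).symm, fun n x hx => ?_⟩
  change (θ x).val = _
  rw [show θ x = _ from awayProj_mk 𝒜 hf hd (hmem hx), HomogeneousLocalization.Away.val_mk]

end Groth.Agent.S4396
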