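import Groth.Statements.S4398
import Groth.Agent.H11Proj.Scheme

set_option autoImplicit false
universe u
open AlgebraicGeometry
open EGA2

namespace Groth.Agent.S4398

/-- Let φ : S' → S be a homomorphism of rings graded in nonnegative degrees which maps S'_n bijectively
onto S_n for every n > 0, so that S_+ lies in the ideal generated by φ(S'_+) (stated as a hypothesis
because the induced morphism is built from it). Then the induced morphism Proj S → Proj S' is an
isomorphism of schemes. (The published statement treats the cases S'_0 = ℤ and S'_0 = A with S'_n =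
S_n for n > 0; this row allows any graded φ that is bijective in positive degrees.) -/
theorem result {R A : Type u} [CommRing R] [CommRing A] [Algebra R A] (𝒜 : ℕ → Submodule R A) [GradedAlgebra 𝒜]
    {B : Type u} [CommRing B] [Algebra R B] (ℬ : ℕ → Submodule R B) [GradedAlgebra ℬ]
    (φ : ℬ →+*ᵍ 𝒜) (hbij : ∀ n : ℕ, 0 < n → Set.BijOn φ (ℬ n) (𝒜 n))
    (hφ : HomogeneousIdeal.irrelevant 𝒜 ≤ (HomogeneousIdeal.irrelevant ℬ).map φ) :
    CategoryTheory.IsIso (Proj.map φ hφ) := by
  refine Groth.Agent.H11Proj.map_of_away (P := CategoryTheory.MorphismProperty.isomorphisms Scheme) φ hφ fun i s hi hs => ?_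
  have hb : Function.Bijective (HomogeneousLocalization.Away.map φ s) := by
    refine ⟨(injective_iff_map_eq_zero _).2 fun z hz => ?_, fun z => ?_⟩
    · obtain ⟨n, b, hb, rfl⟩ := HomogeneousLocalization.Away.mk_surjective ℬ hs z
      rw [HomogeneousLocalization.Away.map_mk φ s hs n b hb] at hz
      have h0 := congrArg HomogeneousLocalization.val hz
      rw [HomogeneousLocalization.val_zero, HomogeneousLocalization.Away.val_mk,
        Groth.Agent.H11Proj.mk_eq_zero_iff_exists_pow] at h0
      obtain ⟨l, hl⟩ := h0
      have hl' : φ (s ^ (l + 1) * b) = 0 := by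
        rw [map_mul, map_pow, pow_succ', mul_assoc, hl, mul_zero]
      have hdeg : s ^ (l + 1) * b ∈ ℬ ((l + 1) • i + n • i) :=
        Groth.Agent.H11Proj.graded_mul_mem ℬ (SetLike.pow_mem_graded _ hs) hb
      have hpos : 0 < (l + 1) • i + n • i := Nat.add_pos_left (Nat.mul_pos (Nat.succ_pos l) hi) _
      have h00 : s ^ (l + 1) * b = 0 :=
        (hbij _ hpos).injOn hdeg (zero_mem _) (hl'.trans (map_zero φ).symm)
      apply HomogeneousLocalization.val_injective
      rw [HomogeneousLocalization.val_zero, HomogeneousLocalization.Away.val_mk,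
        Groth.Agent.H11Proj.mk_eq_zero_iff_exists_pow]
      exact ⟨l + 1, h00⟩
    · obtain ⟨n, a, ha, rfl⟩ := HomogeneousLocalization.Away.mk_surjective 𝒜 (φ.2 hs) z
      have ha' : φ s * a ∈ 𝒜 ((n + 1) • i) := by
        have := Groth.Agent.H11Proj.graded_mul_mem 𝒜 (φ.2 hs) ha
        rwa [show i + n • i = (n + 1) • i by rw [succ_nsmul]; exact add_comm _ _] at this
      obtain ⟨b, hb, hbe⟩ := (hbij _ (Nat.mul_pos (Nat.succ_pos n) hi)).surjOn ha'
      refine ⟨HomogeneousLocalization.Away.mk ℬ hs (n + 1) b hb, ?_⟩
      rw [HomogeneousLocalization.Away.map_mk φ s hs (n + 1) b hb]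
      apply HomogeneousLocalization.val_injective
      simp only [HomogeneousLocalization.Away.val_mk]
      rw [Localization.mk_eq_mk_iff, Localization.r_iff_exists]
      exact ⟨1, by simp [hbe]; ring⟩
  have : CategoryTheory.IsIso (CommRingCat.ofHom (HomogeneousLocalization.Away.map φ s)) :=
    (CategoryTheory.ConcreteCategory.isIso_iff_bijective _).2 hb
  exact (inferInstance : CategoryTheory.IsIso (Spec.map
    (CommRingCat.ofHom (HomogeneousLocalization.Away.map φ s))))

end Groth.Agent.S4398
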