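import Groth.Statements.S4400
import Groth.Agent.H11Tilde.TwistPow

set_option autoImplicit false
universe u
open CategoryTheory CategoryTheory.Limits AlgebraicGeometry
open EGA2

open TopologicalSpace Opposite
namespace Groth.Agent.S4400

/-- Let S be a ring graded in nonnegative degrees whose irrelevant ideal S_+ is generated by the
degree-one elements, X = Proj S, and M a graded S-module (graded in nonnegative degrees here). Then
for every integer n the O_X-module attached to the shifted module M(n) is isomorphic to the twist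
M~(n) = M~ ⊗ O_X(n). (Existence of an isomorphism only; the published isomorphism is the canonical
one.) -/
theorem result {R A : Type u} [CommRing R] [CommRing A] [Algebra R A] (𝒜 : ℕ → Submodule R A) [GradedAlgebra 𝒜]
    (hgen : (HomogeneousIdeal.irrelevant 𝒜).toIdeal = Ideal.span (𝒜 1 : Set A))
    {M : Type u} [AddCommGroup M] [Module R M] [Module A M] [IsScalarTower R A M] (ℳ : ℕ → Submodule R M) [DirectSum.Decomposition ℳ] [SetLike.GradedSMul 𝒜 ℳ] (n : ℤ) :
    Nonempty (GrTilde.tilde 𝒜 ℳ n ≅ Twist.twistBy 𝒜 (GrTilde.tilde 𝒜 ℳ 0) n) := by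
  obtain ⟨e⟩ := Groth.Agent.H11Tilde.nonempty_tilde_tensor_iso 𝒜 ℳ (zero_add n).symm
    (Groth.Agent.H11Tilde.cover_of_degOne 𝒜 (Groth.Agent.H11Tilde.degOne_cover 𝒜 hgen.le) n)
  exact ⟨e.symm⟩

end Groth.Agent.S4400
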