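import Groth.Statements.S4401
import Groth.Agent.H11Tilde.Global

set_option autoImplicit false
universe u
open CategoryTheory CategoryTheory.Limits AlgebraicGeometry
open EGA2

open TopologicalSpace Opposite
namespace Groth.Agent.S4401

/-- Let S be a ring graded in nonnegative degrees whose irrelevant ideal S_+ is generated by finitely
many elements of degree one, and X = Proj S. Then for every integer n ≥ 0 there exist an integer k
and an epimorphism of O_X-modules O_X^k → O_X(n). -/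
theorem result {R A : Type u} [CommRing R] [CommRing A] [Algebra R A] (𝒜 : ℕ → Submodule R A) [GradedAlgebra 𝒜]
    (s : Finset A) (hs1 : ∀ f ∈ s, f ∈ 𝒜 1)
    (hs : (HomogeneousIdeal.irrelevant 𝒜).toIdeal = Ideal.span (s : Set A)) (n : ℕ) :
    ∃ (k : ℕ) (p : FlatMod.freeMod (Proj 𝒜) k ⟶ Twist.twist 𝒜 (n : ℤ)), Epi p := by
  classical
  let idx : Fin s.card → A := fun i => (s.equivFin.symm i : A)
  have hidx : ∀ i, idx i ^ n ∈ 𝒜 (n * 1) := fun i => SetLike.pow_mem_graded n (hs1 _ (s.equivFin.symm i).2)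
  have hidx' : ∀ i, idx i ^ n ∈ 𝒜 n := fun i => by simpa using hidx i
  let sec : Fin s.card → (Coh.structureModule (Proj 𝒜) ⟶ Twist.twist 𝒜 (n : ℤ)) := fun i =>
    Groth.Agent.H11Tilde.homOfGlobal _ (Groth.Agent.H11Tilde.globalSec 𝒜 (hidx' i))
  refine ⟨s.card, Sigma.desc sec, Groth.Agent.H11Tilde.epi_of_locally_surjective _ fun W t x hx => ?_⟩
  obtain ⟨f, hfs, hfx⟩ : ∃ f ∈ s, f ∉ x.asHomogeneousIdeal := by
    by_contra hne
    push Not at hne
    exact x.not_irrelevant_le (hs.le.trans (Ideal.span_le.2 hne))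
  let i := s.equivFin ⟨f, hfs⟩
  have hi : idx i = f := by simp [idx, i]
  let V : (Proj 𝒜).Opens := W ⊓ Proj.basicOpen 𝒜 f
  obtain ⟨r, hr⟩ := (Groth.Agent.H11Tilde.bijective_smul_globalSec 𝒜 (hidx' i) (V := V) (fun y hy => by
    rw [hi]
    exact Groth.Agent.H11Tilde.pow_notMem 𝒜 hy.2 n)).2
    ((Twist.twist 𝒜 (n : ℤ)).presheaf.map (homOfLE (inf_le_left : V ≤ W)).op t)
  refine ⟨V, inf_le_left, ⟨hx, hfx⟩,
    (Sigma.ι (fun _ : Fin s.card => Coh.structureModule (Proj 𝒜)) i).app V r, ?_⟩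
  have e := congrArg (fun k => Scheme.Modules.Hom.app k V) (Sigma.ι_desc sec i)
  exact (congr($e r)).trans hr

end Groth.Agent.S4401
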