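import Groth.Statements.S4404
import Groth.Agent.H11Proj.Spectrum

set_option autoImplicit false
universe u
open EGA2

namespace Groth.Agent.S4404

/-- (a) ⇔ (b): let S be a ring graded in nonnegative degrees and E a subset of the irrelevant ideal S_+.
Then V_+(E) is the whole of Proj S if and only if every element of E is nilpotent. -/
theorem result {R A : Type u} [CommRing R] [CommRing A] [Algebra R A] (𝒜 : ℕ → Submodule R A) [GradedAlgebra 𝒜]
    (E : Set A) (hE : E ⊆ (HomogeneousIdeal.irrelevant 𝒜).toIdeal) :
    ProjectiveSpectrum.zeroLocus 𝒜 E = Set.univ ↔ ∀ e ∈ E, IsNilpotent e := by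
  exact Groth.Agent.H11Proj.zeroLocus_eq_univ_iff 𝒜 hE

end Groth.Agent.S4404
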