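import Groth.Statements.S4405
import Groth.Agent.H11Proj.Spectrum

set_option autoImplicit false
universe u
open EGA2

namespace Groth.Agent.S4405

/-- Let S be a ring graded in nonnegative degrees and E any subset of the irrelevant ideal S_+. Then the
intersection of S_+ with the vanishing ideal of the closed subset V_+(E) of Proj S equals the
intersection of S_+ with the radical of the graded ideal generated by E (the smallest homogeneous
ideal containing E). -/
theorem result {R A : Type u} [CommRing R] [CommRing A] [Algebra R A] (𝒜 : ℕ → Submodule R A) [GradedAlgebra 𝒜]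
    (E : Set A) (hE : E ⊆ (HomogeneousIdeal.irrelevant 𝒜).toIdeal) :
    (HomogeneousIdeal.irrelevant 𝒜).toIdeal ⊓
        (ProjectiveSpectrum.vanishingIdeal (ProjectiveSpectrum.zeroLocus 𝒜 E)).toIdeal =
      (HomogeneousIdeal.irrelevant 𝒜).toIdeal ⊓ (Ideal.homogeneousHull 𝒜 (Ideal.span E)).toIdeal.radical := by
  exact Groth.Agent.H11Proj.irrelevant_inf_vanishingIdeal_zeroLocus 𝒜 E

end Groth.Agent.S4405
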