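import Groth.Statements.S4408
import Groth.Agent.H7Lim.IdealExtension
import Groth.Agent.H17.OmegaLocal
import Groth.Agent.H29Blow.IdealMod
import Groth.Agent.H10Coh.FinType2
import Groth.Agent.H11Aff.GGNonvanish

set_option autoImplicit false
universe u
open CategoryTheory CategoryTheory.Limits AlgebraicGeometry
open EGA2

namespace Groth.Agent.S4408

/-- (e') ⇒ (a): let X be a quasi-compact separated scheme such that every quasi-coherent submodule of
finite type of O_X is generated by its global sections. Then X is quasi-affine. (The published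
statement also allows X to be a scheme whose underlying space is Noetherian; this row assumes it
quasi-compact and separated.) -/
theorem result (X : Scheme.{u}) [CompactSpace X] [X.IsSeparated]
    (h : ∀ (J : X.Modules) (i : J ⟶ Coh.structureModule X), Mono i → Coh.IsQCoh J → CohB1.IsFT J →
      Curv2.IsGloballyGenerated J) :
    X.IsQuasiAffine := by
  refine Scheme.IsQuasiAffine.of_forall_exists_mem_basicOpen _ fun x => ?_
  obtain ⟨_, ⟨U, hU : IsAffineOpen U, rfl⟩, hxU, -⟩ :=
    X.isBasis_affineOpens.exists_subset_of_mem_open (Set.mem_univ x) isOpen_univ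
  let Z : TopologicalSpace.Closeds X := ⟨(U : Set X)ᶜ, U.isOpen.isClosed_compl⟩
  let I : X.IdealSheafData := Scheme.IdealSheafData.vanishingIdeal Z
  have h1 : (1 : Γ(X, U)) ∈ I.ideal ⟨U, hU⟩ := by
    rw [Scheme.IdealSheafData.vanishingIdeal_ideal]
    have : hU.fromSpec ⁻¹' (Z : Set X) = ∅ := by
      ext p
      refine iff_of_false (fun hp => hp ?_) id
      exact hU.range_fromSpec.le ⟨p, rfl⟩
    exact (PrimeSpectrum.mem_vanishingIdeal _ _).2 fun p hp => absurd (this.le hp) (Set.notMem_empty p)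
  obtain ⟨J, hJI, hfg, hJU⟩ := H7Lim.exists_finiteType_le I ⟨U, hU⟩ {1} (by simpa using h1)
  have h1J : (1 : Γ(X, U)) ∈ J.ideal ⟨U, hU⟩ := hJU (by simp)
  let M := ClSub.idealMod J
  haveI hqc : M.IsQuasicoherent := H17.OmegaLocal.isQuasicoherent_idealMod J
  have hft : CohB1.IsFT M := by
    refine (H10Coh.isFT_isFP_of_affineCover M (fun A : X.affineOpens => A.1) ?_ (fun A => A.2) fun A => ?_).1
    · exact TopologicalSpace.IsOpenCover.mk (iSup_affineOpens_eq_top X)
    · let φ : Γ(M, A.1) →ₗ[Γ(X, A.1)] J.ideal A :=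
        { toFun := fun m => ⟨OmegaSh.idealSect J A.1 m, (H29Blow.mem_ideal_iff_exists_idealSect J A.2 _).2 ⟨m, rfl⟩⟩
          map_add' := fun a b => Subtype.ext (map_add _ a b)
          map_smul' := fun r a => Subtype.ext (H29Blow.idealSect_smul J A.1 r a) }
      haveI : Module.Finite Γ(X, A.1) (J.ideal A) := Module.Finite.iff_fg.2 (hfg A)
      refine Module.Finite.equiv (LinearEquiv.ofBijective φ ⟨fun a b hab => ?_, fun y => ?_⟩).symm
      · exact H29Blow.idealSect_injective J A.1 (congrArg Subtype.val hab)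
      · obtain ⟨m, hm⟩ := (H29Blow.mem_ideal_iff_exists_idealSect J A.2 _).1 y.2
        exact ⟨m, Subtype.ext hm⟩
  have hgg := h M (ClSub.idealModι J) (equalizer.ι_mono (f := ClSub.toSubscheme J) (g := 0)) hqc hft
  obtain ⟨m, hm⟩ := (H29Blow.mem_ideal_iff_exists_idealSect J hU 1).1 h1J
  have hm' : (ClSub.idealModι J).app U m = H11Ample.one U := hm
  obtain ⟨g, hg⟩ := H11Aff.exists_mem_gen_app hgg (ClSub.idealModι J) hxU m
    (by rw [hm']; exact H11Ample.isGen_one U)
  let c : Γ(X, ⊤) := OmegaSh.idealSect J ⊤ g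
  have hgen : H11Ample.gen (Coh.structureModule X) ((ClSub.idealModι J).app ⊤ g) ⊓ ⊤ = X.basicOpen c := by
    refine H11Ample.gen_inf_eq_basicOpen (H11Ample.isGen_one ⊤) _ c ?_
    exact (H10Coh.mres_self _ _ _).trans (mul_one c).symm
  have hxc : x ∈ X.basicOpen c := hgen.le ⟨hg, trivial⟩
  have hcU : X.basicOpen c ≤ U := by
    intro y hy
    by_contra hyU
    obtain ⟨_, ⟨V, hV : IsAffineOpen V, rfl⟩, hyV, -⟩ :=
      X.isBasis_affineOpens.exists_subset_of_mem_open (Set.mem_univ y) isOpen_univ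
    have hcV : X.presheaf.map (homOfLE (le_top : V ≤ ⊤)).op c ∈ I.ideal ⟨V, hV⟩ := by
      refine hJI _ ((H29Blow.mem_ideal_iff_exists_idealSect J hV _).2
        ⟨M.presheaf.map (homOfLE (le_top : V ≤ ⊤)).op g, H29Blow.idealSect_res J _ g⟩)
    rw [Scheme.IdealSheafData.vanishingIdeal_ideal, PrimeSpectrum.mem_vanishingIdeal] at hcV
    have hyb : y ∈ X.basicOpen (X.presheaf.map (homOfLE (le_top : V ≤ ⊤)).op c) := by
      rw [Scheme.basicOpen_res]; exact ⟨hyV, hy⟩
    obtain ⟨p, hp⟩ := hV.range_fromSpec.ge hyV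
    have hpb : p ∈ hV.fromSpec ⁻¹ᵁ X.basicOpen (X.presheaf.map (homOfLE (le_top : V ≤ ⊤)).op c) := by
      exact Set.mem_preimage.2 (show hV.fromSpec p ∈ (X.basicOpen (X.presheaf.map (homOfLE (le_top : V ≤ ⊤)).op c) : Set X) from Eq.mpr (congrArg (fun q => q ∈ (X.basicOpen (X.presheaf.map (homOfLE (le_top : V ≤ ⊤)).op c) : Set X)) hp) hyb)
    rw [hV.fromSpec_preimage_basicOpen] at hpb
    exact hpb (hcV p (by show hV.fromSpec p ∈ (Z : Set X); rw [hp]; exact hyU))
  refine ⟨c, ?_, hxc⟩
  have hcb : X.basicOpen (X.presheaf.map (homOfLE (le_top : U ≤ ⊤)).op c) = X.basicOpen c := by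
    rw [Scheme.basicOpen_res]; exact inf_eq_right.2 hcU
  exact hcb ▸ hU.basicOpen _

end Groth.Agent.S4408
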