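import Groth.Statements.S4416
import Groth.Agent.S4415
import Groth.Agent.H11Proj.QProjCriterion
import Groth.Agent.H11Proj.ProjectiveProps

set_option autoImplicit false
set_option linter.style.haveILetI false
universe u
open CategoryTheory CategoryTheory.Limits AlgebraicGeometry
open EGA2

namespace Groth.Agent.S4416

/-- Let r : X → S be separated of finite type, and assume either S Noetherian, or S quasi-compact and
separated with X having finitely many irreducible components. Then r is proper if and only if there
are a scheme X' and a surjective morphism f : X' → X with f ≫ r projective. Moreover, when r is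
proper, f can be chosen so that in addition there is a dense open U of X with f⁻¹(U) dense in X'
over which f is an isomorphism, and with X' irreducible (resp. reduced) if X is. (The published
statement also remarks that f is then projective; that is not stated here.) -/
theorem result {X S : Scheme.{u}} (r : X ⟶ S) [IsSeparated r] [LocallyOfFiniteType r] [QuasiCompact r]
    (h : IsNoetherian S ∨ (CompactSpace S ∧ S.IsSeparated ∧ (irreducibleComponents X).Finite)) :
    (IsProper r ↔ ∃ (X' : Scheme.{u}) (f : X' ⟶ X), Surjective f ∧ RelProj.IsProjective (f ≫ r)) ∧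
    (IsProper r → ∃ (X' : Scheme.{u}) (f : X' ⟶ X), Surjective f ∧ RelProj.IsProjective (f ≫ r) ∧
        (∃ U : X.Opens, Dense (U : Set X) ∧ Dense ((f ⁻¹ᵁ U : X'.Opens) : Set X') ∧ IsIso (f ∣_ U)) ∧
        (IrreducibleSpace X → IrreducibleSpace X') ∧ (IsReduced X → IsReduced X')) := by
  haveI : CompactSpace S := by
    rcases h with h | h
    · haveI := h; infer_instance
    · exact h.1
  haveI : QuasiSeparatedSpace S := by
    rcases h with h | ⟨-, h, -⟩
    · haveI := h; infer_instance
    · haveI := h; infer_instance
  have main : IsProper r → ∃ (X' : Scheme.{u}) (f : X' ⟶ X), Surjective f ∧ RelProj.IsProjective (f ≫ r) ∧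
      (∃ U : X.Opens, Dense (U : Set X) ∧ Dense ((f ⁻¹ᵁ U : X'.Opens) : Set X') ∧ IsIso (f ∣_ U)) ∧
      (IrreducibleSpace X → IrreducibleSpace X') ∧ (IsReduced X → IsReduced X') := by
    intro hr
    obtain ⟨X', f, hq, hf, hsurj, ⟨U, hU, hiso⟩, hred, hirr, -⟩ := Groth.Agent.S4415.result r h
    haveI := Groth.Agent.H11Proj.isProper_of_isProjective hf
    haveI : IsProper r := hr
    refine ⟨X', f, hsurj, Groth.Agent.H11Proj.isProjective_of_isQuasiProjective_qcqs hq, ⟨U, ?_, hU, hiso⟩,
      hirr, hred⟩
    rw [dense_iff_closure_eq, Set.eq_univ_iff_forall]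
    intro x
    obtain ⟨x', rfl⟩ := f.surjective x
    exact map_mem_closure f.continuous (hU x') fun y hy => hy
  refine ⟨⟨fun hr => ?_, fun ⟨X', f, hs, hp⟩ => ?_⟩, main⟩
  · obtain ⟨X', f, h1, h2, -⟩ := main hr
    exact ⟨X', f, h1, h2⟩
  · haveI := hs
    haveI := Groth.Agent.H11Proj.isProper_of_isProjective hp
    haveI : UniversallyClosed r := UniversallyClosed.of_comp_surjective f r
    exact ⟨⟩

end Groth.Agent.S4416
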