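import Groth.Statements.S4417
import Groth.Agent.H11QMap.CoprodAmple

set_option autoImplicit false
universe u
open CategoryTheory CategoryTheory.Limits AlgebraicGeometry
open EGA2

namespace Groth.Agent.S4417

/-- Let f : X → Y and f' : X' → Y be quasi-projective morphisms (of finite type, each admitting a
relatively ample module). Then the morphism X ⨿ X' → Y restricting to f and f' on the two summands
is quasi-projective. -/
theorem result {X X' Y : Scheme.{u}} (f : X ⟶ Y) (f' : X' ⟶ Y)
    (hf : RelProj.IsQuasiProjective f) (hf' : RelProj.IsQuasiProjective f') :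
    RelProj.IsQuasiProjective (coprod.desc f f') := by
  obtain ⟨hlf, hqc, L, hL⟩ := hf
  obtain ⟨hlf', hqc', L', hL'⟩ := hf'
  obtain ⟨M, ⟨e⟩, ⟨e'⟩⟩ := Groth.Agent.H11QMap.exists_glue_coprod L L'
  refine ⟨?_, Groth.Agent.H11QMap.quasiCompact_coprod_desc f f', M,
    (Groth.Agent.H11QMap.isRelAmple_coprod_iff f f' M).2
      ⟨Groth.Agent.H11QMap.isRelAmple_of_iso e.symm hL, Groth.Agent.H11QMap.isRelAmple_of_iso e'.symm hL'⟩⟩
  refine IsZariskiLocalAtSource.of_openCover (P := @LocallyOfFiniteType) (coprodOpenCover.{_, 0} X X') ?_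
  rintro (x | x)
  · show LocallyOfFiniteType ((coprod.inl : X ⟶ X ⨿ X') ≫ coprod.desc f f')
    rw [coprod.inl_desc]; exact hlf
  · show LocallyOfFiniteType ((coprod.inr : X' ⟶ X ⨿ X') ≫ coprod.desc f f')
    rw [coprod.inr_desc]; exact hlf'

end Groth.Agent.S4417
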