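import Groth.Statements.S4422
import Groth.Agent.H11Proj.ProjProd
import Groth.Agent.S4421

set_option autoImplicit false
universe u
open CategoryTheory CategoryTheory.Limits AlgebraicGeometry
open EGA2

namespace Groth.Agent.S4422

/-- Let a : Y → S and a' : Y' → S be morphisms and f : X → Y, f' : X' → Y' projective morphisms (so X
and X' are S-schemes through f ≫ a and f' ≫ a'). Then the product f ×_S f' : X ×_S X' → Y ×_S Y' is
projective. -/
theorem result {X X' Y Y' S : Scheme.{u}} (a : Y ⟶ S) (a' : Y' ⟶ S) (f : X ⟶ Y) (f' : X' ⟶ Y')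
    (hf : RelProj.IsProjective f) (hf' : RelProj.IsProjective f') :
    RelProj.IsProjective (pullback.map (f ≫ a) (f' ≫ a') a a' f f' (𝟙 S) (Category.comp_id (f ≫ a)) (Category.comp_id (f' ≫ a'))) := by
  let m := pullback.map (f ≫ a) (f' ≫ a') a a' f f' (𝟙 S) (Category.comp_id (f ≫ a)) (Category.comp_id (f' ≫ a'))
  let t₁ := pullback.fst a a'
  let t₂ := pullback.snd a a'
  let q₁ := pullback.snd f t₁
  let q₂ := pullback.snd f' t₂
  have h₁ : RelProj.IsProjective q₁ := Groth.Agent.S4421.result f hf t₁
  have h₂ : RelProj.IsProjective q₂ := Groth.Agent.S4421.result f' hf' t₂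
  have hm₁ : m ≫ t₁ = pullback.fst (f ≫ a) (f' ≫ a') ≫ f := pullback.lift_fst _ _ _
  have hm₂ : m ≫ t₂ = pullback.snd (f ≫ a) (f' ≫ a') ≫ f' := pullback.lift_snd _ _ _
  let α := pullback.lift (pullback.fst (f ≫ a) (f' ≫ a')) m hm₁.symm
  let β := pullback.lift (pullback.snd (f ≫ a) (f' ≫ a')) m hm₂.symm
  let h : pullback (f ≫ a) (f' ≫ a') ⟶ pullback q₁ q₂ :=
    pullback.lift α β ((pullback.lift_snd _ _ _).trans (pullback.lift_snd _ _ _).symm)
  have hc : m ≫ 𝟙 _ = h ≫ pullback.fst q₁ q₂ ≫ q₁ := by
    rw [Category.comp_id, pullback.lift_fst_assoc, pullback.lift_snd]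
  have hP := Groth.Agent.H11Proj.isProjective_pullback_fst_comp h₁ h₂
  refine Groth.Agent.H11Proj.isProjective_of_isClosedImmersion_lift (h := h) hc hP ?_
  have hw : (pullback.fst q₁ q₂ ≫ pullback.fst f t₁) ≫ f ≫ a = (pullback.snd q₁ q₂ ≫ pullback.fst f' t₂) ≫ f' ≫ a' := by
    simp only [Category.assoc]
    rw [pullback.condition_assoc, pullback.condition_assoc (f := f') (g := t₂),
      show pullback.fst q₁ q₂ ≫ pullback.snd f t₁ ≫ t₁ ≫ a = (pullback.fst q₁ q₂ ≫ q₁) ≫ t₁ ≫ a from
        (Category.assoc _ _ _).symm,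
      show pullback.snd q₁ q₂ ≫ pullback.snd f' t₂ ≫ t₂ ≫ a' = (pullback.snd q₁ q₂ ≫ q₂) ≫ t₂ ≫ a' from
        (Category.assoc _ _ _).symm, pullback.condition (f := q₁) (g := q₂)]
    exact congrArg _ pullback.condition
  let inv : pullback q₁ q₂ ⟶ pullback (f ≫ a) (f' ≫ a') := pullback.lift _ _ hw
  have hinvm : inv ≫ m = pullback.fst q₁ q₂ ≫ q₁ := by
    refine pullback.hom_ext ?_ ?_
    · rw [Category.assoc, show m ≫ pullback.fst a a' = _ from hm₁, pullback.lift_fst_assoc, Category.assoc,
        Category.assoc, pullback.condition]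
    · rw [Category.assoc, show m ≫ pullback.snd a a' = _ from hm₂, pullback.lift_snd_assoc,
        pullback.condition (f := q₁) (g := q₂), Category.assoc, Category.assoc, pullback.condition]
  haveI : IsIso h := by
    refine ⟨inv, ?_, ?_⟩
    · refine pullback.hom_ext ?_ ?_
      · rw [Category.assoc, Category.id_comp, pullback.lift_fst, pullback.lift_fst_assoc, pullback.lift_fst]
      · rw [Category.assoc, Category.id_comp, pullback.lift_snd, pullback.lift_snd_assoc, pullback.lift_fst]
    · refine pullback.hom_ext ?_ ?_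
      · refine pullback.hom_ext ?_ ?_
        · rw [Category.assoc, Category.assoc, Category.id_comp, pullback.lift_fst_assoc, pullback.lift_fst,
            pullback.lift_fst]
        · rw [Category.assoc, Category.assoc, Category.id_comp, pullback.lift_fst_assoc, pullback.lift_snd, hinvm]
      · refine pullback.hom_ext ?_ ?_
        · rw [Category.assoc, Category.assoc, Category.id_comp, pullback.lift_snd_assoc, pullback.lift_fst,
            pullback.lift_snd]
        · rw [Category.assoc, Category.assoc, Category.id_comp, pullback.lift_snd_assoc, pullback.lift_snd, hinvm]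
          exact pullback.condition
  haveI : IsSeparated (pullback.fst (pullback.fst q₁ q₂ ≫ q₁) (𝟙 (pullback a a'))) := inferInstance
  haveI : IsClosedImmersion (pullback.lift h m hc.symm ≫ pullback.fst (pullback.fst q₁ q₂ ≫ q₁) (𝟙 _)) := by
    rw [pullback.lift_fst]; infer_instance
  exact IsClosedImmersion.of_comp _ (pullback.fst (pullback.fst q₁ q₂ ≫ q₁) (𝟙 (pullback a a')))

end Groth.Agent.S4422
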