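import Groth.Statements.S4423
import Groth.Agent.H11Proj.ProjTransfer

set_option autoImplicit false
universe u
open CategoryTheory CategoryTheory.Limits AlgebraicGeometry
open EGA2

namespace Groth.Agent.S4423

/-- Let f : X → Y and g : Y → Z be morphisms with f ≫ g projective and g separated. Then f is
projective. -/
theorem result {X Y Z : Scheme.{u}} (f : X ⟶ Y) (g : Y ⟶ Z) [IsSeparated g]
    (h : RelProj.IsProjective (f ≫ g)) : RelProj.IsProjective f := by
  refine Groth.Agent.H11Proj.isProjective_of_isClosedImmersion_lift (h := 𝟙 X) (g := g)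
    (Category.id_comp (f ≫ g)).symm h ?_
  haveI : IsClosedImmersion (pullback.lift (𝟙 X) f (Category.id_comp (f ≫ g)) ≫ pullback.fst (f ≫ g) g) := by
    rw [pullback.lift_fst]; infer_instance
  exact IsClosedImmersion.of_comp _ (pullback.fst (f ≫ g) g)

end Groth.Agent.S4423
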