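import Groth.Statements.S4425
import Groth.Agent.S12486
import Groth.Agent.H11QMap.OpenInRelProj
import Groth.Agent.H11Ample.RelPullback

set_option autoImplicit false
universe u
open CategoryTheory CategoryTheory.Limits AlgebraicGeometry
open EGA2

namespace Groth.Agent.S4425

/-- (a) ⇔ (c): let Y be a quasi-compact separated scheme and f : X → Y a morphism. Then f is
quasi-projective if and only if f is of finite type and there are a quasi-coherent graded
O_Y-algebra 𝒮, generated by its degree-one part with that part of finite type, a relative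
homogeneous spectrum p : P → Y of 𝒮 (given with its charts over affine opens), and an open immersion
j : X → P with dense image such that j ≫ p = f. (The published statement also allows Y whose
underlying space is Noetherian, and adds a third equivalent condition, an immersion into some P(E);
this row assumes Y quasi-compact and separated and states only the equivalence of the other two.) -/
theorem result {X Y : Scheme.{u}} [CompactSpace Y] [Y.IsSeparated] (f : X ⟶ Y) :
    RelProj.IsQuasiProjective f ↔
      (LocallyOfFiniteType f ∧ QuasiCompact f ∧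
        ∃ (𝒮 : RelProj.QCGrAlg Y) (P : Scheme.{u}) (p : P ⟶ Y)
          (chart : ∀ (U : Y.Opens) (hU : IsAffineOpen U), ((p ⁻¹ᵁ U : P.Opens) : Scheme.{u}) ≅ Proj (𝒮.deg U hU))
          (j : X ⟶ P), 𝒮.IsGenDegOne ∧ 𝒮.IsFTDeg 1 ∧ RelProj.IsRelProj 𝒮 p chart ∧
            IsOpenImmersion j ∧ Dense (Set.range j.base) ∧ j ≫ p = f) := by
  constructor
  · rintro ⟨h1, h2, L, hL⟩
    obtain ⟨d, hd⟩ := H17.OpenInProj.exists_isRelVeryAmple_pow hL
    haveI := h1
    haveI := h2
    obtain ⟨E, 𝒯, jE, P, p, chart, O1, lam, r, hE, hEf, hT, hP, hO, hr, hrq, -⟩ :=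
      Groth.Agent.S12486.result (Or.inl ⟨inferInstance, inferInstance⟩) f (CohB1.tensorPow L d)
        (H11Ample.isInvertible_tensorPow (H11Ample.isInvertible_of_isRelAmple hL) d) hd
    have hgen : 𝒯.IsGenDegOne := H11Sym.isGenDegOne hE hT
    have hft : 𝒯.IsFTDeg 1 := H11Sym.isFTDeg_one hE hEf hT
    haveI : IsProper p := H11Proj.isProper_relProj hgen hft hP
    haveI : QuasiCompact (r ≫ p) := by rw [hrq]; infer_instance
    haveI : QuasiCompact r := QuasiCompact.of_comp r p
    obtain ⟨ℬ, Q, q', chartB, O1', lam', i, g1, g2, g3, -, g5, g6, g7, -⟩ :=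
      H11QMap.exists_open_dense_of_immersion hP hgen hft r hO
    exact ⟨h1, h2, ℬ, Q, q', chartB, i, g1, g2, g3, g5, g6, g7.trans hrq⟩
  · rintro ⟨h1, h2, 𝒮, P, p, chart, j, hgen, hft, hP, hj, -, hjf⟩
    haveI : IsProper p := H11Proj.isProper_relProj hgen hft hP
    haveI : QuasiCompact (j ≫ p) := hjf.symm ▸ h2
    haveI : QuasiCompact j := QuasiCompact.of_comp j p
    obtain ⟨O1, lam, hO⟩ := H11Tilde.exists_isRelTwist hP 1
    refine ⟨h1, h2, _, hjf ▸ H11Ample.isRelAmple_pullback_of_isQuasiAffine
      (H11Ample.isQuasiAffineHom_of_isEmbedding j hj.base_open.isEmbedding)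
      (H11Proj.isRelAmple_twist_one hgen hft hP hO)⟩

end Groth.Agent.S4425
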