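import Groth.Statements.S4428
import Groth.Agent.H11QMap.ProdRelAmple

set_option autoImplicit false
universe u
open CategoryTheory CategoryTheory.Limits AlgebraicGeometry
open EGA2

namespace Groth.Agent.S4428

/-- Let a₁ : Y₁ → S and a₂ : Y₂ → S be morphisms, f₁ : X₁ → Y₁ and f₂ : X₂ → Y₂ quasi-compact morphisms
(so X₁, X₂ are S-schemes through f_i ≫ a_i), and L₁, L₂ modules on X₁, X₂ ample relative to f₁, f₂.
Then the external tensor product p₁^*(L₁) ⊗ p₂^*(L₂) on X₁ ×_S X₂ (p₁, p₂ the projections) is ample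
relative to the product morphism f₁ ×_S f₂ : X₁ ×_S X₂ → Y₁ ×_S Y₂. -/
theorem result {X₁ X₂ Y₁ Y₂ S : Scheme.{u}} (a₁ : Y₁ ⟶ S) (a₂ : Y₂ ⟶ S)
    (f₁ : X₁ ⟶ Y₁) (f₂ : X₂ ⟶ Y₂) [QuasiCompact f₁] [QuasiCompact f₂] (L₁ : X₁.Modules) (L₂ : X₂.Modules)
    (hL₁ : RelAmple.IsRelAmple f₁ L₁) (hL₂ : RelAmple.IsRelAmple f₂ L₂) :
    RelAmple.IsRelAmple
      (pullback.map (f₁ ≫ a₁) (f₂ ≫ a₂) a₁ a₂ f₁ f₂ (𝟙 S) (Category.comp_id (f₁ ≫ a₁)) (Category.comp_id (f₂ ≫ a₂)))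
      (CohB1.tensorMod ((Scheme.Modules.pullback (pullback.fst (f₁ ≫ a₁) (f₂ ≫ a₂))).obj L₁)
        ((Scheme.Modules.pullback (pullback.snd (f₁ ≫ a₁) (f₂ ≫ a₂))).obj L₂)) := by
  exact Groth.Agent.H11QMap.isRelAmple_externalTensor a₁ a₂ f₁ f₂ hL₁ hL₂

end Groth.Agent.S4428
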