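import Groth.Statements.S4429
import Mathlib

set_option autoImplicit false
universe u
open EGA2

namespace Groth.Agent.S4429

/-- For an integral domain A with fraction field K, a finitely generated A-module E and an endomorphism
u of E, the coefficients of the characteristic polynomial of u ⊗ 1 acting on the K-vector space K
⊗_A E (the elementary symmetric functions of u, among them its trace and determinant) are integral
over A. -/
theorem result (A : Type u) [CommRing A] [IsDomain A] (K : Type u) [Field K]
    [Algebra A K] [IsFractionRing A K] (E : Type u) [AddCommGroup E] [Module A E] [Module.Finite A E]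
    (u : E →ₗ[A] E) (i : ℕ) :
    IsIntegral A (((u.baseChange K).charpoly).coeff i) := by
  obtain ⟨p, hp, hpu⟩ := LinearMap.exists_monic_and_aeval_eq_zero A u
  set f := u.baseChange K with hf
  have hpf : Polynomial.aeval f p = 0 := by
    have := Polynomial.aeval_algHom_apply (Module.End.baseChangeHom A K E) u p
    rw [hpu, map_zero] at this
    exact this
  let L := AlgebraicClosure K
  set g := LinearMap.baseChange L f with hg
  have hpg : Polynomial.aeval g p = 0 := by
    have h : Polynomial.aeval f (p.map (algebraMap A K)) = 0 := by
      rw [Polynomial.aeval_map_algebraMap, hpf]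
    have h2 := Polynomial.aeval_algHom_apply (Module.End.baseChangeHom K L (TensorProduct A K E)) f
      (p.map (algebraMap A K))
    rw [h, map_zero, Polynomial.aeval_map_algebraMap] at h2
    exact h2
  have hroot : ∀ μ ∈ g.charpoly.roots, IsIntegral A μ := by
    intro μ hμ
    have hev : Module.End.HasEigenvalue g μ :=
      (Module.End.hasEigenvalue_iff_isRoot_charpoly g μ).2 (Polynomial.isRoot_of_mem_roots hμ)
    obtain ⟨x, hx⟩ := hev.exists_hasEigenvector
    refine ⟨p, hp, ?_⟩
    have h := Module.End.aeval_apply_of_hasEigenvector (p := p.map (algebraMap A L)) hx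
    rw [Polynomial.aeval_map_algebraMap, hpg, LinearMap.zero_apply, Polynomial.eval_map] at h
    exact (smul_eq_zero.1 h.symm).resolve_right hx.2
  have hlift : g.charpoly ∈ Polynomial.lifts (algebraMap (integralClosure A L) L) := by
    rw [Polynomial.Splits.eq_prod_roots_of_monic (IsAlgClosed.splits _) g.charpoly_monic]
    refine Subsemiring.multiset_prod_mem _ _ fun q hq => ?_
    obtain ⟨μ, hμ, rfl⟩ := Multiset.mem_map.1 hq
    exact ⟨Polynomial.X - Polynomial.C ⟨μ, hroot μ hμ⟩, by simp⟩
  obtain ⟨c, hc⟩ := (Polynomial.lifts_iff_coeff_lifts _).1 hlift i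
  rw [hg, LinearMap.charpoly_baseChange, Polynomial.coeff_map] at hc
  refine (isIntegral_algHom_iff (IsScalarTower.toAlgHom A K L) (algebraMap K L).injective).1 ?_
  exact hc ▸ c.2

end Groth.Agent.S4429
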