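import Groth.Statements.S4430
import Mathlib
import Groth.Agent.S4429

set_option autoImplicit false
universe u
open EGA2

namespace Groth.Agent.S4430

/-- Let A be an integral domain with fraction field K, E a finitely generated A-module and u an
endomorphism of E whose characteristic-polynomial coefficients (those of u ⊗ 1 on K ⊗_A E) all lie
in A. If u is an automorphism of E, then its determinant, as an element of A, is invertible in A. -/
theorem result (A : Type u) [CommRing A] [IsDomain A] (K : Type u) [Field K]
    [Algebra A K] [IsFractionRing A K] (E : Type u) [AddCommGroup E] [Module A E] [Module.Finite A E]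
    (u : E →ₗ[A] E) (hcoeff : ∀ i : ℕ, ((u.baseChange K).charpoly).coeff i ∈ (algebraMap A K).range)
    (a : A) (ha : algebraMap A K a = LinearMap.det (u.baseChange K)) (hu : Function.Bijective u) :
    IsUnit a := by
  let e : E ≃ₗ[A] E := LinearEquiv.ofBijective u hu
  let v : E →ₗ[A] E := e.symm.toLinearMap
  set d := LinearMap.det (v.baseChange K) with hd
  have hdint : IsIntegral A d := by
    rw [hd, LinearMap.det_eq_sign_charpoly_coeff]
    exact ((isIntegral_one.neg).pow _).mul (Groth.Agent.S4429.result A K E v 0)
  have hmul : algebraMap A K a * d = 1 := by
    rw [ha, hd, ← map_mul, Module.End.mul_eq_comp, ← LinearMap.baseChange_comp]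
    have : u.comp v = LinearMap.id := LinearMap.ext fun x => e.apply_symm_apply x
    rw [this, LinearMap.baseChange_id, ← Module.End.one_eq_id, map_one]
  have hu' : IsUnit (algebraMap A (integralClosure A K) a) :=
    IsUnit.of_mul_eq_one ⟨d, hdint⟩ (Subtype.ext hmul)
  have : FaithfulSMul A (integralClosure A K) := (faithfulSMul_iff_algebraMap_injective _ _).2
    fun x y h => IsFractionRing.injective A K (congrArg Subtype.val h)
  exact (isUnit_map_iff (algebraMap A (integralClosure A K)) a).1 hu'

end Groth.Agent.S4430
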