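import Groth.Statements.S4431
import Mathlib

set_option autoImplicit false
universe u
open EGA2

open scoped TensorProduct

namespace Groth.Agent.S4431

/-- Let A be an integral domain with fraction field K, E a finitely generated torsion-free A-module and
u an endomorphism of E whose characteristic-polynomial coefficients (those of u ⊗ 1 on K ⊗_A E) all
lie in A. If the determinant of u is the image of a unit of A, then u is an automorphism of E. -/
theorem result (A : Type u) [CommRing A] [IsDomain A] (K : Type u) [Field K]
    [Algebra A K] [IsFractionRing A K] (E : Type u) [AddCommGroup E] [Module A E] [Module.Finite A E]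
    [Module.IsTorsionFree A E]
    (u : E →ₗ[A] E) (hcoeff : ∀ i : ℕ, ((u.baseChange K).charpoly).coeff i ∈ (algebraMap A K).range)
    (a : A) (ha : algebraMap A K a = LinearMap.det (u.baseChange K)) (hunit : IsUnit a) :
    Function.Bijective u := by
  set f := u.baseChange K with hf
  have hlift : f.charpoly ∈ Polynomial.lifts (algebraMap A K) :=
    (Polynomial.lifts_iff_coeff_lifts _).2 fun i => RingHom.mem_range.1 (hcoeff i)
  obtain ⟨χ, hχ⟩ := hlift
  have hinj : Function.Injective (TensorProduct.mk A K E 1) := by
    refine (injective_iff_map_eq_zero _).2 fun x hx => ?_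
    obtain ⟨s, hs⟩ := (IsLocalizedModule.eq_zero_iff (nonZeroDivisors A) (TensorProduct.mk A K E 1)).1 hx
    have hs0 : (s : A) ≠ 0 := nonZeroDivisors.ne_zero s.2
    exact (smul_eq_zero.1 hs).resolve_left hs0
  have hχu : Polynomial.aeval u χ = 0 := by
    have h := Polynomial.aeval_algHom_apply (Module.End.baseChangeHom A K E) u χ
    have h0 : Polynomial.aeval f χ = 0 := by
      rw [← Polynomial.aeval_map_algebraMap K f χ, show χ.map (algebraMap A K) = f.charpoly from hχ,
        LinearMap.aeval_self_charpoly]
    refine LinearMap.ext fun x => hinj ?_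
    have h2 : (Polynomial.aeval u χ).baseChange K = 0 := h.symm.trans h0
    rw [LinearMap.zero_apply, map_zero]
    exact LinearMap.congr_fun h2 ((1 : K) ⊗ₜ[A] x)
  have hc : IsUnit (χ.coeff 0) := by
    have h := LinearMap.det_eq_sign_charpoly_coeff f
    rw [← ha, show f.charpoly = χ.map (algebraMap A K) from hχ.symm, Polynomial.coeff_map] at h
    have h' : a = (-1) ^ Module.finrank K (TensorProduct A K E) * χ.coeff 0 :=
      IsFractionRing.injective A K (by rw [h, map_mul, map_pow, map_neg, map_one])
    rw [h'] at hunit
    exact isUnit_of_mul_isUnit_right hunit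
  have hUnit : IsUnit u := by
    have h := congrArg (Polynomial.aeval u) (Polynomial.X_mul_divX_add χ)
    rw [hχu, map_add, map_mul, Polynomial.aeval_X, Polynomial.aeval_C] at h
    have hmul : u * Polynomial.aeval u χ.divX = -algebraMap A (Module.End A E) (χ.coeff 0) :=
      eq_neg_of_add_eq_zero_left h
    have hcomm : Commute u (Polynomial.aeval u χ.divX) := by
      have := Polynomial.X_mul (p := χ.divX)
      have h' := congrArg (Polynomial.aeval u) this
      rwa [map_mul, map_mul, Polynomial.aeval_X] at h'
    have hu1 : IsUnit (u * Polynomial.aeval u χ.divX) := by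
      rw [hmul]; exact (hc.map _).neg
    exact (hcomm.isUnit_mul_iff.1 hu1).1
  exact (Module.End.isUnit_iff u).1 hUnit

end Groth.Agent.S4431
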