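import Groth.Statements.S4432
import Groth.Agent.H11Norm.CharpolyCoeff

set_option autoImplicit false
universe u
open EGA2

namespace Groth.Agent.S4432

/-- Let A be a reduced Noetherian ring, K its total ring of fractions, and E a finitely generated
A-module with K ⊗_A E free over K. The A-subalgebra of K generated by the coefficients of the
characteristic polynomials of v ⊗ 1 (v running through all endomorphisms of E), i.e. by all
elementary symmetric functions of all endomorphisms of E, is a finitely generated A-module. -/
theorem result (A : Type u) [CommRing A] [IsNoetherianRing A] [IsReduced A]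
    (E : Type u) [AddCommGroup E] [Module A E] [Module.Finite A E]
    [Module.Free (FractionRing A) (TensorProduct A (FractionRing A) E)] :
    (Algebra.adjoin A {c : FractionRing A | ∃ (v : E →ₗ[A] E) (j : ℕ),
        c = ((v.baseChange (FractionRing A)).charpoly).coeff j}).toSubmodule.FG := by
  classical
  let K := FractionRing A
  let V := TensorProduct A K E
  rcases subsingleton_or_nontrivial K with hK | hK
  · refine IsNoetherian.noetherian (R := A) (M := K) _
  haveI : Module.Finite K V := Module.Finite.base_change A K E
  let r := Module.finrank K V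
  let b : Module.Basis (Fin r) K V := Module.finBasis K V
  obtain ⟨n, gen, hgen⟩ := Module.Finite.exists_fin (R := A) (M := E →ₗ[A] E)
  let τ := ULift.{u} (Fin n)
  let M : τ → Matrix (Fin r) (Fin r) K := fun t => LinearMap.toMatrix b b ((gen t.down).baseChange K)
  let Φ := H11Norm.genCharpoly M
  -- the coefficients are integral
  have hint : ∀ (j : ℕ) (d : τ →₀ ℕ), _root_.IsIntegral A (MvPolynomial.coeff d (Φ.coeff j)) := by
    intro j d
    obtain ⟨m, e, he⟩ := Module.Finite.exists_fin (R := A) (M := E)
    set c := MvPolynomial.coeff d (Φ.coeff j)
    haveI : IsNoetherianRing K := IsLocalization.isNoetherianRing (nonZeroDivisors A) _ inferInstance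
    have hfin : (minimalPrimes K).Finite := minimalPrimes.finite_of_isNoetherianRing K
    have hq : ∀ q : minimalPrimes K, ∃ P : Polynomial A, P.Monic ∧ Polynomial.aeval c P ∈ q.1 := by
      intro q
      haveI : q.1.IsPrime := Ideal.minimalPrimes_isPrime q.2
      let L := q.1.ResidueField
      let π : K →+* L := algebraMap K L
      have key : _root_.IsIntegral A (π c) := by
        refine H11Norm.isIntegral_of_forall_valuationSubring fun O hO => ?_
        have hc : π c = MvPolynomial.coeff d ((H11Norm.genCharpoly fun t => (M t).map π).coeff j) := by
          rw [H11Norm.genCharpoly_map, Polynomial.coeff_map, MvPolynomial.coeff_map]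
        rw [hc]
        let g : ULift.{u} (Fin m) → (Fin r → L) := fun i l => π (b.repr ((1 : K) ⊗ₜ[A] e i.down) l)
        have hspanA : ∀ y : E, (fun l => π (b.repr ((1 : K) ⊗ₜ[A] y) l)) ∈ Submodule.span O (Set.range g) := by
          intro y
          have hy : y ∈ Submodule.span A (Set.range e) := he ▸ Submodule.mem_top
          induction hy using Submodule.span_induction with
          | mem x hx => obtain ⟨i, rfl⟩ := hx; exact Submodule.subset_span ⟨⟨i⟩, rfl⟩
          | zero =>
            convert Submodule.zero_mem _ using 1
            funext l; simp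
          | add x y _ _ hx hy =>
            convert Submodule.add_mem _ hx hy using 1
            funext l; simp [TensorProduct.tmul_add]
          | smul a x _ hx =>
            convert Submodule.smul_mem _ (⟨_, hO a⟩ : O) hx using 1
            funext l
            show π (b.repr ((1 : K) ⊗ₜ[A] (a • x)) l) = algebraMap A L a * π (b.repr ((1 : K) ⊗ₜ[A] x) l)
            rw [TensorProduct.tmul_smul, ← algebraMap_smul K a ((1 : K) ⊗ₜ[A] x), map_smul, Finsupp.smul_apply,
              smul_eq_mul, map_mul]
            rfl
        refine H11Norm.coeff_genCharpoly_mem O g ?_ _ (fun t i => ?_) j d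
        · refine eq_top_iff.2 fun v _ => ?_
          have hz : ∀ y : V, (fun l => π (b.repr y l)) ∈ Submodule.span L (Set.range g) := by
            intro y
            induction y using TensorProduct.induction_on with
            | zero =>
              convert Submodule.zero_mem _ using 1
              funext l; simp
            | tmul a x =>
              have h1 := Submodule.span_subset_span O L _ (hspanA x)
              convert Submodule.smul_mem _ (π a) h1 using 1
              funext l
              show π (b.repr (a ⊗ₜ[A] x) l) = π a * π (b.repr ((1 : K) ⊗ₜ[A] x) l)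
              rw [← map_mul, ← smul_eq_mul (a := a), ← Finsupp.smul_apply, ← map_smul, TensorProduct.smul_tmul', smul_eq_mul, mul_one]
            | add x y hx hy =>
              convert Submodule.add_mem _ hx hy using 1
              funext l; simp
          rw [← (Pi.basisFun L (Fin r)).sum_repr v]
          refine Submodule.sum_mem _ fun l _ => Submodule.smul_mem _ _ ?_
          convert hz (b l) using 1
          funext l'
          rw [Pi.basisFun_apply, b.repr_self]
          by_cases h : l' = l
          · subst h; simp
          · simp [Finsupp.single_eq_of_ne, h, Ne.symm h]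
        · have h2 : Matrix.mulVec ((M t).map π) (g i) = fun l => π (b.repr ((1 : K) ⊗ₜ[A] gen t.down (e i.down)) l) := by
            funext l
            have h3 := congrFun (LinearMap.toMatrix_mulVec_repr b b ((gen t.down).baseChange K)
              ((1 : K) ⊗ₜ[A] e i.down)) l
            rw [LinearMap.baseChange_tmul] at h3
            rw [← h3, RingHom.map_mulVec]
            rfl
          rw [h2]
          exact hspanA _
      obtain ⟨P, hP, hPc⟩ := key
      refine ⟨P, hP, Ideal.algebraMap_residueField_eq_zero.1 ?_⟩
      rw [← hPc, Polynomial.aeval_def, Polynomial.hom_eval₂]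
      rfl
    choose P hP hPc using hq
    haveI : Fintype (minimalPrimes K) := hfin.fintype
    refine ⟨∏ q, P q, Polynomial.monic_prod_of_monic _ _ fun q _ => hP q, ?_⟩
    rw [← Polynomial.aeval_def, map_prod]
    have hmem : (∏ q, Polynomial.aeval c (P q)) ∈ sInf (minimalPrimes K) := by
      rw [Ideal.mem_sInf]
      intro I hI
      exact Ideal.mem_of_dvd _ (Finset.dvd_prod_of_mem _ (Finset.mem_univ ⟨I, hI⟩)) (hPc ⟨I, hI⟩)
    haveI : IsReduced K := isReduced_localizationPreserves (nonZeroDivisors A) _ inferInstance
    replace hmem : (∏ q, Polynomial.aeval c (P q)) ∈ (⊥ : Ideal K).radical :=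
      (Ideal.sInf_minimalPrimes (I := (⊥ : Ideal K))).le hmem
    rw [show (⊥ : Ideal K).radical = ⊥ from nilradical_eq_zero K] at hmem
    exact hmem
  -- finitely many of them generate
  let S : Set K := ⋃ j ∈ Finset.range (Φ.natDegree + 1),
    (fun d => MvPolynomial.coeff d (Φ.coeff j)) '' ((Φ.coeff j).support : Set (τ →₀ ℕ))
  have hSfin : S.Finite := Set.Finite.biUnion (Finset.finite_toSet _) fun j _ => (Finset.finite_toSet _).image _
  have hfg : (Algebra.adjoin A S).toSubmodule.FG := fg_adjoin_of_finite hSfin (by
    rintro _ hx
    simp only [S, Set.mem_iUnion] at hx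
    obtain ⟨j, -, d, -, rfl⟩ := hx
    exact hint j d)
  have hle : Algebra.adjoin A {c : K | ∃ (v : E →ₗ[A] E) (j : ℕ),
      c = ((v.baseChange K).charpoly).coeff j} ≤ Algebra.adjoin A S := by
    refine Algebra.adjoin_le ?_
    rintro _ ⟨v, j, rfl⟩
    obtain ⟨a, rfl⟩ : ∃ a : Fin n → A, ∑ i, a i • gen i = v :=
      Submodule.mem_span_range_iff_exists_fun A |>.1 (hgen ▸ Submodule.mem_top)
    let a' : τ → K := fun t => algebraMap A K (a t.down)
    have h1 : LinearMap.toMatrix b b ((∑ i, a i • gen i).baseChange K) = ∑ t, a' t • M t := by
      rw [show (∑ i, a i • gen i).baseChange K = ∑ i, algebraMap A K (a i) • (gen i).baseChange K by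
        rw [← LinearMap.baseChangeHom_apply, map_sum]
        refine Finset.sum_congr rfl fun i _ => ?_
        rw [map_smul, algebraMap_smul]
        rfl, map_sum]
      refine (Fintype.sum_equiv Equiv.ulift _ _ fun t => ?_).symm
      rw [map_smul]
      rfl
    have h2 : ((∑ i, a i • gen i).baseChange K).charpoly = Φ.map (MvPolynomial.eval a') := by
      rw [← LinearMap.charpoly_toMatrix _ b, h1, H11Norm.eval_genCharpoly]
    rw [h2, Polynomial.coeff_map, MvPolynomial.eval_eq]
    refine sum_mem fun d hd => mul_mem (Algebra.subset_adjoin ?_) (prod_mem fun t _ => pow_mem (Subalgebra.algebraMap_mem _ _) _)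
    simp only [S, Set.mem_iUnion]
    refine ⟨j, ?_, d, hd, rfl⟩
    rw [Finset.mem_range]
    by_contra hj
    rw [Polynomial.coeff_eq_zero_of_natDegree_lt (by omega)] at hd
    simp at hd
  haveI : IsNoetherian A (Algebra.adjoin A S).toSubmodule := isNoetherian_of_fg_of_noetherian _ hfg
  exact isNoetherian_submodule.1 this _ hle

end Groth.Agent.S4432
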