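import Groth.Statements.S4434
import Groth.Agent.H11Val.Dominating

set_option autoImplicit false
universe u
open EGA2

open Groth.Agent.H11Val
namespace Groth.Agent.S4434

/-- Let A be a Noetherian domain with field of fractions K and L a finitely generated field extension of
K. The integral closure of A in L is the intersection of the discrete valuation subrings of L (with
fraction field L) containing the image of A: an element of L is integral over A exactly when it
belongs to all of them. -/
theorem result (A : Type u) [CommRing A] [IsDomain A] [IsNoetherianRing A]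
    (K : Type u) [Field K] [Algebra A K] [IsFractionRing A K]
    (L : Type u) [Field L] [Algebra K L] [Algebra A L] [IsScalarTower A K L] (hfg : (⊤ : IntermediateField K L).FG) (x : L) :
    IsIntegral A x ↔ ∀ R : ValuationSubring L, IsDiscreteValuationRing R → (∀ a : A, algebraMap A L a ∈ R) → x ∈ R := by
  refine ⟨fun hx V _ hV => ?_, fun H => ?_⟩
  · letI : Algebra A V := ((algebraMap A L).codRestrict V.toSubring hV).toAlgebra
    haveI : IsScalarTower A V L := .of_algebraMap_eq fun _ => rfl
    obtain ⟨y, hy⟩ := (IsIntegrallyClosed.isIntegral_iff (R := V) (K := L)).1 (hx.tower_top (A := V))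
    exact hy ▸ y.2
  by_contra hx
  have hx0 : x ≠ 0 := by
    rintro rfl
    exact hx isIntegral_zero
  obtain ⟨S, hS⟩ := exists_finset_closure_eq_top A K L hfg
  let B : Subalgebra A L := Algebra.adjoin A {x⁻¹}
  have hBfg : B.FG := Subalgebra.fg_def.2 ⟨{x⁻¹}, Set.finite_singleton _, rfl⟩
  have : IsNoetherianRing B := isNoetherianRing_of_fg hBfg
  let z : B := ⟨x⁻¹, Algebra.self_mem_adjoin_singleton A _⟩
  have hz : ¬ IsUnit z := by
    intro hu
    obtain ⟨w, hw⟩ := hu.exists_right_inv
    have hw' : x⁻¹ * (w : L) = 1 := congrArg Subtype.val hw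
    have : (w : L) = x := by rw [← inv_inv x]; exact eq_inv_of_mul_eq_one_right hw'
    have hwB : (w : L) ∈ Algebra.adjoin A {x⁻¹} := w.2
    rw [this] at hwB
    exact hx (isIntegral_of_mem_adjoin_inv hwB)
  obtain ⟨P, hP, hzP⟩ := exists_max_ideal_of_mem_nonunits (mem_nonunits_iff.2 hz)
  have hS' : Subfield.closure (Set.range (algebraMap B L) ∪ S) = ⊤ := by
    refine eq_top_iff.2 (hS.ge.trans (Subfield.closure_mono (Set.union_subset_union_left _ ?_)))
    rintro _ ⟨a, rfl⟩
    exact ⟨algebraMap A B a, rfl⟩
  obtain ⟨V, hV, h⟩ := exists_dvr_center L (A := B) Subtype.val_injective S hS' P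
    (fun e => by
      rw [e, Ideal.mem_bot] at hzP
      exact inv_ne_zero hx0 (congrArg Subtype.val hzP))
  have hmem : x ∈ V := H V hV fun a => (h (algebraMap A B a)).1
  have h1 : V.valuation x ≤ 1 := (V.valuation_le_one_iff x).2 hmem
  have h2 : V.valuation x⁻¹ < 1 := (h z).2.1 hzP
  rw [map_inv₀] at h2
  exact (inv_lt_one₀ (zero_lt_iff.2 ((V.valuation).ne_zero_iff.2 hx0))).1 h2 |>.not_ge h1

end Groth.Agent.S4434
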