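import Groth.Statements.S4435

set_option autoImplicit false
universe u
open CategoryTheory CategoryTheory.Limits AlgebraicGeometry
open EGA2

namespace Groth.Agent.S4435

/-- Let X, S be integral schemes and f : X ⟶ S a dominant morphism. If f is integral, the field of
rational functions of X is algebraic over that of S; if f is finite, it is a finite extension. Here
the extension is given by the stalk map of f at the generic point of X, whose source is the local
ring of S at the generic point of S (f being dominant), i.e. the function field of S. -/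
theorem result {X S : Scheme.{u}} [IsIntegral X] [IsIntegral S]
    (f : X ⟶ S) [IsDominant f] :
    (IsIntegralHom f → (f.stalkMap (genericPoint X)).hom.IsIntegral) ∧
      (IsFinite f → (f.stalkMap (genericPoint X)).hom.Finite) := by
  classical
  have hS : f.base (genericPoint X) = genericPoint S := by
    refine IsGenericPoint.eq ?_ (genericPoint_spec S)
    rw [isGenericPoint_def, Set.eq_univ_iff_forall]
    intro y
    refine closure_minimal ?_ isClosed_closure (f.denseRange y)
    rintro _ ⟨x, rfl⟩
    exact (((genericPoint_spec X).specializes (y := x) trivial).map f.continuous).mem_closure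
  have hfield : IsField (S.presheaf.stalk (f.base (genericPoint X))) := by
    rw [hS]
    exact Field.toIsField S.functionField
  obtain ⟨_, ⟨(U : S.Opens), hU, rfl⟩, hξU, -⟩ :=
    S.isBasis_affineOpens.exists_subset_of_mem_open (Set.mem_univ (f.base (genericPoint X))) isOpen_univ
  replace hU : IsAffineOpen U := hU
  letI algAK := TopCat.Presheaf.algebra_section_stalk S.presheaf (⟨f.base (genericPoint X), hξU⟩ : U)
  letI := (f.stalkMap (genericPoint X)).hom.toAlgebra
  letI : Algebra Γ(S, U) Γ(X, f ⁻¹ᵁ U) := (f.app U).hom.toAlgebra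
  letI : Algebra Γ(X, f ⁻¹ᵁ U) (X.presheaf.stalk (genericPoint X)) :=
    (X.presheaf.germ (f ⁻¹ᵁ U) (genericPoint X) hξU).hom.toAlgebra
  letI : Algebra Γ(S, U) (X.presheaf.stalk (genericPoint X)) :=
    ((f.app U ≫ X.presheaf.germ (f ⁻¹ᵁ U) (genericPoint X) hξU)).hom.toAlgebra
  haveI : IsScalarTower Γ(S, U) Γ(X, f ⁻¹ᵁ U) (X.presheaf.stalk (genericPoint X)) := .of_algebraMap_eq fun _ => rfl
  haveI : IsScalarTower Γ(S, U) (S.presheaf.stalk (f.base (genericPoint X))) (X.presheaf.stalk (genericPoint X)) :=
    .of_algebraMap_eq fun a => (congr($(f.germ_stalkMap U (genericPoint X) hξU) a)).symm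
  letI := hfield.toField
  have key : IsIntegralHom f → IsAffineOpen (f ⁻¹ᵁ U) ∧
      ∀ b : Γ(X, f ⁻¹ᵁ U), IsIntegral (S.presheaf.stalk (f.base (genericPoint X)))
        (algebraMap _ (X.presheaf.stalk (genericPoint X)) b) := by
    intro hf
    refine ⟨hU.preimage f, fun b => ?_⟩
    have hb : IsIntegral Γ(S, U) b := hf.isIntegral_app U hU b
    exact (hb.map (IsScalarTower.toAlgHom Γ(S, U) Γ(X, f ⁻¹ᵁ U) (X.presheaf.stalk (genericPoint X)))).tower_top
  have gen : IsAffineOpen (f ⁻¹ᵁ U) → ∀ y : X.presheaf.stalk (genericPoint X), ∃ a b : Γ(X, f ⁻¹ᵁ U),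
      IsUnit (algebraMap _ (X.presheaf.stalk (genericPoint X)) b) ∧ y * algebraMap _ _ b = algebraMap _ _ a := by
    intro hV y
    have := hV.isLocalization_stalk ⟨genericPoint X, hξU⟩
    obtain ⟨⟨a, b⟩, h⟩ := IsLocalization.surj (hV.primeIdealOf ⟨genericPoint X, hξU⟩).asIdeal.primeCompl y
    exact ⟨a, b, IsLocalization.map_units (X.presheaf.stalk (genericPoint X)) b, h⟩
  have hint : IsIntegralHom f → ∀ y : X.functionField,
      IsIntegral (S.presheaf.stalk (f.base (genericPoint X))) (y : X.presheaf.stalk (genericPoint X)) := by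
    intro hf y
    obtain ⟨a, b, hb, h⟩ := gen (key hf).1 y
    letI : Field (X.presheaf.stalk (genericPoint X)) := inferInstanceAs (Field X.functionField)
    have ha := (key hf).2 a
    have hb' := (key hf).2 b
    rw [eq_div_of_mul_eq hb.ne_zero h, div_eq_mul_inv]
    exact ha.mul hb'.inv
  refine ⟨fun hf y => hint hf y, fun hf => ?_⟩
  letI : Field (X.presheaf.stalk (genericPoint X)) := inferInstanceAs (Field X.functionField)
  have hfin : Module.Finite Γ(S, U) Γ(X, f ⁻¹ᵁ U) := hf.finite_app U hU
  obtain ⟨T, hT⟩ := hfin.fg_top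
  let T' : Finset (X.presheaf.stalk (genericPoint X)) := T.image (algebraMap Γ(X, f ⁻¹ᵁ U) _)
  have hle : ∀ y, y ∈ Algebra.adjoin (S.presheaf.stalk (f.base (genericPoint X))) (T' : Set (X.presheaf.stalk (genericPoint X))) := by
    intro y
    set M := Algebra.adjoin (S.presheaf.stalk (f.base (genericPoint X))) (T' : Set (X.presheaf.stalk (genericPoint X))) with hM
    have hb : ∀ b, algebraMap Γ(X, f ⁻¹ᵁ U) (X.presheaf.stalk (genericPoint X)) b ∈ M := by
      intro b
      have : b ∈ Submodule.span Γ(S, U) (T : Set Γ(X, f ⁻¹ᵁ U)) := hT ▸ Submodule.mem_top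
      induction this using Submodule.span_induction with
      | mem x hx => exact Algebra.subset_adjoin (by simpa [T'] using ⟨x, hx, rfl⟩)
      | zero => rw [map_zero]; exact zero_mem _
      | add x y _ _ hx hy => rw [map_add]; exact add_mem hx hy
      | smul r x _ hx =>
        rw [Algebra.smul_def, map_mul, ← IsScalarTower.algebraMap_apply,
          IsScalarTower.algebraMap_apply Γ(S, U) (S.presheaf.stalk (f.base (genericPoint X)))]
        exact mul_mem (M.algebraMap_mem _) hx
    obtain ⟨a, b, hbu, h⟩ := gen (key inferInstance).1 y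
    rw [eq_div_of_mul_eq hbu.ne_zero h, div_eq_mul_inv]
    refine mul_mem (hb a) ?_
    have : Algebra.IsIntegral (S.presheaf.stalk (f.base (genericPoint X))) M :=
      ⟨fun z => (isIntegral_algHom_iff M.val Subtype.val_injective).1 (hint inferInstance _)⟩
    letI := (isField_of_isIntegral_of_isField' (S := M) (Field.toIsField (S.presheaf.stalk (f.base (genericPoint X))))).toField
    have hb0 : (⟨_, hb b⟩ : M) ≠ 0 := fun h0 => hbu.ne_zero (congrArg Subtype.val h0)
    have he : (((⟨_, hb b⟩ : M)⁻¹ : M) : X.presheaf.stalk (genericPoint X)) =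
        (algebraMap Γ(X, f ⁻¹ᵁ U) (X.presheaf.stalk (genericPoint X)) b)⁻¹ :=
      eq_inv_of_mul_eq_one_right (congrArg Subtype.val (mul_inv_cancel₀ hb0))
    exact he ▸ Subtype.prop _
  refine Module.Finite.of_fg_top ?_
  have e : (Algebra.adjoin (S.presheaf.stalk (f.base (genericPoint X)))
      (T' : Set (X.presheaf.stalk (genericPoint X)))).toSubmodule = ⊤ := eq_top_iff.2 fun y _ => hle y
  rw [← e]
  exact fg_adjoin_of_finite T'.finite_toSet fun z _ => hint inferInstance z

end Groth.Agent.S4435
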