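import Groth.Statements.S4439
import Groth.Agent.H11Val.Section

set_option autoImplicit false
universe u
open CategoryTheory CategoryTheory.Limits AlgebraicGeometry
open EGA2

open Groth.Agent.H11Val
namespace Groth.Agent.S4439

/-- Let A be a valuation ring with field of fractions K and f : X ⟶ Spec A a separated morphism whose
underlying map is closed. Then restriction to the generic point is a bijection from sections of f to
K-rational points of the generic fibre: every morphism Spec K ⟶ X over Spec A extends to exactly one
section of f. -/
theorem result (A : Type u) [CommRing A] [IsDomain A]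
    [ValuationRing A] (K : Type u) [Field K] [Algebra A K] [IsFractionRing A K] (X : Scheme.{u})
    (f : X ⟶ Spec (CommRingCat.of A)) [IsSeparated f] (hf : IsClosedMap f.base)
    (x : Spec (CommRingCat.of K) ⟶ X) (hx : x ≫ f = Spec.map (CommRingCat.ofHom (algebraMap A K))) :
    ∃! s : Spec (CommRingCat.of A) ⟶ X, s ≫ f = 𝟙 _ ∧ Spec.map (CommRingCat.ofHom (algebraMap A K)) ≫ s = x := by
  exact existsUnique_section f hf x hx

end Groth.Agent.S4439
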