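import Groth.Statements.S4443
import Groth.Agent.H11Curve.DimOne

set_option autoImplicit false
universe u
open CategoryTheory CategoryTheory.Limits AlgebraicGeometry
open EGA2

namespace Groth.Agent.S4443

/-- Let X be an irreducible algebraic curve over a field k (separated and of finite type over k,
nonempty, irreducible, local rings at closed points of dimension one). Then the generic point is the
only non-closed point of X, and the closed subsets of X distinct from X are exactly the finite sets
of closed points. (The published statement adds that these are also exactly the subsets of X that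
are not dense in X, an immediate consequence; this row does not state it.) -/
theorem result (k : Type u) [Field k] (X : Scheme.{u})
    [X.Over (Spec (CommRingCat.of k))] [LocallyOfFiniteType (X ↘ (Spec (CommRingCat.of k)))]
    [QuasiCompact (X ↘ (Spec (CommRingCat.of k)))] [IsSeparated (X ↘ (Spec (CommRingCat.of k)))]
    [Nonempty X] [IrreducibleSpace X] (hcurve : ∀ x : X, IsClosed ({x} : Set X) → ringKrullDim (X.presheaf.stalk x) = 1) :
    (∀ x : X, ¬ IsClosed ({x} : Set X) → x = genericPoint X) ∧
      ∀ F : Set X, IsClosed F → (F ≠ Set.univ ↔ (F.Finite ∧ ∀ x ∈ F, IsClosed ({x} : Set X))) := by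
  let p := X ↘ (Spec (CommRingCat.of k))
  haveI : CompactSpace X := QuasiCompact.compactSpace_of_compactSpace p
  haveI : IsLocallyNoetherian X := LocallyOfFiniteType.isLocallyNoetherian p
  haveI : IsNoetherian X := {}
  have hdim : topologicalKrullDim X ≤ 1 :=
    H11Curve.topologicalKrullDim_le_one fun x hx => (hcurve x hx).le
  have hη := H11Curve.genericPoint_not_isClosed hcurve
  have hdi : ∀ x : X, IsClosed ({x} : Set X) ∨ x = genericPoint X :=
    H29Curve.isClosed_singleton_or_eq_genericPoint hdim
  refine ⟨fun x hx => (hdi x).resolve_left hx, fun F hF => ⟨fun hne => ?_, ?_⟩⟩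
  · refine ⟨H29Curve.finite_of_isClosed_ne_univ hdim hF hne, fun x hx => (hdi x).resolve_right ?_⟩
    rintro rfl
    exact hne (Set.eq_univ_of_univ_subset (((genericPoint_spec X).mem_closed_set_iff hF).1 hx))
  · rintro ⟨-, hF'⟩ rfl
    exact hη (hF' _ (Set.mem_univ _))

end Groth.Agent.S4443
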