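import Groth.Statements.S4446
import Groth.Agent.H11Val.NormalExtend

set_option autoImplicit false
universe u
open CategoryTheory CategoryTheory.Limits AlgebraicGeometry
open EGA2

open CategoryTheory.Limits
namespace Groth.Agent.S4446

/-- Let g : X' ⟶ X be an integral morphism and Y an integral normal scheme. A rational map from Y to X'
whose composite with g is everywhere defined is itself everywhere defined: if f is a morphism from a
dense open U of Y to X' and h : Y ⟶ X satisfies g ∘ f = h restricted to U, then f extends to a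
morphism Y ⟶ X' lifting h. (The published statement allows Y normal and locally integral; it is
stated here for Y integral, the case to which it reduces on each component.) -/
theorem result {Y X X' : Scheme.{u}} [IsIntegral Y]
    (hY : Pi1.IsNormalScheme Y) (g : X' ⟶ X) [IsIntegralHom g] (U : Y.Opens) (hU : Dense (U : Set Y))
    (f : (U : Scheme.{u}) ⟶ X') (h : Y ⟶ X) (hfh : f ≫ g = U.ι ≫ h) :
    ∃ f' : Y ⟶ X', U.ι ≫ f' = f ∧ f' ≫ g = h := by
  classical
  have hopen : ∀ {T : Scheme.{u}} (j : T ⟶ Y) [IsOpenImmersion j], IsDominant (j ⁻¹ᵁ U).ι := fun {T} j _ =>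
    ⟨by
      rw [DenseRange, Scheme.Opens.range_ι]
      exact hU.preimage j.isOpenEmbedding.isOpenMap⟩
  have key : ∀ y : Y, ∃ (V : Y.Opens) (v : V.toScheme ⟶ X'), y ∈ V ∧ v ≫ g = V.ι ≫ h ∧
      (V.ι ⁻¹ᵁ U).ι ≫ v = (V.ι ∣_ U) ≫ f := by
    intro y
    obtain ⟨_, ⟨(W : X.Opens), hW, rfl⟩, hyW, -⟩ :=
      X.isBasis_affineOpens.exists_subset_of_mem_open (Set.mem_univ (h.base y)) isOpen_univ
    replace hW : IsAffineOpen W := hW
    obtain ⟨_, ⟨(V : Y.Opens), hV, rfl⟩, hyV, hVW⟩ :=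
      Y.isBasis_affineOpens.exists_subset_of_mem_open (show y ∈ h ⁻¹ᵁ W from hyW) (h ⁻¹ᵁ W).2
    replace hV : IsAffineOpen V := hV
    have hne : Nonempty V := ⟨⟨y, hyV⟩⟩
    have : IsAffine V.toScheme := hV
    have : IsAffine W.toScheme := hW
    have : IsAffine (g ⁻¹ᵁ W).toScheme := hW.preimage g
    have hN : IsIntegrallyClosed Γ(V.toScheme, ⊤) :=
      have : IsIntegrallyClosed Γ(Y, V) := (Groth.Agent.S9821.result Y).1 hY V hV
      IsIntegrallyClosed.of_equiv V.topIso.symm.commRingCatIsoToRingEquiv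
    obtain ⟨z, hzV, hzU⟩ := hU.inter_open_nonempty (V : Set Y) V.2 ⟨y, hyV⟩
    obtain ⟨r, hrle, hzr⟩ := (isAffineOpen_top V.toScheme).exists_basicOpen_le
      (V := V.ι ⁻¹ᵁ U) ⟨⟨z, hzV⟩, hzU⟩ trivial
    have hr0 : r ≠ 0 := by
      rintro rfl
      rw [Scheme.basicOpen_zero] at hzr
      exact hzr
    have hint : (g ∣_ W).appTop.hom.IsIntegral := by
      have : IsIntegralHom (g ∣_ W) := IsZariskiLocalAtTarget.restrict ‹IsIntegralHom g› W
      exact (g ∣_ W).isIntegral_app ⊤ (isAffineOpen_top _)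
    let hV' : V.toScheme ⟶ W.toScheme := IsOpenImmersion.lift W.ι (V.ι ≫ h) (by
      rintro _ ⟨w, rfl⟩
      rw [Scheme.Opens.range_ι, Scheme.Hom.comp_apply]
      exact hVW w.2)
    let fD : (V.toScheme.basicOpen r).toScheme ⟶ X' := (V.toScheme).homOfLE hrle ≫ (V.ι ∣_ U) ≫ f
    have hfD : fD ≫ g = (V.toScheme.basicOpen r).ι ≫ V.ι ≫ h := by
      simp only [fD, Category.assoc, hfh]
      rw [← Category.assoc (V.ι ∣_ U), morphismRestrict_ι, Category.assoc, ← Category.assoc (V.toScheme.homOfLE hrle),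
        Scheme.homOfLE_ι]
    let fD' : (V.toScheme.basicOpen r).toScheme ⟶ (g ⁻¹ᵁ W).toScheme := IsOpenImmersion.lift (g ⁻¹ᵁ W).ι fD (by
      rintro _ ⟨w, rfl⟩
      rw [Scheme.Opens.range_ι]
      show g.base (fD.base w) ∈ W
      rw [← Scheme.Hom.comp_apply, hfD, Scheme.Hom.comp_apply, Scheme.Hom.comp_apply]
      exact hVW ((V.toScheme.basicOpen r).ι w).2)
    obtain ⟨v, hv₁, hv₂⟩ := Groth.Agent.H11Val.exists_extend_affine hN (g ∣_ W) hint hV' r hr0 fD' (by
      rw [← cancel_mono W.ι, Category.assoc, morphismRestrict_ι, IsOpenImmersion.lift_fac_assoc, hfD,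
        Category.assoc, IsOpenImmersion.lift_fac])
    refine ⟨V, v ≫ (g ⁻¹ᵁ W).ι, hyV, ?_, ?_⟩
    · rw [Category.assoc, ← morphismRestrict_ι, ← Category.assoc, hv₁, IsOpenImmersion.lift_fac]
    · have hdom : IsDominant (V.toScheme.homOfLE hrle) := by
        have : Nonempty (V.ι ⁻¹ᵁ U).toScheme := ⟨⟨⟨z, hzV⟩, hzU⟩⟩
        refine ⟨((V.toScheme.homOfLE hrle).isOpenEmbedding.isOpen_range).dense ⟨_, ⟨⟨⟨z, hzV⟩, hzr⟩, rfl⟩⟩⟩
      refine ext_of_isDominant_of_isSeparated g ?_ (V.toScheme.homOfLE hrle) ?_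
      · rw [Category.assoc, Category.assoc, ← morphismRestrict_ι, ← Category.assoc v, hv₁, IsOpenImmersion.lift_fac,
          Category.assoc, hfh, ← Category.assoc (V.ι ∣_ U), morphismRestrict_ι, Category.assoc]
      · rw [← Category.assoc, Scheme.homOfLE_ι, ← Category.assoc, hv₂, IsOpenImmersion.lift_fac]
  choose V v hmem hvg hvf using key
  let 𝒰 : Y.OpenCover := .mkOfCovers Y (fun y => (V y).toScheme) (fun y => (V y).ι)
    (fun y => ⟨y, ⟨y, hmem y⟩, rfl⟩) (fun _ => inferInstance)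
  have hU' : ∀ (T : Scheme.{u}) (y : Y) (a : T ⟶ (V y).toScheme) (b : T ⟶ U.toScheme),
      a ≫ (V y).ι = b ≫ U.ι → a ≫ v y = b ≫ f := by
    intro T y a b hab
    have hr : Set.range a.base ⊆ Set.range ((V y).ι ⁻¹ᵁ U).ι.base := by
      rintro _ ⟨w, rfl⟩
      rw [Scheme.Opens.range_ι]
      show (V y).ι.base (a.base w) ∈ U
      rw [← Scheme.Hom.comp_apply, hab]
      exact (b.base w).2
    let c := IsOpenImmersion.lift ((V y).ι ⁻¹ᵁ U).ι a hr
    have hc : c ≫ ((V y).ι ∣_ U) = b := by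
      rw [← cancel_mono U.ι, Category.assoc, morphismRestrict_ι, IsOpenImmersion.lift_fac_assoc, hab]
    rw [← hc, Category.assoc, ← hvf y, IsOpenImmersion.lift_fac_assoc]
  have hglue : ∀ s t : Y, pullback.fst (V s).ι (V t).ι ≫ v s = pullback.snd (V s).ι (V t).ι ≫ v t := by
    intro s t
    let j := pullback.fst (V s).ι (V t).ι ≫ (V s).ι
    have := hopen j
    have : IsReduced (pullback (V s).ι (V t).ι) := isReduced_of_isOpenImmersion j
    refine ext_of_isDominant_of_isSeparated g ?_ (j ⁻¹ᵁ U).ι ?_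
    · rw [Category.assoc, Category.assoc, hvg, hvg, pullback.condition_assoc]
    · rw [← Category.assoc, ← Category.assoc,
        hU' _ s ((j ⁻¹ᵁ U).ι ≫ pullback.fst (V s).ι (V t).ι) (j ∣_ U) (by rw [Category.assoc, morphismRestrict_ι]),
        hU' _ t ((j ⁻¹ᵁ U).ι ≫ pullback.snd (V s).ι (V t).ι) (j ∣_ U)
          (by rw [Category.assoc, morphismRestrict_ι, ← pullback.condition])]
  refine ⟨𝒰.glueMorphisms v hglue, ?_, ?_⟩
  · let 𝒱 : U.toScheme.OpenCover := .mkOfCovers Y (fun y => ((V y).ι ⁻¹ᵁ U).toScheme) (fun y => (V y).ι ∣_ U)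
      (fun x => ⟨x.1, ⟨⟨x.1, hmem x.1⟩, x.2⟩, U.ι.isOpenEmbedding.injective (by
        rw [← Scheme.Hom.comp_apply, morphismRestrict_ι]; rfl)⟩) (fun y => inferInstance)
    refine 𝒱.hom_ext _ _ fun y => ?_
    change ((V y).ι ∣_ U) ≫ U.ι ≫ _ = ((V y).ι ∣_ U) ≫ f
    rw [← Category.assoc, morphismRestrict_ι, Category.assoc]
    refine Eq.trans ?_ (hvf y)
    exact congrArg (((V y).ι ⁻¹ᵁ U).ι ≫ ·) (𝒰.ι_glueMorphisms v hglue y)
  · refine 𝒰.hom_ext _ _ fun y => ?_
    rw [𝒰.ι_glueMorphisms_assoc v hglue y]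
    exact hvg y

end Groth.Agent.S4446
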