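import Groth.Statements.S4447
import Groth.Agent.H11Val.Dominate

set_option autoImplicit false
universe u
open CategoryTheory CategoryTheory.Limits AlgebraicGeometry
open EGA2

open Groth.Agent.H11Val
namespace Groth.Agent.S4447

/-- Let p : X ⟶ Y be a morphism, x a point of X, y = p(x) and y' a specialization of y distinct from y.
Then there are a valuation ring A which is not a field, with field of fractions the residue field
k(x), and a morphism Spec A ⟶ Y mapping the closed point to y' and restricting on Spec k(x) to the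
canonical morphism Spec k(x) ⟶ X ⟶ Y (in particular the generic point of Spec A goes to y). -/
theorem result {X Y : Scheme.{u}} (p : X ⟶ Y) (x : X) (y' : Y)
    (hsp : p.base x ⤳ y') (hne : y' ≠ p.base x) :
    ∃ (A : ValuationSubring (X.residueField x)) (h : Spec (CommRingCat.of A) ⟶ Y), A ≠ ⊤ ∧
      h.base (IsLocalRing.closedPoint A) = y' ∧
      Spec.map (CommRingCat.ofHom A.subtype) ≫ h = X.fromSpecResidueField x ≫ p := by
  let ψ := Y.presheaf.stalkSpecializes hsp ≫ p.stalkMap x ≫ X.residue x
  obtain ⟨A, hA, hloc⟩ := IsLocalRing.exists_factor_valuationRing ψ.hom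
  refine ⟨A, Spec.map (CommRingCat.ofHom (ψ.hom.codRestrict A.toSubring hA)) ≫ Y.fromSpecStalk y', ?_, ?_, ?_⟩
  · intro hAtop
    refine hne (eq_of_comap_stalkSpecializes_eq hsp ?_).symm
    ext a
    rw [Ideal.mem_comap, IsLocalRing.mem_maximalIdeal, IsLocalRing.mem_maximalIdeal, mem_nonunits_iff,
      mem_nonunits_iff]
    refine not_congr ⟨fun hu => ?_, fun hu => hu.map _⟩
    refine IsUnit.of_map (ψ.hom.codRestrict A.toSubring hA) a ?_
    have hne0 : ψ.hom a ≠ 0 := ((hu.map (p.stalkMap x).hom).map (X.residue x).hom).ne_zero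
    exact IsUnit.of_mul_eq_one (⟨(ψ.hom a)⁻¹, hAtop ▸ ValuationSubring.mem_top _⟩ : A.toSubring)
      (Subtype.ext (mul_inv_cancel₀ hne0))
  · rw [Scheme.Hom.comp_apply]
    have e : Spec.map (CommRingCat.ofHom (ψ.hom.codRestrict A.toSubring hA)) (IsLocalRing.closedPoint A) =
        IsLocalRing.closedPoint (Y.presheaf.stalk y') := IsLocalRing.comap_closedPoint (S := A) _
    rw [e, Scheme.fromSpecStalk_closedPoint]
  · have e : CommRingCat.ofHom (ψ.hom.codRestrict A.toSubring hA) ≫ CommRingCat.ofHom A.subtype = ψ := rfl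
    rw [← Spec.map_comp_assoc, e]
    simp only [ψ, Spec.map_comp, Category.assoc, Scheme.SpecMap_stalkSpecializes_fromSpecStalk,
      Scheme.SpecMap_stalkMap_fromSpecStalk, Scheme.fromSpecResidueField]

end Groth.Agent.S4447
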