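import Groth.Statements.S4448
import Groth.Agent.H7Lim.NormalizationNormal
import Groth.Agent.H17.AssPush

set_option autoImplicit false
universe u
open CategoryTheory CategoryTheory.Limits AlgebraicGeometry
open EGA2

namespace Groth.Agent.S4448

/-- Let X be an integral scheme with field of rational functions k(ξ), K a field extension of k(ξ) (an
embedding φ), and X' the integral closure of X relative to K, i.e. the normalization of X along the
morphism g : Spec K ⟶ X through the generic point. Then X' is integral and normal, the generic point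
ξ' of X' is the only point over ξ, the canonical morphism Spec K ⟶ X' hits ξ', and the field of
rational functions of X' (the local ring at ξ') maps isomorphically onto the algebraic closure of
k(ξ) in K. (The quasi-compactness and quasi-separatedness binders on g always hold; they are needed
only to form the normalization.) -/
theorem result (X : Scheme.{u}) [IsIntegral X] (K : Type u) [Field K]
    (φ : X.functionField →+* K) (g : Spec (CommRingCat.of K) ⟶ X)
    (hg : g = Spec.map (CommRingCat.ofHom φ) ≫ X.fromSpecStalk (genericPoint X)) [QuasiCompact g] [QuasiSeparated g] :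
    ∃ (_ : IsIntegral g.normalization), Pi1.IsNormalScheme g.normalization ∧
      g.fromNormalization.base ⁻¹' {genericPoint X} = {genericPoint g.normalization} ∧
      g.toNormalization.base (IsLocalRing.closedPoint K) = genericPoint g.normalization ∧
      Function.Injective (Scheme.stalkClosedPointTo g.toNormalization).hom ∧
      Set.range (Scheme.stalkClosedPointTo g.toNormalization).hom =
        {y : K | ∃ q : Polynomial X.functionField, q.Monic ∧ Polynomial.eval₂ φ y q = 0} := by
  subst hg
  set f : Spec (CommRingCat.of K) ⟶ X :=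
    Spec.map (CommRingCat.ofHom φ) ≫ X.fromSpecStalk (genericPoint X) with hf
  let pt : Spec (CommRingCat.of K) := IsLocalRing.closedPoint K
  haveI : IsLocalHom (CommRingCat.ofHom φ).hom := ⟨fun a ha => by
    rcases eq_or_ne a 0 with rfl | h
    · simp at ha
    · exact isUnit_iff_ne_zero.2 h⟩
  have hfpt : f pt = genericPoint X := by
    rw [hf, Scheme.Hom.comp_apply]
    erw [Spec_closedPoint (f := CommRingCat.ofHom φ)]
    exact Scheme.fromSpecStalk_closedPoint
  haveI : IsDominant f := ⟨dense_iff_closure_eq.2 (Set.eq_univ_of_univ_subset (by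
    rw [← (genericPoint_spec X).def]
    exact closure_mono (Set.singleton_subset_iff.2 ⟨pt, hfpt⟩)))⟩
  haveI hI : IsIntegral f.normalization := inferInstance
  haveI : Subsingleton (Spec (CommRingCat.of K)) := inferInstanceAs (Subsingleton (PrimeSpectrum K))
  have hptgen : pt = genericPoint (Spec (CommRingCat.of K)) := Subsingleton.elim _ _
  have hξ : f.toNormalization pt = genericPoint f.normalization := by
    rw [hptgen]; exact H7Lim.genericPoint_toNormalization f
  have hνξ : f.fromNormalization (f.toNormalization pt) = genericPoint X := by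
    rw [← Scheme.Hom.comp_apply, f.toNormalization_fromNormalization, hfpt]
  have hN : ∀ x : Spec (CommRingCat.of K), IsIntegrallyClosed ((Spec (CommRingCat.of K)).presheaf.stalk x) := by
    intro x
    haveI hp : x.asIdeal.IsPrime := x.isPrime
    letI : Algebra K ((Spec (CommRingCat.of K)).presheaf.stalk x) :=
      StructureSheaf.stalkAlgebra _ x
    haveI : IsLocalization.AtPrime ((Spec (CommRingCat.of K)).presheaf.stalk x) x.asIdeal :=
      StructureSheaf.IsLocalization.to_stalk _ x
    exact isIntegrallyClosed_of_isLocalization (R := K) _ x.asIdeal.primeCompl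
      (Ideal.primeCompl_le_nonZeroDivisors _)
  refine ⟨hI, fun y => ⟨inferInstance, H7Lim.isIntegrallyClosed_normalization_stalk hN f y⟩, ?_, hξ, ?_⟩
  · refine Set.Subset.antisymm (fun z hz => ?_) (Set.singleton_subset_iff.2 (by rw [← hξ]; exact hνξ))
    refine (H17.AssPts.eq_of_specializes_of_map_eq f.fromNormalization
      ((genericPoint_spec f.normalization).specializes (Set.mem_univ z)) ?_).symm
    rw [← hξ, hνξ]
    exact (Set.mem_singleton_iff.1 hz).symm
  have hfield : IsField (f.normalization.presheaf.stalk (f.toNormalization pt)) := by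
    rw [hξ]; exact Field.toIsField f.normalization.functionField
  obtain ⟨V, hV, hηV, -⟩ := exists_isAffineOpen_mem_and_subset (X := X) (x := genericPoint X) (U := ⊤) trivial
  haveI : Nonempty V := ⟨⟨_, hηV⟩⟩
  let W : f.normalization.Opens := f.fromNormalization ⁻¹ᵁ V
  have hW : IsAffineOpen W := hV.preimage _
  have hξW : f.toNormalization pt ∈ W := by
    show f.fromNormalization (f.toNormalization pt) ∈ V
    rw [hνξ]; exact hηV
  have hptV : f pt ∈ V := by rw [hfpt]; exact hηV
  let T := Scheme.stalkClosedPointTo f.toNormalization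
  let ω : Γ(Spec (CommRingCat.of K), f ⁻¹ᵁ V) ≅ CommRingCat.of K :=
    (Spec (CommRingCat.of K)).presheaf.mapIso
      (eqToIso (Scheme.preimage_eq_top_of_closedPoint_mem f hptV).symm).op ≪≫ Scheme.ΓSpecIso (CommRingCat.of K)
  letI algA : Algebra Γ(X, V) Γ(Spec (CommRingCat.of K), f ⁻¹ᵁ V) := (f.app V).hom.toAlgebra
  let a₀ : Γ(X, V) ⟶ CommRingCat.of K := X.presheaf.germ V (genericPoint X) hηV ≫ CommRingCat.ofHom φ
  have ha₀ : f.app V ≫ ω.hom = a₀ := by
    rw [← Scheme.germ_stalkClosedPointTo f V hptV]
    exact Scheme.germ_stalkClosedPointTo_Spec_fromSpecStalk _ V hptV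
  have hT : ∀ r, T (f.normalization.presheaf.germ W _ hξW r) = ω.hom ((f.normalizationObjIso hV).hom r).1 := by
    intro r
    have h1 := congr($(Scheme.germ_stalkClosedPointTo f.toNormalization W hξW) r)
    have h2 := congr($(f.normalizationObjIso_hom_val hV) r)
    refine h1.trans ?_
    change _ = ω.hom ((f.normalizationObjIso hV).hom ≫ CommRingCat.ofHom (Subalgebra.val _).toRingHom <| r)
    rw [h2]
    simp only [Scheme.Hom.appLE, ω, Iso.trans_hom, Functor.mapIso_hom, ConcreteCategory.comp_apply]
    have key : ∀ {A B C : (Spec (CommRingCat.of K)).Opensᵒᵖ} (a : A ⟶ B) (b : B ⟶ C) (c : A ⟶ C)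
        (x : (Spec (CommRingCat.of K)).presheaf.obj A),
        (Spec (CommRingCat.of K)).presheaf.map c x =
          (Spec (CommRingCat.of K)).presheaf.map b ((Spec (CommRingCat.of K)).presheaf.map a x) := by
      intro A B C a b c x
      rw [← ConcreteCategory.comp_apply, ← Functor.map_comp]
      rfl
    exact congrArg (Scheme.ΓSpecIso (CommRingCat.of K)).hom.hom (key _ _ _ _)
  refine ⟨?_, ?_⟩
  · letI := hfield.toField
    exact T.hom.injective
  letI algF : Algebra X.functionField K := φ.toAlgebra
  haveI : IsFractionRing Γ(X, V) X.functionField := functionField_isFractionRing_of_isAffineOpen X V hV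
  letI algAK : Algebra Γ(X, V) K := a₀.hom.toAlgebra
  haveI : IsScalarTower Γ(X, V) X.functionField K := .of_algebraMap_eq' rfl
  have hint : ∀ r, _root_.IsIntegral X.functionField (T (f.normalization.presheaf.germ W _ hξW r)) := by
    intro r
    rw [hT]
    obtain ⟨P, hP, hPr⟩ := ((f.normalizationObjIso hV).hom r).2
    refine IsIntegral.tower_top (R := Γ(X, V)) ⟨P, hP, ?_⟩
    show Polynomial.eval₂ a₀.hom (ω.hom.hom _) P = 0
    rw [← ha₀, CommRingCat.hom_comp, ← Polynomial.hom_eval₂]
    exact (congrArg ω.hom.hom hPr).trans (map_zero _)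
  ext z
  constructor
  · rintro ⟨a, rfl⟩
    letI := f.normalization.presheaf.algebra_section_stalk (U := W) ⟨_, hξW⟩
    haveI := hW.isLocalization_stalk ⟨_, hξW⟩
    obtain ⟨r, s, rfl⟩ := IsLocalization.exists_mk'_eq (hW.primeIdealOf ⟨_, hξW⟩).asIdeal.primeCompl a
    have hsK : T (f.normalization.presheaf.germ W _ hξW s) ≠ 0 :=
      isUnit_iff_ne_zero.1 ((IsLocalization.map_units _ s).map T.hom)
    have e : T (IsLocalization.mk' _ r s) * T (f.normalization.presheaf.germ W _ hξW s) =
        T (f.normalization.presheaf.germ W _ hξW r) :=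
      (map_mul T.hom _ _).symm.trans (congrArg T.hom (IsLocalization.mk'_spec _ r s))
    show _root_.IsIntegral X.functionField _
    rw [eq_mul_inv_iff_mul_eq₀ hsK |>.2 e]
    exact (hint r).mul (hint s).inv
  · intro hz
    have hz' : _root_.IsIntegral X.functionField z := hz
    have halg : IsAlgebraic Γ(X, V) z :=
      (IsFractionRing.isAlgebraic_iff Γ(X, V) X.functionField K).mpr hz'.isAlgebraic
    obtain ⟨c, hc, hcz⟩ := halg.exists_integral_multiple
    have hc0 : a₀ c ≠ 0 := by
      show φ (algebraMap Γ(X, V) X.functionField c) ≠ 0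
      rw [map_ne_zero_iff _ φ.injective, map_ne_zero_iff _ (IsFractionRing.injective Γ(X, V) X.functionField)]
      exact hc
    obtain ⟨P, hP, hPr⟩ := hcz
    have hw : _root_.IsIntegral Γ(X, V) (ω.inv (c • z)) := by
      refine ⟨P, hP, ω.commRingCatIsoToRingEquiv.injective ?_⟩
      rw [map_zero]
      show ω.hom.hom (Polynomial.eval₂ (f.app V).hom _ P) = 0
      rw [Polynomial.hom_eval₂, ← CommRingCat.hom_comp, ha₀, show ω.hom.hom (ω.inv (c • z)) = c • z from
        Iso.inv_hom_id_apply ω _]
      exact hPr
    let r := (f.normalizationObjIso hV).inv ⟨_, hw⟩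
    have hr : T (f.normalization.presheaf.germ W _ hξW r) = c • z := by
      rw [hT]
      erw [Iso.inv_hom_id_apply (f.normalizationObjIso hV)]
      exact Iso.inv_hom_id_apply ω _
    let d := f.normalization.presheaf.germ W _ hξW (f.fromNormalization.app V c)
    have key : ∀ (h' : Spec (CommRingCat.of K) ⟶ X) (_ : h' = f) (hm : h' pt ∈ V),
        Scheme.stalkClosedPointTo h' (X.presheaf.germ V _ hm c) = a₀ c := by
      rintro _ rfl hm
      rw [← ha₀, ← Scheme.germ_stalkClosedPointTo f V hptV]
      rfl
    have hd : T d = a₀ c := by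
      have hm : (f.toNormalization ≫ f.fromNormalization) pt ∈ V := hξW
      have h := congr($(Scheme.stalkClosedPointTo_comp f.toNormalization f.fromNormalization)
        (X.presheaf.germ V _ hm c))
      refine Eq.trans ?_ (key _ f.toNormalization_fromNormalization hm)
      refine Eq.trans ?_ h.symm
      exact congrArg T.hom (Scheme.Hom.germ_stalkMap_apply f.fromNormalization V _ hξW c).symm
    letI := hfield.toField
    refine ⟨f.normalization.presheaf.germ W _ hξW r / d, ?_⟩
    show T.hom (_ / d) = z
    rw [map_div₀, hr, hd, Algebra.smul_def]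
    exact mul_div_cancel_left₀ z hc0

end Groth.Agent.S4448
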