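import Groth.Statements.S4451
import Groth.Agent.H11Val.CodimOne
import Groth.Agent.H11Curve.DimOne

set_option autoImplicit false
universe u
open CategoryTheory CategoryTheory.Limits AlgebraicGeometry
attribute [local instance] Curv2.stalkAlgebra
open EGA2

namespace Groth.Agent.S4451

/-- Let X be a normal, complete, irreducible algebraic curve over a field k with field of rational
functions K. The set of local rings of X, as subrings of K, consists of K itself (at the generic
point) and of the valuation rings of K containing k (and distinct from K): every non-generic point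
has such a valuation ring as local ring, and every such valuation ring is the local ring of exactly
one point. -/
theorem result (k : Type u) [Field k] (X : Scheme.{u})
    [X.Over (Spec (CommRingCat.of k))] [IsProper (X ↘ (Spec (CommRingCat.of k)))] [IsIntegral X]
    (hX : ∀ x : X, IsClosed ({x} : Set X) → ringKrullDim (X.presheaf.stalk x) = 1) (hnorm : Pi1.IsNormalScheme X) :
    (∀ x : X, x ≠ genericPoint X → ∃ R : ValuationSubring X.functionField, R ≠ ⊤ ∧
        (R : Set X.functionField) = Set.range (algebraMap (X.presheaf.stalk x) X.functionField)) ∧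
      ∀ R : ValuationSubring X.functionField, R ≠ ⊤ → (∀ c : k, algebraMap k X.functionField c ∈ R) →
        ∃! x : X, (R : Set X.functionField) = Set.range (algebraMap (X.presheaf.stalk x) X.functionField) := by
  let p := X ↘ (Spec (CommRingCat.of k))
  let η := genericPoint X
  let c : CommRingCat.of k ⟶ X.presheaf.stalk η := CommRingCat.ofHom (Curv2.stalkMap k X η)
  haveI : CompactSpace X := QuasiCompact.compactSpace_of_compactSpace p
  haveI : IsLocallyNoetherian X := LocallyOfFiniteType.isLocallyNoetherian p
  have hspec : ∀ x : X, η ⤳ x := fun x => (genericPoint_spec X).specializes trivial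
  have halg : ∀ x : X, CommRingCat.ofHom (algebraMap (X.presheaf.stalk x) X.functionField) =
      X.presheaf.stalkSpecializes (hspec x) := fun x => rfl
  have hσ : X.fromSpecStalk η ≫ p = Spec.map c := by
    rw [← cancel_mono (Spec (CommRingCat.of k)).toSpecΓ, Category.assoc,
      Scheme.toSpecΓ_naturality, Scheme.fromSpecStalk_toSpecΓ_assoc, ← SpecMap_ΓSpecIso_hom,
      ← Spec.map_comp, ← Spec.map_comp]
    congr 1
    ext r
    show _ = X.presheaf.germ ⊤ η trivial (p.appTop ((Scheme.ΓSpecIso (CommRingCat.of k)).inv
      ((Scheme.ΓSpecIso (CommRingCat.of k)).hom r)))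
    erw [← ConcreteCategory.comp_apply (Scheme.ΓSpecIso (CommRingCat.of k)).hom, Iso.hom_inv_id]
    rfl
  have hdim : ∀ x : X, ringKrullDim (X.presheaf.stalk x) ≤ 1 := fun x => by
    rw [ringKrullDim_stalk_eq_coheight]
    exact WithBot.coe_le_coe.2 (H11Curve.coheight_le_one (fun y hy => (hX y hy).le) x)
  have hval : ∀ x : X, ValuationRing (X.presheaf.stalk x) := fun x => by
    haveI := (hnorm x).1
    haveI := (hnorm x).2
    exact H11Val.valuationRing_of_normal _ (hdim x)
  have htop : ∀ x : X, x ≠ η → ¬ Function.Surjective (algebraMap (X.presheaf.stalk x) X.functionField) := by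
    intro x hx hs
    have hF : IsField (X.presheaf.stalk x) :=
      (RingEquiv.ofBijective _ ⟨IsFractionRing.injective (X.presheaf.stalk x) X.functionField, hs⟩).toMulEquiv.isField
        (Field.toIsField X.functionField)
    have hc : IsClosed ({x} : Set X) :=
      (H29Curve.isClosed_singleton_or_eq_genericPoint
        (H11Curve.topologicalKrullDim_le_one fun y hy => (hX y hy).le) x).resolve_right hx
    have := hX x hc
    rw [ringKrullDim_eq_zero_of_isField hF] at this
    exact zero_ne_one this
  refine ⟨fun x hx => ?_, fun R hR hk => ?_⟩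
  · haveI := (hnorm x).1
    haveI := hval x
    refine ⟨⟨(algebraMap (X.presheaf.stalk x) X.functionField).range, fun z => ?_⟩, fun e => htop x hx fun z => ?_, rfl⟩
    · rcases ValuationRing.isInteger_or_isInteger (X.presheaf.stalk x) z with h | h
      · exact Or.inl h
      · exact Or.inr h
    · have : z ∈ (⊤ : ValuationSubring X.functionField) := ValuationSubring.mem_top z
      rwa [← e] at this
  · let sub : CommRingCat.of R ⟶ X.functionField := CommRingCat.ofHom R.subtype
    let cR : CommRingCat.of k ⟶ CommRingCat.of R :=
      CommRingCat.ofHom ((Curv2.stalkMap k X η).codRestrict R.toSubring hk)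
    let sq : ValuativeCommSq p :=
      { R := R, K := X.functionField, i₁ := X.fromSpecStalk η, i₂ := Spec.map cR
        commSq := ⟨by
          rw [← Spec.map_comp]
          exact hσ⟩ }
    have hex : ValuativeCriterion p := by
      have h : (ValuativeCriterion ⊓ @QuasiCompact ⊓ @QuasiSeparated ⊓ @LocallyOfFiniteType) p := by
        rw [← IsProper.eq_valuativeCriterion]; infer_instance
      exact h.1.1.1
    obtain ⟨⟨l, hl₁, hl₂⟩⟩ := (hex.existence sq).exists_lift
    replace hl₁ : Spec.map sub ≫ l = X.fromSpecStalk η := hl₁
    let x := l (IsLocalRing.closedPoint R)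
    let ρ : X.presheaf.stalk x ⟶ CommRingCat.of R := Scheme.stalkClosedPointTo l
    have hρ : ρ ≫ sub = X.presheaf.stalkSpecializes (hspec x) := by
      apply Spec.map_injective
      rw [← cancel_mono (X.fromSpecStalk x), Spec.map_comp, Category.assoc,
        Scheme.Spec_stalkClosedPointTo_fromSpecStalk, hl₁, Scheme.SpecMap_stalkSpecializes_fromSpecStalk]
    have hsub : Set.range (algebraMap (X.presheaf.stalk x) X.functionField) ⊆ (R : Set X.functionField) := by
      rintro _ ⟨a, rfl⟩
      have : (sub (ρ a)) = algebraMap (X.presheaf.stalk x) X.functionField a := congr($hρ a)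
      rw [← this]
      exact (ρ a).2
    have hxη : x ≠ η := by
      intro e
      have hs : Function.Surjective (X.presheaf.stalkSpecializes (hspec x)) := by
        have : ∀ (y : X) (h : η ⤳ y), y = η → Function.Surjective (X.presheaf.stalkSpecializes h) := by
          rintro y h rfl z
          exact ⟨z, by rw [TopCat.Presheaf.stalkSpecializes_refl]; rfl⟩
        exact this x (hspec x) e
      refine hR (eq_top_iff.2 fun z _ => hsub ?_)
      exact hs z
    haveI := (hnorm x).1
    haveI := hval x
    refine ⟨x, Set.Subset.antisymm (fun z hz => ?_) hsub, fun x' hx' => ?_⟩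
    · rcases ValuationRing.isInteger_or_isInteger (X.presheaf.stalk x) z with h | ⟨a, ha⟩
      · exact h
      by_cases hu : IsUnit a
      · obtain ⟨b, rfl⟩ := hu
        exact ⟨↑b⁻¹, by rw [map_units_inv, ha, inv_inv]⟩
      by_cases hz0 : z = 0
      · exact ⟨0, by rw [map_zero, hz0]⟩
      exfalso
      refine hu ((inferInstance : IsLocalHom ρ.hom).map_nonunit a (IsUnit.of_mul_eq_one (⟨z, hz⟩ : R) ?_))
      apply Subtype.ext
      show sub (ρ a) * z = 1
      rw [show sub (ρ a) = z⁻¹ from (congr($hρ a)).trans ha, inv_mul_cancel₀ hz0]
    · haveI := (hnorm x').1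
      have hinj := IsFractionRing.injective (X.presheaf.stalk x') X.functionField
      have hmem : ∀ r : R, ∃ a, algebraMap (X.presheaf.stalk x') X.functionField a = r := fun r =>
        (Set.ext_iff.1 hx' r.1).1 r.2
      let e : X.presheaf.stalk x' ≃+* R := RingEquiv.ofBijective
        ((algebraMap (X.presheaf.stalk x') X.functionField).codRestrict R.toSubring
          fun a => (Set.ext_iff.1 hx' _).2 ⟨a, rfl⟩)
        ⟨fun a b h => hinj (congrArg Subtype.val h), fun r => by
          obtain ⟨a, ha⟩ := hmem r
          exact ⟨a, Subtype.ext ha⟩⟩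
      let d : X.presheaf.stalk x' ⟶ CommRingCat.of R := CommRingCat.ofHom e.toRingHom
      haveI : IsLocalHom d.hom := ⟨fun a ha =>
        (MulEquiv.isUnit_map e.toMulEquiv).1 ha⟩
      let l' : Spec (CommRingCat.of R) ⟶ X := Spec.map d ≫ X.fromSpecStalk x'
      have h1 : Spec.map sub ≫ l' = X.fromSpecStalk η := by
        rw [← Category.assoc, ← Spec.map_comp, show d ≫ sub = X.presheaf.stalkSpecializes (hspec x') from rfl,
          Scheme.SpecMap_stalkSpecializes_fromSpecStalk]
      have h2 : l' ≫ p = Spec.map cR := by
        have hmono : Mono (Spec.map cR) → True := fun _ => trivial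
        obtain ⟨f₀, hf₀⟩ := Spec.map_surjective (l' ≫ p)
        rw [← hf₀]
        congr 1
        refine CommRingCat.hom_ext (RingHom.ext fun r => Subtype.ext ?_)
        have : f₀ ≫ sub = c := by
          apply Spec.map_injective
          rw [Spec.map_comp, hf₀, ← Category.assoc, h1, hσ]
        exact congr($this r)
      have := congrArg CommSq.LiftStruct.l ((hex.uniqueness sq).elim ⟨l', h1, h2⟩ ⟨l, hl₁, hl₂⟩)
      replace this : l' = l := this
      show x' = l (IsLocalRing.closedPoint R)
      rw [← this]
      show x' = X.fromSpecStalk x' (Spec.map d (IsLocalRing.closedPoint R))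
      rw [show Spec.map d (IsLocalRing.closedPoint R) = IsLocalRing.closedPoint (X.presheaf.stalk x') from
        IsLocalRing.comap_closedPoint d.hom, Scheme.fromSpecStalk_closedPoint]

end Groth.Agent.S4451
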