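import Groth.Statements.S4453
import Groth.Agent.H11Norm.Line
import Groth.Agent.H11Proj.QProjCriterion
import Groth.Agent.H11Proj.ProjectiveProps
import Groth.Agent.H17.Separated

set_option autoImplicit false
universe u
open CategoryTheory CategoryTheory.Limits AlgebraicGeometry
open EGA2

namespace Groth.Agent.S4453

/-- Let Y be a quasi-compact separated scheme or a scheme whose underlying space is Noetherian, f : X ⟶
Y a morphism of finite type and g : X' ⟶ X a finite surjective morphism such that the direct image
of O_{X'} is a finite locally free O_X-module. Then f is projective if and only if f ∘ g is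
projective. (The companion assertion, on quasi-projectivity, is the
existence-of-a-relatively-ample-module equivalence stated separately.) -/
theorem result {X X' Y : Scheme.{u}} (f : X ⟶ Y) [LocallyOfFiniteType f]
    [QuasiCompact f] (g : X' ⟶ X) [IsFinite g] [Surjective g]
    (hfree : FlatMod.IsFinLocFree ((Coh.push g).obj (Coh.structureModule X')))
    (hY : (CompactSpace Y ∧ Y.IsSeparated) ∨ TopologicalSpace.NoetherianSpace Y) :
    RelProj.IsProjective f ↔ RelProj.IsProjective (g ≫ f) := by
  haveI : CompactSpace Y := hY.elim (·.1) fun h => inferInstance
  haveI : QuasiSeparatedSpace Y := by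
    rcases hY with ⟨-, hs⟩ | hN
    · infer_instance
    · haveI := hN
      infer_instance
  constructor
  · intro h
    haveI := H11Proj.isProper_of_isProjective h
    obtain ⟨-, -, L, hL⟩ := H11Proj.isQuasiProjective_of_isProjective h
    exact H11Proj.isProjective_of_isQuasiProjective_qcqs ⟨inferInstance, inferInstance, _,
      H11Ample.isRelAmple_pullback_of_isQuasiAffine (H11Norm.isQuasiAffine_of_isAffineHom g) hL⟩
  · intro h
    haveI := H11Proj.isProper_of_isProjective h
    obtain ⟨-, -, L', hL⟩ := H11Proj.isQuasiProjective_of_isProjective h
    haveI : IsSeparated f := H17.isSeparated_of_surjective_universallyClosed g f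
    haveI : UniversallyClosed f := UniversallyClosed.of_comp_surjective g f
    haveI : IsProper f := { }
    obtain ⟨d⟩ := H11Norm.IsChart.nrm_rank (g := g) fun x => H11Norm.exists_chart_of_isFinLocFree g hfree x
    obtain ⟨M, -, hM⟩ := H11Norm.exists_isRelAmple_of_normMul f d hL
    exact H11Proj.isProjective_of_isQuasiProjective_qcqs ⟨inferInstance, inferInstance, M, hM⟩

end Groth.Agent.S4453
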