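import Groth.Statements.S4454
import Groth.Agent.S9673
import Groth.Agent.S9674
import Groth.Agent.H12AlgSp.NagataSpace
import Groth.Agent.H12AlgSp.LqfDim
import Groth.Agent.H12AlgSp.Codim

set_option autoImplicit false
set_option linter.style.haveILetI false
universe u
open CategoryTheory CategoryTheory.Limits AlgebraicGeometry
open EGA2

namespace Groth.Agent.S4454

/-- Case of an integral curve and a single field: let X be an integral algebraic curve over a field k, K
a finite extension of its field of rational functions and X' the integral closure of X in K (the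
normalization of X along the morphism g : Spec K ⟶ X through the generic point). Then the canonical
morphism X' ⟶ X is finite and X' is a normal algebraic curve over k (local rings integrally closed
domains, of dimension one at closed points). -/
theorem result (k : Type u) [Field k] (X : Scheme.{u})
    [X.Over (Spec (CommRingCat.of k))] [LocallyOfFiniteType (X ↘ (Spec (CommRingCat.of k)))]
    [QuasiCompact (X ↘ (Spec (CommRingCat.of k)))] [IsSeparated (X ↘ (Spec (CommRingCat.of k)))] [IsIntegral X]
    (hX : ∀ x : X, IsClosed ({x} : Set X) → ringKrullDim (X.presheaf.stalk x) = 1)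
    (K : Type u) [Field K] (φ : X.functionField →+* K) (hφ : φ.Finite) (g : Spec (CommRingCat.of K) ⟶ X)
    (hg : g = Spec.map (CommRingCat.ofHom φ) ≫ X.fromSpecStalk (genericPoint X)) [QuasiCompact g] [QuasiSeparated g] :
    IsFinite g.fromNormalization ∧ Pi1.IsNormalScheme g.normalization ∧
      ∀ x' : g.normalization, IsClosed ({x'} : Set g.normalization) → ringKrullDim (g.normalization.presheaf.stalk x') = 1 := by
  subst hg
  let c := Spec.map (CommRingCat.ofHom φ)
  let j := X.fromSpecStalk (genericPoint X)
  haveI : IsFinite c := (IsFinite.SpecMap_iff _).mpr hφ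
  have hfield : CAlg.IsNagata k := by
    refine ⟨inferInstance, fun p hp => ?_⟩
    intro L _ _ _ _ hfin
    have hbij : Function.Bijective (algebraMap (k ⧸ p) (FractionRing (k ⧸ p))) := by
      have hp0 : p = ⊥ := (Ideal.eq_bot_or_top p).resolve_right hp.ne_top
      haveI : p.IsMaximal := hp0 ▸ Ideal.bot_isMaximal
      exact (IsFractionRing.surjective_iff_isField.mpr ((Ideal.Quotient.maximal_ideal_iff_isField_quotient p).mp inferInstance)) |>
        fun h => ⟨IsFractionRing.injective _ _, h⟩
    haveI : Module.Finite (k ⧸ p) (FractionRing (k ⧸ p)) :=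
      Module.Finite.of_surjective (Algebra.linearMap (k ⧸ p) (FractionRing (k ⧸ p))) hbij.2
    haveI : Module.Finite (k ⧸ p) L := Module.Finite.trans (FractionRing (k ⧸ p)) L
    exact Module.Finite.of_injective (integralClosure (k ⧸ p) L).val.toLinearMap Subtype.val_injective
  have hX' : ∀ U : X.affineOpens, CAlg.IsNagata Γ(X, U) := fun U =>
    Groth.Agent.H12AlgSp.isNagata_affineOpens_of_lft (X ↘ Spec (CommRingCat.of k)) (fun A hA =>
      Groth.Agent.H8Props.NagataAffine.isNagata_affineOpen _ (fun _ : PUnit.{u+1} => (⊤ : Scheme.Opens _))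
        (iSup_const) (fun _ => isAffineOpen_top _) A hA fun _ =>
          Groth.Agent.H8Props.NagataAffine.isNagata_of_ringEquiv
            (Scheme.ΓSpecIso (CommRingCat.of k)).commRingCatIsoToRingEquiv.symm hfield) U.1 U.2
  have hlf : LocallyFinite (fun Z : ↥(irreducibleComponents ↥(Spec (CommRingCat.of K))) =>
      (Z : Set ↥(Spec (CommRingCat.of K)))) := by
    haveI : Finite ↥(irreducibleComponents ↥(Spec (CommRingCat.of K))) :=
      (TopologicalSpace.NoetherianSpace.finite_irreducibleComponents).to_subtype
    exact locallyFinite_of_finite _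
  have hfinite : IsFinite (c ≫ j).fromNormalization := by
    refine Groth.Agent.S9674.result _ hX' hlf fun x _ => RingHom.EssFiniteType.residueFieldMap ?_
    rw [Scheme.Hom.stalkMap_comp]
    exact RingHom.EssFiniteType.comp (RingHom.FiniteType.of_surjective (j.stalkMap (c x)).hom
      (j.stalkMap_surjective (c x))).essFiniteType (LocallyOfFiniteType.stalkMap c x)
  have hY : Pi1.IsNormalScheme (Spec (CommRingCat.of K)) :=
    fun y => by
      let e := ((IsLocalization.atUnits K y.asIdeal.primeCompl (fun a ha => isUnit_iff_ne_zero.mpr fun h => ha (h ▸ Ideal.zero_mem _))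
        (S := Localization.AtPrime y.asIdeal)).toRingEquiv.trans (Spec.stalkIso (CommRingCat.of K) y).symm.commRingCatIsoToRingEquiv)
      exact ⟨e.symm.toMulEquiv.isDomain, IsIntegrallyClosed.of_equiv e⟩
  obtain ⟨hN, -, hgen, huniq⟩ := Groth.Agent.S9673.result (c ≫ j) hY hlf
  refine ⟨hfinite, hN, fun x' hx' => ?_⟩
  let ν := (c ≫ j).fromNormalization
  haveI : IsFinite ν := hfinite
  have hcl : IsClosed ({ν x'} : Set X) := by
    rw [← Set.image_singleton]
    exact ν.isClosedMap _ hx'
  refine le_antisymm ((Groth.Agent.H12AlgSp.ringKrullDim_stalk_le_of_lqf ν x').trans_eq (hX _ hcl)) ?_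
  by_contra hlt
  have h0 : ringKrullDim ((c ≫ j).normalization.presheaf.stalk x') = 0 :=
    le_antisymm (by
      rw [not_le] at hlt
      rcases h : ringKrullDim ((c ≫ j).normalization.presheaf.stalk x') with _ | d
      · exact bot_le
      · rw [h] at hlt
        exact WithBot.coe_le_coe.mpr (ENat.lt_one_iff_eq_zero.mp (WithBot.coe_lt_coe.mp hlt)).le)
      ringKrullDim_nonneg_of_nontrivial
  have hx'g := (Groth.Agent.H12AlgSp.ringKrullDim_stalk_eq_zero_iff x').mp h0
  obtain ⟨y, ⟨-, hy⟩, -⟩ := huniq x' hx'g
  have hy' : ν x' = genericPoint X := by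
    rw [← hy]
    rw [← Scheme.Hom.comp_apply, Scheme.Hom.toNormalization_fromNormalization, Scheme.Hom.comp_apply]
    have : c y = IsLocalRing.closedPoint (X.functionField) := Subsingleton.elim _ _
    rw [this]
    exact Scheme.fromSpecStalk_closedPoint
  have h1 := hX _ hcl
  rw [hy'] at h1
  rw [show ringKrullDim (X.presheaf.stalk (genericPoint X)) = 0 from
    ringKrullDim_eq_zero_of_field X.functionField] at h1
  exact zero_ne_one h1

end Groth.Agent.S4454
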