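import Groth.Statements.S4459
-- import your own Groth.Agent.* helpers here

set_option autoImplicit false
universe u
open Coherent

namespace Groth.Agent.S4459




open AlgebraicGeometry CategoryTheory in
/-- Let A be a Noetherian ring which is separated and complete for the J-adic topology, and let f : X →
Spec A be a morphism of schemes which is a closed map on underlying spaces. Then every open subset
of X containing the inverse image of V(J) is all of X. (The published statement also assumes X of
finite type over A; that hypothesis is not used.) -/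
theorem result (A : Type u) [CommRing A] [IsNoetherianRing A]
    (J : Ideal A) [IsAdicComplete J A] {X : Scheme.{u}} (f : X ⟶ Spec (CommRingCat.of A))
    (hf : IsClosedMap f.base) (U : X.Opens)
    (hU : f.base ⁻¹' (PrimeSpectrum.zeroLocus (J : Set A)) ⊆ (U : Set X)) : U = ⊤ := by

  by_contra hne
  have hcne : ((U : Set X)ᶜ).Nonempty := by
    rw [Set.nonempty_compl]
    exact fun h => hne (TopologicalSpace.Opens.ext h)
  obtain ⟨y, hy⟩ := hcne.image f.base
  have hclosed : IsClosed (f.base '' (U : Set X)ᶜ) := hf _ U.isOpen.isClosed_compl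
  obtain ⟨m, hm, hle⟩ := Ideal.exists_le_maximal (y : PrimeSpectrum A).asIdeal
    (y : PrimeSpectrum A).isPrime.ne_top
  have hspec : y ⤳ (⟨m, hm.isPrime⟩ : PrimeSpectrum A) :=
    (PrimeSpectrum.le_iff_specializes (y : PrimeSpectrum A) ⟨m, hm.isPrime⟩).mp hle
  obtain ⟨x, hxU, hx⟩ := hspec.mem_closed hclosed hy
  have hJ : J ≤ m := (IsAdicComplete.le_jacobson_bot J).trans (sInf_le ⟨bot_le, hm⟩)
  refine hxU (hU ?_)
  show f.base x ∈ PrimeSpectrum.zeroLocus (J : Set A)
  rw [hx]
  exact hJ


end Groth.Agent.S4459
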