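import Groth.Statements.S4463
import Groth.Agent.H10ZMT.Stein
-- import your own Groth.Agent.* helpers here

set_option autoImplicit false
universe u
open Coherent

namespace Groth.Agent.S4463




open AlgebraicGeometry CategoryTheory in
/-- Stein factorisation. Let Y be locally Noetherian and f : X → Y proper, and let X → Y' → Y be its
Stein factorisation, Y' being the spectrum of the O_Y-algebra f_* O_X (realised here as the relative
normalization of Y in X, which is that spectrum because f_* O_X is integral over O_Y for f
universally closed). Then for every point y of Y the fibre of Y' → Y at y is finite, the map X_y →
Y'_y induced on fibres is surjective, and two points of X_y have the same image if and only if they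
lie in the same connected component of X_y: the connected components of X_y are in bijection with
the points of Y'_y. -/
theorem result {X Y : Scheme.{u}} (f : X ⟶ Y) [IsProper f]
    [IsLocallyNoetherian Y] (y : Y) :
    Finite ↥(f.fromNormalization.fiber y) ∧
    Function.Surjective (CohIII.fiberMapOver f.toNormalization f f.fromNormalization
        f.toNormalization_fromNormalization y).base ∧
    ∀ x x' : ↥(f.fiber y),
      (CohIII.fiberMapOver f.toNormalization f f.fromNormalization f.toNormalization_fromNormalization y).base x =
        (CohIII.fiberMapOver f.toNormalization f f.fromNormalization f.toNormalization_fromNormalization y).base x' ↔
      connectedComponent x = connectedComponent x' := by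

  exact H10ZMT.fiber_components f y


end Groth.Agent.S4463
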