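import Groth.Statements.S4464
import Groth.Agent.H10ZMT.FibrePrimes
import Groth.Agent.H10ZMT.Unibranch
-- import your own Groth.Agent.* helpers here

set_option autoImplicit false
universe u
open Coherent

namespace Groth.Agent.S4464




open AlgebraicGeometry CategoryTheory in
/-- Let X and Y be locally Noetherian integral schemes, f : X → Y a proper dominant morphism, and
suppose that the algebraic closure of the function field R(Y) in R(X) is purely inseparable over
R(Y): every element of R(X) satisfying a nonzero polynomial over R(Y) has a p^e-th power coming from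
R(Y), p being the characteristic exponent. Then for every point y of Y whose local ring is
unibranch, the fibre X_y is connected and nonempty. -/
theorem result {X Y : Scheme.{u}} [IsIntegral X]
    [IsIntegral Y] [IsLocallyNoetherian X] [IsLocallyNoetherian Y] (f : X ⟶ Y) [IsProper f]
    (hdom : f.base (genericPoint X) ⤳ genericPoint Y)
    (hrad : ∀ x : X.functionField,
      (∃ q : Polynomial Y.functionField, q ≠ 0 ∧
        Polynomial.eval₂ (CohIII.stalkToFunctionField f (genericPoint Y) hdom) x q = 0) →
      ∃ e : ℕ, x ^ (ringExpChar X.functionField ^ e) ∈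
        Set.range (CohIII.stalkToFunctionField f (genericPoint Y) hdom))
    (y : Y) (hy : CAlg2.IsUnibranch (Y.presheaf.stalk y)) :
    ConnectedSpace ↥(f.fiber y) := by

  have hgen := H10ZMT.apply_genericPoint f hdom
  have h : f.base (genericPoint X) ⤳ y :=
    hdom.trans ((genericPoint_spec Y).specializes (Set.mem_univ y))
  obtain ⟨-, Φ, hΦ⟩ := H10ZMT.exists_surjective_maximalSpectrum_components f y h
  have := H10ZMT.subsingleton_maximalSpectrum_integralClosureStalk f hdom hrad y h hy
  have hsub := hΦ.subsingleton
  obtain ⟨x, hx⟩ : y ∈ Set.range f := h.mem_closed f.isClosedMap.isClosed_range ⟨genericPoint X, rfl⟩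
  let x₀ : ↥(f.fiber y) := (f.fiberHomeo y).symm ⟨x, hx⟩
  rw [connectedSpace_iff_connectedComponent]
  exact ⟨x₀, Set.eq_univ_of_forall fun z =>
    ConnectedComponents.coe_eq_coe'.1 (@Subsingleton.elim _ hsub (_root_.ConnectedComponents.mk z) (_root_.ConnectedComponents.mk x₀))⟩


end Groth.Agent.S4464
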