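import Groth.Statements.S4465
import Groth.Agent.H10Coh.TwistSupp.Basic
-- import your own Groth.Agent.* helpers here

set_option autoImplicit false
universe u
open Coherent

namespace Groth.Agent.S4465

open AlgebraicGeometry CategoryTheory CategoryTheory.Limits in
/-- Let Y be a Noetherian scheme, f : X → Y a morphism of finite type, L an invertible O_X-module ample
relative to f and F → G → H a sequence of coherent O_X-modules which is exact at G, such that the
supports of F and of H are proper over Y. Then there is N such that for every n ≥ N the induced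
sequence f_*(F(n)) → f_*(G(n)) → f_*(H(n)) of O_Y-modules is exact, where M(n) = M ⊗ L^{⊗ n}. -/
theorem result {X Y : Scheme.{u}} (f : X ⟶ Y)
    [IsNoetherian Y] [LocallyOfFiniteType f] [QuasiCompact f] (L : X.Modules) (hL : PicF.IsInvertible L)
    (hamp : RelAmple.IsRelAmple f L) (C : ShortComplex X.Modules) (hC : C.Exact)
    (h1 : Coh.IsCoh C.X₁) (h2 : Coh.IsCoh C.X₂) (h3 : Coh.IsCoh C.X₃)
    (hs1 : ClSub.IsProperOver f (CohB1.support C.X₁)) (hs3 : ClSub.IsProperOver f (CohB1.support C.X₃)) :
    ∃ N : ℕ, ∀ n : ℕ, N ≤ n →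
      (C.map (DCoh.tensorRightMod (CohB1.tensorPow L n) ⋙ Coh.push f)).Exact := by
  exact H10Coh.TwistSupp.exists_exact_push f hL hamp C hC h1 h2 h3 hs1


end Groth.Agent.S4465
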