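import Groth.Statements.S4468
import Groth.Agent.H11Strict.ProjBirField

set_option autoImplicit false
universe u
open Coherent

namespace Groth.Agent.S4468

open AlgebraicGeometry CategoryTheory in
/-- Let k be a field, X and Y integral schemes projective over k (given with closed immersions into
projective spaces over k) and f : X → Y a birational k-morphism (it sends the generic point of X to
that of Y and induces a bijection between the function fields). Then X is Y-isomorphic to the
blow-up of Y in a closed subscheme: there is a quasi-coherent ideal sheaf I on Y such that f is a
blowing up of Y in I (universal property of the blow-up). -/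
theorem result (k : Type u) [Field k] {X Y : Scheme.{u}} [IsIntegral X] [IsIntegral Y]
    (a b : ℕ) (iX : X ⟶ CohB1.ProjSpace a k) [IsClosedImmersion iX] (iY : Y ⟶ CohB1.ProjSpace b k)
    [IsClosedImmersion iY] (f : X ⟶ Y)
    (hk : f ≫ iY ≫ CohB1.ProjSpace.toSpec b k = iX ≫ CohB1.ProjSpace.toSpec a k)
    (hgen : f.base (genericPoint X) = genericPoint Y)
    (hbir : Function.Bijective (f.residueFieldMap (genericPoint X)).hom) :
    ∃ I : Y.IdealSheafData, BlowUp.IsBlowUp f I := by
  exact H11Strict.BlowBir.exists_isBlowUp_of_projective a b iX iY f hk hgen hbir

end Groth.Agent.S4468
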