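import Groth.Statements.S4469
import Mathlib.RingTheory.ZariskisMainTheorem

set_option autoImplicit false
universe u
open CAlg

namespace Groth.Agent.S4469

/-- Let A be an integrally closed Noetherian local domain with field of fractions K, B an A-algebra of
finite type which is a domain with the same field of fractions (A → B → K compatible with A → K),
and 𝔫 a maximal ideal of B lying over the maximal ideal 𝔪 of A and minimal among the prime ideals of
B lying over 𝔪. Then B = A: the structure map A → B is bijective. -/
theorem result (A B K : Type u) [CommRing A]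
    [IsDomain A] [IsNoetherianRing A] [IsLocalRing A] [IsIntegrallyClosed A] [CommRing B] [IsDomain B]
    [Field K] [Algebra A B] [Algebra B K] [Algebra A K] [IsScalarTower A B K] [IsFractionRing A K]
    [IsFractionRing B K] [Algebra.FiniteType A B] (n : Ideal B) [n.IsMaximal]
    (hn : n.comap (algebraMap A B) = IsLocalRing.maximalIdeal A)
    (hmin : ∀ q : Ideal B, q.IsPrime → q.comap (algebraMap A B) = IsLocalRing.maximalIdeal A → q ≤ n → q = n) :
    Function.Bijective (algebraMap A B) := by

  have hBK : Function.Injective (algebraMap B K) := IsFractionRing.injective B K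
  have hAK : Function.Injective (algebraMap A K) := IsFractionRing.injective A K
  haveI : IsNoetherianRing B := Algebra.FiniteType.isNoetherianRing A B
  -- elements of `B` integral over `A` come from `A`
  have hint : ∀ x : B, IsIntegral A x → ∃ a, algebraMap A B a = x := by
    intro x hx
    obtain ⟨a, ha⟩ := IsIntegrallyClosed.algebraMap_eq_of_integral
      (hx.map (IsScalarTower.toAlgHom A B K))
    refine ⟨a, hBK ?_⟩
    rw [← IsScalarTower.algebraMap_apply, ha]
    rfl
  refine ⟨?_, ?_⟩
  · intro a b h
    apply hAK
    rw [IsScalarTower.algebraMap_apply A B K, h, ← IsScalarTower.algebraMap_apply]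
  · let q : PrimeSpectrum B := ⟨n, inferInstance⟩
    -- the other components of the fibre
    let J := (IsLocalRing.maximalIdeal A).map (algebraMap A B)
    have hfin := (J.finite_minimalPrimes_of_isNoetherianRing B)
    have hJn : J ≤ n := Ideal.map_le_iff_le_comap.mpr hn.ge
    classical
    let I : Ideal B := (hfin.toFinset.filter fun p => p ≠ n).inf id
    have hI : ¬ I ≤ n := by
      intro h
      obtain ⟨p, hp, hpn⟩ := (Ideal.IsPrime.inf_le' inferInstance).mp h
      simp only [Finset.mem_filter, Set.Finite.mem_toFinset, id] at hp hpn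
      haveI := hp.1.1.1
      refine hp.2 (hmin p inferInstance (le_antisymm ?_ ?_) hpn)
      · exact hn ▸ Ideal.comap_mono hpn
      · exact Ideal.map_le_iff_le_comap.mp hp.1.1.2
    obtain ⟨f, hfI, hfn⟩ := SetLike.not_le_iff_exists.mp hI
    have hopen : IsOpen (X := PrimeSpectrum.comap (algebraMap A B) ⁻¹'
        {q.comap (algebraMap A B)}) {⟨q, rfl⟩} := by
      rw [isOpen_induced_iff]
      refine ⟨PrimeSpectrum.basicOpen f, (PrimeSpectrum.basicOpen f).isOpen, ?_⟩
      ext ⟨p, hp⟩
      simp only [Set.mem_preimage, Set.mem_singleton_iff, Subtype.mk.injEq]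
      constructor
      · intro hfp
        have hJp : J ≤ p.asIdeal := by
          rw [Ideal.map_le_iff_le_comap]
          have := congrArg PrimeSpectrum.asIdeal (Set.mem_singleton_iff.mp hp)
          simp only [PrimeSpectrum.comap_asIdeal] at this
          rw [this]
          exact hn.ge
        obtain ⟨p0, hp0, hp0p⟩ := Ideal.exists_minimalPrimes_le hJp
        by_cases h0 : p0 = n
        · subst h0
          exact PrimeSpectrum.ext ((Ideal.IsMaximal.eq_of_le inferInstance p.isPrime.ne_top hp0p).symm)
        · exact absurd (hp0p (Finset.inf_le (f := id)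
            (Finset.mem_filter.mpr ⟨hfin.mem_toFinset.mpr hp0, h0⟩) hfI)) hfp
      · rintro rfl
        exact hfn
    haveI := Algebra.QuasiFiniteAt.of_isOpen_singleton_fiber q hopen
    obtain ⟨r, hrn, hr, H⟩ := Algebra.zariskisMainProperty_iff.mp
      (Algebra.ZariskisMainProperty.of_finiteType (R := A) n)
    obtain ⟨a, rfl⟩ := hint r hr
    have ha : IsUnit a := by
      rw [← IsLocalRing.notMem_maximalIdeal, ← hn]
      exact hrn
    intro x
    obtain ⟨k, hk⟩ := H x
    obtain ⟨c, hc⟩ := hint _ hk
    refine ⟨(ha.unit⁻¹ : Aˣ) ^ k * c, ?_⟩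
    rw [map_mul, hc, map_pow, ← mul_assoc, ← mul_pow, ← map_mul, IsUnit.val_inv_mul, map_one,
      one_pow, one_mul]

end Groth.Agent.S4469
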