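import Groth.Statements.S4470
import Groth.Agent.H06RAmple.Main
import Groth.Agent.H11Norm.RelDescent

set_option autoImplicit false
universe u
open Coherent

namespace Groth.Agent.S4470

open AlgebraicGeometry CategoryTheory in
/-- Let Y be a Noetherian scheme, f : X → Y a morphism of finite type, g : X' → X a finite surjective
morphism, L an invertible O_X-module and L' = g^* L. Suppose there is a subset Z of X, proper over
Y, such that for every point x of X outside Z either the local ring of X at x is an integrally
closed domain or the stalk of g_* O_{X'} at x is a free module over that local ring. Then L is ample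
relative to f if and only if L' is ample relative to g ≫ f. -/
theorem result {X X' Y : Scheme.{u}} (f : X ⟶ Y)
    [IsNoetherian Y] [LocallyOfFiniteType f] [QuasiCompact f] (g : X' ⟶ X) [IsFinite g] [Surjective g]
    (L : X.Modules) (hL : PicF.IsInvertible L) (Z : Set X) (hZ : ClSub.IsProperOver f Z)
    (hreg : ∀ x : X, x ∉ Z →
      (IsDomain (X.presheaf.stalk x) ∧ IsIntegrallyClosed (X.presheaf.stalk x)) ∨
        Module.Free (X.presheaf.stalk x) (((Coh.push g).obj (Coh.structureModule X')).presheaf.stalk x)) :
    RelAmple.IsRelAmple f L ↔ RelAmple.IsRelAmple (g ≫ f) ((Scheme.Modules.pullback g).obj L) := by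
  refine ⟨H11Ample.isRelAmple_pullback_of_isQuasiAffine (H11Norm.isQuasiAffine_of_isAffineHom g), fun hA => ?_⟩
  obtain ⟨hZc, hZp⟩ := hZ
  haveI : IsLocallyNoetherian X := LocallyOfFiniteType.isLocallyNoetherian f
  exact H06RAmple.isRelAmple_of_finite f g hL ⟨Z, hZc⟩ hZp
    (fun x hx => (hreg x hx).imp_right fun h => H06RAmple.exists_flat_of_free_stalk g x h) hA

end Groth.Agent.S4470
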