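import Groth.Statements.S4471
import Groth.Agent.H22Alg.PB.Vanish
-- import your own Groth.Agent.* helpers here

set_option autoImplicit false
set_option linter.style.haveILetI false
universe u
open Coherent

namespace Groth.Agent.S4471


open Groth.Agent.H11Tilde
open TopologicalSpace
attribute [local instance] HasDerivedCategory.standard
attribute [local instance 10000] Groth.Agent.H10Coh.hasSheafifyAb Groth.Agent.H10Coh.hasWeakSheafifyAb Groth.Agent.H10Coh.hasExtAb Groth.Agent.H10Coh.enoughInjAb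
attribute [local instance] Groth.Agent.H10Coh.enoughInjMod


open AlgebraicGeometry CategoryTheory in
/-- The case of the trivial bundle of rank r+1, i.e. projective r-space over Y; vanishing assertion. Let
Y be a scheme, r ≥ 0, f : P^r_Y → Y the structure morphism and d an integer. Then R^i f_* O(d) = 0
(higher direct image of the underlying abelian sheaf of the twisting sheaf) except possibly when i =
0 and d ≥ 0, or i = r and d ≤ -(r+1). -/
theorem result (Y : Scheme.{u}) (r : ℕ) (i : ℕ) (d : ℤ)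
    (h : ¬ ((i = 0 ∧ 0 ≤ d) ∨ (i = r ∧ d ≤ -((r : ℤ) + 1)))) :
    Limits.IsZero ((Coh.RpushAb (CohB1.ProjSpaceOver.toBase r Y) i).obj (Coh.toAb (Twist.twistOver r Y d))) := by

  have hn : ¬ (i = r ∧ d ≤ -((r : ℤ) + 1)) := fun h' => h (Or.inr h')
  have h₀ : ¬ (i = 0 ∧ 0 ≤ d) := fun h' => h (Or.inl h')
  have key : ∀ V ∈ H10Coh.affB Y,
      Subsingleton (H10Coh.HnM (Twist.twistOver r Y d) i (KRR.pr r Y ⁻¹ᵁ V)) := fun V hV =>
    H22Alg.PB.subsingleton_hnm_twistOver hV h₀ hn
  cases i with
  | zero =>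
    refine Limits.IsZero.of_iso ?_ ((Coh.pushAb (KRR.pr r Y)).rightDerivedZeroIsoSelf.app _)
    refine (H10Coh.shF Y).map_isZero (X := (Scheme.Modules.pushforward (KRR.pr r Y)).obj (Twist.twistOver r Y d)) ?_
    rw [Limits.IsZero.iff_id_eq_zero]
    refine Scheme.Modules.hom_ext _ _ fun V => ConcreteCategory.hom_ext _ _ fun s => ?_
    change s = (0 : Γ((Scheme.Modules.pushforward (KRR.pr r Y)).obj (Twist.twistOver r Y d), V))
    refine eq_of_locally _ _ fun x hx => ?_
    obtain ⟨U, hU, hxU, hUV⟩ := Opens.isBasis_iff_nbhd.1 (H10Coh.isBasis_affB Y) (show x ∈ V from hx)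
    refine ⟨U, hUV, hxU, ?_⟩
    haveI := key U hU
    have h : Subsingleton Γ((Scheme.Modules.pushforward (KRR.pr r Y)).obj (Twist.twistOver r Y d), U) :=
      (H10Coh.H0Equiv (H10Coh.sh (Twist.twistOver r Y d)) (KRR.pr r Y ⁻¹ᵁ U)).toEquiv.symm.subsingleton
    exact @Subsingleton.elim _ h _ _
  | succ m => exact H10Coh.isZero_rpush_of_vanishing (KRR.pr r Y).base _ m _ (H10Coh.isBasis_affB Y) key


end Groth.Agent.S4471
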