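import Groth.Statements.S4472
import Groth.Agent.S4464
import Groth.Agent.H26Blow.Proper
import Groth.Agent.H29Blow.MaxPoints
import Groth.Agent.H10ZMT.UnibranchEquiv
-- import your own Groth.Agent.* helpers here

set_option autoImplicit false
universe u
open Coherent

namespace Groth.Agent.S4472

open AlgebraicGeometry CategoryTheory in
/-- Let A be a unibranch Noetherian local domain (a local domain whose integral closure is a local ring)
with maximal ideal m, let 𝔞 be an ideal of definition of A (𝔞 ⊆ m and m^p ⊆ 𝔞 for some p), and let b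
: X → Spec A be a blowing up of Spec A in the ideal sheaf defined by 𝔞. Then the fibre of b over the
closed point is preconnected. Its underlying space is that of Proj of the associated graded ring ⊕
𝔞^i/𝔞^(i+1), so this says that Proj is connected (possibly empty). -/
theorem result (A : Type u) [CommRing A] [IsDomain A]
    [IsNoetherianRing A] [IsLocalRing A] (hA : CAlg2.IsUnibranch A) (𝔞 : Ideal A)
    (hle : 𝔞 ≤ IsLocalRing.maximalIdeal A)
    (hpow : ∃ p : ℕ, IsLocalRing.maximalIdeal A ^ p ≤ 𝔞) {X : Scheme.{u}}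
    (b : X ⟶ Spec (CommRingCat.of A))
    (hb : BlowUp.IsBlowUp b
      (Scheme.IdealSheafData.ofIdealTop (𝔞.map (Scheme.ΓSpecIso (CommRingCat.of A)).inv.hom))) :
    PreconnectedSpace ↥(b.fiber (IsLocalRing.closedPoint A)) := by
  set J := Scheme.IdealSheafData.ofIdealTop (𝔞.map (Scheme.ΓSpecIso (CommRingCat.of A)).inv.hom)
  have : IsProper b := H26Blow.isProper_of_isBlowUp hb fun x => by
    obtain ⟨_, ⟨U, hU, rfl⟩, hx, -⟩ := (Spec (CommRingCat.of A)).isBasis_affineOpens.exists_subset_of_mem_open
      (Set.mem_univ x) isOpen_univ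
    have := IsLocallyNoetherian.component_noetherian (X := Spec (CommRingCat.of A)) ⟨U, hU⟩
    exact ⟨⟨U, hU⟩, hx, IsNoetherian.noetherian _⟩
  rcases isEmpty_or_nonempty ↥X with hX | hX
  · have : IsEmpty ↥(b.fiber (IsLocalRing.closedPoint A)) :=
      Function.isEmpty (b.fiberι (IsLocalRing.closedPoint A))
    exact ⟨by rw [Set.eq_empty_of_isEmpty Set.univ]; exact isPreconnected_empty⟩
  obtain ⟨ξ, hξ⟩ : ∃ ξ : X, ∀ y : X, y ⤳ ξ → y = ξ := by
    obtain ⟨ξ, -, hξ⟩ := _root_.H29Blow.exists_maximal_generization hX.some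
    exact ⟨ξ, hξ⟩
  have hbij := _root_.H29Blow.bijOn_maximalPoints hb
  have hmax : ∀ z : X, (∀ y : X, y ⤳ z → y = z) → b z = genericPoint (Spec (CommRingCat.of A)) :=
    fun z hz => ((hbij.mapsTo hz).1 _ ((genericPoint_spec _).specializes (Set.mem_univ _))).symm
  have huniq : ∀ z : X, ξ ⤳ z := fun z => by
    obtain ⟨ζ, hζz, hζ⟩ := _root_.H29Blow.exists_maximal_generization z
    exact (hbij.injOn hξ hζ ((hmax ξ hξ).trans (hmax ζ hζ).symm)) ▸ hζz
  have : IrreducibleSpace ↥X := by
    have h1 : closure {ξ} = (Set.univ : Set X) :=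
      Set.eq_univ_of_forall fun z => (huniq z).mem_closure
    exact { isPreirreducible_univ := h1 ▸ isIrreducible_singleton.closure.2, toNonempty := hX }
  have : IsReduced X := _root_.H29Blow.isReduced_blowUp hb
  have : IsIntegral X := isIntegral_of_irreducibleSpace_of_isReduced X
  have : IsLocallyNoetherian X := LocallyOfFiniteType.isLocallyNoetherian b
  have hgen : b (genericPoint X) = genericPoint (Spec (CommRingCat.of A)) :=
    hmax _ fun y hy => (hy.antisymm ((genericPoint_spec X).specializes (Set.mem_univ y))).eq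
  have hdom : b.base (genericPoint X) ⤳ genericPoint (Spec (CommRingCat.of A)) :=
    Inseparable.specializes (Inseparable.of_eq hgen)
  let W : (Spec (CommRingCat.of A)).Opens := ⟨(J.support : Set ↥(Spec (CommRingCat.of A)))ᶜ, J.support.isClosed.isOpen_compl⟩
  have hηW : genericPoint (Spec (CommRingCat.of A)) ∈ W := by
    show _ ∉ (J.support : Set ↥(Spec (CommRingCat.of A)))
    rw [← hgen]
    exact (hbij.mapsTo fun y hy => (hy.antisymm ((genericPoint_spec X).specializes (Set.mem_univ y))).eq).2
  have : IsIso (b ∣_ W) := _root_.H29Blow.isIso_morphismRestrict hb W fun x hx => hx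
  have hst : IsIso (b.stalkMap (genericPoint X)) := by
    have hξW : genericPoint X ∈ b ⁻¹ᵁ W := (show b (genericPoint X) ∈ W from hgen.symm ▸ hηW)
    exact ((MorphismProperty.isomorphisms CommRingCat).arrow_mk_iso_iff
      (morphismRestrictStalkMap b W ⟨genericPoint X, hξW⟩)).1
      (MorphismProperty.isomorphisms.infer_property _)
  have hy : CAlg2.IsUnibranch ((Spec (CommRingCat.of A)).presheaf.stalk (IsLocalRing.closedPoint A)) := by
    let e := IsLocalization.atUnits A (IsLocalRing.closedPoint A).asIdeal.primeCompl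
      (S := (Spec.structureSheaf A).presheaf.stalk (IsLocalRing.closedPoint A)) fun a ha => by
        exact IsLocalRing.notMem_maximalIdeal.1 ha
    exact H10ZMT.isUnibranch_of_ringEquiv e.toRingEquiv hA
  have hconn := Groth.Agent.S4464.result b hdom (fun x _ => ⟨0, ?_⟩) (IsLocalRing.closedPoint A) hy
  · exact hconn.toPreconnectedSpace
  rw [pow_zero, pow_one]
  obtain ⟨z, rfl⟩ := (ConcreteCategory.bijective_of_isIso (b.stalkMap (genericPoint X))).2 x
  obtain ⟨U, hU, a, rfl⟩ := (Spec (CommRingCat.of A)).presheaf.exists_germ_eq z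
  have hη : genericPoint (Spec (CommRingCat.of A)) ∈ U := hgen ▸ hU
  exact ⟨(Spec (CommRingCat.of A)).presheaf.germ U _ hη a,
    (H10ZMT.stalkToFunctionField_germ b hdom U hη hU a).trans
      congr($(Scheme.Hom.germ_stalkMap b U (genericPoint X) hU) a).symm⟩

end Groth.Agent.S4472
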