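import Groth.Statements.S4475
import Groth.Agent.H02CA.KoszTop
import Groth.Agent.H29Slice.SmoothSection
import Groth.Agent.S5776

set_option autoImplicit false
universe u
open Koszul3

namespace Groth.Agent.S4475
open CategoryTheory CategoryTheory.Limits MvPolynomial H02CA

section Poly

variable (A : Type u) [CommRing A] (r : ℕ)

local notation "S" => MvPolynomial (Fin (r + 1)) A

/-- The variables. -/
noncomputable abbrev Xs : List S := List.ofFn fun j : Fin (r + 1) => (MvPolynomial.X j : S)

/-- The exponent `(n, …, n)`. -/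
noncomputable abbrev all (n : ℕ) : Fin (r + 1) →₀ ℕ := Finsupp.equivFunOnFinite.symm fun _ => n

theorem prod_pow_Xs (n : ℕ) : (Xs A r).prod ^ n = monomial (all r n) 1 := by
  rw [Xs, List.prod_ofFn, monomial_eq, C_1, one_mul, ← Finset.prod_pow, Finsupp.prod_fintype _ _
    (fun i => pow_zero _)]
  rfl

theorem mem_ideal_iff (n : ℕ) (x : S) :
    x ∈ Ideal.ofList ((Xs A r).map (· ^ n)) • (⊤ : Submodule S (ModuleCat.of S S)) ↔
      ∀ e ∈ x.support, ∃ i, n ≤ e i := by
  have h : Ideal.ofList ((Xs A r).map (· ^ n)) =
      Ideal.span ((fun s => monomial s (1 : A)) '' Set.range fun i : Fin (r + 1) => Finsupp.single i n) := by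
    refine congrArg Ideal.span (Set.ext fun p => ?_)
    simp only [Xs, List.map_ofFn, Set.mem_setOf_eq, List.mem_ofFn, Set.mem_image, Set.mem_range,
      exists_exists_eq_and, Function.comp_apply, X_pow_eq_monomial]
  change x ∈ Ideal.ofList ((Xs A r).map (· ^ n)) * (⊤ : Ideal S) ↔ _
  rw [Ideal.mul_top, h, mem_ideal_span_monomial_image]
  simp only [Set.mem_range, exists_exists_eq_and, Finsupp.single_le_iff]

theorem isWeaklyRegular_Xs_pow (n : ℕ) (hn : 1 ≤ n) :
    RingTheory.Sequence.IsWeaklyRegular S ((Xs A r).map (· ^ n)) := by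
  have h := H29Slice.isWeaklyRegular_X_append A (r + 1) (RingTheory.Sequence.IsWeaklyRegular.nil A A)
  rw [List.map_nil, List.append_nil] at h
  have h2 := S5776.result S S (r + 1) (fun j => (MvPolynomial.X j : S)) (fun _ => n) (fun _ => hn) h
  simpa [Xs, List.map_ofFn, Function.comp_def] using h2

theorem subsingleton_lim (i : ℕ) (hi : i ≠ r + 1) :
    Subsingleton (CohIII.koszulHLim (Xs A r) (ModuleCat.of S S) i) := by
  refine subsingleton_of_forall_eq 0 fun x => ?_
  obtain ⟨n, y, rfl⟩ := Module.DirectLimit.exists_of
    (G := fun n : ℕ => (CohIII.koszulHPow (Xs A r) (ModuleCat.of S S) i n : Type u)) x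
  have h := Kosz.isZero_homology_of_weaklyRegular ((Xs A r).map (· ^ (n + 1))) S
    (isWeaklyRegular_Xs_pow A r (n + 1) (by omega)) ((i : ℤ) - (Xs A r).length) (by simp [Xs]; omega)
  have := ModuleCat.subsingleton_of_isZero h
  refine (Module.DirectLimit.of_f (hij := Nat.le_succ n)).symm.trans ?_
  exact (congrArg _ (@Subsingleton.elim _ this _ 0)).trans (map_zero _)

theorem free_of_colim {G : ℕ → Type u} [∀ n, AddCommGroup (G n)] [∀ n, Module S (G n)]
    (tr : ∀ n m, n ≤ m → (G n →ₗ[S] G m)) [DirectedSystem G (fun n m h => tr n m h)]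
    (ψ : ∀ n, S →ₗ[S] G n) (hψ : ∀ n, Function.Surjective (ψ n))
    (hψ0 : ∀ n x, ψ n x = 0 ↔ ∀ e ∈ x.support, ∃ i, n ≤ e i)
    (htr : ∀ n m (h : n ≤ m) x, tr n m h (ψ n x) = ψ m (monomial (all r (m - n)) 1 * x)) :
    Module.Free A (RestrictScalars A S (Module.DirectLimit G tr)) := by
  classical
  let L := Module.DirectLimit G tr
  let of' : ∀ n, S →+ RestrictScalars A S L := fun n =>
    (((RestrictScalars.addEquiv A S L).symm.toAddMonoidHom).comp
      (Module.DirectLimit.of S ℕ G tr n).toAddMonoidHom).comp (ψ n).toAddMonoidHom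
  have hsmul : ∀ n (a : A) (x : S), of' n (C a * x) = a • of' n x := fun n a x => by
    change (RestrictScalars.addEquiv A S L).symm (Module.DirectLimit.of S ℕ G tr n (ψ n ((C a : S) • x))) = _
    rw [map_smul, map_smul]
    rfl
  have hcompat : ∀ n m (_ : n ≤ m) x, of' n x = of' m (monomial (all r (m - n)) 1 * x) :=
    fun n m h x => by
      change (RestrictScalars.addEquiv A S L).symm (Module.DirectLimit.of S ℕ G tr n (ψ n x)) =
        (RestrictScalars.addEquiv A S L).symm (Module.DirectLimit.of S ℕ G tr m (ψ m _))
      rw [← htr n m h x, Module.DirectLimit.of_f]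
  let top : (Fin (r + 1) →₀ ℕ) → ℕ := fun a => (Finset.univ.sup fun i => a i) + 1
  have htop : ∀ a i, a i < top a := fun a i =>
    Nat.lt_succ_of_le (Finset.le_sup (f := fun i => a i) (Finset.mem_univ i))
  let b : ℕ → (Fin (r + 1) →₀ ℕ) → (Fin (r + 1) →₀ ℕ) := fun n a => all r (n - 1) - a
  have hb : ∀ n m (_ : n ≤ m) a, (∀ i, a i < n) → all r (m - n) + b n a = b m a := fun n m h a ha => by
    ext i
    simp only [b, all, Finsupp.add_apply, Finsupp.tsub_apply, Finsupp.coe_equivFunOnFinite_symm]
    have := ha i
    omega
  let v : (Fin (r + 1) →₀ ℕ) → RestrictScalars A S L := fun a => of' (top a) (monomial (b (top a) a) 1)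
  have hv : ∀ n a, (∀ i, a i < n) → v a = of' n (monomial (b n a) 1) := fun n a ha => by
    have h1 : ∀ m, top a ≤ m → of' (top a) (monomial (b (top a) a) 1) = of' m (monomial (b m a) 1) :=
      fun m hm => by rw [hcompat _ _ hm, monomial_mul, one_mul, hb _ _ hm a (htop a)]
    rw [show v a = _ from h1 (max n (top a)) (le_max_right _ _), hcompat n _ (le_max_left _ (top a)),
      monomial_mul, one_mul, hb _ _ (le_max_left _ _) a ha]
  let Φ := Finsupp.linearCombination A v
  have hbij : Function.Bijective Φ := by
    refine ⟨(injective_iff_map_eq_zero Φ).2 fun c hc => ?_, fun y => ?_⟩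
    · let N := c.support.sup top
      have hN : ∀ a ∈ c.support, ∀ i, a i < N := fun a ha i =>
        lt_of_lt_of_le (htop a i) (Finset.le_sup (f := top) ha)
      let x : S := ∑ a ∈ c.support, monomial (b N a) (c a)
      have hx : Φ c = of' N x := by
        rw [Finsupp.linearCombination_apply, Finsupp.sum, map_sum]
        refine Finset.sum_congr rfl fun a ha => ?_
        rw [hv N a (hN a ha), ← hsmul, C_mul_monomial, mul_one]
      rw [hx] at hc
      have h0 : Module.DirectLimit.of S ℕ G tr N (ψ N x) = 0 :=
        (RestrictScalars.addEquiv A S L).symm.injective (hc.trans (map_zero _).symm)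
      obtain ⟨m, hm, e⟩ := Module.DirectLimit.of.zero_exact h0
      rw [htr, hψ0, Finset.mul_sum] at e
      ext a
      rw [Finsupp.zero_apply]
      by_contra ha
      have ha' : a ∈ c.support := Finsupp.mem_support_iff.2 ha
      have hco : coeff (b m a) (∑ a' ∈ c.support, monomial (all r (m - N)) 1 * monomial (b N a') (c a')) = c a := by
        rw [coeff_sum, Finset.sum_eq_single a]
        · rw [monomial_mul, one_mul, hb N m hm a (hN a ha'), coeff_monomial, if_pos rfl]
        · intro a' ha'' hne
          rw [monomial_mul, one_mul, hb N m hm a' (hN a' ha''), coeff_monomial, if_neg]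
          intro heq
          refine hne (Finsupp.ext fun i => ?_)
          have := congrArg (fun e : Fin (r + 1) →₀ ℕ => e i) heq
          simp only [b, all, Finsupp.tsub_apply, Finsupp.coe_equivFunOnFinite_symm] at this
          have := hN a ha' i
          have := hN a' ha'' i
          omega
        · exact fun h => absurd ha' h
      obtain ⟨i, hi⟩ := e (b m a) (by rw [mem_support_iff, hco]; exact ha)
      simp only [b, all, Finsupp.tsub_apply, Finsupp.coe_equivFunOnFinite_symm] at hi
      have := hN a ha' i
      omega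
    · obtain ⟨n, g, hg⟩ := Module.DirectLimit.exists_of (RestrictScalars.addEquiv A S L y)
      obtain ⟨x, rfl⟩ := hψ n g
      have hy : y = of' n x :=
        (RestrictScalars.addEquiv A S L).injective (hg.symm.trans (AddEquiv.apply_symm_apply _ _).symm)
      rw [hy]
      change of' n x ∈ Set.range Φ
      have hmem : of' n x ∈ LinearMap.range Φ := by
        rw [← x.support_sum_monomial_coeff, map_sum]
        refine Submodule.sum_mem _ fun e _ => ?_
        by_cases he : ∃ i, n ≤ e i
        · have h0 : ψ n (monomial e (coeff e x)) = 0 := (hψ0 n _).2 fun e' he' => by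
            rw [Finset.mem_singleton.1 (support_monomial_subset he')]
            exact he
          change (RestrictScalars.addEquiv A S L).symm
            (Module.DirectLimit.of S ℕ G tr n (ψ n (monomial e (coeff e x)))) ∈ _
          rw [h0, map_zero, map_zero]
          exact Submodule.zero_mem _
        · push Not at he
          refine ⟨Finsupp.single (b n e) (coeff e x), ?_⟩
          have hlt : ∀ i, b n e i < n := fun i => by
            simp only [b, all, Finsupp.tsub_apply, Finsupp.coe_equivFunOnFinite_symm]
            have := he i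
            omega
          rw [Finsupp.linearCombination_single, hv n _ hlt, ← hsmul, C_mul_monomial, mul_one]
          refine congrArg (fun e' => of' n (monomial e' (coeff e x))) (Finsupp.ext fun i => ?_)
          have := he i
          simp only [b, all, Finsupp.tsub_apply, Finsupp.coe_equivFunOnFinite_symm]
          omega
      exact hmem
  exact Module.Free.of_equiv (LinearEquiv.ofBijective Φ hbij)

theorem free_top (i : ℕ) (hi : (i : ℤ) - (Xs A r).length = 0) :
    Module.Free A (RestrictScalars A S (CohIII.koszulHLim (Xs A r) (ModuleCat.of S S) i)) := by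
  change Module.Free A (RestrictScalars A S (Module.DirectLimit
    (fun n : ℕ => ((CohIII.koszulCx (ModuleCat.of S S) ((Xs A r).map (· ^ n))).homology
      ((i : ℤ) - (Xs A r).length) : Type u))
    fun n m h => (HomologicalComplex.homologyMap
      (CohIII.koszulTrans (ModuleCat.of S S) n m h (Xs A r)) ((i : ℤ) - (Xs A r).length)).hom))
  rw [hi]
  have := KTop.directedSystem (ModuleCat.of S S) (Xs A r) 0
  refine free_of_colim A r _ (fun n => KTop.topCls (ModuleCat.of S S) ((Xs A r).map (· ^ n)))
    (fun n => KTop.topCls_surjective _ _) (fun n x => ?_) (fun n m h x => ?_)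
  · exact (KTop.topCls_eq_zero_iff (ModuleCat.of S S) ((Xs A r).map (· ^ n)) x).trans (mem_ideal_iff A r n x)
  · refine (KTop.map_topCls (ModuleCat.of S S) (Xs A r) n m h x).trans ?_
    rw [prod_pow_Xs]
    rfl

end Poly


open CategoryTheory CategoryTheory.Limits in
/-- Let A be a ring, S = A[T_0, …, T_r] the polynomial ring and T = (T_0, …, T_r). Then the direct-limit
Koszul cohomology H^i((T), S), the colimit over n of the Koszul cohomologies H^i(T^n, S), vanishes
for every i ≠ r + 1, and H^(r+1)((T), S) is a free A-module (the source gives an explicit basis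
indexed by the monomials with all exponents positive). -/
theorem result (A : Type u) [CommRing A] (r : ℕ) :
    (∀ i : ℕ, i ≠ r + 1 →
      Subsingleton (CohIII.koszulHLim (List.ofFn (fun j : Fin (r + 1) => (MvPolynomial.X j : MvPolynomial (Fin (r + 1)) A)))
        (ModuleCat.of (MvPolynomial (Fin (r + 1)) A) (MvPolynomial (Fin (r + 1)) A)) i)) ∧
    Module.Free A (RestrictScalars A (MvPolynomial (Fin (r + 1)) A)
      (CohIII.koszulHLim (List.ofFn (fun j : Fin (r + 1) => (MvPolynomial.X j : MvPolynomial (Fin (r + 1)) A)))
        (ModuleCat.of (MvPolynomial (Fin (r + 1)) A) (MvPolynomial (Fin (r + 1)) A)) (r + 1))) := by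
  exact ⟨fun i hi => subsingleton_lim A r i hi, free_top A r (r + 1) (by simp [Xs])⟩

end Groth.Agent.S4475
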