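import Groth.Statements.S4476
import Groth.Agent.H10Coh.FibreLift.Points
import Groth.Agent.H9Hens.FinitePartScheme
import Groth.Agent.H29Omega.ConormalSplit
-- import your own Groth.Agent.* helpers here

set_option autoImplicit false
universe u
attribute [local instance] HasDerivedCategory.standard
open Coherent

namespace Groth.Agent.S4476

attribute [local instance 10000] Groth.Agent.H10Coh.hasSheafifyAb Groth.Agent.H10Coh.hasWeakSheafifyAb Groth.Agent.H10Coh.hasExtAb Groth.Agent.H10Coh.enoughInjAb
open AlgebraicGeometry CategoryTheory Groth.Agent.LeadBC Groth.Agent.H10Coh.FibreLift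


open AlgebraicGeometry CategoryTheory in
/-- Over a local base. Let A be a Noetherian local ring with closed point y, X a scheme proper and flat
over Spec A, F and G finite locally free O_X-modules and F_y, G_y their restrictions (module
pullbacks) to the closed fibre X_y. Assume that the internal Hom functor Hom(F_y, −) exists as the
right adjoint of F_y ⊗ − and that H^1(X_y, Hom(F_y, G_y)) = 0. Then every morphism u₀ : F_y → G_y is
the restriction to X_y of a morphism u : F → G; moreover for every such u, if u₀ is a monomorphism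
(resp. an epimorphism) then u is a monomorphism (resp. an epimorphism). (Over a general locally
Noetherian base the published statements give u on the inverse image of a neighbourhood of y; over
the spectrum of a local ring that neighbourhood is the whole base.) -/
theorem result (A : Type u) [CommRing A] [IsNoetherianRing A]
    [IsLocalRing A] (X : Scheme.{u}) [X.Over (Spec (CommRingCat.of A))]
    [IsProper (X ↘ Spec (CommRingCat.of A))] [Flat (X ↘ Spec (CommRingCat.of A))]
    (F G : X.Modules) (hF : FlatMod.IsFinLocFree F) (hG : FlatMod.IsFinLocFree G)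
    [DCoh.HasSheafHom (CohIII.fiberMod (X ↘ Spec (CommRingCat.of A)) F (IsLocalRing.closedPoint A))]
    (h1 : Subsingleton (Coh.HH ((X ↘ Spec (CommRingCat.of A)).fiber (IsLocalRing.closedPoint A))
      ((DCoh.sheafHom (CohIII.fiberMod (X ↘ Spec (CommRingCat.of A)) F (IsLocalRing.closedPoint A))).obj
        (CohIII.fiberMod (X ↘ Spec (CommRingCat.of A)) G (IsLocalRing.closedPoint A))) 1))
    (u₀ : CohIII.fiberMod (X ↘ Spec (CommRingCat.of A)) F (IsLocalRing.closedPoint A) ⟶
      CohIII.fiberMod (X ↘ Spec (CommRingCat.of A)) G (IsLocalRing.closedPoint A)) :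
    (∃ u : F ⟶ G,
      (Scheme.Modules.pullback ((X ↘ Spec (CommRingCat.of A)).fiberι (IsLocalRing.closedPoint A))).map u = u₀) ∧
    ∀ u : F ⟶ G,
      (Scheme.Modules.pullback ((X ↘ Spec (CommRingCat.of A)).fiberι (IsLocalRing.closedPoint A))).map u = u₀ →
        (Mono u₀ → Mono u) ∧ (Epi u₀ → Epi u) := by
  let f := X ↘ Spec (CommRingCat.of A)
  let y : ↑(Spec (CommRingCat.of A)) := IsLocalRing.closedPoint A
  letI : (f.fiber y).Over (Spec (CommRingCat.of (resK y))) := ⟨f.fiberToSpecResidueField y⟩
  have hsq : IsPullback (f.fiberι y) ((f.fiber y) ↘ Spec (CommRingCat.of (resK y))) f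
      (Spec.map (CommRingCat.ofHom (algebraMap A (resK y)))) := fiber_isPullback y
  haveI : DCoh.HasSheafHom (qF (f.fiberι y) F) := ‹_›
  obtain ⟨a, ha, u, hu⟩ := exists_hom_lift hsq (isFrac_resK y) hF hG h1 u₀
  have hau : IsUnit a := by
    by_contra hn
    exact ha ((map_eq_zero_iff (kToResK y) (kToResK y).injective).2
      (Ideal.algebraMap_residueField_eq_zero.2 ((IsLocalRing.mem_maximalIdeal a).2 hn)))
  obtain ⟨b, hb⟩ := hau.exists_left_inv
  refine ⟨?_, fun v hv => ?_⟩
  · obtain ⟨u', hu'⟩ := exists_smul_lift hsq hF hG b u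
    refine ⟨u', H10Coh.SheafHom.ofHom_injective (hu'.trans ?_)⟩
    rw [hu, smul_smul, ← map_mul, ← map_mul, hb, map_one, map_one]
    exact one_smul _ _
  haveI : IsLocallyNoetherian X := LocallyOfFiniteType.isLocallyNoetherian f
  have hFq := H8Props.FinLocFree.isQCoh_of_isFinLocFree F hF
  have hGq := H8Props.FinLocFree.isQCoh_of_isFinLocFree G hG
  have hFt := H29Fitt.isFT_of_isFP _ (H8Props.FinLocFree.isFP_of_isFinLocFree F hF)
  have hGt := H29Fitt.isFT_of_isFP _ (H8Props.FinLocFree.isFP_of_isFinLocFree G hG)
  have hfib : ∀ x : X, ∃ z : f.fiber y, x ⤳ f.fiberι y z := fun x => by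
    obtain ⟨x₀, hx, hx₀⟩ := H9Hens.exists_specializes_closedPoint f x
    obtain ⟨z, rfl⟩ : x₀ ∈ Set.range (f.fiberι y) := by rw [f.range_fiberι]; exact hx₀
    exact ⟨z, hx⟩
  constructor
  · intro _
    haveI : Mono ((Scheme.Modules.pullback (f.fiberι y)).map v) := by rw [hv]; infer_instance
    refine H29Omega.mono_of_injective_stalkLin v fun x => ?_
    obtain ⟨z, hz⟩ := hfib x
    exact injective_stalk_of_specializes hFq hGq v hz (injective_stalk_of_fibre f hFt
      (H10Coh.SheafHom.isFlatOver_of_isFinLocFree f G hG) v y z (injective_stalkLin_of_mono _ z))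
  · intro _
    haveI : Epi ((Scheme.Modules.pullback (f.fiberι y)).map v) := by rw [hv]; infer_instance
    refine H29Omega.epi_of_surjective_stalkLin v fun x => ?_
    obtain ⟨z, hz⟩ := hfib x
    exact surjective_stalk_of_specializes hFq hGq v hz
      (surjective_stalk_of_fibre f hGt v y z (H06Mod.surjective_stalk_of_epi _ z))

end Groth.Agent.S4476
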