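import Groth.Statements.S4479
import Groth.Agent.H02CA.GrCech
import Groth.Agent.H02CA.ExtCechRingIso
import Groth.Agent.H11Tilde.QCoh

set_option autoImplicit false
universe u
open Koszul3

namespace Groth.Agent.S4479
open CategoryTheory CategoryTheory.Limits TopologicalSpace AlgebraicGeometry Opposite H02CA

theorem spec_side (A : Type u) [CommRing A] (fs : List A) (M : Type u) [AddCommGroup M] [Module A M] (k : ℕ) :
    Nonempty (CohB1.cechH (X := Spec (CommRingCat.of A))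
        (GrCech.US (fun i : ULift.{u} (Fin fs.length) => fs.get i.down))
        (GrCech.Mt (A := A) (M := M)) (k + 1) ≃+
      CohIII.koszulHLim fs (ModuleCat.of A M) (k + 2)) := by
  let R := CommRingCat.of A
  let σ : A →+* Γ(Spec R, ⊤) := (Scheme.ΓSpecIso R).inv.hom
  let f := fun i : ULift.{u} (Fin fs.length) => fs.get i.down
  let g : ULift.{u} (Fin fs.length) → Γ(Spec R, ⊤) := fun i => σ (f i)
  let Mt := AlgebraicGeometry.tilde (R := R) (ModuleCat.of A M)
  have hU : CM.U g = GrCech.US f := funext fun i => basicOpen_eq_of_affine (R := R) (f i)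
  haveI : Coh.IsQCoh Mt := inferInstance
  haveI : Mt.IsQuasicoherent := inferInstanceAs (Coh.IsQCoh Mt)
  obtain ⟨e₀⟩ := CM.nonempty_cechH_succ g Mt k
  obtain ⟨e₁⟩ := CM.nonempty_extCech_equiv g Mt (fs := fs.map σ)
    (fun i => List.mem_map_of_mem (fs.get_mem i.down))
    (fun x hx => by
      obtain ⟨a, ha, rfl⟩ := List.mem_map.1 hx
      obtain ⟨j, hj⟩ := List.get_of_mem ha
      exact ⟨⟨j⟩, congrArg σ hj⟩) ((k + 2 : ℕ) : ℤ)
  let t := (AlgebraicGeometry.tilde.isoTop (R := R) (ModuleCat.of A M)).toLinearEquiv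
  obtain ⟨e₂⟩ := RingIso.nonempty_extCechH_equiv σ (ModuleCat.of A M)
    (ModuleCat.of Γ(Spec R, ⊤) (Mt.val.obj (op ⊤))) (t.toAddEquiv.toAddMonoidHom)
    (fun a x => by
      refine (t.map_smul a x).trans ?_
      refine (AlgebraicGeometry.Scheme.Modules.smul_Spec_def a (t x)).trans ?_
      have h := CM.ρ_top (X := Spec R) (σ a)
      exact congrArg (· • (show Γ(Mt, ⊤) from t x)) h)
    t.bijective fs ((k + 2 : ℕ) : ℤ)
  obtain ⟨e₃⟩ := KEC.nonempty_koszulHLim_equiv (ModuleCat.of A M) fs (k + 2)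
  rw [hU] at e₀
  exact ⟨((e₀.trans e₁.toAddEquiv.symm).trans e₂.symm).trans e₃.toAddEquiv.symm⟩


open AlgebraicGeometry CategoryTheory in
/-- For a graded module concentrated in nonnegative degrees. Let S be a nonnegatively graded ring, f_1,
…, f_r homogeneous elements of S of positive degrees, M a graded S-module, X = Proj S and U ⊆ X the
union of the opens D_+(f_i). Then for every p ≥ 1 the direct sum over all integers n of the groups
H^p(U, M(n)~|_U) is isomorphic, as an additive group, to the direct-limit Koszul cohomology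
H^(p+1)((f), M), the colimit over m of the Koszul cohomologies H^(p+1)(f^m, M) of M as an S-module.
(The source's isomorphism is canonical and of degree 0 for the gradings; only the existence of an
additive isomorphism is asserted.) -/
theorem result {R A : Type u} [CommRing R] [CommRing A]
    [Algebra R A] (𝒜 : ℕ → Submodule R A) [GradedAlgebra 𝒜] (fs : List A)
    (hfs : ∀ a ∈ fs, ∃ d : ℕ, 0 < d ∧ a ∈ 𝒜 d) {M : Type u} [AddCommGroup M] [Module R M] [Module A M]
    [IsScalarTower R A M] (ℳ : ℕ → Submodule R M) [DirectSum.Decomposition ℳ] [SetLike.GradedSMul 𝒜 ℳ]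
    (p : ℕ) (hp : 1 ≤ p) :
    Nonempty (DirectSum ℤ (fun n : ℤ => Coh.HHon (Proj 𝒜) (GrTilde.tilde 𝒜 ℳ n)
        (⨆ i : Fin fs.length, Proj.basicOpen 𝒜 (fs.get i)) p) ≃+
      CohIII.koszulHLim fs (ModuleCat.of A M) (p + 1)) := by
  obtain ⟨k, rfl⟩ := Nat.exists_eq_add_of_le' hp
  choose dg hdg using hfs
  let f := fun i : ULift.{u} (Fin fs.length) => fs.get i.down
  let deg := fun i : ULift.{u} (Fin fs.length) => dg (fs.get i.down) (fs.get_mem i.down)
  have hdeg : ∀ i, 0 < deg i := fun i => (hdg _ (fs.get_mem i.down)).1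
  have hf : ∀ i, f i ∈ 𝒜 (deg i) := fun i => (hdg _ (fs.get_mem i.down)).2
  obtain ⟨e₁⟩ := H02CA.CechSum.nonempty_directSum_cechH (GrCech.UP 𝒜 f) (GrCech.US f)
    (fun n => (GrTilde.tilde 𝒜 ℳ n).presheaf) (GrCech.Mt (A := A) (M := M)).presheaf
    (GrCech.φ 𝒜 ℳ hdeg hf) (GrCech.φ_d 𝒜 ℳ hdeg hf) (GrCech.bijective_φ 𝒜 ℳ hdeg hf) k
  obtain ⟨e₂⟩ := spec_side A fs M k
  have hV : (⨆ i, GrCech.UP 𝒜 f i) = ⨆ i : Fin fs.length, Proj.basicOpen 𝒜 (fs.get i) :=
    le_antisymm (iSup_le fun i => le_iSup (fun j => Proj.basicOpen 𝒜 (fs.get j)) i.down)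
      (iSup_le fun j => le_iSup (GrCech.UP 𝒜 f) ⟨j⟩)
  have he : ∀ n : ℤ, Nonempty (Coh.HHon (Proj 𝒜) (GrTilde.tilde 𝒜 ℳ n)
      (⨆ i : Fin fs.length, Proj.basicOpen 𝒜 (fs.get i)) (k + 1) ≃+
      (CohTop.cechH (GrTilde.tilde 𝒜 ℳ n).presheaf (GrCech.UP 𝒜 f) (k + 1) : Type u)) := fun n => by
    haveI : (GrTilde.tilde 𝒜 ℳ n).IsQuasicoherent := H11Tilde.tilde_isQuasicoherent 𝒜 ℳ n
    obtain ⟨a⟩ := H10Coh.nonempty_cechH_HnM (GrCech.UP 𝒜 f) (GrTilde.tilde 𝒜 ℳ n) (fun q a => by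
      change IsAffineOpen (H15Site.CechTop.cap (GrCech.UP 𝒜 f) a)
      rw [GrCech.capP_eq]
      exact Proj.isAffineOpen_basicOpen 𝒜 _ (GrCech.G_mem 𝒜 hf a) (GrCech.D_pos hdeg a)) (k + 1)
    obtain ⟨b⟩ := CM.nonempty_HHon_HnM (GrTilde.tilde 𝒜 ℳ n) (⨆ i, GrCech.UP 𝒜 f i) (k + 1)
    rw [hV] at a b
    exact ⟨b.trans a.symm⟩
  exact ⟨((DFinsupp.mapRange.addEquiv fun n => (he n).some).trans e₁).trans e₂⟩

end Groth.Agent.S4479
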