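import Groth.Statements.S4480
import Groth.Agent.H10ZMT.Normal
-- import your own Groth.Agent.* helpers here

set_option autoImplicit false
universe u
open Coherent

namespace Groth.Agent.S4480

open AlgebraicGeometry CategoryTheory

open AlgebraicGeometry CategoryTheory in
/-- Let X and Y be locally Noetherian integral schemes and f : X → Y a proper dominant morphism such
that the function field R(Y) is algebraically closed in R(X) (every element of R(X) satisfying a
nonzero polynomial over R(Y) comes from R(Y)). Let y be a point of Y whose local ring is integrally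
closed (a normal point). Then the fibre X_y is geometrically connected over the residue field of y
(its base change to every field extension of that residue field is connected and nonempty; in
particular X_y is connected and nonempty), and there is an open neighbourhood U of y such that
O_Y(V) → O_X(f⁻¹V) is an isomorphism for every open V ⊆ U. -/
theorem result {X Y : Scheme.{u}}
    [IsIntegral X] [IsIntegral Y] [IsLocallyNoetherian X] [IsLocallyNoetherian Y] (f : X ⟶ Y) [IsProper f]
    (hdom : f.base (genericPoint X) ⤳ genericPoint Y)
    (halg : ∀ x : X.functionField,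
      (∃ q : Polynomial Y.functionField, q ≠ 0 ∧
        Polynomial.eval₂ (CohIII.stalkToFunctionField f (genericPoint Y) hdom) x q = 0) →
      x ∈ Set.range (CohIII.stalkToFunctionField f (genericPoint Y) hdom))
    (y : Y) (hy : IsIntegrallyClosed (Y.presheaf.stalk y)) :
    GeometricallyConnected (f.fiberToSpecResidueField y) ∧
      ∃ U : Y.Opens, y ∈ U ∧ ∀ V : Y.Opens, V ≤ U → IsIso (f.app V) := by
  obtain ⟨U, hU, hyU, hbij⟩ := H10ZMT.exists_affine_bijective_app f hdom halg y hy
  have : IsAffine (U : Scheme) := hU
  have himg : ∀ (g : Y.Opens) (hg : g = U), Function.Bijective (f.app g) := by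
    rintro g rfl; exact hbij
  have hg : ∀ W : (U : Scheme).Opens, IsIso ((f ∣_ U).app W) := by
    have htop : Function.Bijective ((f ∣_ U).app ⊤) := by
      rw [morphismRestrict_app]
      exact (ConcreteCategory.bijective_of_isIso
        (X.presheaf.map (eqToHom (image_morphismRestrict_preimage f U ⊤)).op)).comp
          (himg _ U.ι_image_top)
    refine H10ZMT.isIso_app_of_basis (f ∣_ U) (fun A => ∃ t, A = (U : Scheme).basicOpen (U := ⊤) t)
      (fun x W hx => ?_) ?_
    · obtain ⟨t, ht, hxt⟩ := (isAffineOpen_top (U : Scheme)).exists_basicOpen_le (V := W) ⟨x, hx⟩ trivial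
      exact ⟨_, ⟨t, rfl⟩, hxt, ht⟩
    · rintro _ ⟨t, rfl⟩
      exact H10ZMT.bijective_app_basicOpen (f ∣_ U) (isAffineOpen_top _) htop t
  refine ⟨?_, U, hyU, fun V hV => ?_⟩
  · have := H10ZMT.geometricallyConnected (f ∣_ U) fun W _ => hg W
    have hsub : Set.range (Y.fromSpecResidueField y) ⊆ Set.range U.ι := by
      rw [Scheme.range_fromSpecResidueField, Scheme.Opens.range_ι, Set.singleton_subset_iff]
      exact hyU
    let j := IsOpenImmersion.lift U.ι (Y.fromSpecResidueField y) hsub
    have hj : j ≫ U.ι = Y.fromSpecResidueField y := IsOpenImmersion.lift_fac _ _ _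
    have big : IsPullback (Limits.pullback.snd f (Y.fromSpecResidueField y))
        (Limits.pullback.fst f (Y.fromSpecResidueField y)) (j ≫ U.ι) f := by
      rw [hj]
      exact (IsPullback.of_hasPullback _ _).flip
    obtain ⟨l, hl, hl'⟩ := (isPullback_morphismRestrict f U).exists_lift
      (Limits.pullback.snd f (Y.fromSpecResidueField y) ≫ j)
      (Limits.pullback.fst f (Y.fromSpecResidueField y))
      (by rw [Category.assoc, hj]; exact Limits.pullback.condition.symm)
    refine MorphismProperty.of_isPullback (P := @GeometricallyConnected) (f := j) (g := f ∣_ U) (f' := l) ?_ this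
    rw [← hl'] at big
    exact (IsPullback.of_bot big hl.symm (isPullback_morphismRestrict f U)).flip
  · have h1 := hg (U.ι ⁻¹ᵁ V)
    rw [morphismRestrict_app] at h1
    have h2 := @IsIso.of_isIso_comp_right _ _ _ _ _ (f.app (U.ι ''ᵁ (U.ι ⁻¹ᵁ V)))
      (X.presheaf.map (eqToHom (image_morphismRestrict_preimage f U (U.ι ⁻¹ᵁ V))).op) inferInstance h1
    have h3 : U.ι ''ᵁ (U.ι ⁻¹ᵁ V) = V := by
      rw [Scheme.Hom.image_preimage_eq_opensRange_inf, Scheme.Opens.opensRange_ι, inf_eq_right.2 hV]
    exact h3 ▸ h2

end Groth.Agent.S4480
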