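import Groth.Statements.S4481
import Groth.Agent.H10Coh.CechAffine
import Groth.Agent.H10Coh.QcqsPush
-- import your own Groth.Agent.* helpers here

set_option autoImplicit false
universe u
open Coherent

namespace Groth.Agent.S4481

open TopologicalSpace Opposite Groth.Agent.H15Site

/-- Čech exactness transfers along a map of opens compatible with finite intersections. -/
theorem isZero_cechH_transfer {X Y : TopCat.{u}} {ι : Type u} (U : ι → Opens X) (W : ι → Opens Y)
    (φ : Opens Y → Opens X) (hφ : Monotone φ)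
    (hcap : ∀ (n : ℕ) (a : Fin (n + 1) → ι), CechTop.cap U a = φ (CechTop.cap W a))
    (P : TopCat.Presheaf AddCommGrpCat.{u} X) (Q : TopCat.Presheaf AddCommGrpCat.{u} Y)
    (e : ∀ V : Opens Y, Q.obj (op V) ≃+ P.obj (op (φ V)))
    (he : ∀ {V V' : Opens Y} (h : V' ≤ V) (z : Q.obj (op V)),
      e V' (CechTop.res Q h z) = CechTop.res P (hφ h) (e V z))
    {n : ℕ} (hQ : CategoryTheory.Limits.IsZero (CohTop.cechH Q W (n + 1))) : CategoryTheory.Limits.IsZero (CohTop.cechH P U (n + 1)) := by
  refine CechTop.isZero_cechH_succ U P fun x hx => ?_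
  obtain ⟨x', hx'⟩ := CechTop.exists_proj_eq W Q
    fun a : Fin (n + 2) → ι => (e _).symm (CechTop.res P (hcap _ a).ge ((CechTop.proj U P a).hom x))
  have hclosed : (CechTop.d W Q (n + 1)).hom x' = 0 := by
    refine CechTop.hom_ext W Q fun c => (e _).injective ?_
    rw [map_zero, map_zero, CechTop.proj_d, map_sum]
    have h := congrArg (fun y => CechTop.res P (hcap _ c).ge ((CechTop.proj U P c).hom y)) hx
    simp only [map_zero] at h
    rw [CechTop.proj_d, map_sum] at h
    refine Eq.trans (Finset.sum_congr rfl fun j _ => ?_) h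
    rw [map_zsmul, map_zsmul, he, hx', AddEquiv.apply_symm_apply, CechTop.res_res, CechTop.res_res]
  obtain ⟨y', hy'⟩ := CechTop.exists_of_isZero_cechH_succ W Q hQ x' hclosed
  obtain ⟨y, hy⟩ := CechTop.exists_proj_eq U P
    fun a : Fin (n + 1) → ι => CechTop.res P (hcap _ a).le (e _ ((CechTop.proj W Q a).hom y'))
  refine ⟨y, CechTop.hom_ext U P fun c => ?_⟩
  have h := congrArg (fun z => CechTop.res P (hcap _ c).le (e _ ((CechTop.proj W Q c).hom z))) hy'
  rw [CechTop.proj_d, map_sum, map_sum, hx', AddEquiv.apply_symm_apply, CechTop.res_res, CechTop.res_self] at h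
  rw [CechTop.proj_d]
  refine Eq.trans (Finset.sum_congr rfl fun j _ => ?_) h
  rw [map_zsmul, map_zsmul, he, hy, CechTop.res_res, CechTop.res_res]


open AlgebraicGeometry CategoryTheory Opposite in
/-- Let X be a separated scheme, f_1, …, f_n global functions on X such that every open X_{f_i} is
quasi-compact, U the union of the X_{f_i}, and suppose there are sections g_1, …, g_n of O_X over U
with Σ g_i · (f_i|_U) = 1. Then for every quasi-coherent O_X-module G and every p > 0 the Čech
cohomology group of G in degree p with respect to the family of opens (X_{f_i}) is zero. (The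
published statement also covers a scheme whose underlying space is Noetherian, not necessarily
separated; this row treats separated X.) -/
theorem result (X : Scheme.{u}) [X.IsSeparated] (n : ℕ)
    (f : Fin n → Γ(X, ⊤)) (hqc : ∀ i, IsCompact (X.basicOpen (f i) : Set X))
    (g : Fin n → Γ(X, ⨆ i, X.basicOpen (f i)))
    (hg : (Finset.univ.sum fun i => g i *
      (X.presheaf.map (homOfLE (le_top : (⨆ i, X.basicOpen (f i)) ≤ ⊤)).op).hom (f i)) = 1)
    (G : X.Modules) [Coh.IsQCoh G] (p : ℕ) (hp : 0 < p) :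
    Limits.IsZero (CohB1.cechH (fun i : ULift.{u} (Fin n) => X.basicOpen (f i.down)) G p) := by
  classical
  haveI : G.IsQuasicoherent := ‹Coh.IsQCoh G›
  obtain ⟨m, rfl⟩ := Nat.exists_eq_succ_of_ne_zero hp.ne'
  let U₀ : X.Opens := ⨆ i, X.basicOpen (f i)
  haveI : CompactSpace U₀.toScheme := isCompact_iff_compactSpace.1 (by
    show IsCompact ((⨆ i, X.basicOpen (f i) : X.Opens) : Set X)
    rw [Opens.coe_iSup]
    exact isCompact_iUnion hqc)
  let π := U₀.toSpecΓ
  haveI : U₀.toScheme.IsSeparated := Scheme.IsSeparated.mk (by rw [show CategoryTheory.Limits.terminal.from U₀.toScheme = U₀.ι ≫ CategoryTheory.Limits.terminal.from X from CategoryTheory.Limits.terminal.hom_ext _ _]; infer_instance)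
  haveI : QuasiSeparated π := inferInstance
  haveI : (G.restrict U₀.ι).IsQuasicoherent := Scheme.Modules.isQuasicoherent_restrictFunctor U₀.ι G
  let M := (Scheme.Modules.pushforward π).obj (G.restrict U₀.ι)
  haveI : M.IsQuasicoherent := Groth.Agent.H10Coh.isQuasicoherent_pushforward π _
  let gR : ULift.{u} (Fin n) → Γ(X, U₀) := fun i => (X.presheaf.map (homOfLE (le_top : U₀ ≤ ⊤)).op).hom (f i.down)
  let W : ULift.{u} (Fin n) → (Spec Γ(X, U₀)).Opens := fun i => PrimeSpectrum.basicOpen (gR i)
  have hspan : Ideal.span (Set.range gR) = ⊤ := by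
    rw [Ideal.eq_top_iff_one, ← hg]
    exact sum_mem fun i _ => Ideal.mul_mem_left _ _ (Ideal.subset_span ⟨⟨i⟩, rfl⟩)
  let φ : (Spec Γ(X, U₀)).Opens → X.Opens := fun V => U₀.ι ''ᵁ (π ⁻¹ᵁ V)
  have hφ : Monotone φ := fun V V' h => Scheme.Hom.image_mono U₀.ι (Scheme.Hom.preimage_mono π h)
  have hW : ∀ i, φ (W i) = X.basicOpen (f i.down) := fun i => by
    show U₀.ι ''ᵁ (π ⁻¹ᵁ PrimeSpectrum.basicOpen (gR i)) = _
    rw [Scheme.Opens.toSpecΓ_preimage_basicOpen, Scheme.Hom.image_preimage_eq_opensRange_inf,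
      Scheme.Opens.opensRange_ι, Scheme.basicOpen_res, ← inf_assoc, inf_idem]
    exact inf_eq_right.2 (le_iSup (fun j => X.basicOpen (f j)) i.down)
  have hcap : ∀ (q : ℕ) (a : Fin (q + 1) → ULift.{u} (Fin n)),
      CechTop.cap (fun i : ULift.{u} (Fin n) => X.basicOpen (f i.down)) a = φ (CechTop.cap W a) := fun q a => by
    refine le_antisymm (fun x hx => ?_) (le_iInf fun k => (hφ (iInf_le _ k)).trans (hW _).le)
    have hx' : ∀ k, x ∈ φ (W (a k)) := fun k => (hW _).ge ((iInf_le (fun k => X.basicOpen (f (a k).down)) k) hx)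
    obtain ⟨y, -, rfl⟩ := hx' 0
    refine ⟨y, ?_, rfl⟩
    show π y ∈ ((⨅ k, W (a k) : (Spec Γ(X, U₀)).Opens) : Set _)
    rw [Opens.coe_iInf, Set.mem_iInter]
    intro k
    obtain ⟨y', hy', hyy⟩ := hx' k
    exact U₀.ι.isOpenEmbedding.injective hyy ▸ hy'
  have hM : CategoryTheory.Limits.IsZero (CohTop.cechH M.presheaf W (m + 1)) := by
    have hiso := (isQuasicoherent_iff_isIso_fromTildeΓ M).mp inferInstance
    let α : tilde ((moduleSpecΓFunctor (R := Γ(X, U₀))).obj M) ≅ M := @asIso _ _ _ _ M.fromTildeΓ hiso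
    exact (Groth.Agent.H10Coh.isZero_cechH_tilde Γ(X, U₀) _ gR hspan m.succ_pos).of_iso
      (HomologicalComplex.homologyMapIso (((cechComplexFunctor W).mapIso
        ((Scheme.Modules.toPresheaf (Spec Γ(X, U₀))).mapIso α.symm))) (m + 1))
  exact isZero_cechH_transfer (fun i : ULift.{u} (Fin n) => X.basicOpen (f i.down)) W φ hφ hcap G.presheaf M.presheaf
    (fun V => AddEquiv.refl _) (fun h z => rfl) hM

end Groth.Agent.S4481
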