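import Groth.Statements.S4482
import Groth.Agent.H10Coh.GrEuler.Basic
import Mathlib.RingTheory.Adjoin.Basic
-- import your own Groth.Agent.* helpers here

set_option autoImplicit false
set_option linter.style.haveILetI false
universe u
open CategoryTheory AlgebraicGeometry
open CategoryTheory AlgebraicGeometry
open Coherent

namespace Groth.Agent.S4482

open AlgebraicGeometry CategoryTheory in
/-- Let A be an Artinian local ring, S a graded A-algebra with S_0 the image of A, generated by r+1
elements of degree one spanning S_1, M a finitely generated graded S-module (graded in nonnegative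
degrees) and X = Proj S. Then there is N such that for every n ≥ N the Euler characteristic of the
module M(n)~, namely the alternating sum over 0 ≤ j ≤ r of the lengths of the A-modules H^j(X,
M(n)~), equals the length of the A-module M_n. -/
theorem result {A S : Type u} [CommRing A] [IsArtinianRing A]
    [IsLocalRing A] [CommRing S] [Algebra A S] (𝒜 : ℕ → Submodule A S) [GradedAlgebra 𝒜]
    (h0 : ∀ s ∈ 𝒜 0, s ∈ Set.range (algebraMap A S)) (r : ℕ) (g : Fin (r + 1) → S)
    (hg1 : ∀ i, g i ∈ 𝒜 1) (hspan : Submodule.span A (Set.range g) = 𝒜 1)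
    (hgen : Algebra.adjoin A (Set.range g) = ⊤) {M : Type u} [AddCommGroup M] [Module A M] [Module S M]
    [IsScalarTower A S M] [Module.Finite S M] (ℳ : ℕ → Submodule A M) [DirectSum.Decomposition ℳ]
    [SetLike.GradedSMul 𝒜 ℳ] :
    ∃ N : ℕ, ∀ n : ℕ, N ≤ n →
      ((Finset.range (r + 1)).sum fun j => (-1 : ℤ) ^ j *
          ((Module.length A (Coh.HH (Proj 𝒜) (GrTilde.tilde 𝒜 ℳ (n : ℤ)) j)).toNat : ℤ)) =
        ((Module.length A ↥(ℳ n)).toNat : ℤ) := by
  classical
  haveI : Algebra.FiniteType A S := ⟨⟨Finset.univ.image g, by simpa using hgen⟩⟩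
  haveI : IsNoetherianRing S := Algebra.FiniteType.isNoetherianRing A S
  have hirr : (HomogeneousIdeal.irrelevant 𝒜).toIdeal = Ideal.span (𝒜 1 : Set S) := by
    refine le_antisymm ?_ (Ideal.span_le.2 fun a ha => HomogeneousIdeal.mem_irrelevant_of_mem 𝒜 Nat.one_pos ha)
    refine (Groth.Agent.H11Proj.irrelevant_le_span_of_adjoin_eq_top (E := Set.range g) 𝒜
      (by rintro _ ⟨i, rfl⟩; exact ⟨1, Nat.one_pos, hg1 i⟩) ?_).trans
      (Ideal.span_mono (by rintro _ ⟨i, rfl⟩; exact hg1 i))
    rw [eq_top_iff]
    intro x _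
    refine Algebra.adjoin_induction (p := fun y _ => y ∈ Algebra.adjoin (𝒜 0) (Set.range g))
      (fun y hy => Algebra.subset_adjoin hy) (fun a => ?_)
      (fun _ _ _ _ h h' => Subalgebra.add_mem _ h h') (fun _ _ _ _ h h' => Subalgebra.mul_mem _ h h')
      (hgen.ge (Algebra.mem_top (x := x)))
    exact Subalgebra.algebraMap_mem (Algebra.adjoin (𝒜 0) (Set.range g)) (algebraMap A (𝒜 0) a)
  exact Groth.Agent.H10Coh.GrEuler.exists_euler_eq 𝒜 ℳ hirr r

end Groth.Agent.S4482
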