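import Groth.Statements.S4483
import Groth.Agent.H22Alg.PB.Vanish
import Groth.Agent.H10Coh.SerreVanishing2
import Mathlib

set_option autoImplicit false
universe u
open Coherent

namespace Groth.Agent.S4483

open AlgebraicGeometry CategoryTheory in
/-- Let Y be a scheme, E a locally free O_Y-module of rank r+1, and (π : P → Y, O(1), q : π^*E → O(1)) a
projective bundle P(E) of E, characterised by its universal property; let L be an O_P-module with L
⊗ O(1) ≅ O_P, playing the role of O(-1). Then the higher direct images R^i π_* O(n) vanish except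
possibly for i = 0, n ≥ 0 and for i = r, n ≤ -(r+1): precisely, R^i π_*(O(1)^{⊗ n}) = 0 for all n ≥
0 and i ≠ 0, and R^i π_*(L^{⊗ m}) = 0 for all m ≥ 1 and all i unless i = r and m ≥ r + 1 (higher
direct images of the underlying abelian sheaves). -/
theorem result {Y P : Scheme.{u}} (π : P ⟶ Y) (r : ℕ)
    (E : Y.Modules) (hE : FlatMod.IsFinLocFreeOfRank (r + 1) E) (O1 : P.Modules)
    (q : (Scheme.Modules.pullback π).obj E ⟶ O1) (hP : KRR.IsProjBundle π E O1 q)
    (L : P.Modules) (hL : ClSub.IsInverseOf L O1) :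
    (∀ (n i : ℕ), i ≠ 0 → Limits.IsZero ((Coh.RpushAb π i).obj (Coh.toAb (CohB1.tensorPow O1 n)))) ∧
    (∀ (m i : ℕ), 1 ≤ m → ¬ (i = r ∧ r + 1 ≤ m) →
      Limits.IsZero ((Coh.RpushAb π i).obj (Coh.toAb (CohB1.tensorPow L m)))) := by
  have hO1 := Groth.Agent.H22Alg.PB.isInvertible_of_rank_one hP.invertible
  have hπ := Groth.Agent.H22Alg.PB.isPn_of_isProjBundle hE hP
  let O := Groth.Agent.H22Alg.PB.pw hO1
  have hO : Groth.Agent.H10Coh.Stab.IsTwistFamily O := hπ.tw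
  obtain ⟨e1⟩ := Groth.Agent.H22Alg.PB.nonempty_pw_one hO1
  have hneg : Groth.Agent.H10Coh.Stab.IsTwistFamily fun a => O (-a) :=
    ⟨fun a => hO.inv (-a), by rw [neg_zero]; exact hO.zero, fun a b => by rw [neg_add]; exact hO.add (-a) (-b)⟩
  have hL1 : Nonempty (O (-1) ≅ L) := by
    obtain ⟨eL⟩ := hL
    obtain ⟨eadd⟩ := hO.add 1 (-1)
    obtain ⟨e0⟩ := hO.zero
    let a : CohB1.tensorMod L (CohB1.tensorMod (O 1) (O (-1))) ≅ L :=
      PicGrp.tensorModIso (Iso.refl L) (eadd ≪≫ eqToIso (congrArg O (add_neg_cancel 1)) ≪≫ e0) ≪≫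
        Groth.Agent.H10Coh.Tw.commIso _ _ ≪≫ Groth.Agent.H22Alg.RegSheaf.leftUnit L
    exact ⟨(Groth.Agent.H22Alg.RegSheaf.leftUnit (O (-1))).symm ≪≫
      PicGrp.tensorModIso (eL.symm ≪≫ PicGrp.tensorModIso (Iso.refl L) e1.symm)
        (Iso.refl (O (-1))) ≪≫ Groth.Agent.H10Coh.Tw.assoc L (O 1) (O (-1)) ≪≫ a⟩
  obtain ⟨eN⟩ := hL1
  constructor
  · intro n i hi
    obtain ⟨a⟩ := hO.nonempty_tensorPow n
    let b := Groth.Agent.H10Coh.Tw.tensorPowIso e1 n
    refine Groth.Agent.H22Alg.PB.Van.of_iso (a.symm ≪≫ b) (hπ.van_O (fun h => hi h.1) ?_)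
    rintro ⟨-, h⟩
    omega
  · intro m i hm hi
    obtain ⟨a⟩ := hneg.nonempty_tensorPow m
    let b := Groth.Agent.H10Coh.Tw.tensorPowIso eN m
    refine Groth.Agent.H22Alg.PB.Van.of_iso (a.symm ≪≫ b) (hπ.van_O (fun h => ?_) fun h => hi ⟨h.1, ?_⟩)
    · have := h.2; omega
    · have := h.2; omega

end Groth.Agent.S4483
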