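import Groth.Statements.S4484
import Groth.Agent.H10ZMT.FibrePrimes
import Groth.Agent.H10ZMT.SepDegree
-- import your own Groth.Agent.* helpers here

set_option autoImplicit false
universe u
open Coherent

namespace Groth.Agent.S4484

open AlgebraicGeometry CategoryTheory

open AlgebraicGeometry CategoryTheory in
/-- Let X and Y be locally Noetherian integral schemes and f : X → Y a proper dominant morphism; regard
the function field R(X) as an extension of R(Y) through f. Suppose that the algebraic closure of
R(Y) in R(X) has finite separable degree n over R(Y). Then for every point y of Y whose local ring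
is unibranch, the fibre X_y has finitely many, and at most n, connected components. -/
theorem result {X Y : Scheme.{u}} [IsIntegral X]
    [IsIntegral Y] [IsLocallyNoetherian X] [IsLocallyNoetherian Y] (f : X ⟶ Y) [IsProper f]
    (hdom : f.base (genericPoint X) ⤳ genericPoint Y) [Algebra Y.functionField X.functionField]
    (halg : algebraMap Y.functionField X.functionField = CohIII.stalkToFunctionField f (genericPoint Y) hdom)
    (n : ℕ) (hn0 : 0 < n)
    (hn : Field.finSepDegree Y.functionField ↥(algebraicClosure Y.functionField X.functionField) = n)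
    (y : Y) (hy : CAlg2.IsUnibranch (Y.presheaf.stalk y)) :
    Finite (_root_.ConnectedComponents ↥(f.fiber y)) ∧
      Nat.card (_root_.ConnectedComponents ↥(f.fiber y)) ≤ n := by
  let R := Y.presheaf.stalk y
  let F := Y.functionField
  let K := X.functionField
  have hspec : genericPoint Y ⤳ y := (genericPoint_spec Y).specializes (Set.mem_univ _)
  have h : f.base (genericPoint X) ⤳ y := hdom.trans hspec
  let : Algebra R K := (CohIII.stalkToFunctionField f y h).toAlgebra
  have : IsScalarTower R F K := .of_algebraMap_eq fun a => by
    rw [halg]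
    obtain ⟨W, hW, a, rfl⟩ := Y.presheaf.exists_germ_eq a
    have hη : genericPoint Y ∈ W := hspec.mem_open W.2 hW
    have hξW : genericPoint X ∈ f ⁻¹ᵁ W := h.mem_open W.2 hW
    refine Eq.trans ?_ (((congrArg (CohIII.stalkToFunctionField f (genericPoint Y) hdom)
      (congr($(Y.presheaf.germ_stalkSpecializes hW hspec) a))).trans
      (H10ZMT.stalkToFunctionField_germ f hdom W hη hξW a)).symm)
    refine (congrArg (f.stalkMap (genericPoint X)).hom
      (congr($(Y.presheaf.germ_stalkSpecializes hW h) a))).trans ?_
    exact congr($(Scheme.Hom.germ_stalkMap f W (genericPoint X) hξW) a)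
  let L := algebraicClosure F K
  have : IsScalarTower R L K := .of_algebraMap_eq fun a => rfl
  have := H10ZMT.isLocalRing_integralClosure (F := F) hy
  have hcard : Nat.card (Field.Emb F L) = n := hn
  have : Finite (Field.Emb F L) := Nat.finite_of_card_ne_zero (by omega)
  obtain ⟨Φ, hΦ⟩ := H10ZMT.exists_surjective_emb_maximalSpectrum (R := R) (F := F) (L := L)
  let C := integralClosure R K
  let χ : integralClosure R L →+* C :=
    ((L.val.toRingHom).comp (integralClosure R L).val.toRingHom).codRestrict C.toSubring fun z => by
      exact z.2.map (L.val.restrictScalars R)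
  have hχ : Function.Surjective χ := by
    intro c
    have hc : IsIntegral F (c : K) := c.2.tower_top
    have hcL : (c : K) ∈ L := (mem_algebraicClosure_iff').2 hc
    exact ⟨⟨⟨c, hcL⟩, (isIntegral_algebraMap_iff (B := K) Subtype.val_injective).1 c.2⟩, Subtype.ext rfl⟩
  let Ψ : MaximalSpectrum C → MaximalSpectrum (integralClosure R L) := fun M =>
    ⟨M.asIdeal.comap χ, @Ideal.comap_isMaximal_of_surjective _ _ _ _ _ _ _ χ hχ M.asIdeal M.isMaximal⟩
  have hΨ : Function.Injective Ψ := fun M M' he =>
    MaximalSpectrum.ext (Ideal.comap_injective_of_surjective χ hχ (congrArg MaximalSpectrum.asIdeal he))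
  have : Finite (MaximalSpectrum (integralClosure R L)) := Finite.of_surjective Φ hΦ
  have : Finite (MaximalSpectrum C) := Finite.of_injective Ψ hΨ
  obtain ⟨hfin, Θ, hΘ⟩ := H10ZMT.exists_surjective_maximalSpectrum_components f y h
  refine ⟨hfin, ?_⟩
  calc Nat.card (_root_.ConnectedComponents ↥(f.fiber y)) ≤ Nat.card (MaximalSpectrum C) :=
        Nat.card_le_card_of_surjective (α := MaximalSpectrum C) Θ hΘ
    _ ≤ Nat.card (MaximalSpectrum (integralClosure R L)) := Nat.card_le_card_of_injective Ψ hΨ
    _ ≤ Nat.card (Field.Emb F L) := Nat.card_le_card_of_surjective Φ hΦ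
    _ = n := hcard

end Groth.Agent.S4484
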