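import Groth.Statements.S4485
import Groth.Agent.H06FlatCx.BCHomology

set_option autoImplicit false
universe u
open FlatCx

namespace Groth.Agent.S4485

open Groth.Agent.H06FlatCx
open scoped TensorProduct

open CategoryTheory CategoryTheory.Limits in
/-- For the homological functor T_p(M) = H_p(P ⊗_A M) of a chain complex P of flat modules over a
commutative ring A. If T_p takes injections to injections and surjections to surjections and T_p(A)
is a finitely presented A-module, then the function x ↦ dim_{k(x)} H_p(P ⊗_A k(x)) is locally
constant on Spec A (hence constant when Spec A is connected). No Noetherian hypothesis on A. -/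
theorem result {A : Type u} [CommRing A]
    (P : ChainComplex (ModuleCat.{u} A) ℤ) (hP : ∀ i, Module.Flat A (P.X i)) (p : ℤ)
    (hex : (CohIII.TFun P p).PreservesMonomorphisms ∧ (CohIII.TFun P p).PreservesEpimorphisms)
    (hfp : Module.FinitePresentation A (CohIII.T P p (ModuleCat.of A A))) :
    IsLocallyConstant (CohIII.dRank P p) := by
  haveI := hP (p - 1)
  have hE := (preservesEpi_iff_epiLift P (down_prev p) (down_next p)).1 hex.2
  haveI : Module.Flat A (H0 P (p + 1) p (p - 1)) :=
    (flat_h0_iff_mono P (down_prev p) (down_next p) hex.2).1 hex.1
  haveI : Module.FinitePresentation A (H0 P (p + 1) p (p - 1)) :=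
    haveI : Module.FinitePresentation A ((CohIII.TFun P p).obj (ModuleCat.of A A)) := hfp
    Module.FinitePresentation.of_equiv (tSelfEquiv P (down_prev p) (down_next p)).symm
  rw [show CohIII.dRank P p = Module.rankAtStalk (R := A) (H0 P (p + 1) p (p - 1)) from
    funext fun x => (dRank_eq_fibDim_of_epi P (down_prev p) (down_next p) hE x).trans
      (fibDim_eq_rankAtStalk _ x)]
  exact Module.isLocallyConstant_rankAtStalk

end Groth.Agent.S4485
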