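import Groth.Statements.S4488
import Groth.Agent.H06FlatCx.FlatH0

set_option autoImplicit false
universe u
open FlatCx

namespace Groth.Agent.S4488

open CategoryTheory CategoryTheory.Limits in
/-- For the homological functor T_q(M) = H_q(P ⊗_A M) of a chain complex P of flat modules over a
commutative local ring A with residue field k. Suppose P_i = 0 for i < i₀ and that every T_n(A) is a
finitely presented A-module, and let p be an integer. If T_q takes injections to injections and
surjections to surjections for every q ≤ p, then dim_{k(x)} T_q(k(x)) = dim_k T_q(k) for every point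
x of Spec A and every q ≤ p. Conversely, if A is reduced and this equality holds at the generic
point of every irreducible component of Spec A (every minimal prime) for every q ≤ p, then T_q takes
injections to injections and surjections to surjections for every q ≤ p. No Noetherian hypothesis on
A. -/
theorem result {A : Type u} [CommRing A] [IsLocalRing A]
    (P : ChainComplex (ModuleCat.{u} A) ℤ) (hP : ∀ i, Module.Flat A (P.X i)) (i₀ : ℤ)
    (hb : ∀ i < i₀, IsZero (P.X i))
    (hfp : ∀ n : ℤ, Module.FinitePresentation A (CohIII.T P n (ModuleCat.of A A))) (p : ℤ) :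
    ((∀ q ≤ p, (CohIII.TFun P q).PreservesMonomorphisms ∧ (CohIII.TFun P q).PreservesEpimorphisms) →
        ∀ (x : PrimeSpectrum A), ∀ q ≤ p, CohIII.dRank P q x = CohIII.dRank P q (IsLocalRing.closedPoint A)) ∧
      (IsReduced A →
        (∀ x : PrimeSpectrum A, x.asIdeal ∈ minimalPrimes A →
          ∀ q ≤ p, CohIII.dRank P q x = CohIII.dRank P q (IsLocalRing.closedPoint A)) →
        ∀ q ≤ p, (CohIII.TFun P q).PreservesMonomorphisms ∧ (CohIII.TFun P q).PreservesEpimorphisms) := by
  refine ⟨fun h x q hq => ?_, fun hr h q hq => ?_⟩
  · haveI : Module.Flat A (H06FlatCx.HH P q) := H06FlatCx.flat_of_preserves P hP q (h q hq).1 (h q hq).2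
    haveI := H06FlatCx.finitePresentation_HH P q (hfp q)
    rw [H06FlatCx.dRank_eq_fibDim P hP q (h q hq).2, H06FlatCx.dRank_eq_fibDim P hP q (h q hq).2,
      H06FlatCx.fibDim_eq_rankAtStalk, H06FlatCx.fibDim_eq_rankAtStalk]
    exact Module.rankAtStalk_eq_of_le_of_finite_of_flat _ (IsLocalRing.le_maximalIdeal x.isPrime.ne_top)
  · haveI := hr
    exact H06FlatCx.preserves_of_dRank P hP i₀ hb
      (fun n => haveI := H06FlatCx.finitePresentation_HH P n (hfp n); inferInstance) p h q hq

end Groth.Agent.S4488
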