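import Groth.Statements.S4489
import Groth.Agent.H06FlatCx.BCHomology

set_option autoImplicit false
universe u
open FlatCx

namespace Groth.Agent.S4489

open Groth.Agent.H06FlatCx
open scoped TensorProduct

open CategoryTheory CategoryTheory.Limits in
/-- For the homological functor T_p(M) = H_p(P ⊗_A M) of a chain complex P of flat modules, stated over
a Dedekind domain A. (The published statement allows A to be a finite product of Dedekind domains,
that is, a Noetherian regular ring of dimension at most 1; this row takes A a Dedekind domain.) Then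
T_p takes injections to injections if and only if H_p(P) is a flat A-module; and, with q + 1 = p,
T_p takes injections to injections and surjections to surjections if and only if H_p(P) and H_q(P)
are both flat. -/
theorem result {A : Type u} [CommRing A] [IsDedekindDomain A]
    (P : ChainComplex (ModuleCat.{u} A) ℤ) (hP : ∀ i, Module.Flat A (P.X i)) (p q : ℤ) (hpq : q + 1 = p) :
    ((CohIII.TFun P p).PreservesMonomorphisms ↔ Module.Flat A (P.homology p)) ∧
      (((CohIII.TFun P p).PreservesMonomorphisms ∧ (CohIII.TFun P p).PreservesEpimorphisms) ↔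
        (Module.Flat A (P.homology p) ∧ Module.Flat A (P.homology q))) := by
  haveI := hP
  have e : ∀ r : ℤ, (CohIII.TFun P r).PreservesMonomorphisms ↔ Module.Flat A (P.homology r) := by
    intro r
    rw [mono_iff_flat_cok P r]
    let Z := LinearMap.ker (P.d r (r - 1)).hom
    let B := LinearMap.range (toKer (d_comp_d P (r + 1) r (r - 1)))
    let ι : H0 P (r + 1) r (r - 1) →ₗ[A] Cok P r :=
      Submodule.mapQ _ _ Z.subtype (by
        rintro _ ⟨w, rfl⟩
        exact ⟨w, rfl⟩)
    have hι : Function.Injective ι := by
      refine (injective_iff_map_eq_zero ι).2 fun x hx => ?_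
      induction x using Submodule.Quotient.induction_on with
      | H z =>
        obtain ⟨w, hw⟩ := (Submodule.Quotient.mk_eq_zero _).1 hx
        exact (Submodule.Quotient.mk_eq_zero _).2 ⟨w, Subtype.ext hw⟩
    constructor
    · intro hf
      have hH : Module.Flat A (H0 P (r + 1) r (r - 1)) := by
        rw [IsDedekindDomain.flat_iff_torsion_eq_bot, ← Submodule.isTorsionFree_iff_torsion_eq_bot]
        rw [IsDedekindDomain.flat_iff_torsion_eq_bot, ← Submodule.isTorsionFree_iff_torsion_eq_bot] at hf
        exact hι.moduleIsTorsionFree ι (map_smul ι)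
      exact Module.Flat.of_linearEquiv (h0Equiv P (down_prev r) (down_next r)).symm
    · intro hf
      haveI : Module.Flat A (H0 P (r + 1) r (r - 1)) :=
        Module.Flat.of_linearEquiv (h0Equiv P (down_prev r) (down_next r))
      rw [IsDedekindDomain.flat_iff_torsion_eq_bot, eq_bot_iff]
      intro c hc
      obtain ⟨x, rfl⟩ := Submodule.Quotient.mk_surjective _ c
      obtain ⟨⟨a, ha⟩, hax⟩ := hc
      have hax' : a • x ∈ LinearMap.range (P.d (r + 1) r).hom :=
        (Submodule.Quotient.mk_eq_zero _).1 hax
      have hx : x ∈ Z := by
        have h1 : a • (P.d r (r - 1)).hom x = 0 := by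
          obtain ⟨w, hw⟩ := hax'
          rw [← map_smul, ← hw]
          exact LinearMap.congr_fun (d_comp_d P (r + 1) r (r - 1)) w
        haveI : Module.IsTorsionFree A (P.X (r - 1)) := by
          rw [Submodule.isTorsionFree_iff_torsion_eq_bot,
            ← IsDedekindDomain.flat_iff_torsion_eq_bot]
          infer_instance
        exact (smul_eq_zero.1 h1).resolve_left (nonZeroDivisors.ne_zero ha)
      have h2 : a • (Submodule.Quotient.mk ⟨x, hx⟩ : H0 P (r + 1) r (r - 1)) = 0 := hι (by
        rw [map_smul, map_zero]; exact hax)
      haveI : Module.IsTorsionFree A (H0 P (r + 1) r (r - 1)) := by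
        rw [Submodule.isTorsionFree_iff_torsion_eq_bot,
          ← IsDedekindDomain.flat_iff_torsion_eq_bot]
        infer_instance
      have h3 := (smul_eq_zero.1 h2).resolve_left (nonZeroDivisors.ne_zero ha)
      exact Submodule.mem_bot A |>.2 ((congrArg ι h3).trans (map_zero ι))
  refine ⟨e p, ?_⟩
  rw [epi_iff_mono_pred P hP hpq, e p, e q]

end Groth.Agent.S4489
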