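import Groth.Statements.S4490
import Groth.Agent.H06FlatCx.Criteria

set_option autoImplicit false
universe u
open FlatCx

namespace Groth.Agent.S4490

open Groth.Agent.H06FlatCx
set_option backward.isDefEq.respectTransparency false

open CategoryTheory CategoryTheory.Limits in
/-- The case of the functor T_p(M) = H_p(P ⊗_A M) of a chain complex P of finitely generated flat
modules over a Noetherian local ring A with maximal ideal m and residue field k. Then T_p takes
surjections to surjections if and only if the map T_p(A) → T_p(k) induced by A → k is surjective;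
and also if and only if, for all sufficiently large n (there is n₀ such that for every n ≥ n₀), the
map T_p(A/m^(n+1)) → T_p(A/m) induced by the projection is surjective. (Surjectivity at one n gives
it at every smaller n, so this is the same as asking it for every n; at n = 0 alone the map is an
isomorphism and the condition would be empty.) -/
theorem result {A : Type u} [CommRing A] [IsNoetherianRing A]
    [IsLocalRing A] (P : ChainComplex (ModuleCat.{u} A) ℤ)
    (hP : ∀ i, Module.Finite A (P.X i) ∧ Module.Flat A (P.X i)) (p : ℤ) :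
    ((CohIII.TFun P p).PreservesEpimorphisms ↔
      Function.Surjective ((CohIII.TFun P p).map
        (ModuleCat.ofHom (Algebra.linearMap A (IsLocalRing.ResidueField A)))).hom) ∧
    ((CohIII.TFun P p).PreservesEpimorphisms ↔
      ∃ n₀ : ℕ, ∀ n : ℕ, n₀ ≤ n → Function.Surjective ((CohIII.TFun P p).map (ModuleCat.ofHom
        (Ideal.Quotient.factorₐ A (Ideal.pow_le_self (I := IsLocalRing.maximalIdeal A)
          (Nat.succ_ne_zero n))).toLinearMap :
        ModuleCat.of A (A ⧸ IsLocalRing.maximalIdeal A ^ (n + 1)) ⟶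
          ModuleCat.of A (A ⧸ IsLocalRing.maximalIdeal A))).hom) := by
  refine ⟨epi_iff_surjective_chain P hP p, fun h => ⟨0, fun n _ => ?_⟩, fun h => ?_⟩
  · haveI := h
    haveI : Epi (ModuleCat.ofHom (Ideal.Quotient.factorₐ A (Ideal.pow_le_self (Nat.succ_ne_zero n) :
          IsLocalRing.maximalIdeal A ^ (n + 1) ≤ IsLocalRing.maximalIdeal A)).toLinearMap :
        ModuleCat.of A (A ⧸ IsLocalRing.maximalIdeal A ^ (n + 1)) ⟶
          ModuleCat.of A (A ⧸ IsLocalRing.maximalIdeal A)) :=
      (ModuleCat.epi_iff_surjective _).2 (Ideal.Quotient.factor_surjective (Ideal.pow_le_self (Nat.succ_ne_zero n)))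
    exact (ModuleCat.epi_iff_surjective _).1 inferInstance
  · rw [epi_iff_surjective_chain P hP p]
    obtain ⟨n₀, h⟩ := h
    let m := IsLocalRing.maximalIdeal A
    have hjk := down_next p
    have hij := down_prev p
    haveI := (hP (p - 1)).1
    let g := (P.d p (p - 1)).hom
    obtain ⟨c, hc⟩ := Ideal.exists_pow_inf_eq_pow_smul m (LinearMap.range g)
    intro t
    let n := n₀ + c
    obtain ⟨t', ht'⟩ := h n (Nat.le_add_right _ _) t
    obtain ⟨⟨w, hw⟩, rfl⟩ := tcls_surjective P hjk _ t'
    obtain ⟨a, rfl⟩ := LinearMap.lTensor_surjective (P.X p) (g := Algebra.linearMap A (A ⧸ m ^ (n + 1)))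
      (fun b => Ideal.Quotient.mk_surjective b) w
    obtain ⟨x, rfl⟩ := (TensorProduct.rid A (P.X p)).symm.surjective a
    rw [TensorProduct.rid_symm_apply, LinearMap.lTensor_tmul] at hw
    have hx : g x ∈ m ^ (n + 1) • (⊤ : Submodule A (P.X (p - 1))) := by
      rw [LinearMap.mem_ker, LinearMap.rTensor_tmul] at hw
      have := congrArg (TensorProduct.tensorQuotEquivQuotSMul (P.X (p - 1)) (m ^ (n + 1))) hw
      rw [map_zero, Algebra.linearMap_apply, map_one, ← map_one (Ideal.Quotient.mk (m ^ (n + 1))),
        TensorProduct.tensorQuotEquivQuotSMul_tmul_mk, one_smul, Submodule.Quotient.mk_eq_zero] at this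
      exact this
    have hN : g x ∈ m • LinearMap.range g := by
      have h2 : g x ∈ m ^ (n + 1) • (⊤ : Submodule A (P.X (p - 1))) ⊓ LinearMap.range g := ⟨hx, x, rfl⟩
      rw [hc (n + 1) (by omega)] at h2
      refine (?_ : m ^ (n + 1 - c) • (m ^ c • (⊤ : Submodule A (P.X (p - 1))) ⊓ LinearMap.range g) ≤ m • LinearMap.range g) h2
      exact Submodule.smul_mono (Ideal.pow_le_self (by omega)) inf_le_right
    rw [LinearMap.range_eq_map, ← Submodule.map_smul''] at hN
    obtain ⟨y, hy, hgy⟩ := hN
    have hcyc : (x - y) ⊗ₜ[A] (1 : A) ∈ LinearMap.ker ((P.d p (p - 1)).hom.rTensor (ModuleCat.of A A)) := by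
      rw [LinearMap.mem_ker, LinearMap.rTensor_tmul, map_sub]
      show (g x - g y) ⊗ₜ[A] (1 : A) = 0
      rw [hgy, sub_self, TensorProduct.zero_tmul]
    refine ⟨tcls P hjk (ModuleCat.of A A) ⟨_, hcyc⟩, ?_⟩
    rw [← ht', map_tcls, map_tcls]
    refine congrArg _ (Subtype.ext ?_)
    show ((x - y) ⊗ₜ[A] (Algebra.linearMap A (IsLocalRing.ResidueField A) 1)) = _
    have hy0 : y ⊗ₜ[A] (Ideal.Quotient.mk m (1 : A)) = 0 := by
      apply (TensorProduct.tensorQuotEquivQuotSMul (P.X p) m).injective
      rw [map_zero, TensorProduct.tensorQuotEquivQuotSMul_tmul_mk, one_smul, Submodule.Quotient.mk_eq_zero]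
      exact hy
    show (x - y) ⊗ₜ[A] (Ideal.Quotient.mk m (1 : A)) = _
    rw [TensorProduct.sub_tmul, hy0, sub_zero]
    rfl

end Groth.Agent.S4490
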