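import Groth.Statements.S4491
import Groth.Agent.H06FlatCx.Criteria

set_option autoImplicit false
universe u
open FlatCx

namespace Groth.Agent.S4491

open Groth.Agent.H06FlatCx

open CategoryTheory CategoryTheory.Limits in
/-- For the homological functor T_i(M) = H_i(P ⊗_A M) of a chain complex P of flat modules over a
commutative ring A. Let q + 1 = p and suppose T_p takes surjections to surjections. If
multiplication by f ∈ A is injective on an A-module M, then multiplication by f is injective on
T_q(M). In particular, when A is a domain, T_q(A) is torsion-free. -/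
theorem result {A : Type u} [CommRing A]
    (P : ChainComplex (ModuleCat.{u} A) ℤ) (hP : ∀ i, Module.Flat A (P.X i)) (p q : ℤ) (hpq : q + 1 = p)
    (hex : (CohIII.TFun P p).PreservesEpimorphisms) :
    (∀ (M : ModuleCat.{u} A) (f : A), Function.Injective (fun x : M => f • x) →
        Function.Injective (fun y : CohIII.T P q M => f • y)) ∧
      (IsDomain A → NoZeroSMulDivisors A (CohIII.T P q (ModuleCat.of A A))) := by
  have hmono := (epi_iff_mono_pred P hP hpq).1 hex
  have key : ∀ (M : ModuleCat.{u} A) (f : A) (y : CohIII.T P q M),
      ((CohIII.TFun P q).map (f • 𝟙 M)).hom y = f • y := by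
    intro M f y
    obtain ⟨z, rfl⟩ := tcls_surjective P (down_next q) M y
    rw [map_tcls]
    refine Eq.trans ?_ ((tcls P (down_next q) M).map_smul f z)
    congr 1
    apply Subtype.ext
    rw [Submodule.coe_smul]
    simp only [ModuleCat.hom_smul, ModuleCat.hom_id, LinearMap.lTensor_smul, LinearMap.lTensor_id,
      LinearMap.smul_apply, LinearMap.id_apply]
  have part1 : ∀ (M : ModuleCat.{u} A) (f : A), Function.Injective (fun x : M => f • x) →
      Function.Injective (fun y : CohIII.T P q M => f • y) := by
    intro M f hf a b hab
    haveI : Mono (f • 𝟙 M) := (ModuleCat.mono_iff_injective _).2 hf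
    refine (ModuleCat.mono_iff_injective _).1 (hmono.preserves
      (f • 𝟙 M)) ?_
    exact (key M f a).trans (hab.trans (key M f b).symm)
  refine ⟨part1, fun hA => ⟨fun {c} {x} hcx => ?_⟩⟩
  by_cases hc : c = 0
  · exact Or.inl hc
  · refine Or.inr (part1 _ c (mul_right_injective₀ hc) ?_)
    change c • x = c • (0 : CohIII.T P q (ModuleCat.of A A))
    rw [hcx, smul_zero]

end Groth.Agent.S4491
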