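import Groth.Statements.S4493
import Groth.Agent.H06FlatCx.FuncLoc

set_option autoImplicit false
universe u
open FlatCx

namespace Groth.Agent.S4493

open Groth.Agent.H06FlatCx
set_option backward.isDefEq.respectTransparency false

open CategoryTheory CategoryTheory.Limits in
/-- Let A be a commutative ring and T an additive A-linear endofunctor of the category of A-modules
which preserves filtered colimits. For a maximal ideal m write T_m for T precomposed with
restriction of scalars along A → A_m (a functor from A_m-modules to A-modules). If T_m is left exact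
for every maximal ideal m then T is left exact, and if T_m is right exact for every maximal ideal m
then T is right exact (exactness meaning preservation of finite limits, resp. finite colimits). -/
theorem result {A : Type u} [CommRing A]
    (T : ModuleCat.{u} A ⥤ ModuleCat.{u} A) [T.Additive] [T.Linear A]
    (hT : ∀ (J : Type u) [SmallCategory J] [IsFiltered J], PreservesColimitsOfShape J T) :
    ((∀ (m : Ideal A) [m.IsMaximal],
        PreservesFiniteLimits (ModuleCat.restrictScalars (algebraMap A (Localization.AtPrime m)) ⋙ T)) →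
      PreservesFiniteLimits T) ∧
    ((∀ (m : Ideal A) [m.IsMaximal],
        PreservesFiniteColimits (ModuleCat.restrictScalars (algebraMap A (Localization.AtPrime m)) ⋙ T)) →
      PreservesFiniteColimits T) := by
  classical
  have loc : ∀ (m : Ideal A) [m.IsMaximal] (M : ModuleCat.{u} A),
      ∃ (ι : M ⟶ (ModuleCat.restrictScalars (algebraMap A (Localization.AtPrime m))).obj
          (ModuleCat.of (Localization.AtPrime m) (LocalizedModule m.primeCompl M))),
        (∀ x, ι.hom x = LocalizedModule.mk x 1) ∧ IsLocalizedModule m.primeCompl (T.map ι).hom := by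
    intro m _ M
    let e : ModuleCat.of A (LocalizedModule m.primeCompl M) ≅
        (ModuleCat.restrictScalars (algebraMap A (Localization.AtPrime m))).obj
          (ModuleCat.of (Localization.AtPrime m) (LocalizedModule m.primeCompl M)) :=
      LinearEquiv.toModuleIso (X₁ := LocalizedModule m.primeCompl M)
        (X₂ := (ModuleCat.restrictScalars (algebraMap A (Localization.AtPrime m))).obj
          (ModuleCat.of (Localization.AtPrime m) (LocalizedModule m.primeCompl M)))
        { toFun := id, invFun := id, left_inv := fun _ => rfl, right_inv := fun _ => rfl, map_add' := fun _ _ => rfl,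
          map_smul' := fun a (x : LocalizedModule m.primeCompl M) => (algebraMap_smul (Localization.AtPrime m) a x).symm }
    refine ⟨ModuleCat.ofHom (LocalizedModule.mkLinearMap m.primeCompl M) ≫ e.hom, fun x => rfl, ?_⟩
    rw [T.map_comp]
    haveI := isLocalizedModule_map m.primeCompl M T hT
    exact IsLocalizedModule.of_linearEquiv m.primeCompl _ (T.mapIso e).toLinearEquiv
  have hses : ∀ (m : Ideal A) [m.IsMaximal] (S : ShortComplex (ModuleCat.{u} A)), S.ShortExact →
      ∃ (S' : ShortComplex (ModuleCat.{u} (Localization.AtPrime m))), S'.ShortExact ∧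
        ∃ φ : S.map T ⟶ S'.map (ModuleCat.restrictScalars (algebraMap A (Localization.AtPrime m)) ⋙ T),
          IsLocalizedModule m.primeCompl φ.τ₁.hom ∧ IsLocalizedModule m.primeCompl φ.τ₂.hom ∧
            IsLocalizedModule m.primeCompl φ.τ₃.hom := by
    intro m _ S hS
    have hfi := hS.moduleCat_injective_f
    have hgs := hS.moduleCat_surjective_g
    have hex := (ShortComplex.ShortExact.moduleCat_exact_iff_function_exact _).mp hS.exact
    let f' := LocalizedModule.map m.primeCompl S.f.hom
    let g' := LocalizedModule.map m.primeCompl S.g.hom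
    have h' : Function.Exact f' g' := LocalizedModule.map_exact m.primeCompl S.f.hom S.g.hom hex
    let S' : ShortComplex (ModuleCat.{u} (Localization.AtPrime m)) :=
      ShortComplex.mk (ModuleCat.ofHom f') (ModuleCat.ofHom g')
        (ModuleCat.hom_ext (LinearMap.ext fun x => h'.apply_apply_eq_zero x))
    have hS' : S'.ShortExact :=
      { exact := (ShortComplex.ShortExact.moduleCat_exact_iff_function_exact _).mpr h'
        mono_f := (ModuleCat.mono_iff_injective _).mpr (LocalizedModule.map_injective _ _ hfi)
        epi_g := (ModuleCat.epi_iff_surjective _).mpr (LocalizedModule.map_surjective _ _ hgs) }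
    choose ι hι hιl using loc m
    refine ⟨S', hS', ⟨T.map (ι S.X₁), T.map (ι S.X₂), T.map (ι S.X₃), ?_, ?_⟩, hιl _, hιl _, hιl _⟩
    all_goals
      show T.map _ ≫ T.map _ = T.map _ ≫ T.map _
      rw [← T.map_comp, ← T.map_comp]
      congr 1
      apply ModuleCat.hom_ext
      apply LinearMap.ext
      intro x
    · show f' ((ι S.X₁).hom x) = (ι S.X₂).hom (S.f.hom x)
      rw [hι, hι]
      exact LocalizedModule.map_mk (S := m.primeCompl) S.f.hom x 1
    · show g' ((ι S.X₂).hom x) = (ι S.X₃).hom (S.g.hom x)
      rw [hι, hι]
      exact LocalizedModule.map_mk (S := m.primeCompl) S.g.hom x 1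
  have key : ∀ (S : ShortComplex (ModuleCat.{u} A)), S.ShortExact →
      ((∀ (m : Ideal A) [m.IsMaximal], ∀ S' : ShortComplex (ModuleCat.{u} (Localization.AtPrime m)), S'.ShortExact →
        (S'.map (ModuleCat.restrictScalars (algebraMap A (Localization.AtPrime m)) ⋙ T)).Exact) → (S.map T).Exact) ∧
      ((∀ (m : Ideal A) [m.IsMaximal], ∀ S' : ShortComplex (ModuleCat.{u} (Localization.AtPrime m)), S'.ShortExact →
        Mono (S'.map (ModuleCat.restrictScalars (algebraMap A (Localization.AtPrime m)) ⋙ T)).f) → Mono (S.map T).f) ∧
      ((∀ (m : Ideal A) [m.IsMaximal], ∀ S' : ShortComplex (ModuleCat.{u} (Localization.AtPrime m)), S'.ShortExact →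
        Epi (S'.map (ModuleCat.restrictScalars (algebraMap A (Localization.AtPrime m)) ⋙ T)).g) → Epi (S.map T).g) := by
    intro S hS
    choose S' hS' φ h1 h2 h3 using fun (m : Ideal A) (hm : m.IsMaximal) => @hses m hm S hS
    have c12 : ∀ (m : Ideal A) [hm : m.IsMaximal], IsLocalizedModule.map m.primeCompl (φ m hm).τ₁.hom (φ m hm).τ₂.hom (S.map T).f.hom =
        ((S' m hm).map (ModuleCat.restrictScalars (algebraMap A (Localization.AtPrime m)) ⋙ T)).f.hom := fun m hm => by
      haveI := h1 m hm; haveI := h2 m hm
      refine IsLocalizedModule.ext m.primeCompl (φ m hm).τ₁.hom (IsLocalizedModule.map_units (φ m hm).τ₂.hom) ?_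
      rw [IsLocalizedModule.map_comp]
      exact congrArg ModuleCat.Hom.hom (φ m hm).comm₁₂.symm
    have c23 : ∀ (m : Ideal A) [hm : m.IsMaximal], IsLocalizedModule.map m.primeCompl (φ m hm).τ₂.hom (φ m hm).τ₃.hom (S.map T).g.hom =
        ((S' m hm).map (ModuleCat.restrictScalars (algebraMap A (Localization.AtPrime m)) ⋙ T)).g.hom := fun m hm => by
      haveI := h2 m hm; haveI := h3 m hm
      refine IsLocalizedModule.ext m.primeCompl (φ m hm).τ₂.hom (IsLocalizedModule.map_units (φ m hm).τ₃.hom) ?_
      rw [IsLocalizedModule.map_comp]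
      exact congrArg ModuleCat.Hom.hom (φ m hm).comm₂₃.symm
    refine ⟨fun h => ?_, fun h => ?_, fun h => ?_⟩
    · refine (ShortComplex.ShortExact.moduleCat_exact_iff_function_exact _).mpr
        (exact_of_isLocalized_maximal _ (fun m hm => (φ m hm).τ₁.hom) _ (fun m hm => (φ m hm).τ₂.hom) _
          (fun m hm => (φ m hm).τ₃.hom) _ _ fun m hm => ?_)
      rw [@c12 m hm, @c23 m hm]
      exact (ShortComplex.ShortExact.moduleCat_exact_iff_function_exact _).mp (@h m hm _ (hS' m hm))
    · refine (ModuleCat.mono_iff_injective _).mpr
        (injective_of_isLocalized_maximal _ (fun m hm => (φ m hm).τ₁.hom) _ (fun m hm => (φ m hm).τ₂.hom) _ fun m hm => ?_)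
      rw [@c12 m hm]
      exact (ModuleCat.mono_iff_injective _).mp (@h m hm _ (hS' m hm))
    · refine (ModuleCat.epi_iff_surjective _).mpr
        (surjective_of_isLocalized_maximal _ (fun m hm => (φ m hm).τ₂.hom) _ (fun m hm => (φ m hm).τ₃.hom) _ fun m hm => ?_)
      rw [@c23 m hm]
      exact (ModuleCat.epi_iff_surjective _).mp (@h m hm _ (hS' m hm))
  constructor
  · intro h
    refine T.preservesFiniteLimits_iff_forall_exact_map_and_mono.mpr fun S hS => ?_
    have h' := fun (m : Ideal A) (hm : m.IsMaximal) => (Functor.preservesFiniteLimits_iff_forall_exact_map_and_mono _).mp (@h m hm)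
    exact ⟨(key S hS).1 fun m hm S' hS' => (h' m hm S' hS').1, (key S hS).2.1 fun m hm S' hS' => (h' m hm S' hS').2⟩
  · intro h
    refine T.preservesFiniteColimits_iff_forall_exact_map_and_epi.mpr fun S hS => ?_
    have h' := fun (m : Ideal A) (hm : m.IsMaximal) => (Functor.preservesFiniteColimits_iff_forall_exact_map_and_epi _).mp (@h m hm)
    exact ⟨(key S hS).1 fun m hm S' hS' => (h' m hm S' hS').1, (key S hS).2.2 fun m hm S' hS' => (h' m hm S' hS').2⟩

end Groth.Agent.S4493
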