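import Groth.Statements.S4495


set_option autoImplicit false
universe u
open FlatCx

namespace Groth.Agent.S4495

open CategoryTheory AlgebraicGeometry Opposite in
/-- A locally ringed space Z is connected, in the sense that it is not the disjoint union of two
nonempty open subsets (the empty space being allowed), if and only if every idempotent of the ring
of global sections Γ(Z, O_Z) is 0 or 1 (equivalently, Γ(Z, O_Z) is not isomorphic to a product of
two nonzero rings). -/
theorem result (Z : LocallyRingedSpace.{u}) :
    PreconnectedSpace Z ↔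
      ∀ e : Z.presheaf.obj (op ⊤), IsIdempotentElem e → e = 0 ∨ e = 1 := by
  constructor
  · intro hc e he
    have hcase : ∀ z : Z, Z.presheaf.germ ⊤ z trivial e = 0 ∨ Z.presheaf.germ ⊤ z trivial e = 1 := fun z => by
      have h1 := he.map (Z.presheaf.germ ⊤ z trivial).hom
      rcases IsLocalRing.isUnit_or_isUnit_one_sub_self (Z.presheaf.germ ⊤ z trivial e) with hu | hu
      · exact Or.inr (hu.mul_left_cancel (by rw [mul_one]; exact h1))
      · exact Or.inl (hu.mul_left_cancel (by rw [mul_zero, sub_mul, one_mul]; exact sub_eq_zero.mpr h1.symm))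
    let O : TopologicalSpace.Opens Z := Z.toRingedSpace.basicOpen (U := ⊤) e
    let S : Set Z := O
    have hS : ∀ z : Z, z ∈ S ↔ Z.presheaf.germ ⊤ z trivial e = 1 := fun z => by
      refine (Z.toRingedSpace.mem_basicOpen (U := ⊤) e z trivial).trans ⟨fun hu => ?_, fun h => ?_⟩
      · rcases hcase z with h0 | h1
        · change IsUnit (Z.presheaf.germ ⊤ z trivial e) at hu
          rw [h0] at hu
          exact absurd hu not_isUnit_zero
        · exact h1
      · change IsUnit (Z.presheaf.germ ⊤ z trivial e)
        rw [h]; exact isUnit_one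
    let O' : TopologicalSpace.Opens Z := Z.toRingedSpace.basicOpen (U := ⊤) (1 - e)
    have hS' : Sᶜ = (O' : Set Z) := by
      ext z
      refine Iff.trans ?_ (Z.toRingedSpace.mem_basicOpen (U := ⊤) (1 - e) z trivial).symm
      show z ∉ S ↔ IsUnit (Z.presheaf.germ ⊤ z trivial (1 - e))
      rw [hS, map_sub, map_one]
      rcases hcase z with h0 | h1
      · rw [h0, sub_zero]; exact iff_of_true zero_ne_one isUnit_one
      · rw [h1, sub_self]; exact iff_of_false (fun h => h rfl) not_isUnit_zero
    have hcl : IsClopen S := ⟨isOpen_compl_iff.mp (hS' ▸ O'.2),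
      O.2⟩
    rcases preconnectedSpace_iff_clopen.mp hc S hcl with h | h
    · refine Or.inl (TopCat.Presheaf.section_ext Z.sheaf ⊤ e 0 fun z _ => ?_)
      rw [map_zero]
      exact (hcase z).resolve_right fun h1 => (h ▸ (hS z).mpr h1 : z ∈ (∅ : Set Z))
    · refine Or.inr (TopCat.Presheaf.section_ext Z.sheaf ⊤ e 1 fun z _ => ?_)
      rw [map_one]
      exact (hS z).mp (h ▸ Set.mem_univ z)
  · intro h
    refine preconnectedSpace_iff_clopen.mpr fun s hs => ?_
    let U : Bool → TopologicalSpace.Opens Z := fun b => if b then ⟨s, hs.2⟩ else ⟨sᶜ, hs.1.isOpen_compl⟩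
    let sf : ∀ b, Z.presheaf.obj (op (U b)) := fun b => if b then 1 else 0
    obtain ⟨e, he, -⟩ := Z.sheaf.existsUnique_gluing' U ⊤ (fun b => homOfLE le_top) (fun z _ => by
      rcases Classical.em (z ∈ s) with hz | hz
      · exact TopologicalSpace.Opens.mem_iSup.mpr ⟨true, hz⟩
      · exact TopologicalSpace.Opens.mem_iSup.mpr ⟨false, hz⟩) sf (fun a b => by
      refine TopCat.Presheaf.section_ext Z.sheaf _ _ _ fun z hz => ?_
      show Z.presheaf.germ _ z hz (Z.presheaf.map _ (sf a)) = Z.presheaf.germ _ z hz (Z.presheaf.map _ (sf b))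
      rw [Z.presheaf.germ_res_apply, Z.presheaf.germ_res_apply]
      cases a <;> cases b
      · rfl
      · exact absurd hz.2 hz.1
      · exact absurd hz.1 hz.2
      · rfl)
    have hgerm : ∀ (z : Z) (b : Bool) (hz : z ∈ U b),
        Z.presheaf.germ ⊤ z trivial e = Z.presheaf.germ (U b) z hz (sf b) := fun z b hz => by
      rw [← he b]
      exact (Z.presheaf.germ_res_apply (homOfLE le_top) z hz e).symm
    have h1 : ∀ z ∈ s, Z.presheaf.germ ⊤ z trivial e = 1 := fun z hz => (hgerm z true hz).trans (map_one _)
    have h0 : ∀ z ∉ s, Z.presheaf.germ ⊤ z trivial e = 0 := fun z hz => (hgerm z false hz).trans (map_zero _)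
    have hid : IsIdempotentElem e := by
      refine TopCat.Presheaf.section_ext Z.sheaf ⊤ (e * e) e fun z _ => ?_
      show Z.presheaf.germ ⊤ z trivial (e * e) = Z.presheaf.germ ⊤ z trivial e
      rcases Classical.em (z ∈ s) with hz | hz
      · refine (map_mul (Z.presheaf.germ ⊤ z trivial).hom e e).trans ?_
        exact (congrArg₂ (· * ·) (h1 z hz) (h1 z hz)).trans ((mul_one _).trans (h1 z hz).symm)
      · refine (map_mul (Z.presheaf.germ ⊤ z trivial).hom e e).trans ?_
        exact (congrArg₂ (· * ·) (h0 z hz) (h0 z hz)).trans ((mul_zero _).trans (h0 z hz).symm)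
    rcases h e hid with rfl | rfl
    · refine Or.inl (Set.eq_empty_iff_forall_notMem.mpr fun z hz => ?_)
      have := h1 z hz
      rw [map_zero] at this
      exact zero_ne_one this
    · refine Or.inr (Set.eq_univ_iff_forall.mpr fun z => ?_)
      by_contra hz
      have := h0 z hz
      rw [map_one] at this
      exact one_ne_zero this

end Groth.Agent.S4495
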