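import Groth.Statements.S4496
import Groth.Agent.H06FlatCx.Criteria

set_option autoImplicit false
universe u
open FlatCx

namespace Groth.Agent.S4496

open Groth.Agent.H06FlatCx

open CategoryTheory CategoryTheory.Limits MonoidalCategory in
/-- For the homological functor T_p(M) = H_p(P ⊗_A M) of a chain complex P of flat modules over a
commutative ring A: T_p takes injections to injections and surjections to surjections if and only if
T_p is isomorphic to the functor M ↦ N ⊗_A M for some flat A-module N (which is then isomorphic to
T_p(A)). -/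
theorem result {A : Type u} [CommRing A]
    (P : ChainComplex (ModuleCat.{u} A) ℤ) (hP : ∀ i, Module.Flat A (P.X i)) (p : ℤ) :
    ((CohIII.TFun P p).PreservesMonomorphisms ∧ (CohIII.TFun P p).PreservesEpimorphisms) ↔
      ∃ N : ModuleCat.{u} A, Module.Flat A N ∧ Nonempty (CohIII.TFun P p ≅ tensorLeft N) := by
  haveI := hP (p - 1)
  constructor
  · rintro ⟨hM, hE⟩
    exact ⟨ModuleCat.of A (H0 P (p + 1) p (p - 1)),
      (flat_h0_iff_mono P (down_prev p) (down_next p) hE).1 hM,
      ⟨tFunIso P (down_prev p) (down_next p)
        ((preservesEpi_iff_epiLift P (down_prev p) (down_next p)).1 hE)⟩⟩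
  · rintro ⟨N, hN, ⟨e⟩⟩
    haveI : (tensorLeft N).PreservesMonomorphisms := ⟨fun {X Y} φ _ =>
      (ModuleCat.mono_iff_injective _).2
        (Module.Flat.lTensor_preserves_injective_linearMap φ.hom
          ((ModuleCat.mono_iff_injective φ).1 inferInstance))⟩
    haveI : (tensorLeft N).PreservesEpimorphisms := ⟨fun {X Y} φ _ =>
      (ModuleCat.epi_iff_surjective _).2
        (LinearMap.lTensor_surjective N ((ModuleCat.epi_iff_surjective φ).1 inferInstance))⟩
    exact ⟨Functor.PreservesMonomorphisms.of_iso e.symm,
      Functor.PreservesEpimorphisms.of_iso e.symm⟩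

end Groth.Agent.S4496
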