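import Groth.Statements.S4498
import Groth.Agent.LeadBC.Gamma

set_option autoImplicit false
universe u
attribute [local instance] HasDerivedCategory.standard
open Coherent

namespace Groth.Agent.S4498

open AlgebraicGeometry CategoryTheory Opposite in
/-- The global form over an affine base. Let A be a Noetherian ring, X a proper A-scheme with structure
morphism f, and F, F' coherent O_X-modules flat over Spec A. Let η be a natural transformation from
the functor M ↦ Γ(X, f^*(M~) ⊗ F) to the functor M ↦ Γ(X, f^*(M~) ⊗ F') of the A-module M (the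
published statement takes η induced by a homomorphism F → F'; this row allows any natural
transformation, which is all the argument uses). Then the kernel functor M ↦ Ker(η_M) is
corepresentable by a finitely generated A-module R: there are such an R and a natural transformation
ι : Hom_A(R, −) → Γ(X, f^*(−~) ⊗ F) with injective components whose image at every M is exactly the
kernel of η_M. (R is then unique up to unique isomorphism.) -/
theorem result (A : Type u) [CommRing A]
    [IsNoetherianRing A] (X : Scheme.{u}) [X.Over (Spec (CommRingCat.of A))]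
    [IsProper (X ↘ Spec (CommRingCat.of A))] (F F' : X.Modules) (hF : Coh.IsCoh F) (hF' : Coh.IsCoh F')
    (hfl : FlatMod.IsFlatOver (X ↘ Spec (CommRingCat.of A)) F)
    (hfl' : FlatMod.IsFlatOver (X ↘ Spec (CommRingCat.of A)) F')
    (η : CohIII.tensorAFunctor A F ⋙ CohIII.globalSectionsA A ⟶ CohIII.tensorAFunctor A F' ⋙ CohIII.globalSectionsA A) :
    ∃ (R : ModuleCat.{u} A) (ι : (linearCoyoneda A (ModuleCat.{u} A)).obj (op R) ⟶
        CohIII.tensorAFunctor A F ⋙ CohIII.globalSectionsA A),
      Module.Finite A R ∧ (∀ M : ModuleCat.{u} A, Function.Injective (ι.app M).hom) ∧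
        ∀ (M : ModuleCat.{u} A) (x : (CohIII.tensorAFunctor A F ⋙ CohIII.globalSectionsA A).obj M),
          (η.app M).hom x = 0 ↔ ∃ y, (ι.app M).hom y = x := by
  obtain ⟨Q, hQ, ⟨e⟩⟩ := Groth.Agent.LeadBC.exists_corep F hF hfl
  obtain ⟨Q', hQ', ⟨e'⟩⟩ := Groth.Agent.LeadBC.exists_corep F' hF' hfl'
  let θ : (linearCoyoneda A (ModuleCat.{u} A)).obj (op Q) ⟶ (linearCoyoneda A (ModuleCat.{u} A)).obj (op Q') :=
    e.inv ≫ η ≫ e'.hom
  let u' : Q' ⟶ Q := (θ.app Q).hom (𝟙 Q)
  have hθ : ∀ (M : ModuleCat.{u} A) (ψ : Q ⟶ M), (θ.app M).hom ψ = u' ≫ ψ := fun M ψ => by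
    have := ConcreteCategory.congr_hom (θ.naturality ψ) (𝟙 Q)
    refine Eq.trans ?_ this
    show (θ.app M).hom ψ = (θ.app M).hom (𝟙 Q ≫ ψ)
    rw [Category.id_comp]
  let R : ModuleCat.{u} A := ModuleCat.of A (Q ⧸ LinearMap.range u'.hom)
  let π : Q ⟶ R := ModuleCat.ofHom (Submodule.mkQ _)
  refine ⟨R, (linearCoyoneda A (ModuleCat.{u} A)).map π.op ≫ e.inv, Module.Finite.of_surjective π.hom
    (Submodule.mkQ_surjective _), fun M => ?_, fun M x => ?_⟩
  · intro a b hab
    have h1 : π ≫ a = π ≫ b := (ConcreteCategory.bijective_of_isIso (e.inv.app M)).1 hab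
    refine ModuleCat.hom_ext (Submodule.linearMap_qext _ ?_)
    exact congrArg ModuleCat.Hom.hom h1
  · obtain ⟨ψ, rfl⟩ := (ConcreteCategory.bijective_of_isIso (e.inv.app M)).2 x
    have h : (e'.hom.app M).hom ((η.app M).hom ((e.inv.app M).hom ψ)) = u' ≫ ψ := hθ M ψ
    constructor
    · intro h0
      have hu : u' ≫ ψ = 0 := by
        rw [← h]
        exact (congrArg (e'.hom.app M).hom h0).trans (map_zero _)
      have hle : LinearMap.range u'.hom ≤ LinearMap.ker ψ.hom := by
        rintro _ ⟨q, rfl⟩
        exact ConcreteCategory.congr_hom hu q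
      refine ⟨ModuleCat.ofHom (Submodule.liftQ _ ψ.hom hle), ?_⟩
      exact congrArg (e.inv.app M).hom (ModuleCat.hom_ext (Submodule.liftQ_mkQ _ _ _))
    · rintro ⟨y, hy⟩
      have hψ : π ≫ y = ψ := (ConcreteCategory.bijective_of_isIso (e.inv.app M)).1 hy
      refine (ConcreteCategory.bijective_of_isIso (e'.hom.app M)).1 ?_
      refine h.trans (Eq.trans ?_ (map_zero (e'.hom.app M).hom).symm)
      refine (congrArg (u' ≫ ·) hψ.symm).trans ?_
      refine ModuleCat.hom_ext (LinearMap.ext fun q => ?_)
      show y.hom (Submodule.Quotient.mk (u'.hom q)) = 0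
      rw [(Submodule.Quotient.mk_eq_zero _).2 (LinearMap.mem_range_self _ q), map_zero]

end Groth.Agent.S4498
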