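import Groth.Statements.S4501
import Groth.Agent.H06FlatCx.Criteria

set_option autoImplicit false
universe u
open FlatCx

namespace Groth.Agent.S4501

open Groth.Agent.H06FlatCx

open CategoryTheory CategoryTheory.Limits in
/-- The case of finitely generated flat terms. Let A be a Noetherian domain, P a chain complex of
finitely generated flat A-modules, and for a prime y of A let P_y be the base change of P to the
local ring A_y. Then the set U of points y of Spec A such that the functor N ↦ H_p(P_y ⊗_{A_y} N) on
A_y-modules takes injections to injections and surjections to surjections is open and nonempty (it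
contains the generic point). -/
theorem result {A : Type u} [CommRing A] [IsNoetherianRing A] [IsDomain A]
    (P : ChainComplex (ModuleCat.{u} A) ℤ) (hP : ∀ i, Module.Finite A (P.X i) ∧ Module.Flat A (P.X i))
    (p : ℤ) :
    IsOpen {y : PrimeSpectrum A |
        (CohIII.TFun (CohIII.bcCx (algebraMap A (Localization.AtPrime y.asIdeal)) P) p).PreservesMonomorphisms ∧
          (CohIII.TFun (CohIII.bcCx (algebraMap A (Localization.AtPrime y.asIdeal)) P) p).PreservesEpimorphisms} ∧
      {y : PrimeSpectrum A |
        (CohIII.TFun (CohIII.bcCx (algebraMap A (Localization.AtPrime y.asIdeal)) P) p).PreservesMonomorphisms ∧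
          (CohIII.TFun (CohIII.bcCx (algebraMap A (Localization.AtPrime y.asIdeal)) P) p).PreservesEpimorphisms}.Nonempty := by
  haveI := fun i => (hP i).1
  haveI := fun i => (hP i).2
  haveI := Module.finitePresentation_of_finite A (Cok P p)
  haveI := Module.finitePresentation_of_finite A
    (P.X (p - 1) ⧸ LinearMap.range (P.d p (p - 1)).hom)
  have e : ∀ y : PrimeSpectrum A,
      ((CohIII.TFun (CohIII.bcCx (algebraMap A (Localization.AtPrime y.asIdeal)) P) p).PreservesMonomorphisms ∧
        (CohIII.TFun (CohIII.bcCx (algebraMap A (Localization.AtPrime y.asIdeal)) P) p).PreservesEpimorphisms) ↔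
      (y ∈ Module.freeLocus A (Cok P p) ∧
        y ∈ Module.freeLocus A (P.X (p - 1) ⧸ LinearMap.range (P.d p (p - 1)).hom)) := fun y => by
    rw [← flat_localization_iff_mem_freeLocus, ← flat_localization_iff_mem_freeLocus]
    exact and_congr (bcCx_mono_iff_localization P y (down_prev p) (down_next p))
      (bcCx_epi_iff_localization P y (down_prev p) (down_next p))
  constructor
  · convert (Module.isOpen_freeLocus (R := A) (M := Cok P p)).inter (Module.isOpen_freeLocus
      (R := A) (M := P.X (p - 1) ⧸ LinearMap.range (P.d p (p - 1)).hom)) using 1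
    exact Set.ext e
  · refine ⟨⟨⊥, Ideal.isPrime_bot⟩, (e _).2 ⟨?_, ?_⟩⟩
    all_goals
      rw [Module.mem_freeLocus_iff_tensor _ (Localization.AtPrime (⊥ : Ideal A))]
      letI : Field (Localization.AtPrime (⊥ : Ideal A)) :=
        IsField.toField (IsLocalRing.isField_iff_maximalIdeal_eq.2 (by
          rw [← Localization.AtPrime.map_eq_maximalIdeal, Ideal.map_bot]))
      exact Module.Free.of_divisionRing _ _

end Groth.Agent.S4501
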