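import Groth.Statements.S4503
import Groth.Agent.H06FlatCx.Watts

set_option autoImplicit false
universe u
open FlatCx

namespace Groth.Agent.S4503

open Groth.Agent.H06FlatCx
set_option backward.isDefEq.respectTransparency false

open CategoryTheory CategoryTheory.Limits in
/-- The case of A-linear functors (for commutative A, additive functors from A-modules to abelian groups
are the same as A-linear endofunctors of A-modules). Let T be an additive A-linear functor from
A-modules to A-modules commuting with arbitrary direct sums, and for an A-module M let t_M : T(A)
⊗_A M → T(M) be the canonical map sending y ⊗ x to T(θ_x)(y), where θ_x : A → M is a ↦ a x. Then t_L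
is bijective for every free A-module L. -/
theorem result {A : Type u} [CommRing A]
    (T : ModuleCat.{u} A ⥤ ModuleCat.{u} A) [T.Additive] [T.Linear A]
    [∀ J : Type u, PreservesColimitsOfShape (Discrete J) T] (L : ModuleCat.{u} A) [Module.Free A L] :
    Function.Bijective (TensorProduct.lift (LinearMap.flip
        ((ModuleCat.homLinearEquiv (S := A)).toLinearMap ∘ₗ Functor.mapLinearMap A T ∘ₗ
          (ModuleCat.homLinearEquiv (S := A)).symm.toLinearMap ∘ₗ
            (LinearMap.ringLmapEquivSelf A A L).symm.toLinearMap)) :
      TensorProduct A (T.obj (ModuleCat.of A A)) L →ₗ[A] T.obj L) := by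
  exact tMap_bijective_of_free T L

end Groth.Agent.S4503
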