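import Groth.Statements.S4504
import Groth.Agent.H06FlatCx.Watts

set_option autoImplicit false
universe u
open FlatCx

namespace Groth.Agent.S4504

open Groth.Agent.H06FlatCx
set_option backward.isDefEq.respectTransparency false

open CategoryTheory CategoryTheory.Limits in
/-- The case of A-linear functors (for commutative A, additive functors from A-modules to abelian groups
are the same as A-linear endofunctors of A-modules). Let T be an additive A-linear functor from
A-modules to A-modules commuting with arbitrary direct sums, and for an A-module M let t_M : T(A)
⊗_A M → T(M) be the canonical map sending y ⊗ x to T(θ_x)(y), θ_x : A → M being a ↦ a x. Then T is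
right exact (preserves finite colimits) if and only if t_M is bijective for every M; and also if and
only if T is half exact (sends short exact sequences to sequences exact at the middle) and t_M is
surjective for every M. -/
theorem result {A : Type u} [CommRing A]
    (T : ModuleCat.{u} A ⥤ ModuleCat.{u} A) [T.Additive] [T.Linear A]
    [∀ J : Type u, PreservesColimitsOfShape (Discrete J) T] :
    (PreservesFiniteColimits T ↔ ∀ M : ModuleCat.{u} A, Function.Bijective (TensorProduct.lift (LinearMap.flip
        ((ModuleCat.homLinearEquiv (S := A)).toLinearMap ∘ₗ Functor.mapLinearMap A T ∘ₗ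
          (ModuleCat.homLinearEquiv (S := A)).symm.toLinearMap ∘ₗ
            (LinearMap.ringLmapEquivSelf A A M).symm.toLinearMap)) :
      TensorProduct A (T.obj (ModuleCat.of A A)) M →ₗ[A] T.obj M)) ∧
    (PreservesFiniteColimits T ↔
      (∀ S : ShortComplex (ModuleCat.{u} A), S.ShortExact → (S.map T).Exact) ∧
        ∀ M : ModuleCat.{u} A, Function.Surjective (TensorProduct.lift (LinearMap.flip
        ((ModuleCat.homLinearEquiv (S := A)).toLinearMap ∘ₗ Functor.mapLinearMap A T ∘ₗ
          (ModuleCat.homLinearEquiv (S := A)).symm.toLinearMap ∘ₗ
            (LinearMap.ringLmapEquivSelf A A M).symm.toLinearMap)) :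
          TensorProduct A (T.obj (ModuleCat.of A A)) M →ₗ[A] T.obj M)) := by
  have conv : (∀ M, Function.Bijective (tMap T M)) → PreservesFiniteColimits T := fun h => by
    obtain ⟨e⟩ := preservesFiniteColimits_of_bijective T h
    haveI : PreservesFiniteColimits (MonoidalCategory.tensorLeft (T.obj (ModuleCat.of A A))) := inferInstance
    exact preservesFiniteColimits_of_natIso e.symm
  refine ⟨⟨fun h M => tMap_bijective_of_rightExact T M, conv⟩, ⟨fun h => ⟨fun S hS => ?_, fun M => (tMap_bijective_of_rightExact T M).2⟩,
    fun h => preservesFiniteColimits_of_half_exact T h.1 h.2⟩⟩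
  exact ((T.preservesFiniteColimits_iff_forall_exact_map_and_epi).mp h S hS).1

end Groth.Agent.S4504
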