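import Groth.Statements.S4508
import Groth.Agent.LeadBC.Chart
-- import your own Groth.Agent.* helpers here

set_option autoImplicit false
universe u
open Coherent

namespace Groth.Agent.S4508

open AlgebraicGeometry CategoryTheory CategoryTheory.Limits in
/-- For a single sheaf placed in degree 0 (the published statement is for a finite complex of such
sheaves). Let Y and Y' be locally Noetherian schemes, f : X ⟶ Y proper, g : Y' ⟶ Y any morphism, F a
coherent O_X-module flat over Y; let X' = X ×_Y Y' with projections f' : X' ⟶ Y' and X' ⟶ X, and F'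
the pullback of F to X'. Then F' is flat over Y', and for every point y' of Y' the Euler–Poincaré
characteristic of the fibre, Σ_i (−1)^i dim_{k(y')} H^i(X'_{y'}, F'_{y'}), equals Σ_i (−1)^i
dim_{k(g(y'))} H^i(X_{g(y')}, F_{g(y')}). -/
theorem result {X Y Y' : Scheme.{u}} (f : X ⟶ Y) (g : Y' ⟶ Y) [IsProper f]
    [IsLocallyNoetherian Y] [IsLocallyNoetherian Y'] (F : X.Modules) (hF : Coh.IsCoh F)
    (hfl : FlatMod.IsFlatOver f F) :
    FlatMod.IsFlatOver (pullback.snd f g) ((Scheme.Modules.pullback (pullback.fst f g)).obj F) ∧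
      ∀ y' : Y', PerfAux.eulerChar (pullback.snd f g) ((Scheme.Modules.pullback (pullback.fst f g)).obj F) y' =
        PerfAux.eulerChar f F (g.base y') := by
  refine ⟨fun x => H06Mod.isFlatOverAt_baseChange f g F x (hfl _), fun y' => finsum_congr fun i => ?_⟩
  refine congrArg (fun k : ℕ => (-1 : ℤ) ^ i * (k : ℤ)) ?_
  haveI : F.IsQuasicoherent := hF.1
  obtain ⟨_, ⟨V, hV : IsAffineOpen V, rfl⟩, hy, -⟩ :=
    Y.isBasis_affineOpens.exists_subset_of_mem_open (Set.mem_univ (g.base y')) isOpen_univ
  obtain ⟨ι, hι, U, hU, ⟨m⟩⟩ := LeadBC.exists_chart_model (f := f) (hV := hV) hF hfl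
  let f' := pullback.snd f g
  letI : (f'.fiber y').Over (Spec (CommRingCat.of (Y'.residueField y'))) := ⟨f'.fiberToSpecResidueField y'⟩
  refine (m.finrank_bc_chart hU (K := Y'.residueField y') (f'.fiberι y' ≫ pullback.fst f g)
    (Y'.fromSpecResidueField y' ≫ g) ?_ hy (fun s => ?_) _
    ((Scheme.Modules.pullbackComp (f'.fiberι y') (pullback.fst f g)).app F) i).trans
    (m.fiberRank_chart hU hy i).symm
  · exact (IsPullback.paste_horiz (IsPullback.of_hasPullback f' (Y'.fromSpecResidueField y'))
      (IsPullback.of_hasPullback f g))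
  · show g.base ((Y'.fromSpecResidueField y').base s) = _
    exact congrArg g.base (Scheme.fromSpecResidueField_apply y' s)

end Groth.Agent.S4508
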