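import Groth.Statements.S4509
import Groth.Agent.H06FlatCx.DVRRank

set_option autoImplicit false
universe u
open FlatCx

namespace Groth.Agent.S4509

open Groth.Agent.H06FlatCx
set_option backward.isDefEq.respectTransparency false

open CategoryTheory CategoryTheory.Limits in
/-- The chain of inequalities for the homological functor T_p(M) = H_p(P ⊗_A M) of a chain complex P of
flat modules over a discrete valuation ring A with fraction field K and residue field k, the modules
T_i(A) = H_i(P) being finitely generated: dim_k T_p(k) ≥ dim_k (T_p(A) ⊗_A k) ≥ rank_A T_p(A) =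
dim_K T_p(K). Stated as the two inequalities dim_K H_p(P ⊗_A K) ≤ dim_k (k ⊗_A H_p(P)) ≤ dim_k H_p(P
⊗_A k). -/
theorem result {A : Type u} [CommRing A] [IsDomain A] [IsDiscreteValuationRing A]
    (P : ChainComplex (ModuleCat.{u} A) ℤ) (hP : ∀ i, Module.Flat A (P.X i))
    (hfin : ∀ i, Module.Finite A (P.homology i)) (p : ℤ) :
    Module.finrank (FractionRing A) ((CohIII.bcCx (algebraMap A (FractionRing A)) P).homology p) ≤
        Module.finrank (IsLocalRing.ResidueField A)
          (TensorProduct A (IsLocalRing.ResidueField A) (P.homology p)) ∧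
      Module.finrank (IsLocalRing.ResidueField A)
          (TensorProduct A (IsLocalRing.ResidueField A) (P.homology p)) ≤
        Module.finrank (IsLocalRing.ResidueField A)
          ((CohIII.bcCx (algebraMap A (IsLocalRing.ResidueField A)) P).homology p) := by
  let e := h0Equiv P (down_prev p) (down_next p)
  haveI := hP (p - 1)
  haveI := hP (p - 1 - 1)
  haveI := hfin p
  haveI := hfin (p - 1)
  haveI : Module.Finite A (H0 P (p + 1) p (p - 1)) := Module.Finite.equiv e.symm
  haveI : Module.Finite A (H0 P p (p - 1) (p - 1 - 1)) :=
    Module.Finite.equiv (h0Equiv P (by rw [down_prev]; ring) (down_next (p - 1))).symm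
  constructor
  · rw [finrank_bc_fractionRing P (down_prev p) (down_next p)]
    exact (finrank_generic_le (H0 P (p + 1) p (p - 1))).trans_eq
      (TensorProduct.AlgebraTensorModule.congr (LinearEquiv.refl (IsLocalRing.ResidueField A) _) e).finrank_eq
  · rw [← (TensorProduct.AlgebraTensorModule.congr (LinearEquiv.refl (IsLocalRing.ResidueField A) _) e).finrank_eq,
      (bcH P (algebraMap A (IsLocalRing.ResidueField A)) (down_prev p) (down_next p)).finrank_eq]
    exact finrank_tensor_le (d_comp_d P (p + 1) p (p - 1)) (d_comp_d P p (p - 1) (p - 1 - 1))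

end Groth.Agent.S4509
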