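import Groth.Statements.S4511
import Groth.Agent.H05EGA4.CohenMinimal

set_option autoImplicit false
universe u
open EGA41

namespace Groth.Agent.S4511

open IsLocalRing in
/-- Let A be a complete Noetherian local ring whose residue field has characteristic p (p = 0 allowed).
The following are equivalent: (a) A contains a field, i.e. there is a ring homomorphism from a field
into A; (b) p·1 = 0 in A; (c) A is isomorphic to a quotient of a power series ring K[[T_1, …, T_n]]
over a field K. Moreover, when they hold, the surjection in (c) may be chosen with kernel contained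
in the square of the maximal ideal of K[[T_1, …, T_n]]. -/
theorem result (A : Type u) [CommRing A] [IsLocalRing A] [IsNoetherianRing A]
    [IsAdicComplete (maximalIdeal A) A] (p : ℕ) [CharP (ResidueField A) p] :
    [∃ (K : Type u) (_ : Field K), Nonempty (K →+* A),
     (p : A) = 0,
     ∃ (K : Type u) (_ : Field K) (n : ℕ) (f : MvPowerSeries (Fin n) K →+* A), Function.Surjective f].TFAE ∧
    ((p : A) = 0 → ∃ (K : Type u) (_ : Field K) (n : ℕ) (f : MvPowerSeries (Fin n) K →+* A),
      Function.Surjective f ∧ RingHom.ker f ≤ maximalIdeal (MvPowerSeries (Fin n) K) ^ 2) := by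
  have key : (p : A) = 0 → ∃ (K : Type u) (_ : Field K) (n : ℕ) (f : MvPowerSeries (Fin n) K →+* A),
      Function.Surjective f ∧ RingHom.ker f ≤ maximalIdeal (MvPowerSeries (Fin n) K) ^ 2 := by
    intro hp
    obtain ⟨s, hs⟩ : ∃ s : ResidueField A →+* A, ∀ x, residue A (s x) = x := by
      rcases CharP.char_is_prime_or_zero (ResidueField A) p with hpp | h0
      · haveI : Fact p.Prime := ⟨hpp⟩
        haveI : CharP A p := ⟨fun n => by
          refine ⟨fun hn => (CharP.cast_eq_zero_iff (ResidueField A) p n).1 (by
            rw [← map_natCast (residue A), hn, map_zero]), ?_⟩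
          rintro ⟨m, rfl⟩
          rw [Nat.cast_mul, hp, zero_mul]⟩
        letI : Algebra (ULift.{u} (ZMod p)) A :=
          ((ZMod.castHom (dvd_refl p) A).comp ULift.ringEquiv.toRingHom).toAlgebra
        haveI : Finite (ULift.{u} (ZMod p)) := Finite.of_equiv _ Equiv.ulift.symm
        haveI := H05EGA4.formallySmooth_of_perfectField (ULift.{u} (ZMod p)) (ResidueField A)
        obtain ⟨σ, hσ⟩ := H05EGA4.exists_coefficientField (k := ULift.{u} (ZMod p)) (A := A)
        exact ⟨σ.toRingHom, hσ⟩
      · subst h0
        haveI : CharZero (ResidueField A) := CharP.charP_to_charZero _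
        obtain ⟨s, hs⟩ := H05EGA4.exists_coefficientField_of_charZero A
        exact ⟨s, fun x => RingHom.congr_fun hs x⟩
    obtain ⟨n, f, hf, hk⟩ := H05EGA4.exists_minimal_powerSeries_presentation s fun a => ⟨residue A a, by
      rw [← residue_eq_zero_iff, map_sub, hs, sub_self]⟩
    exact ⟨_, inferInstance, n, f, hf, hk⟩
  refine ⟨?_, key⟩
  tfae_have 1 → 2 := by
    rintro ⟨K, _, ⟨φ⟩⟩
    have h1 : ((residue A).comp φ) (p : K) = 0 := by rw [map_natCast, CharP.cast_eq_zero]
    rw [← map_natCast φ p, (map_eq_zero ((residue A).comp φ)).1 h1, map_zero]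
  tfae_have 2 → 3 := fun h => by
    obtain ⟨K, hK, n, f, hf, -⟩ := key h
    exact ⟨K, hK, n, f, hf⟩
  tfae_have 3 → 1 := by
    rintro ⟨K, hK, n, f, -⟩
    exact ⟨K, hK, ⟨f.comp MvPowerSeries.C⟩⟩
  tfae_finish

end Groth.Agent.S4511
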