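import Groth.Statements.S4513
import Groth.Agent.H05EGA4.GeomFibre
import Groth.Agent.H05EGA4.CompleteNormalization
import Groth.Agent.H05EGA4.GRing

set_option autoImplicit false
set_option linter.style.haveILetI false
universe u
open EGA41

open IsLocalRing TensorProduct Groth.Agent CAlgX Groth.Agent.H05EGA4

namespace Groth.Agent.S4513

open IsLocalRing in
/-- Let A be a Noetherian local ring and k a field mapping to A such that A is formally smooth over k
for the adic topology of its maximal ideal (k discrete). Then every field K with k → K → A
(compatible ring maps) is a separable extension of k, i.e. K is geometrically reduced over k. -/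
theorem result {k A K : Type u} [Field k] [CommRing A]
    [IsLocalRing A] [IsNoetherianRing A] [Algebra k A] (h : CAlgX.IsAdicFormallySmooth k A (maximalIdeal A))
    [Field K] [Algebra k K] [Algebra K A] [IsScalarTower k K A] :
    Algebra.IsGeometricallyReduced k K := by
  have := isGeometricallyReduced_of_isGeometricallyRegular (isGeometricallyRegular_of_isAdicFormallySmooth h)
  exact Algebra.IsGeometricallyReduced.of_injective (IsScalarTower.toAlgHom k K A) (algebraMap K A).injective


end Groth.Agent.S4513
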