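import Groth.Statements.S4515
import Mathlib

set_option autoImplicit false
universe u
open EGA41

open TensorProduct
namespace Groth.Agent.S4515

/-- Let A be a ring, J an ideal of A, and M, N two A-modules which are Hausdorff for the J-adic
topology; suppose moreover that N is J-adically complete and M is flat. Let u : N → M be A-linear.
If the induced map N/JN → M/JM is bijective (surjectivity and injectivity written out below), then u
is bijective. -/
theorem result {A : Type u} [CommRing A] (J : Ideal A)
    {M N : Type u} [AddCommGroup M] [Module A M] [AddCommGroup N] [Module A N]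
    [IsHausdorff J M] [IsAdicComplete J N] [Module.Flat A M] (u : N →ₗ[A] M)
    (hsurj : ∀ m : M, ∃ n : N, m - u n ∈ (J • ⊤ : Submodule A M))
    (hinj : ∀ n : N, u n ∈ (J • ⊤ : Submodule A M) → n ∈ (J • ⊤ : Submodule A N)) :
    Function.Bijective u := by
  have hsurj' : Function.Surjective (Submodule.mkQ (J • ⊤ : Submodule A M) ∘ₗ u) := fun q => by
    obtain ⟨m, rfl⟩ := Submodule.mkQ_surjective _ q
    obtain ⟨n, hn⟩ := hsurj m
    exact ⟨n, ((Submodule.Quotient.eq _).mpr hn).symm⟩
  refine ⟨?_, surjective_of_mkQ_comp_surjective hsurj'⟩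
  have step : ∀ (k : ℕ) (n : N), u n = 0 → n ∈ (J ^ k • ⊤ : Submodule A N) → n ∈ (J ^ (k + 1) • ⊤ : Submodule A N) := by
    intro k n hu hn
    obtain ⟨t, rfl⟩ : ∃ t : ↥(J ^ k) ⊗[A] N,
        (TensorProduct.lid A N).toLinearMap ((J ^ k).subtype.rTensor N t) = n := by
      refine Submodule.smul_induction_on hn (fun a ha m _ => ⟨⟨a, ha⟩ ⊗ₜ[A] m, by simp⟩) ?_
      rintro x y ⟨s, rfl⟩ ⟨t, rfl⟩
      exact ⟨s + t, by simp only [map_add]⟩
    have hcomm : ∀ t : ↥(J ^ k) ⊗[A] N, u ((TensorProduct.lid A N).toLinearMap ((J ^ k).subtype.rTensor N t)) =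
        (TensorProduct.lid A M).toLinearMap ((J ^ k).subtype.rTensor M (u.lTensor _ t)) := by
      intro t
      induction t using TensorProduct.induction_on with
      | zero => simp
      | add x y hx hy => simp only [map_add, hx, hy]
      | tmul a m => simp
    have h1 : u.lTensor (↥(J ^ k)) t = 0 := by
      apply Module.Flat.rTensor_preserves_injective_linearMap (M := M) (J ^ k).subtype Subtype.val_injective
      apply (TensorProduct.lid A M).injective
      rw [map_zero, map_zero]
      exact (hcomm t).symm.trans hu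
    let qN := Submodule.mkQ (J • ⊤ : Submodule A N)
    let qM := Submodule.mkQ (J • ⊤ : Submodule A M)
    have hle : (J • ⊤ : Submodule A N) ≤ (J • ⊤ : Submodule A M).comap u :=
      Submodule.smul_le.mpr fun a ha m _ => by
        rw [Submodule.mem_comap, map_smul]
        exact Submodule.smul_mem_smul ha trivial
    let ub := Submodule.mapQ _ _ u hle
    have hub : Function.Bijective ub := by
      refine ⟨LinearMap.ker_eq_bot.mp (LinearMap.ker_eq_bot'.mpr fun x hx => ?_), fun q => ?_⟩
      · obtain ⟨m, rfl⟩ := Submodule.mkQ_surjective _ x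
        exact (Submodule.Quotient.mk_eq_zero _).mpr (hinj m ((Submodule.Quotient.mk_eq_zero _).mp hx))
      · obtain ⟨m, rfl⟩ := hsurj' q
        exact ⟨qN m, rfl⟩
    have h2 : qN.lTensor (↥(J ^ k)) t = 0 := by
      apply (LinearEquiv.lTensor (↥(J ^ k)) (LinearEquiv.ofBijective ub hub)).injective
      rw [map_zero]
      show (ub.lTensor (↥(J ^ k))) (qN.lTensor (↥(J ^ k)) t) = 0
      rw [← LinearMap.comp_apply, ← LinearMap.lTensor_comp, show ub ∘ₗ qN = qM ∘ₗ u from rfl,
        LinearMap.lTensor_comp, LinearMap.comp_apply, h1, map_zero]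
    let T : Submodule A N := J ^ (k + 1) • ⊤
    have hsm : ∀ a : ↥(J ^ k), (J • ⊤ : Submodule A N) ≤ LinearMap.ker (T.mkQ ∘ₗ LinearMap.lsmul A N (a : A)) := fun a =>
      Submodule.smul_le.mpr fun b hb m _ => by
        rw [LinearMap.mem_ker]
        refine (Submodule.Quotient.mk_eq_zero _).mpr ?_
        show (a : A) • b • m ∈ T
        rw [smul_smul]
        exact Submodule.smul_mem_smul (by rw [pow_succ]; exact Ideal.mul_mem_mul a.2 hb) trivial
    let Φ : ↥(J ^ k) ⊗[A] (N ⧸ (J • ⊤ : Submodule A N)) →ₗ[A] N ⧸ T :=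
      TensorProduct.lift
        { toFun := fun a => Submodule.liftQ _ (T.mkQ ∘ₗ LinearMap.lsmul A N (a : A)) (hsm a)
          map_add' := fun a b => Submodule.linearMap_qext _ (LinearMap.ext fun m => by simp [add_smul])
          map_smul' := fun c a => Submodule.linearMap_qext _ (LinearMap.ext fun m => by simp [mul_smul]) }
    have h3 : ∀ t : ↥(J ^ k) ⊗[A] N,
        Φ (qN.lTensor _ t) = T.mkQ ((TensorProduct.lid A N).toLinearMap ((J ^ k).subtype.rTensor N t)) := by
      intro t
      induction t using TensorProduct.induction_on with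
      | zero => simp
      | add x y hx hy => simp only [map_add, hx, hy]
      | tmul a m => simp [Φ, qN]
    refine (Submodule.Quotient.mk_eq_zero T).mp ?_
    exact (h3 t).symm.trans (by rw [h2, map_zero])
  refine LinearMap.ker_eq_bot.mp (LinearMap.ker_eq_bot'.mpr fun n hn => IsHausdorff.haus' (I := J) n fun k => ?_)
  rw [SModEq.zero]
  induction k with
  | zero => simp
  | succ k ih => exact step k n hn ih

end Groth.Agent.S4515
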