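import Groth.Statements.S4519
import Groth.Agent.H05EGA4.RelFS
import Groth.Agent.H05EGA4.PBasis

set_option autoImplicit false
universe u
open EGA41

namespace Groth.Agent.S4519

/-- Let p be a prime, B a ring of characteristic p and A a subring of B with B^p ⊆ A (here: A → B
injective with every p-th power in its image; R → A → B with the image of R in B equal to the set of
p-th powers, so that R stands for B^p). If B admits a p-basis over A, then B is a formally smooth
A-algebra relative to R for the discrete topologies (square-zero liftings, as in the prelude's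
relative notion). -/
theorem result (p : ℕ) [Fact p.Prime] {R A B : Type u} [CommRing R] [CommRing A]
    [CommRing B] [Algebra R A] [Algebra A B] [Algebra R B] [IsScalarTower R A B] [CharP B p]
    (hinj : Function.Injective (algebraMap A B)) (hpow : ∀ b : B, b ^ p ∈ Set.range (algebraMap A B))
    (hR : Set.range (algebraMap R B) = Set.range fun b : B => b ^ p)
    {ι : Type u} (x : ι → B) (hx : EGA41.IsPBasis p A x) :
    EGA41.IsFormallySmoothRel R A B := by
  have hC : EGA41.pPowerSubalgebra p A B = ⊥ := le_antisymm
    (Algebra.adjoin_le fun z ⟨b, hb⟩ => by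
      obtain ⟨a, ha⟩ := hpow b
      exact Algebra.mem_bot.2 ⟨a, ha.trans hb⟩) bot_le
  have hli : LinearIndependent A
      (fun e : {e : ι →₀ ℕ // ∀ i, e i < p} => EGA41.pMonomial x e.1) := by
    refine LinearIndependent.restrict_scalars (R := A) (K := EGA41.pPowerSubalgebra p A B) ?_ hx.1
    intro a b hab
    refine hinj ?_
    have h := congrArg Subtype.val hab
    simpa [Algebra.algebraMap_eq_smul_one] using h
  have hgen : Submodule.span A
      (Set.range fun e : {e : ι →₀ ℕ // ∀ i, e i < p} => EGA41.pMonomial x e.1) = ⊤ := by
    have h := (Groth.Agent.H05EGA4.PBasis.isPGenerating_iff p x).1 hx.2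
    rw [Groth.Agent.H05EGA4.PBasis.span_eq_adjoin p hpow x, Algebra.toSubmodule_eq_top, eq_top_iff]
    rintro b -
    have hb : b ∈ Algebra.adjoin (EGA41.pPowerSubalgebra p A B) (Set.range x) := h ▸ Algebra.mem_top
    induction hb using Algebra.adjoin_induction with
    | mem z hz => exact Algebra.subset_adjoin hz
    | algebraMap c =>
      obtain ⟨a, ha⟩ := Algebra.mem_bot.1 (show (c : B) ∈ (⊥ : Subalgebra A B) from hC ▸ c.2)
      show (c : B) ∈ _
      rw [← ha]
      exact Subalgebra.algebraMap_mem _ a
    | add u v _ _ hu hv => exact add_mem hu hv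
    | mul u v _ _ hu hv => exact mul_mem hu hv
  refine Groth.Agent.H05EGA4.RelFS.isFormallySmoothRel_of_ext ?_
  intro M _ _ _ _ _ _ _ D₀
  obtain ⟨D', hD', -⟩ := Groth.Agent.H05EGA4.PBasis.exists_extend p hpow x hli hgen (D₀.restrictScalars ℤ)
    (fun a b hab => by
      obtain ⟨r, hr⟩ : b ^ p ∈ Set.range (algebraMap R B) := hR ▸ ⟨b, rfl⟩
      have : a = algebraMap R A r := hinj (by rw [hab, ← hr, IsScalarTower.algebraMap_apply R A B])
      show D₀ a = 0
      rw [this, Derivation.map_algebraMap]) 0
  exact ⟨Derivation.mk'
    { toFun := D'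
      map_add' := map_add D'
      map_smul' := fun r b => by
        have h0 : D' (algebraMap R B r) = 0 := by
          rw [IsScalarTower.algebraMap_apply R A B, hD']
          exact D₀.map_algebraMap r
        rw [RingHom.id_apply, Algebra.smul_def, D'.leibniz, h0, smul_zero, add_zero, algebraMap_smul] }
    fun a b => D'.leibniz a b, hD'⟩

end Groth.Agent.S4519
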