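import Groth.Statements.S4520
import Groth.Agent.H05EGA4.ImperfectionBasis
-- import your own Groth.Agent.* helpers here

set_option autoImplicit false
universe u
open EGA41

namespace Groth.Agent.S4520

open TensorProduct in
/-- Let p be a prime, B a reduced ring of characteristic p, A a subring with B^p ⊆ A ⊆ B (here A → B
injective with all p-th powers in its image, and R → A → B with image in B the set of p-th powers, R
standing for B^p). Suppose B has a p-basis (x_λ) over A and A has a p-basis over R, and let x'_λ ∈ A
map to x_λ^p. Then the elements 1 ⊗ d_{A/ℤ}(x'_λ) form a basis of the B-module Υ_{B/A}, the kernel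
of B ⊗_A Ω_{A/ℤ} → Ω_{B/ℤ}. (The published statement also identifies Υ_{B/A} with the Frobenius
twist of Ω_{B/A}; this row states only the basis.) -/
theorem result (p : ℕ) [Fact p.Prime] {R A B : Type u} [CommRing R] [CommRing A]
    [CommRing B] [IsReduced B] [Algebra R A] [Algebra A B] [Algebra R B] [IsScalarTower R A B] [CharP B p]
    (hinj : Function.Injective (algebraMap A B)) (hpow : ∀ b : B, b ^ p ∈ Set.range (algebraMap A B))
    (hR : Set.range (algebraMap R B) = Set.range fun b : B => b ^ p)
    {Λ M : Type u} (x : Λ → B) (hx : EGA41.IsPBasis p A x) (x' : Λ → A) (hx' : ∀ i, algebraMap A B (x' i) = x i ^ p)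
    (y : M → A) (hy : EGA41.IsPBasis p R y) :
    ∃ b : Module.Basis Λ B (EGA41.imperfection ℤ A B),
      ∀ i, (b i : B ⊗[A] Ω[A⁄ℤ]) = (1 : B) ⊗ₜ[A] KaehlerDifferential.D ℤ A (x' i) := by
  exact Groth.Agent.H05EGA4.ImperfectionBasis.exists_basis p hinj hpow hR x hx x' hx' y hy

end Groth.Agent.S4520
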