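import Groth.Statements.S4522
import Groth.Agent.H05EGA4.PBasis

set_option autoImplicit false
universe u
open EGA41

namespace Groth.Agent.S4522

/-- Let L be a field of characteristic p > 0 and K a subfield with L^p ⊆ K ⊆ L (here R → K → L with the
image of R in L the set of p-th powers and every p-th power of L in the image of K). Then the
canonical L-linear map L ⊗_K Ω_{K/L^p} → Ω_{L/L^p} is injective, so that 0 → Ω_{K/L^p} ⊗_K L →
Ω_{L/L^p} → Ω_{L/K} → 0 is exact: the imperfection module of L over K relative to L^p vanishes. -/
theorem result (p : ℕ) [Fact p.Prime] {R K L : Type u} [Field R] [Field K] [Field L]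
    [Algebra R K] [Algebra K L] [Algebra R L] [IsScalarTower R K L] [CharP L p]
    (hR : Set.range (algebraMap R L) = Set.range fun y : L => y ^ p)
    (hK : ∀ y : L, y ^ p ∈ Set.range (algebraMap K L)) :
    Function.Injective (KaehlerDifferential.mapBaseChange R K L) := by
  obtain ⟨S, hx⟩ := Groth.Agent.H05EGA4.PBasis.exists_pBasis p (k := K) (K := L)
  have hC : EGA41.pPowerSubalgebra p K L = ⊥ := le_antisymm
    (Algebra.adjoin_le fun z ⟨b, hb⟩ => by
      obtain ⟨a, ha⟩ := hK b
      exact Algebra.mem_bot.2 ⟨a, ha.trans hb⟩) bot_le
  have hli : LinearIndependent K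
      (fun e : {e : S →₀ ℕ // ∀ i, e i < p} => EGA41.pMonomial (Subtype.val : S → L) e.1) := by
    refine LinearIndependent.restrict_scalars (R := K) (K := EGA41.pPowerSubalgebra p K L) ?_ hx.1
    intro a b hab
    refine (algebraMap K L).injective ?_
    have h := congrArg Subtype.val hab
    simpa [Algebra.algebraMap_eq_smul_one] using h
  have hgen : Submodule.span K
      (Set.range fun e : {e : S →₀ ℕ // ∀ i, e i < p} => EGA41.pMonomial (Subtype.val : S → L) e.1) = ⊤ := by
    have h := (Groth.Agent.H05EGA4.PBasis.isPGenerating_iff p (Subtype.val : S → L)).1 hx.2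
    rw [Groth.Agent.H05EGA4.PBasis.span_eq_adjoin p hK, Algebra.toSubmodule_eq_top, eq_top_iff]
    rintro b -
    have hb : b ∈ Algebra.adjoin (EGA41.pPowerSubalgebra p K L) (Set.range (Subtype.val : S → L)) :=
      h ▸ Algebra.mem_top
    induction hb using Algebra.adjoin_induction with
    | mem z hz => exact Algebra.subset_adjoin hz
    | algebraMap c =>
      obtain ⟨a, ha⟩ := Algebra.mem_bot.1 (show (c : L) ∈ (⊥ : Subalgebra K L) from hC ▸ c.2)
      show (c : L) ∈ _
      rw [← ha]
      exact Subalgebra.algebraMap_mem _ a
    | add u v _ _ hu hv => exact add_mem hu hv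
    | mul u v _ _ hu hv => exact mul_mem hu hv
  let D₀ : Derivation R K (TensorProduct K L (KaehlerDifferential R K)) :=
    (TensorProduct.mk K L (KaehlerDifferential R K) 1).compDer (KaehlerDifferential.D R K)
  obtain ⟨D', hD', -⟩ := Groth.Agent.H05EGA4.PBasis.exists_extend p hK (Subtype.val : S → L) hli hgen (D₀.restrictScalars ℤ)
    (fun a b hab => by
      obtain ⟨r, hr⟩ : b ^ p ∈ Set.range (algebraMap R L) := hR ▸ ⟨b, rfl⟩
      have : a = algebraMap R K r := (algebraMap K L).injective
        (by rw [hab, ← hr, IsScalarTower.algebraMap_apply R K L])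
      show D₀ a = 0
      rw [this, Derivation.map_algebraMap]) 0
  let d : Derivation R L (TensorProduct K L (KaehlerDifferential R K)) := Derivation.mk'
    { toFun := D'
      map_add' := map_add D'
      map_smul' := fun r b => by
        have h0 : D' (algebraMap R L r) = 0 := by
          rw [IsScalarTower.algebraMap_apply R K L, hD']
          exact D₀.map_algebraMap r
        rw [RingHom.id_apply, Algebra.smul_def, D'.leibniz, h0, smul_zero, add_zero, algebraMap_smul] }
    fun a b => D'.leibniz a b
  refine Function.LeftInverse.injective (g := d.liftKaehlerDifferential) fun z => ?_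
  induction z using TensorProduct.induction_on with
  | zero => simp
  | add u v hu hv => rw [map_add, map_add, hu, hv]
  | tmul l ω =>
    rw [KaehlerDifferential.mapBaseChange_tmul, map_smul]
    have hω : ω ∈ Submodule.span K (Set.range (KaehlerDifferential.D R K)) := by
      rw [KaehlerDifferential.span_range_derivation]; trivial
    induction hω using Submodule.span_induction with
    | mem w hw =>
      obtain ⟨a, rfl⟩ := hw
      rw [KaehlerDifferential.map_D, Derivation.liftKaehlerDifferential_comp_D]
      show l • D' (algebraMap K L a) = _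
      rw [hD']
      show l • TensorProduct.tmul K (1 : L) _ = _
      rw [TensorProduct.smul_tmul', smul_eq_mul, mul_one]
      rfl
    | zero => simp
    | add u v _ _ hu hv => rw [map_add, map_add, smul_add, hu, hv, TensorProduct.tmul_add]
    | smul c u _ hu =>
      rw [map_smul, LinearMap.map_smul_of_tower, smul_comm, hu, TensorProduct.tmul_smul]

end Groth.Agent.S4522
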