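import Groth.Statements.S4524
import Mathlib

set_option autoImplicit false
set_option maxHeartbeats 800000
universe u
open EGA41

open Cardinal TensorProduct

namespace Groth.Agent.S4524

/-- Let k be a field of characteristic 0 and K an extension of k. Then Ω_{K/k} = 0 if and only if K is
an algebraic extension of k. -/
theorem result {k K : Type u} [Field k] [CharZero k] [Field K] [Algebra k K] :
    Subsingleton (Ω[K⁄k]) ↔ Algebra.IsAlgebraic k K := by
  constructor
  · intro hΩ
    obtain ⟨s, hs⟩ := exists_isTranscendenceBasis k K
    by_contra hna
    have hne : Nonempty s := by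
      by_contra h
      rw [not_nonempty_iff] at h
      exact hna ((hs.isEmpty_iff_isAlgebraic).mp h)
    let x : s → K := fun a => a.1
    letI : Algebra (MvPolynomial s k) K := (MvPolynomial.aeval x).toRingHom.toAlgebra
    have : IsScalarTower k (MvPolynomial s k) K :=
      IsScalarTower.of_algebraMap_eq fun a => (MvPolynomial.aeval x).commutes a |>.symm
    have hinj : Function.Injective (algebraMap (MvPolynomial s k) K) := hs.1
    have : FaithfulSMul (MvPolynomial s k) K := (faithfulSMul_iff_algebraMap_injective _ _).mpr hinj
    have : Algebra.IsAlgebraic (Algebra.adjoin k (Set.range x)) K := hs.isAlgebraic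
    have halg : Algebra.IsAlgebraic (MvPolynomial s k) K :=
      Algebra.IsAlgebraic.of_ringHom_of_comp_eq (S := Algebra.adjoin k (Set.range x)) (B := K)
        (hs.1.aevalEquiv).toRingEquiv.toRingHom (RingHom.id K) (hs.1.aevalEquiv).surjective
        Function.injective_id (by ext a <;> simp [RingHom.algebraMap_toAlgebra, x])
    let F := FractionRing (MvPolynomial s k)
    letI : Algebra F K := FractionRing.liftAlgebra _ _
    have : IsScalarTower (MvPolynomial s k) F K := FractionRing.isScalarTower_liftAlgebra _ _
    have : Algebra.IsAlgebraic F K := IsFractionRing.comap_isAlgebraic_iff.mp halg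
    have : CharZero F := charZero_of_injective_algebraMap (algebraMap k F).injective
    have : Algebra.IsSeparable F K := Algebra.IsAlgebraic.isSeparable_of_perfectField
    have : Algebra.FormallyEtale F K := Algebra.FormallyEtale.of_isSeparable F K
    have : Algebra.FormallyEtale (MvPolynomial s k) F :=
      Algebra.FormallyEtale.of_isLocalization (nonZeroDivisors _)
    have : Algebra.FormallyEtale (MvPolynomial s k) K := Algebra.FormallyEtale.comp _ F K
    let b := (KaehlerDifferential.mvPolynomialBasis k s).baseChange K
    have : Subsingleton (K ⊗[MvPolynomial s k] Ω[MvPolynomial s k⁄k]) :=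
      (KaehlerDifferential.tensorKaehlerEquivOfFormallyEtale k (MvPolynomial s k) K).subsingleton
    obtain ⟨a⟩ := hne
    exact b.ne_zero a (Subsingleton.elim _ _)
  · intro h
    have : Algebra.IsSeparable k K := Algebra.IsAlgebraic.isSeparable_of_perfectField
    exact (Algebra.FormallyUnramified.of_isSeparable k K).subsingleton_kaehlerDifferential


end Groth.Agent.S4524
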