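import Groth.Statements.S4526
import Groth.Agent.S4525

set_option autoImplicit false
universe u
open EGA41

namespace Groth.Agent.S4526

open TensorProduct KaehlerDifferential in
/-- Let k ⊆ K ⊆ L be three fields with L an extension of finite type of k. Then Ω_{L/k} and Ω_{K/k} are
finite-dimensional and rank_L Ω_{L/k} − rank_K Ω_{K/k} ≥ trdeg_K L. (The published statement also
gives the exact value trdeg_K L + d(L/K, k) and an equality criterion; this row states only the
inequality.) -/
theorem result {k K L : Type u} [Field k] [Field K] [Field L]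
    [Algebra k K] [Algebra K L] [Algebra k L] [IsScalarTower k K L] [Algebra.EssFiniteType k L] :
    Module.Finite L (Ω[L⁄k]) ∧ Module.Finite K (Ω[K⁄k]) ∧
      (Cardinal.toNat (Algebra.trdeg K L) : ℤ) ≤ (Module.finrank L (Ω[L⁄k]) : ℤ) - Module.finrank K (Ω[K⁄k]) := by
  haveI : Algebra.EssFiniteType K L := Algebra.EssFiniteType.of_comp k K L
  obtain ⟨h1, h2, h3⟩ := Groth.Agent.S4525.result (k := k) (K := K) (L := L)
  haveI := h2
  haveI : Module.Finite L (LinearMap.ker (KaehlerDifferential.mapBaseChange k K L)) := h2
  have hex := KaehlerDifferential.exact_mapBaseChange_map k K L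
  haveI hL : Module.Finite L (Ω[L⁄k]) := inferInstance
  haveI hT : Module.Finite L (L ⊗[K] Ω[K⁄k]) :=
    (Submodule.fg_iff_finiteDimensional (⊤ : Submodule L _)).1
      (Submodule.fg_of_fg_map_of_fg_inf_ker (KaehlerDifferential.mapBaseChange k K L)
        ((Submodule.fg_iff_finiteDimensional _).2 inferInstance)
        ((Submodule.fg_iff_finiteDimensional _).2 (by rw [top_inf_eq]; infer_instance))) |>.equiv
      Submodule.topEquiv
  have hK : Module.Finite K (Ω[K⁄k]) := Module.Finite.of_finite_tensorProduct_of_faithfullyFlat L
  haveI := hK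
  refine ⟨hL, hK, ?_⟩
  have e1 : Module.finrank L (L ⊗[K] Ω[K⁄k]) = Module.finrank K Ω[K⁄k] := Module.finrank_baseChange
  have e2 := (KaehlerDifferential.mapBaseChange k K L).finrank_range_add_finrank_ker
  have e3 := (KaehlerDifferential.map k K L L).finrank_range_add_finrank_ker
  rw [LinearMap.range_eq_top.2 (KaehlerDifferential.map_surjective k K L), finrank_top,
    LinearMap.exact_iff.1 hex] at e3
  have e4 : Module.finrank L (EGA41.imperfection k K L) =
      Module.finrank L (LinearMap.ker (KaehlerDifferential.mapBaseChange k K L)) := rfl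
  omega

end Groth.Agent.S4526
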