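import Groth.Statements.S4529
import Mathlib.RingTheory.Nakayama
import Mathlib.RingTheory.OrzechProperty
import Mathlib.RingTheory.FiniteType
import Mathlib.RingTheory.Nilpotent.Lemmas
import Mathlib.RingTheory.Nilpotent.Basic

set_option autoImplicit false
universe u
open EGA41

namespace Groth.Agent.S4529

/-- Let A be a ring, M, N two A-modules with N projective, u : M → N a homomorphism and J an ideal of A;
suppose either (i) J is nilpotent, or (ii) J is contained in the Jacobson radical of A and M is of
finite type. Then u is left invertible if and only if the induced map u₀ : M/JM → N/JN is left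
invertible. (A left inverse of u₀ composed with N → N/JN is an A-linear map v : N → M/JM with v ∘ u
the projection, and conversely; the right-hand side is written in that form.) -/
theorem result {A : Type u} [CommRing A] {M N : Type u} [AddCommGroup M] [Module A M]
    [AddCommGroup N] [Module A N] [Module.Projective A N] (u : M →ₗ[A] N) (J : Ideal A)
    (hJ : IsNilpotent J ∨ (J ≤ (⊥ : Ideal A).jacobson ∧ Module.Finite A M)) :
    (∃ w : N →ₗ[A] M, w ∘ₗ u = LinearMap.id) ↔
      ∃ v : N →ₗ[A] M ⧸ (J • ⊤ : Submodule A M), v ∘ₗ u = (J • ⊤ : Submodule A M).mkQ := by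
  refine ⟨fun ⟨w, hw⟩ => ⟨(J • ⊤ : Submodule A M).mkQ ∘ₗ w, by rw [LinearMap.comp_assoc, hw, LinearMap.comp_id]⟩, ?_⟩
  rintro ⟨v, hv⟩
  obtain ⟨w₀, hw₀⟩ := Module.projective_lifting_property (J • ⊤ : Submodule A M).mkQ v (Submodule.mkQ_surjective _)
  let φ : M →ₗ[A] M := w₀ ∘ₗ u
  have hm : ∀ m, m - φ m ∈ (J • ⊤ : Submodule A M) := fun m => by
    rw [← Submodule.Quotient.eq]
    have := LinearMap.congr_fun hv m
    rw [← hw₀] at this
    exact this.symm
  have hb : Function.Bijective φ := by
    rcases hJ with ⟨n, hn⟩ | ⟨hJ, hfin⟩
    · have : IsUnit φ := by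
        rw [show φ = 1 - (1 - φ) by simp]
        refine IsNilpotent.isUnit_one_sub ⟨n, LinearMap.ext fun m => ?_⟩
        have key : ∀ k, ∀ x : M, ((1 - φ) ^ k) x ∈ (J ^ k • ⊤ : Submodule A M) := by
          intro k
          induction k with
          | zero => simp
          | succ k ih =>
            intro x
            rw [show ((1 - φ) ^ (k + 1)) x = (1 - φ) (((1 - φ) ^ k) x) by rw [pow_succ']; rfl, pow_succ]
            refine Submodule.smul_induction_on (ih x) (fun a ha y _ => ?_) (fun a b ha hb => by rw [map_add]; exact add_mem ha hb)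
            rw [map_smul, mul_smul]
            exact Submodule.smul_mem_smul ha (hm y)
        simpa [hn] using key n m
      exact (Module.End.isUnit_iff φ).1 this
    · have hs : Function.Surjective φ := by
        rw [← LinearMap.range_eq_top, eq_top_iff]
        refine Submodule.le_of_le_smul_of_le_jacobson_bot hfin.fg_top hJ ?_
        intro x _
        rw [← sub_add_cancel x (φ x), add_comm]
        exact Submodule.add_mem_sup ⟨x, rfl⟩ (hm x)
      exact OrzechProperty.bijective_of_surjective_endomorphism φ hs
  let e := LinearEquiv.ofBijective φ hb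
  exact ⟨e.symm.toLinearMap ∘ₗ w₀, LinearMap.ext fun m => e.symm_apply_apply m⟩


end Groth.Agent.S4529
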