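import Groth.Statements.S4531
import Groth.Agent.H05EGA4.LeftInv

set_option autoImplicit false
universe u
open EGA41

namespace Groth.Agent.S4531

open TensorProduct in
/-- Let A be a ring, M an A-module of finite type, N a projective A-module and u : M → N a homomorphism.
(i) u is left invertible if and only if u_𝔪 : M_𝔪 → N_𝔪 is left invertible for every maximal ideal 𝔪
of A. (ii) If A' is an A-algebra which is a faithfully flat A-module, u is left invertible if and
only if u ⊗ 1 : M ⊗_A A' → N ⊗_A A' is left invertible (as an A'-linear map). -/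
theorem result {A : Type u} [CommRing A] {M N : Type u} [AddCommGroup M] [Module A M]
    [Module.Finite A M] [AddCommGroup N] [Module A N] [Module.Projective A N] (u : M →ₗ[A] N) :
    ((∃ w : N →ₗ[A] M, w ∘ₗ u = LinearMap.id) ↔
      ∀ (m : Ideal A) [m.IsMaximal],
        ∃ w : LocalizedModule m.primeCompl N →ₗ[A] LocalizedModule m.primeCompl M,
          w ∘ₗ LocalizedModule.map m.primeCompl u = LinearMap.id) ∧
    ∀ (A' : Type u) [CommRing A'] [Algebra A A'] [Module.FaithfullyFlat A A'],
      (∃ w : N →ₗ[A] M, w ∘ₗ u = LinearMap.id) ↔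
        ∃ w : A' ⊗[A] N →ₗ[A'] A' ⊗[A] M, w ∘ₗ u.baseChange A' = LinearMap.id := by
  have key : (∀ (m : Ideal A) [m.IsMaximal], ∃ (g : A) (w : N →ₗ[A] M), g ∉ m ∧ ∀ x, w (u x) = g • x) →
      ∃ w : N →ₗ[A] M, w ∘ₗ u = LinearMap.id := by
    intro h
    let I : Ideal A :=
      { carrier := {g | ∃ w : N →ₗ[A] M, ∀ x, w (u x) = g • x}
        add_mem' := fun {a b} ⟨v, hv⟩ ⟨w, hw⟩ => ⟨v + w, fun x => by simp [hv, hw, add_smul]⟩
        zero_mem' := ⟨0, fun x => by simp⟩
        smul_mem' := fun c a ⟨v, hv⟩ => ⟨c • v, fun x => by simp [hv, mul_smul]⟩ }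
    have htop : I = ⊤ := by
      by_contra hI
      obtain ⟨m, hm, hIm⟩ := Ideal.exists_le_maximal I hI
      obtain ⟨g, w, hg, hw⟩ := h m
      exact hg (hIm ⟨w, hw⟩)
    obtain ⟨w, hw⟩ : (1 : A) ∈ I := htop ▸ Submodule.mem_top
    exact ⟨w, LinearMap.ext fun x => (hw x).trans (one_smul A x)⟩
  refine ⟨⟨fun ⟨w, hw⟩ m hm => ?_, fun h => key fun m hm => ?_⟩, fun A' _ _ _ => ⟨?_, ?_⟩⟩
  · exact H05EGA4.LeftInv.exists_leftInverse_localized u (S := m.primeCompl) (g := 1)
      (Submonoid.one_mem _) (w := w) fun x => (LinearMap.congr_fun hw x).trans (one_smul A x).symm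
  · obtain ⟨w, hw⟩ := h m
    exact H05EGA4.LeftInv.exists_smul_leftInverse u m
      (H05EGA4.LeftInv.injective_lTensor_of_localized u (S := m.primeCompl) _
        (fun s hs => isUnit_iff_ne_zero.2 fun h => hs (Ideal.algebraMap_residueField_eq_zero.1 h)) w hw)
  · rintro ⟨w, hw⟩
    exact ⟨w.baseChange A', by rw [← LinearMap.baseChange_comp, hw, LinearMap.baseChange_id]⟩
  · rintro ⟨w, hw⟩
    refine key fun m hm => H05EGA4.LeftInv.exists_smul_leftInverse u m ?_
    rw [← Module.FaithfullyFlat.lTensor_injective_iff_injective A A']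
    have hl : Function.LeftInverse ((w.restrictScalars A).lTensor m.ResidueField)
        (((u.baseChange A').restrictScalars A).lTensor m.ResidueField) := fun z => by
      rw [← LinearMap.comp_apply, ← LinearMap.lTensor_comp, ← LinearMap.restrictScalars_comp, hw]
      exact LinearMap.lTensor_id_apply _ _ z
    have he : (u.lTensor m.ResidueField).lTensor A' =
        (TensorProduct.leftComm A m.ResidueField A' N).toLinearMap ∘ₗ
          ((u.baseChange A').restrictScalars A).lTensor m.ResidueField ∘ₗ
            (TensorProduct.leftComm A m.ResidueField A' M).symm.toLinearMap := by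
      ext a b c
      simp
    rw [he]
    exact (TensorProduct.leftComm A m.ResidueField A' N).injective.comp
      (hl.injective.comp (TensorProduct.leftComm A m.ResidueField A' M).symm.injective)

end Groth.Agent.S4531
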