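import Groth.Statements.S4534
import Mathlib
import Groth.Prelude.Def_EGA41
import Groth.Agent.H05EGA4.FSAdic
import Groth.Agent.S9316

set_option autoImplicit false
set_option linter.style.haveILetI false
universe u
open EGA41

open IsLocalRing TensorProduct Groth.Agent CAlgX Groth.Agent.H05EGA4

namespace Groth.Agent.S4534

/-- Let A → B → C be continuous homomorphisms of adic rings (A with the 𝔞-adic, B the 𝔟-adic, C the
𝔠-adic topology; continuity: a power of 𝔞 maps into 𝔟 and a power of 𝔟 into 𝔠). If B is formally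
smooth over A and C formally smooth over B, then C is formally smooth over A. -/
theorem result {A B C : Type u} [CommRing A] [CommRing B] [CommRing C] [Algebra A B] [Algebra B C]
    [Algebra A C] [IsScalarTower A B C] (𝔞 : Ideal A) (𝔟 : Ideal B) (𝔠 : Ideal C)
    (hAB : ∃ k : ℕ, (𝔞 ^ k).map (algebraMap A B) ≤ 𝔟) (hBC : ∃ k : ℕ, (𝔟 ^ k).map (algebraMap B C) ≤ 𝔠)
    (hB : EGA41.IsFormallySmoothAdic A 𝔞 B 𝔟) (hC : EGA41.IsFormallySmoothAdic B 𝔟 C 𝔠) :
    EGA41.IsFormallySmoothAdic A 𝔞 C 𝔠 := by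
  intro E _ _ J hJ h𝔞 u ⟨l, hl⟩
  obtain ⟨k, hk⟩ := hBC
  have hBk : ∀ x ∈ 𝔟 ^ (k * l), u (algebraMap B C x) = 0 := fun x hx => by
    refine hl _ ?_
    rw [pow_mul] at hx
    have h1 := Ideal.mem_map_of_mem (algebraMap B C) hx
    rw [Ideal.map_pow] at h1
    exact Ideal.pow_right_mono hk l h1
  obtain ⟨w, hw⟩ := hB E J hJ h𝔞 (u.comp (IsScalarTower.toAlgHom A B C)) ⟨k * l, hBk⟩
  letI : Algebra B E := w.toRingHom.toAlgebra
  have : IsScalarTower A B E := IsScalarTower.of_algebraMap_eq fun a => (w.commutes a).symm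
  obtain ⟨s, hs⟩ := id hJ
  have h𝔟 : ∃ j : ℕ, (𝔟 ^ j).map (algebraMap B E) = ⊥ := ⟨k * l * s, by
    rw [pow_mul, Ideal.map_pow, ← le_bot_iff]
    refine (Ideal.pow_right_mono (Ideal.map_le_iff_le_comap.mpr fun x hx => ?_) s).trans hs.le
    rw [Ideal.mem_comap, ← Ideal.Quotient.eq_zero_iff_mem]
    exact (AlgHom.congr_fun hw x).trans (hBk x hx)⟩
  let u' : C →ₐ[B] E ⧸ J := { u.toRingHom with commutes' := fun b => (AlgHom.congr_fun hw b).symm }
  obtain ⟨v, hv⟩ := hC E J hJ h𝔟 u' ⟨l, hl⟩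
  exact ⟨v.restrictScalars A, AlgHom.ext fun x => AlgHom.congr_fun hv x⟩


end Groth.Agent.S4534
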