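import Groth.Statements.S4539
import Mathlib
import Groth.Agent.H06Red.Algebra

set_option autoImplicit false
universe u
open EGA41

namespace Groth.Agent.S4539

theorem flat_iff_of_tower {R P A : Type} [CommRing R] [CommRing P] [CommRing A] [Algebra R P] (S : Submonoid R)
    [IsLocalization S P] [Algebra P A] [Algebra R A] (h : algebraMap R A = (algebraMap P A).comp (algebraMap R P)) :
    Module.Flat P A ↔ Module.Flat R A :=
  haveI : IsScalarTower R P A := IsScalarTower.of_algebraMap_eq' h
  Module.flat_iff_of_isLocalization P S A

theorem flat_iff_flat_int (P : Type) [CommRing P] [Algebra ℤ P] (S : Submonoid ℤ) [IsLocalization S P]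
    (A : Type) [CommRing A] [Algebra P A] : Module.Flat P A ↔ Module.Flat ℤ A :=
  flat_iff_of_tower S (RingHom.ext_int _ _)

open IsLocalRing in
/-- Let A be a local ring with residue characteristic p (p = 0 or a prime), P the prime local ring ℤ_(p)
(ℚ if p = 0) and P → A its unique local homomorphism. Then A is a Cohen ring, i.e. a Cohen P-algebra
— Noetherian and complete, flat over P, with pA its maximal ideal (and residue field separable over
the prime field) — if and only if A is a field of characteristic 0 or a complete discrete valuation
ring of residue characteristic > 0 whose maximal ideal is generated by p·1. -/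
theorem result (p : ℕ) [hp : (Ideal.span {(p : ℤ)}).IsPrime]
    {A : Type} [CommRing A] [IsLocalRing A] [CharP (ResidueField A) p]
    [Algebra (Localization.AtPrime (Ideal.span {(p : ℤ)})) A]
    [IsLocalHom (algebraMap (Localization.AtPrime (Ideal.span {(p : ℤ)})) A)] :
    EGA41.IsCohenAlgebra (Localization.AtPrime (Ideal.span {(p : ℤ)})) A ↔ EGA41.IsCohenRingEGA A := by
  haveI hPfin : PerfectField (ResidueField (Localization.AtPrime (Ideal.span {(p : ℤ)}))) := by
    rcases eq_or_ne p 0 with h | h
    · subst h
      haveI : CharZero (ResidueField (Localization.AtPrime (Ideal.span {((0 : ℕ) : ℤ)}))) := by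
        haveI : CharP (ResidueField (Localization.AtPrime (Ideal.span {((0 : ℕ) : ℤ)}))) 0 := by
          refine ⟨fun n => ?_⟩
          rw [← map_natCast (residue (Localization.AtPrime (Ideal.span {((0 : ℕ) : ℤ)}))), residue_eq_zero_iff,
            ← map_natCast (algebraMap ℤ (Localization.AtPrime (Ideal.span {((0 : ℕ) : ℤ)}))),
            IsLocalization.AtPrime.to_map_mem_maximal_iff _ (Ideal.span {((0 : ℕ) : ℤ)})]
          simp
        exact CharP.charP_to_charZero _
      infer_instance
    · haveI : (Ideal.span {(p : ℤ)}).IsMaximal := hp.isMaximal (by simpa using h)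
      haveI : Fintype (ℤ ⧸ Ideal.span {(p : ℤ)}) := by
        haveI : NeZero p := ⟨h⟩
        exact Fintype.ofEquiv (ZMod p) (Int.quotientSpanNatEquivZMod p).symm.toEquiv
      haveI : Finite (ResidueField (Localization.AtPrime (Ideal.span {(p : ℤ)}))) :=
        Finite.of_equiv _ (IsLocalization.AtPrime.equivQuotMaximalIdeal (Ideal.span {(p : ℤ)})
          (Localization.AtPrime (Ideal.span {(p : ℤ)}))).toEquiv
      infer_instance
  let P := Localization.AtPrime (Ideal.span {(p : ℤ)})
  haveI : IsNoetherianRing P := IsLocalization.isNoetherianRing (Ideal.span {(p : ℤ)}).primeCompl P inferInstance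
  have hmapP : maximalIdeal P = Ideal.span {(p : P)} := by
    rw [← IsLocalization.AtPrime.map_eq_maximalIdeal (Ideal.span {(p : ℤ)}) P, Ideal.map_span, Set.image_singleton, map_natCast]
  have hmap : (maximalIdeal P).map (algebraMap P A) = Ideal.span {(p : A)} := by
    rw [hmapP, Ideal.map_span, Set.image_singleton, map_natCast]
  have hgr : Algebra.IsGeometricallyReduced (ResidueField P) (ResidueField A) :=
    H06Red.isGeometricallyReduced_of_perfectField (ResidueField P) (ResidueField A)
  constructor
  · rintro ⟨-, hn, hc, hfl, hm, -⟩
    rw [hmap] at hm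
    rcases eq_or_ne p 0 with h | h
    · have hm0 : maximalIdeal A = ⊥ := by rw [← hm, h, Nat.cast_zero, Ideal.span_singleton_eq_bot]
      refine Or.inl ⟨IsLocalRing.isField_iff_maximalIdeal_eq.2 hm0, ?_⟩
      subst h
      haveI : CharZero (ResidueField A) := CharP.charP_to_charZero _
      exact ⟨fun a b hab => Nat.cast_injective (R := ResidueField A) (by
        rw [← map_natCast (residue A) a, ← map_natCast (residue A) b, hab])⟩
    · have hpp : p.Prime := by
        have := (Ideal.span_singleton_prime (by simpa using h)).1 hp
        exact Nat.prime_iff_prime_int.2 this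
      have hfl' : Module.Flat ℤ A := (flat_iff_flat_int P (Ideal.span {(p : ℤ)}).primeCompl A).1 hfl
      have hreg : ∀ a : A, (p : A) * a = 0 → a = 0 := fun a ha => by
        have := Module.Flat.isTorsionFree (R := ℤ) (M := A)
        have h' : (p : ℤ) • a = 0 := by rw [zsmul_eq_mul, Int.cast_natCast, ha]
        exact (smul_eq_zero.1 h').resolve_left (by simpa using h)
      have hpk : ∀ n : ℕ, ∀ a : A, (p : A) ^ n * a = 0 → a = 0 := fun n => by
        induction n with
        | zero => intro a ha; simpa using ha
        | succ n ih => intro a ha; exact hreg a (ih _ (by rw [← mul_assoc, ← pow_succ]; exact ha))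
      have hdec : ∀ a : A, a ≠ 0 → ∃ (n : ℕ) (v : A), IsUnit v ∧ a = (p : A) ^ n * v := by
        intro a ha
        obtain ⟨n, hn1, hn2⟩ : ∃ n, a ∈ maximalIdeal A ^ n ∧ a ∉ maximalIdeal A ^ (n + 1) := by
          by_contra hcon
          push Not at hcon
          have hall : ∀ n, a ∈ maximalIdeal A ^ n := fun n => by
            induction n with
            | zero => simp
            | succ n ih => exact hcon n ih
          apply ha
          rw [← Ideal.mem_bot, ← Ideal.iInf_pow_eq_bot_of_isLocalRing (maximalIdeal A) (maximalIdeal.isMaximal A).ne_top,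
            Ideal.mem_iInf]
          exact hall
        rw [← hm, Ideal.span_singleton_pow, Ideal.mem_span_singleton'] at hn1
        obtain ⟨v, rfl⟩ := hn1
        refine ⟨n, v, ?_, mul_comm _ _⟩
        by_contra hv
        apply hn2
        rw [pow_succ', mul_comm v]
        have hv' : v ∈ maximalIdeal A := hv
        rw [mul_comm (maximalIdeal A) (maximalIdeal A ^ n)]
        refine Ideal.mul_mem_mul ?_ hv'
        rw [← hm, Ideal.span_singleton_pow]
        exact Ideal.mem_span_singleton_self _
      haveI : NoZeroDivisors A := ⟨fun {a b} hab => by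
        by_contra hcon
        push Not at hcon
        obtain ⟨n, v, hv, rfl⟩ := hdec a hcon.1
        rw [mul_assoc] at hab
        exact hcon.2 (hv.mul_right_eq_zero.1 (hpk n _ hab))⟩
      haveI : IsDomain A := NoZeroDivisors.to_isDomain A
      have hp0 : (p : A) ≠ 0 := fun h0 => one_ne_zero (hreg 1 (by rw [h0, zero_mul]))
      have hnf : ¬ IsField A := fun hF => by
        rw [IsLocalRing.isField_iff_maximalIdeal_eq.1 hF, Ideal.span_singleton_eq_bot] at hm
        exact hp0 hm
      haveI : IsDiscreteValuationRing A :=
        ((IsDiscreteValuationRing.TFAE A hnf).out 0 4 : IsDiscreteValuationRing A ↔ (maximalIdeal A).IsPrincipal).2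
          ⟨⟨(p : A), hm.symm⟩⟩
      exact Or.inr ⟨inferInstance, inferInstance, hc, p, hpp, hm.symm⟩
  · rintro (⟨hF, hchar⟩ | ⟨hd, hv, hc, q, hq, hmq⟩)
    · have hm0 := IsLocalRing.isField_iff_maximalIdeal_eq.1 hF
      letI := hF.toField
      have hp0 : p = 0 := by
        have h1 : residue A (p : A) = 0 := by rw [map_natCast, CharP.cast_eq_zero]
        rw [residue_eq_zero_iff, hm0, Ideal.mem_bot] at h1
        exact_mod_cast h1
      haveI : IsNoetherianRing A := inferInstance
      have hmA : (maximalIdeal P).map (algebraMap P A) = maximalIdeal A := by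
        rw [hmap, hm0, hp0, Nat.cast_zero, Ideal.span_singleton_eq_bot]
      refine ⟨inferInstance, inferInstance, ?_, ?_, hmA, hgr⟩
      · rw [hm0]; infer_instance
      · refine (flat_iff_flat_int P (Ideal.span {(p : ℤ)}).primeCompl A).2 ?_
        haveI : Module.IsTorsionFree ℤ A := inferInstance
        infer_instance
    · have hqp : q = p := by
        have h1 : (q : ResidueField A) = 0 := by
          rw [← map_natCast (residue A), residue_eq_zero_iff, hmq]
          exact Ideal.mem_span_singleton_self _
        have h2 := (CharP.cast_eq_zero_iff (ResidueField A) p q).1 h1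
        rcases (Nat.dvd_prime hq).1 h2 with h | h
        · exact absurd h (CharP.char_ne_one (ResidueField A) p)
        · exact h.symm
      subst hqp
      have hq0 : (q : A) ≠ 0 := fun h0 => IsDiscreteValuationRing.not_a_field A (by
        rw [hmq, h0, Ideal.span_singleton_eq_bot])
      haveI : CharZero A := by
        rcases CharP.exists A with ⟨c, hc'⟩
        rcases CharP.char_is_prime_or_zero A c with hcp | hcz
        · exfalso
          have h1 : (c : ResidueField A) = 0 := by rw [← map_natCast (residue A), CharP.cast_eq_zero, map_zero]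
          have h2 := (CharP.cast_eq_zero_iff (ResidueField A) q c).1 h1
          have h3 : q = c := (Nat.prime_dvd_prime_iff_eq hq hcp).1 h2
          exact hq0 (by rw [h3]; exact CharP.cast_eq_zero A c)
        · subst hcz
          exact CharP.charP_to_charZero A
      refine ⟨inferInstance, inferInstance, hc, ?_, hmap.trans hmq.symm, hgr⟩
      refine (flat_iff_flat_int P (Ideal.span {(q : ℤ)}).primeCompl A).2 ?_
      haveI : Module.IsTorsionFree ℤ A := inferInstance
      infer_instance

end Groth.Agent.S4539
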