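import Groth.Statements.S4540
import Groth.Agent.H05EGA4.AdicConormal
import Groth.Agent.H1CAlg.LocalFree

set_option autoImplicit false
universe u
open EGA41

namespace Groth.Agent.S4540

open IsLocalRing TensorProduct in
/-- Let A, B be Noetherian local rings and A → B a local homomorphism making B a formally smooth
A-algebra for the adic topologies of the maximal ideals. Then for every ideal of definition 𝔟 of B,
the (B/𝔟)-module Ω_{B/A} ⊗_B (B/𝔟) is free. -/
theorem result {A B : Type u} [CommRing A] [IsLocalRing A]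
    [IsNoetherianRing A] [CommRing B] [IsLocalRing B] [IsNoetherianRing B] [Algebra A B] [IsLocalHom (algebraMap A B)]
    (h : EGA41.IsFormallySmoothAdic A (maximalIdeal A) B (maximalIdeal B))
    (𝔟 : Ideal B) (hle : 𝔟 ≤ maximalIdeal B) (hpow : ∃ k : ℕ, maximalIdeal B ^ k ≤ 𝔟) :
    Module.Free (B ⧸ 𝔟) ((B ⧸ 𝔟) ⊗[B] Ω[B⁄A]) := by
  obtain ⟨n, hn⟩ := hpow
  haveI : Nontrivial (B ⧸ 𝔟) := Ideal.Quotient.nontrivial_iff.2
    (ne_top_of_le_ne_top (maximalIdeal.isMaximal B).ne_top hle)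
  haveI : IsLocalRing (B ⧸ 𝔟) := IsLocalRing.of_surjective' (Ideal.Quotient.mk 𝔟) Ideal.Quotient.mk_surjective
  haveI : IsNilpotent (maximalIdeal (B ⧸ 𝔟)) := by
    refine ⟨n, ?_⟩
    rw [← IsLocalRing.map_maximalIdeal_of_surjective _ Ideal.Quotient.mk_surjective, ← Ideal.map_pow,
      Ideal.zero_eq_bot, eq_bot_iff, ← Ideal.map_quotient_self 𝔟]
    exact Ideal.map_mono hn
  have hP : Module.Projective (B ⧸ 𝔟) ((B ⧸ 𝔟) ⊗[B] Ω[B⁄A]) := by
    refine Groth.Agent.H05EGA4.AdicConormal.projective_kaehler_quotient (I := maximalIdeal B) n (fun E _ _ N hN hA ψ hψ =>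
    h E N ⟨2, hN⟩ ⟨1 * n, (Ideal.map_eq_bot_iff_le_ker _).2 fun a ha => hA a ?_⟩ ψ hψ) hn
    rw [one_mul] at ha
    have := Ideal.mem_map_of_mem (algebraMap A B) ha
    rw [Ideal.map_pow] at this
    exact pow_le_pow_left' (IsLocalRing.map_maximalIdeal_le (algebraMap A B)) n this
  exact Groth.Agent.H1CAlg.free_of_projective_isLocalRing _

end Groth.Agent.S4540
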