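import Groth.Statements.S4543
import Mathlib
import Groth.Prelude.Def_EGA41
import Groth.Agent.H05EGA4.FSAdic
import Groth.Agent.S9316

set_option autoImplicit false
set_option linter.style.haveILetI false
universe u
open EGA41

open IsLocalRing TensorProduct Groth.Agent CAlgX Groth.Agent.H05EGA4

namespace Groth.Agent.S4543

open IsLocalRing in
/-- Let A be a Noetherian ring, J an ideal of A, B and B' two A-algebras which are Noetherian local
rings, the structure maps being continuous for the J-adic topology on A (JB and JB' lie in the
maximal ideals); suppose B and B' are complete for the J-adic topologies, B is a formally smooth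
A-algebra for the J-adic topology on A and the JB-adic topology on B (nilpotent test ideals, test
algebras killed by a power of J, test maps killing a power of JB), and B' is a flat A-module. Then
every (A/J)-algebra isomorphism u₀ : B/JB ≅ B'/JB' comes from an A-algebra isomorphism u : B ≅ B' by
passing to quotients. (B is taken formally smooth for the JB-adic topology, the topology along which
the argument lifts B → B'/JB' to B'; read with the convention that a local ring carries the adic
topology of its maximal ideal, the published hypothesis would be formal smoothness for the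
maximal-ideal topology on B, a weaker condition when JB is strictly smaller than the maximal ideal,
and that reading is not what the argument establishes.) -/
theorem result {A B B' : Type u} [CommRing A] [IsNoetherianRing A] (J : Ideal A)
    [CommRing B] [IsLocalRing B] [IsNoetherianRing B] [Algebra A B]
    [CommRing B'] [IsLocalRing B'] [IsNoetherianRing B'] [Algebra A B']
    (hB : J.map (algebraMap A B) ≤ maximalIdeal B) (hB' : J.map (algebraMap A B') ≤ maximalIdeal B')
    [IsAdicComplete (J.map (algebraMap A B)) B] [IsAdicComplete (J.map (algebraMap A B')) B']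
    (hfs : EGA41.IsFormallySmoothAdic A J B (J.map (algebraMap A B))) [Module.Flat A B']
    (u₀ : (B ⧸ J.map (algebraMap A B)) ≃ₐ[A ⧸ J] (B' ⧸ J.map (algebraMap A B'))) :
    ∃ u : B ≃ₐ[A] B', ∀ b : B,
      Ideal.Quotient.mk (J.map (algebraMap A B')) (u b) = u₀ (Ideal.Quotient.mk (J.map (algebraMap A B)) b) := by
  let JB' := J.map (algebraMap A B')
  let w : B →ₐ[A] B' ⧸ JB' := (u₀.restrictScalars A).toAlgHom.comp (Ideal.Quotient.mkₐ A _)
  obtain ⟨v, hv⟩ := exists_lift_formallySmoothAdic hfs JB' ⟨1, by rw [pow_one]⟩ JB' le_rfl w ⟨1, fun x hx c hc => by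
    rw [pow_one] at hx
    rw [← Ideal.Quotient.eq_zero_iff_mem, ← hc]
    show u₀ (Ideal.Quotient.mk _ x) = 0
    rw [Ideal.Quotient.eq_zero_iff_mem.mpr hx, map_zero]⟩
  have hcomp : ∀ x, Ideal.Quotient.mk JB' (v x) = u₀ (Ideal.Quotient.mk _ x) := fun x => by
    obtain ⟨c, hc⟩ := Ideal.Quotient.mk_surjective (w x)
    refine Eq.trans ?_ hc
    rw [Ideal.Quotient.eq]
    have h1 := hv x c hc.symm 1
    rwa [pow_one, sup_idem] at h1
  refine ⟨AlgEquiv.ofBijective v (bijective_of_flat_of_bijective_mod J v (fun s => ?_) fun x hx => ?_), hcomp⟩
  · obtain ⟨x, hx⟩ := Ideal.Quotient.mk_surjective (u₀.symm (Ideal.Quotient.mk JB' s))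
    exact ⟨x, Ideal.Quotient.eq.mp (by rw [hcomp, hx, u₀.apply_symm_apply])⟩
  · rw [← Ideal.Quotient.eq_zero_iff_mem, hcomp, map_eq_zero_iff _ u₀.injective] at hx
    exact Ideal.Quotient.eq_zero_iff_mem.mp hx


end Groth.Agent.S4543
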