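import Groth.Statements.S4545
import Groth.Agent.H05EGA4.FieldFamily2

set_option autoImplicit false
universe u
open EGA41

namespace Groth.Agent.S4545

open TensorProduct in
/-- Let K be a field of characteristic p > 0, k₀ a subfield and (k_α) a decreasing filtered family of
subfields of K containing k₀. Then ⋂_α k_α(K^p) = k₀(K^p) if and only if for every extension L of K
such that Υ_{L/K/k₀} has finite rank over L there is an α with k_α admissible for L over K relative
to k₀, i.e. with Υ_{L/K/k₀} → Υ_{L/K/k_α} injective. (The published statement has two further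
equivalent conditions; this row states (a) ⇔ (b).) -/
theorem result (p : ℕ) [Fact p.Prime] {k₀ K : Type u}
    [Field k₀] [Field K] [Algebra k₀ K] [CharP K p]
    {ι : Type u} [Preorder ι] [IsDirected ι (· ≤ ·)] [Nonempty ι] (k : ι → IntermediateField k₀ K) (hk : Antitone k) :
    (⨅ i, k i ⊔ IntermediateField.adjoin k₀ (Set.range fun y : K => y ^ p)) =
        IntermediateField.adjoin k₀ (Set.range fun y : K => y ^ p) ↔
      ∀ (L : Type u) [Field L] [Algebra K L] [Algebra k₀ L] [IsScalarTower k₀ K L],
        Module.Finite L (EGA41.imperfection k₀ K L) →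
          ∃ i, ∀ ω ∈ EGA41.imperfection k₀ K L,
            ((KaehlerDifferential.map k₀ (k i) K K).restrictScalars K).baseChange L ω = 0 → ω = 0 := by
  have hP : ∀ x : K, x ∈ IntermediateField.adjoin k₀ (Set.range fun y : K => y ^ p) ↔
      x ∈ Groth.Agent.H05EGA4.FieldFamily.pClosure p k₀ (k := K) := fun x => by
    rw [← IntermediateField.mem_toSubfield, IntermediateField.adjoin_toSubfield]
    rfl
  have hsup : ∀ i x, x ∈ k i ⊔ IntermediateField.adjoin k₀ (Set.range fun y : K => y ^ p) ↔
      x ∈ (k i).toSubfield ⊔ Groth.Agent.H05EGA4.FieldFamily.pClosure p k₀ := fun i x => by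
    rw [← IntermediateField.mem_toSubfield, IntermediateField.sup_toSubfield,
      IntermediateField.adjoin_toSubfield]
    rfl
  have hanti : Antitone fun i => (k i).toSubfield := fun i j h x hx => hk h hx
  have hint : (⨅ i, k i ⊔ IntermediateField.adjoin k₀ (Set.range fun y : K => y ^ p)) =
      IntermediateField.adjoin k₀ (Set.range fun y : K => y ^ p) →
      ∀ x, (∀ i, x ∈ (k i).toSubfield ⊔ Groth.Agent.H05EGA4.FieldFamily.pClosure p k₀) →
        x ∈ Groth.Agent.H05EGA4.FieldFamily.pClosure p k₀ := fun h x hx => by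
    rw [← hP, ← h, ← SetLike.mem_coe, IntermediateField.coe_iInf, Set.mem_iInter]
    exact fun i => (hsup i x).2 (hx i)
  constructor
  · intro h L _ _ _ _ hfin
    haveI := hfin
    obtain ⟨i, hi⟩ := Groth.Agent.H05EGA4.FieldFamily.exists_inf_eq_bot
      (fun i => Groth.Agent.H05EGA4.FieldFamily.dSpan k₀ L (k i).toSubfield)
      (fun a b hab => Groth.Agent.H05EGA4.FieldFamily.dSpan_mono k₀ L (hanti hab))
      ((Submodule.eq_bot_iff _).2 fun w hw => Groth.Agent.H05EGA4.FieldFamily.iInf_dSpan p k₀ _ hanti (hint h)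
        (Submodule.mem_iInf _ |>.1 hw))
      (EGA41.imperfection k₀ K L)
    refine ⟨i, fun ω hω h0 => (Submodule.eq_bot_iff _).1 hi ω ⟨hω, ?_⟩⟩
    exact Groth.Agent.H05EGA4.FieldFamily.mem_dSpan_of_map_eq_zero k₀ L (k i) (k i).toSubfield (fun s => s.2) h0
  · intro h
    refine le_antisymm (fun x hx => ?_) (le_iInf fun i => le_sup_right)
    by_contra hxP
    rw [← SetLike.mem_coe, IntermediateField.coe_iInf, Set.mem_iInter] at hx
    let f : Polynomial K := Polynomial.X ^ p - Polynomial.C x
    haveI : Fact (Irreducible f) := ⟨X_pow_sub_C_irreducible_of_prime (Fact.out : p.Prime) fun y hy =>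
      hxP (IntermediateField.subset_adjoin k₀ _ ⟨y, hy⟩)⟩
    let L := AdjoinRoot f
    haveI : CharP L p := charP_of_injective_algebraMap (algebraMap K L).injective p
    haveI : Module.Finite K L :=
      (AdjoinRoot.powerBasis' (Polynomial.monic_X_pow_sub_C x (Fact.out : p.Prime).ne_zero)).finite
    haveI : Algebra.FinitePresentation K L := Algebra.FinitePresentation.of_finiteType.mp inferInstance
    haveI : Module.Finite L (EGA41.imperfection k₀ K L) := by
      rw [EGA41.imperfection, LinearMap.exact_iff.1 (Algebra.H1Cotangent.exact_δ_mapBaseChange k₀ K L)]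
      exact Module.Finite.range _
    obtain ⟨i, hi⟩ := h L inferInstance
    have hmem : (1 : L) ⊗ₜ[K] KaehlerDifferential.D k₀ K x ∈ EGA41.imperfection k₀ K L := by
      have hr : algebraMap K L x = AdjoinRoot.root f ^ p := by
        have := AdjoinRoot.eval₂_root f
        simp only [f, Polynomial.eval₂_sub, Polynomial.eval₂_X_pow, Polynomial.eval₂_C] at this
        exact (sub_eq_zero.1 this).symm
      rw [EGA41.imperfection, LinearMap.mem_ker, KaehlerDifferential.mapBaseChange_tmul, one_smul,
        KaehlerDifferential.map_D, hr, Derivation.leibniz_pow, ← Nat.cast_smul_eq_nsmul L, CharP.cast_eq_zero,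
        zero_smul]
    have h1 := hi _ hmem (Groth.Agent.H05EGA4.FieldFamily.map_eq_zero_of_mem_dSpan k₀ L (k i) (k i).toSubfield
      (fun y hy => ⟨⟨y, hy⟩, rfl⟩)
      (Groth.Agent.H05EGA4.FieldFamily.D_mem_dSpan p k₀ ((hsup i x).1 (hx i)) L))
    refine hxP ((hP x).2 (Groth.Agent.H05EGA4.FieldFamily.mem_pClosure_of_D_eq_zero p k₀ ?_))
    exact (Module.FaithfullyFlat.one_tmul_eq_zero_iff (A := L) K Ω[K⁄k₀] (KaehlerDifferential.D k₀ K x)).1 h1

end Groth.Agent.S4545
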