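import Groth.Statements.S4546
import Groth.Agent.H05EGA4.FieldFamily2

set_option autoImplicit false
universe u
open EGA41

namespace Groth.Agent.S4546

/-- Let K be a field of characteristic p > 0, k₀ a subfield, (k_α) a decreasing filtered family of
subfields of K containing k₀ with ⋂_α k_α(K^p) = k₀(K^p). Then for every extension L of K such that
Υ_{L/K/k₀} has finite rank over L, one has ⋂_α k_α(L^p) = k₀(L^p) (the k_α being viewed inside L). -/
theorem result (p : ℕ) [Fact p.Prime] {k₀ K L : Type u}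
    [Field k₀] [Field K] [Field L] [Algebra k₀ K] [Algebra K L] [Algebra k₀ L] [IsScalarTower k₀ K L] [CharP K p] [CharP L p]
    {ι : Type u} [Preorder ι] [IsDirected ι (· ≤ ·)] [Nonempty ι] (k : ι → IntermediateField k₀ K) (hk : Antitone k)
    (h : (⨅ i, k i ⊔ IntermediateField.adjoin k₀ (Set.range fun y : K => y ^ p)) =
      IntermediateField.adjoin k₀ (Set.range fun y : K => y ^ p))
    [Module.Finite L (EGA41.imperfection k₀ K L)] :
    (⨅ i, (k i).map (IsScalarTower.toAlgHom k₀ K L) ⊔ IntermediateField.adjoin k₀ (Set.range fun y : L => y ^ p)) =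
      IntermediateField.adjoin k₀ (Set.range fun y : L => y ^ p) := by
  have hP : ∀ x : K, x ∈ IntermediateField.adjoin k₀ (Set.range fun y : K => y ^ p) ↔
      x ∈ Groth.Agent.H05EGA4.FieldFamily.pClosure p k₀ (k := K) := fun x => by
    rw [← IntermediateField.mem_toSubfield, IntermediateField.adjoin_toSubfield]
    rfl
  have hsup : ∀ i x, x ∈ k i ⊔ IntermediateField.adjoin k₀ (Set.range fun y : K => y ^ p) ↔
      x ∈ (k i).toSubfield ⊔ Groth.Agent.H05EGA4.FieldFamily.pClosure p k₀ := fun i x => by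
    rw [← IntermediateField.mem_toSubfield, IntermediateField.sup_toSubfield,
      IntermediateField.adjoin_toSubfield]
    rfl
  have hanti : Antitone fun i => (k i).toSubfield := fun i j h x hx => hk h hx
  have hint : (⨅ i, k i ⊔ IntermediateField.adjoin k₀ (Set.range fun y : K => y ^ p)) =
      IntermediateField.adjoin k₀ (Set.range fun y : K => y ^ p) →
      ∀ x, (∀ i, x ∈ (k i).toSubfield ⊔ Groth.Agent.H05EGA4.FieldFamily.pClosure p k₀) →
        x ∈ Groth.Agent.H05EGA4.FieldFamily.pClosure p k₀ := fun h x hx => by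
    rw [← hP, ← h, ← SetLike.mem_coe, IntermediateField.coe_iInf, Set.mem_iInter]
    exact fun i => (hsup i x).2 (hx i)
  refine le_antisymm (fun x hx => ?_) (le_iInf fun i => le_sup_right)
  rw [← SetLike.mem_coe, IntermediateField.coe_iInf, Set.mem_iInter] at hx
  let φ := IsScalarTower.toAlgHom k₀ K L
  let W := fun i => Groth.Agent.H05EGA4.FieldFamily.dSpan k₀ L (k i).toSubfield
  have hW : Antitone W := fun a b hab => Groth.Agent.H05EGA4.FieldFamily.dSpan_mono k₀ L (hanti hab)
  have hbot : ⨅ i, W i = ⊥ := (Submodule.eq_bot_iff _).2 fun w hw =>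
    Groth.Agent.H05EGA4.FieldFamily.iInf_dSpan p k₀ _ hanti (hint h) (Submodule.mem_iInf _ |>.1 hw)
  have hy : ∀ i, ∃ η ∈ W i, KaehlerDifferential.mapBaseChange k₀ K L η = KaehlerDifferential.D k₀ L x := by
    intro i
    have h1 := hx i
    rw [SetLike.mem_coe, ← IntermediateField.mem_toSubfield, IntermediateField.sup_toSubfield,
      IntermediateField.adjoin_toSubfield] at h1
    have h2 := Groth.Agent.H05EGA4.FieldFamily.D_mem_dSpan p k₀
      (F := ((k i).map φ).toSubfield) (x := x) h1 L
    have h3 : (TensorProduct.lid L Ω[L⁄k₀]) ((1 : L) ⊗ₜ[L] KaehlerDifferential.D k₀ L x) ∈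
        (W i).map (KaehlerDifferential.mapBaseChange k₀ K L) := by
      refine (Submodule.span_le
        (p := ((W i).map (KaehlerDifferential.mapBaseChange k₀ K L)).comap
          (TensorProduct.lid L Ω[L⁄k₀]).toLinearMap)).2 ?_ h2
      rintro _ ⟨_, ⟨c, hc, rfl⟩, rfl⟩
      refine ⟨(1 : L) ⊗ₜ[K] KaehlerDifferential.D k₀ K c, Submodule.subset_span ⟨c, hc, rfl⟩, ?_⟩
      rw [KaehlerDifferential.mapBaseChange_tmul, one_smul, KaehlerDifferential.map_D]
      simp [φ]
    rw [TensorProduct.lid_tmul, one_smul] at h3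
    exact h3
  choose η hη hηx using hy
  obtain ⟨i₀, hi₀⟩ := Groth.Agent.H05EGA4.FieldFamily.exists_inf_eq_bot W hW hbot (EGA41.imperfection k₀ K L)
  have h0 : η i₀ = 0 := by
    rw [← Submodule.mem_bot L, ← hbot, Submodule.mem_iInf]
    intro j
    obtain ⟨l, hl1, hl2⟩ := directed_of (fun a b => a ≤ b) i₀ j
    have : η i₀ - η l = 0 := (Submodule.eq_bot_iff _).1 hi₀ _
      ⟨LinearMap.mem_ker.2 (by rw [map_sub, hηx, hηx, sub_self]), sub_mem (hη i₀) (hW hl1 (hη l))⟩
    rw [sub_eq_zero.1 this]
    exact hW hl2 (hη l)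
  have hd := hηx i₀
  rw [h0, map_zero] at hd
  rw [← IntermediateField.mem_toSubfield, IntermediateField.adjoin_toSubfield]
  exact Groth.Agent.H05EGA4.FieldFamily.mem_pClosure_of_D_eq_zero p k₀ hd.symm

end Groth.Agent.S4546
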