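import Groth.Statements.S4547
import Mathlib


set_option autoImplicit false
universe u
open EGA41

namespace Groth.Agent.S4547

open IsLocalRing TensorProduct in
/-- Let A be a local ring with residue field k, M an A-module of finite type, N a projective A-module
and u : M → N a homomorphism. Then u is left invertible if and only if there is a finite system of
generators (x_i) of M such that the elements 1 ⊗ u(x_i) of k ⊗_A N are linearly independent over k;
and such a system (x_i) is then a basis of M. -/
theorem result {A : Type u} [CommRing A] [IsLocalRing A] {M N : Type u}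
    [AddCommGroup M] [Module A M] [Module.Finite A M] [AddCommGroup N] [Module A N] [Module.Projective A N]
    (u : M →ₗ[A] N) :
    ((∃ w : N →ₗ[A] M, w ∘ₗ u = LinearMap.id) ↔
      ∃ (m : ℕ) (x : Fin m → M), Submodule.span A (Set.range x) = ⊤ ∧
        LinearIndependent (ResidueField A) (fun i => (1 : ResidueField A) ⊗ₜ[A] u (x i))) ∧
    ∀ (m : ℕ) (x : Fin m → M), Submodule.span A (Set.range x) = ⊤ →
      LinearIndependent (ResidueField A) (fun i => (1 : ResidueField A) ⊗ₜ[A] u (x i)) →
        ∃ b : Module.Basis (Fin m) A M, ∀ i, b i = x i := by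
  classical
  have key : ∀ (m : ℕ) (x : Fin m → M),
      LinearIndependent (ResidueField A) (fun i => (1 : ResidueField A) ⊗ₜ[A] u (x i)) →
      ∃ w : N →ₗ[A] (Fin m → A), ∀ i, w (u (x i)) = Pi.single i 1 := by
    intro m x hli
    obtain ⟨l, hl⟩ := LinearMap.exists_leftInverse_of_injective (Finsupp.linearCombination (ResidueField A)
      (fun i => (1 : ResidueField A) ⊗ₜ[A] u (x i))) (LinearMap.ker_eq_bot.2 hli)
    let f : N →ₗ[A] (Fin m →₀ ResidueField A) :=
      l.restrictScalars A ∘ₗ TensorProduct.mk A (ResidueField A) N 1
    let r : (Fin m → A) →ₗ[A] (Fin m →₀ ResidueField A) :=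
      (Finsupp.linearEquivFunOnFinite A (ResidueField A) (Fin m)).symm.toLinearMap ∘ₗ
        LinearMap.compLeft (Algebra.linearMap A (ResidueField A)) (Fin m)
    have hs : Function.Surjective (LinearMap.compLeft (Algebra.linearMap A (ResidueField A)) (Fin m)) := fun g => by
      choose a ha using fun i => residue_surjective (g i)
      exact ⟨a, funext ha⟩
    have hr : Function.Surjective r := fun y => by
      obtain ⟨g, hg⟩ := (Finsupp.linearEquivFunOnFinite A (ResidueField A) (Fin m)).symm.surjective y
      obtain ⟨a, ha⟩ := hs g
      exact ⟨a, by rw [← hg, ← ha]; rfl⟩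
    obtain ⟨g, hg⟩ := Module.projective_lifting_property r f hr
    let Mx : Matrix (Fin m) (Fin m) A := Matrix.of fun j i => g (u (x i)) j
    have hM : Mx.map (residue A) = 1 := by
      ext j i
      have h := LinearMap.congr_fun hg (u (x i))
      have h2 := LinearMap.congr_fun hl (Finsupp.single i 1)
      rw [LinearMap.comp_apply, Finsupp.linearCombination_single, one_smul, LinearMap.id_apply] at h2
      rw [LinearMap.comp_apply] at h
      have h3 := DFunLike.congr_fun (h.trans h2) j
      rw [Matrix.map_apply, Matrix.one_apply]
      simp only [Finsupp.single_apply] at h3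
      rw [show (if j = i then (1 : ResidueField A) else 0) = if i = j then 1 else 0 by simp only [eq_comm]]
      exact h3
    have hdet : IsUnit Mx.det := by
      refine (isUnit_map_iff (residue A) _).1 ?_
      rw [RingHom.map_det, show (residue A).mapMatrix Mx = 1 from hM, Matrix.det_one]
      exact isUnit_one
    refine ⟨Mx⁻¹.mulVecLin ∘ₗ g, fun i => ?_⟩
    show Mx⁻¹.mulVec (g (u (x i))) = Pi.single i 1
    rw [show g (u (x i)) = Mx.mulVec (Pi.single i 1) by rw [Matrix.mulVec_single_one]; rfl,
      Matrix.mulVec_mulVec, Matrix.nonsing_inv_mul _ hdet, Matrix.one_mulVec]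
  have hbasis : ∀ (m : ℕ) (x : Fin m → M), Submodule.span A (Set.range x) = ⊤ →
      LinearIndependent (ResidueField A) (fun i => (1 : ResidueField A) ⊗ₜ[A] u (x i)) →
        ∃ b : Module.Basis (Fin m) A M, ∀ i, b i = x i := by
    intro m x hspan hli
    obtain ⟨w, hw⟩ := key m x hli
    have hx : LinearIndependent A x := by
      refine LinearIndependent.of_comp (w ∘ₗ u) ?_
      rw [show ⇑(w ∘ₗ u) ∘ x = fun i => Pi.single i (1 : A) from funext hw]
      convert (Pi.basisFun A (Fin m)).linearIndependent using 2 with i
      rw [Pi.basisFun_apply]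
    exact ⟨Module.Basis.mk hx hspan.ge, fun i => Module.Basis.mk_apply hx _ i⟩
  refine ⟨⟨?_, ?_⟩, hbasis⟩
  · rintro ⟨w, hw⟩
    haveI : Module.Projective A M := Module.Projective.of_split u w hw
    haveI : Module.Free A M := Module.free_of_flat_of_isLocalRing
    haveI : Finite (Module.Free.ChooseBasisIndex A M) := Module.Finite.finite_basis (Module.Free.chooseBasis A M)
    let b := (Module.Free.chooseBasis A M).reindex
      (Finite.equivFin (Module.Free.ChooseBasisIndex A M))
    refine ⟨_, b, b.span_eq, ?_⟩
    refine LinearIndependent.of_comp (w.baseChange (ResidueField A)) ?_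
    have hf : (⇑(w.baseChange (ResidueField A)) ∘ fun i => (1 : ResidueField A) ⊗ₜ[A] u (b i)) =
        fun i => Algebra.TensorProduct.basis (ResidueField A) b i := funext fun i => by
      rw [Function.comp_apply, LinearMap.baseChange_tmul, Algebra.TensorProduct.basis_apply]
      exact congrArg _ (LinearMap.congr_fun hw (b i))
    rw [hf]
    exact (Algebra.TensorProduct.basis (ResidueField A) b).linearIndependent
  · rintro ⟨m, x, hspan, hli⟩
    obtain ⟨w, hw⟩ := key m x hli
    refine ⟨Fintype.linearCombination A x ∘ₗ w, LinearMap.ext_on_range hspan fun i => ?_⟩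
    show Fintype.linearCombination A x (w (u (x i))) = x i
    rw [hw, Fintype.linearCombination_apply_single, one_smul]

end Groth.Agent.S4547
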