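import Groth.Statements.S4548
import Groth.Agent.H05EGA4.FrobFamily

set_option autoImplicit false
universe u
open EGA41

namespace Groth.Agent.S4548

/-- Let k be a field of characteristic p > 0, A = k[[T_1, …, T_r]] and K its field of fractions. Then
there is a decreasing filtered family (A_α) of Noetherian subrings of A (rendered: a nonempty
family, directed downwards for inclusion) such that A is a free A_α-module of finite type for every
α and, K_α denoting the subfield of K generated by A_α (its field of fractions inside K), ⋂_α K_α =
K^p. -/
theorem result (p : ℕ) [Fact p.Prime] (k : Type u) [Field k] [CharP k p]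
    (r : ℕ) :
    ∃ (ι : Type u) (_ : Nonempty ι) (S : ι → Subring (MvPowerSeries (Fin r) k)),
      (∀ a b : ι, ∃ c, S c ≤ S a ⊓ S b) ∧
      (∀ i, IsNoetherianRing (S i) ∧ Module.Free (S i) (MvPowerSeries (Fin r) k) ∧ Module.Finite (S i) (MvPowerSeries (Fin r) k)) ∧
      ((⨅ i, Subfield.closure (algebraMap (MvPowerSeries (Fin r) k) (FractionRing (MvPowerSeries (Fin r) k)) '' (S i)) :
          Set (FractionRing (MvPowerSeries (Fin r) k)))) =
        Set.range fun x : FractionRing (MvPowerSeries (Fin r) k) => x ^ p := by
  exact Groth.Agent.H05EGA4.FrobFamily.main p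

end Groth.Agent.S4548
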