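import Groth.Statements.S4549
import Groth.Agent.H05EGA4.PBasis
import Groth.Agent.S4545

set_option autoImplicit false
universe u
open EGA41

namespace Groth.Agent.S4549

open TensorProduct in
/-- Let K be a field of characteristic p, k₀ a subfield and L an extension of K such that Υ_{L/K/k₀} has
finite rank over L. Then there is a subfield k of K containing k₀(K^p), with [K : k] finite, which
is k₀-admissible for the extension L of K, i.e. such that Υ_{L/K/k₀} → Υ_{L/K/k} is injective. (The
published statement uses the characteristic exponent and so also covers characteristic 0, where k =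
K works; this row treats characteristic p > 0.) -/
theorem result (p : ℕ) [Fact p.Prime] {k₀ K L : Type u} [Field k₀] [Field K] [Field L]
    [Algebra k₀ K] [Algebra K L] [Algebra k₀ L] [IsScalarTower k₀ K L] [CharP K p]
    [Module.Finite L (EGA41.imperfection k₀ K L)] :
    ∃ k : IntermediateField k₀ K, (∀ y : K, y ^ p ∈ k) ∧ Module.Finite k K ∧
      ∀ ω ∈ EGA41.imperfection k₀ K L,
        ((KaehlerDifferential.map k₀ k K K).restrictScalars K).baseChange L ω = 0 → ω = 0 := by
  obtain ⟨B, hx⟩ := Groth.Agent.H05EGA4.PBasis.exists_pBasis p (k := k₀) (K := K)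
  obtain ⟨b, hb⟩ := Groth.Agent.H05EGA4.PBasis.exists_basis p hx
  let kf : Finset B → IntermediateField k₀ K := fun S =>
    IntermediateField.adjoin k₀ ((Set.range fun y : K => y ^ p) ∪ Subtype.val '' {i : B | i ∉ S})
  have hanti : Antitone kf := fun S T hST => IntermediateField.adjoin.mono k₀ _ _
    (Set.union_subset_union_right _ (Set.image_mono fun i hi h => hi (hST h)))
  have hinter : (⨅ S, kf S ⊔ IntermediateField.adjoin k₀ (Set.range fun y : K => y ^ p)) =
      IntermediateField.adjoin k₀ (Set.range fun y : K => y ^ p) := by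
    classical
    refine le_antisymm (fun z hz => ?_) (le_iInf fun S => le_sup_right)
    let S := (b.repr (KaehlerDifferential.D k₀ K z)).support
    rw [← SetLike.mem_coe, IntermediateField.coe_iInf, Set.mem_iInter] at hz
    have hle : kf S ⊔ IntermediateField.adjoin k₀ (Set.range fun y : K => y ^ p) ≤ kf S :=
      sup_le le_rfl (IntermediateField.adjoin.mono k₀ _ _ Set.subset_union_left)
    have h1 : z ∈ kf S := hle (hz S)
    have hzero : KaehlerDifferential.D k₀ K z = 0 := by
      refine b.repr.map_eq_zero_iff.1 (Finsupp.support_eq_empty.1 (Finset.eq_empty_of_forall_notMem fun i hi => ?_))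
      let l : Derivation k₀ K K := (b.coord i).compDer (KaehlerDifferential.D k₀ K)
      rw [← IntermediateField.mem_toSubfield, IntermediateField.adjoin_toSubfield] at h1
      have hl : z ∈ Groth.Agent.H05EGA4.FieldFamily.kerSubfield (l.restrictScalars ℤ) := by
        refine (Subfield.closure_le (t := Groth.Agent.H05EGA4.FieldFamily.kerSubfield (l.restrictScalars ℤ))).2 ?_ h1
        rintro _ (⟨r, rfl⟩ | ⟨y, rfl⟩ | ⟨j, hj, rfl⟩)
        · exact l.map_algebraMap r
        · show l (y ^ p) = 0
          rw [Derivation.leibniz_pow, ← Nat.cast_smul_eq_nsmul K, CharP.cast_eq_zero, zero_smul]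
        · show b.coord i (KaehlerDifferential.D k₀ K (j : K)) = 0
          rw [← hb j, Module.Basis.coord_apply, Module.Basis.repr_self, Finsupp.single_apply, if_neg]
          rintro rfl
          exact hj hi
      exact Finsupp.mem_support_iff.1 hi hl
    have h2 := Groth.Agent.H05EGA4.FieldFamily.mem_pClosure_of_D_eq_zero p k₀ hzero
    rw [← IntermediateField.mem_toSubfield, IntermediateField.adjoin_toSubfield]
    exact h2
  obtain ⟨S, hS⟩ := (Groth.Agent.S4545.result p kf hanti).1 hinter L inferInstance
  have hp' : ∀ y : K, y ^ p ∈ kf S := fun y => IntermediateField.subset_adjoin k₀ _ (Or.inl ⟨y, rfl⟩)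
  refine ⟨kf S, hp', ?_, hS⟩
  have htop : IntermediateField.adjoin (kf S) (Subtype.val '' (S : Set B) : Set K) = ⊤ := by
    refine eq_top_iff.2 ?_
    rintro z -
    have hz : z ∈ Algebra.adjoin (EGA41.pPowerSubalgebra p k₀ K) (Set.range (Subtype.val : B → K)) :=
      (Groth.Agent.H05EGA4.PBasis.isPGenerating_iff p _).1 hx.2 ▸ Algebra.mem_top
    induction hz using Algebra.adjoin_induction with
    | mem w hw =>
      obtain ⟨i, rfl⟩ := hw
      by_cases hi : i ∈ S
      · exact IntermediateField.subset_adjoin _ _ ⟨i, hi, rfl⟩
      · exact IntermediateField.algebraMap_mem _ (⟨(i : K), IntermediateField.subset_adjoin k₀ _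
          (Or.inr ⟨i, hi, rfl⟩)⟩ : kf S)
    | algebraMap c =>
      exact IntermediateField.algebraMap_mem _ (⟨(c : K),
        (show EGA41.pPowerSubalgebra p k₀ K ≤ (kf S).toSubalgebra from
          Algebra.adjoin_le fun w hw => IntermediateField.subset_adjoin k₀ _ (Or.inl hw)) c.2⟩ : kf S)
    | add u v _ _ hu hv => exact add_mem hu hv
    | mul u v _ _ hu hv => exact mul_mem hu hv
  haveI : Finite (Subtype.val '' (S : Set B) : Set K) := ((S.finite_toSet).image _).to_subtype
  haveI := IntermediateField.finiteDimensional_adjoin (K := kf S) (S := (Subtype.val '' (S : Set B) : Set K))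
    fun y _ => IsIntegral.of_pow (Fact.out : p.Prime).pos (isIntegral_algebraMap (x := (⟨y ^ p, hp' y⟩ : kf S)))
  rw [htop] at this
  exact Module.Finite.equiv (IntermediateField.topEquiv (F := kf S) (E := K)).toLinearEquiv

end Groth.Agent.S4549
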