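import Groth.Statements.S4550
import Groth.Agent.H05EGA4.LaurentInter

set_option autoImplicit false
universe u
open EGA41

namespace Groth.Agent.S4550

/-- Let k be a field, (k_α) a decreasing filtered family of subfields of k with intersection k₀, and
suppose there is a power q of the characteristic exponent of k with k^q ⊆ k₀. Then, inside k((T_1,
…, T_r)), one has ⋂_α k_α((T_1, …, T_r)) = k₀((T_1, …, T_r)); here F((T)) is the subfield of the
fraction field of k[[T]] generated by the power series with all coefficients in F. -/
theorem result {k : Type u} [Field k] {ι : Type u} [Nonempty ι] (F : ι → Subfield k)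
    (hdir : ∀ a b : ι, ∃ c, F c ≤ F a ⊓ F b) (e : ℕ) (hq : ∀ x : k, x ^ ringExpChar k ^ e ∈ ⨅ i, F i) (r : ℕ) :
    (⨅ i, Subfield.closure (algebraMap (MvPowerSeries (Fin r) k) (FractionRing (MvPowerSeries (Fin r) k)) ''
        {f | ∀ n, MvPowerSeries.coeff n f ∈ F i})) =
      Subfield.closure (algebraMap (MvPowerSeries (Fin r) k) (FractionRing (MvPowerSeries (Fin r) k)) ''
        {f | ∀ n, MvPowerSeries.coeff n f ∈ ⨅ i, F i}) := by
  exact Groth.Agent.H05EGA4.LaurentInter.main F e hq

end Groth.Agent.S4550
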