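import Groth.Statements.S4551
import Groth.Agent.H05EGA4.GeomSerre

set_option autoImplicit false
universe u
open EGA41 TensorProduct

namespace Groth.Agent.S4551

/-- For every field k (any characteristic) the field of fractions k((T_1, …, T_r)) of the power series
ring k[[T_1, …, T_r]] is a separable extension of k, i.e. it is geometrically reduced over k. -/
theorem result (k : Type u) [Field k] (r : ℕ) :
    Algebra.IsGeometricallyReduced k (FractionRing (MvPowerSeries (Fin r) k)) := by
  classical
  let A := MvPowerSeries (Fin r) k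
  let F := FractionRing A
  rw [H05EGA4.isGeometricallyReduced_iff_finite]
  intro k' _ _ _
  let b := Module.Free.chooseBasis k k'
  let m : TensorProduct k k' A →ₐ[k] MvPowerSeries (Fin r) k' :=
    Algebra.TensorProduct.lift (IsScalarTower.toAlgHom k k' (MvPowerSeries (Fin r) k'))
      (MvPowerSeries.mapAlgHom (Algebra.ofId k k')) fun _ _ => Commute.all _ _
  have hm : ∀ (c : k') (f : A) (e : Fin r →₀ ℕ),
      MvPowerSeries.coeff e (m (c ⊗ₜ f)) = c * algebraMap k k' (MvPowerSeries.coeff e f) := by
    intro c f e
    show MvPowerSeries.coeff e (algebraMap k' (MvPowerSeries (Fin r) k') c * MvPowerSeries.map (algebraMap k k') f) = _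
    rw [← Algebra.smul_def, MvPowerSeries.coeff_smul, MvPowerSeries.coeff_map]
  have hinj : Function.Injective m := by
    rw [injective_iff_map_eq_zero]
    intro z hz
    obtain ⟨f, rfl⟩ := TensorProduct.eq_repr_basis_left b z
    rw [Finsupp.sum]
    refine Finset.sum_eq_zero fun i hi => ?_
    suffices h : f i = 0 by rw [h, TensorProduct.tmul_zero]
    ext e
    have h1 : ∑ j ∈ f.support, MvPowerSeries.coeff e (f j) • b j = 0 := by
      have h2 := congrArg (MvPowerSeries.coeff e) hz
      rw [Finsupp.sum, map_sum, map_sum, map_zero] at h2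
      rw [← h2]
      refine Finset.sum_congr rfl fun j _ => ?_
      rw [hm, Algebra.smul_def, mul_comm]
    rw [linearIndependent_iff'.1 b.linearIndependent f.support _ h1 i hi, map_zero]
  haveI hredA : IsReduced (TensorProduct k k' A) := isReduced_of_injective m hinj
  let j : TensorProduct k k' A →ₐ[k] TensorProduct k k' F :=
    Algebra.TensorProduct.map (AlgHom.id k k') (IsScalarTower.toAlgHom k A F)
  have hj : Function.Injective j :=
    Module.Flat.lTensor_preserves_injective_linearMap (IsScalarTower.toAlgHom k A F).toLinearMap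
      (IsFractionRing.injective A F)
  have hkey : ∀ z : TensorProduct k k' F, ∃ s : nonZeroDivisors A, ∃ y,
      ((1 : k') ⊗ₜ[k] algebraMap A F s) * z = j y := by
    intro z
    induction z using TensorProduct.induction_on with
    | zero => exact ⟨1, 0, by rw [mul_zero, map_zero]⟩
    | tmul c x =>
      obtain ⟨⟨a, s⟩, hs⟩ := IsLocalization.surj (nonZeroDivisors A) x
      exact ⟨s, c ⊗ₜ a, by
        rw [Algebra.TensorProduct.tmul_mul_tmul, one_mul, mul_comm, hs]
        rfl⟩
    | add x x' hx hx' =>
      obtain ⟨s, y, hy⟩ := hx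
      obtain ⟨s', y', hy'⟩ := hx'
      refine ⟨s * s', ((1 : k') ⊗ₜ[k] (s' : A)) * y + ((1 : k') ⊗ₜ[k] (s : A)) * y', ?_⟩
      rw [map_add, map_mul, map_mul, ← hy, ← hy', Submonoid.coe_mul, map_mul]
      simp only [j, Algebra.TensorProduct.map_tmul, AlgHom.id_apply, IsScalarTower.coe_toAlgHom']
      rw [← one_mul (1 : k'), ← Algebra.TensorProduct.tmul_mul_tmul, one_mul]
      ring
  refine ⟨fun z hz => ?_⟩
  obtain ⟨s, y, hy⟩ := hkey z
  have hy0 : y = 0 := ((IsNilpotent.map_iff (f := j) hj).1 (hy ▸ (Commute.all _ _).isNilpotent_mul_left hz)).eq_zero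
  rw [hy0, map_zero] at hy
  have hu : IsUnit ((1 : k') ⊗ₜ[k] algebraMap A F s) :=
    (IsLocalization.map_units F s).map (Algebra.TensorProduct.includeRight : F →ₐ[k] TensorProduct k k' F)
  exact (hu.mul_right_eq_zero).1 hy

end Groth.Agent.S4551
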