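import Groth.Statements.S4553
import Groth.Agent.H05EGA4.FSObstruction
-- import your own Groth.Agent.* helpers here

set_option autoImplicit false
universe u
open EGA41

namespace Groth.Agent.S4553

/-- Let A be 𝔞-adic (a preadmissible ring with ideal of definition 𝔞), B a topological A-algebra for the
𝔟-adic topology (a power of 𝔞 maps into 𝔟) which is a formally projective topological A-module, and
put A₀ = A/𝔞, B₀ = B/𝔞B with the quotient topologies (A₀ discrete). Then B is a formally smooth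
A-algebra if and only if B₀ is a formally smooth A₀-algebra. -/
theorem result {A B : Type u} [CommRing A] [CommRing B] [Algebra A B]
    (𝔞 : Ideal A) (𝔟 : Ideal B) (hAB : ∃ k : ℕ, (𝔞 ^ k).map (algebraMap A B) ≤ 𝔟)
    (hproj : ∀ (n : ℕ) (P Q : Type u) [AddCommGroup P] [Module A P] [AddCommGroup Q] [Module A Q],
      (∀ a ∈ 𝔞 ^ n, ∀ y : P, a • y = 0) → (∀ a ∈ 𝔞 ^ n, ∀ y : Q, a • y = 0) →
      ∀ f : P →ₗ[A] Q, Function.Surjective f → ∀ v : B →ₗ[A] Q, (∃ m : ℕ, ∀ x ∈ 𝔟 ^ m, v x = 0) →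
        ∃ w : B →ₗ[A] P, (∃ m : ℕ, ∀ x ∈ 𝔟 ^ m, w x = 0) ∧ f ∘ₗ w = v) :
    EGA41.IsFormallySmoothAdic A 𝔞 B 𝔟 ↔
      EGA41.IsFormallySmoothAdic (A ⧸ 𝔞) ⊥ (B ⧸ 𝔞.map (algebraMap A B))
        (𝔟.map (Ideal.Quotient.mk (𝔞.map (algebraMap A B)))) := by
  exact ⟨Groth.Agent.H05EGA4.FSObstruction.mod_of_smooth, Groth.Agent.H05EGA4.FSObstruction.smooth_of_mod hproj⟩

end Groth.Agent.S4553
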