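import Groth.Statements.S4554
import Groth.Agent.H05EGA4.FSObstruction
-- import your own Groth.Agent.* helpers here

set_option autoImplicit false
universe u
open EGA41

namespace Groth.Agent.S4554

open TensorProduct in
/-- Let A be 𝔞-adic, B a topological A-algebra for the 𝔟-adic topology (a power of 𝔞 maps into 𝔟) which
is a formally projective topological A-module, and A' an A-algebra with the topology deduced from A
(the 𝔞A'-adic topology) which is a faithfully flat, projective A-module of finite type. Then B' = A'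
⊗_A B, with the tensor product topology (the adic topology of the ideal generated by the images of 𝔞
and 𝔟), is a formally smooth A'-algebra if and only if B is a formally smooth A-algebra. -/
theorem result {A B A' : Type u} [CommRing A] [CommRing B]
    [CommRing A'] [Algebra A B] [Algebra A A'] (𝔞 : Ideal A) (𝔟 : Ideal B) (hAB : ∃ k : ℕ, (𝔞 ^ k).map (algebraMap A B) ≤ 𝔟)
    (hproj : ∀ (n : ℕ) (P Q : Type u) [AddCommGroup P] [Module A P] [AddCommGroup Q] [Module A Q],
      (∀ a ∈ 𝔞 ^ n, ∀ y : P, a • y = 0) → (∀ a ∈ 𝔞 ^ n, ∀ y : Q, a • y = 0) →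
      ∀ f : P →ₗ[A] Q, Function.Surjective f → ∀ v : B →ₗ[A] Q, (∃ m : ℕ, ∀ x ∈ 𝔟 ^ m, v x = 0) →
        ∃ w : B →ₗ[A] P, (∃ m : ℕ, ∀ x ∈ 𝔟 ^ m, w x = 0) ∧ f ∘ₗ w = v)
    [Module.FaithfullyFlat A A'] [Module.Projective A A'] [Module.Finite A A'] :
    EGA41.IsFormallySmoothAdic A' (𝔞.map (algebraMap A A')) (A' ⊗[A] B)
        ((𝔞.map (algebraMap A A')).map (algebraMap A' (A' ⊗[A] B)) ⊔
          𝔟.map (Algebra.TensorProduct.includeRight : B →ₐ[A] A' ⊗[A] B).toRingHom) ↔
      EGA41.IsFormallySmoothAdic A 𝔞 B 𝔟 := by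
  exact Groth.Agent.H05EGA4.FSObstruction.baseChange_iff

end Groth.Agent.S4554
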