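import Groth.Statements.S4555
import Groth.Agent.H02CA.PowerSeries
import Groth.Agent.H02CA.AdicSmooth

set_option autoImplicit false
universe u
open EGA41

namespace Groth.Agent.S4555

/-- Let A carry the 𝔞-adic topology, B = A[[T_1, …, T_n]] the product topology (the adic topology of 𝔞B
+ (T_1, …, T_n)), and let E be a discrete topological A-algebra (a power of 𝔞 kills E). (i) If f : B
→ E is a continuous A-algebra homomorphism then each f(T_i) is nilpotent. (ii) Conversely, for every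
family (z_i) of nilpotent elements of E there is one and only one continuous A-algebra homomorphism
g : B → E with g(T_i) = z_i for all i. -/
theorem result (A : Type u) [CommRing A] (𝔞 : Ideal A) (n : ℕ) (E : Type u) [CommRing E]
    [Algebra A E] (hE : ∃ k : ℕ, (𝔞 ^ k).map (algebraMap A E) = ⊥) :
    (∀ f : MvPowerSeries (Fin n) A →ₐ[A] E,
      (∃ m : ℕ, ∀ x ∈ (𝔞.map (MvPowerSeries.C : A →+* MvPowerSeries (Fin n) A) ⊔
        RingHom.ker (MvPowerSeries.constantCoeff : MvPowerSeries (Fin n) A →+* A)) ^ m, f x = 0) →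
      ∀ i, IsNilpotent (f (MvPowerSeries.X i))) ∧
    ∀ z : Fin n → E, (∀ i, IsNilpotent (z i)) →
      ∃! g : MvPowerSeries (Fin n) A →ₐ[A] E,
        (∃ m : ℕ, ∀ x ∈ (𝔞.map (MvPowerSeries.C : A →+* MvPowerSeries (Fin n) A) ⊔
          RingHom.ker (MvPowerSeries.constantCoeff : MvPowerSeries (Fin n) A →+* A)) ^ m, g x = 0) ∧
        ∀ i, g (MvPowerSeries.X i) = z i := by
  have hker : RingHom.ker (MvPowerSeries.constantCoeff : MvPowerSeries (Fin n) A →+* A) =
      H02CA.PS.vars (Fin n) A := Ideal.ext fun f => H02CA.PS.mem_vars_iff.symm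
  refine ⟨fun f ⟨m, hm⟩ i => ⟨m, ?_⟩, fun z hz => ?_⟩
  · rw [← map_pow]
    exact hm _ (Ideal.pow_mem_pow (Ideal.mem_sup_right (MvPowerSeries.constantCoeff_X i)) m)
  · obtain ⟨k, hk⟩ := hE
    obtain ⟨M, hM⟩ : IsNilpotent (Ideal.span (Set.range z)) := by
      refine (Ideal.FG.isNilpotent_iff_le_nilradical (Submodule.fg_span (Set.finite_range z))).2 (Ideal.span_le.2 ?_)
      rintro _ ⟨i, rfl⟩
      exact mem_nilradical.2 (hz i)
    haveI : IsAdicComplete (Ideal.span (Set.range z)) E := H02CA.AdicSmooth.isAdicComplete_of_pow_eq_bot hM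
    obtain ⟨g, hg⟩ := H02CA.PS.exists_algHom (R := A) (σ := Fin n) (Ideal.span (Set.range z)) z
      fun i => Ideal.subset_span ⟨i, rfl⟩
    refine ⟨g, ⟨⟨k + M, fun x hx => ?_⟩, hg⟩, fun g' hg' => (H02CA.PS.algHom_ext (Ideal.span (Set.range z))
      (fun i => (hg i).symm ▸ Ideal.subset_span ⟨i, rfl⟩) fun i => (hg i).trans (hg'.2 i).symm).symm⟩
    have hle : (𝔞.map (MvPowerSeries.C : A →+* MvPowerSeries (Fin n) A) ⊔
        RingHom.ker (MvPowerSeries.constantCoeff : MvPowerSeries (Fin n) A →+* A)).map g.toRingHom ≤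
          𝔞.map (algebraMap A E) ⊔ Ideal.span (Set.range z) := by
      rw [hker, Ideal.map_sup, Ideal.map_map, Ideal.map_span, ← Set.range_comp]
      refine sup_le_sup (le_of_eq (congrArg (fun f => Ideal.map f 𝔞) (RingHom.ext g.commutes))) ?_
      exact Ideal.span_mono (by rintro _ ⟨i, rfl⟩; exact ⟨i, (hg i).symm⟩)
    have h1 := Ideal.pow_right_mono hle (k + M) (Ideal.map_pow g.toRingHom _ (k + M) ▸ Ideal.mem_map_of_mem _ hx)
    have h2 := Ideal.sup_pow_add_le_pow_sup_pow h1
    rw [← Ideal.map_pow, hk, hM, Ideal.zero_eq_bot, bot_sup_eq] at h2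
    exact h2

end Groth.Agent.S4555
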