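import Groth.Statements.S4556


set_option autoImplicit false
universe u
open EGA41

namespace Groth.Agent.S4556

/-- Let B be a formally smooth A-algebra, E and E' two A-algebras, R (resp. R') a nilpotent ideal of E
(resp. E'), f : E → E' a surjective A-algebra homomorphism with f(R) = R', and f' : E/R → E'/R' the
induced homomorphism. Let u : B → E/R be an A-algebra homomorphism and v' : B → E' an A-algebra
homomorphism through which f' ∘ u factors (v' followed by E' → E'/R' equals f' ∘ u). Then there is
an A-algebra homomorphism v : B → E with f ∘ v = v'. (The published statement assumes only f(R) ⊆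
R'; in that form it fails for B = ℚ[x, x⁻¹], E = ℚ[t], E' = ℚ[t]/(t²), R = 0, R' = (t), u : x ↦ 1
and v' : x ↦ 1 + t, since any v sends x to a unit of ℚ[t], a constant; the argument identifies R'
with the image of R, and that equality is assumed here.) -/
theorem result {A B E E' : Type u} [CommRing A] [CommRing B] [Algebra A B]
    [Algebra.FormallySmooth A B] [CommRing E] [CommRing E'] [Algebra A E] [Algebra A E']
    (R : Ideal E) (R' : Ideal E') (hR : IsNilpotent R) (hR' : IsNilpotent R')
    (f : E →ₐ[A] E') (hf : Function.Surjective f) (hfR : R.map f.toRingHom = R')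
    (u : B →ₐ[A] E ⧸ R) (v' : B →ₐ[A] E')
    (huv : (Ideal.Quotient.mkₐ A R').comp v' =
      (Ideal.quotientMapₐ R' f (fun x hx => hfR.le (Ideal.mem_map_of_mem f.toRingHom hx))).comp u) :
    ∃ v : B →ₐ[A] E, f.comp v = v' := by
  let q := Ideal.quotientMapₐ R' f (fun x hx => hfR.le (Ideal.mem_map_of_mem f.toRingHom hx))
  let P := AlgHom.equalizer (q.comp (AlgHom.fst A (E ⧸ R) E')) ((Ideal.Quotient.mkₐ A R').comp (AlgHom.snd A (E ⧸ R) E'))
  let Φ : E →ₐ[A] P := ((Ideal.Quotient.mkₐ A R).prod f).codRestrict P fun e => rfl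
  have hΦ : Function.Surjective Φ := by
    rintro ⟨⟨e, e'⟩, he⟩
    obtain ⟨e, rfl⟩ := Ideal.Quotient.mk_surjective e
    have : e' - f e ∈ R.map f.toRingHom := by
      rw [hfR, ← Ideal.Quotient.eq]
      exact (show Ideal.Quotient.mk R' (f e) = Ideal.Quotient.mk R' e' from he).symm
    obtain ⟨r, hr, hr'⟩ := (Ideal.mem_map_iff_of_surjective _ hf).1 this
    refine ⟨e + r, Subtype.ext (Prod.ext ?_ ?_)⟩
    · show Ideal.Quotient.mk R (e + r) = Ideal.Quotient.mk R e
      simp [Ideal.Quotient.eq_zero_iff_mem.2 hr]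
    · show f (e + r) = e'
      rw [map_add, show f r = e' - f e from hr']; ring
  have hk : IsNilpotent (RingHom.ker (Φ : E →+* P)) := by
    obtain ⟨n, hn⟩ := hR
    refine ⟨n, le_bot_iff.1 ((Ideal.pow_right_mono (fun x hx => ?_) n).trans hn.le)⟩
    exact Ideal.Quotient.eq_zero_iff_mem.1 (congrArg (fun z : P => z.1.1) hx)
  let g : B →ₐ[A] P := (u.prod v').codRestrict P fun b => (AlgHom.congr_fun huv b).symm
  exact ⟨Algebra.FormallySmooth.liftOfSurjective g Φ hΦ hk, AlgHom.ext fun b =>
    congrArg (fun z : P => z.1.2) (Algebra.FormallySmooth.liftOfSurjective_apply g Φ hΦ hk b)⟩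


end Groth.Agent.S4556
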