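import Groth.Statements.S4557
import Groth.Agent.H05EGA4.CKBase
import Groth.Agent.H05EGA4.NagataDetect
-- import your own Groth.Agent.* helpers here

set_option autoImplicit false
universe u
open EGA41

namespace Groth.Agent.S4557

open IsLocalRing TensorProduct in
/-- Let A be a complete Noetherian local integral domain, A₀ a subring of A isomorphic to a power series
ring k[[T_1, …, T_r]] over a field k such that A is a finite A₀-algebra and the field of fractions E
of A is a separable extension of the field of fractions L₀ of A₀ (here: A₀ = k[[T]] → A injective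
and finite, A a k-algebra through A₀, and every element of A is a root of a polynomial over A₀ which
is separable over L₀). Then rk_A Ω̂_{A/k} = rk_E (Ω̂_{A/k} ⊗_A E) = dim A = r, where Ω̂_{A/k} is the
𝔪-adic completion of Ω_{A/k}; stated as dim_E (E ⊗_A Ω̂_{A/k}) = r. -/
theorem result (k : Type u) [Field k] (r : ℕ) (A : Type u) [CommRing A]
    [IsDomain A] [IsLocalRing A] [IsNoetherianRing A] [IsAdicComplete (maximalIdeal A) A]
    [Algebra (MvPowerSeries (Fin r) k) A] [Algebra k A] [IsScalarTower k (MvPowerSeries (Fin r) k) A]
    (hinj : Function.Injective (algebraMap (MvPowerSeries (Fin r) k) A)) [Module.Finite (MvPowerSeries (Fin r) k) A]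
    (hsep : ∀ a : A, ∃ P : Polynomial (MvPowerSeries (Fin r) k), Polynomial.aeval a P = 0 ∧
      (P.map (algebraMap (MvPowerSeries (Fin r) k) (FractionRing (MvPowerSeries (Fin r) k)))).Separable) :
    Module.finrank (FractionRing A) (FractionRing A ⊗[A] AdicCompletion (maximalIdeal A) (Ω[A⁄k])) = r := by
  let S := MvPowerSeries (Fin r) k
  let E := FractionRing A
  let M := AdicCompletion (maximalIdeal A) (Ω[A⁄k])
  haveI : FaithfulSMul S A := (faithfulSMul_iff_algebraMap_injective S A).2 hinj
  haveI : IsLocalHom (algebraMap S A) :=
    RingHom.IsIntegral.isLocalHom (Algebra.IsIntegral.of_finite S A).1 hinj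
  haveI : Module.Finite k (ResidueField A) := by
    haveI : Module.Finite S (ResidueField A) := Module.Finite.trans A _
    obtain ⟨n, e, he⟩ := Module.Finite.exists_fin (R := S) (M := ResidueField A)
    refine ⟨Submodule.fg_iff_exists_fin_generating_family.2 ⟨n, e, ?_⟩⟩
    rw [eq_top_iff]
    intro z _
    have hz : z ∈ Submodule.span S (Set.range e) := he ▸ trivial
    induction hz using Submodule.span_induction with
    | mem z hz => exact Submodule.subset_span hz
    | zero => exact zero_mem _
    | add x y _ _ hx hy => exact add_mem (hx trivial) (hy trivial)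
    | smul s x _ hx =>
      have h : residue A (algebraMap S A s) = residue A (algebraMap k A (MvPowerSeries.constantCoeff s)) := by
        rw [← sub_eq_zero, ← map_sub, residue_eq_zero_iff, IsScalarTower.algebraMap_apply k S A, ← map_sub,
          IsLocalRing.mem_maximalIdeal, mem_nonunits_iff]
        intro hu
        have h2 := isUnit_of_map_unit (algebraMap S A) _ hu
        rw [MvPowerSeries.isUnit_iff_constantCoeff, map_sub,
          show algebraMap k S (MvPowerSeries.constantCoeff s) = MvPowerSeries.C (MvPowerSeries.constantCoeff s) from rfl,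
          MvPowerSeries.constantCoeff_C, sub_self] at h2
        exact not_isUnit_zero h2
      rw [show s • x = MvPowerSeries.constantCoeff s • x by
        rw [Algebra.smul_def, Algebra.smul_def, IsScalarTower.algebraMap_apply S A (ResidueField A),
          IsScalarTower.algebraMap_apply k A (ResidueField A)]
        exact congrArg (· * x) h]
      exact Submodule.smul_mem _ _ (hx trivial)
  haveI : Module.Finite A M := (Groth.Agent.H05EGA4.CKBase.finite_and_surjective k A).1
  let dh : Derivation k A M := (AdicCompletion.of (maximalIdeal A) (Ω[A⁄k])).compDer (KaehlerDifferential.D k A)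
  refine le_antisymm ?_ ?_
  · -- the differentials of the parameters span
    let v : Fin r → E ⊗[A] M := fun j => (1 : E) ⊗ₜ dh (algebraMap S A (MvPowerSeries.X j))
    suffices hspan : Submodule.span E (Set.range v) = ⊤ by
      have h1 := finrank_range_le_card (R := E) v
      rw [Set.finrank, hspan, finrank_top, Fintype.card_fin] at h1
      exact h1
    by_contra hne
    obtain ⟨g, hg, hle⟩ := Submodule.exists_le_ker_of_lt_top _ (lt_top_iff_ne_top.2 hne)
    let g₁ : M →ₗ[A] E := (g.restrictScalars A).comp (TensorProduct.mk A E M 1)
    obtain ⟨n, b, hb⟩ := Module.Finite.exists_fin (R := A) (M := M)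
    obtain ⟨⟨c, hc⟩, hcb⟩ := IsLocalization.exist_integer_multiples_of_finite (nonZeroDivisors A) fun i => g₁ (b i)
    have hint : ∀ z, ∃ a, algebraMap A E a = c • g₁ z := fun z => by
      have hz : z ∈ Submodule.span A (Set.range b) := hb ▸ trivial
      induction hz using Submodule.span_induction with
      | mem z hz =>
        obtain ⟨i, rfl⟩ := hz
        exact hcb i
      | zero => exact ⟨0, by simp⟩
      | add x y _ _ hx hy =>
        obtain ⟨a, ha⟩ := hx
        obtain ⟨a', ha'⟩ := hy
        exact ⟨a + a', by rw [map_add, ha, ha', map_add, smul_add]⟩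
      | smul s x _ hx =>
        obtain ⟨a, ha⟩ := hx
        exact ⟨s * a, by rw [map_mul, ha, map_smul, smul_comm, Algebra.smul_def s]⟩
    choose φ hφ using hint
    have hinjE := IsFractionRing.injective A E
    let δ : Derivation k A A := Derivation.mk'
      { toFun := fun a => φ (dh a)
        map_add' := fun a a' => hinjE (by rw [hφ, map_add dh, map_add, smul_add, map_add, hφ, hφ])
        map_smul' := fun s a => hinjE (by
          rw [hφ, Derivation.map_smul, RingHom.id_apply, Algebra.smul_def s, map_mul, hφ,
            ← algebraMap_smul A s (dh a), map_smul, smul_comm, Algebra.smul_def (algebraMap k A s)]) }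
      fun a a' => hinjE (by
        show algebraMap A E (φ (dh (a * a'))) = algebraMap A E (a • φ (dh a') + a' • φ (dh a))
        rw [hφ, Derivation.leibniz, map_add, map_smul, map_smul, smul_add, smul_comm c a, smul_comm c a',
          ← hφ, ← hφ, smul_eq_mul, smul_eq_mul, map_add, map_mul, map_mul, Algebra.smul_def, Algebra.smul_def])
    have hδS : ∀ t : S, δ (algebraMap S A t) = 0 := by
      let f : S →+ A := δ.toLinearMap.toAddMonoidHom.comp (algebraMap S A).toAddMonoidHom
      let d : Derivation ℤ (MvPowerSeries (Fin r) k) A := Derivation.mk'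
        { toFun := f
          map_add' := map_add f
          map_smul' := fun z x => by
            rw [RingHom.id_apply, ← map_zsmul f z x]
            congr 1 }
        fun a b => by
          show δ (algebraMap S A (a * b)) = a • δ (algebraMap S A b) + b • δ (algebraMap S A a)
          rw [map_mul, Derivation.leibniz, smul_eq_mul, smul_eq_mul, Algebra.smul_def, Algebra.smul_def]
      refine Groth.Agent.H05EGA4.NagataDetect.eq_zero_of_kills_vars d (fun s => ?_) (fun i => ?_)
      · show δ (algebraMap S A (MvPowerSeries.C s)) = 0
        rw [show algebraMap S A (MvPowerSeries.C s) = algebraMap k A s from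
          (IsScalarTower.algebraMap_apply k S A s).symm, Derivation.map_algebraMap]
      · refine hinjE ?_
        show algebraMap A E (φ (dh (algebraMap S A (MvPowerSeries.X i)))) = _
        rw [hφ, map_zero, show g₁ (dh (algebraMap S A (MvPowerSeries.X i))) = 0 from
          LinearMap.mem_ker.1 (hle (Submodule.subset_span ⟨i, rfl⟩)), smul_zero]
    let δS : Derivation S A A := Derivation.mk'
      { toFun := δ
        map_add' := map_add δ
        map_smul' := fun t a => by
          rw [Algebra.smul_def, Derivation.leibniz, hδS, smul_zero, add_zero, smul_eq_mul, RingHom.id_apply,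
            Algebra.smul_def] }
      δ.leibniz
    have hzero : ∀ a, δ a = 0 := fun a => by
      obtain ⟨P, hP, hsP⟩ := hsep a
      have h1 := δS.map_aeval P a
      rw [hP, map_zero, smul_eq_mul] at h1
      refine (mul_eq_zero.1 h1.symm).resolve_left fun h0 => ?_
      haveI : IsScalarTower S A E := inferInstance
      letI : Algebra (FractionRing S) E := FractionRing.liftAlgebra S E
      have h2 : Polynomial.aeval (algebraMap A E a) (P.map (algebraMap S (FractionRing S))) = 0 := by
        rw [Polynomial.aeval_map_algebraMap, Polynomial.aeval_algebraMap_apply, hP, map_zero]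
      refine hsP.aeval_derivative_ne_zero h2 ?_
      rw [Polynomial.derivative_map, Polynomial.aeval_map_algebraMap, Polynomial.aeval_algebraMap_apply, h0, map_zero]
    refine hg (LinearMap.ext fun z => ?_)
    have hg₁ : ∀ ω : M, g₁ ω = 0 := fun ω => by
      have hω : ω ∈ Submodule.span A (Set.range fun a => dh a) :=
        (Groth.Agent.H05EGA4.CKBase.span_eq_top k A).symm ▸ trivial
      induction hω using Submodule.span_induction with
      | mem x hx =>
        obtain ⟨a, rfl⟩ := hx
        have h3 := hφ (dh a)
        rw [show φ (dh a) = 0 from hzero a, map_zero] at h3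
        exact (smul_eq_zero.1 h3.symm).resolve_left (nonZeroDivisors.coe_ne_zero ⟨c, hc⟩)
      | zero => simp
      | add x y _ _ hx hy => simp [hx, hy]
      | smul s x _ hx => simp [hx]
    induction z with
    | zero => simp
    | tmul e ω =>
      rw [show e ⊗ₜ[A] ω = e • ((1 : E) ⊗ₜ[A] ω) by rw [TensorProduct.smul_tmul', smul_eq_mul, mul_one], map_smul,
        show g ((1 : E) ⊗ₜ[A] ω) = 0 from hg₁ ω, smul_zero]
      rfl
    | add x y hx hy => rw [map_add, hx, hy]; simp
  · -- independent derivations
    obtain ⟨δ, hδ⟩ := Groth.Agent.H05EGA4.CKBase.exists_derivations (k := k) (s := r) A E hinj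
    choose φ hφ using fun i => Groth.Agent.H05EGA4.CKBase.exists_lift_completion (δ i)
    let F : E ⊗[A] M →ₗ[E] (Fin r → E) :=
      LinearMap.pi fun i => LinearMap.liftBaseChange E ((Algebra.linearMap A E).comp (φ i))
    have hF : Function.Surjective F := by
      rw [← LinearMap.range_eq_top]
      by_contra hne
      obtain ⟨f, hf, hle⟩ := Submodule.exists_le_ker_of_lt_top _ (lt_top_iff_ne_top.2 hne)
      refine hf (LinearMap.ext fun v => ?_)
      have h0 : (fun i => f (Pi.single i 1)) = 0 := hδ _ fun a => by
        have h1 := LinearMap.mem_ker.1 (hle ⟨(1 : E) ⊗ₜ AdicCompletion.of _ _ (KaehlerDifferential.D k A a), rfl⟩)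
        rw [pi_eq_sum_univ' (F _), map_sum] at h1
        refine Eq.trans (Finset.sum_congr rfl fun i _ => ?_) h1
        rw [map_smul, smul_eq_mul, mul_comm]
        simp [F, hφ]
      rw [pi_eq_sum_univ' v, map_sum]
      simp [congrFun h0]
    have h1 := LinearMap.finrank_le_finrank_of_surjective hF
    rwa [Module.finrank_fin_fun] at h1

end Groth.Agent.S4557
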