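import Groth.Statements.S4560
import Mathlib

set_option autoImplicit false
set_option maxHeartbeats 800000
universe u
open EGA41

open Cardinal TensorProduct

namespace Groth.Agent.S4560

/-- Let A be a ring, 𝔪 an ideal of A, B an A-algebra; give A the 𝔪-adic topology and B the topology
deduced from it (the 𝔪B-adic topology), and put A₀ = A/𝔪, B₀ = B/𝔪B. Then B is a formally unramified
A-algebra (for these topologies: E discrete means killed by a power of 𝔪, and continuity of maps B →
E is then automatic) if and only if Ω_{B₀/A₀} = 0, i.e. B₀ is a formally unramified A₀-algebra. -/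
theorem result {A B : Type u} [CommRing A] [CommRing B] [Algebra A B] (𝔪 : Ideal A) :
    (∀ (E : Type u) [CommRing E] [Algebra A E], (∃ k : ℕ, (𝔪 ^ k).map (algebraMap A E) = ⊥) →
      ∀ J : Ideal E, IsNilpotent J → ∀ v₁ v₂ : B →ₐ[A] E,
        (∀ b : B, Ideal.Quotient.mk J (v₁ b) = Ideal.Quotient.mk J (v₂ b)) → v₁ = v₂) ↔
    Subsingleton (Ω[B ⧸ 𝔪.map (algebraMap A B)⁄A ⧸ 𝔪]) := by
  constructor
  · intro H
    suffices Algebra.FormallyUnramified (A ⧸ 𝔪) (B ⧸ 𝔪.map (algebraMap A B)) from
      this.subsingleton_kaehlerDifferential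
    rw [Algebra.FormallyUnramified.iff_comp_injective]
    intro E _ _ I hI f g hfg
    letI : Algebra A E := Algebra.compHom E (Ideal.Quotient.mk 𝔪)
    have : IsScalarTower A (A ⧸ 𝔪) E := IsScalarTower.of_algebraMap_eq fun _ => rfl
    have hk : (𝔪 ^ 1).map (algebraMap A E) = ⊥ := by
      rw [pow_one, Ideal.map_eq_bot_iff_le_ker]
      intro a ha
      rw [RingHom.mem_ker, IsScalarTower.algebraMap_apply A (A ⧸ 𝔪) E, Ideal.Quotient.algebraMap_eq,
        Ideal.Quotient.eq_zero_iff_mem.mpr ha, map_zero]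
    have h := H E ⟨1, hk⟩ I ⟨2, hI⟩
      ((f.restrictScalars A).comp (Ideal.Quotient.mkₐ A _))
      ((g.restrictScalars A).comp (Ideal.Quotient.mkₐ A _))
      (fun b => congr($hfg (Ideal.Quotient.mk _ b)))
    ext z
    obtain ⟨b, rfl⟩ := Ideal.Quotient.mk_surjective z
    exact congr($h b)
  · intro hΩ
    let 𝔐 : Ideal B := 𝔪.map (algebraMap A B)
    have : Algebra.FormallyUnramified (A ⧸ 𝔪) (B ⧸ 𝔐) := ⟨hΩ⟩
    have : IsScalarTower A (A ⧸ 𝔪) (B ⧸ 𝔐) := IsScalarTower.of_algebraMap_eq fun _ => rfl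
    have hD : ∀ b : B, KaehlerDifferential.D A B b ∈ 𝔐 • (⊤ : Submodule B Ω[B⁄A]) := by
      let N : Submodule B Ω[B⁄A] := 𝔐 • ⊤
      letI : Module (A ⧸ 𝔪) (Ω[B⁄A] ⧸ N) := Module.compHom _ (algebraMap (A ⧸ 𝔪) (B ⧸ 𝔐))
      have : IsScalarTower (A ⧸ 𝔪) (B ⧸ 𝔐) (Ω[B⁄A] ⧸ N) :=
        IsScalarTower.of_algebraMap_smul fun _ _ => rfl
      have : IsScalarTower A (A ⧸ 𝔪) (Ω[B⁄A] ⧸ N) := by
        refine IsScalarTower.of_algebraMap_smul fun a z => ?_
        obtain ⟨w, rfl⟩ := Submodule.Quotient.mk_surjective _ z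
        show Ideal.Quotient.mk 𝔐 (algebraMap A B a) • Submodule.Quotient.mk (p := N) w = _
        rw [← Ideal.Quotient.algebraMap_eq, algebraMap_smul, algebraMap_smul]
      have hker : 𝔐.restrictScalars A ≤
          LinearMap.ker ((N.mkQ.restrictScalars A) ∘ₗ (KaehlerDifferential.D A B).toLinearMap) := by
        intro b hb
        rw [LinearMap.mem_ker]
        show N.mkQ (KaehlerDifferential.D A B b) = 0
        rw [Submodule.mkQ_apply, Submodule.Quotient.mk_eq_zero]
        refine Submodule.span_induction (p := fun b _ => KaehlerDifferential.D A B b ∈ N) ?_ ?_ ?_ ?_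
          (show b ∈ Submodule.span B _ from hb)
        · rintro _ ⟨x, hx, rfl⟩
          simp
        · simp
        · intro x y _ _ hx hy
          rw [map_add]; exact add_mem hx hy
        · intro c x hx' hx
          rw [smul_eq_mul, Derivation.leibniz]
          exact add_mem (N.smul_mem _ hx) (Submodule.smul_mem_smul hx' trivial)
      have : IsScalarTower A (A ⧸ 𝔪) (B ⧸ 𝔐) := IsScalarTower.of_algebraMap_eq fun _ => rfl
      let d0 : (B ⧸ 𝔐.restrictScalars A) →ₗ[A] Ω[B⁄A] ⧸ N := Submodule.liftQ _ _ hker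
      let d : Derivation (A ⧸ 𝔪) (B ⧸ 𝔐) (Ω[B⁄A] ⧸ N) :=
        Derivation.mk'
          { toFun := fun x => d0 x
            map_add' := fun x y => map_add d0 x y
            map_smul' := fun a x => by
              obtain ⟨a, rfl⟩ := Ideal.Quotient.mk_surjective a
              obtain ⟨b, rfl⟩ := Ideal.Quotient.mk_surjective x
              rw [RingHom.id_apply, ← Ideal.Quotient.algebraMap_eq 𝔪, algebraMap_smul, algebraMap_smul]
              exact map_smul d0 a _ } (by
          intro a b
          obtain ⟨a, rfl⟩ := Ideal.Quotient.mk_surjective a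
          obtain ⟨b, rfl⟩ := Ideal.Quotient.mk_surjective b
          show N.mkQ (KaehlerDifferential.D A B (a * b)) = _
          rw [Derivation.leibniz, map_add, map_smul, map_smul]
          rfl)
      have hd : d = 0 := by
        have := (KaehlerDifferential.linearMapEquivDerivation (A ⧸ 𝔪) (B ⧸ 𝔐)
          (M := Ω[B⁄A] ⧸ N)).symm.injective
        exact this (Subsingleton.elim _ _)
      intro b
      have := congr($hd (Ideal.Quotient.mk 𝔐 b))
      exact (Submodule.Quotient.mk_eq_zero N).mp this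
    intro E _ _ hk J hJ v₁ v₂ hv
    obtain ⟨k, hk⟩ := hk
    let M : ℕ → Ideal E := fun i => (𝔪 ^ i).map (algebraMap A E)
    have base : ∀ b, v₁ b - v₂ b ∈ M 1 := by
      let E₁ := E ⧸ M 1
      letI : Algebra (A ⧸ 𝔪) E₁ := (Ideal.Quotient.lift 𝔪 (algebraMap A E₁) fun a ha => by
        rw [IsScalarTower.algebraMap_apply A E E₁, Ideal.Quotient.algebraMap_eq,
          Ideal.Quotient.eq_zero_iff_mem]
        exact Ideal.mem_map_of_mem _ (by rwa [pow_one])).toAlgebra
      have : IsScalarTower A (A ⧸ 𝔪) E₁ := IsScalarTower.of_algebraMap_eq fun _ => rfl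
      have hfac : ∀ v : B →ₐ[A] E, ∀ b ∈ 𝔐, (Ideal.Quotient.mkₐ A (M 1)).comp v b = 0 := by
        intro v
        show 𝔐 ≤ RingHom.ker ((Ideal.Quotient.mkₐ A (M 1)).comp v).toRingHom
        rw [Ideal.map_le_iff_le_comap]
        intro a ha
        show (Ideal.Quotient.mkₐ A (M 1)).comp v (algebraMap A B a) = 0
        rw [AlgHom.commutes, IsScalarTower.algebraMap_apply A E E₁, Ideal.Quotient.algebraMap_eq,
          Ideal.Quotient.eq_zero_iff_mem]
        exact Ideal.mem_map_of_mem _ (by rwa [pow_one])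
      let w : (B →ₐ[A] E) → ((B ⧸ 𝔐) →ₐ[A ⧸ 𝔪] E₁) := fun v =>
        AlgHom.extendScalarsOfSurjective (Ideal.Quotient.mk_surjective (I := 𝔪))
          (Ideal.Quotient.liftₐ 𝔐 _ (hfac v))
      have hw : w v₁ = w v₂ := by
        refine Algebra.FormallyUnramified.ext (J.map (Ideal.Quotient.mk (M 1))) ?_ ?_
        · obtain ⟨n, hn⟩ := hJ
          exact ⟨n, by rw [← Ideal.map_pow, hn]; exact Ideal.map_bot⟩
        · intro z
          obtain ⟨b, rfl⟩ := Ideal.Quotient.mk_surjective z
          rw [Ideal.Quotient.eq]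
          show Ideal.Quotient.mk (M 1) (v₁ b) - Ideal.Quotient.mk (M 1) (v₂ b) ∈ _
          rw [← map_sub]
          exact Ideal.mem_map_of_mem _ ((Ideal.Quotient.mk_eq_mk_iff_sub_mem _ _).mp (hv b))
      intro b
      exact (Ideal.Quotient.mk_eq_mk_iff_sub_mem _ _).mp congr($hw (Ideal.Quotient.mk 𝔐 b))
    have step : ∀ i, 1 ≤ i → (∀ b, v₁ b - v₂ b ∈ M i) → ∀ b, v₁ b - v₂ b ∈ M (i + 1) := by
      intro i hi hMi b
      let I : Ideal (E ⧸ M (i + 1)) := (M i).map (Ideal.Quotient.mk _)
      have hI : I ^ 2 = ⊥ := by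
        rw [← Ideal.map_pow, Ideal.map_eq_bot_iff_le_ker, Ideal.mk_ker, ← Ideal.map_pow, ← pow_mul]
        exact Ideal.map_mono (Ideal.pow_le_pow_right (by omega))
      let f₁ := (Ideal.Quotient.mkₐ A (M (i + 1))).comp v₁
      let f₂ := (Ideal.Quotient.mkₐ A (M (i + 1))).comp v₂
      letI : Algebra B (E ⧸ M (i + 1)) := f₁.toRingHom.toAlgebra
      have : IsScalarTower A B (E ⧸ M (i + 1)) :=
        IsScalarTower.of_algebraMap_eq fun a => (f₁.commutes a).symm
      have he : (Ideal.Quotient.mkₐ A I).comp f₂ = IsScalarTower.toAlgHom A B _ := by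
        ext c
        show Ideal.Quotient.mk I (f₂ c) = Ideal.Quotient.mk I (f₁ c)
        symm
        rw [Ideal.Quotient.mk_eq_mk_iff_sub_mem]
        show Ideal.Quotient.mk _ (v₁ c) - Ideal.Quotient.mk _ (v₂ c) ∈ I
        rw [← map_sub]
        exact Ideal.mem_map_of_mem _ (hMi c)
      let d := derivationToSquareZeroOfLift I hI f₂ he
      have hz : ∀ z : Ω[B⁄A], z ∈ 𝔐 • (⊤ : Submodule B Ω[B⁄A]) → d.liftKaehlerDifferential z = 0 := by
        intro z hz
        refine Submodule.smul_induction_on hz ?_ ?_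
        · intro r hr w _
          rw [map_smul]
          generalize d.liftKaehlerDifferential w = y
          refine Submodule.span_induction (p := fun r _ => r • y = 0) ?_ ?_ ?_ ?_
            (show r ∈ Submodule.span B _ from hr)
          · rintro _ ⟨x, hx, rfl⟩
            obtain ⟨y, hy⟩ := y
            ext
            show algebraMap B (E ⧸ M (i + 1)) (algebraMap A B x) * y = 0
            rw [← IsScalarTower.algebraMap_apply]
            obtain ⟨e, he, rfl⟩ := (Ideal.mem_map_iff_of_surjective _ Ideal.Quotient.mk_surjective).mp hy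
            show Ideal.Quotient.mk _ (algebraMap A E x) * Ideal.Quotient.mk _ e = 0
            rw [← map_mul, Ideal.Quotient.eq_zero_iff_mem]
            show _ ∈ (𝔪 ^ (i + 1)).map (algebraMap A E)
            rw [pow_succ', Ideal.map_mul]
            exact Ideal.mul_mem_mul (Ideal.mem_map_of_mem _ hx) he
          · simp
          · intro a c _ _ ha hc; rw [add_smul, ha, hc, add_zero]
          · intro a c _ hc; rw [smul_eq_mul, mul_smul, hc, smul_zero]
        · intro a c ha hc; rw [map_add, ha, hc, add_zero]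
      have h0 := hz _ (hD b)
      rw [Derivation.liftKaehlerDifferential_comp_D] at h0
      have h1 : f₂ b - f₁ b = 0 := congr(($h0 : E ⧸ M (i + 1)))
      rw [sub_eq_zero] at h1
      exact (Ideal.Quotient.mk_eq_mk_iff_sub_mem _ _).mp h1.symm
    have all : ∀ j, ∀ b, v₁ b - v₂ b ∈ M (j + 1) := by
      intro j
      induction j with
      | zero => exact base
      | succ j ih => exact step (j + 1) (by omega) ih
    ext b
    have h2 : v₁ b - v₂ b ∈ M k :=
      Ideal.map_mono (Ideal.pow_le_pow_right (by omega)) (all k b)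
    rw [show M k = ⊥ from hk, Ideal.mem_bot, sub_eq_zero] at h2
    exact h2


end Groth.Agent.S4560
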