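import Groth.Statements.S4563
import Groth.Agent.S6299
import Groth.Agent.S0569
import Groth.Agent.H1CAlg.NagataFiniteType
import Mathlib.RingTheory.MvPowerSeries.Equiv
import Mathlib.RingTheory.AdicCompletion.Completeness
import Mathlib.RingTheory.PowerSeries.NoZeroDivisors
-- import your own Groth.Agent.* helpers here

set_option autoImplicit false
universe u
open CAlg

namespace Groth.Agent.S4563

/-- If A is a Noetherian integrally closed Japanese (N-2) domain, then every formal power series ring
A[[T_1, ..., T_r]] is Japanese. (The power series ring is a domain; that instance is taken as a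
hypothesis binder.) -/
theorem result {A : Type u} [CommRing A] [IsDomain A]
    [IsNoetherianRing A] [IsIntegrallyClosed A] (hA : CAlg.IsN2 A) (r : ℕ)
    [IsDomain (MvPowerSeries (Fin r) A)] :
    CAlg.IsN2 (MvPowerSeries (Fin r) A) := by
  haveI hdom : ∀ n, IsDomain (MvPowerSeries (Fin n) A) := fun _ => NoZeroDivisors.to_isDomain _
  suffices h : ∀ n, IsIntegrallyClosed (MvPowerSeries (Fin n) A) ∧ CAlg.IsN2 (MvPowerSeries (Fin n) A) from (h r).2
  intro n
  induction n with
  | zero =>
    let e : A ≃+* MvPowerSeries (Fin 0) A := RingEquiv.ofBijective (MvPowerSeries.C (σ := Fin 0) (R := A)) (by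
      refine ⟨Function.LeftInverse.injective (g := MvPowerSeries.constantCoeff) MvPowerSeries.constantCoeff_C, fun f => ⟨MvPowerSeries.constantCoeff f, ?_⟩⟩
      refine MvPowerSeries.ext fun m => ?_
      rw [Subsingleton.elim m 0, MvPowerSeries.coeff_zero_C]
      rfl)
    exact ⟨IsIntegrallyClosed.of_equiv e, Groth.Agent.H1CAlg.isN2_of_ringEquiv e hA⟩
  | succ n ih =>
    obtain ⟨hicl, hn2⟩ := ih
    let B := MvPowerSeries (Fin n) A
    haveI : IsDomain B := NoZeroDivisors.to_isDomain _
    haveI : IsIntegrallyClosed B := hicl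
    obtain ⟨h1, h2⟩ := Groth.Agent.S6299.result B
    haveI := h1
    haveI := h2
    haveI : IsDomain (PowerSeries B) := inferInstance
    haveI : (Ideal.span ({PowerSeries.X} : Set (PowerSeries B))).IsPrime := PowerSeries.span_X_isPrime
    have hker : RingHom.ker (PowerSeries.constantCoeff (R := B)) = Ideal.span {PowerSeries.X} := by
      ext f
      rw [RingHom.mem_ker, Ideal.mem_span_singleton, PowerSeries.X_dvd_iff]
    let e0 : (PowerSeries B ⧸ Ideal.span ({PowerSeries.X} : Set (PowerSeries B))) ≃+* B :=
      (Ideal.quotEquivOfEq hker.symm).trans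
        (RingHom.quotientKerEquivOfRightInverse (g := PowerSeries.C) fun b => PowerSeries.constantCoeff_C b)
    have hP : CAlg.IsN2 (PowerSeries B) := Groth.Agent.S0569.result (PowerSeries B) PowerSeries.X
      (Groth.Agent.H1CAlg.isN2_of_ringEquiv e0.symm hn2)
    haveI : IsDomain (MvPowerSeries (Fin (n + 1)) A) := NoZeroDivisors.to_isDomain _
    let e := (MvPowerSeries.finSuccEquiv A n).toRingEquiv.symm
    exact ⟨IsIntegrallyClosed.of_equiv e, Groth.Agent.H1CAlg.isN2_of_ringEquiv e hP⟩

end Groth.Agent.S4563
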