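import Groth.Statements.S4564
import Groth.Agent.H1CAlg.NagataUnramified
import Groth.Agent.H05EGA4.CompleteNormalization
-- import your own Groth.Agent.* helpers here

set_option autoImplicit false
universe u
open CAlg

namespace Groth.Agent.S4564

/-- Let A be a complete Noetherian local domain with fraction field K and K' a finite extension of K.
Then the integral closure of A in K' is a local ring, complete for the adic topology of its maximal
ideal. -/
theorem result {A K' : Type u} [CommRing A]
    [IsDomain A] [IsLocalRing A] [IsNoetherianRing A] [IsAdicComplete (IsLocalRing.maximalIdeal A) A]
    [Field K'] [Algebra A K'] [Algebra (FractionRing A) K'] [IsScalarTower A (FractionRing A) K']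
    [FiniteDimensional (FractionRing A) K'] :
    ∃ _ : IsLocalRing (integralClosure A K'),
      IsAdicComplete (IsLocalRing.maximalIdeal (integralClosure A K')) (integralClosure A K') := by
  haveI : Module.Finite A (integralClosure A K') :=
    (Groth.Agent.H1CAlg.isN2_of_finite_isNagata (R := A) (S := A)
      (Groth.Agent.H05EGA4.isNagata_of_isAdicComplete A)) K' inferInstance
  exact Groth.Agent.H05EGA4.isAdicComplete_of_finite_domain (A := A)

end Groth.Agent.S4564
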