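import Groth.Statements.S4566
import Groth.Agent.H1CAlg.AnUnramified
import Mathlib.RingTheory.Nilpotent.GeometricallyReduced
import Mathlib.RingTheory.LocalProperties.Reduced
import Mathlib.RingTheory.Localization.BaseChange
-- import your own Groth.Agent.* helpers here

set_option autoImplicit false
universe u
open CAlg
open scoped TensorProduct

namespace Groth.Agent.S4566

/-- Let A be a Noetherian local domain with fraction field K whose adic completion Â is reduced, and R
the total ring of fractions of Â with its K-algebra structure. If R is geometrically reduced over K
then A is Japanese (N-2). (The published statement asks R to be a separable K-algebra; what is used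
is that K' ⊗_K R is reduced for every finite extension K' of K, which geometric reducedness gives.) -/
theorem result {A R : Type u}
    [CommRing A] [IsDomain A] [IsLocalRing A] [IsNoetherianRing A]
    (hred : IsReduced (AdicCompletion (IsLocalRing.maximalIdeal A) A))
    [CommRing R] [Algebra (AdicCompletion (IsLocalRing.maximalIdeal A) A) R]
    [IsFractionRing (AdicCompletion (IsLocalRing.maximalIdeal A) A) R] [Algebra A R]
    [IsScalarTower A (AdicCompletion (IsLocalRing.maximalIdeal A) A) R]
    [Algebra (FractionRing A) R] [IsScalarTower A (FractionRing A) R]
    (h : Algebra.IsGeometricallyReduced (FractionRing A) R) :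
    CAlg.IsN2 A := by
  intro L _ _ _ _ hfin
  let K := FractionRing A
  haveI : FiniteDimensional K L := hfin
  haveI : TensorProduct.CompatibleSMul A K R L := IsLocalization.tensorProduct_compatibleSMul (nonZeroDivisors A) K R L
  haveI := h
  haveI : IsReduced (L ⊗[K] R) := inferInstance
  let f : R ⊗[A] L →ₐ[A] L ⊗[K] R :=
    ((Algebra.TensorProduct.comm K R L).restrictScalars A).toAlgHom.comp
      (Algebra.TensorProduct.equivOfCompatibleSMul K A A R L).toAlgHom
  have hf : Function.Injective f :=
    ((Algebra.TensorProduct.comm K R L).restrictScalars A).injective.comp
      (Algebra.TensorProduct.equivOfCompatibleSMul K A A R L).injective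
  exact Groth.Agent.H1CAlg.finite_integralClosure_of_isReduced_tensor (R := R) hred (isReduced_of_injective f hf)

end Groth.Agent.S4566
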