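import Groth.Statements.S4569
import Mathlib.RingTheory.Localization.Ideal

set_option autoImplicit false
universe u
open CAlg

namespace Groth.Agent.S4569

/-- Let A be a ring, x a non-zero-divisor of A with p = xA prime. For every n > 0 the inverse image in A
of x^n A_p is x^n A. -/
theorem result {A : Type u} [CommRing A] (x : A)
    (hx : x ∈ nonZeroDivisors A) [(Ideal.span ({x} : Set A)).IsPrime] (n : ℕ) (hn : 0 < n) :
    Ideal.comap (algebraMap A (Localization.AtPrime (Ideal.span ({x} : Set A))))
      (Ideal.map (algebraMap A (Localization.AtPrime (Ideal.span ({x} : Set A)))) (Ideal.span ({x ^ n} : Set A))) =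
      Ideal.span ({x ^ n} : Set A) := by
  refine le_antisymm ?_ Ideal.le_comap_map
  intro y hy
  obtain ⟨m, hm, hmy⟩ := (IsLocalization.algebraMap_mem_map_algebraMap_iff (Ideal.span ({x} : Set A)).primeCompl _ _ _).mp hy
  clear hy hn
  induction n generalizing y with
  | zero => simp
  | succ k ih =>
    obtain ⟨c, hc⟩ := Ideal.mem_span_singleton'.mp hmy
    have hmem : m * y ∈ Ideal.span ({x} : Set A) := Ideal.mem_span_singleton'.mpr ⟨c * x ^ k, by rw [← hc]; ring⟩
    obtain ⟨y', rfl⟩ := Ideal.mem_span_singleton'.mp (((inferInstance : (Ideal.span ({x} : Set A)).IsPrime).mem_or_mem hmem).resolve_left hm)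
    have : m * y' ∈ Ideal.span ({x ^ k} : Set A) := by
      refine Ideal.mem_span_singleton'.mpr ⟨c, ?_⟩
      apply (mul_cancel_right_mem_nonZeroDivisors hx).mp
      calc c * x ^ k * x = c * x ^ (k+1) := by ring
        _ = m * y' * x := by rw [hc]; ring
    obtain ⟨d, hd⟩ := Ideal.mem_span_singleton'.mp (ih this)
    exact Ideal.mem_span_singleton'.mpr ⟨d, by rw [← hd]; ring⟩

end Groth.Agent.S4569
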