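import Groth.Statements.S4571
import Groth.Agent.H05EGA4.PrimeTransfer

set_option autoImplicit false
universe u
open TensorProduct KaehlerDifferential IsLocalRing
open EGA41

namespace Groth.Agent.S4571

/-- For an arbitrary local algebra: let k be a field and A a local k-algebra with maximal ideal m and
residue field K. Then A is formally smooth over k for the m-adic topology if and only if the
canonical maps Sym^n_K(m/m²) → m^n/m^(n+1) are bijective for n ≥ 1 and the canonical map Ω_{k/ℤ} ⊗_k
K → Ω_{A/ℤ} ⊗_A K is injective (absolute differentials, which agree with differentials over the
prime field). -/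
theorem result {k A : Type u} [Field k] [CommRing A]
    [IsLocalRing A] [Algebra k A] :
    CAlgX.IsAdicFormallySmooth k A (maximalIdeal A) ↔
      (PP16.SymGrBijective A (maximalIdeal A) ∧
        Function.Injective ((mapBaseChange ℤ k A).lTensor (ResidueField A))) := by
  exact Groth.Agent.H05EGA4.PrimeTransfer.iff_of_local

end Groth.Agent.S4571
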