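import Groth.Statements.S4577
import Groth.Agent.H05EGA4.SmoothQuot
import Groth.Agent.S4531

set_option autoImplicit false
universe u
open EGA41

namespace Groth.Agent.S4577

/-- Let B be a formally smooth A-algebra (discrete topologies) and C = B/J a quotient with J/J² finitely
generated. Then C is formally smooth over A if and only if C_m is formally smooth over A for every
maximal ideal m of C (hence also if and only if every C_p, p prime, is). (Not stated: the variant of
the localised condition with C_m formally smooth over A_q, q the contraction of m to A, and the
further assertion that for B Noetherian the discrete topologies in the localised condition may be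
replaced by the adic ones.) -/
theorem result {A B C : Type u} [CommRing A] [CommRing B] [CommRing C]
    [Algebra A B] [Algebra B C] [Algebra A C] [IsScalarTower A B C] [Algebra.FormallySmooth A B]
    (hsurj : Function.Surjective (algebraMap B C)) [Module.Finite B (RingHom.ker (algebraMap B C)).Cotangent] :
    Algebra.FormallySmooth A C ↔
      ∀ (m : Ideal C) [m.IsMaximal], Algebra.FormallySmooth A (Localization.AtPrime m) := by
  haveI := H05EGA4.SmoothQuot.finite_cotangent (A := A) hsurj
  haveI : Module.Projective C (H05EGA4.SmoothQuot.ext A B C hsurj).CotangentSpace := inferInstance
  rw [H05EGA4.SmoothQuot.formallySmooth_iff hsurj,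
    (S4531.result (H05EGA4.SmoothQuot.ext A B C hsurj).cotangentComplex).1]
  exact forall₂_congr fun m _ => (H05EGA4.SmoothQuot.formallySmooth_localization_iff hsurj m).symm

end Groth.Agent.S4577
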