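import Groth.Statements.S4578
import Mathlib
import Groth.Agent.H05EGA4.SmoothLocus

set_option autoImplicit false
set_option linter.style.haveILetI false
universe u
open IsLocalRing
open EGA41

open IsLocalRing TensorProduct Groth.Agent CAlgX Groth.Agent.H05EGA4

namespace Groth.Agent.S4578

/-- Let k₀ be a field, k an extension field of k₀ which is separable (formally smooth) over k₀, C a
k-algebra of finite type and p a prime ideal of C. The following are equivalent: C_p is formally
smooth over k₀ (discrete topologies); C_p is formally smooth over k₀ for the adic topology of its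
maximal ideal; C_f is formally smooth over k₀ for some f ∉ p; C_p is geometrically regular over k₀.
(The published statement adds that the set of primes p having these properties is open in Spec C;
that openness is not stated here.) -/
theorem result {k₀ k C : Type u} [Field k₀] [Field k] [Algebra k₀ k]
    [Algebra.FormallySmooth k₀ k] [CommRing C] [Algebra k C] [Algebra k₀ C] [IsScalarTower k₀ k C]
    [Algebra.FiniteType k C]
    (p : Ideal C) [p.IsPrime] :
    [Algebra.FormallySmooth k₀ (Localization.AtPrime p),
     CAlgX.IsAdicFormallySmooth k₀ (Localization.AtPrime p) (maximalIdeal (Localization.AtPrime p)),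
     ∃ f : C, f ∉ p ∧ Algebra.FormallySmooth k₀ (Localization.Away f),
     CAlg.IsGeometricallyRegular k₀ (Localization.AtPrime p)].TFAE := by
  obtain ⟨n, π, hπ⟩ := Algebra.FiniteType.iff_quotient_mvPolynomial''.mp (inferInstance : Algebra.FiniteType k C)
  let P := MvPolynomial (Fin n) k
  letI : Algebra P C := π.toRingHom.toAlgebra
  have : IsScalarTower k P C := IsScalarTower.of_algebraMap_eq fun a => (π.commutes a).symm
  have : IsScalarTower k₀ P C := IsScalarTower.of_algebraMap_eq fun a => by
    rw [IsScalarTower.algebraMap_apply k₀ k C, IsScalarTower.algebraMap_apply k P C,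
      ← IsScalarTower.algebraMap_apply k₀ k P]
  have : Algebra.FormallySmooth k₀ P := Algebra.FormallySmooth.comp k₀ k P
  have : IsNoetherianRing C := Algebra.FiniteType.isNoetherianRing k C
  have : IsNoetherianRing (Localization.AtPrime p) := IsLocalization.isNoetherianRing p.primeCompl _ inferInstance
  tfae_have 1 → 2 := fun _ => isAdicFormallySmooth_of_formallySmooth _
  tfae_have 2 ↔ 4 := isAdicFormallySmooth_iff_isGeometricallyRegular
  tfae_have 2 → 3 := exists_formallySmooth_away (P := P) hπ p
  tfae_have 3 → 1 := fun ⟨f, hf, _⟩ => formallySmooth_atPrime_of_away p f hf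
  tfae_finish


end Groth.Agent.S4578
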