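import Groth.Statements.S4579
import Mathlib
import Groth.Agent.H05EGA4.SmoothLocus

set_option autoImplicit false
set_option linter.style.haveILetI false
universe u
open EGA41

open IsLocalRing TensorProduct Groth.Agent CAlgX Groth.Agent.H05EGA4

namespace Groth.Agent.S4579

/-- Let k₀ be a field, k a separable (formally smooth) extension field of k₀ and C a k-algebra of finite
type. The following are equivalent: C is formally smooth over k₀ (discrete topologies); every C_p, p
prime, is formally smooth over k₀; every C_m, m maximal, is; C is geometrically regular over k₀.
(Geometric regularity is tested on finite extensions of k₀. The published statement quantifies the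
last condition over all extensions k' of k₀; for infinite ones the base change need not be
Noetherian, so it need not be regular in the Noetherian sense, and the printed proof passes through
the local rings as here.) -/
theorem result {k₀ k C : Type u} [Field k₀] [Field k] [Algebra k₀ k]
    [Algebra.FormallySmooth k₀ k] [CommRing C] [Algebra k C] [Algebra k₀ C] [IsScalarTower k₀ k C]
    [Algebra.FiniteType k C] :
    [Algebra.FormallySmooth k₀ C,
     ∀ (p : Ideal C) [p.IsPrime], Algebra.FormallySmooth k₀ (Localization.AtPrime p),
     ∀ (m : Ideal C) [m.IsMaximal], Algebra.FormallySmooth k₀ (Localization.AtPrime m),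
     CAlg.IsGeometricallyRegular k₀ C].TFAE := by
  obtain ⟨n, π, hπ⟩ := Algebra.FiniteType.iff_quotient_mvPolynomial''.mp (inferInstance : Algebra.FiniteType k C)
  let P := MvPolynomial (Fin n) k
  letI : Algebra P C := π.toRingHom.toAlgebra
  have : IsScalarTower k P C := IsScalarTower.of_algebraMap_eq fun a => (π.commutes a).symm
  have : IsScalarTower k₀ P C := IsScalarTower.of_algebraMap_eq fun a => by
    rw [IsScalarTower.algebraMap_apply k₀ k C, IsScalarTower.algebraMap_apply k P C,
      ← IsScalarTower.algebraMap_apply k₀ k P]
  have : Algebra.FormallySmooth k₀ P := Algebra.FormallySmooth.comp k₀ k P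
  have : IsNoetherianRing C := Algebra.FiniteType.isNoetherianRing k C
  tfae_have 1 → 2 := fun _ p _ => by
    have : Algebra.FormallyEtale C (Localization.AtPrime p) := Algebra.FormallyEtale.of_isLocalization p.primeCompl
    exact Algebra.FormallySmooth.comp k₀ C (Localization.AtPrime p)
  tfae_have 2 → 3 := fun h m _ => h m
  tfae_have 3 → 1 := fun h => formallySmooth_of_forall_isAdicFormallySmooth (P := P) hπ fun m _ => by
    have := h m
    exact isAdicFormallySmooth_of_formallySmooth _
  tfae_have 4 → 1 := fun h => formallySmooth_of_forall_isAdicFormallySmooth (P := P) hπ fun m _ =>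
    isAdicFormallySmooth_localization_of_isGeometricallyRegular h m
  tfae_have 1 → 4 := fun _ k' _ _ hfin => by
    have : IsNoetherianRing (k' ⊗[k₀] C) := H02CA.isNoetherianRing_tensor_of_essFiniteType _ _ _
    refine isRegularRing_tensor_of_forall_fs (fun q _ => ?_) k'
    have : Algebra.FormallyEtale C (Localization.AtPrime q) := Algebra.FormallyEtale.of_isLocalization q.primeCompl
    have := Algebra.FormallySmooth.comp k₀ C (Localization.AtPrime q)
    exact isAdicFormallySmooth_of_formallySmooth _
  tfae_finish


end Groth.Agent.S4579
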