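import Groth.Statements.S4580
import Groth.Agent.H05EGA4.ZarJac

set_option autoImplicit false
universe u
open EGA41

namespace Groth.Agent.S4580

/-- Let k₀ be a field, k a separable (formally smooth) extension field of k₀, B = k[T_1, ..., T_r], J an
ideal of B and q a prime of B containing J, with image p in C = B/J. Then C_p is formally smooth
over k₀ for the discrete topologies if and only if there exist f_1, ..., f_m ∈ J whose images
generate J B_q and k₀-derivations D_1, ..., D_m of B with det(D_j f_i) ∉ q. -/
theorem result {k₀ k : Type u} [Field k₀] [Field k] [Algebra k₀ k]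
    [Algebra.FormallySmooth k₀ k] (r : ℕ) (J q : Ideal (MvPolynomial (Fin r) k)) [q.IsPrime] (hJq : J ≤ q)
    [(q.map (Ideal.Quotient.mk J)).IsPrime] :
    Algebra.FormallySmooth k₀ (Localization.AtPrime (q.map (Ideal.Quotient.mk J))) ↔
      ∃ (m : ℕ) (f : Fin m → MvPolynomial (Fin r) k) (D : Fin m → Derivation k₀ (MvPolynomial (Fin r) k) (MvPolynomial (Fin r) k)),
        (∀ i, f i ∈ J) ∧
        J.map (algebraMap (MvPolynomial (Fin r) k) (Localization.AtPrime q)) =
          Ideal.span (Set.range fun i => algebraMap (MvPolynomial (Fin r) k) (Localization.AtPrime q) (f i)) ∧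
        Matrix.det (Matrix.of fun i j => D j (f i)) ∉ q := by
  let p := q.map (Ideal.Quotient.mk J)
  have hcomap : p.comap (Ideal.Quotient.mk J) = q := by
    rw [Ideal.comap_map_of_surjective _ Ideal.Quotient.mk_surjective, ← RingHom.ker_eq_comap_bot,
      Ideal.mk_ker, sup_eq_left.2 hJq]
  have hle : q.primeCompl ≤ p.primeCompl.comap (Ideal.Quotient.mk J) := fun x hx hx' => hx (hcomap.le hx')
  have hmap : Submonoid.map (Ideal.Quotient.mk J) q.primeCompl = p.primeCompl := by
    refine le_antisymm (Submonoid.map_le_iff_le_comap.2 hle) fun y hy => ?_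
    obtain ⟨x, rfl⟩ := Ideal.Quotient.mk_surjective y
    exact ⟨x, fun hx => hy (Ideal.mem_map_of_mem _ hx), rfl⟩
  haveI : IsLocalization (q.primeCompl.map (Ideal.Quotient.mk J)) (Localization.AtPrime p) := by
    rw [hmap]
    infer_instance
  letI : Algebra (Localization.AtPrime q) (Localization.AtPrime p) :=
    (IsLocalization.map (M := q.primeCompl) (S := Localization.AtPrime q) (Localization.AtPrime p)
      (Ideal.Quotient.mk J) q.primeCompl.le_comap_map).toAlgebra
  haveI : IsScalarTower k₀ (Localization.AtPrime q) (Localization.AtPrime p) :=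
    IsScalarTower.of_algebraMap_eq fun c => by
      rw [IsScalarTower.algebraMap_apply k₀ (MvPolynomial (Fin r) k) (Localization.AtPrime q) c,
        RingHom.algebraMap_toAlgebra, IsLocalization.map_eq]
      rfl
  haveI : Algebra.FormallySmooth k₀ (MvPolynomial (Fin r) k) :=
    Algebra.FormallySmooth.comp k₀ k _
  exact Groth.Agent.H05EGA4.ZarJac.iff_local q J
    (IsLocalization.map_surjective_of_surjective q.primeCompl _ (Localization.AtPrime p)
      Ideal.Quotient.mk_surjective)
    ((IsLocalization.ker_map (M := q.primeCompl) (S := Localization.AtPrime q)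
      (Localization.AtPrime p) (Ideal.Quotient.mk J) rfl).trans (by rw [Ideal.mk_ker])) hJq

end Groth.Agent.S4580
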