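import Groth.Statements.S4582
import Groth.Agent.H05EGA4.RegHomFS
import Groth.Agent.H05EGA4.GRing

set_option autoImplicit false
set_option linter.style.haveILetI false
universe u
open IsLocalRing
open EGA41

open IsLocalRing TensorProduct Groth.Agent CAlgX Groth.Agent.H05EGA4

namespace Groth.Agent.S4582

/-- Let A be a complete Noetherian local ring, p a prime of A, B = A_p, B̂ the completion of B, q a
prime of B̂ and r its contraction to B. Then B̂_q is formally smooth over B_r for the adic
topologies of the maximal ideals. -/
theorem result {A : Type u} [CommRing A]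
    [IsLocalRing A] [IsNoetherianRing A] [IsAdicComplete (maximalIdeal A) A] (p : Ideal A) [p.IsPrime]
    (q : Ideal (AdicCompletion (maximalIdeal (Localization.AtPrime p)) (Localization.AtPrime p))) [q.IsPrime]
    [Algebra (Localization.AtPrime (q.comap (algebraMap (Localization.AtPrime p)
        (AdicCompletion (maximalIdeal (Localization.AtPrime p)) (Localization.AtPrime p)))))
      (Localization.AtPrime q)]
    [IsScalarTower (Localization.AtPrime p)
      (Localization.AtPrime (q.comap (algebraMap (Localization.AtPrime p)
        (AdicCompletion (maximalIdeal (Localization.AtPrime p)) (Localization.AtPrime p)))))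
      (Localization.AtPrime q)] :
    EGA41.IsFormallySmoothAdic
      (Localization.AtPrime (q.comap (algebraMap (Localization.AtPrime p)
        (AdicCompletion (maximalIdeal (Localization.AtPrime p)) (Localization.AtPrime p)))))
      (maximalIdeal _) (Localization.AtPrime q) (maximalIdeal _) := by
  let S := Localization.AtPrime p
  let C := AdicCompletion (maximalIdeal S) S
  have : IsNoetherianRing C := isNoetherianRing_adicCompletion S (maximalIdeal S)
  let r := q.comap (algebraMap S C)
  have : q.LiesOver r := ⟨rfl⟩
  have : Localization.AtPrime.IsLiesOverAlgebra r q := by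
    refine ⟨IsLocalization.ringHom_ext r.primeCompl ?_⟩
    refine RingHom.ext fun x => ?_
    show algebraMap (Localization.AtPrime r) (Localization.AtPrime q) (algebraMap S _ x) =
      Localization.localRingHom r q (algebraMap S C) rfl (algebraMap S _ x)
    rw [Localization.localRingHom_to_map, ← IsScalarTower.algebraMap_apply, ← IsScalarTower.algebraMap_apply]
  have hFS := isAdicFormallySmooth_of_isRegularHom ((isGRing_of_isAdicComplete A).2 p) r q
  intro D _ _ J hJ _ u hu
  obtain ⟨N, hN⟩ := hJ
  obtain ⟨v, hv, -⟩ := exists_lift_nilpotent hFS N D J
    (le_bot_iff.mp ((Ideal.pow_le_pow_right Nat.lt_two_pow_self.le).trans hN.le)) u hu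
  exact ⟨v, hv⟩


end Groth.Agent.S4582
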