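import Groth.Statements.S4583
import Groth.Agent.H05EGA4.GeomFibre
import Groth.Agent.H05EGA4.CompleteNormalization
import Groth.Agent.H05EGA4.GRing

set_option autoImplicit false
set_option linter.style.haveILetI false
universe u
open IsLocalRing
open EGA41

open IsLocalRing TensorProduct Groth.Agent CAlgX Groth.Agent.H05EGA4

namespace Groth.Agent.S4583

/-- Let A be a complete Noetherian local domain with fraction field K, p a prime of A, B = A_p, q a
prime of the completion B̂ of B with q ∩ B = 0. Then B̂_q is a K-algebra formally smooth over K for
the adic topology of its maximal ideal (the published statement adds that it is then geometrically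
regular over K; that consequence is not stated). -/
theorem result {A : Type u} [CommRing A]
    [IsDomain A] [IsLocalRing A] [IsNoetherianRing A] [IsAdicComplete (maximalIdeal A) A] (p : Ideal A) [p.IsPrime]
    (q : Ideal (AdicCompletion (maximalIdeal (Localization.AtPrime p)) (Localization.AtPrime p))) [q.IsPrime]
    (hq : q.comap (algebraMap (Localization.AtPrime p)
      (AdicCompletion (maximalIdeal (Localization.AtPrime p)) (Localization.AtPrime p))) = ⊥)
    [Algebra A (Localization.AtPrime q)]
    [IsScalarTower A (AdicCompletion (maximalIdeal (Localization.AtPrime p)) (Localization.AtPrime p))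
      (Localization.AtPrime q)]
    [Algebra (FractionRing A) (Localization.AtPrime q)] [IsScalarTower A (FractionRing A) (Localization.AtPrime q)] :
    CAlgX.IsAdicFormallySmooth (FractionRing A) (Localization.AtPrime q) (maximalIdeal (Localization.AtPrime q)) := by
  let S := Localization.AtPrime p
  let C := AdicCompletion (maximalIdeal S) S
  have : IsNoetherianRing C := isNoetherianRing_adicCompletion S (maximalIdeal S)
  letI : Algebra S (FractionRing A) :=
    (IsLocalization.lift (M := p.primeCompl) (g := algebraMap A (FractionRing A)) fun y =>
      IsUnit.mk0 _ (by
        rw [Ne, IsFractionRing.to_map_eq_zero_iff]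
        exact fun h => y.2 (h ▸ zero_mem p))).toAlgebra
  have : IsScalarTower A S (FractionRing A) := IsScalarTower.of_algebraMap_eq fun a => (IsLocalization.lift_eq _ a).symm
  have : IsDomain S := IsLocalization.isDomain_localization (Ideal.primeCompl_le_nonZeroDivisors p)
  have : IsFractionRing S (FractionRing A) :=
    IsFractionRing.isFractionRing_of_isDomain_of_isLocalization p.primeCompl _ _
  have hkey : ∀ a : A, algebraMap (FractionRing A) (Localization.AtPrime q) (algebraMap A (FractionRing A) a) =
      algebraMap C (Localization.AtPrime q) (algebraMap A C a) := fun a => by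
    have h1 := smul_assoc a (1 : FractionRing A) (1 : Localization.AtPrime q)
    have h2 := smul_assoc a (1 : AdicCompletion (maximalIdeal (Localization.AtPrime p)) (Localization.AtPrime p))
      (1 : Localization.AtPrime q)
    rw [one_smul] at h1 h2
    rw [← h2] at h1
    rw [Algebra.algebraMap_eq_smul_one, Algebra.algebraMap_eq_smul_one, Algebra.algebraMap_eq_smul_one,
      Algebra.algebraMap_eq_smul_one]
    exact h1
  have : IsScalarTower S (FractionRing A) (Localization.AtPrime q) := by
    refine IsScalarTower.of_algebraMap_eq' (IsLocalization.ringHom_ext p.primeCompl (RingHom.ext fun a => ?_))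
    show algebraMap S (Localization.AtPrime q) (algebraMap A S a) = algebraMap (FractionRing A) (Localization.AtPrime q)
      (algebraMap S (FractionRing A) (algebraMap A S a))
    rw [← IsScalarTower.algebraMap_apply A S (FractionRing A), hkey, IsScalarTower.algebraMap_apply A S C,
      ← IsScalarTower.algebraMap_apply S C (Localization.AtPrime q)]
  exact isAdicFormallySmooth_generic_fibre S C (FractionRing A) (Localization.AtPrime q)
    ((isGRing_of_isAdicComplete A).2 p) q


end Groth.Agent.S4583
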