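import Groth.Statements.S4584
import Groth.Agent.H05EGA4.ConsRange

set_option autoImplicit false
universe u
open AlgebraicGeometry CategoryTheory Topology
open EGA41

open Groth.Agent.H05EGA4 Topology
namespace Groth.Agent.S4584

/-- Given a scheme X that is quasi-compact and quasi-separated, together with a constructible subset Z
of X, one can find an affine scheme X' with a morphism X' → X of finite presentation whose image
equals Z. -/
theorem result (X : Scheme.{u}) [CompactSpace X]
    [QuasiSeparatedSpace X] (Z : Set X) (hZ : IsConstructible Z) :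
    ∃ (X' : Scheme.{u}) (f : X' ⟶ X), IsAffine X' ∧ LocallyOfFinitePresentation f ∧ QuasiCompact f ∧
      QuasiSeparated f ∧ Set.range f.base = Z := by
  obtain ⟨R, h, hsurj, hlfp⟩ := ConsRange.exists_surjective_lfp X
  haveI := hlfp
  obtain ⟨S, _, φ, hφ, hrange⟩ := ConsRange.exists_fp_range_eq (R := R) (h.isConstructible_preimage hZ)
  haveI := hφ
  refine ⟨Spec (CommRingCat.of S), Spec.map (CommRingCat.ofHom φ) ≫ h, inferInstance, ?_, inferInstance, ?_, ?_⟩
  · infer_instance
  · infer_instance
  · rw [Scheme.Hom.comp_base, TopCat.coe_comp, Set.range_comp]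
    exact (congrArg (fun T => h '' T) hrange).trans (Set.image_preimage_eq Z hsurj)

end Groth.Agent.S4584
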