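import Groth.Statements.S4585
import Groth.Agent.H05EGA4.GenericImage

set_option autoImplicit false
universe u
open AlgebraicGeometry CategoryTheory
open EGA41

open Groth.Agent.H05EGA4
namespace Groth.Agent.S4585

/-- Let Y be an irreducible scheme with generic point η and f : X → Y locally of finite type with
nonempty fibre over η. Then some open neighbourhood of η is contained in f(X). (The second
assertion, on fibres of a quasi-coherent module of finite type, is not stated.) -/
theorem result {X Y : Scheme.{u}} (f : X ⟶ Y)
    [LocallyOfFiniteType f] [IrreducibleSpace Y] (h : genericPoint Y ∈ Set.range f.base) :
    genericPoint Y ∈ interior (Set.range f.base) := by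
  exact GenericImage.genericPoint_mem_interior f h

end Groth.Agent.S4585
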