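import Groth.Statements.S4586
import Groth.Agent.H05EGA4.ConsChart

set_option autoImplicit false
universe u
open AlgebraicGeometry CategoryTheory Topology
open EGA41

open Groth.Agent.H05EGA4
namespace Groth.Agent.S4586

/-- Let f : X → Y be surjective and either quasi-compact or locally of finite presentation, E ⊆ Y. Then
E is locally constructible (resp. pro-constructible, resp. ind-constructible) if and only if f⁻¹(E)
is. -/
theorem result {X Y : Scheme.{u}} (f : X ⟶ Y) [Surjective f]
    (hf : QuasiCompact f ∨ LocallyOfFinitePresentation f) (E : Set Y) :
    (IsLocallyConstructible E ↔ IsLocallyConstructible (f.base ⁻¹' E)) ∧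
    (ProCons.IsProConstructible E ↔ ProCons.IsProConstructible (f.base ⁻¹' E)) ∧
    (ProCons.IsIndConstructible E ↔ ProCons.IsIndConstructible (f.base ⁻¹' E)) := by
  exact ConsChart.constructibility_iff_preimage f hf E

end Groth.Agent.S4586
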