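import Groth.Statements.S4587
import Groth.Agent.H05EGA4.Topo

set_option autoImplicit false
set_option backward.isDefEq.respectTransparency.types false
universe u
open AlgebraicGeometry CategoryTheory
open EGA41

open Groth.Agent.H05EGA4 Topology TopologicalSpace

namespace Groth.Agent.S4587

/-- A morphism of schemes f : X → Y is generizing if and only if, for every irreducible closed subset Y'
of Y, each irreducible component of f⁻¹(Y') has dense image in Y'. -/
theorem result {X Y : Scheme.{u}} (f : X ⟶ Y) :
    GeneralizingMap f.base ↔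
      ∀ Y' : Set Y, IsClosed Y' → IsIrreducible Y' →
        ∀ Z ∈ irreducibleComponents ↥(f.base ⁻¹' Y'), closure (f.base '' (Subtype.val '' Z)) = Y' := by
  constructor
  · intro h Y' hc hi Z hZ
    have hclP : IsClosed (f.base ⁻¹' Y') := hc.preimage f.continuous
    have hZi : IsIrreducible (Subtype.val '' Z : Set X) := hZ.1.image _ continuous_subtype_val.continuousOn
    have hZc : IsClosed (Subtype.val '' Z : Set X) :=
      hclP.isClosedEmbedding_subtypeVal.isClosedMap _ (isClosed_of_mem_irreducibleComponents Z hZ)
    have hz := hZi.isGenericPoint_genericPoint hZc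
    have hg := hi.isGenericPoint_genericPoint hc
    obtain ⟨z₀, hz₀⟩ := hz.mem
    obtain ⟨z', hz'z, hz'⟩ := h (hg.specializes (show f.base hZi.genericPoint ∈ Y' from hz₀.2 ▸ z₀.2))
    refine Set.Subset.antisymm (hc.closure_subset_iff.2 (by rintro _ ⟨_, ⟨a, -, rfl⟩, rfl⟩; exact a.2)) ?_
    have hP : z' ∈ f.base ⁻¹' Y' := by
      show f.base z' ∈ Y'
      rw [hz']; exact hg.mem
    let w : ↥(f.base ⁻¹' Y') := ⟨z', hP⟩
    have : Z ⊆ closure {w} := fun a ha => by
      rw [← specializes_iff_mem_closure, IsInducing.subtypeVal.specializes_iff.symm]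
      exact hz'z.trans (hz.specializes ⟨a, ha, rfl⟩)
    have hw : w ∈ Z := hZ.2 isIrreducible_singleton.closure this (subset_closure rfl)
    refine hg.def.ge.trans ?_
    exact closure_mono (by rintro _ rfl; exact ⟨z', ⟨w, hw, rfl⟩, hz'⟩)
  · intro h x y hy
    have hP : x ∈ f.base ⁻¹' closure {y} := specializes_iff_mem_closure.1 hy
    have hclP : IsClosed (f.base ⁻¹' closure {y}) := isClosed_closure.preimage f.continuous
    let w : ↥(f.base ⁻¹' closure {y}) := ⟨x, hP⟩
    have hZ := irreducibleComponent_mem_irreducibleComponents w
    have e := h _ isClosed_closure isIrreducible_singleton.closure _ hZ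
    have hZi : IsIrreducible (Subtype.val '' irreducibleComponent w : Set X) :=
      hZ.1.image _ continuous_subtype_val.continuousOn
    have hZc : IsClosed (Subtype.val '' irreducibleComponent w : Set X) :=
      hclP.isClosedEmbedding_subtypeVal.isClosedMap _ isClosed_irreducibleComponent
    have hz := hZi.isGenericPoint_genericPoint hZc
    refine ⟨_, hz.specializes ⟨w, mem_irreducibleComponent, rfl⟩, ?_⟩
    have hgen := hz.image f.continuous
    rw [e] at hgen
    exact hgen.eq isGenericPoint_closure


end Groth.Agent.S4587
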