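import Groth.Statements.S4590
import Mathlib.RingTheory.Flat.FaithfullyFlat.Algebra
import Mathlib.RingTheory.IntegralClosure.IsIntegral.Basic
import Mathlib.RingTheory.Localization.FractionRing
import Mathlib.RingTheory.Nilpotent.Lemmas
import Mathlib.RingTheory.Flat.TorsionFree
import Mathlib.Algebra.Polynomial.Degree.Lemmas

set_option autoImplicit false
universe u
open CAlg

namespace Groth.Agent.S4590

/-- Let A be a domain with fraction field K, B a faithfully flat A-algebra, C = B_red and R the total
ring of fractions of C. Then A → C is injective with nonzero elements going to non-zero-divisors, so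
that K embeds in R, and an element of K is integral over C in R if and only if it is integral over
A. -/
theorem result {A B : Type u} [CommRing A] [IsDomain A]
    [CommRing B] [Algebra A B] [Module.FaithfullyFlat A B] :
    Function.Injective (algebraMap A (B ⧸ nilradical B)) ∧
    (∀ a : A, a ≠ 0 → algebraMap A (B ⧸ nilradical B) a ∈ nonZeroDivisors (B ⧸ nilradical B)) ∧
    ∀ (R : Type u) [CommRing R] [Algebra (B ⧸ nilradical B) R] [IsFractionRing (B ⧸ nilradical B) R]
      [Algebra A R] [IsScalarTower A (B ⧸ nilradical B) R] [Algebra (FractionRing A) R]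
      [IsScalarTower A (FractionRing A) R] (x : FractionRing A),
      IsIntegral (B ⧸ nilradical B) (algebraMap (FractionRing A) R x) ↔ IsIntegral A x := by
  classical
  have hinjB : Function.Injective (algebraMap A B) := FaithfulSMul.algebraMap_injective A B
  have hred : ∀ a : A, algebraMap A (B ⧸ nilradical B) a = Ideal.Quotient.mk _ (algebraMap A B a) :=
    fun a => rfl
  have hinj : Function.Injective (algebraMap A (B ⧸ nilradical B)) := by
    rw [injective_iff_map_eq_zero]
    intro a ha
    rw [hred, Ideal.Quotient.eq_zero_iff_mem, mem_nilradical] at ha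
    exact ((IsNilpotent.map_iff hinjB).mp ha).eq_zero
  have hreg : ∀ a : A, a ≠ 0 → algebraMap A B a ∈ nonZeroDivisors B := by
    intro a ha
    have hr : IsSMulRegular B (algebraMap A B a) :=
      IsSMulRegular.of_flat (S := B) (IsSMulRegular.of_ne_zero ha)
    exact mem_nonZeroDivisors_iff_right.mpr fun z hz => hr (by simpa [mul_comm] using hz)
  have hregred : ∀ a : A, a ≠ 0 → algebraMap A (B ⧸ nilradical B) a ∈ nonZeroDivisors (B ⧸ nilradical B) := by
    intro a ha
    refine mem_nonZeroDivisors_iff_right.mpr fun z hz => ?_
    obtain ⟨z, rfl⟩ := Ideal.Quotient.mk_surjective z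
    rw [hred, ← map_mul, Ideal.Quotient.eq_zero_iff_mem, mem_nilradical] at hz
    rw [Ideal.Quotient.eq_zero_iff_mem, mem_nilradical]
    obtain ⟨n, hn⟩ := hz
    refine ⟨n, (mem_nonZeroDivisors_iff_right.mp (pow_mem (hreg a ha) n)) _ ?_⟩
    rw [← mul_pow]
    exact hn
  refine ⟨hinj, hregred, fun R _ _ _ _ _ _ _ x => ⟨fun hx => ?_, fun hx => ?_⟩⟩
  · obtain ⟨a, ⟨c, hc⟩, rfl⟩ := IsLocalization.exists_mk'_eq (nonZeroDivisors A) x
    set x := IsLocalization.mk' (FractionRing A) a (⟨c, hc⟩ : nonZeroDivisors A) with hxdef
    have hxc : x * algebraMap A (FractionRing A) c = algebraMap A (FractionRing A) a :=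
      IsLocalization.mk'_spec (FractionRing A) a (⟨c, hc⟩ : nonZeroDivisors A)
    have hc0 : c ≠ 0 := nonZeroDivisors.ne_zero hc
    set xR := algebraMap (FractionRing A) R x
    let Bn := B ⧸ nilradical B
    have hRA : ∀ r : A, algebraMap A R r =
        algebraMap (B ⧸ nilradical B) R (algebraMap A (B ⧸ nilradical B) r) :=
      fun r => IsScalarTower.algebraMap_apply A (B ⧸ nilradical B) R r
    have hxR : xR * algebraMap A R c = algebraMap A R a := by
      rw [IsScalarTower.algebraMap_apply A (FractionRing A) R c,
        IsScalarTower.algebraMap_apply A (FractionRing A) R a, ← map_mul, hxc]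
    obtain ⟨P, hPm, hP⟩ := hx
    set n := P.natDegree
    choose b hb using fun i => Ideal.Quotient.mk_surjective (P.coeff i)
    let M : Ideal B := (Ideal.span {a, c}).map (algebraMap A B)
    have haM : algebraMap A B a ∈ M := Ideal.mem_map_of_mem _ (Ideal.subset_span (by simp))
    have hcM : algebraMap A B c ∈ M := Ideal.mem_map_of_mem _ (Ideal.subset_span (by simp))
    let E : B := algebraMap A B a ^ n +
      ∑ i ∈ Finset.range n, b i * algebraMap A B a ^ i * algebraMap A B c ^ (n - i)
    have hE0 : IsNilpotent E := by
      rw [← mem_nilradical, ← Ideal.Quotient.eq_zero_iff_mem]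
      apply IsFractionRing.injective (B ⧸ nilradical B) R
      rw [map_zero]
      have h1 : (algebraMap (B ⧸ nilradical B) R (Ideal.Quotient.mk _ E)) =
          P.eval₂ (algebraMap (B ⧸ nilradical B) R) xR * algebraMap A R c ^ n := by
        rw [Polynomial.eval₂_eq_sum_range, Finset.sum_mul, Finset.sum_range_succ, add_comm]
        simp only [E, map_add, map_sum, map_mul, map_pow, ← hred, ← hRA, ← hxR]
        congr 1
        · rw [show P.coeff P.natDegree = 1 from hPm.coeff_natDegree, map_one, one_mul, mul_pow]
        · refine Finset.sum_congr rfl fun i hi => ?_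
          have hin : i < n := Finset.mem_range.mp hi
          rw [hb i, mul_pow]
          conv_rhs => rw [show n = i + (n - i) by omega, pow_add]
          ring
      rw [h1, hP, zero_mul]
    have hEn : E - algebraMap A B a ^ n ∈ Ideal.span {algebraMap A B c} * M ^ (n - 1) := by
      simp only [E, add_sub_cancel_left]
      refine sum_mem fun i hi => ?_
      have hin : i < n := Finset.mem_range.mp hi
      have : b i * algebraMap A B a ^ i * algebraMap A B c ^ (n - i) =
          algebraMap A B c * (b i * (algebraMap A B a ^ i * algebraMap A B c ^ (n - i - 1))) := by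
        conv_lhs => rw [show n - i = n - i - 1 + 1 by omega, pow_succ]
        ring
      rw [this]
      refine Ideal.mul_mem_mul (Ideal.mem_span_singleton_self _) (Ideal.mul_mem_left _ _ ?_)
      rw [show n - 1 = i + (n - i - 1) by omega, pow_add]
      exact Ideal.mul_mem_mul (Ideal.pow_mem_pow haM _) (Ideal.pow_mem_pow hcM _)
    obtain ⟨k, hk⟩ := hE0
    have hn0 : 0 < n := by
      by_contra hn
      have hn' : n = 0 := by omega
      have : E = 1 := by simp [E, hn']
      rw [this, one_pow] at hk
      exact (one_ne_zero (α := A)) (hinjB (by rw [map_one, map_zero, hk]))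
    rcases Nat.eq_zero_or_pos k with rfl | hk0
    · rw [pow_zero] at hk
      exact absurd (hinjB (show algebraMap A B 1 = algebraMap A B 0 by rw [map_one, map_zero, hk])) one_ne_zero
    have hEM : E ∈ M ^ n := by
      have h1 : Ideal.span {algebraMap A B c} * M ^ (n - 1) ≤ M ^ n := by
        conv_rhs => rw [show n = 1 + (n - 1) by omega, pow_add, pow_one]
        exact Ideal.mul_mono ((Ideal.span_singleton_le_iff_mem _).mpr hcM) le_rfl
      have := add_mem (Ideal.pow_mem_pow haM n) (h1 hEn)
      rwa [add_sub_cancel] at this
    set N := n * k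
    have hN0 : 0 < N := Nat.mul_pos hn0 hk0
    have hN : algebraMap A B a ^ N ∈ Ideal.span {algebraMap A B c} * M ^ (N - 1) := by
      have h1 : (E - algebraMap A B a ^ n) * (∑ i ∈ Finset.range k, E ^ i * (algebraMap A B a ^ n) ^ (k - 1 - i)) ∈
          Ideal.span {algebraMap A B c} * M ^ (N - 1) := by
        have h3 : ∀ i ∈ Finset.range k, E ^ i * (algebraMap A B a ^ n) ^ (k - 1 - i) ∈ M ^ (n * (k - 1)) := by
          intro i hi
          have hik : i < k := Finset.mem_range.mp hi
          rw [show n * (k - 1) = n * i + n * (k - 1 - i) by rw [← Nat.mul_add]; congr 1; omega, pow_add]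
          refine Ideal.mul_mem_mul ?_ ?_
          · rw [pow_mul]; exact Ideal.pow_mem_pow hEM i
          · rw [← pow_mul]; exact Ideal.pow_mem_pow haM _
        have h4 := Ideal.mul_mem_mul hEn (sum_mem h3)
        rw [mul_assoc, ← pow_add] at h4
        have h5 : n * k = n * (k - 1) + n := by rw [← Nat.mul_succ]; congr 1; omega
        have : n - 1 + n * (k - 1) = N - 1 := by simp only [N]; omega
        rwa [this] at h4
      rw [mul_comm (E - _), geom_sum₂_mul, hk, zero_sub, ← pow_mul, neg_mem_iff] at h1
      exact h1
    have hAN : a ^ N ∈ Ideal.span {c} * Ideal.span {a, c} ^ (N - 1) := by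
      rw [← Ideal.comap_map_eq_self_of_faithfullyFlat (B := B) (Ideal.span {c} * Ideal.span {a, c} ^ (N - 1)),
        Ideal.mem_comap, Ideal.map_mul, Ideal.map_pow, Ideal.map_span, Set.image_singleton, map_pow]
      exact hN
    obtain ⟨w, hw, hwN⟩ := Ideal.mem_span_singleton_mul.mp hAN
    have key : ∀ j, ∀ w ∈ Ideal.span ({a, c} : Set A) ^ j, ∃ p : Polynomial A, p.degree < (j + 1 : ℕ) ∧
        Polynomial.aeval x p * algebraMap A (FractionRing A) c ^ j = algebraMap A (FractionRing A) w := by
      intro j
      induction j with
      | zero =>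
        intro w _
        exact ⟨Polynomial.C w, lt_of_le_of_lt Polynomial.degree_C_le (by simp), by simp⟩
      | succ j ih =>
        intro w hw
        rw [pow_succ] at hw
        refine Submodule.mul_induction_on hw (fun y hy z hz => ?_) (fun y z hy hz => ?_)
        · obtain ⟨p, hp, hpy⟩ := ih y hy
          obtain ⟨u, v, rfl⟩ := Ideal.mem_span_pair.mp hz
          refine ⟨p * (Polynomial.C u * Polynomial.X + Polynomial.C v), ?_, ?_⟩
          · refine lt_of_le_of_lt ((Polynomial.degree_mul_le _ _).trans
              (add_le_add le_rfl (Polynomial.degree_linear_le))) ?_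
            rcases eq_or_ne p 0 with rfl | hp0
            · simp
            · rw [Polynomial.degree_eq_natDegree hp0] at hp ⊢
              norm_cast at hp ⊢
              omega
          · simp only [map_mul, map_add, Polynomial.aeval_C, Polynomial.aeval_X, ← hpy, ← hxc]
            ring
        · obtain ⟨p, hp, hpy⟩ := hy
          obtain ⟨q, hq, hqz⟩ := hz
          exact ⟨p + q, lt_of_le_of_lt (Polynomial.degree_add_le _ _) (max_lt hp hq),
            by rw [map_add, map_add, add_mul, hpy, hqz]⟩
    obtain ⟨p, hp, hpw⟩ := key _ w hw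
    rw [Nat.sub_add_cancel hN0] at hp
    have hcF : algebraMap A (FractionRing A) c ≠ 0 := IsFractionRing.to_map_ne_zero_of_mem_nonZeroDivisors hc
    refine ⟨Polynomial.X ^ N - p, Polynomial.monic_X_pow_sub hp, ?_⟩
    · show Polynomial.aeval x (Polynomial.X ^ N - p) = 0
      rw [map_sub, map_pow, Polynomial.aeval_X, sub_eq_zero]
      apply mul_right_cancel₀ (pow_ne_zero N hcF)
      rw [← mul_pow, hxc, ← map_pow, ← hwN, map_mul, ← hpw]
      conv_rhs => rw [show N = N - 1 + 1 by omega, pow_succ]
      ring
  · exact ((hx.map (IsScalarTower.toAlgHom A (FractionRing A) R)).tower_top :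
      IsIntegral (B ⧸ nilradical B) _)

end Groth.Agent.S4590
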