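import Groth.Statements.S4591
import Groth.Agent.H05EGA4.ConsTop

set_option autoImplicit false
universe u
open AlgebraicGeometry
open EGA41

open Groth.Agent.H05EGA4
namespace Groth.Agent.S4591

/-- Let X be a quasi-compact scheme, F a pro-constructible subset and (E_i) a family of
ind-constructible subsets covering F. Then some finite subfamily covers F. -/
theorem result (X : Scheme.{u}) [CompactSpace X]
    (F : Set X) (hF : ProCons.IsProConstructible F) {ι : Type u} (E : ι → Set X)
    (hE : ∀ i, ProCons.IsIndConstructible (E i)) (h : F ⊆ ⋃ i, E i) :
    ∃ J : Finset ι, F ⊆ ⋃ i ∈ J, E i := by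
  exact ConsTop.exists_finite_subcover X F hF E hE h

end Groth.Agent.S4591
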