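import Groth.Statements.S4593
import Groth.Agent.H05EGA4.ConsProper

set_option autoImplicit false
universe u
open CategoryTheory CategoryTheory.Limits AlgebraicGeometry
open EGA41

open Groth.Agent.H05EGA4
namespace Groth.Agent.S4593

/-- Let B be a ring, (A_i) a filtered system of B-algebras with colimit A. The image of Spec A in Spec B
is the intersection of the images of the Spec A_i. -/
theorem result {I : Type u} [SmallCategory I] [IsFiltered I]
    (B : CommRingCat.{u}) (D : I ⥤ CommRingCat.{u}) (s : (Functor.const I).obj B ⟶ D) (c : Cocone D)
    (hc : IsColimit c) (i₀ : I) :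
    Set.range (Spec.map (s.app i₀ ≫ c.ι.app i₀)).base = ⋂ i : I, Set.range (Spec.map (s.app i)).base := by
  exact ConsProper.range_colimit B D s c hc i₀

end Groth.Agent.S4593
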