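import Groth.Statements.S4594
import Mathlib

set_option autoImplicit false
universe u
open TensorProduct KaehlerDifferential
open EGA41

namespace Groth.Agent.S4594

set_option maxHeartbeats 800000 in
open TensorProduct KaehlerDifferential in
/-- Let Λ be a ring, A → C a surjection of Λ-algebras with kernel J, C of characteristic p > 0, and π
the class of p·1 in J/J². If C is formally smooth over Λ/pΛ for the discrete topologies, then 0 →
(J/J²)/Cπ → Ω_{A/Λ} ⊗_A C → Ω_{C/Λ} → 0 is exact: the kernel of the conormal map J/J² → Ω_{A/Λ} ⊗_A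
C is the span of π, and the base-change map to Ω_{C/Λ} is surjective with kernel the image of J/J². -/
theorem result {Λ A C : Type u} [CommRing Λ] [CommRing A]
    [CommRing C] [Algebra Λ A] [Algebra A C] [Algebra Λ C] [IsScalarTower Λ A C]
    (hsurj : Function.Surjective (algebraMap A C)) (p : ℕ) [Fact p.Prime] [CharP C p]
    [Algebra (Λ ⧸ Ideal.span {(p : Λ)}) C] [IsScalarTower Λ (Λ ⧸ Ideal.span {(p : Λ)}) C]
    [Algebra.FormallySmooth (Λ ⧸ Ideal.span {(p : Λ)}) C]
    (hp : (p : A) ∈ RingHom.ker (algebraMap A C)) :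
    LinearMap.ker (kerCotangentToTensor Λ A C) =
        Submodule.span A {(RingHom.ker (algebraMap A C)).toCotangent ⟨(p : A), hp⟩} ∧
      LinearMap.range (kerCotangentToTensor Λ A C) = (LinearMap.ker (mapBaseChange Λ A C)).restrictScalars A ∧
      Function.Surjective (mapBaseChange Λ A C) := by
  let J := RingHom.ker (algebraMap A C)
  let π : J.Cotangent := J.toCotangent ⟨(p : A), hp⟩
  let P : Submodule A J.Cotangent := Submodule.span A {π}
  have hker : J = RingHom.ker (algebraMap A C) := rfl
  refine ⟨le_antisymm (fun z hz => ?_) (Submodule.span_le.2 (Set.singleton_subset_iff.2 ?_)), ?_,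
    KaehlerDifferential.mapBaseChange_surjective Λ A C hsurj⟩
  · -- the square-zero extension `A / (J² + pA) → C`
    let K : Ideal A := J ^ 2 ⊔ Ideal.span {(p : A)}
    have hKJ : K ≤ J := sup_le (Ideal.pow_le_self two_ne_zero) (by
      rw [Ideal.span_le, Set.singleton_subset_iff]; exact hp)
    let Λ₀ := Λ ⧸ Ideal.span {(p : Λ)}
    letI : Algebra Λ₀ (A ⧸ K) := RingHom.toAlgebra (Ideal.Quotient.lift (Ideal.span {(p : Λ)})
      ((Ideal.Quotient.mk K).comp (algebraMap Λ A)) (fun x hx => by
        obtain ⟨c, rfl⟩ := Ideal.mem_span_singleton'.1 hx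
        rw [RingHom.comp_apply, map_mul, map_natCast, Ideal.Quotient.eq_zero_iff_mem]
        exact Ideal.mem_sup_right (Ideal.mem_span_singleton'.2 ⟨_, rfl⟩)))
    let q : (A ⧸ K) →ₐ[Λ₀] C :=
      { Ideal.Quotient.lift K (algebraMap A C) (fun x hx => hKJ hx) with
        commutes' := fun r => by
          obtain ⟨l, rfl⟩ := Ideal.Quotient.mk_surjective r
          show algebraMap A C (algebraMap Λ A l) = _
          rw [← IsScalarTower.algebraMap_apply]
          exact IsScalarTower.algebraMap_apply Λ Λ₀ C l }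
    have hq : Function.Surjective q := fun c => by
      obtain ⟨a, rfl⟩ := hsurj c
      exact ⟨Ideal.Quotient.mk K a, rfl⟩
    have hnil : IsNilpotent (RingHom.ker (q : (A ⧸ K) →+* C)) := ⟨2, by
      rw [Ideal.zero_eq_bot, eq_bot_iff]
      refine le_trans (Ideal.pow_right_mono (fun x hx => ?_) 2) (show (J.map (Ideal.Quotient.mk K)) ^ 2 ≤ ⊥ from ?_)
      · obtain ⟨a, rfl⟩ := Ideal.Quotient.mk_surjective x
        exact Ideal.mem_map_of_mem _ hx
      · rw [← Ideal.map_pow, le_bot_iff, Ideal.map_eq_bot_iff_le_ker, Ideal.mk_ker]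
        exact le_sup_left⟩
    let σ : C →ₐ[Λ₀] A ⧸ K := Algebra.FormallySmooth.liftOfSurjective (AlgHom.id Λ₀ C) q hq hnil
    choose u hu using fun a : A => Ideal.Quotient.mk_surjective (σ (algebraMap A C a))
    have hsub : ∀ a, a - u a ∈ J := fun a => by
      have h1 := AlgHom.congr_fun
        (Algebra.FormallySmooth.comp_liftOfSurjective (AlgHom.id Λ₀ C) q hq hnil) (algebraMap A C a)
      rw [AlgHom.comp_apply,
        show Algebra.FormallySmooth.liftOfSurjective (AlgHom.id Λ₀ C) q hq hnil = σ from rfl, ← hu a] at h1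
      rw [RingHom.mem_ker, map_sub, sub_eq_zero]
      exact h1.symm
    let ν : J →ₗ[A] J.Cotangent ⧸ P := P.mkQ ∘ₗ J.toCotangent
    have hν : ∀ {x : A} (hx : x ∈ J), x ∈ K → ν ⟨x, hx⟩ = 0 := by
      intro x hx hxK
      obtain ⟨s, hs, t, ht, rfl⟩ := Submodule.mem_sup.1 hxK
      obtain ⟨c, rfl⟩ := Ideal.mem_span_singleton'.1 ht
      have hsJ : s ∈ J := Ideal.pow_le_self two_ne_zero hs
      rw [show (⟨s + c * p, hx⟩ : J) = ⟨s, hsJ⟩ + c • ⟨(p : A), hp⟩ from rfl, map_add, map_smul]
      show P.mkQ (J.toCotangent ⟨s, hsJ⟩) + c • P.mkQ π = 0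
      rw [(J.toCotangent_eq_zero ⟨s, hsJ⟩).2 hs, map_zero, zero_add,
        show P.mkQ π = 0 from (Submodule.Quotient.mk_eq_zero P).2 (Submodule.mem_span_singleton_self π), smul_zero]
    have heq : ∀ {x y : A} (hx : x ∈ J) (hy : y ∈ J), x - y ∈ K → ν ⟨x, hx⟩ = ν ⟨y, hy⟩ :=
      fun hx hy h => sub_eq_zero.1 (by rw [← map_sub]; exact hν (sub_mem hx hy) h)
    let δ₀ : A → J.Cotangent ⧸ P := fun a => ν ⟨a - u a, hsub a⟩
    have hadd : ∀ a b, δ₀ (a + b) = δ₀ a + δ₀ b := fun a b => by
      show _ = ν _ + ν _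
      rw [← map_add]
      refine heq _ (add_mem (hsub a) (hsub b)) ?_
      have h1 : u (a + b) - (u a + u b) ∈ K := Ideal.Quotient.eq.1 (by rw [hu, map_add, map_add, map_add, hu, hu])
      convert neg_mem h1 using 1; ring
    have hmul : ∀ a b, δ₀ (a * b) = a • δ₀ b + b • δ₀ a := fun a b => by
      show _ = a • ν _ + b • ν _
      rw [← map_smul, ← map_smul, ← map_add]
      refine heq _ (add_mem (J.mul_mem_left a (hsub b)) (J.mul_mem_left b (hsub a))) ?_
      have h1 : u (a * b) - u a * u b ∈ K := Ideal.Quotient.eq.1 (by rw [hu, map_mul, map_mul, map_mul, hu, hu])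
      have h2 : (a - u a) * (b - u b) ∈ K := by
        have := Ideal.mul_mem_mul (hsub a) (hsub b)
        rw [← sq] at this
        exact Ideal.mem_sup_left this
      convert sub_mem (neg_mem h1) h2 using 1; ring
    have hΛ : ∀ l, δ₀ (algebraMap Λ A l) = 0 := fun l => by
      refine hν _ (Ideal.Quotient.eq.1 ?_)
      rw [hu, ← IsScalarTower.algebraMap_apply, IsScalarTower.algebraMap_apply Λ Λ₀ C, σ.commutes]
      rfl
    let δ : Derivation Λ A (J.Cotangent ⧸ P) := Derivation.mk'
      { toFun := δ₀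
        map_add' := hadd
        map_smul' := fun l a => by
          rw [RingHom.id_apply, Algebra.smul_def, hmul, hΛ, smul_zero, add_zero, algebraMap_smul] } hmul
    let R : C ⊗[A] Ω[A⁄Λ] →ₗ[A] J.Cotangent ⧸ P :=
      TensorProduct.lift ((LinearMap.ker (Algebra.linearMap A C)).liftQ
          (LinearMap.toSpanSingleton A _ δ.liftKaehlerDifferential) (fun b hb => LinearMap.ext fun x => by
            show b • δ.liftKaehlerDifferential x = 0
            obtain ⟨y, hy⟩ := Submodule.Quotient.mk_surjective P (δ.liftKaehlerDifferential x)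
            obtain ⟨⟨j, hj⟩, rfl⟩ := J.toCotangent_surjective y
            rw [← hy, ← Submodule.Quotient.mk_smul, ← map_smul,
              (J.toCotangent_eq_zero _).2 (by
                show b * j ∈ J ^ 2
                rw [sq]; exact Ideal.mul_mem_mul hb hj), Submodule.Quotient.mk_zero]) ∘ₗ
        ((Algebra.linearMap A C).quotKerEquivOfSurjective hsurj).symm.toLinearMap)
    have hR : ∀ ω, R ((1 : C) ⊗ₜ ω) = δ.liftKaehlerDifferential ω := fun ω => by
      have h1 : ((Algebra.linearMap A C).quotKerEquivOfSurjective hsurj).symm (1 : C) =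
          Submodule.Quotient.mk 1 := by
        rw [LinearEquiv.symm_apply_eq]
        exact (map_one (algebraMap A C)).symm
      simp only [R, TensorProduct.lift.tmul, LinearMap.comp_apply, LinearEquiv.coe_coe, h1]
      exact one_smul A _
    obtain ⟨⟨j, hj⟩, rfl⟩ := J.toCotangent_surjective z
    rw [LinearMap.mem_ker, KaehlerDifferential.kerCotangentToTensor_toCotangent] at hz
    have h0 := congrArg R hz
    rw [map_zero, hR, Derivation.liftKaehlerDifferential_comp_D] at h0
    have hj' : δ j = ν ⟨j, hj⟩ := heq _ hj (by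
      rw [sub_sub_cancel_left, neg_mem_iff, ← Ideal.Quotient.eq_zero_iff_mem, hu,
        RingHom.mem_ker.1 hj, map_zero])
    exact (Submodule.Quotient.mk_eq_zero P).1 (hj'.symm.trans h0)
  · rw [SetLike.mem_coe, LinearMap.mem_ker, KaehlerDifferential.kerCotangentToTensor_toCotangent]
    show (1 : C) ⊗ₜ[A] KaehlerDifferential.D Λ A (p : A) = 0
    rw [Derivation.map_natCast, TensorProduct.tmul_zero]
  · exact (Submodule.ext fun z => KaehlerDifferential.exact_kerCotangentToTensor_mapBaseChange Λ A C hsurj z).symm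

end Groth.Agent.S4594
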