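import Groth.Statements.S4595
import Groth.Agent.H05EGA4.CotIdx

set_option autoImplicit false
universe u
open TensorProduct IsLocalRing
open EGA41

namespace Groth.Agent.S4595

/-- Let A be an Artinian local ring of characteristic p > 0 with maximal ideal m of square zero and
residue field K, f_1, …, f_r ∈ A, and B = A[T_1, …, T_r]/(T_1^p − f_1, …, T_r^p − f_r). Then B is
local, and dim_K m = dim_{K'}(m'/m'²) (m', K' the maximal ideal and residue field of B) if and only
if the d f_i ⊗ 1 are linearly independent in Ω_A ⊗_A K. -/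
theorem result {A : Type u} [CommRing A]
    [IsArtinianRing A] [IsLocalRing A] (hm : maximalIdeal A ^ 2 = ⊥) (p : ℕ) [Fact p.Prime] [CharP A p]
    {r : ℕ} (f : Fin r → A) :
    let B := MvPolynomial (Fin r) A ⧸ Ideal.span (Set.range fun i => MvPolynomial.X i ^ p - MvPolynomial.C (f i))
    ∃ _ : IsLocalRing B,
      (Module.finrank (ResidueField A) (CotangentSpace A) = Module.finrank (ResidueField B) (CotangentSpace B) ↔
        LinearIndependent (ResidueField A) (fun i => (1 : ResidueField A) ⊗ₜ[A] KaehlerDifferential.D ℤ A (f i))) := by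
  classical
  intro B
  let P := MvPolynomial (Fin r) A
  let K := ResidueField A
  haveI : IsNoetherianRing A := inferInstance
  have hnilA : ∀ a ∈ maximalIdeal A, a ^ 2 = 0 := fun a ha => by
    have : a ^ 2 ∈ maximalIdeal A ^ 2 := Ideal.pow_mem_pow ha 2
    rwa [hm, Ideal.mem_bot] at this
  have hp0 : (p : P) = 0 := by
    rw [← map_natCast (MvPolynomial.C : A →+* P), CharP.cast_eq_zero A p, map_zero]
  -- a point of `B`
  let Ω' := AlgebraicClosure K
  have hroot : ∀ i, ∃ θ : Ω', θ ^ p = algebraMap A Ω' (f i) := fun i =>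
    IsAlgClosed.exists_pow_nat_eq _ (Fact.out : p.Prime).pos
  choose θ hθ using hroot
  let Φ : B →+* Ω' := Ideal.Quotient.lift _ (MvPolynomial.aeval θ).toRingHom (fun x hx => by
    refine Submodule.span_induction ?_ (map_zero _) (fun a b _ _ ha hb => by rw [map_add, ha, hb, add_zero])
      (fun a b _ hb => by rw [smul_eq_mul, map_mul, hb, mul_zero]) hx
    rintro _ ⟨i, rfl⟩
    simp [hθ i])
  haveI : Nontrivial B := Φ.domain_nontrivial
  haveI hcharB : CharP B p := by
    refine (CharP.charP_iff_prime_eq_zero Fact.out).2 ?_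
    rw [← map_natCast (Ideal.Quotient.mk _ : P →+* B), hp0, map_zero]
  haveI : CharP P p := (CharP.charP_iff_prime_eq_zero Fact.out).2 hp0
  -- every element is a unit or nilpotent
  have hpow : ∀ b : B, ∃ a : A, b ^ p = algebraMap A B a := by
    intro b
    obtain ⟨x, rfl⟩ := Ideal.Quotient.mk_surjective b
    induction x using MvPolynomial.induction_on with
    | C a => exact ⟨a ^ p, by rw [map_pow]; rfl⟩
    | add x y hx hy =>
      obtain ⟨a, ha⟩ := hx
      obtain ⟨b, hb⟩ := hy
      exact ⟨a + b, by rw [map_add, add_pow_char, ha, hb, map_add]⟩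
    | mul_X x i hx =>
      obtain ⟨a, ha⟩ := hx
      refine ⟨a * f i, ?_⟩
      rw [map_mul, mul_pow, ha, map_mul]
      congr 1
      rw [← map_pow]
      refine (Ideal.Quotient.eq.2 (Ideal.subset_span ?_)).trans (b := Ideal.Quotient.mk _ (MvPolynomial.C (f i))) rfl
      exact ⟨i, rfl⟩
  have hunit : ∀ b : B, IsUnit b ∨ IsNilpotent b := fun b => by
    obtain ⟨a, ha⟩ := hpow b
    by_cases h : a ∈ maximalIdeal A
    · exact Or.inr ⟨p * 2, by rw [pow_mul, ha, ← map_pow, hnilA a h, map_zero]⟩
    · exact Or.inl ((isUnit_pow_iff (Fact.out : p.Prime).ne_zero).1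
        (ha ▸ (IsLocalRing.notMem_maximalIdeal.1 h).map _))
  haveI hloc : IsLocalRing B := IsLocalRing.of_isUnit_or_isUnit_one_sub_self fun b =>
    (hunit b).imp id fun h => h.isUnit_one_sub
  refine ⟨hloc, ?_⟩
  haveI : IsLocalHom (algebraMap A B) := ⟨fun a ha => by
    by_contra h
    exact not_isUnit_zero (M₀ := B) (by
      have := ha.pow 2
      rwa [← map_pow, hnilA a ((mem_maximalIdeal a).2 h), map_zero] at this)⟩
  letI : Algebra (ZMod p) A := ZMod.algebra A p
  haveI : IsScalarTower (ZMod p) A B := inferInstance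
  haveI : IsScalarTower (ZMod p) P B := inferInstance
  let G : Fin r → P := fun i => MvPolynomial.X i ^ p - MvPolynomial.C (f i)
  have key := Groth.Agent.H05EGA4.CotIdx.finrank_cotangent_add (F := ZMod p) (A := A) (B := B) r
    Ideal.Quotient.mk_surjective G (fun i => -f i) Ideal.mk_ker (fun i => by
      rw [map_sub, Derivation.leibniz_pow, ← Nat.cast_smul_eq_nsmul P, hp0, zero_smul, zero_sub,
        map_neg, map_neg, KaehlerDifferential.map_D]
      rfl)
  -- translate the span
  let L := ResidueField B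
  let T := Submodule.span L (Set.range fun i => (1 : L) ⊗ₜ[A] KaehlerDifferential.D (ZMod p) A (-f i))
  have h1 : LinearIndependent L (fun i => (1 : L) ⊗ₜ[A] KaehlerDifferential.D (ZMod p) A (-f i)) ↔
      LinearIndependent K (fun i => (1 : K) ⊗ₜ[A] KaehlerDifferential.D ℤ A (f i)) := by
    let e₀ : Ω[A⁄ℤ] →ₗ[A] Ω[A⁄ZMod p] := KaehlerDifferential.map ℤ (ZMod p) A A
    haveI : Algebra.FormallyUnramified ℤ (ZMod p) :=
      Algebra.FormallyUnramified.of_surjective (Algebra.ofId ℤ (ZMod p)) (ZMod.ringHom_surjective _)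
    have he₀ : Function.Bijective e₀ := by
      refine ⟨(injective_iff_map_eq_zero _).2 fun x hx => ?_, KaehlerDifferential.map_surjective _ _ _⟩
      obtain ⟨z, rfl⟩ := (KaehlerDifferential.exact_mapBaseChange_map ℤ (ZMod p) A x).1 hx
      rw [Subsingleton.elim z 0, map_zero]
    let e : K ⊗[A] Ω[A⁄ℤ] ≃ₗ[K] K ⊗[A] Ω[A⁄ZMod p] := (LinearEquiv.ofBijective e₀ he₀).baseChange A K
    let J : L ⊗[K] (K ⊗[A] Ω[A⁄ZMod p]) ≃ₗ[L] L ⊗[A] Ω[A⁄ZMod p] :=
      TensorProduct.AlgebraTensorModule.cancelBaseChange A K L L Ω[A⁄ZMod p]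
    let w : Fin r → K ⊗[A] Ω[A⁄ZMod p] := fun i => (1 : K) ⊗ₜ[A] KaehlerDifferential.D (ZMod p) A (f i)
    have h2 : LinearIndependent K (fun i => (1 : K) ⊗ₜ[A] KaehlerDifferential.D ℤ A (f i)) ↔
        LinearIndependent K w := by
      rw [← LinearMap.linearIndependent_iff e.toLinearMap (LinearMap.ker_eq_bot.2 e.injective)]
      congr! 1
      funext i
      simp [e, e₀, w]
    have h3 : LinearIndependent L (fun i => (1 : L) ⊗ₜ[A] KaehlerDifferential.D (ZMod p) A (-f i)) ↔
        LinearIndependent L (fun i => (1 : L) ⊗ₜ[K] w i) := by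
      rw [← LinearMap.linearIndependent_iff J.toLinearMap (LinearMap.ker_eq_bot.2 J.injective)
        (v := fun i => (1 : L) ⊗ₜ[K] w i)]
      have : (J.toLinearMap ∘ fun i => (1 : L) ⊗ₜ[K] w i) =
          fun i => -((1 : L) ⊗ₜ[A] KaehlerDifferential.D (ZMod p) A (-f i)) := by
        funext i
        simp [J, w, TensorProduct.tmul_neg]
      rw [this]
      exact (linearIndependent_neg_iff (v := fun i => (1 : L) ⊗ₜ[A] KaehlerDifferential.D (ZMod p) A (-f i))).symm
    rw [h2, h3]
    constructor
    · exact fun h => LinearIndependent.of_comp ((TensorProduct.mk K L _ 1))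
        (h.restrict_scalars (fun a b hab => (algebraMap K L).injective
          (by simpa [Algebra.smul_def] using hab)))
    · exact Module.Flat.linearIndependent_one_tmul
  rw [← h1, linearIndependent_iff_card_eq_finrank_span, Fintype.card_fin]
  change _ ↔ r = Module.finrank L T
  change _ + Module.finrank L T = _ at key
  constructor <;> intro h <;> omega

end Groth.Agent.S4595
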