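import Groth.Statements.S4598
import Groth.Agent.H05EGA4.QcDescent

set_option autoImplicit false
universe u
open AlgebraicGeometry CategoryTheory CategoryTheory.Limits
open EGA41

open Groth.Agent.H05EGA4
namespace Groth.Agent.S4598

/-- If g : Y' → Y is quasi-compact and surjective and the base change X ×_Y Y' → Y' of f : X → Y is
quasi-separated, then f is quasi-separated. -/
theorem result {X Y Y' : Scheme.{u}} (f : X ⟶ Y)
    (g : Y' ⟶ Y) [QuasiCompact g] [Surjective g] [QuasiSeparated (pullback.snd f g)] :
    QuasiSeparated f := by
  exact QcDescent.quasiSeparated_of_pullback_snd f g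

end Groth.Agent.S4598
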