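import Groth.Statements.S4600
import Mathlib

set_option autoImplicit false
set_option linter.style.haveILetI false
set_option maxHeartbeats 800000
universe u
open CategoryTheory CategoryTheory.Limits TensorProduct
open EGA41

open CategoryTheory CategoryTheory.Limits TensorProduct

namespace Groth.Agent.S4600

theorem uliftInt_subsingleton (X : Type u) [CommRing X] (p q : ULift.{u} ℤ →+* X) : p = q := by
  refine RingHom.ext fun ⟨n⟩ ↦ ?_
  exact congr($(RingHom.ext_int (p.comp ULift.ringEquiv.symm.toRingHom)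
    (q.comp ULift.ringEquiv.symm.toRingHom)) n)

/-- Let (A_i) be a filtered system of rings with colimit A and B a finitely presented A-algebra. Then
some stage A_i carries a finitely presented algebra B_i with B isomorphic to A ⊗_{A_i} B_i as
A-algebras (existence of an isomorphism; the base change is along the colimit map A_i → A). -/
theorem result {I : Type u} [SmallCategory I] [IsFiltered I]
    (D : I ⥤ CommRingCat.{u}) (c : Cocone D) (hc : IsColimit c) (B : Type u) [CommRing B] [Algebra c.pt B]
    [Algebra.FinitePresentation c.pt B] :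
    ∃ (i : I) (Bi : Type u) (_ : CommRing Bi) (_ : Algebra (D.obj i) Bi),
      Algebra.FinitePresentation (D.obj i) Bi ∧
      (letI : Algebra (D.obj i) c.pt := (c.ι.app i).hom.toAlgebra
       Nonempty (B ≃ₐ[c.pt] (c.pt ⊗[D.obj i] Bi))) := by
  let P := Algebra.Presentation.ofFinitePresentation c.pt B
  let A₀ := Algebra.adjoin ℤ P.coeffs
  haveI : P.HasCoeffs A₀ := ⟨by simp [A₀]⟩
  let B₀ := P.ModelOfHasCoeffs A₀
  have hA₀ : Algebra.FiniteType ℤ A₀ := ⟨A₀.fg_top.mpr ⟨P.finite_coeffs.toFinset, by simp [A₀]⟩⟩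
  haveI hBf : Algebra.FinitePresentation A₀ B₀ := inferInstance
  have e : B ≃ₐ[c.pt] c.pt ⊗[A₀] B₀ := (P.tensorModelOfHasCoeffsEquiv A₀).symm
  let R : CommRingCat.{u} := CommRingCat.of (ULift.{u} ℤ)
  let κ : ∀ (X : CommRingCat.{u}), R ⟶ X := fun X ↦
    CommRingCat.ofHom ((Int.castRingHom X).comp ULift.ringEquiv.toRingHom)
  let α : (Functor.const _).obj R ⟶ D :=
    { app := fun i ↦ κ (D.obj i)
      naturality := fun _ _ _ ↦ CommRingCat.hom_ext (uliftInt_subsingleton _ _ _) }
  let f : R ⟶ CommRingCat.of A₀ := κ _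
  have hf : f.hom.FinitePresentation := by
    refine RingHom.FinitePresentation.comp ?_ (RingHom.FinitePresentation.of_surjective
      _ ULift.ringEquiv.surjective ?_)
    · change (algebraMap ℤ A₀).FinitePresentation
      exact RingHom.finitePresentation_algebraMap.mpr (Algebra.FinitePresentation.of_finiteType.mp hA₀)
    · rw [(RingHom.injective_iff_ker_eq_bot (ULift.ringEquiv (R := ℤ)).toRingHom).mp
        ULift.ringEquiv.injective]
      exact Submodule.fg_bot
  obtain ⟨i, t, -, ht⟩ := RingHom.EssFiniteType.exists_eq_comp_ι_app_of_isColimit R D α f c hc hf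
    (CommRingCat.ofHom (algebraMap A₀ c.pt))
    (fun _ ↦ CommRingCat.hom_ext (uliftInt_subsingleton _ _ _))
  letI : Algebra A₀ (D.obj i) := t.hom.toAlgebra
  letI : Algebra (D.obj i) c.pt := (c.ι.app i).hom.toAlgebra
  have : IsScalarTower A₀ (D.obj i) c.pt := IsScalarTower.of_algebraMap_eq
    (R := A₀) (S := D.obj i) (A := c.pt) fun a ↦ congr($ht a)
  exact ⟨i, (D.obj i) ⊗[A₀] B₀, inferInstance, inferInstance, inferInstance,
    ⟨e.trans (Algebra.TensorProduct.cancelBaseChange A₀ (D.obj i) c.pt c.pt B₀).symm⟩⟩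


end Groth.Agent.S4600
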