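import Groth.Statements.S4601
import Mathlib.RingTheory.Flat.Basic
import Mathlib.LinearAlgebra.FreeModule.Basic
import Mathlib.LinearAlgebra.Basis.VectorSpace
import Mathlib.RingTheory.Flat.Stability
import Mathlib.RingTheory.Flat.Localization
import Mathlib.RingTheory.TensorProduct.Maps
import Mathlib.LinearAlgebra.TensorProduct.RightExactness
import Mathlib.RingTheory.Nilpotent.Lemmas

set_option autoImplicit false
universe u
open TensorProduct
open CAlg

namespace Groth.Agent.S4601

open scoped TensorProduct

/-- Let A be a domain with fraction field K, B a Noetherian A-algebra which is flat over A, K' an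
extension field of K, B₁ = B_red and R its total ring of fractions. For every sub-A-algebra A' of
K', the map (A' ⊗_A B)_red → (K' ⊗_A R)_red is injective, i.e. an element of A' ⊗_A B with nilpotent
image in K' ⊗_A R is nilpotent. -/
theorem result {A B K' R : Type u} [CommRing A]
    [IsDomain A] [CommRing B] [Algebra A B] [IsNoetherianRing B] [Module.Flat A B]
    [Field K'] [Algebra A K'] [Algebra (FractionRing A) K'] [IsScalarTower A (FractionRing A) K']
    [CommRing R] [Algebra (B ⧸ nilradical B) R] [IsFractionRing (B ⧸ nilradical B) R]
    [Algebra B R] [IsScalarTower B (B ⧸ nilradical B) R] [Algebra A R] [IsScalarTower A B R]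
    (A' : Subalgebra A K') (x : ↥A' ⊗[A] B)
    (hx : IsNilpotent (Algebra.TensorProduct.map A'.val (IsScalarTower.toAlgHom A B R) x)) :
    IsNilpotent x := by
  haveI : Module.Flat A (FractionRing A) := IsLocalization.flat (FractionRing A) (nonZeroDivisors A)
  haveI : Module.Flat (FractionRing A) K' := Module.Flat.of_free
  haveI : Module.Flat A K' := Module.Flat.trans A (FractionRing A) K'
  let π : B →ₐ[A] B ⧸ nilradical B := Ideal.Quotient.mkₐ A (nilradical B)
  let ι : (B ⧸ nilradical B) →ₐ[A] R :=
    { algebraMap (B ⧸ nilradical B) R with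
      commutes' := fun a => by
        show algebraMap (B ⧸ nilradical B) R (algebraMap A (B ⧸ nilradical B) a) = algebraMap A R a
        rw [IsScalarTower.algebraMap_apply A B R, IsScalarTower.algebraMap_apply B (B ⧸ nilradical B) R]
        rfl }
  have hfac : Algebra.TensorProduct.map A'.val (IsScalarTower.toAlgHom A B R) =
      ((Algebra.TensorProduct.map (AlgHom.id A K') ι).comp
        (Algebra.TensorProduct.map (AlgHom.id A K') π)).comp
        (Algebra.TensorProduct.map A'.val (AlgHom.id A B)) := by
    refine Algebra.TensorProduct.ext' fun a b => ?_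
    simp only [AlgHom.comp_apply, Algebra.TensorProduct.map_tmul, AlgHom.id_apply]
    congr 1
    exact IsScalarTower.algebraMap_apply B (B ⧸ nilradical B) R b
  have hι : Function.Injective (Algebra.TensorProduct.map (AlgHom.id A K') ι) :=
    Module.Flat.lTensor_preserves_injective_linearMap (M := K') ι.toLinearMap
      (IsFractionRing.injective (B ⧸ nilradical B) R)
  have hv : Function.Injective (Algebra.TensorProduct.map A'.val (AlgHom.id A B)) :=
    Module.Flat.rTensor_preserves_injective_linearMap (M := B) A'.val.toLinearMap Subtype.coe_injective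
  rw [hfac, AlgHom.comp_apply, AlgHom.comp_apply, IsNilpotent.map_iff hι] at hx
  obtain ⟨n, hn⟩ := hx
  rw [← map_pow] at hn
  have hker : RingHom.ker (Algebra.TensorProduct.map (AlgHom.id A K') π) ≤ nilradical (K' ⊗[A] B) := by
    rw [Algebra.TensorProduct.lTensor_ker π (Ideal.Quotient.mkₐ_surjective A _), Ideal.map_le_iff_le_comap]
    intro b hb
    have : b ∈ nilradical B := Ideal.Quotient.eq_zero_iff_mem.mp hb
    exact mem_nilradical.mpr ((mem_nilradical.mp this).map _)
  have h2 : IsNilpotent (Algebra.TensorProduct.map A'.val (AlgHom.id A B) x) :=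
    (mem_nilradical.mp (hker hn)).of_pow
  exact (IsNilpotent.map_iff hv).mp h2

end Groth.Agent.S4601
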