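import Groth.Statements.S4602
import Mathlib
import Groth.Prelude.Def_CAlgX
import Groth.Agent.H05EGA4.GRing
import Groth.Agent.H05EGA4.GeomFibre
import Groth.Agent.H24Adic.CompletionMap

set_option autoImplicit false
set_option linter.style.haveILetI false
set_option maxHeartbeats 800000
set_option synthInstance.maxHeartbeats 100000
universe u
open IsLocalRing
open EGA41

open IsLocalRing TensorProduct Groth.Agent CAlgX Groth.Agent.H05EGA4

namespace Groth.Agent.S4602

/-- Let A be a regular local ring with fraction field of characteristic zero, B a domain containing A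
and module-finite over it, with fraction field L, n a prime of B, C = B_n, q a prime of the
completion Ĉ with q ∩ C = 0. Then Ĉ_q is formally smooth over L for the adic topology of its maximal
ideal. (Case (ii) of the published statement, in characteristic p with a suitable filtered family of
subrings, is not stated.) -/
theorem result
    {A B : Type u} [CommRing A] [IsRegularLocalRing A] [CharZero A] [CommRing B] [IsDomain B] [Algebra A B]
    [Module.Finite A B] (hinj : Function.Injective (algebraMap A B)) (n : Ideal B) [n.IsPrime]
    (q : Ideal (AdicCompletion (maximalIdeal (Localization.AtPrime n)) (Localization.AtPrime n))) [q.IsPrime]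
    (hq : q.comap (algebraMap (Localization.AtPrime n)
      (AdicCompletion (maximalIdeal (Localization.AtPrime n)) (Localization.AtPrime n))) = ⊥)
    [Algebra B (Localization.AtPrime q)]
    [IsScalarTower B (AdicCompletion (maximalIdeal (Localization.AtPrime n)) (Localization.AtPrime n))
      (Localization.AtPrime q)]
    [Algebra (FractionRing B) (Localization.AtPrime q)] [IsScalarTower B (FractionRing B) (Localization.AtPrime q)] :
    CAlgX.IsAdicFormallySmooth (FractionRing B) (Localization.AtPrime q) (maximalIdeal (Localization.AtPrime q)) := by
  classical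
  have : IsNoetherianRing B := IsNoetherianRing.of_finite A B
  let S := Localization.AtPrime n
  have : IsNoetherianRing S := IsLocalization.isNoetherianRing n.primeCompl _ inferInstance
  let C := AdicCompletion (maximalIdeal S) S
  have : IsNoetherianRing C := isNoetherianRing_adicCompletion S (maximalIdeal S)
  have : IsAdicComplete (maximalIdeal C) C := by
    rw [AdicCompletion.maximalIdeal_eq_map]
    exact AdicCompletion.isAdicComplete_self _ (IsNoetherian.noetherian _)
  have : Module.Flat S C := AdicCompletion.flat_of_isNoetherian _
  have : IsLocalHom (algebraMap S C) := by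
    refine ((local_hom_TFAE _).out 0 2).mpr ?_
    rw [← AdicCompletion.maximalIdeal_eq_map]
  have : Module.FaithfullyFlat S C := Module.FaithfullyFlat.of_flat_of_isLocalHom
  have hmax : n.map (algebraMap B C) = maximalIdeal C := by
    rw [IsScalarTower.algebraMap_eq B S C, ← Ideal.map_map, Localization.AtPrime.map_eq_maximalIdeal,
      ← AdicCompletion.maximalIdeal_eq_map]
  have hres : ∀ c : C, ∃ a t : B, t ∉ n ∧ c * algebraMap B C t - algebraMap B C a ∈ maximalIdeal C := by
    intro c
    obtain ⟨e, he⟩ := H24Adic.exists_sub_of_mem (IsNoetherian.noetherian (maximalIdeal S)) 1 c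
    obtain ⟨⟨r, s, hs⟩, hrs⟩ := IsLocalization.surj n.primeCompl e
    refine ⟨r, s, hs, ?_⟩
    rw [IsScalarTower.algebraMap_apply B S C r, IsScalarTower.algebraMap_apply B S C s, ← hrs, map_mul, ← sub_mul]
    refine Ideal.mul_mem_right _ _ ?_
    rw [AdicCompletion.maximalIdeal_eq_map]
    simpa using he
  have hJ : ∀ (J : Ideal B) (a : B), algebraMap B C a ∈ J.map (algebraMap B C) → ∃ t ∉ n, t * a ∈ J := by
    intro J a ha
    have hr : algebraMap B S a ∈ J.map (algebraMap B S) := by
      rw [← Ideal.comap_map_eq_self_of_faithfullyFlat (B := C) (J.map (algebraMap B S)), Ideal.mem_comap,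
        Ideal.map_map, ← IsScalarTower.algebraMap_eq, ← IsScalarTower.algebraMap_apply]
      exact ha
    obtain ⟨t, ht, htr⟩ := (IsLocalization.algebraMap_mem_map_algebraMap_iff n.primeCompl S J a).mp hr
    exact ⟨t, ht, htr⟩
  -- the fields
  have : IsDomain A := Function.Injective.isDomain (algebraMap A B) hinj
  let K := FractionRing A
  let L := FractionRing B
  have : FaithfulSMul A B := (faithfulSMul_iff_algebraMap_injective _ _).mpr hinj
  have hAL : Function.Injective (algebraMap A L) := by
    rw [IsScalarTower.algebraMap_eq A B L]
    exact (IsFractionRing.injective B L).comp hinj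
  have : FaithfulSMul A L := (faithfulSMul_iff_algebraMap_injective _ _).mpr hAL
  letI : Algebra K L := FractionRing.liftAlgebra _ _
  have : Algebra.IsIntegral A B := Algebra.IsIntegral.of_finite _ _
  have : FiniteDimensional K L := by
    have : Algebra.IsAlgebraic A B := inferInstance
    have hloc : IsLocalization (Algebra.algebraMapSubmonoid B (nonZeroDivisors A)) L := inferInstance
    exact Module.Finite.of_isLocalizedModule (nonZeroDivisors A) (IsScalarTower.toAlgHom A B L).toLinearMap
  have : CharZero K := charZero_of_injective_ringHom (IsFractionRing.injective A K)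
  have : CharZero L := charZero_of_injective_algebraMap (algebraMap K L).injective
  have : Algebra.IsSeparable K L := Algebra.IsSeparable.of_integral K L
  let m := n.comap (algebraMap A B)
  let S₀ := Localization.AtPrime m
  let C₀ := AdicCompletion (maximalIdeal S₀) S₀
  have hRA : IsRegularRing A := isRegularRing_of_isRegularLocalRing A
  have : IsRegularLocalRing S₀ := isRegularRing_iff.mp hRA m
  have : IsRegularRing S₀ := isRegularRing_of_isRegularLocalRing _
  have : IsRegularRing C₀ := isRegularRing_adicCompletion _ (maximalIdeal S₀)
  have : IsRegularRing (K ⊗[A] C₀) := by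
    letI : Algebra C₀ (K ⊗[A] C₀) := Algebra.TensorProduct.rightAlgebra
    have : IsLocalization (Algebra.algebraMapSubmonoid C₀ (nonZeroDivisors A)) (K ⊗[A] C₀) :=
      IsLocalization.tensorRight K (nonZeroDivisors A)
    exact H02CA.isRegularRing_of_isLocalization (Algebra.algebraMapSubmonoid C₀ (nonZeroDivisors A))
  have : IsRegularRing (L ⊗[A] C₀) :=
    (isRegularRing_cancel_iff A K L C₀).mp (isRegularRing_tensor_of_separable K L (K ⊗[A] C₀))
  have hG : IsRegularRing (L ⊗[B] C) := isRegularRing_tensor_transfer m n C rfl hmax hres hJ L
  -- the localisation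
  let X := L ⊗[B] C
  letI : Algebra C X := Algebra.TensorProduct.rightAlgebra
  let M := Algebra.algebraMapSubmonoid C (nonZeroDivisors B)
  have : IsLocalization M X := IsLocalization.tensorRight L (nonZeroDivisors B)
  have hle : M ≤ q.primeCompl := by
    rintro _ ⟨b, hb, rfl⟩ hbq
    refine nonZeroDivisors.ne_zero hb ?_
    have h1 : algebraMap B S b ∈ q.comap (algebraMap S C) := by
      rw [Ideal.mem_comap, ← IsScalarTower.algebraMap_apply]; exact hbq
    rw [hq, Ideal.mem_bot] at h1
    exact (IsLocalization.injective S n.primeCompl_le_nonZeroDivisors) (h1.trans (map_zero _).symm)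
  let Bq := Localization.AtPrime q
  letI : Algebra X Bq := IsLocalization.localizationAlgebraOfSubmonoidLe _ _ M q.primeCompl hle
  have : IsScalarTower C X Bq := IsLocalization.localization_isScalarTower_of_submonoid_le _ _ M q.primeCompl hle
  have : IsLocalization (q.primeCompl.map (algebraMap C X)) Bq :=
    IsLocalization.isLocalization_of_submonoid_le _ _ M q.primeCompl hle
  have hBq : IsRegularRing Bq := H02CA.isRegularRing_of_isLocalization (q.primeCompl.map (algebraMap C X))
  have : IsNoetherianRing Bq := IsLocalization.isNoetherianRing q.primeCompl _ inferInstance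
  refine isAdicFormallySmooth_of_isGeometricallyRegular fun k' _ _ hfin => ?_
  have : Algebra.IsSeparable (FractionRing B) k' := Algebra.IsSeparable.of_integral (FractionRing B) k'
  exact isRegularRing_tensor_of_separable (FractionRing B) k' Bq


end Groth.Agent.S4602
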