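import Groth.Statements.S4603
import Groth.Agent.H05EGA4.Topo

set_option autoImplicit false
set_option backward.isDefEq.respectTransparency.types false
universe u
open AlgebraicGeometry CategoryTheory
open EGA41

open Groth.Agent.H05EGA4 Topology TopologicalSpace

namespace Groth.Agent.S4603

/-- Let f : X → Y be quasi-compact. The following are equivalent: f is dominant; the fibre of f over
every maximal point of Y (a point with no proper generization, i.e. the generic point of an
irreducible component) is nonempty; every maximal point of Y is the image of a maximal point of X. -/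
theorem result {X Y : Scheme.{u}} (f : X ⟶ Y) [QuasiCompact f] :
    [IsDominant f,
     ∀ y : Y, (∀ y' : Y, y' ⤳ y → y' = y) → y ∈ Set.range f.base,
     ∀ y : Y, (∀ y' : Y, y' ⤳ y → y' = y) → ∃ x : X, (∀ x' : X, x' ⤳ x → x' = x) ∧ f.base x = y].TFAE := by
  have gen : ∀ {Z : Scheme.{u}} (z : Z), ∃ z₀ : Z, z₀ ⤳ z ∧ ∀ z' : Z, z' ⤳ z₀ → z' = z₀ := by
    intro Z z
    have hC : irreducibleComponent z ∈ irreducibleComponents Z := irreducibleComponent_mem_irreducibleComponents z
    have hg := hC.1.isGenericPoint_genericPoint isClosed_irreducibleComponent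
    refine ⟨_, hg.specializes mem_irreducibleComponent, fun z' h => ?_⟩
    have : irreducibleComponent z ⊆ closure {z'} := hg.def ▸ h.closure_subset
    have this' := hC.2 isIrreducible_singleton.closure this
    exact (show IsGenericPoint z' (irreducibleComponent z) from Set.Subset.antisymm this' this).eq hg
  tfae_have 1 → 3 := by
    intro h y hy
    obtain ⟨x, hx⟩ := exists_specializes_of_mem_closure_range f (y := y) (by
      rw [h.1.closure_range]; trivial)
    obtain ⟨x', hx', hmax⟩ := gen x
    exact ⟨x', hmax, hy _ ((hx'.map f.continuous).trans hx)⟩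
  tfae_have 3 → 2 := fun h y hy => by
    obtain ⟨x, -, e⟩ := h y hy; exact ⟨x, e⟩
  tfae_have 2 → 1 := by
    intro h
    refine ⟨fun y => ?_⟩
    obtain ⟨y', hy', hmax⟩ := gen y
    exact hy'.mem_closed isClosed_closure (subset_closure (h y' hmax))
  tfae_finish


end Groth.Agent.S4603
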