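import Groth.Statements.S4605
import Mathlib

set_option autoImplicit false
universe u
open IsLocalRing
open EGA41

namespace Groth.Agent.S4605

theorem isMaximal_of_finite_quotient {A B : Type u} [CommRing A] [IsLocalRing A] [CommRing B] [Algebra A B]
    (P : Ideal B) [P.IsPrime] (hfin : Module.Finite A (B ⧸ P)) (h : (maximalIdeal A).map (algebraMap A B) ≤ P) :
    P.IsMaximal := by
  have := hfin
  have hle : maximalIdeal A ≤ Ideal.comap (algebraMap A (B ⧸ P)) ⊥ := fun a ha => by
    rw [Ideal.mem_comap, Ideal.mem_bot, IsScalarTower.algebraMap_apply A B (B ⧸ P), Ideal.Quotient.algebraMap_eq,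
      Ideal.Quotient.eq_zero_iff_mem]
    exact h (Ideal.mem_map_of_mem _ ha)
  have hc : (Ideal.comap (algebraMap A (B ⧸ P)) ⊥).IsMaximal :=
    (maximalIdeal.isMaximal A).eq_of_le (Ideal.IsPrime.ne_top inferInstance) hle ▸ maximalIdeal.isMaximal A
  have : (⊥ : Ideal (B ⧸ P)).IsMaximal := Ideal.isMaximal_of_isIntegral_of_isMaximal_comap (R := A) ⊥ hc
  have h' := Ideal.comap_isMaximal_of_surjective (Ideal.Quotient.mk P) Ideal.Quotient.mk_surjective
    (K := (⊥ : Ideal (B ⧸ P)))
  rwa [← RingHom.ker_eq_comap_bot, Ideal.mk_ker] at h'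

/-- Let A be a local ring with maximal ideal m of square zero and residue field K of characteristic p >
0, F_i(T_i) = T_i^p + p Σ_{k=1}^{p-1} c_{ik} T_i^{p-k} − f_i (i in a finite index set) with c_{ik},
f_i ∈ A, and suppose the residues of the f_i in K are p-independent over K^p. Then A' = A[T_i]/(F_i)
is local with maximal ideal m A'. (The identification of the residue field with K(a_i^{1/p}) is not
restated.) -/
theorem result {A : Type u} [CommRing A]
    [IsLocalRing A] (hm : maximalIdeal A ^ 2 = ⊥) (p : ℕ) [Fact p.Prime] [CharP (ResidueField A) p]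
    {ι : Type u} [Finite ι] (c : ι → Fin p → A) (f : ι → A)
    (hind : LinearIndependent (↥(frobenius (ResidueField A) p).fieldRange)
      (fun e : {e : ι →₀ ℕ // ∀ i, e i < p} => EGA41.pMonomial (fun i => residue A (f i)) e.1)) :
    let F : ι → MvPolynomial ι A := fun i =>
      MvPolynomial.X i ^ p + (p : MvPolynomial ι A) * (Finset.univ.sum fun j : Fin p =>
        if (j : ℕ) = 0 then 0 else MvPolynomial.C (c i j) * MvPolynomial.X i ^ (p - (j : ℕ))) - MvPolynomial.C (f i)
    ∃ _ : IsLocalRing (MvPolynomial ι A ⧸ Ideal.span (Set.range F)),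
      maximalIdeal (MvPolynomial ι A ⧸ Ideal.span (Set.range F)) =
        (maximalIdeal A).map (algebraMap A (MvPolynomial ι A ⧸ Ideal.span (Set.range F))) := by
  intro F
  classical
  let A' := MvPolynomial ι A ⧸ Ideal.span (Set.range F)
  let K := ResidueField A
  let gen : ι → A' := fun i => Ideal.Quotient.mk _ (MvPolynomial.X i)
  let mA : Ideal A' := (maximalIdeal A).map (algebraMap A A')
  have hp : (p : A) ∈ maximalIdeal A := by
    rw [← residue_eq_zero_iff, map_natCast, CharP.cast_eq_zero]
  have hpA : (p : A') ∈ mA := by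
    rw [← map_natCast (algebraMap A A') p]; exact Ideal.mem_map_of_mem _ hp
  have hgen : ∀ i, gen i ^ p - algebraMap A A' (f i) ∈ mA := fun i => by
    have h0 : Ideal.Quotient.mk (Ideal.span (Set.range F)) (F i) = 0 :=
      Ideal.Quotient.eq_zero_iff_mem.2 (Ideal.subset_span ⟨i, rfl⟩)
    simp only [F, map_sub, map_add, map_pow, map_mul, map_natCast] at h0
    show gen i ^ p - algebraMap A A' (f i) ∈ mA
    rw [show algebraMap A A' (f i) = Ideal.Quotient.mk (Ideal.span (Set.range F)) (MvPolynomial.C (f i)) from rfl]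
    rw [sub_eq_zero.1 h0 |>.symm, sub_add_cancel_left]
    exact neg_mem (Ideal.mul_mem_right _ _ hpA)
  -- spanning modulo `mA`
  let red : {e : ι →₀ ℕ // ∀ i, e i < p} → A' := fun e => EGA41.pMonomial gen e.1
  let S : Submodule A A' := Submodule.span A (Set.range red) ⊔ mA.restrictScalars A
  have hmul : ∀ i, ∀ y ∈ S, gen i * y ∈ S := by
    intro i y hy
    obtain ⟨a, ha, b, hb, rfl⟩ := Submodule.mem_sup.1 hy
    rw [mul_add]
    refine add_mem ?_ (Submodule.mem_sup_right (Ideal.mul_mem_left _ _ hb))
    clear hy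
    induction ha using Submodule.span_induction with
    | mem z hz =>
      obtain ⟨e, rfl⟩ := hz
      have hsplit : red e = gen i ^ e.1 i * EGA41.pMonomial gen (e.1.erase i) :=
        (Finsupp.mul_prod_erase' e.1 i (fun j n => gen j ^ n) fun j => pow_zero _).symm
      have hmono : ∀ (g : ι →₀ ℕ) (n : ℕ), g i = 0 → EGA41.pMonomial gen (g + Finsupp.single i n) =
          gen i ^ n * EGA41.pMonomial gen g := fun g n _ => by
        simp only [EGA41.pMonomial]
        rw [Finsupp.prod_add_index' (fun j => pow_zero _) fun j a b => pow_add _ a b, mul_comm]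
        congr 1
        exact Finsupp.prod_single_index (pow_zero _)
      have herase : (e.1.erase i) i = 0 := Finsupp.erase_same
      rw [hsplit, ← mul_assoc, ← pow_succ']
      by_cases hlt : e.1 i + 1 < p
      · refine Submodule.mem_sup_left (Submodule.subset_span ⟨⟨e.1.erase i + Finsupp.single i (e.1 i + 1), fun j => ?_⟩, ?_⟩)
        · by_cases hj : j = i
          · subst hj; simp [hlt]
          · simp [hj, Finsupp.erase_ne hj, e.2 j]
        · exact hmono _ _ herase
      · have heq : e.1 i + 1 = p := by have := e.2 i; omega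
        rw [heq, ← sub_add_cancel (gen i ^ p) (algebraMap A A' (f i)), add_mul]
        refine add_mem (Submodule.mem_sup_right (Ideal.mul_mem_right _ _ (hgen i))) ?_
        rw [← Algebra.smul_def]
        refine Submodule.smul_mem _ _ (Submodule.mem_sup_left (Submodule.subset_span ⟨⟨e.1.erase i, fun j => ?_⟩, rfl⟩))
        by_cases hj : j = i
        · subst hj; rw [herase]; exact (Fact.out : p.Prime).pos
        · rw [Finsupp.erase_ne hj]; exact e.2 j
    | zero => rw [mul_zero]; exact zero_mem _
    | add a b _ _ ha hb => rw [mul_add]; exact add_mem ha hb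
    | smul r a _ ha => rw [mul_smul_comm]; exact Submodule.smul_mem _ r ha
  have htop : ∀ x : A', x ∈ S := by
    intro x
    obtain ⟨P, rfl⟩ := Ideal.Quotient.mk_surjective x
    induction P using MvPolynomial.induction_on with
    | C a =>
      have h1 : red ⟨0, fun _ => (Fact.out : p.Prime).pos⟩ = 1 := by simp [red, EGA41.pMonomial]
      have h2 := Submodule.smul_mem S a (Submodule.mem_sup_left (Submodule.subset_span ⟨_, rfl⟩) :
        red ⟨0, fun _ => (Fact.out : p.Prime).pos⟩ ∈ S)
      rw [h1, ← Algebra.algebraMap_eq_smul_one] at h2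
      exact h2
    | add a b ha hb => rw [map_add]; exact add_mem ha hb
    | mul_X a i ha => rw [map_mul, mul_comm]; exact hmul i _ ha
  -- the map to the residue field
  let φ0 : MvPolynomial ι A →+* K := MvPolynomial.eval₂Hom ((frobenius K p).comp (residue A)) fun i => residue A (f i)
  have hφ0 : ∀ x ∈ Ideal.span (Set.range F), φ0 x = 0 := by
    have hle : Ideal.span (Set.range F) ≤ RingHom.ker φ0 := Ideal.span_le.2 (by
      rintro _ ⟨i, rfl⟩
      show φ0 (F i) = 0
      simp only [F, map_sub, map_add, map_pow, map_mul, map_natCast, CharP.cast_eq_zero, zero_mul, add_zero]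
      rw [show φ0 (MvPolynomial.X i) = residue A (f i) from MvPolynomial.eval₂_X _ _ i,
        show φ0 (MvPolynomial.C (f i)) = frobenius K p (residue A (f i)) from MvPolynomial.eval₂_C _ _ _,
        frobenius_def, sub_self])
    exact fun x hx => hle hx
  let φ : A' →+* K := Ideal.Quotient.lift _ φ0 hφ0
  have hφC : ∀ a, φ (algebraMap A A' a) = residue A a ^ p := fun a => MvPolynomial.eval₂_C _ _ a
  have hφred : ∀ e, φ (red e) = EGA41.pMonomial (fun i => residue A (f i)) e.1 := fun e => by
    simp only [red, EGA41.pMonomial]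
    rw [map_finsuppProd]
    refine Finsupp.prod_congr fun j _ => ?_
    rw [map_pow]
    exact congrArg (· ^ _) (MvPolynomial.eval₂_X _ _ j)
  have hmk : mA ≤ RingHom.ker φ := Ideal.map_le_iff_le_comap.2 fun a ha => by
    show φ (algebraMap A A' a) = 0
    rw [hφC, (residue_eq_zero_iff a).2 ha, zero_pow (Fact.out : p.Prime).ne_zero]
  have hker : RingHom.ker φ ≤ mA := by
    intro x hx
    obtain ⟨s, hs, t, ht, rfl⟩ := Submodule.mem_sup.1 (htop x)
    obtain ⟨l, rfl⟩ := Finsupp.mem_span_range_iff_exists_finsupp.1 hs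
    refine add_mem ?_ ht
    rw [RingHom.mem_ker, map_add, RingHom.mem_ker.1 (hmk ht), add_zero, map_finsuppSum] at hx
    have hterm : ∀ e, φ (l e • red e) = residue A (l e) ^ p * EGA41.pMonomial (fun i => residue A (f i)) e.1 := fun e => by
      refine (congrArg φ (Algebra.smul_def (l e) (red e))).trans ?_
      rw [map_mul, hφC, hφred]
    rw [Finsupp.sum, Finset.sum_congr rfl fun e _ => hterm e] at hx
    have h1 := linearIndependent_iff'.1 hind l.support
      (fun e => (frobenius K p).rangeRestrictField (residue A (l e))) hx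
    refine Ideal.sum_mem _ fun e he => ?_
    show l e • red e ∈ mA
    have h2 := congrArg Subtype.val (h1 e he)
    have h3 : residue A (l e) ^ p = 0 := h2
    refine (Algebra.smul_def (l e) (red e)).symm ▸ ?_
    exact Ideal.mul_mem_right _ _ (Ideal.mem_map_of_mem _ ((residue_eq_zero_iff _).1 (eq_zero_of_pow_eq_zero h3)))
  haveI : Nontrivial A' := φ.domain_nontrivial
  have hfinA : Module.Finite A (A' ⧸ mA) := by
    haveI : Finite {e : ι →₀ ℕ // ∀ i, e i < p} := by
      refine Finite.of_injective (fun e i => (⟨e.1 i, e.2 i⟩ : Fin p)) fun a b h => Subtype.ext (Finsupp.ext fun i => ?_)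
      exact congrArg Fin.val (congrFun h i)
    refine ⟨Submodule.fg_def.2 ⟨Set.range fun e => Ideal.Quotient.mk mA (red e), Set.finite_range _, eq_top_iff.2 fun y _ => ?_⟩⟩
    obtain ⟨x, rfl⟩ := Ideal.Quotient.mk_surjective y
    obtain ⟨s, hs, t, ht, rfl⟩ := Submodule.mem_sup.1 (htop x)
    rw [map_add, Ideal.Quotient.eq_zero_iff_mem.2 ht, add_zero]
    have := Submodule.apply_mem_span_image_of_mem_span (Ideal.Quotient.mkₐ A mA).toLinearMap hs
    rwa [← Set.range_comp] at this
  haveI : mA.IsPrime := by
    rw [le_antisymm hmk hker]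
    exact RingHom.ker_isPrime φ
  haveI hmax : mA.IsMaximal := isMaximal_of_finite_quotient mA hfinA le_rfl
  have hnil : IsNilpotent mA := ⟨2, by rw [← Ideal.map_pow, hm, Ideal.map_bot]; rfl⟩
  haveI hloc : IsLocalRing A' := IsLocalRing.of_unique_max_ideal ⟨mA, hmax, fun M hM => (hmax.eq_of_le hM.ne_top (by
    obtain ⟨k, hk⟩ := hnil
    exact hM.isPrime.le_of_pow_le (hk.le.trans bot_le))).symm⟩
  exact ⟨hloc, (IsLocalRing.eq_maximalIdeal hmax).symm⟩

end Groth.Agent.S4605
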