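import Groth.Statements.S4606
import Groth.Agent.S2463
import Groth.Agent.H05EGA4.SmoothLocus

set_option autoImplicit false
universe u
open TensorProduct KaehlerDifferential IsLocalRing
open EGA41

namespace Groth.Agent.S4606

/-- Let B be a Noetherian A-algebra formally smooth for the discrete topologies, B → C a surjection with
kernel J, p a prime of C and q its contraction to A. Then C_p is formally smooth over A_q (A_q
discrete, C_p with the adic topology of its maximal ideal) if and only if κ(p) ⊗ J/J² → κ(p) ⊗ (C
⊗_B Ω_{B/A}) is injective. (The equivalent variant with the q-adic topology on A_q is not stated.) -/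
theorem result {A B C : Type u} [CommRing A]
    [CommRing B] [CommRing C] [Algebra A B] [Algebra B C] [Algebra A C] [IsScalarTower A B C] [IsNoetherianRing B]
    [Algebra.FormallySmooth A B] (hsurj : Function.Surjective (algebraMap B C)) (p : Ideal C) [p.IsPrime]
    [Algebra (Localization.AtPrime (p.comap (algebraMap A C))) (Localization.AtPrime p)]
    [IsScalarTower A (Localization.AtPrime (p.comap (algebraMap A C))) (Localization.AtPrime p)] :
    CAlgX.IsAdicFormallySmooth (Localization.AtPrime (p.comap (algebraMap A C))) (Localization.AtPrime p)
        (maximalIdeal (Localization.AtPrime p)) ↔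
      Function.Injective ((kerCotangentToTensor A B C).lTensor p.ResidueField) := by
  let q := p.comap (algebraMap A C)
  let Aq := Localization.AtPrime q
  let Cp := Localization.AtPrime p
  haveI : Module.Finite B (RingHom.ker (algebraMap B C)) := Module.Finite.of_fg (IsNoetherian.noetherian _)
  haveI : Module.Finite B (RingHom.ker (algebraMap B C)).Cotangent :=
    Module.Finite.of_surjective _ (Ideal.toCotangent_surjective _)
  have hsm := S2463.result (A := A) (B := B) hsurj p
  have h01 := hsm.out 0 1
  constructor
  · intro h
    refine h01.1 ?_
    obtain ⟨g, hg, hgs⟩ := H05EGA4.exists_formallySmooth_away (k₀ := A) (P := B) hsurj p (by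
      intro R _ _ J hJ ψ hψ
      have hunit : ∀ s : q.primeCompl, IsUnit (algebraMap A R s) := fun s => by
        refine H05EGA4.isUnit_of_isUnit_mk_sq hJ ?_
        rw [show Ideal.Quotient.mk J (algebraMap A R s) = ψ (algebraMap A Cp s) from (ψ.commutes _).symm,
          IsScalarTower.algebraMap_apply A Aq Cp]
        exact ((IsLocalization.map_units Aq s).map (algebraMap Aq Cp)).map ψ
      letI : Algebra Aq R := (IsLocalization.lift hunit).toAlgebra
      haveI : IsScalarTower A Aq R := IsScalarTower.of_algebraMap_eq fun a => (IsLocalization.lift_eq hunit a).symm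
      let ψ' : Cp →ₐ[Aq] R ⧸ J :=
        { ψ.toRingHom with
          commutes' := fun r => RingHom.congr_fun (IsLocalization.ringHom_ext q.primeCompl
            (j := ψ.toRingHom.comp (algebraMap Aq Cp)) (k := algebraMap Aq (R ⧸ J)) (RingHom.ext fun a => by
              show ψ (algebraMap Aq Cp (algebraMap A Aq a)) = algebraMap Aq (R ⧸ J) (algebraMap A Aq a)
              rw [← IsScalarTower.algebraMap_apply, ← IsScalarTower.algebraMap_apply, ψ.commutes])) r }
      obtain ⟨χ, hχ⟩ := h R J hJ ψ' hψ
      exact ⟨χ.restrictScalars A, AlgHom.ext fun x => AlgHom.congr_fun hχ x⟩)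
    exact H05EGA4.formallySmooth_atPrime_of_away p g hg
  · intro h
    haveI : Algebra.FormallySmooth A Cp := h01.2 h
    haveI : Algebra.FormallySmooth Aq Cp := Algebra.FormallySmooth.localization_base q.primeCompl
    intro R _ _ J hJ ψ _
    exact Algebra.FormallySmooth.comp_surjective Aq Cp J hJ ψ

end Groth.Agent.S4606
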