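import Groth.Statements.S4608
import Mathlib.AlgebraicGeometry.Morphisms.QuasiSeparated
import Groth.Agent.H05EGA4.Coprod

set_option autoImplicit false
set_option backward.isDefEq.respectTransparency.types false
universe u
open AlgebraicGeometry CategoryTheory CategoryTheory.Limits
open EGA41

namespace Groth.Agent.S4608

/-- A morphism from a disjoint union X' ⨿ X'' → Y is quasi-compact if and only if its two components
are. -/
theorem result {X' X'' Y : Scheme.{u}} (f' : X' ⟶ Y) (f'' : X'' ⟶ Y) :
    QuasiCompact (coprod.desc f' f'') ↔ QuasiCompact f' ∧ QuasiCompact f'' := by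
  refine ⟨fun h => ⟨⟨fun U hU hc => ?_⟩, ⟨fun U hU hc => ?_⟩⟩, fun ⟨h1, h2⟩ => ⟨fun U hU hc => ?_⟩⟩
  · have := (Groth.Agent.H05EGA4.cl_inl X' X'').isCompact_preimage (QuasiCompact.isCompact_preimage (f := coprod.desc f' f'') U hU hc)
    rwa [← Set.preimage_comp, ← TopCat.coe_comp, ← Scheme.Hom.comp_base, coprod.inl_desc] at this
  · have := (Groth.Agent.H05EGA4.cl_inr X' X'').isCompact_preimage (QuasiCompact.isCompact_preimage (f := coprod.desc f' f'') U hU hc)
    rwa [← Set.preimage_comp, ← TopCat.coe_comp, ← Scheme.Hom.comp_base, coprod.inr_desc] at this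
  · rw [Groth.Agent.H05EGA4.pre_coprod]
    exact ((QuasiCompact.isCompact_preimage U hU hc).image (Scheme.Hom.continuous _)).union
      ((QuasiCompact.isCompact_preimage U hU hc).image (Scheme.Hom.continuous _))


end Groth.Agent.S4608
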