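import Groth.Statements.S4609
import Mathlib.AlgebraicGeometry.Morphisms.QuasiSeparated
import Groth.Agent.H05EGA4.Coprod

set_option autoImplicit false
set_option backward.isDefEq.respectTransparency.types false
universe u
open AlgebraicGeometry CategoryTheory CategoryTheory.Limits
open EGA41

namespace Groth.Agent.S4609

/-- A morphism from a disjoint union X' ⨿ X'' → Y is quasi-separated if and only if its two components
are. -/
theorem result {X' X'' Y : Scheme.{u}} (f' : X' ⟶ Y) (f'' : X'' ⟶ Y) :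
    QuasiSeparated (coprod.desc f' f'') ↔ QuasiSeparated f' ∧ QuasiSeparated f'' := by
  refine ⟨fun h => ⟨?_, ?_⟩, fun ⟨h1, h2⟩ => ?_⟩
  · rw [← coprod.inl_desc f' f'']; infer_instance
  · rw [← coprod.inr_desc f' f'']; infer_instance
  · rw [HasAffineProperty.iff_of_iSup_eq_top (P := @QuasiSeparated.{u}) _ (iSup_affineOpens_eq_top Y)]
    intro U
    refine (isQuasiSeparated_iff_quasiSeparatedSpace _ (TopologicalSpace.Opens.isOpen _)).mp ?_
    have a1 := quasiSeparatedSpace_iff_forall_affineOpens (X := X')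
    rw [Scheme.Hom.coe_preimage, Groth.Agent.H05EGA4.pre_coprod]
    intro A B hA hAo hAc hB hBo hBc
    have key : ∀ {W : Scheme.{u}} (i : W ⟶ X' ⨿ X'') (k : W ⟶ Y), Topology.IsClosedEmbedding i → QuasiSeparated k →
        A ∩ Set.range i ⊆ i '' (k ⁻¹' U.1) → B ∩ Set.range i ⊆ i '' (k ⁻¹' U.1) →
        IsCompact (A ∩ B ∩ Set.range i) := by
      intro W i k hi hk h1 h2
      have : IsQuasiSeparated ((k ⁻¹ᵁ U.1 : W.Opens) : Set W) := by
        refine (isQuasiSeparated_iff_quasiSeparatedSpace _ (TopologicalSpace.Opens.isOpen _)).mpr ?_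
        exact (HasAffineProperty.iff_of_iSup_eq_top (P := @QuasiSeparated.{u}) _ (iSup_affineOpens_eq_top Y)).1 hk U
      have := this (i ⁻¹' A) (i ⁻¹' B) ?_ (hAo.preimage i.continuous) (hi.isCompact_preimage hAc)
        ?_ (hBo.preimage i.continuous) (hi.isCompact_preimage hBc)
      · have := this.image i.continuous
        rwa [← Set.preimage_inter, Set.image_preimage_eq_inter_range] at this
      · intro x hx
        obtain ⟨y, hy, e⟩ := h1 ⟨hx, x, rfl⟩
        exact hi.injective e ▸ hy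
      · intro x hx
        obtain ⟨y, hy, e⟩ := h2 ⟨hx, x, rfl⟩
        exact hi.injective e ▸ hy
    have hd := (isCompl_range_inl_inr X' X'')
    have e : A ∩ B = (A ∩ B ∩ Set.range (coprod.inl : X' ⟶ X' ⨿ X'')) ∪ (A ∩ B ∩ Set.range (coprod.inr : X'' ⟶ X' ⨿ X'')) := by
      rw [← Set.inter_union_distrib_left, show _ ∪ _ = Set.univ from hd.sup_eq_top, Set.inter_univ]
    rw [e]
    refine (key _ f' (Groth.Agent.H05EGA4.cl_inl _ _) h1 ?_ ?_).union (key _ f'' (Groth.Agent.H05EGA4.cl_inr _ _) h2 ?_ ?_)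
    · rintro x ⟨hx, hr⟩
      exact (hA hx).resolve_right fun ⟨y, _, e⟩ => Set.disjoint_left.1 hd.disjoint hr ⟨y, e⟩
    · rintro x ⟨hx, hr⟩
      exact (hB hx).resolve_right fun ⟨y, _, e⟩ => Set.disjoint_left.1 hd.disjoint hr ⟨y, e⟩
    · rintro x ⟨hx, hr⟩
      exact (hA hx).resolve_left fun ⟨y, _, e⟩ => Set.disjoint_left.1 hd.disjoint ⟨y, e⟩ hr
    · rintro x ⟨hx, hr⟩
      exact (hB hx).resolve_left fun ⟨y, _, e⟩ => Set.disjoint_left.1 hd.disjoint ⟨y, e⟩ hr


end Groth.Agent.S4609
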