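import Groth.Statements.S4610
import Groth.Agent.H23Wild.MonicSystem
import Mathlib

set_option autoImplicit false
universe u
open EGA41

namespace Groth.Agent.S4610

/-- Let A be a nonzero ring and F_1, …, F_r monic one-variable polynomials of degrees d_1, …, d_r; then
A[T_1, …, T_r]/(F_1(T_1), …, F_r(T_r)) is a free A-module of rank ∏ d_i. (The published statement
assumes A local with maximal ideal of square zero and A' local, which this assertion does not use;
its bound [K' : K] ≤ d and part (ii) are not stated.) -/
theorem result {A : Type u} [CommRing A] [Nontrivial A]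
    {r : ℕ} (F : Fin r → Polynomial A) (hF : ∀ i, (F i).Monic) :
    Module.Free A (MvPolynomial (Fin r) A ⧸ Ideal.span (Set.range fun i => Polynomial.aeval (MvPolynomial.X i : MvPolynomial (Fin r) A) (F i))) ∧
      Module.finrank A (MvPolynomial (Fin r) A ⧸ Ideal.span (Set.range fun i => Polynomial.aeval (MvPolynomial.X i : MvPolynomial (Fin r) A) (F i))) =
        Finset.univ.prod fun i => (F i).natDegree := by
  by_cases hd : ∀ i, 1 ≤ (F i).natDegree
  · obtain ⟨h1, -, h3⟩ := H23Wild.free_finite_finrank F hF hd
    exact ⟨h1, h3⟩
  · push Not at hd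
    obtain ⟨i, hi⟩ := hd
    have h0 : (F i).natDegree = 0 := by omega
    have h1 : F i = 1 := (hF i).natDegree_eq_zero.1 h0
    have htop : Ideal.span (Set.range fun i => Polynomial.aeval (MvPolynomial.X i : MvPolynomial (Fin r) A) (F i)) = ⊤ :=
      (Ideal.eq_top_iff_one _).2 (Ideal.subset_span ⟨i, by simp [h1]⟩)
    haveI : Subsingleton (MvPolynomial (Fin r) A ⧸
        Ideal.span (Set.range fun i => Polynomial.aeval (MvPolynomial.X i : MvPolynomial (Fin r) A) (F i))) :=
      Ideal.Quotient.subsingleton_iff.2 htop
    refine ⟨Module.Free.of_subsingleton _ _, ?_⟩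
    rw [Module.finrank_zero_of_subsingleton]
    exact (Finset.prod_eq_zero (f := fun i => (F i).natDegree) (Finset.mem_univ i) h0).symm

end Groth.Agent.S4610
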