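import Groth.Statements.S4611
import Mathlib

set_option autoImplicit false
set_option maxHeartbeats 800000
universe u
open EGA41

open Cardinal TensorProduct

namespace Groth.Agent.S4611

/-- A local algebra essentially of finite type over a ring A is A-isomorphic to a quotient of a
localization A[T_1, …, T_n]_q of a polynomial algebra at a prime ideal q; stated as the existence of
a surjective A-algebra map from such a localization. -/
theorem result {A B : Type u} [CommRing A]
    [CommRing B] [IsLocalRing B] [Algebra A B] [Algebra.EssFiniteType A B] :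
    ∃ (n : ℕ) (q : Ideal (MvPolynomial (Fin n) A)) (_ : q.IsPrime)
      (φ : Localization.AtPrime q →ₐ[A] B), Function.Surjective φ := by
  obtain ⟨σ, hσ⟩ := (Algebra.essFiniteType_iff A B).mp inferInstance
  let g : Fin σ.card → B := fun i => (σ.equivFin.symm i : B)
  let f : MvPolynomial (Fin σ.card) A →ₐ[A] B := MvPolynomial.aeval g
  let q : Ideal (MvPolynomial (Fin σ.card) A) := (IsLocalRing.maximalIdeal B).comap f.toRingHom
  have hq : q.IsPrime := Ideal.IsPrime.comap _
  have hrange : Algebra.adjoin A (σ : Set B) ≤ f.range := by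
    rw [Algebra.adjoin_le_iff]
    intro b hb
    exact ⟨MvPolynomial.X (σ.equivFin ⟨b, hb⟩), by simp [f, g]⟩
  have hunit : ∀ s : q.primeCompl, IsUnit (f s) := fun s =>
    IsLocalRing.notMem_maximalIdeal.mp s.2
  refine ⟨σ.card, q, hq, IsLocalization.liftAlgHom hunit, fun b => ?_⟩
  obtain ⟨t, ht, htu, hbt⟩ := hσ b
  obtain ⟨P, rfl⟩ := hrange ht
  obtain ⟨Q, hQ⟩ := hrange hbt
  have hP : P ∈ q.primeCompl := fun h => (IsLocalRing.mem_maximalIdeal _).mp h htu
  refine ⟨IsLocalization.mk' _ Q ⟨P, hP⟩, ?_⟩
  rw [IsLocalization.liftAlgHom_apply, IsLocalization.lift_mk'_spec]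
  simp only [AlgHom.toRingHom_eq_coe, RingHom.coe_coe] at *
  rw [hQ, mul_comm]


end Groth.Agent.S4611
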