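import Groth.Statements.S4612
import Groth.Agent.H05EGA4.NagataMain
import Groth.Agent.S4533
-- import your own Groth.Agent.* helpers here

set_option autoImplicit false
set_option maxRecDepth 4000
universe u
open IsLocalRing
open EGA41

namespace Groth.Agent.S4612

/-- Nagata's Jacobian criterion for quotients of power series rings: let k be a field, A = k[[T_1, …,
T_r]], q ⊆ p ideals of A with p prime, B = A/q. Suppose A/p contains a sub-k-algebra isomorphic to a
power series algebra k[[X_1, …, X_s]] over which A/p is finite and such that the fraction field L of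
A/p is a separable extension of the fraction field L' of k[[X_1, …, X_s]]; here this is given as an
injective k-algebra map k[[X_1, …, X_s]] → A/p making A/p a finite module, with fraction fields L',
L and a compatible L'-algebra structure on L. Then the following are equivalent: B_p is formally
smooth over k for the adic topology of its maximal ideal; there are k-derivations D_1, …, D_m of A
into itself and f_1, …, f_m ∈ q generating qA_p with det(D_i f_j) ∉ p; B_p is a regular local ring.
(The published statement remarks that the hypothesis on A/p always holds when k has characteristic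
zero.) -/
theorem result {k : Type u} [Field k] (r : ℕ)
    (q p : Ideal (MvPowerSeries (Fin r) k)) [p.IsPrime] (hqp : q ≤ p) [(p.map (Ideal.Quotient.mk q)).IsPrime]
    (s : ℕ) [Algebra (MvPowerSeries (Fin s) k) (MvPowerSeries (Fin r) k ⧸ p)]
    [IsScalarTower k (MvPowerSeries (Fin s) k) (MvPowerSeries (Fin r) k ⧸ p)]
    [Module.Finite (MvPowerSeries (Fin s) k) (MvPowerSeries (Fin r) k ⧸ p)]
    (hinj : Function.Injective (algebraMap (MvPowerSeries (Fin s) k) (MvPowerSeries (Fin r) k ⧸ p)))
    {L' L : Type u} [Field L'] [Field L]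
    [Algebra (MvPowerSeries (Fin s) k) L'] [IsFractionRing (MvPowerSeries (Fin s) k) L']
    [Algebra (MvPowerSeries (Fin r) k ⧸ p) L] [IsFractionRing (MvPowerSeries (Fin r) k ⧸ p) L]
    [Algebra L' L] [Algebra (MvPowerSeries (Fin s) k) L]
    [IsScalarTower (MvPowerSeries (Fin s) k) (MvPowerSeries (Fin r) k ⧸ p) L]
    [IsScalarTower (MvPowerSeries (Fin s) k) L' L] [Algebra.IsSeparable L' L] :
    [CAlgX.IsAdicFormallySmooth k (Localization.AtPrime (p.map (Ideal.Quotient.mk q)))
        (maximalIdeal (Localization.AtPrime (p.map (Ideal.Quotient.mk q)))),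
     ∃ (m : ℕ) (D : Fin m → Derivation k (MvPowerSeries (Fin r) k) (MvPowerSeries (Fin r) k))
        (f : Fin m → MvPowerSeries (Fin r) k), (∀ i, f i ∈ q) ∧
        q.map (algebraMap (MvPowerSeries (Fin r) k) (Localization.AtPrime p)) =
          Ideal.span (Set.range fun i => algebraMap (MvPowerSeries (Fin r) k) (Localization.AtPrime p) (f i)) ∧
        Matrix.det (Matrix.of fun i j => D i (f j)) ∉ p,
     IsRegularLocalRing (Localization.AtPrime (p.map (Ideal.Quotient.mk q)))].TFAE := by
  classical
  haveI : IsAdicComplete (maximalIdeal (MvPowerSeries (Fin r) k)) (MvPowerSeries (Fin r) k) := by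
    rw [Groth.Agent.H05EGA4.maximalIdeal_mvPowerSeries, IsLocalRing.maximalIdeal_eq_bot, Ideal.map_bot, bot_sup_eq]
    infer_instance
  have hmax : maximalIdeal (MvPowerSeries (Fin r) k) =
      (⊥ : Ideal k).map (MvPowerSeries.C : k →+* MvPowerSeries (Fin r) k) ⊔
        RingHom.ker (MvPowerSeries.constantCoeff : MvPowerSeries (Fin r) k →+* k) := by
    rw [Ideal.map_bot, bot_sup_eq]
    exact (IsLocalRing.ker_eq_maximalIdeal _ fun c => ⟨MvPowerSeries.C c, by simp⟩).symm
  have hA : CAlgX.IsAdicFormallySmooth k (MvPowerSeries (Fin r) k) (maximalIdeal _) := by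
    refine (Groth.Agent.H05EGA4.isFormallySmoothAdic_iff_isAdicFormallySmooth (⊥ : Ideal k) _ ⟨1, by rw [pow_one, Ideal.map_bot]; exact bot_le⟩).mp ?_
    rw [hmax]
    exact Groth.Agent.S4533.result k ⊥ r
  haveI : IsRegularLocalRing (MvPowerSeries (Fin r) k) :=
    (Groth.Agent.H05EGA4.isRegularLocalRing_of_isAdicFormallySmooth hA).1
  have hR := Groth.Agent.S4574.result hA p
  haveI : IsRegularLocalRing (Localization.AtPrime p) :=
    (Groth.Agent.H05EGA4.isRegularLocalRing_of_isAdicFormallySmooth hR).1
  haveI : IsNoetherianRing (Localization.AtPrime (p.map (Ideal.Quotient.mk q))) :=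
    IsLocalization.isNoetherianRing (p.map (Ideal.Quotient.mk q)).primeCompl _ inferInstance
  tfae_have 1 → 3 := fun h => (Groth.Agent.H05EGA4.isRegularLocalRing_of_isAdicFormallySmooth h).1
  tfae_have 2 → 1 := fun ⟨m, D, f, hf, hgen, hdet⟩ =>
    Groth.Agent.H05EGA4.NagataJac.isAdicFormallySmooth_of_jacobian hqp hR D f hf hgen hdet
  tfae_have 3 → 2 := fun h => by
    haveI := h
    obtain ⟨m, f, hf, hgen, hind⟩ := Groth.Agent.H05EGA4.NagataJac.exists_generators (q := q) (P := p) hqp
    obtain ⟨D, hD⟩ := Groth.Agent.H05EGA4.NagataDer.exists_det_notMem (k := k) p f fun lam hlam => by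
      refine Groth.Agent.H05EGA4.NagataDetect.relation_eq_zero_separable (fun i => MvPowerSeries.pderiv k i)
        (by simpa using Groth.Agent.H05EGA4.ringKrullDim_mvPowerSeries_regular k r 0 (by simp)) p (fun v hv => ?_)
        hinj L' L f (fun i => hqp (hf i)) hind lam hlam
      funext j
      simpa [Pi.single_apply, MvPowerSeries.pderiv_X, apply_ite (algebraMap (MvPowerSeries (Fin r) k) p.ResidueField)]
        using hv (MvPowerSeries.X j)
    exact ⟨m, D, f, hf, hgen, hD⟩
  tfae_finish

end Groth.Agent.S4612
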