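import Groth.Statements.S4615
import Groth.Agent.H1CAlg.EventuallyBijective
import Groth.Agent.H05EGA4.CompleteNormalization
import Groth.Agent.H05EGA4.Regular2
import Groth.Agent.H4Conn.Completion

set_option autoImplicit false
universe u
open TensorProduct AlgebraicGeometry
open CAlg

namespace Groth.Agent.S4615

/-- Let A be a Noetherian local domain with fraction field K, Â its completion and K' a finite extension
of K; among the sub-A-algebras C of K' finite over A with fraction field K' (whose completions are C
⊗_A Â) there is C_α such that for every such C ⊇ C_α the map (C_α ⊗_A Â)_red → (C ⊗_A Â)_red is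
bijective, and Spec A' → Spec C_α is radicial, A' the integral closure of A in K'. -/
theorem result {A K' : Type u} [CommRing A] [IsDomain A]
    [IsLocalRing A] [IsNoetherianRing A] [Field K'] [Algebra A K'] [Algebra (FractionRing A) K']
    [IsScalarTower A (FractionRing A) K'] [FiniteDimensional (FractionRing A) K'] :
    let Ah := AdicCompletion (IsLocalRing.maximalIdeal A) A
    let P : Subalgebra A K' → Prop := fun C : Subalgebra A K' => Module.Finite A C ∧ ∀ x : K', ∃ a b : C, (b : K') ≠ 0 ∧ x * b = a
    ∃ Cα : Subalgebra A K', P Cα ∧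
      (∀ C : Subalgebra A K', P C → ∀ hle : Cα ≤ C,
        (∀ x : ↥Cα ⊗[A] Ah, IsNilpotent (Algebra.TensorProduct.map (Subalgebra.inclusion hle) (AlgHom.id A Ah) x) →
          IsNilpotent x) ∧
        (∀ y : ↥C ⊗[A] Ah, ∃ x : ↥Cα ⊗[A] Ah,
          IsNilpotent (Algebra.TensorProduct.map (Subalgebra.inclusion hle) (AlgHom.id A Ah) x - y))) ∧
      (∀ hint : Cα ≤ integralClosure A K',
        UniversallyInjective (Spec.map (CommRingCat.ofHom (Subalgebra.inclusion hint).toRingHom))) := by
  intro Ah
  haveI : IsNoetherianRing Ah := Groth.Agent.H05EGA4.isNoetherianRing_adicCompletion A _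
  haveI hff : Module.FaithfullyFlat A Ah := Groth.Agent.H4Conn.faithfullyFlat_completion A
  obtain ⟨Cα, h1, h2, h3⟩ := Groth.Agent.H1CAlg.eventually_bijective (A := A) (B := Ah) (K' := K')
    (fun q _ _ => (Groth.Agent.H05EGA4.isNagata_of_isAdicComplete Ah).2 q)
  exact ⟨Cα, h1, h2, h3 hff⟩

end Groth.Agent.S4615
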