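import Groth.Statements.S4616
import Groth.Agent.H05EGA4.PrimeTransfer
import Groth.Agent.H05EGA4.FieldFamily

set_option autoImplicit false
universe u
open TensorProduct KaehlerDifferential IsLocalRing
open EGA41

namespace Groth.Agent.S4616

/-- Let k be a field of characteristic p > 0, A a local k-algebra with maximal ideal m and residue field
K, (k_α) a decreasing directed family of subfields of k with ⋂ k_α(k^p) = k^p. Then A is formally
smooth over k for the m-adic topology if and only if the maps Sym^n_K(m/m²) → m^n/m^(n+1) are
bijective (n ≥ 1) and, for all large α, Ω_{k/k_α} ⊗_k K → Ω_{A/k_α} ⊗_A K is injective. -/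
theorem result {k A : Type u}
    [Field k] (p : ℕ) [Fact p.Prime] [CharP k p] [CommRing A] [IsLocalRing A] [Algebra k A]
    {ι : Type u} [Preorder ι] [IsDirected ι (fun a b => a ≤ b)] [Nonempty ι] (kα : ι → Subfield k)
    (hanti : Antitone kα) (hint : ⨅ α, (kα α ⊔ (frobenius k p).fieldRange) = (frobenius k p).fieldRange) :
    CAlgX.IsAdicFormallySmooth k A (maximalIdeal A) ↔
      (PP16.SymGrBijective A (maximalIdeal A) ∧ ∃ α₀ : ι, ∀ α : ι, α₀ ≤ α →
        Function.Injective ((mapBaseChange (kα α) k A).lTensor (ResidueField A))) := by
  constructor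
  · intro h
    obtain ⟨hs, -⟩ := Groth.Agent.H05EGA4.PrimeTransfer.iff_of_local.1 h
    obtain ⟨α₀⟩ := ‹Nonempty ι›
    exact ⟨hs, α₀, fun α _ => Groth.Agent.H05EGA4.RelSymSmooth.injective_of_extBase
      (Groth.Agent.H05EGA4.RelSymSmooth.extBase_of_isAdicFormallySmooth h)⟩
  · rintro ⟨hs, α₀, hi⟩
    refine Groth.Agent.H05EGA4.PrimeTransfer.iff_of_local.2 ⟨hs, ?_⟩
    refine (injective_iff_map_eq_zero ((mapBaseChange ℤ k A).lTensor (ResidueField A))).2 fun z hz => ?_
    let e := TensorProduct.AlgebraTensorModule.cancelBaseChange k A (ResidueField A) (ResidueField A) Ω[k⁄ℤ]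
    refine e.injective ?_
    rw [map_zero]
    refine Groth.Agent.H05EGA4.FieldFamily.eq_zero_of_forall p kα hanti hint α₀ (e z) fun α hα => ?_
    let m := KaehlerDifferential.map ℤ (kα α) k k
    let z' := (m.baseChange A).lTensor (ResidueField A) z
    have hsq : mapBaseChange (kα α) k A ∘ₗ m.baseChange A =
        (KaehlerDifferential.map ℤ (kα α) A A) ∘ₗ mapBaseChange ℤ k A := by
      refine TensorProduct.AlgebraTensorModule.ext fun a w => ?_
      have hw : w ∈ Submodule.span k (Set.range (D ℤ k)) := by rw [span_range_derivation]; trivial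
      induction hw using Submodule.span_induction generalizing a with
      | mem x hx =>
        obtain ⟨y, rfl⟩ := hx
        simp only [LinearMap.comp_apply, LinearMap.baseChange_tmul, mapBaseChange_tmul, map_D, map_smul, m]
        rfl
      | zero => simp
      | add x y _ _ hx hy => rw [tmul_add, map_add, map_add, hx, hy]
      | smul c x _ hx => rw [← smul_tmul]; exact hx _
    have hz' : z' = 0 := hi α hα (by
      rw [map_zero, ← LinearMap.lTensor_comp_apply, hsq, LinearMap.lTensor_comp_apply, hz, map_zero])
    have hnat : ∀ y, m.lTensor (ResidueField A) (e y) =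
        TensorProduct.AlgebraTensorModule.cancelBaseChange k A (ResidueField A) (ResidueField A) Ω[k⁄kα α]
          ((m.baseChange A).lTensor (ResidueField A) y) := by
      intro y
      induction y using TensorProduct.induction_on with
      | zero => simp
      | add u v hu hv => simp only [map_add, hu, hv]
      | tmul c x =>
        induction x using TensorProduct.induction_on with
        | zero => simp
        | add u v hu hv => simp only [tmul_add, map_add] at hu hv ⊢; rw [hu, hv]
        | tmul a w =>
          simp only [e, LinearMap.lTensor_tmul, LinearMap.baseChange_tmul,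
            TensorProduct.AlgebraTensorModule.cancelBaseChange_tmul]
    rw [hnat]
    show TensorProduct.AlgebraTensorModule.cancelBaseChange _ _ _ _ _ z' = 0
    rw [hz', map_zero]

end Groth.Agent.S4616
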