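import Groth.Statements.S4618
import Groth.Agent.H06Geom.Components

set_option autoImplicit false
open CategoryTheory AlgebraicGeometry
universe u
open FBase

namespace Groth.Agent.S4618

/-- Let X be a scheme over a field k, K any extension field of k and Ω an algebraically closed extension
field of k. Then the set of connected components of X ⊗_k K has cardinality at most that of the set
of connected components of X ⊗_k Ω. In particular the cardinality of the set of connected components
of X ⊗_k Ω does not depend on the algebraically closed extension Ω. -/
theorem result {k K Ω : Type u} [Field k] [Field K] [Algebra k K]
    [Field Ω] [Algebra k Ω] [IsAlgClosed Ω] {X : Scheme.{u}} (f : X ⟶ Spec (CommRingCat.of k)) :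
    Cardinal.mk (_root_.ConnectedComponents ↥(FBase.bc f K)) ≤ Cardinal.mk (_root_.ConnectedComponents ↥(FBase.bc f Ω)) := by
  exact H06Geom.card_connectedComponents_le f

end Groth.Agent.S4618
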