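import Groth.Statements.S4621
import Groth.Agent.H06Geom.Components

set_option autoImplicit false
open CategoryTheory AlgebraicGeometry
universe u
open FBase

namespace Groth.Agent.S4621

/-- Let h : Y → X be a morphism of schemes over a field k, with Y nonempty and geometrically connected
over k. Then the connected component of X containing the (connected) image h(Y) is geometrically
connected: for every extension field K of k, the inverse image in X ⊗_k K of the connected component
of h(y), for a point y of Y, is connected. -/
theorem result {k K : Type u} [Field k] [Field K] [Algebra k K]
    {X Y : Scheme.{u}} (f : X ⟶ Spec (CommRingCat.of k)) (g : Y ⟶ Spec (CommRingCat.of k)) (h : Y ⟶ X) (w : h ≫ f = g)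
    [GeometricallyConnected g] (y : Y) :
    _root_.IsConnected (⇑(FBase.bcπ f K) ⁻¹' connectedComponent (h y)) := by
  subst w
  exact H06Geom.isConnected_preimage_connectedComponent_of_source f h y K

end Groth.Agent.S4621
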