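import Groth.Statements.S4624
import Groth.Agent.H06Desc.Geom

set_option autoImplicit false
open CategoryTheory AlgebraicGeometry
universe u
open FBase

namespace Groth.Agent.S4624

/-- Let h : X → Y be a surjective morphism of schemes over a field k. If X is geometrically connected
over k, then Y is geometrically connected over k. -/
theorem result {k : Type u} [Field k] {X Y : Scheme.{u}}
    (f : X ⟶ Spec (CommRingCat.of k)) (g : Y ⟶ Spec (CommRingCat.of k)) (h : X ⟶ Y) (w : h ≫ g = f)
    [Surjective h] [GeometricallyConnected f] : GeometricallyConnected g := by
  exact ⟨Groth.Agent.H06Desc.geometrically_of_surjective_hom _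
    (fun p _ h => @Groth.Agent.H06Desc.connectedSpace_of_surjective _ _ p _ h) f g h w
    GeometricallyConnected.geometrically_connectedSpace⟩

end Groth.Agent.S4624
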