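import Groth.Statements.S4629
import Groth.Agent.H06Red.Scheme

set_option autoImplicit false
open CategoryTheory AlgebraicGeometry
universe u
open FBase

namespace Groth.Agent.S4629

open CategoryTheory.Limits in
/-- If X and Y are schemes over a field k which are both geometrically reduced over k, then X ×_k Y is
geometrically reduced over k. -/
theorem result {k : Type u} [Field k] {X Y : Scheme.{u}}
    (f : X ⟶ Spec (CommRingCat.of k)) (g : Y ⟶ Spec (CommRingCat.of k)) [GeometricallyReduced f]
    [GeometricallyReduced g] : GeometricallyReduced (pullback.fst f g ≫ f) := by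
  refine ⟨geometrically_iff_of_isClosedUnderIsomorphisms.2 fun K _ s => ?_⟩
  haveI : IsReduced (pullback f s) :=
    GeometricallyReduced.geometrically_isReduced _ _ _ (.of_hasPullback f s)
  haveI hK : IsReduced (pullback (pullback.snd f s) (pullback.snd g s)) :=
    H06Red.isReduced_pullback _ _
  have h1 : IsPullback (pullback.fst (pullback.snd f s) (pullback.snd g s))
      (pullback.snd (pullback.snd f s) (pullback.snd g s) ≫ pullback.fst g s)
      (pullback.fst f s ≫ f) g := by
    rw [pullback.condition]
    exact (IsPullback.of_hasPullback (pullback.snd f s) (pullback.snd g s)).paste_vert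
      (IsPullback.of_hasPullback g s).flip
  let m : pullback (pullback.snd f s) (pullback.snd g s) ⟶ pullback f g :=
    pullback.lift (pullback.fst _ _ ≫ pullback.fst f s) (pullback.snd _ _ ≫ pullback.fst g s)
      (by rw [Category.assoc]; exact h1.w)
  have h2 : IsPullback (pullback.fst (pullback.snd f s) (pullback.snd g s)) m
      (pullback.fst f s) (pullback.fst f g) := by
    refine IsPullback.of_bot ?_ (pullback.lift_fst _ _ _).symm (IsPullback.of_hasPullback f g)
    rw [pullback.lift_snd]
    exact h1
  have h3 : IsPullback m (pullback.fst (pullback.snd f s) (pullback.snd g s) ≫ pullback.snd f s)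
      (pullback.fst f g ≫ f) s :=
    (h2.paste_horiz (IsPullback.of_hasPullback f s).flip).flip
  exact isReduced_of_isOpenImmersion h3.isoPullback.inv

end Groth.Agent.S4629
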