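import Groth.Statements.S4630
import Groth.Agent.H06Red.Scheme

set_option autoImplicit false
open CategoryTheory AlgebraicGeometry
universe u
open FBase

namespace Groth.Agent.S4630

/-- Let X be a scheme over a field k, k' an extension field of k, and x' a point of X' = X ⊗_k k' lying
over the point x of X. Then X is geometrically pointwise integral at x over k if and only if X' is
geometrically pointwise integral at x' over k'. -/
theorem result {k K : Type u} [Field k] [Field K] [Algebra k K]
    {X : Scheme.{u}} (f : X ⟶ Spec (CommRingCat.of k)) (x' : ↥(FBase.bc f K)) :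
    FBase.IsGeomPtIntegralAt f ((FBase.bcπ f K) x') ↔ FBase.IsGeomPtIntegralAt (FBase.bcStr f K) x' := by
  constructor
  · intro h L _ _ x3 hx3
    letI : Algebra k L := ((algebraMap K L).comp (algebraMap k K)).toAlgebra
    have hL : Spec.map (CommRingCat.ofHom (algebraMap K L)) ≫ Spec.map (CommRingCat.ofHom (algebraMap k K))
        = Spec.map (CommRingCat.ofHom (algebraMap k L)) := by
      rw [← Spec.map_comp]; rfl
    let i : FBase.bc (FBase.bcStr f K) L ≅ FBase.bc f L :=
      Limits.pullbackLeftPullbackSndIso f _ _ ≪≫ Limits.pullback.congrHom rfl hL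
    have hi : i.hom ≫ FBase.bcπ f L = FBase.bcπ (FBase.bcStr f K) L ≫ FBase.bcπ f K := by
      simp only [i, FBase.bcπ, FBase.bcStr, Iso.trans_hom, Category.assoc, Limits.pullback.congrHom_hom,
        Limits.pullback.lift_fst, Category.comp_id]
      erw [Limits.pullback.lift_fst]
      rw [Category.comp_id]
      exact Limits.pullbackLeftPullbackSndIso_hom_fst f _ _
    haveI := h L (i.hom x3) (by
      rw [← Scheme.Hom.comp_apply, hi, Scheme.Hom.comp_apply, hx3])
    exact (asIso (i.hom.stalkMap x3)).commRingCatIsoToRingEquiv.symm.injective.isDomain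
      (asIso (i.hom.stalkMap x3)).commRingCatIsoToRingEquiv.symm.toRingHom
  · intro h K' _ _ x'' hx''
    obtain ⟨L, _, σ, t, π, ht, hfl, rfl⟩ := H06Red.exists_common f x' x'' hx''
    obtain ⟨a, rfl⟩ := Spec.map_surjective σ
    letI := a.hom.toAlgebra
    haveI hdom : IsDomain ((Limits.pullback (FBase.bcStr f K) (Spec.map a)).presheaf.stalk t) := h L t ht
    exact @Function.Injective.isDomain _ _ _ hdom _ _ _ _ (π.stalkMap t).hom (H8Props.injective_of_flat_of_isLocalHom _ (Flat.stalkMap π t))

end Groth.Agent.S4630
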