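import Groth.Statements.S4631
import Groth.Agent.H06Red.Scheme
import Groth.Agent.H19Grp.AlgClosedGeom

set_option autoImplicit false
open CategoryTheory AlgebraicGeometry
universe u
open FBase

namespace Groth.Agent.S4631

open scoped TensorProduct

/-- Let X be a scheme over an algebraically closed field k and x a point of X. Then X is geometrically
pointwise integral at x over k if and only if the local ring of X at x is a domain. -/
theorem result {k : Type u} [Field k] [IsAlgClosed k] {X : Scheme.{u}}
    (f : X ⟶ Spec (CommRingCat.of k)) (x : X) :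
    FBase.IsGeomPtIntegralAt f x ↔ IsDomain ↑(X.presheaf.stalk x) := by
  constructor
  · intro h
    let s := Spec.map (CommRingCat.ofHom (algebraMap k k))
    have hs : IsIso s := by
      have : s = 𝟙 _ := by
        show Spec.map (CommRingCat.ofHom (RingHom.id k)) = _
        exact Spec.map_id _
      rw [this]; infer_instance
    have hπ : IsIso (FBase.bcπ f k) := inferInstanceAs (IsIso (Limits.pullback.fst f s))
    obtain ⟨x', hx'⟩ : ∃ x', FBase.bcπ f k x' = x :=
      ⟨inv (FBase.bcπ f k) x, by rw [← Scheme.Hom.comp_apply, IsIso.inv_hom_id]; rfl⟩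
    haveI := h k x' hx'
    subst hx'
    exact (asIso ((FBase.bcπ f k).stalkMap x')).commRingCatIsoToRingEquiv.injective.isDomain
      (asIso ((FBase.bcπ f k).stalkMap x')).commRingCatIsoToRingEquiv.toRingHom
  · intro hd K _ _ x'' hx''
    obtain ⟨e, φ, hφ⟩ := H06Red.exists_stalk_point f
      (Spec.map (CommRingCat.ofHom (algebraMap k K))) x'' x hx''
    obtain ⟨a, ha⟩ := Spec.map_surjective (X.fromSpecStalk x ≫ f)
    letI := a.hom.toAlgebra
    haveI := H19Grp.isDomain_tensorProduct (k := k) (X.presheaf.stalk x) K
    let W := Limits.pullback (X.fromSpecStalk x ≫ f) (Spec.map (CommRingCat.ofHom (algebraMap k K)))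
    let i : W ≅ Spec (.of (X.presheaf.stalk x ⊗[k] K)) :=
      Limits.pullback.congrHom (ha.symm.trans (congrArg Spec.map (CommRingCat.ofHom_hom a).symm)) rfl ≪≫
        pullbackSpecIso k (X.presheaf.stalk x) K
    haveI : Nonempty W := ⟨e⟩
    haveI : IsIntegral W := isIntegral_of_isOpenImmersion i.hom
    exact hφ.1.isDomain φ

end Groth.Agent.S4631
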