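import Groth.Statements.S4633
import Groth.Agent.H06QFlat.Topo

set_option autoImplicit false
open CategoryTheory AlgebraicGeometry
universe u
open FDesc

namespace Groth.Agent.S4633

open CategoryTheory.Limits in
/-- Let f : X → Y be a morphism such that every irreducible component of X dominates an irreducible
component of Y (the closure of its image under f is an irreducible component of Y), and let g : Y' →
Y be quasi-flat (for instance flat). Then every irreducible component of X ×_Y Y' dominates an
irreducible component of Y'. -/
theorem result {X Y Y' : Scheme.{u}} (f : X ⟶ Y) (g : Y' ⟶ Y)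
    (hf : ∀ Z ∈ irreducibleComponents ↥X, closure (⇑f '' Z) ∈ irreducibleComponents ↥Y)
    (hg : FDesc.IsQuasiFlat g) (Z' : Set ↥(pullback f g)) (hZ' : Z' ∈ irreducibleComponents ↥(pullback f g)) :
    closure (⇑(pullback.snd f g) '' Z') ∈ irreducibleComponents ↥Y' := by
  obtain ⟨ξ, hξ⟩ := QuasiSober.sober hZ'.1 (isClosed_of_mem_irreducibleComponents Z' hZ')
  have hcl : ∀ {A B : Scheme.{u}} (h : A ⟶ B) (a : A),
      closure (h '' closure {a}) = closure {h a} := fun h a =>
    le_antisymm (closure_minimal ((image_closure_subset_closure_image h.continuous).trans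
      (by rw [Set.image_singleton])) isClosed_closure)
      (closure_mono (Set.singleton_subset_iff.2 ⟨a, subset_closure rfl, rfl⟩))
  have hgen : ξ ∈ genericPoints ↥(pullback f g) := by
    show closure {ξ} ∈ irreducibleComponents _
    rw [hξ.def]; exact hZ'
  have h := H06QFlat.snd_mem_genericPoints f g (H06QFlat.generalizingMap_pullback_fst f g hg)
    (fun x hx => by
      show closure {f x} ∈ irreducibleComponents _
      rw [← hcl]; exact hf _ hx) hgen
  rw [← hξ.def, hcl]
  exact h

end Groth.Agent.S4633
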