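import Groth.Statements.S4635
import Groth.Agent.H06Geom.NoEmbedded

set_option autoImplicit false
open CategoryTheory AlgebraicGeometry
universe u
open FBase

namespace Groth.Agent.S4635

set_option linter.style.haveILetI false
set_option backward.isDefEq.respectTransparency false

open CategoryTheory.Limits in
/-- Let X and Y be integral locally Noetherian schemes over a field k such that X ×_k Y is locally
Noetherian. Then the structure sheaf of X ×_k Y has no embedded associated points. -/
theorem result {k : Type u} [Field k] {X Y : Scheme.{u}}
    (f : X ⟶ Spec (CommRingCat.of k)) (g : Y ⟶ Spec (CommRingCat.of k)) [IsIntegral X] [IsIntegral Y]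
    [IsLocallyNoetherian X] [IsLocallyNoetherian Y] [IsLocallyNoetherian (pullback f g)] :
    AssSch.NoEmbedded (Coh.structureModule (pullback f g)) := by
  haveI hfl : Flat g := by
    haveI : IsIntegral (Spec (CommRingCat.of k)) := inferInstance
    infer_instance
  have hG : FlatMod.IsFlatOver g (Coh.structureModule Y) := fun y =>
    (H06EGA9.isFlatOverAt_structureModule_iff g y).2 (Flat.stalkMap g y)
  have h := H17.AssTensorS.noEmbedded_tensorS f g (Coh.structureModule X) (Coh.structureModule Y) hG
    (H06Geom.noEmbedded_of_isIntegral X) fun x _ => by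
      intro a ha b hb hab
      rw [H17.AssTensorS.ass_congr (H16Derived.KFlat.Stalk.structurePullbackIso (g.fiberι (f x)))] at ha hb
      haveI := H06Geom.isIso_fiberι_of_field g (f x)
      exact H17.AssFields.noEmbedded_of_iso (asIso (g.fiberι (f x))) (H06Geom.noEmbedded_of_isIntegral Y) a ha b hb hab
  let e : H17.AssTensorS.tensorS f g (Coh.structureModule X) (Coh.structureModule Y) ≅
      Coh.structureModule (Limits.pullback f g) :=
    (DCoh.tensorRightMod _).mapIso (H16Derived.KFlat.Stalk.structurePullbackIso (Limits.pullback.fst f g)) ≪≫
      H10Coh.Tw.leftUnitIso _ ≪≫ H16Derived.KFlat.Stalk.structurePullbackIso (Limits.pullback.snd f g)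
  intro a ha b hb hab
  rw [← H17.AssTensorS.ass_congr e] at ha hb
  exact h a ha b hb hab

end Groth.Agent.S4635
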