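import Groth.Statements.S4637
import Groth.Agent.H17.AssPts
import Mathlib.RingTheory.FiniteLength
import Mathlib.RingTheory.Artinian.Ring
import Mathlib.RingTheory.HopkinsLevitzki
import Mathlib.RingTheory.KrullDimension.Zero

set_option autoImplicit false
open CategoryTheory AlgebraicGeometry
universe u
open AssSch

namespace Groth.Agent.S4637

open CategoryTheory AlgebraicGeometry TopologicalSpace Opposite Groth.Agent.H17.AssPts

/-- Let X be a locally Noetherian scheme, F a coherent O_X-module and x a point of X. Then x is the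
generic point of an irreducible component of Supp F (F_x ≠ 0 and every point y with F_y ≠ 0 that
specialises to x equals x) if and only if F_x is a nonzero module of finite length over the local
ring O_{X,x}. -/
theorem result {X : Scheme.{u}} [IsLocallyNoetherian X] (F : X.Modules)
    (hF : Coh.IsCoh F) (x : X) :
    (Nontrivial ↑(F.presheaf.stalk x) ∧ ∀ y : X, Nontrivial ↑(F.presheaf.stalk y) → y ⤳ x → y = x) ↔
      (Nontrivial ↑(F.presheaf.stalk x) ∧ IsFiniteLength ↑(X.presheaf.stalk x) ↑(F.presheaf.stalk x)) := by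
  classical
  obtain ⟨V, hV, hxV, -⟩ := exists_isAffineOpen_mem_and_subset (U := (⊤ : X.Opens)) (x := x) trivial
  have hfin : Module.Finite (X.presheaf.stalk x) (F.presheaf.stalk x) :=
    Groth.Agent.H06Mod.finite_stalk F hF.2 x
  set A := Module.annihilator (X.presheaf.stalk x) (F.presheaf.stalk x) with hA
  -- points of the stalk scheme
  have hpt : ∀ (q : PrimeSpectrum (X.presheaf.stalk x)) (t : Γ(X, V)),
      X.fromSpecStalk x q ∈ X.basicOpen t ↔ X.presheaf.germ V x hxV t ∉ q.asIdeal := by
    intro q t
    rw [← hV.fromSpecStalk_eq_fromSpecStalk hxV]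
    show q ∈ Spec.map (X.presheaf.germ V x hxV) ⁻¹ᵁ (hV.fromSpec ⁻¹ᵁ X.basicOpen t) ↔ _
    rw [hV.fromSpec_preimage_basicOpen]
    rfl
  have hspec : ∀ q : PrimeSpectrum (X.presheaf.stalk x), X.fromSpecStalk x q ⤳ x := fun q => by
    have := Set.mem_range_self (f := X.fromSpecStalk x) q
    rwa [Scheme.range_fromSpecStalk] at this
  constructor
  · rintro ⟨hne, hmin⟩
    refine ⟨hne, ?_⟩
    have hmax : ∀ q : Ideal (X.presheaf.stalk x), q.IsPrime → A ≤ q →
        q = IsLocalRing.maximalIdeal _ := by
      intro q hq hAq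
      let Q : PrimeSpectrum (X.presheaf.stalk x) := ⟨q, hq⟩
      have hyV : X.fromSpecStalk x Q ∈ V := (hspec Q).mem_open V.2 hxV
      have hnt : Nontrivial (F.presheaf.stalk (X.fromSpecStalk x Q)) := by
        by_contra hc
        rw [not_nontrivial_iff_subsingleton] at hc
        obtain ⟨G, hG⟩ := hfin.fg_top
        choose t s ht hts using fun m : G => exists_smul_germ_eq F hF.1 hV hxV m.1
        choose t' ht' hts' using fun m : G =>
          exists_smul_eq_zero_of_germ F hF.1 hV hyV (s := s m) (Subsingleton.elim _ _)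
        have hkill : X.presheaf.germ V x hxV (∏ m : G, t' m) ∈ A := by
          rw [hA, ← Submodule.annihilator_top, ← hG, Submodule.mem_annihilator_span]
          rintro ⟨m, hm⟩
          have h1 := congrArg (F.presheaf.germ V x hxV) (hts' ⟨m, hm⟩)
          rw [germ_smul', map_zero, ← hts ⟨m, hm⟩, smul_comm] at h1
          have h2 := ((isUnit_germ_iff hxV _).2 (ht ⟨m, hm⟩)).smul_eq_zero.1 h1
          rw [← Finset.prod_erase_mul _ _ (Finset.mem_univ (⟨m, hm⟩ : G)), map_mul, mul_smul]
          rw [h2, smul_zero]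
        refine (hpt Q _).1 ?_ (hAq hkill)
        rw [← isUnit_germ_iff hyV, map_prod, IsUnit.prod_iff]
        exact fun m _ => (isUnit_germ_iff hyV _).2 (ht' m)
      have hQx := hmin _ hnt (hspec Q)
      exact congrArg PrimeSpectrum.asIdeal ((X.fromSpecStalk x).isEmbedding.injective
        (hQx.trans (Scheme.fromSpecStalk_closedPoint (X := X) (x := x)).symm))
    haveI : Ring.KrullDimLE 0 (X.presheaf.stalk x ⧸ A) := by
      refine Ring.KrullDimLE.mk₀ fun q hq => ?_
      have h1 := hmax _ (Ideal.comap_isPrime (Ideal.Quotient.mk A) q)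
        (fun a ha => by simp [Ideal.mem_comap, Ideal.Quotient.eq_zero_iff_mem.2 ha])
      have h2 := (Ideal.map_eq_top_or_isMaximal_of_surjective (Ideal.Quotient.mk A)
        Ideal.Quotient.mk_surjective (IsLocalRing.maximalIdeal.isMaximal (X.presheaf.stalk x)))
      rw [← h1, Ideal.map_comap_of_surjective _ Ideal.Quotient.mk_surjective] at h2
      exact h2.resolve_left hq.ne_top
    haveI : IsArtinianRing (X.presheaf.stalk x ⧸ A) :=
      isArtinianRing_iff_krullDimLE_zero.2 inferInstance
    letI : Module (X.presheaf.stalk x ⧸ A) (F.presheaf.stalk x) :=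
      Module.IsTorsionBySet.module (R := X.presheaf.stalk x) (I := A) (fun m a => Module.mem_annihilator.1 a.2 m)
    haveI : IsScalarTower (X.presheaf.stalk x) (X.presheaf.stalk x ⧸ A) (F.presheaf.stalk x) :=
      Module.IsTorsionBySet.isScalarTower _
    haveI : Module.Finite (X.presheaf.stalk x ⧸ A) (F.presheaf.stalk x) :=
      Module.Finite.of_restrictScalars_finite (X.presheaf.stalk x) _ _
    rw [isFiniteLength_iff_isNoetherian_isArtinian]
    exact ⟨inferInstance, isArtinian_of_surjective_algebraMap (R := X.presheaf.stalk x ⧸ A)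
      Ideal.Quotient.mk_surjective⟩
  · rintro ⟨hne, hlen⟩
    refine ⟨hne, fun y hy hyx => ?_⟩
    have hart : IsArtinianRing (X.presheaf.stalk x ⧸ A) := by
      obtain ⟨_, _⟩ := isFiniteLength_iff_isNoetherian_isArtinian.1 hlen
      obtain ⟨G, hG⟩ := hfin.fg_top
      let φ : X.presheaf.stalk x →ₗ[X.presheaf.stalk x] (G → F.presheaf.stalk x) :=
        LinearMap.pi fun m => LinearMap.toSpanSingleton _ _ m.1
      have hker : LinearMap.ker φ = A := by
        ext r
        rw [hA, ← Submodule.annihilator_top, ← hG, Submodule.mem_annihilator_span]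
        simp [φ, funext_iff]
      haveI : IsArtinian (X.presheaf.stalk x) (X.presheaf.stalk x ⧸ A) := by
        refine isArtinian_of_injective (Submodule.liftQ A φ hker.ge) ?_
        rw [← LinearMap.ker_eq_bot, Submodule.ker_liftQ_eq_bot]
        exact hker.le
      exact isArtinian_of_tower (X.presheaf.stalk x) this
    obtain ⟨Q, rfl⟩ : y ∈ Set.range (X.fromSpecStalk x) := by
      rw [Scheme.range_fromSpecStalk]; exact hyx
    have hyV : X.fromSpecStalk x Q ∈ V := hyx.mem_open V.2 hxV
    have hAQ : A ≤ Q.asIdeal := by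
      intro a ha
      letI := TopCat.Presheaf.algebra_section_stalk X.presheaf (⟨x, hxV⟩ : V)
      haveI := hV.isLocalization_stalk ⟨x, hxV⟩
      obtain ⟨⟨r, u⟩, hru⟩ := IsLocalization.surj (hV.primeIdealOf ⟨x, hxV⟩).asIdeal.primeCompl a
      have hr : X.presheaf.germ V x hxV r ∈ A := by
        rw [show X.presheaf.germ V x hxV r = a * X.presheaf.germ V x hxV u.1 from hru.symm]
        exact A.mul_mem_right _ ha
      by_contra haQ
      have hrQ : X.presheaf.germ V x hxV r ∉ Q.asIdeal := by
        rw [show X.presheaf.germ V x hxV r = a * X.presheaf.germ V x hxV u.1 from hru.symm]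
        refine fun h => (Q.2.mem_or_mem h).elim haQ fun h' => Q.2.ne_top (Ideal.eq_top_of_isUnit_mem _ h' ?_)
        exact IsLocalization.map_units (X.presheaf.stalk x) u
      apply not_subsingleton (F.presheaf.stalk (X.fromSpecStalk x Q))
      refine subsingleton_of_forall_eq 0 fun m => ?_
      obtain ⟨t, s, ht, hts⟩ := exists_smul_germ_eq F hF.1 hV hyV m
      have h0 : F.presheaf.germ V x hxV (r • s) = 0 := by
        rw [germ_smul']
        exact Module.mem_annihilator.1 hr _
      obtain ⟨t', ht', hts'⟩ := exists_smul_eq_zero_of_germ F hF.1 hV hxV h0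
      rw [← mul_smul] at hts'
      have h1 : F.presheaf.germ V _ hyV s = 0 := by
        refine germ_eq_zero_of_smul F hyV (t := t' * r) ?_ hts'
        rw [← isUnit_germ_iff hyV, map_mul]
        exact ((isUnit_germ_iff hyV t').2 (hyx.mem_open (X.basicOpen t').2 ht')).mul
          ((isUnit_germ_iff hyV r).2 ((hpt Q r).2 hrQ))
      rw [h1] at hts
      exact ((isUnit_germ_iff hyV t).2 ht).smul_eq_zero.1 hts
    have hmax : (Q.asIdeal.map (Ideal.Quotient.mk A)).IsMaximal := by
      haveI := Ideal.map_isPrime_of_surjective Ideal.Quotient.mk_surjective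
        (by rw [Ideal.mk_ker]; exact hAQ : RingHom.ker (Ideal.Quotient.mk A) ≤ Q.asIdeal)
      infer_instance
    have hQ : Q.asIdeal = IsLocalRing.maximalIdeal _ := by
      refine IsLocalRing.eq_maximalIdeal ?_
      have := Ideal.comap_isMaximal_of_surjective (Ideal.Quotient.mk A) Ideal.Quotient.mk_surjective
        (K := Q.asIdeal.map (Ideal.Quotient.mk A))
      rwa [Ideal.comap_map_of_surjective' _ Ideal.Quotient.mk_surjective, Ideal.mk_ker,
        sup_eq_left.2 hAQ] at this
    rw [show Q = IsLocalRing.closedPoint _ from PrimeSpectrum.ext hQ]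
    exact Scheme.fromSpecStalk_closedPoint

end Groth.Agent.S4637
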