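import Groth.Statements.S4638
import Groth.Agent.H17.AssPts
import Groth.Agent.H06Mod.StalkExact
import Mathlib.RingTheory.FiniteLength

set_option autoImplicit false
open CategoryTheory AlgebraicGeometry
universe u
open AssSch

namespace Groth.Agent.S4638

open CategoryTheory AlgebraicGeometry TopologicalSpace Opposite Groth.Agent.H17.AssPts

/-- Let X be a locally Noetherian scheme, F a quasi-coherent O_X-module and f a global section of O_X.
Then f is F-regular, i.e. multiplication by the germ of f is injective on every stalk of F, if and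
only if every associated point of F lies in the open subset X_f where f does not vanish. -/
theorem result {X : Scheme.{u}} [IsLocallyNoetherian X] (F : X.Modules)
    (hF : Coh.IsQCoh F) (f : Γ(X, ⊤)) :
    (∀ x : X, IsSMulRegular ↑(F.presheaf.stalk x) (X.presheaf.germ ⊤ x trivial f)) ↔
      AssSch.Ass F ⊆ (X.basicOpen f : Set ↥X) := by
  constructor
  · intro h z hz
    by_contra hzf
    obtain ⟨-, m, hm⟩ := hz
    have hmem : X.presheaf.germ ⊤ z trivial f ∈ IsLocalRing.maximalIdeal (X.presheaf.stalk z) := by
      rw [IsLocalRing.mem_maximalIdeal, mem_nonunits_iff, isUnit_germ_iff]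
      exact hzf
    rw [hm] at hmem
    obtain ⟨n, hn⟩ := hmem
    rw [Submodule.mem_colon_singleton, Submodule.mem_bot] at hn
    have h0 : m = 0 := ((h z).pow n) (by simpa using hn)
    subst h0
    exact (IsLocalRing.maximalIdeal.isMaximal (X.presheaf.stalk z)).ne_top
      (hm.trans (Ideal.radical_eq_top.2 (by ext; simp [Submodule.mem_colon_singleton])))
  · intro h x
    refine IsSMulRegular.of_right_eq_zero_of_smul fun m hm => ?_
    by_contra hne
    obtain ⟨V, hV, hxV, -⟩ := exists_isAffineOpen_mem_and_subset (U := (⊤ : X.Opens)) (x := x) trivial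
    obtain ⟨t, s, ht, hts⟩ := exists_smul_germ_eq F hF hV hxV m
    set f' : Γ(X, V) := X.presheaf.map (homOfLE (le_top : V ≤ ⊤)).op f with hf'
    have h0 : F.presheaf.germ V x hxV (f' • s) = 0 := by
      rw [germ_smul', hf', TopCat.Presheaf.germ_res_apply, ← hts, smul_comm, hm, smul_zero]
    obtain ⟨t', ht', hts'⟩ := exists_smul_eq_zero_of_germ F hF hV hxV h0
    have hne' : F.presheaf.germ V x hxV (t' • s) ≠ 0 := by
      rw [germ_smul', Ne, ((isUnit_germ_iff hxV t').2 ht').smul_eq_zero, ← hts,
        ((isUnit_germ_iff hxV t).2 ht).smul_eq_zero]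
      exact hne
    obtain ⟨z, hzV, hz, -, hzne⟩ := exists_ass_specializes_of_germ F hF hV hxV hne'
    refine hzne (germ_eq_zero_of_smul F hzV (t := f') ?_ (by rw [smul_comm, hts']))
    rw [hf', X.basicOpen_res]
    exact ⟨hzV, h hz⟩

end Groth.Agent.S4638
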