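import Groth.Statements.S4639
import Groth.Agent.H06Desc.Embedding

set_option autoImplicit false
open CategoryTheory AlgebraicGeometry
universe u
open FDesc

namespace Groth.Agent.S4639

/-- The property of being quasi-compact and universally bicontinuous (every base change is a
homeomorphism onto its image) descends along a surjective, flat and quasi-compact base change. -/
theorem result :
    MorphismProperty.DescendsAlong
      (MorphismProperty.universally (topologically (fun f => Topology.IsEmbedding f)) ⊓ @QuasiCompact : MorphismProperty Scheme.{u})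
      (@Surjective ⊓ @Flat ⊓ @QuasiCompact : MorphismProperty Scheme.{u}) := by
  constructor
  intro A X Y Z fst snd f g sq hf hfst
  obtain ⟨⟨hs, hfl⟩, hqc⟩ := hf
  have hg : QuasiCompact g := MorphismProperty.of_isPullback_of_descendsAlong (P := @QuasiCompact)
    (Q := H18Descent.fpqc) sq ⟨⟨hs, hfl⟩, hqc⟩ hfst.2
  refine ⟨?_, hg⟩
  intro Y₁ Z₁ i₁ h g' sq'
  obtain ⟨m, hm⟩ := H06Desc.exists_cube sq sq'.flip
  have hemb := hfst.1 _ _ _ hm.flip
  have : QuasiCompact g' := MorphismProperty.of_isPullback (P := @QuasiCompact) sq'.flip hg
  exact H06Desc.isEmbedding_of_isPullback (IsPullback.of_hasPullback (Limits.pullback.snd f h) g')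
    inferInstance inferInstance hemb

end Groth.Agent.S4639
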