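import Groth.Statements.S4640
import Mathlib


set_option autoImplicit false
universe u
open FDesc

namespace Groth.Agent.S4640

open TensorProduct in
/-- Let A be a Dedekind domain with fraction field K, M an A-module and P' a K-submodule of K ⊗_A M. Let
φ : M → (K ⊗_A M)/P' be m ↦ class of 1 ⊗ m. Then a submodule Q of M equals ker φ if and only if M/Q
is a flat A-module and the kernel of the induced surjection K ⊗_A M → K ⊗_A (M/Q) is P'. Thus M/ker
φ is the unique flat quotient of M with generic fibre (K ⊗_A M)/P'. (The published statement takes A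
Noetherian, regular and of dimension 1; a field is allowed here, where the statement is immediate.) -/
theorem result {A K : Type u} [CommRing A] [IsDedekindDomain A] [Field K]
    [Algebra A K] [IsFractionRing A K] {M : Type u} [AddCommGroup M] [Module A M]
    (P' : Submodule K (K ⊗[A] M)) (Q : Submodule A M) :
    Q = LinearMap.ker ((P'.restrictScalars A).mkQ ∘ₗ TensorProduct.mk A K M 1) ↔
      (Module.Flat A (M ⧸ Q) ∧ LinearMap.ker (Q.mkQ.baseChange K) = P') := by
  classical
  set ι := TensorProduct.mk A K M 1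
  have hflat : ∀ (N : Type u) [AddCommGroup N] [Module A N] (f : N →ₗ[A] (K ⊗[A] M) ⧸ (P'.restrictScalars A)),
      Function.Injective f → Module.Flat A N := by
    intro N _ _ f hf
    haveI : Module.IsTorsionFree A ((K ⊗[A] M) ⧸ P') := Module.IsTorsionFree.trans_faithfulSMul A K _
    haveI : Module.IsTorsionFree A ((K ⊗[A] M) ⧸ (P'.restrictScalars A)) :=
      (Submodule.Quotient.restrictScalarsEquiv A P').injective.moduleIsTorsionFree _ (map_smul _)
    haveI : Module.IsTorsionFree A N := hf.moduleIsTorsionFree _ (map_smul f)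
    infer_instance
  have hfrac : ∀ z : K ⊗[A] M, ∃ (a : A) (m : M), a ≠ 0 ∧ algebraMap A K a • z = 1 ⊗ₜ[A] m := by
    intro z
    obtain ⟨⟨m, s⟩, hms⟩ := IsLocalizedModule.surj (nonZeroDivisors A) ι z
    exact ⟨s, m, nonZeroDivisors.ne_zero s.2, by rw [algebraMap_smul]; exact hms⟩
  have hmk : ∀ (N : Type u) [AddCommGroup N] [Module A N] [Module.Flat A N],
      Function.Injective (TensorProduct.mk A K N 1) := by
    intro N _ _ _
    have h := Module.Flat.rTensor_preserves_injective_linearMap (M := N)
      (Algebra.linearMap A K) (IsFractionRing.injective A K)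
    intro x y hxy
    have := @h (1 ⊗ₜ x) (1 ⊗ₜ y) (by simpa using hxy)
    simpa using congrArg (TensorProduct.lid A N) this
  constructor
  · rintro rfl
    set φ := (P'.restrictScalars A).mkQ ∘ₗ ι
    refine ⟨hflat _ ((LinearMap.ker φ).liftQ φ le_rfl)
      (LinearMap.ker_eq_bot.mp (Submodule.ker_liftQ_eq_bot _ _ _ le_rfl)), ?_⟩
    refine Submodule.ext fun z => ?_
    obtain ⟨a, m, ha, hz⟩ := hfrac z
    have hu : IsUnit (algebraMap A K a) :=
      isUnit_iff_ne_zero.mpr ((map_ne_zero_iff _ (IsFractionRing.injective A K)).mpr ha)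
    rw [← Submodule.smul_mem_iff_of_isUnit _ hu, ← Submodule.smul_mem_iff_of_isUnit P' hu, hz,
      LinearMap.mem_ker, LinearMap.baseChange_tmul]
    have hm : m ∈ LinearMap.ker φ ↔ 1 ⊗ₜ[A] m ∈ P' := by simp [φ, ι]
    rw [← hm]
    constructor
    · intro h
      haveI : Module.Flat A (M ⧸ LinearMap.ker φ) := hflat _ ((LinearMap.ker φ).liftQ φ le_rfl)
        (LinearMap.ker_eq_bot.mp (Submodule.ker_liftQ_eq_bot _ _ _ le_rfl))
      have h2 := hmk (M ⧸ LinearMap.ker φ)
      exact (Submodule.Quotient.mk_eq_zero _).mp (h2 (by simpa using h))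
    · intro h
      rw [Submodule.mkQ_apply, (Submodule.Quotient.mk_eq_zero _).mpr h, TensorProduct.tmul_zero]
  · rintro ⟨hQ, hP⟩
    have hinj := hmk (M ⧸ Q)
    refine Submodule.ext fun m => ?_
    rw [← hP]
    simp only [LinearMap.mem_ker, LinearMap.comp_apply, Submodule.mkQ_apply,
      Submodule.Quotient.mk_eq_zero, Submodule.restrictScalars_mem, ι, TensorProduct.mk_apply,
      LinearMap.baseChange_tmul]
    rw [← Submodule.Quotient.mk_eq_zero Q]
    exact ⟨fun h => by rw [h, TensorProduct.tmul_zero],
      fun h => hinj (by simpa using h)⟩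

end Groth.Agent.S4640
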