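import Groth.Statements.S4641
import Groth.Agent.H17.AssGeneric
import Mathlib.RingTheory.Ideal.AssociatedPrime.Finiteness
import Mathlib.RingTheory.Flat.TorsionFree

set_option autoImplicit false
open CategoryTheory AlgebraicGeometry
universe u
open AssSch

namespace Groth.Agent.S4641

open CategoryTheory AlgebraicGeometry TopologicalSpace Opposite

/-- Let f : X → Y be a morphism of locally Noetherian schemes such that Y has no embedded associated
points, and let F be a quasi-coherent O_X-module which is flat over Y. Then for every associated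
point x of F, f(x) is a maximal point of Y (every point of Y specialising to f(x) equals f(x)). (The
published statement assumes only Y locally Noetherian; X is taken locally Noetherian here so that
associated points are those whose maximal ideal is an annihilator.) -/
theorem result {X Y : Scheme.{u}} (f : X ⟶ Y) [IsLocallyNoetherian X]
    [IsLocallyNoetherian Y] (hY : AssSch.NoEmbedded (Coh.structureModule Y)) (F : X.Modules) (hF : Coh.IsQCoh F)
    (hfl : FlatMod.IsFlatOver f F) (x : X) (hx : x ∈ AssSch.Ass F) (y : Y) (hy : y ⤳ f x) : y = f x := by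
  classical
  have hfx : f x ∈ AssSch.Ass (Coh.structureModule Y) := by
    refine (H29Blow.isAssPoint_iff_isWeakAssPoint _ _).2
      ((H29Blow.isWeakAssPoint_structureModule_iff (f x)).2 ?_)
    letI : Module (Y.presheaf.stalk (f x)) (F.presheaf.stalk x) := FlatMod.moduleStalkOver f F x
    haveI : Module.Flat (Y.presheaf.stalk (f x)) (F.presheaf.stalk x) := hfl x
    obtain ⟨-, m, hm⟩ := hx
    have hzd : ∀ a ∈ IsLocalRing.maximalIdeal (Y.presheaf.stalk (f x)),
        a ∉ nonZeroDivisors (Y.presheaf.stalk (f x)) := by
      intro a ha hreg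
      have hmem : (f.stalkMap x).hom a ∈ IsLocalRing.maximalIdeal (X.presheaf.stalk x) := by
        rw [IsLocalRing.mem_maximalIdeal, mem_nonunits_iff, isUnit_map_iff]
        exact ha
      rw [hm] at hmem
      obtain ⟨n, hn⟩ := hmem
      rw [Submodule.mem_colon_singleton, Submodule.mem_bot] at hn
      have hreg' : IsSMulRegular (F.presheaf.stalk x) a :=
        Module.Flat.isSMulRegular_of_nonZeroDivisors hreg
      have h0 : m = 0 := (hreg'.pow n) (by
        show (f.stalkMap x).hom (a ^ n) • m = (f.stalkMap x).hom (a ^ n) • (0 : F.presheaf.stalk x)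
        rw [map_pow, hn, smul_zero])
      subst h0
      exact (IsLocalRing.maximalIdeal.isMaximal (X.presheaf.stalk x)).ne_top
        (hm.trans (Ideal.radical_eq_top.2 (by ext; simp [Submodule.mem_colon_singleton])))
    have hfin := associatedPrimes.finite (Y.presheaf.stalk (f x)) (Y.presheaf.stalk (f x))
    have hsub : (IsLocalRing.maximalIdeal (Y.presheaf.stalk (f x)) : Set (Y.presheaf.stalk (f x))) ⊆
        ⋃ p ∈ (hfin.toFinset : Set (Ideal (Y.presheaf.stalk (f x)))), (p : Set (Y.presheaf.stalk (f x))) := by
      intro a ha
      have h := biUnion_associatedPrimes_eq_compl_nonZeroDivisors (Y.presheaf.stalk (f x))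
      rw [hfin.coe_toFinset, h]
      exact hzd a ha
    obtain ⟨p, hp, hle⟩ := (Ideal.subset_union_prime ⊥ ⊥
      (fun p hp _ _ => IsAssociatedPrime.isPrime (hfin.mem_toFinset.1 hp))).1 hsub
    rw [hfin.mem_toFinset] at hp
    rwa [(IsLocalRing.maximalIdeal.isMaximal _).eq_of_le (IsAssociatedPrime.isPrime hp).ne_top hle]
  obtain ⟨η, hη, hηy⟩ := Groth.Agent.H8Props.exists_genericPoints_specializes y
  have h := hY _ hfx η (Groth.Agent.H17.AssPts.genericPoint_mem_ass hη) (hηy.trans hy)
  subst h
  exact (hy.antisymm hηy).eq

end Groth.Agent.S4641
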