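import Groth.Statements.S4644
import Groth.Agent.H06EGA9.ProductDim
import Groth.Agent.H17.NagataNorm

set_option autoImplicit false
open CategoryTheory AlgebraicGeometry
universe u
open FBase

namespace Groth.Agent.S4644

open Groth.Agent.H8Props.FieldDim Groth.Agent.H06EGA9 CategoryTheory.Limits TopologicalSpace Set
set_option backward.isDefEq.respectTransparency false

/-- Let Y be a nonempty scheme locally of finite type over a field k whose irreducible components all
have the same dimension, and let Z be a locally closed subset of Y (the underlying set of a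
subscheme). Then Z is nowhere dense in Y if and only if dim Z < dim Y. (For Y empty the left side
holds and the right side fails, so Y is taken nonempty; dimensions are Krull dimensions of the
underlying spaces.) -/
theorem result {k : Type u} [Field k] {Y : Scheme.{u}} [Nonempty ↥Y]
    (g : Y ⟶ Spec (CommRingCat.of k)) [LocallyOfFiniteType g]
    (heq : ∀ T ∈ irreducibleComponents ↥Y, topologicalKrullDim ↥T = topologicalKrullDim ↥Y)
    (Z : Set ↥Y) (hZ : IsLocallyClosed Z) :
    IsNowhereDense Z ↔ topologicalKrullDim ↥Z < topologicalKrullDim ↥Y := by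
  obtain ⟨T₀, hT₀⟩ : ∃ T, T ∈ irreducibleComponents Y :=
    ⟨_, irreducibleComponent_mem_irreducibleComponents (Classical.arbitrary Y)⟩
  obtain ⟨η₀, hη₀, -⟩ := mem_irreducibleComponents_iff hT₀
  obtain ⟨n, hn⟩ := exists_nat_cdim g η₀
  have hY : topologicalKrullDim Y = n := by rw [← heq T₀ hT₀, hη₀]; exact hn
  have hcomp : ∀ z : Y, ∃ η, η ⤳ z ∧ closure {η} ∈ irreducibleComponents Y ∧ cdim η = n := fun z => by
    obtain ⟨η, h1, h2⟩ := exists_component_generization z
    exact ⟨η, h1, h2, (heq _ h2).trans hY⟩
  constructor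
  · intro hnd
    have key : ∀ z ∈ closure Z, cdim z < (n : WithBot ℕ∞) := fun z hz => by
      obtain ⟨η, hη, hηc, hηd⟩ := hcomp z
      rcases eq_or_ne η z with rfl | hne
      · exfalso
        haveI : IsLocallyNoetherian Y := LocallyOfFiniteType.isLocallyNoetherian g
        have hcl : IsClosed (⋃ T : {T : irreducibleComponents Y // T.1 ≠ closure {η}}, T.1.1) :=
          ((H17.NagataNorm.locallyFinite_irreducibleComponents Y).comp_injective Subtype.val_injective).isClosed_iUnion
            fun T => isClosed_of_mem_irreducibleComponents _ T.1.2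
        obtain ⟨o, ho, hne', hsub⟩ : ∃ o : Set Y, IsOpen o ∧ o.Nonempty ∧ o ⊆ closure {η} := by
          refine ⟨_, hcl.isOpen_compl, ⟨η, fun hm => ?_⟩, fun a ha => ?_⟩
          · obtain ⟨⟨⟨T, hT⟩, hTne⟩, hmT⟩ := mem_iUnion.mp hm
            exact hTne (hηc.eq_of_ge hT.1
              (closure_minimal (singleton_subset_iff.mpr hmT) (isClosed_of_mem_irreducibleComponents _ hT))).symm.symm
          · by_contra hc
            obtain ⟨ξ, hξ, hξc⟩ := exists_component_generization a
            refine ha (mem_iUnion.mpr ⟨⟨⟨_, hξc⟩, fun e => hc ?_⟩, hξ.mem_closure⟩)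
            exact (show closure {ξ} = closure {η} from e) ▸ hξ.mem_closure
        have hsub' : o ⊆ closure Z :=
          hsub.trans (closure_minimal (singleton_subset_iff.mpr hz) isClosed_closure)
        obtain ⟨a, ha⟩ := hne'
        have := (interior_maximal hsub' ho) ha
        rw [hnd] at this
        exact this
      · exact hηd ▸ cdim_lt g hη hne
    rw [hY]
    refine lt_of_le_of_lt (dim_mono subset_closure) ?_
    rcases n with - | m
    · have : closure Z = ∅ := eq_empty_of_forall_notMem fun z hz => by
        obtain ⟨a, ha⟩ := exists_nat_cdim g z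
        have := key z hz
        rw [ha] at this
        exact absurd this (by simp)
      refine lt_of_le_of_lt (dim_le_of_forall_cdim_le isClosed_closure ⊥ fun z hz => ?_) (WithBot.bot_lt_coe _)
      exact (this.le hz).elim
    refine lt_of_le_of_lt (dim_le_of_forall_cdim_le isClosed_closure (m : WithBot ℕ∞) fun z hz => ?_) (by norm_cast; omega)
    obtain ⟨a, ha⟩ := exists_nat_cdim g z
    have := key z hz
    rw [ha] at this ⊢
    exact_mod_cast Nat.le_of_lt_succ (by exact_mod_cast this)
  · intro hlt
    rw [IsNowhereDense, ← not_nonempty_iff_eq_empty]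
    rintro ⟨y, hy⟩
    obtain ⟨U, F, hU, hF, rfl⟩ := hZ
    obtain ⟨y', hy'1, hy'2⟩ := mem_closure_iff.mp (interior_subset hy) _ isOpen_interior hy
    have hVF : interior (closure (U ∩ F)) ∩ U ⊆ U ∩ F := fun x hx =>
      ⟨hx.2, closure_minimal inter_subset_right hF (interior_subset hx.1)⟩
    obtain ⟨η, hη, hηc, hηd⟩ := hcomp y'
    have hηV : η ∈ interior (closure (U ∩ F)) ∩ U :=
      hη.mem_open (isOpen_interior.inter hU) ⟨hy'1, hy'2.1⟩
    obtain ⟨W, hW, hηW, hWV⟩ := Y.isBasis_affineOpens.exists_subset_of_mem_open hηV (isOpen_interior.inter hU)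
    obtain ⟨W, hWa, rfl⟩ := hW
    have := dim_mono (inter_subset_right.trans (hWV.trans hVF) : closure {η} ∩ (W : Set Y) ⊆ U ∩ F)
    rw [← cdim_eq_inter g η hWa hηW, hηd, ← hY] at this
    exact absurd hlt this.not_gt

end Groth.Agent.S4644
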