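import Groth.Statements.S4645
import Groth.Agent.H06Geom.GaloisFibre
import Groth.Agent.H8Props.Generic

set_option autoImplicit false
open CategoryTheory AlgebraicGeometry
universe u
open FBase

namespace Groth.Agent.S4645

set_option linter.style.haveILetI false
set_option backward.isDefEq.respectTransparency false

/-- Let X be a scheme over a field k with finitely many connected components, each of which contains a
point x such that the separable algebraic closure of k in κ(x) has finite degree over k. Then there
is a finite separable extension k'' of k such that all connected components of X ⊗_k k'' are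
geometrically connected over k'': for every extension field K of k'' and every point x' of X ⊗_k
k'', the inverse image in (X ⊗_k k'') ⊗_{k''} K of the connected component of x' is connected. -/
theorem result {k : Type u} [Field k] {X : Scheme.{u}}
    (f : X ⟶ Spec (CommRingCat.of k)) [Finite (_root_.ConnectedComponents ↥X)]
    (hx : ∀ c : _root_.ConnectedComponents ↥X, ∃ x : X, _root_.ConnectedComponents.mk x = c ∧
      FBase.ResidueFieldProp f x (fun K _ _ => FiniteDimensional k (separableClosure k K))) :
    ∃ (k'' : Type u) (_ : Field k'') (_ : Algebra k k''), FiniteDimensional k k'' ∧ Algebra.IsSeparable k k'' ∧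
      ∀ (K : Type u) [Field K] [Algebra k'' K] (x' : ↥(FBase.bc f k'')),
        _root_.IsConnected (⇑(FBase.bcπ (FBase.bcStr f k'') K) ⁻¹' connectedComponent x') := by
  choose pt hmk φ hφ hfin using hx
  letI A : ∀ c, Algebra k (X.residueField (pt c)) := fun c => (φ c).toAlgebra
  haveI : ∀ c, FiniteDimensional k (separableClosure k (X.residueField (pt c))) := hfin
  obtain ⟨L, _, _, hL, hgal, hemb⟩ :=
    H06Geom.exists_galois_embeddings k fun c => separableClosure k (X.residueField (pt c))
  refine ⟨L, inferInstance, inferInstance, hL, inferInstance, ?_⟩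
  intro K _ _ x'
  let s := Spec.map (CommRingCat.ofHom (algebraMap k L))
  haveI : IsIntegralHom s := IsIntegralHom.SpecMap_iff.mpr (algebraMap_isIntegral_iff.mpr inferInstance)
  haveI : UniversallyOpen s := H06Desc.universallyOpen_of_discreteTopology s
  let h := fun (i : Σ c, (separableClosure k (X.residueField (pt c)) →ₐ[k] L)) =>
    H06Geom.fibreMap f (pt i.1) (hφ i.1) i.2
  have hF : ∀ i, _root_.IsConnected (Set.range (h i)) := fun i => by
    haveI := H06Geom.irreducibleSpace_fibrePart (pt i.1) i.2
    exact isConnected_range (h i).continuous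
  obtain ⟨i, hi⟩ := (H06Geom.finite_connectedComponents_of_clopen _ hF fun A hA hne => by
    obtain ⟨a, ha⟩ := hne
    have himg : IsClopen (FBase.bcπ f L '' A) :=
      ⟨(Limits.pullback.fst f s).isClosedMap _ hA.isClosed, (Limits.pullback.fst f s).isOpenMap _ hA.isOpen⟩
    obtain ⟨y, hyA, hy⟩ := himg.connectedComponent_subset ⟨a, ha, rfl⟩
      (ConnectedComponents.coe_eq_coe'.1 (hmk (ConnectedComponents.mk (FBase.bcπ f L a))))
    obtain ⟨σ, w, hw⟩ := H06Geom.exists_fibreMap f _ (hφ _)
      (H06Geom.splits_of_algHom (hemb _).some) y hy
    exact ⟨⟨_, σ⟩, y, hyA, w, hw⟩).1 x'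
  haveI := H06Geom.geometricallyConnected_fibreMap f (pt i.1) (hφ i.1) i.2
  haveI := H06Geom.irreducibleSpace_fibrePart (pt i.1) i.2
  rw [connectedComponent_eq (hi ⟨genericPoint _, rfl⟩)]
  exact H06Geom.isConnected_preimage_connectedComponent_of_source (FBase.bcStr f L) (h i) _ K

end Groth.Agent.S4645
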