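import Groth.Statements.S4646
import Groth.Agent.H06Geom.GaloisFibre
import Groth.Agent.H8Props.Generic

set_option autoImplicit false
open CategoryTheory AlgebraicGeometry
universe u
open FBase

namespace Groth.Agent.S4646

set_option linter.style.haveILetI false
set_option backward.isDefEq.respectTransparency false

/-- Let X be a scheme over a field k having finitely many irreducible components, such that for the
generic point x of each irreducible component the separable algebraic closure of k in κ(x) has
finite degree over k. Then there is a finite separable extension L of k such that all irreducible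
components of X ⊗_k L are geometrically irreducible over L: for every extension field K of L and
every irreducible component Z' of X ⊗_k L, the inverse image of Z' in (X ⊗_k L) ⊗_L K is
irreducible. (No finite-type hypothesis on X.) -/
theorem result {k : Type u} [Field k] {X : Scheme.{u}}
    (f : X ⟶ Spec (CommRingCat.of k)) [Finite ↥(irreducibleComponents ↥X)]
    (hx : ∀ (Z : Set ↥X) (hZ : Z ∈ irreducibleComponents ↥X),
      FBase.ResidueFieldProp f hZ.1.genericPoint (fun K _ _ => FiniteDimensional k (separableClosure k K))) :
    ∃ (L : Type u) (_ : Field L) (_ : Algebra k L), FiniteDimensional k L ∧ Algebra.IsSeparable k L ∧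
      ∀ (K : Type u) [Field K] [Algebra L K] (Z' : Set ↥(FBase.bc f L)), Z' ∈ irreducibleComponents ↥(FBase.bc f L) →
        IsIrreducible (⇑(FBase.bcπ (FBase.bcStr f L) K) ⁻¹' Z') := by
  choose φ hφ hfin using fun c : irreducibleComponents ↥X => hx c.1 c.2
  let pt : irreducibleComponents ↥X → X := fun c => c.2.1.genericPoint
  letI A : ∀ c, Algebra k (X.residueField (pt c)) := fun c => (φ c).toAlgebra
  haveI : ∀ c, FiniteDimensional k (separableClosure k (X.residueField (pt c))) := hfin
  obtain ⟨L, _, _, hL, hgal, hemb⟩ :=
    H06Geom.exists_galois_embeddings k fun c => separableClosure k (X.residueField (pt c))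
  refine ⟨L, inferInstance, inferInstance, hL, inferInstance, ?_⟩
  intro K _ _ Z' hZ'
  let s := Spec.map (CommRingCat.ofHom (algebraMap k L))
  haveI : IsIntegralHom s := IsIntegralHom.SpecMap_iff.mpr (algebraMap_isIntegral_iff.mpr inferInstance)
  haveI : Flat s := by
    rw [HasRingHomProperty.Spec_iff (P := @Flat)]
    exact RingHom.flat_algebraMap_iff.2 inferInstance
  haveI : Flat (FBase.bcπ f L) := inferInstanceAs (Flat (Limits.pullback.fst f s))
  have hcl := isClosed_of_mem_irreducibleComponents Z' hZ'
  have hg := hZ'.1.isGenericPoint_genericPoint hcl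
  have hη := H8Props.flat_map_genericPoints (FBase.bcπ f L)
    (show closure {hZ'.1.genericPoint} ∈ irreducibleComponents _ from hg.def.symm ▸ hZ')
  let c : irreducibleComponents ↥X := ⟨closure {FBase.bcπ f L hZ'.1.genericPoint}, hη⟩
  have hpt : FBase.bcπ f L hZ'.1.genericPoint = pt c := (isGenericPoint_closure).eq
    (by
      have := c.2.1.isGenericPoint_genericPoint (isClosed_of_mem_irreducibleComponents _ c.2)
      exact this)
  obtain ⟨σ, w, hw⟩ := H06Geom.exists_fibreMap f _ (hφ c)
    (H06Geom.splits_of_algHom (hemb c).some) _ hpt
  let h := H06Geom.fibreMap f (pt c) (hφ c) σ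
  haveI := H06Geom.irreducibleSpace_fibrePart (pt c) σ
  haveI := H06Geom.geometricallyIrreducible_fibreMap f (pt c) (hφ c) σ
  have hirr : IsIrreducible (Set.range h) :=
    Set.image_univ ▸ (IrreducibleSpace.isIrreducible_univ _).image h h.continuous.continuousOn
  have hsub : Z' ⊆ closure (Set.range h) := by
    rw [← hg.def]
    exact closure_mono (Set.singleton_subset_iff.2 ⟨w, hw⟩)
  have hZ : Z' = closure (Set.range h) := subset_antisymm hsub (hZ'.2 hirr.closure hsub)
  let t := Spec.map (CommRingCat.ofHom (algebraMap L K))
  let p := Limits.pullback.fst (FBase.bcStr f L) t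
  haveI : UniversallyOpen t := H06Desc.universallyOpen_of_discreteTopology t
  rw [hZ]
  show IsIrreducible (p ⁻¹' closure (Set.range h))
  rw [p.isOpenMap.preimage_closure_eq_closure_preimage p.continuous]
  refine IsIrreducible.closure ?_
  haveI : IrreducibleSpace ↥(Limits.pullback h p) := by
    haveI := pullback_of_geometrically
      (GeometricallyIrreducible.geometrically_irreducibleSpace (f := h ≫ FBase.bcStr f L)) K t
    exact (Limits.pullbackRightPullbackFstIso (FBase.bcStr f L) t h).hom.homeomorph.irreducibleSpace_iff.mpr this
  rw [← Scheme.Pullback.range_snd, ← Set.image_univ]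
  exact (IrreducibleSpace.isIrreducible_univ _).image _ (Limits.pullback.snd h p).continuous.continuousOn

end Groth.Agent.S4646
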