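import Groth.Statements.S4647
import Mathlib


set_option autoImplicit false
open CategoryTheory AlgebraicGeometry
universe u
open FDesc

namespace Groth.Agent.S4647

/-- Let f : X → Y be a faithfully flat (flat and surjective) morphism. If all local rings of X are
domains (in particular if X is locally integral) and the underlying space of Y is locally
Noetherian, then Y is locally integral: every point of Y has an open neighbourhood which is an
integral scheme. -/
theorem result {X Y : Scheme.{u}} (f : X ⟶ Y) [Flat f] [Surjective f]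
    (hX : ∀ x : X, IsDomain ↑(X.presheaf.stalk x))
    (hY : ∀ y : Y, ∃ U : Y.Opens, y ∈ U ∧ TopologicalSpace.NoetherianSpace ↥U) (y : Y) :
    ∃ U : Y.Opens, y ∈ U ∧ IsIntegral (U : Scheme.{u}) := by
  classical
  obtain ⟨U, hyU, hU⟩ := hY y
  let Z : Scheme.{u} := (U : Scheme.{u})
  haveI : TopologicalSpace.NoetherianSpace ↥Z := hU
  have hdomY : ∀ y : Y, IsDomain ↑(Y.presheaf.stalk y) := by
    intro y
    obtain ⟨x, rfl⟩ := Surjective.surj (f := f) y
    haveI := hX x
    have hinj : Function.Injective (f.stalkMap x).hom := by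
      algebraize [(f.stalkMap x).hom]
      haveI : Module.Flat (Y.presheaf.stalk (f x)) (X.presheaf.stalk x) := Flat.stalkMap f x
      haveI : IsLocalHom (algebraMap (Y.presheaf.stalk (f x)) (X.presheaf.stalk x)) := f.toLRSHom.prop x
      haveI := Module.FaithfullyFlat.of_flat_of_isLocalHom (A := Y.presheaf.stalk (f x)) (B := X.presheaf.stalk x)
      exact FaithfulSMul.algebraMap_injective (Y.presheaf.stalk (f x)) (X.presheaf.stalk x)
    exact hinj.isDomain _
  have hdom : ∀ z : Z, IsDomain ↑(Z.presheaf.stalk z) := fun z => by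
    haveI := hdomY (U.ι z)
    exact (Scheme.Opens.stalkIso U z).commRingCatIsoToRingEquiv.toMulEquiv.isDomain _
  haveI : IsReduced Z := by
    haveI : ∀ z : Z, _root_.IsReduced ↑(Z.presheaf.stalk z) := fun z => by
      haveI := hdom z; infer_instance
    exact isReduced_of_isReduced_stalk Z
  let z : Z := ⟨y, hyU⟩
  haveI := hdom z
  let η₀ : Z := Z.fromSpecStalk z (⟨⊥, Ideal.isPrime_bot⟩ : PrimeSpectrum _)
  have huniq : ∀ W ∈ irreducibleComponents ↥Z, z ∈ W → W = closure {η₀} := by
    intro W hW hzW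
    have hWc : IsClosed W := isClosed_of_mem_irreducibleComponents W hW
    obtain ⟨η, hη⟩ := QuasiSober.sober hW.1 hWc
    have hs : η ⤳ z := specializes_iff_mem_closure.mpr (hη.def ▸ hzW)
    obtain ⟨p, hp⟩ : η ∈ Set.range (Z.fromSpecStalk z) := by
      rw [Scheme.range_fromSpecStalk]; exact hs
    have h0 : η₀ ⤳ η := by
      rw [← hp]
      exact Specializes.map ((PrimeSpectrum.le_iff_specializes (⟨⊥, Ideal.isPrime_bot⟩ : PrimeSpectrum _) p).mp bot_le) (Z.fromSpecStalk z).continuous
    have hle : W ⊆ closure {η₀} := by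
      rw [← hη.def]
      exact closure_minimal (Set.singleton_subset_iff.mpr (specializes_iff_mem_closure.mp h0)) isClosed_closure
    exact le_antisymm hle (hW.2 isIrreducible_singleton.closure hle)
  have hfin := TopologicalSpace.NoetherianSpace.finite_irreducibleComponents (α := ↥Z)
  let V : Z.Opens := ⟨(⋃₀ (irreducibleComponents ↥Z \ {closure {η₀}}))ᶜ, by
    rw [Set.sUnion_eq_biUnion, isOpen_compl_iff]
    exact hfin.sdiff.isClosed_biUnion fun W hW => isClosed_of_mem_irreducibleComponents W hW.1⟩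
  have hzV : z ∈ V := fun ⟨W, hW, hzW⟩ => hW.2 (huniq W hW.1 hzW)
  have hVC : (V : Set ↥Z) ⊆ closure {η₀} := by
    intro w hw
    by_contra hn
    refine hw ⟨irreducibleComponent w, ⟨irreducibleComponent_mem_irreducibleComponents w, ?_⟩,
      mem_irreducibleComponent⟩
    intro h
    exact hn (Set.mem_singleton_iff.mp h ▸ mem_irreducibleComponent)
  haveI : IrreducibleSpace ↥(V : Scheme.{u}) := isIrreducible_iff_irreducibleSpace.mp
    (⟨⟨z, hzV⟩, (isIrreducible_singleton.closure.2).open_subset V.2 hVC⟩ : IsIrreducible (V : Set ↥Z))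
  haveI : IsIntegral (V : Scheme.{u}) := isIntegral_of_irreducibleSpace_of_isReduced _
  refine ⟨U.ι ''ᵁ V, ⟨z, hzV, rfl⟩, ?_⟩
  haveI : Nonempty ↥(U.ι ''ᵁ V : Scheme.{u}) := ⟨⟨y, ⟨z, hzV, rfl⟩⟩⟩
  exact isIntegral_of_isOpenImmersion ((U.ι.isoImage V).inv)

end Groth.Agent.S4647
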