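import Groth.Statements.S4648
import Groth.Agent.S15542
import Groth.Agent.S3398
import Groth.Agent.H06QFlat.Topo
import Groth.Agent.H7Lim.FlatClosure

set_option autoImplicit false
open CategoryTheory AlgebraicGeometry
universe u
open FDesc

namespace Groth.Agent.S4648

/-- Let f : X → Y be a quasi-flat, surjective and quasi-compact morphism and Z a subset of Y. Then Z is
a locally closed pro-constructible subset of Y if and only if f⁻¹(Z) is a locally closed
pro-constructible subset of X. -/
theorem result {X Y : Scheme.{u}} (f : X ⟶ Y)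
    (hf : FDesc.IsQuasiFlat f) [Surjective f] [QuasiCompact f] (Z : Set ↥Y) :
    (IsLocallyClosed Z ∧ ProCons.IsProConstructible Z) ↔
      (IsLocallyClosed (⇑f ⁻¹' Z) ∧ ProCons.IsProConstructible (⇑f ⁻¹' Z)) := by
  classical
  have hg := H06QFlat.generalizingMap f hf
  constructor
  · rintro ⟨h1, h2⟩
    exact ⟨h1.preimage f.continuous, Groth.Agent.S15542.result f Z h2⟩
  rintro ⟨h1, h2⟩
  have hZ : ProCons.IsProConstructible Z := by
    have h := Groth.Agent.S3398.result f (⇑f ⁻¹' Z) h2
    rwa [Set.image_preimage_eq Z f.surjective] at h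
  refine ⟨?_, hZ⟩
  have hcl : ⇑f ⁻¹' closure Z = closure (⇑f ⁻¹' Z) := by
    refine subset_antisymm (fun p hp => ?_) (f.continuous.closure_preimage_subset Z)
    obtain ⟨e, he, hep⟩ := H7Lim.exists_specializes_of_mem_closure_proCons hZ hp
    obtain ⟨p', hp', hpe⟩ := hg hep
    have hp'Z : f p' ∈ Z := by rw [hpe]; exact he
    exact closure_mono (Set.singleton_subset_iff.2 (show p' ∈ ⇑f ⁻¹' Z from hp'Z)) hp'.mem_closure
  have hC : IsClosed (closure Z \ Z) := by
    rw [← (H06QFlat.isQuotientMap f hg).isClosed_preimage, Set.preimage_sdiff, hcl]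
    have h := isLocallyClosed_iff_isOpen_coborder.mp h1
    rw [coborder, isOpen_compl_iff] at h
    exact h
  rw [isLocallyClosed_iff_isOpen_coborder, coborder, isOpen_compl_iff]
  exact hC

end Groth.Agent.S4648
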