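import Groth.Statements.S4649
import Groth.Agent.H06GeomInt.Components
import Groth.Agent.S4630
import Groth.Agent.S4631

set_option autoImplicit false
open CategoryTheory AlgebraicGeometry
universe u
open FBase

namespace Groth.Agent.S4649

/-- Let X be a scheme of finite type over a field k and Ω an algebraically closed extension field of k.
Then X is geometrically pointwise integral over k (every local ring of every X ⊗_k K is a domain) if
and only if X is geometrically reduced over k and the number of irreducible components of X ⊗_k Ω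
equals the number of connected components of X ⊗_k Ω (the geometric numbers of irreducible and of
connected components agree). -/
theorem result {k Ω : Type u} [Field k] [Field Ω] [Algebra k Ω] [IsAlgClosed Ω]
    {X : Scheme.{u}} (f : X ⟶ Spec (CommRingCat.of k)) [LocallyOfFiniteType f] [QuasiCompact f] :
    (∀ x : X, FBase.IsGeomPtIntegralAt f x) ↔
      (GeometricallyReduced f ∧
        Nat.card ↥(irreducibleComponents ↥(FBase.bc f Ω)) = Nat.card (_root_.ConnectedComponents ↥(FBase.bc f Ω))) := by
  haveI : LocallyOfFiniteType (FBase.bcStr f Ω) :=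
    inferInstanceAs (LocallyOfFiniteType (Limits.pullback.snd f (Spec.map (CommRingCat.ofHom (algebraMap k Ω)))))
  haveI : QuasiCompact (FBase.bcStr f Ω) :=
    inferInstanceAs (QuasiCompact (Limits.pullback.snd f (Spec.map (CommRingCat.ofHom (algebraMap k Ω)))))
  haveI : IsLocallyNoetherian (FBase.bc f Ω) := LocallyOfFiniteType.isLocallyNoetherian (FBase.bcStr f Ω)
  haveI : CompactSpace (FBase.bc f Ω) := QuasiCompact.compactSpace_of_compactSpace (FBase.bcStr f Ω)
  haveI : IsNoetherian (FBase.bc f Ω) := {}
  have hfin : (irreducibleComponents (FBase.bc f Ω)).Finite :=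
    TopologicalSpace.NoetherianSpace.finite_irreducibleComponents
  rw [Groth.Agent.H06GeomInt.card_eq_iff_pairwise hfin]
  constructor
  · intro h
    refine ⟨⟨geometrically_iff_of_isClosedUnderIsomorphisms.2 fun K _ a => ?_⟩, ?_⟩
    · obtain ⟨θ, rfl⟩ := Spec.map_surjective a
      letI : Algebra k K := θ.hom.toAlgebra
      haveI : ∀ z : ↥(FBase.bc f K), _root_.IsReduced ((FBase.bc f K).presheaf.stalk z) := fun z => by
        haveI := h ((FBase.bcπ f K) z) K z rfl
        infer_instance
      exact isReduced_of_isReduced_stalk (FBase.bc f K)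
    · rintro Z hZ Z' hZ' ⟨z, hz, hz'⟩
      exact Groth.Agent.H06GeomInt.component_unique (h ((FBase.bcπ f Ω) z) Ω z rfl) hZ hZ' hz hz'
  · rintro ⟨hred, hd⟩ x
    haveI : IsReduced (FBase.bc f Ω) := hred.geometrically_isReduced _ _ _ (IsPullback.of_hasPullback _ _)
    obtain ⟨x', rfl⟩ : x ∈ Set.range (FBase.bcπ f Ω) := by
      haveI : Surjective (Spec.map (CommRingCat.ofHom (algebraMap k Ω))) :=
        ⟨fun y => ⟨IsLocalRing.closedPoint Ω, Subsingleton.elim (α := PrimeSpectrum k) _ _⟩⟩
      haveI : Surjective (FBase.bcπ f Ω) :=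
        inferInstanceAs (Surjective (Limits.pullback.fst f (Spec.map (CommRingCat.ofHom (algebraMap k Ω)))))
      exact (FBase.bcπ f Ω).surjective x
    rw [Groth.Agent.S4630.result f x', Groth.Agent.S4631.result]
    exact Groth.Agent.H06GeomInt.isDomain_stalk_of_unique fun Z hZ Z' hZ' hz hz' =>
      hd Z hZ Z' hZ' ⟨x', hz, hz'⟩

end Groth.Agent.S4649
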