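import Groth.Statements.S4650
import Groth.Agent.H06Topo.Basic

set_option autoImplicit false
open CategoryTheory AlgebraicGeometry
universe u
open FDesc

namespace Groth.Agent.S4650

/-- Let f : X → Y be a morphism of schemes along which generizations lift (this holds for flat,
quasi-flat or open morphisms). Then every irreducible component of X dominates an irreducible
component of Y: the closure of its image is an irreducible component of Y. -/
theorem result {X Y : Scheme.{u}} (f : X ⟶ Y)
    (hf : GeneralizingMap ⇑f) (T : Set ↥X) (hT : T ∈ irreducibleComponents ↥X) :
    closure (⇑f '' T) ∈ irreducibleComponents ↥Y := by
  exact Groth.Agent.H06Topo.closure_image_irreducibleComponent_mem f.continuous hf hT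

end Groth.Agent.S4650
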