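import Groth.Statements.S4651
import Groth.Agent.H06Topo.Basic

set_option autoImplicit false
open CategoryTheory AlgebraicGeometry
universe u
open FDesc

namespace Groth.Agent.S4651

/-- Let Y be a scheme whose family of irreducible components is locally finite (every point has an open
neighbourhood meeting only finitely many irreducible components), and let f : X → Y be a morphism
along which generizations lift (e.g. flat, quasi-flat or open) such that every fibre f⁻¹(y) is a
finite set (e.g. f quasi-finite or radicial). Then the family of irreducible components of X is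
locally finite. -/
theorem result {X Y : Scheme.{u}} (f : X ⟶ Y)
    (hY : ∀ y : Y, ∃ U : Set ↥Y, IsOpen U ∧ y ∈ U ∧ {Z ∈ irreducibleComponents ↥Y | (Z ∩ U).Nonempty}.Finite)
    (hf : GeneralizingMap ⇑f) (hfin : ∀ y : Y, (⇑f ⁻¹' {y}).Finite) (x : X) :
    ∃ U : Set ↥X, IsOpen U ∧ x ∈ U ∧ {T ∈ irreducibleComponents ↥X | (T ∩ U).Nonempty}.Finite := by
  exact Groth.Agent.H06Topo.irreducibleComponents_locallyFinite f.continuous hf hfin hY x

end Groth.Agent.S4651
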