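import Groth.Statements.S4653
import Groth.Agent.H17.AssFlatSch
import Groth.Agent.H17.SuppTensor
import Groth.Agent.LeadProper.Supp
import Groth.Agent.H29Fitt.PullbackQCoh

set_option autoImplicit false
open CategoryTheory AlgebraicGeometry
universe u
open FDesc

namespace Groth.Agent.S4653

/-- Let f : X → Y be a morphism of schemes, F a quasi-coherent O_X-module of finite type which is flat
over Y, E a quasi-coherent O_Y-module of finite type, and x a point of X with image y. Then x is a
maximal point of the support of f^*E ⊗ F (a point of the support admitting no proper generization in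
it) if and only if y is a maximal point of Supp E and x, viewed in the fibre f⁻¹(y), is a maximal
point of the support of the restriction of F to that fibre. -/
theorem result {X Y : Scheme.{u}} (f : X ⟶ Y) (F : X.Modules) (hF : Coh.IsCoh F)
    (hfl : FlatMod.IsFlatOver f F) (E : Y.Modules) (hE : Coh.IsCoh E) (x : X) :
    (x ∈ CohB1.support (CohB1.tensorMod ((Scheme.Modules.pullback f).obj E) F) ∧
        ∀ z ∈ CohB1.support (CohB1.tensorMod ((Scheme.Modules.pullback f).obj E) F), z ⤳ x → z = x) ↔
      ((f x ∈ CohB1.support E ∧ ∀ w ∈ CohB1.support E, w ⤳ f x → w = f x) ∧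
        (f.asFiber x ∈ CohB1.support ((Scheme.Modules.pullback (f.fiberι (f x))).obj F) ∧
          ∀ z ∈ CohB1.support ((Scheme.Modules.pullback (f.fiberι (f x))).obj F), z ⤳ f.asFiber x → z = f.asFiber x)) := by
  have hT : CohB1.support (CohB1.tensorMod ((Scheme.Modules.pullback f).obj E) F) =
      f ⁻¹' CohB1.support E ∩ CohB1.support F := by
    rw [H17.SuppTensor.support_tensor _ _ (H29Fitt.isFT_pullback f E hE.1 hE.2) hF.2,
      LeadProper.support_pullback E hE.1 hE.2 f]
  have hFib : ∀ v : f.fiber (f x), v ∈ CohB1.support ((Scheme.Modules.pullback (f.fiberι (f x))).obj F) ↔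
      f.fiberι (f x) v ∈ CohB1.support F := fun v =>
    Set.ext_iff.1 (LeadProper.support_pullback F hF.1 hF.2 (f.fiberι (f x))) v
  rw [hT, hFib, f.fiberι_asFiber]
  constructor
  · rintro ⟨⟨hxE, hxF⟩, hmax⟩
    refine ⟨⟨hxE, fun w hw hwx => ?_⟩, hxF, fun v hv hvx => ?_⟩
    · obtain ⟨z, hzx, hfz, hzF⟩ := H17.AssFlat.exists_support_over f F hfl hF.1 hF.2 hxF hwx
      rw [← hfz, hmax z ⟨show f z ∈ CohB1.support E by rw [hfz]; exact hw, hzF⟩ hzx]
    · have h1 : f.fiberι (f x) v ⤳ x := by
        have h := hvx.map (f.fiberι (f x)).continuous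
        rwa [f.fiberι_asFiber] at h
      have hfv : f (f.fiberι (f x) v) = f x := (f.range_fiberι (f x)).subset ⟨v, rfl⟩
      exact (f.fiberι (f x)).isEmbedding.injective ((hmax _ ⟨show f _ ∈ CohB1.support E by rw [hfv]; exact hxE,
        (hFib v).1 hv⟩ h1).trans (f.fiberι_asFiber x).symm)
  · rintro ⟨⟨hxE, hmaxE⟩, hxF, hmaxF⟩
    refine ⟨⟨hxE, hxF⟩, fun z hz hzx => ?_⟩
    have hfz : f z = f x := hmaxE _ hz.1 (hzx.map f.continuous)
    obtain ⟨v, rfl⟩ : z ∈ Set.range (f.fiberι (f x)) := by rw [f.range_fiberι]; exact hfz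
    rw [hmaxF v ((hFib v).2 hz.2) ((f.fiberι _).isEmbedding.isInducing.specializes_iff.1
      (by rw [f.fiberι_asFiber]; exact hzx))]
    exact f.fiberι_asFiber x

end Groth.Agent.S4653
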