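import Groth.Statements.S4654
import Groth.Agent.H06Mod.StalkExact

set_option autoImplicit false
open CategoryTheory AlgebraicGeometry
universe u
open FDesc

namespace Groth.Agent.S4654

/-- Let f : X → Y be a morphism of schemes and 0 → F' → F → F'' → 0 a short exact sequence of
quasi-coherent O_X-modules such that F'' is flat over Y. Then F is flat over Y if and only if F' is
flat over Y. -/
theorem result {X Y : Scheme.{u}} (f : X ⟶ Y) (S : ShortComplex X.Modules)
    (hS : S.ShortExact) (h₁ : Coh.IsQCoh S.X₁) (h₂ : Coh.IsQCoh S.X₂) (h₃ : Coh.IsQCoh S.X₃)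
    (hflat : FlatMod.IsFlatOver f S.X₃) :
    FlatMod.IsFlatOver f S.X₂ ↔ FlatMod.IsFlatOver f S.X₁ := by
  refine forall_congr' fun x => ?_
  letI i₁ := FlatMod.moduleStalkOver f S.X₁ x
  letI i₂ := FlatMod.moduleStalkOver f S.X₂ x
  letI i₃ := FlatMod.moduleStalkOver f S.X₃ x
  let lf : S.X₁.presheaf.stalk x →ₗ[Y.presheaf.stalk (f.base x)] S.X₂.presheaf.stalk x :=
    { toFun := H06Mod.stalkLin S.f x
      map_add' := map_add _
      map_smul' := fun r a => (H06Mod.stalkLin S.f x).map_smul ((f.stalkMap x).hom r) a }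
  let lg : S.X₂.presheaf.stalk x →ₗ[Y.presheaf.stalk (f.base x)] S.X₃.presheaf.stalk x :=
    { toFun := H06Mod.stalkLin S.g x
      map_add' := map_add _
      map_smul' := fun r a => (H06Mod.stalkLin S.g x).map_smul ((f.stalkMap x).hom r) a }
  haveI : Module.Flat (Y.presheaf.stalk (f.base x)) (S.X₃.presheaf.stalk x) := hflat x
  have hi : Function.Injective lf := H06Mod.stalk_injective S hS x
  have hs : Function.Surjective lg := H06Mod.stalk_surjective S hS x
  have he : Function.Exact lf lg := H06Mod.stalk_exact S hS x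
  constructor
  · intro h
    haveI : Module.Flat (Y.presheaf.stalk (f.base x)) (S.X₂.presheaf.stalk x) := h
    exact H8Props.flat_of_exact lf lg hi he hs
  · intro h
    haveI : Module.Flat (Y.presheaf.stalk (f.base x)) (S.X₁.presheaf.stalk x) := h
    exact H06Mod.flat_of_exact_middle lf lg hi he hs

end Groth.Agent.S4654
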