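import Groth.Statements.S4657
import Groth.Agent.H17.StalkTransfer
import Groth.Agent.H17.PrimaryDecomp
-- import your own Groth.Agent.* helpers here

set_option autoImplicit false
open CategoryTheory AlgebraicGeometry
universe u
open AssSch

namespace Groth.Agent.S4657

/-- Let X be a locally Noetherian scheme, U an open subset of X and F a coherent O_X-module such that U
∩ Supp F is dense in Supp F. Then F is a reduced module if and only if its restriction to U is a
reduced module and F has no embedded associated points. -/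
theorem result {X : Scheme.{u}} [IsLocallyNoetherian X] (U : X.Opens) (F : X.Modules)
    (hF : Coh.IsCoh F) (hdense : CohB1.support F ⊆ closure ((U : Set ↥X) ∩ CohB1.support F)) :
    AssSch.IsReducedMod F ↔ AssSch.IsReducedMod ((Scheme.Modules.pullback U.ι).obj F) ∧ AssSch.NoEmbedded F := by
  open Groth.Agent.H17 in
  constructor
  · rintro ⟨hne, hlen⟩
    refine ⟨⟨fun a ha b hb hba => ?_, fun a ha => ?_⟩, hne⟩
    · rw [StalkTransfer.mem_ass_pullback_iff] at ha hb
      exact U.ι.isOpenEmbedding.injective (hne _ ha _ hb (hba.map U.ι.continuous))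
    · rw [StalkTransfer.mem_ass_pullback_iff] at ha
      rw [StalkTransfer.length_stalk_pullback]
      exact hlen _ ha
  · rintro ⟨⟨-, hlen⟩, hne⟩
    refine ⟨hne, fun x hx => ?_⟩
    obtain ⟨W, hxW, hW⟩ := PrimaryDecomp.exists_nhd hF x
    have hsupp : x ∈ CohB1.support F :=
      fun hs => not_subsingleton_iff_nontrivial.mpr (AssPts.nontrivial_stalk_of_ass F hx) hs
    obtain ⟨y, hyW, hyU, hys⟩ := mem_closure_iff.1 (hdense hsupp) W W.2 hxW
    obtain ⟨z, hz, hzy⟩ := AssPts.exists_ass_specializes F hF.1 (y := y) (not_subsingleton_iff_nontrivial.mp hys)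
    have hxz : x = z := hne x hx z hz (hW z hz (hzy.mem_open W.2 hyW))
    have hxU : x ∈ U := hxz ▸ hzy.mem_open U.2 hyU
    have h1 := hlen ⟨x, hxU⟩ ((StalkTransfer.mem_ass_pullback_iff U.ι F ⟨x, hxU⟩).2 hx)
    rwa [StalkTransfer.length_stalk_pullback] at h1

end Groth.Agent.S4657
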