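import Groth.Statements.S4659
import Groth.Agent.H06RedMod.Basic
import Groth.Agent.H06RedMod.GeomRed

set_option autoImplicit false
open CategoryTheory AlgebraicGeometry
universe u
open FBase

namespace Groth.Agent.S4659

/-- Let X be a locally Noetherian scheme over a field k and F a coherent O_X-module. Then F ⊗_k k' is a
reduced module on X ⊗_k k' for every finite purely inseparable extension k' of k if and only if F
⊗_k K is a reduced module on X ⊗_k K for every extension K of k for which X ⊗_k K is locally
Noetherian. (The published statement takes K finitely generated over k, a hypothesis used only to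
make X ⊗_k K locally Noetherian.) -/
theorem result {k : Type u} [Field k] {X : Scheme.{u}} [IsLocallyNoetherian X]
    (f : X ⟶ Spec (CommRingCat.of k)) (F : X.Modules) (hF : Coh.IsCoh F) :
    (∀ (k' : Type u) [Field k'] [Algebra k k'] [FiniteDimensional k k'] [IsPurelyInseparable k k'],
        AssSch.IsReducedMod ((Scheme.Modules.pullback (FBase.bcπ f k')).obj F)) ↔
      ∀ (K : Type u) [Field K] [Algebra k K] [IsLocallyNoetherian (FBase.bc f K)],
        AssSch.IsReducedMod ((Scheme.Modules.pullback (FBase.bcπ f K)).obj F) := by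
  constructor
  · intro h K _ _ _
    refine (Groth.Agent.H06RedMod.isReducedMod_flat_pullback_iff _ F hF).2 fun z hz => ?_
    have hs : ∀ (L : Type u) [Field L] [Algebra k L], z ∈ Set.range (FBase.bcπ f L) := fun L _ _ =>
      (FBase.bcπ f L).surjective z
    obtain ⟨h1, h2, -⟩ := (Groth.Agent.H06RedMod.isReducedMod_flat_pullback_iff (FBase.bcπ f k) F hF).1 (h k) z ⟨hz.1, hs k⟩
    obtain ⟨φ, hφ⟩ := Spec.map_surjective (X.fromSpecResidueField z ≫ f)
    refine ⟨h1, h2, (Groth.Agent.H06RedMod.isReduced_fiber_iff f z φ hφ K).2 ?_⟩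
    letI := φ.hom.toAlgebra
    haveI : Algebra.IsGeometricallyReduced k (X.residueField z) :=
      Groth.Agent.H06RedMod.isGeometricallyReduced_of_forall_purelyInseparable _ fun k' _ _ _ _ =>
        (Groth.Agent.H06RedMod.isReduced_fiber_iff f z φ hφ k').1
          ((Groth.Agent.H06RedMod.isReducedMod_flat_pullback_iff (FBase.bcπ f k') F hF).1 (h k') z ⟨hz.1, hs k'⟩).2.2
    exact Groth.Agent.H06Red.isReduced_tensor k _ K
  · intro h k' _ _ _ _
    haveI := Groth.Agent.H06RedMod.isLocallyNoetherian_bc f k'
    exact h k'

end Groth.Agent.S4659
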