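import Groth.Statements.S4662
import Groth.Agent.H06EGA9.ProductDim

set_option autoImplicit false
open CategoryTheory AlgebraicGeometry
universe u
open FBase

namespace Groth.Agent.S4662

open Groth.Agent.H8Props.FieldDim Groth.Agent.H06EGA9 CategoryTheory.Limits TopologicalSpace Set
set_option backward.isDefEq.respectTransparency false

open CategoryTheory.Limits in
/-- Let X and Y be integral schemes locally of finite type over a field k. Then every irreducible
component of X ×_k Y has dimension dim X + dim Y (Krull dimensions of the underlying spaces, valued
in WithBot ℕ∞). -/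
theorem result {k : Type u} [Field k] {X Y : Scheme.{u}}
    (f : X ⟶ Spec (CommRingCat.of k)) (g : Y ⟶ Spec (CommRingCat.of k)) [IsIntegral X] [IsIntegral Y]
    [LocallyOfFiniteType f] [LocallyOfFiniteType g] (Z : Set ↥(pullback f g))
    (hZ : Z ∈ irreducibleComponents ↥(pullback f g)) :
    topologicalKrullDim ↥Z = topologicalKrullDim ↥X + topologicalKrullDim ↥Y := by
  obtain ⟨z, rfl, hz⟩ := mem_irreducibleComponents_iff hZ
  have hb := IsPullback.of_hasPullback f g
  obtain ⟨hx, hd⟩ := maximal_fst hb z hz
  have hy := maximal_snd hb z hz
  have e1 : pullback.fst f g z = genericPoint X := (hx _ (genericPoint_specializes _)).symm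
  have e2 : pullback.snd f g z = genericPoint Y := (hy _ (genericPoint_specializes _)).symm
  change cdim z = _
  rw [hd, e1, e2]
  have t : ∀ (S : Scheme.{u}) [IsIntegral S], cdim (genericPoint S) = topologicalKrullDim S := fun S _ => by
    unfold cdim
    rw [show closure {genericPoint S} = Set.univ from genericPoint_closure _]
    exact (Homeomorph.Set.univ S).isHomeomorph.topologicalKrullDim_eq
  rw [t, t]

end Groth.Agent.S4662
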