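import Groth.Statements.S4663
import Groth.Agent.H06EGA9.ProductDim

set_option autoImplicit false
open CategoryTheory AlgebraicGeometry
universe u
open FBase

namespace Groth.Agent.S4663

open Groth.Agent.H8Props.FieldDim Groth.Agent.H06EGA9 CategoryTheory.Limits TopologicalSpace Set
set_option backward.isDefEq.respectTransparency false

/-- Let X be a scheme locally of finite type over a field k, K an extension field of k, and Z an
irreducible closed subset of X. Then every irreducible component of the inverse image of Z in X ⊗_k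
K has the same dimension as Z (Krull dimensions of the underlying topological spaces, valued in
WithBot ℕ∞). (In the published statement Z is a cycle associated to a quasi-coherent O_X-module,
with its reduced subscheme structure, and the components are those of Z ⊗_k K; such cycles are
exactly the irreducible closed subsets of X, and Z ⊗_k K has the inverse image of Z as underlying
space.) -/
theorem result {k K : Type u} [Field k] [Field K] [Algebra k K]
    {X : Scheme.{u}} (f : X ⟶ Spec (CommRingCat.of k)) [LocallyOfFiniteType f]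
    (Z : Set ↥X) (hZc : IsClosed Z) (hZi : IsIrreducible Z)
    (W : Set ↥(⇑(FBase.bcπ f K) ⁻¹' Z)) (hW : W ∈ irreducibleComponents ↥(⇑(FBase.bcπ f K) ⁻¹' Z)) :
    topologicalKrullDim ↥W = topologicalKrullDim ↥Z := by
  have hc : IsClosed (⇑(FBase.bcπ f K) ⁻¹' Z) := hZc.preimage (FBase.bcπ f K).continuous
  have hWc := isClosed_of_mem_irreducibleComponents W hW
  have hWi : IsIrreducible (Subtype.val '' W) := hW.1.image _ continuous_subtype_val.continuousOn
  have hWc' : IsClosed (Subtype.val '' W) := hc.isClosedEmbedding_subtypeVal.isClosedMap _ hWc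
  have hw := hWi.closure_genericPoint hWc'
  generalize hWi.genericPoint = w at hw
  have hwS : w ∈ ⇑(FBase.bcπ f K) ⁻¹' Z := by
    obtain ⟨x, -, hx⟩ := hw ▸ subset_closure (mem_singleton w)
    exact hx ▸ x.2
  have hη := hZi.isGenericPoint_genericPoint hZc
  obtain ⟨η', h1, h2, h3⟩ := (baseChange_point (k := k) (K := K) f _ _ (IsPullback.of_hasPullback f _) w).2
    hZi.genericPoint (hη.specializes hwS)
  have hη'S : η' ∈ ⇑(FBase.bcπ f K) ⁻¹' Z := show _ ∈ Z from (Eq.symm h2) ▸ hη.mem
  have hsub : W ⊆ Subtype.val ⁻¹' closure {η'} := fun x hx =>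
    closure_minimal (singleton_subset_iff.mpr h1.mem_closure) isClosed_closure (hw.ge ⟨x, hx, rfl⟩)
  have hirr : IsIrreducible (closure {(⟨η', hη'S⟩ : ↥(⇑(FBase.bcπ f K) ⁻¹' Z))}) :=
    isIrreducible_singleton.closure
  have hcl : closure {(⟨η', hη'S⟩ : ↥(⇑(FBase.bcπ f K) ⁻¹' Z))} = Subtype.val ⁻¹' closure {η'} := by
    rw [Topology.IsEmbedding.subtypeVal.closure_eq_preimage_closure_image, Set.image_singleton]
  rw [hcl] at hirr
  have he : W = Subtype.val ⁻¹' closure {η'} := hW.eq_of_le hirr hsub
  have hd : topologicalKrullDim ↥(Subtype.val '' W) = topologicalKrullDim ↥W := by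
    rw [← dim_range (j := fun x : W => (x.1 : ↥(FBase.bc f K))) (Topology.IsEmbedding.subtypeVal.comp Topology.IsEmbedding.subtypeVal)]
    congr 2 <;> ext <;> simp
  have hwη : Subtype.val '' W = closure {η'} := by
    rw [he, Subtype.image_preimage_coe, inter_eq_right.mpr (closure_minimal (singleton_subset_iff.mpr hη'S) hc)]
  rw [← hd, hwη]
  exact h3.trans (dim_eq_cdim_of_isGenericPoint hη).symm

end Groth.Agent.S4663
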