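import Groth.Statements.S4667
import Groth.Agent.H12AlgSp.SchImage

set_option autoImplicit false
open CategoryTheory AlgebraicGeometry
universe u
open FDesc

namespace Groth.Agent.S4667

open Groth.Agent
set_option backward.isDefEq.respectTransparency false

open CategoryTheory.Limits in
/-- Let f : X → Y be a quasi-compact morphism of schemes and g : Y' → Y a flat morphism, and let f' : X
×_Y Y' → Y' be the base change of f. Then the scheme-theoretic image of f' is the inverse image
under g of the scheme-theoretic image of f: the quasi-coherent ideal sheaf cutting out the former is
the pull-back along g of the one cutting out the latter. (One published statement is phrased for a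
quasi-compact and quasi-separated S-morphism f and a flat base change S′ → S, which reduces to this
case; quasi-compactness of f suffices.) -/
theorem result {X Y Y' : Scheme.{u}} (f : X ⟶ Y) (g : Y' ⟶ Y)
    [QuasiCompact f] [Flat g] :
    (pullback.snd f g).ker = f.ker.comap g := by
  exact (H12AlgSp.comap_ker_of_flat (IsPullback.of_hasPullback f g).flip).symm

end Groth.Agent.S4667
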