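import Groth.Statements.S4672
import Groth.Agent.H06EGA9.ProductDim

set_option autoImplicit false
open CategoryTheory AlgebraicGeometry
universe u
open FBase

namespace Groth.Agent.S4672

open Groth.Agent.H8Props.FieldDim Groth.Agent.H06EGA9 CategoryTheory.Limits TopologicalSpace Set
set_option backward.isDefEq.respectTransparency false

open CategoryTheory.Limits in
/-- Let X and Y be locally Noetherian schemes over a field k such that X ×_k Y is locally Noetherian,
with projections p and q. Then a subset W of X ×_k Y is an irreducible component of X ×_k Y if and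
only if there exist an irreducible component X' of X and an irreducible component Y' of Y such that
W is a maximal irreducible subset of p⁻¹(X') ∩ q⁻¹(Y') (that is, an irreducible component of the
space underlying X' ×_k Y' for the reduced structures on X' and Y'). -/
theorem result {k : Type u} [Field k] {X Y : Scheme.{u}}
    (f : X ⟶ Spec (CommRingCat.of k)) (g : Y ⟶ Spec (CommRingCat.of k)) [IsLocallyNoetherian X]
    [IsLocallyNoetherian Y] [IsLocallyNoetherian (pullback f g)] (W : Set ↥(pullback f g)) :
    W ∈ irreducibleComponents ↥(pullback f g) ↔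
      ∃ X' ∈ irreducibleComponents ↥X, ∃ Y' ∈ irreducibleComponents ↥Y,
        Maximal (fun V : Set ↥(pullback f g) => IsIrreducible V ∧ V ⊆ ⇑(pullback.fst f g) ⁻¹' X' ∩ ⇑(pullback.snd f g) ⁻¹' Y') W := by
  have hb := IsPullback.of_hasPullback f g
  constructor
  · intro hW
    obtain ⟨z, rfl, hz⟩ := mem_irreducibleComponents_iff hW
    refine ⟨closure {pullback.fst f g z}, mem_irreducibleComponents_of_maximal fun η hη => ?_,
      closure {pullback.snd f g z}, mem_irreducibleComponents_of_maximal fun η hη => ?_,
      ⟨⟨isIrreducible_singleton.closure, ?_⟩, fun V hV hle => hW.eq_of_ge hV.1 hle ▸ subset_rfl⟩⟩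
    · obtain ⟨z', h1, h2, -⟩ := exists_generization_mem hb isClosed_univ z trivial η hη
      rw [← h2, hz z' h1]
    · obtain ⟨z', h1, h2, -⟩ := exists_generization_mem hb.flip isClosed_univ z trivial η hη
      rw [← h2, hz z' h1]
    · exact closure_minimal (singleton_subset_iff.mpr ⟨subset_closure rfl, subset_closure rfl⟩)
        ((isClosed_closure.preimage (pullback.fst f g).continuous).inter
          (isClosed_closure.preimage (pullback.snd f g).continuous))
  · rintro ⟨X', hX', Y', hY', ⟨hWi, hWs⟩, hmax⟩
    obtain ⟨a, rfl, ha⟩ := mem_irreducibleComponents_iff hX'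
    obtain ⟨b, rfl, hb'⟩ := mem_irreducibleComponents_iff hY'
    have hTc : IsClosed (⇑(pullback.fst f g) ⁻¹' closure {a} ∩ ⇑(pullback.snd f g) ⁻¹' closure {b}) :=
      (isClosed_closure.preimage (pullback.fst f g).continuous).inter
        (isClosed_closure.preimage (pullback.snd f g).continuous)
    have hWc : W = closure W := (hmax ⟨hWi.closure, closure_minimal hWs hTc⟩ subset_closure).antisymm' subset_closure
    have hz : IsGenericPoint hWi.genericPoint W := by
      rw [isGenericPoint_def, hWi.closure_genericPoint (hWc ▸ isClosed_closure)]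
    generalize hWi.genericPoint = z at hz
    have hzT := hWs hz.mem
    have hzmax : ∀ z', z' ∈ ⇑(pullback.fst f g) ⁻¹' closure {a} ∩ ⇑(pullback.snd f g) ⁻¹' closure {b} →
        z' ⤳ z → z' = z := fun z' hz'T hz' => by
      have hsub : W ⊆ closure {z'} := hz.def ▸ closure_minimal (singleton_subset_iff.mpr hz'.mem_closure) isClosed_closure
      have he := subset_antisymm hsub (hmax ⟨isIrreducible_singleton.closure,
        closure_minimal (singleton_subset_iff.mpr hz'T) hTc⟩ hsub)
      exact IsGenericPoint.eq (show IsGenericPoint z' W from he.symm) hz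
    have e1 : pullback.fst f g z = a := by
      obtain ⟨z', h1, h2, h3⟩ := exists_generization_mem hb isClosed_closure z hzT.2 a (specializes_iff_mem_closure.mpr hzT.1)
      rw [← h2, hzmax z' ⟨show pullback.fst f g z' ∈ closure {a} from h2.symm ▸ subset_closure rfl, h3⟩ h1]
    have e2 : pullback.snd f g z = b := by
      obtain ⟨z', h1, h2, h3⟩ := exists_generization_mem hb.flip isClosed_closure z hzT.1 b (specializes_iff_mem_closure.mpr hzT.2)
      rw [← h2, hzmax z' ⟨h3, show pullback.snd f g z' ∈ closure {b} from h2.symm ▸ subset_closure rfl⟩ h1]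
    rw [← hz.def]
    refine mem_irreducibleComponents_of_maximal fun z' hz' => hzmax z' ⟨?_, ?_⟩ hz'
    · show pullback.fst f g z' ∈ closure {a}
      rw [ha (pullback.fst f g z') (e1 ▸ hz'.map (pullback.fst f g).continuous)]; exact subset_closure rfl
    · show pullback.snd f g z' ∈ closure {b}
      rw [hb' (pullback.snd f g z') (e2 ▸ hz'.map (pullback.snd f g).continuous)]; exact subset_closure rfl

end Groth.Agent.S4672
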