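import Groth.Statements.S4673
import Groth.Agent.H06EGA9.ProductDim

set_option autoImplicit false
open CategoryTheory AlgebraicGeometry
universe u
open FBase

namespace Groth.Agent.S4673

open Groth.Agent.H8Props.FieldDim Groth.Agent.H06EGA9 CategoryTheory.Limits TopologicalSpace Set
set_option backward.isDefEq.respectTransparency false

/-- Let X be a scheme locally of finite type over a field k and K an extension field of k. Then the set
of dimensions of the irreducible components of X ⊗_k K is equal to the set of dimensions of the
irreducible components of X (Krull dimensions of the underlying spaces, valued in WithBot ℕ∞). -/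
theorem result {k K : Type u} [Field k] [Field K] [Algebra k K]
    {X : Scheme.{u}} (f : X ⟶ Spec (CommRingCat.of k)) [LocallyOfFiniteType f] :
    (fun Z : Set ↥(FBase.bc f K) => topologicalKrullDim ↥Z) '' irreducibleComponents ↥(FBase.bc f K) =
      (fun Z : Set ↥X => topologicalKrullDim ↥Z) '' irreducibleComponents ↥X := by
  have hb := IsPullback.of_hasPullback f (Spec.map (CommRingCat.ofHom (algebraMap k K)))
  ext d
  constructor
  · rintro ⟨W, hW, rfl⟩
    obtain ⟨w, rfl, hw⟩ := mem_irreducibleComponents_iff hW
    obtain ⟨η, hη, hηc⟩ := exists_component_generization (FBase.bcπ f K w)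
    obtain ⟨w', h1, -, h3⟩ := (baseChange_point (k := k) (K := K) f _ _ hb w).2 η hη
    exact ⟨_, hηc, h3.symm.trans (congrArg cdim (hw w' h1))⟩
  · rintro ⟨T, hT, rfl⟩
    obtain ⟨η, rfl, hη⟩ := mem_irreducibleComponents_iff hT
    haveI : Surjective (Spec.map (CommRingCat.ofHom (algebraMap k K))) :=
      ⟨Function.surjective_to_subsingleton (α := PrimeSpectrum K) (β := PrimeSpectrum k) _⟩
    haveI : Surjective (FBase.bcπ f K) := MorphismProperty.of_isPullback hb.flip ‹_›
    obtain ⟨v, hv⟩ := (FBase.bcπ f K).surjective η
    obtain ⟨w, hwv, hwc⟩ := exists_component_generization v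
    have e : FBase.bcπ f K w = η := hη _ (hv ▸ hwv.map (FBase.bcπ f K).continuous)
    obtain ⟨w', h1, -, h3⟩ := (baseChange_point (k := k) (K := K) f _ _ hb w).2 η
      (show η ⤳ FBase.bcπ f K w from e ▸ specializes_rfl)
    refine ⟨_, hwc, ?_⟩
    obtain rfl : w' = w := eq_of_specializes_of_component hwc isGenericPoint_closure h1
    exact h3

end Groth.Agent.S4673
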