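import Groth.Statements.S4674


set_option autoImplicit false
open scoped TensorProduct
universe u v w
open FDesc

namespace Groth.Agent.S4674

/-- Let B be a flat A-algebra and M a finitely presented A-module. Then the annihilator of the B-module
B ⊗_A M is the ideal of B generated by the image of the annihilator of M. -/
theorem result {A : Type u} {B : Type v} [CommRing A] [CommRing B] [Algebra A B]
    [Module.Flat A B] (M : Type w) [AddCommGroup M] [Module A M] [Module.FinitePresentation A M] :
    Module.annihilator B (B ⊗[A] M) = (Module.annihilator A M).map (algebraMap A B) := by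
  classical
  obtain ⟨n, g, hg⟩ := Module.Finite.exists_fin (R := A) (M := M)
  let φ : A →ₗ[A] (Fin n → M) := LinearMap.pi fun i => LinearMap.toSpanSingleton A M (g i)
  have hker : LinearMap.ker φ = Module.annihilator A M := by
    ext a
    rw [LinearMap.mem_ker, Module.mem_annihilator]
    constructor
    · intro h m
      have hm : m ∈ Submodule.span A (Set.range g) := by rw [hg]; trivial
      induction hm using Submodule.span_induction with
      | mem x hx => obtain ⟨i, rfl⟩ := hx; exact congrFun h i
      | zero => simp
      | add x y _ _ hx hy => rw [smul_add, hx, hy, add_zero]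
      | smul c x _ hx => rw [smul_comm, hx, smul_zero]
    · intro h; funext i; exact h (g i)
  apply le_antisymm
  · intro b hb
    rw [Module.mem_annihilator] at hb
    have h1 : LinearMap.lTensor B φ (b ⊗ₜ[A] 1) = 0 := by
      apply (TensorProduct.piRight A A B (fun _ : Fin n => M)).injective
      rw [map_zero]
      funext i
      have : φ 1 i = g i := one_smul A (g i)
      simp only [LinearMap.lTensor_tmul, TensorProduct.piRight_apply, TensorProduct.piRightHom_tmul,
        Pi.zero_apply, this]
      have := hb ((1 : B) ⊗ₜ[A] g i)
      simpa [TensorProduct.smul_tmul'] using this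
    have hex := Module.Flat.lTensor_exact B (LinearMap.exact_subtype_ker_map φ)
    obtain ⟨t, ht⟩ := (hex _).1 h1
    have hb2 : b = TensorProduct.rid A B (b ⊗ₜ[A] (1 : A)) := by simp
    rw [hb2, ← ht]
    clear ht
    induction t using TensorProduct.induction_on with
    | zero => simp
    | tmul c k =>
      simp only [LinearMap.lTensor_tmul, Submodule.subtype_apply, TensorProduct.rid_tmul,
        Algebra.smul_def]
      exact Ideal.mul_mem_right _ _ (Ideal.mem_map_of_mem _ (hker ▸ k.2))
    | add x y hx hy => rw [map_add, map_add]; exact add_mem hx hy
  · rw [Ideal.map_le_iff_le_comap]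
    intro a ha
    rw [Ideal.mem_comap, Module.mem_annihilator]
    intro t
    rw [algebraMap_smul]
    rw [Module.mem_annihilator] at ha
    induction t using TensorProduct.induction_on with
    | zero => simp
    | tmul c m => rw [← TensorProduct.tmul_smul, ha, TensorProduct.tmul_zero]
    | add x y hx hy => rw [smul_add, hx, hy, add_zero]

end Groth.Agent.S4674
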