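import Mathlib
import Groth.Statements.S4675


set_option autoImplicit false
universe u v
open FDesc

namespace Groth.Agent.S4675

/-- Let B be a ring, not necessarily commutative, and V, W two left B-modules which are isomorphic. For
a B-linear map u : V → W the following are equivalent: every B-linear map V → W can be written
uniquely as u ∘ c with c a B-linear endomorphism of V (that is, u is a basis of Hom_B(V, W) for its
right module structure over End_B(V)); u is bijective. -/
theorem result {B : Type u} [Ring B] {V W : Type v} [AddCommGroup V] [AddCommGroup W]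
    [Module B V] [Module B W] (e : V ≃ₗ[B] W) (u : V →ₗ[B] W) :
    (∀ v : V →ₗ[B] W, ∃! c : V →ₗ[B] V, v = u ∘ₗ c) ↔ Function.Bijective u := by
  constructor
  · intro h
    obtain ⟨c₀, hc₀, -⟩ := h e.toLinearMap
    have hs : ∀ w, u (c₀ (e.symm w)) = w := fun w => by
      simpa using (LinearMap.congr_fun hc₀ (e.symm w)).symm
    refine ⟨fun a b hab => ?_, fun w => ⟨_, hs w⟩⟩
    obtain ⟨c, hc, huniq⟩ := h 0
    have h1 : LinearMap.id - c₀ ∘ₗ e.symm.toLinearMap ∘ₗ u = c :=
      huniq _ (by ext v; simp [hs])
    have h2 : (0 : V →ₗ[B] V) = c := huniq _ (by simp)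
    have key : ∀ v, v = c₀ (e.symm (u v)) := fun v => by
      have := LinearMap.congr_fun (h1.trans h2.symm) v
      simpa [sub_eq_zero] using this
    rw [key a, key b, hab]
  · intro hu v
    refine ⟨(LinearEquiv.ofBijective u hu).symm.toLinearMap ∘ₗ v, ?_, fun c hc => ?_⟩
    · ext x; simp
    · subst hc; ext x; simp

end Groth.Agent.S4675
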