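import Groth.Statements.S4677
import Groth.Agent.H05EGA4.PerfArt

set_option autoImplicit false
open scoped TensorProduct
universe u
open FBase

open Groth.Agent

namespace Groth.Agent.S4677

/-- Let K be a finitely generated extension field of a field k. Then there exists a finite purely
inseparable extension k' of k such that, for every maximal ideal m of the ring k' ⊗_k K, the residue
field (k' ⊗_k K)/m is geometrically reduced over k' (a separable, not necessarily algebraic,
extension of k'). -/
theorem result {k K : Type u} [Field k] [Field K] [Algebra k K]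
    [Algebra.EssFiniteType k K] :
    ∃ (k' : Type u) (_ : Field k') (_ : Algebra k k'), FiniteDimensional k k' ∧ IsPurelyInseparable k k' ∧
      ∀ (m : Ideal (k' ⊗[k] K)), m.IsMaximal → Algebra.IsGeometricallyReduced k' ((k' ⊗[k] K) ⧸ m) := by
  obtain ⟨q, hq⟩ := CharP.exists k
  rcases CharP.char_is_prime_or_zero k q with hp | h0
  · haveI := Fact.mk hp
    haveI : ExpChar k q := ExpChar.prime hp
    let P := perfectClosure k (AlgebraicClosure k)
    haveI : CharP (AlgebraicClosure k) q := charP_of_injective_algebraMap (algebraMap k _).injective q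
    haveI : ExpChar (AlgebraicClosure k) q := ExpChar.prime hp
    haveI : IsPurelyInseparable k P := perfectClosure.isPurelyInseparable k (AlgebraicClosure k)
    haveI : IsPRadical (algebraMap k P) q := IsPurelyInseparable.isPRadical k P q
    haveI : CharP P q := charP_of_injective_algebraMap (algebraMap k P).injective q
    haveI : ExpChar P q := ExpChar.prime hp
    haveI : PerfectRing P q := inferInstance
    have hu : ∀ (E : Type u) [Field E] [Algebra k E] [IsPRadical (algebraMap k E) q] (z : E ⊗[k] K),
        z ∈ nilradical (E ⊗[k] K) ∨ IsUnit z := by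
      intro E _ _ _ z
      obtain ⟨n, a, ha⟩ := H05EGA4.PerfArt.exists_pow_mem q k K E z
      by_cases ha0 : a = 0
      · exact Or.inl (mem_nilradical.mpr ⟨q ^ n, by rw [ha, ha0, TensorProduct.tmul_zero]⟩)
      · refine Or.inr ((isUnit_pow_iff (pow_ne_zero n hp.ne_zero)).1 ?_)
        rw [ha]
        exact (isUnit_iff_ne_zero.2 ha0).map (Algebra.TensorProduct.includeRight : K →ₐ[k] E ⊗[k] K)
    haveI : Algebra.EssFiniteType P (P ⊗[k] K) := inferInstance
    haveI : IsNoetherianRing (P ⊗[k] K) := Algebra.EssFiniteType.isNoetherianRing P (P ⊗[k] K)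
    have hart : IsArtinianRing (P ⊗[k] K) :=
      H05EGA4.PerfArt.isArtinianRing_of_fg _ _ (IsNoetherian.noetherian _) le_rfl (hu P)
    obtain ⟨k', _, _, hfin, hpi, hgr⟩ := H05EGA4.PerfArt.forward q k K P hart
    haveI := hpi
    haveI : IsPRadical (algebraMap k k') q := IsPurelyInseparable.isPRadical k k' q
    refine ⟨k', inferInstance, inferInstance, hfin, hpi, fun m hm => ?_⟩
    have : m = nilradical (k' ⊗[k] K) := le_antisymm
      (fun z hz => (hu k' z).resolve_right fun h => hm.ne_top (m.eq_top_of_isUnit_mem hz h))
      (haveI := hm.isPrime; nilradical_le_prime m)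
    subst this
    exact hgr
  · subst h0
    haveI : CharZero k := CharP.charP_to_charZero k
    refine ⟨k, inferInstance, inferInstance, inferInstance, inferInstance, fun m hm => ?_⟩
    haveI := hm.isPrime
    exact H06Red.isGeometricallyReduced_of_perfectField k ((k ⊗[k] K) ⧸ m)

end Groth.Agent.S4677
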