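import Groth.Statements.S4681
import Groth.Agent.H7Flat.FibreCriterion

set_option autoImplicit false
open CategoryTheory AlgebraicGeometry
universe u
open FDesc

namespace Groth.Agent.S4681

/-- Let f : X → Y and g : Y → Z be morphisms of schemes and F a quasi-coherent O_X-module which is
faithfully flat relative to Y: flat over Y, and for every point y of Y there is a point x over y
with F_x ⊗ κ(y) ≠ 0. Then g is flat and surjective (faithfully flat) if and only if F is faithfully
flat relative to Z for the morphism f followed by g: flat over Z, and for every point z of Z there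
is a point x of X over z with F_x ⊗ κ(z) ≠ 0. -/
theorem result {X Y Z : Scheme.{u}} (f : X ⟶ Y) (g : Y ⟶ Z)
    (F : X.Modules) (hF : Coh.IsQCoh F) (hFfl : FlatMod.IsFlatOver f F)
    (hFff : (∀ y : ↥Y, ∃ x : ↥X, f x = y ∧
      letI := FlatMod.moduleStalkOver f F x
      IsLocalRing.maximalIdeal (Y.presheaf.stalk (f x)) • (⊤ : Submodule (Y.presheaf.stalk (f x)) (F.presheaf.stalk x)) ≠ ⊤)) :
    (Flat g ∧ Surjective g) ↔
      (FlatMod.IsFlatOver (f ≫ g) F ∧
        (∀ z : ↥Z, ∃ x : ↥X, (f ≫ g) x = z ∧
      letI := FlatMod.moduleStalkOver (f ≫ g) F x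
      IsLocalRing.maximalIdeal (Z.presheaf.stalk ((f ≫ g) x)) • (⊤ : Submodule (Z.presheaf.stalk ((f ≫ g) x)) (F.presheaf.stalk x)) ≠ ⊤)) := by
  open IsLocalRing in
  have key : ∀ x : X,
      letI := FlatMod.moduleStalkOver f F x
      maximalIdeal (Y.presheaf.stalk (f x)) • (⊤ : Submodule (Y.presheaf.stalk (f x)) (F.presheaf.stalk x)) ≠ ⊤ →
      Module.FaithfullyFlat (Y.presheaf.stalk (f x)) (F.presheaf.stalk x) := by
    intro x
    letI := FlatMod.moduleStalkOver f F x
    intro hx
    haveI : Module.Flat (Y.presheaf.stalk (f x)) (F.presheaf.stalk x) := hFfl x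
    exact { submodule_ne_top := fun {m} hm => by rw [IsLocalRing.eq_maximalIdeal hm]; exact hx }
  constructor
  · rintro ⟨hg, hs⟩
    have hfl : FlatMod.IsFlatOver (f ≫ g) F := fun x => by
      letI := FlatMod.moduleStalkOver f F x
      letI : Algebra (Z.presheaf.stalk (g (f x))) (Y.presheaf.stalk (f x)) :=
        (g.stalkMap (f x)).hom.toAlgebra
      letI : Module (Z.presheaf.stalk (g (f x))) (F.presheaf.stalk x) :=
        FlatMod.moduleStalkOver (f ≫ g) F x
      haveI : IsScalarTower (Z.presheaf.stalk (g (f x))) (Y.presheaf.stalk (f x)) (F.presheaf.stalk x) :=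
        .of_algebraMap_smul fun r a => by
          show (f.stalkMap x).hom ((g.stalkMap (f x)).hom r) • a = ((f ≫ g).stalkMap x).hom r • a
          rw [Scheme.Hom.stalkMap_comp]
          rfl
      haveI : Module.Flat (Y.presheaf.stalk (f x)) (F.presheaf.stalk x) := hFfl x
      haveI : Module.Flat (Z.presheaf.stalk (g (f x))) (Y.presheaf.stalk (f x)) := Flat.stalkMap g (f x)
      exact Module.Flat.trans (Z.presheaf.stalk (g (f x))) (Y.presheaf.stalk (f x)) (F.presheaf.stalk x)
    refine ⟨hfl, fun z => ?_⟩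
    obtain ⟨y, rfl⟩ := g.surjective z
    obtain ⟨x, rfl, hx⟩ := hFff y
    refine ⟨x, rfl, fun htop => hx ?_⟩
    letI := FlatMod.moduleStalkOver f F x
    letI := FlatMod.moduleStalkOver (f ≫ g) F x
    refine eq_top_iff.mpr fun a _ => ?_
    have ha : a ∈ maximalIdeal (Z.presheaf.stalk ((f ≫ g) x)) •
        (⊤ : Submodule (Z.presheaf.stalk ((f ≫ g) x)) (F.presheaf.stalk x)) := by
      rw [htop]; exact Submodule.mem_top
    refine Submodule.smul_induction_on ha (fun r hr b _ => ?_) (fun _ _ => add_mem)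
    show ((f ≫ g).stalkMap x).hom r • b ∈ _
    rw [Scheme.Hom.stalkMap_comp]
    exact Submodule.smul_mem_smul (r := (g.stalkMap (f x)).hom r)
      (map_nonunit (g.stalkMap (f x)).hom r hr) Submodule.mem_top
  · rintro ⟨hfl, hff⟩
    refine ⟨Flat.of_stalkMap g fun y => ?_, ⟨fun z => ?_⟩⟩
    · obtain ⟨x, rfl, hx⟩ := hFff y
      letI := FlatMod.moduleStalkOver f F x
      letI : Algebra (Z.presheaf.stalk (g (f x))) (Y.presheaf.stalk (f x)) :=
        (g.stalkMap (f x)).hom.toAlgebra
      letI : Module (Z.presheaf.stalk (g (f x))) (F.presheaf.stalk x) :=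
        FlatMod.moduleStalkOver (f ≫ g) F x
      haveI : IsScalarTower (Z.presheaf.stalk (g (f x))) (Y.presheaf.stalk (f x)) (F.presheaf.stalk x) :=
        .of_algebraMap_smul fun r a => by
          show (f.stalkMap x).hom ((g.stalkMap (f x)).hom r) • a = ((f ≫ g).stalkMap x).hom r • a
          rw [Scheme.Hom.stalkMap_comp]
          rfl
      haveI : Module.FaithfullyFlat (Y.presheaf.stalk (f x)) (F.presheaf.stalk x) := key x hx
      haveI : Module.Flat (Z.presheaf.stalk (g (f x))) (F.presheaf.stalk x) := hfl x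
      exact H7Flat.flat_of_faithfullyFlat (R := Z.presheaf.stalk (g (f x)))
        (S := Y.presheaf.stalk (f x)) (M := F.presheaf.stalk x)
    · obtain ⟨x, hx, -⟩ := hff z
      exact ⟨f x, hx⟩

end Groth.Agent.S4681
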