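import Groth.Statements.S4682
import Groth.Agent.H06Red.Scheme
import Groth.Agent.H17.Reduced

set_option autoImplicit false
open CategoryTheory AlgebraicGeometry
universe u
open FBase

namespace Groth.Agent.S4682

set_option linter.style.haveILetI false
set_option backward.isDefEq.respectTransparency false

/-- Let Y be a scheme over a field K', let K be an extension field of K' which is separable over K'
(Spec K → Spec K' is geometrically reduced), let g : Y ⊗_{K'} K → Y be the projection and T a closed
subset of Y ⊗_{K'} K. Then T is defined over K' as a closed subset, that is T = g⁻¹(T') for some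
closed subset T' of Y, if and only if the reduced closed subscheme of Y ⊗_{K'} K with support T is
defined over K', that is, there is a quasi-coherent ideal sheaf of O_Y whose inverse image in Y
⊗_{K'} K is the vanishing ideal sheaf of T. -/
theorem result {K' K : Type u} [Field K'] [Field K] [Algebra K' K]
    {Y : Scheme.{u}} (fY : Y ⟶ Spec (CommRingCat.of K'))
    [GeometricallyReduced (Spec.map (CommRingCat.ofHom (algebraMap K' K)))]
    (T : TopologicalSpace.Closeds ↥(FBase.bc fY K)) :
    (∃ T' : TopologicalSpace.Closeds ↥Y, (T : Set ↥(FBase.bc fY K)) = ⇑(FBase.bcπ fY K) ⁻¹' (T' : Set ↥Y)) ↔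
      ∃ J : Y.IdealSheafData, J.comap (FBase.bcπ fY K) = Scheme.IdealSheafData.vanishingIdeal T := by
  let p := FBase.bcπ fY K
  constructor
  · rintro ⟨T', hT'⟩
    refine ⟨Scheme.IdealSheafData.vanishingIdeal T', ?_⟩
    let J := Scheme.IdealSheafData.vanishingIdeal T'
    haveI := H17.isReduced_vanishingIdeal_subscheme T'
    haveI : AlgebraicGeometry.IsReduced (Limits.pullback (J.subschemeι ≫ fY)
        (Spec.map (CommRingCat.ofHom (algebraMap K' K)))) := H06Red.isReduced_pullback _ _
    let e := J.comapIso p ≪≫ Limits.pullbackSymmetry p J.subschemeι ≪≫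
      Limits.pullbackRightPullbackFstIso fY (Spec.map (CommRingCat.ofHom (algebraMap K' K))) J.subschemeι
    haveI : AlgebraicGeometry.IsReduced (J.comap p).subscheme := isReduced_of_isOpenImmersion e.hom
    have h1 : (J.comap p).support = T := by
      rw [Scheme.IdealSheafData.support_comap]
      refine TopologicalSpace.Closeds.ext ?_
      rw [TopologicalSpace.Closeds.coe_preimage, Scheme.IdealSheafData.coe_support_vanishingIdeal]
      exact hT'.symm
    have h2 : (J.comap p).radical = J.comap p :=
      Scheme.IdealSheafData.ext (funext fun U => ((H17.isReduced_subscheme_iff _).mp ‹_› U).radical)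
    rw [← h1, Scheme.IdealSheafData.vanishingIdeal_support, h2]
  · rintro ⟨J, hJ⟩
    refine ⟨J.support, ?_⟩
    have h := congrArg (fun I => (Scheme.IdealSheafData.support I : Set ↥(FBase.bc fY K))) hJ
    simp only [Scheme.IdealSheafData.support_comap, Scheme.IdealSheafData.coe_support_vanishingIdeal,
      TopologicalSpace.Closeds.coe_preimage] at h
    exact h.symm

end Groth.Agent.S4682
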