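import Groth.Statements.S4686
import Groth.Agent.H06LenBC.Square

set_option autoImplicit false
open CategoryTheory AlgebraicGeometry
universe u
open FBase

namespace Groth.Agent.S4686

open CategoryTheory.Limits in
/-- Let X be an integral locally Noetherian scheme over a field k, k′ an extension field of k such that
X′ = X ⊗_k k′ is locally Noetherian, and k″ an extension field of k′; put X″ = X′ ⊗_{k′} k″ and Z″ =
(X′)_red ⊗_{k′} k″, with its canonical closed immersion j : Z″ → X″ (a homeomorphism). Let x″ be a
maximal point of X″ (the generic point of an irreducible component), x′ its image in X′ and z″ the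
point of Z″ with j(z″) = x″. Then length(O_{X″,x″}) = length(O_{X′,x′}) · length(O_{Z″,z″}), each
local ring being measured as a module over itself, with values in ℕ∞. -/
theorem result {k k' k'' : Type u} [Field k] [Field k'] [Field k''] [Algebra k k']
    [Algebra k' k''] {X : Scheme.{u}} (f : X ⟶ Spec (CommRingCat.of k)) [IsIntegral X] [IsLocallyNoetherian X]
    [IsLocallyNoetherian (FBase.bc f k')] (x'' : ↥(FBase.bc (FBase.bcStr f k') k''))
    (hx'' : ∀ z : ↥(FBase.bc (FBase.bcStr f k') k''), z ⤳ x'' → z = x'')
    (z'' : ↥(FBase.bc ((FBase.bc f k').nilradical.subschemeι ≫ FBase.bcStr f k') k''))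
    (hz'' : pullback.map ((FBase.bc f k').nilradical.subschemeι ≫ FBase.bcStr f k')
        (Spec.map (CommRingCat.ofHom (algebraMap k' k''))) (FBase.bcStr f k')
        (Spec.map (CommRingCat.ofHom (algebraMap k' k''))) (FBase.bc f k').nilradical.subschemeι (𝟙 _) (𝟙 _)
        (Category.comp_id _) ((Category.comp_id _).trans (Category.id_comp _).symm) z'' = x'') :
    Module.length ((FBase.bc (FBase.bcStr f k') k'').presheaf.stalk x'') ((FBase.bc (FBase.bcStr f k') k'').presheaf.stalk x'') =
      Module.length ((FBase.bc f k').presheaf.stalk (FBase.bcπ (FBase.bcStr f k') k'' x''))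
          ((FBase.bc f k').presheaf.stalk (FBase.bcπ (FBase.bcStr f k') k'' x'')) *
        Module.length ((FBase.bc ((FBase.bc f k').nilradical.subschemeι ≫ FBase.bcStr f k') k'').presheaf.stalk z'')
          ((FBase.bc ((FBase.bc f k').nilradical.subschemeι ≫ FBase.bcStr f k') k'').presheaf.stalk z'') := by
  subst hz''
  haveI : Flat (FBase.bcπ (FBase.bcStr f k') k'') := by
    haveI : Flat (Spec.map (CommRingCat.ofHom (algebraMap k' k''))) := by
      rw [HasRingHomProperty.Spec_iff (P := @Flat)]
      exact RingHom.flat_algebraMap_iff.2 inferInstance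
    exact MorphismProperty.pullback_fst _ _ inferInstance
  exact Groth.Agent.H06LenBC.length_stalk (π := FBase.bcπ (FBase.bcStr f k') k'')
    (Groth.Agent.H06LenBC.isPullback_red (FBase.bcStr f k') _) z'' hx''

end Groth.Agent.S4686
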