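import Groth.Statements.S4689
import Groth.Agent.H05EGA4.Ratliff
import Groth.Agent.S2632

set_option autoImplicit false
universe u
open EGA4

open IsLocalRing Groth.Agent Groth.Agent.H05EGA4

namespace Groth.Agent.S4689

/-- Let A be a universally catenary Noetherian local domain and B a domain containing A which is a
finite A-algebra. Then for every maximal ideal n of B the local ring B_n has the same Krull
dimension as A. -/
theorem result (A B : Type u) [CommRing A] [IsDomain A]
    [IsNoetherianRing A] [IsLocalRing A] (hA : CAlg.IsUniversallyCatenary A) [CommRing B] [IsDomain B]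
    [Algebra A B] [FaithfulSMul A B] [Module.Finite A B] (n : Ideal B) [n.IsMaximal] :
    ringKrullDim (Localization.AtPrime n) = ringKrullDim A := by
  have : Algebra.IsIntegral A B := Algebra.IsIntegral.of_finite A B
  rw [IsLocalization.AtPrime.ringKrullDim_eq_height n, height_eq_of_finite_extension hA n,
    IsLocalRing.eq_maximalIdeal (Ideal.isMaximal_comap_of_isIntegral_of_isMaximal n),
    maximalIdeal_height_eq_ringKrullDim]


end Groth.Agent.S4689
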