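import Groth.Statements.S4693
import Mathlib
import Groth.Agent.S2598
import Groth.Agent.H05EGA4.DimLocal
import Groth.Agent.H4Depth.CM

set_option autoImplicit false
universe u
open EGA4

open Groth.Agent Groth.Agent.H05EGA4 IsLocalRing
open scoped TensorProduct

namespace Groth.Agent.S4693

/-- Let A → B be a local homomorphism of Noetherian local rings such that the closed fibre ring B/m_A B
has Krull dimension 0 (that is, m_A B is an ideal of definition of B). Then dim B ≤ dim A. If
moreover some finite B-module which is flat over A has support equal to all of Spec B (for instance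
if B is flat over A), then dim B = dim A. -/
theorem result (A B : Type u) [CommRing A] [CommRing B] [IsNoetherianRing A]
    [IsNoetherianRing B] [IsLocalRing A] [IsLocalRing B] [Algebra A B] [IsLocalHom (algebraMap A B)]
    (h0 : ringKrullDim (EGA4.FibRing A B) = 0) :
    ringKrullDim B ≤ ringKrullDim A ∧
      (∀ (N : Type u) [AddCommGroup N] [Module B N] [Module A N] [IsScalarTower A B N] [Module.Finite B N]
          [Module.Flat A N], Module.support B N = Set.univ → ringKrullDim B = ringKrullDim A) := by
  have hle : ringKrullDim B ≤ ringKrullDim A := by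
    refine (dimLocalHom A B).trans ?_
    rw [show ringKrullDim (B ⧸ (maximalIdeal A).map (algebraMap A B)) = 0 from h0, add_zero]
  refine ⟨hle, fun N _ _ _ _ _ _ hsupp => le_antisymm hle ?_⟩
  haveI : Nontrivial N := by
    rw [← not_subsingleton_iff_nontrivial]
    intro h
    rw [Module.support_eq_empty] at hsupp
    exact Set.empty_ne_univ hsupp
  have h := S2598.result A B A N
  have hN : Module.supportDim B (N ⊗[A] A) = ringKrullDim B := by
    rw [Module.supportDim_eq_of_equiv (TensorProduct.AlgebraTensorModule.rid A B N), ← Module.supportDim_self_eq_ringKrullDim (R := B)]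
    have hB : Module.support B B = Set.univ := by
      rw [Module.support_eq_zeroLocus, Module.annihilator_eq_bot.mpr inferInstance]
      exact PrimeSpectrum.zeroLocus_bot
    show Order.krullDim _ = Order.krullDim _
    rw [hsupp, hB]
  rw [hN, Module.supportDim_self_eq_ringKrullDim] at h
  haveI : Nontrivial (EGA4.FibMod A B N) := Submodule.Quotient.nontrivial_iff.mpr
    (Submodule.top_ne_ideal_smul_of_le_jacobson_annihilator
      ((map_maximalIdeal_le _).trans (maximalIdeal_le_jacobson _))).symm
  rw [h]
  obtain ⟨f, hf⟩ := H4Depth.exists_nat_supportDim_eq (R := B) (M := EGA4.FibMod A B N)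
  rw [hf]
  exact le_add_of_nonneg_right (Nat.cast_nonneg' f)

end Groth.Agent.S4693
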