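import Groth.Statements.S4694
import Mathlib
import Groth.Agent.H1CAlg.FlatDepthModule
import Groth.Agent.H05EGA4.SemilocalCompletion
import Groth.Agent.H4Depth.CM

set_option autoImplicit false
universe u
open EGA4

open Groth.Agent Groth.Agent.H05EGA4 IsLocalRing
open scoped TensorProduct Pointwise

namespace Groth.Agent.S4694


open TensorProduct in
/-- Let A → B be a local homomorphism of Noetherian local rings, M a finite A-module and N a nonzero
finite B-module, flat over A, whose closed-fibre module N/m_A N has finite length. Then the depth of
the B-module N ⊗_A M equals the depth of the A-module M. (The companion equality of codepths in the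
published item is not restated.) -/
theorem result {A B M N : Type u} [CommRing A] [CommRing B]
    [IsNoetherianRing A] [IsNoetherianRing B] [IsLocalRing A] [IsLocalRing B] [Algebra A B]
    [IsLocalHom (algebraMap A B)] [AddCommGroup M] [Module A M] [Module.Finite A M]
    [AddCommGroup N] [Module B N] [Module A N] [IsScalarTower A B N] [Module.Finite B N] [Nontrivial N]
    [Module.Flat A N] (hN : IsFiniteLength B (EGA4.FibMod A B N)) :
    LocCoh.depth B (N ⊗[A] M) = LocCoh.depth A M := by
  rw [H1CAlg.FlatDepthModule.depth_tensor]
  haveI : Nontrivial (EGA4.FibMod A B N) := Submodule.Quotient.nontrivial_iff.mpr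
    (H1CAlg.FlatDepthModule.smul_top_ne_top (map_maximalIdeal_le _))
  have h0 : LocCoh.depth B (EGA4.FibMod A B N) = 0 := by
    have h := H4Depth.depth_le_supportDim (R := B) (M := EGA4.FibMod A B N)
    have h1 : Module.supportDim B (EGA4.FibMod A B N) ≤ 0 := by
      refine Order.krullDim_nonpos_iff_forall_isMax.mpr ?_
      intro x y hxy
      have hmax := SemilocalCompletion.isMaximal_of_length_ne_top (Module.length_ne_top_iff.mpr hN) x.2
      exact (hmax.eq_of_le y.1.isPrime.ne_top hxy).ge
    exact le_antisymm (by exact_mod_cast h.trans h1) zero_le
  rw [show LocCoh.depth B (N ⧸ (maximalIdeal A).map (algebraMap A B) • (⊤ : Submodule B N)) = 0 from h0, add_zero]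

end Groth.Agent.S4694
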