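import Groth.Statements.S4698
import Groth.Agent.H05EGA4.GenFlat
import Groth.Agent.H10Coh.FinType2
-- import your own Groth.Agent.* helpers here

set_option autoImplicit false
universe u
open EGA4

namespace Groth.Agent.S4698

open AlgebraicGeometry CategoryTheory in
/-- Let Y be an integral locally Noetherian scheme, u : X → Y a morphism of finite type and F a coherent
O_X-module. Then there is a nonempty open subset U of Y such that F is flat over Y at every point of
u⁻¹(U). -/
theorem result {X Y : Scheme.{u}} (u : X ⟶ Y) [IsIntegral Y] [IsLocallyNoetherian Y]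
    [LocallyOfFiniteType u] [QuasiCompact u] (F : X.Modules) (hF : Coh.IsCoh F) :
    ∃ U : Y.Opens, (U : Set Y).Nonempty ∧ ∀ x : X, u.base x ∈ U → FlatMod.IsFlatOverAt u F x := by
  haveI : IsLocallyNoetherian X := AlgebraicGeometry.LocallyOfFiniteType.isLocallyNoetherian u
  obtain ⟨V, hη, hV⟩ := Groth.Agent.H05EGA4.GenFlat.exists_open_isFlatOverAt u
    (Groth.Agent.H10Coh.isFP_of_isCoh F hF)
  exact ⟨V, ⟨_, hη⟩, hV⟩

end Groth.Agent.S4698
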