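import Groth.Statements.S4699
import Groth.Agent.H05EGA4.AlongClosed

set_option autoImplicit false
universe u
open EGA4

namespace Groth.Agent.S4699

/-- Let A be a Noetherian ring, M a finite A-module and I an ideal of A whose radical p is a prime ideal
lying in the support of M (so V(I) is an irreducible closed subset whose generic point is in Supp
M). Then there is an element f outside p such that, for every prime q containing I with f outside q,
the dimension of M_q is the dimension of M_p plus the dimension of (A/I)_q, and the depth of M_q is
the depth of M_p plus the depth of (A/I)_q (the module (A/I)_q = A_q / I A_q being regarded over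
A_q). -/
theorem result (A : Type u) [CommRing A] [IsNoetherianRing A]
    (M : Type u) [AddCommGroup M] [Module A M] [Module.Finite A M] (I : Ideal A) [I.radical.IsPrime]
    (hp : (⟨I.radical, inferInstance⟩ : PrimeSpectrum A) ∈ Module.support A M) :
    ∃ f : A, f ∉ I.radical ∧ ∀ (q : Ideal A) [q.IsPrime], I ≤ q → f ∉ q →
      Module.supportDim (Localization.AtPrime q) (LocalizedModule q.primeCompl M) =
          Module.supportDim (Localization.AtPrime I.radical) (LocalizedModule I.radical.primeCompl M) +
            Module.supportDim (Localization.AtPrime q)
              (Localization.AtPrime q ⧸ I.map (algebraMap A (Localization.AtPrime q))) ∧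
        LocCoh.depth (Localization.AtPrime q) (LocalizedModule q.primeCompl M) =
          LocCoh.depth (Localization.AtPrime I.radical) (LocalizedModule I.radical.primeCompl M) +
            LocCoh.depth (Localization.AtPrime q)
              (Localization.AtPrime q ⧸ I.map (algebraMap A (Localization.AtPrime q))) := by
  obtain ⟨f, hf, h⟩ := Groth.Agent.H05EGA4.AlongClosed.main M I hp
  refine ⟨f, hf, fun q _ hIq hfq => ?_⟩
  obtain ⟨h1, h2⟩ := h q hIq hfq
  obtain ⟨e2, e1⟩ := Groth.Agent.H05EGA4.AlongClosed.at_quotient I q
  refine ⟨by rw [e1]; exact h1, ?_⟩
  apply WithBot.coe_injective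
  rw [WithBot.coe_add, e2]
  exact h2

end Groth.Agent.S4699
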