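import Groth.Statements.S4700
import Groth.Agent.H05EGA4.J2
import Groth.Agent.H05EGA4.IntegralDim

set_option autoImplicit false
set_option maxHeartbeats 800000
universe u
open EGA4

open IsLocalRing PrimeSpectrum Groth.Agent.H05EGA4 Groth.Agent

namespace Groth.Agent.S4700

/-- Let A be a Noetherian ring. Suppose that for every prime p of A such that A_p is regular, the
regular locus of the domain A/p contains a nonempty open subset of Spec(A/p) (equivalently, is a
neighbourhood of the generic point). Then the regular locus of A is open in Spec A. -/
theorem result (A : Type u) [CommRing A] [IsNoetherianRing A]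
    (h : ∀ p : PrimeSpectrum A, p ∈ EGA4.regLocus A →
      ∃ U : Set (PrimeSpectrum (A ⧸ p.asIdeal)), IsOpen U ∧ U.Nonempty ∧ U ⊆ EGA4.regLocus (A ⧸ p.asIdeal)) :
    IsOpen (EGA4.regLocus A) := by
  exact isOpen_regLocus_of_quotients h


end Groth.Agent.S4700
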