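import Groth.Statements.S4701
import Groth.Agent.H05EGA4.J2
import Groth.Agent.H05EGA4.IntegralDim

set_option autoImplicit false
set_option maxHeartbeats 800000
universe u
open EGA4

open IsLocalRing PrimeSpectrum Groth.Agent.H05EGA4 Groth.Agent

namespace Groth.Agent.S4701

/-- Let A be a Noetherian ring. The regular locus of every quotient ring A/I is open in its spectrum if
and only if, for every prime ideal p, the regular locus of the domain A/p contains a nonempty open
subset of Spec(A/p). (The published statement quantifies over all subschemes of Spec A; open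
subschemes of the closed ones add nothing, so closed subschemes are used here.) -/
theorem result (A : Type u) [CommRing A] [IsNoetherianRing A] :
    (∀ I : Ideal A, IsOpen (EGA4.regLocus (A ⧸ I))) ↔
      ∀ (p : Ideal A) [p.IsPrime],
        ∃ U : Set (PrimeSpectrum (A ⧸ p)), IsOpen U ∧ U.Nonempty ∧ U ⊆ EGA4.regLocus (A ⧸ p) := by
  refine ⟨fun h p _ => isJ0_of_isOpen (h p), fun h I => isOpen_regLocus_of_quotients fun P _ => ?_⟩
  let φ : A →+* (A ⧸ I) ⧸ P.asIdeal := (Ideal.Quotient.mk P.asIdeal).comp (Ideal.Quotient.mk I)
  have hφ : Function.Surjective φ := Ideal.Quotient.mk_surjective.comp Ideal.Quotient.mk_surjective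
  have hp : (RingHom.ker φ).IsPrime := RingHom.ker_isPrime φ
  exact IsJ0.of_ringEquiv (RingHom.quotientKerEquivOfSurjective hφ) (h (RingHom.ker φ))


end Groth.Agent.S4701
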