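import Groth.Statements.S4703
import Groth.Agent.H05EGA4.GRingPoly
import Groth.Agent.H05EGA4.FiniteDomains
import Groth.Agent.H05EGA4.Rk
import Groth.Agent.S9126

set_option autoImplicit false
set_option linter.style.haveILetI false
set_option maxHeartbeats 800000
set_option synthInstance.maxHeartbeats 100000
universe u
open EGA4

open IsLocalRing TensorProduct Groth.Agent Groth.Agent.H05EGA4

namespace Groth.Agent.S4703

open TensorProduct in
/-- For the property 'geometrically regular', case of a local ring: let A be a Noetherian local ring
with completion Â. Then the formal fibres of A are geometrically regular (the completion map A → Â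
is a regular homomorphism) if and only if, for every finite A-algebra B which is a domain and every
prime ideal q of B ⊗_A Â whose contraction to B is zero, the local ring of B ⊗_A Â at q is regular.
(The published statement is for semi-local rings; this row takes A local.) -/
theorem result (A : Type u) [CommRing A] [IsNoetherianRing A] [IsLocalRing A] :
    CAlg.IsRegularHom A (EGA4.Cpl A) ↔
      ∀ (B : Type u) [CommRing B] [IsDomain B] [Algebra A B] [Module.Finite A B]
        (q : Ideal (B ⊗[A] EGA4.Cpl A)) [q.IsPrime],
        q.comap (algebraMap B (B ⊗[A] EGA4.Cpl A)) = ⊥ → IsRegularLocalRing (Localization.AtPrime q) := by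
  haveI := isNoetherianRing_cpl A
  refine isRegularHom_iff_grsHom.trans ⟨fun h B _ _ _ _ q _ hq => ?_, fun h => grsHom_of_finite_domains (flat_cpl A)
    fun B _ _ _ _ q _ hq => ?_⟩
  · haveI : IsNoetherianRing (B ⊗[A] EGA4.Cpl A) := H02CA.isNoetherianRing_tensor_of_essFiniteType _ _ _
    exact (((rs_atPrime_iff q).mp (h.rs_finite_domain B q hq)) q le_rfl).1 le_top
  · haveI : IsNoetherianRing (B ⊗[A] EGA4.Cpl A) := H02CA.isNoetherianRing_tensor_of_essFiniteType _ _ _
    haveI := h B q hq
    haveI := isRegularRing_of_isRegularLocalRing (Localization.AtPrime q)
    exact rs_of_isRegularRing _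


end Groth.Agent.S4703
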