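import Groth.Statements.S4704
import Mathlib
import Groth.Prelude.Def_EGA4b
import Groth.Agent.H05EGA4.FormalFibreFS

set_option autoImplicit false
set_option linter.style.haveILetI false
universe u
open EGA4

open IsLocalRing TensorProduct Groth.Agent CAlgX Groth.Agent.H05EGA4

namespace Groth.Agent.S4704

/-- Let A → A' be a local homomorphism of Noetherian local rings which is regular (flat, with
geometrically regular fibres). If the completion map of A' is regular (the formal fibres of A' are
geometrically regular), then the completion map of A is regular. -/
theorem result (A A' : Type u) [CommRing A] [CommRing A'] [IsNoetherianRing A]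
    [IsNoetherianRing A'] [IsLocalRing A] [IsLocalRing A'] [Algebra A A'] [IsLocalHom (algebraMap A A')]
    (hf : CAlg.IsRegularHom A A') (hA' : CAlg.IsRegularHom A' (EGA4.Cpl A')) :
    CAlg.IsRegularHom A (EGA4.Cpl A) := by
  exact isRegularHom_completion_of_isRegularHom hf hA'


end Groth.Agent.S4704
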