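import Groth.Statements.S4705
import Groth.Agent.H05EGA4.FormalFibres
import Groth.Agent.H05EGA4.NorLocus

set_option autoImplicit false
set_option linter.style.haveILetI false
universe u
open EGA4

open IsLocalRing TensorProduct Groth.Agent Groth.Agent.H05EGA4

namespace Groth.Agent.S4705

/-- Let A → A' be a flat local homomorphism of Noetherian local rings all of whose fibre rings k(p) ⊗_A
A' are geometrically reduced over k(p). If the completion map of A' is regular (the formal fibres of
A' are geometrically regular), then the formal fibres of A are geometrically reduced. -/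
theorem result (A A' : Type u) [CommRing A] [CommRing A']
    [IsNoetherianRing A] [IsNoetherianRing A'] [IsLocalRing A] [IsLocalRing A'] [Algebra A A']
    [IsLocalHom (algebraMap A A')] [Module.Flat A A']
    (hf : ∀ (p : Ideal A) [p.IsPrime], Algebra.IsGeometricallyReduced p.ResidueField (p.Fiber A'))
    (hA' : CAlg.IsRegularHom A' (EGA4.Cpl A')) : EGA4.HasGeomReducedFormalFibres A := by
  exact (hasGeomReducedFormalFibres_iff _).mpr
    ((geomReducedHom_iff_grsHom.mp ⟨inferInstance, hf⟩).cpl_of_flat_local (grsHom_of_isRegularHom hA'))


end Groth.Agent.S4705
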