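import Groth.Statements.S4706
import Groth.Agent.H05EGA4.FormalFibres
import Groth.Agent.H05EGA4.NorLocus

set_option autoImplicit false
set_option linter.style.haveILetI false
universe u
open EGA4

open IsLocalRing TensorProduct Groth.Agent Groth.Agent.H05EGA4

namespace Groth.Agent.S4706

/-- Let A → A' be a local homomorphism of Noetherian local rings which is normal (flat, with
geometrically normal fibres). If the completion map of A' is regular (the formal fibres of A' are
geometrically regular), then the formal fibres of A are geometrically normal. -/
theorem result (A A' : Type u) [CommRing A] [CommRing A']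
    [IsNoetherianRing A] [IsNoetherianRing A'] [IsLocalRing A] [IsLocalRing A'] [Algebra A A']
    [IsLocalHom (algebraMap A A')] (hf : EGA4.IsNormalHom A A') (hA' : CAlg.IsRegularHom A' (EGA4.Cpl A')) :
    EGA4.HasGeomNormalFormalFibres A := by
  exact (hasGeomNormalFormalFibres_iff _).mpr
    ((isNormalHom_iff_grsHom.mp hf).cpl_of_flat_local (grsHom_of_isRegularHom hA'))


end Groth.Agent.S4706
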