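import Groth.Statements.S4708
import Mathlib
import Groth.Prelude.Def_EGA4b
import Groth.Agent.H05EGA4.FormalFibreFS

set_option autoImplicit false
set_option linter.style.haveILetI false
universe u
open EGA4

open IsLocalRing TensorProduct Groth.Agent CAlgX Groth.Agent.H05EGA4

namespace Groth.Agent.S4708

/-- Let A → B be a local homomorphism of Noetherian local rings making B a flat A-module, such that the
residue field of B is a finite extension of the residue field k of A, and such that the formal
fibres of A are geometrically regular (the completion map A → Â is regular). If the k-algebra k ⊗_A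
B̂, where B̂ is the completion of B, is geometrically regular over k, then every fibre of A → B is
geometrically regular, that is, A → B is a regular homomorphism. -/
theorem result (A B : Type u) [CommRing A] [CommRing B]
    [IsNoetherianRing A] [IsNoetherianRing B] [IsLocalRing A] [IsLocalRing B] [Algebra A B]
    [IsLocalHom (algebraMap A B)] [Module.Flat A B]
    [Module.Finite (IsLocalRing.ResidueField A) (IsLocalRing.ResidueField B)]
    (hA : CAlg.IsRegularHom A (EGA4.Cpl A))
    (h : CAlg.IsGeometricallyRegular (IsLocalRing.maximalIdeal A).ResidueField
      ((IsLocalRing.maximalIdeal A).Fiber (EGA4.Cpl B))) :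
    CAlg.IsRegularHom A B := by
  let Bh := EGA4.Cpl B
  have : IsNoetherianRing Bh := isNoetherianRing_adicCompletion B (IsLocalRing.maximalIdeal B)
  have : Module.Flat B Bh := AdicCompletion.flat_of_isNoetherian _
  have : IsLocalHom (algebraMap B Bh) := by
    refine ((local_hom_TFAE _).out 0 2).mpr ?_
    rw [← AdicCompletion.maximalIdeal_eq_map]
  have : IsLocalHom (algebraMap A Bh) := by
    rw [IsScalarTower.algebraMap_eq A B Bh]
    infer_instance
  have : Module.Flat A Bh := Module.Flat.trans A B Bh
  have : Module.FaithfullyFlat B Bh := Module.FaithfullyFlat.of_flat_of_isLocalHom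
  exact H02CA.isRegularHom_of_comp A B Bh
    (isRegularHom_of_isAdicFormallySmooth hA (isAdicFormallySmooth_of_flat_of_geometricallyRegular h))


end Groth.Agent.S4708
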