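import Groth.Statements.S4709
import Groth.Agent.H05EGA4.GeomReducedNagata
import Groth.Agent.H8Props.NagataAffine
import Groth.Agent.H4Depth.Regular
import Groth.Agent.S0567
import Groth.Agent.S0603
import Groth.Agent.S2619

set_option autoImplicit false
set_option linter.style.haveILetI false
set_option maxHeartbeats 800000
set_option synthInstance.maxHeartbeats 200000
universe u
open EGA4

open IsLocalRing TensorProduct Groth.Agent Groth.Agent.H05EGA4

namespace Groth.Agent.S4709

/-- Let A be a Noetherian ring such that (i) for every maximal ideal m the formal fibres of A_m are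
geometrically reduced, and (ii) the regular locus of every A-algebra of finite type is open (A is
J-2). Then A is universally Japanese. -/
theorem result (A : Type u) [CommRing A] [IsNoetherianRing A]
    (h1 : ∀ (m : Ideal A) [m.IsMaximal], EGA4.HasGeomReducedFormalFibres (Localization.AtPrime m))
    (h2 : EGA4.IsJ2 A) : CAlg.IsUniversallyJapanese A := by
  have hloc : ∀ (p : Ideal A) [p.IsPrime], GRSHom 0 1 (Localization.AtPrime p) (EGA4.Cpl (Localization.AtPrime p)) :=
    fun p _ => GRSHom.cpl_of_maximal (fun m _ => by
      haveI : IsNoetherianRing (Localization.AtPrime m) := IsLocalization.isNoetherianRing m.primeCompl _ inferInstance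
      exact (hasGeomReducedFormalFibres_iff _).mp (h1 m)) p
  exact ((S0567.result A).mp (isNagata_of_geomReduced_of_isJ2 hloc h2)).2


end Groth.Agent.S4709
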