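import Groth.Statements.S4711
import Groth.Agent.H05EGA4.Points
import Mathlib.Topology.Constructible
import Mathlib.Topology.KrullDimension

set_option autoImplicit false
universe u
open EGA4

open Groth.Agent.H05EGA4 Topology

namespace Groth.Agent.S4711

open AlgebraicGeometry Topology in
/-- In any scheme X, every nonempty locally constructible subset E contains a point x such that the
one-point set {x} is locally closed in X (equivalently x is isolated in its closure). -/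
theorem result (X : Scheme.{u}) (E : Set X)
    (hE : Topology.IsLocallyConstructible E) (hne : E.Nonempty) :
    ∃ x ∈ E, IsLocallyClosed ({x} : Set X) := by
  have key : ∀ (Y : Type u) [TopologicalSpace Y] (s : Set Y), IsConstructible s →
      (∀ y ∈ s, ∃ U C : Set Y, IsOpen U ∧ IsClosed C ∧ y ∈ U ∩ C ∧ U ∩ C ⊆ s) ∧
      (∀ y ∈ sᶜ, ∃ U C : Set Y, IsOpen U ∧ IsClosed C ∧ y ∈ U ∩ C ∧ U ∩ C ⊆ sᶜ) := by
    intro Y _ s hs
    induction hs using IsConstructible.empty_union_induction with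
    | open_retrocompact U hU _ =>
      exact ⟨fun y hy => ⟨U, Set.univ, hU, isClosed_univ, ⟨hy, trivial⟩, Set.inter_subset_left⟩,
        fun y hy => ⟨Set.univ, Uᶜ, isOpen_univ, hU.isClosed_compl, ⟨trivial, hy⟩, Set.inter_subset_right⟩⟩
    | union s _ t _ h1 h2 =>
      refine ⟨fun y hy => ?_, fun y hy => ?_⟩
      · rcases hy with hy | hy
        · obtain ⟨U, C, a, b, c, d⟩ := h1.1 y hy
          exact ⟨U, C, a, b, c, d.trans Set.subset_union_left⟩
        · obtain ⟨U, C, a, b, c, d⟩ := h2.1 y hy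
          exact ⟨U, C, a, b, c, d.trans Set.subset_union_right⟩
      · simp only [Set.compl_union, Set.mem_inter_iff] at hy
        obtain ⟨U, C, a, b, c, d⟩ := h1.2 y hy.1
        obtain ⟨U', C', a', b', c', d'⟩ := h2.2 y hy.2
        exact ⟨U ∩ U', C ∩ C', a.inter a', b.inter b', ⟨⟨c.1, c'.1⟩, c.2, c'.2⟩,
          fun z hz => by rw [Set.compl_union]; exact ⟨d ⟨hz.1.1, hz.2.1⟩, d' ⟨hz.1.2, hz.2.2⟩⟩⟩
    | compl s _ h => exact ⟨h.2, by simpa using h.1⟩
  obtain ⟨x, hx⟩ := hne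
  obtain ⟨U, hxU, hU, hUE⟩ := hE x
  obtain ⟨V, C, hV, hC, hxVC, hsub⟩ := (key U _ hUE).1 ⟨x, mem_of_mem_nhds hxU⟩ hx
  obtain ⟨C', hC', rfl⟩ := isClosed_induced_iff.1 hC
  have hV' : IsOpen (((↑) : U → X) '' V) := hU.isOpenEmbedding_subtypeVal.isOpenMap V hV
  obtain ⟨w, ⟨⟨w', hw', rfl⟩, hwC⟩, hlc⟩ := exists_singleton_locallyClosed_of_inter X hV' hC'
    ⟨x, ⟨_, hxVC.1, rfl⟩, hxVC.2⟩
  exact ⟨w', hsub ⟨hw', hwC⟩, hlc⟩


end Groth.Agent.S4711
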