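import Groth.Statements.S4712
import Groth.Agent.H05EGA4.Points
import Mathlib.Topology.Constructible
import Mathlib.Topology.KrullDimension

set_option autoImplicit false
universe u
open EGA4

open Groth.Agent.H05EGA4 Topology

namespace Groth.Agent.S4712

open AlgebraicGeometry in
/-- Let X be a locally Noetherian scheme and x a point such that {x} is locally closed in X. Then the
closure of {x} has dimension at most 1, and every point of that closure other than x is a closed
point of X. -/
theorem result (X : Scheme.{u}) [IsLocallyNoetherian X] (x : X)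
    (hx : IsLocallyClosed ({x} : Set X)) :
    topologicalKrullDim (closure ({x} : Set X)) ≤ 1 ∧
      ∀ y ∈ closure ({x} : Set X), y ≠ x → IsClosed ({y} : Set X) := by
  have hcl : ∀ y ∈ closure ({x} : Set X), y ≠ x → IsClosed ({y} : Set X) := fun y hy hne =>
    isClosed_of_specializes_of_locallyClosed X hx (specializes_iff_mem_closure.2 hy) hne
  refine ⟨?_, hcl⟩
  have : QuasiSober (closure ({x} : Set X)) := (isClosed_closure.isClosedEmbedding_subtypeVal).quasiSober
  refine iSup_le fun l => ?_
  by_contra hl
  have hl2 : 2 ≤ l.length := by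
    by_contra h
    exact hl (by exact_mod_cast (show l.length ≤ 1 by omega))
  have h01 : l ⟨0, by omega⟩ < l ⟨1, by omega⟩ := l.strictMono (Fin.mk_lt_mk.2 (by omega))
  have h12 : l ⟨1, by omega⟩ < l ⟨2, by omega⟩ := l.strictMono (Fin.mk_lt_mk.2 (by omega))
  set A := l ⟨0, by omega⟩
  set B := l ⟨1, by omega⟩
  set C := l ⟨2, by omega⟩
  have key : ∀ {S T : TopologicalSpace.IrreducibleCloseds (closure ({x} : Set X))}, S < T →
      (T.2.genericPoint : X) ⤳ (S.2.genericPoint : X) ∧ (T.2.genericPoint : X) ≠ (S.2.genericPoint : X) := by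
    intro S T h
    have hS := S.2.isGenericPoint_genericPoint S.3
    have hT := T.2.isGenericPoint_genericPoint T.3
    refine ⟨(hT.specializes (h.le hS.mem)).map continuous_subtype_val, fun e => h.ne ?_⟩
    refine TopologicalSpace.IrreducibleCloseds.ext (hS.def.symm.trans (Eq.trans ?_ hT.def))
    rw [Subtype.ext e]
  obtain ⟨hba, hne⟩ := key h01
  obtain ⟨hcb, hne'⟩ := key h12
  by_cases hbx : (B.2.genericPoint : X) = x
  · have hbc : (B.2.genericPoint : X) ⤳ (C.2.genericPoint : X) := by
      rw [hbx]; exact specializes_iff_mem_closure.2 C.2.genericPoint.2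
    exact hne' (hcb.antisymm hbc).eq
  · have := hba.mem_closed (hcl _ B.2.genericPoint.2 hbx) rfl
    exact hne (Eq.symm this)


end Groth.Agent.S4712
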