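import Groth.Statements.S4714
import Groth.Agent.H05EGA4.DimZeroLocus

set_option autoImplicit false
universe u
open EGA4

namespace Groth.Agent.S4714

open AlgebraicGeometry CategoryTheory in
/-- For a section of the structure sheaf: let X be a scheme locally of finite type over a field k and f
a global section of O_X whose zero locus Y is nowhere dense in X. Then dim Y + 1 ≤ dim X. If
moreover some irreducible component of X has dimension equal to dim X and Y meets every such
component, then dim Y + 1 = dim X. (The published statement is for a section of an invertible sheaf;
the existence of a component of maximal dimension, implicit in the published wording, is made a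
hypothesis of the equality clause.) -/
theorem result (k : Type u) [Field k] (X : Scheme.{u}) (p : X ⟶ Spec (CommRingCat.of k))
    [LocallyOfFiniteType p] (f : Γ(X, ⊤)) (hY : interior (X.zeroLocus (U := ⊤) {f}) = ∅) :
    topologicalKrullDim (X.zeroLocus (U := ⊤) {f}) + 1 ≤ topologicalKrullDim X ∧
      ((∃ Z ∈ irreducibleComponents (X : Type u), topologicalKrullDim Z = topologicalKrullDim X) →
        (∀ Z ∈ irreducibleComponents (X : Type u), topologicalKrullDim Z = topologicalKrullDim X →
          (Z ∩ X.zeroLocus (U := ⊤) {f}).Nonempty) →
        topologicalKrullDim (X.zeroLocus (U := ⊤) {f}) + 1 = topologicalKrullDim X) := by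
  exact ⟨Groth.Agent.H05EGA4.DimZeroLocus.dim_le p f hY, Groth.Agent.H05EGA4.DimZeroLocus.dim_eq p f hY⟩

end Groth.Agent.S4714
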