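import Groth.Statements.S4718
import Mathlib
import Groth.Agent.H05EGA4.FiniteModule
import Groth.Agent.H05EGA4.DepthMisc
import Groth.Agent.H1CAlg.FlatDepthModule

set_option autoImplicit false
universe u
open EGA4

open Groth.Agent Groth.Agent.H05EGA4 IsLocalRing

namespace Groth.Agent.S4718

/-- Let A be a Noetherian local ring, B a Noetherian ring, A → B a ring homomorphism and M a nonzero
B-module which is finite as an A-module. Then M is a Cohen–Macaulay A-module if and only if, for all
primes q of B lying over the maximal ideal of A and belonging to the support of M, the B_q-module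
M_q is Cohen–Macaulay and all these modules M_q have the same dimension. -/
theorem result (A B : Type u) [CommRing A] [CommRing B]
    [IsNoetherianRing A] [IsLocalRing A] [IsNoetherianRing B] [Algebra A B]
    (M : Type u) [AddCommGroup M] [Module B M] [Module A M] [IsScalarTower A B M] [Module.Finite A M]
    [Nontrivial M] :
    LocCoh.IsCohenMacaulayModule A M ↔
      (∀ q ∈ {q : PrimeSpectrum B | q.asIdeal.comap (algebraMap A B) = IsLocalRing.maximalIdeal A ∧
          q ∈ Module.support B M},
        LocCoh.IsCohenMacaulayModule (Localization.AtPrime q.asIdeal) (LocalizedModule q.asIdeal.primeCompl M)) ∧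
      (∀ q ∈ {q : PrimeSpectrum B | q.asIdeal.comap (algebraMap A B) = IsLocalRing.maximalIdeal A ∧
          q ∈ Module.support B M},
        ∀ q' ∈ {q : PrimeSpectrum B | q.asIdeal.comap (algebraMap A B) = IsLocalRing.maximalIdeal A ∧
          q ∈ Module.support B M},
          Module.supportDim (Localization.AtPrime q.asIdeal) (LocalizedModule q.asIdeal.primeCompl M) =
            Module.supportDim (Localization.AtPrime q'.asIdeal) (LocalizedModule q'.asIdeal.primeCompl M)) := by
  haveI : Module.Finite B M := Module.Finite.of_restrictScalars_finite A B M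
  have hu : ∀ s : (maximalIdeal A).primeCompl, IsUnit (s : A) := fun s =>
    Classical.not_not.mp ((mem_maximalIdeal _).not.mp s.2)
  have hm : Module.support A M ≠ ∅ := (Module.nonempty_support_of_nontrivial).ne_empty
  have hmem : (⟨maximalIdeal A, inferInstance⟩ : PrimeSpectrum A) ∈ Module.support A M := by
    obtain ⟨P, hP⟩ := Module.nonempty_support_of_nontrivial (R := A) (M := M)
    exact Module.mem_support_mono (q := ⟨maximalIdeal A, inferInstance⟩) (le_maximalIdeal P.isPrime.ne_top) hP
  obtain ⟨q0, hq0, hq0e⟩ := FiniteModule.exists_mem_support_over (A := A) (B := B) M _ hmem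
  have hne : q0 ∈ FiniteModule.overP (A := A) (B := B) M (maximalIdeal A) := ⟨congrArg PrimeSpectrum.asIdeal hq0e, hq0⟩
  have hdim : Module.supportDim A M = ⨆ q ∈ FiniteModule.overP (A := A) (B := B) M (maximalIdeal A),
      Module.supportDim (Localization.AtPrime q.asIdeal) (LocalizedModule q.asIdeal.primeCompl M) := by
    rw [← FiniteModule.supportDim_eq (B := B) M (maximalIdeal A)]
    refine le_antisymm (iSup_le fun l => ?_) (FiniteModule.supportDim_localization_le _ fun l hs _ => ?_)
    · exact FiniteModule.le_supportDim_localization (maximalIdeal A) (l.map Subtype.val fun _ _ h => h) (fun i => (l i).2)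
        (le_maximalIdeal (PrimeSpectrum.isPrime _).ne_top)
    · exact Order.LTSeries.length_le_krullDim (LTSeries.mk l.length (fun i => (⟨l i, hs i⟩ : Module.support A M))
        fun _ _ h => l.strictMono h)
  have hdep : LocCoh.depth A M = ⨅ q ∈ FiniteModule.overP (A := A) (B := B) M (maximalIdeal A),
      LocCoh.depth (Localization.AtPrime q.asIdeal) (LocalizedModule q.asIdeal.primeCompl M) := by
    rw [← FiniteModule.depth_eq (B := B) M (maximalIdeal A)]
    let e := IsLocalization.atUnits A (maximalIdeal A).primeCompl (S := Localization.AtPrime (maximalIdeal A)) (fun s hs => hu ⟨s, hs⟩)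
    haveI : Module.Finite (Localization.AtPrime (maximalIdeal A)) (LocalizedModule (maximalIdeal A).primeCompl M) :=
      Module.Finite.of_isLocalizedModule (maximalIdeal A).primeCompl (LocalizedModule.mkLinearMap (maximalIdeal A).primeCompl M)
    haveI : Module.Finite A (LocalizedModule (maximalIdeal A).primeCompl M) :=
      Module.Finite.of_surjective (LocalizedModule.mkLinearMap (maximalIdeal A).primeCompl M) (fun z => by
        obtain ⟨⟨m, s⟩, hs⟩ := IsLocalizedModule.surj (maximalIdeal A).primeCompl (LocalizedModule.mkLinearMap _ M) z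
        obtain ⟨u, hu'⟩ := (hu s).exists_left_inv
        refine ⟨u • m, ?_⟩
        rw [map_smul, ← hs, Submonoid.smul_def, smul_smul, hu', one_smul])
    haveI : IsLocalHom (algebraMap A (Localization.AtPrime (maximalIdeal A))) :=
      IsLocalHom.of_surjective _ (fun z => ⟨e.symm z, (e.commutes (e.symm z)).symm.trans (e.apply_symm_apply z)⟩)
    let f : M ≃ₗ[A] LocalizedModule (maximalIdeal A).primeCompl M :=
      LinearEquiv.ofBijective (LocalizedModule.mkLinearMap _ M) ⟨fun x y hxy => by
        obtain ⟨c, hc⟩ := IsLocalizedModule.exists_of_eq (S := (maximalIdeal A).primeCompl) hxy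
        exact (hu c).smul_left_cancel.mp (by simpa [Submonoid.smul_def] using hc),
      fun z => by
        obtain ⟨⟨m, s⟩, hs⟩ := IsLocalizedModule.surj (maximalIdeal A).primeCompl (LocalizedModule.mkLinearMap _ M) z
        obtain ⟨u, hu'⟩ := (hu s).exists_left_inv
        refine ⟨u • m, ?_⟩
        rw [map_smul, ← hs, Submonoid.smul_def, smul_smul, hu', one_smul]⟩
    haveI : Nontrivial (LocalizedModule (maximalIdeal A).primeCompl M) := Module.mem_support_iff.mp hmem
    rw [H4Depth.depth_congr f]
    obtain ⟨n, hn⟩ := ENat.ne_top_iff_exists.mp (H4Depth.idealDepth_ne_top (M := LocalizedModule (maximalIdeal A).primeCompl M)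
      (H1CAlg.FlatDepthModule.smul_top_ne_top (P := LocalizedModule (maximalIdeal A).primeCompl M) (le_refl (maximalIdeal A))))
    rw [show LocCoh.depth A (LocalizedModule (maximalIdeal A).primeCompl M) = n from hn.symm]
    exact (DepthMisc.depth_eq_of_finite (B := Localization.AtPrime (maximalIdeal A)) n _ hn.symm).symm
  unfold LocCoh.IsCohenMacaulayModule
  rw [hdim, hdep]
  have hfin : ∀ q ∈ FiniteModule.overP (A := A) (B := B) M (maximalIdeal A),
      Module.Finite (Localization.AtPrime q.asIdeal) (LocalizedModule q.asIdeal.primeCompl M) ∧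
        Nontrivial (LocalizedModule q.asIdeal.primeCompl M) := fun q hq =>
    ⟨Module.Finite.of_isLocalizedModule q.asIdeal.primeCompl (LocalizedModule.mkLinearMap q.asIdeal.primeCompl M),
      Module.mem_support_iff.mp hq.2⟩
  constructor
  · intro h
    have key : ∀ q ∈ FiniteModule.overP (A := A) (B := B) M (maximalIdeal A),
        Module.supportDim (Localization.AtPrime q.asIdeal) (LocalizedModule q.asIdeal.primeCompl M) =
          ((LocCoh.depth (Localization.AtPrime q.asIdeal) (LocalizedModule q.asIdeal.primeCompl M) : ℕ∞) : WithBot ℕ∞) ∧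
        Module.supportDim (Localization.AtPrime q.asIdeal) (LocalizedModule q.asIdeal.primeCompl M) =
          ((⨅ q ∈ FiniteModule.overP (A := A) (B := B) M (maximalIdeal A),
            LocCoh.depth (Localization.AtPrime q.asIdeal) (LocalizedModule q.asIdeal.primeCompl M) : ℕ∞) : WithBot ℕ∞) := by
      intro q hq
      obtain ⟨_, _⟩ := hfin q hq
      have h1 := H4Depth.depth_le_supportDim (R := Localization.AtPrime q.asIdeal) (M := LocalizedModule q.asIdeal.primeCompl M)
      have h2 := (le_iSup₂ (f := fun (q : PrimeSpectrum B) (_ : q ∈ FiniteModule.overP (A := A) (B := B) M (maximalIdeal A)) =>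
        Module.supportDim (Localization.AtPrime q.asIdeal) (LocalizedModule q.asIdeal.primeCompl M)) q hq).trans h.le
      have h3 : ((⨅ q ∈ FiniteModule.overP (A := A) (B := B) M (maximalIdeal A),
          LocCoh.depth (Localization.AtPrime q.asIdeal) (LocalizedModule q.asIdeal.primeCompl M) : ℕ∞) : WithBot ℕ∞) ≤
          ((LocCoh.depth (Localization.AtPrime q.asIdeal) (LocalizedModule q.asIdeal.primeCompl M) : ℕ∞) : WithBot ℕ∞) :=
        WithBot.coe_le_coe.mpr (iInf₂_le q hq)
      exact ⟨le_antisymm (h2.trans h3) h1, le_antisymm h2 (h3.trans h1)⟩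
    exact ⟨fun q hq => (key q hq).1, fun q hq q' hq' => (key q hq).2.trans (key q' hq').2.symm⟩
  · rintro ⟨h1, h2⟩
    obtain ⟨q1, hq1, hq1'⟩ : ∃ q ∈ FiniteModule.overP (A := A) (B := B) M (maximalIdeal A),
        ∀ q' ∈ FiniteModule.overP (A := A) (B := B) M (maximalIdeal A),
        LocCoh.depth (Localization.AtPrime q'.asIdeal) (LocalizedModule q'.asIdeal.primeCompl M) =
          LocCoh.depth (Localization.AtPrime q.asIdeal) (LocalizedModule q.asIdeal.primeCompl M) :=
      ⟨q0, hne, fun q' hq' => WithBot.coe_injective ((h1 q' hq').symm.trans ((h2 q' hq' q0 hne).trans (h1 q0 hne)))⟩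
    refine le_antisymm (iSup₂_le fun q hq => ?_) ?_
    · refine ((h1 q hq).le.trans ?_)
      exact WithBot.coe_le_coe.mpr (le_iInf₂ fun q' hq' => ((hq1' q hq).trans (hq1' q' hq').symm).le)
    · refine le_trans (WithBot.coe_le_coe.mpr (iInf₂_le q1 hq1)) ?_
      rw [← h1 q1 hq1]
      exact le_iSup₂ (f := fun (q : PrimeSpectrum B) (_ : q ∈ FiniteModule.overP (A := A) (B := B) M (maximalIdeal A)) =>
        Module.supportDim (Localization.AtPrime q.asIdeal) (LocalizedModule q.asIdeal.primeCompl M)) q1 hq1

end Groth.Agent.S4718
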