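import Groth.Statements.S4719
import Mathlib
import Groth.Agent.H05EGA4.FiniteModule

set_option autoImplicit false
universe u
open EGA4

open Groth.Agent Groth.Agent.H05EGA4 IsLocalRing

namespace Groth.Agent.S4719

/-- Let A → B be a homomorphism of Noetherian rings and M a B-module which is finite as an A-module. (i)
If M satisfies (S_k) as an A-module, it satisfies (S_k) as a B-module. (ii) If for every two primes
q, q' of B in the support of M having the same contraction to A the modules M_q and M_{q'} have the
same dimension, then (S_k) for M as a B-module implies (S_k) for M as an A-module. (The published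
statement asks the equal-dimension condition for all pairs of primes of B with the same contraction;
this row asks it only for primes in the support of M, which is all its proof uses.) -/
theorem result (k : ℕ) (A B : Type u) [CommRing A] [CommRing B] [IsNoetherianRing A]
    [IsNoetherianRing B] [Algebra A B] (M : Type u) [AddCommGroup M] [Module B M] [Module A M]
    [IsScalarTower A B M] [Module.Finite A M] :
    (LocCoh.HasSk k A M → LocCoh.HasSk k B M) ∧
      ((∀ q ∈ Module.support B M, ∀ q' ∈ Module.support B M,
          q.asIdeal.comap (algebraMap A B) = q'.asIdeal.comap (algebraMap A B) →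
            Module.supportDim (Localization.AtPrime q.asIdeal) (LocalizedModule q.asIdeal.primeCompl M) =
              Module.supportDim (Localization.AtPrime q'.asIdeal) (LocalizedModule q'.asIdeal.primeCompl M)) →
        LocCoh.HasSk k B M → LocCoh.HasSk k A M) := by
  haveI : Module.Finite B M := Module.Finite.of_restrictScalars_finite A B M
  constructor
  · intro h q _
    by_cases hq : (⟨q, inferInstance⟩ : PrimeSpectrum B) ∈ Module.support B M
    · have hmem : (⟨q, inferInstance⟩ : PrimeSpectrum B) ∈ FiniteModule.overP M (q.comap (algebraMap A B)) := ⟨rfl, hq⟩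
      refine le_trans (le_trans (min_le_min le_rfl ?_) (h (q.comap (algebraMap A B)))) (WithBot.coe_le_coe.mpr ?_)
      · rw [FiniteModule.supportDim_eq (B := B) M (q.comap (algebraMap A B))]
        exact le_iSup₂ (f := fun (r : PrimeSpectrum B) (_ : r ∈ FiniteModule.overP M (q.comap (algebraMap A B))) =>
          Module.supportDim (Localization.AtPrime r.asIdeal) (LocalizedModule r.asIdeal.primeCompl M)) _ hmem
      · rw [FiniteModule.depth_eq (B := B) M (q.comap (algebraMap A B))]
        exact iInf₂_le (f := fun (r : PrimeSpectrum B) (_ : r ∈ FiniteModule.overP M (q.comap (algebraMap A B))) =>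
          LocCoh.depth (Localization.AtPrime r.asIdeal) (LocalizedModule r.asIdeal.primeCompl M)) _ hmem
    · haveI : Subsingleton (LocalizedModule q.primeCompl M) := Module.notMem_support_iff.mp hq
      rw [(Module.supportDim_eq_bot_iff_subsingleton _ _).mpr inferInstance]
      exact (min_le_right _ _).trans bot_le
  · intro heq h p _
    rw [FiniteModule.supportDim_eq (B := B) M p, FiniteModule.depth_eq (B := B) M p]
    by_cases hne : (FiniteModule.overP (A := A) (B := B) M p).Nonempty
    · obtain ⟨q0, hq0⟩ := hne
      obtain ⟨q1, hq1, hmin⟩ : ∃ q1 ∈ FiniteModule.overP (A := A) (B := B) M p,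
          LocCoh.depth (Localization.AtPrime q1.asIdeal) (LocalizedModule q1.asIdeal.primeCompl M) ≤
            ⨅ q ∈ FiniteModule.overP (A := A) (B := B) M p, LocCoh.depth (Localization.AtPrime q.asIdeal) (LocalizedModule q.asIdeal.primeCompl M) := by
        obtain ⟨_, ⟨q1, hq1, rfl⟩, hmin⟩ := wellFounded_lt.has_min ((fun q : PrimeSpectrum B =>
          LocCoh.depth (Localization.AtPrime q.asIdeal) (LocalizedModule q.asIdeal.primeCompl M)) '' FiniteModule.overP (A := A) (B := B) M p)
          ⟨_, q0, hq0, rfl⟩
        exact ⟨q1, hq1, le_iInf₂ fun q hq => not_lt.mp (hmin _ ⟨q, hq, rfl⟩)⟩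
      refine le_trans (min_le_min le_rfl (iSup₂_le fun q hq => (heq q hq.2 q1 hq1.2 (hq.1.trans hq1.1.symm)).le))
        ((h q1.asIdeal).trans (WithBot.coe_le_coe.mpr hmin))
    · refine (min_le_right _ _).trans ((iSup₂_le fun q hq => absurd ⟨q, hq⟩ hne).trans bot_le)

end Groth.Agent.S4719
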