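import Groth.Statements.S4720
import Mathlib
import Groth.Agent.H05EGA4.Pure

set_option autoImplicit false
universe u
open EGA4

open Groth.Agent Groth.Agent.H05EGA4 IsLocalRing
open scoped TensorProduct

namespace Groth.Agent.S4720

/-- Let A be a Noetherian ring, Z a subset of Spec A stable under specialization, M an A-module and N a
submodule of M. If M is Z-pure, so is N; conversely, if N and M/N are Z-pure, so is M. -/
theorem result (A : Type u) [CommRing A] [IsNoetherianRing A]
    (Z : Set (PrimeSpectrum A)) (hZ : StableUnderSpecialization Z) (M : Type u) [AddCommGroup M] [Module A M]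
    (N : Submodule A M) :
    (EGA4.IsPureAlong Z M → EGA4.IsPureAlong Z ↥N) ∧
      (EGA4.IsPureAlong Z ↥N → EGA4.IsPureAlong Z (M ⧸ N) → EGA4.IsPureAlong Z M) := by
  simp only [Pure.isPureAlong_iff]
  refine ⟨fun h x hx => Subtype.ext (h x.1 (subset_trans (PrimeSpectrum.zeroLocus_anti_mono_ideal ?_) hx)), fun hN hQ m hm => ?_⟩
  · intro a ha
    have h1 : a • x = 0 := by simpa [LinearMap.mem_ker] using ha
    have h2 : a • (x : M) = 0 := congrArg Subtype.val h1
    simpa [LinearMap.mem_ker] using h2
  · have hmN : m ∈ N := by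
      rw [← Submodule.Quotient.mk_eq_zero]
      refine hQ _ (subset_trans (PrimeSpectrum.zeroLocus_anti_mono_ideal ?_) hm)
      intro a ha
      have h1 : a • m = 0 := by simpa [LinearMap.mem_ker] using ha
      simp [LinearMap.mem_ker, ← Submodule.Quotient.mk_smul, h1]
    refine congrArg Subtype.val (hN ⟨m, hmN⟩ (subset_trans (PrimeSpectrum.zeroLocus_anti_mono_ideal ?_) hm))
    intro a ha
    have h1 : a • m = 0 := by simpa [LinearMap.mem_ker] using ha
    exact LinearMap.mem_ker.mpr (Subtype.ext (by simpa using h1))

end Groth.Agent.S4720
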