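import Groth.Statements.S4723
import Groth.Agent.H05EGA4.HullUJ

set_option autoImplicit false
universe u
open EGA4

namespace Groth.Agent.S4723

/-- Let A be a Noetherian ring which is either a quotient of a regular Noetherian ring or universally
catenary and universally Japanese. Then for every prime q of A, writing B = A/q with fraction field
K, and every ideal J of B of height at least 2, the subring of K consisting of the elements lying in
B_p for every prime p of B not containing J (the ring of sections of the structure sheaf of Spec B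
over the open complement of V(J)) is a finite B-algebra (some B-subalgebra of K with exactly this
underlying set is a finitely generated B-module). -/
theorem result (A : Type u) [CommRing A] [IsNoetherianRing A]
    (hA : (∃ (R : Type u) (_ : CommRing R), IsNoetherianRing R ∧ IsRegularRing R ∧
        ∃ f : R →+* A, Function.Surjective f) ∨
      (CAlg.IsUniversallyCatenary A ∧ CAlg.IsUniversallyJapanese A))
    (q : Ideal A) [q.IsPrime] (J : Ideal (A ⧸ q)) (hJ2 : (2 : ℕ∞) ≤ J.height) :
    ∃ B' : Subalgebra (A ⧸ q) (FractionRing (A ⧸ q)),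
      (B' : Set (FractionRing (A ⧸ q))) =
          {x | ∀ (p : Ideal (A ⧸ q)) [p.IsPrime], ¬ J ≤ p →
            ∃ s : A ⧸ q, s ∉ p ∧ ∃ a : A ⧸ q,
              algebraMap (A ⧸ q) (FractionRing (A ⧸ q)) a = algebraMap (A ⧸ q) (FractionRing (A ⧸ q)) s * x} ∧
        Module.Finite (A ⧸ q) B' := by
  obtain ⟨S, hS, hfin⟩ := Groth.Agent.H05EGA4.HullUJ.heightOneHullFinite A hA q
  set K := FractionRing (A ⧸ q)
  set G := {x : K | ∀ (p : Ideal (A ⧸ q)) [p.IsPrime], ¬ J ≤ p →
            ∃ s : A ⧸ q, s ∉ p ∧ ∃ a : A ⧸ q,
              algebraMap (A ⧸ q) K a = algebraMap (A ⧸ q) K s * x}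
  let B' : Subalgebra (A ⧸ q) K :=
    { carrier := G
      mul_mem' := fun {x y} hx hy p hp hJ => by
        obtain ⟨s, hs, a, ha⟩ := hx p hJ
        obtain ⟨t, ht, b, hb⟩ := hy p hJ
        refine ⟨s * t, fun h => (hp.mem_or_mem h).elim hs ht, a * b, ?_⟩
        rw [map_mul, map_mul, ha, hb]; ring
      one_mem' := fun p hp _ => ⟨1, hp.one_notMem, 1, by rw [mul_one]⟩
      zero_mem' := fun p hp _ => ⟨1, hp.one_notMem, 0, by rw [mul_zero, map_zero]⟩
      add_mem' := fun {x y} hx hy p hp hJ => by
        obtain ⟨s, hs, a, ha⟩ := hx p hJ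
        obtain ⟨t, ht, b, hb⟩ := hy p hJ
        refine ⟨s * t, fun h => (hp.mem_or_mem h).elim hs ht, a * t + b * s, ?_⟩
        rw [map_add, map_mul, map_mul, map_mul, ha, hb]; ring
      algebraMap_mem' := fun r p hp _ => ⟨1, hp.one_notMem, r, by rw [map_one, one_mul]⟩ }
  refine ⟨B', rfl, ?_⟩
  haveI := hfin
  have hle : B' ≤ S := fun x hx => by
    show x ∈ (S : Set K)
    rw [hS]
    exact fun p hp h1 => hx p fun hJp => absurd (hJ2.trans (Ideal.height_mono hJp)) (by rw [h1]; norm_num)
  exact Module.Finite.of_injective (Subalgebra.inclusion hle).toLinearMap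
    (Subalgebra.inclusion_injective hle)

end Groth.Agent.S4723
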