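import Groth.Statements.S4724
import Groth.Agent.H05EGA4.EakinNagata
import Groth.Agent.H4Depth.SupportLoc

set_option autoImplicit false
set_option linter.style.haveILetI false
set_option maxHeartbeats 800000
universe u
open EGA4

open Groth.Agent Groth.Agent.H05EGA4

namespace Groth.Agent.S4724

/-- Let (A_i) be a directed system of commutative rings with direct limit A. Then the nilradical of A is
the supremum of the extensions to A of the nilradicals of the A_i; in particular, if every A_i is
reduced then A is reduced. -/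
theorem result (ι : Type u) [Preorder ι] [Nonempty ι] [IsDirectedOrder ι] (G : ι → Type u)
    [∀ i, CommRing (G i)] (f : ∀ i j, i ≤ j → G i →+* G j) [DirectedSystem G (fun i j h ↦ f i j h)] :
    nilradical (Ring.DirectLimit G (fun i j h ↦ f i j h)) =
        ⨆ i, (nilradical (G i)).map (Ring.DirectLimit.of G (fun i j h ↦ f i j h) i) ∧
      ((∀ i, IsReduced (G i)) → IsReduced (Ring.DirectLimit G (fun i j h ↦ f i j h))) := by
  have hle : nilradical (Ring.DirectLimit G (fun i j h ↦ f i j h)) ≤
      ⨆ i, (nilradical (G i)).map (Ring.DirectLimit.of G (fun i j h ↦ f i j h) i) := by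
    intro x hx
    obtain ⟨i, y, rfl⟩ := Ring.DirectLimit.exists_of x
    obtain ⟨n, hn⟩ := hx
    rw [← map_pow] at hn
    obtain ⟨j, hij, hj⟩ := Ring.DirectLimit.of.zero_exact hn
    rw [← Ring.DirectLimit.of_f hij]
    exact le_iSup (fun i => (nilradical (G i)).map (Ring.DirectLimit.of G (fun i j h ↦ f i j h) i)) j
      (Ideal.mem_map_of_mem _ ⟨n, by rw [← map_pow]; exact hj⟩)
  refine ⟨le_antisymm hle (iSup_le fun i => Ideal.map_le_iff_le_comap.mpr fun y hy => mem_nilradical.mpr ((mem_nilradical.mp hy).map _)), fun h => ?_⟩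
  rw [← nilradical_eq_bot_iff, eq_bot_iff]
  refine hle.trans (iSup_le fun i => ?_)
  rw [nilradical_eq_bot_iff.mpr (h i), Ideal.map_bot]


end Groth.Agent.S4724
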