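import Groth.Statements.S4726
import Mathlib.Algebra.Module.FinitePresentation
import Mathlib.Algebra.Colimit.Ring

set_option autoImplicit false
universe u
open EGA4

namespace Groth.Agent.S4726

open TensorProduct in
theorem descend {R A : Type u} [CommRing R] [CommRing A] [Algebra R A] {n m : ℕ} (c : Fin m → Fin n → R)
    (g : Fin m → Fin n → A) (hcg : ∀ l j, algebraMap R A (c l j) = g l j) :
    Nonempty (((Fin n → A) ⧸ Submodule.span A (Set.range g)) ≃ₗ[A]
      A ⊗[R] ((Fin n → R) ⧸ Submodule.span R (Set.range c))) := by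
  classical
  let K := Submodule.span A (Set.range g)
  let L := Submodule.span R (Set.range c)
  let ρ : (Fin n → R) →ₗ[R] (Fin n → A) := LinearMap.pi fun j => (Algebra.linearMap R A).comp (LinearMap.proj j)
  let α : ((Fin n → R) ⧸ L) →ₗ[R] ((Fin n → A) ⧸ K) := L.liftQ ((K.mkQ.restrictScalars R).comp ρ)
    (Submodule.span_le.2 (by
      rintro _ ⟨l, rfl⟩
      show Submodule.Quotient.mk (ρ (c l)) = (0 : (Fin n → A) ⧸ K)
      rw [Submodule.Quotient.mk_eq_zero, show ρ (c l) = g l from funext (hcg l)]
      exact Submodule.subset_span ⟨l, rfl⟩))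
  let φ : A ⊗[R] ((Fin n → R) ⧸ L) →ₗ[A] ((Fin n → A) ⧸ K) := α.liftBaseChange A
  let β : (Fin n → A) →ₗ[A] A ⊗[R] ((Fin n → R) ⧸ L) :=
    (Pi.basisFun A (Fin n)).constr A fun j => (1 : A) ⊗ₜ[R] Submodule.Quotient.mk (Pi.single j 1)
  have hβρ : ∀ v : Fin n → R, β (ρ v) = (1 : A) ⊗ₜ[R] Submodule.Quotient.mk v := fun v => by
    have hlin : (β.restrictScalars R).comp ρ = (TensorProduct.mk R A _ 1).comp L.mkQ :=
      (Pi.basisFun R (Fin n)).ext fun j => by
        have h1 : ρ (Pi.single j 1) = Pi.single j 1 := funext fun k => by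
          show algebraMap R A ((Pi.single j (1 : R) : Fin n → R) k) = _
          rcases eq_or_ne k j with rfl | hk
          · simp
          · simp [hk]
        rw [LinearMap.comp_apply, LinearMap.comp_apply, Pi.basisFun_apply, h1]
        show β (Pi.single j 1) = _
        rw [← Pi.basisFun_apply, Module.Basis.constr_basis]
        rfl
    exact LinearMap.congr_fun hlin v
  let ψ : ((Fin n → A) ⧸ K) →ₗ[A] A ⊗[R] ((Fin n → R) ⧸ L) := K.liftQ β (Submodule.span_le.2 (by
    rintro _ ⟨l, rfl⟩
    show β (g l) = 0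
    rw [show g l = ρ (c l) from (funext (hcg l)).symm, hβρ,
      show Submodule.Quotient.mk (c l) = (0 : (Fin n → R) ⧸ L) from
        (Submodule.Quotient.mk_eq_zero _).2 (Submodule.subset_span ⟨l, rfl⟩), TensorProduct.tmul_zero]))
  refine ⟨(LinearEquiv.ofLinearMap φ ψ ?_ ?_).symm⟩
  · refine Submodule.linearMap_qext _ ((Pi.basisFun A (Fin n)).ext fun j => ?_)
    show φ (β ((Pi.basisFun A (Fin n)) j)) = Submodule.Quotient.mk ((Pi.basisFun A (Fin n)) j)
    rw [Module.Basis.constr_basis, LinearMap.liftBaseChange_one_tmul, Pi.basisFun_apply]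
    show Submodule.Quotient.mk (ρ (Pi.single j 1)) = _
    congr 1
    funext k
    show algebraMap R A ((Pi.single j (1 : R) : Fin n → R) k) = _
    rcases eq_or_ne k j with rfl | hk
    · simp
    · simp [hk]
  · refine TensorProduct.AlgebraTensorModule.ext fun a q => ?_
    obtain ⟨v, rfl⟩ := Submodule.Quotient.mk_surjective _ q
    show ψ (φ (a ⊗ₜ Submodule.Quotient.mk v)) = _
    rw [LinearMap.liftBaseChange_tmul, map_smul]
    show a • β (ρ v) = _
    rw [hβρ, TensorProduct.smul_tmul', smul_eq_mul, mul_one]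
    rfl

open TensorProduct in
/-- Let (A_i) be a directed system of commutative rings with direct limit A and M a finitely presented
A-module. Then there exist an index i and a finitely presented A_i-module M_i such that M is
isomorphic, as an A-module, to A ⊗_{A_i} M_i (A being an A_i-algebra through the canonical map). -/
theorem result (ι : Type u) [Preorder ι] [Nonempty ι] [IsDirectedOrder ι]
    (G : ι → Type u) [∀ i, CommRing (G i)] (f : ∀ i j, i ≤ j → G i →+* G j)
    [DirectedSystem G (fun i j h ↦ f i j h)] (M : Type u) [AddCommGroup M]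
    [Module (Ring.DirectLimit G (fun i j h ↦ f i j h)) M]
    [Module.FinitePresentation (Ring.DirectLimit G (fun i j h ↦ f i j h)) M] :
    ∃ (i : ι) (Mi : Type u) (_ : AddCommGroup Mi) (_ : Module (G i) Mi), Module.FinitePresentation (G i) Mi ∧
      letI : Algebra (G i) (Ring.DirectLimit G (fun i j h ↦ f i j h)) :=
        (Ring.DirectLimit.of G (fun i j h ↦ f i j h) i).toAlgebra
      Nonempty (M ≃ₗ[Ring.DirectLimit G (fun i j h ↦ f i j h)] (Ring.DirectLimit G (fun i j h ↦ f i j h)) ⊗[G i] Mi) := by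
  classical
  obtain ⟨n, K, e, hK⟩ := Module.FinitePresentation.exists_fin (Ring.DirectLimit G (fun i j h ↦ f i j h)) M
  obtain ⟨m, g, hg⟩ := Submodule.fg_iff_exists_fin_generating_family.1 hK
  have hlift : ∀ p : Fin m × Fin n, ∃ (i : ι) (y : G i), Ring.DirectLimit.of G (fun i j h ↦ f i j h) i y = g p.1 p.2 :=
    fun p => Ring.DirectLimit.exists_of _
  choose idx y hy using hlift
  obtain ⟨i, hi⟩ := Finite.exists_le idx
  let c : Fin m → Fin n → G i := fun l j => f _ _ (hi (l, j)) (y (l, j))
  refine ⟨i, (Fin n → G i) ⧸ Submodule.span (G i) (Set.range c), inferInstance, inferInstance,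
    Module.finitePresentation_of_surjective (Submodule.mkQ _) (Submodule.mkQ_surjective _)
      (by rw [Submodule.ker_mkQ]; exact Submodule.fg_span (Set.finite_range c)), ?_⟩
  letI : Algebra (G i) (Ring.DirectLimit G (fun i j h ↦ f i j h)) :=
    (Ring.DirectLimit.of G (fun i j h ↦ f i j h) i).toAlgebra
  obtain ⟨e'⟩ := descend (A := Ring.DirectLimit G (fun i j h ↦ f i j h)) c g fun l j => by
    show Ring.DirectLimit.of G (fun i j h ↦ f i j h) i (f _ _ (hi (l, j)) (y (l, j))) = _
    rw [Ring.DirectLimit.of_f]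
    exact hy (l, j)
  exact ⟨e.trans ((Submodule.quotEquivOfEq _ _ hg.symm).trans e')⟩

end Groth.Agent.S4726
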