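import Groth.Statements.S4728
import Groth.Agent.H05EGA4.CompleteFibres
import Groth.Prelude.Def_EGA4b

set_option autoImplicit false
set_option linter.style.haveILetI false
set_option maxHeartbeats 800000
set_option synthInstance.maxHeartbeats 200000
universe u
open EGA4

open TensorProduct Groth.Agent Groth.Agent.H05EGA4 IsLocalRing

namespace Groth.Agent.S4728

/-- Let A be a Noetherian local domain of dimension 1 with maximal ideal m, A' a Noetherian local ring
and A → A' a local homomorphism which is normal (flat, with geometrically normal fibres). Then the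
ideal m A' of A' is prime and the local ring of A' at m A' has dimension 1. (The remaining clauses
of the published item, describing A' inside its total ring of fractions, are not restated.) -/
theorem result (A A' : Type u) [CommRing A] [CommRing A']
    [IsNoetherianRing A] [IsNoetherianRing A'] [IsLocalRing A] [IsLocalRing A'] [IsDomain A]
    (hA : ringKrullDim A = 1) [Algebra A A'] [IsLocalHom (algebraMap A A')] (h : EGA4.IsNormalHom A A') :
    ((IsLocalRing.maximalIdeal A).map (algebraMap A A')).IsPrime ∧
      ((IsLocalRing.maximalIdeal A).map (algebraMap A A')).height = 1 := by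
  have hflat := h.1
  haveI : IsNoetherianRing ((maximalIdeal A).Fiber A') := H02CA.isNoetherianRing_tensor_of_essFiniteType _ _ _
  let P := (maximalIdeal A).map (algebraMap A A')
  have hP : P ≤ maximalIdeal A' := map_maximalIdeal_le _
  haveI : Nontrivial (A' ⧸ P) := Ideal.Quotient.nontrivial_iff.mpr (ne_top_of_le_ne_top (maximalIdeal.isMaximal A').ne_top hP)
  haveI : IsLocalRing (A' ⧸ P) := .of_surjective' _ Ideal.Quotient.mk_surjective
  let e0 : (A ⧸ maximalIdeal A) ≃ₐ[A] (maximalIdeal A).ResidueField :=
    AlgEquiv.ofBijective (IsScalarTower.toAlgHom A (A ⧸ maximalIdeal A) _) (maximalIdeal A).bijective_algebraMap_quotient_residueField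
  let e : (maximalIdeal A).Fiber A' ≃+* A' ⧸ P :=
    (Algebra.TensorProduct.congr e0.symm (AlgEquiv.refl : A' ≃ₐ[A] A')).toRingEquiv.trans
      (Algebra.TensorProduct.quotIdealMapEquivQuotTensor A' (maximalIdeal A)).symm.toRingEquiv
  have hn : EGA4.IsNormalRing (A' ⧸ P) := isNormalRing_iff_rs.mpr
    ((GRS.self (isGeomNormal_iff_grs.mp (h.2 (maximalIdeal A)))).of_ringEquiv e)
  haveI := isDomain_of_isNormalRing_local hn
  haveI hPp : P.IsPrime := (Ideal.Quotient.isDomain_iff_prime _).mp inferInstance
  refine ⟨hPp, ?_⟩
  haveI : P.LiesOver (maximalIdeal A) := ⟨((maximalIdeal.isMaximal A).eq_of_le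
    (Ideal.comap_ne_top _ hPp.ne_top) (Ideal.le_comap_map))⟩
  haveI := hflat
  rw [Ideal.height_eq_height_add_of_liesOver_of_hasGoingDown (maximalIdeal A) P]
  have h0 : (P.map (Ideal.Quotient.mk ((maximalIdeal A).map (algebraMap A A')))).height = 0 := by
    haveI : IsDomain (A' ⧸ (maximalIdeal A).map (algebraMap A A')) := ‹IsDomain (A' ⧸ P)›
    rw [show P.map (Ideal.Quotient.mk ((maximalIdeal A).map (algebraMap A A'))) = ⊥ from Ideal.map_quotient_self P,
      Ideal.height_bot]
  rw [h0, add_zero]
  have := IsLocalRing.maximalIdeal_height_eq_ringKrullDim (R := A)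
  rw [hA] at this
  exact_mod_cast this


end Groth.Agent.S4728
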