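import Groth.Statements.S4729
import Groth.Agent.H05EGA4.EakinNagata
import Groth.Agent.H4Depth.SupportLoc

set_option autoImplicit false
set_option linter.style.haveILetI false
set_option maxHeartbeats 800000
universe u
open EGA4

open Groth.Agent Groth.Agent.H05EGA4

namespace Groth.Agent.S4729

/-- Let A be a commutative ring, M a finite A-module and p ⊆ q prime ideals of A (so that p is a
generization of q). Then the dimension of the A_p-module M_p is at most the dimension of the
A_q-module M_q. -/
theorem result (A : Type u) [CommRing A] (M : Type u) [AddCommGroup M] [Module A M]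
    [Module.Finite A M] (p q : Ideal A) [p.IsPrime] [q.IsPrime] (hpq : p ≤ q) :
    Module.supportDim (Localization.AtPrime p) (LocalizedModule p.primeCompl M) ≤
      Module.supportDim (Localization.AtPrime q) (LocalizedModule q.primeCompl M) := by
  let ep := IsLocalization.AtPrime.primeSpectrumOrderIso (Localization.AtPrime p) p
  let eq' := IsLocalization.AtPrime.primeSpectrumOrderIso (Localization.AtPrime q) q
  have hp := fun P => (H4Depth.mem_support_localizedModule_iff p.primeCompl (Localization.AtPrime p)
    (LocalizedModule.mkLinearMap p.primeCompl M) P)
  have hq := fun P => (H4Depth.mem_support_localizedModule_iff q.primeCompl (Localization.AtPrime q)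
    (LocalizedModule.mkLinearMap q.primeCompl M) P)
  let g : PrimeSpectrum (Localization.AtPrime p) → PrimeSpectrum (Localization.AtPrime q) := fun P =>
    eq'.symm ⟨(ep P).1, (ep P).2.trans hpq⟩
  have hg : StrictMono g := fun P P' h => eq'.symm.strictMono (show (ep P).1 < (ep P').1 from ep.strictMono h)
  refine Order.krullDim_le_of_strictMono (fun P => ⟨g P.1, ?_⟩) fun P P' h => hg h
  refine (hq _).mpr ?_
  have : PrimeSpectrum.comap (algebraMap A (Localization.AtPrime q)) (g P.1) = (ep P.1).1 :=
    congrArg Subtype.val (eq'.apply_symm_apply _)
  rw [this]
  exact (hp _).mp P.2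


end Groth.Agent.S4729
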