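import Groth.Statements.S4730
import Mathlib
import Groth.Agent.S4688

set_option autoImplicit false
set_option maxHeartbeats 800000
universe u
open EGA4

open Cardinal TensorProduct

namespace Groth.Agent.S4730

open Polynomial in
/-- Let A be a Noetherian ring, p a prime ideal of A and q a prime ideal of the polynomial ring A[T]
lying over p. Then ht(p) + 1 = ht(q) + deg.tr_{κ(p)} κ(q), the transcendence degree being that of
the domain A[T]/q over the domain A/p. -/
theorem result (A : Type u) [CommRing A] [IsNoetherianRing A]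
    (p : Ideal A) [p.IsPrime] (q : Ideal A[X]) [q.IsPrime] [q.LiesOver p] :
    (p.height : Cardinal.{u}) + 1 = (q.height : Cardinal.{u}) + Algebra.trdeg (A ⧸ p) (A[X] ⧸ q) := by
  have h88 := Groth.Agent.S4688.result A p q
  by_cases hq : q = p.map (Polynomial.C : A →+* Polynomial A)
  · have hh : q.height = p.height := hq ▸ h88.1
    let e : Polynomial (A ⧸ p) ≃ₐ[A ⧸ p] Polynomial A ⧸ q :=
      AlgEquiv.ofRingEquiv (f := (Ideal.polynomialQuotientEquivQuotientPolynomial p).trans
        (Ideal.quotEquivOfEq hq.symm)) (fun c => by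
          obtain ⟨a, rfl⟩ := Ideal.Quotient.mk_surjective c
          rw [RingEquiv.trans_apply, ← Polynomial.C_eq_algebraMap, ← Polynomial.map_C,
            Ideal.polynomialQuotientEquivQuotientPolynomial_map_mk, Ideal.quotEquivOfEq_mk]
          rfl)
    rw [hh, ← e.trdeg_eq, Polynomial.trdeg_of_isDomain]
  · have hh := h88.2 hq
    have hle : p.map (Polynomial.C : A →+* Polynomial A) ≤ q :=
      Ideal.map_le_iff_le_comap.mpr (Ideal.LiesOver.over (p := p) (P := q)).le
    obtain ⟨f, hfq, hfp⟩ := SetLike.exists_of_lt (lt_of_le_of_ne hle (Ne.symm hq))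
    let x : Polynomial A ⧸ q := Ideal.Quotient.mk q Polynomial.X
    have hx : IsAlgebraic (A ⧸ p) x := by
      refine ⟨f.map (Ideal.Quotient.mk p), ?_, ?_⟩
      · intro h0
        refine hfp (Ideal.mem_map_C_iff.mpr fun n => ?_)
        have h' := congr(Polynomial.coeff $h0 n)
        rw [Polynomial.coeff_map, Polynomial.coeff_zero] at h'
        exact Ideal.Quotient.eq_zero_iff_mem.mp h'
      · have : Polynomial.aeval x (f.map (Ideal.Quotient.mk p)) = Polynomial.aeval x f :=
          Polynomial.aeval_map_algebraMap (A ⧸ p) x f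
        rw [this]
        have h2 : Polynomial.aeval x f = Ideal.Quotient.mkₐ A q f := by
          rw [show x = Ideal.Quotient.mkₐ A q Polynomial.X from rfl, Polynomial.aeval_algHom_apply,
            Polynomial.aeval_X_left_apply]
        rw [h2]
        exact Ideal.Quotient.eq_zero_iff_mem.mpr hfq
    have htop : Algebra.adjoin (A ⧸ p) {x} = ⊤ := by
      rw [eq_top_iff]
      rintro z -
      obtain ⟨g, rfl⟩ := Ideal.Quotient.mk_surjective z
      induction g using Polynomial.induction_on' with
      | add a b ha hb => rw [map_add]; exact add_mem ha hb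
      | monomial n a =>
        rw [← Polynomial.C_mul_X_pow_eq_monomial, map_mul, map_pow]
        exact mul_mem (Subalgebra.algebraMap_mem _ (Ideal.Quotient.mk p a))
          (pow_mem (Algebra.self_mem_adjoin_singleton _ x) n)
    have : Algebra.IsAlgebraic (A ⧸ p) (Polynomial A ⧸ q) := by
      refine ⟨fun z => ?_⟩
      have hle : Algebra.adjoin (A ⧸ p) {x} ≤ Subalgebra.algebraicClosure (A ⧸ p) _ :=
        Algebra.adjoin_le (Set.singleton_subset_iff.mpr hx)
      exact hle (htop ▸ Algebra.mem_top)
    rw [hh, trdeg_eq_zero, add_zero, Cardinal.ofENat_add, Cardinal.ofENat_one]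


end Groth.Agent.S4730
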