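import Groth.Statements.S4731
import Groth.Agent.H05EGA4.EakinNagata
import Groth.Agent.H4Depth.SupportLoc

set_option autoImplicit false
set_option linter.style.haveILetI false
set_option maxHeartbeats 800000
universe u
open EGA4

open Groth.Agent Groth.Agent.H05EGA4

namespace Groth.Agent.S4731

/-- Let S → R be an injective homomorphism of commutative rings making R a finite S-module, with R
Noetherian; let c be the conductor of S in R, the ideal of those s in S with s R contained in (the
image of) S. If S/c is Noetherian, then every increasing sequence of ideals of S contained in c is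
eventually constant. -/
theorem result (S R : Type u) [CommRing S] [CommRing R] [Algebra S R]
    [FaithfulSMul S R] [IsNoetherianRing R] [Module.Finite S R] (c : Ideal S)
    (hc : ∀ s : S, s ∈ c ↔ ∀ r : R, ∃ s' : S, algebraMap S R s' = algebraMap S R s * r)
    [IsNoetherianRing (S ⧸ c)] (a : ℕ →o Ideal S) (ha : ∀ n, a n ≤ c) :
    ∃ N : ℕ, ∀ n, N ≤ n → a n = a N := by
  haveI := eakin_nagata S R
  obtain ⟨N, hN⟩ := monotone_stabilizes_iff_noetherian.mpr (inferInstance : IsNoetherian S S) a
  exact ⟨N, fun n hn => (hN n hn).symm⟩


end Groth.Agent.S4731
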