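import Groth.Statements.S4732
import Mathlib

set_option autoImplicit false
universe u
open EGA4

open CategoryTheory AlgebraicGeometry

namespace Groth.Agent.S4732

open AlgebraicGeometry CategoryTheory in
/-- Let k be a field, X a scheme locally of finite type over k and x a point of X. Then there are an
open neighbourhood U of x, a k-scheme Y all of whose local rings are regular, and an immersion U → Y
compatible with the structure morphisms to Spec k. -/
theorem result (k : Type u) [Field k] {X : Scheme.{u}}
    (f : X ⟶ Spec (CommRingCat.of k)) [LocallyOfFiniteType f] (x : X) :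
    ∃ (U : X.Opens) (_ : x ∈ U) (Y : Scheme.{u}) (g : Y ⟶ Spec (CommRingCat.of k)) (i : (U : Scheme.{u}) ⟶ Y),
      IsImmersion i ∧ i ≫ g = U.ι ≫ f ∧ ∀ y : Y, IsRegularLocalRing (Y.presheaf.stalk y) := by
  obtain ⟨U, hU, hx, -⟩ := exists_isAffineOpen_mem_and_subset (U := (⊤ : X.Opens)) (x := x) trivial
  refine ⟨U, hx, ?_⟩
  haveI : IsAffine (U : Scheme) := hU
  let g := U.ι ≫ f
  let φ : CommRingCat.of k ⟶ Γ((U : Scheme), ⊤) := (Scheme.ΓSpecIso (CommRingCat.of k)).inv ≫ g.appTop
  have hφ : φ.hom.FiniteType := by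
    have h := HasRingHomProperty.appTop (P := @LocallyOfFiniteType) g inferInstance
    exact h.comp (RingHom.FiniteType.of_surjective _ (Scheme.ΓSpecIso (CommRingCat.of k)).commRingCatIsoToRingEquiv.symm.surjective)
  letI : Algebra k Γ((U : Scheme), ⊤) := φ.hom.toAlgebra
  haveI : Algebra.FiniteType k Γ((U : Scheme), ⊤) := hφ
  obtain ⟨n, π, hπ⟩ := Algebra.FiniteType.iff_quotient_mvPolynomial''.1 ‹Algebra.FiniteType k Γ((U : Scheme), ⊤)›
  let R := MvPolynomial (Fin n) k
  let π' : CommRingCat.of R ⟶ Γ((U : Scheme), ⊤) := CommRingCat.ofHom π.toRingHom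
  let i : (U : Scheme) ⟶ Spec (CommRingCat.of R) := (U : Scheme).isoSpec.hom ≫ Spec.map π'
  refine ⟨Spec (CommRingCat.of R), Spec.map (CommRingCat.ofHom (algebraMap k R)), i, ?_, ?_, fun y => ?_⟩
  · haveI : IsClosedImmersion (Spec.map (CommRingCat.ofHom π.toRingHom)) := IsClosedImmersion.spec_of_surjective _ hπ
    haveI : IsClosedImmersion (Spec.map π') := this
    haveI : IsClosedImmersion i := inferInstanceAs (IsClosedImmersion (_ ≫ _))
    infer_instance
  · have h : CommRingCat.ofHom (algebraMap k R) ≫ CommRingCat.ofHom π.toRingHom = φ := by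
      ext c
      exact π.commutes c
    rw [Category.assoc, ← Spec.map_comp]
    erw [h]
    rw [Spec.map_comp, ← Category.assoc, Scheme.isoSpec_hom_naturality]
    simp [g, Scheme.isoSpec_Spec_hom, ← Spec.map_comp]
  · haveI : IsRegularLocalRing (Localization.AtPrime y.asIdeal) := isRegularRing_iff.mp (inferInstanceAs (IsRegularRing R)) y.asIdeal
    show IsRegularLocalRing ((AlgebraicGeometry.structurePresheafInCommRingCat R).stalk y)
    exact IsRegularLocalRing.of_ringEquiv (StructureSheaf.stalkIso R y).toRingEquiv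

end Groth.Agent.S4732
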