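import Groth.Statements.S4733
import Groth.Agent.H05EGA4.FormalFibres
import Groth.Agent.H05EGA4.NorLocus

set_option autoImplicit false
set_option linter.style.haveILetI false
universe u
open EGA4

open IsLocalRing TensorProduct Groth.Agent Groth.Agent.H05EGA4

namespace Groth.Agent.S4733

open TensorProduct in
/-- For the property 'regular' (affine form): let k be a field, S a Noetherian k-algebra and k' an
extension field of k such that S is of finite type over k or k' is essentially of finite type over
k; let q' be a prime of S ⊗_k k' and q its contraction to S. If (S ⊗_k k')_{q'} is a regular local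
ring then so is S_q; conversely, if k' is separable over k (geometrically reduced) and S_q is
regular, then (S ⊗_k k')_{q'} is regular. -/
theorem result (k S k' : Type u) [Field k] [CommRing S] [Algebra k S]
    [IsNoetherianRing S] [Field k'] [Algebra k k'] (hft : Algebra.FiniteType k S ∨ Algebra.EssFiniteType k k')
    [IsNoetherianRing (S ⊗[k] k')] (q' : Ideal (S ⊗[k] k')) [q'.IsPrime] :
    (IsRegularLocalRing (Localization.AtPrime q') →
        IsRegularLocalRing (Localization.AtPrime (q'.comap (algebraMap S (S ⊗[k] k'))))) ∧
      (Algebra.IsGeometricallyReduced k k' →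
        IsRegularLocalRing (Localization.AtPrime (q'.comap (algebraMap S (S ⊗[k] k')))) →
          IsRegularLocalRing (Localization.AtPrime q')) := by
  have hor : Algebra.EssFiniteType k S ∨ Algebra.EssFiniteType k k' := by
    rcases hft with h | h
    · exact .inl inferInstance
    · exact .inr h
  let q := q'.comap (algebraMap S (S ⊗[k] k'))
  have hreg : ∀ {R : Type u} [CommRing R] [IsNoetherianRing R] (P : Ideal R) [P.IsPrime],
      IsRegularLocalRing (Localization.AtPrime P) ↔ RS ⊤ ⊤ (Localization.AtPrime P) := fun P _ =>
    iff_of_eq (congrArg ((⟨P, inferInstance⟩ : PrimeSpectrum _) ∈ ·) (regLocus_eq _))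
  refine ⟨fun h => (hreg q).mpr (rs_atPrime_descent q' ((hreg q').mp h)), fun hk hq => (hreg q').mpr ?_⟩
  refine (rs_atPrime_iff_of_grsHom ?_ q').mpr ((hreg q).mp hq)
  exact (grsHom_of_grs (isGeometricallyRegular_iff_grs.mp
    isGeometricallyRegular_of_isGeometricallyReduced_field)).baseChange hor


end Groth.Agent.S4733
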