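import Groth.Statements.S4736
import Mathlib
import Groth.Prelude.Def_EGA4b
import Groth.Agent.H05EGA4.GeomRegular
import Groth.Agent.H05EGA4.Equidim

set_option autoImplicit false
set_option linter.style.haveILetI false
universe u
open EGA4

open IsLocalRing TensorProduct Groth.Agent CAlgX Groth.Agent.H05EGA4

namespace Groth.Agent.S4736

/-- Let A → B be a regular homomorphism of Noetherian rings (flat, with geometrically regular fibres)
and S a multiplicative subset of A. Then the induced homomorphism S⁻¹A → S⁻¹B is regular. (S⁻¹A and
S⁻¹B are given here as arbitrary localizations at S and at its image.) -/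
theorem result (A B : Type u) [CommRing A] [CommRing B] [IsNoetherianRing A] [IsNoetherianRing B]
    [Algebra A B] (h : CAlg.IsRegularHom A B) (S : Submonoid A)
    (A' B' : Type u) [CommRing A'] [CommRing B'] [Algebra A A'] [Algebra B B'] [Algebra A' B'] [Algebra A B']
    [IsScalarTower A A' B'] [IsScalarTower A B B'] [IsLocalization S A']
    [IsLocalization (Algebra.algebraMapSubmonoid B S) B'] :
    CAlg.IsRegularHom A' B' := by
  have := h.1
  have : Module.Flat B B' := IsLocalization.flat B' (Algebra.algebraMapSubmonoid B S)
  have : Module.Flat A B' := Module.Flat.trans A B B'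
  have : Module.Flat A' B' := (Module.flat_iff_of_isLocalization A' S B').mpr ‹_›
  have : IsNoetherianRing B' := IsLocalization.isNoetherianRing (Algebra.algebraMapSubmonoid B S) B' inferInstance
  refine H02CA.isRegularHom_of_forall (fun p _ => H02CA.isNoetherianRing_tensor_of_essFiniteType _ _ _)
    fun P _ k' _ _ _ _ _ => ?_
  letI : Algebra A k' := ((algebraMap A' k').comp (algebraMap A A')).toAlgebra
  have : IsScalarTower A A' k' := .of_algebraMap_eq fun _ => rfl
  have : Algebra.EssFiniteType A A' := Algebra.EssFiniteType.of_isLocalization A' S
  have : Algebra.EssFiniteType A' k' := Algebra.EssFiniteType.comp A' P.ResidueField k'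
  have : Algebra.EssFiniteType A k' := Algebra.EssFiniteType.comp A A' k'
  have := H02CA.isNoetherianRing_tensor_of_essFiniteType A B k'
  have h1 := isRegularRing_tensor_of_isLocalization A B B' k' (Algebra.algebraMapSubmonoid B S)
    (isRegularRing_tensor_field_of_isRegularHom h k')
  exact IsRegularRing.of_ringEquiv (R := k' ⊗[A] B')
    (IsLocalization.algebraTensorEquiv S A' k' B').symm.toRingEquiv


end Groth.Agent.S4736
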