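import Groth.Statements.S4737
import Mathlib
import Groth.Prelude.Def_EGA4b
import Groth.Agent.H05EGA4.GeomRegular
import Groth.Agent.H05EGA4.Equidim

set_option autoImplicit false
set_option linter.style.haveILetI false
universe u
open EGA4

open IsLocalRing TensorProduct Groth.Agent CAlgX Groth.Agent.H05EGA4

namespace Groth.Agent.S4737

/-- The property 'geometrically regular', case of a local ring: let A be a Noetherian local ring whose
completion map A → Â is regular (the formal fibres of A are geometrically regular). Then for every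
proper ideal I of A, the completion map of the local ring A/I is regular. -/
theorem result (A : Type u) [CommRing A] [IsNoetherianRing A] [IsLocalRing A]
    (hA : CAlg.IsRegularHom A (EGA4.Cpl A)) (I : Ideal A) [Nontrivial (A ⧸ I)] :
    CAlg.IsRegularHom (A ⧸ I) (EGA4.Cpl (A ⧸ I)) := by
  let Ah := EGA4.Cpl A
  let C := EGA4.Cpl (A ⧸ I)
  let T := (A ⧸ I) ⊗[A] Ah
  have : IsNoetherianRing Ah := isNoetherianRing_adicCompletion A (IsLocalRing.maximalIdeal A)
  have h1 : CAlg.IsRegularHom (A ⧸ I) T := isRegularHom_baseChange hA fun L _ _ _ _ hL => by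
    have : Algebra.EssFiniteType A L := Algebra.EssFiniteType.comp A (A ⧸ I) L
    exact H02CA.isNoetherianRing_tensor_of_essFiniteType _ _ _
  obtain ⟨e, he⟩ := exists_completion_quotient_equiv_comm (IsLocalRing.maximalIdeal A) (A ⧸ I) (Ideal.Quotient.mk I)
    Ideal.Quotient.mk_surjective (IsLocalRing.maximalIdeal (A ⧸ I))
    (IsLocalRing.map_maximalIdeal_of_surjective _ Ideal.Quotient.mk_surjective)
  let e1 : (Ah ⧸ I.map (algebraMap A Ah)) ≃+* C := (Ideal.quotEquivOfEq (by rw [Ideal.mk_ker])).trans e
  let e2 : (Ah ⧸ I.map (algebraMap A Ah)) ≃ₐ[A ⧸ I] C := AlgEquiv.ofRingEquiv (f := e1) fun x => by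
    obtain ⟨a, rfl⟩ := Ideal.Quotient.mk_surjective x
    exact he a
  let e3 : T ≃ₐ[A ⧸ I] C := (Algebra.TensorProduct.quotIdealMapEquivQuotTensor Ah I).symm.trans e2
  letI : Algebra C T := e3.symm.toAlgHom.toRingHom.toAlgebra
  have : IsScalarTower (A ⧸ I) C T := .of_algebraMap_eq fun x => (e3.symm.commutes x).symm
  have : Module.FaithfullyFlat C T := Module.FaithfullyFlat.of_linearEquiv C C
    ({ e3.toRingEquiv.toAddEquiv with
        map_smul' := fun c t => by
          show e3 (e3.symm c * t) = c * e3 t
          rw [map_mul, e3.apply_symm_apply] } : T ≃ₗ[C] C)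
  exact H02CA.isRegularHom_of_comp (A ⧸ I) C T h1


end Groth.Agent.S4737
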