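import Groth.Statements.S4741
import Groth.Agent.H05EGA4.CodimPre
-- import your own Groth.Agent.* helpers here

set_option autoImplicit false
universe u
open EGA4

namespace Groth.Agent.S4741

open AlgebraicGeometry CategoryTheory in
/-- Suppose X and Y are locally Noetherian schemes, f : X → Y is a morphism that is surjective, and Z is
a closed subset of Y. Then codim(f⁻¹(Z), X) ≤ codim(Z, Y), where the codimension of a closed subset
means the infimum over its points of the dimensions of the local rings there; when f is in addition
flat, these two codimensions coincide. (In the published version the equality part assumes f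
quasi-flat; here f is taken to be flat.) -/
theorem result {X Y : Scheme.{u}} (f : X ⟶ Y) [IsLocallyNoetherian X]
    [IsLocallyNoetherian Y] (hf : Function.Surjective f.base) (Z : Set Y) (hZ : IsClosed Z) :
    (⨅ x ∈ f.base ⁻¹' Z, ringKrullDim (X.presheaf.stalk x)) ≤ ⨅ y ∈ Z, ringKrullDim (Y.presheaf.stalk y) ∧
      (Flat f → (⨅ x ∈ f.base ⁻¹' Z, ringKrullDim (X.presheaf.stalk x)) = ⨅ y ∈ Z, ringKrullDim (Y.presheaf.stalk y)) := by
  exact Groth.Agent.H05EGA4.CodimPre.codim_preimage hf Z

end Groth.Agent.S4741
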