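import Groth.Statements.S4742
import Groth.Agent.H05EGA4.EquidimHyperplane
-- import your own Groth.Agent.* helpers here

set_option autoImplicit false
universe u
open EGA4

namespace Groth.Agent.S4742

/-- Let A be a Noetherian local ring which is equidimensional and catenary, t an element of A belonging
to a system of parameters (dim A/tA + 1 = dim A), and Z a set of prime ideals of A stable under
specialization. Write X = Spec A, X₀ = V(t), X₁ = X ∖ X₀ and Z₀ = Z ∩ X₀, Z₁ = Z ∩ X₁. Then
codim(Z₀, X₀) ≤ codim(Z, X) ≤ codim(Z₁, X₁), where each codimension is the infimum of the heights of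
the primes concerned, heights for Z₀ being taken in A/tA. -/
theorem result (A : Type u) [CommRing A] [IsNoetherianRing A] [IsLocalRing A]
    (hA : EGA4.IsEquidim A) (hA' : CAlg.IsCatenary A) (t : A)
    (ht : ringKrullDim (A ⧸ Ideal.span {t}) + 1 = ringKrullDim A) (Z : Set (PrimeSpectrum A))
    (hZ : StableUnderSpecialization Z) :
    (⨅ p ∈ {p ∈ Z | t ∈ p.asIdeal}, (p.asIdeal.map (Ideal.Quotient.mk (Ideal.span {t}))).height) ≤
        ⨅ p ∈ Z, p.asIdeal.height ∧
      (⨅ p ∈ Z, p.asIdeal.height) ≤ ⨅ p ∈ {p ∈ Z | t ∉ p.asIdeal}, p.asIdeal.height := by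
  exact Groth.Agent.H05EGA4.EquidimHyperplane.iInf_height A hA hA' t ht Z hZ

end Groth.Agent.S4742
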