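import Groth.Statements.S4747
import Groth.Agent.H05EGA4.CompleteFibres

set_option autoImplicit false
set_option linter.style.haveILetI false
set_option maxHeartbeats 800000
set_option synthInstance.maxHeartbeats 200000
universe u
open EGA4

open TensorProduct Groth.Agent Groth.Agent.H05EGA4

namespace Groth.Agent.S4747

open TensorProduct in
/-- For the property 'Cohen–Macaulay': let A → B be a local homomorphism of Noetherian local rings
making B a flat A-module, such that the residue field of B is a finite extension of the residue
field k of A, and such that the formal fibres of A are Cohen–Macaulay. If for every finite extension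
k' of k the ring k' ⊗_k (k ⊗_A B̂) is Cohen–Macaulay (B̂ the completion of B), then for every prime
p of A and every finite extension K of k(p) the ring K ⊗_{k(p)} (k(p) ⊗_A B) is Cohen–Macaulay; in
particular all fibres of A → B are Cohen–Macaulay. -/
theorem result (A B : Type u) [CommRing A] [CommRing B]
    [IsNoetherianRing A] [IsNoetherianRing B] [IsLocalRing A] [IsLocalRing B] [Algebra A B]
    [IsLocalHom (algebraMap A B)] [Module.Flat A B]
    [Module.Finite (IsLocalRing.ResidueField A) (IsLocalRing.ResidueField B)]
    (hA : EGA4.HasCMFormalFibres A)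
    (h : ∀ (k' : Type u) [Field k'] [Algebra (IsLocalRing.maximalIdeal A).ResidueField k'],
      Module.Finite (IsLocalRing.maximalIdeal A).ResidueField k' →
        LocCoh.IsCohenMacaulayRing (k' ⊗[(IsLocalRing.maximalIdeal A).ResidueField]
          ((IsLocalRing.maximalIdeal A).Fiber (EGA4.Cpl B)))) :
    ∀ (p : Ideal A) [p.IsPrime] (K : Type u) [Field K] [Algebra p.ResidueField K],
      Module.Finite p.ResidueField K → LocCoh.IsCohenMacaulayRing (K ⊗[p.ResidueField] (p.Fiber B)) := by
  intro p _ K _ _ hK
  haveI := isNoetherianRing_cpl A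
  haveI := isNoetherianRing_cpl B
  haveI : IsNoetherianRing ((IsLocalRing.maximalIdeal A).Fiber (EGA4.Cpl B)) := H02CA.isNoetherianRing_tensor_of_essFiniteType _ _ _
  have hG := grsHom_of_cpl_closed_fibre liftable_cm ((hasCMFormalFibres_iff A).mp hA) (fun k' _ _ hk' => by
    haveI : IsNoetherianRing (k' ⊗[(IsLocalRing.maximalIdeal A).ResidueField] ((IsLocalRing.maximalIdeal A).Fiber (EGA4.Cpl B))) :=
      H02CA.isNoetherianRing_tensor_of_essFiniteType _ _ _
    exact isCohenMacaulayRing_iff_rs.mp (h k' hk'))
  haveI : IsNoetherianRing (p.Fiber B) := H02CA.isNoetherianRing_tensor_of_essFiniteType _ _ _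
  haveI : IsNoetherianRing (K ⊗[p.ResidueField] (p.Fiber B)) := H02CA.isNoetherianRing_tensor_of_essFiniteType _ _ _
  exact isCohenMacaulayRing_iff_rs.mpr (hG.2 p K hK)


end Groth.Agent.S4747
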