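import Groth.Statements.S4748
import Groth.Agent.H05EGA4.FormalFibres
import Groth.Agent.H05EGA4.NorLocus

set_option autoImplicit false
set_option linter.style.haveILetI false
universe u
open EGA4

open IsLocalRing TensorProduct Groth.Agent Groth.Agent.H05EGA4

namespace Groth.Agent.S4748

open TensorProduct in
/-- For the property 'normal' (affine form): let k be a field, S a Noetherian k-algebra and k' an
extension field of k such that S is of finite type over k or k' is essentially of finite type over
k; let q' be a prime of S ⊗_k k' and q its contraction to S. If (S ⊗_k k')_{q'} is an integrally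
closed domain then so is S_q; conversely, if k' is separable over k (geometrically reduced) and S_q
is an integrally closed domain, then so is (S ⊗_k k')_{q'}. -/
theorem result (k S k' : Type u) [Field k] [CommRing S] [Algebra k S]
    [IsNoetherianRing S] [Field k'] [Algebra k k'] (hft : Algebra.FiniteType k S ∨ Algebra.EssFiniteType k k')
    [IsNoetherianRing (S ⊗[k] k')] (q' : Ideal (S ⊗[k] k')) [q'.IsPrime] :
    ((IsDomain (Localization.AtPrime q') ∧ IsIntegrallyClosed (Localization.AtPrime q')) →
        (IsDomain (Localization.AtPrime (q'.comap (algebraMap S (S ⊗[k] k')))) ∧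
          IsIntegrallyClosed (Localization.AtPrime (q'.comap (algebraMap S (S ⊗[k] k')))))) ∧
      (Algebra.IsGeometricallyReduced k k' →
        (IsDomain (Localization.AtPrime (q'.comap (algebraMap S (S ⊗[k] k')))) ∧
          IsIntegrallyClosed (Localization.AtPrime (q'.comap (algebraMap S (S ⊗[k] k'))))) →
          (IsDomain (Localization.AtPrime q') ∧ IsIntegrallyClosed (Localization.AtPrime q'))) := by
  have hor : Algebra.EssFiniteType k S ∨ Algebra.EssFiniteType k k' := by
    rcases hft with h | h
    · exact .inl inferInstance
    · exact .inr h
  let q := q'.comap (algebraMap S (S ⊗[k] k'))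
  have hnor : ∀ {R : Type u} [CommRing R] [IsNoetherianRing R] (P : Ideal R) [P.IsPrime],
      (IsDomain (Localization.AtPrime P) ∧ IsIntegrallyClosed (Localization.AtPrime P)) ↔
        RS 1 2 (Localization.AtPrime P) := fun P _ =>
    iff_of_eq (congrArg ((⟨P, inferInstance⟩ : PrimeSpectrum _) ∈ ·) (norLocus_eq _))
  refine ⟨fun h => (hnor q).mpr (rs_atPrime_descent q' ((hnor q').mp h)), fun hk hq => (hnor q').mpr ?_⟩
  refine (rs_atPrime_iff_of_grsHom ?_ q').mpr ((hnor q).mp hq)
  exact (grsHom_of_grs (grs_of_isGeometricallyRegular
    isGeometricallyRegular_of_isGeometricallyReduced_field)).baseChange hor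


end Groth.Agent.S4748
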