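import Groth.Statements.S4750
import Groth.Agent.H05EGA4.FormalFibres
import Groth.Agent.H05EGA4.NorLocus

set_option autoImplicit false
set_option linter.style.haveILetI false
universe u
open EGA4

open IsLocalRing TensorProduct Groth.Agent Groth.Agent.H05EGA4

namespace Groth.Agent.S4750

/-- Let A → B → C be homomorphisms of Noetherian rings, both flat and with (S_n) fibres. Then the
composite A → C is flat with (S_n) fibres. -/
theorem result (n : ℕ) (A B C : Type u) [CommRing A] [CommRing B] [CommRing C] [IsNoetherianRing A]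
    [IsNoetherianRing B] [IsNoetherianRing C] [Algebra A B] [Algebra B C] [Algebra A C] [IsScalarTower A B C]
    [Module.Flat A B] [Module.Flat B C]
    (hAB : ∀ (p : Ideal A) [p.IsPrime], LocCoh.HasSk n (p.Fiber B) (p.Fiber B))
    (hBC : ∀ (q : Ideal B) [q.IsPrime], LocCoh.HasSk n (q.Fiber C) (q.Fiber C)) :
    Module.Flat A C ∧ ∀ (p : Ideal A) [p.IsPrime], LocCoh.HasSk n (p.Fiber C) (p.Fiber C) := by
  exact snHom_iff_grsHom.mpr ((snHom_iff_grsHom.mp ⟨inferInstance, hAB⟩).comp (snHom_iff_grsHom.mp ⟨inferInstance, hBC⟩))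


end Groth.Agent.S4750
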