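-- statement Lim8.GrothFrozen.S4763 (Groth/Statements/S4763.lean; the theorem Lim8.isDominant_π_iff_forall_isDominant_map);
import Groth.Statements.S4763
import Groth.Agent.H7Lim.Topology

set_option autoImplicit false
universe u
open CategoryTheory AlgebraicGeometry
open Lim8

namespace Groth.Agent.S4763

/-- Let S = lim S_i be a cofiltered limit of schemes with affine transition maps and let i be an index.
The canonical projection S ⟶ S_i is dominant if and only if every transition map S_j ⟶ S_i is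
dominant. -/
theorem result {I : Type u} [SmallCategory I] [IsCofiltered I]
    (D : I ⥤ Scheme.{u}) (c : Limits.Cone D) (hc : Limits.IsLimit c)
    [∀ (i j : I) (f : i ⟶ j), IsAffineHom (D.map f)] (i : I) :
    IsDominant (c.π.app i) ↔ ∀ (j : I) (φ : j ⟶ i), IsDominant (D.map φ) := by
  refine ⟨fun h j φ ↦ ⟨Dense.mono ?_ h.denseRange⟩, fun H ↦ ⟨?_⟩⟩
  · rw [← c.w φ, Scheme.Hom.comp_base, TopCat.coe_comp]
    exact Set.range_comp_subset_range _ _
  rw [DenseRange, dense_iff_inter_open]
  rintro U hU ⟨x, hx⟩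
  obtain ⟨_, ⟨V, hV, rfl⟩, hxV, hVU⟩ :=
    (D.obj i).isBasis_affineOpens.exists_subset_of_mem_open hx hU
  by_contra hne
  obtain ⟨j, φ, hφ⟩ := Groth.Agent.H7Lim.QCImage.exists_preimage_eq_empty hc
    (Groth.Agent.H7Lim.qcImage_of_isOpen_isCompact V.2 (IsAffineOpen.isCompact hV))
    (Set.eq_empty_of_forall_notMem fun y hy ↦ hne ⟨_, hVU hy, y, rfl⟩)
  obtain ⟨_, hy, y, rfl⟩ := (H j φ).denseRange.inter_open_nonempty _ V.2 ⟨x, hxV⟩
  exact hφ.le (show y ∈ D.map φ ⁻¹' (V : Set (D.obj i)) from hy)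

end Groth.Agent.S4763
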