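-- statement Lim8.GrothFrozen.S4764 (Groth/Statements/S4764.lean; the theorem Lim8.flat_π_of_forall_flat_map);
import Groth.Statements.S4764
import Groth.Agent.H7Lim.Reduced

set_option autoImplicit false
universe u
open CategoryTheory AlgebraicGeometry
open Lim8

namespace Groth.Agent.S4764

/-- Let S = lim S_i be a cofiltered limit of schemes with affine transition maps and let i be an index
such that every transition map S_j ⟶ S_i is flat. Then the canonical projection S ⟶ S_i is flat. -/
theorem result {I : Type u} [SmallCategory I] [IsCofiltered I]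
    (D : I ⥤ Scheme.{u}) (c : Limits.Cone D) (hc : Limits.IsLimit c)
    [∀ (i j : I) (f : i ⟶ j), IsAffineHom (D.map f)] (i : I)
    (hf : ∀ (j : I) (φ : j ⟶ i), Flat (D.map φ)) : Flat (c.π.app i) := by
  exact Groth.Agent.H7Lim.flat_π_app hc i hf

end Groth.Agent.S4764
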