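-- statement Lim8.GrothFrozen.S4765 (Groth/Statements/S4765.lean; the theorem Lim8.isOpenMap_π_iff_of_surjective);
import Groth.Statements.S4765
import Groth.Agent.H7Lim.Topology

set_option autoImplicit false
universe u
open CategoryTheory AlgebraicGeometry
open Lim8

namespace Groth.Agent.S4765

/-- Let S = lim S_i be a cofiltered limit of schemes with affine transition maps and let i be an index
such that the projection S ⟶ S_j is surjective for every j over i. Then the projection S ⟶ S_i is an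
open map if and only if every transition map S_j ⟶ S_i is an open map. This is the case of open
morphisms. -/
theorem result {I : Type u} [SmallCategory I] [IsCofiltered I]
    (D : I ⥤ Scheme.{u}) (c : Limits.Cone D) (hc : Limits.IsLimit c)
    [∀ (i j : I) (f : i ⟶ j), IsAffineHom (D.map f)] (i : I)
    (hs : ∀ (j : I) (φ : j ⟶ i), Surjective (c.π.app j)) :
    IsOpenMap ⇑(c.π.app i) ↔ ∀ (j : I) (φ : j ⟶ i), IsOpenMap ⇑(D.map φ) := by
  refine ⟨fun h j φ U hU ↦ ?_, fun H U hU ↦ ?_⟩
  · have : (D.map φ) '' U = c.π.app i '' (c.π.app j ⁻¹' U) := by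
      conv_rhs => rw [← c.w φ, Scheme.Hom.comp_base, TopCat.coe_comp, Set.image_comp]
      rw [Set.image_preimage_eq _ (hs j φ).surj]
    rw [this]
    exact h _ (hU.preimage (c.π.app j).continuous)
  · refine isOpen_iff_forall_mem_open.mpr ?_
    rintro _ ⟨x, hx, rfl⟩
    obtain ⟨_, ⟨j, V, -, rfl⟩, hxV, hVU⟩ := TopologicalSpace.Opens.isBasis_iff_nbhd.mp
      (isBasis_preimage_isAffineOpen D c hc) (U := ⟨U, hU⟩) hx
    obtain ⟨k, f, g, -⟩ := IsCofilteredOrEmpty.cone_objs j i
    have hpre := Groth.Agent.H7Lim.preimage_π_map (c := c) f (V : Set (D.obj j))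
    refine ⟨D.map g '' (D.map f ⁻¹' V), ?_, H k g _ (V.2.preimage (D.map f).continuous), ?_⟩
    · rintro _ ⟨y, hy, rfl⟩
      obtain ⟨z, rfl⟩ := (hs k g).surj y
      exact ⟨z, hVU (hpre.le hy), by rw [← c.w g]; rfl⟩
    · exact ⟨c.π.app k x, hpre.ge hxV, by rw [← c.w g]; rfl⟩

end Groth.Agent.S4765
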