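-- statement Lim8.GrothFrozen.S4771 (Groth/Statements/S4771.lean; the theorem Lim8.irreducibleSpace_iff_eventually_of_isDominant);
import Groth.Statements.S4771
import Groth.Agent.H7Lim.Connected

set_option autoImplicit false
universe u
open CategoryTheory AlgebraicGeometry
open Lim8

namespace Groth.Agent.S4771

/-- Let S = lim S_i be a cofiltered limit of schemes whose transition maps are affine and dominant, some
stage S_{i₀} being quasi-compact, and assume that the underlying topological space of S is
Noetherian. Then S is irreducible if and only if there is an index i over i₀ such that S_j is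
irreducible for every j over i. -/
theorem result {I : Type u} [SmallCategory I] [IsCofiltered I]
    (D : I ⥤ Scheme.{u}) (c : Limits.Cone D) (hc : Limits.IsLimit c)
    [∀ (i j : I) (f : i ⟶ j), IsAffineHom (D.map f)] (i₀ : I)
    [CompactSpace (D.obj i₀)] [TopologicalSpace.NoetherianSpace c.pt]
    (hd : ∀ (i j : I) (φ : i ⟶ j), IsDominant (D.map φ)) :
    IrreducibleSpace c.pt ↔ ∃ (i : I) (_ : i ⟶ i₀), ∀ (j : I) (_ : j ⟶ i), IrreducibleSpace (D.obj j) := by
  refine ⟨fun h ↦ ⟨i₀, 𝟙 i₀, fun j φ ↦ ?_⟩, fun ⟨i, φ, h⟩ ↦ ?_⟩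
  · have := Groth.Agent.H7Lim.isDominant_π_app hc j fun k ψ ↦ hd k j ψ
    have := h.toPreirreducibleSpace
    have := Groth.Agent.H7Lim.preirreducibleSpace_of_denseRange (X := c.pt) (c.π.app j).continuous
      (Groth.Agent.H7Lim.denseRange_of_isDominant (c.π.app j))
    exact ⟨⟨c.π.app j h.toNonempty.some⟩⟩
  · have := Groth.Agent.H7Lim.compactSpace_of_hom D φ
    exact Groth.Agent.H7Lim.irreducibleSpace_pt hc i hd h

end Groth.Agent.S4771
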