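-- statement Lim8.GrothFrozen.S4772 (Groth/Statements/S4772.lean; the theorem Lim8.connectedSpace_iff_eventually_of_isDominant);
import Groth.Statements.S4772
import Groth.Agent.H7Lim.Connected

set_option autoImplicit false
universe u
open CategoryTheory AlgebraicGeometry
open Lim8

namespace Groth.Agent.S4772

/-- Let S = lim S_i be a cofiltered limit of schemes whose transition maps are affine and dominant, some
stage S_{i₀} being quasi-compact. Then S is connected (in particular nonempty) if and only if there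
is an index i over i₀ such that S_j is connected for every j over i. -/
theorem result {I : Type u} [SmallCategory I] [IsCofiltered I]
    (D : I ⥤ Scheme.{u}) (c : Limits.Cone D) (hc : Limits.IsLimit c)
    [∀ (i j : I) (f : i ⟶ j), IsAffineHom (D.map f)] (i₀ : I)
    [CompactSpace (D.obj i₀)] (hd : ∀ (i j : I) (φ : i ⟶ j), IsDominant (D.map φ)) :
    ConnectedSpace c.pt ↔ ∃ (i : I) (_ : i ⟶ i₀), ∀ (j : I) (_ : j ⟶ i), ConnectedSpace (D.obj j) := by
  refine ⟨fun h ↦ ⟨i₀, 𝟙 i₀, fun j φ ↦ ?_⟩, fun ⟨i, φ, h⟩ ↦ ?_⟩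
  · have := Groth.Agent.H7Lim.isDominant_π_app hc j fun k ψ ↦ hd k j ψ
    refine { isPreconnected_univ := ?_, toNonempty := ⟨c.π.app j h.toNonempty.some⟩ }
    have := ((h.isPreconnected_univ).image _ (c.π.app j).continuous.continuousOn).closure
    rwa [Set.image_univ, (Groth.Agent.H7Lim.denseRange_of_isDominant (c.π.app j)).closure_range]
      at this
  · have := Groth.Agent.H7Lim.compactSpace_of_hom D φ
    have := Groth.Agent.H7Lim.preconnectedSpace_pt hc i hd fun j ψ ↦ (h j ψ).toPreconnectedSpace
    exact ⟨Groth.Agent.H7Lim.nonempty_pt hc i fun j ψ ↦ (h j ψ).toNonempty⟩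

end Groth.Agent.S4772
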