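-- statement Lim8.GrothFrozen.S4775 (Groth/Statements/S4775.lean; the theorem Lim8.isReduced_iff_forall_of_flat_surjective);
import Groth.Statements.S4775
import Groth.Agent.H7Lim.Reduced

set_option autoImplicit false
universe u
open CategoryTheory AlgebraicGeometry
open Lim8

namespace Groth.Agent.S4775

/-- Let S = lim S_i be a cofiltered limit of schemes whose transition maps are affine, flat and
surjective. Then S is reduced if and only if every S_i is reduced. -/
theorem result {I : Type u} [SmallCategory I] [IsCofiltered I]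
    (D : I ⥤ Scheme.{u}) (c : Limits.Cone D) (hc : Limits.IsLimit c)
    [∀ (i j : I) (f : i ⟶ j), IsAffineHom (D.map f)]
    (hf : ∀ (i j : I) (φ : i ⟶ j), Flat (D.map φ) ∧ Surjective (D.map φ)) :
    IsReduced c.pt ↔ ∀ (i : I), IsReduced (D.obj i) := by
  refine ⟨fun _ i ↦ ?_, fun h ↦ ?_⟩
  · have := Groth.Agent.H7Lim.flat_π_app hc i fun j φ ↦ (hf j i φ).1
    have := Groth.Agent.H7Lim.surjective_π_app hc i fun j φ ↦ (hf j i φ).2
    exact @Groth.Agent.H7Lim.isReduced_of_flat_surjective _ _ (c.π.app i) _ _ ‹_›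
  · obtain ⟨i⟩ := IsCofiltered.nonempty (C := I)
    exact Groth.Agent.H7Lim.isReduced_pt_of_forall hc i fun j _ ↦ h j

end Groth.Agent.S4775
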