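-- statement Lim8.GrothFrozen.S4776 (Groth/Statements/S4776.lean; the theorem Lim8.isIntegral_iff_eventually_of_flat_surjective);
import Groth.Statements.S4776
import Groth.Agent.H7Lim.Connected
import Groth.Agent.S4771
import Groth.Agent.S4775

set_option autoImplicit false
universe u
open CategoryTheory AlgebraicGeometry
open Lim8

namespace Groth.Agent.S4776

/-- Let S = lim S_i be a cofiltered limit of schemes whose transition maps are affine, flat and
surjective, some stage S_{i₀} being quasi-compact, and assume that the underlying topological space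
of S is Noetherian. Then S is integral if and only if there is an index i over i₀ such that S_j is
integral for every j over i. (The published statement carries neither the quasi-compactness nor the
Noetherian hypothesis; its proof combines the reducedness criterion with the irreducibility
criterion for limits, and the latter is proved only under these two hypotheses, so they are assumed
here.) -/
theorem result {I : Type u} [SmallCategory I] [IsCofiltered I]
    (D : I ⥤ Scheme.{u}) (c : Limits.Cone D) (hc : Limits.IsLimit c)
    [∀ (i j : I) (f : i ⟶ j), IsAffineHom (D.map f)] (i₀ : I)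
    [CompactSpace (D.obj i₀)] [TopologicalSpace.NoetherianSpace c.pt]
    (hf : ∀ (i j : I) (φ : i ⟶ j), Flat (D.map φ) ∧ Surjective (D.map φ)) :
    IsIntegral c.pt ↔ ∃ (i : I) (_ : i ⟶ i₀), ∀ (j : I) (_ : j ⟶ i), IsIntegral (D.obj j) := by
  have hd (i j : I) (φ : i ⟶ j) : IsDominant (D.map φ) := by
    have := (hf i j φ).2
    infer_instance
  simp only [isIntegral_iff_irreducibleSpace_and_isReduced, forall_and,
    Groth.Agent.S4771.result D c hc i₀ hd, Groth.Agent.S4775.result D c hc hf]
  refine ⟨fun ⟨⟨i, φ, h⟩, h'⟩ ↦ ⟨i, φ, h, fun j _ ↦ h' j⟩,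
    fun ⟨i, φ, h⟩ ↦ ⟨⟨i, φ, h.1⟩, ?_⟩⟩
  rw [← Groth.Agent.S4775.result D c hc hf]
  exact Groth.Agent.H7Lim.isReduced_pt_of_forall hc i h.2

end Groth.Agent.S4776
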