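-- statement Lim8.GrothFrozen.S4778 (Groth/Statements/S4778.lean; the theorem Lim8.locallyOfFinitePresentation_of_preservesColimit_affine);
import Groth.Statements.S4778
import Groth.Agent.H7Lim.LFPCriterion

set_option autoImplicit false
universe u
open CategoryTheory AlgebraicGeometry
open Lim8

namespace Groth.Agent.S4778
set_option backward.isDefEq.respectTransparency false

/-- Let f : X ⟶ S be a morphism of schemes. Suppose that for every affine open U of S and every
projective system (Z_λ) of U-schemes indexed by a nonempty directed preordered set, with every Z_λ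
an affine scheme, the functor Hom_S(-, X) takes the limit of the system to the colimit of the
Hom_S(Z_λ, X) (the canonical map from the colimit is bijective). Then f is locally of finite
presentation. -/
theorem result {X S : Scheme.{u}} (f : X ⟶ S)
    (h : ∀ (U : S.Opens), IsAffineOpen U →
      ∀ (J : Type u) [Preorder J] [IsDirected J (· ≤ ·)] [Nonempty J] (Z : Jᵒᵖ ⥤ Over (U : Scheme.{u})),
      (∀ j, IsAffine (Z.obj j).left) →
      Limits.PreservesColimit (Z ⋙ Over.map U.ι).op (yoneda.obj (Over.mk f))) :
    LocallyOfFinitePresentation f := by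
  refine Groth.Agent.H7Lim.locallyOfFinitePresentation_of_surjOn fun U hU J _ _ _ D t c hc haff j₀ g hg => ?_
  let Z : Jᵒᵖ ⥤ Over (U : Scheme.{u}) :=
    { obj := fun j => Over.mk (t.app j)
      map := fun a => Over.homMk (D.map a) (by simpa using t.naturality a)
      map_id := fun j => by ext1; simp
      map_comp := fun a b => by ext1; simp }
  haveI := h U hU J Z haff
  let cU : Limits.Cone (Z ⋙ Over.map U.ι) :=
    { pt := Over.mk (c.π.app j₀ ≫ t.app j₀ ≫ U.ι)
      π :=
        { app := fun j => Over.homMk (c.π.app j) (by
            show c.π.app j ≫ t.app j ≫ U.ι = c.π.app j₀ ≫ t.app j₀ ≫ U.ι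
            obtain ⟨k, hk, hk₀⟩ := directed_of (· ≤ ·) j.unop j₀.unop
            let a : Opposite.op k ⟶ j := (homOfLE hk).op
            let a₀ : Opposite.op k ⟶ j₀ := (homOfLE hk₀).op
            rw [← c.w a, ← c.w a₀]
            simp only [Category.assoc]
            have e1 : D.map a ≫ t.app j = t.app (Opposite.op k) := by simpa using t.naturality a
            have e2 : D.map a₀ ≫ t.app j₀ = t.app (Opposite.op k) := by simpa using t.naturality a₀
            rw [reassoc_of% e1, reassoc_of% e2])
          naturality := fun i j a => by
            ext1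
            exact c.π.naturality a } }
  haveI : IsConnected Jᵒᵖ := CategoryTheory.IsCofiltered.isConnected _
  have hcU : Limits.IsLimit cU := Limits.isLimitOfReflects (Over.forget S) hc
  obtain ⟨j, gj, hgj⟩ := Limits.Types.jointly_surjective _
    (Limits.isColimitOfPreserves (yoneda.obj (Over.mk f)) hcU.op) (Over.homMk g hg : cU.pt ⟶ Over.mk f)
  refine ⟨j.unop, gj.left, ?_, ?_⟩
  · exact Over.w gj
  · exact congrArg CommaMorphism.left hgj

end Groth.Agent.S4778
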