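-- statement Lim8.GrothFrozen.S4779 (Groth/Statements/S4779.lean; the theorem Lim8.isOpenMap_of_eventually_isOpenMap_stage);
import Groth.Statements.S4779
import Groth.Agent.H7Lim.OpenMapLimit

set_option autoImplicit false
universe u
open CategoryTheory AlgebraicGeometry
open Lim8

namespace Groth.Agent.S4779

/-- Let S = lim S_i be a cofiltered limit of schemes with affine transition maps, let f₀ : X₀ ⟶ Y₀ be a
morphism of schemes over a stage S_{i₀}, and let f : X ⟶ Y be its base change along S ⟶ S_{i₀} (all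
base changes are expressed by pullback squares). If there is an index i over i₀ such that, for every
j over i, the base change f_j : X_j ⟶ Y_j of f₀ along S_j ⟶ S_{i₀} is an open map, then f is an open
map. (The corresponding statement for universally open morphisms follows from this one by base
change.) -/
theorem result {I : Type u} [SmallCategory I] [IsCofiltered I]
    (D : I ⥤ Scheme.{u}) (c : Limits.Cone D) (hc : Limits.IsLimit c)
    [∀ (i j : I) (f : i ⟶ j), IsAffineHom (D.map f)] (i₀ : I)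
    {X₀ Y₀ : Scheme.{u}} (f₀ : X₀ ⟶ Y₀) (g₀ : Y₀ ⟶ D.obj i₀)
    {X Y : Scheme.{u}} (f : X ⟶ Y) (g : Y ⟶ c.pt) (qY : Y ⟶ Y₀) (qX : X ⟶ X₀)
    (hY : IsPullback qY g g₀ (c.π.app i₀)) (hX : IsPullback qX f f₀ qY)
    (h : ∃ (i : I) (φ : i ⟶ i₀), ∀ (j : I) (ψ : j ⟶ i) (Xj Yj : Scheme.{u}) (fj : Xj ⟶ Yj)
      (gj : Yj ⟶ D.obj j) (pY : Yj ⟶ Y₀) (pX : Xj ⟶ X₀),
      IsPullback pY gj g₀ (D.map (ψ ≫ φ)) → IsPullback pX fj f₀ pY → IsOpenMap ⇑fj) :
    IsOpenMap ⇑f := by
  obtain ⟨i, φ, h⟩ := h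
  exact Groth.Agent.H7Lim.isOpenMap_of_stages hc φ f₀ g₀ f g qY qX hY hX fun j ψ ↦
    h j ψ _ _ _ _ _ _ (.of_hasPullback _ _) (.of_hasPullback _ _)

end Groth.Agent.S4779
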