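-- statement Lim8.GrothFrozen.S4780 (Groth/Statements/S4780.lean; the theorem Lim8.universallyOpen_of_forall_isOpenMap_affineSpace);
import Groth.Statements.S4780
import Groth.Agent.H7Lim.OpenMapAffineSpace

set_option autoImplicit false
universe u
open CategoryTheory AlgebraicGeometry
open Lim8

namespace Groth.Agent.S4780

/-- Let f : X ⟶ Y be a morphism of schemes. If, for every integer n > 0, the base change of f to affine
n-space over Y, X ×_Y 𝔸ⁿ_Y ⟶ 𝔸ⁿ_Y, is an open map of topological spaces, then f is universally open. -/
theorem result {X Y : Scheme.{u}} (f : X ⟶ Y)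
    (h : ∀ n : ℕ, 0 < n →
      IsOpenMap ⇑(Limits.pullback.snd f (AffineSpace (ULift.{u} (Fin n)) Y ↘ Y))) :
    UniversallyOpen f := by
  exact Groth.Agent.H7Lim.universallyOpen_of_affineSpace f h

end Groth.Agent.S4780
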