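-- statement Lim8.GrothFrozen.S4782 (Groth/Statements/S4782.lean; the theorem Lim8.isReduced_iff_eventually_of_isOpenImmersion);
import Groth.Statements.S4782
import Groth.Agent.H7Lim.OpenImm

set_option autoImplicit false
universe u
open CategoryTheory AlgebraicGeometry
open Lim8

namespace Groth.Agent.S4782

/-- Let S = lim S_i be a cofiltered limit of schemes whose transition maps are open immersions (in
particular affine), and let S_{i₀} be a quasi-compact stage whose nilradical is an ideal of finite
type, i.e. for every affine open U of S_{i₀} the nilradical of Γ(S_{i₀}, U) is finitely generated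
(automatic when S_{i₀} is Noetherian). Then S is reduced if and only if there is an index i over i₀
such that S_j is reduced for every j over i. -/
theorem result {I : Type u} [SmallCategory I] [IsCofiltered I]
    (D : I ⥤ Scheme.{u}) (c : Limits.Cone D) (hc : Limits.IsLimit c)
    [∀ (i j : I) (f : i ⟶ j), IsAffineHom (D.map f)] (i₀ : I)
    [CompactSpace (D.obj i₀)] (hoi : ∀ (i j : I) (φ : i ⟶ j), IsOpenImmersion (D.map φ))
    (hN : ∀ U : (D.obj i₀).affineOpens, (nilradical Γ(D.obj i₀, U)).FG) :
    IsReduced c.pt ↔ ∃ (i : I) (_ : i ⟶ i₀), ∀ (j : I) (_ : j ⟶ i), IsReduced (D.obj j) := by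
  refine ⟨fun _ ↦ Groth.Agent.H7Lim.exists_isReduced_of_isReduced_pt hc i₀ hoi hN,
    fun ⟨i, _, h⟩ ↦ ?_⟩
  have := h i (𝟙 i)
  exact Groth.Agent.H7Lim.isReduced_pt_of_isOpenImmersion hc i hoi

end Groth.Agent.S4782
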