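-- statement Lim8.GrothFrozen.S4783 (Groth/Statements/S4783.lean; the theorem Lim8.isIntegral_iff_eventually_of_isOpenImmersion);
import Groth.Statements.S4783
import Groth.Agent.H7Lim.OpenImm
import Groth.Agent.S4782

set_option autoImplicit false
universe u
open CategoryTheory AlgebraicGeometry
open Lim8

namespace Groth.Agent.S4783

/-- Let S = lim S_i be a cofiltered limit of schemes whose transition maps are open immersions (in
particular affine), and let S_{i₀} be a Noetherian stage. Then S is integral if and only if there is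
an index i over i₀ such that S_j is integral for every j over i. -/
theorem result {I : Type u} [SmallCategory I] [IsCofiltered I]
    (D : I ⥤ Scheme.{u}) (c : Limits.Cone D) (hc : Limits.IsLimit c)
    [∀ (i j : I) (f : i ⟶ j), IsAffineHom (D.map f)] (i₀ : I)
    [IsNoetherian (D.obj i₀)] (hoi : ∀ (i j : I) (φ : i ⟶ j), IsOpenImmersion (D.map φ)) :
    IsIntegral c.pt ↔ ∃ (i : I) (_ : i ⟶ i₀), ∀ (j : I) (_ : j ⟶ i), IsIntegral (D.obj j) := by
  refine ⟨fun hint ↦ ?_, fun ⟨i, φ, h⟩ ↦ ?_⟩
  · obtain ⟨i₁, φ₁, h₁⟩ := Groth.Agent.S4782.result D c hc i₀ hoi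
      (fun U ↦ by
        have := IsLocallyNoetherian.component_noetherian (X := D.obj i₀) U
        exact IsNoetherian.noetherian _) |>.mp inferInstance
    have : TopologicalSpace.NoetherianSpace c.pt :=
      (Groth.Agent.H7Lim.isEmbedding_π_app hc hoi i₀).isInducing.noetherianSpace
    obtain ⟨i₂, φ₂, h₂⟩ := Groth.Agent.H7Lim.eventually_bijOn_irreducibleComponents_of_isEmbedding
      hc (fun i j φ ↦ by have := hoi i j φ; exact (D.map φ).isOpenEmbedding.isEmbedding) i₀
    obtain ⟨k, f, g, -⟩ := IsCofilteredOrEmpty.cone_objs i₁ i₂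
    refine ⟨k, f ≫ φ₁, fun j ψ ↦ ?_⟩
    have := h₁ j (ψ ≫ f)
    suffices IrreducibleSpace (D.obj j) from isIntegral_of_irreducibleSpace_of_isReduced _
    have hne : Nonempty (D.obj j) := ⟨c.π.app j hint.nonempty.some⟩
    refine { toNonempty := hne, isPreirreducible_univ := ?_ }
    have hu : irreducibleComponents (D.obj j) ⊆ {closure (Set.range (c.π.app j))} := fun T hT ↦ by
      obtain ⟨A, hA, rfl⟩ := (h₂ j (ψ ≫ g)).surjOn hT
      rw [irreducibleComponents_eq_singleton] at hA
      obtain rfl := hA
      simp [Set.image_univ]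
    have huniv : (Set.univ : Set (D.obj j)) = closure (Set.range (c.π.app j)) :=
      (Set.eq_univ_iff_forall.mpr fun y ↦ by
        have := hu (irreducibleComponent_mem_irreducibleComponents y)
        rw [Set.mem_singleton_iff] at this
        exact this.le mem_irreducibleComponent).symm
    rw [huniv, ← Set.image_univ]
    exact ((PreirreducibleSpace.isPreirreducible_univ (X := c.pt)).image _
      (c.π.app j).continuous.continuousOn).closure
  · have := h i (𝟙 i)
    have : CompactSpace (D.obj i) := Groth.Agent.H7Lim.compactSpace_of_hom D φ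
    have := Groth.Agent.H7Lim.isReduced_pt_of_isOpenImmersion hc i hoi
    have := Groth.Agent.H7Lim.irreducibleSpace_pt_of_isOpenImmersion hc i hoi fun j ψ ↦
      have := h j ψ
      inferInstance
    exact isIntegral_of_irreducibleSpace_of_isReduced _

end Groth.Agent.S4783
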