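-- statement Lim8.GrothFrozen.S4790 (Groth/Statements/S4790.lean; the theorem Lim8.nonempty_iso_pullback_iff_eventually);
import Groth.Statements.S4790
import Groth.Agent.H7Lim.ModHom

set_option autoImplicit false
universe u
open CategoryTheory AlgebraicGeometry
open Lim8

namespace Groth.Agent.S4790
set_option backward.isDefEq.respectTransparency false

/-- Let S = lim S_i be a cofiltered limit of schemes with affine transition maps and S_{i₀} a
quasi-compact quasi-separated stage; let F₀ and G₀ be quasi-coherent O-modules of finite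
presentation on S_{i₀}. Then the pullbacks of F₀ and G₀ along S ⟶ S_{i₀} are isomorphic if and only
if, for some index j over i₀, their pullbacks along S_j ⟶ S_{i₀} are isomorphic. -/
theorem result {I : Type u} [SmallCategory I] [IsCofiltered I]
    (D : I ⥤ Scheme.{u}) (c : Limits.Cone D) (hc : Limits.IsLimit c)
    [∀ (i j : I) (f : i ⟶ j), IsAffineHom (D.map f)] (i₀ : I) [CompactSpace (D.obj i₀)]
    [QuasiSeparatedSpace (D.obj i₀)] (F₀ G₀ : (D.obj i₀).Modules)
    [Coh.IsQCoh F₀] (hF₀fp : CohB1.IsFP F₀)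
    [Coh.IsQCoh G₀] (hG₀fp : CohB1.IsFP G₀) :
    Nonempty ((Scheme.Modules.pullback (c.π.app i₀)).obj F₀ ≅ (Scheme.Modules.pullback (c.π.app i₀)).obj G₀) ↔
      ∃ (j : I) (φ : j ⟶ i₀),
        Nonempty ((Scheme.Modules.pullback (D.map φ)).obj F₀ ≅ (Scheme.Modules.pullback (D.map φ)).obj G₀) := by
  constructor
  · rintro ⟨e⟩
    obtain ⟨j, φ, hj, hhj⟩ := H7Lim.ModHom.exists_hom hc hF₀fp ‹_› e.hom
    haveI : CompactSpace (D.obj j) := QuasiCompact.compactSpace_of_compactSpace (D.map φ)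
    let A := (H7Lim.ModStage.πIso (c := c) φ).app F₀
    let B := (H7Lim.ModStage.πIso (c := c) φ).app G₀
    have h : IsIso ((Scheme.Modules.pullback (c.π.app j)).map hj) := by
      have h' : (Scheme.Modules.pullback (c.π.app j)).map hj = A.hom ≫ e.hom ≫ B.inv := by
        rw [← hhj]
        show _ = A.hom ≫ (A.inv ≫ _ ≫ B.hom) ≫ B.inv
        simp
      rw [h']
      infer_instance
    obtain ⟨k, ψ, hk⟩ := (H7Lim.ModStage.isIso_iff hc
      (H29Fitt.isQCoh_pullback _ F₀ ‹_›) (H29Fitt.isQCoh_pullback _ G₀ ‹_›) hj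
      (H29Fitt.isFT_pullback _ F₀ ‹_› (H29Fitt.isFT_of_isFP F₀ hF₀fp))
      (H06EGA9.isFP_pullback _ hG₀fp)).1 h
    exact ⟨k, ψ ≫ φ, ⟨((H7Lim.ModStage.mapIso φ ψ).app F₀).symm ≪≫ asIso ((Scheme.Modules.pullback (D.map ψ)).map hj) ≪≫
      (H7Lim.ModStage.mapIso φ ψ).app G₀⟩⟩
  · rintro ⟨j, φ, ⟨e⟩⟩
    exact ⟨((H7Lim.ModStage.πIso φ).app F₀).symm ≪≫ (Scheme.Modules.pullback (c.π.app j)).mapIso e ≪≫
      (H7Lim.ModStage.πIso φ).app G₀⟩

end Groth.Agent.S4790
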