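-- statement Lim8.GrothFrozen.S4793 (Groth/Statements/S4793.lean; the theorem Lim8.epi_pullback_map_iff_eventually);
import Groth.Statements.S4793
import Groth.Agent.H7Lim.ModStage

set_option autoImplicit false
universe u
open CategoryTheory AlgebraicGeometry
open Lim8

namespace Groth.Agent.S4793

/-- Let S = lim S_i be a cofiltered limit of schemes with affine transition maps and S_{i₀} a
quasi-compact stage; let F₀ be a quasi-coherent O-module and G₀ a quasi-coherent O-module of finite
type on S_{i₀}, and f₀ : F₀ ⟶ G₀ a homomorphism. Then the pullback of f₀ along S ⟶ S_{i₀} is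
surjective (an epimorphism of O_S-modules) if and only if, for some index j over i₀, the pullback of
f₀ along S_j ⟶ S_{i₀} is surjective. -/
theorem result {I : Type u} [SmallCategory I] [IsCofiltered I]
    (D : I ⥤ Scheme.{u}) (c : Limits.Cone D) (hc : Limits.IsLimit c)
    [∀ (i j : I) (f : i ⟶ j), IsAffineHom (D.map f)] (i₀ : I) [CompactSpace (D.obj i₀)]
    {F₀ G₀ : (D.obj i₀).Modules} [Coh.IsQCoh F₀]
    [Coh.IsQCoh G₀] (hG₀ft : CohB1.IsFT G₀) (f₀ : F₀ ⟶ G₀) :
    Epi ((Scheme.Modules.pullback (c.π.app i₀)).map f₀) ↔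
      ∃ (j : I) (φ : j ⟶ i₀), Epi ((Scheme.Modules.pullback (D.map φ)).map f₀) := by
  exact H7Lim.ModStage.epi_iff hc ‹_› ‹_› f₀ hG₀ft

end Groth.Agent.S4793
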