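-- statement Lim8.GrothFrozen.S4794 (Groth/Statements/S4794.lean; the theorem Lim8.mono_pullback_map_iff_eventually_of_flat);
import Groth.Statements.S4794
import Groth.Agent.H7Lim.ModExact

set_option autoImplicit false
universe u
open CategoryTheory AlgebraicGeometry
open Lim8

namespace Groth.Agent.S4794
set_option backward.isDefEq.respectTransparency false

/-- Let S = lim S_i be a cofiltered limit of schemes whose transition maps are affine and flat, and
S_{i₀} a quasi-compact stage; let f₀ : F₀ ⟶ G₀ be a homomorphism of quasi-coherent O-modules on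
S_{i₀} whose kernel is an O-module of finite type. Then the pullback of f₀ along S ⟶ S_{i₀} is
injective (a monomorphism of O_S-modules) if and only if, for some index j over i₀, the pullback of
f₀ along S_j ⟶ S_{i₀} is injective. -/
theorem result {I : Type u} [SmallCategory I] [IsCofiltered I]
    (D : I ⥤ Scheme.{u}) (c : Limits.Cone D) (hc : Limits.IsLimit c)
    [∀ (i j : I) (f : i ⟶ j), IsAffineHom (D.map f)] (i₀ : I) [CompactSpace (D.obj i₀)]
    (hfl : ∀ (i j : I) (φ : i ⟶ j), Flat (D.map φ))
    {F₀ G₀ : (D.obj i₀).Modules} [Coh.IsQCoh F₀]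
    [Coh.IsQCoh G₀] (f₀ : F₀ ⟶ G₀)
    (hker : CohB1.IsFT (Limits.kernel f₀)) :
    Mono ((Scheme.Modules.pullback (c.π.app i₀)).map f₀) ↔
      ∃ (j : I) (φ : j ⟶ i₀), Mono ((Scheme.Modules.pullback (D.map φ)).map f₀) := by
  haveI := hfl
  exact H7Lim.ModExact.mono_iff hc ‹_› ‹_› f₀ hker

end Groth.Agent.S4794
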