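-- statement Lim.GrothFrozen.S9219 (Groth/Statements/S9219.lean; the theorem Lim.hom_eq_eventually_of_baseChange_eq_of_qcqs_lfp);
import Groth.Statements.S9219
import Groth.Agent.H7Lim.Basic

set_option autoImplicit false
universe u
open CategoryTheory CategoryTheory.Limits AlgebraicGeometry
open Lim

namespace Groth.Agent.S9219
open CategoryTheory.Limits
set_option linter.style.haveILetI false
set_option backward.isDefEq.respectTransparency false

/-- Let S = lim S_i be a cofiltered limit of schemes with affine transition morphisms (the S_i are not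
assumed quasi-compact or quasi-separated), i an index, and X_i → S_i, Y_i → S_i morphisms locally of
finite presentation with X_i, Y_i quasi-compact and quasi-separated; let X be the base change of X_i
to S (a pullback square). If two S_i-morphisms f_i, g_i : X_i → Y_i have the same base change to S
(equivalently, the same composite with X → X_i), then for some index j over i their base changes to
S_j agree, i.e. they have the same composite with X_i ×_{S_i} S_j → X_i. This is the faithfulness
part of the equivalence between the colimit of the categories of quasi-compact quasi-separated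
schemes locally of finite presentation over the S_i and the corresponding category over S. -/
theorem result {I : Type u} [SmallCategory I] [IsCofiltered I]
    (D : I ⥤ Scheme.{u}) (c : Limits.Cone D) (hc : Limits.IsLimit c)
    [∀ (i j : I) (f : i ⟶ j), IsAffineHom (D.map f)] (i : I)
    {Xi Yi : Scheme.{u}} (xi : Xi ⟶ D.obj i) (yi : Yi ⟶ D.obj i)
    [CompactSpace Xi] [QuasiSeparatedSpace Xi] [LocallyOfFinitePresentation xi]
    [CompactSpace Yi] [QuasiSeparatedSpace Yi] [LocallyOfFinitePresentation yi]
    {X : Scheme.{u}} (qX : X ⟶ Xi) (pX : X ⟶ c.pt) (hX : IsPullback qX pX xi (c.π.app i))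
    (fi gi : Xi ⟶ Yi) (hfi : fi ≫ yi = xi) (hgi : gi ≫ yi = xi) (h : qX ≫ fi = qX ≫ gi) :
    ∃ (j : I) (φ : j ⟶ i), pullback.fst xi (D.map φ) ≫ fi = pullback.fst xi (D.map φ) ≫ gi := by
  have := hX
  let e := hX.isoPullback
  haveI : ∀ (j k : Over i) (f : j ⟶ k), IsAffineHom ((H7Lim.pbDiagram D i xi).map f) :=
    H7Lim.isAffineHom_pbDiagram_map D i xi
  let t : H7Lim.pbDiagram D i xi ⟶ (Functor.const (Over i)).obj (D.obj i) :=
    { app := fun k => pullback.fst _ _ ≫ xi
      naturality := fun k l f => by simp }
  let e₀ : Over i := Over.mk (𝟙 i)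
  obtain ⟨k, hik, hk⟩ := Scheme.exists_hom_comp_eq_comp_of_locallyOfFiniteType
    (H7Lim.pbDiagram D i xi) t yi _ (H7Lim.isLimitPbCone D i xi hc) (i := e₀)
    (pullback.fst xi (D.map (𝟙 i)) ≫ fi) (pullback.fst xi (D.map (𝟙 i)) ≫ gi)
    (by simp [t, e₀, hfi]) (by simp [t, e₀, hgi]) (by
      have h2 : ∀ u : Xi ⟶ Yi, (H7Lim.pbCone D c i xi).π.app e₀ ≫ pullback.fst xi (D.map (𝟙 i)) ≫ u =
          e.inv ≫ qX ≫ u := fun u => by simp [e, e₀]
      rw [h2, h2, h])
  refine ⟨k.left, k.hom, ?_⟩
  simpa [e₀] using hk

end Groth.Agent.S9219
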