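import Groth.Statements.S4795
-- import your own Groth.Agent.* helpers here
import Groth.Agent.S9218
import Groth.Agent.S9219

set_option autoImplicit false
universe u
open CategoryTheory AlgebraicGeometry
open Lim8

namespace Groth.Agent.S4795

theorem isPullback_lift {I : Type u} [SmallCategory I] {D : I ⥤ Scheme.{u}} {c : Limits.Cone D} {i₀ k : I}
    {X₀ : Scheme.{u}} {a₀ : X₀ ⟶ D.obj i₀} {X : Scheme.{u}} {a : X ⟶ c.pt} {qX : X ⟶ X₀}
    (hX : IsPullback qX a a₀ (c.π.app i₀)) (φ : k ⟶ i₀) {Xk : Scheme.{u}} {pk : Xk ⟶ X₀} {ak : Xk ⟶ D.obj k}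
    (hk : IsPullback pk ak a₀ (D.map φ)) :
    ∃ sX : X ⟶ Xk, sX ≫ pk = qX ∧ sX ≫ ak = a ≫ c.π.app k ∧ IsPullback sX a ak (c.π.app k) := by
  have hw : c.π.app k ≫ D.map φ = c.π.app i₀ := c.w φ
  refine ⟨hk.lift qX (a ≫ c.π.app k) (by rw [Category.assoc, hw, hX.w]), hk.lift_fst _ _ _, hk.lift_snd _ _ _,
    IsPullback.of_right ?_ (hk.lift_snd _ _ _) hk⟩
  rw [hk.lift_fst, hw]
  exact hX

/-- Restriction of a morphism over a stage to a finer stage. -/
theorem exists_restrict {I : Type u} [SmallCategory I] {D : I ⥤ Scheme.{u}} {i₀ j k : I}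
    {X₀ Y₀ : Scheme.{u}} {a₀ : X₀ ⟶ D.obj i₀} {b₀ : Y₀ ⟶ D.obj i₀} (φ : j ⟶ i₀) (ψ : k ⟶ j)
    (fj : Limits.pullback a₀ (D.map φ) ⟶ Limits.pullback b₀ (D.map φ))
    (hf : fj ≫ Limits.pullback.snd b₀ (D.map φ) = Limits.pullback.snd a₀ (D.map φ)) (φk : k ⟶ i₀) (hφ : ψ ≫ φ = φk) :
    ∃ (t : Limits.pullback a₀ (D.map φk) ⟶ Limits.pullback a₀ (D.map φ))
      (fk : Limits.pullback a₀ (D.map φk) ⟶ Limits.pullback b₀ (D.map φk)),
      t ≫ Limits.pullback.fst a₀ (D.map φ) = Limits.pullback.fst a₀ (D.map φk) ∧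
      t ≫ Limits.pullback.snd a₀ (D.map φ) = Limits.pullback.snd a₀ (D.map φk) ≫ D.map ψ ∧
      fk ≫ Limits.pullback.snd b₀ (D.map φk) = Limits.pullback.snd a₀ (D.map φk) ∧
      fk ≫ Limits.pullback.fst b₀ (D.map φk) = t ≫ fj ≫ Limits.pullback.fst b₀ (D.map φ) := by
  subst hφ
  let t : Limits.pullback a₀ (D.map (ψ ≫ φ)) ⟶ Limits.pullback a₀ (D.map φ) :=
    Limits.pullback.lift (Limits.pullback.fst _ _) (Limits.pullback.snd _ _ ≫ D.map ψ)
      (by rw [Category.assoc, ← D.map_comp, Limits.pullback.condition])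
  have hw : (t ≫ fj ≫ Limits.pullback.fst b₀ (D.map φ)) ≫ b₀ =
      Limits.pullback.snd a₀ (D.map (ψ ≫ φ)) ≫ D.map (ψ ≫ φ) := by
    rw [Category.assoc, Category.assoc, Limits.pullback.condition, reassoc_of% hf,
      Limits.pullback.lift_snd_assoc, Category.assoc, D.map_comp]
  exact ⟨t, Limits.pullback.lift _ _ hw, Limits.pullback.lift_fst _ _ _, Limits.pullback.lift_snd _ _ _,
    Limits.pullback.lift_snd _ _ _, Limits.pullback.lift_fst _ _ _⟩


/-- Let S = lim S_i be a cofiltered limit of schemes with affine transition maps and S_{i₀} a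
quasi-compact quasi-separated stage; let X₀ and Y₀ be schemes of finite presentation over S_{i₀},
and let X, Y be their base changes along S ⟶ S_{i₀} (base changes are expressed by pullback
squares). Then X and Y are isomorphic over S if and only if, for some index j over i₀, the base
changes X_j and Y_j of X₀ and Y₀ along S_j ⟶ S_{i₀} are isomorphic over S_j. -/
theorem result {I : Type u} [SmallCategory I] [IsCofiltered I]
    (D : I ⥤ Scheme.{u}) (c : Limits.Cone D) (hc : Limits.IsLimit c)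
    [∀ (i j : I) (f : i ⟶ j), IsAffineHom (D.map f)] (i₀ : I)
    [CompactSpace (D.obj i₀)] [QuasiSeparatedSpace (D.obj i₀)]
    {X₀ Y₀ : Scheme.{u}} (a₀ : X₀ ⟶ D.obj i₀) (b₀ : Y₀ ⟶ D.obj i₀)
    [LocallyOfFinitePresentation a₀] [QuasiCompact a₀] [QuasiSeparated a₀]
    [LocallyOfFinitePresentation b₀] [QuasiCompact b₀] [QuasiSeparated b₀]
    {X Y : Scheme.{u}} (a : X ⟶ c.pt) (b : Y ⟶ c.pt) (qX : X ⟶ X₀) (qY : Y ⟶ Y₀)
    (hX : IsPullback qX a a₀ (c.π.app i₀)) (hY : IsPullback qY b b₀ (c.π.app i₀)) :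
    (∃ e : X ≅ Y, e.hom ≫ b = a) ↔
      ∃ (j : I) (φ : j ⟶ i₀) (Xj Yj : Scheme.{u}) (aj : Xj ⟶ D.obj j) (bj : Yj ⟶ D.obj j)
        (pX : Xj ⟶ X₀) (pY : Yj ⟶ Y₀), IsPullback pX aj a₀ (D.map φ) ∧ IsPullback pY bj b₀ (D.map φ) ∧
        ∃ e : Xj ≅ Yj, e.hom ≫ bj = aj := by
  constructor
  · rintro ⟨e, he⟩
    haveI : CompactSpace X₀ := QuasiCompact.compactSpace_of_compactSpace a₀
    haveI : QuasiSeparatedSpace X₀ := quasiSeparatedSpace_of_quasiSeparated a₀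
    haveI : CompactSpace Y₀ := QuasiCompact.compactSpace_of_compactSpace b₀
    haveI : QuasiSeparatedSpace Y₀ := quasiSeparatedSpace_of_quasiSeparated b₀
    obtain ⟨j₁, φ₁, f₁, s₁, r₁, hf₁, hs₁, hs₁', hr₁, hr₁', hsf₁⟩ :=
      Groth.Agent.S9218.result D c hc i₀ a₀ b₀ qX a hX qY b hY e.hom he
    obtain ⟨j₂, φ₂, g₂, s₂, r₂, hg₂, hs₂, hs₂', hr₂, hr₂', hsg₂⟩ :=
      Groth.Agent.S9218.result D c hc i₀ b₀ a₀ qY b hY qX a hX e.inv (by rw [← he, Iso.inv_hom_id_assoc])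
    obtain ⟨k, ψ₁, ψ₂, hψ⟩ := IsCofiltered.cospan φ₁ φ₂
    obtain ⟨t₁, fk, ht₁, ht₁', hfk, hfk'⟩ := exists_restrict φ₁ ψ₁ f₁ hf₁ (ψ₁ ≫ φ₁) rfl
    obtain ⟨t₂, gk, ht₂, ht₂', hgk, hgk'⟩ := exists_restrict φ₂ ψ₂ g₂ hg₂ (ψ₁ ≫ φ₁) hψ.symm
    have hpX := IsPullback.of_hasPullback a₀ (D.map (ψ₁ ≫ φ₁))
    have hpY := IsPullback.of_hasPullback b₀ (D.map (ψ₁ ≫ φ₁))
    obtain ⟨sX, hsX, hsX', hXk⟩ := isPullback_lift hX (ψ₁ ≫ φ₁) hpX
    obtain ⟨sY, hsY, hsY', hYk⟩ := isPullback_lift hY (ψ₁ ≫ φ₁) hpY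
    have e1 : sX ≫ t₁ = s₁ := Limits.pullback.hom_ext
      (by rw [Category.assoc, ht₁, hsX, hs₁])
      (by rw [Category.assoc, ht₁', reassoc_of% hsX', hs₁', c.w ψ₁])
    have e2 : sY ≫ t₂ = s₂ := Limits.pullback.hom_ext
      (by rw [Category.assoc, ht₂, hsY, hs₂])
      (by rw [Category.assoc, ht₂', reassoc_of% hsY', hs₂', c.w ψ₂])
    have hsfk : sX ≫ fk = e.hom ≫ sY := Limits.pullback.hom_ext
      (by rw [Category.assoc, hfk', reassoc_of% e1, reassoc_of% hsf₁, hr₁, Category.assoc, hsY])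
      (by rw [Category.assoc, hfk, hsX', Category.assoc, hsY', reassoc_of% he])
    have hsgk : sY ≫ gk = e.inv ≫ sX := Limits.pullback.hom_ext
      (by rw [Category.assoc, hgk', reassoc_of% e2, reassoc_of% hsg₂, hr₂, Category.assoc, hsX])
      (by rw [Category.assoc, hgk, hsY', Category.assoc, hsX', ← reassoc_of% he, Iso.inv_hom_id_assoc])
    haveI : CompactSpace (D.obj k) := QuasiCompact.compactSpace_of_compactSpace (D.map (ψ₁ ≫ φ₁))
    haveI : QuasiSeparatedSpace (D.obj k) := quasiSeparatedSpace_of_quasiSeparated (D.map (ψ₁ ≫ φ₁))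
    let xk := Limits.pullback.snd a₀ (D.map (ψ₁ ≫ φ₁))
    let yk := Limits.pullback.snd b₀ (D.map (ψ₁ ≫ φ₁))
    haveI : CompactSpace ↥(Limits.pullback a₀ (D.map (ψ₁ ≫ φ₁))) := QuasiCompact.compactSpace_of_compactSpace xk
    haveI : QuasiSeparatedSpace ↥(Limits.pullback a₀ (D.map (ψ₁ ≫ φ₁))) := quasiSeparatedSpace_of_quasiSeparated xk
    haveI : CompactSpace ↥(Limits.pullback b₀ (D.map (ψ₁ ≫ φ₁))) := QuasiCompact.compactSpace_of_compactSpace yk
    haveI : QuasiSeparatedSpace ↥(Limits.pullback b₀ (D.map (ψ₁ ≫ φ₁))) := quasiSeparatedSpace_of_quasiSeparated yk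
    obtain ⟨l₁, χ₁, h₁⟩ := Groth.Agent.S9219.result D c hc k xk xk sX a hXk (fk ≫ gk) (𝟙 _)
      (by simp [xk, hgk, hfk]) (Category.id_comp _)
      (by rw [reassoc_of% hsfk, hsgk, Iso.hom_inv_id_assoc, Category.comp_id])
    obtain ⟨l₂, χ₂, h₂⟩ := Groth.Agent.S9219.result D c hc k yk yk sY b hYk (gk ≫ fk) (𝟙 _)
      (by simp [yk, hgk, hfk]) (Category.id_comp _)
      (by rw [reassoc_of% hsgk, hsfk, Iso.inv_hom_id_assoc, Category.comp_id])
    obtain ⟨m, ω₁, ω₂, hω⟩ := IsCofiltered.cospan χ₁ χ₂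
    let xm := Limits.pullback.snd xk (D.map (ω₁ ≫ χ₁))
    let ym := Limits.pullback.snd yk (D.map (ω₁ ≫ χ₁))
    have hfst₁ : Limits.pullback.fst xk (D.map (ω₁ ≫ χ₁)) ≫ fk ≫ gk =
        Limits.pullback.fst xk (D.map (ω₁ ≫ χ₁)) := by
      have := congrArg (Limits.pullback.lift (Limits.pullback.fst xk (D.map (ω₁ ≫ χ₁))) (xm ≫ D.map ω₁)
        (by rw [Category.assoc, ← D.map_comp, Limits.pullback.condition]) ≫ ·) h₁
      simpa [Category.comp_id, Limits.pullback.lift_fst_assoc, Limits.pullback.lift_fst] using this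
    have hfst₂ : Limits.pullback.fst yk (D.map (ω₁ ≫ χ₁)) ≫ gk ≫ fk =
        Limits.pullback.fst yk (D.map (ω₁ ≫ χ₁)) := by
      have := congrArg (Limits.pullback.lift (Limits.pullback.fst yk (D.map (ω₁ ≫ χ₁))) (ym ≫ D.map ω₂)
        (by rw [Category.assoc, ← D.map_comp, ← hω, Limits.pullback.condition]) ≫ ·) h₂
      simpa [Category.comp_id, Limits.pullback.lift_fst_assoc, Limits.pullback.lift_fst] using this
    refine ⟨m, (ω₁ ≫ χ₁) ≫ ψ₁ ≫ φ₁, _, _, xm, ym, Limits.pullback.fst _ _ ≫ Limits.pullback.fst _ _,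
      Limits.pullback.fst _ _ ≫ Limits.pullback.fst _ _, ?_, ?_,
      { hom := Limits.pullback.lift (Limits.pullback.fst _ _ ≫ fk) xm
          (by rw [Category.assoc, hfk, Limits.pullback.condition])
        inv := Limits.pullback.lift (Limits.pullback.fst _ _ ≫ gk) ym
          (by rw [Category.assoc, hgk, Limits.pullback.condition])
        hom_inv_id := Limits.pullback.hom_ext
          (by rw [Category.assoc, Limits.pullback.lift_fst, Limits.pullback.lift_fst_assoc, Category.assoc,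
            Category.id_comp, hfst₁])
          (by rw [Category.assoc, Limits.pullback.lift_snd, Limits.pullback.lift_snd, Category.id_comp])
        inv_hom_id := Limits.pullback.hom_ext
          (by rw [Category.assoc, Limits.pullback.lift_fst, Limits.pullback.lift_fst_assoc, Category.assoc,
            Category.id_comp, hfst₂])
          (by rw [Category.assoc, Limits.pullback.lift_snd, Limits.pullback.lift_snd, Category.id_comp]) },
      Limits.pullback.lift_snd _ _ _⟩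
    · have h := (IsPullback.of_hasPullback xk (D.map (ω₁ ≫ χ₁))).paste_horiz hpX
      rwa [← D.map_comp (ω₁ ≫ χ₁) (ψ₁ ≫ φ₁)] at h
    · have h := (IsPullback.of_hasPullback yk (D.map (ω₁ ≫ χ₁))).paste_horiz hpY
      rwa [← D.map_comp (ω₁ ≫ χ₁) (ψ₁ ≫ φ₁)] at h
  · rintro ⟨j, φ, Xj, Yj, aj, bj, pX, pY, hXj, hYj, e, he⟩
    obtain ⟨sX, -, -, hsX⟩ := isPullback_lift hX φ hXj
    obtain ⟨sY, -, -, hsY⟩ := isPullback_lift hY φ hYj
    have h : IsPullback (sY ≫ e.inv) b aj (c.π.app j) :=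
      hsY.of_iso (Iso.refl _) e.symm (Iso.refl _) (Iso.refl _) (by simp) (by simp) (by simp [← he]) (by simp)
    exact ⟨hsX.isoIsPullback _ _ h, hsX.isoIsPullback_hom_snd _ _ h⟩

end Groth.Agent.S4795
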