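-- statement Lim8.GrothFrozen.S4800 (Groth/Statements/S4800.lean; the theorem Lim8.isDominant_iff_eventually_of_flat);
import Groth.Statements.S4800
import Groth.Agent.H7Lim.FlatClosure

set_option autoImplicit false
universe u
open CategoryTheory AlgebraicGeometry
open Lim8

namespace Groth.Agent.S4800
set_option backward.isDefEq.respectTransparency false

/-- Let S = lim S_i be a cofiltered limit of schemes whose transition maps are affine and flat, and
S_{i₀} a quasi-compact stage; let X₀ ⟶ S_{i₀} be quasi-compact, Y₀ ⟶ S_{i₀} quasi-compact and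
quasi-separated, and f₀ : X₀ ⟶ Y₀ a morphism over S_{i₀} such that the closure of its image f₀(X₀)
is a constructible subset of Y₀. Let f : X ⟶ Y be the base change of f₀ along S ⟶ S_{i₀} (base
changes are expressed by pullback squares). Then f is dominant if and only if, for some index j over
i₀ and the base change f_j : X_j ⟶ Y_j of f₀ along S_j ⟶ S_{i₀}, f_j is dominant. (The published
statement asks instead that the image f₀(X₀) itself be constructible, which is not enough: let R be
the ring of locally constant functions from the Cantor set to a field, take for stages the spectra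
of the rings of locally constant functions on the clopen neighbourhoods of a point p, so that the
limit is the spectrum of the residue field at p, and take Y₀ = Spec R[t]/(m_p t) and X₀ its basic
open subset where t is invertible; the image of X₀ is constructible, the limit morphism is the
inclusion of the punctured affine line into the affine line, which is dominant, and no stage
morphism is dominant. The published proof applies the criterion for a preimage to lie in the closure
of the preimage of a pro-constructible subset along a flat limit, whose hypothesis is that the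
closure of that subset is constructible; the image f₀(X₀) is pro-constructible because f₀ is
quasi-compact, so constructibility of its closure is the hypothesis taken here.) -/
theorem result {I : Type u} [SmallCategory I] [IsCofiltered I]
    (D : I ⥤ Scheme.{u}) (c : Limits.Cone D) (hc : Limits.IsLimit c)
    [∀ (i j : I) (f : i ⟶ j), IsAffineHom (D.map f)] (i₀ : I) [CompactSpace (D.obj i₀)]
    (hfl : ∀ (i j : I) (φ : i ⟶ j), Flat (D.map φ))
    {X₀ Y₀ : Scheme.{u}} (f₀ : X₀ ⟶ Y₀) (g₀ : Y₀ ⟶ D.obj i₀)
    [QuasiCompact (f₀ ≫ g₀)] [QuasiCompact g₀] [QuasiSeparated g₀]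
    (hcl : Topology.IsConstructible (closure (Set.range ⇑f₀)))
    {X Y : Scheme.{u}} (f : X ⟶ Y) (g : Y ⟶ c.pt) (qY : Y ⟶ Y₀) (qX : X ⟶ X₀)
    (hY : IsPullback qY g g₀ (c.π.app i₀)) (hX : IsPullback qX f f₀ qY) :
    IsDominant f ↔ ∃ (j : I) (φ : j ⟶ i₀) (Xj Yj : Scheme.{u}) (fj : Xj ⟶ Yj) (gj : Yj ⟶ D.obj j)
      (pY : Yj ⟶ Y₀) (pX : Xj ⟶ X₀), IsPullback pY gj g₀ (D.map φ) ∧ IsPullback pX fj f₀ pY ∧
      IsDominant fj := by
  classical
  haveI : QuasiCompact f₀ := QuasiCompact.of_comp f₀ g₀
  haveI : CompactSpace Y₀ := QuasiCompact.compactSpace_of_compactSpace g₀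
  haveI : Flat (c.π.app i₀) := H7Lim.flat_π_app hc i₀ fun j φ => hfl j i₀ φ
  have hR : ProCons.IsProConstructible (Set.range ⇑f₀) := by
    rw [← Set.image_univ]
    exact H05EGA4.ConsChart.pro_image f₀ H05EGA4.ConsChart.proConstructible_univ
  have key : ∀ {X' Y' : Scheme.{u}} (f' : X' ⟶ Y') (q : Y' ⟶ Y₀) (p : X' ⟶ X₀) [Flat q],
      IsPullback p f' f₀ q → (IsDominant f' ↔ ⇑q ⁻¹' (closure (Set.range ⇑f₀))ᶜ = ∅) := by
    intro X' Y' f' q p _ hP
    have hr : Set.range ⇑f' = ⇑q ⁻¹' Set.range ⇑f₀ := by
      rw [← Scheme.Pullback.range_snd f₀ q, ← hP.isoPullback_hom_snd, Scheme.Hom.comp_base, TopCat.coe_comp,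
        Set.range_comp, Set.range_eq_univ.2 hP.isoPullback.hom.surjective, Set.image_univ]
    rw [isDominant_iff, DenseRange, dense_iff_closure_eq, hr, ← H7Lim.preimage_closure_eq_of_flat q hR,
      Set.preimage_compl, Set.compl_empty_iff]
  haveI : Flat qY := MorphismProperty.of_isPullback (P := @Flat) hY.flip inferInstance
  constructor
  · intro hd
    have hC := (key f qY qX hX).1 hd
    obtain ⟨κ, _, T, a, hT, ha⟩ :=
      H7Lim.qcImage_of_isLocallyConstructible (E := (closure (Set.range ⇑f₀))ᶜ) hcl.compl.isLocallyConstructible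
    have hex : ∀ k, ∃ (j : I) (φ : j ⟶ i₀), IsEmpty ↥(Limits.pullback (a k ≫ g₀) (D.map φ)) := by
      intro k
      haveI := hT k
      refine H7Lim.exists_isEmpty_pullback D i₀ (a k ≫ g₀) hc ⟨fun z => ?_⟩
      let w := hY.lift (Limits.pullback.fst (a k ≫ g₀) (c.π.app i₀) ≫ a k)
        (Limits.pullback.snd (a k ≫ g₀) (c.π.app i₀)) (by rw [Category.assoc, Limits.pullback.condition])
      refine Set.eq_empty_iff_forall_notMem.1 hC (w z) ?_
      rw [Set.mem_preimage, ← Scheme.Hom.comp_apply, hY.lift_fst, ← ha]
      exact Set.mem_iUnion.2 ⟨k, ⟨_, (Scheme.Hom.comp_apply _ _ z).symm⟩⟩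
    choose jk φk hk using hex
    cases nonempty_fintype κ
    obtain ⟨A, hA⟩ := IsCofiltered.inf_objs_exists (Finset.univ.image fun k : κ => Over.mk (φk k))
    let m : ∀ k, A ⟶ Over.mk (φk k) := fun k => (hA (Finset.mem_image_of_mem _ (Finset.mem_univ k))).some
    haveI : Flat (D.map A.hom) := hfl _ _ _
    haveI : Flat (Limits.pullback.fst g₀ (D.map A.hom)) := MorphismProperty.pullback_fst _ _ inferInstance
    refine ⟨A.left, A.hom, _, _, Limits.pullback.snd f₀ (Limits.pullback.fst g₀ (D.map A.hom)),
      Limits.pullback.snd g₀ (D.map A.hom), Limits.pullback.fst g₀ (D.map A.hom),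
      Limits.pullback.fst f₀ (Limits.pullback.fst g₀ (D.map A.hom)), IsPullback.of_hasPullback _ _,
      IsPullback.of_hasPullback _ _, ?_⟩
    refine (key _ _ _ (IsPullback.of_hasPullback _ _)).2 (Set.eq_empty_iff_forall_notMem.2 fun y hy => ?_)
    rw [Set.mem_preimage, ← ha] at hy
    obtain ⟨k, t, ht⟩ := Set.mem_iUnion.1 hy
    obtain ⟨z, hz1, hz2⟩ := Scheme.Pullback.exists_preimage_pullback (f := a k)
      (g := Limits.pullback.fst g₀ (D.map A.hom)) t y ht
    refine (hk k).elim ((Limits.pullback.lift (Limits.pullback.fst (a k) _)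
      (Limits.pullback.snd (a k) (Limits.pullback.fst g₀ (D.map A.hom)) ≫
        Limits.pullback.snd g₀ (D.map A.hom) ≫ D.map (m k).left) ?_ :
          Limits.pullback (a k) (Limits.pullback.fst g₀ (D.map A.hom)) ⟶ _) z)
    simp only [Category.assoc, ← D.map_comp]
    rw [show (m k).left ≫ φk k = A.hom from Over.w (m k), ← Limits.pullback.condition,
      Limits.pullback.condition_assoc]
  · rintro ⟨j, φ, Xj, Yj, fj, gj, pY, pX, hYj, hXj, hd⟩
    haveI : Flat (D.map φ) := hfl _ _ _
    haveI : Flat pY := MorphismProperty.of_isPullback (P := @Flat) hYj.flip inferInstance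
    refine (key f qY qX hX).2 (Set.eq_empty_iff_forall_notMem.2 fun y hy => ?_)
    let w := hYj.lift qY (g ≫ c.π.app j) (by rw [Category.assoc, c.w]; exact hY.w)
    refine Set.eq_empty_iff_forall_notMem.1 ((key fj pY pX hXj).1 hd) (w y) ?_
    rw [Set.mem_preimage]
    rw [← Scheme.Hom.comp_apply, hYj.lift_fst]
    exact hy

end Groth.Agent.S4800
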