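import Groth.Statements.S4801
import Groth.Agent.H8Props.GenericExact.Basic

set_option autoImplicit false
universe u
open TensorProduct
open Cons9

namespace Groth.Agent.S4801

/-- Let R be an integral domain with fraction field K, B an R-algebra of finite presentation, F, G, H
three B-modules of finite presentation and u : F → G, v : G → H homomorphisms of B-modules such that
the generic fibre sequence K ⊗_R F → K ⊗_R G → K ⊗_R H is exact. Then there is a nonzero f ∈ R such
that, for every prime ideal p of R with f ∉ p, the fibre sequence κ(p) ⊗_R F → κ(p) ⊗_R G → κ(p) ⊗_R
H is exact. Affine form: S = Spec R, X = Spec B with B a finitely presented R-algebra, the modules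
finitely presented B-modules, and the fibre of a module M at a prime p taken as κ(p) ⊗_R M; the
published statement, for a morphism of finite presentation and quasi-coherent modules of finite
presentation, is local on S and on X and reduces to this one. -/
theorem result {R B : Type u} [CommRing R] [IsDomain R]
    [CommRing B] [Algebra R B] [Algebra.FinitePresentation R B]
    {F G H : Type u} [AddCommGroup F] [Module B F] [Module R F] [IsScalarTower R B F] [Module.FinitePresentation B F]
    [AddCommGroup G] [Module B G] [Module R G] [IsScalarTower R B G] [Module.FinitePresentation B G]
    [AddCommGroup H] [Module B H] [Module R H] [IsScalarTower R B H] [Module.FinitePresentation B H]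
    (u : F →ₗ[B] G) (v : G →ₗ[B] H)
    (hgen : Function.Exact ((u.restrictScalars R).baseChange (FractionRing R)) ((v.restrictScalars R).baseChange (FractionRing R))) :
    ∃ f : R, f ≠ 0 ∧ ∀ p : PrimeSpectrum R, f ∉ p.asIdeal →
      Function.Exact ((u.restrictScalars R).baseChange p.asIdeal.ResidueField) ((v.restrictScalars R).baseChange p.asIdeal.ResidueField) := by
  obtain ⟨f, hf, h⟩ := H8Props.GenericExact.exists_exact u v hgen
  exact ⟨f, hf, fun p hp => h p.asIdeal.ResidueField
    (isUnit_iff_ne_zero.2 fun h0 => hp (Ideal.algebraMap_residueField_eq_zero.1 h0))⟩

end Groth.Agent.S4801
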