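-- statement Lim8.GrothFrozen.S4805 (Groth/Statements/S4805.lean; the theorem Lim8.exists_isIso_descend_of_finiteType_quasiSeparated);
import Groth.Statements.S4805
import Groth.Agent.H7Lim.DescendUnramified

set_option autoImplicit false
universe u
open CategoryTheory AlgebraicGeometry
open Lim8

namespace Groth.Agent.S4805

/-- Let S = lim S_i be a cofiltered limit of schemes with affine transition maps and S_{i₀} a
quasi-compact stage; let Y₀ ⟶ S_{i₀} be of finite type and quasi-separated, X₀ ⟶ S_{i₀} of finite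
presentation (locally of finite presentation, quasi-compact and quasi-separated), f₀ : X₀ ⟶ Y₀ an
S_{i₀}-morphism, and f : X ⟶ Y its base change along S ⟶ S_{i₀} (base changes are expressed by
pullback squares). If f is an isomorphism, then for some index j over i₀ the base change f_j : X_j ⟶
Y_j of f₀ along S_j ⟶ S_{i₀} is an isomorphism. (Note the hypotheses: the stage S_{i₀} is only
assumed quasi-compact, and Y₀ only of finite type and quasi-separated over it.) -/
theorem result {I : Type u} [SmallCategory I] [IsCofiltered I]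
    (D : I ⥤ Scheme.{u}) (c : Limits.Cone D) (hc : Limits.IsLimit c)
    [∀ (i j : I) (f : i ⟶ j), IsAffineHom (D.map f)] (i₀ : I) [CompactSpace (D.obj i₀)]
    {X₀ Y₀ : Scheme.{u}} (f₀ : X₀ ⟶ Y₀) (g₀ : Y₀ ⟶ D.obj i₀)
    [LocallyOfFiniteType g₀] [QuasiCompact g₀] [QuasiSeparated g₀]
    [LocallyOfFinitePresentation (f₀ ≫ g₀)] [QuasiCompact (f₀ ≫ g₀)] [QuasiSeparated (f₀ ≫ g₀)]
    {X Y : Scheme.{u}} (f : X ⟶ Y) (g : Y ⟶ c.pt) (qY : Y ⟶ Y₀) (qX : X ⟶ X₀)
    (hY : IsPullback qY g g₀ (c.π.app i₀)) (hX : IsPullback qX f f₀ qY) [IsIso f] :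
    ∃ (j : I) (φ : j ⟶ i₀) (Xj Yj : Scheme.{u}) (fj : Xj ⟶ Yj) (gj : Yj ⟶ D.obj j) (pY : Yj ⟶ Y₀)
      (pX : Xj ⟶ X₀), IsPullback pY gj g₀ (D.map φ) ∧ IsPullback pX fj f₀ pY ∧ IsIso fj := by
  have := Groth.Agent.H7Lim.locallyOfFinitePresentation_of_comp f₀ g₀
  have : QuasiCompact f₀ := .of_comp f₀ g₀
  have : QuasiSeparated f₀ := .of_comp f₀ g₀
  have : CompactSpace Y₀ := QuasiCompact.compactSpace_of_compactSpace g₀
  exact (Groth.Agent.H7Lim.exists_descend_square_iff hc
    (P := MorphismProperty.isomorphisms Scheme.{u}) (Q := @LocallyOfFinitePresentation)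
    Groth.Agent.H7Lim.descends_isIso.descendsAffine i₀ f₀ g₀ hY hX ‹_›).mp ‹IsIso f›

end Groth.Agent.S4805
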