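-- statement Lim8.GrothFrozen.S4806 (Groth/Statements/S4806.lean; the theorem Lim8.isClosedImmersion_iff_fiber_of_isProper);
import Groth.Statements.S4806
import Groth.Agent.H8Props.ClosedImmersionNhd

set_option autoImplicit false
universe u
open CategoryTheory AlgebraicGeometry
open Lim8

namespace Groth.Agent.S4806

/-- Let f : X ⟶ Y be a proper morphism of finite presentation. Then f is a closed immersion if and only
if, for every point y of Y, the scheme-theoretic fibre of f at y is empty or its structure morphism
to Spec κ(y) is an isomorphism. -/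
theorem result {X Y : Scheme.{u}} (f : X ⟶ Y) [IsProper f]
    [LocallyOfFinitePresentation f] :
    IsClosedImmersion f ↔ ∀ y : Y, IsEmpty (f.fiber y) ∨ IsIso (f.fiberToSpecResidueField y) := by
  constructor
  · intro h y
    exact ((Groth.Agent.H8Props.ClosedImmersionNhd.closedImmersion_nhd_iff f y).1 ⟨⊤, trivial, inferInstance⟩).1
  · intro h
    choose U hU hcl using fun y : Y => (Groth.Agent.H8Props.ClosedImmersionNhd.closedImmersion_nhd_iff f y).2
      ⟨h y, ⊤, trivial, inferInstance⟩
    exact IsZariskiLocalAtTarget.of_iSup_eq_top U
      (top_le_iff.1 fun y _ => TopologicalSpace.Opens.mem_iSup.2 ⟨y, hU y⟩) hcl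

end Groth.Agent.S4806
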