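-- statement Lim8.GrothFrozen.S4810 (Groth/Statements/S4810.lean; the theorem Lim8.isLocalIso_toNormalization_of_normal_locallyQuasiFinite);
import Groth.Statements.S4810
import Groth.Agent.H7Lim.NormalizationNormal

set_option autoImplicit false
universe u
open CategoryTheory AlgebraicGeometry
open Lim8

namespace Groth.Agent.S4810
set_option linter.style.haveILetI false

/-- Let Y be an integral scheme, X an integral normal scheme (every local ring integrally closed) and f
: X ⟶ Y a dominant locally quasi-finite morphism (locally of finite type with discrete fibres). Let
Y' be the relative normalization of Y in X (here the normalization of Y in the function field of X)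
and f' : X ⟶ Y' the canonical morphism, so that f is f' followed by the canonical morphism Y' ⟶ Y.
Then f' is a local isomorphism, and f' is an open immersion if and only if f is separated. (The
published statement assumes f only locally quasi-finite; this row takes f moreover quasi-compact and
quasi-separated, the setting in which the relative normalization is built chart by chart from
integral closures.) -/
theorem result {X Y : Scheme.{u}} [IsIntegral X] [IsIntegral Y]
    (hN : ∀ x : X, IsIntegrallyClosed (X.presheaf.stalk x)) (f : X ⟶ Y) [IsDominant f]
    [LocallyQuasiFinite f] [LocallyOfFiniteType f] [QuasiCompact f] [QuasiSeparated f] :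
    IsLocalIso f.toNormalization ∧ (IsOpenImmersion f.toNormalization ↔ IsSeparated f) := by
  haveI := Groth.Agent.H7Lim.isLocalIso_toNormalization hN f
  refine ⟨inferInstance, fun _ ↦ ?_, fun _ ↦ ?_⟩
  · rw [← f.toNormalization_fromNormalization]
    infer_instance
  · haveI : IsSeparated (f.toNormalization ≫ f.fromNormalization) := by
      rw [f.toNormalization_fromNormalization]; infer_instance
    haveI : IsSeparated f.toNormalization := IsSeparated.of_comp _ f.fromNormalization
    exact Groth.Agent.H7Lim.isOpenImmersion_of_isLocalIso f.toNormalization
      (Groth.Agent.H7Lim.genericPoint_toNormalization f)

end Groth.Agent.S4810
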