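-- statement Lim8.GrothFrozen.S4813 (Groth/Statements/S4813.lean; the theorem Lim8.quotient_factors_iff_eventually);
import Groth.Statements.S4813
import Groth.Agent.H7Lim.ModExact

set_option autoImplicit false
universe u
open CategoryTheory AlgebraicGeometry
open Lim8

namespace Groth.Agent.S4813
set_option backward.isDefEq.respectTransparency false

/-- Let S = lim S_i be a cofiltered limit of schemes with affine transition maps and S_{i₀} a
quasi-compact stage; let F₀ be a quasi-coherent O-module of finite type on S_{i₀} and p₁ : F₀ ⟶ G₁,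
p₂ : F₀ ⟶ G₂ two surjective homomorphisms onto quasi-coherent O-modules, G₁ being of finite
presentation. Then, on S, the pullback of p₂ factors through the pullback of p₁ (the quotient G₂
becomes a quotient of G₁ after pullback to S) if and only if, for some index j over i₀, the pullback
of p₂ to S_j factors through the pullback of p₁ to S_j. -/
theorem result {I : Type u} [SmallCategory I] [IsCofiltered I]
    (D : I ⥤ Scheme.{u}) (c : Limits.Cone D) (hc : Limits.IsLimit c)
    [∀ (i j : I) (f : i ⟶ j), IsAffineHom (D.map f)] (i₀ : I) [CompactSpace (D.obj i₀)]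
    {F₀ G₁ G₂ : (D.obj i₀).Modules} [Coh.IsQCoh F₀] [Coh.IsQCoh G₁] [Coh.IsQCoh G₂]
    (hF₀ : CohB1.IsFT F₀) (hG₁ : CohB1.IsFP G₁) (p₁ : F₀ ⟶ G₁) (p₂ : F₀ ⟶ G₂) [Epi p₁] [Epi p₂] :
    (∃ k : (Scheme.Modules.pullback (c.π.app i₀)).obj G₁ ⟶ (Scheme.Modules.pullback (c.π.app i₀)).obj G₂, (Scheme.Modules.pullback (c.π.app i₀)).map p₁ ≫ k = (Scheme.Modules.pullback (c.π.app i₀)).map p₂) ↔
      ∃ (j : I) (φ : j ⟶ i₀) (k : (Scheme.Modules.pullback (D.map φ)).obj G₁ ⟶ (Scheme.Modules.pullback (D.map φ)).obj G₂),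
        (Scheme.Modules.pullback (D.map φ)).map p₁ ≫ k = (Scheme.Modules.pullback (D.map φ)).map p₂ := by
  rw [H7Lim.ModExact.factors_iff,
    H7Lim.ModStage.eq_zero_iff hc (H7Lim.ModExact.isQCoh_kernel p₁ ‹_› ‹_›) ‹_› _
      (H7Lim.ModExact.isFT_kernel ‹_› ‹_› hF₀ hG₁ p₁)]
  exact exists₂_congr fun j φ => (H7Lim.ModExact.factors_iff (D.map φ) p₁ p₂).symm

end Groth.Agent.S4813
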