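-- statement Lim8.GrothFrozen.S4814 (Groth/Statements/S4814.lean; the theorem Lim8.exists_quotient_finitePresentation_descend);
import Groth.Statements.S4814
import Groth.Agent.H7Lim.ModHom

set_option autoImplicit false
universe u
open CategoryTheory AlgebraicGeometry
open Lim8

namespace Groth.Agent.S4814
set_option backward.isDefEq.respectTransparency false

/-- Let S = lim S_i be a cofiltered limit of schemes with affine transition maps and S_{i₀} a
quasi-compact quasi-separated stage; let F₀ be a quasi-coherent O-module of finite presentation on
S_{i₀}, F its pullback to S, and p : F ⟶ G a surjective homomorphism onto a quasi-coherent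
O_S-module of finite presentation. Then for some index j over i₀ there are a quasi-coherent O-module
of finite presentation G_j on S_j and a surjective homomorphism p_j : F_j ⟶ G_j from the pullback
F_j of F₀, together with an isomorphism from the pullback of G_j to S onto G which carries the
pullback of p_j (transported along the canonical identification of the pullback of F_j with F) to p.
Every quotient of finite presentation of F thus comes from a quotient of finite presentation of some
F_j. -/
theorem result {I : Type u} [SmallCategory I] [IsCofiltered I]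
    (D : I ⥤ Scheme.{u}) (c : Limits.Cone D) (hc : Limits.IsLimit c)
    [∀ (i j : I) (f : i ⟶ j), IsAffineHom (D.map f)] (i₀ : I)
    [CompactSpace (D.obj i₀)] [QuasiSeparatedSpace (D.obj i₀)]
    (F₀ : (D.obj i₀).Modules) [Coh.IsQCoh F₀] (hF₀ : CohB1.IsFP F₀)
    {G : c.pt.Modules} [Coh.IsQCoh G] (hG : CohB1.IsFP G) (p : (Scheme.Modules.pullback (c.π.app i₀)).obj F₀ ⟶ G) [Epi p] :
    ∃ (j : I) (φ : j ⟶ i₀) (Gj : (D.obj j).Modules) (_ : Coh.IsQCoh Gj) (pj : (Scheme.Modules.pullback (D.map φ)).obj F₀ ⟶ Gj)
      (e : (Scheme.Modules.pullback (c.π.app j)).obj Gj ≅ G),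
      CohB1.IsFP Gj ∧ Epi pj ∧
        ((Scheme.Modules.pullbackComp (c.π.app j) (D.map φ) ≪≫ Scheme.Modules.pullbackCongr (c.w φ)).app F₀).inv ≫
          (Scheme.Modules.pullback (c.π.app j)).map pj ≫ e.hom = p := by
  exact H7Lim.ModHom.exists_quotient hc hF₀ ‹_› hG p

end Groth.Agent.S4814
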