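-- statement Lim8.GrothFrozen.S4815 (Groth/Statements/S4815.lean; the theorem Lim8.exists_immersion_finitePresentation_descend);
import Groth.Statements.S4815
import Groth.Agent.H7Lim.FPDescent.Exists
import Groth.Agent.H06EGA8.Descend

set_option autoImplicit false
universe u
open CategoryTheory AlgebraicGeometry
open Lim8

namespace Groth.Agent.S4815
open CategoryTheory.Limits
set_option linter.style.haveILetI false
set_option backward.isDefEq.respectTransparency false

/-- Let S = lim S_i be a cofiltered limit of schemes with affine transition maps and S_{i₀} a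
quasi-compact quasi-separated stage. Then every subscheme of finite presentation of S, that is every
immersion ι : Z ⟶ S which is locally of finite presentation and quasi-compact, is the base change
along S ⟶ S_j of an immersion of finite presentation Z_j ⟶ S_j, for some index j over i₀ (the base
change is expressed by a pullback square). -/
theorem result {I : Type u} [SmallCategory I] [IsCofiltered I]
    (D : I ⥤ Scheme.{u}) (c : Limits.Cone D) (hc : Limits.IsLimit c)
    [∀ (i j : I) (f : i ⟶ j), IsAffineHom (D.map f)] (i₀ : I)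
    [CompactSpace (D.obj i₀)] [QuasiSeparatedSpace (D.obj i₀)]
    {Z : Scheme.{u}} (ι : Z ⟶ c.pt) [IsImmersion ι] [LocallyOfFinitePresentation ι] [QuasiCompact ι] :
    ∃ (j : I) (_ : j ⟶ i₀) (Zj : Scheme.{u}) (ιj : Zj ⟶ D.obj j) (q : Z ⟶ Zj),
      IsImmersion ιj ∧ LocallyOfFinitePresentation ιj ∧ QuasiCompact ιj ∧ IsPullback q ι ιj (c.π.app j) := by
  let D' := Over.forget i₀ ⋙ D
  let c' := c.whisker (Over.forget i₀)
  let hc' : IsLimit c' := (Functor.Initial.isLimitWhiskerEquiv (Over.forget i₀) c).symm hc
  haveI : ∀ (a b : Over i₀) (f : a ⟶ b), IsAffineHom (D'.map f) := fun a b f =>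
    inferInstanceAs (IsAffineHom (D.map f.left))
  haveI : ∀ a : Over i₀, CompactSpace (D'.obj a) := fun a => H7Lim.compactSpace_of_hom D a.hom
  haveI : ∀ a : Over i₀, QuasiSeparatedSpace (D'.obj a) := fun a => H7Lim.quasiSeparatedSpace_of_hom D a.hom
  obtain ⟨k, ⟨M⟩⟩ := H7Lim.FPDescent.exists_model hc' (X := Z) ι
  haveI : CompactSpace (D.obj k.left) := H7Lim.compactSpace_of_hom D k.hom
  haveI : QuasiSeparatedSpace (D.obj k.left) := H7Lim.quasiSeparatedSpace_of_hom D k.hom
  haveI : CompactSpace M.P := M.compactSpace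
  haveI : QuasiSeparatedSpace M.P := M.quasiSeparatedSpace
  let p : M.P ⟶ D.obj k.left := M.p
  haveI : LocallyOfFinitePresentation p := M.lfp
  haveI : QuasiCompact p := M.qc
  have hpb : IsPullback M.g ι p (c.π.app k.left) := M.hpb
  have himm : IsImmersion (pullback.snd p (c.π.app k.left)) := by
    rw [← hpb.isoPullback_inv_snd]
    infer_instance
  obtain ⟨j, φ, hj⟩ := H7Lim.exists_descend hc H06EGA8.descendsAffine_isImmersion k.left p
    (inferInstanceAs (LocallyOfFiniteType p)) himm
  refine ⟨j, φ ≫ k.hom, pullback p (D.map φ), pullback.snd p (D.map φ),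
    pullback.lift M.g (ι ≫ c.π.app j) (by rw [Category.assoc, c.w, hpb.w]), hj,
    MorphismProperty.pullback_snd _ _ ‹LocallyOfFinitePresentation p›, MorphismProperty.pullback_snd _ _ ‹QuasiCompact p›, ?_⟩
  refine IsPullback.of_right (h₁₂ := pullback.fst p (D.map φ)) (h₂₂ := D.map φ) (v₁₃ := p) ?_
    (pullback.lift_snd _ _ _) (IsPullback.of_hasPullback _ _)
  rw [pullback.lift_fst, c.w]
  exact hpb

end Groth.Agent.S4815
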