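-- statement Lim8.GrothFrozen.S4816 (Groth/Statements/S4816.lean; the theorem Lim8.immersion_factors_iff_eventually);
import Groth.Statements.S4816
import Groth.Agent.H7Lim.DescendIso
import Groth.Agent.H7Lim.DescendUnramified

set_option autoImplicit false
universe u
open CategoryTheory AlgebraicGeometry
open Lim8

namespace Groth.Agent.S4816
open CategoryTheory.Limits
set_option linter.style.haveILetI false
set_option backward.isDefEq.respectTransparency false

open CategoryTheory.Limits in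
/-- Let S = lim S_i be a cofiltered limit of schemes with affine transition maps and S_{i₀} a
quasi-compact stage; let ι₁ : Z₁ ⟶ S_{i₀} and ι₂ : Z₂ ⟶ S_{i₀} be two subschemes of finite
presentation of S_{i₀} (immersions which are locally of finite presentation and quasi-compact), with
base changes Z₁ ×_{S_{i₀}} T ⟶ T to T = S and to T = S_j. Then Z₁ ×_{S_{i₀}} S is a subscheme of Z₂
×_{S_{i₀}} S (its immersion into S factors through that of Z₂ ×_{S_{i₀}} S) if and only if, for some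
index j over i₀, Z₁ ×_{S_{i₀}} S_j is a subscheme of Z₂ ×_{S_{i₀}} S_j. -/
theorem result {I : Type u} [SmallCategory I] [IsCofiltered I]
    (D : I ⥤ Scheme.{u}) (c : Limits.Cone D) (hc : Limits.IsLimit c)
    [∀ (i j : I) (f : i ⟶ j), IsAffineHom (D.map f)] (i₀ : I) [CompactSpace (D.obj i₀)]
    {Z₁ Z₂ : Scheme.{u}} (ι₁ : Z₁ ⟶ D.obj i₀) (ι₂ : Z₂ ⟶ D.obj i₀)
    [IsImmersion ι₁] [LocallyOfFinitePresentation ι₁] [QuasiCompact ι₁]
    [IsImmersion ι₂] [LocallyOfFinitePresentation ι₂] [QuasiCompact ι₂] :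
    (∃ k : pullback ι₁ (c.π.app i₀) ⟶ pullback ι₂ (c.π.app i₀),
        k ≫ pullback.snd ι₂ (c.π.app i₀) = pullback.snd ι₁ (c.π.app i₀)) ↔
      ∃ (j : I) (φ : j ⟶ i₀) (k : pullback ι₁ (D.map φ) ⟶ pullback ι₂ (D.map φ)),
        k ≫ pullback.snd ι₂ (D.map φ) = pullback.snd ι₁ (D.map φ) := by
  have key : ∀ {T Y X : Scheme.{u}} (t : T ⟶ D.obj i₀) (qY : Y ⟶ Z₁) (g : Y ⟶ T)
      (qX : X ⟶ pullback ι₁ ι₂) (f : X ⟶ Y), IsPullback qY g ι₁ t → IsPullback qX f (pullback.fst ι₁ ι₂) qY →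
      (IsIso f ↔ ∃ k : Y ⟶ pullback ι₂ t, k ≫ pullback.snd ι₂ t = g) := by
    intro T Y X t qY g qX f hY hX
    constructor
    · intro h
      refine ⟨pullback.lift (inv f ≫ qX ≫ pullback.snd ι₁ ι₂) g ?_, pullback.lift_snd _ _ _⟩
      simp only [Category.assoc, ← pullback.condition, reassoc_of% hX.w, IsIso.inv_hom_id_assoc, hY.w]
    · rintro ⟨k, hk⟩
      let u : Y ⟶ pullback ι₁ ι₂ := pullback.lift qY (k ≫ pullback.fst ι₂ t) (by
        rw [Category.assoc, pullback.condition, reassoc_of% hk, hY.w])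
      haveI : Mono f := MorphismProperty.of_isPullback (P := MorphismProperty.monomorphisms Scheme) hX
        (MorphismProperty.monomorphisms.infer_property (pullback.fst ι₁ ι₂))
      haveI : IsSplitEpi f := IsSplitEpi.mk' ⟨hX.lift u (𝟙 Y) (by simp [u]), hX.lift_snd _ _ _⟩
      exact isIso_of_mono_of_isSplitEpi f
  haveI : CompactSpace Z₁ := QuasiCompact.compactSpace_of_compactSpace ι₁
  let qY := pullback.fst ι₁ (c.π.app i₀)
  have hdesc := H7Lim.exists_descend_square_iff hc (P := MorphismProperty.isomorphisms Scheme.{u})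
    (Q := @LocallyOfFinitePresentation) H7Lim.descends_isIso.descendsAffine i₀ (pullback.fst ι₁ ι₂) ι₁
    (IsPullback.of_hasPullback ι₁ (c.π.app i₀)) (IsPullback.of_hasPullback (pullback.fst ι₁ ι₂) qY)
    (MorphismProperty.pullback_fst (P := @LocallyOfFinitePresentation) _ _ ‹_›)
  rw [← key (c.π.app i₀) qY _ _ _ (IsPullback.of_hasPullback _ _) (IsPullback.of_hasPullback _ _)]
  refine hdesc.trans ⟨?_, ?_⟩
  · rintro ⟨j, φ, Xj, Yj, fj, gj, pY, pX, h1, h2, h3⟩
    obtain ⟨k, hk⟩ := (key (D.map φ) pY gj pX fj h1 h2).1 h3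
    exact ⟨j, φ, h1.isoPullback.inv ≫ k, by rw [Category.assoc, hk, h1.isoPullback_inv_snd]⟩
  · rintro ⟨j, φ, k, hk⟩
    exact ⟨j, φ, _, _, _, _, _, _, IsPullback.of_hasPullback _ _, IsPullback.of_hasPullback _ _,
      (key (D.map φ) _ _ _ _ (IsPullback.of_hasPullback _ _) (IsPullback.of_hasPullback _ _)).2 ⟨k, hk⟩⟩

end Groth.Agent.S4816
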