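import Groth.Statements.S4822
import Groth.Agent.H8Props.AmpleSpread.Locus
import Groth.Agent.H8Props.IndPoint.Fibres
-- import your own Groth.Agent.* helpers here

set_option autoImplicit false
open CategoryTheory AlgebraicGeometry
universe u
open Cons9

namespace Groth.Agent.S4822

open CategoryTheory.Limits in
/-- Let g : Y ⟶ S and f : X ⟶ Y be morphisms such that X and Y are of finite presentation over S
(locally of finite presentation, quasi-compact and quasi-separated) and f is proper, and let L be an
invertible O_X-module. For each point s of S let f_s : X_s ⟶ Y_s be the morphism induced on the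
fibres over s and L_s the pullback of L to X_s. Then the set of s for which L_s is ample relative to
f_s is locally constructible in S. This is the case of relative ampleness (the very ample case is
not stated here). -/
theorem result {X Y S : Scheme.{u}} (f : X ⟶ Y) (g : Y ⟶ S)
    [LocallyOfFinitePresentation g] [QuasiCompact g] [QuasiSeparated g]
    [LocallyOfFinitePresentation (f ≫ g)] [QuasiCompact (f ≫ g)] [QuasiSeparated (f ≫ g)] [IsProper f]
    (L : X.Modules) (hL : PicF.IsInvertible L) :
    Topology.IsLocallyConstructible {s : S |
      RelAmple.IsRelAmple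
        (pullback.lift (pullback.fst (f ≫ g) (S.fromSpecResidueField s) ≫ f) (pullback.snd (f ≫ g) (S.fromSpecResidueField s))
          ((Category.assoc _ _ _).trans pullback.condition) :
          pullback (f ≫ g) (S.fromSpecResidueField s) ⟶ pullback g (S.fromSpecResidueField s))
        ((Scheme.Modules.pullback (pullback.fst (f ≫ g) (S.fromSpecResidueField s))).obj L)} := by
  haveI : LocallyOfFiniteType g := inferInstance
  haveI : LocallyOfFinitePresentation f :=
    Groth.Agent.H7Lim.locallyOfFinitePresentation_of_comp f g
  let W := Groth.Agent.H8Props.AmpleSpread.ampleLocus f L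
  have hW : Topology.IsLocallyConstructible W :=
    (Groth.Agent.H8Props.AmpleSpread.isRetrocompact_ampleLocus f hL).isLocallyConstructible
      (Groth.Agent.H8Props.AmpleSpread.isOpen_ampleLocus f hL)
  convert Groth.Agent.H7Lim.isLocallyConstructible_compl
    (g.isLocallyConstructible_image (Groth.Agent.H7Lim.isLocallyConstructible_compl hW)) using 1
  ext s
  let t := S.fromSpecResidueField s
  have hsq := Groth.Agent.H8Props.IndPoint.isPullback_fT f g t
  haveI : IsProper (Groth.Agent.H8Props.IndPoint.fT f g t) := MorphismProperty.of_isPullback hsq ‹IsProper f›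
  haveI : LocallyOfFinitePresentation (Groth.Agent.H8Props.IndPoint.fT f g t) :=
    MorphismProperty.of_isPullback hsq ‹LocallyOfFinitePresentation f›
  refine (Groth.Agent.S12128.result (Groth.Agent.H8Props.IndPoint.fT f g t) _
    (Groth.Agent.H11Ample.isInvertible_pullback _ hL)).trans ⟨fun h => ?_, fun h y => ?_⟩
  · rintro ⟨y, hy, hys⟩
    obtain ⟨y', rfl⟩ : y ∈ Set.range (pullback.fst g t) := by
      show y ∈ Set.range (g.fiberι s)
      rw [g.range_fiberι]
      exact hys
    exact hy ((Groth.Agent.H8Props.AmpleSpread.mem_ampleLocus_iff hsq hL y').1 (h y'))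
  · refine (Groth.Agent.H8Props.AmpleSpread.mem_ampleLocus_iff hsq hL y).2 (not_not.1 fun hy => h ⟨_, hy, ?_⟩)
    have : pullback.fst g t y ∈ g ⁻¹' {s} := g.range_fiberι s ▸ Set.mem_range_self y
    exact this

end Groth.Agent.S4822
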