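import Groth.Statements.S4823
import Groth.Agent.H17.ConsPairExists
import Groth.Agent.H12AlgSp.UnivInj
import Groth.Agent.H8Props.IsoDescent.Basic
import Mathlib.RingTheory.Jacobson.Ring

set_option autoImplicit false
set_option linter.style.haveILetI false
open CategoryTheory AlgebraicGeometry
universe u
open Cons9

namespace Groth.Agent.S4823

open CategoryTheory.Limits in
/-- Let k be a field, Ω an algebraically closed extension field of k, X a scheme of finite type over k
and F, G two coherent O_X-modules (quasi-coherent of finite presentation). If the pullbacks of F and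
G to X ⊗_k Ω are isomorphic, then there is a finite extension k' of k such that the pullbacks of F
and G to X ⊗_k k' are already isomorphic (base changes are the chosen fibre products with Spec of
the extension, and the modules are pulled back along the first projection). -/
theorem result {k : Type u} [Field k] {X : Scheme.{u}}
    (p : X ⟶ Spec (CommRingCat.of k)) [LocallyOfFiniteType p] [QuasiCompact p]
    (F G : X.Modules) [Coh.IsQCoh F] [Coh.IsQCoh G] (hF : CohB1.IsFP F) (hG : CohB1.IsFP G)
    (Ω : Type u) [Field Ω] [Algebra k Ω] [IsAlgClosed Ω]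
    (e : (Scheme.Modules.pullback (pullback.fst p (Spec.map (CommRingCat.ofHom (algebraMap k Ω))))).obj F ≅
      (Scheme.Modules.pullback (pullback.fst p (Spec.map (CommRingCat.ofHom (algebraMap k Ω))))).obj G) :
    ∃ (k' : Type u) (_ : Field k') (_ : Algebra k k') (_ : Module.Finite k k'),
      Nonempty ((Scheme.Modules.pullback (pullback.fst p (Spec.map (CommRingCat.ofHom (algebraMap k k'))))).obj F ≅
        (Scheme.Modules.pullback (pullback.fst p (Spec.map (CommRingCat.ofHom (algebraMap k k'))))).obj G) := by
  haveI : LocallyOfFinitePresentation p := Groth.Agent.H12AlgSp.lfp_of_lft_of_isLocallyNoetherian p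
  haveI : QuasiSeparated p := by
    haveI : IsLocallyNoetherian X := LocallyOfFiniteType.isLocallyNoetherian p
    infer_instance
  haveI : Nonempty (Finset Ω) := ⟨∅⟩
  haveI : ∀ i, CompactSpace ((Groth.Agent.H17.ConsPair.specSystem k Ω).obj i) := fun i => inferInstance
  haveI : ∀ i, QuasiSeparatedSpace ((Groth.Agent.H17.ConsPair.specSystem k Ω).obj i) := fun i => inferInstance
  let i₀ : (Finset Ω)ᵒᵖ := Opposite.op ∅
  obtain ⟨l, φ, hl⟩ := Groth.Agent.H8Props.IsoDescent.exists_isoAlong_of_base
    (Groth.Agent.H17.ConsPair.isLimitSpecCone k Ω) p hF hG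
    ((Groth.Agent.H17.ConsPair.specStr k Ω).app i₀) (Spec.map (CommRingCat.ofHom (algebraMap k Ω)))
    (Groth.Agent.H17.ConsPair.specCone_str k Ω i₀) ⟨e⟩
  let sl := (Groth.Agent.H17.ConsPair.specStr k Ω).app l
  have hs : (Groth.Agent.H17.ConsPair.specSystem k Ω).map φ ≫ (Groth.Agent.H17.ConsPair.specStr k Ω).app i₀ = sl :=
    ((Groth.Agent.H17.ConsPair.specStr k Ω).naturality φ).trans (Category.comp_id _)
  let A := Algebra.adjoin k ((Opposite.unop l : Finset Ω) : Set Ω)
  haveI : Algebra.FiniteType k A := (Subalgebra.fg_iff_finiteType _).1 (Subalgebra.fg_adjoin_finset _)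
  obtain ⟨m, hm⟩ := Ideal.exists_maximal A
  letI : Field (A ⧸ m) := Ideal.Quotient.field m
  let r : Spec (CommRingCat.of (A ⧸ m)) ⟶ (Groth.Agent.H17.ConsPair.specSystem k Ω).obj l :=
    Spec.map (CommRingCat.ofHom (Ideal.Quotient.mk m))
  have hr : r ≫ sl = Spec.map (CommRingCat.ofHom (algebraMap k (A ⧸ m))) := by
    show Spec.map _ ≫ Spec.map _ = _
    rw [← Spec.map_comp]
    rfl
  refine ⟨A ⧸ m, inferInstance, inferInstance, finite_of_finite_type_of_isJacobsonRing k _, ?_⟩
  have hw : pullback.fst p (Spec.map (CommRingCat.ofHom (algebraMap k (A ⧸ m)))) ≫ p =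
      (pullback.snd p _ ≫ r) ≫ (Groth.Agent.H17.ConsPair.specSystem k Ω).map φ ≫
        (Groth.Agent.H17.ConsPair.specStr k Ω).app i₀ :=
    pullback.condition.trans ((congrArg (pullback.snd p _ ≫ ·) (hr.symm.trans (congrArg (r ≫ ·) hs.symm))).trans
      (Category.assoc _ _ _).symm)
  have h3 := hl.comp (pullback.lift (pullback.fst p _) (pullback.snd p _ ≫ r) hw)
  rw [pullback.lift_fst] at h3
  exact h3

end Groth.Agent.S4823
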