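import Groth.Statements.S4824
import Groth.Agent.H19Grp.AlgClosedGeom
import Mathlib

set_option autoImplicit false
set_option linter.style.haveILetI false
open CategoryTheory AlgebraicGeometry
universe u
open Cons9

namespace Groth.Agent.S4824

open TensorProduct

theorem totalDegree_map {A B : Type u} [Field A] [Field B] (φ : A →+* B) {n : ℕ} (G : MvPolynomial (Fin n) A) :
    (MvPolynomial.map φ G).totalDegree = G.totalDegree := by
  rw [MvPolynomial.totalDegree, MvPolynomial.totalDegree, MvPolynomial.support_map_of_injective G φ.injective]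

theorem irreducible_of_map {A B : Type u} [Field A] [Field B] (φ : A →+* B) {n : ℕ} {G : MvPolynomial (Fin n) A}
    (h : Irreducible (MvPolynomial.map φ G)) : Irreducible G := by
  have hu : ∀ a : MvPolynomial (Fin n) A, IsUnit (MvPolynomial.map φ a) → IsUnit a := fun a ha => by
    rw [MvPolynomial.isUnit_iff_totalDegree_of_isReduced] at ha ⊢
    rw [totalDegree_map, MvPolynomial.coeff_map] at ha
    exact ⟨(isUnit_iff_ne_zero.2 fun h0 => by
      rw [h0, map_zero] at ha; exact not_isUnit_zero ha.1), ha.2⟩
  refine ⟨fun hG => h.not_isUnit (hG.map (MvPolynomial.map φ)), fun a b hab => ?_⟩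
  rcases h.isUnit_or_isUnit (show MvPolynomial.map φ G = MvPolynomial.map φ a * MvPolynomial.map φ b by
    rw [hab, map_mul]) with ha | hb
  · exact .inl (hu a ha)
  · exact .inr (hu b hb)

/-- `K ⊗ (k[T]/(G))` is `K[T]/(G_K)`. -/
theorem isDomain_tensor_iff {k K : Type u} [Field k] [Field K] [Algebra k K] {n : ℕ}
    (G : MvPolynomial (Fin n) k) :
    IsDomain (K ⊗[k] (MvPolynomial (Fin n) k ⧸ Ideal.span ({G} : Set (MvPolynomial (Fin n) k)))) ↔
      (Ideal.span ({MvPolynomial.map (algebraMap k K) G} : Set (MvPolynomial (Fin n) K))).IsPrime := by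
  rw [← Ideal.Quotient.isDomain_iff_prime]
  let e := (Algebra.TensorProduct.tensorQuotientEquiv (R := k) K (MvPolynomial (Fin n) k) K
    (Ideal.span ({G} : Set (MvPolynomial (Fin n) k)))).trans
    (Ideal.quotientEquivAlg _ (Ideal.span ({MvPolynomial.map (algebraMap k K) G} : Set (MvPolynomial (Fin n) K)))
      (MvPolynomial.algebraTensorAlgEquiv k K) (by
        simp only [Ideal.map_span, Set.image_singleton]
        simp [MvPolynomial.algebraTensorAlgEquiv_tmul]))
  exact ⟨fun _ => e.symm.toMulEquiv.isDomain _, fun _ => e.toMulEquiv.isDomain _⟩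

theorem isPrime_iff_irreducible {K : Type u} [Field K] {n : ℕ} {G : MvPolynomial (Fin n) K}
    (hG : 0 < G.totalDegree) : (Ideal.span ({G} : Set (MvPolynomial (Fin n) K))).IsPrime ↔ Irreducible G := by
  have hne : G ≠ 0 := fun h => by simp [h] at hG
  rw [Ideal.span_singleton_prime hne, UniqueFactorizationMonoid.irreducible_iff_prime]

/-- Two extensions embed in a third. -/
theorem exists_common (k Ω K : Type u) [Field k] [Field Ω] [Algebra k Ω] [Field K] [Algebra k K] :
    ∃ (L : Type u) (_ : Field L) (_ : Algebra k L), Nonempty (Ω →ₐ[k] L) ∧ Nonempty (K →ₐ[k] L) := by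
  haveI : Nontrivial (Ω ⊗[k] K) := inferInstance
  obtain ⟨m, hm⟩ := Ideal.exists_maximal (Ω ⊗[k] K)
  exact ⟨_, Ideal.Quotient.field m, inferInstance,
    ⟨(Ideal.Quotient.mkₐ k m).comp Algebra.TensorProduct.includeLeft⟩,
    ⟨(Ideal.Quotient.mkₐ k m).comp Algebra.TensorProduct.includeRight⟩⟩

/-- Irreducibility over an algebraically closed field persists in extensions. -/
theorem irreducible_map_of_isAlgClosed {Ω L : Type u} [Field Ω] [IsAlgClosed Ω] [Field L] [Algebra Ω L] {n : ℕ}
    {G : MvPolynomial (Fin n) Ω} (hd : 0 < G.totalDegree) (hG : Irreducible G) :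
    Irreducible (MvPolynomial.map (algebraMap Ω L) G) := by
  rw [← isPrime_iff_irreducible (by rwa [totalDegree_map]), ← isDomain_tensor_iff]
  haveI : IsDomain (MvPolynomial (Fin n) Ω ⧸ Ideal.span ({G} : Set (MvPolynomial (Fin n) Ω))) := by
    rw [Ideal.Quotient.isDomain_iff_prime, isPrime_iff_irreducible hd]; exact hG
  exact Groth.Agent.H19Grp.isDomain_tensorProduct L _

/-- Let k be a field, Ω an algebraically closed extension of k and F a non-constant polynomial in k[T_1,
…, T_n]. The following are equivalent: (a) the k-scheme Spec(k[T_1, …, T_n]/(F)) is geometrically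
integral; (b) for every extension field K of k the image of F in K[T_1, …, T_n] is irreducible; (c)
the image of F in Ω[T_1, …, T_n] is irreducible. (Such an F is called geometrically irreducible.) -/
theorem result {k : Type u} [Field k] (Ω : Type u) [Field Ω] [Algebra k Ω]
    [IsAlgClosed Ω] {n : ℕ} (F : MvPolynomial (Fin n) k) (hF : 0 < F.totalDegree) :
    List.TFAE [
      GeometricallyIntegral (Spec.map (CommRingCat.ofHom
        (algebraMap k (MvPolynomial (Fin n) k ⧸ Ideal.span ({F} : Set (MvPolynomial (Fin n) k)))))),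
      ∀ (K : Type u) [Field K] [Algebra k K], Irreducible (MvPolynomial.map (algebraMap k K) F),
      Irreducible (MvPolynomial.map (algebraMap k Ω) F)] := by
  let A : Type u := MvPolynomial (Fin n) k ⧸ Ideal.span ({F} : Set (MvPolynomial (Fin n) k))
  tfae_have 1 → 2 := by
    intro h K _ _
    have hI : IsIntegral (CategoryTheory.Limits.pullback (C := Scheme.{u}) (Spec.map (CommRingCat.ofHom (algebraMap k A)))
        (Spec.map (CommRingCat.ofHom (algebraMap k K)))) :=
      pullback_of_geometrically h.geometrically_isIntegral K _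
    let e := pullbackSpecIso k A K
    haveI := hI
    haveI : IsDomain (A ⊗[k] K) := (affine_isIntegral_iff (CommRingCat.of (A ⊗[k] K))).1
      (haveI : Nonempty (Spec (CommRingCat.of (A ⊗[k] K))) :=
        ⟨e.hom (Classical.choice (inferInstanceAs (Nonempty (CategoryTheory.Limits.pullback (C := Scheme.{u})
          (Spec.map (CommRingCat.ofHom (algebraMap k A))) (Spec.map (CommRingCat.ofHom (algebraMap k K)))))))⟩
      isIntegral_of_isOpenImmersion e.inv)
    rw [← isPrime_iff_irreducible (by rwa [totalDegree_map]), ← isDomain_tensor_iff]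
    exact (Algebra.TensorProduct.comm k K A).toMulEquiv.isDomain _
  tfae_have 2 → 3 := fun h => h Ω
  tfae_have 3 → 1 := by
    intro h
    refine ⟨geometrically_iff_of_commRing.2 fun K _ _ Y fst snd sq => ?_⟩
    obtain ⟨L, _, _, ⟨a⟩, ⟨b⟩⟩ := exists_common k Ω K
    letI : Algebra Ω L := a.toRingHom.toAlgebra
    haveI : IsScalarTower k Ω L := .of_algebraMap_eq fun x => (a.commutes x).symm
    have hL := irreducible_map_of_isAlgClosed (L := L) (by rwa [totalDegree_map]) h
    rw [MvPolynomial.map_map, ← IsScalarTower.algebraMap_eq k Ω L] at hL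
    have hK : Irreducible (MvPolynomial.map (algebraMap k K) F) := by
      refine irreducible_of_map b.toRingHom ?_
      rw [MvPolynomial.map_map, AlgHom.toRingHom_eq_coe, b.comp_algebraMap]
      exact hL
    haveI : IsDomain (K ⊗[k] A) := by
      rw [isDomain_tensor_iff, isPrime_iff_irreducible (by rwa [totalDegree_map])]
      exact hK
    haveI : IsDomain (A ⊗[k] K) := (Algebra.TensorProduct.comm k A K).toMulEquiv.isDomain _
    haveI : IsIntegral (Spec (CommRingCat.of (A ⊗[k] K))) := inferInstance
    let e' := sq.isoPullback ≪≫ pullbackSpecIso k A K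
    haveI : Nonempty Y := ⟨e'.inv (Classical.choice inferInstance)⟩
    exact isIntegral_of_isOpenImmersion e'.hom
  tfae_finish

end Groth.Agent.S4824
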