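import Groth.Statements.S4825
import Groth.Agent.H7Lim.PseudoFinite
import Groth.Agent.S4807
-- import your own Groth.Agent.* helpers here

set_option autoImplicit false
open CategoryTheory AlgebraicGeometry
universe u
open Lim8

namespace Groth.Agent.S4825

open CategoryTheory.Limits in
/-- Let Y be a Noetherian scheme and f : X ⟶ Y a morphism of finite type. Then f admits a factorization
into an immersion followed by a finite morphism if and only if, for every point y of Y, the base
change X ×_Y Spec O_{Y,y} ⟶ Spec O_{Y,y} of f to the local scheme of Y at y admits such a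
factorization. (Pointwise criterion for pseudo-finite morphisms.) -/
theorem result {X Y : Scheme.{u}} (f : X ⟶ Y) [IsNoetherian Y]
    [LocallyOfFiniteType f] [QuasiCompact f] :
    (∃ (Y' : Scheme.{u}) (f' : X ⟶ Y') (u : Y' ⟶ Y), IsImmersion f' ∧ IsFinite u ∧ f' ≫ u = f) ↔
      ∀ y : Y, ∃ (Z : Scheme.{u}) (g : pullback f (Y.fromSpecStalk y) ⟶ Z) (u : Z ⟶ Spec (Y.presheaf.stalk y)),
        IsImmersion g ∧ IsFinite u ∧ g ≫ u = pullback.snd f (Y.fromSpecStalk y) := by
  classical
  haveI : IsLocallyNoetherian X := LocallyOfFiniteType.isLocallyNoetherian f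
  constructor
  · rintro ⟨Y', f', u, hf', hu, rfl⟩ y
    have h1 : IsPullback (pullback.map (f' ≫ u) (Y.fromSpecStalk y) u (Y.fromSpecStalk y) f' (𝟙 _) (𝟙 _)
        (by simp) (by simp)) (pullback.fst (f' ≫ u) (Y.fromSpecStalk y)) (pullback.fst u (Y.fromSpecStalk y)) f' := by
      refine IsPullback.of_right ?_ (pullback.lift_fst _ _ _) (IsPullback.of_hasPullback u (Y.fromSpecStalk y)).flip
      rw [show pullback.map (f' ≫ u) (Y.fromSpecStalk y) u (Y.fromSpecStalk y) f' (𝟙 _) (𝟙 _) (by simp) (by simp) ≫
        pullback.snd u (Y.fromSpecStalk y) = pullback.snd (f' ≫ u) (Y.fromSpecStalk y) from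
          (pullback.lift_snd _ _ _).trans (Category.comp_id _)]
      exact (IsPullback.of_hasPullback (f' ≫ u) (Y.fromSpecStalk y)).flip
    refine ⟨pullback u (Y.fromSpecStalk y), _, pullback.snd u (Y.fromSpecStalk y),
      MorphismProperty.of_isPullback h1.flip hf', MorphismProperty.pullback_snd _ _ hu,
      (pullback.lift_snd _ _ _).trans (Category.comp_id _)⟩
  · intro h
    haveI himm : IsImmersion f.toNormalization :=
      H7Lim.PseudoFinite.isImmersion_toNormalization_of_stalk f h
    haveI : IsSeparated (f.toNormalization ≫ f.fromNormalization) := inferInstance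
    haveI : IsSeparated f := by rw [← f.toNormalization_fromNormalization]; infer_instance
    exact (S4807.result f).mpr himm

end Groth.Agent.S4825
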