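import Groth.Statements.S4833
import Groth.Agent.H8Props.Cons.FlatNhd

set_option autoImplicit false
open CategoryTheory AlgebraicGeometry
universe u
open Cons9

namespace Groth.Agent.S4833

open CategoryTheory.Limits in
/-- Let S be an integral Noetherian scheme with generic point η, let g : X ⟶ Y be an S-morphism between
schemes of finite type over S (structure morphisms h : Y ⟶ S and g ≫ h), and let F be a coherent
O_X-module. For s in S write g_s : X_s ⟶ Y_s for the morphism induced on the fibres over s and F_s
for the pullback of F to X_s. If F_η is not flat relative to g_η (not flat over O_{Y_η, g_η(x)} at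
some point x of X_η), then there is an open neighbourhood U of η such that for every s in U the
module F_s is not flat relative to g_s. -/
theorem result {X Y S : Scheme.{u}} [IsIntegral S] [IsNoetherian S]
    (g : X ⟶ Y) (h : Y ⟶ S) [LocallyOfFiniteType h] [QuasiCompact h]
    [LocallyOfFiniteType (g ≫ h)] [QuasiCompact (g ≫ h)]
    (F : X.Modules) [Coh.IsQCoh F] (hF : CohB1.IsFP F)
    (hη : ¬ FlatMod.IsFlatOver
      (pullback.lift (pullback.fst (g ≫ h) (S.fromSpecResidueField (genericPoint S)) ≫ g)
          (pullback.snd (g ≫ h) (S.fromSpecResidueField (genericPoint S)))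
          ((Category.assoc _ _ _).trans pullback.condition) :
        pullback (g ≫ h) (S.fromSpecResidueField (genericPoint S)) ⟶ pullback h (S.fromSpecResidueField (genericPoint S)))
      ((Scheme.Modules.pullback (pullback.fst (g ≫ h) (S.fromSpecResidueField (genericPoint S)))).obj F)) :
    ∃ U : S.Opens, genericPoint S ∈ U ∧ ∀ s ∈ U, ¬ FlatMod.IsFlatOver
      (pullback.lift (pullback.fst (g ≫ h) (S.fromSpecResidueField s) ≫ g) (pullback.snd (g ≫ h) (S.fromSpecResidueField s))
          ((Category.assoc _ _ _).trans pullback.condition) :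
        pullback (g ≫ h) (S.fromSpecResidueField s) ⟶ pullback h (S.fromSpecResidueField s))
      ((Scheme.Modules.pullback (pullback.fst (g ≫ h) (S.fromSpecResidueField s))).obj F) := by
  haveI : IsLocallyNoetherian Y := LocallyOfFiniteType.isLocallyNoetherian h
  have hconv : ∀ s : S, FlatMod.IsFlatOver (H06EGA9.fibMap g h s)
      ((Scheme.Modules.pullback (pullback.fst (g ≫ h) (S.fromSpecResidueField s))).obj F) ↔
        s ∈ {s : S | (g ≫ h) ⁻¹' {s} ⊆ {x | H06EGA9.FibFlatAt g h F x}} := fun s =>
    H8Props.Cons.isFlatOver_fibMap_iff g h F s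
  have hE : Topology.IsLocallyConstructible {s : S | (g ≫ h) ⁻¹' {s} ⊆ {x | H06EGA9.FibFlatAt g h F x}} :=
    H06EGA9.isLocallyConstructible_setOf_fibre_subset (g ≫ h)
      (H06EGA9.isLocallyConstructible_fibFlatAt g h hF)
  obtain ⟨U, hU, hηU, hsub⟩ := (H8Props.Cons.exists_open_of_isConstructible
    (fun t => genericPoint_specializes t) hE.isConstructible).2 fun hm => hη ((hconv _).2 hm)
  exact ⟨⟨U, hU⟩, hηU, fun s hs hflat => hsub hs ((hconv s).1 hflat)⟩

end Groth.Agent.S4833
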