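import Groth.Statements.S4836
import Mathlib.RingTheory.Jacobson.Ring
import Mathlib.RingTheory.RingHom.FiniteType
import Mathlib.FieldTheory.IntermediateField.Adjoin.Algebra

set_option autoImplicit false
universe u
open Cons9

namespace Groth.Agent.S4836
open scoped IntermediateField.algebraAdjoinAdjoin

/-- Principle of finite extension. Let k be a field and C a property of extension fields of k (in a
fixed universe) satisfying: (i) if K has C and there is a k-homomorphism K → K', then K' has C; (ii)
if K has C, some subextension K' of K finitely generated over k has C; (iii) if K has C and K is the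
field of fractions of an integral k-algebra of finite type A, then there is a nonzero f in A such
that every field quotient of A_f (as a k-algebra) has C. If some extension of k has C, then some
finite extension of k has C (and then, by (i), so does every algebraically closed extension). -/
theorem result {k : Type u} [Field k]
    (C : ∀ (K : Type u) [Field K] [Algebra k K], Prop)
    (h₁ : ∀ (K K' : Type u) [Field K] [Algebra k K] [Field K'] [Algebra k K'],
      Nonempty (K →ₐ[k] K') → C K → C K')
    (h₂ : ∀ (K : Type u) [Field K] [Algebra k K], C K →
      ∃ K' : IntermediateField k K, K'.FG ∧ C K')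
    (h₃ : ∀ (A K : Type u) [CommRing A] [IsDomain A] [Algebra k A] [Algebra.FiniteType k A]
      [Field K] [Algebra k K] [Algebra A K] [IsScalarTower k A K] [IsFractionRing A K], C K →
      ∃ f : A, f ≠ 0 ∧ ∀ (K' : Type u) [Field K'] [Algebra k K'] (φ : Localization.Away f →ₐ[k] K'),
        Function.Surjective φ → C K')
    (hC : ∃ (K : Type u) (_ : Field K) (_ : Algebra k K), C K) :
    ∃ (K' : Type u) (_ : Field K') (_ : Algebra k K'), Module.Finite k K' ∧ C K' := by
  obtain ⟨K, _, _, hK⟩ := hC
  obtain ⟨L, hL, hCL⟩ := h₂ K hK
  obtain ⟨t, ht⟩ := hL
  have : Algebra.FiniteType k (Algebra.adjoin k (t : Set K)) :=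
    ⟨(Subalgebra.fg_top _).mpr (Subalgebra.fg_adjoin_finset t)⟩
  subst ht
  let A := Algebra.adjoin k (t : Set K)
  obtain ⟨f, hf0, hf⟩ := h₃ A (IntermediateField.adjoin k (t : Set K)) hCL
  have : Nontrivial (Localization.Away f) :=
    (IsLocalization.injective (Localization.Away f)
      (powers_le_nonZeroDivisors_of_noZeroDivisors hf0)).nontrivial
  obtain ⟨m, hm⟩ := Ideal.exists_maximal (Localization.Away f)
  let _ : Field (Localization.Away f ⧸ m) := Ideal.Quotient.field m
  have : Algebra.FiniteType k (Localization.Away f) :=
    Algebra.FiniteType.trans (S := A) inferInstance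
      (IsLocalization.finiteType_of_monoid_fg (Submonoid.powers f) _)
  refine ⟨Localization.Away f ⧸ m, inferInstance, inferInstance,
    finite_of_finite_type_of_isJacobsonRing k _, hf _ (Ideal.Quotient.mkₐ k m) ?_⟩
  exact Ideal.Quotient.mkₐ_surjective k m

end Groth.Agent.S4836
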