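-- statement Lim8.GrothFrozen.S4837 (Groth/Statements/S4837.lean; the theorem Lim8.ker_eq_bot_iff_injective_of_isImmersion_into_relSpec);
import Groth.Statements.S4837
import Groth.Agent.H11Aff.RelSpecUniv
import Mathlib.AlgebraicGeometry.Morphisms.Immersion

set_option autoImplicit false
open CategoryTheory AlgebraicGeometry
universe u
open Lim8

namespace Groth.Agent.S4837
set_option backward.isDefEq.respectTransparency false

/-- Let f : X ⟶ Y be a quasi-compact quasi-separated morphism, C a quasi-coherent O_Y-algebra with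
relative spectrum Z = Spec(C) over Y, g : X ⟶ Z a Y-morphism which is an immersion, and φ : C ⟶
f_*O_X the homomorphism of O_Y-algebras corresponding to g (the canonical identification of C with
the direct image of O_Z followed by the map induced by g). Then the scheme-theoretic image of g is
the whole of Z, i.e. the kernel ideal of g vanishes, if and only if φ is injective; and when this
holds g is an open immersion. -/
theorem result {X Y : Scheme.{u}} (f : X ⟶ Y)
    [QuasiCompact f] [QuasiSeparated f] (C : RelSpec.QCAlg Y) (g : X ⟶ C.spec) (w : g ≫ C.π = f)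
    [IsImmersion g] (φ : C ⟶ RelSpec.QCAlg.directImage f)
    (hφ : C.gammaMap ≫ φ.hom = AffAlg.algHom C.π f g w) :
    (g.ker = ⊥ ↔ ∀ U : Y.Opens, Function.Injective (φ.hom.app (Opposite.op U)).hom) ∧
      (g.ker = ⊥ → IsOpenImmersion g) := by
  haveI : QuasiCompact (g ≫ C.π) := w ▸ inferInstance
  haveI : QuasiCompact g := QuasiCompact.of_comp g C.π
  have hker : g.ker = ⊥ ↔ ∀ U : Y.Opens, IsAffineOpen U →
      Function.Injective (φ.hom.app (Opposite.op U)).hom := by
    have key : ∀ (U : Y.Opens) (hU : IsAffineOpen U), g.ker.ideal ⟨C.π ⁻¹ᵁ U, hU.preimage C.π⟩ = ⊥ ↔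
        Function.Injective (φ.hom.app (Opposite.op U)).hom := by
      intro U hU
      obtain ⟨e, he⟩ := H11Aff.algHom_app_eq C.π f g w U
      rw [Scheme.Hom.ker_apply, ← RingHom.injective_iff_ker_eq_bot]
      have hinj : Function.Injective (g.app (C.π ⁻¹ᵁ U)).hom ↔
          Function.Injective ((AffAlg.algHom C.π f g w).app (Opposite.op U)).hom := by
        rw [he, CommRingCat.hom_comp, RingHom.coe_comp]
        exact ((ConcreteCategory.bijective_of_isIso (X.presheaf.map (eqToHom e.symm).op)).1.of_comp_iff _).symm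
      haveI : IsIso C.gammaMap := H11Aff.RelSpecUniv.gammaMap_isIso C
      rw [hinj, ← hφ, NatTrans.comp_app, CommRingCat.hom_comp, RingHom.coe_comp]
      exact Function.Injective.of_comp_iff'
        (φ.hom.app (Opposite.op U)).hom
        (g := (C.gammaMap.app (Opposite.op U)).hom)
        (ConcreteCategory.bijective_of_isIso (C.gammaMap.app (Opposite.op U)))
    refine ⟨fun h U hU => (key U hU).1 (by rw [h]; rfl), fun h => ?_⟩
    refine Scheme.IdealSheafData.ext_of_iSup_eq_top
      (fun U : Y.affineOpens => ⟨C.π ⁻¹ᵁ U.1, U.2.preimage C.π⟩) ?_ fun U => ?_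
    · rw [← Scheme.Hom.preimage_iSup, iSup_affineOpens_eq_top, Scheme.Hom.preimage_top]
    · rw [(key U.1 U.2).2 (h U.1 U.2)]; rfl
  refine ⟨⟨fun h U => ?_, fun h => hker.2 fun U _ => h U⟩, fun h => ?_⟩
  · rw [injective_iff_map_eq_zero]
    intro s hs
    obtain ⟨ι, V, hV, hsup⟩ : ∃ (ι : Type u) (V : ι → Y.Opens), (∀ i, IsAffineOpen (V i)) ∧ U = iSup V := by
      obtain ⟨s, hs, e⟩ := TopologicalSpace.Opens.isBasis_iff_cover.mp Y.isBasis_affineOpens U
      exact ⟨s, fun i => i.1, fun i => hs i.2, by rw [e, sSup_eq_iSup']⟩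
    refine TopCat.Sheaf.eq_of_locally_eq' (⟨C.presheaf, C.isSheaf⟩ : TopCat.Sheaf CommRingCat.{u} Y.carrier)
      V U (fun i => homOfLE (hsup ▸ le_iSup V i)) hsup.le s 0 fun i => ?_
    apply hker.1 h (V i) (hV i)
    rw [map_zero]
    have := congrArg (fun r => r.hom s) (φ.hom.naturality (homOfLE (hsup ▸ le_iSup V i : V i ≤ U)).op)
    simp only [CommRingCat.hom_comp, RingHom.coe_comp, Function.comp_apply] at this
    erw [hs] at this
    rw [map_zero] at this
    erw [map_zero]
    exact this
  · haveI : IsIso g.imageι := by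
      rw [IsClosedImmersion.isIso_iff_ker_eq_bot, Scheme.Hom.imageι, Scheme.IdealSheafData.ker_subschemeι, h]
    rw [← g.toImage_imageι]
    infer_instance

end Groth.Agent.S4837
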