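import Groth.Statements.S4838
import Groth.Agent.H06GeomInt.Loci
import Groth.Agent.H06EGA9.FibreMap

set_option autoImplicit false
open CategoryTheory AlgebraicGeometry
universe u
open Cons9

namespace Groth.Agent.S4838

/-- Let f : X ⟶ S be a morphism of finite presentation (locally of finite presentation, quasi-compact
and quasi-separated). Then the set of points s of S whose fibre X_s is geometrically pointwise
integral over κ(s), i.e. such that for every extension field K of κ(s) all local rings of X_s
⊗_{κ(s)} K are integral domains, is locally constructible in S. -/
theorem result {X S : Scheme.{u}} (f : X ⟶ S)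
    [LocallyOfFinitePresentation f] [QuasiCompact f] [QuasiSeparated f] :
    Topology.IsLocallyConstructible {s : S |
      ∀ x : ↥(f.fiber s), FBase.IsGeomPtIntegralAt (f.fiberToSpecResidueField s) x} := by
  convert! Groth.Agent.H06EGA9.isLocallyConstructible_setOf_fibre_subset f
    (Groth.Agent.H06GeomInt.isLocallyConstructible_locus f) using 1
  ext s
  simp only [Set.mem_setOf_eq]
  constructor
  · rintro h x (rfl : f x = s)
    exact h _
  · intro h z
    set x := f.fiberι s z with hx
    have hs : f x = s := (f.range_fiberι s).subset ⟨_, rfl⟩
    clear_value x
    subst hs
    obtain rfl : z = f.asFiber x := (f.fiberι (f x)).isEmbedding.injective (by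
      rw [Scheme.Hom.fiberι_asFiber]; exact hx.symm)
    exact h rfl

end Groth.Agent.S4838
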