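-- statement Lim8.GrothFrozen.S4840 (Groth/Statements/S4840.lean; the theorem Lim8.exact_pullback_iff_eventually_of_flat);
import Groth.Statements.S4840
import Groth.Agent.H7Lim.ModExact

set_option autoImplicit false
universe u
open CategoryTheory AlgebraicGeometry
open Lim8

namespace Groth.Agent.S4840
set_option backward.isDefEq.respectTransparency false

/-- Let S = lim S_i be a cofiltered limit of schemes whose transition maps are affine and flat, and
S_{i₀} a quasi-compact stage; let f₀ : F₀ ⟶ G₀ and g₀ : G₀ ⟶ H₀ be homomorphisms of quasi-coherent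
O-modules on S_{i₀} such that the image of f₀ and the kernel of g₀ are O-modules of finite type.
Then the pulled-back sequence F ⟶ G ⟶ H on S is exact (the composite is zero and the sequence is
exact at G) if and only if, for some index j over i₀, the pulled-back sequence F_j ⟶ G_j ⟶ H_j on
S_j is exact. -/
theorem result {I : Type u} [SmallCategory I] [IsCofiltered I]
    (D : I ⥤ Scheme.{u}) (c : Limits.Cone D) (hc : Limits.IsLimit c)
    [∀ (i j : I) (f : i ⟶ j), IsAffineHom (D.map f)] (i₀ : I) [CompactSpace (D.obj i₀)]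
    [∀ (i j : I) (f : i ⟶ j), Flat (D.map f)]
    {F₀ G₀ H₀ : (D.obj i₀).Modules} [Coh.IsQCoh F₀] [Coh.IsQCoh G₀] [Coh.IsQCoh H₀]
    (f₀ : F₀ ⟶ G₀) (g₀ : G₀ ⟶ H₀)
    (hIm : CohB1.IsFT (Limits.image f₀)) (hKer : CohB1.IsFT (Limits.kernel g₀)) :
    (∃ w : (Scheme.Modules.pullback (c.π.app i₀)).map f₀ ≫ (Scheme.Modules.pullback (c.π.app i₀)).map g₀ = 0, (ShortComplex.mk _ _ w).Exact) ↔
      ∃ (j : I) (φ : j ⟶ i₀) (w : (Scheme.Modules.pullback (D.map φ)).map f₀ ≫ (Scheme.Modules.pullback (D.map φ)).map g₀ = 0),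
        (ShortComplex.mk _ _ w).Exact := by
  exact H7Lim.ModExact.exact_iff hc ‹_› ‹_› ‹_› f₀ g₀ hIm hKer

end Groth.Agent.S4840
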