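import Groth.Statements.S4847
import Groth.Agent.H06EGA9.ModuleCriterion
import Groth.Agent.H06Mod.StalkFinite

set_option autoImplicit false
universe u
open EGA43

namespace Groth.Agent.S4847

open Groth.Agent.H06EGA9

open AlgebraicGeometry CategoryTheory Limits in
/-- Case 1° (fibrewise flatness criterion for locally Noetherian schemes): let S, X and Y be locally
Noetherian schemes, f : X ⟶ Y and h : Y ⟶ S arbitrary morphisms, F a coherent O_X-module and x a
point of X with images y in Y and s in S, such that the stalk F_x is nonzero. Then F is flat over S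
at x and F_x / m_s F_x is flat over O_{Y,y} / m_s O_{Y,y} (that is, the fibre module F_s is flat
over the fibre Y_s at x) if and only if h is flat at y and F is flat over Y at x. No finiteness
hypothesis on f or h is required in this case. -/
theorem result {X Y S : Scheme.{u}}
    [IsLocallyNoetherian X] [IsLocallyNoetherian Y] [IsLocallyNoetherian S]
    (f : X ⟶ Y) (h : Y ⟶ S) (F : X.Modules) (hF : Coh.IsCoh F) (x : X)
    (hx : Nontrivial ↑(F.presheaf.stalk x)) :
    letI := FlatMod.moduleStalkOver f F x
    (FlatMod.IsFlatOverAt (f ≫ h) F x ∧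
      Module.Flat (↑(Y.presheaf.stalk (f x)) ⧸ Ideal.map (h.stalkMap (f x)).hom (IsLocalRing.maximalIdeal ↑(S.presheaf.stalk (h (f x)))))
        (↑(F.presheaf.stalk x) ⧸ (Ideal.map (h.stalkMap (f x)).hom (IsLocalRing.maximalIdeal ↑(S.presheaf.stalk (h (f x)))) •
          (⊤ : Submodule ↑(Y.presheaf.stalk (f x)) ↑(F.presheaf.stalk x))))) ↔
    ((h.stalkMap (f x)).hom.Flat ∧ FlatMod.IsFlatOverAt f F x) := by
  have hfin := Groth.Agent.H06Mod.finite_stalk F hF.2 x
  constructor
  · rintro ⟨hS, hfib⟩
    have hf := isFlatOverAt_of_fibFlatAt f h F x hfin hS hfib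
    exact ⟨flat_stalkMap_of_nontrivial f h F x hfin hx hS hf, hf⟩
  · rintro ⟨hh, hf⟩
    exact ⟨isFlatOverAt_comp_of_flat_stalkMap f h F x hh hf, fibFlatAt_of_isFlatOverAt f h F x hf⟩

end Groth.Agent.S4847
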