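import Groth.Statements.S4848
import Groth.Agent.H06EGA11.Colimit

set_option autoImplicit false
universe u
open TensorProduct
open EGA43

namespace Groth.Agent.S4848

/-- Let A₀ be a commutative ring, (A_i) a directed system of A₀-algebras with colimit A, B₀ a finitely
presented A₀-algebra and M₀ a finitely presented B₀-module. Then the A-module A ⊗_{A₀} M₀ is flat if
and only if, for some index i, the A_i-module A_i ⊗_{A₀} M₀ is flat. -/
theorem result {A₀ : Type u} [CommRing A₀]
    {ι : Type u} [Preorder ι] (G : ι → Type u) [∀ i, CommRing (G i)] [∀ i, Algebra A₀ (G i)]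
    (g : ∀ i j, i ≤ j → G i →ₐ[A₀] G j)
    (A : Type u) [CommRing A] [Algebra A₀ A] [∀ i, Algebra (G i) A] [∀ i, IsScalarTower A₀ (G i) A]
    (hcolim : FlatCA.IsDirectedColimitRing G (fun i j h => (g i j h).toRingHom) A)
    {B₀ : Type u} [CommRing B₀] [Algebra A₀ B₀] [Algebra.FinitePresentation A₀ B₀]
    (M₀ : Type u) [AddCommGroup M₀] [Module B₀ M₀] [Module A₀ M₀] [IsScalarTower A₀ B₀ M₀]
    [Module.FinitePresentation B₀ M₀] :
    Module.Flat A (A ⊗[A₀] M₀) ↔ ∃ i : ι, Module.Flat (G i) (G i ⊗[A₀] M₀) := by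
  obtain ⟨hdir, hne, hid, hcomp, hc, hsurj, hker⟩ := hcolim
  haveI := hdir
  haveI := hne
  refine ⟨fun h => ?_, fun ⟨i, hi⟩ => ?_⟩
  · exact Groth.Agent.H06EGA11.exists_index_flat (B₀ := B₀) M₀ G g
      (fun i => IsScalarTower.toAlgHom A₀ (G i) A)
      (fun i j hij => AlgHom.ext fun x => RingHom.congr_fun (hc i j hij) x) hsurj hker
  · exact Module.Flat.of_linearEquiv
      (AlgebraTensorModule.cancelBaseChange A₀ (G i) A A M₀).symm

end Groth.Agent.S4848
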