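import Groth.Statements.S4849
import Groth.Agent.H06EGA11c.StageFlat
import Groth.Agent.H12AlgSp.LocPCancel

set_option autoImplicit false
universe u
open CategoryTheory AlgebraicGeometry
open EGA43

namespace Groth.Agent.S4849

/-- Let S be the limit of a cofiltered system (S_i) of schemes with affine transition morphisms, S_{i₀}
a quasi-compact stage, f₀ : X₀ ⟶ Y₀ an S_{i₀}-morphism between schemes of finite presentation over
S_{i₀}, and F₀ a quasi-coherent O_{X₀}-module of finite presentation. Let f : X ⟶ Y and F be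
obtained by base change to S. Then F is f-flat if and only if there are an index i over i₀ and base
changes f_i : X_i ⟶ Y_i, F_i of f₀, F₀ to S_i with F_i f_i-flat. (Base changes are expressed by
pullback squares; the stage S_{i₀} is only assumed quasi-compact.) -/
theorem result {I : Type u} [SmallCategory I] [IsCofiltered I]
    (D : I ⥤ Scheme.{u}) (c : Limits.Cone D) (hc : Limits.IsLimit c)
    [∀ (i j : I) (φ : i ⟶ j), IsAffineHom (D.map φ)] (i₀ : I) [CompactSpace (D.obj i₀)]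
    {X₀ Y₀ : Scheme.{u}} (f₀ : X₀ ⟶ Y₀) (g₀ : Y₀ ⟶ D.obj i₀)
    [LocallyOfFinitePresentation g₀] [QuasiCompact g₀] [QuasiSeparated g₀]
    [LocallyOfFinitePresentation (f₀ ≫ g₀)] [QuasiCompact (f₀ ≫ g₀)] [QuasiSeparated (f₀ ≫ g₀)]
    (F₀ : X₀.Modules) [Coh.IsQCoh F₀] (hF₀ : CohB1.IsFP F₀)
    {X Y : Scheme.{u}} (f : X ⟶ Y) (g : Y ⟶ c.pt) (qY : Y ⟶ Y₀) (qX : X ⟶ X₀)
    (hY : IsPullback qY g g₀ (c.π.app i₀)) (hX : IsPullback qX f f₀ qY) :
    FlatMod.IsFlatOver f ((Scheme.Modules.pullback qX).obj F₀) ↔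
      ∃ (i : I) (φ : i ⟶ i₀) (Xi Yi : Scheme.{u}) (fi : Xi ⟶ Yi) (gi : Yi ⟶ D.obj i)
        (pY : Yi ⟶ Y₀) (pX : Xi ⟶ X₀),
        IsPullback pY gi g₀ (D.map φ) ∧ IsPullback pX fi f₀ pY ∧
          FlatMod.IsFlatOver fi ((Scheme.Modules.pullback pX).obj F₀) := by
  haveI : LocallyOfFinitePresentation f₀ := H12AlgSp.lfp_of_comp f₀ g₀
  haveI : QuasiCompact f₀ := QuasiCompact.of_comp f₀ g₀
  haveI : CompactSpace Y₀ := QuasiCompact.compactSpace_of_compactSpace g₀
  constructor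
  · intro h
    obtain ⟨j, hj⟩ := H06EGA11c.exists_stage_isFlatOver c hc f₀ g₀ F₀ ‹_› hF₀ hY hX h
    exact ⟨j.left, j.hom, _, _, _, _, _, _, IsPullback.of_hasPullback _ _, IsPullback.of_hasPullback _ _, hj⟩
  · rintro ⟨i, φ, Xi, Yi, fi, gi, pY, pX, hYi, hXi, h⟩ x
    let vY : Y ⟶ Yi := hYi.lift qY (g ≫ c.π.app i) (by rw [Category.assoc, c.w, hY.w])
    let vX : X ⟶ Xi := hXi.lift qX (f ≫ vY) (by rw [Category.assoc, hYi.lift_fst, hX.w])
    have hsq : IsPullback vX f fi vY :=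
      IsPullback.of_right (by rw [hXi.lift_fst, hYi.lift_fst]; exact hX) (hXi.lift_snd _ _ _) hXi
    exact (H06EGA9.isFlatOverAt_congr_iso f ((Scheme.Modules.pullbackComp vX pX).app F₀ ≪≫
      (Scheme.Modules.pullbackCongr (hXi.lift_fst _ _ _)).app F₀) x).1
      (H06EGA9.isFlatOverAt_of_isPullback hsq _ x (h _))

end Groth.Agent.S4849
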