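import Groth.Statements.S4850
import Groth.Agent.S2107
import Groth.Agent.H7Flat.RelFlatLocus
import Groth.Agent.H06Mod.StalkExact
import Groth.Agent.H06Mod.StalkFinite
import Groth.Agent.H27Misc.FlatCokernel

set_option autoImplicit false
universe u
open EGA43

namespace Groth.Agent.S4850

set_option backward.isDefEq.respectTransparency false

open AlgebraicGeometry CategoryTheory Limits in
/-- Equivalence of a: and b)): let f : X ⟶ Y be locally of finite presentation, F and F' quasi-coherent
O_X-modules of finite presentation, u : F' ⟶ F a homomorphism and x a point with y = f x, such that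
F is f-flat at x. Then the stalk map u_x is injective and Coker u is f-flat at x, if and only if u_x
induces an injective map F'_x / m_y F'_x → F_x / m_y F_x. The second condition is written out: an
element of F'_x whose image under u_x lies in m_y F_x already lies in m_y F'_x. (The vanishing of
the stalk (Ker u)_x is expressed as injectivity of u_x.) -/
theorem result {X Y : Scheme.{u}} (f : X ⟶ Y)
    [LocallyOfFinitePresentation f] (F F' : X.Modules) [Coh.IsQCoh F] [Coh.IsQCoh F']
    (hF : CohB1.IsFP F) (hF' : CohB1.IsFP F') (u : F' ⟶ F) (x : X) (hflat : FlatMod.IsFlatOverAt f F x) :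
    letI J : Ideal ↑(X.presheaf.stalk x) :=
      Ideal.map (f.stalkMap x).hom (IsLocalRing.maximalIdeal ↑(Y.presheaf.stalk (f x)))
    letI ux := (TopCat.Presheaf.stalkFunctor Ab x).map (Scheme.Modules.Hom.mapPresheaf u)
    (Function.Injective ux ∧ FlatMod.IsFlatOverAt f (cokernel u) x) ↔
      ∀ m : ↑(F'.presheaf.stalk x),
        ux m ∈ (J • (⊤ : Submodule ↑(X.presheaf.stalk x) ↑(F.presheaf.stalk x))) →
          m ∈ (J • (⊤ : Submodule ↑(X.presheaf.stalk x) ↑(F'.presheaf.stalk x))) := by
  let R := Y.presheaf.stalk (f x)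
  let S := X.presheaf.stalk x
  letI : Algebra R S := (f.stalkMap x).hom.toAlgebra
  haveI : IsLocalHom (algebraMap R S) := inferInstanceAs (IsLocalHom (f.stalkMap x).hom)
  letI := FlatMod.moduleStalkOver f F x
  letI := FlatMod.moduleStalkOver f F' x
  letI := FlatMod.moduleStalkOver f (cokernel u) x
  haveI : IsScalarTower R S (F.presheaf.stalk x) := .of_algebraMap_smul fun _ _ => rfl
  haveI : IsScalarTower R S (F'.presheaf.stalk x) := .of_algebraMap_smul fun _ _ => rfl
  haveI : IsScalarTower R S ((cokernel u).presheaf.stalk x) := .of_algebraMap_smul fun _ _ => rfl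
  haveI : Module.FinitePresentation S (F.presheaf.stalk x) := H8Props.FreeLocus.finitePresentation_stalk F hF x
  haveI : Module.FinitePresentation S (F'.presheaf.stalk x) := H8Props.FreeLocus.finitePresentation_stalk F' hF' x
  haveI : Module.Flat R (F.presheaf.stalk x) := hflat
  let v := H06Mod.stalkLin u x
  let π := H06Mod.stalkLin (cokernel.π u) x
  have hπ : Function.Surjective π := H06Mod.surjective_stalk_of_epi (cokernel.π u) x
  have hrange : LinearMap.range v = LinearMap.ker π := by
    let T : ShortComplex X.Modules :=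
      ShortComplex.mk (kernel.ι (cokernel.π u)) (cokernel.π u) (kernel.condition _)
    haveI : Mono T.f := inferInstanceAs (Mono (kernel.ι (cokernel.π u)))
    haveI : Epi T.g := inferInstanceAs (Epi (cokernel.π u))
    have hT : T.ShortExact :=
      { exact := ShortComplex.exact_of_f_is_kernel _ (kernelIsKernel (cokernel.π u)) }
    let e := kernel.lift (cokernel.π u) u (cokernel.condition u)
    haveI : Epi e := inferInstanceAs (Epi (Abelian.factorThruImage u))
    have hcomp : ∀ a, v a = H06Mod.stalkLin T.f x (H06Mod.stalkLin e x a) := fun a => by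
      have h1 : u = e ≫ T.f := (kernel.lift_ι _ _ _).symm
      show (TopCat.Presheaf.stalkFunctor Ab.{u} x).map u.mapPresheaf a = _
      conv_lhs => rw [h1]
      obtain ⟨U, hU, a, rfl⟩ := F'.presheaf.exists_germ_eq a
      rw [TopCat.Presheaf.stalkFunctor_map_germ_apply, H06Mod.stalkLin_germ, H06Mod.stalkLin_germ]
      rfl
    refine le_antisymm ?_ fun b hb => ?_
    · rintro _ ⟨a, rfl⟩
      rw [LinearMap.mem_ker, hcomp]
      exact (H06Mod.stalk_exact T hT x).apply_apply_eq_zero _
    · obtain ⟨a, ha⟩ := (H06Mod.stalk_exact T hT x b).1 hb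
      obtain ⟨a', rfl⟩ := H06Mod.surjective_stalk_of_epi e x a
      exact ⟨a', (hcomp a').trans ha⟩
  let eC : (F.presheaf.stalk x ⧸ LinearMap.range v) ≃ₗ[S] (cokernel u).presheaf.stalk x :=
    (Submodule.quotEquivOfEq _ _ hrange).trans (π.quotKerEquivOfSurjective hπ)
  constructor
  · rintro ⟨hinj, hcok⟩ m hm
    haveI : Module.Flat R ((cokernel u).presheaf.stalk x) := hcok
    have hex : Function.Exact (v.restrictScalars R) (π.restrictScalars R) := fun b =>
      ⟨fun hb => (hrange.ge hb), fun hb => hrange.le hb⟩
    have h1 := H27Misc.lTensor_injective_of_flat_cokernel (R ⧸ IsLocalRing.maximalIdeal R)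
      (g₁ := v.restrictScalars R) (g₂ := π.restrictScalars R) hinj hex hπ
    have key : ∀ {M : Type u} [AddCommGroup M] [Module S M] [Module R M] [IsScalarTower R S M] (a : M),
        a ∈ (IsLocalRing.maximalIdeal R).map (algebraMap R S) • (⊤ : Submodule S M) ↔
          (1 : R ⧸ IsLocalRing.maximalIdeal R) ⊗ₜ[R] a = 0 := fun {M} _ _ _ _ a => by
      rw [← Submodule.restrictScalars_mem R, Ideal.smul_restrictScalars, Submodule.restrictScalars_top,
        ← (TensorProduct.quotTensorEquivQuotSMul M (IsLocalRing.maximalIdeal R)).map_eq_zero_iff]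
      rw [show (1 : R ⧸ IsLocalRing.maximalIdeal R) = Ideal.Quotient.mk _ 1 from rfl,
        TensorProduct.quotTensorEquivQuotSMul_mk_tmul, one_smul, Submodule.Quotient.mk_eq_zero]
    refine (key m).2 (h1 ?_)
    rw [map_zero, LinearMap.lTensor_tmul]
    exact (key (v m)).1 hm
  · intro h
    obtain ⟨hinj, hflat'⟩ := S2107.result (R := R) (S := S) (H7Flat.RelFlatLocus.isEssFP_stalkMap f x) v h
    exact ⟨hinj, Module.Flat.of_linearEquiv (eC.restrictScalars R).symm⟩

end Groth.Agent.S4850
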