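import Groth.Statements.S4852
import Groth.Agent.H06Flat.NilpotentCover
import Mathlib.RingTheory.Idempotents
import Mathlib.RingTheory.Ideal.Quotient.Operations
import Mathlib.RingTheory.Jacobson.Radical
import Mathlib.RingTheory.Spectrum.Maximal.Basic

set_option autoImplicit false
universe u
open TensorProduct
open EGA43

namespace Groth.Agent.S4852

/-- Let A be a semi-local ring (finitely many maximal ideals) whose Jacobson radical is nilpotent, for
instance an Artinian ring, and let (u_i : A → B_i) be a family of ring homomorphisms whose kernels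
have zero intersection. Then an A-module M is flat if and only if, for every i, the B_i-module B_i
⊗_A M is flat. -/
theorem result {A : Type u} [CommRing A]
    [Finite (MaximalSpectrum A)] (hnil : IsNilpotent (Ring.jacobson A))
    {ι : Type u} (B : ι → Type u) [∀ i, CommRing (B i)] [∀ i, Algebra A (B i)]
    (hB : ∀ a : A, (∀ i, algebraMap A (B i) a = 0) → a = 0)
    (M : Type u) [AddCommGroup M] [Module A M] :
    Module.Flat A M ↔ ∀ i, Module.Flat (B i) (B i ⊗[A] M) := by
  classical
  refine ⟨fun h i => inferInstance, fun hflat => ?_⟩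
  let S := MaximalSpectrum A
  haveI := Fintype.ofFinite S
  have hcop : Pairwise (fun a b : S => IsCoprime a.asIdeal b.asIdeal) := fun a b hab =>
    Ideal.isCoprime_iff_sup_eq.mpr (a.isMaximal.coprime_of_ne b.isMaximal
      fun h => hab (MaximalSpectrum.ext h))
  let J : Ideal A := ⨅ m : S, m.asIdeal
  have hJ : IsNilpotent J := by
    have hJeq : J = Ring.jacobson A := by
      rw [Ring.jacobson_eq_sInf_isMaximal]
      refine le_antisymm (le_sInf fun m hm => iInf_le (fun m : S => m.asIdeal) ⟨m, hm⟩)
        (le_iInf fun m => sInf_le m.isMaximal)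
    rw [hJeq]; exact hnil
  let φ : A →+* (∀ m : S, A ⧸ m.asIdeal) := Pi.ringHom fun m => Ideal.Quotient.mk m.asIdeal
  have hkerφ : RingHom.ker φ = J := by
    ext a
    simp only [φ, J, RingHom.mem_ker, Ideal.mem_iInf]
    rw [funext_iff]
    exact forall_congr' fun m => Ideal.Quotient.eq_zero_iff_mem
  have hsurjφ : Function.Surjective φ := by
    intro y
    obtain ⟨z, hz⟩ := (Ideal.quotientInfRingEquivPiQuotient _ hcop).surjective y
    obtain ⟨a, rfl⟩ := Ideal.Quotient.mk_surjective z
    exact ⟨a, hz⟩
  obtain ⟨e, he, hφe⟩ := (CompleteOrthogonalIdempotents.single (fun m : S => A ⧸ m.asIdeal)).lift_of_isNilpotent_ker φ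
    (fun x hx => by
      obtain ⟨n, hn⟩ := hJ
      exact ⟨n, Ideal.mem_bot.mp (by
        rw [← Submodule.zero_eq_bot, ← hn]; exact Ideal.pow_mem_pow (hkerφ ▸ hx) n)⟩)
    (fun m => ⟨hsurjφ _ |>.choose, hsurjφ _ |>.choose_spec⟩)
  have hemk : ∀ m m' : S, Ideal.Quotient.mk m'.asIdeal (e m) = if m = m' then 1 else 0 := by
    intro m m'
    have := congrFun (congrFun hφe m) m'
    simp only [Function.comp_apply] at this
    rw [show Ideal.Quotient.mk m'.asIdeal (e m) = φ (e m) m' from rfl, this]
    by_cases h : m = m'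
    · subst h; simp
    · rw [if_neg h, Pi.single_eq_of_ne (Ne.symm h)]
  have heJ : ∀ (m : S) (a : A), a ∈ m.asIdeal → a * e m ∈ J := by
    intro m a ha
    refine Ideal.mem_iInf.mpr fun m' => ?_
    by_cases h : m = m'
    · subst h; exact Ideal.mul_mem_right _ _ ha
    · exact Ideal.mul_mem_left _ _ (Ideal.Quotient.eq_zero_iff_mem.mp (by rw [hemk, if_neg h]))
  letI : ∀ m : S, Field (A ⧸ m.asIdeal) := fun m =>
    haveI := m.isMaximal
    Ideal.Quotient.field m.asIdeal
  let b := fun m : S => Module.Free.chooseBasis (A ⧸ m.asIdeal) ((A ⧸ m.asIdeal) ⊗[A] M)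
  let κ := Σ m : S, Module.Free.ChooseBasisIndex (A ⧸ m.asIdeal) ((A ⧸ m.asIdeal) ⊗[A] M)
  have hmk : ∀ m : S, Function.Surjective (fun y : M => (1 : A ⧸ m.asIdeal) ⊗ₜ[A] y) := fun m =>
    TensorProduct.mk_surjective A M (A ⧸ m.asIdeal) Ideal.Quotient.mk_surjective
  choose x hx using fun s : κ => hmk s.1 (b s.1 s.2)
  let p : (κ →₀ A) →ₗ[A] (κ →₀ A) :=
    Finsupp.linearCombination A fun s : κ => Finsupp.single s (e s.1)
  have hp : ∀ c s, p c s = c s * e s.1 := by
    intro c s
    induction c using Finsupp.induction_linear with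
    | zero => simp
    | add u v hu hv => rw [map_add, Finsupp.add_apply, hu, hv, Finsupp.add_apply, add_mul]
    | single t a =>
      simp only [p, Finsupp.linearCombination_single, Finsupp.smul_apply, smul_eq_mul]
      by_cases h : t = s
      · subst h; simp
      · simp [Finsupp.single_eq_of_ne (Ne.symm h)]
  have hpp : ∀ c, p (p c) = p c := fun c => by
    ext s; rw [hp, hp, mul_assoc, (he.idem s.1).eq]
  let pr := p.rangeRestrict
  have hproj : Module.Projective A (LinearMap.range p) :=
    Module.Projective.of_split (LinearMap.range p).subtype pr (LinearMap.ext fun y => Subtype.ext (by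
      obtain ⟨c, hc⟩ := y.2
      show p y.1 = y.1
      rw [← hc, hpp]))
  let π₀ : (κ →₀ A) →ₗ[A] M := Finsupp.linearCombination A x
  have key : ∀ (c : κ →₀ A) (m : S), (1 : A ⧸ m.asIdeal) ⊗ₜ[A] π₀ (p c) =
      (b m).repr.symm ((c.comapDomain (Sigma.mk m) sigma_mk_injective.injOn).mapRange
        (Ideal.Quotient.mk m.asIdeal) (map_zero _)) := by
    intro c m
    induction c using Finsupp.induction_linear with
    | zero => simp
    | add u v hu hv =>
      rw [map_add, map_add, tmul_add, hu, hv, Finsupp.comapDomain_add_of_injective sigma_mk_injective,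
        Finsupp.mapRange_add (map_add _), map_add]
    | single t a =>
      have hpt : p (Finsupp.single t a) = Finsupp.single t (a * e t.1) := by simp [p]
      rw [hpt, show π₀ (Finsupp.single t (a * e t.1)) = (a * e t.1) • x t from
        Finsupp.linearCombination_single _ _ _, tmul_smul, ← algebraMap_smul (A ⧸ m.asIdeal) (a * e t.1),
        Ideal.Quotient.algebraMap_eq, map_mul, hemk]
      obtain ⟨m', j⟩ := t
      by_cases h : m' = m
      · subst h
        rw [if_pos rfl, mul_one, Finsupp.comapDomain_single, Finsupp.mapRange_single,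
          Module.Basis.repr_symm_single]
        exact congrArg _ (hx ⟨m', j⟩)
      · rw [if_neg h, mul_zero, zero_smul]
        have h0 : (Finsupp.single (⟨m', j⟩ : κ) a).comapDomain (Sigma.mk m)
            sigma_mk_injective.injOn = 0 := by
          ext k
          rw [Finsupp.comapDomain_apply, Finsupp.single_eq_of_ne, Finsupp.zero_apply]
          intro hh; exact h (congrArg Sigma.fst hh).symm
        rw [h0, Finsupp.mapRange_zero, map_zero]
  let π : LinearMap.range p →ₗ[A] M := π₀ ∘ₗ (LinearMap.range p).subtype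
  have hπ : Function.Surjective π := by
    have hle : (⊤ : Submodule A M) ≤ LinearMap.range π ⊔ J • ⊤ := by
      intro y _
      rw [← one_smul A y, ← he.complete, Finset.sum_smul]
      refine Submodule.sum_mem _ fun m _ => ?_
      obtain ⟨d, hd⟩ := Finsupp.mapRange_surjective (Ideal.Quotient.mk m.asIdeal) (map_zero _)
        Ideal.Quotient.mk_surjective ((b m).repr ((1 : A ⧸ m.asIdeal) ⊗ₜ[A] y))
      let c := d.mapDomain (Sigma.mk m : _ → κ)
      have h1 : (1 : A ⧸ m.asIdeal) ⊗ₜ[A] π₀ (p c) = 1 ⊗ₜ y := by
        rw [key, Finsupp.comapDomain_mapDomain _ sigma_mk_injective, hd, LinearEquiv.symm_apply_apply]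
      have hmem : y - π₀ (p c) ∈ m.asIdeal • (⊤ : Submodule A M) := by
        have h2 := congrArg (TensorProduct.quotTensorEquivQuotSMul M m.asIdeal) h1
        rw [show (1 : A ⧸ m.asIdeal) = Ideal.Quotient.mk _ 1 from rfl,
          TensorProduct.quotTensorEquivQuotSMul_mk_tmul, TensorProduct.quotTensorEquivQuotSMul_mk_tmul,
          one_smul, one_smul] at h2
        exact (Submodule.Quotient.eq _).mp h2.symm
      rw [show e m • y = e m • π₀ (p c) + e m • (y - π₀ (p c)) by rw [smul_sub]; abel]
      refine Submodule.add_mem_sup (Submodule.smul_mem _ _ ⟨⟨p c, c, rfl⟩, rfl⟩) ?_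
      generalize y - π₀ (p c) = z at hmem
      induction hmem using Submodule.smul_induction_on' with
      | smul r hr z _ =>
        rw [← mul_smul, mul_comm]
        exact Submodule.smul_mem_smul (heJ m r hr) Submodule.mem_top
      | add u _ v _ hu hv => rw [smul_add]; exact add_mem hu hv
    refine H3CAlg.surjective_of_lTensor_quot J hJ (P := ↥(LinearMap.range p)) π fun z => ?_
    obtain ⟨y, rfl⟩ := TensorProduct.mk_surjective A M (A ⧸ J) Ideal.Quotient.mk_surjective z
    obtain ⟨_, ⟨q, rfl⟩, w, hw, rfl⟩ := Submodule.mem_sup.mp (hle (Submodule.mem_top (x := y)))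
    refine ⟨1 ⊗ₜ q, ?_⟩
    rw [LinearMap.lTensor_tmul, TensorProduct.mk_apply, tmul_add, left_eq_add]
    apply (TensorProduct.quotTensorEquivQuotSMul M J).injective
    rw [map_zero, show (1 : A ⧸ J) = Ideal.Quotient.mk _ 1 from rfl,
      TensorProduct.quotTensorEquivQuotSMul_mk_tmul, one_smul]
    exact (Submodule.Quotient.mk_eq_zero _).mpr hw
  have hker : LinearMap.ker π ≤ J • ⊤ := by
    rintro ⟨y, c, rfl⟩ hy
    have hc0 : ∀ s : κ, c s * e s.1 ∈ J := by
      rintro ⟨m, j⟩
      refine heJ m _ (Ideal.Quotient.eq_zero_iff_mem.mp ?_)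
      have h0 := key c m
      rw [show π₀ (p c) = 0 from hy, tmul_zero, eq_comm, LinearEquiv.map_eq_zero_iff] at h0
      simpa using DFunLike.congr_fun h0 j
    have : p c ∈ J • (⊤ : Submodule A (κ →₀ A)) := by
      rw [← Finsupp.sum_single (p c)]
      refine Submodule.sum_mem _ fun s _ => ?_
      show Finsupp.single s (p c s) ∈ _
      rw [hp, ← Finsupp.smul_single_one]
      exact Submodule.smul_mem_smul (hc0 s) Submodule.mem_top
    have h2 := Submodule.mem_map_of_mem (f := pr) this
    rw [Submodule.map_smul''] at h2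
    have h3 : pr (p c) = ⟨p c, c, rfl⟩ := Subtype.ext (hpp c)
    rw [h3] at h2
    exact (Submodule.smul_mono le_rfl le_top : _ ≤ J • (⊤ : Submodule A (LinearMap.range p))) h2
  have hbij := H06Flat.injective_of_family (F := ↥(LinearMap.range p)) hJ π hπ hker B hB hflat
  exact Module.Flat.of_linearEquiv (LinearEquiv.ofBijective π hbij).symm

end Groth.Agent.S4852
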