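import Groth.Statements.S4853
import Groth.Agent.H06Flat.NilpotentCover

set_option autoImplicit false
universe u
open TensorProduct
open EGA43

namespace Groth.Agent.S4853

/-- Let A be a commutative ring and M an A-module such that (A/J) ⊗_A M is free over A/J for some
nilpotent ideal J of A. Then among the ideals R of A such that (A/R) ⊗_A M is free over A/R there is
a least one, R₀, which is also the least ideal R such that (A/R) ⊗_A M is flat over A/R; and for
every commutative A-algebra A', the module A' ⊗_A M is free over A' if and only if it is flat over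
A', if and only if R₀ generates the zero ideal of A'. -/
theorem result {A : Type u} [CommRing A]
    (M : Type u) [AddCommGroup M] [Module A M]
    (J : Ideal A) (hJ : IsNilpotent J) (hfree : Module.Free (A ⧸ J) ((A ⧸ J) ⊗[A] M)) :
    ∃ R₀ : Ideal A,
      IsLeast {R : Ideal A | Module.Free (A ⧸ R) ((A ⧸ R) ⊗[A] M)} R₀ ∧
      IsLeast {R : Ideal A | Module.Flat (A ⧸ R) ((A ⧸ R) ⊗[A] M)} R₀ ∧
      ∀ (A' : Type u) [CommRing A'] [Algebra A A'],
        (Module.Free A' (A' ⊗[A] M) ↔ Ideal.map (algebraMap A A') R₀ = ⊥) ∧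
        (Module.Flat A' (A' ⊗[A] M) ↔ Ideal.map (algebraMap A A') R₀ = ⊥) := by
  classical
  haveI := hfree
  obtain ⟨κ, π, hπ, hker⟩ := H06Flat.exists_free_cover (J := J) (M := M) hJ
  let R₀ : Ideal A := Ideal.span {a | ∃ c, π c = 0 ∧ ∃ i, c i = a}
  have key : ∀ (A' : Type u) [CommRing A'] [Algebra A A'],
      (Module.Flat A' (A' ⊗[A] M) → Ideal.map (algebraMap A A') R₀ = ⊥) ∧
      (Ideal.map (algebraMap A A') R₀ = ⊥ → Module.Free A' (A' ⊗[A] M)) := by
    intro A' _ _
    refine ⟨fun hf => ?_, fun h0 => ?_⟩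
    · rw [Ideal.map_span, Ideal.span_eq_bot]
      rintro _ ⟨a, ⟨c, hc, i, rfl⟩, rfl⟩
      exact H06Flat.finsupp_apply_map_eq_zero A' (H06Flat.one_tmul_eq_zero hJ π hπ hker A' hc) i
    · have hs : Function.Surjective (π.baseChange A') := by
        rw [LinearMap.baseChange_eq_ltensor]; exact LinearMap.lTensor_surjective A' hπ
      refine Module.Free.of_equiv (LinearEquiv.ofBijective (π.baseChange A') ⟨?_, hs⟩)
      refine H06Flat.baseChange_injective_of_forall π hπ A' fun x hx a => ?_
      rw [← Finsupp.sum_single x, Finsupp.sum, tmul_sum]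
      refine Finset.sum_eq_zero fun i _ => ?_
      have hi : algebraMap A A' (x i) = 0 := by
        rw [← Ideal.mem_bot, ← h0]
        exact Ideal.mem_map_of_mem _ (Ideal.subset_span ⟨x, hx, i, rfl⟩)
      rw [← Finsupp.smul_single_one i (x i), tmul_smul, ← algebraMap_smul A', hi, zero_smul]
  have hle : ∀ R : Ideal A, Ideal.map (algebraMap A (A ⧸ R)) R₀ = ⊥ ↔ R₀ ≤ R := fun R => by
    rw [Ideal.map_eq_bot_iff_le_ker, Ideal.Quotient.algebraMap_eq, Ideal.mk_ker]
  have hflat : ∀ (A' : Type u) [CommRing A'] [Algebra A A'],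
      Module.Free A' (A' ⊗[A] M) → Module.Flat A' (A' ⊗[A] M) := fun A' _ _ _ => inferInstance
  refine ⟨R₀, ⟨(key _).2 ((hle R₀).mpr le_rfl), fun R hR => (hle R).mp ((key _).1 (hflat _ hR))⟩,
    ⟨hflat _ ((key _).2 ((hle R₀).mpr le_rfl)), fun R hR => (hle R).mp ((key _).1 hR)⟩, fun A' _ _ => ?_⟩
  exact ⟨⟨fun h => (key A').1 (hflat A' h), (key A').2⟩,
    ⟨(key A').1, fun h => hflat A' ((key A').2 h)⟩⟩

end Groth.Agent.S4853
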