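import Groth.Statements.S4855
import Groth.Agent.H06EGA11c.ProperDescent
import Groth.Agent.H06EGA9.StructureStalk

set_option autoImplicit false
universe u
open CategoryTheory AlgebraicGeometry
open EGA43

namespace Groth.Agent.S4855

set_option backward.isDefEq.respectTransparency false

open CategoryTheory.Limits in
/-- Let f : X ⟶ Y be a proper morphism of finite presentation such that the map O_Y → f_* O_X is
injective (on sections over every open subset of Y). Then f is flat if and only if the first
projection X ×_Y X ⟶ X is flat. -/
theorem result {X Y : Scheme.{u}} (f : X ⟶ Y)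
    [IsProper f] [LocallyOfFinitePresentation f] (hinj : ∀ V : Y.Opens, Function.Injective (f.app V)) :
    Flat f ↔ Flat (pullback.fst f f) := by
  constructor
  · exact fun h => MorphismProperty.pullback_fst _ _ h
  · intro h
    haveI : Flat (Limits.pullback.snd f f) := by
      rw [← Limits.pullbackSymmetry_hom_comp_fst]
      infer_instance
    refine Flat.of_stalkMap f fun x => (H06EGA9.isFlatOverAt_structureModule_iff f x).1
      (H06EGA11c.isFlatOverAt_of_proper f _ (H29Fitt.isQCoh_of_isFP _ H06EGA9.isFP_structureModule)
        H06EGA9.isFP_structureModule x f (fun V s hyV hs => ?_) fun x' _ =>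
          (H06EGA9.isFlatOverAt_pullback_structure_iff _ _ x').2 (Flat.stalkMap _ x'))
    exact ⟨V, hyV, le_rfl, by rw [hinj V (hs.trans (map_zero _).symm)]; exact map_zero _⟩

end Groth.Agent.S4855
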