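import Groth.Statements.S4856
import Groth.Agent.H06EGA11c.Detect
import Groth.Agent.H06EGA11c.Point
import Groth.Agent.H10Coh.FinType2

set_option autoImplicit false
universe u
open CategoryTheory AlgebraicGeometry
open EGA43

namespace Groth.Agent.S4856

set_option backward.isDefEq.respectTransparency false

open CategoryTheory.Limits in
/-- Let A be an Artinian local ring, f : X ⟶ Spec A locally of finite type, F a coherent O_X-module and
x a point of X. Let (u_i : A → A_i) be a family of ring homomorphisms into local rings such that an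
element of A killed by every u_i is zero. If, for every i, the pullback of F to X_i = X ×_{Spec A}
Spec A_i is flat over Spec A_i at every point of X_i whose images are x in X and the closed point in
Spec A_i, then F is f-flat at x. -/
theorem result {A : Type u} [CommRing A]
    [IsArtinianRing A] [IsLocalRing A] {X : Scheme.{u}} (f : X ⟶ Spec (CommRingCat.of A))
    [LocallyOfFiniteType f] (F : X.Modules) (hF : Coh.IsCoh F) (x : X)
    {ι : Type u} (A' : ι → Type u) [∀ i, CommRing (A' i)] [∀ i, IsLocalRing (A' i)] (u : ∀ i, A →+* A' i)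
    (hu : ∀ a : A, (∀ i, u i a = 0) → a = 0)
    (hflat : ∀ (i : ι) (x' : ↥(pullback f (Spec.map (CommRingCat.ofHom (u i))))),
      pullback.fst f (Spec.map (CommRingCat.ofHom (u i))) x' = x →
      pullback.snd f (Spec.map (CommRingCat.ofHom (u i))) x' = IsLocalRing.closedPoint (A' i) →
      FlatMod.IsFlatOverAt (pullback.snd f (Spec.map (CommRingCat.ofHom (u i))))
        ((Scheme.Modules.pullback (pullback.fst f (Spec.map (CommRingCat.ofHom (u i))))).obj F) x') :
    FlatMod.IsFlatOverAt f F x := by
  haveI : IsLocallyNoetherian X := LocallyOfFiniteType.isLocallyNoetherian f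
  let eA := (Scheme.ΓSpecIso (CommRingCat.of A)).commRingCatIsoToRingEquiv
  let eC := fun i => (Scheme.ΓSpecIso (CommRingCat.of (A' i))).commRingCatIsoToRingEquiv
  haveI : IsLocalRing Γ(Spec (CommRingCat.of A), ⊤) := eA.symm.isLocalRing
  haveI : IsArtinianRing Γ(Spec (CommRingCat.of A), ⊤) := eA.symm.surjective.isArtinianRing (f := eA.symm.toRingHom)
  haveI : ∀ i, IsLocalRing Γ(Spec (CommRingCat.of (A' i)), ⊤) := fun i => (eC i).symm.isLocalRing
  obtain ⟨U, hU, hxU, -⟩ := exists_isAffineOpen_mem_and_subset (U := (⊤ : X.Opens)) (x := x) trivial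
  haveI : IsNoetherianRing Γ(X, U) := IsLocallyNoetherian.component_noetherian ⟨U, hU⟩
  haveI : F.IsQuasicoherent := hF.1
  haveI : Module.Finite Γ(X, U) Γ(F, U) := H10Coh.finite_sections F hF.2 hU
  let V : (Spec (CommRingCat.of A)).Opens := ⊤
  have hV : IsAffineOpen V := isAffineOpen_top _
  have eU : U ≤ f ⁻¹ᵁ V := le_top
  letI := fun i => ((Spec.map (CommRingCat.ofHom (u i))).appLE V ⊤ le_top).hom.toAlgebra
  letI := (f.appLE V U eU).hom.toAlgebra
  letI := Module.compHom Γ(F, U) (f.appLE V U eU).hom
  haveI : IsScalarTower Γ(Spec (CommRingCat.of A), V) Γ(X, U) Γ(F, U) := .of_algebraMap_smul fun _ _ => rfl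
  refine (H8Props.FlatLocus.isFlatOverAt_iff_localizedModule f F hF.1 hV hU eU ⟨x, hxU⟩).2
    (H06EGA11c.flat_localizedModule_of_family _ (fun i => Γ(Spec (CommRingCat.of (A' i)), ⊤))
      (fun a ha => ?_) fun i Q _ hQR hQC => ?_)
  · refine eA.injective ((hu _ fun i => ?_).trans (map_zero eA).symm)
    have h1 := congrArg (fun φ => φ.hom a) (Scheme.ΓSpecIso_naturality (CommRingCat.ofHom (u i)))
    have h2 : (Spec.map (CommRingCat.ofHom (u i))).appTop.hom a = 0 := by
      have h3 := ha i
      rw [RingHom.algebraMap_toAlgebra] at h3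
      rw [show (Spec.map (CommRingCat.ofHom (u i))).appLE V ⊤ le_top = (Spec.map (CommRingCat.ofHom (u i))).appTop from by
        simp [Scheme.Hom.appLE, V]] at h3
      exact h3
    change (Scheme.ΓSpecIso _).hom.hom ((Spec.map (CommRingCat.ofHom (u i))).appTop.hom a) = u i (eA a) at h1
    rw [h2, map_zero] at h1
    exact h1.symm
  · have H := IsPullback.of_hasPullback f (Spec.map (CommRingCat.ofHom (u i)))
    obtain ⟨x', hx, hy, h1, h2, h3⟩ :=
      H06EGA11c.exists_point H F hF.1 hU hV eU (isAffineOpen_top _) le_top Q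
    have hxx : pullback.fst f (Spec.map (CommRingCat.ofHom (u i))) x' = x := by
      have h := PrimeSpectrum.ext (h1.trans hQR)
      have := congrArg hU.fromSpec h
      rwa [hU.fromSpec_primeIdealOf, hU.fromSpec_primeIdealOf] at this
    refine h3 (hflat i x' hxx ?_)
    have hmax := (isAffineOpen_top (Spec (CommRingCat.of (A' i)))).primeIdealOf_isMaximal_of_isClosed
      ⟨IsLocalRing.closedPoint (A' i), trivial⟩ (IsLocalRing.isClosed_singleton_closedPoint _)
    have h := congrArg (isAffineOpen_top (Spec (CommRingCat.of (A' i)))).fromSpec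
      (PrimeSpectrum.ext ((h2.trans hQC).trans (IsLocalRing.eq_maximalIdeal hmax).symm))
    rwa [IsAffineOpen.fromSpec_primeIdealOf, IsAffineOpen.fromSpec_primeIdealOf] at h

end Groth.Agent.S4856
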