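import Groth.Statements.S4858
import Groth.Agent.H06Topo.QuasiHomeo

set_option autoImplicit false
universe u
open EGA43

namespace Groth.Agent.S4858

open Groth.Agent.H06Topo

/-- Conditions a), a′), c), c′) (very dense subsets): for a subset X₀ of a topological space X the
following are equivalent: every nonempty locally closed subset of X meets X₀; every closed subset Z
of X equals the closure of Z ∩ X₀; the map U ↦ U ∩ X₀ is injective on open subsets of X; the map F ↦
F ∩ X₀ is injective on closed subsets of X. -/
theorem result {X : Type u} [TopologicalSpace X] (X₀ : Set X) :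
    [∀ Z : Set X, IsLocallyClosed Z → Z.Nonempty → (Z ∩ X₀).Nonempty,
      ∀ Z : Set X, IsClosed Z → closure (Z ∩ X₀) = Z,
      ∀ U V : Set X, IsOpen U → IsOpen V → U ∩ X₀ = V ∩ X₀ → U = V,
      ∀ F F' : Set X, IsClosed F → IsClosed F' → F ∩ X₀ = F' ∩ X₀ → F = F'].TFAE := by
  tfae_have 1 → 2 := fun h Z hZ => subset_antisymm
    (closure_minimal Set.inter_subset_left hZ) (IsVD.subset_closure h (IsQC.of_closed hZ).isLQC)
  tfae_have 2 → 4 := fun h F F' hF hF' he => by rw [← h F hF, ← h F' hF', he]
  tfae_have 4 → 3 := fun h U V hU hV he => compl_injective (h _ _ hU.isClosed_compl hV.isClosed_compl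
    (by rw [← Set.sdiff_eq_compl_inter, ← Set.sdiff_eq_compl_inter, ← Set.sdiff_self_inter, Set.inter_comm X₀, he, Set.inter_comm, Set.sdiff_self_inter]))
  tfae_have 3 → 1 := fun h => isVD_of_opens h
  tfae_finish

end Groth.Agent.S4858
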