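import Groth.Statements.S4859
import Groth.Agent.H06Topo.QuasiHomeo

set_option autoImplicit false
universe u
open EGA43

namespace Groth.Agent.S4859

open Groth.Agent.H06Topo

/-- Conditions a), a′), b) (quasi-homeomorphisms): for a continuous map f : X₀ → X the following are
equivalent: taking preimages is a bijection from the open subsets of X onto the open subsets of X₀;
taking preimages is a bijection from the closed subsets of X onto the closed subsets of X₀; the
topology of X₀ is induced from X through f and the image f(X₀) is very dense in X, in the sense that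
two open subsets of X with the same trace on f(X₀) coincide. -/
theorem result {X₀ X : Type u} [TopologicalSpace X₀] [TopologicalSpace X]
    (f : X₀ → X) (hf : Continuous f) :
    [Function.Bijective (fun U : TopologicalSpace.Opens X =>
        (⟨f ⁻¹' (U : Set X), U.isOpen.preimage hf⟩ : TopologicalSpace.Opens X₀)),
      Function.Bijective (fun F : TopologicalSpace.Closeds X =>
        (⟨f ⁻¹' (F : Set X), F.isClosed.preimage hf⟩ : TopologicalSpace.Closeds X₀)),
      Topology.IsInducing f ∧
        ∀ U V : Set X, IsOpen U → IsOpen V → U ∩ Set.range f = V ∩ Set.range f → U = V].TFAE := by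
  tfae_have 1 → 2 := fun h => by
    refine ⟨fun F G he => ?_, fun F => ?_⟩
    · have := @h.1 F.compl G.compl (TopologicalSpace.Opens.ext
        (congrArg (fun s : TopologicalSpace.Closeds X₀ => (s : Set X₀)ᶜ) he))
      exact TopologicalSpace.Closeds.ext (compl_injective (congrArg SetLike.coe this))
    · obtain ⟨U, hU⟩ := h.2 F.compl
      refine ⟨U.compl, TopologicalSpace.Closeds.ext ?_⟩
      exact (congrArg compl (congrArg SetLike.coe hU)).trans (compl_compl _)
  tfae_have 2 → 3 := fun h => by
    have hi : Topology.IsInducing f := by
      refine ⟨le_antisymm hf.le_induced fun V hV => ?_⟩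
      obtain ⟨F, hF⟩ := h.2 ⟨Vᶜ, hV.isClosed_compl⟩
      refine isOpen_induced_iff.mpr ⟨(F : Set X)ᶜ, F.isClosed.isOpen_compl, ?_⟩
      rw [Set.preimage_compl]
      exact (congrArg compl (congrArg SetLike.coe hF)).trans (compl_compl _)
    refine ⟨hi, fun U V hU hV he => ?_⟩
    have := @h.1 ⟨Uᶜ, hU.isClosed_compl⟩ ⟨Vᶜ, hV.isClosed_compl⟩ (TopologicalSpace.Closeds.ext
      (congrArg compl (show f ⁻¹' U = f ⁻¹' V by
        rw [← Set.preimage_inter_range, he, Set.preimage_inter_range])))
    exact compl_injective (congrArg SetLike.coe this)
  tfae_have 3 → 1 := fun ⟨hi, h⟩ => (QH.of_isVD hi (isVD_of_opens h)).bijective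
  tfae_finish

end Groth.Agent.S4859
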