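import Groth.Statements.S4861
import Groth.Agent.H06Jacobson.Rings

set_option autoImplicit false
universe u
open EGA43

namespace Groth.Agent.S4861

/-- For a Noetherian integral domain B the following are equivalent (and hence equivalent to: the
fraction field of B is a finitely generated B-algebra; the generic point of Spec B is open): a) the
localization B_f is a field for some nonzero f; e) Spec B is finite; f) B is semi-local (finitely
many maximal ideals) of Krull dimension at most 1. -/
theorem result (B : Type u) [CommRing B] [IsDomain B]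
    [IsNoetherianRing B] :
    [∃ f : B, f ≠ 0 ∧ IsField (Localization.Away f),
      Finite (PrimeSpectrum B),
      Finite (MaximalSpectrum B) ∧ ringKrullDim B ≤ 1].TFAE := by
  tfae_have 1 → 3 := fun h =>
    H06Jacobson.finite_and_krullDim_le_one (((H06Jacobson.goldman_tfae B).out 0 3).mp h)
  tfae_have 3 → 2 := by
    rintro ⟨hfin, hdim⟩
    haveI := hfin
    haveI : Ring.KrullDimLE 1 B := Ring.krullDimLE_iff.mpr hdim
    haveI : Ring.DimensionLEOne B := ⟨fun {p} hne hp => by
      rcases Ring.krullDimLE_one_iff.mp inferInstance p hp with hmin | hmax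
      · rw [IsDomain.minimalPrimes_eq_singleton_bot] at hmin
        exact absurd hmin hne
      · exact hmax⟩
    classical
    refine Finite.of_surjective
      (fun o : Option (MaximalSpectrum B) => o.elim ⟨⊥, Ideal.isPrime_bot⟩
        (fun m => ⟨m.asIdeal, m.2.isPrime⟩)) fun P => ?_
    by_cases hP : P.asIdeal = ⊥
    · exact ⟨none, PrimeSpectrum.ext hP.symm⟩
    · exact ⟨some ⟨P.asIdeal, P.2.isMaximal hP⟩, rfl⟩
  tfae_have 2 → 1 := by
    intro h
    refine ((H06Jacobson.goldman_tfae B).out 0 3).mpr ?_
    have := H06Jacobson.isOpen_genericPoint_of_finite (PrimeSpectrum B)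
    have hgen : genericPoint (PrimeSpectrum B) = ⟨⊥, Ideal.isPrime_bot⟩ := by
      refine ((genericPoint_specializes _).antisymm ?_).eq
      exact (PrimeSpectrum.le_iff_specializes _ _).mp bot_le
    rwa [hgen] at this
  tfae_finish

end Groth.Agent.S4861
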