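import Groth.Statements.S4862
import Groth.Agent.H06Jacobson.Rings

set_option autoImplicit false
universe u
open EGA43

namespace Groth.Agent.S4862

/-- For a commutative ring A the following are equivalent: a) A is a Jacobson ring; b) for every prime
ideal p of A which is not maximal and every nonzero f of B = A/p, the localization B_f is not a
field; b′) every finitely generated A-algebra which is a field is a finite A-module. -/
theorem result (A : Type u) [CommRing A] :
    [IsJacobsonRing A,
      ∀ (p : Ideal A) [p.IsPrime], ¬ p.IsMaximal → ∀ f : A ⧸ p, f ≠ 0 → ¬ IsField (Localization.Away f),
      ∀ (K : Type u) [Field K] [Algebra A K], Algebra.FiniteType A K → Module.Finite A K].TFAE := by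
  exact Groth.Agent.H06Jacobson.isJacobsonRing_tfae A

end Groth.Agent.S4862
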