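import Groth.Statements.S4866
import Groth.Agent.H06EGA11b.RegularLocus
import Groth.Agent.H29Fitt.FP
import Groth.Agent.H10Coh.FinType2

set_option autoImplicit false
universe u
open EGA43

namespace Groth.Agent.S4866

open AlgebraicGeometry CategoryTheory Limits in
/-- Let Y be a locally Noetherian scheme, f : X ⟶ Y locally of finite type, F a coherent f-flat
O_X-module and g₁, …, gₙ sections of O_X over X. Then the set of points x of X, with y = f x, such
that the germs (gᵢ)_x form a weakly regular sequence on the fibre module F_x / m_y F_x (each gᵢ is a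
non-zero-divisor on the quotient by the preceding ones; the quotient by all of them may be zero) is
open in X. -/
theorem result {X Y : Scheme.{u}} [IsLocallyNoetherian Y] (f : X ⟶ Y)
    [LocallyOfFiniteType f] (F : X.Modules) (hF : Coh.IsCoh F) (hflat : FlatMod.IsFlatOver f F)
    (n : ℕ) (g : Fin n → Γ(X, ⊤)) :
    IsOpen {x : X |
      RingTheory.Sequence.IsWeaklyRegular
        (↑(F.presheaf.stalk x) ⧸ (Ideal.map (f.stalkMap x).hom (IsLocalRing.maximalIdeal ↑(Y.presheaf.stalk (f x))) •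
          (⊤ : Submodule ↑(X.presheaf.stalk x) ↑(F.presheaf.stalk x))))
        (List.ofFn fun i => (X.presheaf.germ ⊤ x trivial) (g i))} := by
  classical
  rw [isOpen_iff_forall_mem_open]
  intro x hx
  obtain ⟨_, ⟨V, hV, rfl⟩, hxV, -⟩ :=
    Y.isBasis_affineOpens.exists_subset_of_mem_open (Set.mem_univ (f x)) isOpen_univ
  obtain ⟨_, ⟨U, hU, rfl⟩, hxU, hUV⟩ :=
    X.isBasis_affineOpens.exists_subset_of_mem_open (show x ∈ (f ⁻¹ᵁ V : Set X) from hxV) (f ⁻¹ᵁ V).2
  replace hUV : U ≤ f ⁻¹ᵁ V := hUV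
  haveI : IsLocallyNoetherian X := LocallyOfFiniteType.isLocallyNoetherian f
  haveI : IsNoetherianRing Γ(Y, V) := IsLocallyNoetherian.component_noetherian ⟨V, hV⟩
  haveI : IsNoetherianRing Γ(X, U) := IsLocallyNoetherian.component_noetherian ⟨U, hU⟩
  haveI : F.IsQuasicoherent := hF.1
  haveI : Module.Finite Γ(X, U) Γ(F, U) := H10Coh.finite_sections F hF.2 hU
  letI := Module.compHom Γ(F, U) (f.appLE V U hUV).hom
  letI := (f.appLE V U hUV).hom.toAlgebra
  haveI : IsScalarTower Γ(Y, V) Γ(X, U) Γ(F, U) := .of_algebraMap_smul fun _ _ => rfl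
  haveI : Algebra.FiniteType Γ(Y, V) Γ(X, U) :=
    HasRingHomProperty.appLE @LocallyOfFiniteType f ‹_› ⟨V, hV⟩ ⟨U, hU⟩ hUV
  let fs : List Γ(X, U) := List.ofFn fun i => (X.presheaf.map (homOfLE (le_top : U ≤ ⊤)).op) (g i)
  have key : ∀ z : U, RingTheory.Sequence.IsWeaklyRegular
        (↑(F.presheaf.stalk z.1) ⧸ (Ideal.map (f.stalkMap z.1).hom (IsLocalRing.maximalIdeal ↑(Y.presheaf.stalk (f z.1))) •
          (⊤ : Submodule ↑(X.presheaf.stalk z.1) ↑(F.presheaf.stalk z.1))))
        (List.ofFn fun i => (X.presheaf.germ ⊤ z.1 trivial) (g i)) ↔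
      hU.primeIdealOf z ∈ H06EGA11b.RegularLocus.locus Γ(Y, V) Γ(F, U) fs := fun z => by
    let y : V := ⟨f z.1, hUV z.2⟩
    letI := TopCat.Presheaf.algebra_section_stalk X.presheaf z
    letI : Algebra Γ(Y, V) (Y.presheaf.stalk (f z.1)) := (Y.presheaf.germ V (f z.1) y.2).hom.toAlgebra
    haveI : IsLocalization.AtPrime (Y.presheaf.stalk (f z.1)) (hV.primeIdealOf y).asIdeal :=
      hV.isLocalization_stalk y
    haveI := hU.isLocalization_stalk z
    letI := Module.compHom (F.presheaf.stalk z.1) (algebraMap Γ(X, U) (X.presheaf.stalk z.1))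
    haveI : IsScalarTower Γ(X, U) (X.presheaf.stalk z.1) (F.presheaf.stalk z.1) :=
      IsScalarTower.of_algebraMap_smul fun _ _ => rfl
    letI := Module.compHom (F.presheaf.stalk z.1)
      ((algebraMap Γ(X, U) (X.presheaf.stalk z.1)).comp (f.appLE V U hUV).hom)
    haveI : IsScalarTower Γ(Y, V) Γ(X, U) (F.presheaf.stalk z.1) := .of_algebraMap_smul fun _ _ => rfl
    letI : Algebra Γ(Y, V) (X.presheaf.stalk z.1) :=
      ((algebraMap Γ(X, U) (X.presheaf.stalk z.1)).comp (f.appLE V U hUV).hom).toAlgebra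
    haveI : IsScalarTower Γ(Y, V) (X.presheaf.stalk z.1) (F.presheaf.stalk z.1) :=
      .of_algebraMap_smul fun _ _ => rfl
    letI : Algebra (Y.presheaf.stalk (f z.1)) (X.presheaf.stalk z.1) := (f.stalkMap z.1).hom.toAlgebra
    haveI : IsLocalHom (algebraMap (Y.presheaf.stalk (f z.1)) (X.presheaf.stalk z.1)) :=
      inferInstanceAs (IsLocalHom (f.stalkMap z.1).hom)
    letI := FlatMod.moduleStalkOver f F z.1
    haveI : IsScalarTower (Y.presheaf.stalk (f z.1)) (X.presheaf.stalk z.1) (F.presheaf.stalk z.1) :=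
      .of_algebraMap_smul fun _ _ => rfl
    haveI : IsScalarTower Γ(Y, V) (Y.presheaf.stalk (f z.1)) (F.presheaf.stalk z.1) :=
      .of_algebraMap_smul fun a m => by
        show (f.stalkMap z.1).hom ((Y.presheaf.germ V (f z.1) y.2).hom a) • m =
          (X.presheaf.germ U z.1 z.2).hom ((f.appLE V U hUV).hom a) • m
        congr 1
        rw [← CommRingCat.comp_apply, ← CommRingCat.comp_apply, Scheme.Hom.germ_stalkMap,
          Scheme.Hom.appLE, Category.assoc, X.presheaf.germ_res]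
    haveI := H29Fitt.isLocalizedModule_germLin F hF.1 hU z
    have hfs : fs.map (algebraMap Γ(X, U) (X.presheaf.stalk z.1)) =
        List.ofFn fun i => (X.presheaf.germ ⊤ z.1 trivial) (g i) := by
      rw [List.map_ofFn]
      congr 1
      funext i
      exact TopCat.Presheaf.germ_res_apply X.presheaf (homOfLE le_top) z.1 z.2 (g i)
    rw [← hfs]
    exact H06EGA11b.RegularLocus.mem_locus_iff Γ(F, U) (hU.primeIdealOf z) (hV.primeIdealOf y).asIdeal
      (H29Fitt.germLin F z) (hflat z.1) fs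
  haveI := hU.isOpenImmersion_fromSpec
  refine ⟨hU.fromSpec '' H06EGA11b.RegularLocus.locus Γ(Y, V) Γ(F, U) fs, ?_,
    hU.fromSpec.isOpenEmbedding.isOpenMap _ (H06EGA11b.RegularLocus.isOpen_locus _ _),
    hU.primeIdealOf ⟨x, hxU⟩, (key ⟨x, hxU⟩).mp hx, hU.fromSpec_primeIdealOf _⟩
  rintro _ ⟨q, hq, rfl⟩
  have hmem : hU.fromSpec q ∈ U := hU.range_fromSpec.subset ⟨q, rfl⟩
  have e : hU.primeIdealOf ⟨hU.fromSpec q, hmem⟩ = q :=
    hU.fromSpec.isOpenEmbedding.injective (hU.fromSpec_primeIdealOf _)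
  rw [← e] at hq
  exact (key ⟨_, hmem⟩).mpr hq

end Groth.Agent.S4866
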