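import Groth.Statements.S4867
import Groth.Agent.H06EGA11c.StageFlat
import Groth.Agent.H17.ConsModModels
import Groth.Agent.H10Coh.FinType2

set_option autoImplicit false
universe u
open CategoryTheory AlgebraicGeometry
open EGA43

namespace Groth.Agent.S4867

open CategoryTheory.Limits
set_option backward.isDefEq.respectTransparency false

/-- Let A be a commutative ring, f : X ⟶ Spec A a morphism of finite presentation, F a quasi-coherent
O_X-module of finite presentation and x a point of X. If F is f-flat at x, then there are a finitely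
generated subring A₀ of A, a morphism of finite type f₀ : X₀ ⟶ Spec A₀, a coherent O_{X₀}-module F₀
and a cartesian square q : X ⟶ X₀ over Spec A ⟶ Spec A₀ together with an isomorphism q^*F₀ ≅ F, such
that F₀ is f₀-flat at q x; and if F is f-flat, F₀ can be chosen f₀-flat. -/
theorem result {A : Type u} [CommRing A] {X : Scheme.{u}}
    (f : X ⟶ Spec (CommRingCat.of A)) [LocallyOfFinitePresentation f] [QuasiCompact f] [QuasiSeparated f]
    (F : X.Modules) [Coh.IsQCoh F] (hF : CohB1.IsFP F) (x : X) :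
    (FlatMod.IsFlatOverAt f F x →
      ∃ (A₀ : Subalgebra ℤ A) (_ : A₀.FG) (X₀ : Scheme.{u}) (f₀ : X₀ ⟶ Spec (CommRingCat.of ↥A₀))
        (_ : LocallyOfFiniteType f₀) (_ : QuasiCompact f₀) (F₀ : X₀.Modules) (_ : Coh.IsCoh F₀) (q : X ⟶ X₀)
        (_ : IsPullback q f f₀ (Spec.map (CommRingCat.ofHom A₀.val.toRingHom)))
        (_ : (Scheme.Modules.pullback q).obj F₀ ≅ F),
        FlatMod.IsFlatOverAt f₀ F₀ (q x)) ∧
    (FlatMod.IsFlatOver f F →
      ∃ (A₀ : Subalgebra ℤ A) (_ : A₀.FG) (X₀ : Scheme.{u}) (f₀ : X₀ ⟶ Spec (CommRingCat.of ↥A₀))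
        (_ : LocallyOfFiniteType f₀) (_ : QuasiCompact f₀) (F₀ : X₀.Modules) (_ : Coh.IsCoh F₀) (q : X ⟶ X₀)
        (_ : IsPullback q f f₀ (Spec.map (CommRingCat.ofHom A₀.val.toRingHom)))
        (_ : (Scheme.Modules.pullback q).obj F₀ ≅ F),
        FlatMod.IsFlatOver f₀ F₀) := by
  haveI : Nonempty (Finset A) := ⟨∅⟩
  obtain ⟨i, X₀, u₀, F₀, q, _, _, hq, hF₀, ⟨eF⟩⟩ := H17.ConsProp.exists_mod_model (R := A) f F hF
  haveI : IsNoetherian (((H7Lim.FPDescent.subringFunctor A).op ⋙ Scheme.Spec).obj i) := inferInstance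
  haveI : IsLocallyNoetherian X₀ := LocallyOfFiniteType.isLocallyNoetherian u₀
  have hFP : CohB1.IsFP F₀ := H10Coh.isFP_of_isCoh F₀ hF₀
  have hc := H17.ConsProp.isLimitSubringCone A
  haveI : IsIso (𝟙 (H17.ConsProp.subringCone A).pt) := IsIso.id _
  have hY : IsPullback ((H17.ConsProp.subringCone A).π.app i) (𝟙 (H17.ConsProp.subringCone A).pt)
      (𝟙 _) ((H17.ConsProp.subringCone A).π.app i) := IsPullback.of_vert_isIso ⟨by simp⟩
  have eF' : (Scheme.Modules.pullback q).obj F₀ ≅ F := eF.symm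
  constructor
  · intro h
    have h0 := (H06EGA9.isFlatOverAt_congr_iso f eF' x).2 h
    obtain ⟨j, φ, Xj, Yj, fj, gj, pY, pX, vY, vX, hYj, hXj, e1, e2, e3, e4, hflat⟩ :=
      H06EGA11c.exists_stage_isFlatOverAt _ _ hc i u₀ (𝟙 _) F₀ hF₀.1 hFP hY hq x h0
    haveI : IsIso gj := hYj.isIso_snd_of_isIso
    haveI : LocallyOfFiniteType fj := MorphismProperty.of_isPullback hXj (inferInstance : LocallyOfFiniteType u₀)
    haveI : QuasiCompact fj := MorphismProperty.of_isPullback hXj ‹QuasiCompact u₀›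
    have h1 : IsPullback vX f fj vY := IsPullback.of_right (by rw [e3, e1]; exact hq) e4 hXj
    have h2 : IsPullback vY (𝟙 _) gj ((H17.ConsProp.subringCone A).π.app j) :=
      IsPullback.of_vert_isIso ⟨by simpa using e2⟩
    have h3 := h1.paste_vert h2
    erw [Category.comp_id] at h3
    exact ⟨Algebra.adjoin ℤ ((Opposite.unop j : Finset A) : Set A), ⟨_, rfl⟩, Xj, fj ≫ gj, inferInstance,
      inferInstance, (Scheme.Modules.pullback pX).obj F₀, H17.ConsProp.isCoh_pullback pX hF₀, vX, h3,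
      (Scheme.Modules.pullbackComp vX pX).app F₀ ≪≫ (Scheme.Modules.pullbackCongr e3).app F₀ ≪≫ eF',
      (H06EGA11c.isFlatOverAt_comp_openImmersion_iff fj gj _ _).2 hflat⟩
  · intro h
    have h0 : FlatMod.IsFlatOver f ((Scheme.Modules.pullback q).obj F₀) :=
      fun z => (H06EGA9.isFlatOverAt_congr_iso f eF' z).2 (h z)
    obtain ⟨j, hj⟩ := H06EGA11c.exists_stage_isFlatOver _ hc u₀ (𝟙 _) F₀ hF₀.1 hFP hY hq h0
    let Sp := ((H7Lim.FPDescent.subringFunctor A).op ⋙ Scheme.Spec)
    let pY := pullback.fst (𝟙 (Sp.obj i)) (Sp.map j.hom)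
    let gj := pullback.snd (𝟙 (Sp.obj i)) (Sp.map j.hom)
    let vY : (H17.ConsProp.subringCone A).pt ⟶ pullback (𝟙 (Sp.obj i)) (Sp.map j.hom) :=
      pullback.lift ((H17.ConsProp.subringCone A).π.app i) ((H17.ConsProp.subringCone A).π.app j.left)
        (by rw [Category.comp_id]; exact ((H17.ConsProp.subringCone A).w j.hom).symm)
    let vX : X ⟶ pullback u₀ pY := pullback.lift q (f ≫ vY)
      (by rw [Category.assoc, pullback.lift_fst, hq.w])
    have h1 : IsPullback vX f (pullback.snd u₀ pY) vY :=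
      IsPullback.of_right (by rw [pullback.lift_fst, pullback.lift_fst]; exact hq) (pullback.lift_snd _ _ _)
        (IsPullback.of_hasPullback _ _)
    have h2 : IsPullback vY (𝟙 _) gj ((H17.ConsProp.subringCone A).π.app j.left) :=
      IsPullback.of_vert_isIso ⟨by rw [pullback.lift_snd, Category.id_comp]⟩
    have h3 := h1.paste_vert h2
    erw [Category.comp_id] at h3
    haveI : LocallyOfFiniteType (pullback.snd u₀ pY) := MorphismProperty.pullback_snd _ _ inferInstance
    haveI : QuasiCompact (pullback.snd u₀ pY) := MorphismProperty.pullback_snd _ _ inferInstance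
    exact ⟨Algebra.adjoin ℤ ((Opposite.unop j.left : Finset A) : Set A), ⟨_, rfl⟩, _, pullback.snd u₀ pY ≫ gj,
      inferInstance, inferInstance, (Scheme.Modules.pullback (pullback.fst u₀ pY)).obj F₀,
      H17.ConsProp.isCoh_pullback _ hF₀, vX, h3,
      (Scheme.Modules.pullbackComp vX _).app F₀ ≪≫ (Scheme.Modules.pullbackCongr (pullback.lift_fst _ _ _)).app F₀ ≪≫ eF',
      fun z => (H06EGA11c.isFlatOverAt_comp_openImmersion_iff (pullback.snd u₀ pY) gj _ z).2 (hj z)⟩

end Groth.Agent.S4867
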