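import Groth.Statements.S4868
import Groth.Agent.H06EGA9.FlatLocallyConstructible
import Groth.Agent.H06EGA9.FibreMap

set_option autoImplicit false
universe u
open EGA43

namespace Groth.Agent.S4868

open CategoryTheory.Limits Groth.Agent.H06EGA9

open AlgebraicGeometry CategoryTheory Limits in
/-- Let g : X ⟶ S and h : Y ⟶ S be morphisms of finite presentation, f : X ⟶ Y an S-morphism and F a
quasi-coherent O_X-module of finite presentation. Then the set E of points s of S such that the
fibre module F_s is f_s-flat, i.e. such that for every point x of X over s the module F_x / m_s F_x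
is flat over O_{Y,f x} / m_s O_{Y,f x}, is locally constructible in S. -/
theorem result {X Y S : Scheme.{u}} (f : X ⟶ Y) (h : Y ⟶ S) (g : X ⟶ S)
    (w : f ≫ h = g)
    [LocallyOfFinitePresentation g] [QuasiCompact g] [QuasiSeparated g]
    [LocallyOfFinitePresentation h] [QuasiCompact h] [QuasiSeparated h]
    (F : X.Modules) [Coh.IsQCoh F] (hF : CohB1.IsFP F) :
    Topology.IsLocallyConstructible {s : S | ∀ x : X, g x = s →
      letI := FlatMod.moduleStalkOver f F x
      Module.Flat (↑(Y.presheaf.stalk (f x)) ⧸ Ideal.map (h.stalkMap (f x)).hom (IsLocalRing.maximalIdeal ↑(S.presheaf.stalk (h (f x)))))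
        (↑(F.presheaf.stalk x) ⧸ (Ideal.map (h.stalkMap (f x)).hom (IsLocalRing.maximalIdeal ↑(S.presheaf.stalk (h (f x)))) •
          (⊤ : Submodule ↑(Y.presheaf.stalk (f x)) ↑(F.presheaf.stalk x))))} := by
  subst w
  exact isLocallyConstructible_setOf_fibre_subset (f ≫ h) (E := {x : X | FibFlatAt f h F x})
    (isLocallyConstructible_fibFlatAt f h hF)

end Groth.Agent.S4868
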