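import Groth.Statements.S4869
import Groth.Agent.H06EGA11b.AdicModel

set_option autoImplicit false
universe u
open TensorProduct
open EGA43

namespace Groth.Agent.S4869

/-- Let A₀ be a commutative ring, (A_i) a directed system of A₀-algebras with colimit A, B₀ a finitely
presented A₀-algebra, J₀ a finitely generated ideal of B₀ and M₀ a finitely presented B₀-module; put
M = A ⊗_{A₀} M₀ and J = J₀B, and likewise M_i, J_i over each A_i. Then the associated graded module
gr_J(M) = ⊕_k J^k M / J^{k+1} M is flat over A if and only if, for some index i, gr_{J_i}(M_i) is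
flat over A_i. Flatness of the graded module is expressed through the equivalent condition that
every truncation M / J^k M (k ≥ 0) is flat (the pieces J^k M / J^{k+1} M are the kernels of the
surjections M / J^{k+1} M → M / J^k M), and J^k M is realised as the image of A ⊗_{A₀} J₀^k M₀ in A
⊗_{A₀} M₀. (The published statement also asserts that the canonical maps from gr_{J_i}(M_i) ⊗_{A_i}
A to gr_J(M) are then bijective; this row states only the equivalence.) -/
theorem result {A₀ : Type u} [CommRing A₀]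
    {ι : Type u} [Preorder ι] (G : ι → Type u) [∀ i, CommRing (G i)] [∀ i, Algebra A₀ (G i)]
    (g : ∀ i j, i ≤ j → G i →ₐ[A₀] G j)
    (A : Type u) [CommRing A] [Algebra A₀ A] [∀ i, Algebra (G i) A] [∀ i, IsScalarTower A₀ (G i) A]
    (hcolim : FlatCA.IsDirectedColimitRing G (fun i j h => (g i j h).toRingHom) A)
    {B₀ : Type u} [CommRing B₀] [Algebra A₀ B₀] [Algebra.FinitePresentation A₀ B₀]
    (J₀ : Ideal B₀) (hJ₀ : J₀.FG)
    (M₀ : Type u) [AddCommGroup M₀] [Module B₀ M₀] [Module A₀ M₀] [IsScalarTower A₀ B₀ M₀]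
    [Module.FinitePresentation B₀ M₀] :
    (∀ k : ℕ, Module.Flat A ((A ⊗[A₀] M₀) ⧸
        LinearMap.range (((J₀ ^ k • (⊤ : Submodule B₀ M₀)).restrictScalars A₀).subtype.baseChange A))) ↔
      ∃ i : ι, ∀ k : ℕ, Module.Flat (G i) ((G i ⊗[A₀] M₀) ⧸
        LinearMap.range (((J₀ ^ k • (⊤ : Submodule B₀ M₀)).restrictScalars A₀).subtype.baseChange (G i))) := by
  obtain ⟨hdir, hne, -, -, hcompat, hsurj, hker⟩ := hcolim
  haveI := hdir
  haveI := hne
  let N : ℕ → Submodule A₀ M₀ := fun k => (J₀ ^ k • (⊤ : Submodule B₀ M₀)).restrictScalars A₀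
  have hiff : ∀ (T : Type u) [CommRing T] [Algebra A₀ T] (k : ℕ),
      Module.Flat T ((T ⊗[A₀] M₀) ⧸ LinearMap.range ((N k).subtype.baseChange T)) ↔
        Module.Flat T (T ⊗[A₀] (M₀ ⧸ (J₀ ^ k • ⊤ : Submodule B₀ M₀))) := fun T _ _ k =>
    Module.Flat.equiv_iff ((H06EGA11b.AdicModel.quotRangeEquiv T (N k)).trans
      (AlgebraTensorModule.congr (LinearEquiv.refl T T)
        (Submodule.Quotient.restrictScalarsEquiv A₀ (J₀ ^ k • ⊤ : Submodule B₀ M₀))))
  constructor
  · intro h
    obtain ⟨𝔐⟩ := H06EGA11b.AdicModel.nonempty_model (A := A₀) (M := M₀) hJ₀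
    obtain ⟨i, hi⟩ := H06EGA11b.AdicModel.exists_index_flat_truncations G g
      (fun i => IsScalarTower.toAlgHom A₀ (G i) A)
      (fun i j h => AlgHom.ext fun x => RingHom.congr_fun (hcompat i j h) x) hsurj hker 𝔐
      (fun k => (hiff A k).mp (h k))
    exact ⟨i, fun k => (hiff (G i) k).mpr (hi k)⟩
  · rintro ⟨i, hi⟩ k
    haveI := (hiff (G i) k).mp (hi k)
    exact (hiff A k).mpr (Module.Flat.of_linearEquiv
      (AlgebraTensorModule.cancelBaseChange A₀ (G i) A A (M₀ ⧸ (J₀ ^ k • ⊤ : Submodule B₀ M₀))).symm)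

end Groth.Agent.S4869
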