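import Groth.Statements.S4870
import Groth.Agent.H06EGA11b.AdicModel

set_option autoImplicit false
universe u
open EGA43

namespace Groth.Agent.S4870

/-- Let A be a commutative ring, B a finitely presented A-algebra, J a finitely generated ideal of B and
M a finitely presented B-module. If the associated graded module gr_J(M) is flat over A, that is
every J^k M / J^{k+1} M is a flat A-module, then M is flat over A at every point of V(J): for every
prime ideal q of B containing J, the localization M_q is a flat A-module. -/
theorem result {A B : Type u} [CommRing A] [CommRing B] [Algebra A B]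
    [Algebra.FinitePresentation A B] (J : Ideal B) (hJ : J.FG)
    (M : Type u) [AddCommGroup M] [Module B M] [Module A M] [IsScalarTower A B M] [Module.FinitePresentation B M]
    (hgr : ∀ k : ℕ, Module.Flat A
      (↥(J ^ k • (⊤ : Submodule B M)) ⧸ Submodule.comap (J ^ k • (⊤ : Submodule B M)).subtype (J ^ (k + 1) • ⊤)))
    (q : Ideal B) [q.IsPrime] (hq : J ≤ q) :
    Module.Flat A (LocalizedModule q.primeCompl M) := by
  obtain ⟨𝔐⟩ := H06EGA11b.AdicModel.nonempty_model (A := A) (M := M) hJ
  exact 𝔐.flat_localizedModule (H06EGA11b.AdicModel.flat_truncations_of_gr J hgr) q hq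

end Groth.Agent.S4870
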