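import Groth.Statements.S4871
import Groth.Prelude.Def_StMod
import Groth.Agent.H06Sep.SupportScheme
import Groth.Agent.H11Ample.RelQuasiAffine
import Groth.Agent.H06EGA9.StructureStalk
import Groth.Agent.H06EGA12.GeomRkOpen

set_option autoImplicit false
universe u
open CategoryTheory AlgebraicGeometry
open EGA43

namespace Groth.Agent.S4871

set_option backward.isDefEq.respectTransparency false

open Groth.Agent.H06Sep


open CategoryTheory.Limits in
/-- Let f : X ⟶ S be flat and locally of finite presentation and U an open subscheme of X. Then U is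
universally schematically dense in X relative to S, i.e. for every base change S' ⟶ S the preimage
of U in X ×_S S' is schematically dense, if and only if for every point s of S the trace U_s of U on
the fibre X_s is schematically dense in X_s. -/
theorem result {X S : Scheme.{u}} (f : X ⟶ S) [Flat f]
    [LocallyOfFinitePresentation f] (U : X.Opens) :
    (∀ (S' : Scheme.{u}) (g : S' ⟶ S), CInt.IsSchematicallyDense ((pullback.fst f g) ⁻¹ᵁ U)) ↔
      ∀ s : S, CInt.IsSchematicallyDense ((f.fiberι s) ⁻¹ᵁ U) := by
  refine ⟨fun h s => h _ (S.fromSpecResidueField s), fun h S' g => ?_⟩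
  intro V
  obtain ⟨φ⟩ := H11Ample.nonempty_pullback_structureModule_iso (pullback.fst f g)
  have key := restrict_injective_of_fibres f (Coh.structureModule X) (StMod.isQCoh_structureModule X)
    H06EGA9.isFP_structureModule (H06EGA12.isFlatOver_structureModule f) U (fun s W => ?_)
    (IsPullback.of_hasPullback f g) V
  · refine (injective_iff_map_eq_zero _).mpr fun t ht => ?_
    have nat := congr($(φ.inv.mapPresheaf.naturality (homOfLE (inf_le_left : V ⊓ (pullback.fst f g) ⁻¹ᵁ U ≤ V)).op) t)
    have h0 : φ.inv.app V t = 0 := key (a₁ := φ.inv.app V t) (a₂ := 0) (by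
      refine (Eq.trans ?_ (map_zero _).symm)
      refine nat.symm.trans ?_
      exact (congrArg (φ.inv.app (V ⊓ (pullback.fst f g) ⁻¹ᵁ U)) ht).trans (map_zero _))
    have hid := congr($(φ.inv_hom_id).app V t)
    refine Eq.trans ?_ ((congrArg (φ.hom.app V) h0).trans (map_zero _))
    exact hid.symm
  · obtain ⟨ψ⟩ := H11Ample.nonempty_pullback_structureModule_iso (f.fiberι s)
    refine (injective_iff_map_eq_zero _).mpr fun t ht => ?_
    have nat := congr($(ψ.hom.mapPresheaf.naturality (homOfLE (inf_le_left : W ⊓ (f.fiberι s) ⁻¹ᵁ U ≤ W)).op) t)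
    have h0 : ψ.hom.app W t = 0 := h s W (a₁ := ψ.hom.app W t) (a₂ := 0) (by
      refine (Eq.trans ?_ (map_zero _).symm)
      refine nat.symm.trans ?_
      exact (congrArg (ψ.hom.app (W ⊓ (f.fiberι s) ⁻¹ᵁ U)) ht).trans (map_zero _))
    have hid := congr($(ψ.hom_inv_id).app W t)
    refine Eq.trans ?_ ((congrArg (ψ.inv.app W) h0).trans (map_zero _))
    exact hid.symm

end Groth.Agent.S4871
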