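import Groth.Statements.S4872
import Mathlib


set_option autoImplicit false
universe u
open CategoryTheory AlgebraicGeometry
open EGA43

namespace Groth.Agent.S4872

open CategoryTheory.Limits

/-- Conditions b), c), d) (schematically dominant families): let p : X ⟶ S be a morphism and (f_i : Z_i
⟶ X) a family of morphisms. The following are equivalent: b) for every open V of X, a section of O_X
over V whose images in all the Γ(f_i⁻¹(V), O_{Z_i}) are zero is zero; c) for every open U of X, a
closed immersion j : Y ⟶ U through which each restriction f_i⁻¹(U) ⟶ U factors is an isomorphism; d)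
for every separated S-scheme X', every open U of X and every pair of S-morphisms u, v : U ⟶ X'
having the same composite with each f_i⁻¹(U) ⟶ U, one has u = v. -/
theorem result {X S : Scheme.{u}} (p : X ⟶ S) {ι : Type u} (Z : ι → Scheme.{u})
    (f : ∀ i, Z i ⟶ X) :
    [(∀ (V : (X).Opens) (t : Γ(X, V)), (∀ i, (f i).app V t = 0) → t = 0),
      ∀ (U : X.Opens) (Y : Scheme.{u}) (j : Y ⟶ (U : Scheme.{u})), IsClosedImmersion j →
        (∀ i, ∃ g : ((f i) ⁻¹ᵁ U : Scheme.{u}) ⟶ Y, g ≫ j = (f i) ∣_ U) → IsIso j,
      ∀ (X' : Scheme.{u}) (q : X' ⟶ S), IsSeparated q → ∀ (U : X.Opens) (u v : (U : Scheme.{u}) ⟶ X'),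
        u ≫ q = U.ι ≫ p → v ≫ q = U.ι ≫ p → (∀ i, ((f i) ∣_ U) ≫ u = ((f i) ∣_ U) ≫ v) → u = v].TFAE := by
  classical
  tfae_have 1 → 2 := by
    intro hb U Y j hj hfac
    haveI := hj
    rw [IsClosedImmersion.isIso_iff_ker_eq_bot]
    ext1
    funext W
    rw [Scheme.IdealSheafData.ideal_bot, Pi.bot_apply, Scheme.Hom.ker_apply, eq_bot_iff]
    intro x hx
    rw [RingHom.mem_ker] at hx
    rw [Ideal.mem_bot]
    refine hb (U.ι ''ᵁ W.1) x fun i => ?_
    obtain ⟨g, hg⟩ := hfac i
    have h1 : ((f i) ∣_ U).app W.1 x = 0 := by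
      rw [← Scheme.Hom.congr_app hg.symm W.1 |>.symm]
      simp [hx]
    rw [morphismRestrict_app] at h1
    simp only [CommRingCat.comp_apply] at h1
    exact (map_eq_zero_iff _ (ConcreteCategory.bijective_of_isIso
      ((Z i).presheaf.map (eqToHom (image_morphismRestrict_preimage (f i) U W.1)).op)).1).mp h1
  tfae_have 2 → 3 := by
    intro hc X' q hq U u v hu hv huv
    haveI := hq
    obtain ⟨w, hw1, hw2⟩ : ∃ w : (U : Scheme.{u}) ⟶ pullback q q,
        w ≫ pullback.fst q q = u ∧ w ≫ pullback.snd q q = v :=
      ⟨pullback.lift u v (hu.trans hv.symm), pullback.lift_fst _ _ _, pullback.lift_snd _ _ _⟩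
    haveI : IsIso (pullback.snd (pullback.diagonal q) w) := by
      refine hc U _ _ inferInstance fun i => ⟨pullback.lift (((f i) ∣_ U) ≫ u) ((f i) ∣_ U) ?_,
        pullback.lift_snd _ _ _⟩
      apply pullback.hom_ext
      · simp [hw1]
      · simp [hw2, huv i]
    have h := (pullback.condition (f := pullback.diagonal q) (g := w))
    have h1 := congrArg (· ≫ pullback.fst q q) h
    have h2 := congrArg (· ≫ pullback.snd q q) h
    simp [hw1, hw2] at h1 h2
    exact (cancel_epi (pullback.snd (pullback.diagonal q) w)).mp (h1.symm.trans h2)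
  tfae_have 3 → 1 := by
    intro hd V t ht
    let t' : Γ((V : Scheme.{u}), ⊤) := V.topIso.inv t
    let u := AffineSpace.homOfVector (n := PUnit.{u + 1}) (V.ι ≫ p) fun _ => t'
    let v := AffineSpace.homOfVector (n := PUnit.{u + 1}) (V.ι ≫ p) fun _ => (0 : Γ((V : Scheme.{u}), ⊤))
    have huv : u = v := hd (AffineSpace PUnit.{u + 1} S) (AffineSpace PUnit.{u + 1} S ↘ S) inferInstance V u v
      (AffineSpace.homOfVector_over _ _) (AffineSpace.homOfVector_over _ _) fun i => by
      apply AffineSpace.hom_ext
      · simp [u, v]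
      · intro k
        rw [Scheme.Hom.comp_appTop, Scheme.Hom.comp_appTop, CommRingCat.comp_apply,
          CommRingCat.comp_apply, AffineSpace.homOfVector_appTop_coord,
          AffineSpace.homOfVector_appTop_coord, map_zero, morphismRestrict_appTop]
        have key : ∀ (W : X.Opens) (hW : W = V),
            (f i).app W (X.presheaf.map (eqToHom hW).op t) = 0 := by
          intro W hW
          subst hW
          simp [ht i]
        exact (congrArg ((Z i).presheaf.map (eqToHom (image_morphismRestrict_preimage (f i) V ⊤)).op).hom (key _ V.ι_image_top)).trans (map_zero ((Z i).presheaf.map (eqToHom (image_morphismRestrict_preimage (f i) V ⊤)).op).hom)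
    have h := congrArg (fun z => z.appTop (AffineSpace.coord S PUnit.unit)) huv
    simp only [u, v, AffineSpace.homOfVector_appTop_coord] at h
    exact (map_eq_zero_iff _ (ConcreteCategory.bijective_of_isIso V.topIso.inv).1).mp h
  tfae_finish

end Groth.Agent.S4872
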