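import Groth.Statements.S4873
import Groth.Agent.H06Desc.SchDominant

set_option autoImplicit false
universe u
open CategoryTheory AlgebraicGeometry
open EGA43

namespace Groth.Agent.S4873

/-- Let (f_i : Z_i ⟶ X) be a family of morphisms. If the family is schematically dominant, i.e. a
section of O_X over an open V whose pullback to every f_i⁻¹(V) vanishes is zero, then the union of
the images f_i(Z_i) is dense in X. Conversely, if X is reduced and this union is dense, the family
is schematically dominant. -/
theorem result {X : Scheme.{u}} {ι : Type u} (Z : ι → Scheme.{u})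
    (f : ∀ i, Z i ⟶ X) :
    ((∀ (V : (X).Opens) (t : Γ(X, V)), (∀ i, (f i).app V t = 0) → t = 0) → Dense (⋃ i, Set.range (f i))) ∧
    (IsReduced X → Dense (⋃ i, Set.range (f i)) → (∀ (V : (X).Opens) (t : Γ(X, V)), (∀ i, (f i).app V t = 0) → t = 0)) := by
  exact ⟨Groth.Agent.H06Desc.dense_iUnion_range_of_injOn_sections Z f,
    fun _ hd => Groth.Agent.H06Desc.injOn_sections_of_dense Z f hd⟩

end Groth.Agent.S4873
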