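import Groth.Statements.S4874
import Groth.Agent.H06Desc.SchDominant

set_option autoImplicit false
universe u
open CategoryTheory AlgebraicGeometry
open EGA43

namespace Groth.Agent.S4874

/-- Let (f_i : Z_i ⟶ X) be a family of morphisms, g : X' ⟶ X a faithfully flat morphism and f'_i : Z_i
×_X X' ⟶ X' the base changes. If the family (f'_i) is schematically dominant, then so is the family
(f_i). (Schematically dominant: a section of the structure sheaf over an open whose pullback along
every member of the family vanishes is zero.) -/
theorem result {X X' : Scheme.{u}} {ι : Type u} (Z : ι → Scheme.{u})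
    (f : ∀ i, Z i ⟶ X) (g : X' ⟶ X) [Flat g] [Surjective g]
    (h : (∀ (V : (X').Opens) (t : Γ(X', V)), (∀ i, (Limits.pullback.snd (f i) g).app V t = 0) → t = 0)) :
    (∀ (V : (X).Opens) (t : Γ(X, V)), (∀ i, (f i).app V t = 0) → t = 0) := by
  exact Groth.Agent.H06Desc.injOn_sections_of_baseChange Z f g h

end Groth.Agent.S4874
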