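import Groth.Statements.S4875
import Groth.Agent.H06Sep.Rings
import Groth.Agent.H06Sep.Providers

set_option autoImplicit false
universe u
open CategoryTheory AlgebraicGeometry
open EGA43

namespace Groth.Agent.S4875

set_option backward.isDefEq.respectTransparency false

open Groth.Agent.H06Sep


/-- Let (f_i : Z_i ⟶ X) be a schematically dominant family of morphisms and g : X' ⟶ X a flat morphism
locally of finite presentation. Then the family of base changes f'_i : Z_i ×_X X' ⟶ X' is
schematically dominant. (No quasi-compactness of the f_i and no finiteness of the family is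
assumed.) -/
theorem result {X X' : Scheme.{u}} {ι : Type u} (Z : ι → Scheme.{u})
    (f : ∀ i, Z i ⟶ X) (g : X' ⟶ X) [Flat g] [LocallyOfFinitePresentation g]
    (h : (∀ (V : (X).Opens) (t : Γ(X, V)), (∀ i, (f i).app V t = 0) → t = 0)) :
    (∀ (V : (X').Opens) (t : Γ(X', V)), (∀ i, (Limits.pullback.snd (f i) g).app V t = 0) → t = 0) := by
  refine dominant_baseChange (f := f) (g' := fun i => Limits.pullback.fst (f i) g) h
    (fun i => IsPullback.of_hasPullback (f i) g) fun x => ?_
  obtain ⟨U, hU, hxU, -⟩ := exists_isAffineOpen_mem_and_subset (U := (⊤ : X.Opens)) (x := g x) trivial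
  obtain ⟨Q, hQ, hxQ, e⟩ := exists_isAffineOpen_mem_and_subset (U := g ⁻¹ᵁ U) (x := x) hxU
  refine ⟨U, hU, Q, hQ, e, hxQ, ?_⟩
  letI := (g.appLE U Q e).hom.toAlgebra
  haveI : Module.Flat Γ(X, U) Γ(X', Q) :=
    HasRingHomProperty.appLE @Flat g inferInstance ⟨U, hU⟩ ⟨Q, hQ⟩ e
  haveI : Algebra.FinitePresentation Γ(X, U) Γ(X', Q) :=
    HasRingHomProperty.appLE @LocallyOfFinitePresentation g inferInstance ⟨U, hU⟩ ⟨Q, hQ⟩ e
  exact sepBC_of_finitePresentation _ _

end Groth.Agent.S4875
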