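import Groth.Statements.S4877
import Groth.Agent.H06Sep.RingsFibre

set_option autoImplicit false
universe u
open CategoryTheory AlgebraicGeometry
open EGA43

namespace Groth.Agent.S4877

set_option backward.isDefEq.respectTransparency false

open Groth.Agent.H06Sep


/-- Let k be a field, X a k-scheme, (f_i : Z_i ⟶ X) a schematically dominant family of morphisms and S'
an arbitrary k-scheme. Then the family of base changes Z_i ×_k S' ⟶ X ×_k S' is schematically
dominant. (Schematically dominant: a section of the structure sheaf over an open whose pullback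
along every member vanishes is zero.) -/
theorem result {k : Type u} [Field k] {X S' : Scheme.{u}}
    (p : X ⟶ Spec (CommRingCat.of k)) (q : S' ⟶ Spec (CommRingCat.of k))
    {ι : Type u} (Z : ι → Scheme.{u}) (f : ∀ i, Z i ⟶ X)
    (h : (∀ (V : (X).Opens) (t : Γ(X, V)), (∀ i, (f i).app V t = 0) → t = 0)) :
    (∀ (V : (Limits.pullback p q).Opens) (t : Γ(Limits.pullback p q, V)), (∀ i, (Limits.pullback.map (f i ≫ p) q p q (f i) (𝟙 S') (𝟙 _) (Category.comp_id _) ((Category.comp_id _).trans (Category.id_comp _).symm)).app V t = 0) → t = 0) := by
  exact dominant_field p (IsPullback.of_hasPullback p q) (g' := fun i => Limits.pullback.fst (f i ≫ p) q)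
    (fun i => isPullback_member (IsPullback.of_hasPullback p q) (IsPullback.of_hasPullback (f i ≫ p) q)
      (Limits.pullback.lift_fst _ _ _).symm ((Limits.pullback.lift_snd _ _ _).trans (Category.comp_id _))) h

end Groth.Agent.S4877
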