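import Groth.Statements.S4881
import Groth.Agent.H8Props.FieldDimScheme
import Groth.Agent.H22Alg.RatFunBasic
import Groth.Agent.H8Props.FieldDimFibre

set_option autoImplicit false
universe u
open CategoryTheory AlgebraicGeometry
open EGA43

namespace Groth.Agent.S4881

open Groth.Agent

/-- Let X be a locally Noetherian scheme which is Jacobson, whose local rings are universally catenary,
and whose irreducible components X' are equidimensional in the sense that for every closed point x
of X' the dimension of X' equals the dimension of the set of generizations of x in X'. Then for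
every dense open subset U of X, dim U = dim X. -/
theorem result (X : Scheme.{u}) [IsLocallyNoetherian X] [JacobsonSpace X]
    (h2 : ∀ x : X, CAlg.IsUniversallyCatenary (X.presheaf.stalk x))
    (h3 : ∀ X' ∈ irreducibleComponents (X : Type u), ∀ x ∈ X', IsClosed ({x} : Set X) →
      topologicalKrullDim (↥X' : Type u) = topologicalKrullDim ↥{t : X | t ∈ X' ∧ t ⤳ x})
    (U : Set X) (hU : IsOpen U) (hd : Dense U) :
    topologicalKrullDim ↥U = topologicalKrullDim X := by
  refine le_antisymm (topologicalKrullDim_subspace_le X U) ?_
  rw [H8Props.FieldDim.dim_eq_iSup_cdim]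
  refine iSup_le fun x => ?_
  obtain ⟨η, hηx, hη⟩ := H8Props.FieldDim.exists_component_generization x
  have hcl : closure ({η} : Set X) ∈ irreducibleComponents (X : Type u) := hη
  have hηU : η ∈ U := H8Props.genericPoints_subset_of_dense hU hd hη
  obtain ⟨c, ⟨hcX, hcU⟩, hc⟩ := nonempty_inter_closedPoints (Z := closure ({η} : Set X) ∩ U)
    ⟨η, subset_closure rfl, hηU⟩ (isClosed_closure.isLocallyClosed.inter hU.isLocallyClosed)
  refine le_trans (H8Props.FieldDim.dim_mono (closure_minimal
    (Set.singleton_subset_iff.mpr hηx.mem_closure) isClosed_closure)) ?_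
  rw [h3 _ hcl c hcX hc]
  exact H8Props.FieldDim.dim_mono fun t ht => ht.2.mem_open hU hcU

end Groth.Agent.S4881
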