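import Groth.Statements.S4882
import Groth.Agent.H06Topo.QuasiHomeo

set_option autoImplicit false
universe u
open EGA43

namespace Groth.Agent.S4882

open Groth.Agent.H06Topo

/-- Let X be a Jacobson space and Z a locally quasi-constructible subset of X, i.e. every point of X has
an open neighbourhood U such that U ∩ Z is a finite union of locally closed subsets of X. Then the
subspace Z is a Jacobson space, and a point of Z is closed in Z if and only if it is closed in X. -/
theorem result {X : Type u} [TopologicalSpace X] [JacobsonSpace X]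
    (Z : Set X)
    (hZ : ∀ x : X, ∃ U : Set X, IsOpen U ∧ x ∈ U ∧
      ∃ T : Set (Set X), T.Finite ∧ (∀ t ∈ T, IsLocallyClosed t) ∧ U ∩ Z = ⋃₀ T) :
    JacobsonSpace ↥Z ∧ ∀ z : ↥Z, IsClosed ({z} : Set ↥Z) ↔ IsClosed ({(z : X)} : Set X) := by
  have hvd : IsVD (closedPoints X) := fun S hS hne =>
    jacobsonSpace_iff_locallyClosed.mp inferInstance S hne hS
  have key : ∀ z : ↥Z, IsClosed ({z} : Set ↥Z) ↔ IsClosed ({(z : X)} : Set X) := by
    intro z
    constructor
    · intro hz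
      obtain ⟨F, hF, hFz⟩ := isClosed_induced_iff.mp hz
      obtain ⟨y, ⟨hyF, hyZ⟩, hy⟩ := hvd.lqc ((IsQC.of_closed hF).isLQC.inter hZ)
        ⟨z.1, (Set.ext_iff.mp hFz z).mpr rfl, z.2⟩
      have h1 : (⟨y, hyZ⟩ : ↥Z) = z := (Set.ext_iff.mp hFz ⟨y, hyZ⟩).mp hyF
      rw [← h1]
      exact hy
    · intro hz
      have := hz.preimage (continuous_subtype_val : Continuous (Subtype.val : ↥Z → X))
      convert this using 1
      ext w
      simp [Subtype.ext_iff]
  refine ⟨jacobsonSpace_iff_locallyClosed.mpr fun S hne hS => ?_, key⟩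
  obtain ⟨S', hS', rfl⟩ := Topology.IsInducing.subtypeVal.isLocallyClosed_iff.mp hS
  obtain ⟨z, hz⟩ := hne
  obtain ⟨y, ⟨hy1, hy2⟩, hy⟩ := hvd.lqc ((IsQC.of_lc hS').isLQC.inter hZ) ⟨z.1, hz, z.2⟩
  exact ⟨⟨y, hy2⟩, hy1, (key ⟨y, hy2⟩).mpr hy⟩

end Groth.Agent.S4882
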