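import Groth.Statements.S4884
import Groth.Agent.H06EGA12.GeomNormalUnibranch

set_option autoImplicit false
universe u
open CategoryTheory AlgebraicGeometry
open EGA43

namespace Groth.Agent.S4884

open Groth.Agent TopologicalSpace
set_option backward.isDefEq.respectTransparency false
set_option linter.style.haveILetI false

/-- Let f : X ⟶ Y be locally of finite presentation and x a point of X with y = f x. If O_{Y,y} is
geometrically unibranch and f is normal at x — that is, f is flat at x and the fibre X_y is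
geometrically normal at x: for every finite field extension K of k(y), the local rings of X_y
⊗_{k(y)} K at the points above x are integrally closed domains — then O_{X,x} is geometrically
unibranch. -/
theorem result {X Y : Scheme.{u}} (f : X ⟶ Y) [LocallyOfFinitePresentation f]
    (x : X) (hY : CAlg2.IsGeomUnibranch ↑(Y.presheaf.stalk (f x))) (hflat : (f.stalkMap x).hom.Flat)
    (hnorm : ∀ (K : Type u) [Field K] [Algebra (IsLocalRing.ResidueField ↑(Y.presheaf.stalk (f x))) K],
      Module.Finite (IsLocalRing.ResidueField ↑(Y.presheaf.stalk (f x))) K →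
      ∀ x' : ↥(FBase.bc (f.fiberToSpecResidueField (f x)) K),
        FBase.bcπ (f.fiberToSpecResidueField (f x)) K x' = f.asFiber x →
        IsDomain ↑((FBase.bc (f.fiberToSpecResidueField (f x)) K).presheaf.stalk x') ∧
          IsIntegrallyClosed ↑((FBase.bc (f.fiberToSpecResidueField (f x)) K).presheaf.stalk x')) :
    CAlg2.IsGeomUnibranch ↑(X.presheaf.stalk x) := by
  obtain ⟨V, hV, hxV, -⟩ := Opens.isBasis_iff_nbhd.mp Y.isBasis_affineOpens
    (show f x ∈ (⊤ : Y.Opens) from trivial)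
  let W : X.Opens := ⟨{x | FlatMod.IsFlatOverAt f (Coh.structureModule X) x},
    H8Props.FlatLocus.isOpen_setOf_isFlatOverAt f _ H06EGA9.isFP_structureModule⟩
  have hW : ∀ z, z ∈ W ↔ (f.stalkMap z).hom.Flat := fun z => H06EGA9.isFlatOverAt_structureModule_iff f z
  obtain ⟨U, hU, hxU, hUV⟩ := Opens.isBasis_iff_nbhd.mp X.isBasis_affineOpens
    (show x ∈ (f ⁻¹ᵁ V ⊓ W : X.Opens) from ⟨hxV, (hW x).2 hflat⟩)
  have e : U ≤ f ⁻¹ᵁ V := fun z hz => (hUV hz).1
  let φ := f.appLE V U e
  letI : Algebra Γ(Y, V) Γ(X, U) := φ.hom.toAlgebra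
  haveI : Algebra.FinitePresentation Γ(Y, V) Γ(X, U) :=
    Scheme.Hom.finitePresentation_appLE f hV hU e
  let g := Spec.map φ
  have hab : hU.fromSpec ≫ f = g ≫ hV.fromSpec := (hV.SpecMap_appLE_fromSpec f hU e).symm
  haveI : Flat g := by
    rw [Flat.iff_flat_stalkMap]
    intro z
    have hz : hU.fromSpec z ∈ W := (hUV (hU.range_fromSpec ▸ ⟨z, rfl⟩ : hU.fromSpec z ∈ (U : Set X))).2
    have h1 : ((hU.fromSpec ≫ f).stalkMap z).hom.Flat := by
      rw [Scheme.Hom.stalkMap_comp]
      exact RingHom.Flat.comp ((hW _).1 hz) (Flat.stalkMap hU.fromSpec z)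
    have h2 : ((g ≫ hV.fromSpec).stalkMap z).hom.Flat := by rwa [← hab]
    rw [Scheme.Hom.stalkMap_comp] at h2
    haveI : IsIso (hV.fromSpec.stalkMap (g z)) := inferInstance
    have h3 : g.stalkMap z = inv (hV.fromSpec.stalkMap (g z)) ≫ (hV.fromSpec.stalkMap (g z) ≫ g.stalkMap z) := by
      simp
    rw [h3]
    exact RingHom.Flat.comp (RingHom.Flat.of_bijective (ConcreteCategory.bijective_of_isIso _)) h2
  haveI : Module.Flat Γ(Y, V) Γ(X, U) :=
    RingHom.flat_algebraMap_iff.mp ((HasRingHomProperty.Spec_iff (P := @Flat) (φ := φ)).mp ‹Flat g›)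
  let q : Spec Γ(X, U) := hU.primeIdealOf ⟨x, hxU⟩
  have hq : hU.fromSpec q = x := hU.fromSpec_primeIdealOf ⟨x, hxU⟩
  have hGN : H06EGA12.GN Γ(Y, V) Γ(X, U) (PrimeSpectrum.asIdeal q) := by
    refine (H06EGA12.mem_normalLocus_chart_iff f hU.fromSpec hV.fromSpec hab q).1 ?_
    rw [hq]
    exact (H06EGA12.mem_normalLocus_iff f x).2 hnorm
  let p : Spec Γ(Y, V) := g q
  have hp : hV.fromSpec p = f x := by
    rw [← hq]
    exact (congrArg (fun m => m q) hab).symm
  have key : ∀ {R : CommRingCat.{u}} {Z : Scheme.{u}} (j : Spec R ⟶ Z) [IsOpenImmersion j] (Q : Spec R),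
      Nonempty (Z.presheaf.stalk (j Q) ≃+* Localization.AtPrime (PrimeSpectrum.asIdeal Q)) := by
    intro R Z j _ Q
    letI : Algebra R ((Spec R).presheaf.stalk Q) := StructureSheaf.stalkAlgebra R Q
    haveI : IsLocalization.AtPrime ((Spec R).presheaf.stalk Q) (PrimeSpectrum.asIdeal Q) :=
      StructureSheaf.IsLocalization.to_stalk R Q
    exact ⟨(asIso (j.stalkMap Q)).commRingCatIsoToRingEquiv.trans
      (IsLocalization.algEquiv (PrimeSpectrum.asIdeal Q).primeCompl ((Spec R).presheaf.stalk Q)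
        (Localization.AtPrime (PrimeSpectrum.asIdeal Q))).toRingEquiv⟩
  obtain ⟨eY⟩ := key hV.fromSpec p
  obtain ⟨eX⟩ := key hU.fromSpec q
  let eY' : Y.presheaf.stalk (f x) ≃+* Y.presheaf.stalk (hV.fromSpec p) :=
    (Y.presheaf.stalkCongr (.of_eq hp.symm)).commRingCatIsoToRingEquiv
  let eX' : X.presheaf.stalk (hU.fromSpec q) ≃+* X.presheaf.stalk x :=
    (X.presheaf.stalkCongr (.of_eq hq)).commRingCatIsoToRingEquiv
  have hA : CAlg2.IsGeomUnibranch (Localization.AtPrime ((PrimeSpectrum.asIdeal q).under Γ(Y, V))) :=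
    H06EGA14.isGeomUnibranch_of_ringEquiv (eY'.trans eY) hY
  have hC := H06EGA12.geomUnibranch_of_GN (PrimeSpectrum.asIdeal q) hGN hA
  exact H06EGA14.isGeomUnibranch_of_ringEquiv (eX.symm.trans eX') hC

end Groth.Agent.S4884
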