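import Groth.Statements.S4885
import Mathlib


set_option autoImplicit false
universe u
open EGA43

namespace Groth.Agent.S4885

/-- Every finite algebra A' over a commutative ring A is a directed colimit (filtered inductive limit)
of A-algebras which are finite and of finite presentation over A. -/
theorem result (A A' : Type u) [CommRing A] [CommRing A']
    [Algebra A A'] [Module.Finite A A'] :
    ∃ (ι : Type u) (_ : Preorder ι) (G : ι → Type u) (_ : ∀ i, CommRing (G i)) (_ : ∀ i, Algebra A (G i))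
      (g : ∀ i j, i ≤ j → G i →ₐ[A] G j) (_ : ∀ i, Algebra (G i) A') (_ : ∀ i, IsScalarTower A (G i) A'),
      FlatCA.IsDirectedColimitRing G (fun i j h => (g i j h).toRingHom) A' ∧
        ∀ i, Module.Finite A (G i) ∧ Algebra.FinitePresentation A (G i) := by
  classical
  obtain ⟨n, s, hs⟩ := Module.Finite.exists_fin (R := A) (M := A')
  have hint : ∀ i, IsIntegral A (s i) := fun i => IsIntegral.of_finite A (s i)
  choose p hp hp' using hint
  let F : Set (MvPolynomial (Fin n) A) := Set.range fun i => Polynomial.aeval (MvPolynomial.X i) (p i)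
  let P := MvPolynomial (Fin n) A ⧸ Ideal.span F
  have hF : (Ideal.span F).FG := Submodule.fg_span (Set.finite_range _)
  haveI : Algebra.FinitePresentation A P := Algebra.FinitePresentation.quotient hF
  let x : Fin n → P := fun i => Ideal.Quotient.mk _ (MvPolynomial.X i)
  haveI : Algebra.IsIntegral A P := by
    constructor
    intro z
    obtain ⟨q, rfl⟩ := Ideal.Quotient.mk_surjective z
    have : (Ideal.Quotient.mkₐ A (Ideal.span F)) q ∈ integralClosure A P := by
      induction q using MvPolynomial.induction_on with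
      | C a => exact isIntegral_algebraMap
      | add q r hq hr => rw [map_add]; exact add_mem hq hr
      | mul_X q i hq =>
        rw [map_mul]
        refine mul_mem hq ⟨p i, hp i, ?_⟩
        rw [← Polynomial.aeval_def, Polynomial.aeval_algHom_apply]
        exact Ideal.Quotient.eq_zero_iff_mem.mpr (Ideal.subset_span ⟨i, rfl⟩)
    exact this
  haveI : Module.Finite A P := Algebra.IsIntegral.finite
  let φ : P →ₐ[A] A' := Ideal.Quotient.liftₐ _ (MvPolynomial.aeval s) fun q hq => by
    rw [← RingHom.mem_ker]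
    refine Ideal.span_le.mpr ?_ hq
    rintro _ ⟨i, rfl⟩
    rw [SetLike.mem_coe, RingHom.mem_ker, ← Polynomial.aeval_algHom_apply, MvPolynomial.aeval_X]
    exact hp' i
  have hφ : Function.Surjective φ := by
    intro a
    have hle : Submodule.span A (Set.range s) ≤ Subalgebra.toSubmodule φ.range := by
      refine Submodule.span_le.mpr ?_
      rintro _ ⟨i, rfl⟩
      exact ⟨x i, MvPolynomial.aeval_X s i⟩
    exact hle (hs ▸ Submodule.mem_top)
  let J : Ideal P := RingHom.ker φ
  let ι := {I : Ideal P // I.FG ∧ I ≤ J}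
  let ψ : ∀ i : ι, P ⧸ i.1 →ₐ[A] A' := fun i =>
    Ideal.Quotient.liftₐ i.1 φ fun z hz => RingHom.mem_ker.mp (i.2.2 hz)
  letI halg : ∀ i : ι, Algebra (P ⧸ i.1) A' := fun i => (ψ i).toRingHom.toAlgebra
  refine ⟨ι, inferInstance, fun i => P ⧸ i.1, fun i => inferInstance, fun i => inferInstance,
    fun i j h => Ideal.Quotient.factorₐ A h,
    halg,
    fun i => @IsScalarTower.of_algebraMap_eq A (P ⧸ i.1) A' _ _ _ _ (halg i) _
      fun a => ((ψ i).commutes a).symm,
    ⟨?_, ⟨⟨⊥, Submodule.fg_bot, bot_le⟩⟩, ?_, ?_, ?_, ?_, ?_⟩, ?_⟩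
  · exact ⟨fun i j => ⟨⟨i.1 ⊔ j.1, Submodule.FG.sup i.2.1 j.2.1, sup_le i.2.2 j.2.2⟩,
      show i.1 ≤ _ from le_sup_left, show j.1 ≤ _ from le_sup_right⟩⟩
  · intro i
    refine RingHom.ext fun z => ?_
    obtain ⟨z, rfl⟩ := Ideal.Quotient.mk_surjective z
    rfl
  · intro i j k hij hjk
    refine RingHom.ext fun z => ?_
    obtain ⟨z, rfl⟩ := Ideal.Quotient.mk_surjective z
    rfl
  · intro i j h
    refine RingHom.ext fun z => ?_
    obtain ⟨z, rfl⟩ := Ideal.Quotient.mk_surjective z
    rfl
  · intro a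
    obtain ⟨z, rfl⟩ := hφ a
    exact ⟨⟨⊥, Submodule.fg_bot, bot_le⟩, Ideal.Quotient.mk _ z, rfl⟩
  · intro i z hz
    obtain ⟨z, rfl⟩ := Ideal.Quotient.mk_surjective z
    have hzJ : z ∈ J := hz
    refine ⟨⟨i.1 ⊔ Ideal.span {z}, Submodule.FG.sup i.2.1 (Submodule.fg_span_singleton z),
      sup_le i.2.2 ((Ideal.span_singleton_le_iff_mem _).mpr hzJ)⟩, show i.1 ≤ _ from le_sup_left, ?_⟩
    exact Ideal.Quotient.eq_zero_iff_mem.mpr (Ideal.mem_sup_right (Ideal.mem_span_singleton_self z))
  · intro i
    exact ⟨Module.Finite.of_surjective (Ideal.Quotient.mkₐ A i.1).toLinearMap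
      Ideal.Quotient.mk_surjective, Algebra.FinitePresentation.quotient i.2.1⟩

end Groth.Agent.S4885
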