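import Groth.Statements.S4886
import Groth.Agent.H27Zeta.ClosedPoints
import Groth.Agent.H29Blow.PointsOfAffine

set_option autoImplicit false
universe u
open CategoryTheory AlgebraicGeometry
open EGA43

open Groth.Agent

namespace Groth.Agent.S4886

theorem finiteType_int {Y : Scheme.{u}} [LocallyOfFiniteType (Limits.IsTerminal.from specULiftZIsTerminal Y)]
    {V : Y.Opens} (hV : IsAffineOpen V) : Algebra.FiniteType ℤ Γ(Y, V) := by
  have h : LocallyOfFiniteType (hV.fromSpec ≫ Limits.IsTerminal.from specULiftZIsTerminal Y) := inferInstance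
  rw [← Spec.map_preimage (hV.fromSpec ≫ Limits.IsTerminal.from specULiftZIsTerminal Y)] at h
  have h1 := (HasRingHomProperty.Spec_iff (P := @LocallyOfFiniteType)).mp h
  have h2 := h1.comp (RingHom.FiniteType.of_surjective (ULift.ringEquiv (R := ℤ)).symm.toRingHom
    (ULift.ringEquiv (R := ℤ)).symm.surjective)
  rw [← RingHom.finiteType_algebraMap]
  convert h2
  exact RingHom.ext_int _ _

theorem finite_hom (A F : Type*) [CommRing A] [Algebra.FiniteType ℤ A] [Field F] [Finite F] : Finite (A →+* F) := by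
  obtain ⟨s, hs⟩ := (‹Algebra.FiniteType ℤ A›).out
  refine Finite.of_injective (fun (φ : A →+* F) (x : s) => φ x.1) fun φ ψ h => ?_
  have h2 : φ.toIntAlgHom = ψ.toIntAlgHom := AlgHom.ext_of_adjoin_eq_top hs fun x hx => congrFun h ⟨x, hx⟩
  exact RingHom.ext fun x => AlgHom.congr_fun h2 x

theorem isClosed_of_finite {Y : Scheme.{u}} (y : Y) [Finite (Y.residueField y)] : IsClosed ({y} : Set Y) := by
  refine isClosed_of_closure_subset fun z hz => ?_
  have hyz : y ⤳ z := specializes_iff_mem_closure.mpr hz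
  obtain ⟨V, hV, hzV, -⟩ := exists_isAffineOpen_mem_and_subset (X := Y) (x := z) (U := ⊤) trivial
  have hyV : y ∈ V := hyz.mem_open V.2 hzV
  let q := hV.primeIdealOf ⟨y, hyV⟩
  let r := hV.primeIdealOf ⟨z, hzV⟩
  have hqr : q.asIdeal ≤ r.asIdeal := (H29Blow.primeIdealOf_le_iff hV ⟨y, hyV⟩ ⟨z, hzV⟩).mpr hyz
  let e := (Y.presheaf.germ V y hyV ≫ Y.residue y).hom
  have hq : RingHom.ker e = q.asIdeal := by
    ext a
    rw [RingHom.mem_ker, ← not_iff_not]
    show ¬ (Y.evaluation V y hyV a = 0) ↔ _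
    rw [← ne_eq, Scheme.evaluation_ne_zero_iff_mem_basicOpen]
    rw [show a ∉ q.asIdeal ↔ q ∈ PrimeSpectrum.basicOpen a from Iff.rfl, ← hV.fromSpec_preimage_basicOpen a]
    show _ ↔ hV.fromSpec q ∈ Y.basicOpen a
    rw [hV.fromSpec_primeIdealOf ⟨y, hyV⟩]
  haveI : q.asIdeal.IsMaximal := by
    rw [← hq]
    haveI : Finite e.range := inferInstance
    have hf : IsField e.range := Finite.isField_of_domain e.range
    letI := hf.toField
    rw [← RingHom.ker_rangeRestrict]
    exact RingHom.ker_isMaximal_of_surjective _ e.rangeRestrict_surjective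
  have h : q = r := PrimeSpectrum.ext (‹q.asIdeal.IsMaximal›.eq_of_le r.2.ne_top hqr)
  show z = y
  exact ((hV.fromSpec_primeIdealOf ⟨z, hzV⟩).symm.trans (congrArg hV.fromSpec h.symm)).trans
    (hV.fromSpec_primeIdealOf ⟨y, hyV⟩)

theorem finite_points {Y : Scheme.{u}} [CompactSpace Y]
    [LocallyOfFiniteType (Limits.IsTerminal.from specULiftZIsTerminal Y)] (F : Type u) [Field F] [Finite F] :
    {y : Y | Nonempty (↑(Y.residueField y) →+* F)}.Finite := by
  obtain ⟨s, hcov⟩ := (isCompact_univ (X := Y)).elim_finite_subcover (fun V : Y.affineOpens => (V.1 : Set Y))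
    (fun V => V.1.2) (fun y _ => by
      obtain ⟨U, hU, hyU, -⟩ := exists_isAffineOpen_mem_and_subset (X := Y) (x := y) (U := ⊤) trivial
      exact Set.mem_iUnion.mpr ⟨⟨U, hU⟩, hyU⟩)
  haveI : ∀ V : s, Finite (Γ(Y, V.1.1) →+* F) := fun V => by
    haveI := finiteType_int V.1.2
    exact finite_hom _ _
  let G : (Σ V : s, (Γ(Y, V.1.1) →+* F)) → Y := fun x =>
    x.1.1.2.fromSpec (Spec.map (CommRingCat.ofHom x.2) (IsLocalRing.closedPoint F))
  refine (Set.finite_range G).subset fun y ⟨θ⟩ => ?_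
  obtain ⟨V, hVs, hyV⟩ := Set.mem_iUnion₂.mp (hcov (Set.mem_univ y))
  refine ⟨⟨⟨V, hVs⟩, θ.comp (Y.presheaf.germ V.1 y hyV ≫ Y.residue y).hom⟩, ?_⟩
  show V.2.fromSpec (Spec.map (CommRingCat.ofHom (θ.comp (Y.presheaf.germ V.1 y hyV ≫ Y.residue y).hom))
    (IsLocalRing.closedPoint F)) = y
  rw [CommRingCat.ofHom_comp, CommRingCat.ofHom_hom, Spec.map_comp, Spec.map_comp]
  have h1 : V.2.fromSpec (Spec.map (Y.presheaf.germ V.1 y hyV) (Spec.map (Y.residue y)
      (Spec.map (CommRingCat.ofHom θ) (IsLocalRing.closedPoint F)))) = y := by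
    rw [← Scheme.Hom.comp_apply, show Spec.map (Y.presheaf.germ V.1 y hyV) ≫ V.2.fromSpec = Y.fromSpecStalk y from
      V.2.fromSpecStalk_eq_fromSpecStalk hyV]
    exact Y.fromSpecResidueField_apply y _
  exact h1

/-- Let Y be a scheme of finite type over ℤ. (i) A point y of Y is closed if and only if the residue
field k(y) is finite. (ii) For every prime number p and every integer d ≥ 1, the set of points y of
Y such that k(y) is an extension of 𝔽_p of degree dividing d, i.e. admits a ring homomorphism into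
the field with p^d elements, is finite. -/
theorem result (Y : Scheme.{u}) [CompactSpace Y]
    [LocallyOfFiniteType (Limits.IsTerminal.from specULiftZIsTerminal Y)] :
    (∀ y : Y, IsClosed ({y} : Set Y) ↔ Finite ↑(Y.residueField y)) ∧
    ∀ (p d : ℕ) [Fact p.Prime], 0 < d →
      {y : Y | Nonempty (↑(Y.residueField y) →+* GaloisField p d)}.Finite := by
  haveI : LocallyOfFiniteType (Limits.IsTerminal.from specULiftZIsTerminal Y) := inferInstance
  refine ⟨fun y => ⟨fun h => H27Zeta.finite_residueField_of_isClosed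
    (Limits.IsTerminal.from specULiftZIsTerminal Y) h, fun h => isClosed_of_finite y⟩, fun p d _ hd => ?_⟩
  haveI : Finite (GaloisField p d) := inferInstance
  refine (finite_points (ULift.{u} (GaloisField p d))).subset fun y ⟨θ⟩ => ?_
  exact ⟨ULift.ringEquiv.symm.toRingHom.comp θ⟩

end Groth.Agent.S4886
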