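import Groth.Statements.S4888
import Groth.Agent.H06EGA10.LocalDim

set_option autoImplicit false
universe u
open CategoryTheory AlgebraicGeometry
open EGA43

namespace Groth.Agent.S4888

/-- Let X be a locally Noetherian Jacobson scheme whose local rings are universally catenary and whose
irreducible components are equidimensional (for every irreducible component X' and closed point x of
X', dim X' equals the dimension of the space of generizations of x in X'); let Y be a closed subset
of X and x a point of Y. Then dim_x(Y) = dim(U ∩ Y) = dim cl{x} + codim(cl{x}, Y) = sup_i dim(Y_i);
that is, the local dimension of Y at x equals the dimension of the closure of x plus the codimension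
of that closure in Y (the Krull dimension of the space of generizations of x in Y), equals the
supremum of the dimensions of the irreducible components Y_i of Y through x, and equals dim(U ∩ Y)
for every open neighbourhood U of x meeting no irreducible component of Y that avoids x. (The
published statement assumes only the Jacobson and universally-catenary conditions; its proof applies
the dimension formula for dense opens to the irreducible components, which needs their
equidimensionality, and for an irreducible Noetherian Jacobson scheme with universally catenary
local rings having two closed points with local rings of different dimensions n − 1 and n — such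
schemes exist — the two sides differ at the first of these points; so equidimensionality of the
components is assumed here.) -/
theorem result (X : Scheme.{u}) [IsLocallyNoetherian X] [JacobsonSpace X]
    (h2 : ∀ x : X, CAlg.IsUniversallyCatenary (X.presheaf.stalk x))
    (h3 : ∀ X' ∈ irreducibleComponents (X : Type u), ∀ x ∈ X', IsClosed ({x} : Set X) →
      topologicalKrullDim (↥X' : Type u) = topologicalKrullDim ↥{t : X | t ∈ X' ∧ t ⤳ x})
    (Y : Set X) (hY : IsClosed Y) (x : X) (hx : x ∈ Y) :
    FlatMor.localDim ↥Y ⟨x, hx⟩ =
        topologicalKrullDim ↥(closure ({x} : Set X)) + topologicalKrullDim ↥{t : X | t ∈ Y ∧ t ⤳ x} ∧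
      FlatMor.localDim ↥Y ⟨x, hx⟩ =
        ⨆ C ∈ {C : Set ↥Y | C ∈ irreducibleComponents ↥Y ∧ (⟨x, hx⟩ : ↥Y) ∈ C}, topologicalKrullDim ↥C ∧
      ∀ U : Set X, IsOpen U → x ∈ U →
        (∀ C ∈ irreducibleComponents ↥Y, (⟨x, hx⟩ : ↥Y) ∉ C → Disjoint (Subtype.val ⁻¹' U) C) →
        topologicalKrullDim ↥(U ∩ Y) = FlatMor.localDim ↥Y ⟨x, hx⟩ := by
  exact Groth.Agent.H06EGA10.IsGood.localDim_closed ⟨h2, h3⟩ Y hY x hx

end Groth.Agent.S4888
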