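import Groth.Statements.S4897
import Groth.Agent.H06Topo.QuasiHomeo

set_option autoImplicit false
universe u
open EGA43

namespace Groth.Agent.S4897

open Groth.Agent.H06Topo

/-- Let f : X → Y be a quasi-homeomorphism, i.e. a continuous map such that U ↦ f⁻¹(U) is a bijection
from the open subsets of Y onto the open subsets of X. Then Z ↦ f⁻¹(Z) induces bijections from the
locally closed (resp. constructible, resp. locally constructible) subsets of Y onto those of X. -/
theorem result {X Y : Type u}
    [TopologicalSpace X] [TopologicalSpace Y] (f : X → Y) (hf : Continuous f)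
    (hq : Function.Bijective (fun U : TopologicalSpace.Opens Y =>
      (⟨f ⁻¹' (U : Set Y), U.isOpen.preimage hf⟩ : TopologicalSpace.Opens X))) :
    Function.Bijective (fun Z : {Z : Set Y // IsLocallyClosed Z} =>
        (⟨f ⁻¹' Z.1, Z.2.preimage hf⟩ : {Z : Set X // IsLocallyClosed Z})) ∧
      Set.BijOn (fun Z : Set Y => f ⁻¹' Z) {Z | Topology.IsConstructible Z} {Z | Topology.IsConstructible Z} ∧
      Set.BijOn (fun Z : Set Y => f ⁻¹' Z) {Z | Topology.IsLocallyConstructible Z}
        {Z | Topology.IsLocallyConstructible Z} := by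
  have h := QH.of_bijective hf hq
  refine ⟨⟨fun Z Z' he => Subtype.ext (h.inj (IsQC.of_lc Z.2).isLQC (IsQC.of_lc Z'.2).isLQC
      (congrArg Subtype.val he)), fun Z => ?_⟩, ⟨fun Z hZ => h.constructible_preimage hZ, ?_, ?_⟩,
    ⟨fun Z hZ => (h.lconstructible_iff (isLQC_of_isLocallyConstructible hZ)).mp hZ, ?_, ?_⟩⟩
  · obtain ⟨s, hs, hse⟩ := h.isInducing.isLocallyClosed_iff.mp Z.2
    exact ⟨⟨s, hs⟩, Subtype.ext hse⟩
  · intro Z hZ Z' hZ' he
    exact h.inj (isQC_of_isConstructible hZ).isLQC (isQC_of_isConstructible hZ').isLQC he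
  · intro Z hZ
    exact h.constructible_surj hZ
  · intro Z hZ Z' hZ' he
    exact h.inj (isLQC_of_isLocallyConstructible hZ) (isLQC_of_isLocallyConstructible hZ') he
  · intro Z hZ
    exact h.lconstructible_surj hZ

end Groth.Agent.S4897
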