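import Groth.Statements.S4898
import Groth.Agent.H06EGA11b.GenFlattenScheme

set_option autoImplicit false
universe u
open CategoryTheory AlgebraicGeometry
open EGA43

namespace Groth.Agent.S4898

set_option backward.isDefEq.respectTransparency false

open CategoryTheory.Limits in
/-- Over an affine irreducible base, tested on affine base changes, to which the general statement
reduces: let A be a commutative ring whose spectrum is irreducible, f : X ⟶ Spec A a morphism of
finite presentation and F a quasi-coherent O_X-module of finite presentation. Then there are an
element h of A which is not nilpotent (so that U = Spec A_h is a nonempty open subset of Spec A) and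
a finitely generated ideal J of A_h contained in the nilradical (so that the closed subscheme Z =
V(J) of U, of finite presentation over U, has the same underlying space as U) such that for every
A_h-algebra A' the pullback of F to X ×_{Spec A} Spec A' is flat over Spec A' if and only if J
generates the zero ideal of A', i.e. if and only if Spec A' ⟶ U factors through Z. (The published
statement also asserts that, for a finite affine open cover (W_i) of X, U can be chosen so that the
sections of the pullback of F over each W_i ×_{Spec A} Spec A' form a free A'-module whenever Spec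
A' ⟶ U factors through Z; this row omits that assertion.) -/
theorem result {A : Type u} [CommRing A] [IrreducibleSpace (PrimeSpectrum A)]
    {X : Scheme.{u}} (f : X ⟶ Spec (CommRingCat.of A))
    [LocallyOfFinitePresentation f] [QuasiCompact f] [QuasiSeparated f]
    (F : X.Modules) [Coh.IsQCoh F] (hF : CohB1.IsFP F) :
    ∃ (h : A) (_ : ¬ IsNilpotent h) (J : Ideal (Localization.Away h)) (_ : J.FG)
      (_ : J ≤ nilradical (Localization.Away h)),
      ∀ (A' : Type u) [CommRing A'] [Algebra (Localization.Away h) A'],
        letI g : Spec (CommRingCat.of A') ⟶ Spec (CommRingCat.of A) :=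
          Spec.map (CommRingCat.ofHom ((algebraMap (Localization.Away h) A').comp (algebraMap A (Localization.Away h))))
        (FlatMod.IsFlatOver (pullback.snd f g) ((Scheme.Modules.pullback (pullback.fst f g)).obj F) ↔
          Ideal.map (algebraMap (Localization.Away h) A') J = ⊥) := by
  classical
  let e : Γ(Spec (CommRingCat.of A), ⊤) ≃+* A := (Scheme.ΓSpecIso (CommRingCat.of A)).commRingCatIsoToRingEquiv
  haveI : IrreducibleSpace (PrimeSpectrum Γ(Spec (CommRingCat.of A), ⊤)) :=
    (PrimeSpectrum.homeomorphOfRingEquiv e).irreducibleSpace_iff.mpr inferInstance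
  obtain ⟨h₁, c, hh, hfg, hle, hc⟩ := H06EGA11b.GenFlattenScheme.exists_flattening f F ‹_› hF
  refine ⟨e h₁, fun hn => hh ((IsNilpotent.map_iff e.injective).mp hn),
    (c.map e.toRingHom).map (algebraMap A (Localization.Away (e h₁))), (hfg.map _).map _, ?_, fun A' _ _ => ?_⟩
  · refine Ideal.map_le_iff_le_comap.mpr (Ideal.map_le_iff_le_comap.mpr fun x hx => ?_)
    exact mem_nilradical.mpr (((mem_nilradical.mp (hle hx)).map _).map _)
  let φ : A →+* A' := (algebraMap (Localization.Away (e h₁)) A').comp (algebraMap A (Localization.Away (e h₁)))
  let e' : Γ(Spec (CommRingCat.of A'), ⊤) ≃+* A' := (Scheme.ΓSpecIso (CommRingCat.of A')).commRingCatIsoToRingEquiv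
  have hnat : (Spec.map (CommRingCat.ofHom φ)).appTop.hom = e'.symm.toRingHom.comp (φ.comp e.toRingHom) := by
    refine RingHom.ext fun x => e'.injective ?_
    have := congrArg (fun ψ => ψ.hom x) (Scheme.ΓSpecIso_naturality (CommRingCat.ofHom φ))
    exact this.trans (e'.apply_symm_apply _).symm
  refine (hc (Spec (CommRingCat.of A')) (Spec.map (CommRingCat.ofHom φ)) ?_).trans ?_
  · rw [hnat]
    exact ((IsLocalization.Away.algebraMap_isUnit (S := Localization.Away (e h₁)) (e h₁)).map
      (algebraMap (Localization.Away (e h₁)) A')).map e'.symm.toRingHom
  · rw [hnat, ← Ideal.map_map, ← Ideal.map_map, Ideal.map_map (algebraMap A _),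
      Ideal.map_eq_bot_iff_of_injective (f := e'.symm.toRingHom) e'.symm.injective]

end Groth.Agent.S4898
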