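import Groth.Statements.S4899
import Groth.Agent.H06EGA11c.PrimaryDetect
import Groth.Agent.H06EGA11c.PrimaryScheme
import Groth.Agent.H06EGA11c.PointPrime
import Groth.Agent.H10Coh.FinType2

set_option autoImplicit false
universe u
open CategoryTheory AlgebraicGeometry
open EGA43

namespace Groth.Agent.S4899

set_option backward.isDefEq.respectTransparency false

open CategoryTheory.Limits in
/-- Let A be an Artinian local ring, f : X ⟶ Spec A locally of finite type, F a coherent O_X-module and
x a point of X; let (u_i : A → A_i) be a family of ring homomorphisms into local rings such that an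
element of A killed by every u_i is zero. Assume (ii) that the residue field k(x) is a primary
extension of the residue field of the base (every element of k(x) which is separable algebraic over
it already lies in it; automatic when that field is separably closed), and (iii) that for every i
there is a point x' of X_i = X ×_{Spec A} Spec A_i above x and above the closed point of Spec A_i at
which the pullback of F is flat over Spec A_i. Then F is f-flat at x. -/
theorem result {A : Type u} [CommRing A]
    [IsArtinianRing A] [IsLocalRing A] {X : Scheme.{u}} (f : X ⟶ Spec (CommRingCat.of A))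
    [LocallyOfFiniteType f] (F : X.Modules) (hF : Coh.IsCoh F) (x : X)
    {ι : Type u} (A' : ι → Type u) [∀ i, CommRing (A' i)] [∀ i, IsLocalRing (A' i)] (u : ∀ i, A →+* A' i)
    (hu : ∀ a : A, (∀ i, u i a = 0) → a = 0)
    (hprim : letI := (f.residueFieldMap x).hom.toAlgebra
      ∀ a : ↑(X.residueField x), IsSeparable ↑((Spec (CommRingCat.of A)).residueField (f x)) a →
        a ∈ (f.residueFieldMap x).hom.range)
    (hflat : ∀ i : ι, ∃ x' : ↥(pullback f (Spec.map (CommRingCat.ofHom (u i)))),
      pullback.fst f (Spec.map (CommRingCat.ofHom (u i))) x' = x ∧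
      pullback.snd f (Spec.map (CommRingCat.ofHom (u i))) x' = IsLocalRing.closedPoint (A' i) ∧
      FlatMod.IsFlatOverAt (pullback.snd f (Spec.map (CommRingCat.ofHom (u i))))
        ((Scheme.Modules.pullback (pullback.fst f (Spec.map (CommRingCat.ofHom (u i))))).obj F) x') :
    FlatMod.IsFlatOverAt f F x := by
  haveI : IsLocallyNoetherian X := LocallyOfFiniteType.isLocallyNoetherian f
  let eA := (Scheme.ΓSpecIso (CommRingCat.of A)).commRingCatIsoToRingEquiv
  let eC := fun i => (Scheme.ΓSpecIso (CommRingCat.of (A' i))).commRingCatIsoToRingEquiv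
  let V : (Spec (CommRingCat.of A)).Opens := ⊤
  haveI : IsLocalRing Γ(Spec (CommRingCat.of A), V) := eA.symm.isLocalRing
  haveI : IsArtinianRing Γ(Spec (CommRingCat.of A), V) := eA.symm.surjective.isArtinianRing (f := eA.symm.toRingHom)
  haveI : ∀ i, IsLocalRing Γ(Spec (CommRingCat.of (A' i)), ⊤) := fun i => (eC i).symm.isLocalRing
  obtain ⟨U, hU, hxU, -⟩ := exists_isAffineOpen_mem_and_subset (U := (⊤ : X.Opens)) (x := x) trivial
  haveI : IsNoetherianRing Γ(X, U) := IsLocallyNoetherian.component_noetherian ⟨U, hU⟩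
  haveI : F.IsQuasicoherent := hF.1
  haveI : Module.Finite Γ(X, U) Γ(F, U) := H10Coh.finite_sections F hF.2 hU
  have hV : IsAffineOpen V := isAffineOpen_top _
  have eU : U ≤ f ⁻¹ᵁ V := le_top
  letI := fun i => ((Spec.map (CommRingCat.ofHom (u i))).appLE V ⊤ le_top).hom.toAlgebra
  letI := (f.appLE V U eU).hom.toAlgebra
  letI := Module.compHom Γ(F, U) (f.appLE V U eU).hom
  haveI : IsScalarTower Γ(Spec (CommRingCat.of A), V) Γ(X, U) Γ(F, U) := .of_algebraMap_smul fun _ _ => rfl
  let q := (hU.primeIdealOf ⟨x, hxU⟩).asIdeal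
  have hq : ∀ a ∈ IsLocalRing.maximalIdeal Γ(Spec (CommRingCat.of A), V),
      algebraMap Γ(Spec (CommRingCat.of A), V) q.ResidueField a = 0 := fun a ha =>
    ((Ring.KrullDimLE.isNilpotent_iff_mem_maximalIdeal.mpr ha).map _).eq_zero
  letI : Algebra (IsLocalRing.ResidueField Γ(Spec (CommRingCat.of A), V)) q.ResidueField :=
    (Ideal.Quotient.lift _ (algebraMap Γ(Spec (CommRingCat.of A), V) q.ResidueField) hq).toAlgebra
  haveI : IsScalarTower Γ(Spec (CommRingCat.of A), V) (IsLocalRing.ResidueField Γ(Spec (CommRingCat.of A), V))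
      q.ResidueField := IsScalarTower.of_algebraMap_eq fun _ => rfl
  have hcl : (hV.primeIdealOf ⟨f x, eU hxU⟩).asIdeal = IsLocalRing.maximalIdeal _ :=
    IsLocalRing.eq_maximalIdeal (IsArtinianRing.isMaximal_of_isPrime _)
  refine (H8Props.FlatLocus.isFlatOverAt_iff_localizedModule f F hF.1 hV hU eU ⟨x, hxU⟩).2
    (H06EGA11c.flat_localizedModule_of_exists_family q
      (H06EGA11c.separableClosure_residueField_eq_bot f hV hU eU hxU hcl hprim)
      (fun i => Γ(Spec (CommRingCat.of (A' i)), ⊤)) (fun a ha => ?_) fun i => ?_)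
  · refine eA.injective ((hu _ fun i => ?_).trans (map_zero eA).symm)
    have h1 := congrArg (fun φ => φ.hom a) (Scheme.ΓSpecIso_naturality (CommRingCat.ofHom (u i)))
    have h3 := ha i
    rw [RingHom.algebraMap_toAlgebra] at h3
    rw [show (Spec.map (CommRingCat.ofHom (u i))).appLE V ⊤ le_top = (Spec.map (CommRingCat.ofHom (u i))).appTop from by
      simp [Scheme.Hom.appLE, V]] at h3
    change (Scheme.ΓSpecIso _).hom.hom ((Spec.map (CommRingCat.ofHom (u i))).appTop.hom a) = u i (eA a) at h1
    rw [h3, map_zero] at h1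
    exact h1.symm
  · obtain ⟨x', hx1, hx2, hx3⟩ := hflat i
    obtain ⟨Q, hQ, h1, h2, h3⟩ := H06EGA11c.exists_prime (IsPullback.of_hasPullback f (Spec.map (CommRingCat.ofHom (u i))))
      F hF.1 hU hV eU (isAffineOpen_top _) le_top x' (by rw [hx1]; exact hxU) trivial
    refine ⟨Q, hQ, ?_, ?_, h3 hx3⟩
    · rw [← h1]
      congr 2
      exact Subtype.ext hx1
    · rw [← h2]
      haveI := (isAffineOpen_top (Spec (CommRingCat.of (A' i)))).primeIdealOf_isMaximal_of_isClosed
        ⟨pullback.snd f (Spec.map (CommRingCat.ofHom (u i))) x', trivial⟩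
        (by rw [hx2]; exact IsLocalRing.isClosed_singleton_closedPoint _)
      exact IsLocalRing.eq_maximalIdeal this

end Groth.Agent.S4899
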