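import Groth.Statements.S4905
import Groth.Agent.H06Sep.ClosureBC

set_option autoImplicit false
universe u
open CategoryTheory AlgebraicGeometry
open EGA43

namespace Groth.Agent.S4905

set_option backward.isDefEq.respectTransparency false

open Groth.Agent.H06Sep
open CategoryTheory.Limits


open CategoryTheory.Limits in
/-- Let k be a field, X a k-scheme, (f_i : Z_i ⟶ X) a family of k-morphisms with every Z_i geometrically
reduced over k, and Y the reduced closed subscheme of X whose underlying space is the closure of ⋃
f_i(Z_i), i.e. the closed subscheme defined by the vanishing ideal sheaf of that closed set. Let k'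
be a field extension of k, X' = X ⊗_k k' and f'_i : Z_i ⊗_k k' ⟶ X' the base changes. Then the
reduced closed subscheme of X' on the closure of ⋃ f'_i(Z_i ⊗_k k') is Y ⊗_k k': the vanishing ideal
sheaf of that closure equals the pullback (comap) along X' ⟶ X of the vanishing ideal sheaf defining
Y. (The published statement also concludes that Y is geometrically reduced over k; this row states
only the equality of Y' with Y ⊗_k k'.) -/
theorem result {k : Type u} [Field k] {X : Scheme.{u}}
    (p : X ⟶ Spec (CommRingCat.of k)) {ι : Type u} (Z : ι → Scheme.{u}) (f : ∀ i, Z i ⟶ X)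
    (hred : ∀ (i : ι) (z : Z i), FBase.IsGeomReducedAt (f i ≫ p) z)
    (k' : Type u) [Field k'] [Algebra k k'] :
    letI q : Spec (CommRingCat.of k') ⟶ Spec (CommRingCat.of k) := Spec.map (CommRingCat.ofHom (algebraMap k k'))
    letI f' : ∀ i, pullback (f i ≫ p) q ⟶ pullback p q :=
      fun i => pullback.map (f i ≫ p) q p q (f i) (𝟙 _) (𝟙 _) (Category.comp_id _) ((Category.comp_id _).trans (Category.id_comp _).symm)
    Scheme.IdealSheafData.vanishingIdeal (TopologicalSpace.Closeds.closure (⋃ i, Set.range (f' i))) =
      (Scheme.IdealSheafData.vanishingIdeal (TopologicalSpace.Closeds.closure (⋃ i, Set.range (f i)))).comap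
        (pullback.fst p q) := by
  have hZ' : ∀ (K : Type u) [Field K] [Algebra k K] (i : ι),
      IsReduced (pullback (f i ≫ p) (Spec.map (CommRingCat.ofHom (algebraMap k K)))) := fun K _ _ i =>
    haveI : ∀ x' : ↥(FBase.bc (f i ≫ p) K), _root_.IsReduced ((FBase.bc (f i ≫ p) K).presheaf.stalk x') :=
      fun x' => hred i _ K x' rfl
    isReduced_of_isReduced_stalk (X := FBase.bc (f i ≫ p) K)
  haveI : ∀ i, IsReduced (Z i) := fun i => by
    haveI := hZ' k i
    haveI : IsIso (Spec.map (CommRingCat.ofHom (algebraMap k k))) := by
      rw [Algebra.algebraMap_self, CommRingCat.ofHom_id, Spec.map_id]; infer_instance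
    exact isReduced_of_isOpenImmersion (inv (pullback.fst (f i ≫ p) (Spec.map (CommRingCat.ofHom (algebraMap k k)))))
  haveI := hZ' k'
  exact vanishingIdeal_closure_baseChange p (IsPullback.of_hasPullback p _) (g' := fun i => pullback.fst (f i ≫ p) _)
    (fun i => isPullback_member (IsPullback.of_hasPullback p _) (IsPullback.of_hasPullback (f i ≫ p) _)
      (pullback.lift_fst _ _ _).symm ((pullback.lift_snd _ _ _).trans (Category.comp_id _)))

end Groth.Agent.S4905
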