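import Groth.Statements.S4911
import Groth.Agent.H06Sep.Scheme

set_option autoImplicit false
universe u
open CategoryTheory AlgebraicGeometry
open EGA43

namespace Groth.Agent.S4911

set_option backward.isDefEq.respectTransparency false

open Groth.Agent.H06Sep


open CategoryTheory.Limits in
/-- Case Z_λ = X: let k be a field, X a k-scheme, u_i : F ⟶ G_i a separating family of homomorphisms of
quasi-coherent O_X-modules (a section of F over an open subset killed by every u_i is zero) and S'
an arbitrary k-scheme. Then the family pulled back to X ×_k S' is separating. (The published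
statement allows homomorphisms into direct images (f_λ)_*G_λ; this row is the case Z_λ = X.) -/
theorem result {k : Type u} [Field k] {X S' : Scheme.{u}}
    (p : X ⟶ Spec (CommRingCat.of k)) (q : S' ⟶ Spec (CommRingCat.of k))
    (F : X.Modules) [Coh.IsQCoh F] {ι : Type u} (G : ι → X.Modules) [∀ i, Coh.IsQCoh (G i)] (u : ∀ i, F ⟶ G i)
    (h : (∀ (V : (X).Opens) (t : ↑((F).presheaf.obj (Opposite.op V))), (∀ i, (Scheme.Modules.Hom.mapPresheaf (u i)).app (Opposite.op V) t = 0) → t = 0)) :
    (∀ (V : (pullback p q).Opens) (t : ↑(((Scheme.Modules.pullback (pullback.fst p q)).obj F).presheaf.obj (Opposite.op V))), (∀ i, (Scheme.Modules.Hom.mapPresheaf ((Scheme.Modules.pullback (pullback.fst p q)).map (u i))).app (Opposite.op V) t = 0) → t = 0) := by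
  have H := IsPullback.of_hasPullback p q
  refine separating_of_cover (H29Fitt.isQCoh_pullback _ F ‹_›) (fun i => H29Fitt.isQCoh_pullback _ _ inferInstance)
    fun x => ?_
  obtain ⟨U, hU, hxU, -⟩ := exists_isAffineOpen_mem_and_subset (U := (⊤ : X.Opens))
    (x := pullback.fst p q x) trivial
  obtain ⟨W, hW, hxW, -⟩ := exists_isAffineOpen_mem_and_subset (U := (⊤ : S'.Opens))
    (x := pullback.snd p q x) trivial
  have hV := isAffineOpen_top (Spec (CommRingCat.of k))
  obtain ⟨hQ, -⟩ := H06EGA11b.PullFlat.pushout_sections H hU hV le_top hW le_top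
  refine ⟨_, hQ, ⟨hxU, hxW⟩, (sepAt_tensor_iff H ‹_› (fun i => inferInstance) hU hV le_top hW le_top).mp ?_⟩
  letI : Field Γ(Spec (CommRingCat.of k), ⊤) :=
    ((Scheme.ΓSpecIso (CommRingCat.of k)).commRingCatIsoToRingEquiv.toMulEquiv.isField (Field.toIsField k)).toField
  letI := (q.appLE ⊤ W le_top).hom.toAlgebra
  letI := (p.appLE ⊤ U le_top).hom.toAlgebra
  exact sepBC_of_field _ _ _ _ _ _ _ (Separating.sep h ‹_› hU)

end Groth.Agent.S4911
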