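import Groth.Statements.S4912
import Groth.Agent.H06Sep.Sheaf
import Groth.Agent.H06Sep.Providers

set_option autoImplicit false
universe u
open CategoryTheory AlgebraicGeometry
open EGA43

namespace Groth.Agent.S4912

set_option backward.isDefEq.respectTransparency false

open Groth.Agent.H06Sep


/-- Case Z_λ = X: let X be an Artinian scheme (Noetherian of dimension ≤ 0), u_i : F ⟶ G_i a separating
family of homomorphisms of quasi-coherent O_X-modules (a section of F over an open subset killed by
every u_i is zero) and g : X' ⟶ X a flat morphism; for instance X the spectrum of a field and g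
arbitrary. Then the family (g^*u_i) on X' is separating. (The published statement allows
homomorphisms into direct images (f_λ)_*G_λ; this row is the case Z_λ = X, to which the general case
reduces.) -/
theorem result {X X' : Scheme.{u}} [IsNoetherian X]
    (hX : topologicalKrullDim X ≤ 0) (F : X.Modules) [Coh.IsQCoh F] {ι : Type u}
    (G : ι → X.Modules) [∀ i, Coh.IsQCoh (G i)] (u : ∀ i, F ⟶ G i) (g : X' ⟶ X) [Flat g]
    (h : (∀ (V : (X).Opens) (t : ↑((F).presheaf.obj (Opposite.op V))), (∀ i, (Scheme.Modules.Hom.mapPresheaf (u i)).app (Opposite.op V) t = 0) → t = 0)) :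
    (∀ (V : (X').Opens) (t : ↑(((Scheme.Modules.pullback g).obj F).presheaf.obj (Opposite.op V))), (∀ i, (Scheme.Modules.Hom.mapPresheaf ((Scheme.Modules.pullback g).map (u i))).app (Opposite.op V) t = 0) → t = 0) := by
  refine separating_pullback h g ‹_› (fun i => inferInstance) fun x => ?_
  obtain ⟨U, hU, hxU, -⟩ := exists_isAffineOpen_mem_and_subset (U := (⊤ : X.Opens)) (x := g x) trivial
  obtain ⟨Q, hQ, hxQ, e⟩ := exists_isAffineOpen_mem_and_subset (U := g ⁻¹ᵁ U) (x := x) hxU
  refine ⟨U, hU, Q, hQ, e, hxQ, ?_⟩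
  letI := (g.appLE U Q e).hom.toAlgebra
  haveI : Module.Flat Γ(X, U) Γ(X', Q) :=
    HasRingHomProperty.appLE @Flat g inferInstance ⟨U, hU⟩ ⟨Q, hQ⟩ e
  haveI : IsNoetherianRing Γ(X, U) := IsLocallyNoetherian.component_noetherian ⟨U, hU⟩
  haveI : Ring.KrullDimLE 0 Γ(X, U) := by
    rw [Ring.krullDimLE_iff, ← PrimeSpectrum.topologicalKrullDim_eq_ringKrullDim]
    exact (Topology.IsInducing.topologicalKrullDim_le hU.fromSpec.isOpenEmbedding.isInducing).trans hX
  haveI : IsArtinianRing Γ(X, U) := isArtinianRing_iff_krullDimLE_zero.mpr inferInstance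
  exact sepBC_of_isArtinianRing _ _

end Groth.Agent.S4912
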