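import Groth.Statements.S4914


set_option autoImplicit false
open CategoryTheory AlgebraicGeometry
universe u v w
open EGA43

namespace Groth.Agent.S4914

open Classical in

/-- Let ψ : X → Y be a continuous map, x a point of X, and (Y_i) a locally finite covering of Y by
closed subsets. If for every index i with ψ x ∈ Y_i the restriction ψ⁻¹(Y_i) → Y_i of ψ is open at
x, then ψ is open at x. -/
theorem result {α : Type u} {β : Type v} {ι : Type w} [TopologicalSpace α]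
    [TopologicalSpace β] (ψ : α → β) (hψ : Continuous ψ) (x : α) (Y : ι → Set β) (hY : LocallyFinite Y)
    (hcl : ∀ i, IsClosed (Y i)) (hcov : ⋃ i, Y i = Set.univ)
    (h : ∀ i, ∀ hi : ψ x ∈ Y i, EGA43.IsOpenAt ((Y i).restrictPreimage ψ) ⟨x, hi⟩) :
    EGA43.IsOpenAt ψ x := by
  intro U hU
  obtain ⟨N, hN, hfin⟩ := hY (ψ x)
  set S := hfin.toFinset.filter (fun i => ψ x ∈ Y i) with hS
  set S' := hfin.toFinset.filter (fun i => ψ x ∉ Y i) with hS'
  have hchoice : ∀ i ∈ S, ∃ V ∈ nhds (ψ x), V ∩ Y i ⊆ ψ '' U := by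
    intro i hi
    have hxi : ψ x ∈ Y i := (Finset.mem_filter.mp hi).2
    have h1 := h i hxi (Subtype.val ⁻¹' U) (continuous_subtype_val.continuousAt.preimage_mem_nhds hU)
    obtain ⟨V, hV, hVsub⟩ := (mem_nhds_subtype _ _ _).mp h1
    refine ⟨V, hV, fun y hy => ?_⟩
    obtain ⟨a, ha, hay⟩ := hVsub (a := ⟨y, hy.2⟩) hy.1
    exact ⟨a.1, ha, congrArg Subtype.val hay⟩
  choose! V hV hVsub using hchoice
  have hM : N ∩ (⋂ i ∈ S, V i) ∩ (⋂ i ∈ S', (Y i)ᶜ) ∈ nhds (ψ x) :=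
    Filter.inter_mem (Filter.inter_mem hN ((Filter.biInter_finset_mem S).mpr hV))
      ((Filter.biInter_finset_mem S').mpr fun i hi =>
        (hcl i).isOpen_compl.mem_nhds (Finset.mem_filter.mp hi).2)
  refine Filter.mem_of_superset hM fun y hy => ?_
  obtain ⟨i, hi⟩ := Set.mem_iUnion.mp (hcov.symm ▸ Set.mem_univ y : y ∈ ⋃ i, Y i)
  have hif : i ∈ hfin.toFinset := hfin.mem_toFinset.mpr ⟨y, hi, hy.1.1⟩
  by_cases hxi : ψ x ∈ Y i
  · have hiS : i ∈ S := Finset.mem_filter.mpr ⟨hif, hxi⟩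
    exact hVsub i hiS ⟨Set.mem_iInter₂.mp hy.1.2 i hiS, hi⟩
  · exact absurd hi (Set.mem_iInter₂.mp hy.2 i (Finset.mem_filter.mpr ⟨hif, hxi⟩))

end Groth.Agent.S4914
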