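import Groth.Statements.S4919
import Groth.Agent.H06EGA14.EquidimCriteria

set_option autoImplicit false
open CategoryTheory AlgebraicGeometry
universe u v w
open EGA43

namespace Groth.Agent.S4919

open TopologicalSpace Topology
set_option linter.style.haveILetI false
set_option backward.isDefEq.respectTransparency false

/-- Let Y be an irreducible locally Noetherian scheme with generic point η, f : X ⟶ Y a morphism locally
of finite type, y a point of Y and Z an irreducible component of the fibre f⁻¹(y) (a maximal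
irreducible subset of f⁻¹(y), with the topology induced from X) such that f is open at the generic
point ζ of Z. Then there is an irreducible component X' of X containing Z and dominating Y such that
the local dimension of X' ∩ f⁻¹(y) at ζ equals dim Z, and dim Z = dim (X' ∩ f⁻¹(η)). (The published
statement writes the middle term as the dimension of the whole of X' ∩ f⁻¹(y); its proof yields only
the local dimension at the generic point of Z, and the global equality can fail: for the
endomorphism (a, b) ↦ (ab, b² − b) of the affine plane over a field, the fibre over the origin is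
the line b = 0 together with the isolated point (0, 1), at which the map is étale, hence open; with
Z that point, X' is the whole plane, X' ∩ f⁻¹(y) has dimension 1 and dim Z = 0. So the local form is
stated here.) -/
theorem result {X Y : Scheme.{u}} [IrreducibleSpace Y]
    [IsLocallyNoetherian Y] (f : X ⟶ Y) [LocallyOfFiniteType f] (y : Y) (Z : Set X)
    (hZy : Z ⊆ f.base ⁻¹' {y}) (hZ : IsIrreducible Z)
    (hZmax : ∀ Z' : Set X, IsIrreducible Z' → Z' ⊆ f.base ⁻¹' {y} → Z ⊆ Z' → Z' = Z)
    (hopen : ∀ ζ ∈ Z, Z ⊆ closure {ζ} → EGA43.IsOpenAt f.base ζ) :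
    ∃ X' ∈ irreducibleComponents (X : Type u), Z ⊆ X' ∧ Dense (f.base '' X') ∧
      (∀ ζ ∈ Z, Z ⊆ closure {ζ} → ∀ hζ : ζ ∈ X' ∩ f.base ⁻¹' {y},
        FlatMor.localDim ↥(X' ∩ f.base ⁻¹' {y}) ⟨ζ, hζ⟩ = topologicalKrullDim ↥Z) ∧
      topologicalKrullDim ↥Z = topologicalKrullDim ↥(X' ∩ f.base ⁻¹' {genericPoint Y}) := by
  haveI : IsLocallyNoetherian X := LocallyOfFiniteType.isLocallyNoetherian f
  have hη₀ : ∀ w, w ⤳ genericPoint Y → w = genericPoint Y := fun w hw =>
    (hw.antisymm (genericPoint_specializes w)).eq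
  set k := f.fiberι y
  have hZr : Z ⊆ Set.range k := by rw [f.range_fiberι]; exact hZy
  let T : Set ↥(f.fiber y) := k ⁻¹' Z
  have hkT : k '' T = Z := Set.image_preimage_eq_of_subset hZr
  have hT : IsIrreducible T := ⟨by
      obtain ⟨z, hz⟩ := hZ.nonempty
      obtain ⟨u, rfl⟩ := hZr hz
      exact ⟨u, hz⟩, fun a b ha hb hua hub => by
    obtain ⟨a', ha', rfl⟩ := k.isEmbedding.isInducing.isOpen_iff.mp ha
    obtain ⟨b', hb', rfl⟩ := k.isEmbedding.isInducing.isOpen_iff.mp hb
    obtain ⟨u, hu, hua⟩ := hua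
    obtain ⟨v, hv, hvb⟩ := hub
    obtain ⟨z, hz, hza, hzb⟩ := hZ.isPreirreducible a' b' ha' hb' ⟨k u, hu, hua⟩ ⟨k v, hv, hvb⟩
    obtain ⟨w, rfl⟩ := hZr hz
    exact ⟨w, hz, hza, hzb⟩⟩
  obtain ⟨u, hu⟩ := QuasiSober.sober hT.closure isClosed_closure
  have himg : k '' closure T = Z := hZmax _ (hT.closure.image k k.continuous.continuousOn)
    (fun _ ⟨w, _, hw⟩ => hw ▸ (f.range_fiberι y).subset (Set.mem_range_self w))
    (hkT.symm.subset.trans (Set.image_mono subset_closure))
  set ζ := k u
  have hζZ : ζ ∈ Z := himg ▸ ⟨u, hu.mem, rfl⟩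
  have hZζ : Z ⊆ closure {ζ} := fun z hz => by
    obtain ⟨w, hw, rfl⟩ := himg.ge hz
    exact ((hu.specializes hw).map k.continuous).mem_closure
  have hfζ : f ζ = y := hZy hζZ
  have hmax : ∀ x', f x' = f ζ → x' ⤳ ζ → x' = ζ := fun x' h1 h2 => by
    have h3 : closure ({x'} : Set X) ∩ f ⁻¹' {y} = Z := by
      refine hZmax _ ?_ Set.inter_subset_right fun z hz => ⟨(h2.trans (specializes_iff_mem_closure.mpr (hZζ hz))).mem_closure, hZy hz⟩
      have hx' : x' ∈ closure ({x'} : Set X) ∩ f ⁻¹' {y} := ⟨subset_closure rfl, h1.trans hfζ⟩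
      exact ⟨⟨x', hx'⟩, fun a b ha hb ⟨p, hp, hpa⟩ ⟨q, hq, hqb⟩ => ⟨x', hx',
        (specializes_iff_mem_closure.mpr hp.1).mem_open ha hpa, (specializes_iff_mem_closure.mpr hq.1).mem_open hb hqb⟩⟩
    have h4 : x' ∈ Z := h3 ▸ ⟨subset_closure rfl, h1.trans hfζ⟩
    exact (h2.antisymm (specializes_iff_mem_closure.mpr (hZζ h4))).eq
  obtain ⟨η, hη, hfη, hηmax, hdim⟩ := H06EGA14.exists_generic_of_isOpenAt f ζ hmax (hopen ζ hζZ hZζ)
    (genericPoint Y) (genericPoint_specializes _) hη₀
  have hZeq : Z = closure ({ζ} : Set X) ∩ f ⁻¹' {y} := by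
    refine subset_antisymm (fun z hz => ⟨hZζ hz, hZy hz⟩) fun z ⟨hz, hzy⟩ => ?_
    obtain ⟨w, rfl⟩ : z ∈ Set.range k := by rw [f.range_fiberι]; exact hzy
    refine himg ▸ ⟨w, ?_, rfl⟩
    rw [← hu.def]
    exact (k.isEmbedding.isInducing.specializes_iff.mp (specializes_iff_mem_closure.mpr hz)).mem_closure
  have hdZ : topologicalKrullDim ↥Z = H8Props.FieldDim.cdim (f.asFiber ζ) := by
    rw [hZeq]; exact H06EGA14.dim_inter_eq_cdim f ζ hfζ
  have hcη : H8Props.FieldDim.cdim (f.asFiber η) = H8Props.FieldDim.cdim (f.asFiber ζ) := by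
    rw [H06EGA14.cdim_asFiber_eq_fibreDimAt_of_fibre f ζ hmax]
    exact le_antisymm ((H06Equidim.cdim_asFiber_le_fibreDimAt f η).trans
      (H8Props.FieldDim.fibreDimAt_le_of_specializes f hη)) hdim
  refine ⟨closure {η}, H06Equidim.closure_singleton_mem_irreducibleComponents η hηmax,
    fun z hz => (hη.trans (specializes_iff_mem_closure.mpr (hZζ hz))).mem_closure, ?_, ?_, ?_⟩
  · rw [dense_iff_closure_eq, H06Equidim.closure_image_closure_singleton, hfη, genericPoint_closure]
  · intro ζ' hζ' hsub hmem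
    obtain rfl : ζ' = ζ :=
      ((specializes_iff_mem_closure.mpr (hsub hζZ)).antisymm (specializes_iff_mem_closure.mpr (hZζ hζ'))).eq
    rw [hdZ]
    clear_value ζ
    subst hfζ
    exact H06EGA14.localDim_inter_eq f ζ hmax isClosed_closure hmem
  · rw [hdZ, H06EGA14.dim_inter_eq_cdim f η hfη, hcη]

end Groth.Agent.S4919
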