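import Groth.Statements.S4920
import Groth.Agent.H06EGA14.EquidimCriteria

set_option autoImplicit false
open CategoryTheory AlgebraicGeometry
universe u v w
open EGA43

namespace Groth.Agent.S4920

open TopologicalSpace Topology
set_option linter.style.haveILetI false
set_option backward.isDefEq.respectTransparency false

/-- Let Y be an irreducible locally Noetherian scheme with generic point η, f : X ⟶ Y a morphism locally
of finite type and y a point of Y such that f is open at every point of the fibre over y. For z in Y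
write E(z) for the set of dimensions of the irreducible components of the fibre X_z. Then E(y) ⊆
E(η), and consequently dim X_y ≤ dim X_η. -/
theorem result {X Y : Scheme.{u}} [IrreducibleSpace Y] [IsLocallyNoetherian Y]
    (f : X ⟶ Y) [LocallyOfFiniteType f] (y : Y) (h : ∀ x : X, f.base x = y → EGA43.IsOpenAt f.base x) :
    letI E : Y → Set (WithBot ℕ∞) := fun z =>
      (fun Z : Set ↥(f.fiber z) => topologicalKrullDim ↥Z) '' irreducibleComponents ↥(f.fiber z)
    E y ⊆ E (genericPoint Y) ∧
      topologicalKrullDim ↥(f.fiber y) ≤ topologicalKrullDim ↥(f.fiber (genericPoint Y)) := by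
  haveI : IsLocallyNoetherian X := LocallyOfFiniteType.isLocallyNoetherian f
  have hη₀ : ∀ w, w ⤳ genericPoint Y → w = genericPoint Y := fun w hw =>
    (hw.antisymm (genericPoint_specializes w)).eq
  have hcd : ∀ {z : Y} (u : ↥(f.fiber z)),
      H8Props.FieldDim.cdim u = H8Props.FieldDim.cdim (f.asFiber (f.fiberι z u)) := fun {z} u => by
    rw [H17.DimIneq.cdim_eq_dim_inter, H06EGA14.dim_inter_eq_cdim f _
      ((f.range_fiberι z).subset (Set.mem_range_self u))]
  have key : ∀ Z ∈ irreducibleComponents ↥(f.fiber y), ∃ Z' ∈ irreducibleComponents ↥(f.fiber (genericPoint Y)),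
      topologicalKrullDim ↥Z' = topologicalKrullDim ↥Z := by
    intro Z hZ
    obtain ⟨u, rfl, humax⟩ := H8Props.FieldDim.mem_irreducibleComponents_iff hZ
    obtain ⟨ξ, hξ⟩ : ∃ ξ, f.fiberι y u = ξ := ⟨_, rfl⟩
    have hfξ : f ξ = y := hξ ▸ (f.range_fiberι y).subset (Set.mem_range_self u)
    have hmax : ∀ x', f x' = f ξ → x' ⤳ ξ → x' = ξ := fun x' h1 h2 => by
      obtain ⟨u', rfl⟩ : x' ∈ Set.range (f.fiberι y) := by rw [f.range_fiberι]; exact h1.trans hfξ
      rw [← hξ] at h2 ⊢
      rw [humax u' ((f.fiberι y).isEmbedding.isInducing.specializes_iff.mp h2)]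
    obtain ⟨η, hη, hfη, hηmax, hdim⟩ := H06EGA14.exists_generic_of_isOpenAt f ξ hmax (h ξ hfξ)
      (genericPoint Y) (genericPoint_specializes _) hη₀
    obtain ⟨v, hv⟩ : η ∈ Set.range (f.fiberι (genericPoint Y)) := by rw [f.range_fiberι]; exact hfη
    refine ⟨closure {v}, H06Equidim.closure_singleton_mem_irreducibleComponents v fun w hw =>
      (f.fiberι (genericPoint Y)).isEmbedding.injective ?_, ?_⟩
    · have h2 := hw.map (f.fiberι (genericPoint Y)).continuous
      rw [hv] at h2 ⊢
      exact hηmax _ h2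
    · show H8Props.FieldDim.cdim v = H8Props.FieldDim.cdim u
      rw [hcd v, hcd u, hv, hξ, H06EGA14.cdim_asFiber_eq_fibreDimAt_of_fibre f ξ hmax]
      exact le_antisymm ((H06Equidim.cdim_asFiber_le_fibreDimAt f η).trans
        (H8Props.FieldDim.fibreDimAt_le_of_specializes f hη)) hdim
  refine ⟨fun d ⟨Z, hZ, hd⟩ => ?_, ?_⟩
  · obtain ⟨Z', hZ', heq⟩ := key Z hZ
    exact ⟨Z', hZ', heq.trans hd⟩
  · rw [H8Props.FieldDim.dim_eq_iSup_cdim (X := ↥(f.fiber y))]
    refine iSup_le fun u => ?_
    obtain ⟨ξ, hξ, hT⟩ := H8Props.FieldDim.exists_component_generization u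
    obtain ⟨Z', -, heq⟩ := key _ hT
    refine le_trans ?_ (heq ▸ topologicalKrullDim_subspace_le _ Z')
    exact H8Props.FieldDim.dim_mono (closure_minimal (Set.singleton_subset_iff.mpr hξ.mem_closure) isClosed_closure)

end Groth.Agent.S4920
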