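import Groth.Statements.S4921
import Groth.Agent.H06EGA14.OpenDimScheme
import Groth.Agent.H06EGA14.MaximalPoint
import Groth.Agent.H7Flat.FibreDimConstructible

set_option autoImplicit false
open CategoryTheory AlgebraicGeometry
universe u v w
open EGA43

namespace Groth.Agent.S4921

open Groth.Agent Groth.Agent.H06EGA14

/-- Let Y be a locally Noetherian scheme, f : X ⟶ Y a proper morphism and y a point of Y such that f is
open at every point of the fibre over y. Then the function z ↦ dim X_z is constant on a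
neighbourhood of y. -/
theorem result {X Y : Scheme.{u}} [IsLocallyNoetherian Y] (f : X ⟶ Y)
    [IsProper f] (y : Y) (h : ∀ x : X, f.base x = y → EGA43.IsOpenAt f.base x) :
    ∃ V ∈ nhds y, ∀ z ∈ V, topologicalKrullDim ↥(f.fiber z) = topologicalKrullDim ↥(f.fiber y) := by
  haveI : IsLocallyNoetherian X := LocallyOfFiniteType.isLocallyNoetherian f
  have hC : ∀ d : WithBot ℕ∞, IsClosed (f '' {x | FlatMor.fibreDimAt f x ≤ d}ᶜ) := fun d =>
    f.isClosedMap _ (H7Flat.isOpen_fibreDimAt_le' f d).isClosed_compl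
  have hiff : ∀ (z : Y) (d : WithBot ℕ∞), topologicalKrullDim (f.fiber z) ≤ d ↔ z ∉ f '' {x | FlatMor.fibreDimAt f x ≤ d}ᶜ :=
    fun z d => (H7Flat.dim_fiber_le_iff f z d).trans
      ⟨fun hh ⟨x, hx, hxz⟩ => hx (hh x hxz), fun hh x hxz => not_not.mp fun hx => hh ⟨x, hx, hxz⟩⟩
  set d := topologicalKrullDim (f.fiber y)
  obtain ⟨W, hyW, -, hW⟩ := H06Equidim.exists_nhd_components_mem y ⊤ trivial
  refine ⟨(W : Set Y) ∩ (f '' {x | FlatMor.fibreDimAt f x ≤ d}ᶜ)ᶜ,
    (W.2.inter (hC d).isOpen_compl).mem_nhds ⟨hyW, (hiff y d).mp le_rfl⟩,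
    fun z ⟨hzW, hz⟩ => le_antisymm ((hiff z d).mpr hz) ?_⟩
  set e := topologicalKrullDim (f.fiber z)
  by_contra hcon
  obtain ⟨x, hx, hxy⟩ := not_not.mp (mt (hiff y e).mpr hcon)
  obtain ⟨ξ, hξ, hξy, hξmax, hξd⟩ := exists_maximal_generization f x
  obtain ⟨η₀, hη₀, hT⟩ := H8Props.FieldDim.exists_component_generization z
  have hmax₀ := H06Equidim.eq_of_specializes_of_component hT
  have hη₀y : η₀ ⤳ y := hW η₀ (hη₀.mem_open W.2 hzW) hmax₀
  obtain ⟨η, -, hfη, -, hd⟩ := exists_generic_of_isOpenAt f ξ hξmax (h ξ (hξy.trans hxy)) η₀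
    (by rw [hξy, hxy]; exact hη₀y) hmax₀
  have hfd : FlatMor.fibreDimAt f ξ = FlatMor.fibreDimAt f x :=
    (cdim_asFiber_eq_fibreDimAt_of_fibre f ξ hξmax).symm.trans hξd
  have hη : η₀ ∈ f '' {x | FlatMor.fibreDimAt f x ≤ e}ᶜ :=
    ⟨η, fun hh => hx (hfd.ge.trans (hd.trans ((H06Equidim.cdim_asFiber_le_fibreDimAt f η).trans hh))), hfη⟩
  exact (hiff z e).mp le_rfl (hη₀.mem_closed (hC e) hη)

end Groth.Agent.S4921
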