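import Groth.Statements.S4924
import Groth.Agent.H06EGA14.OpenFibreDim

set_option autoImplicit false
open CategoryTheory AlgebraicGeometry
universe u v w
open EGA43

namespace Groth.Agent.S4924

open Groth.Agent Groth.Agent.H06EGA14

/-- Let Y be a locally Noetherian scheme, f : X ⟶ Y an open morphism of finite type and y a point of Y.
Then there is an open neighbourhood U of the fibre f⁻¹(y) in X such that the function z ↦ dim (U ∩
f⁻¹(z)) is constant on a neighbourhood of y. -/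
theorem result {X Y : Scheme.{u}} [IsLocallyNoetherian Y]
    (f : X ⟶ Y) [LocallyOfFiniteType f] [QuasiCompact f] (hf : IsOpenMap f.base) (y : Y) :
    ∃ U : X.Opens, f.base ⁻¹' {y} ⊆ (U : Set X) ∧ ∃ V ∈ nhds y, ∀ z ∈ V,
      topologicalKrullDim ↥((U : Set X) ∩ f.base ⁻¹' {z}) = topologicalKrullDim ↥((U : Set X) ∩ f.base ⁻¹' {y}) := by
  haveI : IsLocallyNoetherian X := LocallyOfFiniteType.isLocallyNoetherian f
  let U : X.Opens := ⟨{x | FlatMor.fibreDimAt f x ≤ topologicalKrullDim (f.fiber y)}, H7Flat.isOpen_fibreDimAt_le' f _⟩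
  have hyU : f.base ⁻¹' {y} ⊆ (U : Set X) := fun x hx => (H7Flat.dim_fiber_le_iff f y _).mp le_rfl x hx
  have hopen : IsOpenMap (U.ι ≫ f).base := hf.comp U.ι.isOpenEmbedding.isOpenMap
  have hy : topologicalKrullDim ((U.ι ≫ f).fiber y) = topologicalKrullDim (f.fiber y) := by
    refine le_antisymm ((H7Flat.dim_fiber_le_iff _ y _).mpr fun u hu => ?_) ((H7Flat.dim_fiber_le_iff f y _).mpr fun x hx => ?_)
    · rw [H06Equidim.fibreDimAt_opens_ι]; exact (H7Flat.dim_fiber_le_iff f y _).mp le_rfl _ hu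
    · have := (H7Flat.dim_fiber_le_iff (U.ι ≫ f) y _).mp le_rfl ⟨x, hyU hx⟩ hx
      rwa [H06Equidim.fibreDimAt_opens_ι] at this
  obtain ⟨V, hV, hVd⟩ := exists_nhd_dim_fiber_eq (U.ι ≫ f) hopen y fun η _ _ =>
    hy ▸ (H7Flat.dim_fiber_le_iff _ η _).mpr fun u _ => by rw [H06Equidim.fibreDimAt_opens_ι]; exact u.2
  exact ⟨U, hyU, V, hV, fun z hz => by rw [dim_inter_eq_dim_fiber, dim_inter_eq_dim_fiber]; exact hVd z hz⟩

end Groth.Agent.S4924
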