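import Groth.Statements.S4925
import Groth.Agent.H06EGA14.UnivOpen

set_option autoImplicit false
open CategoryTheory AlgebraicGeometry
universe u v w
open EGA43

namespace Groth.Agent.S4925

/-- Let f : X ⟶ Y and g : Y ⟶ Z be morphisms of schemes and x a point of X. If f is universally open at
x and g is universally open at f x, then f ≫ g is universally open at x. -/
theorem result {X Y Z : Scheme.{u}} (f : X ⟶ Y) (g : Y ⟶ Z) (x : X)
    (hf : EGA43.IsUnivOpenAt f x) (hg : EGA43.IsUnivOpenAt g (f.base x)) :
    EGA43.IsUnivOpenAt (f ≫ g) x := by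
  exact Groth.Agent.H06EGA14.isUnivOpenAt_comp hf hg

end Groth.Agent.S4925
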