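import Groth.Statements.S4927
import Groth.Agent.H06EGA14.UnivOpen

set_option autoImplicit false
open CategoryTheory AlgebraicGeometry
universe u v w
open EGA43

namespace Groth.Agent.S4927

open CategoryTheory.Limits in
/-- Let f : X ⟶ Y be a morphism of S-schemes (structure morphisms p and q) which is universally open at
the point x, and let g : S' ⟶ S be a morphism. Then the morphism X ×_S S' ⟶ Y ×_S S' induced by f is
universally open at every point of X ×_S S' lying over x. -/
theorem result {X Y S S' : Scheme.{u}} (p : X ⟶ S) (q : Y ⟶ S) (f : X ⟶ Y)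
    (g : S' ⟶ S) (e₁ : p ≫ 𝟙 S = f ≫ q) (e₂ : g ≫ 𝟙 S = 𝟙 S' ≫ g) (x : X) (h : EGA43.IsUnivOpenAt f x)
    (x' : ↥(pullback p g)) (hx' : (pullback.fst p g).base x' = x) :
    EGA43.IsUnivOpenAt (pullback.map p g q g f (𝟙 S') (𝟙 S) e₁ e₂) x' := by
  have hp : f ≫ q = p := by rw [← e₁, Category.comp_id]
  refine Groth.Agent.H06EGA14.isUnivOpenAt_of_isPullback h
    (IsPullback.of_bot (v₂₁ := pullback.snd q g) ?_ ?_ (IsPullback.of_hasPullback q g)) x' hx'
  · rw [pullback.lift_snd, Category.comp_id, hp]
    exact IsPullback.of_hasPullback p g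
  · rw [pullback.lift_fst]

end Groth.Agent.S4927
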