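import Groth.Statements.S4928
import Groth.Agent.H06EGA15.Lifts
import Groth.Agent.H06EGA14.UnivOpen
import Groth.Agent.H06EGA14.MaximalPoint
import Groth.Agent.H05EGA4.ConsChart

set_option autoImplicit false
open CategoryTheory AlgebraicGeometry
universe u v w
open EGA43

namespace Groth.Agent.S4928

open Groth.Agent CategoryTheory.Limits

open CategoryTheory.Limits in
/-- Let f : X ⟶ Y be locally of finite presentation, x a point of X, y = f x, and f₁ : X ×_Y Spec
O_{Y,y} ⟶ Spec O_{Y,y} the base change of f to the local scheme of Y at y. Then for every point x₁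
of X ×_Y Spec O_{Y,y} projecting to x, f is universally open at x if and only if f₁ is universally
open at x₁. -/
theorem result {X Y : Scheme.{u}} (f : X ⟶ Y) [LocallyOfFinitePresentation f]
    (x : X) (x₁ : ↥(pullback f (Y.fromSpecStalk (f.base x))))
    (hx₁ : (pullback.fst f (Y.fromSpecStalk (f.base x))).base x₁ = x) :
    EGA43.IsUnivOpenAt f x ↔ EGA43.IsUnivOpenAt (pullback.snd f (Y.fromSpecStalk (f.base x))) x₁ := by
  refine ⟨fun h => H06EGA14.isUnivOpenAt_of_isPullback h (IsPullback.of_hasPullback _ _) x₁ hx₁, fun h => ?_⟩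
  refine H06EGA15.isUnivOpenAt_of_lifts f x fun Y' k x' hx' w hw => ?_
  set y' := pullback.snd f k x'
  let s := Y'.fromSpecStalk y'
  obtain ⟨w', hw'⟩ : w ∈ Set.range s := by rw [Scheme.range_fromSpecStalk]; exact hw
  have hky : k y' = f x := by
    rw [← hx', ← Scheme.Hom.comp_apply, ← pullback.condition, Scheme.Hom.comp_apply]
  let ψ : Spec (Y'.presheaf.stalk y') ⟶ Spec (Y.presheaf.stalk (f.base x)) :=
    Spec.map (Y.presheaf.stalkSpecializes (specializes_of_eq hky) ≫ k.stalkMap y')
  have hψ : ψ ≫ Y.fromSpecStalk (f.base x) = s ≫ k := by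
    show Spec.map (_ ≫ _) ≫ _ = _
    rw [Spec.map_comp, Category.assoc, Scheme.SpecMap_stalkSpecializes_fromSpecStalk,
      Scheme.SpecMap_stalkMap_fromSpecStalk]
  let P := pullback (pullback.snd f k) s
  let c : ↥(Spec (Y'.presheaf.stalk y')) := IsLocalRing.closedPoint _
  obtain ⟨p, hp₁, hp₂⟩ := Scheme.exists_preimage_of_isPullback (IsPullback.of_hasPullback (pullback.snd f k) s) x' c
    (by rw [Scheme.fromSpecStalk_closedPoint])
  have hbig := ((IsPullback.of_hasPullback (pullback.snd f k) s).paste_horiz (IsPullback.of_hasPullback f k))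
  rw [← hψ] at hbig
  let l := pullback.lift (f := f) (g := Y.fromSpecStalk (f.base x))
    (pullback.fst (pullback.snd f k) s ≫ pullback.fst f k) (pullback.snd (pullback.snd f k) s ≫ ψ)
    (by simpa only [Category.assoc] using hbig.w)
  have hl : IsPullback l (pullback.snd (pullback.snd f k) s) (pullback.snd f (Y.fromSpecStalk (f.base x))) ψ :=
    IsPullback.of_right (by rw [pullback.lift_fst]; exact hbig) (pullback.lift_snd _ _ _) (IsPullback.of_hasPullback _ _)
  have hlp : l p = x₁ := by
    apply (pullback.fst f (Y.fromSpecStalk (f.base x))).isEmbedding.injective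
    rw [← Scheme.Hom.comp_apply, pullback.lift_fst, Scheme.Hom.comp_apply, hp₁, hx', hx₁]
  obtain ⟨v, hv, hvw⟩ := H05EGA4.ConsChart.exists_generization_of_isOpenAt _ p
    (H06EGA14.isOpenAt_of_isUnivOpenAt _ (H06EGA14.isUnivOpenAt_of_isPullback h hl p hlp)) w' (by
      rw [hp₂]
      exact IsLocalRing.specializes_closedPoint w')
  refine ⟨pullback.fst _ s v, ?_, ?_⟩
  · exact hp₁ ▸ hv.map (pullback.fst (pullback.snd f k) s).continuous
  · rw [← Scheme.Hom.comp_apply, pullback.condition, Scheme.Hom.comp_apply, hvw, hw']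

end Groth.Agent.S4928
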