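import Groth.Statements.S4932
import Groth.Agent.H3CAlg.PruferFibreDim

set_option autoImplicit false
open CategoryTheory AlgebraicGeometry
universe u v w
open EGA43

namespace Groth.Agent.S4932

/-- Let A be a valuation ring (not necessarily discrete), X an irreducible scheme and f : X ⟶ Spec A a
dominant morphism of finite type. If the fibre X_0 of f over the closed point is nonempty, then dim
X_0 = dim X_1, where X_1 is the fibre over the generic point. -/
theorem result {A : Type u} [CommRing A] [IsDomain A]
    [ValuationRing A] {X : Scheme.{u}} [IrreducibleSpace X] (f : X ⟶ Spec (CommRingCat.of A))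
    [LocallyOfFiniteType f] [QuasiCompact f] [IsDominant f]
    (h0 : Nonempty ↥(f.fiber (IsLocalRing.closedPoint A))) :
    topologicalKrullDim ↥(f.fiber (IsLocalRing.closedPoint A)) =
      topologicalKrullDim ↥(f.fiber (genericPoint (Spec (CommRingCat.of A)))) := by
  refine Groth.Agent.H3CAlg.PruferFibreDim.dim_fiber_eq A (fun p hp => ?_) X f _ h0
  refine { cond' := fun a b => ?_ }
  obtain ⟨a, s, rfl⟩ := IsLocalization.exists_mk'_eq p.primeCompl a
  obtain ⟨b, t, rfl⟩ := IsLocalization.exists_mk'_eq p.primeCompl b
  obtain ⟨c, hc | hc⟩ := ValuationRing.cond a b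
  · refine ⟨IsLocalization.mk' _ (c * (s : A)) t, Or.inl ?_⟩
    rw [← IsLocalization.mk'_mul, IsLocalization.mk'_eq_iff_eq, ← hc]
    push_cast
    ring_nf
  · refine ⟨IsLocalization.mk' _ (c * (t : A)) s, Or.inr ?_⟩
    rw [← IsLocalization.mk'_mul, IsLocalization.mk'_eq_iff_eq, ← hc]
    push_cast
    ring_nf

end Groth.Agent.S4932
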