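import Groth.Statements.S4933
import Groth.Agent.H06EGA14.ValuationDim

set_option autoImplicit false
open CategoryTheory AlgebraicGeometry
universe u v w
open EGA43

namespace Groth.Agent.S4933

open Groth.Agent Groth.Agent.H06EGA14

/-- Let f : X ⟶ Y be a morphism locally of finite type, x a point of X which is a maximal point of its
fibre X_y, y = f x. Consider: a) f is universally open at x; b) for every irreducible component Y₀
of Y containing y, with generic point η, there is an irreducible component Z of X containing x and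
dominating Y₀ such that dim_x(X_y) = dim_x(Z ∩ X_y) = dim(Z ∩ X_η); b') for every open neighbourhood
U of x and every generization y' of y one has dim(U ∩ X_{y'}) ≥ dim_x(X_y). Then a) implies b'), and
b') implies b). (Subsets of X carry the induced topology; dim_x(U ∩ X_y) = dim_x(X_y). The published
statement asserts moreover that b) implies b'); that implication can fail, because a generization y'
of y need not lie under any point of U ∩ Z: for the finite birational morphism from the affine plane
onto the surface obtained from it by identifying two rational points p and q, at x = p condition b)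
holds with all dimensions equal to 0, while for U the complement of a line L through q avoiding p
and y' the image of the generic point of L the set U ∩ X_{y'} is empty. So only a) ⇒ b') and b') ⇒
b) are stated here.) -/
theorem result {X Y : Scheme.{u}} (f : X ⟶ Y) [LocallyOfFiniteType f]
    (x : X) (hmax : ∀ x' : X, f.base x' = f.base x → x ∈ closure {x'} → x' = x) :
    (EGA43.IsUnivOpenAt f x → (∀ U : X.Opens, x ∈ U → ∀ y' : Y, y' ⤳ f.base x →
        FlatMor.fibreDimAt f x ≤ topologicalKrullDim ↥((U : Set X) ∩ f.base ⁻¹' {y'}))) ∧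
    ((∀ U : X.Opens, x ∈ U → ∀ y' : Y, y' ⤳ f.base x →
        FlatMor.fibreDimAt f x ≤ topologicalKrullDim ↥((U : Set X) ∩ f.base ⁻¹' {y'})) →
      (∀ Y₀ ∈ irreducibleComponents (Y : Type u), f.base x ∈ Y₀ →
        ∃ Z ∈ irreducibleComponents (X : Type u), ∃ hx : x ∈ Z, closure (f.base '' Z) = Y₀ ∧
          ∀ η : Y, closure ({η} : Set Y) = Y₀ →
            FlatMor.fibreDimAt f x = FlatMor.localDim ↥(Z ∩ f.base ⁻¹' {f.base x}) ⟨x, ⟨hx, rfl⟩⟩ ∧
            FlatMor.localDim ↥(Z ∩ f.base ⁻¹' {f.base x}) ⟨x, ⟨hx, rfl⟩⟩ =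
              topologicalKrullDim ↥(Z ∩ f.base ⁻¹' {η}))) := by
  have hmax' : ∀ x' : X, f x' = f x → x' ⤳ x → x' = x := fun x' h1 h2 => hmax x' h1 h2.mem_closure
  refine ⟨fun h U hxU y' hy' => le_dim_inter_of_isUnivOpenAt' f x hmax' h U hxU y' hy', fun h Y₀ hY₀ hxY₀ => ?_⟩
  obtain ⟨η₀, rfl, hmax₀⟩ := H8Props.FieldDim.mem_irreducibleComponents_iff hY₀
  obtain ⟨η, hη, hfη, hmaxη, hd⟩ := exists_generic_of_le_dim_inter' f x η₀ hmax₀
    (fun U hU => h U hU η₀ (specializes_iff_mem_closure.mpr hxY₀)) hmax'
  refine ⟨closure {η}, H06Equidim.closure_singleton_mem_irreducibleComponents _ hmaxη, hη.mem_closure,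
    (H06Equidim.closure_image_closure_singleton f η).trans (congrArg (fun z => closure ({z} : Set Y)) hfη), fun η₁ hη₁ => ?_⟩
  obtain rfl : η₁ = η₀ := eq_of_closure_singleton_eq hη₁
  have e1 : FlatMor.localDim ↥(closure ({η} : Set X) ∩ f ⁻¹' {f x}) ⟨x, ⟨hη.mem_closure, rfl⟩⟩ = H8Props.FieldDim.cdim (f.asFiber x) :=
    localDim_inter_eq f x hmax' isClosed_closure _
  refine ⟨?_, ?_⟩
  · exact ((cdim_asFiber_eq_fibreDimAt_of_fibre f x hmax').symm.trans e1.symm)
  · refine e1.trans ((cdim_asFiber_eq_fibreDimAt_of_fibre f x hmax').trans (hd.symm.trans ?_))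
    exact (dim_inter_eq_cdim f η hfη).symm

end Groth.Agent.S4933
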