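import Groth.Statements.S4934
import Groth.Agent.H06EGA14.MaximalPoint

set_option autoImplicit false
open CategoryTheory AlgebraicGeometry
universe u v w
open EGA43

namespace Groth.Agent.S4934

open TopologicalSpace Topology
set_option backward.isDefEq.respectTransparency false

/-- Let Y be a locally Noetherian scheme, f : X ⟶ Y a morphism locally of finite type, x a maximal point
of its fibre X_y, and suppose y = f x is a geometrically unibranch point of Y (so that y lies on
exactly one irreducible component Y₀ of Y, with generic point η). The following are equivalent: a) f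
is universally open at x; b) there is an irreducible component Z of X containing x and dominating Y₀
with dim_x(Z ∩ X_y) = dim(Z ∩ X_η); b') for every open neighbourhood U of x and every generization
y' of y, dim(U ∩ X_{y'}) ≥ dim_x(X_y); c) f is open at x. (The published statement asserts a) ⇔ b) ⇔
b') over an arbitrary base and adds c) for a locally Noetherian one; over the spectrum Y of an
infinite product of copies of a field, the inclusion of a non-open closed point satisfies b) and not
a), and the published proof of b) ⇒ a) uses the openness criterion by lifting of generizations and a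
finiteness of irreducible components, both available over a locally Noetherian base, which is
assumed here throughout.) -/
theorem result {X Y : Scheme.{u}} [IsLocallyNoetherian Y] (f : X ⟶ Y)
    [LocallyOfFiniteType f] (x : X) (hmax : ∀ x' : X, f.base x' = f.base x → x ∈ closure {x'} → x' = x)
    (hy : CAlg2.IsGeomUnibranch (Y.presheaf.stalk (f.base x))) :
    List.TFAE [EGA43.IsUnivOpenAt f x,
      (∀ Y₀ ∈ irreducibleComponents (Y : Type u), f.base x ∈ Y₀ →
        ∃ Z ∈ irreducibleComponents (X : Type u), ∃ hx : x ∈ Z, closure (f.base '' Z) = Y₀ ∧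
          ∀ η : Y, closure ({η} : Set Y) = Y₀ →
            FlatMor.localDim ↥(Z ∩ f.base ⁻¹' {f.base x}) ⟨x, ⟨hx, rfl⟩⟩ =
              topologicalKrullDim ↥(Z ∩ f.base ⁻¹' {η})),
      (∀ U : X.Opens, x ∈ U → ∀ y' : Y, y' ⤳ f.base x →
        FlatMor.fibreDimAt f x ≤ topologicalKrullDim ↥((U : Set X) ∩ f.base ⁻¹' {y'})),
      EGA43.IsOpenAt f.base x] := by
  haveI : IsLocallyNoetherian X := LocallyOfFiniteType.isLocallyNoetherian f
  have hm : ∀ x' : X, f x' = f x → x' ⤳ x → x' = x := fun x' h1 h2 => hmax x' h1 h2.mem_closure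
  tfae_have 1 → 4 := H06EGA14.isOpenAt_of_isUnivOpenAt f
  tfae_have 1 → 3 := fun h U hU y' hy' => H06EGA14.le_dim_inter_of_isUnivOpenAt f x hm h U hU y' hy'
  tfae_have 4 → 2 := fun h Y₀ hY₀ hxY₀ => by
    obtain ⟨η₀, rfl, hη₀⟩ := H06EGA14.exists_eq_closure_singleton hY₀
    obtain ⟨η, hη, rfl, hηmax, hdim⟩ := H06EGA14.exists_generic_of_isOpenAt f x hm h η₀
      (specializes_iff_mem_closure.mpr hxY₀) hη₀
    obtain ⟨Z, hZ, hxZ, himg, heq⟩ := H06EGA14.component_condition f x η hm hη hηmax hdim _ rfl
    exact ⟨Z, hZ, hxZ, himg, fun η' hη' => (heq η' hη').2⟩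
  tfae_have 3 → 2 := fun h Y₀ hY₀ hxY₀ => by
    obtain ⟨η₀, rfl, hη₀⟩ := H06EGA14.exists_eq_closure_singleton hY₀
    obtain ⟨η, hη, rfl, hηmax, hdim⟩ := H06EGA14.exists_generic_of_le_dim_inter f x η₀ hη₀
      (fun U hU => h U hU η₀ (specializes_iff_mem_closure.mpr hxY₀)) hm
    obtain ⟨Z, hZ, hxZ, himg, heq⟩ := H06EGA14.component_condition f x η hm hη hηmax hdim _ rfl
    exact ⟨Z, hZ, hxZ, himg, fun η' hη' => (heq η' hη').2⟩
  tfae_have 2 → 1 := fun h => by
    obtain ⟨η₀, hη₀x, hT⟩ := H8Props.FieldDim.exists_component_generization (f x)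
    obtain ⟨Z, hZ, hxZ, himg, heq⟩ := h _ hT hη₀x.mem_closure
    obtain ⟨η, rfl, hηmax⟩ := H06EGA14.exists_eq_closure_singleton hZ
    have hfη : f η = η₀ := H06EGA14.eq_of_closure_singleton_eq
      ((H06Equidim.closure_image_closure_singleton f η).symm.trans himg)
    have h2 := heq η₀ rfl
    rw [H06EGA14.localDim_inter_eq f x hm isClosed_closure ⟨hxZ, rfl⟩,
      H06EGA14.dim_inter_eq_cdim f η hfη, H06EGA14.cdim_asFiber_eq_fibreDimAt_of_fibre f x hm] at h2
    refine H06EGA14.isUnivOpenAt_of_dim_le f x η (specializes_iff_mem_closure.mpr hxZ) ?_ h2.le hy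
    rw [hfη]
    exact H06Equidim.eq_of_specializes_of_component hT
  tfae_finish

end Groth.Agent.S4934
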