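import Groth.Statements.S4935
import Groth.Agent.H06Conn.GoingDown


set_option autoImplicit false
universe u
open EGA43

namespace Groth.Agent.S4935

open Groth.Agent

/-- Let A be a unibranch local domain, B a domain containing A and integral over A, and 𝔫 a prime ideal
of B lying over the maximal ideal of A. Then Spec B_𝔫 → Spec A is surjective: for every prime ideal
𝔭 of A there is a prime ideal 𝔮 ⊆ 𝔫 of B with 𝔮 ∩ A = 𝔭. -/
theorem result {A B : Type u} [CommRing A] [IsDomain A]
    [IsLocalRing A] (hA : CAlg2.IsUnibranch A) [CommRing B] [IsDomain B] [Algebra A B]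
    (hinj : Function.Injective (algebraMap A B)) [Algebra.IsIntegral A B] (n : Ideal B) [n.IsPrime]
    (hn : n.comap (algebraMap A B) = IsLocalRing.maximalIdeal A) (p : Ideal A) [p.IsPrime] :
    ∃ q : Ideal B, q.IsPrime ∧ q ≤ n ∧ q.comap (algebraMap A B) = p := by
  let K := FractionRing A
  let C := integralClosure A K
  haveI : IsDomain C := inferInstance
  let L := FractionRing B
  have hBL : Function.Injective ((algebraMap B L).comp (algebraMap A B)) :=
    (IsFractionRing.injective B L).comp hinj
  let ι : K →ₐ[A] L := IsFractionRing.liftAlgHom (K := K) (g := Algebra.ofId A L)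
    (by rw [show (Algebra.ofId A L : A → L) = algebraMap A L from rfl, IsScalarTower.algebraMap_eq A B L]; exact hBL)
  let B' := integralClosure A L
  let σ : C →ₐ[A] B' := ι.mapIntegralClosure
  letI : Algebra C B' := σ.toRingHom.toAlgebra
  haveI : IsScalarTower A C B' := IsScalarTower.of_algebraMap_eq fun a => (σ.commutes a).symm
  haveI : FaithfulSMul C B' := (faithfulSMul_iff_algebraMap_injective C B').mpr fun x z h =>
    Subtype.ext (ι.toRingHom.injective (congrArg Subtype.val h))
  haveI : Algebra.IsIntegral A B' := IsIntegralClosure.isIntegral_algebra A L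
  haveI : Algebra.IsIntegral C B' := Algebra.IsIntegral.tower_top A
  haveI : IsFractionRing C K := integralClosure.isFractionRing_of_finite_extension K K
  haveI : IsIntegrallyClosed C := (isIntegrallyClosed_iff_isIntegrallyClosedIn K).mpr inferInstance
  let τ : B →ₐ[A] B' := (IsScalarTower.toAlgHom A B L).codRestrict B'
    fun b => (Algebra.IsIntegral.isIntegral b).map (IsScalarTower.toAlgHom A B L)
  letI : Algebra B B' := τ.toRingHom.toAlgebra
  haveI : IsScalarTower A B B' := IsScalarTower.of_algebraMap_eq fun a => (τ.commutes a).symm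
  haveI : Algebra.IsIntegral B B' := Algebra.IsIntegral.tower_top A
  have hτ : Function.Injective (algebraMap B B') := fun x z h =>
    IsFractionRing.injective B L (congrArg Subtype.val h)
  obtain ⟨n', hn', hn'c⟩ := Ideal.exists_ideal_over_prime_of_isIntegral_of_isDomain (S := B') n
    (by rw [(RingHom.injective_iff_ker_eq_bot _).mp hτ]; exact bot_le)
  obtain ⟨P, hP, hPp⟩ := Ideal.exists_ideal_over_prime_of_isIntegral_of_isDomain (S := C) p
    (by rw [(RingHom.injective_iff_ker_eq_bot _).mp (FaithfulSMul.algebraMap_injective A C)]; exact bot_le)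
  haveI := hn'
  haveI := hP
  have hnA : n'.under A = IsLocalRing.maximalIdeal A := by
    rw [← hn, ← hn'c, Ideal.under_def, Ideal.comap_comap, ← IsScalarTower.algebraMap_eq]
  haveI : (n'.under C).IsMaximal := Ideal.isMaximal_of_isIntegral_of_isMaximal_comap (R := A) _ (by
    rw [show (n'.under C).comap (algebraMap A C) = IsLocalRing.maximalIdeal A from ?_]
    · exact IsLocalRing.maximalIdeal.isMaximal A
    · rw [← hnA, Ideal.under_def, Ideal.comap_comap, ← IsScalarTower.algebraMap_eq])
  haveI : IsLocalRing C := by
    haveI : IsLocalRing (CAlg2.normRed A) := hA.2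
    have hnil : nilradical A = ⊥ := nilradical_eq_zero A
    let e : A ≃+* CAlg2.red A := RingEquiv.ofBijective (Ideal.Quotient.mk (nilradical A))
      ⟨(RingHom.injective_iff_ker_eq_bot _).mpr (by rw [Ideal.mk_ker, hnil]), Ideal.Quotient.mk_surjective⟩
    haveI : IsDomain (CAlg2.red A) := hA.1
    let θ : K ≃+* FractionRing (CAlg2.red A) := IsFractionRing.ringEquivOfRingEquiv e
    have hθ : ∀ a, θ (algebraMap A K a) = algebraMap _ _ (e a) :=
      fun a => IsFractionRing.ringEquivOfRingEquiv_algebraMap e a
    have hint : ∀ z : K, IsIntegral A z ↔ IsIntegral (CAlg2.red A) (θ z) := fun z => by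
      have hsq : (algebraMap (CAlg2.red A) (FractionRing (CAlg2.red A))).comp e.toRingHom =
          θ.toRingHom.comp (algebraMap A K) := RingHom.ext fun a => (hθ a).symm
      constructor
      · rintro ⟨P, hP, h0⟩
        refine ⟨P.map e.toRingHom, hP.map _, ?_⟩
        rw [Polynomial.eval₂_map, hsq, show θ z = θ.toRingHom z from rfl, ← Polynomial.hom_eval₂, h0, map_zero]
      · rintro ⟨P, hP, h0⟩
        refine ⟨P.map e.symm.toRingHom, hP.map _, θ.injective ?_⟩
        rw [map_zero, show θ _ = θ.toRingHom _ from rfl, Polynomial.eval₂_map, Polynomial.hom_eval₂, ← h0]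
        congr 1
        rw [← RingHom.comp_assoc, ← hsq, RingHom.comp_assoc]
        ext w
        simp
    let E : CAlg2.normRed A ≃+* C :=
      { toFun := fun w => ⟨θ.symm w.1, (hint _).mpr (by rw [θ.apply_symm_apply]; exact w.2)⟩
        invFun := fun z => ⟨θ z.1, (hint _).mp z.2⟩
        left_inv := fun w => Subtype.ext (θ.apply_symm_apply _)
        right_inv := fun z => Subtype.ext (θ.symm_apply_apply _)
        map_mul' := fun a b => Subtype.ext (map_mul θ.symm a.1 b.1)
        map_add' := fun a b => Subtype.ext (map_add θ.symm a.1 b.1) }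
    exact E.isLocalRing
  have hle : P ≤ n'.under C :=
    (IsLocalRing.le_maximalIdeal hP.ne_top).trans (IsLocalRing.eq_maximalIdeal inferInstance).ge
  haveI : Algebra.HasGoingDown C B' := H06Conn.hasGoingDown C B'
  obtain ⟨Q, hQn, hQ, hQP⟩ := Ideal.exists_ideal_le_liesOver_of_le n' hle
  refine ⟨Q.comap (algebraMap B B'), inferInstance, hn'c ▸ Ideal.comap_mono hQn, ?_⟩
  rw [Ideal.comap_comap, ← IsScalarTower.algebraMap_eq, IsScalarTower.algebraMap_eq A C B', ← Ideal.comap_comap,
    show Q.comap (algebraMap C B') = P from hQP.over.symm]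
  exact hPp

end Groth.Agent.S4935
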