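import Groth.Statements.S4938
import Groth.Agent.H06EGA14.MaximalPoint

set_option autoImplicit false
open CategoryTheory AlgebraicGeometry
universe u v w
open EGA43

namespace Groth.Agent.S4938

open TopologicalSpace Topology
set_option linter.style.haveILetI false
set_option backward.isDefEq.respectTransparency false

/-- Let Y be a locally Noetherian scheme, f : X ⟶ Y a morphism locally of finite type, and y a
geometrically unibranch point of Y, lying on the unique irreducible component Y₀ of Y with generic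
point η. The following are equivalent: a) f is universally open at every point of X_y; b) every
point x of X_y lies on an irreducible component Z of X dominating Y₀ with dim_x(Z ∩ X_y) = dim(Z ∩
X_η); b'') for every open subset U of X, dim(U ∩ X_η) ≥ dim(U ∩ X_y); c) f is open at every point of
X_y. (The published statement assumes Y locally Noetherian only for c) and also lists b′), the
pointwise form of b″) (for every x in X_y and every open U ∋ x, dim(U ∩ X_η) ≥ dim_x(U ∩ X_y)); over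
the spectrum of an infinite product of copies of a field, the inclusion of a non-open closed point
satisfies b) and b″) but not a), so this row takes Y locally Noetherian throughout, and b′) is not
listed.) -/
theorem result {X Y : Scheme.{u}} [IsLocallyNoetherian Y] (f : X ⟶ Y)
    [LocallyOfFiniteType f] (y : Y) (hy : CAlg2.IsGeomUnibranch (Y.presheaf.stalk y)) :
    List.TFAE [∀ x : X, f.base x = y → EGA43.IsUnivOpenAt f x,
      ∀ x : X, f.base x = y → ∀ Y₀ ∈ irreducibleComponents (Y : Type u), y ∈ Y₀ →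
        ∃ Z ∈ irreducibleComponents (X : Type u), ∃ hx : x ∈ Z, closure (f.base '' Z) = Y₀ ∧
          ∀ η : Y, closure ({η} : Set Y) = Y₀ →
            FlatMor.localDim ↥(Z ∩ f.base ⁻¹' {f.base x}) ⟨x, ⟨hx, rfl⟩⟩ = topologicalKrullDim ↥(Z ∩ f.base ⁻¹' {η}),
      ∀ U : X.Opens, ∀ Y₀ ∈ irreducibleComponents (Y : Type u), y ∈ Y₀ → ∀ η : Y, closure ({η} : Set Y) = Y₀ →
        topologicalKrullDim ↥((U : Set X) ∩ f.base ⁻¹' {y}) ≤ topologicalKrullDim ↥((U : Set X) ∩ f.base ⁻¹' {η}),
      ∀ x : X, f.base x = y → EGA43.IsOpenAt f.base x] := by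
  haveI : IsLocallyNoetherian X := LocallyOfFiniteType.isLocallyNoetherian f
  have key : (∀ ξ : X, f.base ξ = y → (∀ x', f x' = f ξ → x' ⤳ ξ → x' = ξ) →
      ∃ η₀ η, η ⤳ ξ ∧ f η = η₀ ∧ (∀ w, w ⤳ η₀ → w = η₀) ∧
        FlatMor.fibreDimAt f ξ ≤ H8Props.FieldDim.cdim (f.asFiber η)) →
      ∀ x : X, f.base x = y → EGA43.IsUnivOpenAt f x := fun h x hx => by
    obtain ⟨ξ, hξx, hfξ, hξmax, hξd⟩ := H06EGA14.exists_maximal_generization f x
    obtain ⟨η₀, η, hη, rfl, hη₀, hdim⟩ := h ξ (hfξ.trans hx) hξmax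
    refine H06EGA14.isUnivOpenAt_of_dim_le f x η (hη.trans hξx) hη₀ ?_ (hx ▸ hy)
    rw [← H06EGA14.cdim_asFiber_eq_fibreDimAt_of_fibre f ξ hξmax, hξd] at hdim
    exact hdim
  tfae_have 1 → 4 := fun h x hx => H06EGA14.isOpenAt_of_isUnivOpenAt f (h x hx)
  tfae_have 4 → 2 := fun h x hx Y₀ hY₀ hyY₀ => by
    obtain ⟨η₀, rfl, hη₀⟩ := H06EGA14.exists_eq_closure_singleton hY₀
    obtain ⟨ξ, hξx, hfξ, hξmax, hξd⟩ := H06EGA14.exists_maximal_generization f x
    obtain ⟨η, hη, rfl, hηmax, hdim⟩ := H06EGA14.exists_generic_of_isOpenAt f ξ hξmax (h ξ (hfξ.trans hx))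
      η₀ (specializes_iff_mem_closure.mpr (by rw [hfξ, hx]; exact hyY₀)) hη₀
    refine ⟨closure {η}, H06Equidim.closure_singleton_mem_irreducibleComponents η hηmax,
      (hη.trans hξx).mem_closure, H06Equidim.closure_image_closure_singleton f η, fun η' hη' => ?_⟩
    obtain rfl : η' = f η := H06EGA14.eq_of_closure_singleton_eq hη'
    rw [H06EGA14.dim_inter_eq_cdim f η rfl]
    rw [← H06EGA14.cdim_asFiber_eq_fibreDimAt_of_fibre f ξ hξmax] at hdim
    refine le_antisymm ?_ ?_
    · refine (H06EGA14.localDim_inter_le f x ⟨(hη.trans hξx).mem_closure, rfl⟩).trans ?_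
      rw [← hξd]; exact hdim
    · refine le_trans ?_ (H06EGA14.cdim_le_localDim_inter f x ξ hξx hfξ isClosed_closure hη.mem_closure _)
      rw [hξd]
      exact (H06Equidim.cdim_asFiber_le_fibreDimAt f η).trans
        (H8Props.FieldDim.fibreDimAt_le_of_specializes f (hη.trans hξx))
  tfae_have 2 → 1 := fun h => key fun ξ hξ hξmax => by
    obtain ⟨η₀, hη₀x, hT⟩ := H8Props.FieldDim.exists_component_generization (f ξ)
    obtain ⟨Z, hZ, hxZ, himg, heq⟩ := h ξ hξ _ hT (hξ ▸ hη₀x.mem_closure)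
    obtain ⟨η, rfl, hηmax⟩ := H06EGA14.exists_eq_closure_singleton hZ
    have hfη : f η = η₀ := H06EGA14.eq_of_closure_singleton_eq
      ((H06Equidim.closure_image_closure_singleton f η).symm.trans himg)
    have h2 := heq η₀ rfl
    rw [H06EGA14.localDim_inter_eq f ξ hξmax isClosed_closure ⟨hxZ, rfl⟩,
      H06EGA14.dim_inter_eq_cdim f η hfη, H06EGA14.cdim_asFiber_eq_fibreDimAt_of_fibre f ξ hξmax] at h2
    exact ⟨η₀, η, specializes_iff_mem_closure.mpr hxZ, hfη, H06Equidim.eq_of_specializes_of_component hT, h2.le⟩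
  tfae_have 4 → 3 := fun h U Y₀ hY₀ hyY₀ η₀ hη₀ => by
    subst hη₀
    refine H06EGA14.le_of_forall_nat_le fun n hn => ?_
    obtain ⟨v, hvU, hfv, hv⟩ := H06EGA14.exists_cdim_eq_of_dim_inter f U y n hn
    obtain ⟨ξ, hξv, hfξ, hξmax, hξd⟩ := H06EGA14.exists_maximal_generization f v
    obtain ⟨η, hη, hfη, -, hdim⟩ := H06EGA14.exists_generic_of_isOpenAt f ξ hξmax (h ξ (hfξ.trans hfv))
      η₀ (specializes_iff_mem_closure.mpr (by rw [hfξ, hfv]; exact hyY₀))
      (H06Equidim.eq_of_specializes_of_component hY₀)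
    rw [← H06EGA14.cdim_asFiber_eq_fibreDimAt_of_fibre f ξ hξmax, hξd] at hdim
    exact hv.trans (((H06Equidim.cdim_asFiber_le_fibreDimAt f v).trans hdim).trans
      (H06EGA14.cdim_le_dim_inter f U η ((hη.trans hξv).mem_open U.2 hvU) hfη))
  tfae_have 3 → 1 := fun h => key fun ξ hξ hξmax => by
    obtain ⟨η₀, hη₀x, hT⟩ := H8Props.FieldDim.exists_component_generization (f ξ)
    have hη₀ := H06Equidim.eq_of_specializes_of_component hT
    obtain ⟨η, hη, hfη, -, hdim⟩ := H06EGA14.exists_generic_of_le_dim_inter f ξ η₀ hη₀ (fun U hU => by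
      rw [← H06EGA14.cdim_asFiber_eq_fibreDimAt_of_fibre f ξ hξmax]
      exact (H06EGA14.cdim_le_dim_inter f U ξ hU hξ).trans
        (h U _ hT (hξ ▸ hη₀x.mem_closure) η₀ rfl)) hξmax
    exact ⟨η₀, η, hη, hfη, hη₀, hdim⟩
  tfae_finish

end Groth.Agent.S4938
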