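import Groth.Statements.S4939
import Groth.Agent.H06EGA14.EquidimStalk

set_option autoImplicit false
open CategoryTheory AlgebraicGeometry
universe u v w
open EGA43

namespace Groth.Agent.S4939

open TopologicalSpace Topology
set_option backward.isDefEq.respectTransparency false

/-- Suppose Y is a locally Noetherian scheme and f : X ⟶ Y is locally of finite type; take a point x of
X whose image y = f x is geometrically unibranch on Y. Then these three conditions are equivalent:
a) f is equidimensional at x; b) O_{X,x} is an equidimensional local ring, and f is open at every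
generic point of an irreducible component of the fibre X_y that contains x; c) O_{X,x} is
equidimensional, and f is universally open at every such generic point of an irreducible component
of X_y passing through x. (Not formalized here is the additional claim that, when these hold,
restricting f to any reduced irreducible component of X through x gives a morphism equidimensional
at x and universally open at the points of the components of its fibre through x.) -/
theorem result {X Y : Scheme.{u}} [IsLocallyNoetherian Y] (f : X ⟶ Y)
    [LocallyOfFiniteType f] (x : X) (hy : CAlg2.IsGeomUnibranch (Y.presheaf.stalk (f.base x))) :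
    List.TFAE [EGA43.IsEquidimAt f x,
      EGA4.IsEquidim (X.presheaf.stalk x) ∧ (∀ z : ↥(f.fiber (f.base x)), f.asFiber x ∈ closure {z} →
        (∀ z' : ↥(f.fiber (f.base x)), z ∈ closure {z'} → z' = z) → EGA43.IsOpenAt f.base ((f.fiberι (f.base x)).base z)),
      EGA4.IsEquidim (X.presheaf.stalk x) ∧ (∀ z : ↥(f.fiber (f.base x)), f.asFiber x ∈ closure {z} →
        (∀ z' : ↥(f.fiber (f.base x)), z ∈ closure {z'} → z' = z) → EGA43.IsUnivOpenAt f ((f.fiberι (f.base x)).base z))] := by
  tfae_have 1 → 3 := fun h => by
    refine ⟨H06EGA14.isEquidim_stalk_of_isEquidimAt f x h hy, fun z hz _ => ?_⟩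
    obtain ⟨e, U, hxU, hcomp, hfib⟩ := h
    have hfz : f ((f.fiberι (f x)) z) = f x := (f.range_fiberι (f x)).subset (Set.mem_range_self z)
    have hzx : (f.fiberι (f x)) z ⤳ x := by
      have h1 := (specializes_iff_mem_closure.mpr hz).map (f.fiberι (f x)).continuous
      rwa [f.fiberι_asFiber] at h1
    refine H06EGA14.isUnivOpenAt_of_isEquidimAt f _ ⟨e, U, hzx.mem_open U.2 hxU, fun Z hZ => ?_, hfib⟩
      (hfz.symm ▸ hy)
    obtain ⟨W, hW, hxW, heq⟩ := hcomp Z hZ
    exact ⟨W, hW, hfz.symm ▸ hxW, heq⟩
  tfae_have 3 → 2 := fun h => ⟨h.1, fun z hz hmax => H06EGA14.isOpenAt_of_isUnivOpenAt f (h.2 z hz hmax)⟩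
  tfae_have 2 → 1 := fun h => by
    refine H06EGA14.isEquidimAt_of_isEquidim_of_isOpenAt f x hy h.1 fun ξ hξ hfξ hmax => ?_
    obtain ⟨z, rfl⟩ : ξ ∈ Set.range (f.fiberι (f x)) := by rw [f.range_fiberι]; exact hfξ
    refine h.2 z ?_ fun z' hz' => ?_
    · refine specializes_iff_mem_closure.mp ((f.fiberι (f x)).isEmbedding.isInducing.specializes_iff.mp ?_)
      rwa [f.fiberι_asFiber]
    · refine (f.fiberι (f x)).isEmbedding.injective (hmax _ ?_ ?_)
      · rw [hfξ]
        exact (f.range_fiberι (f x)).subset (Set.mem_range_self z')
      · exact (specializes_iff_mem_closure.mpr hz').map (f.fiberι (f x)).continuous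
  tfae_finish

end Groth.Agent.S4939
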