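import Groth.Statements.S4943
import Groth.Agent.H06EGA14.EquidimCut

set_option autoImplicit false
open CategoryTheory AlgebraicGeometry
universe u v w
open EGA43

namespace Groth.Agent.S4943

open Groth.Agent Groth.Agent.H06EGA14 Groth.Agent.H8Props.FieldDim

/-- Let Y be an irreducible locally Noetherian scheme, f : X ⟶ Y a morphism locally of finite type which
is equidimensional at the point x, y = f x and e = dim_x(X_y). Let X' be an irreducible closed
subset of X containing x, with generic point x', and n a natural number such that codim(X', X) ≤ n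
(the codimension being dim O_{X,x'}) and dim_x(X' ∩ X_y) ≤ e − n. Then codim(X', X) = n, dim_x(X' ∩
X_y) = e − n, and the restriction of f to X' with its reduced subscheme structure is equidimensional
at x. -/
theorem result {X Y : Scheme.{u}} [IrreducibleSpace Y]
    [IsLocallyNoetherian Y] (f : X ⟶ Y) [LocallyOfFiniteType f] (x : X) (hf : EGA43.IsEquidimAt f x)
    (X' : TopologicalSpace.Closeds X) (x' : X) (hx' : closure ({x'} : Set X) = (X' : Set X)) (hx : x ∈ X') (n : ℕ)
    (hcodim : ringKrullDim (X.presheaf.stalk x') ≤ n)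
    (hdim : FlatMor.localDim ↥((X' : Set X) ∩ f.base ⁻¹' {f.base x}) ⟨x, ⟨hx, rfl⟩⟩ + n ≤ FlatMor.fibreDimAt f x) :
    ringKrullDim (X.presheaf.stalk x') = n ∧
      FlatMor.localDim ↥((X' : Set X) ∩ f.base ⁻¹' {f.base x}) ⟨x, ⟨hx, rfl⟩⟩ + n = FlatMor.fibreDimAt f x ∧
      ∀ w : ↥(Scheme.IdealSheafData.vanishingIdeal X').subscheme,
        (Scheme.IdealSheafData.vanishingIdeal X').subschemeι.base w = x →
        EGA43.IsEquidimAt ((Scheme.IdealSheafData.vanishingIdeal X').subschemeι ≫ f) w := by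
  haveI : IsLocallyNoetherian X := LocallyOfFiniteType.isLocallyNoetherian f
  let ι' := (Scheme.IdealSheafData.vanishingIdeal X').subschemeι
  have hr : Set.range ι' = (X' : Set X) := by
    simp only [ι', Scheme.IdealSheafData.range_subschemeι, Scheme.IdealSheafData.coe_support_vanishingIdeal]
  obtain ⟨w₀, hw₀⟩ : x ∈ Set.range ι' := hr ▸ hx
  obtain ⟨z, hz⟩ : x' ∈ Set.range ι' := hr ▸ (hx' ▸ subset_closure rfl : x' ∈ (X' : Set X))
  obtain ⟨e, he, -, -⟩ := dim_data_of_isEquidimAt f x hf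
  obtain ⟨a, ha⟩ : ∃ a : ℕ, FlatMor.fibreDimAt (ι' ≫ f) w₀ = (a : ℕ) := by
    obtain ⟨ξ, -, -, -, hd⟩ := exists_maximal_generization (ι' ≫ f) w₀
    obtain ⟨a, hc, -⟩ := H06Equidim.exists_trdeg_asFiber (ι' ≫ f) ξ
    exact ⟨a, hd.symm.trans hc⟩
  have hld := localDim_inter_eq_fibreDimAt ι' f w₀ hr hw₀ ⟨hx, rfl⟩
  rw [hld, ha, he] at hdim
  have han : a + n ≤ e := by exact_mod_cast hdim
  have hζ : ∀ ζ, (∀ v, v ⤳ ζ → v = ζ) → ι' ζ = x' := fun ζ hmax => by
    have h1 : x' ⤳ ι' ζ := specializes_iff_mem_closure.mpr (hx'.symm ▸ hr ▸ Set.mem_range_self ζ)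
    rw [← hz] at h1 ⊢
    rw [hmax z (ι'.isEmbedding.isInducing.specializes_iff.mp h1)]
  have key := fun w hw hd => isEquidimAt_closedSubscheme ι' f x hf w hw n a e he hd han
    (fun ζ _ hmax => (hζ ζ hmax).symm ▸ hcodim)
  obtain ⟨-, h2, h3, h4⟩ := key w₀ hw₀ ha.le
  obtain ⟨ζ₀, hζ₀, hT⟩ := H8Props.FieldDim.exists_component_generization w₀
  have hmax₀ := H06Equidim.eq_of_specializes_of_component hT
  refine ⟨hζ ζ₀ hmax₀ ▸ h4 ζ₀ hζ₀ hmax₀, ?_, fun w hw => ?_⟩
  · rw [hld, ha, he]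
    exact_mod_cast h2
  · have hww : w = w₀ := ι'.isEmbedding.injective (hw.trans hw₀.symm)
    exact (key w hw (hww ▸ ha.le)).1

end Groth.Agent.S4943
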