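import Groth.Statements.S4945
import Groth.Agent.H06EGA14.QuasiSection
import Groth.Agent.S4916

set_option autoImplicit false
open CategoryTheory AlgebraicGeometry
universe u v w
open EGA43

namespace Groth.Agent.S4945

open TopologicalSpace Topology
set_option linter.style.haveILetI false
set_option backward.isDefEq.respectTransparency false

/-- Let Y be an irreducible locally Noetherian scheme with generic point η, f : X ⟶ Y a morphism locally
of finite type and y a geometrically unibranch point of Y. The following are equivalent: a) f is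
universally open at every point of X_y; b) f is open at every point of X_y; c) for every maximal
point z of X_y there is an irreducible component Z of X containing z and dominating Y with dim_z(Z ∩
X_y) = dim(Z ∩ X_η); d) for every point x closed in X_y there are an irreducible reduced scheme T
and an immersion T ⟶ X with image containing x such that T ⟶ Y is quasi-finite and dominant. -/
theorem result {X Y : Scheme.{u}} [IrreducibleSpace Y]
    [IsLocallyNoetherian Y] (f : X ⟶ Y) [LocallyOfFiniteType f] (y : Y) (hy : CAlg2.IsGeomUnibranch (Y.presheaf.stalk y)) :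
    List.TFAE [∀ x : X, f.base x = y → EGA43.IsUnivOpenAt f x,
      ∀ x : X, f.base x = y → EGA43.IsOpenAt f.base x,
      ∀ z : X, ∀ hzy : f.base z = y, (∀ z' : X, f.base z' = y → z ∈ closure {z'} → z' = z) →
        ∃ Z ∈ irreducibleComponents (X : Type u), ∃ hz : z ∈ Z, Dense (f.base '' Z) ∧
          FlatMor.localDim ↥(Z ∩ f.base ⁻¹' {y}) ⟨z, ⟨hz, hzy⟩⟩ = topologicalKrullDim ↥(Z ∩ f.base ⁻¹' {genericPoint Y}),
      ∀ x : X, f.base x = y → (∀ x' : X, f.base x' = y → x ⤳ x' → x' = x) →
        ∃ (T : Scheme.{u}) (i : T ⟶ X), IsImmersion i ∧ IrreducibleSpace ↥T ∧ IsReduced T ∧ x ∈ Set.range i.base ∧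
        LocallyOfFiniteType (i ≫ f) ∧ LocallyQuasiFinite (i ≫ f) ∧ QuasiCompact (i ≫ f) ∧ IsDominant (i ≫ f)] := by
  haveI : IsLocallyNoetherian X := LocallyOfFiniteType.isLocallyNoetherian f
  have hη₀ : ∀ w, w ⤳ genericPoint Y → w = genericPoint Y := fun w hw =>
    (hw.antisymm (genericPoint_specializes w)).eq
  have hgenY : ∀ {Z : Scheme.{u}} (g : Z ⟶ Y) (η : Z), Dense (g '' closure {η}) → g η = genericPoint Y :=
    fun g η hd => H06EGA14.eq_of_closure_singleton_eq (by
      rw [← H06Equidim.closure_image_closure_singleton g η, hd.closure_eq, genericPoint_closure])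
  have key : (∀ ξ : X, f.base ξ = y → (∀ x', f x' = f ξ → x' ⤳ ξ → x' = ξ) →
      ∃ η, η ⤳ ξ ∧ f η = genericPoint Y ∧
        FlatMor.fibreDimAt f ξ ≤ H8Props.FieldDim.cdim (f.asFiber η)) →
      ∀ x : X, f.base x = y → EGA43.IsUnivOpenAt f x := fun h x hx => by
    obtain ⟨ξ, hξx, hfξ, hξmax, hξd⟩ := H06EGA14.exists_maximal_generization f x
    obtain ⟨η, hη, hfη, hdim⟩ := h ξ (hfξ.trans hx) hξmax
    refine H06EGA14.isUnivOpenAt_of_dim_le f x η (hη.trans hξx) (hfη ▸ hη₀) ?_ (hx ▸ hy)
    rw [← H06EGA14.cdim_asFiber_eq_fibreDimAt_of_fibre f ξ hξmax, hξd] at hdim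
    exact hdim
  tfae_have 1 → 2 := fun h x hx => H06EGA14.isOpenAt_of_isUnivOpenAt f (h x hx)
  tfae_have 2 → 3 := fun h z hz hmax => by
    have hm : ∀ x' : X, f x' = f z → x' ⤳ z → x' = z := fun x' h1 h2 => hmax x' (h1.trans hz) h2.mem_closure
    obtain ⟨η, hη, hfη, hηmax, hdim⟩ := H06EGA14.exists_generic_of_isOpenAt f z hm (h z hz) (genericPoint Y)
      (genericPoint_specializes _) hη₀
    obtain ⟨Z, hZ, hzZ, himg, heq⟩ := H06EGA14.component_condition f z η hm hη hηmax hdim Set.univ
      (hfη ▸ genericPoint_closure _)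
    refine ⟨Z, hZ, hzZ, dense_iff_closure_eq.mpr himg, ?_⟩
    subst hz
    exact (heq (genericPoint Y) (genericPoint_closure _)).2
  tfae_have 3 → 1 := fun h => key fun ξ hξ hξmax => by
    obtain ⟨Z, hZ, hξZ, hd, heq⟩ := h ξ hξ fun z' h1 h2 => hξmax z' (h1.trans hξ.symm) (specializes_iff_mem_closure.mpr h2)
    obtain ⟨η, rfl, hηmax⟩ := H06EGA14.exists_eq_closure_singleton hZ
    have hfη := hgenY f η hd
    subst hξ
    rw [H06EGA14.localDim_inter_eq f ξ hξmax isClosed_closure ⟨hξZ, rfl⟩, H06EGA14.dim_inter_eq_cdim f η hfη,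
      H06EGA14.cdim_asFiber_eq_fibreDimAt_of_fibre f ξ hξmax] at heq
    exact ⟨η, specializes_iff_mem_closure.mpr hξZ, hfη, heq.le⟩
  tfae_have 2 → 4 := fun h x hx hcl => by
    obtain ⟨ξ, hξx, hfξ, hξmax, hξd⟩ := H06EGA14.exists_maximal_generization f x
    obtain ⟨η, hη, hfη, -, hdim⟩ := H06EGA14.exists_generic_of_isOpenAt f ξ hξmax (h ξ (hfξ.trans hx))
      (genericPoint Y) (genericPoint_specializes _) hη₀
    rw [← H06EGA14.cdim_asFiber_eq_fibreDimAt_of_fibre f ξ hξmax, hξd] at hdim
    exact H06EGA14.exists_quasiSection f x η (hη.trans hξx) hfη (fun x' h1 h2 => hcl x' (h1.trans hx) h2) hdim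
  tfae_have 4 → 2 := fun h x hx => by
    haveI : LocallyOfFiniteType (f.fiberToSpecResidueField y) := H8Props.FieldDim.locallyOfFiniteType_fiberToSpec f y
    haveI : JacobsonSpace ↥(f.fiber y) := LocallyOfFiniteType.jacobsonSpace (f.fiberToSpecResidueField y)
    let k : ↥(f.fiber y) → ↥(f.base ⁻¹' {y}) := fun u =>
      ⟨f.fiberι y u, (f.range_fiberι y).subset (Set.mem_range_self u)⟩
    have hC : IsClosed (k ⁻¹' {z | EGA43.IsOpenAt f.base z.1}) :=
      (S4916.result f.base f.continuous y).preimage ((f.fiberι y).continuous.subtype_mk _)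
    have hsub : closedPoints ↥(f.fiber y) ⊆ k ⁻¹' {z | EGA43.IsOpenAt f.base z.1} := fun u hu => by
      have hfu : f (f.fiberι y u) = y := (f.range_fiberι y).subset (Set.mem_range_self u)
      obtain ⟨T, i, hi, hT, hTr, ⟨t, ht⟩, hlft, hlqf, -, hdom⟩ := h (f.fiberι y u) hfu fun x' h1 h2 => by
        obtain ⟨u', rfl⟩ : x' ∈ Set.range (f.fiberι y) := by rw [f.range_fiberι]; exact h1
        have h3 : u' ∈ closure ({u} : Set ↥(f.fiber y)) :=
          ((f.fiberι y).isEmbedding.isInducing.specializes_iff.mp h2).mem_closure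
        rw [(mem_closedPoints_iff.mp hu).closure_eq] at h3
        exact congrArg _ h3
      have hgt : (i ≫ f) t = y := by rw [Scheme.Hom.comp_apply, ht]; exact hfu
      have hgen : (i ≫ f) (genericPoint T) = genericPoint Y := hgenY (i ≫ f) (genericPoint T) (by
        rw [genericPoint_closure, Set.image_univ]
        exact (i ≫ f).denseRange)
      have h4 : EGA43.IsUnivOpenAt (i ≫ f) t := by
        refine H06EGA14.isUnivOpenAt_of_dim_le (i ≫ f) t (genericPoint T) (genericPoint_specializes t)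
          (hgen ▸ hη₀) ?_ (by rw [hgt]; exact hy)
        refine (H8Props.FieldDim.fibreDimAt_le_zero_of_quasiFiniteAt (i ≫ f) ((i ≫ f).quasiFiniteAt t)).trans ?_
        obtain ⟨s, hs, -⟩ := H06Equidim.exists_trdeg_asFiber (i ≫ f) (genericPoint T)
        rw [hs]
        exact Nat.cast_nonneg' s
      have h5 := H06EGA14.isOpenAt_of_isUnivOpenAt f (H06EGA14.isUnivOpenAt_right_of_comp h4)
      show EGA43.IsOpenAt f.base (f.fiberι y u)
      rw [← ht]
      exact h5
    obtain ⟨u, rfl⟩ : x ∈ Set.range (f.fiberι y) := by rw [f.range_fiberι]; exact hx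
    exact closure_minimal hsub hC (closure_closedPoints.ge (Set.mem_univ u))
  tfae_finish

end Groth.Agent.S4945
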