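import Groth.Statements.S4946
import Groth.Agent.H06EGA14.DedekindSection

set_option autoImplicit false
open CategoryTheory AlgebraicGeometry
universe u v w
open EGA43

namespace Groth.Agent.S4946

open Groth.Agent Groth.Agent.H06EGA14 Topology

/-- Let Y be an irreducible locally Noetherian scheme which is regular of dimension 1 (all local rings
regular of dimension at most 1), f : X ⟶ Y a morphism locally of finite type and y a point of Y.
Then the following are equivalent: d) every irreducible component of X meeting the fibre X_y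
dominates Y; e) for every point x closed in X_y and every irreducible component X_i of X containing
x, there are an irreducible reduced scheme T and an immersion T ⟶ X with image containing x and
contained in X_i, such that T ⟶ Y is quasi-finite and dominant. -/
theorem result {X Y : Scheme.{u}} [IrreducibleSpace Y]
    [IsLocallyNoetherian Y] (hY : ∀ y : Y, IsRegularLocalRing (Y.presheaf.stalk y) ∧ ringKrullDim (Y.presheaf.stalk y) ≤ 1)
    (f : X ⟶ Y) [LocallyOfFiniteType f] (y : Y) :
    (∀ Z ∈ irreducibleComponents (X : Type u), (Z ∩ f.base ⁻¹' {y}).Nonempty → Dense (f.base '' Z)) ↔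
      ∀ x : X, f.base x = y → (∀ x' : X, f.base x' = y → x ⤳ x' → x' = x) →
        ∀ Xi ∈ irreducibleComponents (X : Type u), x ∈ Xi →
          ∃ (T : Scheme.{u}) (i : T ⟶ X), IsImmersion i ∧ IrreducibleSpace ↥T ∧ IsReduced T ∧ x ∈ Set.range i.base ∧
            Set.range i.base ⊆ Xi ∧
            LocallyOfFiniteType (i ≫ f) ∧ LocallyQuasiFinite (i ≫ f) ∧ QuasiCompact (i ≫ f) ∧ IsDominant (i ≫ f) := by
  haveI : IsLocallyNoetherian X := LocallyOfFiniteType.isLocallyNoetherian f
  constructor
  · intro hd x hx hcl Xi hXi hxXi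
    obtain ⟨η, rfl, hmax⟩ := H8Props.FieldDim.mem_irreducibleComponents_iff hXi
    have hd' := hd _ hXi ⟨x, hxXi, hx⟩
    have hfη : f η = genericPoint Y := by
      have h1 : closure (f '' closure {η}) = closure {f η} := H06Equidim.closure_image_closure_singleton f η
      have h2 : f η ⤳ genericPoint Y := specializes_iff_mem_closure.mpr (h1 ▸ hd' (genericPoint Y))
      exact (h2.antisymm (genericPoint_specializes _)).eq
    exact exists_quasiSection_of_dim_le_one (fun y => (hY y).2) f x η (specializes_iff_mem_closure.mpr hxXi) hfη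
      (fun x' h1 h2 => hcl x' (h1.trans hx) h2)
  · intro he Z hZ ⟨z, hzZ, hzy⟩
    have hzy : f z = y := hzy
    let k := f.fiberι y
    obtain ⟨u, hu⟩ : z ∈ Set.range k := by rw [f.range_fiberι]; exact hzy
    obtain ⟨v, hvZ, hvc⟩ := nonempty_inter_closedPoints (Z := k ⁻¹' Z) ⟨u, by rw [Set.mem_preimage, hu]; exact hzZ⟩
      ((isClosed_of_mem_irreducibleComponents Z hZ).preimage k.continuous).isLocallyClosed
    have hvy : f (k v) = y := (f.range_fiberι y).subset (Set.mem_range_self v)
    obtain ⟨T, i, -, -, -, -, hsub, -, -, -, hdom⟩ := he (k v) hvy (fun x' hx' hsp => by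
      obtain ⟨v', rfl⟩ : x' ∈ Set.range k := by rw [f.range_fiberι]; exact hx'
      have h1 : v' ∈ closure ({v} : Set (f.fiber y)) := (k.isEmbedding.isInducing.specializes_iff.mp hsp).mem_closure
      rw [IsClosed.closure_eq hvc] at h1
      rw [h1]) Z hZ hvZ
    refine Dense.mono ?_ hdom.1
    rintro _ ⟨a, rfl⟩
    exact ⟨i a, hsub ⟨a, rfl⟩, rfl⟩

end Groth.Agent.S4946
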