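import Groth.Statements.S4947
import Groth.Agent.H06RegVal.Basic

set_option autoImplicit false
universe u
open EGA43

namespace Groth.Agent.S4947

open Groth.Agent

/-- Let A be a regular local ring which is not a field, K its fraction field and k its residue field.
Then there is a discrete valuation ring V between A and K, with fraction field K, dominating A,
whose residue field is a purely transcendental extension of k: for some ring map from k compatible
with A → V there is an algebraically independent family generating the residue field of V as a field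
over k. -/
theorem result (A : Type u) [CommRing A] [IsRegularLocalRing A]
    (hA : ¬ IsField A) :
    ∃ (V : Subalgebra A (FractionRing A)) (_ : IsDomain V) (_ : IsDiscreteValuationRing V), IsFractionRing V (FractionRing A) ∧
      (IsLocalRing.maximalIdeal V).comap (algebraMap A V) = IsLocalRing.maximalIdeal A ∧
      ∃ (φ : IsLocalRing.ResidueField A →+* IsLocalRing.ResidueField V),
        φ.comp (IsLocalRing.residue A) = (IsLocalRing.residue V).comp (algebraMap A V) ∧
        letI := φ.toAlgebra
        ∃ (ι : Type u) (t : ι → IsLocalRing.ResidueField V), AlgebraicIndependent (IsLocalRing.ResidueField A) t ∧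
          IntermediateField.adjoin (IsLocalRing.ResidueField A) (Set.range t) = ⊤ := by
  obtain ⟨d, hd⟩ := H4Depth.exists_nat_ringKrullDim_eq (R := A)
  haveI := H4Depth.isDomain_of_isRegularLocalRing A
  have hd' : (IsLocalRing.maximalIdeal A).spanFinrank = d := by
    have := IsRegularLocalRing.spanFinrank_maximalIdeal (R := A)
    rw [hd] at this
    exact_mod_cast this
  obtain ⟨x', hx'⟩ := H4Depth.exists_fun_fin_span_eq (I := IsLocalRing.maximalIdeal A)
  let x : Fin d → A := x' ∘ Fin.cast hd'.symm
  have hx : Ideal.span (Set.range x) = IsLocalRing.maximalIdeal A := by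
    rw [Set.range_comp, show Set.range (Fin.cast hd'.symm) = Set.univ from (finCongr hd'.symm).surjective.range_eq, Set.image_univ]; exact hx'
  have hqr : CAlgX.IsQuasiRegular x :=
    H06QR.Regular.isQuasiRegular_of_isWeaklyRegular x (H4Depth.isRegular_ofFn_of_span_eq d hd x hx).toIsWeaklyRegular
  obtain ⟨i₀⟩ : Nonempty (Fin d) := by
    by_contra hne
    rw [not_nonempty_iff] at hne
    rw [Set.range_eq_empty, Ideal.span_empty] at hx
    exact hA (IsLocalRing.isField_iff_maximalIdeal_eq.mpr hx.symm)
  haveI := H06RegVal.isDiscreteValuationRing x hx hqr i₀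
  have hcomap : (IsLocalRing.maximalIdeal (H06RegVal.ordRing x)).comap (algebraMap A (H06RegVal.ordRing x)) =
      IsLocalRing.maximalIdeal A := by
    ext r
    rw [Ideal.mem_comap, IsLocalRing.mem_maximalIdeal, mem_nonunits_iff,
      H06RegVal.not_mem_iff_isUnit x hx hqr, not_not]
  haveI : IsLocalHom (algebraMap A (H06RegVal.ordRing x)) :=
    ((IsLocalRing.local_hom_TFAE (algebraMap A (H06RegVal.ordRing x))).out 0 4).mpr hcomap
  exact ⟨H06RegVal.ordRing x, inferInstance, inferInstance, H06RegVal.isFractionRing x, hcomap,
    IsLocalRing.ResidueField.map (algebraMap A (H06RegVal.ordRing x)), rfl,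
    H06RegVal.exists_residueField_basis x hx hqr i₀ _ rfl⟩

end Groth.Agent.S4947
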