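import Groth.Statements.S4948
import Groth.Agent.H06EGA14.DvrBase

set_option autoImplicit false
open CategoryTheory AlgebraicGeometry
universe u v w
open EGA43

namespace Groth.Agent.S4948

open Groth.Agent Groth.Agent.H06EGA14

/-- Consider a discrete valuation ring A and set Y = Spec A, whose closed point is y. Given a morphism f
: X ⟶ Y that is locally of finite type, and a point x lying in the fibre X_y, assume two things:
first, f is open at each generic point of an irreducible component of X_y passing through x; second,
X_y is reduced at x (that is, the local ring of the fibre at x is reduced). Under these assumptions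
f is flat at x. -/
theorem result {A : Type u} [CommRing A] [IsDomain A]
    [IsDiscreteValuationRing A] {X : Scheme.{u}} (f : X ⟶ Spec (CommRingCat.of A)) [LocallyOfFiniteType f] (x : X)
    (hx : f.base x = IsLocalRing.closedPoint A)
    (h : ∀ z : ↥(f.fiber (f.base x)), f.asFiber x ∈ closure {z} →
      (∀ z' : ↥(f.fiber (f.base x)), z ∈ closure {z'} → z' = z) → EGA43.IsOpenAt f.base ((f.fiberι (f.base x)).base z))
    (hred : _root_.IsReduced ((f.fiber (f.base x)).presheaf.stalk (f.asFiber x))) :
    (f.stalkMap x).hom.Flat := by
  refine flat_stalkMap_of_isOpenAt f x hx (fun z hzx hz hmax => ?_) hred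
  obtain ⟨u, hu⟩ : z ∈ Set.range (f.fiberι (f x)) := by rw [f.range_fiberι]; exact hz
  subst hu
  refine h u (specializes_iff_mem_closure.mp ?_) fun u' hu' => ?_
  · refine (f.fiberι (f x)).isEmbedding.isInducing.specializes_iff.mp ?_
    rwa [f.fiberι_asFiber]
  · apply (f.fiberι (f x)).isEmbedding.injective
    exact hmax _ ((f.range_fiberι (f x)).subset (Set.mem_range_self u'))
      ((specializes_iff_mem_closure.mpr hu').map (f.fiberι (f x)).continuous)

end Groth.Agent.S4948
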