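import Groth.Statements.S4950
import Groth.Agent.H06EGA15.SplitPoints
import Groth.Agent.H28NT.EtaleDVR
import Groth.Agent.H11Val.Point

set_option autoImplicit false
open CategoryTheory AlgebraicGeometry
universe u v w
open EGA43

namespace Groth.Agent.S4950

open Groth.Agent CategoryTheory.Limits

open CategoryTheory.Limits in
theorem specMap_square {R A B C : Type u} [CommRing R] [CommRing A] [CommRing B] [CommRing C] {Y : Scheme.{u}}
    (α : R →+* A) (φ : A →+* C) (β : R →+* B) (ψ : B →+* C) (h : Spec (CommRingCat.of R) ⟶ Y)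
    (w : φ.comp α = ψ.comp β) :
    Spec.map (CommRingCat.ofHom φ) ≫ Spec.map (CommRingCat.ofHom α) ≫ h =
      Spec.map (CommRingCat.ofHom ψ) ≫ Spec.map (CommRingCat.ofHom β) ≫ h := by
  rw [← Spec.map_comp_assoc, ← Spec.map_comp_assoc, ← CommRingCat.ofHom_comp, ← CommRingCat.ofHom_comp, w]

theorem specMap_comp_assoc {R A B : Type u} [CommRing R] [CommRing A] [CommRing B] {Y : Scheme.{u}}
    (α : R →+* A) (φ : A →+* B) (h : Spec (CommRingCat.of R) ⟶ Y) :
    Spec.map (CommRingCat.ofHom (φ.comp α)) ≫ h = Spec.map (CommRingCat.ofHom φ) ≫ Spec.map (CommRingCat.ofHom α) ≫ h := by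
  rw [← Spec.map_comp_assoc, ← CommRingCat.ofHom_comp]

set_option backward.isDefEq.respectTransparency false in
set_option maxHeartbeats 1000000 in
/-- Let Y be a locally Noetherian scheme, f : X ⟶ Y a separated quasi-finite morphism, y a point of Y
and y' a generization of y distinct from y; write n(z) for the geometric number of points of the
fibre X_z. Then there are a discrete valuation ring A and a morphism g : Spec A ⟶ Y mapping the
closed point to y and the generic point to y', such that n(y) is the number of points of the fibre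
of X ×_Y Spec A ⟶ Spec A over the closed point and n(y') is the number of points of its fibre over
the generic point. -/
theorem result {X Y : Scheme.{u}} [IsLocallyNoetherian Y] (f : X ⟶ Y)
    [IsSeparated f] [LocallyQuasiFinite f] [LocallyOfFiniteType f] [QuasiCompact f] (y y' : Y) (hne : y' ≠ y)
    (hgen : y' ⤳ y) :
    ∃ (A : Type u) (_ : CommRing A) (_ : IsDomain A) (_ : IsDiscreteValuationRing A) (g : Spec (CommRingCat.of A) ⟶ Y),
      g.base (IsLocalRing.closedPoint A) = y ∧ g.base (genericPoint (Spec (CommRingCat.of A))) = y' ∧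
      MoreMor.nGeomConnComp f y = ENat.card ↥((pullback.snd f g).fiber (IsLocalRing.closedPoint A)) ∧
      MoreMor.nGeomConnComp f y' = ENat.card ↥((pullback.snd f g).fiber (genericPoint (Spec (CommRingCat.of A)))) := by
  classical
  obtain ⟨A₀, h₀, hA₀, hh₀, hgen₀⟩ := H11Val.exists_dvr_hom_through (𝟙 Y) y' y hgen hne.symm
  rw [Category.comp_id] at hgen₀
  haveI := hA₀
  let c₀ : Spec (CommRingCat.of (IsLocalRing.ResidueField A₀)) ⟶ Y := H06EGA15.clι A₀ ≫ h₀
  have hc₀ : c₀ (IsLocalRing.closedPoint _) = y := by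
    rw [Scheme.Hom.comp_apply, H06EGA15.clι_apply]; exact hh₀
  obtain ⟨F, _, _, _, _, hF⟩ := H06EGA15.exists_finite_separable_card_eq f c₀
  rw [hc₀] at hF
  obtain ⟨S, _, _, _, _, _, _, -, e, he⟩ := H28NT.exists_dvr_residueField A₀ F
  let K₁ := FractionRing S
  have hinj : Function.Injective ((algebraMap S K₁).comp (algebraMap A₀ S)) :=
    (IsFractionRing.injective S K₁).comp (FaithfulSMul.algebraMap_injective A₀ S)
  let j₁ : Y.residueField y' →+* K₁ := IsFractionRing.lift hinj
  have hj : ∀ a : A₀, j₁ (algebraMap A₀ (Y.residueField y') a) = algebraMap S K₁ (algebraMap A₀ S a) := fun a =>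
    IsFractionRing.lift_algebraMap (A := A₀) (K := Y.residueField y') hinj a
  let a₁ : Spec (CommRingCat.of K₁) ⟶ Y := Spec.map (CommRingCat.ofHom j₁) ≫ Y.fromSpecResidueField y'
  have ha₁ : a₁ (IsLocalRing.closedPoint K₁) = y' := by
    rw [Scheme.Hom.comp_apply]; exact Scheme.fromSpecResidueField_apply _ _
  obtain ⟨K₂, _, _, _, hK₂⟩ := H06EGA15.exists_finite_card_eq f a₁
  rw [ha₁] at hK₂
  letI : Algebra S K₂ := ((algebraMap K₁ K₂).comp (algebraMap S K₁)).toAlgebra
  haveI : IsScalarTower S K₁ K₂ := IsScalarTower.of_algebraMap_eq fun _ => rfl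
  obtain ⟨V, hV, hVc⟩ := H11Val.exists_dvr_center_finite (B := S) K₁ K₂ (IsLocalRing.maximalIdeal S)
    (IsDiscreteValuationRing.not_a_field S)
  haveI := hV
  let σ : S →+* V := (algebraMap S K₂).codRestrict V.toSubring fun a => (hVc a).1
  haveI : IsLocalHom σ := ⟨fun a ha => by
    by_contra hn
    exact ne_of_lt ((hVc a).2.1 ((IsLocalRing.mem_maximalIdeal _).2 hn)) ((V.valuation_eq_one_iff (σ a)).1 ha)⟩
  let α : A₀ →+* V := σ.comp (algebraMap A₀ S)
  let g : Spec (CommRingCat.of V) ⟶ Y := Spec.map (CommRingCat.ofHom α) ≫ h₀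
  let β₀ : A₀ →+* F := (algebraMap (IsLocalRing.ResidueField A₀) F).comp (IsLocalRing.residue A₀)
  let ψF : F →+* IsLocalRing.ResidueField V := (IsLocalRing.ResidueField.map σ).comp e.symm.toRingHom
  have hcl : H06EGA15.clι V ≫ g = Spec.map (CommRingCat.ofHom ψF) ≫
      Spec.map (CommRingCat.ofHom (algebraMap (IsLocalRing.ResidueField A₀) F)) ≫ c₀ := by
    refine (specMap_square α (IsLocalRing.residue V) β₀ ψF h₀ (RingHom.ext fun a => ?_)).trans ?_
    · have h := congrArg (IsLocalRing.ResidueField.map σ) (congrArg e.symm (he a))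
      rw [RingEquiv.symm_apply_apply] at h
      exact h
    · exact congrArg (fun m => Spec.map (CommRingCat.ofHom ψF) ≫ m)
        (specMap_comp_assoc (IsLocalRing.residue A₀) (algebraMap (IsLocalRing.ResidueField A₀) F) h₀)
  have hgn : H06EGA15.genι V ≫ g = Spec.map (CommRingCat.ofHom (algebraMap K₁ K₂)) ≫ a₁ := by
    refine (specMap_square α V.subtype (j₁.comp A₀.subtype) (algebraMap K₁ K₂) h₀ (RingHom.ext fun a => ?_)).trans ?_
    · exact congrArg (algebraMap K₁ K₂) (hj a).symm
    · exact congrArg (fun m => Spec.map (CommRingCat.ofHom (algebraMap K₁ K₂)) ≫ m)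
        ((specMap_comp_assoc A₀.subtype j₁ h₀).trans (congrArg (fun m => Spec.map (CommRingCat.ofHom j₁) ≫ m) hgen₀))
  have hgc : g (IsLocalRing.closedPoint V) = y := by
    have h : (H06EGA15.clι V ≫ g) (IsLocalRing.closedPoint _) = y := by
      rw [hcl, Scheme.Hom.comp_apply, Scheme.Hom.comp_apply]
      exact (congrArg c₀ (Subsingleton.elim (α := PrimeSpectrum (IsLocalRing.ResidueField A₀)) _ _)).trans hc₀
    rwa [Scheme.Hom.comp_apply, H06EGA15.clι_apply] at h
  have hgp : H06EGA15.genι V (IsLocalRing.closedPoint K₂) = genericPoint (Spec (CommRingCat.of V)) := by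
    rw [genericPoint_eq_bot_of_affine]
    refine PrimeSpectrum.ext ?_
    show Ideal.comap V.subtype (IsLocalRing.maximalIdeal K₂) = ⊥
    rw [IsLocalRing.maximalIdeal_eq_bot, ← RingHom.ker_eq_comap_bot]
    exact (RingHom.injective_iff_ker_eq_bot _).1 Subtype.val_injective
  have hgg : g (H06EGA15.genι V (IsLocalRing.closedPoint K₂)) = y' := by
    have h : (H06EGA15.genι V ≫ g) (IsLocalRing.closedPoint _) = y' := by
      rw [hgn, Scheme.Hom.comp_apply]
      exact (congrArg a₁ (Subsingleton.elim (α := PrimeSpectrum K₁) _ _)).trans ha₁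
    rwa [Scheme.Hom.comp_apply] at h
  have key : ∀ z, ENat.card ↥((pullback.snd f g).fiber z) = (pullback.snd f g ⁻¹' {z}).encard := fun z =>
    ENat.card_congr ((pullback.snd f g).fiberHomeo z).toEquiv
  refine ⟨V, inferInstance, inferInstance, hV, g, hgc, hgp ▸ hgg, ?_, ?_⟩
  · rw [key, ← H06EGA15.clι_apply V (IsLocalRing.closedPoint _), ← H06EGA15.card_pullback_eq_encard]
    refine le_antisymm ?_ ?_
    · rw [hcl]
      exact hF.trans (H06EGA15.card_le_of_comp f _ _)
    · refine (H06EGA15.card_le_nGeom f _).trans_eq ?_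
      rw [Scheme.Hom.comp_apply, H06EGA15.clι_apply]
      exact congrArg _ hgc
  · rw [key, ← hgp, ← H06EGA15.card_pullback_eq_encard]
    refine le_antisymm ?_ ?_
    · rw [hgn]; exact hK₂
    · refine (H06EGA15.card_le_nGeom f _).trans_eq ?_
      rw [Scheme.Hom.comp_apply]
      exact congrArg _ hgg

end Groth.Agent.S4950
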