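import Groth.Statements.S4951
import Groth.Agent.H28Top.Noeth

set_option autoImplicit false
universe u
open EGA43

namespace Groth.Agent.S4951

open Groth.Agent Topology

/-- Let X be a locally Noetherian topological space in which every irreducible closed subset has a
unique generic point (X quasi-sober and T₀), and Z a closed nowhere dense subset of X such that for
every point x of Z the set of generizations of x distinct from x is connected (possibly empty). If X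
is connected, then X − Z is connected. (Uniqueness of generic points, automatic for the underlying
space of a scheme, is needed: in the four-point space {u, v, z₁, z₂} whose open sets are ∅, {u},
{v}, {u, v} and the whole space, the closed nowhere dense set Z = {z₁, z₂} satisfies the hypothesis,
since z₂ is a generization of z₁ and conversely, yet X − Z = {u, v} is not connected.) -/
theorem result {X : Type u} [TopologicalSpace X]
    [QuasiSober X] [T0Space X] (hloc : ∀ x : X, ∃ U ∈ nhds x, TopologicalSpace.NoetherianSpace ↥U) [ConnectedSpace X]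
    (Z : Set X) (hZ : IsClosed Z) (hZn : IsNowhereDense Z)
    (hgen : ∀ x ∈ Z, IsPreconnected ({x' : X | x' ⤳ x} \ {x})) :
    IsConnected Zᶜ := by
  have hdense : Dense Zᶜ := by
    rw [← interior_eq_empty_iff_dense_compl, ← hZ.closure_eq]
    exact hZn
  refine ⟨hdense.nonempty, ?_⟩
  -- a point in the closure of an open set is a specialization of one of its points
  have hgenA : ∀ A : Set X, IsOpen A → ∀ z ∈ closure A, ∃ a ∈ A, a ⤳ z := by
    intro A hA z hz
    obtain ⟨U, hU, hnoeth⟩ := hloc z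
    obtain ⟨U₀, hU₀U, hU₀, hzU₀⟩ := mem_nhds_iff.mp hU
    haveI : TopologicalSpace.NoetherianSpace ↥U₀ :=
      (Topology.IsEmbedding.inclusion hU₀U).isInducing.noetherianSpace
    haveI : QuasiSober ↥U₀ := hU₀.isOpenEmbedding_subtypeVal.quasiSober
    have hz' : (⟨z, hzU₀⟩ : ↥U₀) ∈ closure (Subtype.val ⁻¹' A) := by
      rw [← hU₀.isOpenMap_subtype_val.preimage_closure_eq_closure_preimage continuous_subtype_val]
      exact hz
    obtain ⟨W, hWc, hWi, hzW, hW⟩ := H28Top.exists_irreducible_of_mem_closure hz'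
    have hgen := hWi.isGenericPoint_genericPoint hWc
    obtain ⟨w, hwA, hwW⟩ : ((Subtype.val ⁻¹' A) ∩ W).Nonempty := by
      by_contra h
      rw [Set.not_nonempty_iff_eq_empty.mp h, closure_empty] at hW
      exact (hW hzW : (⟨z, hzU₀⟩ : ↥U₀) ∈ (∅ : Set ↥U₀))
    exact ⟨hWi.genericPoint.1, (hgen.specializes hwW).mem_open (hA.preimage continuous_subtype_val) hwA,
      (hgen.specializes hzW).map continuous_subtype_val⟩
  intro A B hA hB hsub ⟨a₀, ha₀Z, ha₀⟩ ⟨b₀, hb₀Z, hb₀⟩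
  by_contra hne
  have hdisj : ∀ t ∈ Zᶜ, t ∈ A → t ∈ B → False := fun t ht h1 h2 => hne ⟨t, ht, h1, h2⟩
  have hcov : closure (A ∩ Zᶜ) ∪ closure (B ∩ Zᶜ) = Set.univ := by
    rw [← closure_union, ← Set.union_inter_distrib_right, Set.inter_eq_right.mpr hsub]
    exact hdense.closure_eq
  set F := closure (A ∩ Zᶜ) ∩ closure (B ∩ Zᶜ)
  have hFZ : F ⊆ Z := by
    rintro t ⟨h1, h2⟩
    by_contra ht
    rcases hsub ht with h | h
    · obtain ⟨u, ⟨hu, huZ⟩, hu', -⟩ := mem_closure_iff.mp h2 (A ∩ Zᶜ) (hA.inter hZ.isOpen_compl) ⟨h, ht⟩ |>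
        fun ⟨u, hu1, hu2⟩ => (⟨u, ⟨hu1.1, hu1.2⟩, hu2.1, hu2.2⟩ : ∃ u, (u ∈ A ∧ u ∈ Zᶜ) ∧ u ∈ B ∧ u ∈ Zᶜ)
      exact hdisj u huZ hu hu'
    · obtain ⟨u, ⟨hu, huZ⟩, hu', -⟩ := mem_closure_iff.mp h1 (B ∩ Zᶜ) (hB.inter hZ.isOpen_compl) ⟨h, ht⟩ |>
        fun ⟨u, hu1, hu2⟩ => (⟨u, ⟨hu1.1, hu1.2⟩, hu2.1, hu2.2⟩ : ∃ u, (u ∈ B ∧ u ∈ Zᶜ) ∧ u ∈ A ∧ u ∈ Zᶜ)
      exact hdisj u huZ hu' hu
  obtain ⟨t, -, ht⟩ : (Set.univ ∩ F).Nonempty :=
    isPreconnected_closed_iff.mp isPreconnected_univ _ _ isClosed_closure isClosed_closure hcov.ge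
      ⟨a₀, trivial, subset_closure ⟨ha₀, ha₀Z⟩⟩ ⟨b₀, trivial, subset_closure ⟨hb₀, hb₀Z⟩⟩
  have hF : IsClosed F := isClosed_closure.inter isClosed_closure
  obtain ⟨z, hzF, hmax⟩ : ∃ z ∈ F, ∀ z' ∈ F, z' ⤳ z → z' = z := by
    obtain ⟨U, hU, hnoeth⟩ := hloc t
    obtain ⟨U₀, hU₀U, hU₀, htU₀⟩ := mem_nhds_iff.mp hU
    haveI : TopologicalSpace.NoetherianSpace ↥U₀ :=
      (Topology.IsEmbedding.inclusion hU₀U).isInducing.noetherianSpace
    haveI : QuasiSober ↥U₀ := hU₀.isOpenEmbedding_subtypeVal.quasiSober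
    let F₀ : Set ↥U₀ := Subtype.val ⁻¹' F
    haveI : QuasiSober ↥F₀ := (hF.preimage continuous_subtype_val).isClosedEmbedding_subtypeVal.quasiSober
    let t₀ : ↥F₀ := ⟨⟨t, htU₀⟩, ht⟩
    have hC := irreducibleComponent_mem_irreducibleComponents t₀
    have hgen := hC.1.isGenericPoint_genericPoint isClosed_irreducibleComponent
    refine ⟨hC.1.genericPoint.1.1, hC.1.genericPoint.2, fun z' hz' hsp => ?_⟩
    have hz'U : z' ∈ U₀ := hsp.mem_open hU₀ hC.1.genericPoint.1.2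
    let w : ↥F₀ := ⟨⟨z', hz'U⟩, hz'⟩
    have hw : w ⤳ hC.1.genericPoint := (subtype_specializes_iff _ _).mpr ((subtype_specializes_iff _ _).mpr hsp)
    have heq : closure {w} = irreducibleComponent t₀ := hC.eq_of_ge isIrreducible_singleton.closure
      (hgen.def ▸ closure_minimal (Set.singleton_subset_iff.mpr hw.mem_closure) isClosed_closure)
    have h2 : hC.1.genericPoint ⤳ w := hgen.specializes (heq ▸ subset_closure (Set.mem_singleton w))
    exact congrArg (fun q : ↥F₀ => q.1.1) (hw.antisymm h2).eq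
  have hzZ := hFZ hzF
  obtain ⟨a, ⟨ha, haZ⟩, haz⟩ := hgenA _ (hA.inter hZ.isOpen_compl) z hzF.1
  obtain ⟨b, ⟨hb, hbZ⟩, hbz⟩ := hgenA _ (hB.inter hZ.isOpen_compl) z hzF.2
  obtain ⟨u, hu, huF⟩ := isPreconnected_closed_iff.mp (hgen z hzZ) _ _ isClosed_closure isClosed_closure
    (hcov.ge.trans' (Set.subset_univ _))
    ⟨a, ⟨haz, fun h => haZ (Set.mem_singleton_iff.mp h ▸ hzZ)⟩, subset_closure ⟨ha, haZ⟩⟩
    ⟨b, ⟨hbz, fun h => hbZ (Set.mem_singleton_iff.mp h ▸ hzZ)⟩, subset_closure ⟨hb, hbZ⟩⟩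
  exact hu.2 (hmax u huF hu.1)

end Groth.Agent.S4951
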