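import Groth.Statements.S4952
import Groth.Agent.H06EGA15.Component

set_option autoImplicit false
open CategoryTheory AlgebraicGeometry
universe u v w
open EGA43

namespace Groth.Agent.S4952

open Groth.Agent Groth.Agent.H06EGA15

/-- Let Y be a locally Noetherian scheme, f : X ⟶ Y a morphism locally of finite type and g : Y ⟶ X a
section of f; for z in Y let X_z^0 be the connected component of the fibre f⁻¹(z) containing g z (a
subset of X with the induced topology). Let y be a point of Y and y' a generization of y. (i) If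
there is an irreducible component Z of f⁻¹(y') containing g y' with dim Z = dim X_{y'}^0, then dim
X_y^0 ≥ dim X_{y'}^0. (ii) If moreover X_y^0 is irreducible and dim X_y^0 = dim X_{y'}^0, then X_y^0
is contained in the closure of X_{y'}^0 in X. -/
theorem result {X Y : Scheme.{u}} [IsLocallyNoetherian Y] (f : X ⟶ Y)
    [LocallyOfFiniteType f] (g : Y ⟶ X) (hg : g ≫ f = 𝟙 Y) (y y' : Y) (hy : y' ⤳ y)
    (hZ : ∃ Z : Set X, Z ⊆ f.base ⁻¹' {y'} ∧ IsIrreducible Z ∧
      (∀ Z' : Set X, IsIrreducible Z' → Z' ⊆ f.base ⁻¹' {y'} → Z ⊆ Z' → Z' = Z) ∧ g.base y' ∈ Z ∧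
      topologicalKrullDim ↥Z = topologicalKrullDim ↥(connectedComponentIn (f.base ⁻¹' {y'}) (g.base y'))) :
    topologicalKrullDim ↥(connectedComponentIn (f.base ⁻¹' {y'}) (g.base y')) ≤ topologicalKrullDim ↥(connectedComponentIn (f.base ⁻¹' {y}) (g.base y)) ∧
      (IsIrreducible (connectedComponentIn (f.base ⁻¹' {y}) (g.base y)) → topologicalKrullDim ↥(connectedComponentIn (f.base ⁻¹' {y}) (g.base y)) = topologicalKrullDim ↥(connectedComponentIn (f.base ⁻¹' {y'}) (g.base y')) →
        connectedComponentIn (f.base ⁻¹' {y}) (g.base y) ⊆ closure (connectedComponentIn (f.base ⁻¹' {y'}) (g.base y'))) := by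
  obtain ⟨Z, hZy, hZirr, hZmax, hgZ, hZd⟩ := hZ
  have hfg := f_g_apply f g hg
  have hirr' : IsIrreducible (closure Z ∩ f.base ⁻¹' {y'}) := by
    refine ⟨⟨g y', subset_closure hgZ, hfg y'⟩, fun U V hU hV ⟨a, ha, haU⟩ ⟨b, hb, hbV⟩ => ?_⟩
    obtain ⟨z, hzZ, hz⟩ := hZirr.2 U V hU hV
      (by obtain ⟨c, hcU, hcZ⟩ := mem_closure_iff.mp ha.1 U hU haU; exact ⟨c, hcZ, hcU⟩)
      (by obtain ⟨c, hcV, hcZ⟩ := mem_closure_iff.mp hb.1 V hV hbV; exact ⟨c, hcZ, hcV⟩)
    exact ⟨z, ⟨subset_closure hzZ, hZy hzZ⟩, hz⟩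
  have hZeq : closure Z ∩ f.base ⁻¹' {y'} = Z :=
    hZmax _ hirr' Set.inter_subset_right fun z hz => ⟨subset_closure hz, hZy hz⟩
  have hcl : ∀ z, f z = y' → z ∈ closure Z → z ∈ Z := fun z hz hc => hZeq.subset ⟨hc, hz⟩
  obtain ⟨θ, hθZ, hθ⟩ := exists_generic_in_fibre f hZirr hZy hcl
  have hfθ : f θ = y' := hZy hθZ
  have hset : Z = closure {θ} ∩ f ⁻¹' {y'} :=
    Set.Subset.antisymm (fun z hz => ⟨(hθ z hz).mem_closure, hZy hz⟩)
      fun z hz => hcl z hz.2 (closure_mono (Set.singleton_subset_iff.mpr hθZ) hz.1)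
  have hdθ : H8Props.FieldDim.cdim (f.asFiber θ) = topologicalKrullDim ↥(connectedComponentIn (f.base ⁻¹' {y'}) (g.base y')) := by
    rw [← hZd, hset, H06EGA14.dim_inter_eq_cdim f θ hfθ]
  have hθy : θ ⤳ g y := (hθ _ hgZ).trans (hy.map g.continuous)
  have hle : topologicalKrullDim ↥(connectedComponentIn (f.base ⁻¹' {y'}) (g.base y')) ≤ FlatMor.fibreDimAt f (g y) :=
    hdθ ▸ (H06Equidim.cdim_asFiber_le_fibreDimAt f θ).trans (H8Props.FieldDim.fibreDimAt_le_of_specializes f hθy)
  refine ⟨hle.trans ?_, fun hirr heq => ?_⟩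
  · obtain ⟨ξ, hξ, hξy, -, hξd⟩ := H06EGA14.exists_maximal_generization f (g y)
    have hξy' : f ξ = y := hξy.trans (hfg y)
    have hξS := mem_component_of_specializes f g hg (mem_component f g hg y) hξy' hξ
    rw [← hξd, ← H06EGA14.dim_inter_eq_cdim f ξ hξy']
    exact H8Props.FieldDim.dim_mono fun z hz => mem_connectedComponentIn_of_mem_closure (hfg y) hz.2
      (closure_mono (Set.singleton_subset_iff.mpr hξS) hz.1)
  · have hθS' : θ ∈ connectedComponentIn (f.base ⁻¹' {y'}) (g.base y') :=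
      hZirr.isPreirreducible.isPreconnected.subset_connectedComponentIn hgZ hZy hθZ
    intro z hz
    refine closure_mono (Set.singleton_subset_iff.mpr hθS')
      (specializes_of_fibreDimAt_le_cdim f hθy hirr ?_ ?_ ?_ ?_ z hz).mem_closure
    · intro w hw
      exact (apply_eq_of_mem hw).trans (hfg y).symm
    · exact fun w hw hc => mem_connectedComponentIn_of_mem_closure (hfg y) (hw.trans (hfg y)) hc
    · exact fun w hw hwx => mem_component_of_specializes f g hg (mem_component f g hg y) (hw.trans (hfg y)) hwx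
    · rw [hdθ, ← heq, dim_component_eq f g hg y hirr]

end Groth.Agent.S4952
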