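import Groth.Statements.S4956
import Groth.Agent.H06EGA15.DimConst
import Groth.Agent.H06EGA15.DimConstructible
import Groth.Agent.H06EGA14.ValuationDim
import Groth.Agent.H06EGA14.OpenFibreDim

set_option autoImplicit false
open CategoryTheory AlgebraicGeometry
universe u v w
open EGA43

namespace Groth.Agent.S4956

open Groth.Agent Groth.Agent.H06EGA15 Groth.Agent.H06EGA14 Groth.Agent.H8Props.FieldDim

/-- Let f : X ⟶ Y be a morphism of finite presentation with a section g, X_y^0 the connected component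
of f⁻¹(y) containing g y, every X_y^0 geometrically irreducible over κ(y), and y₀ a point of Y such
that f is universally open at the generic point of X_{y₀}^0. Suppose moreover that either (α) the
fibre over y₀ is geometrically reduced at g y₀ and the local ring O_{Y,y₀} is Noetherian, or (β) dim
X_{y'} = dim X_{y'}^0 for the generic point y' of every irreducible component of Y containing y₀.
Then y ↦ dim X_y^0 is constant on a neighbourhood of y₀. -/
theorem result {X Y : Scheme.{u}} (f : X ⟶ Y)
    [LocallyOfFinitePresentation f] [QuasiCompact f] [QuasiSeparated f] (g : Y ⟶ X) (hg : g ≫ f = 𝟙 Y)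
    (hirr : ∀ y : Y, (∀ (K : Type u) [Field K] [Algebra (IsLocalRing.ResidueField (Y.presheaf.stalk y)) K],
        IsIrreducible ((FBase.bcπ (f.fiberToSpecResidueField y) K ≫ f.fiberι y).base ⁻¹' connectedComponentIn (f.base ⁻¹' {y}) (g.base y))))
    (y₀ : Y) (hopen : ∀ ξ ∈ connectedComponentIn (f.base ⁻¹' {y₀}) (g.base y₀), connectedComponentIn (f.base ⁻¹' {y₀}) (g.base y₀) ⊆ closure {ξ} → EGA43.IsUnivOpenAt f ξ)
    (hαβ : (FBase.IsGeomReducedAt (f.fiberToSpecResidueField (f.base (g.base y₀))) (f.asFiber (g.base y₀)) ∧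
        IsNoetherianRing (Y.presheaf.stalk y₀)) ∨
      (∀ y' : Y, y₀ ∈ closure {y'} → closure {y'} ∈ irreducibleComponents (Y : Type u) →
        topologicalKrullDim ↥(f.fiber y') = topologicalKrullDim ↥(connectedComponentIn (f.base ⁻¹' {y'}) (g.base y')))) :
    ∃ V ∈ nhds y₀, ∀ z ∈ V, topologicalKrullDim ↥(connectedComponentIn (f.base ⁻¹' {z}) (g.base z)) = topologicalKrullDim ↥(connectedComponentIn (f.base ⁻¹' {y₀}) (g.base y₀)) := by
  have hirr' := fun y => GeomIrr.isIrreducible f g hg hirr y
  have hfg := f_g_apply f g hg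
  have key : ∀ η : Y, η ⤳ y₀ → FlatMor.fibreDimAt f (g y₀) ≤ FlatMor.fibreDimAt f (g η) := by
    intro η hη
    rcases hαβ with ⟨hα, hN⟩ | hβ
    · exact fibreDimAt_section_le_of_geomReduced' f g hg hirr y₀ hopen hα hη
    · obtain ⟨η', hη', hT⟩ := exists_component_generization η
      refine le_trans ?_ (fibreDimAt_le_of_specializes f (hη'.map g.continuous))
      have hcomp : closure {η'} ∈ irreducibleComponents (Y : Type u) := hT
      obtain ⟨θ, hθS, hθ⟩ := exists_generic_in_fibre f (hirr' y₀) (connectedComponentIn_subset _ _)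
        fun z hz hc => mem_connectedComponentIn_of_mem_closure (hfg y₀) hz hc
      have hfθ : f θ = y₀ := apply_eq_of_mem hθS
      calc FlatMor.fibreDimAt f (g y₀) ≤ cdim (f.asFiber θ) := by
            obtain ⟨ξ, hξ, hξy, hξmax, hξd⟩ := exists_maximal_generization f (g y₀)
            have hξS := mem_component_of_specializes f g hg (mem_component f g hg y₀) (hξy.trans (hfg y₀)) hξ
            rw [← hξd, hξmax θ (hfθ.trans (hξy.trans (hfg y₀)).symm) (hθ ξ hξS)]
        _ ≤ FlatMor.fibreDimAt f θ := H06Equidim.cdim_asFiber_le_fibreDimAt f θ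
        _ ≤ topologicalKrullDim ↥(((⊤ : X.Opens) : Set X) ∩ f ⁻¹' {η'}) :=
            le_dim_inter_of_isUnivOpenAt' f θ
              (fun z' hz' hsp => (hsp.antisymm (hθ z' (mem_component_of_specializes f g hg hθS (hz'.trans hfθ) hsp))).eq)
              (hopen θ hθS fun z hz => (hθ z hz).mem_closure) ⊤ trivial η' (hfθ ▸ hη'.trans hη)
        _ = topologicalKrullDim ↥(f.fiber η') := by
          rw [TopologicalSpace.Opens.coe_top, Set.univ_inter, ← f.range_fiberι]
          exact (IsHomeomorph.topologicalKrullDim_eq _ (f.fiberι η').isEmbedding.toHomeomorph.isHomeomorph).symm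
        _ = FlatMor.fibreDimAt f (g η') :=
            (hβ η' (hη'.trans hη).mem_closure hcomp).trans (dim_component_eq f g hg η' (hirr' η'))
  have hnat : ∀ x : X, ∃ n : ℕ, FlatMor.fibreDimAt f x = (n : ℕ) := fun x => by
    obtain ⟨ξ, -, -, -, hd⟩ := exists_maximal_generization f x
    obtain ⟨s, hs, -⟩ := H06Equidim.exists_trdeg_asFiber f ξ
    exact ⟨s, hd ▸ hs⟩
  obtain ⟨n, hn⟩ := hnat (g y₀)
  have hopen' := (H7Flat.isOpen_fibreDimAt_le' f (FlatMor.fibreDimAt f (g y₀))).preimage g.continuous
  have hge : {z : Y | FlatMor.fibreDimAt f (g y₀) ≤ FlatMor.fibreDimAt f (g z)} ∈ nhds y₀ := by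
    rw [← mem_interior_iff_mem_nhds, H05EGA4.ConsChart.mem_interior_iff]
    · exact key
    · rcases n with _ | m
      · have he : {z : Y | FlatMor.fibreDimAt f (g y₀) ≤ FlatMor.fibreDimAt f (g z)} = Set.univ := by
          refine Set.eq_univ_of_forall fun z => ?_
          obtain ⟨k, hk⟩ := hnat (g z)
          show FlatMor.fibreDimAt f (g y₀) ≤ FlatMor.fibreDimAt f (g z)
          rw [hn, hk]
          exact_mod_cast Nat.zero_le k
        rw [he]
        exact (H05EGA4.ConsChart.isLocallyConstructible_iff.mp Topology.IsLocallyConstructible.univ).1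
      · have he : {z : Y | FlatMor.fibreDimAt f (g y₀) ≤ FlatMor.fibreDimAt f (g z)} =
            g ⁻¹' {x | FlatMor.fibreDimAt f x ≤ (m : ℕ)}ᶜ := by
          ext z
          obtain ⟨k, hk⟩ := hnat (g z)
          show FlatMor.fibreDimAt f (g y₀) ≤ FlatMor.fibreDimAt f (g z) ↔
            ¬ FlatMor.fibreDimAt f (g z) ≤ ((m : ℕ) : WithBot ℕ∞)
          rw [hn, hk]
          norm_cast
          omega
        rw [he]
        exact H05EGA4.ConsChart.ind_preimage g
          (H05EGA4.ConsChart.isLocallyConstructible_iff.mp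
            (fun x => (isLocallyConstructible_fibreDimAt_le f ((m : ℕ) : WithBot ℕ∞) x).imp fun U ⟨a, b, c⟩ => ⟨a, b, c.compl⟩)).1
  refine ⟨_, Filter.inter_mem hge (hopen'.mem_nhds (show FlatMor.fibreDimAt f (g y₀) ≤ _ from le_rfl)), fun z hz => ?_⟩
  rw [dim_component_eq f g hg z (hirr' z), dim_component_eq f g hg y₀ (hirr' y₀)]
  exact le_antisymm hz.2 hz.1

end Groth.Agent.S4956
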