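import Groth.Statements.S4957
import Groth.Agent.S4976
import Groth.Agent.H7Flat.FibreDim

set_option autoImplicit false
open CategoryTheory AlgebraicGeometry
universe u v w
open EGA43

namespace Groth.Agent.S4957

/-- Let f : X ⟶ Y be a separated morphism of finite presentation with a section g : Y ⟶ X, and X_z^0 the
connected component of f⁻¹(z) containing g z. Let y be a point such that X_y^0, as an open subscheme
of the fibre X_y, is proper over κ(y). Then for every generization y' of y one has dim X_{y'}^0 ≤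
dim X_y^0. -/
theorem result {X Y : Scheme.{u}} (f : X ⟶ Y) [IsSeparated f]
    [LocallyOfFinitePresentation f] [QuasiCompact f] [QuasiSeparated f] (g : Y ⟶ X) (hg : g ≫ f = 𝟙 Y) (y : Y)
    (hop : IsOpen ((f.fiberι y).base ⁻¹' connectedComponentIn (f.base ⁻¹' {y}) (g.base y)))
    (hprop : IsProper (Scheme.Opens.ι (⟨(f.fiberι y).base ⁻¹' connectedComponentIn (f.base ⁻¹' {y}) (g.base y), hop⟩ : (f.fiber y).Opens) ≫
      f.fiberToSpecResidueField y))
    (y' : Y) (hy' : y' ⤳ y) :
    topologicalKrullDim ↥(connectedComponentIn (f.base ⁻¹' {y'}) (g.base y')) ≤ topologicalKrullDim ↥(connectedComponentIn (f.base ⁻¹' {y}) (g.base y)) := by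
  obtain ⟨U, hyU, hC, hP⟩ := S4976.result f g hg y hop hprop
  have hy'U : y' ∈ U := hy'.mem_open U.isOpen hyU
  let I : (f ⁻¹ᵁ U).toScheme.IdealSheafData := Scheme.IdealSheafData.vanishingIdeal (X := (f ⁻¹ᵁ U).toScheme)
    (⟨(f ⁻¹ᵁ U).ι.base ⁻¹' MoreMor.sectionComponents f g, hC⟩ : TopologicalSpace.Closeds ↥(f ⁻¹ᵁ U))
  let p := I.subschemeι ≫ (f ∣_ U)
  haveI : IsProper p := hP
  let m : I.subscheme → X := fun c => (f ⁻¹ᵁ U).ι (I.subschemeι c)
  have hm : Topology.IsEmbedding m :=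
    (f ⁻¹ᵁ U).ι.isOpenEmbedding.isEmbedding.comp I.subschemeι.isClosedEmbedding.isEmbedding
  have hrange : Set.range I.subschemeι = (f ⁻¹ᵁ U).ι ⁻¹' MoreMor.sectionComponents f g := by
    rw [I.range_subschemeι]
    exact Scheme.IdealSheafData.coe_support_vanishingIdeal _
  have hmf : ∀ c, f (m c) = U.ι (p c) := fun c => by
    show ((f ⁻¹ᵁ U).ι ≫ f) (I.subschemeι c) = ((f ∣_ U) ≫ U.ι) (I.subschemeι c)
    rw [morphismRestrict_ι]
  have key : ∀ z : U, topologicalKrullDim (p.fiber z) =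
      topologicalKrullDim ↥(connectedComponentIn (f.base ⁻¹' {z.1}) (g.base z.1)) := by
    intro z
    refine (p.fiberHomeo z).isHomeomorph.topologicalKrullDim_eq.trans ?_
    have himg : m '' (p ⁻¹' {z}) = connectedComponentIn (f.base ⁻¹' {z.1}) (g.base z.1) := by
      ext x
      constructor
      · rintro ⟨c, hc, rfl⟩
        have h1 : I.subschemeι c ∈ (f ⁻¹ᵁ U).ι ⁻¹' MoreMor.sectionComponents f g :=
          hrange.le ⟨c, rfl⟩
        have h2 : f (m c) = z.1 := by rw [hmf, show p c = z from hc]; rfl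
        have h3 : m c ∈ connectedComponentIn (f ⁻¹' {f (m c)}) (g (f (m c))) := h1
        rw [h2] at h3
        exact h3
      · intro hx
        have h2 : f x = z.1 := connectedComponentIn_subset (f ⁻¹' {z.1}) (g z.1) hx
        have hxU : x ∈ f ⁻¹ᵁ U := show f x ∈ U by rw [h2]; exact z.2
        have h1 : (⟨x, hxU⟩ : ↥(f ⁻¹ᵁ U)) ∈ Set.range I.subschemeι := by
          rw [hrange]
          show x ∈ connectedComponentIn (f ⁻¹' {f x}) (g (f x))
          rw [h2]
          exact hx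
        obtain ⟨c, hc⟩ := h1
        refine ⟨c, ?_, congrArg (f ⁻¹ᵁ U).ι hc⟩
        refine U.ι.isOpenEmbedding.injective ?_
        rw [← hmf, show m c = x from congrArg (f ⁻¹ᵁ U).ι hc, h2]
        rfl
    exact ((hm.homeomorphImage (p ⁻¹' {z})).trans (Homeomorph.setCongr himg)).isHomeomorph.topologicalKrullDim_eq
  rw [← key ⟨y', hy'U⟩, ← key ⟨y, hyU⟩]
  have hspec : (⟨y', hy'U⟩ : U) ⤳ ⟨y, hyU⟩ := (subtype_specializes_iff _ _).2 hy'
  exact hspec.mem_open (H7Flat.isOpen_dim_fiber_le p p.isClosedMap (topologicalKrullDim (p.fiber ⟨y, hyU⟩)))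
    (show topologicalKrullDim (p.fiber ⟨y, hyU⟩) ≤ topologicalKrullDim (p.fiber ⟨y, hyU⟩) from le_rfl)

end Groth.Agent.S4957
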