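import Groth.Statements.S4958
import Groth.Agent.H06EGA14.CatenaryCriteria
import Groth.Agent.H06EGA14.MaximalPoint
import Groth.Agent.H06EGA14.FibreDims
import Groth.Agent.H7Flat.FibreDimConstructible

set_option autoImplicit false
open CategoryTheory AlgebraicGeometry
universe u v w
open EGA43

namespace Groth.Agent.S4958

open Groth.Agent Groth.Agent.H06EGA14 Groth.Agent.H8Props.FieldDim

/-- Let Y be an irreducible locally Noetherian scheme with generic point η, f : X ⟶ Y a morphism of
finite type and y a point of Y whose local ring O_{Y,y} is universally catenary. Suppose that dim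
O_{X,z} = dim O_{Y,y} for every maximal point z of the fibre X_y. For z' in Y let E(z') be the set
of dimensions of the irreducible components of X_{z'}. Then E(y) ⊆ E(η), and hence dim X_y ≤ dim
X_η. -/
theorem result {X Y : Scheme.{u}} [IrreducibleSpace Y]
    [IsLocallyNoetherian Y] (f : X ⟶ Y) [LocallyOfFiniteType f] [QuasiCompact f] (y : Y)
    (hcat : CAlg.IsUniversallyCatenary (Y.presheaf.stalk y))
    (hb : ∀ z : X, f.base z = y → (∀ z' : X, f.base z' = y → z ∈ closure {z'} → z' = z) →
      ringKrullDim (X.presheaf.stalk z) = ringKrullDim (Y.presheaf.stalk y)) :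
    letI E : Y → Set (WithBot ℕ∞) := fun z =>
      (fun Z : Set ↥(f.fiber z) => topologicalKrullDim ↥Z) '' irreducibleComponents ↥(f.fiber z)
    E y ⊆ E (genericPoint Y) ∧
      topologicalKrullDim ↥(f.fiber y) ≤ topologicalKrullDim ↥(f.fiber (genericPoint Y)) := by
  have key : ∀ z : X, f z = y → (∀ z', f z' = f z → z' ⤳ z → z' = z) → ∃ η : X, f η = genericPoint Y ∧
      closure {f.asFiber η} ∈ irreducibleComponents ↥(f.fiber (f η)) ∧ cdim (f.asFiber η) = cdim (f.asFiber z) := by
    intro z hz hmax
    obtain ⟨e, he, -⟩ := H06Equidim.exists_trdeg_asFiber f z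
    obtain ⟨η, -, hηmax, hfull, hηe⟩ := exists_full_component f z e
      ((cdim_asFiber_eq_fibreDimAt_of_fibre f z hmax).symm.trans he) he
      (by
        rw [hb z hz (fun z' h1 h2 => hmax z' (h1.trans hz.symm) (specializes_iff_mem_closure.mpr h2))]
        subst hz; rfl)
    refine ⟨η, (hfull.maximal _ (genericPoint_specializes _)).symm, ?_, hηe.trans he.symm⟩
    refine H06Equidim.closure_singleton_mem_irreducibleComponents _ fun w hw => (f.fiberι (f η)).isEmbedding.injective ?_
    rw [f.fiberι_asFiber]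
    exact hηmax _ ((hw.map (f.fiberι (f η)).continuous).trans (specializes_of_eq (f.fiberι_asFiber η)))
  refine ⟨?_, (H7Flat.dim_fiber_le_iff f y _).mpr fun x hx => ?_⟩
  · rintro _ ⟨Z, hZ, rfl⟩
    obtain ⟨w, rfl, hwmax⟩ := mem_irreducibleComponents_iff hZ
    have hz : f (f.fiberι y w) = y := (f.range_fiberι y).subset (Set.mem_range_self w)
    obtain ⟨η, hη, hηZ, hηd⟩ := key _ hz fun z' hz' hsp => by
      obtain ⟨w', rfl⟩ : z' ∈ Set.range (f.fiberι y) := by rw [f.range_fiberι]; exact hz'.trans hz
      rw [hwmax w' ((f.fiberι y).isEmbedding.isInducing.specializes_iff.mp hsp)]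
    rw [← hη]
    refine ⟨_, hηZ, ?_⟩
    show cdim (f.asFiber η) = cdim w
    rw [hηd, ← dim_inter_eq_cdim f (f.fiberι y w) hz, H17.DimIneq.cdim_eq_dim_inter]
  · obtain ⟨ξ, -, hξy, hξmax, hξd⟩ := exists_maximal_generization f x
    obtain ⟨η, hη, -, hηd⟩ := key ξ (hξy.trans hx) hξmax
    rw [← hξd, ← hηd, ← hη]
    exact topologicalKrullDim_subspace_le _ _

end Groth.Agent.S4958
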