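import Groth.Statements.S4959
import Groth.Agent.H06Desc.Embedding

set_option autoImplicit false
open CategoryTheory AlgebraicGeometry
universe u v w
open EGA43

namespace Groth.Agent.S4959

open CategoryTheory.Limits in
/-- Let f : X ⟶ Y be a morphism of schemes and g : Y' ⟶ Y a surjective morphism which is either proper,
or flat and quasi-compact. If the base change f' : X ×_Y Y' ⟶ Y' is universally submersive (all of
its base changes are topological quotient maps), then f is universally submersive. -/
theorem result {X Y Y' : Scheme.{u}} (f : X ⟶ Y) (g : Y' ⟶ Y) [Surjective g]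
    (hg : IsProper g ∨ (Flat g ∧ QuasiCompact g))
    (h : MorphismProperty.universally (topologically @Topology.IsQuotientMap) (pullback.snd f g)) :
    MorphismProperty.universally (topologically @Topology.IsQuotientMap) f := by
  intro X₁ Y₁ i₁ i₂ f' sq
  obtain ⟨m, hm⟩ := H06Desc.exists_cube (IsPullback.of_hasPullback f g).flip sq.flip
  have hq : Topology.IsQuotientMap (pullback.fst (pullback.snd g i₂) f') :=
    h _ _ _ hm.flip
  have hg' : Topology.IsQuotientMap (pullback.snd g i₂) := by
    rcases hg with hp | ⟨hfl, hqc⟩
    · exact (pullback.snd g i₂).isClosedMap.isQuotientMap (pullback.snd g i₂).continuous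
        (pullback.snd g i₂).surjective
    · exact Flat.isQuotientMap_of_surjective _
  have hcomp := hg'.comp hq
  have hw : (pullback.snd g i₂) ∘ (pullback.fst (pullback.snd g i₂) f')
      = f' ∘ (pullback.snd (pullback.snd g i₂) f') := by
    funext a
    exact congr($(pullback.condition (f := pullback.snd g i₂) (g := f')) a)
  rw [hw] at hcomp
  exact Topology.IsQuotientMap.of_comp (pullback.snd (pullback.snd g i₂) f').continuous f'.continuous hcomp

end Groth.Agent.S4959
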