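import Groth.Statements.S4963
import Groth.Agent.H06GeomRed.Open

set_option autoImplicit false
open CategoryTheory AlgebraicGeometry
universe u v w
open EGA43

namespace Groth.Agent.S4963

open Groth.Agent

/-- Let f : X ⟶ Y be a morphism locally of finite presentation. The set of points x of X such that f is
flat at x and the fibre of f through x is geometrically reduced at x over the residue field of f x
(f is a reduced morphism at x) is open in X. -/
theorem result {X Y : Scheme.{u}} (f : X ⟶ Y)
    [LocallyOfFinitePresentation f] :
    IsOpen {x : X | (f.stalkMap x).hom.Flat ∧ FBase.IsGeomReducedAt (f.fiberToSpecResidueField (f.base x)) (f.asFiber x)} := by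
  exact H06GeomRed.isOpen_setOf_flat_and_mem_locus f

end Groth.Agent.S4963
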