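import Groth.Statements.S4966
import Groth.Agent.H06EGA12.Components

set_option autoImplicit false
open CategoryTheory AlgebraicGeometry
universe u v w
open EGA43

namespace Groth.Agent.S4966

/-- Let f : X ⟶ Y be a proper morphism of finite presentation and F a finitely presented O_X-module
which is f-flat; for y in Y write F_y for the restriction of F to the fibre X_y. Let Φ be a finite
set of natural numbers. Then the set of points y of Y such that F_y has no embedded associated point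
and the set of dimensions of the irreducible components of Supp(F_y) is exactly Φ is open in Y. -/
theorem result {X Y : Scheme.{u}} (f : X ⟶ Y) [IsProper f]
    [LocallyOfFinitePresentation f] (F : X.Modules) (hF : CohB1.IsFP F) (hflat : FlatMod.IsFlatOver f F) (Φ : Finset ℕ) :
    IsOpen {y : Y | AssSch.NoEmbedded ((Scheme.Modules.pullback (f.fiberι y)).obj F) ∧
      (fun Z : Set ↥{z : ↥(f.fiber y) | Nontrivial (((Scheme.Modules.pullback (f.fiberι y)).obj F).presheaf.stalk z)} => topologicalKrullDim ↥Z) '' irreducibleComponents ↥{z : ↥(f.fiber y) | Nontrivial (((Scheme.Modules.pullback (f.fiberι y)).obj F).presheaf.stalk z)} =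
        (fun n : ℕ => (n : WithBot ℕ∞)) '' (Φ : Set ℕ)} := by
  have h1 := H06EGA12.isOpen_setOf_forall_property hF hflat
    (fun s z => ∀ z₁ ∈ AssSch.Ass ((Scheme.Modules.pullback (f.fiberι s)).obj F), z ∈ closure {z₁} →
      ∀ z' ∈ AssSch.Ass ((Scheme.Modules.pullback (f.fiberι s)).obj F), z₁ ∈ closure {z'} → z' = z₁)
    H06EGA12.isOpen_noEmbedded
  have h2 := H06EGA12.isOpen_setOf_forall_property hF hflat
    (fun s z => ∀ z' ∈ AssSch.Ass ((Scheme.Modules.pullback (f.fiberι s)).obj F), z ∈ closure {z'} →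
      ∃ n ∈ Φ, topologicalKrullDim (closure ({z'} : Set (f.fiber s))) = (n : WithBot ℕ∞))
    (H06EGA12.isOpen_assDims Φ)
  have h3 := H06EGA12.isOpen_setOf_componentDims_supset hF hflat Φ
  convert (h1.inter h2).inter h3 using 1
  ext y
  constructor
  · rintro ⟨hne, him⟩
    refine ⟨⟨fun z z₁ hz₁ _ z' hz' hcl => (hne z₁ hz₁ z' hz' (specializes_iff_mem_closure.2 hcl)).symm, ?_⟩, ?_⟩
    · intro z z' hz' _
      obtain ⟨z₀, hz₀, hz₀s, hz₀m⟩ := H06EGA12.exists_maximal_in_supp hF (H06EGA12.inSupp_of_mem_ass hF hz')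
      obtain rfl := hne z' hz' z₀ (H06EGA12.mem_ass_of_maximal hF hflat hz₀s hz₀m) hz₀
      obtain ⟨Z, hZ, hdim⟩ := (H06EGA12.mem_componentDims_iff f F hF hflat y _).2 ⟨z', hz₀s, hz₀m, rfl⟩
      obtain ⟨n, hn, he⟩ := him.subset ⟨Z, hZ, hdim⟩
      exact ⟨n, hn, he.symm⟩
    · intro n hn
      exact him.superset ⟨n, hn, rfl⟩
  · rintro ⟨⟨hne, hd⟩, hsup⟩
    refine ⟨fun z₁ hz₁ z' hz' h => (hne z₁ z₁ hz₁ (subset_closure rfl) z' hz' (specializes_iff_mem_closure.1 h)).symm,
      Set.Subset.antisymm ?_ ?_⟩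
    · rintro _ ⟨Z, hZ, rfl⟩
      obtain ⟨z, hz, hzm, hdim⟩ := (H06EGA12.mem_componentDims_iff f F hF hflat y _).1 ⟨Z, hZ, rfl⟩
      obtain ⟨n, hn, he⟩ := hd z z (H06EGA12.mem_ass_of_maximal hF hflat hz hzm) (subset_closure rfl)
      exact ⟨n, hn, he.symm.trans hdim⟩
    · rintro _ ⟨n, hn, rfl⟩
      exact hsup n hn

end Groth.Agent.S4966
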