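import Groth.Statements.S4968
import Groth.Agent.H06EGA12.Scheme

set_option autoImplicit false
open CategoryTheory AlgebraicGeometry
universe u v w
open EGA43

namespace Groth.Agent.S4968

/-- Let f : X ⟶ Y be a proper morphism of finite presentation and F a finitely presented O_X-module
which is f-flat; for y in Y write F_y for the restriction of F to the fibre X_y. Then the set of
points y of Y such that F_y is a Cohen–Macaulay O_{X_y}-module (at every point of X_y its stalk is
zero or a Cohen–Macaulay module over the local ring) is open in Y. -/
theorem result {X Y : Scheme.{u}} (f : X ⟶ Y) [IsProper f]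
    [LocallyOfFinitePresentation f] (F : X.Modules) (hF : CohB1.IsFP F) (hflat : FlatMod.IsFlatOver f F) :
    IsOpen {y : Y | ∀ x : ↥(f.fiber y), Subsingleton (((Scheme.Modules.pullback (f.fiberι y)).obj F).presheaf.stalk x) ∨
      LocCoh.IsCohenMacaulayModule ((f.fiber y).presheaf.stalk x) (((Scheme.Modules.pullback (f.fiberι y)).obj F).presheaf.stalk x)} := by
  exact H06EGA12.isOpen_setOf_forall_onFibre f F hF hflat H06EGA12.semilinearInvariant_cm
    H06EGA12.affineOpen_cm

end Groth.Agent.S4968
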