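import Groth.Statements.S4969
import Groth.Agent.H06EGA12.Components
import Groth.Agent.H8Props.FieldDimFormula

set_option autoImplicit false
open CategoryTheory AlgebraicGeometry
universe u v w
open EGA43

namespace Groth.Agent.S4969

open TopologicalSpace

/-- Let f : X ⟶ Y be a proper morphism of finite presentation and F a finitely presented O_X-module
which is f-flat; for y in Y let F_y be the restriction of F to the fibre X_y. Then the function y ↦
dim Supp(F_y) is locally constant on Y. -/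
theorem result {X Y : Scheme.{u}} (f : X ⟶ Y) [IsProper f]
    [LocallyOfFinitePresentation f] (F : X.Modules) (hF : CohB1.IsFP F) (hflat : FlatMod.IsFlatOver f F) :
    IsLocallyConstant (fun y : Y => topologicalKrullDim ↥{z : ↥(f.fiber y) | Nontrivial (((Scheme.Modules.pullback (f.fiberι y)).obj F).presheaf.stalk z)}) := by
  set G : Y → WithBot ℕ∞ := fun y => topologicalKrullDim ↥(H06EGA12.suppSet f F y) with hG
  show IsLocallyConstant G
  have hsup : ∀ y, G y = ⨆ z : ↥(H06EGA12.suppSet f F y), H8Props.FieldDim.cdim z.1 := fun y => by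
    haveI : QuasiSober ↥(H06EGA12.suppSet f F y) :=
      (H06EGA12.isClosed_suppSet hF hflat y).isClosedEmbedding_subtypeVal.quasiSober
    simp only [hG]
    rw [H8Props.FieldDim.dim_eq_iSup_cdim]
    exact iSup_congr fun z => H06EGA12.cdim_subtype (H06EGA12.isClosed_suppSet hF hflat y) z
  -- generic points dominate
  have hmax : ∀ y, ∀ z : ↥(H06EGA12.suppSet f F y), ∃ z₀ : f.fiber y, H06EGA12.InSupp f F z₀ ∧
      (∀ z' : f.fiber y, z' ⤳ z₀ → H06EGA12.InSupp f F z' → z' = z₀) ∧ z₀ ⤳ z.1 ∧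
      H8Props.FieldDim.cdim z.1 ≤ H8Props.FieldDim.cdim z₀ := by
    intro y z
    obtain ⟨z₀, hz₀, hs, hm⟩ := H06EGA12.exists_maximal_in_supp hF (z := z.1) z.2
    exact ⟨z₀, hs, hm, hz₀, H8Props.FieldDim.dim_mono
      (closure_minimal (Set.singleton_subset_iff.2 hz₀.mem_closure) isClosed_closure)⟩
  have hnum : ∀ y, G y = ⊥ ∨ ∃ n : ℕ, G y = (n : WithBot ℕ∞) ∧ ∃ z : f.fiber y, H06EGA12.InSupp f F z ∧
      (∀ z' : f.fiber y, z' ⤳ z → H06EGA12.InSupp f F z' → z' = z) ∧ H8Props.FieldDim.cdim z = (n : WithBot ℕ∞) := by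
    intro y
    by_cases he : IsEmpty ↥(H06EGA12.suppSet f F y)
    · left
      rw [hsup]
      exact iSup_of_empty _
    · right
      haveI := not_isEmpty_iff.1 he
      haveI := H8Props.FieldDim.locallyOfFiniteType_fiberToSpec f y
      haveI : IsLocallyNoetherian (f.fiber y) :=
        LocallyOfFiniteType.isLocallyNoetherian (f.fiberToSpecResidueField y)
      haveI : CompactSpace (f.fiber y) := QuasiCompact.compactSpace_of_compactSpace (f.fiberToSpecResidueField y)
      haveI : IsNoetherian (f.fiber y) := {}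
      haveI : NoetherianSpace ↥(H06EGA12.suppSet f F y) := inferInstance
      have hgen : {z : f.fiber y | H06EGA12.InSupp f F z ∧
          ∀ z' : f.fiber y, z' ⤳ z → H06EGA12.InSupp f F z' → z' = z}.Finite := by
        haveI : QuasiSober ↥(H06EGA12.suppSet f F y) :=
          (H06EGA12.isClosed_suppSet hF hflat y).isClosedEmbedding_subtypeVal.quasiSober
        have hC : (irreducibleComponents ↥(H06EGA12.suppSet f F y)).Finite :=
          TopologicalSpace.NoetherianSpace.finite_irreducibleComponents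
        refine Set.Finite.of_injOn (f := fun z : f.fiber y =>
          closure (Subtype.val ⁻¹' {z} : Set ↥(H06EGA12.suppSet f F y))) ?_ ?_ hC
        · rintro z ⟨hz, hm⟩
          show closure (Subtype.val ⁻¹' {z} : Set ↥(H06EGA12.suppSet f F y)) ∈ _
          rw [show (Subtype.val ⁻¹' {z} : Set ↥(H06EGA12.suppSet f F y)) = {⟨z, hz⟩} by ext a; simp [Subtype.ext_iff]]
          obtain ⟨Z, hZ, hle⟩ := exists_mem_irreducibleComponents_subset_of_isIrreducible _
            (isIrreducible_singleton (x := (⟨z, hz⟩ : ↥(H06EGA12.suppSet f F y))))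
          have hgen : IsGenericPoint hZ.1.genericPoint Z :=
            hZ.1.isGenericPoint_genericPoint (isClosed_of_mem_irreducibleComponents Z hZ)
          have hsp := hgen.specializes (hle rfl)
          have : hZ.1.genericPoint = (⟨z, hz⟩ : ↥(H06EGA12.suppSet f F y)) :=
            Subtype.ext (hm _ ((subtype_specializes_iff _ _).1 hsp) hZ.1.genericPoint.2)
          rw [this] at hgen
          rwa [hgen.def]
        · rintro z ⟨hz, -⟩ z' ⟨hz', -⟩ he
          simp only at he
          rw [show (Subtype.val ⁻¹' {z} : Set ↥(H06EGA12.suppSet f F y)) = {⟨z, hz⟩} by ext a; simp [Subtype.ext_iff],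
            show (Subtype.val ⁻¹' {z'} : Set ↥(H06EGA12.suppSet f F y)) = {⟨z', hz'⟩} by ext a; simp [Subtype.ext_iff]] at he
          exact congrArg Subtype.val (IsGenericPoint.eq (S := closure {(⟨z, hz⟩ : ↥(H06EGA12.suppSet f F y))}) rfl he.symm)
      obtain ⟨z₁⟩ := ‹Nonempty ↥(H06EGA12.suppSet f F y)›
      obtain ⟨w, hw1, hw2, -, -⟩ := hmax y z₁
      obtain ⟨g, ⟨hgs, hgm⟩, hgmax⟩ := Set.exists_max_image _ (fun z => H8Props.FieldDim.cdim z) hgen ⟨w, hw1, hw2⟩
      obtain ⟨n, hn⟩ := H06EGA12.exists_cdim_eq hF g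
      refine ⟨n, ?_, g, hgs, hgm, hn⟩
      rw [hsup, ← hn]
      refine le_antisymm (iSup_le fun z => ?_)
        (le_iSup (fun z : ↥(H06EGA12.suppSet f F y) => H8Props.FieldDim.cdim z.1) ⟨g, hgs⟩)
      obtain ⟨z₀, hs, hm, -, hle⟩ := hmax y z
      exact hle.trans (hgmax z₀ ⟨hs, hm⟩)
  have hle : ∀ n : ℕ, IsOpen {y : Y | G y ≤ (n : WithBot ℕ∞)} := by
    intro n
    convert H06EGA12.isOpen_setOf_forall_property hF hflat
      (fun s z => ∀ z' ∈ AssSch.Ass ((Scheme.Modules.pullback (f.fiberι s)).obj F), z ∈ closure {z'} →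
        ∃ k ∈ Finset.range (n + 1), topologicalKrullDim (closure ({z'} : Set (f.fiber s))) = (k : WithBot ℕ∞))
      (H06EGA12.isOpen_assDims (Finset.range (n + 1))) using 1
    ext y
    simp only [Set.mem_setOf_eq]
    constructor
    · intro h z z' hz' _
      obtain ⟨k, hk⟩ := H06EGA12.exists_cdim_eq hF z'
      refine ⟨k, Finset.mem_range.2 ?_, hk⟩
      have h1 : H8Props.FieldDim.cdim z' ≤ G y := by
        rw [hsup]
        exact le_iSup (fun z : ↥(H06EGA12.suppSet f F y) => H8Props.FieldDim.cdim z.1)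
          ⟨z', H06EGA12.inSupp_of_mem_ass hF hz'⟩
      have h2 := h1.trans h
      rw [hk] at h2
      exact Nat.lt_succ_of_le (by exact_mod_cast h2)
    · intro h
      rw [hsup]
      refine iSup_le fun z => ?_
      obtain ⟨z₀, hs, hm, -, hle⟩ := hmax y z
      refine hle.trans ?_
      obtain ⟨k, hk, hdim⟩ := h z₀ z₀ (H06EGA12.mem_ass_of_maximal hF hflat hs hm) (subset_closure rfl)
      rw [show H8Props.FieldDim.cdim z₀ = (k : WithBot ℕ∞) from hdim]
      exact_mod_cast Nat.le_of_lt_succ (Finset.mem_range.1 hk)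
  refine (IsLocallyConstant.iff_exists_open G).2 fun y => ?_
  rcases hnum y with hb | ⟨n, hn, hz⟩
  · have ho := H06EGA12.isOpen_setOf_forall_property hF hflat (fun s z => ¬ H06EGA12.InSupp f F z) fun c =>
      ⟨(Module.support (MvPolynomial (Fin c.n) c.R) c.M)ᶜ, (H06EGA12.isClosed_support c.M).isOpen_compl,
        fun {s z p Q} h => by rw [Set.mem_compl_iff, h.inSupp_iff, H06EGA12.mem_support_baseChange_iff]⟩
    refine ⟨_, ho, fun z hz => ?_, fun y' hy' => ?_⟩
    · have h1 : H8Props.FieldDim.cdim z ≤ G y := by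
        rw [hsup]
        exact le_iSup (fun z : ↥(H06EGA12.suppSet f F y) => H8Props.FieldDim.cdim z.1) ⟨z, hz⟩
      rw [hb] at h1
      obtain ⟨k, hk⟩ := H06EGA12.exists_cdim_eq hF z
      rw [hk] at h1
      exact WithBot.natCast_ne_bot k (le_bot_iff.1 h1)
    · haveI : IsEmpty ↥(H06EGA12.suppSet f F y') := ⟨fun z => hy' z.1 z.2⟩
      rw [hb, hsup]
      exact iSup_of_empty _
  · refine ⟨_, (hle n).inter (H06EGA12.isOpen_setOf_exists_component hF hflat n), ⟨hn.le, hz⟩, ?_⟩
    rintro y' ⟨h1, z, hzs, -, hzd⟩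
    rw [hn]
    refine le_antisymm h1 ?_
    rw [hsup, ← hzd]
    exact le_iSup (fun z : ↥(H06EGA12.suppSet f F y') => H8Props.FieldDim.cdim z.1) ⟨z, hzs⟩

end Groth.Agent.S4969
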