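import Groth.Statements.S4971
import Mathlib


set_option autoImplicit false
universe u
open EGA43

namespace Groth.Agent.S4971

/-- Let B be a Noetherian local ring, M, N, P three B-modules with N finitely generated, u : M → N and v
: N → P linear maps with v ∘ u = 0, and t an element of the maximal ideal of B which is P-regular.
If the induced sequence M/tM → N/tN → P/tP is exact, then M → N → P is exact. -/
theorem result {B : Type u} [CommRing B] [IsNoetherianRing B] [IsLocalRing B]
    {M N P : Type u} [AddCommGroup M] [Module B M] [AddCommGroup N] [Module B N] [Module.Finite B N]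
    [AddCommGroup P] [Module B P] (u : M →ₗ[B] N) (v : N →ₗ[B] P) (huv : v ∘ₗ u = 0) (t : B)
    (ht : t ∈ IsLocalRing.maximalIdeal B) (hreg : IsSMulRegular P t)
    (hu : (Ideal.span {t} • ⊤ : Submodule B M) ≤ (Ideal.span {t} • ⊤ : Submodule B N).comap u)
    (hv : (Ideal.span {t} • ⊤ : Submodule B N) ≤ (Ideal.span {t} • ⊤ : Submodule B P).comap v)
    (hex : LinearMap.ker ((Ideal.span {t} • ⊤ : Submodule B N).mapQ (Ideal.span {t} • ⊤ : Submodule B P) v hv) ≤
      LinearMap.range ((Ideal.span {t} • ⊤ : Submodule B M).mapQ (Ideal.span {t} • ⊤ : Submodule B N) u hu)) :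
    LinearMap.ker v ≤ LinearMap.range u := by
  set I : Ideal B := Ideal.span {t}
  refine le_trans (b := LinearMap.ker v ⊓ LinearMap.range u) ?_ inf_le_right
  refine Submodule.le_of_le_smul_of_le_jacobson_bot (I := I) ?_ ?_ ?_
  · exact IsNoetherian.noetherian _
  · rw [IsLocalRing.jacobson_eq_maximalIdeal _ bot_ne_top]
    exact (Ideal.span_singleton_le_iff_mem _).mpr ht
  · intro z hz
    have hz' : v z = 0 := hz
    have h1 : Submodule.Quotient.mk (p := (I • ⊤ : Submodule B N)) z ∈
        LinearMap.ker ((I • ⊤ : Submodule B N).mapQ (I • ⊤ : Submodule B P) v hv) := by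
      rw [LinearMap.mem_ker, Submodule.mapQ_apply, hz', Submodule.Quotient.mk_zero]
    obtain ⟨m', hm'⟩ := hex h1
    obtain ⟨m, rfl⟩ := Submodule.Quotient.mk_surjective _ m'
    rw [Submodule.mapQ_apply, Submodule.Quotient.eq] at hm'
    obtain ⟨w, -, hw⟩ : ∃ w ∈ (⊤ : Submodule B N), t • w = u m - z := by
      rwa [Submodule.ideal_span_singleton_smul, Submodule.mem_smul_pointwise_iff_exists] at hm'
    have hum : v (u m) = 0 := by rw [← LinearMap.comp_apply, huv]; rfl
    have hw0 : v w = 0 := hreg (by
      show t • v w = t • (0 : P)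
      rw [smul_zero, ← map_smul, hw, map_sub, hum, hz', sub_zero])
    refine Submodule.mem_sup.mpr ⟨u m, ⟨hum, ⟨m, rfl⟩⟩, -(t • w), ?_, by rw [hw]; abel⟩
    exact Submodule.neg_mem _ (Submodule.smul_mem_smul (Ideal.mem_span_singleton_self t) hw0)

end Groth.Agent.S4971
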