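import Groth.Statements.S4973
import Groth.Agent.H06Comp.BaseChange

set_option autoImplicit false
open CategoryTheory AlgebraicGeometry
universe u v w
open EGA43

namespace Groth.Agent.S4973

open CategoryTheory.Limits in
/-- Let Y₀ and Y be integral schemes, g : Y ⟶ Y₀ a dominant morphism, f₀ : X₀ ⟶ Y₀ a dominant morphism
whose fibre over the generic point of Y₀ is irreducible, and X'₀ an irreducible component of X₀
meeting that generic fibre (it is unique), regarded as a reduced closed subscheme of X₀. If X = X₀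
×_{Y₀} Y is an integral scheme, then the morphism X'₀ ×_{Y₀} Y ⟶ X induced by the inclusion of X'₀
is an isomorphism. -/
theorem result {X₀ Y₀ Y : Scheme.{u}} [IsIntegral Y₀] [IsIntegral Y]
    (g : Y ⟶ Y₀) [IsDominant g] (f₀ : X₀ ⟶ Y₀) [IsDominant f₀]
    (hirr : IsIrreducible (f₀.base ⁻¹' {genericPoint Y₀}))
    (C : TopologicalSpace.Closeds X₀) (hC : (C : Set X₀) ∈ irreducibleComponents (X₀ : Type u))
    (hCη : ((C : Set X₀) ∩ f₀.base ⁻¹' {genericPoint Y₀}).Nonempty) [IsIntegral (pullback f₀ g)]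
    (e₁ : ((Scheme.IdealSheafData.vanishingIdeal C).subschemeι ≫ f₀) ≫ 𝟙 Y₀ =
      (Scheme.IdealSheafData.vanishingIdeal C).subschemeι ≫ f₀) (e₂ : g ≫ 𝟙 Y₀ = 𝟙 Y ≫ g) :
    IsIso (pullback.map ((Scheme.IdealSheafData.vanishingIdeal C).subschemeι ≫ f₀) g f₀ g
      (Scheme.IdealSheafData.vanishingIdeal C).subschemeι (𝟙 Y) (𝟙 Y₀) e₁ e₂) := by
  have hr : Set.range (Scheme.IdealSheafData.vanishingIdeal C).subschemeι = (C : Set X₀) := by
    rw [Scheme.IdealSheafData.range_subschemeι, Scheme.IdealSheafData.coe_support_vanishingIdeal]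
  exact Groth.Agent.H06Comp.isIso_map_of_generic g f₀ hirr _ (hr ▸ hC) (hr ▸ hCη) e₁ e₂

end Groth.Agent.S4973
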