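import Groth.Statements.S4974
import Groth.Agent.H06EGA14.FiniteSection
import Groth.Agent.H06EGA14.Chevalley3

set_option autoImplicit false
open CategoryTheory AlgebraicGeometry
universe u v w
open EGA43

namespace Groth.Agent.S4974

open Groth.Agent Groth.Agent.H06EGA14

/-- Consider a complete Noetherian local domain A and put Y = Spec A. Suppose f : X ⟶ Y is locally of
finite type, and take a point x ∈ X mapping to the closed point of Y, where f is equidimensional at
x and x is closed in the fibre containing it. Then one can find a local domain A' that contains A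
and is finite as an A-algebra, together with a Y-morphism h : Spec A' ⟶ X that is an immersion and
has x in its image. -/
theorem result {A : Type u} [CommRing A] [IsDomain A]
    [IsNoetherianRing A] [IsLocalRing A] [IsAdicComplete (IsLocalRing.maximalIdeal A) A] {X : Scheme.{u}}
    (f : X ⟶ Spec (CommRingCat.of A)) [LocallyOfFiniteType f] (x : X) (hx : f.base x = IsLocalRing.closedPoint A)
    (hf : EGA43.IsEquidimAt f x) (hcl : ∀ x' : X, f.base x' = f.base x → x ⤳ x' → x' = x) :
    ∃ (A' : Type u) (_ : CommRing A') (_ : IsDomain A') (_ : IsLocalRing A') (_ : Algebra A A') (_ : Module.Finite A A'),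
      Function.Injective (algebraMap A A') ∧
      ∃ h : Spec (CommRingCat.of A') ⟶ X, h ≫ f = Spec.map (CommRingCat.ofHom (algebraMap A A')) ∧
        IsImmersion h ∧ x ∈ Set.range h.base := by
  haveI := henselianLocalRing_of_adicComplete A
  haveI : IsNoetherianRing (CommRingCat.of A) := ‹IsNoetherianRing A›
  haveI : IsDomain (CommRingCat.of A) := ‹IsDomain A›
  obtain ⟨η, hη, -, hmaxY, -, hdim⟩ := exists_generic_of_isEquidimAt f x hf
  have hfη : f η = genericPoint (Spec (CommRingCat.of A)) := (hmaxY _ (genericPoint_specializes _)).symm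
  obtain ⟨T, i, hi, hT, hTr, ⟨t, hit⟩, hlft, hlqf, -, hdom⟩ := exists_quasiSection f x η hη hfη hcl hdim
  haveI : IsIntegral T := isIntegral_of_irreducibleSpace_of_isReduced T
  obtain ⟨A', r1, r2, r3, r4, r5, hinj, k, hk, hkopen, htk⟩ := exists_finite_local_openImmersion (i ≫ f) t
    (by rw [Scheme.Hom.comp_apply, hit, hx])
  refine ⟨A', r1, r2, r3, r4, r5, hinj, k ≫ i, by rw [Category.assoc]; exact hk, inferInstance, ?_⟩
  obtain ⟨p, rfl⟩ := htk
  exact ⟨p, hit⟩

end Groth.Agent.S4974
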