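import Groth.Statements.S4975
import Groth.Agent.H06SecComp.Interior
import Groth.Agent.H06EGA15.DimConst
import Groth.Agent.H18HTop.SpecLiftDVR

set_option autoImplicit false
open CategoryTheory AlgebraicGeometry
universe u v w
open EGA43

namespace Groth.Agent.S4975

open Groth.Agent Groth.Agent.H06EGA15

/-- Let f : X ⟶ Y be a morphism locally of finite type with Y locally Noetherian, g : Y ⟶ X a section of
f, X_y^0 the connected component of f⁻¹(y) containing g y, and X^0 ⊆ X their union. Suppose every
X_y^0 is geometrically integral over κ(y) (its preimage in X_y ⊗ K is irreducible and has reduced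
local rings, for every field extension K of κ(y)). Then y ↦ dim X_y^0 is locally constant on Y if
and only if f is universally open at every point of X^0; and when this holds, X^0 is open in X. (The
published statement also lists, as a further equivalent condition, flatness of the base change of f
to the reduced closed subscheme Y_red at the points of X^0; that condition is not stated here.) -/
theorem result {X Y : Scheme.{u}}
    [IsLocallyNoetherian Y] (f : X ⟶ Y) [LocallyOfFiniteType f] (g : Y ⟶ X) (hg : g ≫ f = 𝟙 Y)
    (hint : ∀ y : Y, (∀ (K : Type u) [Field K] [Algebra (IsLocalRing.ResidueField (Y.presheaf.stalk y)) K],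
        IsIrreducible ((FBase.bcπ (f.fiberToSpecResidueField y) K ≫ f.fiberι y).base ⁻¹' connectedComponentIn (f.base ⁻¹' {y}) (g.base y)) ∧
        ∀ x' : ↥(FBase.bc (f.fiberToSpecResidueField y) K),
          (FBase.bcπ (f.fiberToSpecResidueField y) K ≫ f.fiberι y).base x' ∈ connectedComponentIn (f.base ⁻¹' {y}) (g.base y) →
          _root_.IsReduced ((FBase.bc (f.fiberToSpecResidueField y) K).presheaf.stalk x'))) :
    (IsLocallyConstant (fun y : Y => topologicalKrullDim ↥(connectedComponentIn (f.base ⁻¹' {y}) (g.base y))) ↔ ∀ x ∈ MoreMor.sectionComponents f g, EGA43.IsUnivOpenAt f x) ∧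
      (IsLocallyConstant (fun y : Y => topologicalKrullDim ↥(connectedComponentIn (f.base ⁻¹' {y}) (g.base y))) → IsOpen (MoreMor.sectionComponents f g)) := by
  have hirr : GeomIrr f g := fun y K _ _ => (hint y K).1
  have hirr' := fun y => GeomIrr.isIrreducible f g hg hirr y
  have hfg := f_g_apply f g hg
  haveI : LocallyOfFinitePresentation f := H18HTop.locallyOfFinitePresentation_of_noetherian f
  have hred : ∀ (y : Y) x, x ∈ connectedComponentIn (f.base ⁻¹' {y}) (g.base y) →
      FBase.IsGeomReducedAt (f.fiberToSpecResidueField (f.base x)) (f.asFiber x) := by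
    intro y x hx K _ _ x' hx'
    obtain rfl : f x = y := apply_eq_of_mem hx
    refine (hint (f x) K).2 x' ?_
    show f.fiberι (f x) ((FBase.bcπ (f.fiberToSpecResidueField (f x)) K).base x') ∈ _
    rw [hx', f.fiberι_asFiber]
    exact hx
  have hA : IsLocallyConstant (fun y : Y => topologicalKrullDim ↥(connectedComponentIn (f.base ⁻¹' {y}) (g.base y))) →
      ∀ (y : Y) x, x ∈ connectedComponentIn (f.base ⁻¹' {y}) (g.base y) → EGA43.IsUnivOpenAt f x := by
    intro hc y x hx
    refine isUnivOpenAt_of_dim_component_const f g hg hirr (fun y' hy' => ?_) hx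
    obtain ⟨U, hU, hyU, hUc⟩ := hc.exists_open y
    exact (hUc y' (hy'.mem_open hU hyU)).ge
  refine ⟨⟨fun hc x hx => hA hc (f x) x hx, fun ho => ?_⟩, fun hc => ?_⟩
  · refine (IsLocallyConstant.iff_exists_open _).mpr fun y => ?_
    obtain ⟨V, hV, hVc⟩ := exists_nhd_dim_component_eq f g hg hirr' y fun η hη _ =>
      fibreDimAt_section_le_of_geomReduced f g hg hirr y (fun ξ hξ _ => ho ξ (by
        show ξ ∈ connectedComponentIn (f ⁻¹' {f ξ}) (g (f ξ))
        rw [show f ξ = y from apply_eq_of_mem hξ]; exact hξ)) (hred y _ (mem_component f g hg y)) hη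
    obtain ⟨U, hUV, hU, hyU⟩ := mem_nhds_iff.mp hV
    exact ⟨U, hU, hyU, fun z hz => hVc z (hUV hz)⟩
  · refine isOpen_iff_mem_nhds.mpr fun x hx => mem_interior_iff_mem_nhds.mp ?_
    exact H06SecComp.mem_interior_sectionComponents f g hg (f x)
      (fun a ha => ⟨hA hc _ a ha, hred _ a ha⟩) hx

end Groth.Agent.S4975
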