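import Groth.Statements.S4978
import Groth.Agent.H06Proper.ClosureAt

set_option autoImplicit false
open CategoryTheory AlgebraicGeometry
universe u v w
open EGA43

namespace Groth.Agent.S4978

open CategoryTheory.Limits

open CategoryTheory.Limits in
/-- Let Y be a Noetherian scheme, f : X ⟶ Y a separated morphism of finite type, Z a subset of X such
that every maximal point of the closure of Z belongs to Z, and y a point of Y. Then the closure of Z
is proper over Y at y (for some open U ∋ y, its trace on f⁻¹(U) is proper over U with the reduced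
structure) if and only if: for every discrete valuation ring A' and every morphism g : Spec A' ⟶ Y
mapping the closed point to y, every point x' of X' = X ×_Y Spec A' which projects into Z, lies over
the generic point η' of Spec A' and is rational over κ(η') is in the image of some section of X' ⟶
Spec A'. -/
theorem result {X Y : Scheme.{u}} [IsNoetherian Y] (f : X ⟶ Y) [IsSeparated f]
    [LocallyOfFiniteType f] [QuasiCompact f] (Z : Set X)
    (hZ : ∀ z ∈ closure Z, (∀ z' ∈ closure Z, z ∈ closure {z'} → z' = z) → z ∈ Z) (y : Y) :
    (∃ U : Y.Opens, y ∈ U ∧ ∃ hC : IsClosed ((f ⁻¹ᵁ U).ι.base ⁻¹' closure Z),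
      IsProper ((Scheme.IdealSheafData.vanishingIdeal
        (⟨(f ⁻¹ᵁ U).ι.base ⁻¹' closure Z, hC⟩ : TopologicalSpace.Closeds ↥(f ⁻¹ᵁ U))).subschemeι ≫ (f ∣_ U))) ↔
      ∀ (A' : Type u) [CommRing A'] [IsDomain A'] [IsDiscreteValuationRing A'] (g : Spec (CommRingCat.of A') ⟶ Y),
        g.base (IsLocalRing.closedPoint A') = y →
        ∀ x' : ↥(pullback f g), (pullback.fst f g).base x' ∈ Z →
          (pullback.snd f g).base x' = genericPoint (Spec (CommRingCat.of A')) →
          Function.Bijective ((pullback.snd f g).residueFieldMap x').hom →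
          ∃ s : Spec (CommRingCat.of A') ⟶ pullback f g, s ≫ pullback.snd f g = 𝟙 _ ∧ x' ∈ Set.range s.base := by
  constructor
  · rintro ⟨U, hyU, hC, hP⟩ A' _ _ _ g hg x' hx hgen hbij
    exact Groth.Agent.H06Proper.exists_section_of_closure_proper f Z U hC hP A' g (hg.symm ▸ hyU) x'
      (subset_closure hx) hgen hbij
  · intro h
    exact Groth.Agent.H06Proper.exists_closure_proper_of_sections f Z hZ y h

end Groth.Agent.S4978
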