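import Groth.Statements.S4985
import Groth.Agent.H06EGA14.StalkSubspace

set_option autoImplicit false
open CategoryTheory AlgebraicGeometry
universe u v w
open EGA43

namespace Groth.Agent.S4985

open Groth.Agent Groth.Agent.H06EGA14 Groth.Agent.H8Props.FieldDim

/-- Let Y be a locally Noetherian scheme, f : X ⟶ Y a morphism of finite type, x a point of X with y = f
x, X' an irreducible closed subset of X containing x, regarded as a reduced closed subscheme, and Y'
the closure of f(X') regarded as a reduced closed subscheme of Y, with generic point η'. Write A, B,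
A', B' for the local rings of Y at y, of X at x, of Y' at y and of X' at x, and B ⊗ κ(y), B' ⊗ κ(y)
for the local rings at x of the fibres over y of X and of X'. Then dim B' = dim A + dim(B ⊗ κ(y)) if
and only if all of the following hold: (i) dim A' = dim A; (ii) dim(B' ⊗ κ(y)) = dim(B ⊗ κ(y));
(iii) X' is equidimensional over Y' at x, i.e. the local dimension at x of the fibre of X' over y
equals dim(X' ∩ f⁻¹(η')); (iv) dim B' = dim A' + dim(B' ⊗ κ(y)) (the published (iv) carries the
correction term dim_x − dim of (iii), which vanishes under (iii)). -/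
theorem result {X Y : Scheme.{u}} [IsLocallyNoetherian Y] (f : X ⟶ Y)
    [LocallyOfFiniteType f] [QuasiCompact f] (x : X) (X' : TopologicalSpace.Closeds X) (hirr : IsIrreducible (X' : Set X))
    (hx : x ∈ X') (w : ↥(Scheme.IdealSheafData.vanishingIdeal X').subscheme)
    (hw : (Scheme.IdealSheafData.vanishingIdeal X').subschemeι.base w = x)
    (v : ↥(Scheme.IdealSheafData.vanishingIdeal
      (⟨closure (f.base '' (X' : Set X)), isClosed_closure⟩ : TopologicalSpace.Closeds Y)).subscheme)
    (hv : (Scheme.IdealSheafData.vanishingIdeal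
      (⟨closure (f.base '' (X' : Set X)), isClosed_closure⟩ : TopologicalSpace.Closeds Y)).subschemeι.base v = f.base x)
    (η' : Y) (hη' : closure ({η'} : Set Y) = closure (f.base '' (X' : Set X))) :
    letI ιX := (Scheme.IdealSheafData.vanishingIdeal X').subschemeι
    letI dA := ringKrullDim (Y.presheaf.stalk (f.base x))
    letI dB := ringKrullDim (X.presheaf.stalk x)
    letI dA' := ringKrullDim ((Scheme.IdealSheafData.vanishingIdeal
      (⟨closure (f.base '' (X' : Set X)), isClosed_closure⟩ : TopologicalSpace.Closeds Y)).subscheme.presheaf.stalk v)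
    letI dB' := ringKrullDim ((Scheme.IdealSheafData.vanishingIdeal X').subscheme.presheaf.stalk w)
    letI dBk := ringKrullDim ((f.fiber (f.base x)).presheaf.stalk (f.asFiber x))
    letI dB'k := ringKrullDim (((ιX ≫ f).fiber ((ιX ≫ f).base w)).presheaf.stalk ((ιX ≫ f).asFiber w))
    letI e' := topologicalKrullDim ↥((X' : Set X) ∩ f.base ⁻¹' {η'})
    (dB' = dA + dBk ↔
      (dA' = dA ∧ dB'k = dBk ∧ FlatMor.fibreDimAt (ιX ≫ f) w = e' ∧ dB' = dA' + dB'k)) := by
  haveI : IsLocallyNoetherian X := LocallyOfFiniteType.isLocallyNoetherian f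
  let ιX := (Scheme.IdealSheafData.vanishingIdeal X').subschemeι
  let dA := ringKrullDim (Y.presheaf.stalk (f.base x))
  let dA' := ringKrullDim ((Scheme.IdealSheafData.vanishingIdeal
      (⟨closure (f.base '' (X' : Set X)), isClosed_closure⟩ : TopologicalSpace.Closeds Y)).subscheme.presheaf.stalk v)
  let dB' := ringKrullDim ((Scheme.IdealSheafData.vanishingIdeal X').subscheme.presheaf.stalk w)
  let dBk := ringKrullDim ((f.fiber (f.base x)).presheaf.stalk (f.asFiber x))
  let dB'k := ringKrullDim (((ιX ≫ f).fiber ((ιX ≫ f).base w)).presheaf.stalk ((ιX ≫ f).asFiber w))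
  let e' := topologicalKrullDim ↥((X' : Set X) ∩ f.base ⁻¹' {η'})
  let ξ := hirr.genericPoint
  have hξ : closure ({ξ} : Set X) = X' := hirr.closure_genericPoint X'.isClosed
  have hr : Set.range ιX = closure {ξ} := by
    rw [hξ]
    exact (Scheme.IdealSheafData.range_subschemeι _).trans (Scheme.IdealSheafData.coe_support_vanishingIdeal _)
  have hη : η' = f ξ := eq_of_closure_singleton_eq
    (hη'.trans (by rw [← hξ]; exact H06Equidim.closure_image_closure_singleton f ξ))
  obtain ⟨z, hz⟩ : ξ ∈ Set.range ιX := hr ▸ subset_closure rfl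
  have hzw : z ⤳ w := ιX.isEmbedding.isInducing.specializes_iff.mp (by
    rw [hz, hw]; exact specializes_iff_mem_closure.mpr (hξ.symm ▸ hx))
  have hξx : ξ ⤳ x := specializes_iff_mem_closure.mpr (hξ.symm ▸ hx)
  obtain ⟨p, hp⟩ : ξ ∈ Set.range (X.fromSpecStalk x) := by rw [Scheme.range_fromSpecStalk]; exact hξx
  have hB : dB' = ringKrullDim (X.presheaf.stalk x ⧸ p.asIdeal) := by
    rw [ringKrullDim_quotient_eq_between ξ x p hp]
    exact ringKrullDim_stalk_eq_between ιX hr w hw
  have hnat : Y.fromSpecStalk (f x) (PrimeSpectrum.comap (f.stalkMap x).hom p) = f ξ := by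
    rw [← hp]
    exact congrArg (fun φ : Spec (X.presheaf.stalk x) ⟶ Y => φ p) (Scheme.SpecMap_stalkMap_fromSpecStalk f)
  have hA : dA' = ringKrullDim (Y.presheaf.stalk (f x) ⧸ p.asIdeal.comap (f.stalkMap x).hom) := by
    refine (ringKrullDim_stalk_eq_between _ (a := f ξ) ?_ v hv).trans
      (ringKrullDim_quotient_eq_between (f ξ) (f x) _ hnat).symm
    rw [← hη, hη']
    exact (Scheme.IdealSheafData.range_subschemeι _).trans (Scheme.IdealSheafData.coe_support_vanishingIdeal _)
  obtain ⟨nA, hnA⟩ := H22Alg.exists_nat_ringKrullDim' (Y.presheaf.stalk (f x))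
  obtain ⟨nA', hnA'⟩ : ∃ n : ℕ, dA' = n := by
    haveI := p.2
    rw [hA]; exact H05EGA4.exists_nat_dim_quotient_eq _
  obtain ⟨nB', hnB'⟩ : ∃ n : ℕ, dB' = n := by
    haveI := p.2
    rw [hB]; exact H05EGA4.exists_nat_dim_quotient_eq _
  obtain ⟨k, hk⟩ := exists_nat_fibre_stalk_dim f x
  obtain ⟨k', hk'⟩ := exists_nat_fibre_stalk_dim (ιX ≫ f) w
  obtain ⟨t, ht, -⟩ := H06Equidim.exists_trdeg_asFiber f x
  obtain ⟨e, he, -⟩ := H06Equidim.exists_trdeg_asFiber f ξ
  have he' : e' = (e : WithBot ℕ∞) := by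
    show topologicalKrullDim ↥((X' : Set X) ∩ f ⁻¹' {η'}) = _
    rw [← he, ← hξ, dim_inter_eq_cdim f ξ hη.symm]
  have htw : cdim ((ιX ≫ f).asFiber w) = t := by rw [cdim_asFiber_comp_closedImmersion, hw, ht]
  have hfd := fibreDimAt_eq_stalk_add (ιX ≫ f) w t htw
  rw [hk'] at hfd
  have h1 : (e : WithBot ℕ∞) ≤ FlatMor.fibreDimAt (ιX ≫ f) w := by
    rw [← he, ← hz, ← cdim_asFiber_comp_closedImmersion]
    exact (H06Equidim.cdim_asFiber_le_fibreDimAt _ z).trans (fibreDimAt_le_of_specializes _ hzw)
  have h2 := quotient_dim_add_le f x p nA' t e (hA ▸ hnA') ht (by rw [hp, he])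
  rw [← hB, hnB'] at h2
  have h3 : k' ≤ k := by exact_mod_cast hk'.ge.trans ((fibre_stalk_dim_le_of_closedImmersion ιX f w hw).trans hk.le)
  have h4 : nA' ≤ nA := by exact_mod_cast hnA'.ge.trans (hA.le.trans ((ringKrullDim_quotient_le _).trans hnA.le))
  rw [hfd] at h1
  have h1' : e ≤ k' + t := by exact_mod_cast h1
  have h2' : nB' + t ≤ nA' + e := by exact_mod_cast h2
  show dB' = dA + dBk ↔ dA' = dA ∧ dB'k = dBk ∧ _ = e' ∧ dB' = dA' + dB'k
  rw [hnB', hnA', show dA = (nA : WithBot ℕ∞) from hnA, show dBk = (k : WithBot ℕ∞) from hk,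
    show dB'k = (k' : WithBot ℕ∞) from hk', he', hfd]
  norm_cast
  omega

end Groth.Agent.S4985
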