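import Groth.Statements.S4986
import Groth.Agent.S4985
import Groth.Agent.H8Props.Devissage.Points

set_option autoImplicit false
open CategoryTheory AlgebraicGeometry
universe u v w
open EGA43

open Groth.Agent Groth.Agent.H06EGA14 Groth.Agent.H8Props.FieldDim

namespace Groth.Agent.S4986

/-- Let Y be locally Noetherian, f : X ⟶ Y of finite type, x ∈ X, y = f x, X' an irreducible closed
subset containing x with its reduced structure, Y' the closure of f(X') with its reduced structure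
and generic point η', and A, B, A', B' the local rings of Y at y, of X at x, of Y' at y and of X' at
x. Suppose dim B = dim A + dim(B ⊗ κ(y)). Then X' satisfies the four conditions (i) dim A' = dim A,
(ii) dim_x(X' ∩ X_y) = dim_x(X_y), (iii) X' equidimensional over Y' at x, (iv) dim B' = dim A' +
dim(B' ⊗ κ(y)), if and only if dim B' = dim B. -/
theorem result {X Y : Scheme.{u}} [IsLocallyNoetherian Y] (f : X ⟶ Y)
    [LocallyOfFiniteType f] [QuasiCompact f] (x : X) (X' : TopologicalSpace.Closeds X) (hirr : IsIrreducible (X' : Set X))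
    (hx : x ∈ X') (w : ↥(Scheme.IdealSheafData.vanishingIdeal X').subscheme)
    (hw : (Scheme.IdealSheafData.vanishingIdeal X').subschemeι.base w = x)
    (v : ↥(Scheme.IdealSheafData.vanishingIdeal
      (⟨closure (f.base '' (X' : Set X)), isClosed_closure⟩ : TopologicalSpace.Closeds Y)).subscheme)
    (hv : (Scheme.IdealSheafData.vanishingIdeal
      (⟨closure (f.base '' (X' : Set X)), isClosed_closure⟩ : TopologicalSpace.Closeds Y)).subschemeι.base v = f.base x)
    (η' : Y) (hη' : closure ({η'} : Set Y) = closure (f.base '' (X' : Set X))) :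
    letI ιX := (Scheme.IdealSheafData.vanishingIdeal X').subschemeι
    letI dA := ringKrullDim (Y.presheaf.stalk (f.base x))
    letI dB := ringKrullDim (X.presheaf.stalk x)
    letI dA' := ringKrullDim ((Scheme.IdealSheafData.vanishingIdeal
      (⟨closure (f.base '' (X' : Set X)), isClosed_closure⟩ : TopologicalSpace.Closeds Y)).subscheme.presheaf.stalk v)
    letI dB' := ringKrullDim ((Scheme.IdealSheafData.vanishingIdeal X').subscheme.presheaf.stalk w)
    letI dBk := ringKrullDim ((f.fiber (f.base x)).presheaf.stalk (f.asFiber x))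
    letI dB'k := ringKrullDim (((ιX ≫ f).fiber ((ιX ≫ f).base w)).presheaf.stalk ((ιX ≫ f).asFiber w))
    letI e' := topologicalKrullDim ↥((X' : Set X) ∩ f.base ⁻¹' {η'})
    dB = dA + dBk →
      ((dA' = dA ∧ FlatMor.localDim ↥((X' : Set X) ∩ f.base ⁻¹' {f.base x}) ⟨x, ⟨hx, rfl⟩⟩ = FlatMor.fibreDimAt f x ∧
        FlatMor.fibreDimAt (ιX ≫ f) w = e' ∧ dB' = dA' + dB'k) ↔ dB' = dB) := by
  haveI : IsLocallyNoetherian X := LocallyOfFiniteType.isLocallyNoetherian f
  subst hw
  intro hB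
  let ιX := (Scheme.IdealSheafData.vanishingIdeal X').subschemeι
  let dBk := ringKrullDim ((f.fiber (f.base (ιX w))).presheaf.stalk (f.asFiber (ιX w)))
  let dB'k := ringKrullDim (((ιX ≫ f).fiber ((ιX ≫ f).base w)).presheaf.stalk ((ιX ≫ f).asFiber w))
  have h := S4985.result f (ιX w) X' hirr hx w rfl v hv η' hη'
  let g := ιX ≫ f
  let W : Set (Scheme.IdealSheafData.vanishingIdeal X').subscheme := g ⁻¹' {g w}
  have himg : ιX '' W = (X' : Set X) ∩ f ⁻¹' {f (ιX w)} := by
    ext z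
    constructor
    · rintro ⟨z', hz', rfl⟩
      exact ⟨(Set.ext_iff.mp ((Scheme.IdealSheafData.range_subschemeι _).trans (Scheme.IdealSheafData.coe_support_vanishingIdeal _)) _).mp ⟨z', rfl⟩, hz'⟩
    · rintro ⟨h1, h2⟩
      obtain ⟨z', rfl⟩ := (Set.ext_iff.mp ((Scheme.IdealSheafData.range_subschemeι _).trans (Scheme.IdealSheafData.coe_support_vanishingIdeal X')) z).mpr h1
      exact ⟨z', h2, rfl⟩
  let e2 : W ≃ₜ ↥((X' : Set X) ∩ f ⁻¹' {f (ιX w)}) :=
    (ιX.isEmbedding.homeomorphImage W).trans (Homeomorph.setCongr himg)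
  have hloc : FlatMor.localDim ↥((X' : Set X) ∩ f ⁻¹' {f (ιX w)}) ⟨ιX w, ⟨hx, rfl⟩⟩ = FlatMor.fibreDimAt g w := by
    have h1 := H8Props.Devissage.localDim_homeomorph ((g.fiberHomeo (g w)).trans e2) (g.asFiber w)
    rw [show ((g.fiberHomeo (g w)).trans e2) (g.asFiber w) = ⟨ιX w, ⟨hx, rfl⟩⟩ from Subtype.ext (by
      show ιX ((g.fiberHomeo (g w)) ((g.fiberHomeo (g w)).symm ⟨w, rfl⟩)).1 = ιX w
      rw [Homeomorph.apply_symm_apply])] at h1
    exact h1
  obtain ⟨t, ht, -⟩ := H06Equidim.exists_trdeg_asFiber f (ιX w)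
  have htw : cdim (g.asFiber w) = t := by rw [cdim_asFiber_comp_closedImmersion, ht]
  obtain ⟨k, hk⟩ := exists_nat_fibre_stalk_dim f (ιX w)
  obtain ⟨k', hk'⟩ := exists_nat_fibre_stalk_dim g w
  have hiff : (FlatMor.localDim ↥((X' : Set X) ∩ f ⁻¹' {f (ιX w)}) ⟨ιX w, ⟨hx, rfl⟩⟩ = FlatMor.fibreDimAt f (ιX w)) ↔ dB'k = dBk := by
    rw [hloc, fibreDimAt_eq_stalk_add g w t htw, fibreDimAt_eq_stalk_add f (ιX w) t ht,
      show dB'k = (k' : WithBot ℕ∞) from hk', show dBk = (k : WithBot ℕ∞) from hk, hk, hk']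
    norm_cast
    omega
  constructor
  · rintro ⟨h1, h2, h3, h4⟩
    exact (h.mpr ⟨h1, hiff.mp h2, h3, h4⟩).trans hB.symm
  · intro h'
    obtain ⟨h1, h2, h3, h4⟩ := h.mp (h'.trans hB)
    exact ⟨h1, hiff.mpr h2, h3, h4⟩

end Groth.Agent.S4986
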