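import Groth.Statements.S4988
import Groth.Agent.H06Unram.AgreeOpen

set_option autoImplicit false
universe u
open CategoryTheory CategoryTheory.Limits AlgebraicGeometry TopologicalSpace
open Unram17

namespace Groth.Agent.S4988

set_option linter.style.haveILetI false

/-- Let h : Y ⟶ S be formally unramified, locally of finite type and separated, let f, g : X ⟶ Y be
morphisms over S whose common composite X ⟶ S is both open and closed as a map of topological
spaces, and let s be a point of S. If f and g have the same restriction to the scheme-theoretic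
fibre of X over s, then there is an open and closed subset V of S containing s such that f and g
agree on the preimage of V; in particular f = g when S is connected. -/
theorem result {X Y S : Scheme.{u}} (h : Y ⟶ S)
    [FormallyUnramified h] [LocallyOfFiniteType h] [IsSeparated h]
    (f g : X ⟶ Y) (w : g ≫ h = f ≫ h)
    (ho : IsOpenMap (f ≫ h).base) (hc : IsClosedMap (f ≫ h).base) (s : ↥S)
    (hs : (f ≫ h).fiberι s ≫ f = (f ≫ h).fiberι s ≫ g) :
    ∃ V : S.Opens, IsClosed (V : Set ↥S) ∧ s ∈ V ∧
      ((f ≫ h) ⁻¹ᵁ V).ι ≫ f = ((f ≫ h) ⁻¹ᵁ V).ι ≫ g := by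
  let E := H06Unram.AgreeOpen.agree h f g w
  have hE : (f ≫ h) ⁻¹' {s} ⊆ E := by
    intro x hx
    obtain ⟨z, rfl⟩ : x ∈ Set.range ((f ≫ h).fiberι s) := by rw [Scheme.Hom.range_fiberι]; exact hx
    exact H06Unram.AgreeOpen.mem_agree_of_comp_eq h f g w _ hs z
  refine ⟨⟨_, (hc _ E.2.isClosed_compl).isOpen_compl⟩, ?_, ?_, H06Unram.AgreeOpen.agree_spec h f g w ?_⟩
  · exact (ho _ (H06Unram.AgreeOpen.isClosed_agree h f g w).isOpen_compl).isClosed_compl
  · rintro ⟨x, hx, hxs⟩
    exact hx (hE hxs)
  · intro x hx
    by_contra hx'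
    exact hx ⟨x, hx', rfl⟩

end Groth.Agent.S4988
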