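import Groth.Statements.S4993
import Groth.Agent.H06Unram.OpenImmersionDim
import Groth.Agent.H19Grp.RegularSmooth
import Groth.Agent.H05EGA4.CompleteNormalization
import Groth.Agent.H4Depth.Regular

set_option autoImplicit false
universe u
open CategoryTheory CategoryTheory.Limits AlgebraicGeometry TopologicalSpace
open Unram17

namespace Groth.Agent.S4993

set_option linter.style.haveILetI false

/-- Let f : Y ⟶ S and h : X ⟶ S be smooth and let g : X ⟶ Y satisfy g ≫ f = h. Then g is an open
immersion if and only if g is a monomorphism and, for every point x of X, the local dimension at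
g(x) of the fibre of f through g(x) equals the local dimension at x of the fibre of h through x. -/
theorem result {X Y S : Scheme.{u}} (f : Y ⟶ S) (h : X ⟶ S)
    [Smooth f] [Smooth h] (g : X ⟶ Y) (w : g ≫ f = h) :
    IsOpenImmersion g ↔ Mono g ∧ ∀ x : ↥X, FlatMor.fibreDimAt f (g.base x) = FlatMor.fibreDimAt h x := by
  have hnorm : ∀ y : Y, IsDomain ((f.fiber (f.base y)).presheaf.stalk (f.asFiber y)) ∧
      IsIntegrallyClosed ((f.fiber (f.base y)).presheaf.stalk (f.asFiber y)) := fun y => by
    haveI : Smooth (f.fiberToSpecResidueField (f.base y)) :=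
      inferInstanceAs (Smooth (pullback.snd f _))
    haveI := @H19Grp.isRegularLocalRing_stalk_of_smooth (S.residueField (f.base y)) _ _
      (f.fiberToSpecResidueField (f.base y)) this (f.asFiber y)
    exact ⟨H4Depth.isDomain_of_isRegularLocalRing _, H05EGA4.isIntegrallyClosed_of_isRegularLocalRing _⟩
  refine (H06Unram.OpenImmersionDim.isOpenImmersion_iff f h hnorm g w).trans
    (and_congr_right' (forall_congr' fun x => eq_comm))

end Groth.Agent.S4993
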