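import Groth.Statements.S4999
import Groth.Agent.H06Unram.GenericSmooth
import Groth.Agent.S2063

set_option autoImplicit false
universe u
open Unram17

namespace Groth.Agent.S4999

set_option linter.style.haveILetI false
open scoped TensorProduct

/-- Let A be an algebra of finite type over a field k. Then A is smooth over k if and only if the module
of differentials of A over k is projective (locally free) and, at every minimal prime p of A, the
local ring A_p is geometrically reduced over k, which for this Artinian local ring says that A_p is
a field and a separable (not necessarily algebraic) extension of k. -/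
theorem result (k A : Type u) [Field k] [CommRing A]
    [Algebra k A] [Algebra.FiniteType k A] :
    Algebra.Smooth k A ↔
      Module.Projective A (KaehlerDifferential k A) ∧
        ∀ (p : Ideal A) [p.IsPrime], p ∈ minimalPrimes A →
          Algebra.IsGeometricallyReduced k (Localization.AtPrime p) := by
  haveI : Algebra.FinitePresentation k A := Algebra.FinitePresentation.of_finiteType.mp inferInstance
  constructor
  · intro h
    refine ⟨inferInstance, fun p _ hp => (H06Unram.GenericSmooth.isSmoothAt_minimal_iff hp).mp inferInstance⟩
  · rintro ⟨hP, h⟩
    haveI := hP
    haveI : Algebra.FormallySmooth k A := by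
      rw [← Algebra.smoothLocus_eq_univ_iff]
      refine Set.eq_univ_of_forall fun z => ?_
      obtain ⟨q, hq, hqz⟩ := Ideal.exists_minimalPrimes_le (J := z.asIdeal) (I := ⊥) bot_le
      haveI := hq.1.1
      have hsq := (H06Unram.GenericSmooth.isSmoothAt_minimal_iff hq).mpr (h q hq)
      have h1 := (S2063.result q).mp hsq
      show Algebra.IsSmoothAt k z.asIdeal
      refine (S2063.result z.asIdeal).mpr ?_
      have e1 : Module.finrank z.asIdeal.ResidueField (z.asIdeal.ResidueField ⊗[A] KaehlerDifferential k A) =
          Module.finrank q.ResidueField (q.ResidueField ⊗[A] KaehlerDifferential k A) :=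
        (z.asIdeal.finrank_fiber_eq_rankAtStalk).trans
          ((Module.rankAtStalk_eq_of_le_of_finite_of_flat _ (show (⟨q, inferInstance⟩ : PrimeSpectrum A) ≤ z from hqz)).symm.trans
            (q.finrank_fiber_eq_rankAtStalk).symm)
      rw [e1]
      refine h1.trans (le_iInf fun W => ?_)
      exact iInf_le_of_le ⟨W.1, W.1.2.stableUnderGeneralization
        ((PrimeSpectrum.le_iff_specializes ⟨q, inferInstance⟩ z).mp hqz) W.2⟩ le_rfl
    exact ⟨inferInstance, inferInstance⟩

end Groth.Agent.S4999
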