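import Groth.Statements.S5000
import Groth.Agent.H06Unram.RegularChar0
import Groth.Agent.S9442
import Groth.Agent.H06Red.Algebra

set_option autoImplicit false
universe u
open Unram17

namespace Groth.Agent.S5000

set_option linter.style.haveILetI false

/-- Let k be a field of characteristic zero, A a k-algebra of finite type and q a prime of A. Then A is
smooth over k at q if and only if the module of differentials of the local ring A_q over k is free. -/
theorem result (k A : Type u) [Field k] [CharZero k] [CommRing A]
    [Algebra k A] [Algebra.FiniteType k A] (q : Ideal A) [q.IsPrime] :
    Algebra.IsSmoothAt k q ↔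
      Module.Free (Localization.AtPrime q) (KaehlerDifferential k (Localization.AtPrime q)) := by
  haveI : Algebra.FinitePresentation k A := Algebra.FinitePresentation.of_finiteType.mp inferInstance
  haveI : IsNoetherianRing A := Algebra.FiniteType.isNoetherianRing k A
  haveI : Algebra.EssFiniteType A (Localization.AtPrime q) :=
    Algebra.EssFiniteType.of_isLocalization _ q.primeCompl
  haveI : Algebra.EssFiniteType k (Localization.AtPrime q) := Algebra.EssFiniteType.comp k A _
  constructor
  · intro h
    haveI : Algebra.FormallySmooth k (Localization.AtPrime q) := h
    exact Module.free_of_flat_of_isLocalRing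
  · intro h
    haveI : IsNoetherianRing (Localization.AtPrime q) := IsLocalization.isNoetherianRing q.primeCompl _ inferInstance
    haveI : Algebra.EssFiniteType (Localization.AtPrime q) (IsLocalRing.ResidueField (Localization.AtPrime q)) := by
      haveI : Module.Finite (Localization.AtPrime q) (IsLocalRing.ResidueField (Localization.AtPrime q)) :=
        Module.Finite.of_surjective (Algebra.linearMap _ _) IsLocalRing.residue_surjective
      infer_instance
    haveI : Algebra.EssFiniteType k (IsLocalRing.ResidueField (Localization.AtPrime q)) :=
      Algebra.EssFiniteType.comp k (Localization.AtPrime q) _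
    haveI : Algebra.FormallySmooth k (IsLocalRing.ResidueField (Localization.AtPrime q)) := inferInstance
    haveI hreg : IsRegularLocalRing (Localization.AtPrime q) :=
      H06Unram.RegularChar0.isRegularLocalRing_of_free (k := k)
    haveI := H06Red.isGeometricallyReduced_of_perfectField k q.ResidueField
    exact (S9442.result k A q).mpr hreg

end Groth.Agent.S5000
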