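import Groth.Statements.S5001
import Groth.Agent.H06Unram.SepPoint
import Groth.Agent.S2141
import Groth.Agent.S2063

set_option autoImplicit false
universe u
open Unram17

namespace Groth.Agent.S5001

set_option linter.style.haveILetI false
open scoped TensorProduct

/-- Let k be a field, A a k-algebra of finite type equipped with a k-algebra map from the polynomial
ring in n variables, with images g_i of the variables, and p a prime of A such that Spec A has local
dimension n at p, the residue field of p is a finite separable extension of k, and every g_i lies in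
p. Then A is etale over the polynomial ring at p if and only if the images of the g_i generate the
maximal ideal of the local ring A_p. -/
theorem result (k A : Type u) [Field k] [CommRing A] [Algebra k A]
    [Algebra.FiniteType k A] (n : ℕ) [Algebra (MvPolynomial (Fin n) k) A]
    [IsScalarTower k (MvPolynomial (Fin n) k) A] (p : Ideal A) [p.IsPrime]
    (hn : FlatMor.localDim (PrimeSpectrum A) ⟨p, inferInstance⟩ = (n : WithBot ℕ∞))
    [Module.Finite k p.ResidueField] [Algebra.IsSeparable k p.ResidueField]
    (hg : ∀ i : Fin n, algebraMap (MvPolynomial (Fin n) k) A (MvPolynomial.X i) ∈ p) :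
    Algebra.IsEtaleAt (MvPolynomial (Fin n) k) p ↔
      Ideal.span (Set.range fun i : Fin n =>
        algebraMap A (Localization.AtPrime p) (algebraMap (MvPolynomial (Fin n) k) A (MvPolynomial.X i))) =
        IsLocalRing.maximalIdeal (Localization.AtPrime p) := by
  haveI : Algebra.FormallyEtale k p.ResidueField := Algebra.FormallyEtale.of_isSeparable k p.ResidueField
  haveI : IsNoetherianRing A := Algebra.FiniteType.isNoetherianRing k A
  haveI : Algebra.FinitePresentation k A := Algebra.FinitePresentation.of_finiteType.mp inferInstance
  haveI : IsNoetherianRing (Localization.AtPrime p) := IsLocalization.isNoetherianRing p.primeCompl _ inferInstance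
  haveI : Algebra.EssFiniteType A (Localization.AtPrime p) :=
    Algebra.EssFiniteType.of_isLocalization _ p.primeCompl
  haveI : Algebra.EssFiniteType k (Localization.AtPrime p) := Algebra.EssFiniteType.comp k A _
  let P := MvPolynomial (Fin n) k
  let T := Localization.AtPrime p
  let bP := KaehlerDifferential.mvPolynomialBasis k (Fin n)
  have hbP : ∀ i, bP i = KaehlerDifferential.D k P (MvPolynomial.X i) := fun i =>
    KaehlerDifferential.mvPolynomialBasis_apply k (Fin n) i
  let g : Fin n → T := fun i => algebraMap A T (algebraMap P A (MvPolynomial.X i))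
  have hgP : ∀ i, algebraMap P T (MvPolynomial.X i) = g i := fun i => IsScalarTower.algebraMap_apply P A T _
  have hgm : ∀ i, g i ∈ IsLocalRing.maximalIdeal T := fun i => by
    rw [← Localization.AtPrime.map_eq_maximalIdeal]
    exact Ideal.mem_map_of_mem _ (hg i)
  constructor
  · intro h
    haveI : Algebra.FormallyEtale P T := h
    refine H06Unram.SepPoint.span_eq_maximalIdeal (k := k) g hgm ?_
    have hbij : Function.Surjective (KaehlerDifferential.mapBaseChange k P T) := fun z =>
      (KaehlerDifferential.exact_mapBaseChange_map k P T z).mp (Subsingleton.elim _ _)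
    refine eq_top_iff.mpr fun z _ => ?_
    have h1 : ∀ w : Ω[T⁄k], (1 : IsLocalRing.ResidueField T) ⊗ₜ[T] w ∈ Submodule.span (IsLocalRing.ResidueField T)
        (Set.range fun i => (1 : IsLocalRing.ResidueField T) ⊗ₜ[T] KaehlerDifferential.D k T (g i)) := by
      intro w
      obtain ⟨t, rfl⟩ := hbij w
      have ht := (Algebra.TensorProduct.basis T bP).mem_span t
      induction ht using Submodule.span_induction with
      | mem m hm =>
        obtain ⟨i, rfl⟩ := hm
        refine Submodule.subset_span ⟨i, ?_⟩
        rw [Algebra.TensorProduct.basis_apply, hbP, KaehlerDifferential.mapBaseChange_tmul, one_smul,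
          KaehlerDifferential.map_D, hgP]
      | zero => rw [map_zero, TensorProduct.tmul_zero]; exact zero_mem _
      | add a b _ _ ha hb => rw [map_add, TensorProduct.tmul_add]; exact add_mem ha hb
      | smul r a _ ha =>
        rw [map_smul, TensorProduct.tmul_smul, ← algebraMap_smul (IsLocalRing.ResidueField T) r]
        exact Submodule.smul_mem _ _ ha
    induction z using TensorProduct.induction_on with
    | zero => exact zero_mem _
    | add a b ha hb => exact add_mem (ha trivial) (hb trivial)
    | tmul c w =>
      rw [show c ⊗ₜ[T] w = c • ((1 : IsLocalRing.ResidueField T) ⊗ₜ[T] w) by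
        rw [TensorProduct.smul_tmul', smul_eq_mul, mul_one]]
      exact Submodule.smul_mem _ _ (h1 w)
  · intro h
    haveI : Algebra.IsAlgebraic k p.ResidueField := Algebra.IsAlgebraic.of_finite k p.ResidueField
    have hdim : ringKrullDim T = (n : WithBot ℕ∞) := by
      rw [← hn, S2141.result (k := k) p 0 (by simp [trdeg_eq_zero])]
      simp [T]
    have hli := H06Unram.SepPoint.linearIndependent_D (k := k) g h hdim
    have hsp := H06Unram.SepPoint.span_top (k := k) g h
    haveI : Algebra.FormallyEtale A T := Algebra.FormallyEtale.of_isLocalization p.primeCompl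
    let e₃ : p.ResidueField ⊗[T] Ω[T⁄k] ≃ₗ[p.ResidueField] p.ResidueField ⊗[A] Ω[A⁄k] :=
      (LinearEquiv.baseChange T p.ResidueField _ _
        (KaehlerDifferential.tensorKaehlerEquivOfFormallyEtale k A T).symm).trans
        (TensorProduct.AlgebraTensorModule.cancelBaseChange A T p.ResidueField p.ResidueField Ω[A⁄k])
    haveI : Algebra.FormallySmooth k T := (S2063.result p).mpr (by
      rw [← e₃.finrank_eq, Module.finrank_eq_card_basis (Module.Basis.mk hli hsp.ge), Fintype.card_fin, hn]
      rfl)
    have e : (fun i => (1 : IsLocalRing.ResidueField T) ⊗ₜ[T] KaehlerDifferential.D k T (algebraMap P T (MvPolynomial.X i))) =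
        fun i => (1 : IsLocalRing.ResidueField T) ⊗ₜ[T] KaehlerDifferential.D k T (g i) :=
      funext fun i => congrArg (fun a : T => (1 : IsLocalRing.ResidueField T) ⊗ₜ[T] KaehlerDifferential.D k T a) (hgP i)
    exact H06Unram.SepPoint.formallyEtale_of_span (k := k) bP (fun i => MvPolynomial.X i) hbP
      (e.symm ▸ hli) (e.symm ▸ hsp)

end Groth.Agent.S5001
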