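import Groth.Statements.S5004
import Groth.Agent.H17.RegQuasi
-- import your own Groth.Agent.* helpers here

set_option autoImplicit false
universe u
open CategoryTheory CategoryTheory.Limits AlgebraicGeometry TopologicalSpace
open Nrm16

namespace Groth.Agent.S5004

/-- On a locally Noetherian scheme, every quasi-regular (quasi-coherent) ideal sheaf is a regular ideal
sheaf. -/
theorem result {X : Scheme.{u}} [IsLocallyNoetherian X] (I : X.IdealSheafData)
    (h : RegImm.IsRegularIdeal RegImm.Kind.quasi I) : RegImm.IsRegularIdeal RegImm.Kind.regular I := by
  exact Groth.Agent.H17.RegQuasi.regularIdeal_of_quasi I h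

end Groth.Agent.S5004
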