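import Groth.Statements.S5006
import Groth.Agent.H17.Imports
import Mathlib.AlgebraicGeometry.Normalization

set_option autoImplicit false
universe u
open Nrm16

namespace Groth.Agent.S5006

open CategoryTheory Limits AlgebraicGeometry TopologicalSpace

/-- Let A be a commutative ring, I a finitely generated ideal and p a prime ideal containing I. Then
some basic open neighbourhood of p in Spec A is contained in the closed set V(I) (so that V(I) ⟶
Spec A is a local homeomorphism onto an open set near p) if and only if there is an integer n > 0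
with I^n A_p = I^(n+1) A_p in the local ring at p. Affine form. -/
theorem result (A : Type u) [CommRing A] (I : Ideal A) (hI : I.FG)
    (p : Ideal A) [p.IsPrime] (hp : I ≤ p) :
    (∃ f : A, f ∉ p ∧ ∀ q : Ideal A, q.IsPrime → f ∉ q → I ≤ q) ↔
      ∃ n : ℕ, 0 < n ∧
        (I ^ n).map (algebraMap A (Localization.AtPrime p)) =
          (I ^ (n + 1)).map (algebraMap A (Localization.AtPrime p)) := by
  constructor
  · rintro ⟨f, hfp, hf⟩
    have h1 : I.map (algebraMap A (Localization.AtPrime p)) ≤ nilradical _ := by
      rw [Ideal.map_le_iff_le_comap]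
      intro x hx
      rw [Ideal.mem_comap, mem_nilradical]
      have hnil : IsNilpotent (f * x) := by
        rw [← mem_nilradical, nilradical_eq_sInf, Submodule.mem_sInf]
        intro q hq
        by_cases h : f ∈ q
        · exact Ideal.mul_mem_right _ _ h
        · exact Ideal.mul_mem_left _ _ (hf q hq h hx)
      have := hnil.map (algebraMap A (Localization.AtPrime p))
      rw [map_mul] at this
      obtain ⟨k, hk⟩ := this
      refine ⟨k, ?_⟩
      rw [mul_pow] at hk
      exact ((IsLocalization.map_units (Localization.AtPrime p) (⟨f, hfp⟩ : p.primeCompl)).pow k).mul_right_eq_zero.mp hk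
    obtain ⟨m, hm⟩ := (hI.map _).isNilpotent_iff_le_nilradical.mpr h1
    refine ⟨m + 1, Nat.succ_pos _, ?_⟩
    rw [Ideal.map_pow, Ideal.map_pow, pow_succ, pow_succ (n := m + 1), pow_succ, hm]
    simp
  · rintro ⟨n, -, hn⟩
    have h0 : (I ^ n).map (algebraMap A (Localization.AtPrime p)) = ⊥ := by
      refine Submodule.eq_bot_of_le_smul_of_le_jacobson_bot (I.map (algebraMap A (Localization.AtPrime p))) _
        (Ideal.FG.map (Submodule.FG.pow hI n) _) ?_ ?_
      · nth_rw 1 [hn]
        rw [pow_succ, Ideal.map_mul, smul_eq_mul, mul_comm]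
      · rw [IsLocalRing.jacobson_eq_maximalIdeal ⊥ bot_ne_top, ← Localization.AtPrime.map_eq_maximalIdeal]
        exact Ideal.map_mono hp
    obtain ⟨t, ht⟩ := Submodule.FG.pow hI n
    have h2 : ∀ a ∈ t, ∃ c ∉ p, c * a = 0 := by
      intro a ha
      have : algebraMap A (Localization.AtPrime p) a = 0 := by
        rw [← Ideal.mem_bot, ← h0]
        exact Ideal.mem_map_of_mem _ (ht ▸ Submodule.subset_span ha)
      obtain ⟨⟨c, hc⟩, hca⟩ := (IsLocalization.map_eq_zero_iff p.primeCompl _ _).mp this
      exact ⟨c, hc, hca⟩
    choose! c hc hca using h2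
    refine ⟨∏ a ∈ t, c a, fun h => ?_, fun q hq hf => ?_⟩
    · obtain ⟨a, ha, h⟩ := (‹p.IsPrime›).prod_mem_iff.mp h
      exact hc a ha h
    · have hle : I ^ n ≤ q := by
        rw [← ht, Submodule.span_le]
        intro a ha
        have hcq : c a ∉ q := fun h => hf (hq.prod_mem_iff.mpr ⟨a, ha, h⟩)
        exact (hq.mem_or_mem (show c a * a ∈ q by rw [hca a ha]; exact q.zero_mem)).resolve_left hcq
      rcases n.eq_zero_or_pos with rfl | hpos
      · exact absurd (top_le_iff.mp (by simpa using hle)) hq.ne_top
      · exact (Ideal.IsPrime.pow_le_iff hpos.ne').mp hle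

end Groth.Agent.S5006
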