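import Groth.Statements.S5007
import Groth.Agent.H19Grp.UnramifiedFibres

set_option autoImplicit false
universe u
open CategoryTheory CategoryTheory.Limits AlgebraicGeometry TopologicalSpace
open Unram17

namespace Groth.Agent.S5007

/-- Let g : Y ⟶ S and h : X ⟶ S be locally of finite presentation and f : X ⟶ Y a morphism over S. Then
f is (formally) unramified if and only if for every point s of S the base change of f along the
fibre Y_s ⟶ Y, which is the fibre map X_s ⟶ Y_s, is (formally) unramified. -/
theorem result {X Y S : Scheme.{u}} (g : Y ⟶ S) (h : X ⟶ S)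
    [LocallyOfFinitePresentation g] [LocallyOfFinitePresentation h] (f : X ⟶ Y) (w : f ≫ g = h) :
    FormallyUnramified f ↔ ∀ s : ↥S, FormallyUnramified (pullback.snd f (g.fiberι s)) := by
  have : LocallyOfFiniteType (f ≫ g) := by rw [w]; infer_instance
  have : LocallyOfFiniteType f := locallyOfFiniteType_of_comp f g
  refine ⟨fun hf s => MorphismProperty.pullback_snd _ _ hf, fun H => H19Grp.formallyUnramified_of_fibres f fun y => ?_⟩
  let a : Spec (Y.residueField y) ⟶ g.fiber (g y) :=
    pullback.lift (Y.fromSpecResidueField y) (Spec.map (g.residueFieldMap y))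
      (g.SpecMap_residueFieldMap_fromSpecResidueField y).symm
  have ha : a ≫ g.fiberι (g y) = Y.fromSpecResidueField y := pullback.lift_fst _ _ _
  have hbc : FormallyUnramified (pullback.snd (pullback.snd f (g.fiberι (g y))) a) :=
    MorphismProperty.pullback_snd _ _ (H (g y))
  have h2 : FormallyUnramified (pullback.snd f (a ≫ g.fiberι (g y))) := by
    rw [show pullback.snd f (a ≫ g.fiberι (g y)) =
      (pullbackLeftPullbackSndIso f (g.fiberι (g y)) a).inv ≫ pullback.snd _ a by simp]
    exact MorphismProperty.comp_mem _ _ _ inferInstance hbc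
  rw [ha] at h2
  exact h2

end Groth.Agent.S5007
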