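import Groth.Statements.S5010
import Groth.Agent.H06PP.Basic

set_option autoImplicit false
universe u
open PP16

namespace Groth.Agent.S5010

theorem aux {A B K : Type u} [CommRing A] [CommRing B] [CommRing K] [Algebra A B] [Algebra B K]
    [Algebra A K] [IsScalarTower A B K] {S : Submonoid B} [IsLocalization S K] {σ : Type} (z : σ → B)
    (hgen : Algebra.adjoin A (Set.range z) = ⊤) (n : ℕ) {Q : Type u} [CommRing Q] [Algebra A Q]
    [Algebra K Q] [IsScalarTower A K Q] (p : MvPolynomial σ K →ₐ[K] Q) (hp : Function.Surjective p)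
    (hker : RingHom.ker p.toRingHom =
      Ideal.span (Set.range (MvPolynomial.X : σ → MvPolynomial σ K)) ^ (n + 1))
    (δ₀ : B →ₐ[A] Q) (hδ₀ : ∀ i, δ₀ (z i) = algebraMap K Q (algebraMap B K (z i)) + p (MvPolynomial.X i))
    (θ₀ : MvPolynomial σ K →ₐ[K] PP16.P n A K)
    (hθ₀ : ∀ i, θ₀ (MvPolynomial.X i) =
      PP16.dn n A K (algebraMap B K (z i)) - algebraMap K (PP16.P n A K) (algebraMap B K (z i))) :
    Function.Surjective θ₀ ∧ RingHom.ker θ₀.toRingHom = RingHom.ker p.toRingHom := by
  classical
  let I : Ideal (MvPolynomial σ K) := Ideal.span (Set.range MvPolynomial.X)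
  let N : Ideal Q := I.map p.toRingHom
  have hN : N ^ (n + 1) = ⊥ := H06PP.map_pow_of_ker p.toRingHom I hker
  have hB : ∀ b, δ₀ b - algebraMap K Q (algebraMap B K b) ∈ N := by
    intro b
    rw [← Ideal.Quotient.mk_eq_mk_iff_sub_mem]
    refine AlgHom.congr_fun (AlgHom.ext_of_adjoin_eq_top hgen (φ₁ := (Ideal.Quotient.mkₐ A N).comp δ₀)
      (φ₂ := (Ideal.Quotient.mkₐ A N).comp
        ((IsScalarTower.toAlgHom A K Q).comp (IsScalarTower.toAlgHom A B K))) ?_) b
    rintro _ ⟨i, rfl⟩
    refine (Ideal.Quotient.mk_eq_mk_iff_sub_mem _ _).mpr ?_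
    show δ₀ (z i) - algebraMap K Q (algebraMap B K (z i)) ∈ N
    rw [hδ₀, add_sub_cancel_left]
    exact Ideal.mem_map_of_mem _ (Ideal.subset_span ⟨i, rfl⟩)
  have hu : ∀ s : S, IsUnit (δ₀.toRingHom s) := fun s => by
    have hn : IsNilpotent (δ₀ s - algebraMap K Q (algebraMap B K s)) :=
      ⟨n + 1, Ideal.mem_bot.mp (hN ▸ Ideal.pow_mem_pow (hB s) _)⟩
    simpa using hn.isUnit_add_left_of_commute ((IsLocalization.map_units K s).map (algebraMap K Q))
      (Commute.all _ _)
  let δ : K →ₐ[A] Q :=
    { IsLocalization.lift hu with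
      commutes' := fun a => by
        show IsLocalization.lift hu (algebraMap A K a) = algebraMap A Q a
        rw [IsScalarTower.algebraMap_apply A B K, IsLocalization.lift_eq]
        exact δ₀.commutes a }
  have hδb : ∀ b, δ (algebraMap B K b) = δ₀ b := fun b => IsLocalization.lift_eq hu b
  have hδ : ∀ x, δ x - algebraMap K Q x ∈ N := by
    intro x
    rw [← Ideal.Quotient.mk_eq_mk_iff_sub_mem]
    refine RingHom.congr_fun (IsLocalization.ringHom_ext S
      (j := (Ideal.Quotient.mk N).comp δ.toRingHom) (k := (Ideal.Quotient.mk N).comp (algebraMap K Q))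
      (RingHom.ext fun b => ?_)) x
    refine (Ideal.Quotient.mk_eq_mk_iff_sub_mem _ _).mpr ?_
    show δ (algebraMap B K b) - _ ∈ N
    rw [hδb]
    exact hB b
  let φ := H06PP.desc δ N hN hδ
  have hI : ∀ x ∈ I, θ₀ x ∈ PP16.augIdeal n A K := fun x hx => by
    induction hx using Submodule.span_induction with
    | mem y hy =>
      obtain ⟨i, rfl⟩ := hy
      rw [hθ₀]
      exact H06PP.dn_sub_mem n A K _
    | zero => simp
    | add a b _ _ ha hb => rw [map_add]; exact add_mem ha hb
    | smul c a _ ha => rw [smul_eq_mul, map_mul]; exact Ideal.mul_mem_left _ _ ha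
  have hle : RingHom.ker p.toRingHom ≤ RingHom.ker θ₀.toRingHom :=
    hker.le.trans (H06PP.pow_le_ker θ₀.toRingHom I hI)
  let θ : Q →ₐ[K] PP16.P n A K := AlgHom.liftOfSurjective p hp θ₀ hle
  have hθp : ∀ r, θ (p r) = θ₀ r := fun r => AlgHom.liftOfSurjective_apply ..
  have h1 : ∀ x, θ (δ x) = PP16.dn n A K x := by
    have hb : ∀ b, θ (δ₀ b) = PP16.dn n A K (algebraMap B K b) := fun b => AlgHom.congr_fun
      (AlgHom.ext_of_adjoin_eq_top hgen (φ₁ := (θ.restrictScalars A).comp δ₀)
        (φ₂ := (PP16.dn n A K).comp (IsScalarTower.toAlgHom A B K)) (by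
          rintro _ ⟨i, rfl⟩
          show θ (δ₀ (z i)) = _
          rw [hδ₀, map_add, AlgHom.commutes, hθp, hθ₀, add_sub_cancel]
          rfl)) b
    exact fun x => RingHom.congr_fun (IsLocalization.ringHom_ext S
      (j := θ.toRingHom.comp δ.toRingHom) (k := (PP16.dn n A K).toRingHom)
      (RingHom.ext fun b => (congrArg θ (hδb b)).trans (hb b))) x
  have hψ : φ.comp θ₀ = p := MvPolynomial.algHom_ext fun i => by
    rw [AlgHom.comp_apply, hθ₀, map_sub, H06PP.desc_dn, AlgHom.commutes, hδb, hδ₀, add_sub_cancel_left]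
  have h2 : φ.comp θ = AlgHom.id K Q := AlgHom.ext fun q => by
    obtain ⟨q, rfl⟩ := hp q
    rw [AlgHom.comp_apply, hθp]
    exact AlgHom.congr_fun hψ q
  refine ⟨fun x => ?_, le_antisymm (fun x hx => ?_) hle⟩
  · obtain ⟨r, hr⟩ := hp ((H06PP.equivOfInverse δ N hN hδ θ h1 h2) x)
    refine ⟨r, ?_⟩
    rw [← hθp, hr]
    exact (H06PP.equivOfInverse δ N hN hδ θ h1 h2).symm_apply_apply x
  · have := AlgHom.congr_fun hψ x
    rw [AlgHom.comp_apply, show θ₀ x = 0 from hx, map_zero] at this
    exact this.symm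

theorem aux₂ {A K : Type u} [CommRing A] [CommRing K] {σ : Type} [Algebra A K]
    [Algebra (MvPolynomial σ A) K] [IsScalarTower A (MvPolynomial σ A) K]
    {S : Submonoid (MvPolynomial σ A)} [IsLocalization S K] (n : ℕ)
    (θ₀ : MvPolynomial σ K →ₐ[K] PP16.P n A K)
    (hθ₀ : ∀ i, θ₀ (MvPolynomial.X i) = PP16.dn n A K (algebraMap (MvPolynomial σ A) K (MvPolynomial.X i))
      - algebraMap K (PP16.P n A K) (algebraMap (MvPolynomial σ A) K (MvPolynomial.X i)))
    {Q : Type u} [CommRing Q] [Algebra A Q]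
    [Algebra K Q] [IsScalarTower A K Q] (p : MvPolynomial σ K →ₐ[K] Q) (hp : Function.Surjective p)
    (hmem : ∀ x, p x = 0 ↔
      x ∈ Ideal.span (Set.range (MvPolynomial.X : σ → MvPolynomial σ K)) ^ (n + 1)) :
    Function.Surjective θ₀ ∧ RingHom.ker θ₀.toRingHom =
      Ideal.span (Set.range (MvPolynomial.X : σ → MvPolynomial σ K)) ^ (n + 1) :=
  have hker : RingHom.ker p.toRingHom = _ := Ideal.ext fun x => (RingHom.mem_ker).trans (hmem x)
  hker ▸ aux (S := S) (MvPolynomial.X (R := A)) MvPolynomial.adjoin_range_X n p hp hker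
    (MvPolynomial.aeval fun i =>
      algebraMap K Q (algebraMap (MvPolynomial σ A) K (MvPolynomial.X i)) + p (MvPolynomial.X i))
    (fun _ => MvPolynomial.aeval_X _ _) θ₀ hθ₀


/-- Let k be a field and K the field of fractions of the polynomial ring k[T_1, ..., T_r]. For every n,
the K-algebra map from the polynomial ring K[U_1, ..., U_r] to the ring of principal parts of order
n of K over k (a K-algebra through the first factor) that sends U_i to d^n(T_i) − T_i · 1 is
surjective, and its kernel is the (n+1)-st power of the ideal generated by the U_i. -/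
theorem result (k : Type u) [Field k] (r n : ℕ) :
    Function.Surjective
        (MvPolynomial.aeval (R := FractionRing (MvPolynomial (Fin r) k))
          (S₁ := PP16.P n k (FractionRing (MvPolynomial (Fin r) k)))
          (fun i : Fin r =>
            PP16.dn n k (FractionRing (MvPolynomial (Fin r) k))
                (algebraMap (MvPolynomial (Fin r) k) (FractionRing (MvPolynomial (Fin r) k)) (MvPolynomial.X i)) -
              algebraMap (FractionRing (MvPolynomial (Fin r) k)) (PP16.P n k (FractionRing (MvPolynomial (Fin r) k)))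
                (algebraMap (MvPolynomial (Fin r) k) (FractionRing (MvPolynomial (Fin r) k)) (MvPolynomial.X i)))) ∧
      RingHom.ker
          (MvPolynomial.aeval (R := FractionRing (MvPolynomial (Fin r) k))
            (S₁ := PP16.P n k (FractionRing (MvPolynomial (Fin r) k)))
            (fun i : Fin r =>
              PP16.dn n k (FractionRing (MvPolynomial (Fin r) k))
                  (algebraMap (MvPolynomial (Fin r) k) (FractionRing (MvPolynomial (Fin r) k)) (MvPolynomial.X i)) -
                algebraMap (FractionRing (MvPolynomial (Fin r) k)) (PP16.P n k (FractionRing (MvPolynomial (Fin r) k)))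
                  (algebraMap (MvPolynomial (Fin r) k) (FractionRing (MvPolynomial (Fin r) k)) (MvPolynomial.X i)))).toRingHom =
        (Ideal.span (Set.range (MvPolynomial.X : Fin r → MvPolynomial (Fin r) (FractionRing (MvPolynomial (Fin r) k))))) ^ (n + 1) := by
  exact aux₂ (A := k) (S := nonZeroDivisors (MvPolynomial (Fin r) k)) n _
    (fun i => MvPolynomial.aeval_X _ i)
    (Q := MvPolynomial (Fin r) (FractionRing (MvPolynomial (Fin r) k)) ⧸
      Ideal.span (Set.range (MvPolynomial.X : Fin r → MvPolynomial (Fin r) (FractionRing (MvPolynomial (Fin r) k)))) ^ (n + 1))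
    (Ideal.Quotient.mkₐ (FractionRing (MvPolynomial (Fin r) k)) _) Ideal.Quotient.mk_surjective (fun x => Ideal.Quotient.eq_zero_iff_mem)

end Groth.Agent.S5010
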