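import Groth.Statements.S5011
import Groth.Agent.H06EGA9.MonoPoint
import Groth.Agent.H06Unram.FibreField

set_option autoImplicit false
universe u
open CategoryTheory CategoryTheory.Limits AlgebraicGeometry TopologicalSpace
open Unram17

namespace Groth.Agent.S5011

set_option backward.isDefEq.respectTransparency false
set_option linter.style.haveILetI false

/-- Let f : X ⟶ Y be locally of finite presentation. Then f is etale if and only if f is flat and, for
every point x of X with image y, the quotient of the local ring of X at x by the extension of the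
maximal ideal of the local ring of Y at y is a field, finite and separable over the residue field
κ(y); that is, every fibre of f is a sum of spectra of finite separable extensions of the residue
field. -/
theorem result {X Y : Scheme.{u}} (f : X ⟶ Y)
    [LocallyOfFinitePresentation f] :
    Etale f ↔ Flat f ∧ ∀ x : ↥X,
      letI φ := (f.stalkMap x).hom
      letI 𝔪 := IsLocalRing.maximalIdeal ↑(Y.presheaf.stalk (f.base x))
      letI := (Ideal.quotientMap (𝔪.map φ) φ Ideal.le_comap_map).toAlgebra
      IsField (↑(X.presheaf.stalk x) ⧸ 𝔪.map φ) ∧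
        Module.Finite (↑(Y.presheaf.stalk (f.base x)) ⧸ 𝔪) (↑(X.presheaf.stalk x) ⧸ 𝔪.map φ) ∧
        Algebra.IsSeparable (↑(Y.presheaf.stalk (f.base x)) ⧸ 𝔪) (↑(X.presheaf.stalk x) ⧸ 𝔪.map φ) := by
  refine (Etale.iff_flat_and_formallyUnramified).trans ?_
  rw [and_congr_right_iff]
  intro hflat
  simp only [eq_true (inferInstance : LocallyOfFinitePresentation f), and_true]
  rw [H06EGA9.formallyUnramified_iff_unramSet, Set.eq_univ_iff_forall]
  refine forall_congr' fun x => (H06EGA9.mem_unramSet_iff_map_maximalIdeal f x).trans ?_
  letI : Algebra (Y.presheaf.stalk (f.base x)) (X.presheaf.stalk x) := (f.stalkMap x).hom.toAlgebra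
  haveI : IsLocalHom (algebraMap (Y.presheaf.stalk (f.base x)) (X.presheaf.stalk x)) :=
    inferInstanceAs (IsLocalHom (f.stalkMap x).hom)
  haveI : Algebra.EssFiniteType (Y.presheaf.stalk (f.base x)) (X.presheaf.stalk x) := by
    rw [← RingHom.essFiniteType_algebraMap, RingHom.algebraMap_toAlgebra]
    exact LocallyOfFiniteType.stalkMap f x
  refine Iff.trans ?_ H06Unram.sep_and_map_iff
  refine and_congr ?_ Iff.rfl
  constructor <;> intro h <;> convert! h <;>
  · refine Algebra.algebra_ext _ _ fun r => ?_
    obtain ⟨r, rfl⟩ := IsLocalRing.residue_surjective r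
    rfl

end Groth.Agent.S5011
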