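import Groth.Statements.S5012
import Groth.Agent.H06Unram.GenericSmooth

set_option autoImplicit false
universe u
open Unram17

namespace Groth.Agent.S5012

set_option linter.style.haveILetI false

/-- Let A be an algebra of finite type over a field k. Then Spec A has a dense open subset consisting of
points at which A is smooth over k if and only if, for every minimal prime p of A, the local ring
A_p is geometrically reduced over k (that is, A_p is a field and a separable extension of k). -/
theorem result (k A : Type u) [Field k] [CommRing A] [Algebra k A]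
    [Algebra.FiniteType k A] :
    (∃ U : TopologicalSpace.Opens (PrimeSpectrum A), Dense (U : Set (PrimeSpectrum A)) ∧
        ∀ p ∈ U, Algebra.IsSmoothAt k p.asIdeal) ↔
      ∀ (p : Ideal A) [p.IsPrime], p ∈ minimalPrimes A →
        Algebra.IsGeometricallyReduced k (Localization.AtPrime p) := by
  haveI : IsNoetherianRing A := Algebra.FiniteType.isNoetherianRing k A
  haveI : Algebra.FinitePresentation k A := Algebra.FinitePresentation.of_finiteType.mp inferInstance
  constructor
  · rintro ⟨U, hU, hsm⟩ p _ hp
    refine (H06Unram.GenericSmooth.isSmoothAt_minimal_iff hp).mp (hsm ⟨p, inferInstance⟩ ?_)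
    have hfin : ({q ∈ minimalPrimes A | q ≠ p} : Set (Ideal A)).Finite :=
      (minimalPrimes.finite_of_isNoetherianRing A).subset fun q hq => hq.1
    let O : Set (PrimeSpectrum A) := (⋃ q ∈ {q ∈ minimalPrimes A | q ≠ p}, PrimeSpectrum.zeroLocus (q : Set A))ᶜ
    have hO : IsOpen O := (hfin.isClosed_biUnion fun q _ => PrimeSpectrum.isClosed_zeroLocus _).isOpen_compl
    obtain ⟨z, hzO, hzU⟩ := hU.inter_open_nonempty O hO ⟨⟨p, inferInstance⟩, by
      simp only [O, Set.mem_compl_iff, Set.mem_iUnion, PrimeSpectrum.mem_zeroLocus, Set.mem_ofPred_eq,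
        SetLike.coe_subset_coe, not_exists]
      rintro q ⟨hq, hne⟩ hle
      exact hne (le_antisymm hle (hp.2 hq.1 hle))⟩
    obtain ⟨q, hq, hqz⟩ := Ideal.exists_minimalPrimes_le (J := z.asIdeal) (I := ⊥) bot_le
    have hqp : q = p := by
      by_contra hne
      exact hzO (Set.mem_biUnion (show q ∈ {q ∈ minimalPrimes A | q ≠ p} from ⟨hq, hne⟩) hqz)
    exact U.2.stableUnderGeneralization ((PrimeSpectrum.le_iff_specializes ⟨p, inferInstance⟩ z).mp (hqp ▸ hqz)) hzU
  · intro h
    refine ⟨⟨Algebra.smoothLocus k A, Algebra.isOpen_smoothLocus⟩, dense_iff_inter_open.mpr fun W hW ⟨z, hz⟩ => ?_,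
      fun q hq => hq⟩
    obtain ⟨q, hq, hqz⟩ := Ideal.exists_minimalPrimes_le (J := z.asIdeal) (I := ⊥) bot_le
    haveI := hq.1.1
    exact ⟨⟨q, inferInstance⟩,
      hW.stableUnderGeneralization ((PrimeSpectrum.le_iff_specializes ⟨q, inferInstance⟩ z).mp hqz) hz,
      (H06Unram.GenericSmooth.isSmoothAt_minimal_iff hq).mpr (h q hq)⟩

end Groth.Agent.S5012
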