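import Groth.Statements.S5013
import Groth.Agent.S2561
import Groth.Agent.S2595
import Groth.Agent.S4939
import Groth.Agent.H06Unram.GeomRegFibre
import Groth.Agent.H4Depth.Regular
import Groth.Agent.H12AlgSp.LocPCancel

set_option autoImplicit false
universe u
open CategoryTheory CategoryTheory.Limits AlgebraicGeometry TopologicalSpace
open Unram17

namespace Groth.Agent.S5013

open Groth.Agent
set_option backward.isDefEq.respectTransparency false

/-- Let Y be locally Noetherian, f : X ⟶ Y locally of finite type, x a point of X with image y, and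
suppose the local ring of Y at y is reduced and geometrically unibranch. Then f is smooth on an open
neighbourhood of x if and only if f is equidimensional at x and the local ring of the fibre at x
(the quotient of the local ring of X at x by the extension of the maximal ideal at y) is
geometrically regular over the residue field κ(y). -/
theorem result {X Y : Scheme.{u}} (f : X ⟶ Y)
    [IsLocallyNoetherian Y] [LocallyOfFiniteType f] (x : ↥X)
    (hred : IsReduced ↑(Y.presheaf.stalk (f.base x)))
    (hgu : CAlg2.IsGeomUnibranch ↑(Y.presheaf.stalk (f.base x))) :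
    letI φ := (f.stalkMap x).hom
    letI 𝔪 := IsLocalRing.maximalIdeal ↑(Y.presheaf.stalk (f.base x))
    letI : Algebra (IsLocalRing.ResidueField ↑(Y.presheaf.stalk (f.base x))) (↑(X.presheaf.stalk x) ⧸ 𝔪.map φ) :=
      (Ideal.quotientMap (𝔪.map φ) φ Ideal.le_comap_map).toAlgebra
    (∃ U : X.Opens, x ∈ U ∧ Smooth (U.ι ≫ f)) ↔
      EGA43.IsEquidimAt f x ∧
        CAlg.IsGeometricallyRegular (IsLocalRing.ResidueField ↑(Y.presheaf.stalk (f.base x)))
          (↑(X.presheaf.stalk x) ⧸ 𝔪.map φ) := by
  haveI : LocallyOfFinitePresentation f := H12AlgSp.lfp_of_lft_of_isLocallyNoetherian f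
  haveI : LocallyOfFinitePresentation (f.fiberToSpecResidueField (f x)) :=
    MorphismProperty.pullback_snd _ _ inferInstance
  constructor
  · intro h
    have hxs : x ∈ f.smoothLocus := (H17.LocusBC.mem_smoothLocus_iff_exists f x).mpr h
    have hs : f.asFiber x ∈ (f.fiberToSpecResidueField (f x)).smoothLocus := by
      refine H17.LocusBC.preimage_smoothLocus_le (IsPullback.of_hasPullback f (Y.fromSpecResidueField (f x))) ?_
      show f.fiberι (f x) (f.asFiber x) ∈ f.smoothLocus
      rw [Scheme.Hom.fiberι_asFiber]
      exact hxs
    refine ⟨?_, (H06Unram.GeomRegFibre.mem_smoothLocus_iff f x).mp hs⟩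
    refine S2595.result f x (H17.LocusBC.flat_stalkMap_of_mem_smoothLocus f hxs) ?_
    haveI : IsLocallyNoetherian (f.fiber (f x)) :=
      LocallyOfFiniteType.isLocallyNoetherian (f.fiberToSpecResidueField (f x))
    haveI : IsRegularLocalRing ((f.fiber (f x)).presheaf.stalk (f.asFiber x)) := by
      refine (H06EGA17.isRegularLocalRing_stalk_iff _ _ hs).mpr ?_
      letI := (H8Props.FibreStalk.isField_stalk_Spec (Y.residueField (f x)) (Field.toIsField _)
        (f.fiberToSpecResidueField (f x) (f.asFiber x))).toField
      infer_instance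
    exact H4Depth.isCohenMacaulayLocalRing_of_regular _
  · rintro ⟨heq, hgr⟩
    have hs := (H06Unram.GeomRegFibre.mem_smoothLocus_iff f x).mpr hgr
    refine (H17.LocusBC.mem_smoothLocus_iff_exists f x).mp (H17.LocusBC.mem_smoothLocus_of_flat_of_fiber f x ?_ hs)
    have h02 := (S4939.result f x hgu).out 0 2
    exact S2561.result f x (h02.mp heq).2
      (H06Unram.GeomRegFibre.isGeomReducedAt_of_mem_smoothLocus _ hs) hred

end Groth.Agent.S5013
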