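import Groth.Statements.S5014
import Groth.Agent.H06Unram.Tower

set_option autoImplicit false
universe u
open Unram17

namespace Groth.Agent.S5014

set_option backward.isDefEq.respectTransparency false
set_option linter.style.haveILetI false

/-- Let C be a smooth algebra over a commutative ring A, equipped with an A-algebra map from the
polynomial ring in r variables (images s_i of the variables), and let q be a prime of C. Then C is
etale at q over the polynomial ring if and only if the differentials of the s_i are linearly
independent and generate the module of differentials of the local ring C_q over A, i.e. form a basis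
of it. -/
theorem result (A C : Type u) [CommRing A] [CommRing C]
    [Algebra A C] [Algebra.Smooth A C] (r : ℕ) [Algebra (MvPolynomial (Fin r) A) C]
    [IsScalarTower A (MvPolynomial (Fin r) A) C] (q : Ideal C) [q.IsPrime] :
    Algebra.IsEtaleAt (MvPolynomial (Fin r) A) q ↔
      LinearIndependent (Localization.AtPrime q)
          (fun i : Fin r => KaehlerDifferential.D A (Localization.AtPrime q)
            (algebraMap C (Localization.AtPrime q) (algebraMap (MvPolynomial (Fin r) A) C (MvPolynomial.X i)))) ∧
        Submodule.span (Localization.AtPrime q)
          (Set.range fun i : Fin r => KaehlerDifferential.D A (Localization.AtPrime q)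
            (algebraMap C (Localization.AtPrime q) (algebraMap (MvPolynomial (Fin r) A) C (MvPolynomial.X i)))) = ⊤ := by
  let P := MvPolynomial (Fin r) A
  let T := Localization.AtPrime q
  haveI : Algebra.FormallySmooth A T := by
    haveI : Algebra.FormallySmooth C T := Algebra.FormallySmooth.of_isLocalization q.primeCompl
    exact Algebra.FormallySmooth.comp A C T
  refine (H06Unram.Tower.formallyEtale_iff A P T).trans ?_
  let b := Algebra.TensorProduct.basis T (KaehlerDifferential.mvPolynomialBasis A (Fin r))
  have hb : ∀ i, KaehlerDifferential.mapBaseChange A P T (b i) =
      KaehlerDifferential.D A T (algebraMap C T (algebraMap P C (MvPolynomial.X i))) := fun i => by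
    rw [Algebra.TensorProduct.basis_apply, KaehlerDifferential.mvPolynomialBasis_apply,
      KaehlerDifferential.mapBaseChange_tmul, one_smul, KaehlerDifferential.map_D,
      IsScalarTower.algebraMap_apply P C T]
  constructor
  · intro h
    let b' := b.map (LinearEquiv.ofBijective _ h)
    have hb' : ⇑b' = fun i => KaehlerDifferential.D A T (algebraMap C T (algebraMap P C (MvPolynomial.X i))) :=
      funext fun i => (b.map_apply _ i).trans (hb i)
    rw [← hb']
    exact ⟨b'.linearIndependent, b'.span_eq⟩
  · rintro ⟨hli, hsp⟩
    let c := Module.Basis.mk hli hsp.ge
    have : KaehlerDifferential.mapBaseChange A P T = (b.equiv c (Equiv.refl _)).toLinearMap :=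
      b.ext fun i => by rw [hb]; exact (Module.Basis.mk_apply hli hsp.ge i).symm.trans (b.equiv_apply i c (Equiv.refl _)).symm
    rw [this]; exact (b.equiv c (Equiv.refl _)).bijective

end Groth.Agent.S5014
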