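import Groth.Statements.S5021
import Groth.Agent.H06Unram.ConormalRank
import Groth.Agent.H29Ref.ConormalQReg
import Groth.Agent.S8656
import Groth.Agent.S8905
import Groth.Agent.H8Props.AlgSpLci.Lci
import Groth.Agent.H22Alg.KExists
import Groth.Agent.H8Props.FormallySmoothScheme

set_option autoImplicit false
universe u
open CategoryTheory CategoryTheory.Limits AlgebraicGeometry TopologicalSpace
open Unram17

namespace Groth.Agent.S5021

set_option linter.style.haveILetI false

/-- Let f : X ⟶ Y be smooth and j : X' ⟶ X a quasi-compact immersion such that j ≫ f is smooth. Then for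
every point x of X' there are an open neighbourhood U of x and an integer n with the conormal sheaf
of j free of rank n on U, and the local dimension at j(x) of the fibre of f through j(x) equals the
local dimension at x of the fibre of j ≫ f through x plus n. (The published statement allows any
immersion j; this row assumes j quasi-compact, the case in which the conormal sheaf used here is
known to be the conormal sheaf of j.) -/
theorem result {X' X Y : Scheme.{u}} (f : X ⟶ Y) [Smooth f]
    (j : X' ⟶ X) [IsImmersion j] [QuasiCompact j] [Smooth (j ≫ f)] (x : ↥X') :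
    ∃ (U : X'.Opens) (n : ℕ), x ∈ U ∧ Nonempty ((Omega.conormal j).restrict U.ι ≅ FlatMod.freeMod (↑U) n) ∧
      FlatMor.fibreDimAt f (j.base x) = FlatMor.fibreDimAt (j ≫ f) x + (n : WithBot ℕ∞) := by
  haveI : IsImmersion j := inferInstance
  have hfs : MoreMor.IsFormallySmoothHom (j ≫ f) :=
    (H8Props.FormallySmoothScheme.isFormallySmoothHom_iff (j ≫ f)).mpr fun U V hU hV hUV =>
      RingHom.Smooth.formallySmooth ((j ≫ f).smooth_appLE hV hU hUV)
  have hk : RegImm.IsRegularImmersion .koszul j :=
    S8656.result (j ≫ f) (fun z => H8Props.AlgSpLci.isKoszulAt_of_smooth (j ≫ f) z) f j rfl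
  have hq : RegImm.IsRegularImmersion .quasi j := (S8905.result j).2.2 ((S8905.result j).2.1 hk)
  have hlf := H29Ref.ConormalQReg.isFinLocFree_conormal_of_quasi j hq.2
  obtain ⟨U, n, hxU, ⟨e⟩⟩ := hlf x
  obtain ⟨V, hV, hxV, hle⟩ := exists_isAffineOpen_mem_and_subset (x := x) (U := U) hxU
  obtain ⟨b⟩ := H8Props.FinLocFree.exists_basis_of_chart _ e hle
  obtain ⟨bc⟩ := H22Alg.ExtPowSum.exists_stalkBasis (H8Props.FinLocFree.isQCoh_of_isFinLocFree _ hlf) hV b hxV
  exact ⟨U, n, hxU, ⟨e⟩, H06Unram.ConormalRank.finrank_conormal f j hfs x bc⟩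

end Groth.Agent.S5021
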