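import Groth.Statements.S5023
import Groth.Agent.S9386
import Groth.Agent.H17.Canon.DerExists
-- import your own Groth.Agent.* helpers here

set_option autoImplicit false
universe u
open CategoryTheory CategoryTheory.Limits AlgebraicGeometry TopologicalSpace
open Nrm16

namespace Groth.Agent.S5023

open AlgebraicGeometry CategoryTheory CategoryTheory.Limits Opposite

variable {X Y S Z : Scheme.{u}}

theorem hom_ext_univ {a : X ⟶ S} {Ω : X.Modules} (d : OmegaSh.Der a Ω) (hd : OmegaSh.IsUniversal d)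
    {N : X.Modules} {φ ψ : Ω ⟶ N}
    (h : ∀ (U : X.Opens) (s : Γ(X, U)), φ.app U (d.app U s) = ψ.app U (d.app U s)) : φ = ψ := by
  obtain ⟨α, -, huniq⟩ := hd N (d.postcomp ψ.val)
  rw [huniq φ ?_, huniq ψ rfl]
  refine PresheafOfModules.Derivation.ext (funext fun U => ?_)
  exact AddMonoidHom.ext fun s => h U.unop s

theorem pullback_hom_ext_univ {a : X ⟶ S} {Ω : X.Modules} (d : OmegaSh.Der a Ω) (hd : OmegaSh.IsUniversal d)
    (p : Z ⟶ X) {N : Z.Modules} {φ ψ : (Scheme.Modules.pullback p).obj Ω ⟶ N}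
    (h : ∀ (U : X.Opens) (s : Γ(X, U)), φ.app (p ⁻¹ᵁ U) (OmegaSh.pullSect p Ω U (d.app U s)) =
      ψ.app (p ⁻¹ᵁ U) (OmegaSh.pullSect p Ω U (d.app U s))) : φ = ψ := by
  apply ((Scheme.Modules.pullbackPushforwardAdjunction p).homEquiv Ω N).injective
  refine hom_ext_univ d hd fun U s => ?_
  rw [Adjunction.homEquiv_unit, Adjunction.homEquiv_unit]
  exact h U s

theorem der_kills_comp (g : Z ⟶ X) (a : X ⟶ S) (h : Z ⟶ S) (w : g ≫ a = h)
    {F : Z.Modules} (D : OmegaSh.Der g F) (V : S.Opens) (c : Γ(S, V)) :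
    D.app (h ⁻¹ᵁ V) (h.app V c) = 0 := by
  subst w
  exact D.d_app (X := op (a ⁻¹ᵁ V)) (a.app V c)

/-- A derivation over `X` as one over `S`. -/
noncomputable def downDer (g : Z ⟶ X) (a : X ⟶ S) (h : Z ⟶ S) (w : g ≫ a = h)
    {F : Z.Modules} (D : OmegaSh.Der g F) : OmegaSh.Der h F where
  d := D.d
  d_mul := D.d_mul
  d_map := D.d_map
  d_app {V} c := der_kills_comp g a h w D V.unop c

theorem exists_cotangent (a : X ⟶ S) (p : Z ⟶ X) (h : Z ⟶ S) (wp : p ≫ a = h)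
    {ΩX : X.Modules} (dX : OmegaSh.Der a ΩX) (hX : OmegaSh.IsUniversal dX)
    {ΩZ : Z.Modules} (dZ : OmegaSh.Der h ΩZ) (hZu : OmegaSh.IsUniversal dZ)
    (c₁ : (Scheme.Modules.pullback p).obj ΩX ⟶ ΩZ) (hc₁ : OmegaSh.IsDiffCompat p dX dZ c₁) :
    ∃ (W : Z.Modules) (dW : OmegaSh.Der p W) (_ : OmegaSh.IsUniversal dW) (π : ΩZ ⟶ W),
      (∀ (U : Z.Opens) (s : Γ(Z, U)), π.app U (dZ.app U s) = dW.app U s) ∧ c₁ ≫ π = 0 ∧
      ∀ {M : Z.Modules} (φ : ΩZ ⟶ M), c₁ ≫ φ = 0 → ∃ φ' : W ⟶ M, π ≫ φ' = φ := by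
  obtain ⟨W, dW, hW⟩ := Groth.Agent.H17.CanonSm.exists_isUniversal p
  obtain ⟨π, hπ, -⟩ := hZu W (downDer p a h wp dW)
  have hπ' : ∀ (U : Z.Opens) (s : Γ(Z, U)), π.app U (dZ.app U s) = dW.app U s := fun U s =>
    PresheafOfModules.Derivation.congr_d hπ (X := op U) s
  refine ⟨W, dW, hW, π, hπ', ?_, fun {M} φ hφ => ?_⟩
  · refine pullback_hom_ext_univ dX hX p fun U s => ?_
    show π.app _ (c₁.app _ _) = _
    rw [hc₁ U s, hπ']
    exact (dW.d_app (X := op U) s).trans rfl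
  · let D : OmegaSh.Der p M :=
      { d := (dZ.postcomp φ.val).d
        d_mul := (dZ.postcomp φ.val).d_mul
        d_map := (dZ.postcomp φ.val).d_map
        d_app := fun {V} s => by
          show φ.app (p ⁻¹ᵁ V.unop) (dZ.app (p ⁻¹ᵁ V.unop) (p.app V.unop s)) = 0
          rw [← hc₁ V.unop s]
          show (c₁ ≫ φ).app (p ⁻¹ᵁ V.unop) _ = 0
          rw [hφ]
          rfl }
    obtain ⟨φ', hφ', -⟩ := hW M D
    refine ⟨φ', hom_ext_univ dZ hZu fun U s => ?_⟩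
    show φ'.app U (π.app U (dZ.app U s)) = _
    rw [hπ']
    exact PresheafOfModules.Derivation.congr_d hφ' (X := op U) s

theorem isIso_cross (a : X ⟶ S) (b : Y ⟶ S) (p : Z ⟶ X) (q : Z ⟶ Y) (h : Z ⟶ S)
    (hZ : IsPullback p q a b)
    {ΩY : Y.Modules} (dY : OmegaSh.Der b ΩY) (hY : OmegaSh.IsUniversal dY)
    {ΩZ : Z.Modules} (dZ : OmegaSh.Der h ΩZ)
    (c₂ : (Scheme.Modules.pullback q).obj ΩY ⟶ ΩZ) (hc₂ : OmegaSh.IsDiffCompat q dY dZ c₂)
    (W : Z.Modules) (dW : OmegaSh.Der p W) (hW : OmegaSh.IsUniversal dW) (π : ΩZ ⟶ W)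
    (hπ : ∀ (U : Z.Opens) (s : Γ(Z, U)), π.app U (dZ.app U s) = dW.app U s) : IsIso (c₂ ≫ π) :=
  Groth.Agent.S9386.result b a q p hZ.flip ΩY dY hY W dW hW (c₂ ≫ π) fun U s => by
    show π.app _ (c₂.app _ _) = _
    rw [hc₂ U s, hπ]

end Groth.Agent.S5023

namespace Groth.Agent.S5023

/-- Let a : X ⟶ S and b : Y ⟶ S be morphisms and Z a fibre product of X and Y over S with projections p,
q and structure morphism h. Given sheaves of differentials (universal derivations) of X, Y and Z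
over S and the canonical compatible maps c₁ : p^*Ω_X ⟶ Ω_Z and c₂ : q^*Ω_Y ⟶ Ω_Z, the induced map
from the coproduct p^*Ω_X ⨿ q^*Ω_Y to Ω_Z is an isomorphism. -/
theorem result {X Y S Z : Scheme.{u}} (a : X ⟶ S) (b : Y ⟶ S)
    (p : Z ⟶ X) (q : Z ⟶ Y) (h : Z ⟶ S) (wp : p ≫ a = h) (wq : q ≫ b = h) (hZ : IsPullback p q a b)
    (ΩX : X.Modules) (dX : OmegaSh.Der a ΩX) (hX : OmegaSh.IsUniversal dX)
    (ΩY : Y.Modules) (dY : OmegaSh.Der b ΩY) (hY : OmegaSh.IsUniversal dY)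
    (ΩZ : Z.Modules) (dZ : OmegaSh.Der h ΩZ) (hZu : OmegaSh.IsUniversal dZ)
    (c₁ : (Scheme.Modules.pullback p).obj ΩX ⟶ ΩZ) (hc₁ : OmegaSh.IsDiffCompat p dX dZ c₁)
    (c₂ : (Scheme.Modules.pullback q).obj ΩY ⟶ ΩZ) (hc₂ : OmegaSh.IsDiffCompat q dY dZ c₂) :
    IsIso (coprod.desc c₁ c₂) := by
  obtain ⟨WX, dWX, hWX, πX, hπX, hkX, huX⟩ := exists_cotangent a p h wp dX hX dZ hZu c₁ hc₁
  obtain ⟨WY, dWY, hWY, πY, hπY, hkY, -⟩ := exists_cotangent b q h wq dY hY dZ hZu c₂ hc₂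
  haveI h2 : IsIso (c₂ ≫ πX) := isIso_cross a b p q h hZ dY hY dZ c₂ hc₂ WX dWX hWX πX hπX
  haveI h1 : IsIso (c₁ ≫ πY) := isIso_cross b a q p h hZ.flip dX hX dZ c₁ hc₁ WY dWY hWY πY hπY
  let r := πY ≫ inv (c₁ ≫ πY) ≫ coprod.inl + πX ≫ inv (c₂ ≫ πX) ≫
    (coprod.inr : (Scheme.Modules.pullback q).obj ΩY ⟶
      (Scheme.Modules.pullback p).obj ΩX ⨿ (Scheme.Modules.pullback q).obj ΩY)
  have hr : coprod.desc c₁ c₂ ≫ r = 𝟙 _ := by
    apply coprod.hom_ext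
    · rw [coprod.inl_desc_assoc, Category.comp_id]
      simp only [r, Preadditive.comp_add]
      rw [← Category.assoc c₁ πY, IsIso.hom_inv_id_assoc, ← Category.assoc c₁ πX, hkX, zero_comp, add_zero]
    · rw [coprod.inr_desc_assoc, Category.comp_id]
      simp only [r, Preadditive.comp_add]
      rw [← Category.assoc c₂ πX, IsIso.hom_inv_id_assoc, ← Category.assoc c₂ πY, hkY, zero_comp, zero_add]
  haveI : IsSplitMono (coprod.desc c₁ c₂) := IsSplitMono.mk' ⟨r, hr⟩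
  haveI : Epi (coprod.desc c₁ c₂) := Preadditive.epi_of_cancel_zero _ fun {M} φ hφ => by
    have e1 : c₁ ≫ φ = 0 := by rw [← coprod.inl_desc c₁ c₂, Category.assoc, hφ, comp_zero]
    have e2 : c₂ ≫ φ = 0 := by rw [← coprod.inr_desc c₁ c₂, Category.assoc, hφ, comp_zero]
    obtain ⟨φ', rfl⟩ := huX φ e1
    rw [← Category.assoc] at e2
    rw [(cancel_epi (c₂ ≫ πX)).mp (e2.trans comp_zero.symm), comp_zero]
  exact isIso_of_epi_of_isSplitMono _

end Groth.Agent.S5023
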