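import Groth.Statements.S5024
import Groth.Agent.H06EGA17.StalkApps
import Groth.Agent.H06EGA17.SerreSmooth

set_option autoImplicit false
universe u
open CategoryTheory CategoryTheory.Limits AlgebraicGeometry TopologicalSpace
open Unram17

namespace Groth.Agent.S5024

open Groth.Agent.H06EGA17 Groth.Agent
set_option backward.isDefEq.respectTransparency false

/-- Let Y be locally Noetherian and f : X ⟶ Y locally of finite type, smooth on an open neighbourhood of
a point x with image y. Then for every n the local ring of X at x has Serre's property (S_n),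
respectively (R_n), if and only if the local ring of Y at y has it. -/
theorem result {X Y : Scheme.{u}} (f : X ⟶ Y)
    [IsLocallyNoetherian Y] [LocallyOfFiniteType f] (x : ↥X)
    (hx : ∃ U : X.Opens, x ∈ U ∧ Smooth (U.ι ≫ f)) (n : ℕ) :
    (LocCoh.HasSk n ↑(X.presheaf.stalk x) ↑(X.presheaf.stalk x) ↔
        LocCoh.HasSk n ↑(Y.presheaf.stalk (f.base x)) ↑(Y.presheaf.stalk (f.base x))) ∧
      (LocCoh.HasRk n ↑(X.presheaf.stalk x) ↔ LocCoh.HasRk n ↑(Y.presheaf.stalk (f.base x))) := by
  haveI : IsLocallyNoetherian X := LocallyOfFiniteType.isLocallyNoetherian f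
  obtain ⟨_, hs⟩ := mem_smoothLocus_of_nhd f x hx
  obtain ⟨A, B, _, _, _, _, hN, q, _, eY, eX, -⟩ := exists_localModel f x hs
  haveI := hN inferInstance
  haveI : IsNoetherianRing B := Algebra.FiniteType.isNoetherianRing A B
  refine ⟨⟨fun h => ?_, fun h => ?_⟩, ⟨fun h => ?_, fun h => ?_⟩⟩
  · letI := (f.stalkMap x).hom.toAlgebra
    haveI : IsLocalHom (algebraMap (Y.presheaf.stalk (f.base x)) (X.presheaf.stalk x)) :=
      inferInstanceAs (IsLocalHom (f.stalkMap x).hom)
    haveI : Module.Flat (Y.presheaf.stalk (f.base x)) (X.presheaf.stalk x) :=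
      flat_stalkMap_of_mem_smoothLocus f x hs
    haveI := Module.FaithfullyFlat.of_flat_of_isLocalHom (A := Y.presheaf.stalk (f.base x)) (B := X.presheaf.stalk x)
    exact H02CA.SkDescent.hasSk_of_faithfullyFlat n _ (X.presheaf.stalk x) h
  · exact hasSk_of_ringEquiv eX (hasSk_atPrime_of_base A B q n (hasSk_of_ringEquiv eY.symm h))
  · exact hasRk_of_ringEquiv eY ((hasRk_atPrime_iff A B q n).mp (hasRk_of_ringEquiv eX.symm h))
  · exact hasRk_of_ringEquiv eX ((hasRk_atPrime_iff A B q n).mpr (hasRk_of_ringEquiv eY.symm h))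

end Groth.Agent.S5024
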