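import Groth.Statements.S5026
import Groth.Agent.S2790
import Groth.Agent.H06Unram.EtaleParams

set_option autoImplicit false
universe u
open Unram17

namespace Groth.Agent.S5026

open scoped KaehlerDifferential
open Groth.Agent

/-- Let k be a field, A a k-algebra of finite type equipped with a k-algebra map from the polynomial
ring in n variables (images g_i of the variables), p a prime of A such that Spec A has local
dimension n at p, r the Krull dimension of the local ring A_p, and suppose g_i ∈ p for the indices i
< r. Then A is etale at p over the polynomial ring if and only if the images of the g_i with i < r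
generate the maximal ideal of A_p and the differentials of the residue classes of the g_i with i ≥ r
generate the module of differentials of the residue field κ(p) over k. (The published statement adds
that these conditions imply that A is smooth at p over k and that κ(p) is separable over k; this row
does not state that consequence.) -/
theorem result (k A : Type u) [Field k]
    [CommRing A] [Algebra k A] [Algebra.FiniteType k A] (n r : ℕ) [Algebra (MvPolynomial (Fin n) k) A]
    [IsScalarTower k (MvPolynomial (Fin n) k) A] (p : Ideal A) [p.IsPrime]
    (hn : FlatMor.localDim (PrimeSpectrum A) ⟨p, inferInstance⟩ = (n : WithBot ℕ∞))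
    (hr : ringKrullDim (Localization.AtPrime p) = (r : WithBot ℕ∞))
    (hg : ∀ i : Fin n, (i : ℕ) < r → algebraMap (MvPolynomial (Fin n) k) A (MvPolynomial.X i) ∈ p) :
    Algebra.IsEtaleAt (MvPolynomial (Fin n) k) p ↔
      Ideal.span ((fun i : Fin n =>
          algebraMap A (Localization.AtPrime p) (algebraMap (MvPolynomial (Fin n) k) A (MvPolynomial.X i))) ''
            {i : Fin n | (i : ℕ) < r}) = IsLocalRing.maximalIdeal (Localization.AtPrime p) ∧
        Submodule.span p.ResidueField ((fun i : Fin n =>
          KaehlerDifferential.D k p.ResidueField
            (IsLocalRing.residue (Localization.AtPrime p)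
              (algebraMap A (Localization.AtPrime p) (algebraMap (MvPolynomial (Fin n) k) A (MvPolynomial.X i))))) ''
            {i : Fin n | r ≤ (i : ℕ)}) = ⊤ := by
  have key := S2790.result k A n p hn
  haveI : IsNoetherianRing A := Algebra.FiniteType.isNoetherianRing k A
  haveI : Module.Finite (Localization.AtPrime p) Ω[Localization.AtPrime p⁄k] := inferInstance
  have hrn : r ≤ n := by
    have h1 := hn
    rw [H1CAlg.localDim_spec_eq_height_add (k := k)] at h1
    have h2 : (r : WithBot ℕ∞) = (p.height : WithBot ℕ∞) := by
      rw [← hr, IsLocalization.AtPrime.ringKrullDim_eq_height p (Localization.AtPrime p)]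
    haveI : Nontrivial (A ⧸ p) := Ideal.Quotient.nontrivial_iff.mpr ‹p.IsPrime›.ne_top
    have h3 : (r : WithBot ℕ∞) ≤ (n : WithBot ℕ∞) := by
      rw [← h1, h2]
      calc _ = (p.height : WithBot ℕ∞) + 0 := (add_zero _).symm
        _ ≤ _ := add_le_add le_rfl ringKrullDim_nonneg_of_nontrivial
    exact_mod_cast h3
  constructor
  · intro h
    refine ⟨?_, H06Unram.EtaleParams.span_residue_eq_top (k := k) (R := Localization.AtPrime p)
      (fun i : Fin n => algebraMap A (Localization.AtPrime p)
        (algebraMap (MvPolynomial (Fin n) k) A (MvPolynomial.X i))) {i : Fin n | r ≤ (i : ℕ)} (key.mp h) fun i => ?_⟩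
    · haveI : Algebra.FiniteType (MvPolynomial (Fin n) k) A :=
        Algebra.FiniteType.of_restrictScalars_finiteType k (MvPolynomial (Fin n) k) A
      haveI : Algebra.FinitePresentation (MvPolynomial (Fin n) k) A :=
        Algebra.FinitePresentation.of_finiteType.mp inferInstance
      haveI := h
      have hy : (p.under (MvPolynomial (Fin n) k)).height ≤ (r : ℕ∞) := by
        refine (H06Unram.EtaleParams.height_under_le_of_isEtaleAt (MvPolynomial (Fin n) k) A p).trans ?_
        rw [IsLocalization.AtPrime.ringKrullDim_eq_height p (Localization.AtPrime p)] at hr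
        exact le_of_eq (by exact_mod_cast hr)
      have hyX := H06Unram.EtaleParams.eq_span_X k n r hrn (p.under (MvPolynomial (Fin n) k)) hy hg
      letI := Localization.AtPrime.algebraOfLiesOver (p.under (MvPolynomial (Fin n) k)) p
      haveI : Algebra.IsUnramifiedAt (MvPolynomial (Fin n) k) p :=
        (Algebra.FormallyEtale.iff_formallyUnramified_and_formallySmooth.mp h).1
      rw [← ((Algebra.isUnramifiedAt_iff_map_eq (MvPolynomial (Fin n) k)
        (p.under (MvPolynomial (Fin n) k)) p).mp inferInstance).2, ← hyX, Ideal.map_span, Set.image_image]
      simp only [IsScalarTower.algebraMap_apply (MvPolynomial (Fin n) k) A (Localization.AtPrime p)]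
    · rcases lt_or_ge (i : ℕ) r with hi | hi
      · exact Or.inr ((IsLocalization.AtPrime.to_map_mem_maximal_iff (Localization.AtPrime p) p _).mpr (hg i hi))
      · exact Or.inl hi
  · rintro ⟨hm, hd⟩
    exact key.mpr (H06Unram.EtaleParams.span_eq_top (k := k) (R := Localization.AtPrime p)
      (fun i : Fin n => algebraMap A (Localization.AtPrime p)
        (algebraMap (MvPolynomial (Fin n) k) A (MvPolynomial.X i))) {i : Fin n | (i : ℕ) < r}
      {i : Fin n | r ≤ (i : ℕ)} hm hd)

end Groth.Agent.S5026
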