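import Groth.Statements.S5027
import Groth.Agent.H06Unram.RegularParams

set_option autoImplicit false
universe u
open Unram17

namespace Groth.Agent.S5027

open Groth.Agent

/-- Let A be an algebra of finite type over a field k, p a prime of A such that Spec A has local
dimension n at p, and r the Krull dimension of the local ring A_p. Then A_p is regular and the
residue field κ(p) is a separable extension of k (geometrically reduced over k) if and only if there
exist n elements of the local ring A_p (germs at p in place of sections over an open neighbourhood
of p, which is equivalent) of which those with index < r generate the maximal ideal and the residue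
classes of the remaining ones have differentials generating the module of differentials of κ(p) over
k. -/
theorem result (k A : Type u) [Field k]
    [CommRing A] [Algebra k A] [Algebra.FiniteType k A] (n r : ℕ) (p : Ideal A) [p.IsPrime]
    (hn : FlatMor.localDim (PrimeSpectrum A) ⟨p, inferInstance⟩ = (n : WithBot ℕ∞))
    (hr : ringKrullDim (Localization.AtPrime p) = (r : WithBot ℕ∞)) :
    (IsRegularLocalRing (Localization.AtPrime p) ∧ Algebra.IsGeometricallyReduced k p.ResidueField) ↔
      ∃ g : Fin n → Localization.AtPrime p,
        Ideal.span (g '' {i : Fin n | (i : ℕ) < r}) = IsLocalRing.maximalIdeal (Localization.AtPrime p) ∧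
          Submodule.span p.ResidueField ((fun i : Fin n =>
            KaehlerDifferential.D k p.ResidueField (IsLocalRing.residue (Localization.AtPrime p) (g i))) ''
              {i : Fin n | r ≤ (i : ℕ)}) = ⊤ := by
  exact H06Unram.RegularParams.regular_and_separable_iff k A n r p hn hr

end Groth.Agent.S5027
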