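import Groth.Statements.S5028
import Groth.Agent.S2561
import Groth.Agent.H06Unram.GeomRegFibre
import Groth.Agent.H06EGA14.UnivOpen
import Groth.Agent.H12AlgSp.LocPCancel

set_option autoImplicit false
universe u
open CategoryTheory CategoryTheory.Limits AlgebraicGeometry TopologicalSpace
open Unram17

namespace Groth.Agent.S5028

open Groth.Agent
set_option backward.isDefEq.respectTransparency false

/-- Let Y be locally Noetherian, f : X ⟶ Y locally of finite type, x a point of X with image y, and
suppose the local ring of Y at y is reduced. Then f is smooth on an open neighbourhood of x if and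
only if f is universally open at every point of some neighbourhood of x in the fibre over y (that
is, for the points x' of some open neighbourhood of x in X lying over y, every base change of f is
open at each point lying over x') and the local ring of the fibre at x (the quotient of the local
ring of X at x by the extension of the maximal ideal at y) is geometrically regular over the residue
field κ(y). -/
theorem result {X Y : Scheme.{u}} (f : X ⟶ Y)
    [IsLocallyNoetherian Y] [LocallyOfFiniteType f] (x : ↥X)
    (hred : IsReduced ↑(Y.presheaf.stalk (f.base x))) :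
    letI φ := (f.stalkMap x).hom
    letI 𝔪 := IsLocalRing.maximalIdeal ↑(Y.presheaf.stalk (f.base x))
    letI : Algebra (IsLocalRing.ResidueField ↑(Y.presheaf.stalk (f.base x))) (↑(X.presheaf.stalk x) ⧸ 𝔪.map φ) :=
      (Ideal.quotientMap (𝔪.map φ) φ Ideal.le_comap_map).toAlgebra
    (∃ U : X.Opens, x ∈ U ∧ Smooth (U.ι ≫ f)) ↔
      (∃ W : X.Opens, x ∈ W ∧ ∀ x' ∈ W, f.base x' = f.base x → EGA43.IsUnivOpenAt f x') ∧
        CAlg.IsGeometricallyRegular (IsLocalRing.ResidueField ↑(Y.presheaf.stalk (f.base x)))
          (↑(X.presheaf.stalk x) ⧸ 𝔪.map φ) := by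
  haveI : LocallyOfFinitePresentation f := H12AlgSp.lfp_of_lft_of_isLocallyNoetherian f
  haveI : LocallyOfFinitePresentation (f.fiberToSpecResidueField (f x)) :=
    MorphismProperty.pullback_snd _ _ inferInstance
  constructor
  · intro h
    obtain ⟨U, hxU, hU⟩ := h
    haveI := hU
    refine ⟨⟨U, hxU, fun x' hx' _ Y' g z hz => ?_⟩, ?_⟩
    · let a : pullback (U.ι ≫ f) g ⟶ pullback f g :=
        pullback.lift (pullback.fst _ _ ≫ U.ι) (pullback.snd _ _) (by rw [Category.assoc, pullback.condition])
      have hsq : IsPullback a (pullback.fst (U.ι ≫ f) g) (pullback.fst f g) U.ι := by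
        refine IsPullback.of_right ?_ (pullback.lift_fst _ _ _) (IsPullback.of_hasPullback f g).flip
        rw [pullback.lift_snd]
        exact (IsPullback.of_hasPullback (U.ι ≫ f) g).flip
      obtain ⟨w, hw, hw'⟩ := Scheme.exists_preimage_of_isPullback hsq.flip (⟨x', hx'⟩ : U.toScheme) z
        (by rw [hz]; rfl)
      haveI : UniversallyOpen (pullback.snd (U.ι ≫ f) g) := MorphismProperty.pullback_snd _ _ inferInstance
      haveI : IsOpenImmersion a := MorphismProperty.of_isPullback hsq.flip (inferInstance : IsOpenImmersion U.ι)
      have haz : a w = z := by assumption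
      rw [← haz]
      refine H06EGA14.isOpenAt_of_comp a.continuous ?_
      rw [show (pullback.snd f g).base ∘ a.base = (pullback.snd (U.ι ≫ f) g).base from by
        funext t
        show pullback.snd f g (a t) = _
        rw [← Scheme.Hom.comp_apply, pullback.lift_snd]]
      exact fun V hV => (pullback.snd (U.ι ≫ f) g).isOpenMap.image_mem_nhds hV
    · rw [← H06Unram.GeomRegFibre.mem_smoothLocus_iff f x]
      refine H17.LocusBC.preimage_smoothLocus_le (IsPullback.of_hasPullback f (Y.fromSpecResidueField (f x))) ?_
      show f.fiberι (f x) (f.asFiber x) ∈ f.smoothLocus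
      rw [Scheme.Hom.fiberι_asFiber]
      exact (H17.LocusBC.mem_smoothLocus_iff_exists f x).mpr ⟨U, hxU, hU⟩
  · rintro ⟨⟨W, hxW, hW⟩, hgr⟩
    have hs := (H06Unram.GeomRegFibre.mem_smoothLocus_iff f x).mpr hgr
    refine (H17.LocusBC.mem_smoothLocus_iff_exists f x).mp (H17.LocusBC.mem_smoothLocus_of_flat_of_fiber f x ?_ hs)
    refine S2561.result f x (fun z hz _ => ?_) (H06Unram.GeomRegFibre.isGeomReducedAt_of_mem_smoothLocus _ hs) hred
    have hsp : f.fiberι (f x) z ⤳ x := by
      have := (specializes_iff_mem_closure.mpr hz).map (f.fiberι (f x)).continuous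
      rwa [show f.fiberι (f x) (f.asFiber x) = x from f.fiberι_asFiber x] at this
    refine hW _ (hsp.mem_open W.2 hxW) ?_
    have : f.fiberι (f x) z ∈ Set.range (f.fiberι (f x)) := ⟨z, rfl⟩
    rw [Scheme.Hom.range_fiberι] at this
    exact this

end Groth.Agent.S5028
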