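import Groth.Statements.S5029
import Groth.Agent.H11Sym.VBundle
import Groth.Agent.H8Props.FinLocFree.Sheaf
import Groth.Agent.S2094
import Mathlib.AlgebraicGeometry.Morphisms.Smooth

set_option autoImplicit false
universe u
open CategoryTheory CategoryTheory.Limits AlgebraicGeometry TopologicalSpace
open Unram17

namespace Groth.Agent.S5029

/-- Let S be a scheme and E a quasi-coherent O_S-module that is finite locally free. If A is a
quasi-coherent O_S-algebra which is the symmetric algebra of E (through j : E ⟶ A), then the
structure morphism of the relative spectrum of A, i.e. of the vector bundle V(E), is smooth. -/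
theorem result {S : Scheme.{u}} (E : S.Modules) (hE : Coh.IsQCoh E)
    (hlf : FlatMod.IsFinLocFree E) (A : RelSpec.QCAlg S) (j : E ⟶ A.toModule) (hA : RelSpec.IsSymAlg E A j) :
    Smooth A.π := by
  refine IsZariskiLocalAtSource.of_openCover (Groth.Agent.H11Sym.chartCover A) fun U => ?_
  change Smooth (A.ι U.1 U.2 ≫ A.π)
  rw [A.ι_π]
  haveI : Smooth (Spec.map (A.str.app (Opposite.op U.1))) := by
    rw [HasRingHomProperty.Spec_iff (P := @Smooth)]
    letI := Groth.Agent.H11Sym.algOn A U.1
    have hj : IsSymmetricAlgebra (Groth.Agent.H11Sym.jlin j U.1) := (hA.isAffSym hE) U.1 U.2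
    obtain ⟨_, _⟩ := Groth.Agent.H8Props.FinLocFree.finite_projective_sections E hlf U.2
    haveI : Algebra.Smooth Γ(S, U.1) (SymmetricAlgebra Γ(S, U.1) Γ(E, U.1)) :=
      Groth.Agent.S2094.result.2 ⟨inferInstance, inferInstance⟩
    exact RingHom.smooth_algebraMap.2 (Algebra.Smooth.of_equiv hj.equiv)
  exact MorphismProperty.comp_mem @Smooth _ _ this inferInstance

end Groth.Agent.S5029
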