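import Groth.Statements.S5031
import Groth.Agent.H06EGA8.DescendSmooth
import Groth.Agent.H17.ConsPropModels
import Groth.Agent.H7Lim.DescendUnramified

set_option autoImplicit false
universe u
open CategoryTheory CategoryTheory.Limits AlgebraicGeometry TopologicalSpace
open Unram17

namespace Groth.Agent.S5031

set_option linter.style.haveILetI false
set_option backward.isDefEq.respectTransparency false

/-- Let A be a commutative ring and f : X ⟶ Spec A an etale morphism that is quasi-compact and
quasi-separated (hence of finite presentation). Then there exist a finitely generated ℤ-subalgebra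
A₀ of A, a scheme X₀ with an etale morphism of finite type f₀ : X₀ ⟶ Spec A₀, and a morphism X ⟶ X₀
making X the base change of X₀ along Spec A ⟶ Spec A₀. This is the case of etale morphisms (the
converse is stability under base change). -/
theorem result (A : Type u) [CommRing A] {X : Scheme.{u}}
    (f : X ⟶ Spec (CommRingCat.of A)) [Etale f] [QuasiCompact f] [QuasiSeparated f] :
    ∃ A₀ : Subalgebra ℤ A, A₀.FG ∧
      ∃ (X₀ : Scheme.{u}) (f₀ : X₀ ⟶ Spec (CommRingCat.of ↥A₀)) (g : X ⟶ X₀),
        Etale f₀ ∧ QuasiCompact f₀ ∧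
          IsPullback g f f₀ (Spec.map (CommRingCat.ofHom (algebraMap (↥A₀) A))) := by
  haveI : Nonempty (Finset A) := ⟨∅⟩
  obtain ⟨i, ⟨M⟩⟩ := H7Lim.FPDescent.exists_model (H17.ConsProp.isLimitSubringCone A) f
  haveI : CompactSpace M.P := QuasiCompact.compactSpace_of_compactSpace M.p
  haveI : QuasiSeparatedSpace M.P := quasiSeparatedSpace_of_quasiSeparated M.p
  have hP : Etale (pullback.snd M.p ((H17.ConsProp.subringCone A).π.app i)) :=
    (H7Lim.prop_iff_of_isPullback M.hpb).mp ‹Etale f›
  obtain ⟨j, φ, hj⟩ := H7Lim.exists_descend (H17.ConsProp.isLimitSubringCone A) H06EGA8.descendsAffine_etale i M.p inferInstance hP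
  exact ⟨Algebra.adjoin ℤ ((Opposite.unop j : Finset A) : Set A), ⟨_, rfl⟩, (M.shift φ).P, (M.shift φ).p,
    (M.shift φ).g, hj, (M.shift φ).qc, (M.shift φ).hpb⟩

end Groth.Agent.S5031
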