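import Groth.Statements.S5034
import Groth.Agent.H9Hens.Local
import Groth.Agent.S17968
-- import your own Groth.Agent.* helpers here

set_option autoImplicit false
universe u
open Hensel

namespace Groth.Agent.S5034

/-- a') implies a): let R be a local ring such that for every monic polynomial F over R the quotient
ring R[T]/(F) is isomorphic, as a ring, to a finite product of local rings. Then R is henselian. -/
theorem result (R : Type u) [CommRing R] [IsLocalRing R]
    (h : ∀ F : Polynomial R, F.Monic →
      ∃ (ι : Type u) (_ : Fintype ι) (A : ι → Type u) (_ : ∀ i, CommRing (A i)),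
        (∀ i, IsLocalRing (A i)) ∧ Nonempty (AdjoinRoot F ≃+* (∀ i, A i))) :
    HenselianLocalRing R := by
  have := Groth.Agent.S17968.result R (IsLocalRing.maximalIdeal R)
    (Groth.Agent.H9Hens.maximalIdeal_le_jac R) fun m p hp _ ē hē => by
      obtain ⟨ι, _, A, _, hA, ⟨e⟩⟩ := h p hp
      have := hA
      have := hp.finite_adjoinRoot
      obtain ⟨b, rfl⟩ := Ideal.Quotient.mk_surjective ē
      obtain ⟨x, hx, hxb⟩ := Groth.Agent.H9Hens.exists_idem_lift_of_ringEquiv_pi e
        (Groth.Agent.H9Hens.map_le_jacobson_of_isIntegral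
          (Groth.Agent.H9Hens.maximalIdeal_le_jac R)) b
        (by rw [← Ideal.Quotient.eq, map_mul]; exact hē)
      exact ⟨x, hx, Ideal.Quotient.eq.mpr hxb⟩
  exact Groth.Agent.H9Hens.henselianLocalRing_of_henselianRing

end Groth.Agent.S5034
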