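import Groth.Statements.S5036
import Groth.Agent.H7Lim.QuasiFiniteFactor
import Mathlib.AlgebraicGeometry.Morphisms.FlatRank
import Mathlib.AlgebraicGeometry.Morphisms.FlatMono
-- import your own Groth.Agent.* helpers here

set_option autoImplicit false
open CategoryTheory CategoryTheory.Limits AlgebraicGeometry
universe u
open Hensel

namespace Groth.Agent.S5036

theorem closed_eq_empty {S S₀ : Scheme.{u}} (i : S₀ ⟶ S) [IsClosedImmersion i]
    (ha : ∀ (S' : Scheme.{u}) (g : S' ⟶ S), IsFinite g →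
      ∀ V : Set ↥(pullback g i), IsClopen V → ∃! U : Set ↥S', IsClopen U ∧ (pullback.fst g i).base ⁻¹' U = V)
    (Z : Set S) (hZ : IsClosed Z) (hd : Disjoint Z (Set.range i)) : Z = ∅ := by
  let I := Scheme.IdealSheafData.vanishingIdeal ⟨Z, hZ⟩
  have hr : Set.range I.subschemeι = Z := by
    rw [Scheme.IdealSheafData.range_subschemeι, Scheme.IdealSheafData.coe_support_vanishingIdeal]
    rfl
  haveI : IsEmpty ↥(pullback I.subschemeι i) := ⟨fun q => by
    refine Set.disjoint_left.1 hd (hr.le ⟨pullback.fst I.subschemeι i q, rfl⟩) ⟨pullback.snd I.subschemeι i q, ?_⟩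
    rw [← Scheme.Hom.comp_apply, ← pullback.condition, Scheme.Hom.comp_apply]⟩
  obtain ⟨U, -, hu⟩ := ha _ I.subschemeι inferInstance ∅ isClopen_empty
  have h := (hu _ ⟨isClopen_univ, Set.eq_empty_of_isEmpty _⟩).trans (hu _ ⟨isClopen_empty, Set.preimage_empty⟩).symm
  rw [← hr, ← Set.image_univ, h, Set.image_empty]

theorem clopen_eq_univ {S S₀ : Scheme.{u}} (i : S₀ ⟶ S) [IsClosedImmersion i]
    (ha : ∀ (S' : Scheme.{u}) (g : S' ⟶ S), IsFinite g →
      ∀ V : Set ↥(pullback g i), IsClopen V → ∃! U : Set ↥S', IsClopen U ∧ (pullback.fst g i).base ⁻¹' U = V)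
    (U : Set S) (hU : IsClopen U) (h : Set.range i ⊆ U) : U = Set.univ :=
  Set.compl_empty_iff.1 (closed_eq_empty i ha Uᶜ hU.compl.1 (Set.disjoint_left.2 fun _ hx hx' => hx (h hx')))

theorem unique_lift {S S₀ : Scheme.{u}} (i : S₀ ⟶ S) [IsClosedImmersion i]
    (ha : ∀ (S' : Scheme.{u}) (g : S' ⟶ S), IsFinite g →
      ∀ V : Set ↥(pullback g i), IsClopen V → ∃! U : Set ↥S', IsClopen U ∧ (pullback.fst g i).base ⁻¹' U = V)
    {S' : Scheme.{u}} (g : S' ⟶ S) [Etale g] [IsSeparated g] (u v : S ⟶ S')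
    (hu : u ≫ g = 𝟙 S) (hv : v ≫ g = 𝟙 S) (h : i ≫ u = i ≫ v) : u = v := by
  let c : S ⟶ pullback g g := pullback.lift u v (hu.trans hv.symm)
  let E := pullback.fst c (pullback.diagonal g)
  have hc1 : c ≫ pullback.fst g g = u := pullback.lift_fst _ _ _
  have hc2 : c ≫ pullback.snd g g = v := pullback.lift_snd _ _ _
  have hi : i ≫ c = (i ≫ u) ≫ pullback.diagonal g := by
    apply pullback.hom_ext
    · rw [Category.assoc, hc1, Category.assoc, pullback.diagonal_fst, Category.comp_id]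
    · rw [Category.assoc, hc2, Category.assoc, pullback.diagonal_snd, Category.comp_id, h]
  have hru : Set.range E = Set.univ := by
    refine clopen_eq_univ i ha _ ⟨E.isClosedMap.isClosed_range, E.isOpenEmbedding.isOpen_range⟩ ?_
    rintro _ ⟨x, rfl⟩
    exact ⟨pullback.lift i (i ≫ u) hi x, by rw [← Scheme.Hom.comp_apply, pullback.lift_fst]⟩
  haveI : Surjective E := ⟨Set.range_eq_univ.1 hru⟩
  haveI : IsIso E := (isIso_iff_isOpenImmersion_and_surjective E).2 ⟨inferInstance, ‹_›⟩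
  have hc : c = (inv E ≫ pullback.snd c (pullback.diagonal g)) ≫ pullback.diagonal g := by
    rw [Category.assoc, ← pullback.condition, IsIso.inv_hom_id_assoc]
  rw [← hc1, ← hc2, hc]
  simp only [Category.assoc, pullback.diagonal_fst, pullback.diagonal_snd]

theorem locallyQuasiFinite_of_etale {X Y : Scheme.{u}} (f : X ⟶ Y) [Etale f] : LocallyQuasiFinite f := by
  rw [HasRingHomProperty.iff_appLE (P := @LocallyQuasiFinite)]
  intro U V e
  have he : RingHom.Etale (f.appLE U.1 V.1 e).hom := HasRingHomProperty.appLE @Etale f inferInstance U V e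
  algebraize [(f.appLE U.1 V.1 e).hom]
  exact ⟨inferInstance⟩

theorem exists_lift {S S₀ : Scheme.{u}} (i : S₀ ⟶ S) [IsClosedImmersion i]
    [CompactSpace ↥S] [QuasiSeparatedSpace ↥S]
    (ha : ∀ (S' : Scheme.{u}) (g : S' ⟶ S), IsFinite g →
      ∀ V : Set ↥(pullback g i), IsClopen V → ∃! U : Set ↥S', IsClopen U ∧ (pullback.fst g i).base ⁻¹' U = V)
    {W : Scheme.{u}} [CompactSpace ↥W] (g : W ⟶ S) [Etale g] [IsSeparated g] (w : S₀ ⟶ W) (hw : w ≫ g = i) :
    ∃ u : S ⟶ W, u ≫ g = 𝟙 S ∧ i ≫ u = w := by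
  haveI : LocallyQuasiFinite g := locallyQuasiFinite_of_etale g
  obtain ⟨T, j, π, hj, -, hπ, hjπ⟩ := Groth.Agent.H7Lim.exists_openImmersion_finite g
  let u₀ : S₀ ⟶ pullback g i := pullback.lift w (𝟙 _) (by rw [hw, Category.id_comp])
  let m : pullback g i ⟶ pullback π i := pullback.map g i π i j (𝟙 _) (𝟙 _) (by rw [hjπ, Category.comp_id]) (by simp)
  let s : S₀ ⟶ pullback π i := u₀ ≫ m
  have hu₀f : u₀ ≫ pullback.fst g i = w := pullback.lift_fst _ _ _
  have hu₀s : u₀ ≫ pullback.snd g i = 𝟙 _ := pullback.lift_snd _ _ _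
  have hmf : m ≫ pullback.fst π i = pullback.fst g i ≫ j := pullback.lift_fst _ _ _
  have hms : m ≫ pullback.snd π i = pullback.snd g i ≫ 𝟙 _ := pullback.lift_snd _ _ _
  have hs : s ≫ pullback.snd π i = 𝟙 _ := by
    rw [Category.assoc, hms, Category.comp_id, hu₀s]
  have hsf : s ≫ pullback.fst π i = w ≫ j := by
    rw [Category.assoc, hmf, ← Category.assoc, hu₀f]
  have hsx : ∀ x, pullback.fst π i (s x) = j (w x) := fun x => by
    rw [← Scheme.Hom.comp_apply, hsf, Scheme.Hom.comp_apply]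
  haveI : IsClosedImmersion s := by
    haveI : IsClosedImmersion (s ≫ pullback.snd π i) := by rw [hs]; infer_instance
    exact IsClosedImmersion.of_comp s (pullback.snd π i)
  haveI : Etale u₀ := by
    haveI : Etale (u₀ ≫ pullback.snd g i) := by rw [hu₀s]; infer_instance
    exact Etale.of_comp u₀ (pullback.snd g i)
  have hso : IsOpen (Set.range s) := by
    show IsOpen (Set.range (u₀ ≫ m).base)
    rw [Scheme.Hom.comp_base, TopCat.coe_comp, Set.range_comp]
    exact m.isOpenEmbedding.isOpenMap _ u₀.isOpenMap.isOpen_range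
  obtain ⟨U, ⟨hUc, hUV⟩, -⟩ := ha T π hπ (Set.range s) ⟨s.isClosedEmbedding.isClosed_range, hso⟩
  have hjU : U ⊆ Set.range j := by
    by_contra hnot
    obtain ⟨z, hz, hzj⟩ := Set.not_subset.1 hnot
    have hZc : IsClosed (π '' (U \ Set.range j)) :=
      π.isClosedMap _ (hUc.1.sdiff j.isOpenEmbedding.isOpen_range)
    have := closed_eq_empty i ha _ hZc ?_
    · exact (Set.image_eq_empty.1 this ▸ (show z ∈ U \ Set.range j from ⟨hz, hzj⟩) : z ∈ (∅ : Set T))
    · refine Set.disjoint_left.2 ?_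
      rintro _ ⟨y, ⟨hyU, hyj⟩, rfl⟩ ⟨x, hx⟩
      obtain ⟨q, rfl, -⟩ := Scheme.Pullback.exists_preimage_pullback y x hx.symm
      obtain ⟨x', rfl⟩ : q ∈ Set.range s := hUV.le hyU
      exact hyj ⟨w x', (hsx x').symm⟩
  let Uo : T.Opens := ⟨U, hUc.2⟩
  let U' : W.Opens := j ⁻¹ᵁ Uo
  haveI : IsClosedImmersion Uo.ι := IsClosedImmersion.of_isPreimmersion Uo.ι (by rw [Scheme.Opens.range_ι]; exact hUc.1)
  have hrange : Set.range (U'.ι ≫ j) = Set.range Uo.ι := by
    rw [Scheme.Hom.comp_base, TopCat.coe_comp, Set.range_comp, Scheme.Opens.range_ι, Scheme.Opens.range_ι]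
    exact Set.image_preimage_eq_of_subset hjU
  let e := IsOpenImmersion.isoOfRangeEq (U'.ι ≫ j) Uo.ι hrange
  let h := U'.ι ≫ g
  haveI : IsFinite h := by
    have : h = e.hom ≫ Uo.ι ≫ π := by
      rw [← Category.assoc, IsOpenImmersion.isoOfRangeEq_hom_fac, Category.assoc, hjπ]
    rw [this]
    infer_instance
  have hwU : Set.range w ⊆ Set.range U'.ι := by
    rintro _ ⟨x, rfl⟩
    rw [Scheme.Opens.range_ι]
    show j (w x) ∈ U
    have : pullback.fst π i (s x) ∈ U := hUV.ge ⟨x, rfl⟩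
    rwa [hsx] at this
  let w' := IsOpenImmersion.lift U'.ι w hwU
  have hw' : w' ≫ h = i := by rw [← Category.assoc, IsOpenImmersion.lift_fac, hw]
  let s' : S₀ ⟶ pullback h i := pullback.lift w' (𝟙 _) (by rw [hw', Category.id_comp])
  have hs'f : s' ≫ pullback.fst h i = w' := pullback.lift_fst _ _ _
  have hs's : s' ≫ pullback.snd h i = 𝟙 _ := pullback.lift_snd _ _ _
  haveI : IsClosedImmersion s' := by
    haveI : IsClosedImmersion (s' ≫ pullback.snd h i) := by rw [hs's]; infer_instance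
    exact IsClosedImmersion.of_comp s' (pullback.snd h i)
  haveI : Etale s' := by
    haveI : Etale (s' ≫ pullback.snd h i) := by rw [hs's]; infer_instance
    exact Etale.of_comp s' (pullback.snd h i)
  haveI : IsOpenImmersion s' := IsOpenImmersion.of_flat_of_mono s'
  haveI : Surjective s' := ⟨fun y => by
    let v := pullback.fst h i y
    have hv : π (j (U'.ι v)) = i (pullback.snd h i y) := by
      calc π (j (U'.ι v)) = g (U'.ι v) := by rw [← Scheme.Hom.comp_apply, hjπ]
        _ = h (pullback.fst h i y) := (Scheme.Hom.comp_apply _ _ _).symm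
        _ = i (pullback.snd h i y) := by rw [← Scheme.Hom.comp_apply, pullback.condition, Scheme.Hom.comp_apply]
    obtain ⟨q, hq, -⟩ := Scheme.Pullback.exists_preimage_pullback (j (U'.ι v)) _ hv
    have hvU : j (U'.ι v) ∈ U := (U'.range_ι.le ⟨v, rfl⟩ : U'.ι v ∈ (U' : Set W))
    obtain ⟨x, hx⟩ : q ∈ Set.range s := hUV.le (show pullback.fst π i q ∈ U by rw [hq]; exact hvU)
    refine ⟨x, (pullback.fst h i).isClosedEmbedding.injective (U'.ι.isOpenEmbedding.injective (j.isOpenEmbedding.injective ?_))⟩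
    show j (U'.ι (pullback.fst h i (s' x))) = j (U'.ι v)
    rw [← hq, ← hx, hsx]
    congr 1
    rw [← Scheme.Hom.comp_apply s', hs'f, ← Scheme.Hom.comp_apply w', IsOpenImmersion.lift_fac]⟩
  haveI : IsIso s' := (isIso_iff_isOpenImmersion_and_surjective s').2 ⟨inferInstance, inferInstance⟩
  haveI : IsIso (pullback.snd h i) := by
    haveI : IsIso (s' ≫ pullback.snd h i) := by rw [hs's]; infer_instance
    exact IsIso.of_isIso_comp_left s' (pullback.snd h i)
  have h1 : Scheme.Hom.finrank h = 1 := by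
    have hc : IsClopen ((Scheme.Hom.finrank h) ⁻¹' {1}) :=
      ⟨(Scheme.Hom.isLocallyConstant_finrank h).isClosed_fiber 1, (Scheme.Hom.isLocallyConstant_finrank h).isOpen_fiber 1⟩
    have := clopen_eq_univ i ha _ hc (by
      rintro _ ⟨x, rfl⟩
      show Scheme.Hom.finrank h (i x) = 1
      rw [← Scheme.Hom.finrank_pullback_snd h i, Scheme.Hom.finrank_eq_one_of_isIso]
      rfl)
    funext x
    exact this.ge (Set.mem_univ x)
  haveI : IsIso h := (Scheme.Hom.isIso_iff_finrank_eq h).2 h1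
  refine ⟨inv h ≫ U'.ι, by rw [Category.assoc]; exact IsIso.inv_hom_id h, ?_⟩
  rw [← hw', Category.assoc, IsIso.hom_inv_id_assoc, IsOpenImmersion.lift_fac]

/-- a) implies b): let S be a quasi-compact quasi-separated scheme and i : S₀ ⟶ S a closed immersion.
Suppose that for every finite morphism g : S' ⟶ S, every open-closed subset of S' ×_S S₀ is the
inverse image under the first projection of exactly one open-closed subset of S'. Then for every
étale separated morphism g : S' ⟶ S and every section u₀ of S' ×_S S₀ ⟶ S₀ there is exactly one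
section u of g whose restriction to S₀ is u₀ (that is, i ≫ u = u₀ followed by the first projection). -/
theorem result {S S₀ : Scheme.{u}} (i : S₀ ⟶ S) [IsClosedImmersion i]
    [CompactSpace ↥S] [QuasiSeparatedSpace ↥S]
    (ha : ∀ (S' : Scheme.{u}) (g : S' ⟶ S), IsFinite g →
      ∀ V : Set ↥(pullback g i), IsClopen V → ∃! U : Set ↥S', IsClopen U ∧ (pullback.fst g i).base ⁻¹' U = V)
    {S' : Scheme.{u}} (g : S' ⟶ S) [Etale g] [IsSeparated g]
    (u₀ : S₀ ⟶ pullback g i) (hu₀ : u₀ ≫ pullback.snd g i = 𝟙 S₀) :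
    ∃! u : S ⟶ S', u ≫ g = 𝟙 S ∧ i ≫ u = u₀ ≫ pullback.fst g i := by
  have hw : (u₀ ≫ pullback.fst g i) ≫ g = i := by
    rw [Category.assoc, pullback.condition, ← Category.assoc, hu₀, Category.id_comp]
  haveI : CompactSpace ↥S₀ := i.isClosedEmbedding.compactSpace
  obtain ⟨W, hWc, hW⟩ : ∃ W : S'.Opens, IsCompact (W : Set S') ∧ Set.range (u₀ ≫ pullback.fst g i) ⊆ W := by
    obtain ⟨t, htsub, ht, hcov⟩ := (isCompact_range (u₀ ≫ pullback.fst g i).continuous).elim_finite_subcover_image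
      (b := S'.affineOpens) (c := fun V => (V : Set S')) (fun V _ => V.isOpen) (fun x _ => by
        obtain ⟨V, hV, hxV, -⟩ := TopologicalSpace.Opens.isBasis_iff_nbhd.1 S'.isBasis_affineOpens (TopologicalSpace.Opens.mem_top x)
        exact Set.mem_biUnion hV hxV)
    refine ⟨⟨⋃ V ∈ t, (V : Set S'), isOpen_biUnion fun V _ => V.isOpen⟩, ?_, hcov⟩
    exact ht.isCompact_biUnion fun V hV => (htsub hV).isCompact
  haveI : CompactSpace ↥(W : Scheme) := isCompact_iff_compactSpace.1 hWc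
  let w := IsOpenImmersion.lift W.ι (u₀ ≫ pullback.fst g i) (by rwa [Scheme.Opens.range_ι])
  obtain ⟨u, hu, hiu⟩ := exists_lift i ha (W.ι ≫ g) w (by rw [← Category.assoc, IsOpenImmersion.lift_fac, hw])
  have h1 : (u ≫ W.ι) ≫ g = 𝟙 S := by rw [Category.assoc, hu]
  have h2 : i ≫ u ≫ W.ι = u₀ ≫ pullback.fst g i := by rw [← Category.assoc, hiu, IsOpenImmersion.lift_fac]
  exact ⟨u ≫ W.ι, ⟨h1, h2⟩, fun v hv => unique_lift i ha g v (u ≫ W.ι) hv.1 h1 (hv.2.trans h2.symm)⟩

end Groth.Agent.S5036
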