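import Groth.Statements.S5037
import Groth.Agent.H9Hens.ClopenScheme
-- import your own Groth.Agent.* helpers here

set_option autoImplicit false
open CategoryTheory CategoryTheory.Limits AlgebraicGeometry
universe u
open Hensel

namespace Groth.Agent.S5037

/-- b) implies a'): let i : S₀ ⟶ S be a closed immersion. Suppose that for every étale separated
morphism g : S' ⟶ S and every section u₀ of S' ×_S S₀ ⟶ S₀ there is exactly one section u of g with
i ≫ u = u₀ followed by the first projection. Then for every finite locally free morphism g : S' ⟶ S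
(finite, flat and locally of finite presentation), every open-closed subset of S' ×_S S₀ is the
inverse image under the first projection of exactly one open-closed subset of S'. -/
theorem result {S S₀ : Scheme.{u}} (i : S₀ ⟶ S) [IsClosedImmersion i]
    (hb : ∀ (S' : Scheme.{u}) (g : S' ⟶ S), Etale g → IsSeparated g →
      ∀ u₀ : S₀ ⟶ pullback g i, u₀ ≫ pullback.snd g i = 𝟙 S₀ →
        ∃! u : S ⟶ S', u ≫ g = 𝟙 S ∧ i ≫ u = u₀ ≫ pullback.fst g i)
    {S' : Scheme.{u}} (g : S' ⟶ S) [IsFinite g] [Flat g] [LocallyOfFinitePresentation g]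
    (V : Set ↥(pullback g i)) (hV : IsClopen V) :
    ∃! U : Set ↥S', IsClopen U ∧ (pullback.fst g i).base ⁻¹' U = V := by
  open Groth.Agent.H9Hens.ClopenScheme in
  obtain ⟨W, hWa, ⟨E⟩⟩ := Groth.Agent.H8Props.WeilRes.exists_isAffineHom_representableBy g
    (Groth.Agent.H9Hens.ClopenScheme.fold S)
  haveI : Etale W.hom := Groth.Agent.H9Hens.ClopenScheme.etale g E
  haveI : IsSeparated W.hom := inferInstance
  let T₀ : Over S := Over.mk i
  let T : Over S := Over.mk (𝟙 S)
  let k : T₀ ⟶ T := Over.homMk i (Category.comp_id i)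
  let σ : pullback T₀.hom g ≅ pullback g i := pullbackSymmetry i g
  let e : pullback T.hom g ⟶ S' := pullback.snd (𝟙 S) g
  haveI : IsIso e := by
    refine ⟨pullback.lift g (𝟙 S') ((Category.comp_id g).trans (Category.id_comp g).symm),
      pullback.hom_ext ?_ ?_, pullback.lift_snd _ _ _⟩
    · rw [Category.assoc, pullback.lift_fst, Category.id_comp]
      exact pullback.condition.symm.trans (Category.comp_id _)
    · rw [Category.assoc, pullback.lift_snd, Category.id_comp]
      exact Category.comp_id e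
  have hσ : σ.hom ≫ pullback.fst g i = Groth.Agent.H9Hens.ClopenScheme.bc g k ≫ e :=
    (pullbackSymmetry_hom_comp_fst i g).trans (pullback.lift_snd _ _ _).symm
  have hpre : ∀ (U : Set S') (x : ↥(pullback T₀.hom g)),
      (σ.hom x ∈ (pullback.fst g i).base ⁻¹' U ↔ x ∈ Groth.Agent.H9Hens.ClopenScheme.bc g k ⁻¹' (e ⁻¹' U)) := by
    intro U x
    show pullback.fst g i (σ.hom x) ∈ U ↔ e (Groth.Agent.H9Hens.ClopenScheme.bc g k x) ∈ U
    rw [← Scheme.Hom.comp_apply, hσ, Scheme.Hom.comp_apply]
  obtain ⟨l₀, hl₀⟩ := Groth.Agent.H9Hens.ClopenScheme.exists_theta g E (T := T₀) (σ.hom ⁻¹' V)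
    (hV.preimage σ.hom.continuous)
  obtain ⟨u, ⟨hu, hiu⟩, huniq⟩ := hb W.left W.hom inferInstance inferInstance
    (pullback.lift l₀.left (𝟙 S₀) ((Over.w l₀).trans (Category.id_comp i).symm)) (pullback.lift_snd _ _ _)
  rw [pullback.lift_fst] at hiu
  let l : T ⟶ W := Over.homMk u hu
  have hkl : k ≫ l = l₀ := Over.OverMorphism.ext hiu
  have hse : Function.Surjective e := e.surjective
  have hinv : ∀ C : Set ↥(pullback T.hom g), e ⁻¹' ((inv e) ⁻¹' C) = C := by
    intro C
    ext x
    show inv e (e x) ∈ C ↔ _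
    rw [← Scheme.Hom.comp_apply, IsIso.hom_inv_id]
    rfl
  refine ⟨(inv e) ⁻¹' Groth.Agent.H9Hens.ClopenScheme.theta g E l,
    ⟨(Groth.Agent.H9Hens.ClopenScheme.isClopen_theta g E l).preimage (inv e).continuous, ?_⟩, ?_⟩
  · refine (σ.hom.surjective).preimage_injective ?_
    rw [← hl₀, ← hkl, Groth.Agent.H9Hens.ClopenScheme.theta_comp]
    have h := hinv (Groth.Agent.H9Hens.ClopenScheme.theta g E l)
    ext x
    exact (hpre _ x).trans (Iff.of_eq (congrArg (fun C => x ∈ Groth.Agent.H9Hens.ClopenScheme.bc g k ⁻¹' C) h))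
  · rintro U ⟨hU, hUV⟩
    obtain ⟨l', hl'⟩ := Groth.Agent.H9Hens.ClopenScheme.exists_theta g E (T := T) (e ⁻¹' U) (hU.preimage e.continuous)
    have h1 : k ≫ l' = l₀ := Groth.Agent.H9Hens.ClopenScheme.theta_injective g E (by
      rw [Groth.Agent.H9Hens.ClopenScheme.theta_comp, hl', hl₀, ← hUV]
      ext x
      exact (hpre U x).symm)
    have h2 : l' = l := Over.OverMorphism.ext (huniq _ ⟨Over.w l', by
      rw [pullback.lift_fst]
      exact congrArg CommaMorphism.left h1⟩)
    refine hse.preimage_injective ?_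
    rw [hinv, ← h2, hl']

end Groth.Agent.S5037
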