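import Groth.Statements.S5039
import Groth.Agent.H9Hens.NagataFibres
import Groth.Agent.H9Hens.FormalFibres
import Groth.Agent.S0567
-- import your own Groth.Agent.* helpers here

set_option autoImplicit false
universe u
open Hensel

namespace Groth.Agent.S5039

/-- Let R be a Noetherian local ring and S its henselization. Then S is universally Japanese if and only
if R is. -/
theorem result (R S : Type u) [CommRing R] [IsLocalRing R] [IsNoetherianRing R]
    [CommRing S] [IsLocalRing S] [Algebra R S] [IsLocalHom (algebraMap R S)] [Hensel.IsHenselization R S] :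
    CAlg.IsUniversallyJapanese S ↔ CAlg.IsUniversallyJapanese R := by
  have : IsNoetherianRing S := (S0511.result R S).mp inferInstance
  have key : ∀ (B : Type u) [CommRing B] [IsLocalRing B] [IsNoetherianRing B],
      CAlg.IsUniversallyJapanese B ↔ H05EGA4.GRSHom 0 1 B (EGA4.Cpl B) := fun B _ _ _ =>
    ⟨fun h => H9Hens.grsHom_cpl_of_isNagata ((S0567.result B).mpr ⟨inferInstance, h⟩),
      fun h => ((S0567.result B).mp (H05EGA4.isNagata_of_geomReduced h)).2⟩
  rw [key S, key R]
  exact H9Hens.grsHom_cpl_henselization_iff R S

end Groth.Agent.S5039
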