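import Groth.Statements.S5041
import Groth.Agent.H9Hens.FormalStrict
import Groth.Agent.S13598
-- import your own Groth.Agent.* helpers here

set_option autoImplicit false
universe u
open Hensel

namespace Groth.Agent.S5041

/-- Let R be a Noetherian local ring with henselization S. If R is strictly formally catenary (for every
prime ideal p, every associated prime of the completion of R/p has quotient of dimension dim R/p),
then so is S. -/
theorem result (R S : Type u) [CommRing R] [IsLocalRing R] [IsNoetherianRing R]
    [CommRing S] [IsLocalRing S] [Algebra R S] [IsLocalHom (algebraMap R S)] [Hensel.IsHenselization R S]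
    (h : EGA4.IsFormallyStrictlyCatenary R) : EGA4.IsFormallyStrictlyCatenary S := by
  intro q hq
  have hle : (q.comap (algebraMap R S)).map (algebraMap R S) ≤ q := Ideal.map_comap_le
  have hI : q.comap (algebraMap R S) ≤ IsLocalRing.maximalIdeal R := IsLocalRing.le_maximalIdeal (Ideal.IsPrime.comap _).ne_top
  have : Nontrivial (S ⧸ (q.comap (algebraMap R S)).map (algebraMap R S)) :=
    Ideal.Quotient.nontrivial_iff.mpr fun h => hq.ne_top (eq_top_iff.mpr (h ▸ hle))
  have : IsLocalRing (S ⧸ (q.comap (algebraMap R S)).map (algebraMap R S)) :=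
    IsLocalRing.of_surjective' _ Ideal.Quotient.mk_surjective
  have : IsLocalHom (algebraMap (R ⧸ q.comap (algebraMap R S)) (S ⧸ (q.comap (algebraMap R S)).map (algebraMap R S))) := by
    refine ⟨fun x hx => ?_⟩
    obtain ⟨r, rfl⟩ := Ideal.Quotient.mk_surjective x
    have : IsUnit (Ideal.Quotient.mk ((q.comap (algebraMap R S)).map (algebraMap R S)) (algebraMap R S r)) := hx
    exact (IsUnit.of_map (algebraMap R S) r ((IsLocalHom.of_surjective _ Ideal.Quotient.mk_surjective).map_nonunit _ this)).map _
  have := S13598.result (A := R) (S := S) (q.comap (algebraMap R S)) hI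
  let f : (S ⧸ (q.comap (algebraMap R S)).map (algebraMap R S)) →+* S ⧸ q := Ideal.Quotient.factor hle
  have hker : RingHom.ker f = q.map (Ideal.Quotient.mk _) := Ideal.Quotient.factor_ker hle
  have : (RingHom.ker f).IsPrime := RingHom.ker_isPrime f
  refine H9Hens.isStrictlyEquidim_completion_component (R ⧸ q.comap (algebraMap R S))
    (S ⧸ (q.comap (algebraMap R S)).map (algebraMap R S)) (h _) (S ⧸ q) f (Ideal.Quotient.factor_surjective hle) ?_
  rw [eq_bot_iff]
  intro x hx
  obtain ⟨r, rfl⟩ := Ideal.Quotient.mk_surjective x
  rw [Submodule.mem_bot, Ideal.Quotient.eq_zero_iff_mem, Ideal.mem_comap, ← Ideal.Quotient.eq_zero_iff_mem]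
  exact hx

end Groth.Agent.S5041
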