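import Groth.Statements.S5042
import Groth.Agent.H9Hens.GRingLocal
import Groth.Agent.H9Hens.FormalFibres
import Groth.Agent.H9Hens.CatenaryColim
-- import your own Groth.Agent.* helpers here

set_option autoImplicit false
universe u
open Hensel

namespace Groth.Agent.S5042

/-- The henselization S of an excellent local ring R is excellent. -/
theorem result (R S : Type u) [CommRing R] [IsLocalRing R]
    [CommRing S] [IsLocalRing S] [Algebra R S] [IsLocalHom (algebraMap R S)] [Hensel.IsHenselization R S]
    (h : EGA4.IsExcellent R) : EGA4.IsExcellent S := by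
  obtain ⟨hN, hUC, hG, -⟩ := h
  have : IsNoetherianRing S := (S0511.result R S).mp inferInstance
  obtain ⟨π, hπ⟩ := H9Hens.exists_isPtColim_of_isHenselization (R := R) S
  have hS : H05EGA4.GRSHom ⊤ ⊤ S (EGA4.Cpl S) :=
    H9Hens.grsHom_cpl_henselization R S (H9Hens.grsHom_cpl_of_isGRing R hG)
  exact ⟨inferInstance, hπ.isUniversallyCatenary hUC, H9Hens.isGRing_of_grsHom_cpl S hS,
    H9Hens.isJ2_of_grsHom_cpl S hS⟩

end Groth.Agent.S5042
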