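import Groth.Statements.S5047
import Groth.Agent.H06Unram.OpenImmersionDim

set_option autoImplicit false
open CategoryTheory AlgebraicGeometry
universe u
open Unram

namespace Groth.Agent.S5047

/-- Consider morphisms g : Y ⟶ S and h : X ⟶ S, both locally of finite presentation, where h is flat and
every local ring of every fibre of g is a normal domain (this holds, e.g., when g is smooth). Given
an S-morphism f : X ⟶ Y, the morphism f is an open immersion exactly when it is a monomorphism and,
at each point x of X, the local dimension at x of the h-fibre containing x coincides with the local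
dimension at f x of the g-fibre containing f x. -/
theorem result {X Y S : Scheme.{u}} (g : Y ⟶ S) (h : X ⟶ S)
    [LocallyOfFinitePresentation g] [LocallyOfFinitePresentation h] [Flat h]
    (hnorm : ∀ y : Y, IsDomain ((g.fiber (g.base y)).presheaf.stalk (g.asFiber y)) ∧
      IsIntegrallyClosed ((g.fiber (g.base y)).presheaf.stalk (g.asFiber y)))
    (f : X ⟶ Y) (w : f ≫ g = h) :
    IsOpenImmersion f ↔ (Mono f ∧ ∀ x : X, FlatMor.fibreDimAt h x = FlatMor.fibreDimAt g (f.base x)) := by
  exact H06Unram.OpenImmersionDim.isOpenImmersion_iff g h hnorm f w

end Groth.Agent.S5047
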