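import Groth.Statements.S5048
import Groth.Agent.H05EGA4.Topo
import Groth.Agent.H8Props.Generic

set_option autoImplicit false
open CategoryTheory AlgebraicGeometry
universe u
open Unram

namespace Groth.Agent.S5048

/-- Let Y be an irreducible scheme with generic point η and f : X ⟶ Y flat, locally of finite type and
locally quasi-finite. Then a point x of X maps to η if and only if its closure is an irreducible
component of X; thus the irreducible components of X are in canonical bijection with the fibre over
η. -/
theorem result {X Y : Scheme.{u}} [IrreducibleSpace ↥Y] (f : X ⟶ Y)
    [Flat f] [LocallyOfFiniteType f] [LocallyQuasiFinite f] (x : X) :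
    f.base x = genericPoint Y ↔ closure ({x} : Set ↥X) ∈ irreducibleComponents ↥X := by
  constructor
  · intro hx
    refine (H8Props.mem_genericPoints_iff (x := x)).2 fun x' hx' => ?_
    refine H05EGA4.eq_of_specializes_of_fibre f hx' ?_
    have h1 : f x' ⤳ genericPoint Y := hx ▸ hx'.map f.continuous
    show f x' = f x
    exact (h1.antisymm (genericPoint_specializes _)).eq.trans hx.symm
  · intro hx
    obtain ⟨x', hx', hfx'⟩ := Flat.generalizingMap f (a := x) (b := genericPoint Y) (genericPoint_specializes _)
    rw [(H8Props.mem_genericPoints_iff (x := x)).1 hx x' hx'] at hfx'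
    exact hfx'

end Groth.Agent.S5048
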