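import Groth.Statements.S5049
import Groth.Agent.H06Topo.Basic

set_option autoImplicit false
open CategoryTheory AlgebraicGeometry
universe u
open Unram

namespace Groth.Agent.S5049

/-- Let f : X ⟶ Y be flat, locally of finite type and locally quasi-finite. If the irreducible
components of Y form a locally finite family of subsets, then so do the irreducible components of X. -/
theorem result {X Y : Scheme.{u}} (f : X ⟶ Y)
    [Flat f] [LocallyOfFiniteType f] [LocallyQuasiFinite f]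
    (hY : LocallyFinite (fun Z : ↥(irreducibleComponents ↥Y) => (Z : Set ↥Y))) :
    LocallyFinite (fun Z : ↥(irreducibleComponents ↥X) => (Z : Set ↥X)) := by
  intro x
  obtain ⟨V, hV, hfxV, -⟩ := exists_isAffineOpen_mem_and_subset (X := Y) (x := f x) (U := ⊤) trivial
  obtain ⟨U, hU, hxU, hUV⟩ := exists_isAffineOpen_mem_and_subset (X := X) (x := x) (U := f ⁻¹ᵁ V) hfxV
  let g := f.resLE V U hUV
  have : QuasiCompact g :=
    haveI : IsAffine (U : Scheme.{u}) := hU
    haveI : IsAffine (V : Scheme.{u}) := hV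
    inferInstance
  have : LocallyQuasiFinite g := inferInstance
  let F : ↥(U : Scheme.{u}) → ↥Y := fun t => f (U.ι t)
  have hF : Continuous F := f.continuous.comp U.ι.continuous
  have hgen : GeneralizingMap F :=
    (Flat.generalizingMap (U.ι ≫ f))
  have hfin : ∀ y, (F ⁻¹' {y}).Finite := by
    intro y
    by_cases hy : y ∈ V
    · refine (g.finite_preimage_singleton ⟨y, hy⟩).subset fun t ht => ?_
      apply V.ι.isOpenEmbedding.injective
      calc V.ι (g t) = (g ≫ V.ι) t := rfl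
        _ = (U.ι ≫ f) t := by rw [f.resLE_comp_ι]
        _ = y := ht
    · convert Set.finite_empty
      ext t
      simp only [Set.mem_preimage, Set.mem_singleton_iff, Set.mem_empty_iff_false, iff_false]
      intro ht
      exact hy (ht ▸ hUV t.2)
  have hY' : ∀ y : Y, ∃ O : Set Y, IsOpen O ∧ y ∈ O ∧
      {Z ∈ irreducibleComponents ↥Y | (Z ∩ O).Nonempty}.Finite := by
    intro y
    obtain ⟨O, hO, hfinO⟩ := hY y
    obtain ⟨O', hO', hO'o, hyO'⟩ := mem_nhds_iff.1 hO
    refine ⟨O', hO'o, hyO', (hfinO.image Subtype.val).subset ?_⟩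
    rintro Z ⟨hZ, hne⟩
    exact ⟨⟨Z, hZ⟩, hne.mono (Set.inter_subset_inter_right _ hO'), rfl⟩
  obtain ⟨W, hW, hxW, hWfin⟩ :=
    H06Topo.irreducibleComponents_locallyFinite hF hgen hfin hY' ⟨x, hxU⟩
  refine ⟨U.ι '' W, (U.ι.isOpenEmbedding.isOpenMap W hW).mem_nhds ⟨_, hxW, rfl⟩, ?_⟩
  refine Set.Finite.of_finite_image (f := fun T : ↥(irreducibleComponents ↥X) => U.ι ⁻¹' (T : Set ↥X))
    (hWfin.subset ?_) ?_
  · rintro _ ⟨⟨T, hT⟩, ⟨_, ht, t, htW, rfl⟩, rfl⟩
    exact ⟨preimage_mem_irreducibleComponents hT U.ι.isOpenEmbedding ⟨_, ht, t, rfl⟩, t, ht, htW⟩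
  · rintro ⟨T₁, hT₁⟩ ⟨_, h₁, t₁, -, rfl⟩ ⟨T₂, hT₂⟩ ⟨_, h₂, t₂, -, rfl⟩ heq
    ext1
    have key : ∀ {T : Set ↥X}, T ∈ irreducibleComponents ↥X → (T ∩ Set.range U.ι).Nonempty →
        closure (T ∩ Set.range U.ι) = T := fun {T} hT hne =>
      subset_antisymm (closure_minimal Set.inter_subset_left (isClosed_of_mem_irreducibleComponents T hT))
        (subset_closure_inter_of_isPreirreducible_of_isOpen hT.1.2 U.ι.isOpenEmbedding.isOpen_range hne)
    have he : U.ι '' (U.ι ⁻¹' T₁) = U.ι '' (U.ι ⁻¹' T₂) := congrArg _ heq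
    rw [Set.image_preimage_eq_inter_range, Set.image_preimage_eq_inter_range] at he
    show T₁ = T₂
    rw [← key hT₁ ⟨_, h₁, t₁, rfl⟩, ← key hT₂ ⟨_, h₂, t₂, rfl⟩, he]

end Groth.Agent.S5049
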