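import Groth.Statements.S5050
import Mathlib.RingTheory.Filtration

set_option autoImplicit false
universe u v
open CInt

namespace Groth.Agent.S5050

/-- Let A be a Noetherian ring, N a finitely generated A-module, E and F submodules of N and Q an ideal
of A. For every natural number k there is h > 0 with E ⊓ (F ⊔ Q^h N) ≤ (E ⊓ F) ⊔ Q^k N. -/
theorem result {A : Type u} [CommRing A] [IsNoetherianRing A] {N : Type v} [AddCommGroup N]
    [Module A N] [Module.Finite A N] (E F : Submodule A N) (Q : Ideal A) (k : ℕ) :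
    ∃ h : ℕ, 0 < h ∧ E ⊓ (F ⊔ Q ^ h • (⊤ : Submodule A N)) ≤ (E ⊓ F) ⊔ Q ^ k • (⊤ : Submodule A N) := by
  obtain ⟨c, hc⟩ := Q.exists_pow_inf_eq_pow_smul (E ⊔ F)
  refine ⟨c + k + 1, by omega, ?_⟩
  rintro x ⟨hxE, hx⟩
  obtain ⟨y, hy, z, hz, rfl⟩ := Submodule.mem_sup.mp hx
  have hzS : z ∈ E ⊔ F := by
    rw [show z = (y + z) - y by abel]
    exact sub_mem (Submodule.mem_sup_left hxE) (Submodule.mem_sup_right hy)
  have h1 : z ∈ Q ^ k • (E ⊔ F) := by
    have : z ∈ Q ^ (c + k + 1) • (⊤ : Submodule A N) ⊓ (E ⊔ F) := ⟨hz, hzS⟩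
    rw [hc _ (by omega)] at this
    exact Submodule.smul_mono (Ideal.pow_le_pow_right (by omega)) inf_le_right this
  rw [Submodule.smul_sup] at h1
  obtain ⟨e, he, f', hf', rfl⟩ := Submodule.mem_sup.mp h1
  have he' : e ∈ E := Submodule.smul_le_right he
  have hf'' : f' ∈ F := Submodule.smul_le_right hf'
  refine Submodule.mem_sup.mpr ⟨y + f', ⟨?_, add_mem hy hf''⟩, e, Submodule.smul_mono le_rfl le_top he, by abel⟩
  rw [show y + f' = (y + (e + f')) - e by abel]
  exact sub_mem hxE he'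

end Groth.Agent.S5050
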