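import Groth.Statements.S5053
import Groth.Agent.H06EGA15.EtaleCount

set_option autoImplicit false
set_option backward.isDefEq.respectTransparency false
open CategoryTheory AlgebraicGeometry
universe u
open Unram

namespace Groth.Agent.S5053

open Groth.Agent

/-- Let Y be a connected scheme and f : X ⟶ Y étale, separated and of finite type. Then f is finite if
and only if all geometric fibres of f have the same number of points. -/
theorem result {X Y : Scheme.{u}} [ConnectedSpace ↥Y] (f : X ⟶ Y)
    [Etale f] [IsSeparated f] [LocallyOfFiniteType f] [QuasiCompact f] :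
    IsFinite f ↔ ∃ n : ℕ∞, ∀ y : Y, ENat.card ↥(MoreMor.geomFiber f y) = n := by
  simp only [H06EGA15.card_geomFiber]
  constructor
  · intro h
    have hl : IsLocallyConstant (fun y : Y => MoreMor.nGeomConnComp f y) := by
      rw [IsLocallyConstant.iff_eventually_eq]
      intro y
      haveI : IsFinite (f ∣_ ⊤) := MorphismProperty.of_isPullback (isPullback_morphismRestrict f ⊤).flip h
      obtain ⟨V, hyV, hV⟩ := H06EGA15.etale_const_of_finite f ⊤ (y := y) trivial
      exact Filter.mem_of_superset (V.2.mem_nhds hyV) hV
    exact ⟨MoreMor.nGeomConnComp f (Classical.arbitrary Y), fun y => hl.apply_eq_of_preconnectedSpace y _⟩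
  · rintro ⟨n, hn⟩
    have h : ∀ y : Y, ∃ V : Y.Opens, y ∈ V ∧ IsFinite (f ∣_ V) := fun y =>
      H06EGA15.etale_finite_of_const f y ⊤ trivial fun z _ => (hn z).trans (hn y).symm
    choose V hV hfin using h
    exact (IsZariskiLocalAtTarget.iff_of_iSup_eq_top (P := @IsFinite.{u}) V
      (top_le_iff.mp fun y _ => TopologicalSpace.Opens.mem_iSup.mpr ⟨y, hV y⟩)).mpr hfin

end Groth.Agent.S5053
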