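import Groth.Statements.S5056
import Groth.Agent.H9Hens.BranchCompletion
import Groth.Agent.H05EGA4.GeomSerre
-- import your own Groth.Agent.* helpers here

set_option autoImplicit false
universe u
open Hensel

namespace Groth.Agent.S5056

/-- Let A be a Noetherian henselian local domain whose formal fibres are geometrically normal, Â its
completion (an integral domain), K and L fraction fields of A and Â with L a K-algebra compatibly.
Then L is geometrically reduced over K (a separable extension) and every element of L algebraic over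
K lies in K. -/
theorem result (A : Type u) [CommRing A] [IsNoetherianRing A]
    [HenselianLocalRing A] [IsDomain A] (h : EGA4.HasGeomNormalFormalFibres A) [IsDomain (EGA4.Cpl A)]
    (K L : Type u) [Field K] [Field L] [Algebra A K] [IsFractionRing A K]
    [Algebra (EGA4.Cpl A) L] [IsFractionRing (EGA4.Cpl A) L] [Algebra K L] [Algebra A L]
    [IsScalarTower A K L] [IsScalarTower A (EGA4.Cpl A) L] :
    Algebra.IsGeometricallyReduced K L ∧ ∀ x : L, IsAlgebraic K x → x ∈ Set.range (algebraMap K L) := by
  classical
  have hG := (H05EGA4.hasGeomNormalFormalFibres_iff A).mp h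
  have hG' := H9Hens.grsHom_zero_one_of_one_two hG
  have := H05EGA4.isNoetherianRing_cpl A
  have := H9Hens.henselianLocalRing_cpl A
  have := H9Hens.isLocalHom_cpl A
  let C := EGA4.Cpl A
  have hCL : Function.Injective (algebraMap C L) := IsFractionRing.injective C L
  refine ⟨?_, fun x hx => ?_⟩
  · rw [H05EGA4.isGeometricallyReduced_iff_grs]
    intro k' _ _ hfin
    let : Algebra A k' := ((algebraMap K k').comp (algebraMap A K)).toAlgebra
    have : IsScalarTower A K k' := IsScalarTower.of_algebraMap_eq fun _ => rfl
    exact (hG'.localization (nonZeroDivisors A) K L (nonZeroDivisors C)).tensor_field k'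
      (.inl inferInstance)
  -- scale to an integral element
  by_contra hxK
  have hxA : IsAlgebraic A x := (IsFractionRing.isAlgebraic_iff A K L).mpr hx
  obtain ⟨a, ha, hint⟩ := hxA.exists_integral_multiple
  let K' := IntermediateField.adjoin K ({a • x} : Set L)
  have hintK : IsIntegral K (a • x) := hint.tower_top
  have : FiniteDimensional K K' := IntermediateField.adjoin.finiteDimensional hintK
  have : IsScalarTower A K' L := IsScalarTower.of_algebraMap_eq fun r => by
    rw [IsScalarTower.algebraMap_apply A K K', ← IsScalarTower.algebraMap_apply K K' L, ← IsScalarTower.algebraMap_apply A K L]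
  let : Algebra (FractionRing A) K' := ((algebraMap K K').comp (FractionRing.algEquiv A K).toRingHom).toAlgebra
  have : IsScalarTower A (FractionRing A) K' := IsScalarTower.of_algebraMap_eq fun b => by
    show algebraMap A K' b = algebraMap K K' (FractionRing.algEquiv A K (algebraMap A (FractionRing A) b))
    rw [AlgEquiv.commutes, ← IsScalarTower.algebraMap_apply]
  have : FiniteDimensional (FractionRing A) K' := by
    let : Algebra (FractionRing A) K := (FractionRing.algEquiv A K).toRingHom.toAlgebra
    have : IsScalarTower (FractionRing A) K K' := IsScalarTower.of_algebraMap_eq fun _ => rfl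
    have : Module.Finite (FractionRing A) K :=
      Module.Finite.of_surjective (Algebra.linearMap _ K) (FractionRing.algEquiv A K).surjective
    exact Module.Finite.trans K K'
  let D := integralClosure A K'
  have : Module.Finite A D := H05EGA4.finite_integralClosure_of_geomReduced hG' K'
  have : IsNoetherianRing D := IsNoetherianRing.of_finite A D
  have : IsFractionRing D K' := integralClosure.isFractionRing_of_finite_extension K K'
  have : IsIntegrallyClosed D := integralClosure.isIntegrallyClosedOfFiniteExtension K
  have hD : H05EGA4.RS 1 2 D := H05EGA4.isNormalRing_iff_rs.mp fun p _ => ⟨inferInstance,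
    isIntegrallyClosed_of_isLocalization _ p.primeCompl p.primeCompl_le_nonZeroDivisors⟩
  -- `D ⊗ C` is a domain
  have : IsNoetherianRing (TensorProduct A D C) := H02CA.isNoetherianRing_tensor_of_essFiniteType _ _ _
  let X := TensorProduct A C D
  let eX := (Algebra.TensorProduct.comm A D C).toRingEquiv
  have : IsNoetherianRing X := isNoetherianRing_of_ringEquiv (TensorProduct A D C) eX
  have hX : H05EGA4.RS 1 2 X := ((hG.baseChange (A' := D) (.inl inferInstance)).rs hD).of_ringEquiv eX
  obtain ⟨eM⟩ := H9Hens.nonempty_maximalSpectrum_tensor_equiv (A := A) (H := C) D (H9Hens.residue_trivial_cpl A)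
  have hDsub : Subsingleton (MaximalSpectrum D) := ⟨fun M N => MaximalSpectrum.ext
    (@H9Hens.maximal_eq_of_prime_le_of_isIntegral A _ _ D _ _ _ ⊥ Ideal.isPrime_bot _ _ M.isMaximal N.isMaximal
      bot_le bot_le)⟩
  have : Subsingleton (MaximalSpectrum X) := eM.subsingleton
  obtain ⟨M0, hM0⟩ := Ideal.exists_maximal D
  let M : MaximalSpectrum X := eM.symm ⟨M0, hM0⟩
  have := M.isMaximal
  have : IsLocalRing X := IsLocalRing.of_unique_max_ideal ⟨M.asIdeal, M.isMaximal,
    fun J hJ => congrArg MaximalSpectrum.asIdeal (Subsingleton.elim ⟨J, hJ⟩ M)⟩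
  have hXd : IsDomain X := by
    have := ((H05EGA4.isNormalRing_iff_rs).mpr hX (IsLocalRing.maximalIdeal X)).1
    exact (IsLocalization.atUnits X (IsLocalRing.maximalIdeal X).primeCompl
      (S := Localization.AtPrime (IsLocalRing.maximalIdeal X))
      fun z hz => IsLocalRing.notMem_maximalIdeal.mp hz).toMulEquiv.isDomain
  -- the map to `L` is injective
  let jD : D →ₐ[A] L := ((IsScalarTower.toAlgHom A K' L)).comp D.val
  let μ : X →ₐ[C] L := Algebra.TensorProduct.lift (Algebra.ofId C L) jD fun _ _ => Commute.all _ _
  have hμ : ∀ c d, μ (c ⊗ₜ[A] d) = algebraMap C L c * jD d := fun c d => Algebra.TensorProduct.lift_tmul _ _ _ _ _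
  have hμinj : Function.Injective μ := by
    rw [injective_iff_map_eq_zero]
    intro z hz
    by_contra hz0
    have hne : RingHom.ker μ.toRingHom ≠ ⊥ := fun hbot => hz0 (by
      have : z ∈ RingHom.ker μ.toRingHom := hz
      rwa [hbot] at this)
    refine Ideal.comap_ne_bot_of_integral_mem hz0 (I := RingHom.ker μ.toRingHom) hz
      (Algebra.IsIntegral.isIntegral (R := C) z) (eq_bot_iff.mpr fun c hc => ?_)
    rw [Ideal.mem_comap, RingHom.mem_ker] at hc
    exact (map_eq_zero_iff _ hCL).mp ((μ.commutes c).symm.trans hc)
  -- a functional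
  let y : D := ⟨⟨a • x, IntermediateField.mem_adjoin_simple_self K _⟩,
    (isIntegral_algHom_iff (IsScalarTower.toAlgHom A K' L) (algebraMap K' L).injective).mp hint⟩
  have hyK : (y : K') ∉ Submodule.span K {(1 : K')} := fun hy => by
    obtain ⟨c, hc⟩ := Submodule.mem_span_singleton.mp hy
    have h1 : algebraMap K L c = a • x := by
      have := congrArg (fun z : K' => (z : L)) hc
      simp only [IntermediateField.coe_smul, IntermediateField.coe_one, Algebra.smul_def (A := L) c, mul_one] at this
      exact this
    refine hxK ⟨c / algebraMap A K a, ?_⟩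
    rw [map_div₀, h1, Algebra.smul_def, ← IsScalarTower.algebraMap_apply, mul_div_cancel_left₀]
    rw [IsScalarTower.algebraMap_apply A K L, map_ne_zero]
    exact (map_ne_zero_iff _ (IsFractionRing.injective A K)).mpr ha
  obtain ⟨ψ, hψy, hψ1⟩ := Submodule.exists_le_ker_of_notMem hyK
  have hψ1 : ψ 1 = 0 := hψ1 (Submodule.subset_span rfl)
  obtain ⟨gens, hgens⟩ := (inferInstance : Module.Finite A D).fg_top
  obtain ⟨⟨b, hb⟩, hbg⟩ := IsLocalization.exist_integer_multiples (nonZeroDivisors A) gens fun d => ψ (d : K')
  let ψ' : D →ₗ[A] K := b • ((ψ.restrictScalars A).comp D.val.toLinearMap)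
  have hrange : ∀ d, ψ' d ∈ LinearMap.range (Algebra.linearMap A K) := fun d => by
    have hd : d ∈ Submodule.span A (gens : Set D) := hgens ▸ Submodule.mem_top
    induction hd using Submodule.span_induction with
    | mem g hg => obtain ⟨c, hc⟩ := hbg g hg; exact ⟨c, hc⟩
    | zero => rw [map_zero]; exact zero_mem _
    | add u v _ _ hu hv => rw [map_add]; exact add_mem hu hv
    | smul c u _ hu => rw [map_smul]; exact Submodule.smul_mem _ c hu
  let φ : D →ₗ[A] A := (LinearEquiv.ofInjective (Algebra.linearMap A K) (IsFractionRing.injective A K)).symm.toLinearMap.comp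
    (ψ'.codRestrict _ hrange)
  have hφ : ∀ d, algebraMap A K (φ d) = b • ψ (d : K') := fun d => by
    show Algebra.linearMap A K ((LinearEquiv.ofInjective (Algebra.linearMap A K) (IsFractionRing.injective A K)).symm
      (ψ'.codRestrict _ hrange d)) = _
    rw [LinearEquiv.ofInjective_symm_apply]
    rfl
  have hφ1 : φ 1 = 0 := IsFractionRing.injective A K (by
    rw [hφ, map_zero]; show b • ψ 1 = 0; rw [hψ1, smul_zero])
  have hφy : φ y ≠ 0 := fun h0 => by
    have := hφ y
    rw [h0, map_zero, Algebra.smul_def, eq_comm, mul_eq_zero] at this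
    exact this.elim ((map_ne_zero_iff _ (IsFractionRing.injective A K)).mpr (nonZeroDivisors.ne_zero hb)) hψy
  -- contradiction
  obtain ⟨c, d, hd, hcd⟩ := IsFractionRing.div_surjective C (a • x)
  have hd0 : algebraMap C L d ≠ 0 := (map_ne_zero_iff _ hCL).mpr (nonZeroDivisors.ne_zero hd)
  have hz : d ⊗ₜ[A] y - c ⊗ₜ[A] (1 : D) = 0 := hμinj (by
    rw [map_zero, map_sub, hμ, hμ, map_one, mul_one, sub_eq_zero]
    show algebraMap C L d * (a • x) = _
    rw [← hcd, mul_div_cancel₀ _ hd0])
  have hh := congrArg (fun z => TensorProduct.rid A C (φ.lTensor C z)) hz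
  simp only [map_sub, map_zero, LinearMap.lTensor_tmul, TensorProduct.rid_tmul, hφ1, zero_smul, sub_zero] at hh
  have hh' : algebraMap A C (φ y) * d = 0 := by rw [← Algebra.smul_def]; exact hh
  rcases mul_eq_zero.mp hh' with hh'' | hh''
  · have := H05EGA4.faithfullyFlat_cpl A
    exact hφy ((map_eq_zero_iff _ (FaithfulSMul.algebraMap_injective A C)).mp hh'')
  · exact nonZeroDivisors.ne_zero hd hh''

end Groth.Agent.S5056
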