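import Groth.Statements.S5057
import Mathlib.AlgebraicGeometry.IdealSheaf.Functorial
import Mathlib.AlgebraicGeometry.Morphisms.Finite
-- import your own Groth.Agent.* helpers here

set_option autoImplicit false
open CategoryTheory CategoryTheory.Limits AlgebraicGeometry
universe u
open Hensel

namespace Groth.Agent.S5057

/-- Let i : S₀ ⟶ S be a closed immersion such that for every finite morphism g : S' ⟶ S every
open-closed subset of S' ×_S S₀ is the inverse image under the first projection of exactly one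
open-closed subset of S'. Then for every finite morphism g : S' ⟶ S, every open subset of S'
containing the image of S' ×_S S₀ is all of S'. -/
theorem result {S S₀ : Scheme.{u}} (i : S₀ ⟶ S) [IsClosedImmersion i]
    (ha : ∀ (S' : Scheme.{u}) (g : S' ⟶ S), IsFinite g →
      ∀ V : Set ↥(pullback g i), IsClopen V → ∃! U : Set ↥S', IsClopen U ∧ (pullback.fst g i).base ⁻¹' U = V)
    {S' : Scheme.{u}} (g : S' ⟶ S) [IsFinite g] (U : Set ↥S') (hU : IsOpen U)
    (hU₀ : Set.range (pullback.fst g i).base ⊆ U) : U = Set.univ := by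
  let I := Scheme.IdealSheafData.vanishingIdeal ⟨Uᶜ, hU.isClosed_compl⟩
  let ι := I.subschemeι
  have hrange : Set.range ι.base = Uᶜ := by
    exact (Scheme.IdealSheafData.range_subschemeι _).trans
      (Scheme.IdealSheafData.coe_support_vanishingIdeal _)
  have hempty : IsEmpty ↥(pullback (ι ≫ g) i) := ⟨fun x => by
    obtain ⟨y, hy⟩ : ι.base ((pullback.fst (ι ≫ g) i).base x) ∈ Set.range (pullback.fst g i).base := by
      refine ⟨(pullback.map (ι ≫ g) i g i ι (𝟙 _) (𝟙 _) (by simp) (by simp)).base x, ?_⟩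
      rw [← Scheme.Hom.comp_apply, pullback.lift_fst, Scheme.Hom.comp_apply]
    exact (hrange ▸ Set.mem_range_self _ : ι.base ((pullback.fst (ι ≫ g) i).base x) ∈ Uᶜ)
      (hy ▸ hU₀ ⟨y, rfl⟩)⟩
  obtain ⟨V, -, huniq⟩ := ha I.subscheme (ι ≫ g) inferInstance ∅ isClopen_empty
  have h1 := huniq Set.univ ⟨isClopen_univ, Subsingleton.elim _ _⟩
  have h2 := huniq ∅ ⟨isClopen_empty, Subsingleton.elim _ _⟩
  have hZ : (Set.univ : Set I.subscheme) = ∅ := h1.trans h2.symm
  rw [← Set.compl_empty_iff, ← hrange, Set.range_eq_empty_iff]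
  exact ⟨fun z => Set.eq_empty_iff_forall_notMem.mp hZ z trivial⟩

end Groth.Agent.S5057
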