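import Groth.Statements.S5058
import Groth.Agent.H7Lim.FPDescent.Noetherian
import Groth.Agent.H9Hens.LocalHens
import Groth.Agent.S0507
import Groth.Agent.S0511
-- import your own Groth.Agent.* helpers here

set_option autoImplicit false
open CategoryTheory CategoryTheory.Limits AlgebraicGeometry
universe u
open Hensel

namespace Groth.Agent.S5058

/-- Let A be a henselian local ring and f : X ⟶ Spec A a morphism of finite presentation. Then there
exist a Noetherian henselian local ring A₀, a local ring homomorphism φ : A₀ → A, a morphism of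
finite type f₀ : X₀ ⟶ Spec A₀ and a cartesian square exhibiting X as the base change of X₀ along
Spec φ. -/
theorem result (A : Type u) [CommRing A] [HenselianLocalRing A]
    {X : Scheme.{u}} (f : X ⟶ Spec (CommRingCat.of A)) [LocallyOfFinitePresentation f] [QuasiCompact f] [QuasiSeparated f] :
    ∃ (A₀ : Type u) (_ : CommRing A₀) (_ : HenselianLocalRing A₀) (_ : IsNoetherianRing A₀) (φ : A₀ →+* A) (_ : IsLocalHom φ)
      (X₀ : Scheme.{u}) (f₀ : X₀ ⟶ Spec (CommRingCat.of A₀)) (g : X ⟶ X₀),
      LocallyOfFiniteType f₀ ∧ QuasiCompact f₀ ∧ IsPullback g f f₀ (Spec.map (CommRingCat.ofHom φ)) := by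
  obtain ⟨R₀, _, _, X₀, f₀, g, hft, hfp, hqc, hqs, hpb⟩ :=
    Groth.Agent.H7Lim.FPDescent.exists_noetherian_model (R := A) f
  haveI : IsNoetherianRing R₀ := Algebra.FiniteType.isNoetherianRing ℤ R₀
  let p : Ideal R₀ := (IsLocalRing.maximalIdeal A).comap (algebraMap R₀ A)
  let Rp := Localization.AtPrime p
  let ψ : Rp →+* A := IsLocalization.lift (M := p.primeCompl) (g := algebraMap R₀ A) fun s => by
    by_contra h
    exact s.2 h
  have hψ : ∀ r, ψ (algebraMap R₀ Rp r) = algebraMap R₀ A r := IsLocalization.lift_eq _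
  haveI : IsLocalHom ψ := ⟨fun x hx => by
    obtain ⟨r, s, rfl⟩ := IsLocalization.exists_mk'_eq p.primeCompl x
    rw [IsLocalization.AtPrime.isUnit_mk'_iff Rp p]
    intro hr
    have h1 : IsUnit (ψ (IsLocalization.mk' Rp r s) * ψ (algebraMap R₀ Rp s)) :=
      hx.mul ((IsLocalization.map_units Rp s).map ψ)
    rw [← map_mul, IsLocalization.mk'_spec, hψ] at h1
    exact hr h1⟩
  haveI : IsNoetherianRing Rp := IsLocalization.isNoetherianRing p.primeCompl _ inferInstance
  obtain ⟨H, _, _, _, _, π, hπ, hH⟩ := Groth.Agent.H9Hens.exists_isHenselization_colim Rp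
  haveI := hH
  haveI := hH.henselian
  obtain ⟨φ, hφ, -⟩ := hH.universal A ψ inferInstance
  haveI : IsLocalHom φ := by
    refine ((IsLocalRing.local_hom_TFAE φ).out 0 2).2 ?_
    rw [← Groth.Agent.S0507.result Rp H, Ideal.map_map, hφ]
    exact ((IsLocalRing.local_hom_TFAE ψ).out 0 2).1 ‹IsLocalHom ψ›
  let s := Spec.map (CommRingCat.ofHom ((algebraMap Rp H).comp (algebraMap R₀ Rp)))
  have hcomp : Spec.map (CommRingCat.ofHom φ) ≫ s = Spec.map (CommRingCat.ofHom (algebraMap R₀ A)) := by
    rw [← Spec.map_comp, ← CommRingCat.ofHom_comp, ← RingHom.comp_assoc, hφ]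
    congr 2
    exact RingHom.ext hψ
  refine ⟨H, inferInstance, inferInstance, (Groth.Agent.S0511.result Rp H).1 inferInstance, φ, inferInstance,
    pullback f₀ s, pullback.snd f₀ s,
    pullback.lift g (f ≫ Spec.map (CommRingCat.ofHom φ)) (by rw [hpb.w, Category.assoc, hcomp]),
    inferInstance, inferInstance, ?_⟩
  refine IsPullback.of_right (h₁₂ := pullback.fst f₀ s) (h₂₂ := s) (v₁₃ := f₀) ?_
    (pullback.lift_snd _ _ _) (IsPullback.of_hasPullback _ _)
  rw [pullback.lift_fst, hcomp]
  exact hpb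

end Groth.Agent.S5058
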