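import Groth.Statements.S5059
import Groth.Agent.H13CInt.FlatModRegular

set_option autoImplicit false
universe u
open CInt

namespace Groth.Agent.S5059


set_option backward.isDefEq.respectTransparency false

open TensorProduct RingTheory.Sequence

theorem flat_iff {A : Type u} [CommRing A] [IsNoetherianRing A] (R : Ideal A) {n : ℕ} (f : Fin n → A)
    (hrad : ∀ i, f i ∈ (⊥ : Ideal A).jacobson)
    (hreg : IsWeaklyRegular (A ⧸ R) (List.ofFn f)) (N : Type u) [AddCommGroup N] [Module A N]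
    [Module (A ⧸ R) N] [IsScalarTower A (A ⧸ R) N] [Module.Finite A N] :
    Module.Flat (A ⧸ R) N ↔
      Module.Flat (A ⧸ (R ⊔ Ideal.span (Set.range f)))
        (N ⧸ ((R ⊔ Ideal.span (Set.range f)) • (⊤ : Submodule A N))) ∧
      IsWeaklyRegular N (List.ofFn f) := by
  set Q := R ⊔ Ideal.span (Set.range f)
  let alg : Algebra (A ⧸ R) (A ⧸ Q) := (Ideal.Quotient.factor (le_sup_left : R ≤ Q)).toAlgebra
  have : IsScalarTower A (A ⧸ R) (A ⧸ Q) := IsScalarTower.of_algebraMap_eq' rfl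
  have hsA : Function.Surjective (algebraMap A (A ⧸ R)) := Ideal.Quotient.mk_surjective
  have : CompatibleSMul A (A ⧸ R) (A ⧸ Q) N := ⟨fun b m x => by
    obtain ⟨a, rfl⟩ := hsA b
    rw [algebraMap_smul, algebraMap_smul, smul_tmul]⟩
  have : CompatibleSMul (A ⧸ R) A (A ⧸ Q) N := inferInstance
  have : Module.Finite (A ⧸ R) N := Module.Finite.of_restrictScalars_finite A _ _
  let fs := (List.ofFn f).map (algebraMap A (A ⧸ R))
  have hker : RingHom.ker (algebraMap (A ⧸ R) (A ⧸ Q)) = Ideal.ofList fs := by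
    rw [RingHom.algebraMap_toAlgebra, Ideal.Quotient.factor_ker le_sup_left]
    simp only [fs, ← Ideal.map_ofList, Ideal.Quotient.algebraMap_eq, Q, Ideal.map_sup,
      Ideal.map_quotient_self, bot_sup_eq]
    congr 2
    ext x
    simp [List.mem_ofFn]
  have hr : ∀ g ∈ fs, g ∈ (⊥ : Ideal (A ⧸ R)).jacobson := by
    intro g hg
    obtain ⟨a, ha, rfl⟩ := List.mem_map.mp hg
    obtain ⟨i, rfl⟩ := List.mem_ofFn.mp ha
    rw [Ideal.mem_jacobson_bot]
    intro y
    obtain ⟨y, rfl⟩ := hsA y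
    rw [← map_mul, ← map_one (algebraMap A (A ⧸ R)), ← map_add]
    exact ((Ideal.mem_jacobson_bot.mp (hrad i)) y).map _
  have hB : IsWeaklyRegular (A ⧸ R) fs :=
    (isWeaklyRegular_map_algebraMap_iff (A ⧸ R) (A ⧸ R) _).mpr hreg
  have hsC : Function.Surjective (algebraMap (A ⧸ R) (A ⧸ Q)) := Ideal.Quotient.factor_surjective _
  rw [H13CInt.flat_iff_flat_mod_regular N hsC fs hker hr hB,
    isWeaklyRegular_map_algebraMap_iff (A ⧸ R) N]
  let e : ((A ⧸ Q) ⊗[A ⧸ R] N) ≃ₗ[A ⧸ Q] N ⧸ (Q • (⊤ : Submodule A N)) :=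
    (TensorProduct.equivOfCompatibleSMul A (A ⧸ R) A (A ⧸ Q) N ≪≫ₗ
      TensorProduct.quotTensorEquivQuotSMul N Q).extendScalarsOfSurjective Ideal.Quotient.mk_surjective
  exact and_congr ⟨fun _ => Module.Flat.of_linearEquiv e.symm, fun _ => Module.Flat.of_linearEquiv e⟩
    Iff.rfl



/-- a) iff c) in the Noetherian case: let A be a Noetherian ring, R an ideal of A, f_1, …, f_n elements
of the Jacobson radical of A whose images form a regular sequence on A/R, Q = R + (f_1, …, f_n), and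
M a finitely generated A-module. Then every graded piece R^k M / R^(k+1) M is flat over A/R if and
only if, for every k, (R^k M / R^(k+1) M) ⊗ A/Q is flat over A/Q and f_1, …, f_n is a regular
sequence on R^k M / R^(k+1) M. -/
theorem result (A : Type u) [CommRing A] [IsNoetherianRing A]
    (R : Ideal A) {n : ℕ} (f : Fin n → A) (hrad : ∀ i, f i ∈ (⊥ : Ideal A).jacobson)
    (hreg : RingTheory.Sequence.IsWeaklyRegular (A ⧸ R) (List.ofFn f))
    (M : Type u) [AddCommGroup M] [Module A M] [Module.Finite A M] :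
    EGA4.IsNormallyFlat R M ↔
      ∀ k : ℕ, Module.Flat (A ⧸ (R ⊔ Ideal.span (Set.range f))) ((↥(R ^ k • (⊤ : Submodule A M)) ⧸ (R • (⊤ : Submodule A ↥(R ^ k • (⊤ : Submodule A M))))) ⧸ ((R ⊔ Ideal.span (Set.range f)) • (⊤ : Submodule A (↥(R ^ k • (⊤ : Submodule A M)) ⧸ (R • (⊤ : Submodule A ↥(R ^ k • (⊤ : Submodule A M)))))))) ∧
        RingTheory.Sequence.IsWeaklyRegular (↥(R ^ k • (⊤ : Submodule A M)) ⧸ (R • (⊤ : Submodule A ↥(R ^ k • (⊤ : Submodule A M))))) (List.ofFn f) := by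
  refine forall_congr' fun k => ?_
  exact flat_iff R f hrad hreg _

end Groth.Agent.S5059
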