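import Groth.Statements.S5063
import Groth.Agent.H9Hens.EtaleSplitNbhd
import Groth.Agent.H06EGA9.UnramifiedLocus

set_option autoImplicit false
open CategoryTheory CategoryTheory.Limits AlgebraicGeometry
universe u
open Unram

namespace Groth.Agent.S5063

open Groth.Agent
set_option linter.style.haveILetI false
set_option backward.isDefEq.respectTransparency false

/-- Let f : X ⟶ Y be locally of finite presentation. If f is unramified then there are étale morphisms
g_a : Y'_a ⟶ Y and opens U_a of the fibre products X ×_Y Y'_a whose images under the first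
projections cover X, such that each U_a ⟶ Y'_a (inclusion followed by the second projection) is a
closed immersion. Conversely, the existence of such a family with the g_a only assumed flat implies
that f is unramified. -/
theorem result {X Y : Scheme.{u}} (f : X ⟶ Y) [LocallyOfFinitePresentation f] :
    (FormallyUnramified f → ∃ (ι : Type u) (Y' : ι → Scheme.{u}) (g : ∀ a, Y' a ⟶ Y) (U : ∀ a, (pullback f (g a)).Opens),
      (∀ a, Etale (g a)) ∧ (∀ x : X, ∃ a, x ∈ (pullback.fst f (g a)).base '' (U a : Set ↥(pullback f (g a)))) ∧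
        ∀ a, IsClosedImmersion ((U a).ι ≫ pullback.snd f (g a))) ∧
    ((∃ (ι : Type u) (Y' : ι → Scheme.{u}) (g : ∀ a, Y' a ⟶ Y) (U : ∀ a, (pullback f (g a)).Opens),
      (∀ a, Flat (g a)) ∧ (∀ x : X, ∃ a, x ∈ (pullback.fst f (g a)).base '' (U a : Set ↥(pullback f (g a)))) ∧
        ∀ a, IsClosedImmersion ((U a).ι ≫ pullback.snd f (g a))) → FormallyUnramified f) := by
  refine ⟨fun hf => ?_, ?_⟩
  · haveI := hf
    choose U g w₀ hg hw hfin hV using fun x : X =>
      H9Hens.exists_charts_of_formallyUnramified f (f x) (ι := PUnit) (fun _ => x) (fun _ => rfl)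
    choose v hv₁ hv₂ using fun x : X => Scheme.Pullback.exists_preimage_pullback (f := f) (g := g x) x (w₀ x) (hw x).symm
    choose V hvV hVc using fun x : X => hV x (v x) (hv₂ x) ⟨⟨⟩, hv₁ x⟩
    exact ⟨X, U, g, V, hg, fun x => ⟨x, v x, hvV x, hv₁ x⟩, hVc⟩
  · rintro ⟨ι, Y', g, U, -, hcov, hU⟩
    refine (H06EGA9.formallyUnramified_iff_unramSet f).2 (Set.eq_univ_of_forall fun x => ?_)
    obtain ⟨a, v, hv, rfl⟩ := hcov x
    haveI := hU a
    refine (H06EGA9.mem_unramSet_baseChange_iff f (IsPullback.of_hasPullback f (g a)) v).1 ?_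
    exact (H17.LocusBC.formallyUnramified_stalkMap_comp_iff (U a).ι (pullback.snd f (g a)) (𝟙 _) _
      (Category.comp_id _) ⟨v, hv⟩).1 (FormallyUnramified.stalkMap _ _)

end Groth.Agent.S5063
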