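import Groth.Statements.S5064
import Groth.Agent.H06EGA9.AtPoint

set_option autoImplicit false
open CategoryTheory CategoryTheory.Limits AlgebraicGeometry
universe u
open Unram

namespace Groth.Agent.S5064

set_option linter.style.haveILetI false

/-- Let f : X ⟶ Y be locally of finite presentation. If f is étale then there are étale morphisms g_a :
Y'_a ⟶ Y and opens U_a of the fibre products X ×_Y Y'_a whose images under the first projections
cover X, such that each U_a ⟶ Y'_a (inclusion followed by the second projection) is an open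
immersion. Conversely, the existence of such a family with the g_a only assumed flat implies that f
is étale. -/
theorem result {X Y : Scheme.{u}} (f : X ⟶ Y) [LocallyOfFinitePresentation f] :
    (Etale f → ∃ (ι : Type u) (Y' : ι → Scheme.{u}) (g : ∀ a, Y' a ⟶ Y) (U : ∀ a, (pullback f (g a)).Opens),
      (∀ a, Etale (g a)) ∧ (∀ x : X, ∃ a, x ∈ (pullback.fst f (g a)).base '' (U a : Set ↥(pullback f (g a)))) ∧
        ∀ a, IsOpenImmersion ((U a).ι ≫ pullback.snd f (g a))) ∧
    ((∃ (ι : Type u) (Y' : ι → Scheme.{u}) (g : ∀ a, Y' a ⟶ Y) (U : ∀ a, (pullback f (g a)).Opens),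
      (∀ a, Flat (g a)) ∧ (∀ x : X, ∃ a, x ∈ (pullback.fst f (g a)).base '' (U a : Set ↥(pullback f (g a)))) ∧
        ∀ a, IsOpenImmersion ((U a).ι ≫ pullback.snd f (g a))) → Etale f) := by
  constructor
  · intro hf
    haveI := hf
    refine ⟨PUnit, fun _ => X, fun _ => f, fun _ => (pullback.diagonal f).opensRange, fun _ => hf, fun x => ?_,
      fun _ => ?_⟩
    · exact ⟨⟨⟩, pullback.diagonal f x, ⟨x, rfl⟩, by rw [← Scheme.Hom.comp_apply, pullback.diagonal_fst]; rfl⟩
    · have e : (pullback.diagonal f).opensRange.ι ≫ pullback.snd f f = (pullback.diagonal f).isoOpensRange.inv := by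
        rw [← Iso.inv_hom_id_assoc (pullback.diagonal f).isoOpensRange
          ((pullback.diagonal f).opensRange.ι ≫ pullback.snd f f), Scheme.Hom.isoOpensRange_hom_ι_assoc,
          pullback.diagonal_snd, Category.comp_id]
      rw [e]; infer_instance
  · rintro ⟨ι, Y', g, U, hg, hcov, hU⟩
    have key : ∀ x : X, ∃ V : X.Opens, x ∈ V ∧ Etale (V.ι ≫ f) := by
      intro x
      obtain ⟨a, z, hz, rfl⟩ := hcov x
      haveI := hg a
      haveI := hU a
      have hpb := IsPullback.of_hasPullback f (g a)
      haveI : LocallyOfFinitePresentation (pullback.snd f (g a)) :=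
        MorphismProperty.of_isPullback (P := @LocallyOfFinitePresentation) hpb inferInstance
      obtain ⟨V, hV, hVu⟩ := H17.LocusBC.exists_formallyUnramified_of_baseChange hpb z (U a) hz
      exact (H06EGA9.exists_etale_iff f _).mpr
        ⟨H17.LocusBC.mem_smoothLocus_of_flat_baseChange hpb z
          (H17.LocusBC.subset_smoothLocus_of_smooth (pullback.snd f (g a)) (U a) hz),
          (H06EGA9.exists_formallyUnramified_iff f _).mp ⟨V, hV, hVu⟩⟩
    choose V hxV hV using key
    haveI : IsZariskiLocalAtSource @Etale.{u} :=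
      HasRingHomProperty.instIsZariskiLocalAtSource (Q := fun {R S} [CommRing R] [CommRing S] (φ : R →+* S) => RingHom.Etale φ)
    exact IsZariskiLocalAtSource.of_openCover (P := @Etale.{u}) (X.openCoverOfIsOpenCover V
      (eq_top_iff.mpr fun x _ => TopologicalSpace.Opens.mem_iSup.mpr ⟨x, hxV x⟩)) fun x => hV x

end Groth.Agent.S5064
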