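import Groth.Statements.S5065
import Groth.Agent.H18Et.EtaleNormal
import Mathlib.RingTheory.Etale.Basic
import Mathlib.RingTheory.SimpleModule.Basic
import Mathlib.RingTheory.Localization.Away.Basic
import Mathlib.RingTheory.TensorProduct.Maps

set_option autoImplicit false
universe u
open Unram

open scoped TensorProduct

namespace Groth.Agent.S5065

/-- The integral closure in a field reached from a reduced Artinian ring `W` containing `T` as the
elements integral over `R`. -/
theorem key {R T W F : Type u} [CommRing R] [CommRing T] [CommRing W] [Field F] [Algebra R T] [Algebra R W]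
    [Algebra R F] [IsArtinianRing W] [IsReduced W] [Algebra.IsIntegral R T]
    (j : T →ₐ[R] W) (hj : Function.Injective j) (hint : ∀ y : W, IsIntegral R y → ∃ t, j t = y)
    (φ : T →ₐ[R] F) (ψ : W →ₐ[R] F) (hψj : ∀ t, ψ (j t) = φ t)
    (hgen : ∀ S : Subfield F, Set.range (algebraMap R F) ⊆ S → Set.range φ ⊆ S → S = ⊤) :
    integralClosure R F = φ.range ∧ ∃ e : T, IsIdempotentElem e ∧ RingHom.ker φ = Ideal.span {e} := by
  classical
  haveI : IsSemisimpleRing W := IsArtinianRing.isSemisimpleRing_of_isReduced W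
  have hinv : ∀ y : W, (ψ y)⁻¹ ∈ ψ.range := fun y => by
    obtain ⟨e, he, hye⟩ := IsSemisimpleRing.ideal_eq_span_idempotent (Ideal.span {y})
    obtain ⟨a, ha⟩ := Ideal.mem_span_singleton'.1 (hye.le (Ideal.mem_span_singleton_self y))
    obtain ⟨b, hb⟩ := Ideal.mem_span_singleton'.1 (hye.ge (Ideal.mem_span_singleton_self e))
    have hee : e * e = e := he
    have h : y * b * y = y := by linear_combination y * hb + (1 - e) * ha + a * hee
    rcases eq_or_ne (ψ y) 0 with h0 | h0
    · rw [h0, inv_zero]; exact zero_mem _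
    refine ⟨b, eq_inv_of_mul_eq_one_left (mul_left_cancel₀ h0 ?_)⟩
    change ψ y * (ψ b * ψ y) = ψ y * 1
    rw [mul_one, ← mul_assoc, ← map_mul, ← map_mul, h]
  let S : Subfield F :=
    { ψ.range.toSubring with
      inv_mem' := fun x hx => by obtain ⟨y, rfl⟩ := hx; exact hinv y }
  have hψ : Function.Surjective ψ := fun z => by
    have hS : S = ⊤ := hgen S (by rintro _ ⟨a, rfl⟩; exact ψ.range.algebraMap_mem a)
      (by rintro _ ⟨t, rfl⟩; exact ⟨j t, hψj t⟩)
    have h1 : z ∈ S := hS ▸ Subfield.mem_top z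
    exact h1
  obtain ⟨e, he, hker⟩ := IsSemisimpleRing.ideal_eq_span_idempotent (RingHom.ker ψ)
  have hee : e * e = e := he
  have hψe : ψ e = 0 := RingHom.mem_ker.1 (hker.ge (Ideal.mem_span_singleton_self e))
  refine ⟨le_antisymm (fun z hz => ?_) ?_, ?_⟩
  · obtain ⟨y, rfl⟩ := hψ z
    obtain ⟨p, hp, hpz⟩ := hz
    have hy' : ψ (y * (1 - e)) = ψ y := by simp [hψe]
    have h0 : Polynomial.aeval (y * (1 - e)) (Polynomial.X * p) = 0 := by
      have h1 : Polynomial.aeval (y * (1 - e)) p ∈ Ideal.span {e} := by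
        rw [← hker, RingHom.mem_ker, ← Polynomial.aeval_algHom_apply, hy']
        exact hpz
      obtain ⟨a, ha⟩ := Ideal.mem_span_singleton'.1 h1
      rw [map_mul, Polynomial.aeval_X, ← ha]
      linear_combination (-(y * a)) * hee
    obtain ⟨t, ht⟩ := hint (y * (1 - e)) ⟨_, Polynomial.monic_X.mul hp, h0⟩
    exact ⟨t, by change φ t = ψ y; rw [← hy', ← ht, hψj]⟩
  · rintro _ ⟨t, rfl⟩
    exact (Algebra.IsIntegral.isIntegral t).map φ
  · have hei : IsIntegral R e := ⟨Polynomial.X ^ 2 - Polynomial.X,
      Polynomial.monic_X_pow_sub (lt_of_le_of_lt Polynomial.degree_X_le (by norm_num)), by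
        simp [pow_two, hee]⟩
    obtain ⟨e₀, he₀⟩ := hint e hei
    refine ⟨e₀, hj (by rw [map_mul, he₀, hee]), le_antisymm (fun t ht => ?_) ?_⟩
    · have h1 : j t ∈ Ideal.span {e} := by
        rw [← hker, RingHom.mem_ker, hψj]
        exact ht
      obtain ⟨a, ha⟩ := Ideal.mem_span_singleton'.1 h1
      have h2 : t = e₀ * t := hj (by rw [map_mul, he₀, ← ha]; linear_combination (-a) * hee)
      rw [h2]
      exact Ideal.mul_mem_right _ _ (Ideal.mem_span_singleton_self _)
    · rw [Ideal.span_le, Set.singleton_subset_iff, SetLike.mem_coe, RingHom.mem_ker, ← hψj, he₀, hψe]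

set_option backward.isDefEq.respectTransparency false in
/-- An étale algebra over a normal domain sits in a reduced Artinian ring as the integral elements. -/
theorem artinian_hull (R K T : Type u) [CommRing R] [IsDomain R] [IsIntegrallyClosed R] [Field K] [Algebra R K]
    [IsFractionRing R K] [CommRing T] [Algebra R T] [Algebra.Etale R T] :
    IsArtinianRing (T ⊗[R] K) ∧ IsReduced (T ⊗[R] K) ∧
      Function.Injective (Algebra.TensorProduct.includeLeft (S := R) : T →ₐ[R] T ⊗[R] K) ∧
      ∀ y : T ⊗[R] K, IsIntegral R y →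
        ∃ t, (Algebra.TensorProduct.includeLeft (S := R) : T →ₐ[R] T ⊗[R] K) t = y := by
  have : Algebra.FormallyUnramified K (K ⊗[R] T) := inferInstance
  have : Module.Finite K (K ⊗[R] T) := Algebra.FormallyUnramified.finite_of_free K _
  have : IsArtinianRing (K ⊗[R] T) := isArtinian_of_tower K inferInstance
  have : IsReduced (K ⊗[R] T) := Algebra.FormallyUnramified.isReduced_of_field K _
  let c := (Algebra.TensorProduct.comm R T K).toRingEquiv
  have h1 : IsReduced (T ⊗[R] K) := isReduced_of_injective c c.injective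
  have h2 : IsArtinianRing (T ⊗[R] K) :=
    Function.Surjective.isArtinianRing (f := (c.symm : K ⊗[R] T →+* T ⊗[R] K)) c.symm.surjective
  exact ⟨h2, h1, H9Hens.includeLeft_injective_of_flat R K T,
    fun y hy => H9Hens.exists_eq_tmul_one_of_isIntegral R K T hy.tower_top⟩

theorem etale_range {R T F : Type u} [CommRing R] [CommRing T] [Field F] [Algebra R T] [Algebra R F]
    [Algebra.Etale R T] (φ : T →ₐ[R] F) (e : T) (he : IsIdempotentElem e)
    (hI : RingHom.ker φ = Ideal.span {e}) : Algebra.Etale R φ.range := by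
  haveI : IsLocalization.Away (1 - e) (T ⧸ RingHom.ker φ) :=
    IsLocalization.away_of_isIdempotentElem he.one_sub
      (by rw [Ideal.Quotient.algebraMap_eq, Ideal.mk_ker, hI, sub_sub_cancel]) Ideal.Quotient.mk_surjective
  haveI : Algebra.Etale T (T ⧸ RingHom.ker φ) := Algebra.Etale.of_isLocalizationAway (1 - e)
  haveI : Algebra.Etale R (T ⧸ RingHom.ker φ) := Algebra.Etale.comp R T _
  exact Algebra.Etale.of_equiv (Ideal.quotientKerEquivRange φ)

theorem main (A A' L L₁ : Type u) [CommRing A] [IsDomain A]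
    [IsIntegrallyClosed A] [CommRing A'] [IsDomain A'] [IsIntegrallyClosed A'] [Algebra A A']
    [Field L] [Algebra A L] [Algebra.IsAlgebraic A L] (hinj : Function.Injective (algebraMap A L))
    [Algebra.Etale A ↥(integralClosure A L)]
    [Field L₁] [Algebra A' L₁] [Algebra L L₁] [Algebra A L₁] [IsScalarTower A A' L₁] [IsScalarTower A L L₁]
    (hinj' : Function.Injective (algebraMap A' L₁))
    (hgen : Subfield.closure (Set.range (algebraMap A' L₁) ∪ Set.range (algebraMap L L₁)) = ⊤) :
    Algebra.Etale A' ↥(integralClosure A' L₁) ∧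
      integralClosure A' L₁ = Algebra.adjoin A' ((algebraMap L L₁) '' {x : L | IsIntegral A x}) := by
  classical
  let φ : A' ⊗[A] ↥(integralClosure A L) →ₐ[A'] L₁ := Algebra.TensorProduct.lift (Algebra.ofId A' L₁)
    ((IsScalarTower.toAlgHom A L L₁).comp (integralClosure A L).val) fun _ _ => Commute.all _ _
  haveI : FaithfulSMul A' L₁ := (faithfulSMul_iff_algebraMap_injective _ _).2 hinj'
  letI : Algebra (FractionRing A') L₁ := FractionRing.liftAlgebra A' L₁
  let ψ : (A' ⊗[A] ↥(integralClosure A L)) ⊗[A'] FractionRing A' →ₐ[A'] L₁ :=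
    Algebra.TensorProduct.lift φ (IsScalarTower.toAlgHom A' (FractionRing A') L₁) fun _ _ => Commute.all _ _
  haveI : Algebra.IsIntegral A ↥(integralClosure A L) :=
    ⟨fun x => (isIntegral_algHom_iff (integralClosure A L).val Subtype.val_injective).1 x.2⟩
  haveI : Algebra.IsIntegral A' (A' ⊗[A] ↥(integralClosure A L)) := Algebra.IsIntegral.tensorProduct ..
  obtain ⟨h2, h1, hj, hint⟩ := artinian_hull A' (FractionRing A') (A' ⊗[A] ↥(integralClosure A L))
  have hS : ∀ S : Subfield L₁, Set.range (algebraMap A' L₁) ⊆ S → Set.range φ ⊆ S → S = ⊤ := by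
    intro S hS₁ hS₂
    refine eq_top_iff.2 (hgen.ge.trans (Subfield.closure_le.2 (Set.union_subset hS₁ ?_)))
    rintro _ ⟨x, rfl⟩
    obtain ⟨a, ha, hax⟩ := (Algebra.IsAlgebraic.isAlgebraic (R := A) x).exists_integral_multiple
    have hA : algebraMap A L a ≠ 0 := fun h => ha (hinj (h.trans (map_zero _).symm))
    have h1 : algebraMap L L₁ (a • x) ∈ S :=
      hS₂ ⟨(1 : A') ⊗ₜ (⟨a • x, hax⟩ : ↥(integralClosure A L)), by simp [φ]⟩
    have h2 : algebraMap L L₁ (algebraMap A L a) ∈ S := by
      rw [← IsScalarTower.algebraMap_apply, IsScalarTower.algebraMap_apply A A' L₁]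
      exact hS₁ ⟨_, rfl⟩
    rw [show algebraMap L L₁ x = (algebraMap L L₁ (algebraMap A L a))⁻¹ * algebraMap L L₁ (a • x) by
      rw [Algebra.smul_def, map_mul, inv_mul_cancel_left₀ ((map_ne_zero _).2 hA)]]
    exact S.mul_mem (S.inv_mem h2) h1
  obtain ⟨hrange, e₀, he₀, hI⟩ :=
    key (R := A') (T := A' ⊗[A] ↥(integralClosure A L))
      (W := (A' ⊗[A] ↥(integralClosure A L)) ⊗[A'] FractionRing A') (F := L₁)
      (Algebra.TensorProduct.includeLeft (S := A')) hj hint φ ψ (fun t => by simp [ψ])
      hS
  have hadj : φ.range = Algebra.adjoin A' ((algebraMap L L₁) '' {x : L | IsIntegral A x}) := by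
    refine le_antisymm ?_ (Algebra.adjoin_le ?_)
    · rintro _ ⟨t, rfl⟩
      induction t using TensorProduct.induction_on with
      | zero => exact (map_zero φ).symm ▸ zero_mem _
      | tmul a x =>
        show φ (a ⊗ₜ x) ∈ _
        rw [show φ (a ⊗ₜ x) = algebraMap A' L₁ a * algebraMap L L₁ (x : L) by simp [φ]]
        exact mul_mem (Subalgebra.algebraMap_mem _ a) (Algebra.subset_adjoin ⟨_, x.2, rfl⟩)
      | add t t' h h' => exact (map_add φ t t').symm ▸ add_mem h h'
    · rintro _ ⟨x, hx, rfl⟩
      exact ⟨(1 : A') ⊗ₜ (⟨x, hx⟩ : ↥(integralClosure A L)), by simp [φ]⟩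
  refine ⟨?_, hrange.trans hadj⟩
  haveI := etale_range φ e₀ he₀ hI
  exact Algebra.Etale.of_equiv (Subalgebra.equivOfEq _ _ hrange.symm)

/-- Let A ⊆ A' be integrally closed domains, L a field algebraic over the fraction field of A in which A
embeds and whose integral closure C over A is an étale A-algebra, and L₁ a field in which A' and L
both embed, compatibly over A, and which is generated as a field by the images of A' and L (a
compositum of L with the fraction field of A'; the map A' → L₁ is injective, so that the fraction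
field of A' is a subfield of L₁). Then the integral closure of A' in L₁ is an étale A'-algebra and
coincides with the A'-subalgebra generated by the image of C. -/
theorem result (A A' L L₁ : Type u) [CommRing A] [IsDomain A]
    [IsIntegrallyClosed A] [CommRing A'] [IsDomain A'] [IsIntegrallyClosed A'] [Algebra A A']
    [Field L] [Algebra A L] [Algebra.IsAlgebraic A L] (hinj : Function.Injective (algebraMap A L))
    [Algebra.Etale A ↥(integralClosure A L)]
    [Field L₁] [Algebra A' L₁] [Algebra L L₁] [Algebra A L₁] [IsScalarTower A A' L₁] [IsScalarTower A L L₁]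
    (hinj' : Function.Injective (algebraMap A' L₁))
    (hgen : Subfield.closure (Set.range (algebraMap A' L₁) ∪ Set.range (algebraMap L L₁)) = ⊤) :
    Algebra.Etale A' ↥(integralClosure A' L₁) ∧
      integralClosure A' L₁ = Algebra.adjoin A' ((algebraMap L L₁) '' {x : L | IsIntegral A x}) := by
  classical
  exact main A A' L L₁ hinj hinj' hgen

end Groth.Agent.S5065
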