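import Groth.Statements.S5066
import Groth.Agent.H9Hens.Local
import Groth.Agent.H9Hens.PairOps
-- import your own Groth.Agent.* helpers here

set_option autoImplicit false
universe u
open Hensel

namespace Groth.Agent.S5066

/-- Case of a local ring, affine étale schemes: a local ring A with maximal ideal m is henselian if and
only if, for every finite A-algebra C and every étale A-algebra E, composing with the projection C →
C/mC is a bijection from the set of A-algebra homomorphisms E → C onto the set of A-algebra
homomorphisms E → C/mC. -/
theorem result (A : Type u) [CommRing A] [IsLocalRing A] :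
    HenselianLocalRing A ↔
      ∀ (C : Type u) [CommRing C] [Algebra A C] [Module.Finite A C] (E : Type u) [CommRing E] [Algebra A E] [Algebra.Etale A E],
        Function.Bijective (fun φ : E →ₐ[A] C =>
          (Ideal.Quotient.mkₐ A (Ideal.map (algebraMap A C) (IsLocalRing.maximalIdeal A))).comp φ) := by
  refine ⟨fun h C _ _ _ E _ _ _ => ?_, fun h => ?_⟩
  · have : HenselianRing A (IsLocalRing.maximalIdeal A) := inferInstance
    have : HenselianRing C ((IsLocalRing.maximalIdeal A).map (algebraMap A C)) :=
      H9Hens.henselianRing_of_isIntegral C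
    refine ⟨fun φ φ' hφ => (H9Hens.existsUnique_algHom_lift_rel _).unique hφ rfl, fun σ => ?_⟩
    obtain ⟨τ, hτ, -⟩ := H9Hens.existsUnique_algHom_lift_rel σ
    exact ⟨τ, hτ⟩
  · have : HenselianRing A (IsLocalRing.maximalIdeal A) := H9Hens.henselianRing_of_lift fun S _ _ _ σ => by
      have hm : IsLocalRing.maximalIdeal A = (IsLocalRing.maximalIdeal A).map (algebraMap A A) := by
        simp
      let q : (A ⧸ IsLocalRing.maximalIdeal A) ≃ₐ[A]
          A ⧸ (IsLocalRing.maximalIdeal A).map (algebraMap A A) := Ideal.quotientEquivAlgOfEq A hm
      obtain ⟨τ, hτ⟩ := (h A S).2 (q.toAlgHom.comp σ)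
      refine ⟨τ, AlgHom.ext fun y => q.injective ?_⟩
      exact DFunLike.congr_fun hτ y
    exact H9Hens.henselianLocalRing_of_henselianRing

end Groth.Agent.S5066
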