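import Groth.Statements.S5067
import Groth.Agent.H06Unram.SmoothQF
import Mathlib.AlgebraicGeometry.Morphisms.FlatMono
import Mathlib.AlgebraicGeometry.Morphisms.QuasiFinite
import Mathlib.AlgebraicGeometry.Morphisms.Etale
import Mathlib.AlgebraicGeometry.Morphisms.UniversallyOpen


set_option autoImplicit false
open CategoryTheory AlgebraicGeometry
universe u
open Unram

namespace Groth.Agent.S5067

/-- Let f : X ⟶ Y be an étale separated morphism of integral schemes which maps the generic point of X
to the generic point of Y and induces a bijection between the residue fields of the generic points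
(f is birational). Then f is an open immersion. -/
theorem result {X Y : Scheme.{u}} [IsIntegral X] [IsIntegral Y]
    (f : X ⟶ Y) [Etale f] [IsSeparated f] (hgen : f.base (genericPoint X) = genericPoint Y)
    (hbir : Function.Bijective (f.residueFieldMap (genericPoint X)).hom) : IsOpenImmersion f := by
  classical
  suffices Mono f from IsOpenImmersion.of_flat_of_mono f
  rw [← Limits.pullback.isIso_diagonal_iff]
  let ξ := genericPoint X
  haveI hiso : IsIso (f.residueFieldMap ξ) := by
    haveI := (ConcreteCategory.isIso_iff_bijective (f.residueFieldMap ξ)).mpr hbir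
    infer_instance
  have honly : ∀ x : X, f.base x = genericPoint Y → x = ξ := by
    intro x hx
    haveI : LocallyQuasiFinite f := ((H06Unram.etale_iff_smooth_and_locallyQuasiFinite f).mp inferInstance).2
    haveI : DiscreteTopology ↥(f.base ⁻¹' {genericPoint Y}) :=
      isDiscrete_iff_discreteTopology.mp (f.isDiscrete_preimage_singleton (genericPoint Y))
    have h1 : (⟨ξ, hgen⟩ : ↥(f.base ⁻¹' {genericPoint Y})) ⤳ ⟨x, hx⟩ :=
      (subtype_specializes_iff _ _).2 ((genericPoint_spec X).specializes trivial)
    exact (congrArg Subtype.val (specializes_iff_eq.mp h1)).symm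
  have key : ∀ (L : CommRingCat.{u}) (x y : X) (_ : x = ξ) (_ : y = ξ) (r : X.residueField x ⟶ L)
      (s : X.residueField y ⟶ L),
      (Spec.map r ≫ X.fromSpecResidueField x) ≫ f = (Spec.map s ≫ X.fromSpecResidueField y) ≫ f →
      Spec.map r ≫ X.fromSpecResidueField x = Spec.map s ≫ X.fromSpecResidueField y := by
    intro L x y hx hy r s h
    subst hx hy
    rw [Category.assoc, Category.assoc, ← Scheme.Hom.SpecMap_residueFieldMap_fromSpecResidueField,
      ← Category.assoc, ← Category.assoc, cancel_mono, ← Spec.map_comp, ← Spec.map_comp,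
      Spec.map_inj, cancel_epi] at h
    rw [h]
  let Δ := Limits.pullback.diagonal f
  have hsurj : Function.Surjective Δ.base := by
    by_contra hns
    obtain ⟨z, hz⟩ := not_forall.mp hns
    let U : Set ↥(Limits.pullback f f) := (Set.range Δ.base)ᶜ
    have hU : IsOpen U := (Δ.isClosedEmbedding.isClosed_range).isOpen_compl
    let g := Limits.pullback.fst f f ≫ f
    have hW : IsOpen (g.base '' U) := g.isOpenMap _ hU
    obtain ⟨w, hw, hgw⟩ : genericPoint Y ∈ g.base '' U :=
      (genericPoint_specializes _).mem_open hW ⟨z, by simpa [U] using hz, rfl⟩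
    refine hw ?_
    have hp1 : (Limits.pullback.fst f f).base w = ξ := honly _ hgw
    have hp2 : (Limits.pullback.snd f f).base w = ξ := honly _ (by
      rw [← hgw]; simp only [g, Limits.pullback.condition, Scheme.Hom.comp_base]; rfl)
    let P := Limits.pullback f f
    let a := P.fromSpecResidueField w
    have e1 : a ≫ Limits.pullback.fst f f = Spec.map ((Limits.pullback.fst f f).residueFieldMap w) ≫
        X.fromSpecResidueField _ :=
      (Scheme.Hom.SpecMap_residueFieldMap_fromSpecResidueField _ _).symm
    have e2 : a ≫ Limits.pullback.snd f f = Spec.map ((Limits.pullback.snd f f).residueFieldMap w) ≫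
        X.fromSpecResidueField _ :=
      (Scheme.Hom.SpecMap_residueFieldMap_fromSpecResidueField _ _).symm
    have h12 : a ≫ Limits.pullback.fst f f = a ≫ Limits.pullback.snd f f := by
      rw [e1, e2]
      refine key _ _ _ hp1 hp2 _ _ ?_
      rw [← e1, ← e2, Category.assoc, Category.assoc, Limits.pullback.condition]
    have : a = (a ≫ Limits.pullback.fst f f) ≫ Δ := by
      apply Limits.pullback.hom_ext <;> simp [Δ, h12]
    obtain ⟨pt⟩ : Nonempty ↥(Spec (P.residueField w)) := inferInstance
    refine ⟨(a ≫ Limits.pullback.fst f f).base pt, ?_⟩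
    have h2 := congrArg (fun m => m.base pt) this.symm
    simpa [a, Scheme.fromSpecResidueField_apply] using h2
  haveI : Surjective Δ := ⟨hsurj⟩
  haveI : Epi Δ.base := (TopCat.epi_iff_surjective _).mpr hsurj
  exact IsOpenImmersion.isIso Δ

end Groth.Agent.S5067
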