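import Groth.Statements.S5068
import Groth.Agent.H13CI.TransReg

set_option autoImplicit false
universe u
open CInt

namespace Groth.Agent.S5068

/-- Suppose A and C are Noetherian local rings joined by a flat local homomorphism A → C whose closed
fibre C/m_A C is a regular local ring, and consider a local ring B obtained as a quotient of C by an
ideal J (encoded as a surjective C-algebra B, with J taken to be the kernel). The ideal J admits a
generating sequence that is transversally regular relative to A (each term a non-zero-divisor modulo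
the previous ones, and every partial quotient C/(f_1, …, f_j) A-flat) exactly when two things hold:
B is A-flat, and B/m_A B is a complete intersection (meaning its completion is a regular local ring
divided by a regular sequence). -/
theorem result (A C B : Type u) [CommRing A] [IsLocalRing A]
    [IsNoetherianRing A] [CommRing C] [IsLocalRing C] [IsNoetherianRing C] [Algebra A C] [IsLocalHom (algebraMap A C)]
    [Module.Flat A C] (hreg : IsRegularLocalRing (EGA4.FibRing A C))
    [CommRing B] [IsLocalRing B] [Algebra C B] [Algebra A B] [IsScalarTower A C B] [IsLocalHom (algebraMap A B)]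
    (hsurj : Function.Surjective (algebraMap C B)) :
    (∃ rs : List C, Ideal.ofList rs = RingHom.ker (algebraMap C B) ∧ RegImm.IsTransRegularSeq A C rs) ↔
      (Module.Flat A B ∧ Pi1.IsCompleteIntersection (EGA4.FibRing A B)) := by
  classical
  open IsLocalRing in
  haveI := hreg
  haveI : IsNoetherianRing B := isNoetherianRing_of_surjective C B _ hsurj
  haveI : IsLocalHom (algebraMap C B) := hsurj.isLocalHom _
  let mC : Ideal C := EGA4.mB A C
  let mB' : Ideal B := EGA4.mB A B
  have hmap : mC.map (algebraMap C B) = mB' := by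
    show ((IsLocalRing.maximalIdeal A).map _).map _ = _
    rw [Ideal.map_map, ← IsScalarTower.algebraMap_eq]
  let gbar : EGA4.FibRing A C →+* EGA4.FibRing A B :=
    Ideal.quotientMap mB' (algebraMap C B) (Ideal.map_le_iff_le_comap.mp hmap.le)
  have hgbar : Function.Surjective gbar := Ideal.quotientMap_surjective hsurj
  let J := RingHom.ker (algebraMap C B)
  have hkbar : RingHom.ker gbar = J.map (Ideal.Quotient.mk mC) := by
    refine le_antisymm (fun z hz => ?_) (Ideal.map_le_iff_le_comap.mpr fun s hs => ?_)
    · obtain ⟨s, rfl⟩ := Ideal.Quotient.mk_surjective z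
      rw [RingHom.mem_ker, show gbar (Ideal.Quotient.mk mC s) = Ideal.Quotient.mk mB' (algebraMap C B s) from rfl,
        Ideal.Quotient.eq_zero_iff_mem, ← hmap] at hz
      obtain ⟨t, ht, hts⟩ := (Ideal.mem_map_iff_of_surjective _ hsurj).mp hz
      rw [show Ideal.Quotient.mk mC s = Ideal.Quotient.mk mC (s - t) by
        rw [map_sub, Ideal.Quotient.eq_zero_iff_mem.mpr ht, sub_zero]]
      exact Ideal.mem_map_of_mem _ (by rw [RingHom.mem_ker, map_sub, hts, sub_self])
    · show gbar (Ideal.Quotient.mk mC s) = 0
      rw [show gbar (Ideal.Quotient.mk mC s) = Ideal.Quotient.mk mB' (algebraMap C B s) from rfl,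
        RingHom.mem_ker.mp hs, map_zero]
  haveI : IsNoetherianRing (EGA4.FibRing A B) := inferInstance
  rw [Groth.Agent.H13CI.isCI_iff gbar hgbar]
  constructor
  · rintro ⟨rs, hrs, hwreg, hflat⟩
    have hmem : ∀ r ∈ rs, r ∈ IsLocalRing.maximalIdeal C := fun r hr =>
      IsLocalRing.le_maximalIdeal (RingHom.ker_ne_top _) (hrs.le (Ideal.subset_span hr))
    let eB : (C ⧸ Ideal.ofList rs) ≃ₐ[A] B :=
      ((Ideal.quotientEquivAlgOfEq C hrs).restrictScalars A).trans
        ((Ideal.quotientKerAlgEquivOfSurjective (f := Algebra.ofId C B) hsurj).restrictScalars A)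
    haveI : Module.Flat A (C ⧸ Ideal.ofList rs) := by
      have := hflat rs.length le_rfl
      rwa [List.take_length] at this
    haveI : Module.Flat A B := Module.Flat.of_linearEquiv eB.symm.toLinearEquiv
    refine ⟨inferInstance, ?_⟩
    have hreg' : RingTheory.Sequence.IsRegular C rs :=
      (IsLocalRing.isRegular_iff_isWeaklyRegular_of_subset_maximalIdeal hmem).mpr hwreg
    have hdC := Groth.Agent.H05EGA4.ringKrullDim_eq_add_of_flat A C
    have hdB := Groth.Agent.H05EGA4.ringKrullDim_eq_add_of_flat A B
    have hdrs := ringKrullDim_add_length_eq_ringKrullDim_of_isRegular rs hreg'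
    rw [ringKrullDim_eq_of_ringEquiv eB.toRingEquiv] at hdrs
    have hμ : (RingHom.ker gbar).spanFinrank ≤ rs.length := by
      rw [hkbar, show J = Ideal.ofList rs from hrs.symm, Ideal.map_ofList]
      refine (Submodule.spanFinrank_span_le_ncard_of_finite (List.finite_toSet _)).trans ?_
      refine le_trans ?_ ((List.toFinset_card_le (rs.map (Ideal.Quotient.mk mC))).trans (List.length_map _).le)
      rw [← Set.ncard_coe_finset, List.coe_toFinset]
    obtain ⟨a, ha⟩ := Groth.Agent.H9CI.exists_nat_dim A
    obtain ⟨b, hb⟩ := Groth.Agent.H9CI.exists_nat_dim B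
    obtain ⟨c, hc⟩ := Groth.Agent.H9CI.exists_nat_dim C
    obtain ⟨b', hb'⟩ := Groth.Agent.H9CI.exists_nat_dim (EGA4.FibRing A B)
    obtain ⟨c', hc'⟩ := Groth.Agent.H9CI.exists_nat_dim (EGA4.FibRing A C)
    rw [ha, hc, show ringKrullDim (C ⧸ (IsLocalRing.maximalIdeal A).map (algebraMap A C)) = _ from hc'] at hdC
    rw [ha, hb, show ringKrullDim (B ⧸ (IsLocalRing.maximalIdeal A).map (algebraMap A B)) = _ from hb'] at hdB
    rw [hb, hc] at hdrs
    unfold Groth.Agent.H9CI.IsCIKer
    rw [hb', hc']
    norm_cast at hdC hdB hdrs ⊢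
    omega
  · rintro ⟨hflat, hci⟩
    haveI := hflat
    obtain ⟨bs, hbsm, hbsreg, hbsker, -⟩ := Groth.Agent.H9CI.exists_isRegular_of_isCIKer gbar hgbar hci
    have hlift : ∀ z ∈ bs, ∃ s ∈ J, Ideal.Quotient.mk mC s = z := fun z hz =>
      (Ideal.mem_map_iff_of_surjective _ Ideal.Quotient.mk_surjective).mp
        (hkbar.le (hbsker.ge (Ideal.subset_span hz)))
    choose! l hl1 hl2 using hlift
    refine ⟨bs.map l, ?_, ?_⟩
    · have hle : Ideal.ofList (bs.map l) ≤ J := Ideal.span_le.mpr fun s hs => by
        obtain ⟨z, hz, rfl⟩ := List.mem_map.mp hs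
        exact hl1 z hz
      refine le_antisymm hle ?_
      refine Submodule.le_of_le_smul_of_le_jacobson_bot (I := IsLocalRing.maximalIdeal C) (IsNoetherian.noetherian _)
        (IsLocalRing.maximalIdeal_le_jacobson _) ?_
      rw [smul_eq_mul]
      intro z hz
      have hz' : Ideal.Quotient.mk mC z ∈ (Ideal.ofList (bs.map l)).map (Ideal.Quotient.mk mC) := by
        rw [Ideal.map_ofList, List.map_map,
          show List.map (⇑(Ideal.Quotient.mk mC) ∘ l) bs = bs from
            (List.map_congr_left fun z hz => hl2 z hz).trans (List.map_id bs)]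
        exact hbsker.le (hkbar.ge (Ideal.mem_map_of_mem _ hz))
      obtain ⟨w, hw, hwz⟩ := (Ideal.mem_map_iff_of_surjective _ Ideal.Quotient.mk_surjective).mp hz'
      have h1 := Groth.Agent.H13CI.inf_le_mul_of_flat (A := A) hsurj
        (show z - w ∈ RingHom.ker (algebraMap C B) ⊓ mC from ⟨sub_mem hz (hle hw), Ideal.Quotient.eq.mp hwz.symm⟩)
      simpa using add_mem (Ideal.mem_sup_left hw) (Ideal.mem_sup_right h1 : z - w ∈ Ideal.ofList (bs.map l) ⊔ IsLocalRing.maximalIdeal C * J)
    · refine Groth.Agent.H13CI.isTransRegularSeq_of_fibre _ C _ rfl (fun x hx => ?_) ?_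
      · obtain ⟨z, hz, rfl⟩ := List.mem_map.mp hx
        exact IsLocalRing.le_maximalIdeal (RingHom.ker_ne_top _) (hl1 z hz)
      · refine (RingTheory.Sequence.isWeaklyRegular_map_algebraMap_iff (C ⧸ mC) (C ⧸ mC) _).mp ?_
        rw [Ideal.Quotient.algebraMap_eq, List.map_map,
          show List.map (⇑(Ideal.Quotient.mk mC) ∘ l) bs = bs from
            (List.map_congr_left fun z hz => hl2 z hz).trans (List.map_id bs)]
        exact hbsreg.toIsWeaklyRegular

end Groth.Agent.S5068
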