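import Groth.Statements.S5069
import Mathlib.RingTheory.HopkinsLevitzki
import Mathlib.RingTheory.KrullDimension.Basic
import Mathlib.LinearAlgebra.Basis.VectorSpace
-- import your own Groth.Agent.* helpers here

set_option autoImplicit false
universe u v
open Hensel

namespace Groth.Agent.S5069

/-- First assertion, phrased for the images of the inductive system: let B be a Noetherian commutative
ring and (C_i) a family of Artinian subrings of B, directed under inclusion, whose union is B. Then
B is an Artinian ring. -/
theorem result (B : Type u) [CommRing B] [IsNoetherianRing B]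
    {ι : Type v} [Nonempty ι] (C : ι → Subring B) (hdir : Directed (fun a b => a ≤ b) C)
    (hart : ∀ i, IsArtinianRing ↥(C i)) (hcov : ∀ b : B, ∃ i, b ∈ C i) : IsArtinianRing B := by
  haveI : Ring.KrullDimLE 0 B := Ring.KrullDimLE.mk₀ fun p hp => by
    rw [Ideal.isMaximal_iff]
    refine ⟨fun h1 => hp.ne_top ((Ideal.eq_top_iff_one p).mpr h1), fun J b hJ hbp hbJ => ?_⟩
    obtain ⟨i, hi⟩ := hcov b
    haveI := hart i
    have hm : (p.comap (C i).subtype).IsMaximal := IsArtinianRing.isMaximal_of_isPrime _
    obtain ⟨c, y, hy, hcy⟩ := hm.exists_inv (x := (⟨b, hi⟩ : C i)) hbp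
    have h1 := congrArg (C i).subtype hcy
    simp only [map_add, map_mul, map_one] at h1
    rw [← h1]
    exact add_mem (J.mul_mem_left _ hbJ) (hJ hy)
  exact IsNoetherianRing.isArtinianRing_of_krullDimLE_zero

end Groth.Agent.S5069
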