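import Groth.Statements.S5070
import Groth.Agent.H13CInt.GrPoincare
import Groth.Agent.H29Fitt.Sheaf
import Groth.Agent.H29Blow.Stalk

set_option autoImplicit false
open CategoryTheory AlgebraicGeometry
universe u
open CInt

namespace Groth.Agent.S5070


set_option backward.isDefEq.respectTransparency false
set_option backward.isDefEq.respectTransparency.types false

open TopologicalSpace H13CInt.GrQR

/-- The rank of the `j`-th piece at a point of `Y`. -/
noncomputable def rho {X : Scheme.{u}} (𝓘 : X.IdealSheafData) (F : X.Modules) (j : ℕ)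
    (y : ↥𝓘.subscheme) : ℕ :=
  Module.finrank (↑(X.presheaf.stalk (𝓘.subschemeι y)) ⧸ RingHom.ker (𝓘.subschemeι.stalkMap y).hom)
    (Gr (RingHom.ker (𝓘.subschemeι.stalkMap y).hom) j ↑(F.presheaf.stalk (𝓘.subschemeι y)))

theorem isLocallyConstant_rho {X : Scheme.{u}} [IsLocallyNoetherian X] (𝓘 : X.IdealSheafData)
    (F : X.Modules) (hF : Coh.IsCoh F)
    (hnf : ∀ y : ↥𝓘.subscheme, EGA4.IsNormallyFlat (RingHom.ker (𝓘.subschemeι.stalkMap y).hom)
      ↑(F.presheaf.stalk (𝓘.subschemeι y))) (j : ℕ) : IsLocallyConstant (rho 𝓘 F j) := by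
  rw [IsLocallyConstant.iff_exists_open]
  intro y
  obtain ⟨_, ⟨V, hV, rfl⟩, hyV, -⟩ := X.isBasis_affineOpens.exists_subset_of_mem_open
    (Set.mem_univ (𝓘.subschemeι y)) isOpen_univ
  let A := Γ(X, V)
  let I : Ideal A := 𝓘.ideal ⟨V, hV⟩
  let M := Γ(F, V)
  have : IsNoetherianRing A := IsLocallyNoetherian.component_noetherian ⟨V, hV⟩
  have : Module.Finite A M := @H10Coh.finite_sections _ F hF.1 hF.2 _ hV
  -- primes over `I`
  have hmem : ∀ P : PrimeSpectrum A, I ≤ P.asIdeal → hV.fromSpec P ∈ (𝓘.support : Set X) := by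
    intro P hP
    refine ((𝓘.coe_support_inter ⟨V, hV⟩).ge ?_).1
    rw [← hV.fromSpec_image_zeroLocus]
    exact Set.mem_image_of_mem _ hP
  have hpt : ∀ (z : ↥𝓘.subscheme) (hz : 𝓘.subschemeι z ∈ V),
      I ≤ (hV.primeIdealOf ⟨_, hz⟩).asIdeal := by
    intro z hz
    have hs : 𝓘.subschemeι z ∈ (𝓘.support : Set X) := by
      rw [← 𝓘.range_subschemeι]; exact ⟨z, rfl⟩
    obtain ⟨P, hP, hPz⟩ :=
      (hV.fromSpec_image_zeroLocus _).ge ((𝓘.coe_support_inter ⟨V, hV⟩).le ⟨hs, hz⟩)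
    have : hV.primeIdealOf ⟨_, hz⟩ = P :=
      hV.fromSpec.isOpenEmbedding.injective ((hV.fromSpec_primeIdealOf ⟨_, hz⟩).trans hPz.symm)
    rw [this]
    exact hP
  have key : ∀ (z : ↥𝓘.subscheme) (hz : 𝓘.subschemeι z ∈ V) (q : PrimeSpectrum (A ⧸ I)),
      q.asIdeal.comap (Ideal.Quotient.mk I) = (hV.primeIdealOf ⟨_, hz⟩).asIdeal →
      Module.Flat (A ⧸ I) (LocalizedModule q.asIdeal.primeCompl (Gr I j M)) ∧
        Module.rankAtStalk (Gr I j M) q = rho 𝓘 F j z := by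
    intro z hz q hq
    letI := TopCat.Presheaf.algebra_section_stalk X.presheaf (⟨𝓘.subschemeι z, hz⟩ : V)
    letI := Module.compHom (F.presheaf.stalk (𝓘.subschemeι z))
      (algebraMap Γ(X, V) (X.presheaf.stalk (𝓘.subschemeι z)))
    have : IsScalarTower Γ(X, V) (X.presheaf.stalk (𝓘.subschemeι z))
        (F.presheaf.stalk (𝓘.subschemeι z)) := .of_algebraMap_smul fun _ _ => rfl
    have := hV.isLocalization_stalk ⟨_, hz⟩
    have := H29Fitt.isLocalizedModule_germLin F hF.1 hV ⟨_, hz⟩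
    exact H13CInt.Poincare.at_prime (hV.primeIdealOf ⟨_, hz⟩).asIdeal
      (X.presheaf.stalk (𝓘.subschemeι z)) (H29Fitt.germLin F (⟨_, hz⟩ : V)) I _
      (H29Blow.ker_stalkMap_subschemeι 𝓘 z ⟨V, hV⟩ hz) (hpt z hz) q hq j (hnf z j)
  have hexists : ∀ q : PrimeSpectrum (A ⧸ I), ∃ (z : ↥𝓘.subscheme) (hz : 𝓘.subschemeι z ∈ V),
      q.asIdeal.comap (Ideal.Quotient.mk I) = (hV.primeIdealOf ⟨_, hz⟩).asIdeal := by
    intro q
    let P : PrimeSpectrum A := PrimeSpectrum.comap (Ideal.Quotient.mk I) q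
    have hP : I ≤ P.asIdeal := by
      rw [PrimeSpectrum.comap_asIdeal]
      exact le_of_eq_of_le (Ideal.mk_ker (I := I)).symm (Ideal.comap_mono bot_le)
    obtain ⟨z, hz⟩ : hV.fromSpec P ∈ Set.range 𝓘.subschemeι := by
      rw [𝓘.range_subschemeι]; exact hmem P hP
    have hzV : 𝓘.subschemeι z ∈ V := by
      rw [hz]
      exact hV.range_fromSpec.le ⟨P, rfl⟩
    refine ⟨z, hzV, ?_⟩
    have : hV.primeIdealOf ⟨_, hzV⟩ = P :=
      hV.fromSpec.isOpenEmbedding.injective ((hV.fromSpec_primeIdealOf ⟨_, hzV⟩).trans hz)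
    rw [this]
    rfl
  have : Module.Finite (A ⧸ I) (Gr I j M) := Module.Finite.of_restrictScalars_finite A _ _
  have : Module.Flat (A ⧸ I) (Gr I j M) := by
    refine Module.flat_of_localized_maximal _ fun q hq => ?_
    obtain ⟨z, hz, hzq⟩ := hexists ⟨q, hq.isPrime⟩
    exact (key z hz ⟨q, hq.isPrime⟩ hzq).1
  have : Module.FinitePresentation (A ⧸ I) (Gr I j M) := Module.finitePresentation_of_finite _ _
  have hlc := Module.isLocallyConstant_rankAtStalk (R := A ⧸ I) (M := Gr I j M)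
  -- the neighbourhood
  have hopen := hlc {rho 𝓘 F j y}
  have hind : Topology.IsInducing (PrimeSpectrum.comap (Ideal.Quotient.mk I)) :=
    PrimeSpectrum.comap_isInducing_of_surjective _ _ Ideal.Quotient.mk_surjective
  obtain ⟨O, hO, hOW⟩ := hind.isOpen_iff.mp hopen
  refine ⟨𝓘.subschemeι ⁻¹' (hV.fromSpec '' O),
    (hV.fromSpec.isOpenEmbedding.isOpenMap _ hO).preimage 𝓘.subschemeι.continuous, ?_, ?_⟩
  · -- `y` is in it
    let P := hV.primeIdealOf ⟨_, hyV⟩
    have hmap : (Ideal.map (Ideal.Quotient.mk I) P.asIdeal).IsPrime :=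
      Ideal.map_isPrime_of_surjective Ideal.Quotient.mk_surjective (by rw [Ideal.mk_ker]; exact hpt y hyV)
    let q : PrimeSpectrum (A ⧸ I) := ⟨_, hmap⟩
    have hq : q.asIdeal.comap (Ideal.Quotient.mk I) = P.asIdeal := by
      rw [Ideal.comap_map_of_surjective _ Ideal.Quotient.mk_surjective, ← RingHom.ker_eq_comap_bot,
        Ideal.mk_ker, sup_eq_left.mpr (hpt y hyV)]
    have : q ∈ PrimeSpectrum.comap (Ideal.Quotient.mk I) ⁻¹' O := by
      rw [hOW]; exact (key y hyV q hq).2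
    exact ⟨P, (PrimeSpectrum.ext hq : PrimeSpectrum.comap (Ideal.Quotient.mk I) q = P) ▸ this,
      hV.fromSpec_primeIdealOf ⟨_, hyV⟩⟩
  · rintro z ⟨P, hP, hPz⟩
    have hzV : 𝓘.subschemeι z ∈ V := hPz ▸ hV.range_fromSpec.le ⟨P, rfl⟩
    have hPeq : hV.primeIdealOf ⟨_, hzV⟩ = P :=
      hV.fromSpec.isOpenEmbedding.injective ((hV.fromSpec_primeIdealOf ⟨_, hzV⟩).trans hPz.symm)
    have hle := hpt z hzV
    rw [hPeq] at hle
    have hmap : (Ideal.map (Ideal.Quotient.mk I) P.asIdeal).IsPrime :=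
      Ideal.map_isPrime_of_surjective Ideal.Quotient.mk_surjective (by rw [Ideal.mk_ker]; exact hle)
    let q : PrimeSpectrum (A ⧸ I) := ⟨_, hmap⟩
    have hq : q.asIdeal.comap (Ideal.Quotient.mk I) = P.asIdeal := by
      rw [Ideal.comap_map_of_surjective _ Ideal.Quotient.mk_surjective, ← RingHom.ker_eq_comap_bot,
        Ideal.mk_ker, sup_eq_left.mpr hle]
    have hq' : q ∈ PrimeSpectrum.comap (Ideal.Quotient.mk I) ⁻¹' O :=
      show PrimeSpectrum.comap (Ideal.Quotient.mk I) q ∈ O from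
        (PrimeSpectrum.ext hq : PrimeSpectrum.comap (Ideal.Quotient.mk I) q = P).symm ▸ hP
    rw [hOW] at hq'
    exact (key z hzV q (hPeq.symm ▸ hq)).2.symm.trans hq'



/-- Let X be a locally Noetherian scheme, Y the closed subscheme defined by an ideal sheaf, assumed
regular and connected, and F a coherent O_X-module which is normally flat along Y (at every point y
of Y, every I_y^h F_y / I_y^(h+1) F_y is flat over O_{Y,y}). Then there is a single sequence of
natural numbers R such that for every y in Y, if n is the dimension of O_{Y,y}, then for all h the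
length of m^h F_y / m^(h+1) F_y over the residue field (m the maximal ideal of O_{X,y}) equals the
sum over r ≤ h of C(r+n-1, r) R(h-r): the Poincaré series of gr_m(F_y) is R(T)(1-T)^(-n). -/
theorem result {X : Scheme.{u}} [IsLocallyNoetherian X]
    (𝓘 : X.IdealSheafData) [ConnectedSpace ↥𝓘.subscheme]
    (hreg : ∀ y : ↥𝓘.subscheme, IsRegularLocalRing ↑(𝓘.subscheme.presheaf.stalk y))
    (F : X.Modules) (hF : Coh.IsCoh F)
    (hnf : ∀ y : ↥𝓘.subscheme, EGA4.IsNormallyFlat (RingHom.ker (𝓘.subschemeι.stalkMap y).hom) ↑(F.presheaf.stalk (𝓘.subschemeι y))) :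
    ∃ R : ℕ → ℕ, ∀ (y : ↥𝓘.subscheme) (n : ℕ), ringKrullDim ↑(𝓘.subscheme.presheaf.stalk y) = n →
      ∀ h : ℕ, Module.finrank (↑(X.presheaf.stalk (𝓘.subschemeι y)) ⧸ IsLocalRing.maximalIdeal ↑(X.presheaf.stalk (𝓘.subschemeι y)))
          (↥(IsLocalRing.maximalIdeal ↑(X.presheaf.stalk (𝓘.subschemeι y)) ^ h • (⊤ : Submodule ↑(X.presheaf.stalk (𝓘.subschemeι y)) ↑(F.presheaf.stalk (𝓘.subschemeι y)))) ⧸
            (IsLocalRing.maximalIdeal ↑(X.presheaf.stalk (𝓘.subschemeι y)) • (⊤ : Submodule ↑(X.presheaf.stalk (𝓘.subschemeι y)) ↥(IsLocalRing.maximalIdeal ↑(X.presheaf.stalk (𝓘.subschemeι y)) ^ h • (⊤ : Submodule ↑(X.presheaf.stalk (𝓘.subschemeι y)) ↑(F.presheaf.stalk (𝓘.subschemeι y))))))) =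
        ∑ r ∈ Finset.range (h + 1), Nat.choose (r + n - 1) r * R (h - r) := by
  have hlc := isLocallyConstant_rho 𝓘 F hF hnf
  obtain ⟨y₀⟩ := (inferInstance : Nonempty ↥𝓘.subscheme)
  refine ⟨fun j => rho 𝓘 F j y₀, fun y n hn h => ?_⟩
  let A := X.presheaf.stalk (𝓘.subschemeι y)
  let I : Ideal A := RingHom.ker (𝓘.subschemeι.stalkMap y).hom
  let e : A ⧸ I ≃+* 𝓘.subscheme.presheaf.stalk y :=
    RingHom.quotientKerEquivOfSurjective (𝓘.subschemeι.stalkMap_surjective y)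
  have : IsRegularLocalRing (A ⧸ I) :=
    haveI := hreg y
    IsRegularLocalRing.of_ringEquiv e.symm
  have hn' : ringKrullDim (A ⧸ I) = n := (ringKrullDim_eq_of_ringEquiv e).trans hn
  have hfin : Module.Finite A (F.presheaf.stalk (𝓘.subschemeι y)) := by
    obtain ⟨_, ⟨V, hV, rfl⟩, hyV, -⟩ := X.isBasis_affineOpens.exists_subset_of_mem_open
      (Set.mem_univ (𝓘.subschemeι y)) isOpen_univ
    have : Module.Finite Γ(X, V) Γ(F, V) := @H10Coh.finite_sections _ F hF.1 hF.2 _ hV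
    letI := TopCat.Presheaf.algebra_section_stalk X.presheaf (⟨𝓘.subschemeι y, hyV⟩ : V)
    letI := Module.compHom (F.presheaf.stalk (𝓘.subschemeι y))
      (algebraMap Γ(X, V) (X.presheaf.stalk (𝓘.subschemeι y)))
    haveI : IsScalarTower Γ(X, V) (X.presheaf.stalk (𝓘.subschemeι y))
        (F.presheaf.stalk (𝓘.subschemeι y)) := .of_algebraMap_smul fun _ _ => rfl
    haveI := hV.isLocalization_stalk ⟨_, hyV⟩
    haveI := H29Fitt.isLocalizedModule_germLin F hF.1 hV ⟨_, hyV⟩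
    exact Module.Finite.of_isLocalizedModule (hV.primeIdealOf ⟨_, hyV⟩).asIdeal.primeCompl
      (Rₚ := X.presheaf.stalk (𝓘.subschemeι y)) (H29Fitt.germLin F (⟨_, hyV⟩ : V))
  refine (H13CInt.Poincare.finrank_gr_maximalIdeal I n hn' _ (hnf y) h).trans ?_
  refine Finset.sum_congr rfl fun r _ => ?_
  exact congrArg _ ((hlc (h - r)).apply_eq_of_preconnectedSpace y y₀)

end Groth.Agent.S5070
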