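import Groth.Statements.S5071
import Groth.Agent.H13CInt.FlatPow

set_option autoImplicit false
universe u
open CInt

namespace Groth.Agent.S5071

/-- Let B be an A-algebra and J an ideal of B generated by a sequence which is transversally regular
relative to A. Then for n < m the module J^n/J^m is flat over A, and for every prime q of B
containing J the localisation (J^n)_q is flat over A (modules regarded as A-modules by restriction
of scalars). -/
theorem result (A B : Type u) [CommRing A] [CommRing B] [Algebra A B]
    (rs : List B) (hrs : RegImm.IsTransRegularSeq A B rs) (n m : ℕ) (hnm : n < m) :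
    Module.Flat A (RestrictScalars A B
      (↥(Ideal.ofList rs ^ n) ⧸ (Submodule.comap (Ideal.ofList rs ^ n).subtype (Ideal.ofList rs ^ m)))) ∧
      ∀ (q : Ideal B) [q.IsPrime], Ideal.ofList rs ≤ q →
        Module.Flat A (RestrictScalars A B (LocalizedModule q.primeCompl ↥(Ideal.ofList rs ^ n))) := by
  obtain ⟨hw, hfl⟩ := hrs
  have hq : CAlgX.IsQuasiRegular rs.get :=
    H13CInt.isQuasiRegular_of_isWeaklyRegular rs.get (by rwa [List.ofFn_get])
  have hspan : Ideal.span (Set.range rs.get) = Ideal.ofList rs := by
    rw [← H13CInt.ofList_ofFn, List.ofFn_get]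
  have key : ∀ I I' : Ideal B, I = I' → Module.Flat A (B ⧸ I) → Module.Flat A (B ⧸ I') := by
    rintro I I' rfl h; exact h
  have h1 : Module.Flat A (B ⧸ Ideal.ofList rs) :=
    key _ _ (congrArg Ideal.ofList List.take_length) (hfl rs.length le_rfl)
  have h0 : Module.Flat A B := by
    have := hfl 0 (Nat.zero_le _)
    haveI : Module.Flat A (B ⧸ (⊥ : Ideal B)) :=
      key _ _ ((congrArg Ideal.ofList List.take_zero).trans Ideal.ofList_nil) this
    exact Module.Flat.of_linearEquiv (AlgEquiv.quotientBot A B).toLinearEquiv.symm
  haveI : Module.Flat A (B ⧸ Ideal.span (Set.range rs.get)) := by rw [hspan]; exact h1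
  have hp : ∀ k, Module.Flat A (B ⧸ Ideal.ofList rs ^ k) := hspan ▸ H13CInt.flat_quotient_pow hq
  haveI := hp n
  haveI := hp m
  refine ⟨?_, fun q _ _ => ?_⟩
  · haveI := H13CInt.flat_pow_quotient (A := A) (Ideal.ofList rs ^ n) (Ideal.ofList rs ^ m)
      (Ideal.pow_le_pow_right hnm.le)
    exact Module.Flat.of_linearEquiv
      ({ RestrictScalars.addEquiv A B _ with
          map_smul' := fun a x => by
            show RestrictScalars.addEquiv A B _ (a • x) = a • RestrictScalars.addEquiv A B _ x
            rw [RestrictScalars.addEquiv_map_smul, algebraMap_smul] } : _ ≃ₗ[A] _)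
  · haveI := H13CInt.flat_pow (A := A) (Ideal.ofList rs ^ n)
    haveI := H13CInt.flat_localizedModule (A := A) q.primeCompl ↥(Ideal.ofList rs ^ n)
      (LocalizedModule.mkLinearMap q.primeCompl ↥(Ideal.ofList rs ^ n))
    exact Module.Flat.of_linearEquiv
      ({ RestrictScalars.addEquiv A B _ with
          map_smul' := fun a x => by
            show RestrictScalars.addEquiv A B _ (a • x) = a • RestrictScalars.addEquiv A B _ x
            rw [RestrictScalars.addEquiv_map_smul, algebraMap_smul] } : _ ≃ₗ[A] _)

end Groth.Agent.S5071
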