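import Groth.Statements.S5072
import Groth.Agent.H9Hens.StrictTensor
-- import your own Groth.Agent.* helpers here

set_option autoImplicit false
open scoped TensorProduct
universe u
open Hensel

namespace Groth.Agent.S5072

/-- Case of a local ring A and a local finite A-algebra B: let S be a strict henselization of A and T a
strict henselization of B. Then there is a maximal ideal q of B ⊗_A S such that T is isomorphic, as
a B-algebra, to the local ring (B ⊗_A S)_q. -/
theorem result (A B S T : Type u) [CommRing A] [IsLocalRing A]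
    [CommRing B] [IsLocalRing B] [Algebra A B] [Module.Finite A B]
    [CommRing S] [IsLocalRing S] [Algebra A S] [IsLocalHom (algebraMap A S)] [Hensel.IsStrictHenselization A S]
    [CommRing T] [IsLocalRing T] [Algebra B T] [IsLocalHom (algebraMap B T)] [Hensel.IsStrictHenselization B T] :
    ∃ (q : Ideal (B ⊗[A] S)) (_ : q.IsMaximal), Nonempty (Localization.AtPrime q ≃ₐ[B] T) := by
  classical
  have hS : HenselianLocalRing S := Hensel.IsStrictHenselization.henselian (R := A)
  have hT : HenselianLocalRing T := Hensel.IsStrictHenselization.henselian (R := B)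
  have hSsc : IsSepClosed (IsLocalRing.ResidueField S) :=
    (Hensel.IsStrictHenselization.isSepClosure (R := A) (S := S)).sep_closed
  have hSsep := (Hensel.IsStrictHenselization.isSepClosure (R := A) (S := S)).separable
  have hTsc : IsSepClosed (IsLocalRing.ResidueField T) :=
    (Hensel.IsStrictHenselization.isSepClosure (R := B) (S := T)).sep_closed
  have hAB : IsLocalHom (algebraMap A B) := by
    refine ((IsLocalRing.local_hom_TFAE (algebraMap A B)).out 0 4 rfl rfl).mpr ?_
    exact IsLocalRing.eq_maximalIdeal (Ideal.isMaximal_comap_of_isIntegral_of_isMaximal _)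
  -- a map `S → T`
  letI : Algebra A T := ((algebraMap B T).comp (algebraMap A B)).toAlgebra
  haveI : IsScalarTower A B T := IsScalarTower.of_algebraMap_eq' rfl
  haveI : IsLocalHom (algebraMap A T) := RingHom.isLocalHom_comp (algebraMap B T) (algebraMap A B)
  let τ₀ : IsLocalRing.ResidueField S →ₐ[IsLocalRing.ResidueField A] IsLocalRing.ResidueField T :=
    IsSepClosed.lift
  obtain ⟨u, ⟨hu, hures⟩, -⟩ := Hensel.IsStrictHenselization.universal (R := A) (S := S) T (algebraMap A T)
    τ₀.toRingHom (RingHom.ext fun x => τ₀.commutes x)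
  let uA : S →ₐ[A] T := ⟨u, fun r => DFunLike.congr_fun hu r⟩
  let φ : B ⊗[A] S →ₐ[A] T := Algebra.TensorProduct.lift (IsScalarTower.toAlgHom A B T) uA
    fun _ _ => Commute.all _ _
  have hφl : ∀ b, φ (b ⊗ₜ 1) = algebraMap B T b := fun b => by simp [φ]
  have hφr : ∀ s, φ (1 ⊗ₜ s) = u s := fun s => by simp [φ, uA]
  have huloc : IsLocalHom u := ⟨fun s hs => by
    by_contra hsu
    have h1 : IsLocalRing.residue T (u s) = 0 := by
      rw [hures, (IsLocalRing.residue_eq_zero_iff s).mpr ((IsLocalRing.mem_maximalIdeal s).mpr hsu), map_zero]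
    exact (IsLocalRing.residue_ne_zero_iff_isUnit _).mpr hs h1⟩
  set Q := (IsLocalRing.maximalIdeal T).comap φ.toRingHom with hQ
  have hQp : Q.IsPrime := Ideal.IsPrime.comap _
  letI : Algebra S (B ⊗[A] S) := Algebra.TensorProduct.rightAlgebra
  have hfin : Module.Finite S (B ⊗[A] S) :=
    Module.Finite.equiv (AlgEquiv.ofRingEquiv (R := S) (A₁ := S ⊗[A] B) (A₂ := B ⊗[A] S)
      (f := (Algebra.TensorProduct.comm A S B).toRingEquiv) fun s => rfl).toLinearEquiv
  have : Algebra.FiniteType S (B ⊗[A] S) := inferInstance
  have hQmax : Q.IsMaximal := by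
    refine Ideal.isMaximal_of_isIntegral_of_isMaximal_comap (R := S) Q ?_
    rw [hQ, Ideal.comap_comap, show φ.toRingHom.comp (algebraMap S (B ⊗[A] S)) = u from RingHom.ext hφr,
      ((IsLocalRing.local_hom_TFAE u).out 0 4 rfl rfl).mp huloc]
    exact IsLocalRing.maximalIdeal.isMaximal S
  refine ⟨Q, hQmax, ?_⟩
  have hlies : Q.LiesOver (IsLocalRing.maximalIdeal S) := ⟨by
    rw [Ideal.under_def, hQ, Ideal.comap_comap,
      show φ.toRingHom.comp (algebraMap S (B ⊗[A] S)) = u from RingHom.ext hφr,
      ((IsLocalRing.local_hom_TFAE u).out 0 4 rfl rfl).mp huloc]⟩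
  have hDfin : Module.Finite S (Localization.AtPrime Q) :=
    Groth.Agent.H9Hens.finite_localization_of_quasiFiniteAt Q hlies
  have hDloc : IsLocalHom (algebraMap S (Localization.AtPrime Q)) := ⟨fun x hx => by
    rw [IsScalarTower.algebraMap_apply S (B ⊗[A] S) (Localization.AtPrime Q),
      IsLocalization.AtPrime.isUnit_to_map_iff _ Q, Ideal.mem_primeCompl_iff] at hx
    rw [← IsLocalRing.notMem_maximalIdeal, hlies.over]
    exact hx⟩
  obtain ⟨hDH, halg⟩ := Groth.Agent.H9Hens.henselian_of_isIntegral (R := S) (T := Localization.AtPrime Q)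
  have hDsc : IsSepClosed (IsLocalRing.ResidueField (Localization.AtPrime Q)) :=
    Groth.Agent.H9Hens.isSepClosed_of_isAlgebraic (IsLocalRing.ResidueField S)
  let h : Localization.AtPrime Q →+* T := IsLocalization.lift (M := Q.primeCompl) (g := φ.toRingHom)
    fun y => IsLocalRing.notMem_maximalIdeal.mp y.2
  have hh : ∀ d, h (algebraMap _ _ d) = φ d := fun d => IsLocalization.lift_eq _ d
  have hhloc : IsLocalHom h := Groth.Agent.H9Hens.isLocalHom_of_atPrime Q h fun d hd => by
    rw [hh]; exact hd
  let i : B →+* Localization.AtPrime Q := algebraMap B _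
  have hhi : h.comp i = algebraMap B T := RingHom.ext fun b => by
    show h (algebraMap B (Localization.AtPrime Q) b) = _
    rw [IsScalarTower.algebraMap_apply B (B ⊗[A] S) (Localization.AtPrime Q), hh,
      Algebra.TensorProduct.algebraMap_apply]
    exact hφl b
  have hiloc : IsLocalHom i := ⟨fun b hb => by
    refine (inferInstance : IsLocalHom (algebraMap B T)).map_nonunit b ?_
    rw [← hhi]
    exact hb.map h⟩
  let τ : IsLocalRing.ResidueField (Localization.AtPrime Q) →+* IsLocalRing.ResidueField T :=
    IsLocalRing.ResidueField.map h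
  have hτ : Function.Bijective τ := by
    refine ⟨τ.injective, ?_⟩
    letI : Algebra (IsLocalRing.ResidueField B) (IsLocalRing.ResidueField (Localization.AtPrime Q)) :=
      (IsLocalRing.ResidueField.map i).toAlgebra
    letI : Algebra (IsLocalRing.ResidueField (Localization.AtPrime Q)) (IsLocalRing.ResidueField T) :=
      τ.toAlgebra
    have : IsScalarTower (IsLocalRing.ResidueField B) (IsLocalRing.ResidueField (Localization.AtPrime Q))
        (IsLocalRing.ResidueField T) := by
      refine IsScalarTower.of_algebraMap_eq fun x => ?_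
      obtain ⟨z, rfl⟩ := IsLocalRing.residue_surjective x
      exact congrArg (IsLocalRing.residue T) (DFunLike.congr_fun hhi z).symm
    have : Algebra.IsSeparable (IsLocalRing.ResidueField (Localization.AtPrime Q)) (IsLocalRing.ResidueField T) := by
      have := (Hensel.IsStrictHenselization.isSepClosure (R := B) (S := T)).separable
      exact Algebra.isSeparable_tower_top_of_isSeparable (IsLocalRing.ResidueField B) _ _
    exact IsSepClosed.algebraMap_surjective _ _
  let τe : IsLocalRing.ResidueField (Localization.AtPrime Q) ≃+* IsLocalRing.ResidueField T :=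
    RingEquiv.ofBijective τ hτ
  obtain ⟨g, ⟨hg, hgres⟩, -⟩ := Hensel.IsStrictHenselization.universal (R := B) (S := T)
    (Localization.AtPrime Q) i (τe.symm : IsLocalRing.ResidueField T →+* _) (RingHom.ext fun x => τe.injective (by
      obtain ⟨z, rfl⟩ := IsLocalRing.residue_surjective x
      show τe (τe.symm _) = _
      rw [RingEquiv.apply_symm_apply]
      exact congrArg (IsLocalRing.residue T) (DFunLike.congr_fun hhi z).symm))
  have hhg : h.comp g = RingHom.id T := by
    obtain ⟨k, -, huniq⟩ := Hensel.IsStrictHenselization.universal (R := B) (S := T) T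
      (algebraMap _ T) (RingHom.id _) (RingHom.id_comp _)
    refine (huniq _ ⟨?_, fun x => ?_⟩).trans (huniq _ ⟨RingHom.id_comp _, fun x => rfl⟩).symm
    · rw [RingHom.comp_assoc, hg, hhi]
    · show τ (IsLocalRing.residue _ (g x)) = IsLocalRing.residue T x
      rw [hgres]
      exact RingEquiv.apply_symm_apply τe _
  have hgh : g.comp h = RingHom.id (Localization.AtPrime Q) := by
    have hres : ∀ z, IsLocalRing.residue _ (g (h z)) = IsLocalRing.residue _ z := fun z => τe.injective (by
      show IsLocalRing.residue T (h (g (h z))) = IsLocalRing.residue T (h z)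
      exact congrArg (IsLocalRing.residue T) (DFunLike.congr_fun hhg (h z)))
    let a : S →+* Localization.AtPrime Q := (g.comp h).comp (algebraMap S _)
    have hB : ∀ b, g (h (algebraMap (B ⊗[A] S) _ (b ⊗ₜ 1))) = algebraMap (B ⊗[A] S) _ (b ⊗ₜ 1) := fun b => by
      rw [hh, hφl]
      refine (DFunLike.congr_fun hg b).trans ?_
      show algebraMap B (Localization.AtPrime Q) b = _
      rw [IsScalarTower.algebraMap_apply B (B ⊗[A] S) (Localization.AtPrime Q),
        Algebra.TensorProduct.algebraMap_apply]
      rfl
    have hSmap : ∀ s, g (h (algebraMap S (Localization.AtPrime Q) s)) = algebraMap S _ s := by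
      haveI : IsLocalHom ((algebraMap S (Localization.AtPrime Q)).comp (algebraMap A S)) :=
        RingHom.isLocalHom_comp _ _
      obtain ⟨k, -, huniq⟩ := Hensel.IsStrictHenselization.universal (R := A) (S := S)
        (Localization.AtPrime Q) ((algebraMap S _).comp (algebraMap A S))
        (IsLocalRing.ResidueField.map (algebraMap S _))
        (RingHom.ext fun x => by obtain ⟨z, rfl⟩ := IsLocalRing.residue_surjective x; rfl)
      refine fun x => DFunLike.congr_fun ((huniq a ⟨?_, fun y => hres _⟩).trans
        (huniq _ ⟨rfl, fun y => rfl⟩).symm) x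
      refine RingHom.ext fun r => ?_
      simp only [a, RingHom.comp_apply, IsScalarTower.algebraMap_apply S (B ⊗[A] S) (Localization.AtPrime Q)]
      rw [show algebraMap S (B ⊗[A] S) (algebraMap A S r) = algebraMap A B r ⊗ₜ (1 : S) from
        Algebra.TensorProduct.includeRight.commutes r]
      exact hB _
    refine IsLocalization.ringHom_ext Q.primeCompl (RingHom.ext fun d => ?_)
    show g (h (algebraMap _ _ d)) = algebraMap _ _ d
    induction d using TensorProduct.induction_on with
    | zero => simp
    | tmul b s =>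
      have hsm := hSmap s
      rw [IsScalarTower.algebraMap_apply S (B ⊗[A] S) (Localization.AtPrime Q)] at hsm
      rw [show (b ⊗ₜ[A] s : B ⊗[A] S) = b ⊗ₜ 1 * algebraMap S (B ⊗[A] S) s from by
        show _ = b ⊗ₜ[A] (1 : S) * (1 : B) ⊗ₜ[A] s
        simp, map_mul, map_mul, map_mul, hB, hsm]
    | add x y hx hy => simp only [map_add, hx, hy]
  exact ⟨AlgEquiv.ofRingEquiv (f := RingEquiv.ofRingHom h g hhg hgh) fun b => DFunLike.congr_fun hhi b⟩

end Groth.Agent.S5072
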