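import Groth.Statements.S5073
import Mathlib
import Groth.Agent.H05EGA4.DimLocal

set_option autoImplicit false
set_option maxHeartbeats 400000
universe u
open EGA418

open IsLocalRing TensorProduct Groth.Agent.H05EGA4
open scoped Pointwise

namespace Groth.Agent.S5073

/-- Let A be a Noetherian local ring, p a prime ideal and x an element of A. Then there is an element x'
of A whose image in A_p equals that of x and which belongs to no minimal prime ideal of A not
contained in p. -/
theorem result (A : Type u) [CommRing A] [IsNoetherianRing A] [IsLocalRing A]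
    (p : Ideal A) [p.IsPrime] (x : A) :
    ∃ x' : A, algebraMap A (Localization.AtPrime p) x' = algebraMap A (Localization.AtPrime p) x ∧
      ∀ q ∈ minimalPrimes A, ¬ q ≤ p → x' ∉ q := by
  classical
  let K := RingHom.ker (algebraMap A (Localization.AtPrime p))
  have hK : ∀ q ∈ minimalPrimes A, ¬ q ≤ p → ¬ K ≤ q := by
    intro q hq hqp hKq
    have := IsMinimalPrime.isPrime hq
    obtain ⟨t, htq, htp⟩ := SetLike.not_le_iff_exists.mp hqp
    obtain ⟨u, huq, n, hn⟩ : ∃ u ∉ q, ∃ n : ℕ, u * t ^ n = 0 := by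
      by_contra hcon
      let S : Submonoid A := q.primeCompl ⊔ Submonoid.powers t
      have hdis : Disjoint ((⊥ : Ideal A) : Set A) S := by
        rw [Set.disjoint_left]
        intro z hz hzS
        obtain rfl : z = 0 := Ideal.mem_bot.mp hz
        obtain ⟨u, hu, w, ⟨n, rfl⟩, heq⟩ := Submonoid.mem_sup.mp hzS
        exact hcon ⟨u, hu, n, heq⟩
      obtain ⟨P, hP, -, hPS⟩ := Ideal.exists_le_prime_disjoint _ _ hdis
      have hPq : P ≤ q := fun z hz => by
        by_contra hzq
        exact Set.disjoint_left.mp hPS hz (Submonoid.mem_sup_left hzq)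
      exact Set.disjoint_left.mp hPS (hq.2 ⟨hP, bot_le⟩ hPq htq)
        (Submonoid.mem_sup_right (Submonoid.mem_powers t))
    refine huq (hKq ?_)
    rw [RingHom.mem_ker, IsLocalization.map_eq_zero_iff p.primeCompl]
    exact ⟨⟨t ^ n, fun h => htp (‹p.IsPrime›.mem_of_pow_mem n h)⟩, by rw [mul_comm]; exact hn⟩
  let T := ((minimalPrimes.finite_of_isNoetherianRing A).toFinset.filter fun q => ¬ q ≤ p)
  have hT : ∀ q ∈ T, q ∈ minimalPrimes A ∧ ¬ q ≤ p := fun q hq => by
    simpa [T] using hq
  let I := K ⊓ (T.filter fun q => x ∉ q).inf id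
  have hnot : ∀ q ∈ T.filter (fun q => x ∈ q), ¬ I ≤ q := by
    intro q hq h
    rw [Finset.mem_filter] at hq
    have := IsMinimalPrime.isPrime (hT q hq.1).1
    rcases this.inf_le.mp h with h | h
    · exact hK q (hT q hq.1).1 (hT q hq.1).2 h
    · obtain ⟨r, hr, hrq⟩ := this.inf_le'.mp h
      rw [Finset.mem_filter] at hr
      exact hr.2 ((hT q hq.1).1.2 (hT r hr.1).1.1 hrq hq.2)
  obtain ⟨a, haI, ha⟩ : ∃ a ∈ I, ∀ q ∈ T.filter (fun q => x ∈ q), a ∉ q := by
    by_contra hcon
    have : (I : Set A) ⊆ ⋃ q ∈ (↑(T.filter fun q => x ∈ q) : Set (Ideal A)), (id q : Ideal A) := by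
      intro a ha
      by_contra h
      exact hcon ⟨a, ha, fun q hq hmem => h (Set.mem_biUnion hq hmem)⟩
    obtain ⟨q, hq, hle⟩ := (Ideal.subset_union_prime ⊤ ⊤ fun q hq _ _ =>
      IsMinimalPrime.isPrime (hT q (Finset.mem_filter.mp hq).1).1).mp this
    exact hnot q hq hle
  refine ⟨x + a, ?_, fun q hq hqp => ?_⟩
  · rw [map_add, RingHom.mem_ker.mp haI.1, add_zero]
  · have hqT : q ∈ T := by simp [T, hq, hqp]
    intro hmem
    by_cases hxq : x ∈ q
    · exact ha q (Finset.mem_filter.mpr ⟨hqT, hxq⟩) (by simpa using q.sub_mem hmem hxq)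
    · have : a ∈ q := Finset.inf_le (f := id) (Finset.mem_filter.mpr ⟨hqT, hxq⟩) haI.2
      exact hxq (by simpa using q.sub_mem hmem this)


end Groth.Agent.S5073
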