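import Groth.Statements.S5074
import Groth.Agent.H05EGA4.CKGeom
-- import your own Groth.Agent.* helpers here

set_option autoImplicit false
universe u
open EGA418

namespace Groth.Agent.S5074

/-- Let k be a field of characteristic exponent p such that k is finite over k^p (the Frobenius
endomorphism of k is a finite ring map), A a complete Noetherian local k-algebra whose residue field
is a finite extension of k, and P a prime ideal of A such that A_P is geometrically regular over k.
Then for every minimal prime q of A contained in P (there is exactly one), the A_P-module obtained
by localising at P the completion of the module of differentials of A over k is free of rank equal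
to dim(A/q). -/
theorem result (p : ℕ) (k A : Type u) [Field k] [ExpChar k p]
    (hk : (frobenius k p).Finite) [CommRing A] [IsLocalRing A] [IsNoetherianRing A] [Algebra k A]
    [IsAdicComplete (IsLocalRing.maximalIdeal A) A] [Module.Finite k (IsLocalRing.ResidueField A)]
    (P : Ideal A) [P.IsPrime] (hP : CAlg.IsGeometricallyRegular k (Localization.AtPrime P))
    (q : Ideal A) (hq : q ∈ minimalPrimes A) (hqP : q ≤ P) (n : ℕ) (hn : ringKrullDim (A ⧸ q) = n) :
    Module.Free (Localization.AtPrime P) (LocalizedModule P.primeCompl (AdicCompletion (IsLocalRing.maximalIdeal A) (KaehlerDifferential k A))) ∧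
      Module.finrank (Localization.AtPrime P) (LocalizedModule P.primeCompl (AdicCompletion (IsLocalRing.maximalIdeal A) (KaehlerDifferential k A))) = n := by
  have hk' : Module.Finite (frobenius k p).fieldRange k := by
    obtain ⟨N, b, hb⟩ := @Module.Finite.exists_fin k k _ _ (frobenius k p).toAlgebra.toModule hk
    refine ⟨Submodule.fg_iff_exists_fin_generating_family.2 ⟨N, b, ?_⟩⟩
    rw [eq_top_iff]
    intro x _
    have hx : x ∈ @Submodule.span k k _ _ (frobenius k p).toAlgebra.toModule (Set.range b) := hb ▸ trivial
    let W := Submodule.span (frobenius k p).fieldRange (Set.range b)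
    refine @Submodule.span_induction k k _ _ (frobenius k p).toAlgebra.toModule (Set.range b) (fun z _ => z ∈ W)
      (fun z hz => Submodule.subset_span hz) (zero_mem _) (fun z w _ _ hz hw => add_mem hz hw) (fun a z _ hz => ?_) x hx
    show frobenius k p a * z ∈ W
    exact Submodule.smul_mem W (⟨frobenius k p a, a, rfl⟩ : (frobenius k p).fieldRange) hz
  exact Groth.Agent.H05EGA4.CKGeom.free_of_geometricallyRegular p k A (Or.inr hk') P hP q hq hqP n hn

end Groth.Agent.S5074
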