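import Groth.Statements.S5076
import Mathlib


set_option autoImplicit false
universe u
open Unram

namespace Groth.Agent.S5076

/-- Let A be a local ring with maximal ideal m, C a finite A-algebra, r a maximal ideal of C, and u an
element of C which lies in every maximal ideal of C other than r, does not lie in r, and whose image
generates C_r modulo m C_r as an A-algebra. Let B = A[u] be the A-subalgebra of C generated by u and
n the inverse image of r in B. Then the canonical homomorphism B_n → C_r is bijective. -/
theorem result (A C : Type u) [CommRing A] [IsLocalRing A]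
    [CommRing C] [Algebra A C] [Module.Finite A C] (r : Ideal C) [r.IsMaximal] (u : C)
    (hu₁ : ∀ r' : Ideal C, r'.IsMaximal → r' ≠ r → u ∈ r') (hu₂ : u ∉ r)
    (hu₃ : Subalgebra.toSubmodule (Algebra.adjoin A {algebraMap C (Localization.AtPrime r) u}) ⊔
        Submodule.restrictScalars A (Ideal.map (algebraMap A (Localization.AtPrime r)) (IsLocalRing.maximalIdeal A)) = ⊤) :
    Function.Bijective (Localization.localRingHom (Ideal.comap (Algebra.adjoin A ({u} : Set C)).val.toRingHom r) r
      (Algebra.adjoin A ({u} : Set C)).val.toRingHom rfl) := by
  classical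
  set B := Algebra.adjoin A ({u} : Set C)
  set n : Ideal B := Ideal.comap B.val.toRingHom r with hn
  set φ := Localization.localRingHom n r B.val.toRingHom rfl with hφdef
  have hu : (⟨u, Algebra.self_mem_adjoin_singleton A u⟩ : B) ∉ n := hu₂
  haveI : Module.Finite B C := Module.Finite.of_restrictScalars_finite A B C
  haveI : Algebra.IsIntegral B C := Algebra.IsIntegral.of_finite B C
  haveI hnmax : n.IsMaximal := by
    have h : n = r.comap (algebraMap B C) := rfl
    rw [h]
    exact Ideal.isMaximal_comap_of_isIntegral_of_isMaximal r
  -- every element outside `r` divides an element of `B` outside `n`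
  have hdvd : ∀ s : C, s ∉ r → ∃ (t : C) (b : B), b ∉ n ∧ t * s = b := by
    intro s hs
    by_contra hcon
    push Not at hcon
    obtain ⟨Q, hQ, hQp, hQn⟩ := Ideal.exists_ideal_over_prime_of_isIntegral (R := B) n (Ideal.span {s})
      (fun b hb => by
        obtain ⟨t, ht⟩ := Ideal.mem_span_singleton'.mp hb
        exact by_contra fun hbn => hcon t b hbn ht)
    haveI := hQp
    have hQm : Q.IsMaximal := Ideal.isMaximal_of_isIntegral_of_isMaximal_comap Q (hQn ▸ hnmax)
    have hne : Q ≠ r := fun h => hs (h ▸ hQ (Ideal.mem_span_singleton_self s))
    have h1 := hu₁ Q hQm hne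
    refine hu ?_
    rw [← hQn]
    exact h1
  have hsur0 : ∀ z : Localization.AtPrime r, ∃ (c : C) (b : B), b ∉ n ∧
      z * algebraMap C _ (b : C) = algebraMap C _ c := by
    intro z
    obtain ⟨⟨c, s⟩, hcs⟩ := IsLocalization.surj r.primeCompl z
    obtain ⟨t, b, hb, hts⟩ := hdvd s s.2
    exact ⟨t * c, b, hb, by rw [← hts, map_mul, mul_left_comm, hcs, ← map_mul]⟩
  have hto : ∀ b : B, φ (algebraMap B _ b) = algebraMap C _ (b : C) := fun b =>
    Localization.localRingHom_to_map n r B.val.toRingHom rfl b
  refine ⟨?_, ?_⟩
  · rw [injective_iff_map_eq_zero]
    intro x hx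
    obtain ⟨⟨b, v⟩, hbv⟩ := IsLocalization.surj n.primeCompl x
    have h0 : algebraMap C (Localization.AtPrime r) (b : C) = 0 := by
      rw [← hto, ← hbv, map_mul, hx, zero_mul]
    obtain ⟨⟨s, hs⟩, hsb⟩ := (IsLocalization.map_eq_zero_iff r.primeCompl _ _).mp h0
    obtain ⟨t, b', hb', hts⟩ := hdvd s hs
    have hbb : b' * b = 0 := Subtype.ext (by
      change (b' : C) * (b : C) = 0
      rw [← hts, mul_assoc]
      simp only at hsb
      rw [hsb, mul_zero])
    have hb0 : algebraMap B (Localization.AtPrime n) b = 0 :=
      (IsLocalization.map_eq_zero_iff n.primeCompl _ _).mpr ⟨⟨b', hb'⟩, hbb⟩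
    rw [hb0] at hbv
    exact (IsUnit.mul_left_eq_zero (IsLocalization.map_units _ v)).mp hbv
  · letI : Algebra (Localization.AtPrime n) (Localization.AtPrime r) := φ.toAlgebra
    obtain ⟨k, g, hg⟩ := Module.Finite.exists_fin (R := B) (M := C)
    haveI : Module.Finite (Localization.AtPrime n) (Localization.AtPrime r) := by
      refine ⟨Finset.univ.image (fun i => algebraMap C _ (g i)), eq_top_iff.mpr fun z _ => ?_⟩
      rw [Finset.coe_image, Finset.coe_univ, Set.image_univ]
      obtain ⟨c, b, hb, hcb⟩ := hsur0 z
      have hc : algebraMap C (Localization.AtPrime r) c ∈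
          Submodule.span (Localization.AtPrime n) (Set.range fun i => algebraMap C _ (g i)) := by
        have hc' : c ∈ Submodule.span B (Set.range g) := hg ▸ Submodule.mem_top
        clear hcb
        induction hc' using Submodule.span_induction with
        | mem x hx => obtain ⟨i, rfl⟩ := hx; exact Submodule.subset_span ⟨i, rfl⟩
        | zero => rw [map_zero]; exact zero_mem _
        | add x y _ _ hx hy => rw [map_add]; exact add_mem hx hy
        | smul a x _ hx =>
          have : algebraMap C (Localization.AtPrime r) (a • x) =
              (algebraMap B (Localization.AtPrime n) a) • algebraMap C (Localization.AtPrime r) x := by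
            rw [Algebra.smul_def (algebraMap B (Localization.AtPrime n) a)]
            change algebraMap C _ ((a : C) * x) = φ _ * _
            rw [hto, map_mul]
          rw [this]
          exact Submodule.smul_mem _ _ hx
      obtain ⟨w, hw⟩ := (IsLocalization.map_units (Localization.AtPrime n) (⟨b, hb⟩ : n.primeCompl)).exists_left_inv
      have hz : z = w • algebraMap C (Localization.AtPrime r) c := by
        rw [← hcb, Algebra.smul_def, ← hto b]
        change z = φ w * (z * φ _)
        rw [mul_left_comm, ← map_mul, hw, map_one, mul_one]
      rw [hz]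
      exact Submodule.smul_mem _ _ hc
    let N : Submodule (Localization.AtPrime n) (Localization.AtPrime r) :=
      LinearMap.range (Algebra.linearMap (Localization.AtPrime n) (Localization.AtPrime r))
    let R₀ : Subalgebra A (Localization.AtPrime r) :=
      { φ.range.toSubsemiring with
        algebraMap_mem' := fun a => ⟨algebraMap B _ (algebraMap A B a), by
          rw [hto]; exact (IsScalarTower.algebraMap_apply A C _ a).symm⟩ }
    have hle : (⊤ : Submodule (Localization.AtPrime n) (Localization.AtPrime r)) ≤
        N ⊔ IsLocalRing.maximalIdeal (Localization.AtPrime n) • ⊤ := by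
      intro z _hzt
      clear _hzt
      have hz := hu₃.ge (Submodule.mem_top (x := z))
      obtain ⟨p, hp, q, hq, rfl⟩ := Submodule.mem_sup.mp hz
      refine Submodule.add_mem_sup ?_ ?_
      · have hp' : p ∈ R₀ := Algebra.adjoin_le (S := R₀) (by
          rintro _ rfl
          exact ⟨algebraMap B _ ⟨u, Algebra.self_mem_adjoin_singleton A u⟩, hto _⟩) hp
        exact hp'
      · rw [Submodule.restrictScalars_mem, Ideal.map, ← Submodule.mem_toAddSubgroup] at hq
        change q ∈ Ideal.span _ at hq
        clear hz
        induction hq using Submodule.span_induction with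
        | mem x hx =>
          obtain ⟨a, ha, rfl⟩ := hx
          have hmem : algebraMap A B a ∈ n := by
            haveI : Algebra.IsIntegral A C := Algebra.IsIntegral.of_finite A C
            have h := IsLocalRing.eq_maximalIdeal
              (Ideal.isMaximal_comap_of_isIntegral_of_isMaximal (R := A) r)
            exact (h.ge ha : a ∈ r.comap (algebraMap A C))
          have h2 : algebraMap B (Localization.AtPrime n) (algebraMap A B a) ∈
              IsLocalRing.maximalIdeal (Localization.AtPrime n) := by
            rw [← Localization.AtPrime.map_eq_maximalIdeal]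
            exact Ideal.mem_map_of_mem _ hmem
          have := Submodule.smul_mem_smul (N := (⊤ : Submodule (Localization.AtPrime n) (Localization.AtPrime r))) h2 (Submodule.mem_top (x := 1))
          rw [Algebra.smul_def, mul_one] at this
          rw [IsScalarTower.algebraMap_apply A C (Localization.AtPrime r)]
          change φ _ ∈ _ at this
          rw [hto] at this
          exact this
        | zero => exact zero_mem _
        | add x y _ _ hx hy => exact add_mem hx hy
        | smul a x hxm hx =>
          clear hxm
          induction hx using Submodule.smul_induction_on' with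
          | smul i hi y _ =>
            rw [smul_eq_mul, mul_smul_comm]
            exact Submodule.smul_mem_smul hi trivial
          | add y _ y' _ h h' => rw [smul_add]; exact add_mem h h'
    have htop : N = ⊤ := top_le_iff.mp (Submodule.le_of_le_smul_of_le_jacobson_bot Module.Finite.fg_top
      (IsLocalRing.maximalIdeal_le_jacobson _) hle)
    intro z
    have hz : z ∈ N := htop ▸ Submodule.mem_top
    exact hz

end Groth.Agent.S5076
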