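import Groth.Statements.S5077
import Mathlib


set_option autoImplicit false
universe u
open Unram

namespace Groth.Agent.S5077

/-- Let A be a local ring and B a finite A-algebra generated by a single element u. Then there is a
monic polynomial F with coefficients in A such that F(u) = 0 and F'(u) does not belong to any
maximal ideal n of B at which B is unramified over A. -/
theorem result (A B : Type u) [CommRing A] [IsLocalRing A]
    [CommRing B] [Algebra A B] [Module.Finite A B] (u : B) (hu : Algebra.adjoin A ({u} : Set B) = ⊤) :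
    ∃ F : Polynomial A, F.Monic ∧ Polynomial.aeval u F = 0 ∧
      ∀ (n : Ideal B) [n.IsMaximal], Algebra.IsUnramifiedAt A n → Polynomial.aeval u (Polynomial.derivative F) ∉ n := by
  classical
  set m := IsLocalRing.maximalIdeal A with hm
  set mB : Ideal B := m.map (algebraMap A B) with hmB
  have hsurj : Function.Surjective (Polynomial.aeval u : Polynomial A →ₐ[A] B) := by
    rw [← AlgHom.range_eq_top, ← Algebra.adjoin_singleton_eq_range_aeval, hu]
  have hex : ∃ d : ℕ, ∃ F : Polynomial A, F.Monic ∧ F.natDegree = d ∧ Polynomial.aeval u F ∈ mB := by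
    obtain ⟨F, hF, hF0⟩ := Algebra.IsIntegral.isIntegral (R := A) u
    exact ⟨_, F, hF, rfl, by rw [Polynomial.aeval_def, hF0]; exact zero_mem _⟩
  obtain ⟨F₀, hF₀m, hF₀d, hF₀u⟩ := Nat.find_spec hex
  set d := Nat.find hex with hd
  have hcoef : ∀ j, j ≤ d → ∀ R : Polynomial A, (∀ i, j ≤ i → R.coeff i ∈ m) →
      Polynomial.aeval u R ∈ mB → ∀ i, R.coeff i ∈ m := by
    intro j
    induction j with
    | zero => exact fun _ R h _ i => h i (Nat.zero_le i)
    | succ j ih =>
      intro hj R h hR
      apply ih (Nat.le_of_succ_le hj) R _ hR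
      intro i hi
      rcases eq_or_lt_of_le hi with rfl | hlt
      swap
      · exact h i hlt
      by_contra hne
      obtain ⟨v, hv⟩ : IsUnit (R.coeff j) := by
        simpa [hm, IsLocalRing.mem_maximalIdeal] using hne
      let T : Polynomial A := Polynomial.C (↑v⁻¹ : A) * ∑ i ∈ Finset.range j, Polynomial.C (R.coeff i) * Polynomial.X ^ i
      have hTdeg : T.degree < j := by
        refine lt_of_le_of_lt ((Polynomial.degree_mul_le _ _).trans
          (add_le_of_nonpos_left Polynomial.degree_C_le)) ?_
        rw [Polynomial.degree_lt_iff_coeff_zero]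
        intro n hn
        simp [Polynomial.finsetSum_coeff, Finset.sum_ite_eq, Nat.not_lt.2 hn]
      have hmon : (Polynomial.X ^ j + T).Monic := Polynomial.monic_X_pow_add hTdeg
      have hval : Polynomial.aeval u (Polynomial.X ^ j + T) ∈ mB := by
        have key : Polynomial.C (↑v⁻¹ : A) * R - (Polynomial.X ^ j + T) ∈
            m.map (Polynomial.C : A →+* Polynomial A) := by
          rw [Ideal.mem_map_C_iff]
          intro n
          simp only [T, Polynomial.coeff_sub, Polynomial.coeff_add, Polynomial.coeff_C_mul,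
            Polynomial.coeff_X_pow, Polynomial.finsetSum_coeff, Polynomial.coeff_C_mul_X_pow,
            Finset.sum_ite_eq, Finset.mem_range]
          rcases lt_trichotomy n j with hn | hn | hn
          · simp [hn, hn.ne]
          · subst hn; simp [← hv]
          · simp [Nat.not_lt.2 hn.le, hn.ne', Ideal.mul_mem_left _ _ (h n hn)]
        have h2 := Ideal.mem_map_of_mem (Polynomial.aeval u : Polynomial A →ₐ[A] B).toRingHom key
        rw [Ideal.map_map] at h2
        have hc : (Polynomial.aeval u : Polynomial A →ₐ[A] B).toRingHom.comp Polynomial.C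
            = algebraMap A B := by ext a; simp
        rw [hc] at h2
        have h3 : Polynomial.aeval u (Polynomial.C (↑v⁻¹ : A) * R) ∈ mB := by
          rw [map_mul]; exact Ideal.mul_mem_left _ _ hR
        have h4 := sub_mem h3 h2
        simpa using h4
      refine Nat.find_min hex (lt_of_lt_of_le (Nat.lt_succ_self j) hj) ⟨_, hmon, ?_, hval⟩
      exact Polynomial.natDegree_eq_of_degree_eq_some
        ((Polynomial.degree_add_eq_left_of_degree_lt (by rwa [Polynomial.degree_X_pow])).trans
          (Polynomial.degree_X_pow j))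
  let N : Submodule A B := Submodule.map (Polynomial.aeval u : Polynomial A →ₐ[A] B).toLinearMap
    (Polynomial.degreeLT A d)
  have hmodlt : ∀ P : Polynomial A, ∀ Q : Polynomial A, Q.Monic → Q.natDegree = d →
      P %ₘ Q ∈ Polynomial.degreeLT A d := by
    intro P Q hQ hQd
    rw [Polynomial.mem_degreeLT]
    have := Polynomial.degree_modByMonic_lt P hQ
    rwa [Polynomial.degree_eq_natDegree hQ.ne_zero, hQd] at this
  have hN : (⊤ : Submodule A B) ≤ N := by
    refine Submodule.le_of_le_smul_of_le_jacobson_bot Module.Finite.fg_top (I := m)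
      (IsLocalRing.maximalIdeal_le_jacobson _) ?_
    intro b _
    obtain ⟨P, rfl⟩ := hsurj b
    have hP := Polynomial.modByMonic_add_div P F₀
    rw [← hP, map_add, map_mul]
    refine Submodule.add_mem_sup (Submodule.mem_map_of_mem (hmodlt P F₀ hF₀m hF₀d)) ?_
    rw [Ideal.smul_top_eq_map, Submodule.restrictScalars_mem]
    exact Ideal.mul_mem_right _ _ hF₀u
  obtain ⟨R₀, hR₀, hR₀u⟩ := hN (Submodule.mem_top : Polynomial.aeval u F₀ ∈ ⊤)
  have hR₀d : R₀.degree < d := Polynomial.mem_degreeLT.1 hR₀
  set F := F₀ - R₀ with hF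
  have hdeg : R₀.degree < F₀.degree := by
    rwa [Polynomial.degree_eq_natDegree hF₀m.ne_zero, hF₀d]
  have hFm : F.Monic := hF₀m.sub_of_left hdeg
  have hFd : F.natDegree = d := by
    rw [← hF₀d]
    exact Polynomial.natDegree_eq_of_degree_eq (Polynomial.degree_sub_eq_left_of_degree_lt hdeg)
  have hF0 : Polynomial.aeval u F = 0 := by
    rw [hF, map_sub, sub_eq_zero]; exact hR₀u.symm
  refine ⟨F, hFm, hF0, fun n _ hn hmem => ?_⟩
  set J : Ideal B := mB ⊔ Ideal.span {Polynomial.aeval u (Polynomial.derivative F)} with hJ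
  have hJn : J ≤ n := by
    refine sup_le ?_ ((Ideal.span_singleton_le_iff_mem _).2 hmem)
    rw [hmB, Ideal.map_le_iff_le_comap]
    have : (n.comap (algebraMap A B)).IsMaximal := Ideal.isMaximal_comap_of_isIntegral_of_isMaximal n
    rw [hm, ← IsLocalRing.eq_maximalIdeal this]
  let δ : Polynomial A → B ⧸ J :=
    fun P => Ideal.Quotient.mk J (Polynomial.aeval u (Polynomial.derivative P))
  have hδ0 : ∀ P, Polynomial.aeval u P = 0 → δ P = 0 := by
    intro P hP0
    have hdec := Polynomial.modByMonic_add_div P F
    have hR : Polynomial.aeval u (P %ₘ F) = 0 := by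
      have := congrArg (Polynomial.aeval u) hdec
      simpa [hF0, hP0] using this
    have hRm : ∀ i, (P %ₘ F).coeff i ∈ m := by
      refine hcoef d le_rfl _ (fun i hi => ?_) (by rw [hR]; exact zero_mem _)
      rw [Polynomial.coeff_eq_zero_of_degree_lt]
      · exact zero_mem _
      · exact lt_of_lt_of_le (Polynomial.mem_degreeLT.1 (hmodlt P F hFm hFd)) (by exact_mod_cast hi)
    have hR' : Polynomial.aeval u (Polynomial.derivative (P %ₘ F)) ∈ mB := by
      rw [Polynomial.aeval_eq_sum_range]
      refine sum_mem fun i _ => ?_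
      rw [Algebra.smul_def]
      refine Ideal.mul_mem_right _ _ (Ideal.mem_map_of_mem _ ?_)
      rw [Polynomial.coeff_derivative]
      exact Ideal.mul_mem_right _ _ (hRm _)
    show Ideal.Quotient.mk J _ = 0
    rw [Ideal.Quotient.eq_zero_iff_mem, ← hdec]
    simp only [map_add, Polynomial.derivative_mul, map_mul, hF0, zero_mul, add_zero]
    exact add_mem (Ideal.mem_sup_left hR')
      (Ideal.mem_sup_right (Ideal.mul_mem_right _ _ (Ideal.mem_span_singleton_self _)))
  have hδ : ∀ P Q, Polynomial.aeval u P = Polynomial.aeval u Q → δ P = δ Q := by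
    intro P Q h
    have := hδ0 (P - Q) (by simp [h])
    simp only [δ, map_sub] at this
    exact sub_eq_zero.1 this
  choose s hs using hsurj
  let D' : Derivation A B (B ⧸ J) := Derivation.mk'
    { toFun := fun b => δ (s b)
      map_add' := fun a b => by
        rw [hδ (s (a + b)) (s a + s b) (by simp [hs])]; simp [δ]
      map_smul' := fun a b => by
        rw [hδ (s (a • b)) (a • s b) (by simp [hs])]
        simp only [δ, Polynomial.derivative_smul, map_smul, RingHom.id_apply]
        rfl }
    (fun a b => by
      simp only [LinearMap.coe_mk, AddHom.coe_mk, hδ (s (a * b)) (s a * s b) (by simp [hs])]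
      simp only [δ, Polynomial.derivative_mul, map_add, map_mul, hs]
      rw [Algebra.smul_def, Algebra.smul_def, Ideal.Quotient.algebraMap_eq]
      ring)
  have hmemU : (⟨n, inferInstance⟩ : PrimeSpectrum B) ∈ Algebra.unramifiedLocus A B := hn
  rw [Algebra.unramifiedLocus_eq_compl_support, Set.mem_compl_iff,
    Module.notMem_support_iff'] at hmemU
  obtain ⟨b, hb, hb0⟩ := hmemU (KaehlerDifferential.D A B u)
  have h1 := congrArg D'.liftKaehlerDifferential hb0
  rw [map_smul, map_zero, Derivation.liftKaehlerDifferential_comp_D] at h1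
  have h2 : D' u = 1 := by
    show δ (s u) = 1
    rw [hδ (s u) Polynomial.X (by simp [hs])]
    simp [δ]
  rw [h2, ← Algebra.algebraMap_eq_smul_one, Ideal.Quotient.algebraMap_eq,
    Ideal.Quotient.eq_zero_iff_mem] at h1
  exact hb (hJn h1)

end Groth.Agent.S5077
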