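import Groth.Statements.S5078
import Mathlib.RingTheory.AdicCompletion.Basic
import Mathlib.RingTheory.Finiteness.Projective
-- import your own Groth.Agent.* helpers here

set_option autoImplicit false
universe u v
open Hensel

namespace Groth.Agent.S5078

/-- Let A be a ring, I an ideal such that A is I-adically separated and complete, and M a finitely
generated projective A-module. Then M is I-adically separated and complete. -/
theorem result {A : Type u} [CommRing A] (I : Ideal A) [IsAdicComplete I A]
    (M : Type v) [AddCommGroup M] [Module A M] [Module.Finite A M] [Module.Projective A M] :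
    IsAdicComplete I M := by
  obtain ⟨n, p, s, -, -, hps⟩ := Module.Finite.exists_comp_eq_id_of_projective A M
  have hap : ∀ x, p (s x) = x := fun x => LinearMap.congr_fun hps x
  have hcoord : ∀ {m : ℕ} {z : Fin n → A}, z ∈ (I ^ m • ⊤ : Submodule A (Fin n → A)) →
      ∀ i, z i ∈ (I ^ m • ⊤ : Submodule A A) := fun {m z} hz i => by
    have := Submodule.mem_map_of_mem (f := LinearMap.proj i) hz
    rw [Submodule.map_smul''] at this
    exact Submodule.smul_mono le_rfl le_top this
  have hpi : ∀ {m : ℕ} {z : Fin n → A}, (∀ i, z i ∈ (I ^ m • ⊤ : Submodule A A)) →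
      z ∈ (I ^ m • ⊤ : Submodule A (Fin n → A)) := fun {m z} hz => by
    rw [pi_eq_sum_univ z]
    exact sum_mem fun i _ => Submodule.smul_mem_smul
      (by simpa [smul_eq_mul, Ideal.mul_top] using hz i) Submodule.mem_top
  refine { haus' := fun x hx => ?_, prec' := fun f hf => ?_ }
  · have : s x = 0 := funext fun i => IsHausdorff.haus' (I := I) (s x i) fun m => by
      rw [SModEq.sub_mem, sub_zero]
      refine hcoord ?_ i
      have := Submodule.mem_map_of_mem (f := s) ((SModEq.sub_mem.mp (hx m)))
      rw [sub_zero, Submodule.map_smul''] at this
      exact Submodule.smul_mono le_rfl le_top this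
    rw [← hap x, this, map_zero]
  · choose L hL using fun i => IsPrecomplete.prec' (I := I) (M := A) (fun m => s (f m) i)
      fun {a b} hab => by
        rw [SModEq.sub_mem]
        have := Submodule.mem_map_of_mem (f := s) (SModEq.sub_mem.mp (hf hab))
        rw [map_sub, Submodule.map_smul''] at this
        exact hcoord (Submodule.smul_mono le_rfl le_top this) i
    refine ⟨p L, fun m => ?_⟩
    rw [← hap (f m), SModEq.sub_mem, ← map_sub]
    have := Submodule.mem_map_of_mem (f := p)
      (hpi (z := s (f m) - L) fun i => SModEq.sub_mem.mp (hL i m))
    rw [Submodule.map_smul''] at this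
    exact Submodule.smul_mono le_rfl le_top this

end Groth.Agent.S5078
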