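import Groth.Statements.S5079
import Groth.Agent.H06PunctInt.Sections

set_option autoImplicit false
open CategoryTheory AlgebraicGeometry Opposite
universe u
open Unram

namespace Groth.Agent.S5079

/-- Let A be a reduced Noetherian local ring, A' the integral closure of A in its total ring of
fractions and U the punctured spectrum of A. Assume that for every maximal ideal m' of A' lying over
the maximal ideal of A the local ring A'_{m'} has dimension at least 2. Then, writing ρ for the
restriction map A = Γ(Spec A, O) → Γ(U, O), the ring Γ(U, O) is integral over A via ρ and there is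
an injective ring homomorphism Γ(U, O) → A' compatible with ρ and the inclusion of A in A'. -/
theorem result (A : Type u) [CommRing A] [IsNoetherianRing A]
    [IsLocalRing A] [IsReduced A]
    (hdim : ∀ (m' : Ideal ↥(integralClosure A (FractionRing A))) [m'.IsMaximal],
      m'.comap (algebraMap A ↥(integralClosure A (FractionRing A))) = IsLocalRing.maximalIdeal A →
        2 ≤ ringKrullDim (Localization.AtPrime m')) :
    (((Spec (CommRingCat.of A)).presheaf.map (homOfLE (le_top : FEt.puncturedSpec A ≤ ⊤)).op).hom.comp
        (Scheme.ΓSpecIso (CommRingCat.of A)).inv.hom).IsIntegral ∧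
      ∃ φ : ↑((Spec (CommRingCat.of A)).presheaf.obj (op (FEt.puncturedSpec A))) →+* ↥(integralClosure A (FractionRing A)),
        Function.Injective φ ∧
          φ.comp (((Spec (CommRingCat.of A)).presheaf.map (homOfLE (le_top : FEt.puncturedSpec A ≤ ⊤)).op).hom.comp
            (Scheme.ΓSpecIso (CommRingCat.of A)).inv.hom) = algebraMap A ↥(integralClosure A (FractionRing A)) := by
  exact Groth.Agent.H06PunctInt.sections_integral A hdim

end Groth.Agent.S5079
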