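import Groth.Statements.S5081


set_option autoImplicit false
universe u
open Unram

namespace Groth.Agent.S5081

/-- Let B be a finite A-algebra generated by a single element u and F a polynomial with coefficients in
A such that F(u) = 0. Then the ideal generated by F'(u) is contained in the annihilator of the
module of differentials of B over A, and equals it when the kernel of the surjection A[T] → B
sending T to u is generated by F. -/
theorem result (A B : Type u) [CommRing A] [CommRing B] [Algebra A B]
    [Module.Finite A B] (u : B) (hu : Algebra.adjoin A ({u} : Set B) = ⊤) (F : Polynomial A) (hF : Polynomial.aeval u F = 0) :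
    Ideal.span {Polynomial.aeval u (Polynomial.derivative F)} ≤ Module.annihilator B (KaehlerDifferential A B) ∧
      (RingHom.ker (Polynomial.aeval u : Polynomial A →ₐ[A] B) = Ideal.span {F} →
        Module.annihilator B (KaehlerDifferential A B) = Ideal.span {Polynomial.aeval u (Polynomial.derivative F)}) := by
  have htop := KaehlerDifferential.span_range_derivation A B
  let d := KaehlerDifferential.D A B
  have hdaeval : ∀ P : Polynomial A, d (Polynomial.aeval u P)
      = Polynomial.aeval u (Polynomial.derivative P) • d u := by
    intro P
    exact Derivation.map_aeval d P u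
  have hsurj : Function.Surjective (Polynomial.aeval u : Polynomial A →ₐ[A] B) := by
    rw [← AlgHom.range_eq_top, ← Algebra.adjoin_singleton_eq_range_aeval, hu]
  have hspan : ∀ ω : KaehlerDifferential A B, ∃ b : B, b • d u = ω := by
    intro ω
    have hω : ω ∈ Submodule.span B (Set.range d) := by rw [htop]; trivial
    induction hω using Submodule.span_induction with
    | mem x hx =>
      obtain ⟨y, rfl⟩ := hx
      obtain ⟨P, rfl⟩ := hsurj y
      exact ⟨_, (hdaeval P).symm⟩
    | zero => exact ⟨0, zero_smul _ _⟩
    | add x y _ _ hx hy =>
      obtain ⟨a, rfl⟩ := hx; obtain ⟨b, rfl⟩ := hy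
      exact ⟨a + b, add_smul _ _ _⟩
    | smul c x _ hx => obtain ⟨a, rfl⟩ := hx; exact ⟨c * a, mul_smul _ _ _⟩
  have hle : Ideal.span {Polynomial.aeval u (Polynomial.derivative F)}
      ≤ Module.annihilator B (KaehlerDifferential A B) := by
    rw [Ideal.span_le, Set.singleton_subset_iff, SetLike.mem_coe, Module.mem_annihilator]
    intro ω
    obtain ⟨b, rfl⟩ := hspan ω
    rw [smul_comm, ← hdaeval, hF, map_zero, smul_zero]
  refine ⟨hle, fun hker => le_antisymm ?_ hle⟩
  set J : Ideal B := Ideal.span {Polynomial.aeval u (Polynomial.derivative F)} with hJ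
  let δ : Polynomial A → B ⧸ J :=
    fun P => Ideal.Quotient.mk J (Polynomial.aeval u (Polynomial.derivative P))
  have hδ : ∀ P Q : Polynomial A, Polynomial.aeval u P = Polynomial.aeval u Q → δ P = δ Q := by
    intro P Q h
    have hm : P - Q ∈ RingHom.ker (Polynomial.aeval u : Polynomial A →ₐ[A] B) := by
      simp [RingHom.mem_ker, h]
    rw [hker, Ideal.mem_span_singleton] at hm
    obtain ⟨G, hG⟩ := hm
    rw [sub_eq_iff_eq_add] at hG
    subst hG
    simp only [δ, map_add, Polynomial.derivative_mul, map_mul, hF, zero_mul, add_zero]
    rw [Ideal.Quotient.eq_zero_iff_mem.2 (Ideal.mem_span_singleton_self _), zero_mul, zero_add]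
  choose s hs using hsurj
  have hδs : ∀ P, δ (s (Polynomial.aeval u P)) = δ P := fun P => hδ _ _ (hs _)
  let D' : Derivation A B (B ⧸ J) := Derivation.mk'
    { toFun := fun b => δ (s b)
      map_add' := fun a b => by
        have := hδ (s (a + b)) (s a + s b) (by simp [hs])
        rw [this]; simp [δ]
      map_smul' := fun a b => by
        have := hδ (s (a • b)) (a • s b) (by simp [hs])
        rw [this]
        simp only [δ, Polynomial.derivative_smul, map_smul, RingHom.id_apply]
        rfl }
    (fun a b => by
      have := hδ (s (a * b)) (s a * s b) (by simp [hs])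
      simp only [LinearMap.coe_mk, AddHom.coe_mk, this]
      simp only [δ, Polynomial.derivative_mul, map_add, map_mul, hs]
      rw [Algebra.smul_def, Algebra.smul_def, Ideal.Quotient.algebraMap_eq]
      ring)
  intro b hb
  rw [Module.mem_annihilator] at hb
  have h1 := congrArg D'.liftKaehlerDifferential (hb (d u))
  rw [map_smul, map_zero, Derivation.liftKaehlerDifferential_comp_D] at h1
  have h2 : D' u = 1 := by
    show δ (s u) = 1
    rw [hδ (s u) Polynomial.X (by simp [hs])]
    simp [δ]
  rw [h2] at h1
  rw [← Ideal.Quotient.eq_zero_iff_mem]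
  rw [← h1, ← Ideal.Quotient.algebraMap_eq, Algebra.algebraMap_eq_smul_one]

end Groth.Agent.S5081
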