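import Groth.Statements.S5082
import Groth.Agent.H28Mero.Depth

set_option autoImplicit false
universe u
open CategoryTheory CategoryTheory.Limits AlgebraicGeometry TopologicalSpace
open Mero

namespace Groth.Agent.S5082

/-- Let A be a Noetherian local ring. Then the group of divisors of Spec A is trivial (every divisor
equals the unit divisor, divisors being written multiplicatively) if and only if A has depth 0, that
is, if and only if every element of the maximal ideal of A is a zero-divisor. -/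
theorem result (A : Type u) [CommRing A] [IsNoetherianRing A] [IsLocalRing A] :
    (∀ D : Mero.Divisor (Spec (CommRingCat.of A)), D = 1) ↔ LocCoh.depth A A = 0 := by
  set X := Spec (CommRingCat.of A)
  have hA : IsAffineOpen (⊤ : X.Opens) := isAffineOpen_top X
  haveI : IsNoetherianRing Γ(X, ⊤) :=
    isNoetherianRing_of_ringEquiv A (Scheme.ΓSpecIso (CommRingCat.of A)).symm.commRingCatIsoToRingEquiv
  let c : X := IsLocalRing.closedPoint A
  have hc : ∀ U : X.Opens, c ∈ U → U = ⊤ := fun U hU =>
    top_le_iff.mp fun y _ => (IsLocalRing.specializes_closedPoint y).mem_open U.2 hU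
  have hne : (IsLocalRing.maximalIdeal A) • (⊤ : Submodule A A) ≠ ⊤ := by
    simpa [Ideal.mul_top] using (IsLocalRing.maximalIdeal.isMaximal A).ne_top
  show _ ↔ LocCoh.idealDepth (IsLocalRing.maximalIdeal A) A = 0
  rw [H4Depth.idealDepth_eq_zero_iff hne]
  let e : A ≃+* Γ(X, ⊤) := (Scheme.ΓSpecIso (CommRingCat.of A)).symm.commRingCatIsoToRingEquiv
  constructor
  · intro h a ha hreg
    have hnzd : a ∈ nonZeroDivisors A := mem_nonZeroDivisors_iff_right.mpr fun s hs =>
      hreg (show a * s = a * 0 by rw [mul_comm, hs, mul_zero])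
    have hnzd' : e a ∈ nonZeroDivisors Γ(X, ⊤) :=
      MulEquivClass.map_nonZeroDivisors e ▸ Submonoid.mem_map_of_mem e hnzd
    letI := (Mero.toK X ⊤).toAlgebra
    haveI := H29Mero.isLocalization_toK hA (H29Mero.finite_weakAss hA)
    obtain ⟨f, hf⟩ := IsLocalization.map_units Γ(Mero.kmod X, ⊤) (⟨e a, hnzd'⟩ : nonZeroDivisors Γ(X, ⊤))
    have h1 : (Mero.div f).1 c = 1 := by rw [h (Mero.div f)]; rfl
    obtain ⟨v, hv⟩ := H28Mero.germ_eq_iff.1
      (show (QuotientGroup.mk 1 : Mero.Germ X c) = QuotientGroup.mk (H28Mero.uval f ⟨c, trivial⟩) from h1.symm)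
    have hgerm : IsUnit (X.presheaf.germ ⊤ c trivial (e a)) := by
      have h2 : (f : Γ(Mero.kmod X, ⊤)).1 ⟨c, trivial⟩ = H28Mero.aK c v := hv.trans (one_mul _)
      rw [show (f : Γ(Mero.kmod X, ⊤)) = Mero.toK X ⊤ (e a) from hf, H28Mero.toK_val] at h2
      rw [H28Mero.aK_injective c h2]
      exact v.isUnit
    have hbo : X.basicOpen (e a) = ⊤ := hc _ ((X.mem_basicOpen (e a) c trivial).mpr hgerm)
    have hu : IsUnit (e a) := by
      have := RingedSpace.isUnit_res_basicOpen X.toLocallyRingedSpace.toRingedSpace (e a)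
      refine X.toLocallyRingedSpace.toRingedSpace.isUnit_of_isUnit_germ ⊤ _ fun y hy => ?_
      exact (X.mem_basicOpen (e a) y hy).mp (hbo.symm ▸ Opens.mem_top y)
    exact (IsLocalRing.mem_maximalIdeal a).mp ha (by simpa using hu.map e.symm)
  · intro h D
    obtain ⟨U, hcU, f, hf⟩ := H28Mero.exists_local_rep D c
    obtain rfl := hc U hcU
    letI := (Mero.toK X ⊤).toAlgebra
    haveI := H29Mero.isLocalization_toK hA (H29Mero.finite_weakAss hA)
    have hunit : ∀ r ∈ nonZeroDivisors Γ(X, ⊤), IsUnit r := by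
      intro r hr
      obtain ⟨a, rfl⟩ := e.surjective r
      by_contra hu
      have hnzd : a ∈ nonZeroDivisors A := by
        have := MulEquivClass.map_nonZeroDivisors e.symm ▸ Submonoid.mem_map_of_mem e.symm hr
        rwa [e.symm_apply_apply] at this
      exact h a ((IsLocalRing.mem_maximalIdeal a).mpr fun hua => hu (hua.map e)) fun x y hxy =>
        (mul_cancel_left_mem_nonZeroDivisors hnzd).mp hxy
    let E := IsLocalization.atUnits Γ(X, ⊤) (nonZeroDivisors Γ(X, ⊤)) (S := Γ(Mero.kmod X, ⊤)) hunit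
    obtain ⟨r, hr⟩ := E.surjective f
    have hru : IsUnit r := (MulEquiv.isUnit_map E).mp (hr ▸ f.isUnit)
    refine Subtype.ext (funext fun y => ?_)
    rw [hf ⟨y, trivial⟩]
    refine ((H28Mero.germ_eq_iff (g := 1)).mpr ⟨(hru.map (X.presheaf.germ ⊤ y trivial).hom).unit, ?_⟩).symm
    rw [Units.val_one, one_mul]
    refine Eq.trans ?_ (H28Mero.toK_val r ⟨y, trivial⟩)
    exact congrArg (fun s : Γ(Mero.kmod X, ⊤) => s.1 ⟨y, trivial⟩) hr.symm

end Groth.Agent.S5082
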