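import Groth.Statements.S5085
import Groth.Agent.H28Mero.Basic

set_option autoImplicit false
universe u
open CategoryTheory CategoryTheory.Limits AlgebraicGeometry TopologicalSpace
open Mero

namespace Groth.Agent.S5085

/-- Let X be a scheme, U an open subset and V an open subset of U which is schematically dense in U (for
every open W ⊆ U, restriction of functions from W to W ∩ V is injective). Then restriction of
sections of the sheaf of meromorphic functions K_X from U to V is injective: the canonical map from
meromorphic functions to pseudo-functions is injective. -/
theorem result (X : Scheme.{u}) (U V : X.Opens) (hVU : V ≤ U)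
    (hV : ∀ W : X.Opens, W ≤ U →
      Function.Injective ⇑(X.presheaf.map (homOfLE (inf_le_left : W ⊓ V ≤ W)).op)) :
    Function.Injective ⇑((Mero.kmod X).presheaf.map (homOfLE hVU).op) := by
  exact Groth.Agent.H28Mero.kmod_map_injective U V hVU hV

end Groth.Agent.S5085
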