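import Groth.Statements.S5089
import Groth.Agent.H28Mero.Regular

set_option autoImplicit false
universe u
open CategoryTheory CategoryTheory.Limits AlgebraicGeometry TopologicalSpace
open Mero

namespace Groth.Agent.S5089

/-- Case b): let X be a reduced scheme whose set of irreducible components is locally finite (every
point has an open neighbourhood meeting only finitely many irreducible components). Then every
invertible O_X-module is isomorphic to O_X(D) for some divisor D on X; in other words the canonical
homomorphism Div(X) → Pic(X) is surjective. -/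
theorem result (X : Scheme.{u}) [IsReduced X]
    (hX : ∀ x : ↥X, ∃ W : X.Opens, x ∈ W ∧
      {Z : Set ↥X | Z ∈ irreducibleComponents ↥X ∧ (Z ∩ (W : Set ↥X)).Nonempty}.Finite)
    (L : X.Modules) (hL : PicF.IsInvertible L) :
    ∃ D : Mero.Divisor X, Nonempty (L ≅ Mero.divMod D) := by
  have hfin : ∀ U : X.Opens, IsAffineOpen U →
      {y : X | y ∈ U ∧ Curv2.IsWeakAssPoint (Coh.structureModule X) y}.Finite := by
    intro U hU
    choose W hxW hW using hX
    obtain ⟨t, ht⟩ := hU.isCompact.elim_finite_subcover (fun x : X => (W x : Set X)) (fun x => (W x).2)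
      (fun x _ => Set.mem_iUnion.mpr ⟨x, hxW x⟩)
    refine (t.finite_toSet.biUnion fun x _ =>
      H28Mero.finite_weakAss_of_locallyFinite (le_refl (W x)) (hW x)).subset ?_
    rintro y ⟨hy, hw⟩
    obtain ⟨x, hx, hyx⟩ := Set.mem_iUnion₂.mp (ht hy)
    exact Set.mem_iUnion₂.mpr ⟨x, hx, hyx, hw⟩
  obtain ⟨s, hs⟩ := H29Mero.hasRegularMero L (fun y hy z hz => H28Mero.eq_of_specializes_of_weakAss hy hz) hfin hL
  exact H28Mero.exists_divisor_iso L s hs hL

end Groth.Agent.S5089
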