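import Groth.Statements.S5092
import Groth.Agent.H28Mero.Div

set_option autoImplicit false
universe u
open CategoryTheory CategoryTheory.Limits AlgebraicGeometry TopologicalSpace
open Mero

namespace Groth.Agent.S5092

/-- Suppose X and Y are schemes, both locally Noetherian, and f : X → Y is a morphism carrying each
associated point of O_X (that is, a point whose local ring has its maximal ideal among its
associated primes) to an associated point of O_Y. Then, given any open subset U of Y and any regular
function s on U (one whose germ at each point of U is a non-zero-divisor), the function on f⁻¹(U)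
obtained by pulling s back along f is again regular; as a result, every meromorphic function and
every divisor on Y admits a well-defined pullback along f. -/
theorem result {X Y : Scheme.{u}} [IsLocallyNoetherian X] [IsLocallyNoetherian Y]
    (f : X ⟶ Y)
    (hf : ∀ x : ↥X, IsAssociatedPrime (IsLocalRing.maximalIdeal ↑(X.presheaf.stalk x)) ↑(X.presheaf.stalk x) →
      IsAssociatedPrime (IsLocalRing.maximalIdeal ↑(Y.presheaf.stalk (f x))) ↑(Y.presheaf.stalk (f x))) :
    ∀ (U : Y.Opens) (s : Γ(Y, U)), s ∈ Mero.regSub Y U → f.app U s ∈ Mero.regSub X (f ⁻¹ᵁ U) := by
  exact fun U s hs => Groth.Agent.H28Mero.app_mem_regSub f (fun x hx r hr =>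
    Groth.Agent.H29Mero.isUnit_of_weakAss
      ((H29Blow.isWeakAssPoint_structureModule_iff _).mpr
        (hf x ((H29Blow.isWeakAssPoint_structureModule_iff x).mp hx))) hr) U s hs

end Groth.Agent.S5092
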