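import Groth.Statements.S5097
import Groth.Agent.H28Mero.Div

set_option autoImplicit false
universe u
open CategoryTheory CategoryTheory.Limits AlgebraicGeometry TopologicalSpace
open Mero

namespace Groth.Agent.S5097

/-- Injectivity of the canonical homomorphism from divisors to invertible fractional ideals: let X be a
scheme and D, D' two divisors on X such that, over every open subset U, a section t of the sheaf of
meromorphic functions lies in O_X(D) (t_x · g ∈ O_{X,x} for a representative g of the germ of D at
x, for all x in U) if and only if it lies in O_X(D'). Then D = D'. -/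
theorem result (X : Scheme.{u}) (D D' : Mero.Divisor X)
    (h : ∀ (U : X.Opens) (t : Γ(Mero.kmod X, U)),
      (∀ x : ↥U, Mero.DivCond D x.1 (t.1 x)) ↔ (∀ x : ↥U, Mero.DivCond D' x.1 (t.1 x))) :
    D = D' := by
  exact Groth.Agent.H28Mero.eq_of_divCond D D' h

end Groth.Agent.S5097
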