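import Groth.Statements.S5098
import Groth.Agent.H28Mero.Depth

set_option autoImplicit false
universe u
open CategoryTheory CategoryTheory.Limits AlgebraicGeometry TopologicalSpace
open Mero

namespace Groth.Agent.S5098

/-- General form, for divisors on a scheme that need not be integral: let X be a locally Noetherian
scheme and D a divisor on X. If the germ of D is effective (resp. trivial) at every point x whose
local ring O_{X,x} has depth 1, then D is effective (resp. D is the unit divisor, in the
multiplicative notation used here). -/
theorem result (X : Scheme.{u}) [IsLocallyNoetherian X] (D : Mero.Divisor X) :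
    ((∀ x : ↥X, LocCoh.depth ↑(X.presheaf.stalk x) ↑(X.presheaf.stalk x) = 1 → Mero.IsEffectiveAt D x) →
        Mero.IsEffective D) ∧
      ((∀ x : ↥X, LocCoh.depth ↑(X.presheaf.stalk x) ↑(X.presheaf.stalk x) = 1 → D.1 x = 1) → D = 1) := by
  refine ⟨fun h x => ?_, fun h => ?_⟩
  · by_contra hx
    obtain ⟨z, -, hd, hz⟩ := H28Mero.exists_depth_one_of_not_effective D x hx
    exact hz (h z hd)
  · refine Subtype.ext (funext fun x => H28Mero.eq_one_of_effective D x ?_ ?_)
    · by_contra hx
      obtain ⟨z, -, hd, hz⟩ := H28Mero.exists_depth_one_of_not_effective D x hx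
      exact hz (H28Mero.effective_of_eq_one D z (h z hd))
    · by_contra hx
      obtain ⟨z, -, hd, hz⟩ := H28Mero.exists_depth_one_of_not_effective D⁻¹ x hx
      exact hz (H28Mero.effective_of_eq_one D⁻¹ z (inv_eq_one.mpr (h z hd)))

end Groth.Agent.S5098
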