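import Groth.Statements.S5099
import Groth.Agent.H28Mero.Depth

set_option autoImplicit false
universe u
open CategoryTheory CategoryTheory.Limits AlgebraicGeometry TopologicalSpace
open Mero

namespace Groth.Agent.S5099

/-- General form, for divisors on a scheme that need not be integral: let X be a locally Noetherian
scheme, D a divisor on X and x a maximal point of the support of D (a point at which the germ of D
is not trivial and none of whose proper generizations has that property). Then the local ring of X
at x has depth 1. -/
theorem result (X : Scheme.{u}) [IsLocallyNoetherian X] (D : Mero.Divisor X)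
    (x : ↥X) (hx : x ∈ Mero.supp D) (hmax : ∀ z : ↥X, z ∈ Mero.supp D → z ⤳ x → z = x) :
    LocCoh.depth ↑(X.presheaf.stalk x) ↑(X.presheaf.stalk x) = 1 := by
  by_contra hd
  have key : ∀ E : Mero.Divisor X, (∀ z, E.1 z ≠ 1 → z ∈ Mero.supp D) → Mero.IsEffectiveAt E x := by
    intro E hE
    by_contra hne
    obtain ⟨z, hzx, hdz, hz⟩ := H28Mero.exists_depth_one_of_not_effective E x hne
    exact hd (hmax z (hE z fun h => hz (H28Mero.effective_of_eq_one E z h)) hzx ▸ hdz)
  exact hx (H28Mero.eq_one_of_effective D x (key D fun _ h => h)
    (key D⁻¹ fun z h h' => h (inv_eq_one.mpr h')))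

end Groth.Agent.S5099
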