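import Groth.Statements.S5100
import Groth.Agent.H7CDiv.UniformOrder
-- import your own Groth.Agent.* helpers here

set_option autoImplicit false
universe u
open CategoryTheory CategoryTheory.Limits AlgebraicGeometry TopologicalSpace
open Div21

namespace Groth.Agent.S5100

/-- Suppose X and Y are locally Noetherian schemes, and consider a morphism f : X → Y that is flat and
surjective (i.e. faithfully flat) and is either quasi-compact or open. Assume Y is normal, and that
whenever y ∈ Y has a local ring of dimension 1, the fibre X_y has no embedded associated point (if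
one associated point of X_y specializes to another, the two coincide). Given an effective Cartier
divisor D' on X, described by its ideal sheaf 𝓙, D' arises as the inverse image of some effective
Cartier divisor on Y exactly when both of the following hold: (1) at each maximal point η of Y,
pulling D' back to the fibre X_η gives zero (the resulting ideal is the unit ideal); and (2) at each
y ∈ Y with one-dimensional local ring (a discrete valuation ring, because Y is normal) one can find
an integer n ≥ 0 so that, for any uniformizer t of O_{Y,y} and any maximal point x of f⁻¹(y), the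
ideal of D' in O_{X,x} (namely the inverse image of 𝓙 on Spec O_{X,x}) is generated by the image of
t raised to the n-th power. -/
theorem result {X Y : Scheme.{u}}
    [IsLocallyNoetherian X] [IsLocallyNoetherian Y] (f : X ⟶ Y) [Flat f] [Surjective f]
    (hf : QuasiCompact f ∨ IsOpenMap f) (hY : Pi1.IsNormalScheme Y)
    (hfib : ∀ y : ↥Y, ringKrullDim ↑(Y.presheaf.stalk y) = 1 → ∀ z z' : ↥(f.fiber y),
      IsAssociatedPrime (IsLocalRing.maximalIdeal ↑((f.fiber y).presheaf.stalk z)) ↑((f.fiber y).presheaf.stalk z) →
      IsAssociatedPrime (IsLocalRing.maximalIdeal ↑((f.fiber y).presheaf.stalk z')) ↑((f.fiber y).presheaf.stalk z') →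
      z' ⤳ z → z' = z)
    (𝓙 : X.IdealSheafData) (hJ : BlowUp.IsEffCartierIdeal 𝓙) :
    (∃ 𝓘 : Y.IdealSheafData, BlowUp.IsEffCartierIdeal 𝓘 ∧ 𝓘.comap f = 𝓙) ↔
      ((∀ η : ↥Y, (∀ z : ↥Y, z ⤳ η → z = η) → 𝓙.comap (f.fiberι η) = ⊤) ∧
        ∀ y : ↥Y, ringKrullDim ↑(Y.presheaf.stalk y) = 1 → ∃ n : ℕ, ∀ t : ↑(Y.presheaf.stalk y),
          IsLocalRing.maximalIdeal ↑(Y.presheaf.stalk y) = Ideal.span {t} →
          ∀ (x : ↥X) (hx : f x = y), (∀ z : ↥X, f z = y → z ⤳ x → z = x) →
            (𝓙.comap (X.fromSpecStalk x)).ideal ⟨⊤, isAffineOpen_top _⟩ =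
              Ideal.span {(Scheme.ΓSpecIso (X.presheaf.stalk x)).inv
                (((f.stalkMap x).hom ((Y.presheaf.stalkCongr (.of_eq hx.symm)).hom t)) ^ n)}) := by
  exact H7CDiv.descends_iff_uniform f hf hY hfib 𝓙 hJ

end Groth.Agent.S5100
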