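import Groth.Statements.S8923
import Groth.Agent.H29Ref.SecOrd
import Groth.Agent.H11Ample.Tensor

set_option autoImplicit false
universe u
open CategoryTheory CategoryTheory.Limits AlgebraicGeometry TopologicalSpace
open SDiv

namespace Groth.Agent.S8923

/-- Let X be an integral scheme that is locally Noetherian, L an invertible O_X-module and s a nonzero
rational (regular meromorphic) section of L, viewed as a nonzero element of the stalk of L at the
generic point. Then the collection of prime divisors Z ⊆ X with ord_{Z,L}(s) ≠ 0, i.e. the closures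
of the codimension-1 points x (dim O_{X,x} = 1) along which s has nonzero order, is locally finite
in X. -/
theorem result (X : Scheme.{u}) [IsIntegral X] [IsLocallyNoetherian X] (L : X.Modules)
    (hL : PicF.IsInvertible L) (s : Cyc.secFibre L (genericPoint ↥X)) (hs : s ≠ 0) :
    LocallyFinite (fun x : {x : ↥X // ringKrullDim ↑(X.presheaf.stalk x) = 1 ∧
        Cyc.secOrdAt L (genericPoint ↥X) x ((genericPoint_spec ↥X).specializes (Set.mem_univ x)) s ≠ 0} => closure ({x.1} : Set ↥X)) := by
  obtain ⟨v, rfl⟩ := H29Ref.exists_rat_eq L s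
  have hv : v ≠ 0 := (H29Ref.rat_ne_zero_iff L v).mp hs
  have hLc := H11Ample.isCoh_of_isInvertible hL
  obtain ⟨U, hU, ⟨e⟩⟩ := hL (genericPoint X)
  have hη := H8Props.FunDescent.stalkFree_of_isFreeOfRankNear L hLc.1 (p := 1)
    ⟨U, hU, ⟨e ≪≫ (coproductUniqueIso fun _ : Fin 1 => Coh.structureModule (U : Scheme.{u})).symm⟩⟩
  intro y
  obtain ⟨W, hW, hyW, -⟩ := exists_isAffineOpen_mem_and_subset (X := X) (x := y) (U := ⊤) trivial
  refine ⟨W, W.2.mem_nhds hyW, Set.Finite.subset ((H29Ref.finite_secO_ne_zero L hLc hη v hv hW).preimage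
    Subtype.val_injective.injOn) ?_⟩
  rintro ⟨x, hx1, hne⟩ ⟨z, hzx, hzW⟩
  have hc : Order.coheight x = 1 := by
    rw [ringKrullDim_stalk_eq_coheight] at hx1
    exact WithBot.coe_injective hx1
  exact ⟨(specializes_iff_mem_closure.mpr hzx).mem_open W.2 hzW, hc, hne⟩

end Groth.Agent.S8923
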