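import Groth.Statements.S5103
import Groth.Agent.H29Ref.DivClass
import Groth.Agent.H29Ref.DivIdeal
import Groth.Agent.H8Props.FinLocFree.Sheaf
import Groth.Agent.S8923

set_option autoImplicit false
universe u
open CategoryTheory CategoryTheory.Limits AlgebraicGeometry TopologicalSpace
open Div21

namespace Groth.Agent.S5103

open CategoryTheory CategoryTheory.Limits AlgebraicGeometry TopologicalSpace

/-- For an integral scheme (the canonical homomorphism Pic(X) → Cl(X) to the group of codimension-1
cycle classes is injective): let X be a normal locally Noetherian integral scheme, L an invertible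
O_X-module and s a nonzero rational section of L (a nonzero element of the fibre of L at the generic
point). If the Weil divisor of s is principal — there is a nonzero rational function f whose order
of vanishing at every point of codimension 1 (coheight 1 in the specialization order) equals the
order of s there — then L is isomorphic to O_X. -/
theorem result (X : Scheme.{u}) [IsIntegral X] [IsLocallyNoetherian X]
    (hX : Pi1.IsNormalScheme X) (L : X.Modules) (hL : PicF.IsInvertible L)
    (s : Cyc.secFibre L (genericPoint ↥X)) (hs : s ≠ 0) (f : ↑X.functionField) (hf : f ≠ 0)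
    (h : ∀ x : ↥X, Order.coheight x = 1 →
      Cyc.secOrdAt L (genericPoint ↥X) x (genericPoint_specializes x) s = Scheme.ord f x) :
    Nonempty (L ≅ Coh.structureModule X) := by
  obtain ⟨v, rfl⟩ := Groth.Agent.H29Ref.exists_rat_eq L s
  have hv : v ≠ 0 := (Groth.Agent.H29Ref.rat_ne_zero_iff L v).mp hs
  have hLc := Groth.Agent.H11Ample.isCoh_of_isInvertible hL
  have hfree : ∀ x : X, Groth.Agent.H8Props.FunDescent.StalkFree L 1 x := fun x => by
    obtain ⟨U, hU, ⟨e⟩⟩ := hL x
    exact Groth.Agent.H8Props.FunDescent.stalkFree_of_isFreeOfRankNear L hLc.1 (p := 1)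
      ⟨U, hU, ⟨e ≪≫ (coproductUniqueIso fun _ : Fin 1 => Coh.structureModule (U : Scheme.{u})).symm⟩⟩
  have hL1 : RefHull.IsRef1 L := ⟨hLc, (Groth.Agent.H29Ref.isReflexive_iff _ hLc).mpr fun x => by
    obtain ⟨b⟩ := hfree x
    haveI := Module.Free.of_basis b
    haveI := Module.Finite.of_basis b
    exact (inferInstance : Module.IsReflexive (X.presheaf.stalk x) (L.presheaf.stalk x)), Groth.Agent.H29Ref.genInvertible_of_stalkFree _ hLc (hfree _)⟩
  let one := Groth.Agent.H29Ref.oneStalk (X := X) (genericPoint X)
  refine Groth.Agent.H29Ref.nonempty_iso_of_secO_eq hX hL1 Groth.Agent.H29Ref.isRef1_structureModule hv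
    (w := (f : X.presheaf.stalk (genericPoint X)) • one)
    (fun h0 => hf ((Groth.Agent.H29Ref.bijective_smul_oneStalk (genericPoint X)).1
      (show f • one = (0 : X.presheaf.stalk (genericPoint X)) • one from h0.trans (zero_smul _ _).symm))) fun x hx => ?_
  refine (h x hx).trans ?_
  obtain ⟨t, ht⟩ := Groth.Agent.H29Ref.exists_isStalkGen_of_isRef1 hX _ Groth.Agent.H29Ref.isRef1_structureModule x hx
  have hg : Groth.Agent.H29Ref.IsStalkGen (Coh.structureModule X) x (Groth.Agent.H29Ref.oneStalk x) := by
    refine ⟨eq_top_iff.mpr fun v _ => ?_, ?_, fun v => ?_⟩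
    · obtain ⟨r, rfl⟩ := (Groth.Agent.H29Ref.bijective_smul_oneStalk x).2 v
      exact Submodule.smul_mem _ _ (Submodule.mem_span_singleton_self _)
    · rw [Groth.Agent.H29Ref.sp_oneStalk]; exact Groth.Agent.H29Ref.oneStalk_ne_zero _
    · obtain ⟨r, hr⟩ := (Groth.Agent.H29Ref.bijective_smul_oneStalk (genericPoint X)).2 v
      exact ⟨r, by rw [Groth.Agent.H29Ref.sp_oneStalk]; exact hr.symm⟩
  refine (Groth.Agent.H29Ref.secO_eq hx hg (fun h0 => hf ((Groth.Agent.H29Ref.bijective_smul_oneStalk (genericPoint X)).1
      (show f • one = (0 : X.presheaf.stalk (genericPoint X)) • one from h0.trans (zero_smul _ _).symm))) (φ := f) ?_).symm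
  rw [Groth.Agent.H29Ref.sp_oneStalk]

end Groth.Agent.S5103
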