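import Groth.Statements.S5105
import Groth.Agent.H29Ref.DivClass
import Groth.Agent.H29Ref.DivIdeal
import Groth.Agent.H8Props.FinLocFree.Sheaf
import Groth.Agent.H26CDiv.Generization
import Groth.Agent.S8923

set_option autoImplicit false
universe u
open CategoryTheory CategoryTheory.Limits AlgebraicGeometry TopologicalSpace
open Div21

namespace Groth.Agent.S5105

open CategoryTheory CategoryTheory.Limits AlgebraicGeometry TopologicalSpace
open Groth.Agent

/-- For an integral scheme (X is locally factorial exactly when the canonical map Pic(X) → Cl(X) is a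
bijection; in the presence of (i), being bijective means that each codimension-1 cycle arises as the
Weil divisor of some rational section of an invertible module): suppose X is an integral scheme that
is normal and locally Noetherian. Then these two conditions are equivalent: (1) whenever Z is a
function from the points of X to the integers that is zero away from the points of codimension 1
(coheight 1) and whose support is locally finite, one can find an invertible O_X-module L together
with a nonzero rational section s of L (a nonzero element of the generic fibre of L) such that, at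
each point of codimension 1, the order of s equals the value Z takes there; (2) each local ring of X
is a unique factorisation domain. -/
theorem result (X : Scheme.{u}) [IsIntegral X]
    [IsLocallyNoetherian X] (hX : Pi1.IsNormalScheme X) :
    (∀ Z : ↥X → ℤ, (∀ x : ↥X, Order.coheight x ≠ 1 → Z x = 0) →
        (∀ x : ↥X, ∃ W : X.Opens, x ∈ W ∧ {z : ↥X | z ∈ W ∧ Z z ≠ 0}.Finite) →
        ∃ (L : X.Modules) (_ : PicF.IsInvertible L) (s : Cyc.secFibre L (genericPoint ↥X)), s ≠ 0 ∧
          ∀ x : ↥X, Order.coheight x = 1 →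
            Cyc.secOrdAt L (genericPoint ↥X) x (genericPoint_specializes x) s = Z x) ↔
      ∀ x : ↥X, UniqueFactorizationMonoid ↑(X.presheaf.stalk x) := by
  classical
  have hIC : ∀ x : X, IsIntegrallyClosed (X.presheaf.stalk x) := fun x => (hX x).2
  constructor
  · intro H x
    rw [UniqueFactorizationMonoid.iff_exists_prime_mem_of_isPrime]
    intro P hP0 hP
    obtain ⟨a₀, ha₀P, ha₀⟩ := Submodule.exists_mem_ne_zero_of_ne_bot hP0
    obtain ⟨q, hqmin, hqP⟩ := Ideal.exists_minimalPrimes_le
      (show Ideal.span {a₀} ≤ P from (Ideal.span_singleton_le_iff_mem P).2 ha₀P)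
    haveI hq : q.IsPrime := hqmin.1.1
    have hqh : q.height = 1 := by
      refine le_antisymm (Ideal.height_le_one_of_isPrincipal_of_mem_minimalPrimes (Ideal.span {a₀}) q hqmin)
        (Order.one_le_iff_pos.2 (pos_iff_ne_zero.2 fun h0 => ha₀ ?_))
      rw [Ideal.height_eq_zero_iff, IsDomain.minimalPrimes_eq_singleton_bot, Set.mem_singleton_iff] at h0
      have := hqmin.1.2 (Ideal.mem_span_singleton_self a₀)
      rwa [h0, Ideal.mem_bot] at this
    obtain ⟨z, hzx, hzq⟩ := H26CDiv.exists_qOf_eq q
    have hz : Order.coheight z = 1 := by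
      have h := H26CDiv.height_qOf hzx
      rw [hzq, hqh] at h
      exact (WithBot.coe_injective h).symm
    obtain ⟨L, hL, s, hs, hord⟩ := H (fun y => if y = z then 1 else 0)
      (fun y hy => if_neg (c := y = z) fun h => hy (h ▸ hz))
      (fun y => ⟨⊤, trivial, (Set.finite_singleton z).subset fun w hw => by
        by_contra h; exact hw.2 (if_neg h)⟩)
    obtain ⟨v, rfl⟩ := H29Ref.exists_rat_eq L s
    have hv : v ≠ 0 := (H29Ref.rat_ne_zero_iff L v).mp hs
    have hLc := H11Ample.isCoh_of_isInvertible hL
    obtain ⟨U, hxU, ⟨e⟩⟩ := hL x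
    let e1 := e ≪≫ (coproductUniqueIso fun _ : Fin 1 => Coh.structureModule (U : Scheme.{u})).symm
    obtain ⟨V, hV, hxV, hVU⟩ := exists_isAffineOpen_mem_and_subset (X := X) (x := x) (U := U) hxU
    obtain ⟨b⟩ := H8Props.FinLocFree.exists_basis_of_chart L e1 (V := V) hVU
    have hspan : ∀ y : V, Submodule.span (X.presheaf.stalk y.1) {L.presheaf.germ V y.1 y.2 (b 0)} = ⊤ := fun y => by
      have h := H29Ref.span_germ_affine L hLc.1 hV b b.span_eq y
      rwa [Set.range_unique] at h
    have hηV : genericPoint X ∈ V := H29Ref.genericPoint_mem hxV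
    have hη : H8Props.FunDescent.StalkFree L 1 (genericPoint X) :=
      H8Props.FunDescent.stalkFree_of_isFreeOfRankNear L hLc.1 (p := 1) ⟨U, H29Ref.genericPoint_mem hxU, ⟨e1⟩⟩
    let t₀ := L.presheaf.germ V (genericPoint X) hηV (b 0)
    have ht₀ : t₀ ≠ 0 := fun h0 => hv (by
      have hm : v ∈ Submodule.span (X.presheaf.stalk (genericPoint X)) {t₀} :=
        (hspan ⟨_, hηV⟩).symm ▸ Submodule.mem_top
      obtain ⟨c, rfl⟩ := Submodule.mem_span_singleton.1 hm
      rw [h0, smul_zero])
    obtain ⟨φ, hφ⟩ := Submodule.mem_span_singleton.1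
      ((hspan ⟨_, hηV⟩).symm ▸ Submodule.mem_top : v ∈ Submodule.span (X.presheaf.stalk (genericPoint X)) {t₀})
    have hφ0 : (φ : X.functionField) ≠ 0 := fun h0 => hv (by
      rw [← hφ, show φ = 0 from h0, zero_smul])
    have hval : ∀ y : X, y ⤳ x → Order.coheight y = 1 →
        Scheme.ord (φ : X.functionField) y = if y = z then 1 else 0 := fun y hy hy1 => by
      have hyV : y ∈ V := hy.mem_open V.2 hxV
      have hg : H29Ref.IsStalkGen L y (L.presheaf.germ V y hyV (b 0)) :=
        H29Ref.IsStalkGen.mk' hη (hspan ⟨y, hyV⟩) (by rw [H29Ref.sp_germ]; exact ht₀)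
      exact (H29Ref.secO_eq hy1 hg hv (φ := φ) (by rw [H29Ref.sp_germ]; exact hφ.symm)).symm.trans (hord y hy1)
    obtain ⟨a, ha⟩ := H26CDiv.reg_of_ord hIC hφ0 (x := x) fun y hy hy1 => by
      rw [hval y hy hy1]; split <;> norm_num
    have ha0 : a ≠ 0 := fun h0 => hφ0 (by rw [← ha, h0, map_zero])
    have haq : a ∈ q := by
      rw [← hzq, H26CDiv.mem_qOf_iff]
      intro hu
      have h1 := (H26CDiv.ord_spec_eq_zero_iff hIC hz hu.ne_zero).2 hu
      rw [H26CDiv.algebraMap_spec, ha, hval z hzx hz, if_pos rfl] at h1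
      exact one_ne_zero h1
    have hqa : q = Ideal.span {a} := by
      refine le_antisymm (fun c hc => ?_) ((Ideal.span_singleton_le_iff_mem q).2 haq)
      rw [Ideal.mem_span_singleton]
      by_cases hc0 : c = 0
      · exact hc0 ▸ dvd_zero a
      let cK := algebraMap (X.presheaf.stalk x) X.functionField c
      have hcK : cK ≠ 0 := fun h0 => hc0 (IsFractionRing.injective (X.presheaf.stalk x) X.functionField
        (h0.trans (map_zero _).symm))
      let f : X.functionField := cK / φ
      have hf : f ≠ 0 := div_ne_zero hcK hφ0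
      have hfφ : f * φ = cK := div_mul_cancel₀ _ hφ0
      obtain ⟨r, hr⟩ := H26CDiv.reg_of_ord hIC hf (x := x) fun y hy hy1 => by
        have hreg : H26CDiv.Reg y cK := H26CDiv.Reg.of_specializes hy ⟨c, rfl⟩
        have h0 := (H26CDiv.ord_nonneg_iff_reg hIC hy1 hcK).2 hreg
        have hm := Scheme.ord_mul (x := y) hf hφ0
        rw [show f * φ = cK from hfφ, hval y hy hy1] at hm
        split at hm
        · next hyz =>
          subst hyz
          have hnu : Scheme.ord cK y ≠ 0 := fun h00 => by
            have hcq : c ∈ H26CDiv.qOf hy := hzq.symm ▸ hc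
            refine (H26CDiv.mem_qOf_iff hy c).1 hcq ((H26CDiv.ord_spec_eq_zero_iff hIC hy1 fun hs0 => hcK ?_).1
              (by rw [H26CDiv.algebraMap_spec]; exact h00))
            show algebraMap _ _ c = 0
            rw [← H26CDiv.algebraMap_spec hy, hs0, map_zero]
          omega
        · omega
      refine ⟨r, IsFractionRing.injective (X.presheaf.stalk x) X.functionField ?_⟩
      rw [map_mul, hr, ha, mul_comm]
      exact hfφ.symm
    refine ⟨a, hqP haq, (Ideal.span_singleton_prime ha0).1 (hqa ▸ hq)⟩
  · intro hufd Z hZ hZfin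
    obtain ⟨F, hF, v, hv, hvD⟩ := H29Ref.exists_isRef1_hasOrd hX Z
      (fun x hx => not_not.mp fun h => hx (hZ x h)) fun W hW => by
        choose t ht htfin using hZfin
        obtain ⟨T, hT⟩ := hW.isCompact.elim_nhds_subcover (fun y => (t y : Set X))
          fun y _ => (t y).2.mem_nhds (ht y)
        refine (T.finite_toSet.biUnion fun y _ => htfin y).subset ?_
        rintro w ⟨hwW, hw⟩
        obtain ⟨y, hy, hwy⟩ := Set.mem_iUnion₂.mp (hT.2 hwW)
        exact Set.mem_iUnion₂.mpr ⟨y, hy, hwy, hw⟩
    have hη := H29Ref.stalkFree_generic F hF.1 hF.2.2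
    refine ⟨F, H29Ref.isInvertible_of_free_stalk F hF.1 hF.2.2 fun x => ?_,
      H29Ref.rat F v, (H29Ref.rat_ne_zero_iff F v).mpr hv, hvD⟩
    haveI := hufd x
    haveI := H29Ref.finite_stalk F hF.1.2 x
    haveI : Module.IsReflexive (X.presheaf.stalk x) (F.presheaf.stalk x) :=
      (H29Ref.isReflexive_iff F hF.1).1 hF.2.1 x
    obtain ⟨bη⟩ := hη
    exact H29Ref.free_of_rank_one _ fun p w hw =>
      H29Ref.exists_smul_eq_smul F hF.1.1 (H29Ref.isTorsionFree_of_isReflexive F hF.1 hF.2.1) (bη 0)
        (fun v => ⟨bη.repr v 0, by conv_rhs => rw [← bη.sum_repr v, Fin.sum_univ_one]⟩) x p w hw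

end Groth.Agent.S5105
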