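-- statement Lim8.GrothFrozen.S5106 (Groth/Statements/S5106.lean; the theorem Lim8.isMaximalPoint_limit_iff_forall_stage);
import Groth.Statements.S5106
import Groth.Agent.H7Lim.MaximalPoints

set_option autoImplicit false
universe u
open CategoryTheory CategoryTheory.Limits AlgebraicGeometry TopologicalSpace
open Lim8

namespace Groth.Agent.S5106

/-- Let (S_i) be a cofiltered system of schemes with affine transition morphisms and S its limit.
Suppose that every S_i has only finitely many maximal points (points with no proper generization,
i.e. generic points of irreducible components) and that the transition morphisms send maximal points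
to maximal points. Then the set of maximal points of S is the limit of the sets of maximal points of
the S_i: a point of S is maximal if and only if its image in every S_i is a maximal point of S_i. -/
theorem result {I : Type u} [SmallCategory I] [IsCofiltered I]
    (D : I ⥤ Scheme.{u}) (c : Limits.Cone D) (hc : Limits.IsLimit c)
    [∀ (i j : I) (g : i ⟶ j), IsAffineHom (D.map g)]
    (hfin : ∀ i : I, {s : ↥(D.obj i) | ∀ z : ↥(D.obj i), z ⤳ s → z = s}.Finite)
    (hsys : ∀ (i j : I) (g : i ⟶ j) (s : ↥(D.obj i)), (∀ z : ↥(D.obj i), z ⤳ s → z = s) →
      ∀ z : ↥(D.obj j), z ⤳ D.map g s → z = D.map g s)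
    (s : ↥c.pt) :
    (∀ z : ↥c.pt, z ⤳ s → z = s) ↔ ∀ (i : I) (z : ↥(D.obj i)), z ⤳ c.π.app i s → z = c.π.app i s := by
  exact Groth.Agent.H7Lim.isMaxPoint_pt_iff hc hfin hsys s

end Groth.Agent.S5106
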