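-- statement Lim8.GrothFrozen.S5107 (Groth/Statements/S5107.lean; the theorem Lim8.isSchematicallyDense_preimage_limit_iff_exists_stage);
import Groth.Statements.S5107
import Groth.Agent.H7Lim.SchDenseLimit

set_option autoImplicit false
universe u
open CategoryTheory CategoryTheory.Limits AlgebraicGeometry TopologicalSpace
open Lim8

namespace Groth.Agent.S5107

/-- Let (X_i) be a cofiltered system of Noetherian schemes with affine and flat transition morphisms, X
its limit, assumed Noetherian as well, and U₀ an open subset of X_{i₀}, with inverse images U_i in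
X_i (for i over i₀) and U in X. Then U is schematically dense in X if and only if there is an index
i over i₀ such that U_i is schematically dense in X_i (and then, the transition morphisms being
flat, U_j is schematically dense in X_j for every j over i). -/
theorem result {I : Type u} [SmallCategory I]
    [IsCofiltered I] (D : I ⥤ Scheme.{u}) (c : Limits.Cone D) (hc : Limits.IsLimit c)
    [∀ (i j : I) (g : i ⟶ j), IsAffineHom (D.map g)] [∀ (i j : I) (g : i ⟶ j), Flat (D.map g)]
    [∀ i : I, IsNoetherian (D.obj i)] [IsNoetherian c.pt] (i₀ : I) (U₀ : (D.obj i₀).Opens) :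
    CInt.IsSchematicallyDense ((c.π.app i₀) ⁻¹ᵁ U₀) ↔
      ∃ (i : I) (g : i ⟶ i₀), CInt.IsSchematicallyDense ((D.map g) ⁻¹ᵁ U₀) := by
  exact H7Lim.SchDenseLimit.isSchDense_iff_exists_stage hc i₀ U₀

end Groth.Agent.S5107
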