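import Groth.Statements.S5111
import Groth.Agent.H05EGA4.NormalReduction
-- import your own Groth.Agent.* helpers here

set_option autoImplicit false
universe u
open CategoryTheory CategoryTheory.Limits AlgebraicGeometry TopologicalSpace
open Rat20

namespace Groth.Agent.S5111

/-- Let S and X be locally Noetherian schemes, f : X → S a flat morphism, g : Y → S a morphism locally
of finite type, U a dense open subset of S, h : f⁻¹(U) → Y an S-morphism, Z the reduced closed
subscheme of X with underlying space f⁻¹(S − U), and h₀ : Z → Y an S-morphism; suppose X is normal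
at every point of Z. Then there is an S-morphism h' : X → Y extending h and inducing h₀ on Z if and
only if: for every spectrum S₁ of a discrete valuation ring and every morphism u : S₁ → S sending
the closed point outside U and the generic point into U, there is an S₁-morphism h'₁ : X ×_S S₁ → Y
×_S S₁ which extends the base change of h on the inverse image of U and which, at every point z₁ of
Z ×_S S₁, agrees on Spec k(z₁) with the base change of h₀. (Morphisms into Y ×_S S₁ over S₁ are
compared through their components in Y.) -/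
theorem result {X Y S : Scheme.{u}} [IsLocallyNoetherian S]
    [IsLocallyNoetherian X] (f : X ⟶ S) [Flat f] (g : Y ⟶ S) [LocallyOfFiniteType g]
    (U : S.Opens) (hU : Dense (U : Set ↥S)) (h : ↑(f ⁻¹ᵁ U) ⟶ Y) (hh : h ≫ g = (f ⁻¹ᵁ U).ι ≫ f)
    (Z : Scheme.{u}) (iZ : Z ⟶ X) [IsClosedImmersion iZ] [IsReduced Z]
    (hZ : Set.range ⇑iZ = ((f ⁻¹ᵁ U : X.Opens) : Set ↥X)ᶜ) (h₀ : Z ⟶ Y) (hh₀ : h₀ ≫ g = iZ ≫ f)
    (hnorm : ∀ z : ↥Z, IsDomain ↑(X.presheaf.stalk (iZ z)) ∧ IsIntegrallyClosed ↑(X.presheaf.stalk (iZ z))) :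
    (∃ h' : X ⟶ Y, h' ≫ g = f ∧ (f ⁻¹ᵁ U).ι ≫ h' = h ∧ iZ ≫ h' = h₀) ↔
      ∀ (R : Type u) [CommRing R] [IsDomain R] [IsDiscreteValuationRing R]
        (u : Spec (CommRingCat.of R) ⟶ S),
        u (IsLocalRing.closedPoint R) ∉ U → u (genericPoint ↥(Spec (CommRingCat.of R))) ∈ U →
        ∃ h₁ : pullback f u ⟶ pullback g u,
          h₁ ≫ pullback.snd g u = pullback.snd f u ∧
          ((pullback.fst f u) ⁻¹ᵁ (f ⁻¹ᵁ U)).ι ≫ h₁ ≫ pullback.fst g u = (pullback.fst f u ∣_ (f ⁻¹ᵁ U)) ≫ h ∧
          ∀ z₁ : ↥(pullback (iZ ≫ f) u),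
            (pullback (iZ ≫ f) u).fromSpecResidueField z₁ ≫
                pullback.lift (pullback.fst (iZ ≫ f) u ≫ iZ) (pullback.snd (iZ ≫ f) u)
                  ((Category.assoc _ _ _).trans pullback.condition) ≫ h₁ ≫ pullback.fst g u =
              (pullback (iZ ≫ f) u).fromSpecResidueField z₁ ≫ pullback.fst (iZ ≫ f) u ≫ h₀ := by
  exact Groth.Agent.H05EGA4.NormalReduction.exists_extension_iff f g U hU h hh Z iZ hZ h₀ hh₀ hnorm

end Groth.Agent.S5111
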