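import Groth.Statements.S5114
import Groth.Agent.H9Hens.FinitePartScheme
import Groth.Agent.H06EGA14.FiniteSection
import Mathlib
-- import your own Groth.Agent.* helpers here

set_option autoImplicit false
set_option linter.style.haveILetI false
set_option backward.isDefEq.respectTransparency.types false
universe u
open SGA1

namespace Groth.Agent.S5114

open AlgebraicGeometry CategoryTheory CategoryTheory.Limits in
/-- Let A be a complete Noetherian local ring, S = Spec A, and g : S' ⟶ S a surjective morphism of
finite type whose fibre over the closed point s is finite. If every point of S' specialises to some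
point of the fibre over s (equivalently: the disjoint union of the spectra of the local rings of S'
at the points over s maps onto S'), then g is universally submersive. (The published statement
asserts an equivalence and does not mention surjectivity of g; the converse fails: for A a complete
discrete valuation ring with fraction field K, S' = S ⊔ Spec K ⟶ S has a section, hence is
universally submersive, while the isolated point Spec K specialises to no point over s. This row
states the implication the published proof establishes, with the surjectivity it uses.) -/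
theorem result (A : Type u) [CommRing A]
    [IsNoetherianRing A] [IsLocalRing A] [IsAdicComplete (IsLocalRing.maximalIdeal A) A]
    {S' : Scheme.{u}} (g : S' ⟶ Spec (CommRingCat.of A)) [LocallyOfFiniteType g] [QuasiCompact g]
    [Surjective g]
    (hfin : (g.base ⁻¹' {IsLocalRing.closedPoint A}).Finite)
    (hsp : ∀ t : S', ∃ s' : S', g.base s' = IsLocalRing.closedPoint A ∧ t ⤳ s') :
    SGA1.UnivSubmersive g := by
  haveI : HenselianLocalRing A := Groth.Agent.H06EGA14.henselianLocalRing_of_adicComplete A
  let s₀ := IsLocalRing.closedPoint A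
  haveI : Finite ↥(g.fiber s₀) := by
    haveI := hfin.to_subtype
    exact Finite.of_equiv _ (g.fiberHomeo s₀).toEquiv.symm
  haveI : LocallyOfFiniteType (g.fiberToSpecResidueField s₀) := MorphismProperty.pullback_snd _ _ inferInstance
  haveI : JacobsonSpace ↥(g.fiber s₀) := LocallyOfFiniteType.jacobsonSpace (g.fiberToSpecResidueField s₀)
  haveI : DiscreteTopology ↥(g.fiber s₀) := JacobsonSpace.discreteTopology (Set.toFinite _)
  have hqf : ∀ x : S', g.base x = s₀ → g.QuasiFiniteAt x := fun x hx => by
    rw [Scheme.Hom.quasiFiniteAt_iff_isOpen_singleton_asFiber]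
    haveI : DiscreteTopology ↥(g.fiber (g x)) := by rw [show g x = s₀ from hx]; infer_instance
    exact isOpen_discrete _
  have hloc : ∀ x : g.base ⁻¹' {s₀}, ∃ W : S'.Opens, x.1 ∈ W ∧ IsFinite (W.ι ≫ g) := fun ⟨x, hx⟩ => by
    obtain ⟨_, ⟨O', hO, rfl⟩, hxO, hle⟩ := S'.isBasis_affineOpens.exists_subset_of_mem_open
      (show x ∈ g.quasiFiniteLocus from hqf x hx) g.quasiFiniteLocus.2
    let O : S'.Opens := O'
    haveI : IsAffine (O : Scheme.{u}) := hO
    haveI : LocallyQuasiFinite (O.ι ≫ g) := by
      rw [← Scheme.Hom.quasiFiniteLocus_eq_top_iff, Scheme.Hom.quasiFiniteLocus_comp]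
      exact top_le_iff.1 fun p _ => hle p.2
    obtain ⟨W, -, hW, hmem⟩ := Groth.Agent.H9Hens.exists_finitePart_scheme (O.ι ≫ g)
    haveI := hW
    refine ⟨O.ι ''ᵁ W, ⟨⟨x, hxO⟩, hmem _ hx, rfl⟩, ?_⟩
    rw [← MorphismProperty.cancel_left_of_respectsIso (P := @IsFinite) (Scheme.Hom.isoImage O.ι W).hom,
      Scheme.Hom.isoImage_hom_ι_assoc]
    infer_instance
  choose W hxW hW using hloc
  haveI := hfin.to_subtype
  have hcov : ∀ z : S', ∃ x, z ∈ W x := fun z => by
    obtain ⟨x, hx, hz⟩ := hsp z
    exact ⟨⟨x, hx⟩, hz.mem_open (W _).2 (hxW _)⟩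
  haveI : (AlgebraicGeometry.topologically fun f => Topology.IsQuotientMap f : MorphismProperty Scheme.{u}).RespectsIso :=
    topologically_respectsIso _ (fun e => e.isQuotientMap) (fun _ _ hf hg => hg.comp hf)
  refine MorphismProperty.universally_mk' _ g fun {T} t _ => ?_
  let P := pullback t g
  have hcl : ∀ Z : Set T, IsClosed ((pullback.fst t g).base ⁻¹' Z) → IsClosed Z := fun Z hZ => by
    let φ := fun x => pullback.map t ((W x).ι ≫ g) t g (𝟙 _) (W x).ι (𝟙 _) (by simp) (by simp)
    have hφ : ∀ x, φ x ≫ pullback.fst t g = pullback.fst t ((W x).ι ≫ g) := fun x =>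
      (pullback.lift_fst _ _ _).trans (Category.comp_id _)
    haveI : Surjective (pullback.fst t g) := inferInstance
    have e : Z = ⋃ x, (pullback.fst t ((W x).ι ≫ g)).base '' ((φ x).base ⁻¹' ((pullback.fst t g).base ⁻¹' Z)) := by
      refine Set.Subset.antisymm (fun z hz => ?_) (Set.iUnion_subset fun x => ?_)
      · obtain ⟨p, rfl⟩ := (pullback.fst t g).surjective z
        obtain ⟨x, hx⟩ := hcov ((pullback.snd t g).base p)
        have hp : p ∈ Set.range (φ x).base := by
          rw [Scheme.Pullback.range_map]
          exact ⟨⟨_, rfl⟩, by rw [Set.mem_preimage, Scheme.Opens.range_ι]; exact hx⟩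
        obtain ⟨p', rfl⟩ := hp
        refine Set.mem_iUnion.2 ⟨x, p', hz, ?_⟩
        rw [← hφ x, Scheme.Hom.comp_apply]
      · rintro _ ⟨p', hp', rfl⟩
        rw [← hφ x, Scheme.Hom.comp_apply]
        exact hp'
    rw [e]
    refine isClosed_iUnion_of_finite fun x => ?_
    haveI := hW x
    exact (pullback.fst t ((W x).ι ≫ g)).isClosedMap _ (hZ.preimage (φ x).continuous)
  exact Topology.isQuotientMap_iff_isClosed.2 ⟨(pullback.fst t g).surjective, fun Z =>
    ⟨fun h => h.preimage (pullback.fst t g).continuous, hcl Z⟩⟩

end Groth.Agent.S5114
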