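import Groth.Statements.S5115
import Groth.Agent.H18Et.TopInvLocal
import Groth.Agent.H7Flat.UnivHomeo

set_option autoImplicit false
universe u
open EtBase

namespace Groth.Agent.S5115

open AlgebraicGeometry CategoryTheory CategoryTheory.Limits in
/-- Let g : S' ⟶ S be faithfully flat (flat and surjective), quasi-compact and radicial (universally
injective). Then base change along g is an equivalence from the category of schemes etale over S to
the category of schemes etale over S'. -/
theorem result {S S' : Scheme.{u}} (g : S' ⟶ S)
    [Flat g] [Surjective g] [QuasiCompact g] [UniversallyInjective g] :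
    (EtCoh.bc g).IsEquivalence := by
  have hu : FlatMor.IsUnivHomeo g := by
    intro X' Y' i₁ i₂ f' hf'
    have : Flat f' := MorphismProperty.of_isPullback (P := @Flat) hf'.flip ‹_›
    have : Surjective f' := MorphismProperty.of_isPullback (P := @Surjective) hf'.flip ‹_›
    have : QuasiCompact f' := MorphismProperty.of_isPullback (P := @QuasiCompact) hf'.flip ‹_›
    have : UniversallyInjective f' := MorphismProperty.of_isPullback (P := @UniversallyInjective) hf'.flip ‹_›
    refine ⟨f'.continuous, fun U hU => ?_, f'.injective, f'.surjective⟩
    rw [← (Flat.isQuotientMap_of_surjective f').isOpen_preimage,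
      f'.injective.preimage_image]
    exact hU
  obtain ⟨h1, -, -⟩ := (Groth.Agent.H7Flat.isUnivHomeo_iff g).1 hu
  exact Groth.Agent.H18Et.TopInvLocal.bc_isEquivalence g

end Groth.Agent.S5115
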