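import Groth.Statements.S5116
import Groth.Agent.H18PBC.GeomFibre

set_option autoImplicit false
universe u
open Pi1

namespace Groth.Agent.S5116

open AlgebraicGeometry CategoryTheory CategoryTheory.Limits in
/-- The injectivity of π₁ of the geometric closed fibre into π₁ of the total space, in terms of covers.
Let A be a complete Noetherian local ring with residue field k, k̄ an algebraic closure of k, ξ :
Spec k̄ ⟶ Spec A the resulting geometric point, X a proper A-scheme with X ×_A Spec k̄ connected.
Then every finite etale cover of X ×_A Spec k̄ admits an open and closed immersion, over X ×_A Spec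
k̄, into the base change of some finite etale cover of X. -/
theorem result (A : Type u) [CommRing A]
    [IsNoetherianRing A] [IsLocalRing A] [IsAdicComplete (IsLocalRing.maximalIdeal A) A]
    {X : Scheme.{u}} (f : X ⟶ Spec (CommRingCat.of A)) [IsProper f]
    (ξ : Spec (CommRingCat.of (AlgebraicClosure (IsLocalRing.ResidueField A))) ⟶ Spec (CommRingCat.of A))
    (hξ : ξ = Spec.map (CommRingCat.ofHom ((algebraMap (IsLocalRing.ResidueField A)
      (AlgebraicClosure (IsLocalRing.ResidueField A))).comp (IsLocalRing.residue A))))
    [ConnectedSpace ↥(pullback f ξ)] (V : FEt.Cat (pullback f ξ)) :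
    ∃ (U : FEt.Cat X) (ι : V ⟶ (FEt.restrict (pullback.fst f ξ)).obj U),
      IsOpenImmersion ι.left ∧ IsClosedImmersion ι.left := by
  exact H18PBC.GeomFibre.exists_openClosed f ξ hξ V

end Groth.Agent.S5116
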