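import Groth.Statements.S5118
import Mathlib.RingTheory.Etale.StandardEtale
import Mathlib.RingTheory.DualNumber
import Mathlib.RingTheory.Localization.Away.Basic

set_option autoImplicit false
universe u
open SGA1t

namespace Groth.Agent.S5118

open Polynomial in
/-- The etaleness criterion for the Kummer group scheme: Let A be a commutative ring and n ≥ 1. The
group scheme μ_n over Spec A is the spectrum of A[t]/(t^n − 1), a free A-module of rank n; it is
etale over A if and only if n is a unit of A (equivalently, n is prime to the characteristic of the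
residue field at every point of Spec A). -/
theorem result (A : Type u) [CommRing A] (n : ℕ) (hn : 1 ≤ n) :
    Algebra.Etale A (AdjoinRoot ((X : A[X]) ^ n - 1)) ↔ IsUnit ((n : ℕ) : A) := by
  constructor
  · intro h
    let I : Ideal A := Ideal.span {(n : A)}
    have hn0 : (n : A ⧸ I) = 0 := by
      rw [← map_natCast (Ideal.Quotient.mk I), Ideal.Quotient.eq_zero_iff_mem]
      exact Ideal.mem_span_singleton_self _
    have hlift : ∀ b : A ⧸ I, (1 + TrivSqZeroExt.inr b : DualNumber (A ⧸ I)) ^ n = 1 := fun b => by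
      ext <;> simp [TrivSqZeroExt.fst_pow, TrivSqZeroExt.snd_pow, nsmul_eq_mul, hn0]
    let φ : A ⧸ I → (AdjoinRoot ((X : A[X]) ^ n - 1) →ₐ[A] DualNumber (A ⧸ I)) := fun b =>
      AdjoinRoot.liftAlgHom _ (Algebra.ofId A _) (1 + TrivSqZeroExt.inr b) (by rw [Polynomial.eval₂_sub, Polynomial.eval₂_X_pow, Polynomial.eval₂_one, hlift b, sub_self])
    have hcomp : (TrivSqZeroExt.fstHom A (A ⧸ I) (A ⧸ I)).comp (φ 1) =
        (TrivSqZeroExt.fstHom A (A ⧸ I) (A ⧸ I)).comp (φ 0) :=
      AdjoinRoot.algHom_ext (by simp [φ])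
    have hnil : IsNilpotent (RingHom.ker ((TrivSqZeroExt.fstHom A (A ⧸ I) (A ⧸ I) : DualNumber (A ⧸ I) →ₐ[A] (A ⧸ I)) : DualNumber (A ⧸ I) →+* (A ⧸ I))) := by
      refine ⟨2, le_bot_iff.1 ?_⟩
      rw [show (2 : ℕ) = 1 + 1 from rfl, Submodule.pow_succ, Submodule.pow_one]
      refine Ideal.mul_le.2 ?_
      intro x hx y hy
      rw [RingHom.mem_ker] at hx hy
      rw [Ideal.mem_bot]
      ext <;> simp_all
    have := Algebra.FormallyUnramified.lift_unique' (R := A) _ hnil _ _ hcomp
    have h10 := congrArg TrivSqZeroExt.snd (DFunLike.congr_fun this (AdjoinRoot.root _))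
    simp [φ] at h10
    rw [← map_one (Ideal.Quotient.mk I), Ideal.Quotient.eq_zero_iff_mem, ← Ideal.eq_top_iff_one,
      Ideal.span_singleton_eq_top] at h10
    exact h10
  · intro hu
    have hf : ((X : A[X]) ^ n - 1).Monic := by
      rw [← map_one C]; exact monic_X_pow_sub_C 1 (by omega)
    let P : StandardEtalePair A := ⟨X ^ n - 1, hf, 1, C (↑hu.unit⁻¹ : A) * X, -1, 0, by
      rw [derivative_sub, derivative_X_pow, derivative_one, sub_zero, pow_zero]
      have h1 : (C (n : A) : A[X]) * C (↑hu.unit⁻¹ : A) = 1 := by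
        rw [← C_mul, hu.mul_val_inv, C_1]
      have h2 : (X : A[X]) ^ (n - 1) * X = X ^ n := by rw [← pow_succ, Nat.sub_add_cancel hn]
      linear_combination (X : A[X]) ^ (n - 1) * X * h1 + h2⟩
    have hone : AdjoinRoot.mk P.f P.g = 1 := map_one _
    haveI : IsLocalization.Away (1 : AdjoinRoot P.f) (Localization.Away (AdjoinRoot.mk P.f P.g)) := by
      rw [← hone]; infer_instance
    exact Algebra.Etale.of_equiv (P.equivAwayAdjoinRoot.trans
      ((IsLocalization.atUnit (AdjoinRoot P.f) (Localization.Away (AdjoinRoot.mk P.f P.g)) 1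
        isUnit_one).symm.restrictScalars A))

end Groth.Agent.S5118
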