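import Groth.Statements.S5119
import Mathlib.Algebra.Polynomial.Laurent

set_option autoImplicit false
universe u
open scoped LaurentPolynomial
open SGA1t

namespace Groth.Agent.S5119

/-- The computation behind the exactness of the Kummer sequence 0 → μ_n → G_m → G_m → 0, i.e. faithful
flatness of the n-th power map u_n of G_m: Let A be a commutative ring and n ≥ 1, and let u_n be the
ring endomorphism of A[t, t⁻¹] with u_n(t) = t^n (on monomials, t^k ↦ t^{nk}). Then A[t, t⁻¹] is
free of rank n over itself via u_n, with basis 1, t, …, t^{n−1}: every Laurent polynomial q can be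
written in exactly one way as Σ_{i<n} u_n(c_i) t^i. -/
theorem result (A : Type u) [CommRing A] (n : ℕ) (hn : 1 ≤ n) (q : A[T;T⁻¹]) :
    ∃! c : Fin n → A[T;T⁻¹],
      q = ∑ i : Fin n, (AddMonoidAlgebra.mapDomainRingHom A (AddMonoidHom.mulLeft (n : ℤ)) : A[T;T⁻¹] →+* A[T;T⁻¹]) (c i) *
        LaurentPolynomial.T (i : ℤ) := by
  classical
  have hn0 : 0 < (n : ℤ) := by exact_mod_cast hn
  let u : A[T;T⁻¹] →+* A[T;T⁻¹] := AddMonoidAlgebra.mapDomainRingHom A (AddMonoidHom.mulLeft (n : ℤ))
  let Φ : (Fin n → A[T;T⁻¹]) →+ A[T;T⁻¹] :=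
    { toFun := fun c => ∑ i : Fin n, u (c i) * LaurentPolynomial.T (i : ℤ)
      map_zero' := by simp
      map_add' := fun c d => by simp [add_mul, Finset.sum_add_distrib] }
  have hterm : ∀ (j : ℤ) (a : A) (i : ℤ),
      u (LaurentPolynomial.C a * LaurentPolynomial.T j) * LaurentPolynomial.T i =
        LaurentPolynomial.C a * LaurentPolynomial.T ((n : ℤ) * j + i) := by
    intro j a i
    rw [LaurentPolynomial.T_add, ← mul_assoc]
    congr 1
    rw [← LaurentPolynomial.single_eq_C_mul_T, ← LaurentPolynomial.single_eq_C_mul_T]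
    exact AddMonoidAlgebra.mapDomain_single
  have hsurj : Function.Surjective Φ := by
    intro p
    induction p using LaurentPolynomial.induction_on' with
    | add p q hp hq =>
      obtain ⟨c, rfl⟩ := hp
      obtain ⟨d, rfl⟩ := hq
      exact ⟨c + d, map_add Φ c d⟩
    | C_mul_T m a =>
      have h1 := Int.emod_nonneg m hn0.ne'
      have h2 := Int.emod_lt_of_pos m hn0
      let i : Fin n := ⟨(m % n).toNat, by omega⟩
      refine ⟨Pi.single i (LaurentPolynomial.C a * LaurentPolynomial.T (m / n)), ?_⟩
      show ∑ l : Fin n, u ((Pi.single i _ : Fin n → A[T;T⁻¹]) l) * LaurentPolynomial.T (l : ℤ) = _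
      rw [Finset.sum_eq_single i (fun l _ hl => by rw [Pi.single_eq_of_ne hl, map_zero, zero_mul])
        (fun h => absurd (Finset.mem_univ i) h), Pi.single_eq_same, hterm]
      congr 2
      show (n : ℤ) * (m / n) + (((m % n).toNat : ℕ) : ℤ) = m
      rw [Int.toNat_of_nonneg h1, Int.mul_ediv_add_emod]
  -- a left inverse given on monomials
  let Ψ : A[T;T⁻¹] →+ (Fin n → A[T;T⁻¹]) :=
    { toFun := fun p i => p.coeff.sum fun m a =>
        if m % n = i then LaurentPolynomial.C a * LaurentPolynomial.T (m / n) else 0
      map_zero' := by funext i; simp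
      map_add' := fun p q => by
        funext i
        rw [Pi.add_apply]
        exact Finsupp.sum_add_index' (fun m => by split_ifs <;> simp)
          (fun m a b => by split_ifs <;> simp [add_mul]) }
  have hleft : ∀ c, Ψ (Φ c) = c := by
    intro c
    have h : ∀ (l : Fin n) (x : A[T;T⁻¹]), Ψ (u x * LaurentPolynomial.T (l : ℤ)) = Pi.single l x := by
      intro l x
      induction x using LaurentPolynomial.induction_on' with
      | add p q hp hq => rw [map_add, add_mul, map_add, hp, hq, Pi.single_add]
      | C_mul_T j a =>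
        rw [hterm]
        funext i
        show (LaurentPolynomial.C a * LaurentPolynomial.T ((n : ℤ) * j + l) : A[T;T⁻¹]).coeff.sum
          (fun m a => if m % n = i then LaurentPolynomial.C a * LaurentPolynomial.T (m / n) else 0) =
          (Pi.single l (LaurentPolynomial.C a * LaurentPolynomial.T j) : Fin n → A[T;T⁻¹]) i
        rw [← LaurentPolynomial.single_eq_C_mul_T, AddMonoidAlgebra.coeff_single,
          Finsupp.sum_single_index (by split_ifs <;> simp)]
        have hl : ((l : ℕ) : ℤ) < n := by exact_mod_cast l.2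
        have e1 : ((n : ℤ) * j + l) % n = l := by
          rw [Int.mul_add_emod_self_left]
          exact Int.emod_eq_of_lt (by positivity) hl
        have e2 : ((n : ℤ) * j + l) / n = j := by
          rw [Int.mul_add_ediv_left _ _ hn0.ne', Int.ediv_eq_zero_of_lt (by positivity) hl, add_zero]
        rw [e1, e2]
        by_cases hil : l = i
        · subst hil; rw [if_pos rfl, Pi.single_eq_same]
        · rw [if_neg (by exact_mod_cast Fin.val_ne_of_ne hil), Pi.single_eq_of_ne (Ne.symm hil)]
    show Ψ (∑ l : Fin n, u (c l) * LaurentPolynomial.T (l : ℤ)) = c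
    rw [map_sum]
    simp only [h]
    exact Finset.univ_sum_single c
  obtain ⟨c, hc⟩ := hsurj q
  refine ⟨c, hc.symm, fun d hd => ?_⟩
  rw [← hleft d, ← hleft c]
  exact congrArg Ψ (hd.symm.trans hc.symm)

end Groth.Agent.S5119
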