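import Groth.Statements.S5120
import Mathlib.Algebra.Polynomial.Div
import Mathlib.Algebra.CharP.Basic
import Mathlib.Tactic.LinearCombination

set_option autoImplicit false
universe u
open SGA1t

namespace Groth.Agent.S5120

open Polynomial in
/-- The computation behind the exactness of the Artin-Schreier sequence 0 → Z/p → G_a → G_a → 0 in
characteristic p, i.e. faithful flatness of ℘ = id − F: Let p be a prime and A a ring of
characteristic p. Then A[t] is free of rank p over itself via the endomorphism t ↦ t − t^p, with
basis 1, t, …, t^{p−1}: every polynomial q can be written in exactly one way as Σ_{i<p} c_i(t − t^p)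
t^i. -/
theorem result (p : ℕ) [Fact p.Prime] (A : Type u) [CommRing A] [CharP A p]
    (q : A[X]) :
    ∃! c : Fin p → A[X], q = ∑ i : Fin p, aeval (X - X ^ p : A[X]) (c i) * X ^ (i : ℕ) := by
  classical
  have hp1 : 1 < p := (Fact.out : p.Prime).one_lt
  nontriviality A
  let f : A[X] := X ^ p - X
  have hdegX : (X : A[X]).degree < ((p : ℕ) : WithBot ℕ) := lt_of_le_of_lt degree_X_le (by exact_mod_cast hp1)
  have hf : f.Monic := monic_X_pow_sub hdegX |> fun h => h
  have hfdeg : f.natDegree = p := by
    refine natDegree_eq_of_degree_eq_some ?_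
    show (X ^ p - X : A[X]).degree = _
    rw [degree_sub_eq_left_of_degree_lt (by rwa [degree_X_pow]), degree_X_pow]
  have hy : (X - X ^ p : A[X]) = -f := (neg_sub _ _).symm
  let Φ : (Fin p → A[X]) → A[X] := fun c => ∑ i : Fin p, aeval (X - X ^ p : A[X]) (c i) * X ^ (i : ℕ)
  have hexist : ∀ m, ∀ q : A[X], q.natDegree ≤ m → ∃ c, q = Φ c := by
    intro m
    induction m using Nat.strong_induction_on with
    | _ m ih =>
      intro q hq
      have hr : (q %ₘ f).natDegree < p := by
        rcases eq_or_ne (q %ₘ f) 0 with h0 | h0
        · rw [h0, natDegree_zero]; omega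
        · have := degree_modByMonic_lt q hf
          rw [degree_eq_natDegree h0, degree_eq_natDegree hf.ne_zero, hfdeg] at this
          exact_mod_cast this
      obtain ⟨c', hc'⟩ : ∃ c, q /ₘ f = Φ c := by
        rcases lt_or_ge q.natDegree p with h | h
        · refine ⟨0, ?_⟩
          rw [(divByMonic_eq_zero_iff hf).2 (degree_lt_degree (by rwa [hfdeg]))]
          simp [Φ]
        · exact ih (m - 1) (by omega) _ (by rw [natDegree_divByMonic q hf, hfdeg]; omega)
      refine ⟨fun i => C ((q %ₘ f).coeff i) - X * c' i, ?_⟩
      conv_lhs => rw [← modByMonic_add_div q f, hc']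
      have hmod : q %ₘ f = ∑ i : Fin p, C ((q %ₘ f).coeff i) * X ^ (i : ℕ) := by
        conv_lhs => rw [(q %ₘ f).as_sum_range' p hr]
        rw [← Fin.sum_univ_eq_sum_range]
        exact Finset.sum_congr rfl fun i _ => by rw [C_mul_X_pow_eq_monomial]
      simp only [Φ]
      conv_lhs => rw [hmod, Finset.mul_sum, ← Finset.sum_add_distrib]
      refine Finset.sum_congr rfl fun i _ => ?_
      rw [map_sub, map_mul, aeval_C, aeval_X, Polynomial.algebraMap_eq, hy]
      ring
  have hinj : ∀ m, ∀ d : Fin p → A[X], (∀ i, (d i).natDegree ≤ m) → Φ d = 0 → d = 0 := by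
    intro m
    induction m using Nat.strong_induction_on with
    | _ m ih =>
      intro d hd h0
      have hsplit : ∀ i, aeval (X - X ^ p : A[X]) (d i) =
          C ((d i).coeff 0) + (-f) * aeval (X - X ^ p : A[X]) ((d i).divX) := fun i => by
        conv_lhs => rw [← X_mul_divX_add (d i), map_add, map_mul, aeval_C, aeval_X, Polynomial.algebraMap_eq, hy]
        rw [hy]; ring
      let r : A[X] := ∑ i : Fin p, C ((d i).coeff 0) * X ^ (i : ℕ)
      have hr : r = f * Φ (fun i => (d i).divX) := by
        have : r - f * Φ (fun i => (d i).divX) = Φ d := by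
          simp only [r, Φ, Finset.mul_sum, ← Finset.sum_sub_distrib]
          exact Finset.sum_congr rfl fun i _ => by rw [hsplit i]; ring
        rwa [h0, sub_eq_zero] at this
      have hrdeg : r.degree < f.degree := by
        rw [degree_eq_natDegree hf.ne_zero, hfdeg]
        exact degree_sum_fin_lt _
      have hr0 : r = 0 := by
        rw [← (modByMonic_eq_self_iff hf).2 hrdeg]
        exact (modByMonic_eq_zero_iff_dvd hf).2 ⟨_, hr⟩
      have hzero : Φ (fun i => (d i).divX) = 0 := by
        rw [hr0] at hr
        exact hf.isRegular.left (by simpa using hr.symm)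
      have hc0 : ∀ i : Fin p, (d i).coeff 0 = 0 := fun i => by
        have := congrArg (fun q : A[X] => q.coeff i) hr0
        simp only [r, finset_sum_coeff, coeff_C_mul_X_pow, coeff_zero, Fin.val_inj] at this
        simpa using this
      funext i
      rw [← X_mul_divX_add (d i), hc0 i, C_0, add_zero]
      rcases Nat.eq_zero_or_pos m with rfl | hm
      · have : (d i).divX = 0 := by
          rw [eq_C_of_natDegree_le_zero (hd i)]
          exact divX_C _
        rw [this, mul_zero]; rfl
      · have := ih (m - 1) (by omega) (fun i => (d i).divX)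
          (fun i => by rw [natDegree_divX_eq_natDegree_tsub_one]; have := hd i; omega) hzero
        rw [congrFun this i]
        simp
  obtain ⟨c, hc⟩ := hexist _ q le_rfl
  refine ⟨c, hc, fun c' hc' => ?_⟩
  have hsub : Φ (c' - c) = 0 := by
    have : Φ (c' - c) = Φ c' - Φ c := by
      simp only [Φ, Pi.sub_apply, map_sub, sub_mul, Finset.sum_sub_distrib]
    rw [this, show Φ c' = q from hc'.symm, show Φ c = q from hc.symm, sub_self]
  exact sub_eq_zero.1 (hinj (Finset.univ.sup fun i => ((c' - c) i).natDegree) _
    (fun i => Finset.le_sup (f := fun i => ((c' - c) i).natDegree) (Finset.mem_univ i)) hsub)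

end Groth.Agent.S5120
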