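import Groth.Statements.S5122
import Groth.Agent.H9Et.DescentLocalEff
import Groth.Agent.H9Et.DescentLocalApps
import Groth.Agent.LeadDescRad.Etale
-- import your own Groth.Agent.* helpers here

set_option autoImplicit false
universe u
open SGA1

namespace Groth.Agent.S5122

open AlgebraicGeometry CategoryTheory CategoryTheory.Limits in
/-- Let g : S' ⟶ S be universally submersive, D a descent datum relative to g (functor-of-points form,
for the one-member family g) whose underlying S'-scheme is etale, separated and of finite type over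
S', and p : S₁ ⟶ S faithfully flat and quasi-compact. Then D is effective in the fibred category of
etale separated finite-type schemes (isomorphic to the canonical datum of some etale, separated,
quasi-compact S-scheme) if and only if the descent datum obtained by base change along p, relative
to S' ×_S S₁ ⟶ S₁, is effective in the same sense over S₁. -/
theorem result {S S' S₁ : Scheme.{u}} (g : S' ⟶ S) (hg : SGA1.UnivSubmersive g)
    (D : Desc.SchDDFam (fun _ : PUnit.{1} => g))
    [Etale (D.obj PUnit.unit).hom] [IsSeparated (D.obj PUnit.unit).hom] [QuasiCompact (D.obj PUnit.unit).hom]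
    (p : S₁ ⟶ S) [Flat p] [Surjective p] [QuasiCompact p] :
    (∃ U : Over S, Etale U.hom ∧ IsSeparated U.hom ∧ QuasiCompact U.hom ∧ Nonempty ((Desc.toDDFam (fun _ : PUnit.{1} => g)).obj U ≅ D)) ↔
      (∃ U : Over S₁, Etale U.hom ∧ IsSeparated U.hom ∧ QuasiCompact U.hom ∧
        Nonempty ((Desc.toDDFam (fun _ : PUnit.{1} => pullback.snd g p)).obj U ≅
          (Desc.pullDDFam (f := fun _ : PUnit.{1} => g) (f' := fun _ : PUnit.{1} => pullback.snd g p)
        (α := id) (p := p) (p' := fun _ => pullback.fst g p) (fun _ => pullback.condition)).obj D)) := by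
  constructor
  · rintro ⟨U, _, _, _, ⟨e⟩⟩
    exact ⟨Over.mk (pullback.snd U.hom p), (inferInstance : Etale (pullback.snd U.hom p)),
      (inferInstance : IsSeparated (pullback.snd U.hom p)),
      (inferInstance : QuasiCompact (pullback.snd U.hom p)),
      Groth.Agent.H9Et.DescPts.nonempty_pullTo_of_iso p U e⟩
  · rintro ⟨U, _, _, _, e⟩
    have hc : Presieve.ofArrows (fun _ : PUnit.{u + 1} => S₁) (fun _ => p) ∈
        Scheme.fpqcPrecoverage S := by
      rw [Presieve.ofArrows_pUnit]
      exact p.singleton_mem_fpqcPrecoverage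
    let L := Groth.Agent.H9Et.DescPts.localDatum hg D (fun _ : PUnit.{u + 1} => p) (fun _ => U) (fun _ => e.some)
    let L' : Desc.SchDD p := (Desc.SchDDFam.toSchDD p).obj L
    haveI : Etale L'.obj.hom := ‹Etale U.hom›
    haveI : IsSeparated L'.obj.hom := ‹IsSeparated U.hom›
    haveI : QuasiCompact L'.obj.hom := ‹QuasiCompact U.hom›
    obtain ⟨Y, hY₁, hY₂, hY₃, ⟨f⟩⟩ := Groth.Agent.LeadDescRad.isEffective_etale L'
    let η : (Desc.toDDFam (fun _ : PUnit.{u + 1} => p)).obj Y ≅ L :=
      (Desc.SchDDFam.ofSchDD p).mapIso f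
    exact ⟨Y, hY₃, hY₂, hY₁, Groth.Agent.H9Et.DescPts.nonempty_iso_of_localDatum hg D
      (fun _ : PUnit.{u + 1} => p) (fun _ => U) (fun _ => e.some) hc Y η⟩

end Groth.Agent.S5122
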