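import Groth.Statements.S5123
import Groth.Agent.H9Et.DescentLocalEff
import Groth.Agent.H9Et.DescentLocalApps
-- import your own Groth.Agent.* helpers here

set_option autoImplicit false
universe u
open SGA1

namespace Groth.Agent.S5123

open AlgebraicGeometry CategoryTheory CategoryTheory.Limits in
/-- Let g : S' ⟶ S be universally submersive, D a descent datum relative to g (functor-of-points form,
for the one-member family g) whose underlying S'-scheme is etale over S', and (S_i)_{i ∈ ι} a cover
of S by open subschemes. Then D is effective in the fibred category of etale schemes (isomorphic to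
the canonical datum of some etale S-scheme) if and only if for every i the descent datum obtained by
base change along S_i ⟶ S, relative to S' ×_S S_i ⟶ S_i, is the canonical datum of some etale
S_i-scheme. -/
theorem result {S S' : Scheme.{u}} (g : S' ⟶ S) (hg : SGA1.UnivSubmersive g)
    (D : Desc.SchDDFam (fun _ : PUnit.{1} => g)) [Etale (D.obj PUnit.unit).hom]
    {ι : Type u} (V : ι → S.Opens) (hV : ⨆ i, V i = ⊤) :
    (∃ U : Over S, Etale U.hom ∧ Nonempty ((Desc.toDDFam (fun _ : PUnit.{1} => g)).obj U ≅ D)) ↔
      ∀ i : ι, (∃ U : Over (V i : Scheme.{u}), Etale U.hom ∧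
        Nonempty ((Desc.toDDFam (fun _ : PUnit.{1} => pullback.snd g (V i).ι)).obj U ≅
          (Desc.pullDDFam (f := fun _ : PUnit.{1} => g) (f' := fun _ : PUnit.{1} => pullback.snd g (V i).ι)
        (α := id) (p := (V i).ι) (p' := fun _ => pullback.fst g (V i).ι) (fun _ => pullback.condition)).obj D)) := by
  constructor
  · rintro ⟨U, hU, ⟨e⟩⟩ i
    exact ⟨Over.mk (pullback.snd U.hom (V i).ι), (inferInstance : Etale (pullback.snd U.hom (V i).ι)),
      Groth.Agent.H9Et.DescPts.nonempty_pullTo_of_iso (V i).ι U e⟩
  · intro h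
    choose U hU e using h
    have hcv : ∀ x : S, ∃ i z, (V i).ι z = x := fun x => by
      have hx : x ∈ ⨆ i, V i := hV ▸ TopologicalSpace.Opens.mem_top x
      obtain ⟨i, hi⟩ := TopologicalSpace.Opens.mem_iSup.mp hx
      exact ⟨i, ⟨x, hi⟩, rfl⟩
    have hc : Presieve.ofArrows (fun i => (V i : Scheme.{u})) (fun i => (V i).ι) ∈
        Scheme.fpqcPrecoverage S :=
      Scheme.zariskiPrecoverage_le_fpqcPrecoverage _
        ((Scheme.ofArrows_mem_precoverage_iff (P := @IsOpenImmersion)).mpr
          ⟨hcv, fun i => inferInstance⟩)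
    obtain ⟨Y, ⟨η⟩, he⟩ := Groth.Agent.H9Et.DescPts.exists_of_localDatum_isEffective hg D
      (fun i => (V i).ι) U (fun i => (e i).some) hc
      (Groth.Agent.H9Et.DescPts.isEffective_zariski hcv _)
    exact ⟨Y, Groth.Agent.H9Et.DescPts.etale_of_toDDFam_iso hcv η hU, he⟩

end Groth.Agent.S5123
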