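import Groth.Statements.S5125
import Groth.Agent.H9Et.DescentStalkApps
import Groth.Agent.H9Et.DescentLocalApps
import Groth.Agent.S5123
import Groth.Agent.S5124
-- import your own Groth.Agent.* helpers here

set_option autoImplicit false
universe u
open SGA1

namespace Groth.Agent.S5125

open AlgebraicGeometry CategoryTheory CategoryTheory.Limits in
/-- Let g : S' ⟶ S be universally submersive and of finite presentation, and D a descent datum relative
to g (functor-of-points form, for the one-member family g) whose underlying S'-scheme is etale and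
of finite presentation (quasi-compact and quasi-separated) over S'. Then D is the canonical datum of
some etale S-scheme if and only if for every point a of S the descent datum induced over Spec
O_{S,a} is the canonical datum of some etale scheme over Spec O_{S,a}. -/
theorem result {S S' : Scheme.{u}} (g : S' ⟶ S) (hg : SGA1.UnivSubmersive g)
    [LocallyOfFinitePresentation g] [QuasiCompact g] [QuasiSeparated g]
    (D : Desc.SchDDFam (fun _ : PUnit.{1} => g)) [Etale (D.obj PUnit.unit).hom]
    [QuasiCompact (D.obj PUnit.unit).hom] [QuasiSeparated (D.obj PUnit.unit).hom] :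
    (∃ U : Over S, Etale U.hom ∧ Nonempty ((Desc.toDDFam (fun _ : PUnit.{1} => g)).obj U ≅ D)) ↔
      ∀ a : S, (∃ U : Over (Spec (S.presheaf.stalk a)), Etale U.hom ∧
        Nonempty ((Desc.toDDFam (fun _ : PUnit.{1} => pullback.snd g (S.fromSpecStalk a))).obj U ≅
          (Desc.pullDDFam (f := fun _ : PUnit.{1} => g) (f' := fun _ : PUnit.{1} => pullback.snd g (S.fromSpecStalk a))
        (α := id) (p := (S.fromSpecStalk a)) (p' := fun _ => pullback.fst g (S.fromSpecStalk a)) (fun _ => pullback.condition)).obj D)) := by
  constructor
  · rintro ⟨U, hU, ⟨e⟩⟩ a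
    exact ⟨Over.mk (pullback.snd U.hom (S.fromSpecStalk a)), MorphismProperty.pullback_snd _ _ hU,
      Groth.Agent.H9Et.DescPts.nonempty_pullTo_of_iso (S.fromSpecStalk a) U e⟩
  · intro h
    choose W ha U hU e using fun a : S => (Groth.Agent.S5124.result g hg D a).2 (h a)
    exact (Groth.Agent.S5123.result g hg D W
      (top_le_iff.1 fun x _ => TopologicalSpace.Opens.mem_iSup.2 ⟨x, ha x⟩)).2
      fun a => ⟨U a, hU a, e a⟩

end Groth.Agent.S5125
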