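import Groth.Statements.S5128
import Groth.Agent.H18Et.TopInvariance

set_option autoImplicit false
universe u
open SGA1

namespace Groth.Agent.S5128

open AlgebraicGeometry CategoryTheory CategoryTheory.Limits in
/-- Let X and Y be S-schemes with Y etale over S. The map f ↦ Γ_f sending an S-morphism f : X ⟶ Y to the
subset of X ×_S Y underlying its graph is a bijection from Hom_S(X, Y) onto the set of open subsets
Γ of X ×_S Y for which the restriction Γ → X of the first projection is radicial (universally
injective) and surjective. Stated as: the graph of every S-morphism is an open immersion, and every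
such open Γ is the image of the graph of exactly one S-morphism. -/
theorem result {S X Y : Scheme.{u}} (p : X ⟶ S)
    (q : Y ⟶ S) [Etale q] :
    (∀ f : {f : X ⟶ Y // f ≫ q = p},
      IsOpenImmersion (pullback.lift (𝟙 X) f.1 ((Category.id_comp p).trans f.2.symm) : X ⟶ pullback p q)) ∧
    ∀ Γ : (pullback p q).Opens, UniversallyInjective (Γ.ι ≫ pullback.fst p q) → Surjective (Γ.ι ≫ pullback.fst p q) →
      ∃! f : {f : X ⟶ Y // f ≫ q = p},
        Set.range (pullback.lift (𝟙 X) f.1 ((Category.id_comp p).trans f.2.symm) : X ⟶ pullback p q).base =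
          (Γ : Set ↥(pullback p q)) := by
  constructor
  · rintro ⟨f, hf⟩
    let g : X ⟶ pullback p q := pullback.lift (𝟙 X) f ((Category.id_comp p).trans hf.symm)
    have hg : g ≫ pullback.fst p q = 𝟙 X := pullback.lift_fst _ _ _
    haveI : Etale (pullback.fst p q) := MorphismProperty.pullback_fst p q inferInstance
    haveI : Etale (g ≫ pullback.fst p q) := by rw [hg]; infer_instance
    haveI : Etale g := Etale.of_comp g (pullback.fst p q)
    haveI : IsSplitMono g := IsSplitMono.mk' ⟨pullback.fst p q, hg⟩
    haveI : UniversallyInjective g := inferInstance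
    exact Groth.Agent.H18Et.TopInv.isOpenImmersion_of_etale_of_universallyInjective g
  · intro Γ hUI hS
    let e := Γ.ι ≫ pullback.fst p q
    haveI : Etale (pullback.fst p q) := MorphismProperty.pullback_fst p q inferInstance
    haveI : Etale e := inferInstanceAs (Etale (Γ.ι ≫ pullback.fst p q))
    haveI : IsOpenImmersion e :=
      Groth.Agent.H18Et.TopInv.isOpenImmersion_of_etale_of_universallyInjective e
    haveI : IsIso e := (isIso_iff_isOpenImmersion_and_surjective e).2 ⟨inferInstance, hS⟩
    have hf : (inv e ≫ Γ.ι ≫ pullback.snd p q) ≫ q = p := by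
      rw [Category.assoc, Category.assoc, ← pullback.condition, ← Category.assoc Γ.ι,
        IsIso.inv_hom_id_assoc]
    refine ⟨⟨_, hf⟩, ?_, ?_⟩
    · have : pullback.lift (𝟙 X) (inv e ≫ Γ.ι ≫ pullback.snd p q)
          ((Category.id_comp p).trans hf.symm) = inv e ≫ Γ.ι := by
        refine pullback.hom_ext ?_ ?_
        · rw [pullback.lift_fst, Category.assoc]
          exact (IsIso.inv_hom_id e).symm
        · rw [pullback.lift_snd, Category.assoc]
      dsimp only
      rw [this, Scheme.Hom.comp_base, TopCat.coe_comp, Set.range_comp,
        Set.range_eq_univ.2 (inv e).surjective, Set.image_univ, Scheme.Opens.range_ι]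
    · rintro ⟨f', hf'⟩ hrange
      dsimp only at hrange
      let g : X ⟶ pullback p q := pullback.lift (𝟙 X) f' ((Category.id_comp p).trans hf'.symm)
      have hm : Set.range g ⊆ Set.range Γ.ι := by
        rw [Scheme.Opens.range_ι]; exact hrange.le
      have h1 : IsOpenImmersion.lift Γ.ι g hm ≫ e = 𝟙 X := by
        rw [← Category.assoc, IsOpenImmersion.lift_fac]
        exact pullback.lift_fst _ _ _
      refine Subtype.ext ?_
      change f' = inv e ≫ Γ.ι ≫ pullback.snd p q
      rw [← IsIso.eq_inv_of_inv_hom_id (f := e) h1, ← Category.assoc, IsOpenImmersion.lift_fac]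
      exact (pullback.lift_snd _ _ _).symm

end Groth.Agent.S5128
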