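import Groth.Statements.S5129
import Groth.Agent.H18PBC.GeomFibre

set_option autoImplicit false
universe u
open Pi1

namespace Groth.Agent.S5129

open AlgebraicGeometry CategoryTheory CategoryTheory.Limits in
/-- Surjectivity of π₁(X) → π₁(Spec A), in terms of covers. Let A be a complete Noetherian local ring
with residue field k, k̄ an algebraic closure of k, ξ : Spec k̄ ⟶ Spec A the resulting geometric
point, and X a proper A-scheme with X ×_A Spec k̄ connected. Then pulling back finite etale covers
along X ⟶ Spec A is fully faithful. -/
theorem result (A : Type u) [CommRing A]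
    [IsNoetherianRing A] [IsLocalRing A] [IsAdicComplete (IsLocalRing.maximalIdeal A) A]
    {X : Scheme.{u}} (f : X ⟶ Spec (CommRingCat.of A)) [IsProper f]
    (ξ : Spec (CommRingCat.of (AlgebraicClosure (IsLocalRing.ResidueField A))) ⟶ Spec (CommRingCat.of A))
    (hξ : ξ = Spec.map (CommRingCat.ofHom ((algebraMap (IsLocalRing.ResidueField A)
      (AlgebraicClosure (IsLocalRing.ResidueField A))).comp (IsLocalRing.residue A))))
    [ConnectedSpace ↥(pullback f ξ)] :
    (FEt.restrict f).Full ∧ (FEt.restrict f).Faithful := by
  exact H18PBC.GeomFibre.fullyFaithful f ξ hξ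

end Groth.Agent.S5129
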