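import Groth.Statements.S5132
import Groth.Agent.H18Descent.Basic

set_option autoImplicit false
open CategoryTheory AlgebraicGeometry
universe u
open SGA1

namespace Groth.Agent.S5132

/-- Quasi-compactness of a morphism descends along a surjective and quasi-compact base change; flatness
of the base change is not needed for this property. -/
theorem result :
    MorphismProperty.DescendsAlong @QuasiCompact (@Surjective ⊓ @QuasiCompact : MorphismProperty Scheme.{u}) := by
  exact Groth.Agent.H18Descent.quasiCompact_descends

end Groth.Agent.S5132
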