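import Groth.Statements.S5133
import Groth.Agent.H22Alg.FlatSurj
import Groth.Agent.H13Desc.Immersion

set_option autoImplicit false
open CategoryTheory CategoryTheory.Limits AlgebraicGeometry
universe u
open SGA1

namespace Groth.Agent.S5133

/-- For a quasi-compact morphism f : X ⟶ Y and a flat surjective base change g : Y' ⟶ Y, with no
quasi-compactness asked of g, if the base change of f along g is a homeomorphism onto its image then
f is a homeomorphism onto its image. -/
theorem result {X Y Y' : Scheme.{u}} (f : X ⟶ Y)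
    (g : Y' ⟶ Y) [QuasiCompact f] [Flat g] [Surjective g]
    (h : Topology.IsEmbedding (pullback.snd f g).base) : Topology.IsEmbedding f.base := by
  have hcomm : ∀ z : ↥(pullback f g), f (pullback.fst f g z) = g (pullback.snd f g z) := fun z => by
    rw [← Scheme.Hom.comp_apply, ← Scheme.Hom.comp_apply, pullback.condition]
  have hinj : Function.Injective f.base := by
    intro a b hab
    obtain ⟨y', hy'⟩ := g.surjective (f a)
    obtain ⟨za, ha1, ha2⟩ := Scheme.Pullback.exists_preimage_pullback a y' hy'.symm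
    obtain ⟨zb, hb1, hb2⟩ := Scheme.Pullback.exists_preimage_pullback b y' (hab.symm.trans hy'.symm)
    rw [← ha1, ← hb1, h.injective (ha2.trans hb2.symm)]
  refine ⟨⟨TopologicalSpace.ext_isClosed fun Z => ?_⟩, hinj⟩
  rw [isClosed_induced_iff]
  refine ⟨fun hZ => ⟨closure (f.base '' Z), isClosed_closure, ?_⟩, fun ⟨W, hW, e⟩ =>
    e ▸ hW.preimage f.continuous⟩
  refine subset_antisymm (fun x hx => ?_) fun x hx => subset_closure ⟨x, hx, rfl⟩
  let I := Scheme.IdealSheafData.vanishingIdeal ⟨Z, hZ⟩
  have hI : Set.range I.subschemeι = Z := by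
    rw [Scheme.IdealSheafData.range_subschemeι, Scheme.IdealSheafData.coe_support_vanishingIdeal]
    rfl
  have hr : Set.range (I.subschemeι ≫ f) = f.base '' Z := by
    rw [← hI, ← Set.range_comp]
    rfl
  obtain ⟨w, hw⟩ := Groth.Agent.H13Desc.exists_specializes_of_mem_closure_range (I.subschemeι ≫ f)
    (f x) (hr ▸ hx)
  let z := I.subschemeι w
  have hz : z ∈ Z := hI ▸ Set.mem_range_self w
  have hzx : f z ⤳ f x := by
    rw [← Scheme.Hom.comp_apply]
    exact hw
  obtain ⟨y', hy'⟩ := g.surjective (f x)
  obtain ⟨y₁, hy₁, hy₁'⟩ := Flat.generalizingMap g (hy' ▸ hzx)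
  obtain ⟨p, hp1, hp2⟩ := Scheme.Pullback.exists_preimage_pullback z y₁ hy₁'.symm
  obtain ⟨q, hq1, hq2⟩ := Scheme.Pullback.exists_preimage_pullback x y' hy'.symm
  have hpq : p ⤳ q := h.isInducing.specializes_iff.1 (by
    show pullback.snd f g p ⤳ pullback.snd f g q
    rw [hp2, hq2]
    exact hy₁)
  have := hpq.map (pullback.fst f g).continuous
  rw [hp1, hq1] at this
  exact this.mem_closed hZ hz

end Groth.Agent.S5133
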