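import Groth.Statements.S5134
import Groth.Agent.H17.ZFlat.Descent
import Groth.Agent.H8Props.FinLocFree.Sheaf
import Groth.Agent.H8Props.RelFP.PullSections
-- import your own Groth.Agent.* helpers here

set_option autoImplicit false
open CategoryTheory AlgebraicGeometry
universe u
open SGA1

namespace Groth.Agent.S5134

open TensorProduct in
theorem finite_of_family {A : Type u} [CommRing A] {I : Type u} [Finite I] (B : I → Type u) [∀ k, CommRing (B k)]
    [∀ k, Algebra A (B k)] [∀ k, Module.Flat A (B k)]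
    (hcov : ∀ p : Ideal A, p.IsPrime → ∃ k, ∃ P : Ideal (B k), P.IsPrime ∧ P.comap (algebraMap A (B k)) = p)
    {N : Type u} [AddCommGroup N] [Module A N] (hN : ∀ k, Module.Finite (B k) (B k ⊗[A] N)) :
    Module.Finite A N := by
  classical
  have hgen : ∀ k, ∃ S : Finset N, Submodule.span (B k) ((TensorProduct.mk A (B k) N 1) '' (S : Set N)) = ⊤ := by
    intro k
    haveI := hN k
    obtain ⟨T, hT⟩ := Module.Finite.fg_top (R := B k) (M := B k ⊗[A] N)
    have h1 : ∀ t : B k ⊗[A] N, ∃ S : Finset N,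
        t ∈ Submodule.span (B k) ((TensorProduct.mk A (B k) N 1) '' (S : Set N)) := by
      intro t
      induction t using TensorProduct.induction_on with
      | zero => exact ⟨∅, zero_mem _⟩
      | tmul b m =>
        refine ⟨{m}, ?_⟩
        have h2 : b ⊗ₜ[A] m = b • ((1 : B k) ⊗ₜ[A] m) := by rw [TensorProduct.smul_tmul', smul_eq_mul, mul_one]
        rw [h2]
        exact Submodule.smul_mem _ _ (Submodule.subset_span ⟨m, by simp, rfl⟩)
      | add a b ha hb =>
        obtain ⟨S₁, h₁⟩ := ha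
        obtain ⟨S₂, h₂⟩ := hb
        exact ⟨S₁ ∪ S₂, add_mem (Submodule.span_mono (Set.image_mono (by simp)) h₁)
          (Submodule.span_mono (Set.image_mono (by simp)) h₂)⟩
    choose S hS using h1
    refine ⟨T.biUnion S, eq_top_iff.2 ?_⟩
    rw [← hT, Submodule.span_le]
    intro t ht
    exact Submodule.span_mono (Set.image_mono fun m hm =>
      Finset.mem_coe.2 (Finset.mem_biUnion.2 ⟨t, ht, hm⟩)) (hS t)
  choose S hS using hgen
  letI := Fintype.ofFinite I
  let Sp : Submodule A N := Submodule.span A ((Finset.univ.biUnion S : Finset N) : Set N)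
  refine ⟨⟨Finset.univ.biUnion S, eq_top_iff.2 fun q _ => ?_⟩⟩
  show q ∈ Sp
  by_contra hq
  have hne : Sp.comap (LinearMap.toSpanSingleton A N q) ≠ ⊤ := fun e => hq (by
    have h1 : (1 : A) ∈ Sp.comap (LinearMap.toSpanSingleton A N q) := e ▸ trivial
    simpa using h1)
  obtain ⟨p, hp, hle⟩ := Ideal.exists_le_maximal _ hne
  obtain ⟨k, P, hP, hPp⟩ := hcov p hp.isPrime
  obtain ⟨a, ha, haq⟩ := Groth.Agent.H17.ZFlat.exists_smul_mem_of_baseChange (A' := B k)
    (TensorProduct.mk A (B k) N 1) (TensorProduct.isBaseChange A N (B k)) Sp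
    (eq_top_iff.2 ((hS k).ge.trans (Submodule.span_mono (Set.image_mono fun m hm =>
      Submodule.subset_span (Finset.mem_coe.2 (Finset.mem_biUnion.2 ⟨k, Finset.mem_univ _, hm⟩))))))
    P q
  have h3 : a ∈ p := hle (by simpa using haq)
  rw [← hPp] at h3
  exact ha h3

open TensorProduct in
theorem fp_of_family {A : Type u} [CommRing A] {I : Type u} [Finite I] (B : I → Type u) [∀ k, CommRing (B k)]
    [∀ k, Algebra A (B k)] [∀ k, Module.Flat A (B k)]
    (hcov : ∀ p : Ideal A, p.IsPrime → ∃ k, ∃ P : Ideal (B k), P.IsPrime ∧ P.comap (algebraMap A (B k)) = p)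
    {N : Type u} [AddCommGroup N] [Module A N] (hN : ∀ k, Module.FinitePresentation (B k) (B k ⊗[A] N)) :
    Module.FinitePresentation A N := by
  haveI : Module.Finite A N := finite_of_family B hcov fun k => by haveI := hN k; infer_instance
  obtain ⟨n, f, hf⟩ := Module.Finite.exists_fin' A N
  refine Module.finitePresentation_of_surjective f hf (Module.Finite.iff_fg.mp
    (finite_of_family B hcov fun k => ?_))
  haveI := hN k
  let F := TensorProduct.AlgebraTensorModule.lTensor (B k) (B k) f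
  let ι := TensorProduct.AlgebraTensorModule.lTensor (B k) (B k) (LinearMap.ker f).subtype
  have hF : Function.Surjective F := LinearMap.lTensor_surjective (B k) hf
  have hι : Function.Injective ι :=
    Module.Flat.lTensor_preserves_injective_linearMap _ Subtype.val_injective
  have hr : LinearMap.range ι = LinearMap.ker F := by
    ext x
    exact ((lTensor_exact (B k) (LinearMap.exact_subtype_ker_map f) hf) x).symm
  haveI : Module.Finite (B k) (LinearMap.ker F) :=
    Module.Finite.iff_fg.mpr (Module.FinitePresentation.fg_ker F hF)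
  exact Module.Finite.equiv ((LinearEquiv.ofInjective ι hι).trans (LinearEquiv.ofEq _ _ hr)).symm

/-- For g : S' ⟶ S flat, surjective and quasi-compact and F a quasi-coherent module on S, if the
pullback of F to S' is of finite presentation then F is of finite presentation. -/
theorem result {S S' : Scheme.{u}} (g : S' ⟶ S) [Flat g] [Surjective g] [QuasiCompact g]
    (F : S.Modules) (hF : Coh.IsQCoh F)
    (h : CohB1.IsFP ((Scheme.Modules.pullback g).obj F)) : CohB1.IsFP F := by
  classical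
  refine Groth.Agent.H8Props.FinLocFree.isFP_of_affineCover F hF (fun W : S.affineOpens => W.1)
    (iSup_affineOpens_eq_top S) (fun W => W.2) fun W => ?_
  have hW := W.2
  have hqc : IsCompact ((g ⁻¹ᵁ W.1 : S'.Opens) : Set S') := g.isCompact_preimage hW.isCompact
  have hcov : ∀ x : (g ⁻¹ᵁ W.1 : S'.Opens), ∃ U : S'.Opens, IsAffineOpen U ∧ x.1 ∈ U ∧ U ≤ g ⁻¹ᵁ W.1 := fun x => by
    obtain ⟨U, hU, hx, hle⟩ := exists_isAffineOpen_mem_and_subset (U := g ⁻¹ᵁ W.1) x.2
    exact ⟨U, hU, hx, fun _ hy => hle hy⟩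
  choose U hU hxU hUW using hcov
  obtain ⟨K, hK⟩ := hqc.elim_finite_subcover (fun x => (U x : Set S')) (fun x => (U x).2)
    (fun x hx => Set.mem_iUnion.2 ⟨⟨x, hx⟩, hxU _⟩)
  letI : ∀ k : K, Algebra Γ(S, W.1) Γ(S', U k.1) := fun k => (g.appLE W.1 (U k.1) (hUW k.1)).hom.toAlgebra
  haveI : ∀ k : K, Module.Flat Γ(S, W.1) Γ(S', U k.1) := fun k => g.flat_appLE hW (hU k.1) (hUW k.1)
  refine fp_of_family (fun k : K => (Γ(S', U k.1) : Type u)) ?_ fun k => ?_
  · intro p hp
    obtain ⟨⟨z, hzW⟩, hz⟩ := H29Blow.exists_primeIdealOf_eq hW ⟨p, hp⟩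
    obtain ⟨x', rfl⟩ := g.surjective z
    obtain ⟨k, hkK, hxk⟩ := Set.mem_iUnion₂.1 (hK (show x' ∈ (g ⁻¹ᵁ W.1 : S'.Opens) from hzW))
    refine ⟨⟨k, hkK⟩, ((hU k).primeIdealOf ⟨x', hxk⟩).asIdeal, ((hU k).primeIdealOf ⟨x', hxk⟩).isPrime, ?_⟩
    have hpz : (hW.primeIdealOf ⟨g.base x', hzW⟩).asIdeal = p := congrArg PrimeSpectrum.asIdeal hz
    rw [← hpz]
    ext a
    rw [Ideal.mem_comap, Groth.Agent.H17.AssPts.mem_primeIdealOf (hU k) hxk, Groth.Agent.H17.AssPts.mem_primeIdealOf hW hzW]
    exact not_congr (Groth.Agent.H17.ZFlat.mem_basicOpen_appLE g (hUW k) hxk a)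
  · letI := Module.compHom Γ((Scheme.Modules.pullback g).obj F, U k.1) (g.appLE W.1 (U k.1) (hUW k.1)).hom
    haveI : IsScalarTower Γ(S, W.1) Γ(S', U k.1) Γ((Scheme.Modules.pullback g).obj F, U k.1) :=
      .of_algebraMap_smul fun _ _ => rfl
    haveI := Groth.Agent.H8Props.FinLocFree.finitePresentation_sections _ h (hU k.1)
    exact Module.FinitePresentation.of_equiv
      (Groth.Agent.H8Props.PullSections.isBaseChange_pullLin g F (hUW k.1) hF hW (hU k.1)).equiv.symm

end Groth.Agent.S5134
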