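import Groth.Statements.S5135

set_option autoImplicit false
universe u
open scoped TensorProduct
open SGA1

namespace Groth.Agent.S5135

/-- The affine case, in submodule form (descent of submodules, equivalently of quotient modules): for A
⟶ A' faithfully flat, M an A-module and N' an A'-submodule of A' ⊗ M whose two extensions to (A' ⊗
A') ⊗ M, along a ↦ a ⊗ 1 and a ↦ 1 ⊗ a, generate the same submodule, N' is the base change of the
submodule of M formed by the elements m with 1 ⊗ m in N'. -/
theorem result (A A' : Type u) [CommRing A] [CommRing A'] [Algebra A A']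
    [Module.FaithfullyFlat A A'] (M : Type u) [AddCommGroup M] [Module A M] (N' : Submodule A' (A' ⊗[A] M))
    (h : Submodule.span (A' ⊗[A] A')
          ((N'.restrictScalars A).map
            ((Algebra.TensorProduct.includeLeft : A' →ₐ[A] A' ⊗[A] A').toLinearMap.rTensor M) : Set ((A' ⊗[A] A') ⊗[A] M)) =
        Submodule.span (A' ⊗[A] A')
          ((N'.restrictScalars A).map
            ((Algebra.TensorProduct.includeRight : A' →ₐ[A] A' ⊗[A] A').toLinearMap.rTensor M) : Set ((A' ⊗[A] A') ⊗[A] M))) :
    ((N'.restrictScalars A).comap (TensorProduct.mk A A' M 1)).baseChange A' = N' := by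
  let Q := (A' ⊗[A] M) ⧸ N'
  let q : A' ⊗[A] M →ₗ[A] Q := N'.mkQ.restrictScalars A
  let ι : M →ₗ[A] Q := q.comp (TensorProduct.mk A A' M 1)
  let Φ : (A' ⊗[A] A') ⊗[A] M →ₗ[A] A' ⊗[A] Q :=
    (q.lTensor A').comp (TensorProduct.assoc A A' A' M).toLinearMap
  let N₀ := (N'.restrictScalars A).comap (TensorProduct.mk A A' M 1)
  have hgen : ∀ (b : A') (t : A' ⊗[A] M) (a : A'),
      Φ ((a ⊗ₜ[A] b) • (Algebra.TensorProduct.includeRight : A' →ₐ[A] A' ⊗[A] A').toLinearMap.rTensor M t)
        = a ⊗ₜ[A] q (b • t) := by
    intro b t a
    induction t using TensorProduct.induction_on with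
    | zero => simp
    | tmul c m =>
      simp [Φ, TensorProduct.smul_tmul', Algebra.TensorProduct.tmul_mul_tmul]
    | add x y hx hy => simp only [map_add, smul_add, hx, hy, TensorProduct.tmul_add]
  have hΦ : ∀ y ∈ Submodule.span (A' ⊗[A] A')
          ((N'.restrictScalars A).map
            ((Algebra.TensorProduct.includeRight : A' →ₐ[A] A' ⊗[A] A').toLinearMap.rTensor M) : Set ((A' ⊗[A] A') ⊗[A] M)),
      ∀ r : A' ⊗[A] A', Φ (r • y) = 0 := by
    intro y hy
    induction hy using Submodule.span_induction with
    | mem y hy =>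
      obtain ⟨t, ht, rfl⟩ := Submodule.mem_map.1 hy
      intro r
      induction r using TensorProduct.induction_on with
      | zero => simp
      | tmul a b =>
        rw [hgen, show q (b • t) = 0 from (Submodule.Quotient.mk_eq_zero N').2 (N'.smul_mem b ht)]
        simp
      | add r s hr hs => rw [add_smul, map_add, hr, hs, add_zero]
    | zero => simp
    | add x y _ _ hx hy => intro r; rw [smul_add, map_add, hx, hy, add_zero]
    | smul s x _ hx => intro r; rw [smul_smul, hx]
  have hleft : ∀ t : A' ⊗[A] M,
      Φ ((Algebra.TensorProduct.includeLeft : A' →ₐ[A] A' ⊗[A] A').toLinearMap.rTensor M t)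
        = ι.lTensor A' t := by
    intro t
    induction t using TensorProduct.induction_on with
    | zero => simp
    | tmul c m => simp [Φ, ι]
    | add x y hx hy => simp only [map_add, hx, hy]
  have hex : Function.Exact (N₀.subtype.lTensor A') (ι.lTensor A') := by
    refine Module.Flat.lTensor_exact A' ?_
    intro m
    simp [ι, q, N₀, Q, Submodule.Quotient.mk_eq_zero]
  apply le_antisymm
  · rw [Submodule.baseChange_eq_span, Submodule.span_le]
    rintro _ ⟨m, hm, rfl⟩
    exact hm
  · intro x hx
    have h0 : ι.lTensor A' x = 0 := by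
      rw [← hleft]
      refine (congrArg Φ (one_smul (A' ⊗[A] A') _)).symm.trans (hΦ _ ?_ 1)
      rw [← h]
      exact Submodule.subset_span (Submodule.mem_map_of_mem hx)
    obtain ⟨z, rfl⟩ := (hex x).1 h0
    clear h0 hx
    induction z using TensorProduct.induction_on with
    | zero => simp
    | tmul a n => exact Submodule.tmul_mem_baseChange_of_mem a n.2
    | add x y hx hy => rw [map_add]; exact Submodule.add_mem _ hx hy

end Groth.Agent.S5135
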