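import Groth.Statements.S5136
import Groth.Agent.H12AlgSp.SchImage

set_option autoImplicit false
open CategoryTheory CategoryTheory.Limits AlgebraicGeometry
universe u
open SGA1

namespace Groth.Agent.S5136

/-- The existence half of the exactness of H(S) ⟶ H(S') ⇉ H(S'') for closed subschemes: for g : S' ⟶ S
flat, surjective and quasi-compact, a quasi-coherent ideal sheaf on S' whose pullbacks along the two
projections of S' ×_S S' agree is the pullback of a quasi-coherent ideal sheaf on S. (Injectivity of
the pullback of ideal sheaves along g is the other half.) -/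
theorem result {S S' : Scheme.{u}} (g : S' ⟶ S) [Flat g] [Surjective g]
    [QuasiCompact g] (J' : S'.IdealSheafData)
    (h : J'.comap (pullback.fst g g) = J'.comap (pullback.snd g g)) :
    ∃ J : S.IdealSheafData, J.comap g = J' := by
  have hdom : ∀ {X Y : Scheme.{u}} (f : X ⟶ Y) [Flat f] [Surjective f] [QuasiCompact f], f.ker = ⊥ := by
    intro X Y f _ _ _
    refine Scheme.IdealSheafData.ext_of_iSup_eq_top (fun U : Y.affineOpens => U) (iSup_affineOpens_eq_top Y) fun U => ?_
    rw [Scheme.Hom.ker_apply, Scheme.IdealSheafData.ideal_bot, Pi.bot_apply, ← RingHom.injective_iff_ker_eq_bot,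
      injective_iff_map_eq_zero]
    intro s hs
    refine TopCat.Presheaf.section_ext Y.sheaf U.1 _ _ fun y hy => ?_
    obtain ⟨x, rfl⟩ := f.surjective y
    have hinj : Function.Injective (f.stalkMap x).hom := by
      letI := (f.stalkMap x).hom.toAlgebra
      haveI : Module.Flat (Y.presheaf.stalk (f x)) (X.presheaf.stalk x) := AlgebraicGeometry.Flat.stalkMap f x
      haveI : IsLocalHom (algebraMap (Y.presheaf.stalk (f x)) (X.presheaf.stalk x)) :=
        inferInstanceAs (IsLocalHom (f.stalkMap x).hom)
      haveI : Module.FaithfullyFlat (Y.presheaf.stalk (f x)) (X.presheaf.stalk x) :=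
        Module.FaithfullyFlat.of_flat_of_isLocalHom
      exact FaithfulSMul.algebraMap_injective _ _
    refine hinj ?_
    show f.stalkMap x (Y.presheaf.germ U.1 (f x) hy s) = f.stalkMap x (Y.presheaf.germ U.1 (f x) hy 0)
    rw [Scheme.Hom.germ_stalkMap_apply, show (f.app U.1) s = 0 from hs, map_zero, map_zero, map_zero]
  refine ⟨(J'.subschemeι ≫ g).ker, ?_⟩
  have sq := ((IsPullback.of_hasPullback (pullback.snd g g) J'.subschemeι).flip.paste_vert
    (IsPullback.of_hasPullback g g).flip).flip
  rw [H12AlgSp.comap_ker_of_flat sq, Scheme.Hom.ker_comp]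
  show (J'.comap (pullback.snd g g)).map (pullback.fst g g) = J'
  rw [← h]
  show ((J'.comap (pullback.fst g g)).subschemeι ≫ pullback.fst g g).ker = J'
  haveI : Flat (pullback.snd (pullback.fst g g) J'.subschemeι) := inferInstance
  rw [← Scheme.IdealSheafData.comapIso_hom_fst, Category.assoc, pullback.condition,
    Scheme.Hom.ker_comp_of_isIso, Scheme.Hom.ker_comp, hdom, Scheme.IdealSheafData.map_bot,
    Scheme.IdealSheafData.ker_subschemeι]

end Groth.Agent.S5136
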