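import Groth.Statements.S5137
import Groth.Agent.H18Quot.Criterion
import Groth.Agent.H18Quot.InvariantsBC

set_option autoImplicit false
open CategoryTheory CategoryTheory.Limits AlgebraicGeometry
universe u
open SGA1

namespace Groth.Agent.S5137

/-- Quotients by finite groups commute with flat base change. Let p : X ⟶ Y be a quotient of X by the
finite group G acting through ρ, let q : Y ⟶ Z and let b : Z' ⟶ Z be flat; let Y' be the fibre
product of Y and Z' over Z and X' that of X and Y' over Y, and let G act on X' compatibly with the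
projection to X and trivially over Y'. Then X' ⟶ Y' is a quotient of X' by G. -/
theorem result {X Y Z Z' X' Y' : Scheme.{u}} {G : Type u} [Group G] [Finite G]
    (ρ : G →* Aut X) (p : X ⟶ Y) (hp : SGA1.IsQuot ρ p) (q : Y ⟶ Z) (b : Z' ⟶ Z) [Flat b]
    (qY : Y' ⟶ Y) (bY : Y' ⟶ Z') (hY : IsPullback qY bY q b)
    (pX : X' ⟶ X) (p' : X' ⟶ Y') (hX : IsPullback pX p' p qY)
    (ρ' : G →* Aut X') (hρ₁ : ∀ g : G, (ρ' g).hom ≫ pX = pX ≫ (ρ g).hom) (hρ₂ : ∀ g : G, (ρ' g).hom ≫ p' = p') :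
    SGA1.IsQuot ρ' p' := by
  haveI : Flat qY := MorphismProperty.of_isPullback hY.flip ‹Flat b›
  haveI := hp.affine
  haveI : IsAffineHom p' := MorphismProperty.of_isPullback hX hp.affine
  refine H18Quot.isQuot_of_basis ρ' p' hρ₂
    (fun V => IsAffineOpen V ∧ ∃ U : Y.Opens, IsAffineOpen U ∧ V ≤ qY ⁻¹ᵁ U) ?_ ?_ ?_
  · intro W y hy
    obtain ⟨U, hU, hyU, -⟩ := exists_isAffineOpen_mem_and_subset (X := Y) (x := qY y) (U := ⊤) trivial
    obtain ⟨V, hV, hyV, hVW⟩ := exists_isAffineOpen_mem_and_subset (X := Y') (x := y) (U := W ⊓ qY ⁻¹ᵁ U) ⟨hy, hyU⟩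
    exact ⟨V, ⟨hV, U, hU, fun z hz => (hVW hz).2⟩, hyV, fun z hz => (hVW hz).1⟩
  all_goals
    rintro V ⟨hV, U, hU, hVU⟩
    have hle : p' ⁻¹ᵁ V ≤ pX ⁻¹ᵁ (p ⁻¹ᵁ U) := by
      rw [← Scheme.Hom.comp_preimage, hX.w, Scheme.Hom.comp_preimage]
      exact p'.preimage_mono hVU
    have hpo := (isIso_pushoutSection_iff hX hVU (le_refl (p ⁻¹ᵁ U)) (inf_eq_right.mpr hle).symm).mp
      (isIso_pushoutSection_of_isAffineOpen hX hVU (le_refl (p ⁻¹ᵁ U)) _ hU hV (hU.preimage p))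
    have key := H18Quot.invariants_baseChange hpo (Scheme.Hom.flat_appLE qY hU hV hVU)
      (fun g : G => ((ρ g).hom.appLE (p ⁻¹ᵁ U) (p ⁻¹ᵁ U) (SGA1.preimage_le_of_inv ρ p hp.inv g U)).hom)
      (fun g : G => ((ρ' g).hom.appLE (p' ⁻¹ᵁ V) (p' ⁻¹ᵁ V) (SGA1.preimage_le_of_inv ρ' p' hρ₂ g V)).hom)
      (fun g r => by
        show ((ρ g).hom.appLE _ _ _).hom ((p.appLE U (p ⁻¹ᵁ U) le_rfl).hom r) = _
        rw [← CommRingCat.comp_apply, Scheme.Hom.appLE_comp_appLE]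
        simp only [hp.inv g])
      (fun g x => by
        show ((ρ' g).hom.appLE _ _ _).hom ((pX.appLE (p ⁻¹ᵁ U) (p' ⁻¹ᵁ V) hle).hom x) =
          (pX.appLE (p ⁻¹ᵁ U) (p' ⁻¹ᵁ V) hle).hom (((ρ g).hom.appLE _ _ _).hom x)
        rw [← CommRingCat.comp_apply, ← CommRingCat.comp_apply, Scheme.Hom.appLE_comp_appLE,
          Scheme.Hom.appLE_comp_appLE]
        simp only [hρ₁ g])
      (fun g r => by
        show ((ρ' g).hom.appLE _ _ _).hom ((p'.appLE V (p' ⁻¹ᵁ V) le_rfl).hom r) = _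
        rw [← CommRingCat.comp_apply, Scheme.Hom.appLE_comp_appLE]
        simp only [hρ₂ g])
      (by rw [Scheme.Hom.appLE_eq_app]; exact hp.injective U)
      (fun x hx => by rw [Scheme.Hom.appLE_eq_app]; exact (hp.range_iff U x).mpr hx)
    rw [Scheme.Hom.appLE_eq_app] at key
  · exact key.1
  · exact key.2

end Groth.Agent.S5137
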