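import Groth.Statements.S5138
import Groth.Agent.H12AlgSp.LocP

set_option autoImplicit false
open CategoryTheory AlgebraicGeometry
universe u
open SGA1

namespace Groth.Agent.S5138

/-- For X ⟶ X' ⟶ Y locally of finite type over a locally Noetherian Y and a point x of X, if X ⟶ X' and
the composite X ⟶ Y are both etale near x then X' ⟶ Y is etale near the image of x; 'etale near a
point' is membership in the etale locus, the union of the opens on which the morphism is etale. (The
published statement takes the morphisms of finite type; quasi-compactness plays no role in this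
assertion about single points, so only local finiteness is assumed.) -/
theorem result {X X' Y : Scheme.{u}} (f : X ⟶ X') (g : X' ⟶ Y)
    [IsLocallyNoetherian Y] [LocallyOfFiniteType f] [LocallyOfFiniteType g] (x : X)
    (hf : x ∈ Pi1X.etaleLocus f) (hfg : x ∈ Pi1X.etaleLocus (f ≫ g)) : f.base x ∈ Pi1X.etaleLocus g := by
  obtain ⟨(U₁ : X.Opens), hU₁, hx₁⟩ := TopologicalSpace.Opens.mem_sSup.1 hf
  obtain ⟨(U₂ : X.Opens), hU₂, hx₂⟩ := TopologicalSpace.Opens.mem_sSup.1 hfg
  have hU₁' : Etale (U₁.ι ≫ f) := hU₁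
  have hU₂' : Etale (U₂.ι ≫ f ≫ g) := hU₂
  let U : X.Opens := U₁ ⊓ U₂
  let a := U.ι ≫ f
  haveI ha : Etale a := by
    have : a = X.homOfLE (inf_le_left : U ≤ U₁) ≫ U₁.ι ≫ f := by
      show U.ι ≫ f = _
      rw [Scheme.homOfLE_ι_assoc]
    rw [this]; infer_instance
  haveI hag : Etale (a ≫ g) := by
    have : a ≫ g = X.homOfLE (inf_le_right : U ≤ U₂) ≫ U₂.ι ≫ f ≫ g := by
      show (U.ι ≫ f) ≫ g = _
      rw [Scheme.homOfLE_ι_assoc, Category.assoc]
    rw [this]; infer_instance
  let V : X'.Opens := ⟨Set.range a, a.isOpenMap.isOpen_range⟩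
  let p : (U : Scheme.{u}) ⟶ V := IsOpenImmersion.lift V.ι a (by rw [Scheme.Opens.range_ι]; exact le_rfl)
  have hp : p ≫ V.ι = a := IsOpenImmersion.lift_fac _ _ _
  haveI : Etale (p ≫ V.ι) := by rw [hp]; exact ha
  haveI : Etale p := Etale.of_comp p V.ι
  haveI : Surjective p := ⟨fun o => by
    obtain ⟨z, hz⟩ := o.2
    exact ⟨z, V.ι.injective (by rw [← Scheme.Hom.comp_apply, hp]; exact hz)⟩⟩
  have hV : Etale (V.ι ≫ g) := Groth.Agent.H12AlgSp.etLocal_etale.descends p (V.ι ≫ g) inferInstance inferInstance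
    (by rw [← Category.assoc, hp]; exact hag)
  exact TopologicalSpace.Opens.mem_sSup.2 ⟨V, hV, ⟨⟨x, hx₁, hx₂⟩, rfl⟩⟩

end Groth.Agent.S5138
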