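import Groth.Statements.S5142
import Groth.Agent.H14Fib.FpSelf

set_option autoImplicit false
set_option backward.isDefEq.respectTransparency false
set_option backward.isDefEq.respectTransparency.types false
open CategoryTheory
universe u v u₂ v₂
open FibCat

namespace Groth.Agent.S5142

lemma cart_of_self {C : Type u} [Category.{v} C] {𝒳 : Type u₂} [Category.{v₂} 𝒳] {p : 𝒳 ⥤ C}
    {R S : C} {a b : 𝒳} (f : R ⟶ S) (φ : a ⟶ b) [p.IsHomLift f φ]
    (h : p.IsCartesian (p.map φ) φ) : p.IsCartesian f φ := by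
  subst_hom_lift p f φ
  exact h

lemma cart_self {C : Type u} [Category.{v} C] {𝒳 : Type u₂} [Category.{v₂} 𝒳] {p : 𝒳 ⥤ C}
    {R S : C} {a b : 𝒳} (f : R ⟶ S) (φ : a ⟶ b)
    (h : p.IsCartesian f φ) : p.IsCartesian (p.map φ) φ := by
  subst_hom_lift p f φ
  exact h

/-- A morphism of the fibre product 𝒳 ×_C 𝒴 of two categories over C is cartesian if and only if its two
components are cartesian (each over its image in C). The fibre product is taken as the 2-fibre
product over C of the two structure functors, whose objects are pairs over one object of C together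
with an isomorphism of C lying over an identity. -/
theorem result {C : Type u} [Category.{v} C] {𝒳 𝒴 : BasedCategory.{v₂, u₂} C}
    {x y : (FibCat.fp (FibCat.toSelf 𝒳) (FibCat.toSelf 𝒴)).obj} (φ : x ⟶ y) :
    (FibCat.fp (FibCat.toSelf 𝒳) (FibCat.toSelf 𝒴)).p.IsCartesian
        ((FibCat.fp (FibCat.toSelf 𝒳) (FibCat.toSelf 𝒴)).p.map φ) φ ↔
      𝒳.p.IsCartesian (𝒳.p.map φ.hom.fst) φ.hom.fst ∧ 𝒴.p.IsCartesian (𝒴.p.map φ.hom.snd) φ.hom.snd := by
  let f := (FibCat.fp (FibCat.toSelf 𝒳) (FibCat.toSelf 𝒴)).p.map φ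
  have hl := H14Fib.fp_isHomLift_snd' f φ
  refine ⟨fun h => ?_, fun ⟨h1, h2⟩ => ?_⟩
  · obtain ⟨h1, h2⟩ := H14Fib.fpSelf_components f φ
    exact ⟨h1, cart_self f _ h2⟩
  · have : 𝒳.p.IsCartesian f φ.hom.fst := h1
    have := cart_of_self f φ.hom.snd h2
    exact H14Fib.fpSelf_isCartesian f φ

end Groth.Agent.S5142
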