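import Groth.Statements.S5144

set_option autoImplicit false
set_option backward.isDefEq.respectTransparency false
set_option backward.isDefEq.respectTransparency.types false
open CategoryTheory
universe u v u₂ v₂
open FibCat

namespace Groth.Agent.S5144

lemma op_lift {C : Type u} [Category.{v} C] {𝒳 : Type u₂} [Category.{v₂} 𝒳] (p : 𝒳 ⥤ C) {R S : C}
    {a b : 𝒳} (f : R ⟶ S) (φ : a ⟶ b) (h : p.IsHomLift f φ) : p.op.IsHomLift f.op φ.op := by
  subst_hom_lift p f φ
  exact IsHomLift.map p.op φ.op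

lemma unop_lift {C : Type u} [Category.{v} C] {𝒳 : Type u₂} [Category.{v₂} 𝒳] (p : 𝒳 ⥤ C) {R S : Cᵒᵖ}
    {a b : 𝒳ᵒᵖ} (f : R ⟶ S) (φ : a ⟶ b) (h : p.op.IsHomLift f φ) : p.IsHomLift f.unop φ.unop := by
  subst_hom_lift p.op f φ
  exact IsHomLift.map p φ.unop

/-- If p : 𝒳 ⥤ C is both prefibred and co-prefibred (its opposite functor is prefibred), then p is
fibred if and only if it is co-fibred (its opposite functor is fibred). Prefibred and fibred are
Mathlib's notions, which are the source's. -/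
theorem result {C : Type u} [Category.{v} C] {𝒳 : Type u₂} [Category.{v₂} 𝒳]
    (p : 𝒳 ⥤ C) [p.IsPreFibered] [p.op.IsPreFibered] : p.IsFibered ↔ p.op.IsFibered := by
  constructor
  · intro h
    refine Functor.IsFibered.of_exists_isStronglyCartesian fun a R f => ?_
    obtain ⟨b, φ, hφ⟩ := Functor.IsPreFibered.exists_isCartesian' (p := p.op) (a := a) f
    refine ⟨b, φ, ⟨fun {c} g ψ _ => ?_⟩⟩
    have hd := IsHomLift.domain_eq p.op f φ
    -- the unopped data
    obtain ⟨z, χ, hz⟩ := Functor.IsPreFibered.exists_isCartesian' (p := p) (a := c.unop) g.unop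
    have hχ : p.IsStronglyCartesian g.unop χ := inferInstance
    have hψ : p.IsHomLift (f.unop ≫ g.unop) ψ.unop := unop_lift p (g ≫ f) ψ inferInstance
    obtain ⟨τ, ⟨hτ, hτ'⟩, hτu⟩ :=
      Functor.IsStronglyCartesian.universal_property p g.unop χ f.unop _ rfl ψ.unop
    have : p.op.IsHomLift f τ.op := op_lift p f.unop τ hτ
    obtain ⟨σ, ⟨hσ, hσ'⟩, hσu⟩ :=
      Functor.IsCartesian.universal_property (p := p.op) (f := f) (φ := φ) τ.op
    have hσl : p.IsHomLift (𝟙 R.unop) σ.unop := unop_lift p (𝟙 R) σ hσ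
    refine ⟨(σ.unop ≫ χ).op, ⟨?_, ?_⟩, ?_⟩
    · exact op_lift p g.unop (σ.unop ≫ χ) inferInstance
    · apply Quiver.Hom.unop_inj
      have e : φ.unop ≫ σ.unop = τ := congrArg Quiver.Hom.unop hσ'
      change φ.unop ≫ σ.unop ≫ χ = ψ.unop
      rw [reassoc_of% e, hτ']
    · rintro ρ ⟨hρ, rfl⟩
      have hρl : p.IsHomLift g.unop ρ.unop := unop_lift p g ρ hρ
      obtain ⟨σ', ⟨hs, hs'⟩, -⟩ := Functor.IsCartesian.universal_property (p := p) (f := g.unop) (φ := χ) ρ.unop
      have hφl : p.IsHomLift f.unop φ.unop := unop_lift p f φ inferInstance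
      have e2 : φ.unop ≫ σ' = τ := hτu _ ⟨inferInstance, by simp [hs']⟩
      have e3 : σ'.op = σ := hσu σ'.op ⟨op_lift p (𝟙 R.unop) σ' hs, by
        apply Quiver.Hom.unop_inj; exact e2⟩
      apply Quiver.Hom.unop_inj
      rw [← hs', ← e3]
      rfl
  · intro h
    refine Functor.IsFibered.of_exists_isStronglyCartesian fun a R f => ?_
    obtain ⟨b, φ, hφ⟩ := Functor.IsPreFibered.exists_isCartesian' (p := p) (a := a) f
    refine ⟨b, φ, ⟨fun {c} g ψ _ => ?_⟩⟩
    obtain ⟨z, χ, hz⟩ := Functor.IsPreFibered.exists_isCartesian' (p := p.op) (a := Opposite.op c) g.op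
    have hχ : p.op.IsStronglyCartesian g.op χ := inferInstance
    have hψ : p.op.IsHomLift (f.op ≫ g.op) ψ.op := op_lift p (g ≫ f) ψ inferInstance
    obtain ⟨τ, ⟨hτ, hτ'⟩, hτu⟩ :=
      Functor.IsStronglyCartesian.universal_property p.op g.op χ f.op _ rfl ψ.op
    have hτl : p.IsHomLift f τ.unop := unop_lift p f.op τ hτ
    obtain ⟨σ, ⟨hσ, hσ'⟩, hσu⟩ :=
      Functor.IsCartesian.universal_property (p := p) (f := f) (φ := φ) τ.unop
    have hχl : p.IsHomLift g χ.unop := unop_lift p g.op χ inferInstance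
    refine ⟨χ.unop ≫ σ, ⟨inferInstance, ?_⟩, ?_⟩
    · rw [Category.assoc, hσ']
      exact congrArg Quiver.Hom.unop hτ'
    · rintro ρ ⟨hρ, rfl⟩
      have hρl : p.op.IsHomLift g.op ρ.op := op_lift p g ρ hρ
      obtain ⟨σ', ⟨hs, hs'⟩, -⟩ := Functor.IsCartesian.universal_property (p := p.op) (f := g.op) (φ := χ) ρ.op
      have hφl : p.op.IsHomLift f.op φ.op := op_lift p f φ inferInstance
      have e2 : φ.op ≫ σ' = τ := hτu _ ⟨inferInstance, by
        rw [Category.assoc, hs']; rfl⟩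
      have hsl : p.IsHomLift (𝟙 R) σ'.unop := unop_lift p (𝟙 (Opposite.op R)) σ' hs
      have e3 : σ'.unop = σ := hσu σ'.unop ⟨hsl, congrArg Quiver.Hom.unop e2⟩
      rw [← e3]
      exact (congrArg Quiver.Hom.unop hs').symm

end Groth.Agent.S5144
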