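import Groth.Statements.S5147
import Groth.Agent.H18Et.GalExact

set_option autoImplicit false
universe u v w
open CategoryTheory PreGaloisCategory
open Pi1

namespace Groth.Agent.S5147

open CategoryTheory.Limits in
/-- In the situation of the first assertion, the stabilizer U of a contains the normal subgroup
generated by the image of u (hence also its closure, U being open) if and only if H(X) is isomorphic
to a finite coproduct of copies of the final object of C'. -/
theorem result {C C' : Type u} [Category.{v} C] [Category.{v} C']
    [GaloisCategory C] [GaloisCategory C'] (H : C ⥤ C') [PreservesFiniteLimits H] [PreservesFiniteColimits H]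
    (F' : C' ⥤ FintypeCat.{w}) [FiberFunctor F'] [FiberFunctor (H ⋙ F')] (X : C) [IsConnected X]
    (a : (H ⋙ F').obj X) :
    Subgroup.normalClosure ((Pi1X.autWhisker H F').range : Set (Aut (H ⋙ F'))) ≤ MulAction.stabilizer (Aut (H ⋙ F')) a ↔
      ∃ n : ℕ, Nonempty (H.obj X ≅ ∐ fun _ : Fin n => ⊤_ C') := by
  exact Groth.Agent.H18Et.GalExact.normalClosure_le_stabilizer_iff H F' X a

end Groth.Agent.S5147
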