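import Groth.Statements.S5150
import Groth.Agent.H4Depth.ExtBasic
import Mathlib.RingTheory.Regular.LinearMap

set_option autoImplicit false
universe u
open CategoryTheory
open LocCoh

namespace Groth.Agent.S5150

/-- Let A be a commutative ring, I an ideal, M and N A-modules, and f_1, …, f_r a weakly M-regular
sequence of elements of I. If N is killed by a power of I then Ext^i_A(N, M) vanishes for all i < r.
(No Noetherian or finiteness hypothesis on A, M or N.) -/
theorem result (A : Type u) [CommRing A] (I : Ideal A) (M N : Type u) [AddCommGroup M] [Module A M] [AddCommGroup N] [Module A N] (rs : List A) (hreg : RingTheory.Sequence.IsWeaklyRegular M rs) (hI : ∀ r ∈ rs, r ∈ I) (k : ℕ) (hN : (I ^ k) • (⊤ : Submodule A N) = ⊥) (i : ℕ) (hi : i < rs.length) : Subsingleton (Abelian.Ext (ModuleCat.of A N) (ModuleCat.of A M) i) := by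
  open CategoryTheory Abelian in
  induction rs generalizing M i with
  | nil => simp at hi
  | cons a rs ih =>
    rw [RingTheory.Sequence.isWeaklyRegular_cons_iff] at hreg
    simp only [List.mem_cons, forall_eq_or_imp] at hI
    have hf : Function.Injective (a • LinearMap.id : M →ₗ[A] M) := fun x y h => hreg.1 h
    have hk : a ^ k ∈ Module.annihilator A N := by
      rw [Module.mem_annihilator]
      intro n
      have h1 := Submodule.smul_mem_smul (Ideal.pow_mem_pow hI.1 k)
        (Submodule.mem_top : n ∈ (⊤ : Submodule A N))
      rwa [hN, Submodule.mem_bot] at h1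
    cases i with
    | zero =>
      rw [H4Depth.subsingleton_ext_zero_iff]
      exact IsSMulRegular.linearMap_subsingleton_of_mem_annihilator (hreg.1.pow k) hk
    | succ i =>
      have key : ∀ x : Ext (ModuleCat.of A N) (ModuleCat.of A M) (i + 1), a • x = 0 → x = 0 := by
        intro x hx
        rw [Ext.smul_eq_comp_mk₀] at hx
        obtain ⟨y, rfl⟩ := Ext.covariant_sequence_exact₁ _
          (H4Depth.shortComplexOf_shortExact _ _ hf (Submodule.mkQ_surjective _)
            (LinearMap.exact_lsmul_mkQ_smul_top M a)) x hx rfl
        rw [show y = 0 from @Subsingleton.elim _ (ih (QuotSMulTop a M) hreg.2 hI.2 i (by simpa using hi)) _ _]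
        simp; rfl
      refine subsingleton_of_forall_eq 0 fun x => ?_
      have hz := H4Depth.ext_smul_eq_zero_of_mem_annihilator_left (M := ModuleCat.of A M)
        (N := ModuleCat.of A N) hk x
      clear hk hN
      induction k generalizing x with
      | zero => simpa using hz
      | succ k ihk =>
        exact key x (ihk (a • x) (by rwa [← mul_smul, ← pow_succ]))

end Groth.Agent.S5150
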