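import Groth.Statements.S5153
import Groth.Agent.H4Depth.Components

set_option autoImplicit false
universe u
open AlgebraicGeometry
open LocCoh

namespace Groth.Agent.S5153

/-- Let X be a locally Noetherian scheme and Y = X − U a closed subset such that depth O_{X,x} ≥ 2 for
every x ∈ Y. Then the inclusion U → X induces a bijection on sets of connected components. -/
theorem result (X : Scheme.{u}) [IsLocallyNoetherian X] (U : X.Opens) (h : ∀ x : X, x ∉ (U : Set X) → (2 : ℕ∞) ≤ LocCoh.depth (X.presheaf.stalk x) (X.presheaf.stalk x)) : Function.Bijective (Continuous.connectedComponentsMap (continuous_subtype_val : Continuous (fun x : U => (x : X)))) := by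
  haveI : LocallyConnectedSpace X := Groth.Agent.H17.locallyConnectedSpace_of_locallyNoetherian fun x => by
    obtain ⟨V, hV, hxV, -⟩ := exists_isAffineOpen_mem_and_subset (U := (⊤ : X.Opens)) (trivial : x ∈ (⊤ : X.Opens))
    haveI : IsNoetherianRing Γ(X, V) := IsLocallyNoetherian.component_noetherian ⟨V, hV⟩
    exact ⟨V, V.2.mem_nhds hxV, (noetherianSpace_of_isAffineOpen V hV : TopologicalSpace.NoetherianSpace V)⟩
  exact Groth.Agent.H4Depth.bijective_connectedComponentsMap_of_basis _ U.2 (Groth.Agent.H4Depth.exists_basis_of_depth X U h)

end Groth.Agent.S5153
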