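import Groth.Statements.S5155
import Groth.Agent.H4Matlis.Socle

set_option autoImplicit false
universe u
open Matlis

namespace Groth.Agent.S5155

/-- Let A be a Noetherian local ring with residue field k. An A-module E is an injective hull of k if
and only if E is injective, E is m-power torsion, and Hom_A(k, E) is simple (one-dimensional over
k). (The torsion condition is needed: for a prime p ≠ m the module E(k) ⊕ E(A/p) is injective with
Hom_A(k, −) simple, represents the same functor on modules of finite length, and is not an injective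
hull of k; the published definition of a dualizing module leaves this condition implicit and the
published proof uses it.) -/
theorem result (A : Type u) [CommRing A] [IsLocalRing A] [IsNoetherianRing A] (E : Type u) [AddCommGroup E] [Module A E] : (∃ f : IsLocalRing.ResidueField A →ₗ[A] E, InjHull.IsInjectiveHull f) ↔ (Module.Injective A E ∧ LocCoh.IsPowerTorsion (IsLocalRing.maximalIdeal A) E ∧ IsSimpleModule A (IsLocalRing.ResidueField A →ₗ[A] E)) := by
  constructor
  · rintro ⟨f, hf⟩
    obtain ⟨e⟩ := H4Matlis.exists_homEquiv hf.toIsEssentialInj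
    have : IsSimpleModule A (A ⧸ IsLocalRing.maximalIdeal A) :=
      isSimpleModule_iff_isCoatom.mpr (IsLocalRing.maximalIdeal.isMaximal A).out
    exact ⟨hf.isInjective, H4Matlis.isPowerTorsion hf, IsSimpleModule.congr e⟩
  · rintro ⟨hinj, htor, hs⟩
    have := IsSimpleModule.nontrivial A (IsLocalRing.ResidueField A →ₗ[A] E)
    obtain ⟨φ, hφ⟩ : ∃ φ : IsLocalRing.ResidueField A →ₗ[A] E, φ ≠ 0 :=
      exists_ne _
    have hmem : φ 1 ∈ LocCoh.torsionBy (IsLocalRing.maximalIdeal A) E :=
      (Submodule.mem_torsionBySet_iff _ _).mpr fun a => H4Matlis.smul_range_eq_zero a.2 _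
    have h0 : φ 1 ≠ 0 := fun h => hφ (by
      refine LinearMap.ext fun x => ?_
      obtain ⟨x, rfl⟩ := Ideal.Quotient.mk_surjective x
      have : (Ideal.Quotient.mk (IsLocalRing.maximalIdeal A) x : IsLocalRing.ResidueField A) =
          x • (1 : IsLocalRing.ResidueField A) :=
        ((Algebra.smul_def x (1 : A ⧸ IsLocalRing.maximalIdeal A)).trans (mul_one _)).symm
      rw [this, map_smul, h, smul_zero, LinearMap.zero_apply])
    refine H4Matlis.exists_hull_of_socle_cyclic hinj htor hmem h0 fun y hy => ?_
    let ψ : IsLocalRing.ResidueField A →ₗ[A] E :=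
      (IsLocalRing.maximalIdeal A).liftQ (LinearMap.toSpanSingleton A E y) fun a ha => by
        simpa using (Submodule.mem_torsionBySet_iff _ _).mp hy ⟨a, ha⟩
    obtain ⟨r, hr⟩ : ∃ r : A, r • φ = ψ := by
      have := IsSimpleModule.toSpanSingleton_surjective A hφ ψ
      exact this
    refine ⟨r, ?_⟩
    exact (LinearMap.congr_fun hr 1).trans (one_smul A y)

end Groth.Agent.S5155
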