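import Groth.Statements.S5156
import Groth.Agent.H4Matlis.Coextend

set_option autoImplicit false
universe u
open Matlis

namespace Groth.Agent.S5156

/-- Let A and B be Noetherian local rings with B a finite A-algebra, and E an injective hull of the
residue field of A (a dualizing module for A). Then Hom_A(B, E), as a B-module through the action on
the source, is an injective hull of the residue field of B (a dualizing module for B). -/
theorem result (A B : Type u) [CommRing A] [IsLocalRing A] [IsNoetherianRing A] [CommRing B] [IsLocalRing B] [IsNoetherianRing B] [Algebra A B] [Module.Finite A B] (E : Type u) [AddCommGroup E] [Module A E] (f : IsLocalRing.ResidueField A →ₗ[A] E) (hf : InjHull.IsInjectiveHull f) : ∃ g : IsLocalRing.ResidueField B →ₗ[B] (ModuleCat.coextendScalars (algebraMap A B)).obj (ModuleCat.of A E), InjHull.IsInjectiveHull g := by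
  open H4Matlis in
  obtain ⟨g, hg⟩ := exists_hull_gam_coind hf (IsLocalRing.maximalIdeal B)
    (isFiniteLength_quotient_maximal _)
  have htop : gam (IsLocalRing.maximalIdeal B) (Coind A B E) = ⊤ := by
    refine eq_top_iff.mpr fun x _ => ?_
    have h1 := iSup_gam_eq_top (isPowerTorsion_coind (B := B) hf) isArtinianRing_quotient_map
    have h2 : (⨆ n : MaximalSpectrum B, gam n.asIdeal (Coind A B E)) ≤
        gam (IsLocalRing.maximalIdeal B) (Coind A B E) :=
      iSup_le fun n => by rw [IsLocalRing.eq_maximalIdeal n.isMaximal]
    exact h2 (h1 ▸ Submodule.mem_top)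
  exact ⟨_, H4Inj.IsInjectiveHull.comp_equiv hg (LinearEquiv.ofTop _ htop)⟩

end Groth.Agent.S5156
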