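import Groth.Statements.S5157
import Groth.Agent.H4Matlis.Socle

set_option autoImplicit false
universe u
open Matlis

namespace Groth.Agent.S5157

/-- Let A be a Noetherian local ring, a an ideal with A/a local (i.e. a ≠ A) and E an injective hull of
the residue field of A. Then the annihilator of a in E, E[a] = {e | a e = 0}, is an injective hull
of the residue field of A/a over A/a. -/
theorem result (A : Type u) [CommRing A] [IsLocalRing A] [IsNoetherianRing A] (a : Ideal A) [IsLocalRing (A ⧸ a)] (E : Type u) [AddCommGroup E] [Module A E] (f : IsLocalRing.ResidueField A →ₗ[A] E) (hf : InjHull.IsInjectiveHull f) : ∃ g : IsLocalRing.ResidueField (A ⧸ a) →ₗ[A ⧸ a] (LocCoh.torsionBy a E), InjHull.IsInjectiveHull g := by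
  open H4Matlis in
  have hale : a ≤ IsLocalRing.maximalIdeal A :=
    IsLocalRing.le_maximalIdeal (fun h => Ideal.Quotient.nontrivial_iff.mp inferInstance h)
  have hm : IsLocalRing.maximalIdeal (A ⧸ a) =
      (IsLocalRing.maximalIdeal A).map (Ideal.Quotient.mk a) :=
    (IsLocalRing.eq_maximalIdeal (Ideal.IsMaximal.map_of_surjective_of_ker_le
      Ideal.Quotient.mk_surjective (by rwa [Ideal.mk_ker]))).symm
  have htor : LocCoh.IsPowerTorsion (IsLocalRing.maximalIdeal (A ⧸ a)) ↥(LocCoh.torsionBy a E) := by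
    intro y
    obtain ⟨n, hn⟩ := isPowerTorsion hf y.1
    refine ⟨n, fun c hc => ?_⟩
    rw [hm, ← Ideal.map_pow] at hc
    obtain ⟨c, hc', rfl⟩ := (Ideal.mem_map_iff_of_surjective _ Ideal.Quotient.mk_surjective).mp hc
    exact Subtype.ext (hn c hc')
  have hx : f 1 ∈ LocCoh.torsionBy a E :=
    (Submodule.mem_torsionBySet_iff _ _).mpr fun c => smul_range_eq_zero (hale c.2) 1
  refine exists_hull_of_socle_cyclic (injective_torsionBy a hf.isInjective) htor (x := ⟨f 1, hx⟩) ?_ ?_ ?_
  · refine (Submodule.mem_torsionBySet_iff _ _).mpr ?_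
    rintro ⟨c, hc⟩
    rw [SetLike.mem_coe, hm] at hc
    obtain ⟨c, hc', rfl⟩ := (Ideal.mem_map_iff_of_surjective _ Ideal.Quotient.mk_surjective).mp hc
    exact Subtype.ext (smul_range_eq_zero hc' 1)
  · intro h
    exact one_ne_zero (hf.injective ((congrArg Subtype.val h :).trans (map_zero f).symm))
  · intro y hy
    obtain ⟨z, hz⟩ := mem_range_of_killed hf.toIsEssentialInj (x := y.1) fun c hc =>
      congrArg Subtype.val ((Submodule.mem_torsionBySet_iff _ _).mp hy
        ⟨Ideal.Quotient.mk a c, by rw [SetLike.mem_coe, hm]; exact Ideal.mem_map_of_mem _ hc⟩)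
    obtain ⟨r, rfl⟩ := Ideal.Quotient.mk_surjective z
    refine ⟨Ideal.Quotient.mk a r, Subtype.ext ?_⟩
    show r • f 1 = y.1
    rw [← hz, ← map_smul]
    exact congrArg f ((Algebra.smul_def r (1 : A ⧸ IsLocalRing.maximalIdeal A)).trans (mul_one _))

end Groth.Agent.S5157
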