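import Groth.Statements.S5158
import Groth.Agent.H4Matlis.End

set_option autoImplicit false
universe u
open scoped TensorProduct
open Matlis

namespace Groth.Agent.S5158

/-- Let A be a Noetherian local ring, Â its m-adic completion and I an m-power torsion A-module (a union
of submodules of finite length). Then x ↦ 1 ⊗ x is a bijection I → Â ⊗_A I. -/
theorem result (A : Type u) [CommRing A] [IsLocalRing A] [IsNoetherianRing A] (I : Type u) [AddCommGroup I] [Module A I] (hI : LocCoh.IsPowerTorsion (IsLocalRing.maximalIdeal A) I) : Function.Bijective (TensorProduct.mk A (AdicCompletion (IsLocalRing.maximalIdeal A) A) I 1) := by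
  constructor
  · intro x y h
    have key : ∀ z : I, TensorProduct.lift (LinearMap.mk₂ A (fun (r : AdicCompletion (IsLocalRing.maximalIdeal A) A) (z : I) =>
        H4Matlis.actAlg hI r z) (fun r s z => by rw [map_add]; rfl) (fun c r z => by rw [map_smul]; rfl)
        (fun r z w => map_add _ z w) (fun c r z => map_smul _ c z))
        ((1 : AdicCompletion (IsLocalRing.maximalIdeal A) A) ⊗ₜ[A] z) = z := fun z => by
      simp
    simp only [TensorProduct.mk_apply] at h
    rw [← key x, ← key y, h]
  · intro t
    induction t using TensorProduct.induction_on with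
    | zero => exact ⟨0, TensorProduct.tmul_zero _ _⟩
    | add a b ha hb =>
      obtain ⟨a', rfl⟩ := ha
      obtain ⟨b', rfl⟩ := hb
      exact ⟨a' + b', TensorProduct.tmul_add _ _ _⟩
    | tmul r z =>
      obtain ⟨n, hn⟩ := hI z
      refine ⟨H4Matlis.rep r n • z, ?_⟩
      rw [TensorProduct.mk_apply, ← TensorProduct.smul_tmul]
      suffices h : ∀ q ∈ (IsLocalRing.maximalIdeal A) ^ n •
          (⊤ : Submodule A (AdicCompletion (IsLocalRing.maximalIdeal A) A)), q ⊗ₜ[A] z = 0 by
        rw [eq_comm, ← sub_eq_zero, ← TensorProduct.sub_tmul]
        refine h _ ?_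
        rw [AdicCompletion.pow_smul_top_eq_ker_eval (IsNoetherian.noetherian _), LinearMap.mem_ker]
        have := H4Matlis.mk_rep r n
        induction r using AdicCompletion.induction_on with
        | _ s =>
          rw [AdicCompletion.evalₐ_mk, Ideal.Quotient.eq] at this
          rw [map_sub, map_smul, AdicCompletion.eval_apply, AdicCompletion.eval_apply,
            AdicCompletion.val_one]
          show Submodule.Quotient.mk (s n) - H4Matlis.rep (AdicCompletion.mk _ A s) n •
            Submodule.Quotient.mk (1 : A) = 0
          rw [← Submodule.Quotient.mk_smul, ← Submodule.Quotient.mk_sub, Submodule.Quotient.mk_eq_zero]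
          simp only [smul_eq_mul, mul_one, Ideal.mul_top]
          simpa using neg_mem this
      intro q hq
      refine Submodule.smul_induction_on hq ?_ ?_
      · intro c hc w _
        rw [TensorProduct.smul_tmul, hn c hc, TensorProduct.tmul_zero]
      · intro a b ha hb
        rw [TensorProduct.add_tmul, ha, hb, add_zero]

end Groth.Agent.S5158
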