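import Groth.Statements.S5159
import Groth.Agent.H4LC.DualIso
import Groth.Agent.H4LC.FiniteLength
import Groth.Agent.H4Goren.Basic
import Groth.Agent.H4Matlis.Duality

set_option autoImplicit false
universe u
open CategoryTheory Opposite
open Dual

namespace Groth.Agent.S5159

/-- Let A be a regular local ring of dimension n and M an A-module of finite length. Then Ext^i_A(M, A)
= 0 for i ≠ n and length Ext^n_A(M, A) = length M (the functor Ext^n_A(−, A) is dualizing). -/
theorem result (A : Type u) [CommRing A] [IsRegularLocalRing A] (n : ℕ) (hn : ringKrullDim A = n) (M : Type u) [AddCommGroup M] [Module A M] (hM : IsFiniteLength A M) : (∀ i : ℕ, i ≠ n → Subsingleton (((Ext A (ModuleCat.{u} A) i).obj (op (ModuleCat.of A M))).obj (ModuleCat.of A A))) ∧ Module.length A (((Ext A (ModuleCat.{u} A) n).obj (op (ModuleCat.of A M))).obj (ModuleCat.of A A)) = Module.length A M := by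

  haveI := H4Goren.isGorensteinLocalRing_of_isRegularLocalRing A
  obtain ⟨_, _⟩ := isFiniteLength_iff_isNoetherian_isArtinian.1 hM
  have ht := H4LC.isPowerTorsion_of_isFiniteLength hM
  obtain ⟨P⟩ := H4LC.nonempty_dualRes_of_finite (S := A) M
  refine ⟨fun i hi => ?_, ?_⟩
  · refine (H4LC.extEquiv (ModuleCat.of A M) (ModuleCat.of A A) i).toEquiv.subsingleton_congr.2
      ((P.subsingleton_ext_iff i).2 ((H4LC.DualRes.subsingleton_E_iff_H hn i P).2 fun j hj => ?_))
    exact H4LC.subsingleton_H_of_isPowerTorsion _ j M ht (by omega)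
  · obtain ⟨g, hg⟩ := H4Goren.exists_isInjectiveHull_H_top A n hn
    obtain ⟨e⟩ := H4LC.nonempty_localDuality (M := M) hn g hg (j := 0) (c := n) (zero_add n)
    obtain ⟨eX⟩ := H4LC.DualRes.nonempty_extEquiv n P
    haveI : Module.Finite A (P.E n) := inferInstance
    haveI : Module.Finite A (Abelian.Ext (ModuleCat.of A M) (ModuleCat.of A A) n) :=
      Module.Finite.equiv eX.symm
    let X := Abelian.Ext (ModuleCat.of A M) (ModuleCat.of A A) n
    let f : M ≃ₗ[A] (X →ₗ[A] _) := (H4LC.zeroEquivOfTorsion _ ht).symm.trans e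
    have hXE : IsFiniteLength A (X →ₗ[A] _) := f.isFiniteLength hM
    have hX : IsFiniteLength A X := by
      obtain ⟨_, _⟩ := isFiniteLength_iff_isNoetherian_isArtinian.1
        (H4Matlis.isFiniteLength_hom hg hXE)
      exact isFiniteLength_iff_isNoetherian_isArtinian.2
        ⟨isNoetherian_of_injective _ (H4Matlis.injective_applyₗ hg X),
         isArtinian_of_injective _ (H4Matlis.injective_applyₗ hg X)⟩
    rw [(H4LC.extEquiv (ModuleCat.of A M) (ModuleCat.of A A) n).length_eq,
      ← H4Matlis.length_hom_eq_length hg hX, f.length_eq]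

end Groth.Agent.S5159
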