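import Groth.Statements.S5163
import Groth.Agent.H4LC.Nonvanishing
import Groth.Agent.H4Depth.CM

set_option autoImplicit false
universe u
open LocCoh

namespace Groth.Agent.S5163

/-- For modules over a Noetherian ring. Let P be a finite A-module and H any A-module with Supp H ⊆ Supp
P. If Hom_A(P, H) = 0 then H = 0. (The published lemma is stated over an arbitrary prescheme; its
proof uses that a nonzero module has an associated prime, so the ring is taken Noetherian here.) -/
theorem result (A : Type u) [CommRing A] [IsNoetherianRing A] (P H : Type u) [AddCommGroup P] [Module A P] [Module.Finite A P] [AddCommGroup H] [Module A H] (hsupp : Module.support A H ⊆ Module.support A P) (hhom : Subsingleton (P →ₗ[A] H)) : Subsingleton H := by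

  by_contra hne
  rw [not_subsingleton_iff_nontrivial] at hne
  obtain ⟨p, hp⟩ := associatedPrimes.nonempty A H
  obtain ⟨hpp, x, hx⟩ := isAssociatedPrime_iff.mp hp
  obtain ⟨g, hg⟩ := H4LC.exists_map_quotient_ne_zero (M := P) (p := ⟨p, hpp⟩)
    (hsupp (H4Depth.mem_support_of_mem_associatedPrimes hp))
  have hle : p ≤ LinearMap.ker (LinearMap.toSpanSingleton A H x) := fun a ha => by
    rw [hx, Submodule.mem_colon_singleton] at ha
    simpa using ha
  refine hg (LinearMap.ext fun w => ?_)
  obtain ⟨c, hc⟩ := Ideal.Quotient.mk_surjective (g w)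
  rw [LinearMap.zero_apply, ← hc, Ideal.Quotient.eq_zero_iff_mem]
  show c ∈ p
  rw [hx, Submodule.mem_colon_singleton,
    Submodule.mem_bot]
  have h0 := LinearMap.congr_fun (@Subsingleton.elim _ hhom
    (Submodule.liftQ p (LinearMap.toSpanSingleton A H x) hle ∘ₗ g) 0) w
  rw [LinearMap.comp_apply, ← hc] at h0
  exact h0

end Groth.Agent.S5163
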