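import Groth.Statements.S5166
import Groth.Agent.H4LC.DimOne

set_option autoImplicit false
universe u
open LocCoh

namespace Groth.Agent.S5166

/-- In its local form at a point y ∈ Y (A = O_{X,y}). Let A be a Noetherian local ring and I ≠ A an
ideal contained in no minimal prime of A. Then some prime p ⊉ I has dim A/p = 1. -/
theorem result (A : Type u) [CommRing A] [IsLocalRing A] [IsNoetherianRing A] (I : Ideal A) (hI : I ≠ ⊤) (hdense : ∀ q ∈ minimalPrimes A, ¬ I ≤ q) : ∃ p : PrimeSpectrum A, ¬ I ≤ p.asIdeal ∧ ringKrullDim (A ⧸ p.asIdeal) = 1 := by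
  obtain ⟨q, hq⟩ := (Ideal.nonempty_minimalPrimes (bot_ne_top (α := Ideal A)))
  obtain ⟨f, hfI, hfq⟩ := Set.not_subset.mp (hdense q hq)
  have := hq.isPrime
  obtain ⟨P, hP, hfP, hdim⟩ := Groth.Agent.H4LC.exists_prime_dim_one_not_mem
    (IsLocalRing.le_maximalIdeal hI hfI) fun hn => hfq (nilpotent_iff_mem_prime.mp hn q inferInstance)
  exact ⟨⟨P, hP⟩, fun hle => hfP (hle hfI), hdim⟩

end Groth.Agent.S5166
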