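import Groth.Statements.S5167
import Groth.Agent.H4LC.FaltingsApps

set_option autoImplicit false
universe u
open LocCoh

namespace Groth.Agent.S5167

/-- Let A be a Noetherian local ring which is a quotient of a regular local ring, m its maximal ideal, M
a finite A-module and n ≥ 0. Then H^i_m(M) is of finite length for all i ≤ n if and only if
depth(M_p) > n − dim(A/p) for every prime p ≠ m. -/
theorem result (R : Type u) [CommRing R] [IsRegularLocalRing R] (A : Type u) [CommRing A] [IsLocalRing A] [IsNoetherianRing A] (π : R →+* A) (hπ : Function.Surjective π) (M : Type u) [AddCommGroup M] [Module A M] [Module.Finite A M] (n : ℕ) : (∀ i : ℕ, i ≤ n → IsFiniteLength A (LocCoh.H (IsLocalRing.maximalIdeal A) i M)) ↔ ∀ p : PrimeSpectrum A, p.asIdeal ≠ IsLocalRing.maximalIdeal A → ∀ e : ℕ, ringKrullDim (A ⧸ p.asIdeal) = e → (n : ℕ∞) < LocCoh.depth (Localization.AtPrime p.asIdeal) (LocalizedModule p.asIdeal.primeCompl M) + e := by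
  let : Algebra R A := π.toAlgebra
  let : Module R M := Module.compHom M π
  have : IsScalarTower R A M := IsScalarTower.of_algebraMap_smul fun _ _ => rfl
  have : IsRegularRing R := Groth.Agent.H05EGA4.isRegularRing_of_isRegularLocalRing R
  have hrel : ∀ p : PrimeSpectrum A, ∀ c : ℕ,
      SGA2.relCodim (IsLocalRing.maximalIdeal A) p = c ↔ ringKrullDim (A ⧸ p.asIdeal) = c :=
    fun p c => by rw [← Groth.Agent.H4LC.relCodim_maximalIdeal p]; exact WithBot.coe_inj.symm
  have hne : ∀ p : PrimeSpectrum A, ¬ IsLocalRing.maximalIdeal A ≤ p.asIdeal ↔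
      p.asIdeal ≠ IsLocalRing.maximalIdeal A := fun p =>
    ⟨fun h e => h e.ge, fun h hle => h ((IsLocalRing.maximalIdeal.isMaximal A).eq_of_le p.2.ne_top hle).symm⟩
  have hlen : ∀ i, IsFiniteLength A (LocCoh.H (IsLocalRing.maximalIdeal A) i M) ↔
      Module.Finite A (LocCoh.H (IsLocalRing.maximalIdeal A) i M) := fun i => by
    rw [isFiniteLength_iff_isNoetherian_isArtinian]
    have := Groth.Agent.H4LC.isArtinian_H (R := A) i M
    exact ⟨fun h => have := h.1; inferInstance, fun h => ⟨inferInstance, this⟩⟩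
  constructor
  · intro h p hp e he
    by_contra hlt
    rw [not_lt] at hlt
    obtain ⟨d, hd⟩ := ENat.ne_top_iff_exists.1
      (ne_top_of_le_ne_top (ENat.natCast_ne_top n) (le_self_add.trans hlt))
    rw [← hd] at hlt
    norm_cast at hlt
    have hle : ((d + 1 : ℕ) : ℕ∞) ≤ LocCoh.depth (Localization.AtPrime p.asIdeal)
        (LocalizedModule p.asIdeal.primeCompl M) := by
      refine (Groth.Agent.H4LC.natCast_le_depth_iff M p (d + 1)).2 fun j hj => ?_
      exact Groth.Agent.H4LC.locVanish_of_finite_H (S := R) hπ M (j + e)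
        ((hlen _).1 (h _ (by omega))) hp he rfl
    rw [← hd, Nat.cast_le] at hle
    omega
  · intro h i hi
    refine (hlen i).2 (Groth.Agent.H4LC.finite_H_of_quotient (S := R) hπ M _ i fun p hp hc j hj => ?_)
    have h1 := h p ((hne p).1 hp) 1 ((hrel p 1).1 (by exact_mod_cast hc))
    rw [Nat.cast_one] at h1
    exact (Groth.Agent.H4LC.natCast_le_depth_iff M p n).1 (Order.le_of_lt_add_one h1) j (by omega)

end Groth.Agent.S5167
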