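import Groth.Statements.S5171
import Groth.Agent.H4LC.Depth
import Groth.Agent.H4Depth.LocDepth
import Groth.Agent.H4Depth.IdealDepth

set_option autoImplicit false
universe u
open LocCoh

namespace Groth.Agent.S5171

/-- Let A be a Noetherian ring, J an ideal, n ≥ 0 and G a finite Cohen–Macaulay A-module (each
localization G_p is zero or Cohen–Macaulay). Then H^i_J(G) = 0 for i < n if and only if codim(V(J) ∩
Supp G, Supp G) ≥ n, i.e. dim Supp(G_p) ≥ n for every p ∈ V(J) ∩ Supp G. -/
theorem result (A : Type u) [CommRing A] [IsNoetherianRing A] (J : Ideal A) (G : Type u) [AddCommGroup G] [Module A G] [Module.Finite A G] (hCM : ∀ p : PrimeSpectrum A, Subsingleton (LocalizedModule p.asIdeal.primeCompl G) ∨ LocCoh.IsCohenMacaulayModule (Localization.AtPrime p.asIdeal) (LocalizedModule p.asIdeal.primeCompl G)) (n : ℕ) : (∀ i : ℕ, i < n → Subsingleton (LocCoh.H J i G)) ↔ ∀ p : PrimeSpectrum A, J ≤ p.asIdeal → p ∈ Module.support A G → (n : WithBot ℕ∞) ≤ Module.supportDim (Localization.AtPrime p.asIdeal) (LocalizedModule p.asIdeal.primeCompl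 G) := by
  rw [← Groth.Agent.H4LC.le_idealDepth_iff_H, Groth.Agent.H4Depth.idealDepth_eq_iInf_depth_localization, le_iInf₂_iff]
  refine forall_congr' fun p => imp_congr_right fun _ => ?_
  by_cases hp : p ∈ Module.support A G
  · rcases hCM p with hs | hCMp
    · exact absurd hs (not_subsingleton_iff_nontrivial.2 (Module.mem_support_iff.1 hp))
    · rw [LocCoh.IsCohenMacaulayModule] at hCMp
      simp only [hp, true_implies, hCMp]
      exact WithBot.coe_le_coe.symm
  · haveI := Module.notMem_support_iff.1 hp
    refine iff_of_true ?_ fun h => absurd h hp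
    exact le_of_le_of_eq le_top (Groth.Agent.H4Depth.idealDepth_eq_top (Subsingleton.elim _ _)).symm

end Groth.Agent.S5171
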