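import Groth.Statements.S5172
import Groth.Agent.H4LC.FaltingsApps

set_option autoImplicit false
universe u
open LocCoh

namespace Groth.Agent.S5172

/-- Let A be a Noetherian ring which is a quotient of a regular ring, I an ideal, M a finite A-module
and n ≥ 0; c(p) = codim(V(p) ∩ V(I), V(p)). Then depth M_p > n − c(p) for all primes p ⊉ I if and
only if depth M_p ≥ n for all primes p ⊉ I with c(p) = 1. -/
theorem result (R : Type u) [CommRing R] [IsRegularRing R] (A : Type u) [CommRing A] [IsNoetherianRing A] (π : R →+* A) (hπ : Function.Surjective π) (I : Ideal A) (M : Type u) [AddCommGroup M] [Module A M] [Module.Finite A M] (n : ℕ) : (∀ p : PrimeSpectrum A, ¬ I ≤ p.asIdeal → (n : ℕ∞) < LocCoh.depth (Localization.AtPrime p.asIdeal) (LocalizedModule p.asIdeal.primeCompl M) + SGA2.relCodim I p) ↔ (∀ p : PrimeSpectrum A, ¬ I ≤ p.asIdeal → SGA2.relCodim I p = 1 → (n : ℕ∞) ≤ LocCoh.depth (Localization.AtPrime p.asIdeal) (LocalizedModule p.asIdeal.primeCompl M)) := by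
  let : Algebra R A := π.toAlgebra
  let : Module R M := Module.compHom M π
  have : IsScalarTower R A M := IsScalarTower.of_algebraMap_smul fun _ _ => rfl
  constructor
  · intro h p hp hc
    have h1 := h p hp
    rw [hc] at h1
    exact Order.le_of_lt_add_one h1
  · intro h p hp
    cases hc : SGA2.relCodim I p with
    | top => rw [add_top]; exact ENat.natCast_lt_top n
    | coe c =>
      by_contra hlt
      rw [not_lt] at hlt
      obtain ⟨d, hd⟩ := ENat.ne_top_iff_exists.1
        (ne_top_of_le_ne_top (ENat.natCast_ne_top n) (le_self_add.trans hlt))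
      rw [← hd] at hlt
      norm_cast at hlt
      have hle : ((d + 1 : ℕ) : ℕ∞) ≤ LocCoh.depth (Localization.AtPrime p.asIdeal)
          (LocalizedModule p.asIdeal.primeCompl M) := by
        refine (Groth.Agent.H4LC.natCast_le_depth_iff M p (d + 1)).2 fun j hj => ?_
        refine Groth.Agent.H4LC.locVanish_of_relCodim (S := R) hπ M I (j + c) (fun r hr hr1 k hk => ?_)
          hp hc rfl
        exact (Groth.Agent.H4LC.natCast_le_depth_iff M r n).1 (h r hr hr1) k (by omega)
      rw [← hd, Nat.cast_le] at hle
      omega

end Groth.Agent.S5172
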