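import Groth.Statements.S5174
import Groth.Agent.H4RepExt.Basic
import Groth.Agent.H4LC.ExtCompare

set_option autoImplicit false
universe u
open CategoryTheory Opposite
open LocCoh

namespace Groth.Agent.S5174

/-- Affine case with Z = X. Let A be a Noetherian ring, J an ideal, G any A-module and n ≥ 0 with
Ext^{n−1}_A(F', G) = 0 for all finite F' supported in V(J). Then for every finite A-module F with
Supp F ⊆ V(J) there is an A-linear isomorphism Ext^n_A(F, G) ≅ Hom_A(F, H^n_J(G)). (Existence of the
isomorphism is asserted; in the source it is the canonical one expressing that Ext^n_A(−, G), left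
exact on such F, is represented by H^n_J(G).) -/
theorem result (A : Type u) [CommRing A] [IsNoetherianRing A] (J : Ideal A) (G : Type u) [AddCommGroup G] [Module A G] (n : ℕ) (hvan : ∀ (F' : Type u) [AddCommGroup F'] [Module A F'], Module.Finite A F' → Module.support A F' ⊆ PrimeSpectrum.zeroLocus (J : Set A) → ∀ i : ℕ, i + 1 = n → Subsingleton (((Ext A (ModuleCat.{u} A) i).obj (op (ModuleCat.of A F'))).obj (ModuleCat.of A G))) (F : Type u) [AddCommGroup F] [Module A F] [Module.Finite A F] (hF : Module.support A F ⊆ PrimeSpectrum.zeroLocus (J : Set A)) : Nonempty ((((Ext A (ModuleCat.{u} A) n).obj (op (ModuleCat.of A F))).obj (ModuleCat.of A G)) ≃ₗ[A] (F →ₗ[A] LocCoh.H J n G)) := by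
  have hsupp : ∀ (M : Type u) [AddCommGroup M] [Module A M] (k : ℕ), (∀ a ∈ J ^ k, ∀ x : M, a • x = 0) →
      Module.support A M ⊆ PrimeSpectrum.zeroLocus (J : Set A) := by
    intro M _ _ k hk q hq a ha
    obtain ⟨x, hx⟩ := Module.mem_support_iff'.1 hq
    by_contra haq
    exact hx (a ^ k) (fun h => haq (q.2.mem_of_pow_mem k h)) (hk _ (Ideal.pow_mem_pow ha k) x)
  have hvan' : H4RepExt.Van J n (ModuleCat.of A G) := fun F' _ k hk i hi =>
    (H4LC.extEquiv F' (ModuleCat.of A G) i).symm.toEquiv.subsingleton_congr.2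
      (hvan F' inferInstance (hsupp F' k hk) i hi)
  have hle : J ≤ (Module.annihilator A F).radical := by
    intro a ha
    rw [← PrimeSpectrum.vanishingIdeal_zeroLocus_eq_radical, ← Module.support_eq_zeroLocus,
      PrimeSpectrum.mem_vanishingIdeal]
    exact fun q hq => hF hq ha
  obtain ⟨k, hk⟩ := Ideal.exists_pow_le_of_le_radical_of_fg hle (IsNoetherian.noetherian _)
  have hkill : H4RepExt.Killed J k (ModuleCat.of A F) := fun a ha x => Module.mem_annihilator.1 (hk ha) x
  exact ⟨(H4LC.extEquiv (ModuleCat.of A F) (ModuleCat.of A G) n).trans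
    (LinearEquiv.ofBijective _ (H4RepExt.bijective_θ hvan' hkill))⟩

end Groth.Agent.S5174
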