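import Groth.Statements.S5175
import Groth.Agent.H4Matlis.Coextend
import Groth.Agent.H4Inj.Essential

set_option autoImplicit false
universe u
open Matlis

namespace Groth.Agent.S5175

/-- Let k₀ be a field and A a Noetherian local k₀-algebra with [k : k₀] finite, k the residue field.
Then the topological dual A' = colim_n Hom_{k₀}(A/m^n, k₀), i.e. the submodule of Hom_{k₀}(A, k₀) of
forms killing some power of m (A acting through the source), is an injective hull of k (it is the
dualizing module of A). -/
theorem result (k₀ : Type u) [Field k₀] (A : Type u) [CommRing A] [IsLocalRing A] [IsNoetherianRing A] [Algebra k₀ A] [Module.Finite k₀ (A ⧸ IsLocalRing.maximalIdeal A)] : ∃ f : IsLocalRing.ResidueField A →ₗ[A] ↥(⨆ n : ℕ, Submodule.torsionBySet A ((ModuleCat.coextendScalars (algebraMap k₀ A)).obj (ModuleCat.of k₀ k₀)) ((IsLocalRing.maximalIdeal A ^ n : Ideal A) : Set A)), InjHull.IsInjectiveHull f := by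
  have hinj : Module.Injective k₀ k₀ := by
    refine Module.Baer.injective fun J g => ?_
    rcases Ideal.eq_bot_or_top J with rfl | rfl
    · exact ⟨0, fun x hx => by
        obtain rfl : x = 0 := hx
        exact (LinearMap.zero_apply _).trans (map_zero g).symm⟩
    · exact ⟨g ∘ₗ Submodule.topEquiv.symm.toLinearMap, fun x hx => rfl⟩
  have hm : IsLocalRing.maximalIdeal k₀ = ⊥ := IsLocalRing.isField_iff_maximalIdeal_eq.1 (Field.toIsField k₀)
  let e : IsLocalRing.ResidueField k₀ ≃ₗ[k₀] k₀ :=
    (Submodule.quotEquivOfEqBot (IsLocalRing.maximalIdeal k₀) hm)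
  have he : InjHull.IsInjectiveHull e.toLinearMap :=
    { injective := e.injective
      isInjective := hinj
      essential := fun N hN => by
        rwa [LinearEquiv.range, inf_top_eq] }
  have hfl : IsFiniteLength k₀ (A ⧸ IsLocalRing.maximalIdeal A) :=
    isFiniteLength_iff_isNoetherian_isArtinian.2 ⟨inferInstance, inferInstance⟩
  obtain ⟨g, hg⟩ := H4Matlis.exists_hull_gam_coind (A := k₀) (B := A) he (IsLocalRing.maximalIdeal A) hfl
  exact ⟨g, hg⟩

end Groth.Agent.S5175
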