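import Groth.Statements.S5182
import Groth.Agent.H13CInt.NormallyFlatReg

set_option autoImplicit false
universe u
open CInt

namespace Groth.Agent.S5182

/-- In the local algebraic form to which its proof reduces. Let A be a Noetherian local ring, J a proper
ideal such that A is normally flat along J, i.e. every J^k/J^{k+1} is a flat (equivalently free)
A/J-module, and f_1, …, f_r elements of A whose images form a weakly regular sequence on A/J (each
f_i a non-zero-divisor on A/J modulo the preceding ones). Then for every k ≥ 0 the f_i form a weakly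
regular sequence on the A-module J^k and on the A-module J^k/J^{k+1}; in particular (k = 0) on A
itself, so that they are regular on the Rees algebra ⊕ J^k and on the associated graded ring ⊕
J^k/J^{k+1}. -/
theorem result (A : Type u) [CommRing A] [IsLocalRing A] [IsNoetherianRing A] (J : Ideal A) (hJ : J ≠ ⊤) (hflat : ∀ k : ℕ, Module.Flat (A ⧸ J) (↥(J ^ k) ⧸ (J • (⊤ : Submodule A ↥(J ^ k))))) (fs : List A) (hreg : RingTheory.Sequence.IsWeaklyRegular (A ⧸ J) fs) (k : ℕ) : RingTheory.Sequence.IsWeaklyRegular (↥(J ^ k)) fs ∧ RingTheory.Sequence.IsWeaklyRegular (↥(J ^ k) ⧸ (J • (⊤ : Submodule A ↥(J ^ k)))) fs := by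
  have hgr : ∀ l, RingTheory.Sequence.IsWeaklyRegular
      (↥(J ^ l) ⧸ (J • (⊤ : Submodule A ↥(J ^ l)))) fs := fun l => by
    haveI := hflat l
    exact H13CInt.isWeaklyRegular_of_flat_quotient hreg _
  refine ⟨?_, hgr k⟩
  have hstep : ∀ l, RingTheory.Sequence.IsWeaklyRegular (H13CInt.subQuot (J ^ l) (J ^ (l + 1))) fs :=
    fun l => ((Submodule.quotEquivOfEq _ _ (by
      rw [pow_succ', H13CInt.comap_subtype_mul])).isWeaklyRegular_congr fs).2 (hgr l)
  have hall : ∀ m l, RingTheory.Sequence.IsWeaklyRegular (H13CInt.subQuot (J ^ l) (J ^ (m + l))) fs := by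
    intro m
    induction m with
    | zero =>
      intro l
      haveI : Subsingleton (H13CInt.subQuot (J ^ l) (J ^ (0 + l))) :=
        Submodule.Quotient.subsingleton_iff.2 (by
          rw [zero_add]; exact Submodule.comap_subtype_self _)
      exact ⟨fun i hi a b _ => Subsingleton.elim _ _⟩
    | succ m ih =>
      intro l
      refine H13CInt.isWeaklyRegular_subQuot_of_ends (I₁ := J ^ (l + 1))
        (Ideal.pow_le_pow_right l.le_succ) (Ideal.pow_le_pow_right (by omega)) ?_ (hstep l)
      rw [show m + 1 + l = m + (l + 1) by omega]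
      exact ih (l + 1)
  refine H13CInt.isWeaklyRegular_of_forall_quotient
    ((IsLocalRing.le_maximalIdeal hJ).trans (IsLocalRing.maximalIdeal_le_jacobson _)) fun m => ?_
  exact ((Submodule.quotEquivOfEq _ _ (by
    rw [pow_add, H13CInt.comap_subtype_mul])).isWeaklyRegular_congr fs).1 (hall m k)

end Groth.Agent.S5182
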