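import Groth.Statements.S5186
import Groth.Agent.H10Inj.SheafExt.SSMemLe
import Groth.Agent.H10Inj.SheafExt.GrothSSTo
import Groth.Agent.H10Coh.ProjFormulaFLF
import Groth.Agent.S16280
import Groth.Agent.H10Coh.Proper2
import Groth.Agent.H02CA.ModNullHom
-- import your own Groth.Agent.* helpers here

set_option autoImplicit false
set_option linter.style.haveILetI false
set_option backward.isDefEq.respectTransparency false
universe u
open CategoryTheory AlgebraicGeometry
open Coherent

namespace Groth.Agent.S5186


open scoped ZeroObject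
attribute [local instance] HasDerivedCategory.standard


/-- Let f : X → S be a proper morphism of schemes with S locally Noetherian, U an open subset of X with
inclusion g : U → X, h = f ∘ g : U → S, F an O_U-module and n ≥ 0. If the higher direct images R^i
g_*(F) are coherent O_X-modules for all i ≤ n, then the higher direct images R^i h_*(F) are coherent
O_S-modules for all i ≤ n. (The existence of injective resolutions in the module categories is
carried as instance arguments.) -/
theorem result {X S : Scheme.{u}} (f : X ⟶ S) [IsProper f] [IsLocallyNoetherian S] (U : X.Opens) [HasInjectiveResolutions (U : Scheme.{u}).Modules] [HasInjectiveResolutions X.Modules] (F : (U : Scheme.{u}).Modules) (n : ℕ) (hg : ∀ i : ℕ, i ≤ n → Coh.IsCoh ((Coh.Rpush U.ι i).obj F)) (i : ℕ) (hi : i ≤ n) : Coh.IsCoh ((Coh.Rpush (U.ι ≫ f) i).obj F) := by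

  haveI : EnoughInjectives (U : Scheme.{u}).Modules := H02CA.ModNull.enoughInjectives_mod (U : Scheme.{u}).sheaf
  haveI : EnoughInjectives X.Modules := H02CA.ModNull.enoughInjectives_mod X.sheaf
  haveI : (Scheme.Modules.pushforward U.ι).IsRightAdjoint :=
    (Scheme.Modules.pullbackPushforwardAdjunction U.ι).isRightAdjoint
  haveI : (Scheme.Modules.pushforward f).IsRightAdjoint :=
    (Scheme.Modules.pullbackPushforwardAdjunction f).isRightAdjoint
  obtain ⟨E, a, hfin, -, hE₂⟩ := H10Inj.SheafExt.GrothSSTo.exists_spectralSequence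
    (Scheme.Modules.pushforward U.ι) (Scheme.Modules.pushforward f) (fun Q hQ q hq => by
      haveI := hQ
      refine H10Coh.PF.isAcyclic_push_of_flasque f ?_ q hq
      intro V W h
      exact H10Coh.flasque_sh_of_injective Q ((TopologicalSpace.Opens.map U.ι.base).map (homOfLE h)).le) F
    (fun m : ℤ => if 0 ≤ m then (Coh.Rpush (U.ι ≫ f) m.toNat).obj F else (0 : S.Modules))
    (fun m hm => ⟨(H02CA.ModLocalise.rdMapIso (Scheme.Modules.pushforwardComp U.ι f) m.toNat).app F ≪≫
      eqToIso (if_pos hm).symm⟩)
    (fun m hm => (Limits.isZero_zero _).of_iso (eqToIso (if_neg (not_le.2 hm))))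
  have h := H10Inj.SheafExt.mem_abutment_le (fun M : S.Modules => Coh.IsCoh M) (S16280.isCoh_closed S) E (n : ℤ)
    (fun p q hp => ?_) (fun p q hq => ?_) a (i : ℤ) (by omega) (hfin i)
  · exact H10Coh.isCoh_of_iso (eqToIso (if_pos (Int.natCast_nonneg i)) ≪≫ eqToIso (by rw [Int.toNat_natCast])) h
  · obtain ⟨e⟩ := hE₂ p q
    exact (Limits.isZero_zero _).of_iso (e ≪≫ eqToIso (if_neg (fun hc => absurd hc.1 (not_le.2 hp))))
  · obtain ⟨e⟩ := hE₂ p q
    refine H10Coh.isCoh_of_iso e.symm ?_
    by_cases hpq : 0 ≤ p ∧ 0 ≤ q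
    · exact H10Coh.isCoh_of_iso (eqToIso (if_pos hpq).symm)
        (H10Coh.isCoh_rpush f _ (hg q.toNat (by omega)) _)
    · exact H10Coh.isCoh_of_iso (eqToIso (if_neg hpq).symm) ((S16280.isCoh_closed S).zero _ (Limits.isZero_zero _))


end Groth.Agent.S5186
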