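import Groth.Statements.S5196
import Groth.Agent.H12AlgSp.TrdegBaseChange
import Groth.Agent.H02CA.FlatRegular
import Groth.Agent.H8Props.FlatDepth
import Mathlib

set_option autoImplicit false
universe u
open CategoryTheory CategoryTheory.Limits AlgebraicGeometry Opposite
open EtDepth

namespace Groth.Agent.S5196

section
variable (A A' : Type u) [CommRing A] [CommRing A'] [IsLocalRing A] [IsLocalRing A'] [IsNoetherianRing A]
  [IsNoetherianRing A'] [Algebra A A'] [Module.FaithfullyFlat A A']

theorem comap_maximalIdeal_eq (hfib : ∀ q : Ideal A', ∀ _ : q.IsPrime,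
    q.comap (algebraMap A A') = IsLocalRing.maximalIdeal A → q = IsLocalRing.maximalIdeal A') :
    (IsLocalRing.maximalIdeal A').comap (algebraMap A A') = IsLocalRing.maximalIdeal A := by
  obtain ⟨q, hq⟩ := PrimeSpectrum.comap_surjective_of_faithfullyFlat (A := A) (B := A')
    (IsLocalRing.closedPoint A)
  have h : q.asIdeal.comap (algebraMap A A') = IsLocalRing.maximalIdeal A := congrArg PrimeSpectrum.asIdeal hq
  rwa [hfib q.asIdeal q.2 h] at h

theorem dim_quotient_le (hfib : ∀ q : Ideal A', ∀ _ : q.IsPrime,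
    q.comap (algebraMap A A') = IsLocalRing.maximalIdeal A → q = IsLocalRing.maximalIdeal A')
    (q : Ideal A') [q.IsPrime] :
    ringKrullDim (A' ⧸ q) ≤ ringKrullDim (A ⧸ q.comap (algebraMap A A')) := by
  set p := q.comap (algebraMap A A') with hp
  have hle : p.map (algebraMap A A') ≤ q := Ideal.map_comap_le
  refine (ringKrullDim_le_of_surjective (Ideal.Quotient.factor hle)
    (Ideal.Quotient.factor_surjective hle)).trans ?_
  haveI : Module.Flat (A ⧸ p) (A' ⧸ p.map (algebraMap A A')) :=
    Groth.Agent.H8Props.FlatDepth.flat_base_quotient p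
  haveI : Nontrivial (A ⧸ p) := Ideal.Quotient.nontrivial_iff.mpr (Ideal.IsPrime.ne_top inferInstance)
  haveI : Nontrivial (A' ⧸ p.map (algebraMap A A')) :=
    Ideal.Quotient.nontrivial_iff.mpr (ne_top_of_le_ne_top (Ideal.IsPrime.ne_top ‹_›) hle)
  haveI : IsLocalRing (A ⧸ p) := .of_surjective' (Ideal.Quotient.mk p) Ideal.Quotient.mk_surjective
  haveI : IsLocalRing (A' ⧸ p.map (algebraMap A A')) :=
    .of_surjective' (Ideal.Quotient.mk _) Ideal.Quotient.mk_surjective
  haveI : IsLocalHom (algebraMap A A') :=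
    ((IsLocalRing.local_hom_TFAE (algebraMap A A')).out 0 4 rfl rfl).mpr (comap_maximalIdeal_eq A A' hfib)
  haveI : IsLocalHom (algebraMap (A ⧸ p) (A' ⧸ p.map (algebraMap A A'))) := by
    refine ⟨fun x hx => ?_⟩
    obtain ⟨a, rfl⟩ := Ideal.Quotient.mk_surjective x
    haveI := IsLocalHom.of_surjective (Ideal.Quotient.mk (p.map (algebraMap A A')))
      Ideal.Quotient.mk_surjective
    exact (IsUnit.of_map (algebraMap A A') a (IsUnit.of_map (Ideal.Quotient.mk _) _ hx)).map _
  rw [Groth.Agent.H02CA.ringKrullDim_eq_add_of_flat (A ⧸ p) (A' ⧸ p.map (algebraMap A A'))]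
  refine le_of_eq ?_
  set J := (IsLocalRing.maximalIdeal (A ⧸ p)).map (algebraMap (A ⧸ p) (A' ⧸ p.map (algebraMap A A')))
  have hJ : J ≤ IsLocalRing.maximalIdeal _ := (Ideal.map_le_iff_le_comap).2 fun x hx => by
    simpa [IsLocalRing.mem_maximalIdeal] using hx
  haveI : Nontrivial ((A' ⧸ p.map (algebraMap A A')) ⧸ J) :=
    Ideal.Quotient.nontrivial_iff.mpr (ne_top_of_le_ne_top (IsLocalRing.maximalIdeal.isMaximal _).ne_top hJ)
  haveI : Ring.KrullDimLE 0 ((A' ⧸ p.map (algebraMap A A')) ⧸ J) := by
    refine Ring.KrullDimLE.mk₀ fun I hI => ?_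
    let φ := (Ideal.Quotient.mk J).comp (Ideal.Quotient.mk (p.map (algebraMap A A')))
    have hφ : Function.Surjective φ := Ideal.Quotient.mk_surjective.comp Ideal.Quotient.mk_surjective
    haveI : (I.comap φ).IsPrime := Ideal.IsPrime.comap φ
    have h : I.comap φ = IsLocalRing.maximalIdeal A' := by
      refine hfib _ inferInstance ?_
      refine le_antisymm (IsLocalRing.le_maximalIdeal (Ideal.IsPrime.ne_top inferInstance)) fun a ha => ?_
      show φ (algebraMap A A' a) ∈ I
      have : φ (algebraMap A A' a) = 0 := by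
        refine Ideal.Quotient.eq_zero_iff_mem.2 ?_
        have hm : Ideal.Quotient.mk p a ∈ IsLocalRing.maximalIdeal (A ⧸ p) := by
          haveI := IsLocalHom.of_surjective (Ideal.Quotient.mk p) Ideal.Quotient.mk_surjective
          exact fun hu => ha (IsUnit.of_map _ _ hu)
        exact Ideal.mem_map_of_mem _ hm
      rw [this]
      exact I.zero_mem
    rw [← Ideal.map_comap_of_surjective φ hφ I, h]
    refine Ideal.IsMaximal.map_of_surjective_of_ker_le hφ ?_
    exact IsLocalRing.le_maximalIdeal (RingHom.ker_ne_top φ)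
  have h0 : ringKrullDim ((A' ⧸ p.map (algebraMap A A')) ⧸ J) = 0 :=
    le_antisymm (by simpa using (Ring.krullDimLE_iff (n := 0)).mp ‹Ring.KrullDimLE 0 ((A' ⧸ p.map (algebraMap A A')) ⧸ J)›)
      ringKrullDim_nonneg_of_nontrivial
  rw [h0, add_zero]

theorem exists_dim_quotient_eq (hfib : ∀ q : Ideal A', ∀ _ : q.IsPrime,
    q.comap (algebraMap A A') = IsLocalRing.maximalIdeal A → q = IsLocalRing.maximalIdeal A')
    (p : Ideal A) [p.IsPrime] :
    ∃ q : PrimeSpectrum A', q.asIdeal.comap (algebraMap A A') = p ∧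
      ringKrullDim (A' ⧸ q.asIdeal) = ringKrullDim (A ⧸ p) := by
  haveI : Nontrivial (A ⧸ p) := Ideal.Quotient.nontrivial_iff.mpr (Ideal.IsPrime.ne_top inferInstance)
  haveI : IsLocalRing (A ⧸ p) := .of_surjective' (Ideal.Quotient.mk p) Ideal.Quotient.mk_surjective
  haveI : IsDomain (A ⧸ p) := Ideal.Quotient.isDomain p
  haveI : FiniteDimensionalOrder (PrimeSpectrum (A ⧸ p)) := (inferInstance : FiniteRingKrullDim (A ⧸ p))
  let l := LTSeries.longestOf (PrimeSpectrum (A ⧸ p))
  have hd : ringKrullDim (A ⧸ p) = l.length := Order.krullDim_eq_length_of_finiteDimensionalOrder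
  have hhead : l.head = (⊥ : PrimeSpectrum (A ⧸ p)) := by
    by_contra hne
    have hlt : (⊥ : PrimeSpectrum (A ⧸ p)) < l.head := bot_lt_iff_ne_bot.2 hne
    have := RelSeries.length_le_length_longestOf _ (RelSeries.cons l ⊥ hlt)
    rw [RelSeries.cons_length] at this
    exact Nat.not_succ_le_self _ this
  let m : LTSeries (PrimeSpectrum A) := l.map (PrimeSpectrum.comap (Ideal.Quotient.mk p))
    (Monotone.strictMono_of_injective (fun _ _ h => Ideal.comap_mono h)
      (PrimeSpectrum.comap_injective_of_surjective _ Ideal.Quotient.mk_surjective))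
  obtain ⟨P, hP⟩ := PrimeSpectrum.comap_surjective_of_faithfullyFlat (A := A) (B := A') m.last
  haveI : P.asIdeal.LiesOver m.last.asIdeal := ⟨(congrArg PrimeSpectrum.asIdeal hP).symm⟩
  obtain ⟨L, hlen, -, hspec⟩ := Ideal.exists_ltSeries_of_hasGoingDown m P.asIdeal
  have hq : L.head.asIdeal.comap (algebraMap A A') = p := by
    have h0 := List.getElem_of_eq hspec (i := 0) (by simp)
    rw [List.getElem_map, L.toList_getElem_zero_eq_head, m.toList_getElem_zero_eq_head] at h0
    refine (congrArg PrimeSpectrum.asIdeal h0).trans ?_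
    show (l.head.asIdeal).comap (Ideal.Quotient.mk p) = p
    rw [hhead]
    exact (congrArg _ PrimeSpectrum.asIdeal_bot).trans Ideal.mk_ker
  refine ⟨L.head, hq, le_antisymm ((dim_quotient_le A A' hfib L.head.asIdeal).trans ?_) ?_⟩
  · rw [hq]
  · rw [hd, show l.length = L.length from hlen.symm, ringKrullDim_quotient]
    let L' : LTSeries (PrimeSpectrum.zeroLocus (R := A') (L.head.asIdeal : Set A')) :=
      { length := L.length
        toFun := fun i => ⟨L i, L.head_le i⟩
        step := fun i => L.step i }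
    exact Order.LTSeries.length_le_krullDim L'

end

/-- Let A → A' be a faithfully flat homomorphism of Noetherian local rings whose fibre over the closed
point of Spec A is the single closed point of Spec A' (the only prime of A' over m_A is m_{A'}), f :
X → Spec A a morphism locally of finite type, X' = X ×_A A' with projections h : X' → X and f' : X'
→ Spec A'. For a point x' of X' put x = h(x'), s = f(x), s' = f'(x'). Then trdeg(κ(x')/κ(s')) ≤
trdeg(κ(x)/κ(s)) and dim A'/p_{s'} ≤ dim A/p_s, so that δ(x') ≤ δ(x) for δ(x) = trdeg(κ(x)/κ(s)) +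
dim cl(s), with equality exactly when both inequalities are equalities; and for every point x of X
there is a point x' of X' over x for which both are equalities. -/
theorem result (A A' : Type u) [CommRing A] [CommRing A'] [IsLocalRing A] [IsLocalRing A'] [IsNoetherianRing A] [IsNoetherianRing A'] [Algebra A A'] [Module.FaithfullyFlat A A'] (hfib : ∀ q : Ideal A', ∀ _ : q.IsPrime, q.comap (algebraMap A A') = IsLocalRing.maximalIdeal A → q = IsLocalRing.maximalIdeal A') (X : Scheme.{u}) (f : X ⟶ (Spec (CommRingCat.of A))) [LocallyOfFiniteType f] : (∀ x' : ↥(pullback f (Spec.map (CommRingCat.ofHom (algebraMap A A')))), @Algebra.trdeg ↑((Spec (CommRingCat.of A')).residueField ((pullback.snd f (Spec.map (CommRingCat.ofHom (algebraMap A A')))).base x')) ↑((pullback f (Spec.map (CommRingCat.ofHom (algebraMap A A')))).residueField x') _ _ ((pullback.snd f (Spec.map (CommRingCat.ofHom (algebraMap A A')))).residueFieldMap x').hom.toAlgebra ≤ @Algebra.trdeg ↑((Spec (CommRingCat.of A)).residueField (f.base ((pullback.fst f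 (Spec.map (CommRingCat.ofHom (algebraMap A A')))).base x'))) ↑(X.residueField ((pullback.fst f (Spec.map (CommRingCat.ofHom (algebraMap A A')))).base x')) _ _ (f.residueFieldMap ((pullback.fst f (Spec.map (CommRingCat.ofHom (algebraMap A A')))).base x')).hom.toAlgebra ∧ ringKrullDim (A' ⧸ ((pullback.snd f (Spec.map (CommRingCat.ofHom (algebraMap A A')))).base x').asIdeal) ≤ ringKrullDim (A ⧸ (f.base ((pullback.fst f (Spec.map (CommRingCat.ofHom (algebraMap A A')))).base x')).asIdeal)) ∧ (∀ x : X, ∃ x' : ↥(pullback f (Spec.map (CommRingCat.ofHom (algebraMap A A')))), (pullback.fst f (Spec.map (CommRingCat.ofHom (algebraMap A A')))).base x' = x ∧ @Algebra.trdeg ↑((Spec (CommRingCat.of A')).residueField ((pullback.snd f (Spec.map (CommRingCat.ofHom (algebraMap A A')))).base x')) ↑((pullback f (Spec.map (CommRingCat.ofHom (algebraMap A A')))).residueField x') _ _ ((pullback.snd f (Spec.map (CommRingCat.ofHom (algebraMap A A')))).residueFieldMap x').hom.toAlgebra = @Algebra.trdeg ↑((Spec (CommRingCat.of A)).residueField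 (f.base ((pullback.fst f (Spec.map (CommRingCat.ofHom (algebraMap A A')))).base x'))) ↑(X.residueField ((pullback.fst f (Spec.map (CommRingCat.ofHom (algebraMap A A')))).base x')) _ _ (f.residueFieldMap ((pullback.fst f (Spec.map (CommRingCat.ofHom (algebraMap A A')))).base x')).hom.toAlgebra ∧ ringKrullDim (A' ⧸ ((pullback.snd f (Spec.map (CommRingCat.ofHom (algebraMap A A')))).base x').asIdeal) = ringKrullDim (A ⧸ (f.base ((pullback.fst f (Spec.map (CommRingCat.ofHom (algebraMap A A')))).base x')).asIdeal)) := by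
  have hc := IsPullback.of_hasPullback f (Spec.map (CommRingCat.ofHom (algebraMap A A')))
  refine ⟨fun x' => ⟨Groth.Agent.H12AlgSp.resTrdeg_baseChange_le hc x', ?_⟩, fun x => ?_⟩
  · set y' := (pullback.snd f (Spec.map (CommRingCat.ofHom (algebraMap A A')))).base x' with hy'
    have h : (f.base ((pullback.fst f (Spec.map (CommRingCat.ofHom (algebraMap A A')))).base x')).asIdeal =
        y'.asIdeal.comap (algebraMap A A') :=
      congrArg (fun g : (pullback f (Spec.map (CommRingCat.ofHom (algebraMap A A')))) ⟶ Spec (CommRingCat.of A) =>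
        (g.base x').asIdeal) hc.w
    refine (dim_quotient_le A A' hfib y'.asIdeal).trans (le_of_eq ?_)
    exact RingEquiv.ringKrullDim (Ideal.quotEquivOfEq h.symm)
  · obtain ⟨q, hq, hdim⟩ := exists_dim_quotient_eq A A' hfib (f.base x).asIdeal
    obtain ⟨x', hx, hy, ht⟩ := Groth.Agent.H12AlgSp.exists_resTrdeg_baseChange_eq hc x q
      (PrimeSpectrum.ext hq.symm)
    refine ⟨x', hx, ?_, ?_⟩
    · subst hx
      exact ht
    · subst hx
      subst hy
      exact hdim

end Groth.Agent.S5196
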