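import Groth.Statements.S5201
import Groth.Agent.H23Geom.DepthLocal

set_option autoImplicit false
universe u
open CategoryTheory CategoryTheory.Limits AlgebraicGeometry Opposite
open EtDepth

namespace Groth.Agent.S5201

/-- For a finite locally constant sheaf and a single prime ℓ. Let X be a scheme, j : U → X a
quasi-compact open immersion (U retrocompact in X) with closed complement Y, ℓ a prime and n ≥ 0,
and suppose the Y-étale depth of X for ℓ is ≥ n, i.e. the local cohomology sheaves H^p_Y(Z/ℓ) vanish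
for p < n. Then for every finite locally constant abelian sheaf F on the small étale site of X which
is ℓ-torsion (every section étale-locally killed by a power of ℓ), the Y-étale depth of F is ≥ n. -/
theorem result {X U : Scheme.{u}} (j : U ⟶ X) [IsOpenImmersion j] [QuasiCompact j] [EtCoh.BCCont j] (ℓ : ℕ) (hℓ : ℓ.Prime) (n : ℕ) (hX : EtDepth.DepthGE j (EtCoh.const X (ZMod ℓ)) n) (F : EtCoh.Ab X) (hFlc : EtCoh.IsFiniteLocallyConstant F) (hFt : EtDepth.IsLTorsion ℓ F) : EtDepth.DepthGE j F n := by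
  open scoped Groth.Agent.H18Et in
  obtain ⟨ι, V, hV, hc⟩ := (H18Et.LC.isFiniteLocallyConstant_iff F).1 hFlc
  haveI : Fact ℓ.Prime := ⟨hℓ⟩
  let κ := {i : ι // Nonempty (V i).left}
  have hV' : EtCoh.Covers (fun i : κ => V i.1) := fun x => by
    obtain ⟨i, y, hy⟩ := hV x
    exact ⟨⟨i, ⟨y⟩⟩, y, hy⟩
  refine H23Geom.DepthLocal.depthGE_of_covers j (fun i : κ => V i.1) hV' n F fun i => ?_
  obtain ⟨M, hM, c, hcc⟩ := hc i.1
  haveI := hM
  haveI : Etale (V i.1).hom := (V i.1).prop
  let g := (V i.1).hom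
  let k := pullback.snd j g
  -- `M` is an `ℓ`-group
  have hMℓ : ∀ m : M, ∃ e : ℕ, ℓ ^ e • m = 0 := by
    intro m
    obtain ⟨x₀⟩ := i.2
    obtain ⟨W, r, ⟨w, -⟩, e, he⟩ := hFt (V i.1) (c m) x₀
    refine ⟨e, ?_⟩
    open scoped Groth.Agent.H18Et in
    obtain ⟨y, -⟩ := H18Et.exists_fiber_over w (H18Et.geomPt (W.hom.base w)) (H18Et.geomPt_base _)
    open scoped Groth.Agent.H18Et in
    have hiso := hcc _ (H18Et.geomPt (W.hom.base w)) ((Scheme.pointSmallEtale _).fiber.map r y)
    haveI := hiso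
    apply (ConcreteCategory.bijective_of_isIso (c ≫ H18Et.germ (H18Et.geomPt (W.hom.base w)) F (V i.1)
      ((Scheme.pointSmallEtale _).fiber.map r y))).1
    rw [ConcreteCategory.comp_apply, map_nsmul c.hom, map_zero]
    rw [← H18Et.ConstSheaf.germ_map, map_nsmul, he, map_zero]
  -- the restriction is constant
  let t : EtCoh.top (V i.1).left ⟶ (EtCoh.bc g).obj (V i.1) :=
    MorphismProperty.Over.homMk (pullback.lift (𝟙 _) (𝟙 _) rfl) (pullback.lift_snd _ _ _)
  open scoped Groth.Agent.H18Et in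
  have h' := (hcc.pull g).res t
  set φ := (c ≫ ((EtCoh.pullPushAdj g).unit.app F).hom.app (op (V i.1))) ≫ ((EtCoh.pull g).obj F).obj.map t.op
  have hconst : H18Et.ConstSheaf.IsConstant ((EtCoh.pull g).obj F) fun m => φ m := by
    intro Ω _ _ ξ W x
    have key : ∀ m, H18Et.germ ξ ((EtCoh.pull g).obj F) W x
        (H18Et.ConstSheaf.rest ((EtCoh.pull g).obj F) W (φ m)) =
        (φ ≫ H18Et.germ ξ ((EtCoh.pull g).obj F) (EtCoh.top (V i.1).left)
          ((Scheme.pointSmallEtale ξ).fiber.map ((EtCore.topIsTerminal _).from W) x)) m := fun m =>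
      (H18Et.ConstSheaf.germ_rest ξ _ W x _).trans (ConcreteCategory.comp_apply _ _ _).symm
    simp_rw [key]
    haveI := h' Ω ξ ((Scheme.pointSmallEtale ξ).fiber.map ((EtCore.topIsTerminal _).from W) x)
    exact ConcreteCategory.bijective_of_isIso _
  haveI := H18Et.ConstSheaf.isIso_homConst ((EtCoh.pull g).obj F) φ hconst
  have h0 := H23Geom.DepthLocal.depthGE_pull j g n _ hX
  exact H23Geom.DepthLocal.depthGE_of_iso k (asIso (H18Et.ConstSheaf.homConst ((EtCoh.pull g).obj F) φ))
    (H23Geom.DepthLocal.depthGE_const k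
      (H23Geom.DepthLocal.depthGE_of_iso k (EtCore.pullConst g (ZMod ℓ)) h0) _ M rfl hMℓ)

end Groth.Agent.S5201
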