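import Groth.Statements.S5209
import Groth.Agent.H15Site.UnivEpi
import Mathlib.CategoryTheory.Adjunction.Limits
import Mathlib.CategoryTheory.Comma.Over.Pullback
import Mathlib.Tactic.CategoryTheory.Reassoc

set_option linter.style.haveILetI false

set_option autoImplicit false
open CategoryTheory CategoryTheory.Limits
universe w v₁ u₁
open DescCat

namespace Groth.Agent.S5209

/-- In a category with pullbacks, let `f : S' ⟶ S` be a universal effective epimorphism, that is, a
morphism all of whose base changes are effective epimorphisms. Then a morphism `g` over `S` is an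
isomorphism (resp. a monomorphism) if and only if its base change along `f` is. -/
theorem result {C : Type u₁} [Category.{v₁} C] [HasPullbacks C]
    {S' S : C} (f : S' ⟶ S) (hf : (MorphismProperty.universally (fun (A B : C) (p : A ⟶ B) => EffectiveEpi p)) f) {X Y : Over S} (g : X ⟶ Y) :
    (IsIso g ↔ IsIso ((Over.pullback f).map g)) ∧ (Mono g ↔ Mono ((Over.pullback f).map g)) := by
  have key : IsPullback (((Over.pullback f).map g).left) (pullback.fst X.hom f) (pullback.fst Y.hom f) g.left := by
    have h := IsPullback.of_hasPullback X.hom f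
    refine IsPullback.of_right ?_ ?_ (IsPullback.of_hasPullback Y.hom f).flip
    · simpa [pullback.lift_snd, Over.w] using h.flip
    · simp [pullback.lift_fst]
  have hp := Groth.Agent.H15Site.univEffEpi_baseChange hf (IsPullback.of_hasPullback Y.hom f)
  haveI : ∀ {W : C} (a : W ⟶ Y.left), Epi (pullback.fst a (pullback.fst Y.hom f)) := fun a =>
    Groth.Agent.H15Site.univEpi_of_univEffEpi hp _ _ _ (IsPullback.of_hasPullback a _)
  have hmono : Mono ((Over.pullback f).map g) → Mono g := by
    intro hm
    haveI : Mono ((Over.pullback f).map g).left := Over.mono_left_of_mono _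
    haveI : Mono g.left := by
      refine ⟨fun {W} a b hab => ?_⟩
      obtain ⟨ta, hta₁, hta₂⟩ := key.exists_lift (pullback.snd (a ≫ g.left) (pullback.fst Y.hom f))
        (pullback.fst (a ≫ g.left) (pullback.fst Y.hom f) ≫ a) (by simp [← pullback.condition])
      obtain ⟨tb, htb₁, htb₂⟩ := key.exists_lift (pullback.snd (a ≫ g.left) (pullback.fst Y.hom f))
        (pullback.fst (a ≫ g.left) (pullback.fst Y.hom f) ≫ b) (by simp [← pullback.condition, hab])
      have : ta = tb := by rw [← cancel_mono ((Over.pullback f).map g).left, hta₁, htb₁]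
      rw [← cancel_epi (pullback.fst (a ≫ g.left) (pullback.fst Y.hom f)), ← hta₂, ← htb₂, this]
    exact (Over.forget S).mono_of_mono_map ‹Mono g.left›
  refine ⟨⟨fun _ => inferInstance, fun hi => ?_⟩, ⟨fun _ => ?_, hmono⟩⟩
  · haveI := hmono inferInstance
    haveI : Mono g.left := Over.mono_left_of_mono _
    haveI : IsIso ((Over.pullback f).map g).left :=
      inferInstanceAs (IsIso ((Over.forget S').map ((Over.pullback f).map g)))
    have h₁ : Groth.Agent.H15Site.univEffEpi (((Over.pullback f).map g).left ≫ pullback.fst Y.hom f) :=
      Groth.Agent.H15Site.univEffEpi_comp hp (Groth.Agent.H15Site.univEffEpi_isIso _)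
    rw [key.w] at h₁
    haveI := Groth.Agent.H15Site.univEffEpi_effectiveEpi (Groth.Agent.H15Site.univEffEpi_of_comp h₁)
    haveI : IsIso g.left := isIso_of_mono_of_strongEpi _
    haveI : IsIso ((Over.forget S).map g) := ‹IsIso g.left›
    exact isIso_of_reflects_iso g (Over.forget S)
  · haveI := (Over.mapPullbackAdj f).rightAdjoint_preservesLimits
    infer_instance

end Groth.Agent.S5209
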