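import Groth.Statements.S5210
import Groth.Agent.H15Site.UnivEpi
import Mathlib.CategoryTheory.Comma.Over.Pullback
import Mathlib.Tactic.CategoryTheory.Reassoc

set_option linter.style.haveILetI false

set_option autoImplicit false
open CategoryTheory CategoryTheory.Limits
universe w v₁ u₁
open DescCat

namespace Groth.Agent.S5210

/-- In a category with pullbacks, let `f : S' ⟶ S` be a universal effective epimorphism (all of its base
changes are effective epimorphisms) and `Y ⟶ S` a monomorphism. Then an object `X` over `S` admits a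
morphism to `Y` over `S` if and only if it does so after base change along `f`. -/
theorem result {C : Type u₁} [Category.{v₁} C] [HasPullbacks C]
    {S' S : C} (f : S' ⟶ S) (hf : (MorphismProperty.universally (fun (A B : C) (p : A ⟶ B) => EffectiveEpi p)) f) (X Y : Over S) [Mono Y.hom] :
    Nonempty (X ⟶ Y) ↔ Nonempty ((Over.pullback f).obj X ⟶ (Over.pullback f).obj Y) := by
  refine ⟨fun ⟨g⟩ => ⟨(Over.pullback f).map g⟩, fun ⟨h⟩ => ?_⟩
  haveI := Groth.Agent.H15Site.univEffEpi_effectiveEpi
    (Groth.Agent.H15Site.univEffEpi_baseChange hf (IsPullback.of_hasPullback X.hom f))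
  have w : (h.left ≫ pullback.fst Y.hom f) ≫ Y.hom = pullback.fst X.hom f ≫ X.hom := by
    rw [Category.assoc, pullback.condition, ← Category.assoc, pullback.condition]
    exact congrArg (· ≫ f) (Over.w h)
  refine ⟨Over.homMk (EffectiveEpi.desc (pullback.fst X.hom f) (h.left ≫ pullback.fst Y.hom f)
    (fun g₁ g₂ hg => ?_)) ?_⟩
  · rw [← cancel_mono Y.hom, Category.assoc, w, Category.assoc, w]
    simp [reassoc_of% hg]
  · rw [← cancel_epi (pullback.fst X.hom f), EffectiveEpi.fac_assoc, ← w]

end Groth.Agent.S5210
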