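import Groth.Statements.S5211
import Groth.Agent.H15Site.UnivEpi
import Mathlib.CategoryTheory.Comma.Over.Pullback
import Mathlib.Tactic.CategoryTheory.Reassoc

set_option linter.style.haveILetI false

set_option autoImplicit false
open CategoryTheory CategoryTheory.Limits
universe w v₁ u₁
open DescCat

namespace Groth.Agent.S5211

/-- In a category with pullbacks: if `f : S' ⟶ S` is a universal effective epimorphism and the canonical
map `S' ×_S S' ⟶ S' ×_T S'` induced by `g : S ⟶ T` is an isomorphism, then `g` is a monomorphism. -/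
theorem result {C : Type u₁} [Category.{v₁} C] [HasPullbacks C]
    {S' S T : C} (f : S' ⟶ S) (hf : (MorphismProperty.universally (fun (A B : C) (p : A ⟶ B) => EffectiveEpi p)) f) (g : S ⟶ T)
    [IsIso (pullback.mapDesc f f g)] : Mono g := by
  refine ⟨fun {W} a b hab => ?_⟩
  obtain ⟨W', p, a', b', hp, ha, hb⟩ :=
    Groth.Agent.H15Site.exists_lift_pair (Groth.Agent.H15Site.univEpi_of_univEffEpi hf) a b
  have w : a' ≫ f ≫ g = b' ≫ f ≫ g := by simp [reassoc_of% ha, reassoc_of% hb, hab]
  let t := pullback.lift (f := f ≫ g) (g := f ≫ g) a' b' w ≫ inv (pullback.mapDesc f f g)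
  have h₁ : t ≫ pullback.mapDesc f f g = pullback.lift a' b' w := by simp [t]
  have ea : t ≫ pullback.fst f f = a' := by simpa [pullback.mapDesc, pullback.map, pullback.lift_fst] using h₁ =≫ pullback.fst (f ≫ g) (f ≫ g)
  have eb : t ≫ pullback.snd f f = b' := by simpa [pullback.mapDesc, pullback.map, pullback.lift_snd] using h₁ =≫ pullback.snd (f ≫ g) (f ≫ g)
  rw [← cancel_epi p, ← ha, ← hb]
  calc a' ≫ f = t ≫ pullback.fst f f ≫ f := by rw [← Category.assoc, ea]
    _ = t ≫ pullback.snd f f ≫ f := by rw [pullback.condition]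
    _ = b' ≫ f := by rw [← Category.assoc, eb]

end Groth.Agent.S5211
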