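import Groth.Statements.S5212


set_option autoImplicit false
universe u
open GrpQ

namespace Groth.Agent.S5212

/-- For `A'` finite and free as an `A`-module, a prime `p` of `A` and `a ∈ A'`, the element `a` belongs
to some prime of `A'` lying over `p` if and only if its norm belongs to `p`. (The published
statement allows `A'` projective of constant rank over `A`; this row takes `A'` free, where the norm
is the determinant of multiplication.) -/
theorem result {A A' : Type u} [CommRing A] [CommRing A'] [Algebra A A']
    [Module.Free A A'] [Module.Finite A A'] (p : Ideal A) [p.IsPrime] (a : A') :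
    (∃ q : Ideal A', q.IsPrime ∧ q.LiesOver p ∧ a ∈ q) ↔ Algebra.norm A a ∈ p := by
  classical
  let b := Module.Free.chooseBasis A A'
  let M := Algebra.leftMulMatrix b
  constructor
  · rintro ⟨q, hq, hlo, haq⟩
    have h0 : Polynomial.aeval a (M a).charpoly = 0 := by
      apply Algebra.leftMulMatrix_injective b
      rw [map_zero, ← Polynomial.aeval_algHom_apply]
      exact Matrix.aeval_self_charpoly _
    have h1 := congrArg (Polynomial.aeval a) (Polynomial.X_mul_divX_add (M a).charpoly)
    rw [map_add, map_mul, Polynomial.aeval_X, Polynomial.aeval_C, h0] at h1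
    have h2 : algebraMap A A' ((M a).charpoly.coeff 0) ∈ q := by
      rw [eq_neg_of_add_eq_zero_right h1]
      exact q.neg_mem (q.mul_mem_right _ haq)
    have h3 : (M a).charpoly.coeff 0 ∈ p := by
      rw [Ideal.LiesOver.over (p := p) (P := q)]
      exact h2
    rw [Algebra.norm_eq_matrix_det b, Matrix.det_eq_sign_charpoly_coeff]
    exact p.mul_mem_left _ h3
  · intro hN
    by_contra hne
    push Not at hne
    let I : Ideal A' := Ideal.span {a} ⊔ p.map (algebraMap A A')
    have hI : ¬ Disjoint (I : Set A') (Algebra.algebraMapSubmonoid A' p.primeCompl : Set A') := by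
      intro hd
      obtain ⟨q, hq, hle, hqd⟩ := Ideal.exists_le_prime_disjoint I _ hd
      refine hne q hq ⟨?_⟩ (hle (Ideal.mem_sup_left (Ideal.mem_span_singleton_self a)))
      refine le_antisymm ?_ ?_
      · intro x hx
        exact hle (Ideal.mem_sup_right (Ideal.mem_map_of_mem _ hx))
      · intro x hx
        by_contra hxp
        exact Set.disjoint_left.mp hqd hx ⟨x, hxp, rfl⟩
    obtain ⟨_, hsI, s, hs, rfl⟩ := Set.not_disjoint_iff.mp hI
    obtain ⟨u, hu, y, hy, huy⟩ := Submodule.mem_sup.mp hsI
    obtain ⟨x, rfl⟩ := Ideal.mem_span_singleton'.mp hu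
    let ψ : A' →+* Matrix (Module.Free.ChooseBasisIndex A A') (Module.Free.ChooseBasisIndex A A') (A ⧸ p) :=
      (Ideal.Quotient.mk p).mapMatrix.comp M.toRingHom
    have hψ : ∀ r : A, ψ (algebraMap A A' r) = algebraMap (A ⧸ p) _ (Ideal.Quotient.mk p r) := by
      intro r
      change (Ideal.Quotient.mk p).mapMatrix (M (algebraMap A A' r)) = _
      rw [AlgHom.commutes]
      ext i j
      simp [Matrix.algebraMap_matrix_apply, apply_ite (Ideal.Quotient.mk p)]
    have hker : p.map (algebraMap A A') ≤ RingHom.ker ψ := by
      rw [Ideal.map_le_iff_le_comap]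
      intro r hr
      rw [Ideal.mem_comap, RingHom.mem_ker, hψ, Ideal.Quotient.eq_zero_iff_mem.mpr hr, map_zero]
    have hy0 : ψ y = 0 := hker hy
    have h := congrArg (fun z => (ψ z).det) huy
    simp only [map_add, hy0, add_zero, map_mul, Matrix.det_mul, hψ] at h
    have hd : (ψ a).det = 0 := by
      change ((Ideal.Quotient.mk p).mapMatrix (M a)).det = 0
      rw [← RingHom.map_det, ← Algebra.norm_eq_matrix_det b]
      exact Ideal.Quotient.eq_zero_iff_mem.mpr hN
    rw [hd, mul_zero, Matrix.algebraMap_eq_diagonal, Matrix.det_diagonal] at h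
    simp only [Pi.algebraMap_apply, Algebra.algebraMap_self, RingHom.id_apply, Finset.prod_const] at h
    have := eq_zero_of_pow_eq_zero h.symm
    exact hs (Ideal.Quotient.eq_zero_iff_mem.mp this)

end Groth.Agent.S5212
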