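import Groth.Statements.S5213
import Mathlib

set_option autoImplicit false
set_option linter.style.haveILetI false
universe u
open GrpQ

namespace Groth.Agent.S5213

theorem exists_forall_notMem {B : Type u} [CommRing B] [IsLocalRing B]
    [Infinite (IsLocalRing.ResidueField B)] {V : Type*} [AddCommGroup V] [Module B V]
    {ι : Type*} (P : ι → Submodule B V) (s : Finset ι)
    (hm : ∀ i ∈ s, ∀ b ∈ IsLocalRing.maximalIdeal B, ∀ x : V, b • x ∈ P i)
    (hP : ∀ i ∈ s, P i ≠ ⊤) : ∃ x : V, ∀ i ∈ s, x ∉ P i := by
  classical
  induction s using Finset.induction_on with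
  | empty => exact ⟨0, by simp⟩
  | @insert a s ha ih =>
    obtain ⟨x, hx⟩ := ih (fun i hi => hm i (Finset.mem_insert_of_mem hi))
      (fun i hi => hP i (Finset.mem_insert_of_mem hi))
    obtain ⟨y, hy⟩ : ∃ y, y ∉ P a := by
      by_contra h; push Not at h
      exact hP a (Finset.mem_insert_self a s) (Submodule.eq_top_iff'.2 h)
    let bad : ι → Set (IsLocalRing.ResidueField B) := fun i =>
      {r | ∃ c : B, IsLocalRing.residue B c = r ∧ x + c • y ∈ P i}
    have hsub : ∀ i ∈ insert a s, (bad i).Subsingleton := by
      rintro i hi _ ⟨c, rfl, hc⟩ _ ⟨c', rfl, hc'⟩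
      by_contra hne
      have hu : IsUnit (c - c') := by
        by_contra hu
        exact hne (sub_eq_zero.1 (by
          rw [← map_sub]; exact Ideal.Quotient.eq_zero_iff_mem.2 hu))
      have h1 : (c - c') • y ∈ P i := by
        have := sub_mem hc hc'
        rw [sub_smul]; simpa using this
      have hyi : y ∈ P i := by
        obtain ⟨u, hu⟩ := hu
        have := (P i).smul_mem (↑u⁻¹ : B) h1
        rwa [smul_smul, ← hu, Units.inv_mul, one_smul] at this
      rcases Finset.mem_insert.1 hi with rfl | his
      · exact hy hyi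
      · exact hx i his (by simpa using sub_mem hc ((P i).smul_mem c hyi))
    have hfin : (⋃ i ∈ insert a s, bad i).Finite :=
      (insert a s).finite_toSet.biUnion fun i hi => (hsub i hi).finite
    obtain ⟨r, hr⟩ := hfin.exists_notMem
    obtain ⟨c, rfl⟩ := IsLocalRing.residue_surjective r
    exact ⟨x + c • y, fun i hi hmem => hr (Set.mem_biUnion hi ⟨c, rfl, hmem⟩)⟩


/-- Let `B` be a local ring with infinite residue field, `A` a semi-local ring, `B → A` a ring map
carrying the maximal ideal of `B` into the Jacobson radical of `A`, `M` a finite free `A`-module and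
`N` a `B`-submodule of `M` generating `M` as an `A`-module. Then `N` contains a basis of `M` over
`A`. -/
theorem result {B A M : Type u} [CommRing B] [CommRing A]
    [IsLocalRing B] [Infinite (IsLocalRing.ResidueField B)] [Algebra B A]
    [Finite (MaximalSpectrum A)]
    (hBA : (IsLocalRing.maximalIdeal B).map (algebraMap B A) ≤ (⊥ : Ideal A).jacobson)
    [AddCommGroup M] [Module A M] [Module B M] [IsScalarTower B A M]
    [Module.Free A M] [Module.Finite A M]
    (N : Submodule B M) (hN : Submodule.span A (N : Set M) = ⊤) :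
    ∃ b : Module.Basis (Fin (Module.finrank A M)) A M, ∀ i, b i ∈ N := by
  classical
  let n := Module.finrank A M
  haveI : Fintype (MaximalSpectrum A) := Fintype.ofFinite _
  rcases subsingleton_or_nontrivial A with hA | hA
  · haveI : Subsingleton M := Module.subsingleton A M
    exact ⟨Module.Basis.ofRepr (LinearEquiv.ofSubsingleton M (Fin (Module.finrank A M) →₀ A)),
      fun i => by rw [Subsingleton.elim (Module.Basis.ofRepr (LinearEquiv.ofSubsingleton (R := A) M (Fin (Module.finrank A M) →₀ A)) i) 0]; exact zero_mem N⟩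
  let e : Module.Basis (Fin n) A M := Module.finBasis A M
  let f : ∀ m : MaximalSpectrum A, M →ₗ[A] (Fin n → A ⧸ m.asIdeal) := fun m =>
    ((Ideal.Quotient.mkₐ A m.asIdeal).toLinearMap.compLeft (Fin n)) ∘ₗ e.equivFun.toLinearMap
  have hf : ∀ m, Function.Surjective (f m) := fun m v => by
    choose w hw using fun i => Ideal.Quotient.mk_surjective (v i)
    refine ⟨e.equivFun.symm w, funext fun i => ?_⟩
    show Ideal.Quotient.mk m.asIdeal (e.equivFun (e.equivFun.symm w) i) = v i
    rw [LinearEquiv.apply_symm_apply, hw]
  have step : ∀ j, j ≤ n → ∃ v : Fin j → M, (∀ i, v i ∈ N) ∧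
      ∀ m : MaximalSpectrum A, LinearIndependent (A ⧸ m.asIdeal) fun i => f m (v i) := by
    intro j
    induction j with
    | zero => exact fun _ => ⟨Fin.elim0, fun i => i.elim0, fun m => linearIndependent_empty_type⟩
    | succ j ih =>
      intro hj
      obtain ⟨v, hvN, hv⟩ := ih (Nat.le_of_succ_le hj)
      let Q : ∀ m : MaximalSpectrum A, Submodule A M := fun m =>
        ((Submodule.span (A ⧸ m.asIdeal) (Set.range fun i => f m (v i))).restrictScalars A).comap (f m)
      let P : MaximalSpectrum A → Submodule B N := fun m =>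
        ((Q m).restrictScalars B).comap N.subtype
      have hPm : ∀ m ∈ Finset.univ, ∀ b ∈ IsLocalRing.maximalIdeal B, ∀ x : N, b • x ∈ P m := by
        intro m _ b hb x
        show ((b • x : N) : M) ∈ Q m
        rw [Submodule.mem_comap]
        have hbm : algebraMap B A b ∈ m.asIdeal := by
          have h := hBA (Ideal.mem_map_of_mem _ hb)
          exact (sInf_le (show m.asIdeal ∈ {J : Ideal A | ⊥ ≤ J ∧ J.IsMaximal} from
            ⟨bot_le, m.isMaximal⟩)) h
        have : f m ((b • x : N) : M) = 0 := by
          rw [Submodule.coe_smul, ← algebraMap_smul A b (x : M), map_smul]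
          funext i
          show algebraMap B A b • f m (x : M) i = 0
          rw [Algebra.smul_def, Ideal.Quotient.algebraMap_eq, Ideal.Quotient.eq_zero_iff_mem.2 hbm, zero_mul]
        rw [this]; exact zero_mem _
      have hPt : ∀ m ∈ Finset.univ, P m ≠ ⊤ := by
        intro m _ htop
        letI : Field (A ⧸ m.asIdeal) := Ideal.Quotient.field m.asIdeal
        have hQ : Q m = ⊤ := by
          rw [eq_top_iff, ← hN, Submodule.span_le]
          intro z hz
          exact (Submodule.eq_top_iff'.1 htop) ⟨z, hz⟩
        have hspan : Submodule.span (A ⧸ m.asIdeal) (Set.range fun i => f m (v i)) = ⊤ := by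
          rw [eq_top_iff]
          intro w _
          obtain ⟨z, rfl⟩ := hf m w
          exact (Submodule.eq_top_iff'.1 hQ) z
        have h1 := finrank_span_eq_card (hv m)
        rw [hspan, finrank_top, Module.finrank_fin_fun, Fintype.card_fin] at h1
        omega
      obtain ⟨x, hx⟩ := exists_forall_notMem P Finset.univ hPm hPt
      refine ⟨Fin.cons (x : M) v, fun i => ?_, fun m => ?_⟩
      · refine Fin.cases ?_ ?_ i
        · simp
        · simpa using hvN
      · letI : Field (A ⧸ m.asIdeal) := Ideal.Quotient.field m.asIdeal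
        have : (fun i => f m ((Fin.cons (x : M) v : Fin (j + 1) → M) i)) =
            Fin.cons (f m x) fun i => f m (v i) := by
          funext i; refine Fin.cases ?_ ?_ i <;> simp
        rw [this, linearIndependent_finCons]
        exact ⟨hv m, hx m (Finset.mem_univ _)⟩
  obtain ⟨v, hvN, hv⟩ := step n le_rfl
  have hu : IsUnit (e.det v) := by
    by_contra hu
    obtain ⟨m, hm, hmem⟩ := exists_max_ideal_of_mem_nonunits hu
    let m' : MaximalSpectrum A := ⟨m, hm⟩
    letI : Field (A ⧸ m'.asIdeal) := Ideal.Quotient.field _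
    have h1 := (Matrix.linearIndependent_cols_iff_isUnit (A := (e.toMatrix v).map (Ideal.Quotient.mk m'.asIdeal))).1 (hv m')
    rw [Matrix.isUnit_iff_isUnit_det, ← RingHom.mapMatrix_apply, ← RingHom.map_det, ← Module.Basis.det_apply,
      Ideal.Quotient.eq_zero_iff_mem.2 hmem] at h1
    exact not_isUnit_zero h1
  obtain ⟨hli, hsp⟩ := (Module.Basis.is_basis_iff_det e).2 hu
  exact ⟨Module.Basis.mk hli hsp.ge, fun i => by rw [Module.Basis.mk_apply]; exact hvN i⟩

end Groth.Agent.S5213
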