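import Groth.Statements.S5214
import Groth.Agent.H15Site.UnivEpi
import Mathlib.CategoryTheory.Comma.Over.Pullback
import Mathlib.Tactic.CategoryTheory.Reassoc

set_option linter.style.haveILetI false

set_option autoImplicit false
open CategoryTheory CategoryTheory.Limits
universe w v₁ u₁
open DescCat

namespace Groth.Agent.S5214

/-- In a category with pullbacks and binary products: the product `u × u'` of two universal effective
epimorphisms (morphisms all of whose base changes are effective epimorphisms) is a universal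
effective epimorphism. -/
theorem result {C : Type u₁} [Category.{v₁} C] [HasPullbacks C] [HasBinaryProducts C]
    {X Y X' Y' : C} (u : X ⟶ Y) (u' : X' ⟶ Y')
    (hu : (MorphismProperty.universally (fun (A B : C) (p : A ⟶ B) => EffectiveEpi p)) u) (hu' : (MorphismProperty.universally (fun (A B : C) (p : A ⟶ B) => EffectiveEpi p)) u') :
    (MorphismProperty.universally (fun (A B : C) (p : A ⟶ B) => EffectiveEpi p)) (prod.map u u') := by
  have h₁ : IsPullback (prod.map u (𝟙 X')) prod.fst prod.fst u := by
    refine ⟨⟨by simp⟩, ⟨PullbackCone.IsLimit.mk _ (fun s => prod.lift s.snd (s.fst ≫ prod.snd))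
      (fun s => ?_) (fun s => by simp [prod.lift_fst, prod.lift_snd]) (fun s m h₁ h₂ => ?_)⟩⟩
    · apply prod.hom_ext <;> simp [prod.lift_fst, prod.lift_snd, prod.lift_fst_assoc, prod.lift_snd_assoc, s.condition]
    · apply prod.hom_ext <;> simp [prod.lift_fst, prod.lift_snd, prod.lift_fst_assoc, prod.lift_snd_assoc, ← h₁, ← h₂]
  have h₂ : IsPullback (prod.map (𝟙 Y) u') prod.snd prod.snd u' := by
    refine ⟨⟨by simp⟩, ⟨PullbackCone.IsLimit.mk _ (fun s => prod.lift (s.fst ≫ prod.fst) s.snd)
      (fun s => ?_) (fun s => by simp [prod.lift_fst, prod.lift_snd]) (fun s m h₁ h₂ => ?_)⟩⟩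
    · apply prod.hom_ext <;> simp [prod.lift_fst, prod.lift_snd, prod.lift_fst_assoc, prod.lift_snd_assoc, s.condition]
    · apply prod.hom_ext <;> simp [prod.lift_fst, prod.lift_snd, prod.lift_fst_assoc, prod.lift_snd_assoc, ← h₁, ← h₂]
  have := Groth.Agent.H15Site.univEffEpi_comp (Groth.Agent.H15Site.univEffEpi_baseChange hu' h₂) (Groth.Agent.H15Site.univEffEpi_baseChange hu h₁)
  simpa [prod.map_map] using this

end Groth.Agent.S5214
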