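import Groth.Statements.S5215
import Groth.Agent.H15Site.UnivEpi
import Mathlib.CategoryTheory.Comma.Over.Pullback
import Mathlib.Tactic.CategoryTheory.Reassoc

set_option linter.style.haveILetI false

set_option autoImplicit false
open CategoryTheory CategoryTheory.Limits
universe w v₁ u₁
open DescCat

namespace Groth.Agent.S5215

/-- In a category with pullbacks: for a universally effective equivalence relation `p₁, p₂ : R ⇉ X` with
quotient map `π : X ⟶ X/R` and a morphism `g` out of the quotient, `g` is a monomorphism if and only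
if `R` is the kernel pair of `π ≫ g`. -/
theorem result {C : Type u₁} [Category.{v₁} C] [HasPullbacks C]
    {R X Z : C} {p₁ p₂ : R ⟶ X} (e : UniversallyEffectiveEquivalenceRelation p₁ p₂)
    (f : X ⟶ Z) (g : e.B ⟶ Z) (hg : e.π ≫ g = f) :
    Mono g ↔ IsKernelPair f p₁ p₂ := by
  subst hg
  refine ⟨fun _ => e.isKernelPair.comp_of_mono, fun h => ⟨fun {W} a b hab => ?_⟩⟩
  obtain ⟨W', p, a', b', hp, ha, hb⟩ :=
    Groth.Agent.H15Site.exists_lift_pair (Groth.Agent.H15Site.univEpi_of_univEffEpi e.universally_effectiveEpi_π) a b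
  obtain ⟨r, hr₁, hr₂⟩ := h.exists_lift a' b' (by simp [reassoc_of% ha, reassoc_of% hb, hab])
  rw [← cancel_epi p, ← ha, ← hb, ← hr₁, ← hr₂, Category.assoc, Category.assoc, e.isKernelPair.w]

end Groth.Agent.S5215
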