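import Groth.Statements.S5220


set_option autoImplicit false
open CategoryTheory CategoryTheory.Limits
universe w v₁ u₁
open GrpQ

namespace Groth.Agent.S5220

/-- In a category with pullbacks: let `d₀ d₁ : X₁ ⇉ X₀` admit a common section and let `f₀ : Y₀ ⟶ X₀` be
an effective epimorphism which is also a universal epimorphism. For the inverse-image pair `Y₁ :=
(Y₀ ×_{X₀,d₁} X₁) ×_{d₀,X₀} Y₀ ⇉ Y₀`, every morphism out of `Y₀` equalized by the two projections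
descends uniquely to a morphism out of `X₀` equalized by `d₀, d₁`. (Only the common section of the
groupoid structure is used.) -/
theorem result {C : Type u₁} [Category.{v₁} C] [HasPullbacks C]
    {X₁ X₀ Y₀ : C} (d₀ d₁ : X₁ ⟶ X₀) (s : X₀ ⟶ X₁) (hs₀ : s ≫ d₀ = 𝟙 X₀) (hs₁ : s ≫ d₁ = 𝟙 X₀)
    (f₀ : Y₀ ⟶ X₀) [EffectiveEpi f₀]
    (hf : MorphismProperty.universally (MorphismProperty.epimorphisms C) f₀)
    {T : C} (g : Y₀ ⟶ T)
    (hg : (pullback.fst (pullback.snd f₀ d₁ ≫ d₀) f₀ ≫ pullback.fst f₀ d₁) ≫ g =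
      pullback.snd (pullback.snd f₀ d₁ ≫ d₀) f₀ ≫ g) :
    ∃! h : X₀ ⟶ T, d₁ ≫ h = d₀ ≫ h ∧ f₀ ≫ h = g := by
  have he₁ : Epi (pullback.snd f₀ d₁) :=
    hf (pullback.fst f₀ d₁) d₁ (pullback.snd f₀ d₁) (IsPullback.of_hasPullback f₀ d₁).flip
  have he₂ : Epi (pullback.fst (pullback.snd f₀ d₁ ≫ d₀) f₀) :=
    hf (pullback.snd (pullback.snd f₀ d₁ ≫ d₀) f₀) (pullback.snd f₀ d₁ ≫ d₀) _
      (IsPullback.of_hasPullback (pullback.snd f₀ d₁ ≫ d₀) f₀)
  have hepi : Epi f₀ := inferInstance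
  have hkey : ∀ {Z : C} (u v : Z ⟶ Y₀), u ≫ f₀ = v ≫ f₀ → u ≫ g = v ≫ g := by
    intro Z u v huv
    let p : Z ⟶ pullback f₀ d₁ := pullback.lift u (u ≫ f₀ ≫ s) (by simp [hs₁])
    let q : Z ⟶ pullback (pullback.snd f₀ d₁ ≫ d₀) f₀ :=
      pullback.lift p v (by simp only [p]; rw [pullback.lift_snd_assoc, Category.assoc, Category.assoc, hs₀, Category.comp_id, huv])
    have := congrArg (fun m => q ≫ m) hg
    simpa [p, q, pullback.lift_fst_assoc, pullback.lift_snd_assoc] using this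
  let h := EffectiveEpi.desc f₀ g hkey
  have hh : f₀ ≫ h = g := EffectiveEpi.fac f₀ g hkey
  refine ⟨h, ⟨?_, hh⟩, ?_⟩
  · rw [← cancel_epi (pullback.fst (pullback.snd f₀ d₁ ≫ d₀) f₀ ≫ pullback.snd f₀ d₁)]
    have e1 : (pullback.fst (pullback.snd f₀ d₁ ≫ d₀) f₀ ≫ pullback.snd f₀ d₁) ≫ d₁ ≫ h =
        (pullback.fst (pullback.snd f₀ d₁ ≫ d₀) f₀ ≫ pullback.fst f₀ d₁) ≫ g := by
      simp only [Category.assoc, ← hh, pullback.condition_assoc]
    have e2 : (pullback.fst (pullback.snd f₀ d₁ ≫ d₀) f₀ ≫ pullback.snd f₀ d₁) ≫ d₀ ≫ h =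
        pullback.snd (pullback.snd f₀ d₁ ≫ d₀) f₀ ≫ g := by
      simp only [← hh, ← Category.assoc]
      congr 1
      simp only [Category.assoc, pullback.condition]
    rw [e1, e2, hg]
  · rintro h' ⟨-, hh'⟩
    rw [← cancel_epi f₀, hh', hh]

end Groth.Agent.S5220
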