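import Groth.Statements.S5221
import Groth.Agent.S5220

set_option autoImplicit false
open CategoryTheory CategoryTheory.Limits
universe w v₁ u₁
open GrpQ

namespace Groth.Agent.S5221

/-- Existence part: in a category with pullbacks: with `d₀ d₁ : X₁ ⇉ X₀` admitting a common section and
`f₀ : Y₀ ⟶ X₀` an effective and universal epimorphism, the pair `(d₀, d₁)` has a coequalizer if and
only if its inverse-image pair on `Y₀` has one. -/
theorem result {C : Type u₁} [Category.{v₁} C] [HasPullbacks C]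
    {X₁ X₀ Y₀ : C} (d₀ d₁ : X₁ ⟶ X₀) (s : X₀ ⟶ X₁) (hs₀ : s ≫ d₀ = 𝟙 X₀) (hs₁ : s ≫ d₁ = 𝟙 X₀)
    (f₀ : Y₀ ⟶ X₀) [EffectiveEpi f₀]
    (hf : MorphismProperty.universally (MorphismProperty.epimorphisms C) f₀) :
    HasCoequalizer d₁ d₀ ↔
      HasCoequalizer (pullback.fst (pullback.snd f₀ d₁ ≫ d₀) f₀ ≫ pullback.fst f₀ d₁)
        (pullback.snd (pullback.snd f₀ d₁ ≫ d₀) f₀) := by
  have he₁ : Epi (pullback.snd f₀ d₁) :=
    hf (pullback.fst f₀ d₁) d₁ (pullback.snd f₀ d₁) (IsPullback.of_hasPullback f₀ d₁).flip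
  have cond : ∀ {T : C} (k : X₀ ⟶ T), d₁ ≫ k = d₀ ≫ k →
      (pullback.fst (pullback.snd f₀ d₁ ≫ d₀) f₀ ≫ pullback.fst f₀ d₁) ≫ f₀ ≫ k =
      pullback.snd (pullback.snd f₀ d₁ ≫ d₀) f₀ ≫ f₀ ≫ k := by
    intro T k hk
    rw [Category.assoc, pullback.condition_assoc, hk, ← pullback.condition_assoc]
    simp only [Category.assoc]
  constructor
  · intro _
    refine ⟨⟨⟨Cofork.ofπ (f₀ ≫ coequalizer.π d₁ d₀) (cond _ (coequalizer.condition d₁ d₀)),
      Cofork.IsColimit.mk _ (fun c =>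
        coequalizer.desc (S5220.result d₀ d₁ s hs₀ hs₁ f₀ hf c.π c.condition).exists.choose
          (S5220.result d₀ d₁ s hs₀ hs₁ f₀ hf c.π c.condition).exists.choose_spec.1) ?_ ?_⟩⟩⟩
    · intro c
      simp [(S5220.result d₀ d₁ s hs₀ hs₁ f₀ hf c.π c.condition).exists.choose_spec.2]
    · intro c m hm
      change (coequalizer d₁ d₀ ⟶ c.pt) at m
      refine coequalizer.hom_ext ?_
      rw [← cancel_epi f₀, coequalizer.π_desc,
        (S5220.result d₀ d₁ s hs₀ hs₁ f₀ hf c.π c.condition).exists.choose_spec.2]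
      simpa using hm
  · intro _
    let a := pullback.fst (pullback.snd f₀ d₁ ≫ d₀) f₀ ≫ pullback.fst f₀ d₁
    let b := pullback.snd (pullback.snd f₀ d₁ ≫ d₀) f₀
    obtain ⟨h, ⟨hh, hfac⟩, -⟩ :=
      S5220.result d₀ d₁ s hs₀ hs₁ f₀ hf (coequalizer.π a b) (coequalizer.condition a b)
    refine ⟨⟨⟨Cofork.ofπ h hh, Cofork.IsColimit.mk _ (fun c =>
        coequalizer.desc (f₀ ≫ c.π) (cond _ c.condition)) ?_ ?_⟩⟩⟩
    · intro c
      rw [← cancel_epi f₀]
      simp only [Cofork.π_ofπ]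
      rw [reassoc_of% hfac, coequalizer.π_desc]
    · intro c m hm
      change (coequalizer a b ⟶ c.pt) at m
      refine coequalizer.hom_ext ?_
      rw [coequalizer.π_desc, ← hfac, Category.assoc]
      simp only [Cofork.π_ofπ] at hm
      rw [hm]

end Groth.Agent.S5221
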