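import Groth.Statements.S5222
import Mathlib.CategoryTheory.Monoidal.Cartesian.Grp

set_option linter.style.haveILetI false

set_option autoImplicit false
open CategoryTheory CategoryTheory.Limits MonoidalCategory
universe v₁ u₁
open DescCat

namespace Groth.Agent.S5222

open MonObj CartesianMonoidalCategory SemiCartesianMonoidalCategory in
open MonoidalCategory MonObj CartesianMonoidalCategory SemiCartesianMonoidalCategory in
/-- In a cartesian monoidal category with pullbacks: for a homomorphism `f : G ⟶ G'` of group objects
with kernel `K = G ×_{G'} e`, the pair `G × K ⇉ G` given by the projection and by multiplication is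
the kernel pair of `f`. -/
theorem result {C : Type u₁} [Category.{v₁} C]
    [CartesianMonoidalCategory C] [HasPullbacks C]
    {G G' : C} [GrpObj G] [GrpObj G'] (f : G ⟶ G') [IsMonHom f] :
    IsKernelPair f (fst G (pullback f η[G']))
      ((G ◁ pullback.fst f η[G']) ≫ μ[G]) := by
  have hμ : (G ◁ pullback.fst f η[G']) ≫ μ[G] = fst _ _ * (snd _ _ ≫ pullback.fst f η[G']) := by
    rw [Hom.mul_def]
    congr 1
    apply CartesianMonoidalCategory.hom_ext <;> simp
  have hk : pullback.fst f η[G'] ≫ f = 1 := by
    rw [pullback.condition, Hom.one_def]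
    congr 1
    exact toUnit_unique _ _
  rw [hμ]
  refine ⟨⟨?_⟩, ⟨PullbackCone.IsLimit.mk _
    (fun s => lift s.fst (pullback.lift (s.fst⁻¹ * s.snd) (toUnit _) ?_)) ?_ ?_ ?_⟩⟩
  · rw [MonObj.mul_comp, Category.assoc, hk, MonObj.comp_one, _root_.mul_one]
  · rw [MonObj.mul_comp, GrpObj.inv_comp, s.condition, inv_mul_cancel, Hom.one_def]
  · intro s; simp
  · intro s
    rw [MonObj.comp_mul]; simp [pullback.lift_fst]
  · intro s m h₁ h₂
    apply CartesianMonoidalCategory.hom_ext
    · simpa using h₁
    · rw [lift_snd]
      apply pullback.hom_ext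
      · rw [pullback.lift_fst, ← h₂, ← h₁, MonObj.comp_mul, ← _root_.mul_assoc, inv_mul_cancel, _root_.one_mul, Category.assoc]
      · exact toUnit_unique _ _

end Groth.Agent.S5222
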