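import Groth.Statements.S5224
import Groth.Agent.H19Desc.Effective

set_option autoImplicit false
set_option maxHeartbeats 1000000
set_option linter.style.haveILetI false
set_option backward.isDefEq.respectTransparency false
open CategoryTheory CategoryTheory.Limits AlgebraicGeometry
universe u
open GrpQ

namespace Groth.Agent.S5224

/-- For the fppf topology: let `s, t : R ⇉ U` be an equivalence relation of schemes over `S` with `s`
faithfully flat and locally of finite presentation. A morphism `q : U ⟶ Y` over `S` is a faithfully
flat, locally finitely presented quotient with kernel pair `R` if and only if `q` identifies `h_Y`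
with the fppf quotient sheaf `U/R`. -/
theorem result {S : Scheme.{u}} {R U Y : Over S} (s t : R ⟶ U)
    [IsEquivalenceRelation s t]
    [Flat s.left] [Surjective s.left] [LocallyOfFinitePresentation s.left]
    (q : U ⟶ Y) :
    (IsKernelPair q s t ∧ Flat q.left ∧ Surjective q.left ∧ LocallyOfFinitePresentation q.left) ↔
      QuotSh.IsQuotient Scheme.fppfPrecoverage s t q := by
  rw [Groth.Agent.H19Desc.isQuotient_iff]
  constructor
  · rintro ⟨hkp, hfl, hs, hfp⟩
    haveI := hfl; haveI := hs; haveI := hfp
    exact ⟨hkp, Groth.Agent.H19Desc.epi_yo_of_cover _ q (Scheme.Hom.singleton_mem_fppfPrecoverage q.left)⟩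
  · rintro ⟨hkp, hepi⟩
    have key := fun P [IsZariskiLocalAtTarget P] [MorphismProperty.IsStableUnderBaseChange P]
      [MorphismProperty.DescendsAlong P (@Surjective ⊓ @Flat ⊓ @QuasiCompact : MorphismProperty Scheme.{u})] =>
      Groth.Agent.H19Desc.prop_of_kernelPair Scheme.fppfPrecoverage s t q le_rfl hkp hepi P
    exact ⟨hkp, key @Flat ‹_›, key @Surjective ‹_›, key @LocallyOfFinitePresentation ‹_›⟩

end Groth.Agent.S5224
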