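import Groth.Statements.S5225
import Groth.Agent.H19Desc.Effective

set_option autoImplicit false
set_option maxHeartbeats 1000000
set_option linter.style.haveILetI false
set_option backward.isDefEq.respectTransparency false
open CategoryTheory CategoryTheory.Limits AlgebraicGeometry
universe u
open GrpQ

namespace Groth.Agent.S5225

theorem etale_le_fppf : (Scheme.etalePrecoverage : Precoverage Scheme.{u}) ≤ Scheme.fppfPrecoverage :=
  Scheme.precoverage_mono (fun _ _ f (_ : Etale f) => ⟨inferInstance, inferInstance⟩)

instance subcanonical_etale {S : Scheme.{u}} : (QuotSh.J Scheme.etalePrecoverage S).Subcanonical :=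
  GrothendieckTopology.Subcanonical.of_le (K := QuotSh.J Scheme.fppfPrecoverage S) (fun T L hL => by
    rw [GrothendieckTopology.mem_over_iff] at hL ⊢
    exact Precoverage.toGrothendieck_mono etale_le_fppf _ hL)

theorem singleton_mem {Z T : Scheme.{u}} (q : Z ⟶ T) [Etale q] [Surjective q] :
    Presieve.singleton q ∈ Scheme.etalePrecoverage T := by
  rw [← Presieve.ofArrows_pUnit.{u + 1}, Scheme.etalePrecoverage, Scheme.ofArrows_mem_precoverage_iff]
  exact ⟨fun x => ⟨⟨⟩, q.surjective x⟩, fun _ => ‹_›⟩


/-- For the étale topology: let `s, t : R ⇉ U` be an equivalence relation of schemes over `S` with `s`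
étale and surjective. A morphism `q : U ⟶ Y` over `S` is an étale surjective quotient with kernel
pair `R` if and only if `q` identifies `h_Y` with the étale quotient sheaf `U/R`. -/
theorem result {S : Scheme.{u}} {R U Y : Over S} (s t : R ⟶ U)
    [IsEquivalenceRelation s t] [Etale s.left] [Surjective s.left]
    (q : U ⟶ Y) :
    (IsKernelPair q s t ∧ Etale q.left ∧ Surjective q.left) ↔
      QuotSh.IsQuotient Scheme.etalePrecoverage s t q := by
  rw [Groth.Agent.H19Desc.isQuotient_iff]
  constructor
  · rintro ⟨hkp, he, hs⟩
    haveI := he; haveI := hs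
    exact ⟨hkp, Groth.Agent.H19Desc.epi_yo_of_cover _ q (singleton_mem q.left)⟩
  · rintro ⟨hkp, hepi⟩
    have key := fun P [IsZariskiLocalAtTarget P] [MorphismProperty.IsStableUnderBaseChange P]
      [MorphismProperty.DescendsAlong P (@Surjective ⊓ @Flat ⊓ @QuasiCompact : MorphismProperty Scheme.{u})] =>
      Groth.Agent.H19Desc.prop_of_kernelPair Scheme.etalePrecoverage s t q etale_le_fppf hkp hepi P
    exact ⟨hkp, key @Etale ‹_›, key @Surjective ‹_›⟩

end Groth.Agent.S5225
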