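import Groth.Statements.S5226
import Groth.Agent.H15Site.SheafEpi
import Groth.Agent.H15Site.UnivEpi

set_option linter.style.haveILetI false
open CategoryTheory CategoryTheory.Limits Opposite

set_option autoImplicit false
open CategoryTheory CategoryTheory.Limits
universe w v₁ u₁
open ShfCat

namespace Groth.Agent.S5226

/-- For sheaves of sets on a site with sheafification: if `R ⇉ X` is an equivalence relation with
(universally effective) quotient `X/R` and `Y ⊆ X` is a subsheaf with induced relation `R_Y`, then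
the canonical map `Y/R_Y ⟶ X/R` is a monomorphism. Here `R_Y` is built as the iterated pullback of
`R` along `Y ⟶ X` on both sides. -/
theorem result {C : Type u₁} [Category.{v₁} C]
    (J : GrothendieckTopology C) [HasSheafify J (Type w)]
    {R X Y : Sheaf J (Type w)} {p₁ p₂ : R ⟶ X} (e : UniversallyEffectiveEquivalenceRelation p₁ p₂)
    (ι : Y ⟶ X) [Mono ι]
    [HasCoequalizer (pullback.fst (pullback.fst p₁ ι ≫ p₂) ι ≫ pullback.snd p₁ ι)
      (pullback.snd (pullback.fst p₁ ι ≫ p₂) ι)]
    (g : coequalizer (pullback.fst (pullback.fst p₁ ι ≫ p₂) ι ≫ pullback.snd p₁ ι)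
      (pullback.snd (pullback.fst p₁ ι ≫ p₂) ι) ⟶ e.B)
    (hg : coequalizer.π _ _ ≫ g = ι ≫ e.π) :
    Mono g := by
  refine ⟨fun {W} a b hab => ?_⟩
  obtain ⟨W', p, a', b', hp, ha, hb⟩ := Groth.Agent.H15Site.exists_lift_pair
    (Groth.Agent.H15Site.univEpi_of_univEffEpi (Groth.Agent.H15Site.sheaf_universally_effectiveEpi
      (coequalizer.π (pullback.fst (pullback.fst p₁ ι ≫ p₂) ι ≫ pullback.snd p₁ ι)
        (pullback.snd (pullback.fst p₁ ι ≫ p₂) ι)))) a b
  have heq : (a' ≫ ι) ≫ e.π = (b' ≫ ι) ≫ e.π := by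
    rw [Category.assoc, Category.assoc, ← hg, reassoc_of% ha, reassoc_of% hb, hab]
  obtain ⟨r, hr₁, hr₂⟩ := e.isKernelPair.exists_lift _ _ heq
  let k := pullback.lift (pullback.lift r a' hr₁) b' (show _ ≫ pullback.fst p₁ ι ≫ p₂ = _ by
    rw [pullback.lift_fst_assoc, hr₂])
  have hk := congrArg (k ≫ ·) (coequalizer.condition (pullback.fst (pullback.fst p₁ ι ≫ p₂) ι ≫ pullback.snd p₁ ι)
        (pullback.snd (pullback.fst p₁ ι ≫ p₂) ι))
  simp only [k, Category.assoc, pullback.lift_fst_assoc, pullback.lift_snd_assoc] at hk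
  rw [← cancel_epi p, ← ha, ← hb, hk]

end Groth.Agent.S5226
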