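import Groth.Statements.S5227
import Groth.Agent.H15Site.SheafEpi
import Groth.Agent.H15Site.UnivEpi
import Mathlib.CategoryTheory.Subobject.Limits

set_option linter.style.haveILetI false
open CategoryTheory CategoryTheory.Limits Opposite

set_option autoImplicit false
open CategoryTheory CategoryTheory.Limits
universe w v₁ u₁
open ShfCat

namespace Groth.Agent.S5227

/-- For sheaves of sets on a site with sheafification: for an equivalence relation `R ⇉ X` with
(universally effective) quotient `π : X ⟶ X/R`, inverse image along `π` is a bijection from the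
subsheaves of `X/R` onto the subsheaves of `X` stable under `R` (those whose two inverse images in
`R` agree). -/
theorem result {C : Type u₁} [Category.{v₁} C]
    (J : GrothendieckTopology C) [HasSheafify J (Type w)]
    {R X : Sheaf J (Type w)} {p₁ p₂ : R ⟶ X} (e : UniversallyEffectiveEquivalenceRelation p₁ p₂) :
    Function.Injective (Subobject.pullback e.π).obj ∧
      Set.range (Subobject.pullback e.π).obj =
        {Y : Subobject X | (Subobject.pullback p₁).obj Y = (Subobject.pullback p₂).obj Y} := by
  have hu := Groth.Agent.H15Site.univEpi_of_univEffEpi e.universally_effectiveEpi_π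
  have hle : ∀ K K' : Subobject e.B, (Subobject.pullback e.π).obj K = (Subobject.pullback e.π).obj K' → K ≤ K' := by
    intro K K' h
    haveI : StrongEpi (Subobject.pullbackπ e.π K) := by
      haveI := Groth.Agent.H15Site.univEffEpi_effectiveEpi
        (Groth.Agent.H15Site.univEffEpi_baseChange e.universally_effectiveEpi_π (Subobject.isPullback e.π K))
      infer_instance
    have sq : CommSq (Subobject.ofLE _ _ h.le ≫ Subobject.pullbackπ e.π K') (Subobject.pullbackπ e.π K) K'.arrow K.arrow := by
      refine ⟨?_⟩
      rw [Category.assoc, (Subobject.isPullback e.π K').w, ← Category.assoc, Subobject.ofLE_arrow,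
        (Subobject.isPullback e.π K).w]
    exact Subobject.le_of_comm sq.lift sq.fac_right
  refine ⟨fun K K' h => le_antisymm (hle K K' h) (hle K' K h.symm), ?_⟩
  have hcomp : ∀ K : Subobject e.B, (Subobject.pullback p₁).obj ((Subobject.pullback e.π).obj K) =
      (Subobject.pullback p₂).obj ((Subobject.pullback e.π).obj K) := by
    intro K
    rw [← Subobject.pullback_comp, ← Subobject.pullback_comp, e.isKernelPair.w]
  refine Set.Subset.antisymm (Set.range_subset_iff.2 hcomp) fun Y hY => ?_
  let K : Subobject e.B := Subobject.mk (Sheaf.imageι (Y.arrow ≫ e.π))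
  let q : (Y : Sheaf J (Type w)) ⟶ (K : Sheaf J (Type w)) :=
    Sheaf.toImage (Y.arrow ≫ e.π) ≫ (Subobject.underlyingIso _).inv
  have hq : q ≫ K.arrow = Y.arrow ≫ e.π := by simp [q, K]
  haveI hepi : Epi q := epi_comp _ _
  refine ⟨K, le_antisymm ?_ ?_⟩
  · let P := (Subobject.pullback e.π).obj (K)
    have hP := Subobject.isPullback e.π (K)
    obtain ⟨W, p, a, -, hp, ha, -⟩ := Groth.Agent.H15Site.exists_lift_pair
      (Groth.Agent.H15Site.univEpi_of_univEffEpi
        (Groth.Agent.H15Site.sheaf_universally_effectiveEpi (q)))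
      (Subobject.pullbackπ e.π _) (Subobject.pullbackπ e.π _)
    have h1 : (a ≫ Y.arrow) ≫ e.π = (p ≫ ((Subobject.pullback e.π).obj K).arrow) ≫ e.π := by
      rw [Category.assoc, ← hq, reassoc_of% ha, Category.assoc, hP.w]
    obtain ⟨r, hr₁, hr₂⟩ := e.isKernelPair.exists_lift _ _ h1
    obtain ⟨t, -, ht⟩ := (Subobject.isPullback p₁ Y).exists_lift a r hr₁.symm
    have hY' : ((Subobject.pullback p₁).obj Y) ≤ ((Subobject.pullback p₂).obj Y) := le_of_eq hY
    let y := t ≫ Subobject.ofLE _ _ hY' ≫ Subobject.pullbackπ p₂ Y
    have hy : y ≫ Y.arrow = p ≫ ((Subobject.pullback e.π).obj K).arrow := by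
      simp only [y, Category.assoc]
      rw [(Subobject.isPullback p₂ Y).w, Subobject.ofLE_arrow_assoc, reassoc_of% ht, hr₂]
    have sq : CommSq y p Y.arrow ((Subobject.pullback e.π).obj K).arrow := ⟨hy⟩
    haveI : IsRegularEpi p := IsRegularEpiCategory.regularEpiOfEpi p
    exact Subobject.le_of_comm sq.lift sq.fac_right
  · obtain ⟨l, -, hl⟩ := (Subobject.isPullback e.π (K)).exists_lift
      (q) Y.arrow hq
    exact Subobject.le_of_comm l hl

end Groth.Agent.S5227
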