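import Groth.Statements.S5228
import Groth.Agent.H20Comod.DualMod

set_option autoImplicit false
universe w u
open HopfRep

namespace Groth.Agent.S5228
open TensorProduct

/-- Over an affine base, in comodule form: for a representation `V` of a diagonalizable group `D(M)`
over a commutative ring `k` (a `k[M]`-comodule), every sub-representation which is a direct summand
as a `k`-module is a direct summand as a representation. (The published statement: a short exact
sequence of quasi-coherent `D(M)`-modules that splits as a sequence of modules splits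
equivariantly.) -/
theorem result {k : Type u} [CommRing k] {M : Type u} [CommGroup M]
    (V : Type w) [AddCommGroup V] [Module k V] [HopfRep.Comod k (MonoidAlgebra k M) V]
    (W : Submodule k V) (hW : HopfRep.IsSubcomod (k := k) (A := MonoidAlgebra k M) W)
    (hsplit : ∃ W' : Submodule k V, IsCompl W W') :
    ∃ W'' : Submodule k V, HopfRep.IsSubcomod (k := k) (A := MonoidAlgebra k M) W'' ∧ IsCompl W W'' := by
  classical
  obtain ⟨W', hW'⟩ := hsplit
  let π : V →ₗ[k] V := W.subtype ∘ₗ Submodule.linearProjOfIsCompl W W' hW'
  have hπmem : ∀ x, π x ∈ W := fun x => (Submodule.linearProjOfIsCompl W W' hW' x).2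
  have hπW : ∀ x ∈ W, π x = x := fun x hx =>
    congrArg Subtype.val (Submodule.linearProjOfIsCompl_apply_left hW' ⟨x, hx⟩)
  let B := MonoidAlgebra.basis M k
  let D : MonoidAlgebra k M →ₗ[k] (MonoidAlgebra k M →ₗ[k] k) := B.constr k B.coord
  have hD : ∀ m, D (B m) = B.coord m := fun m => B.constr_basis k _ m
  have hcom : ∀ m, CoalgebraStruct.comul (R := k) (B m) = B m ⊗ₜ[k] B m := fun m =>
    (MonoidAlgebra.isGroupLikeElem_single_one (R := k) (A := k) m).comul_eq_tmul_self
  let Ph : V ⊗[k] MonoidAlgebra k M →ₗ[k] V :=
    TensorProduct.lift (LinearMap.mk₂ k (fun x a => H20Comod.actL (D a) (π x))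
      (fun x x' a => by rw [map_add, map_add]) (fun c x a => by rw [map_smul, map_smul])
      (fun x a a' => by rw [map_add, H20Comod.actL_apply, H20Comod.sliceR_add]; rfl)
      (fun c x a => by rw [map_smul, H20Comod.actL_apply, H20Comod.sliceR_smul]; rfl))
  let P : V →ₗ[k] V := Ph ∘ₗ HopfRep.Comod.coact (k := k) (A := MonoidAlgebra k M)
  have hPW : ∀ v, P v ∈ W := by
    intro v
    show Ph (HopfRep.Comod.coact (k := k) (A := MonoidAlgebra k M) v) ∈ W
    generalize HopfRep.Comod.coact (k := k) (A := MonoidAlgebra k M) v = z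
    induction z using TensorProduct.induction_on with
    | zero => simp
    | tmul x a => exact H20Comod.actL_mem_of_isSubcomod hW _ (hπmem x)
    | add u w hu hw => rw [map_add]; exact add_mem hu hw
  let E : MonoidAlgebra k M ⊗[k] MonoidAlgebra k M →ₗ[k] k := TensorProduct.lift D.flip
  have hE : E ∘ₗ CoalgebraStruct.comul (R := k) = CoalgebraStruct.counit (R := k) (A := MonoidAlgebra k M) := by
    refine B.ext fun m => ?_
    show E (CoalgebraStruct.comul (R := k) (B m)) = CoalgebraStruct.counit (R := k) (B m)
    rw [hcom, show E (B m ⊗ₜ[k] B m) = D (B m) (B m) from rfl, hD,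
      show CoalgebraStruct.counit (R := k) (B m) = 1 from (MonoidAlgebra.isGroupLikeElem_single_one (R := k) (A := k) m).counit_eq_one]
    simp [-MonoidAlgebra.basis_apply]
  have hfix : ∀ v ∈ W, P v = v := by
    intro v hv
    have h2 : π.rTensor (MonoidAlgebra k M) (HopfRep.Comod.coact (k := k) (A := MonoidAlgebra k M) v) =
        HopfRep.Comod.coact (k := k) (A := MonoidAlgebra k M) v := by
      obtain ⟨y, hy⟩ := hW v hv
      rw [← hy, ← LinearMap.rTensor_comp_apply, show π ∘ₗ W.subtype = W.subtype from LinearMap.ext fun x => hπW x x.2]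
    have hco := LinearMap.congr_fun (HopfRep.Comod.coassoc (k := k) (A := MonoidAlgebra k M) (V := V)) v
    simp only [LinearMap.coe_comp, Function.comp_apply, LinearEquiv.coe_coe] at hco
    conv_rhs => rw [← H20Comod.actL_counit (k := k) (A := MonoidAlgebra k M) v, H20Comod.actL_apply, ← hE,
      ← H20Comod.sliceR_lTensor, ← hco, ← h2]
    show Ph (HopfRep.Comod.coact (k := k) (A := MonoidAlgebra k M) v) = _
    generalize HopfRep.Comod.coact (k := k) (A := MonoidAlgebra k M) v = z
    induction z using TensorProduct.induction_on with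
    | zero => simp
    | tmul x a =>
      simp only [Ph, TensorProduct.lift.tmul, LinearMap.mk₂_apply, LinearMap.rTensor_tmul, H20Comod.actL_apply]
      generalize HopfRep.Comod.coact (k := k) (A := MonoidAlgebra k M) (π x) = y
      induction y using TensorProduct.induction_on with
      | zero => simp
      | tmul p b => simp [E]
      | add u w hu hw => simp only [TensorProduct.add_tmul, map_add, hu, hw]
    | add u w hu hw => simp only [map_add, hu, hw]
  have hDφ : ∀ (φ : MonoidAlgebra k M →ₗ[k] k) (a : MonoidAlgebra k M),
      D (H20Comod.actL φ a) = H20Comod.conv φ (D a) := by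
    intro φ a
    apply B.ext
    intro n
    have h1 : H20Comod.conv φ (D a) (B n) = φ (B n) * D a (B n) := by
      show LinearMap.mul' k k (TensorProduct.map φ (D a) (CoalgebraStruct.comul (R := k) (B n))) = _
      rw [hcom]; simp
    rw [h1]
    refine LinearMap.congr_fun (B.ext (f₁ := (LinearMap.applyₗ (B n)) ∘ₗ D ∘ₗ H20Comod.actL φ)
      (f₂ := φ (B n) • ((LinearMap.applyₗ (B n)) ∘ₗ D)) fun m => ?_) a
    show D (H20Comod.actL φ (B m)) (B n) = φ (B n) • D (B m) (B n)
    rw [H20Comod.actL_apply, show HopfRep.Comod.coact (k := k) (A := MonoidAlgebra k M) (B m) = B m ⊗ₜ[k] B m from hcom m,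
      H20Comod.sliceR_tmul, map_smul, hD, LinearMap.smul_apply]
    by_cases h : n = m
    · rw [h]
    · simp [h, -MonoidAlgebra.basis_apply]
  have hPcomm : ∀ (φ : MonoidAlgebra k M →ₗ[k] k) (v : V), P (H20Comod.actL φ v) = H20Comod.actL φ (P v) := by
    intro φ v
    have hcoact : ∀ w, HopfRep.Comod.coact (k := k) (A := MonoidAlgebra k M) (H20Comod.actL φ w) =
        (H20Comod.actL φ : MonoidAlgebra k M →ₗ[k] MonoidAlgebra k M).lTensor V
          (HopfRep.Comod.coact (k := k) (A := MonoidAlgebra k M) w) := by
      intro w
      have hco := LinearMap.congr_fun (HopfRep.Comod.coassoc (k := k) (A := MonoidAlgebra k M) (V := V)) w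
      simp only [LinearMap.coe_comp, Function.comp_apply, LinearEquiv.coe_coe] at hco
      rw [show (H20Comod.actL φ : MonoidAlgebra k M →ₗ[k] MonoidAlgebra k M) = H20Comod.sliceR φ ∘ₗ CoalgebraStruct.comul from rfl,
        LinearMap.lTensor_comp_apply, ← hco, H20Comod.actL_apply]
      generalize HopfRep.Comod.coact (k := k) (A := MonoidAlgebra k M) w = z
      induction z using TensorProduct.induction_on with
      | zero => simp
      | tmul x a =>
        simp only [LinearMap.rTensor_tmul, H20Comod.sliceR_tmul, map_smul]
        generalize HopfRep.Comod.coact (k := k) (A := MonoidAlgebra k M) x = y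
        induction y using TensorProduct.induction_on with
        | zero => simp
        | tmul p b => simp [TensorProduct.tmul_smul]
        | add u w hu hw => simp only [TensorProduct.add_tmul, map_add, smul_add, hu, hw]
      | add u w hu hw => simp only [map_add, hu, hw]
    show Ph (HopfRep.Comod.coact (k := k) (A := MonoidAlgebra k M) (H20Comod.actL φ v)) = H20Comod.actL φ (Ph _)
    rw [hcoact]
    generalize HopfRep.Comod.coact (k := k) (A := MonoidAlgebra k M) v = z
    induction z using TensorProduct.induction_on with
    | zero => simp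
    | tmul x a =>
      simp only [Ph, LinearMap.lTensor_tmul, TensorProduct.lift.tmul, LinearMap.mk₂_apply]
      rw [hDφ, H20Comod.actL_conv]
    | add u w hu hw => simp only [map_add, hu, hw]
  refine ⟨LinearMap.ker P, (H20Comod.isSubcomod_iff_forall_actL _).2 fun v hv φ => ?_, ?_, ?_⟩
  · rw [LinearMap.mem_ker] at hv ⊢
    rw [hPcomm, hv, map_zero]
  · refine disjoint_iff_inf_le.2 fun x hx => ?_
    rw [Submodule.mem_bot, ← hfix x hx.1]
    exact hx.2
  · refine codisjoint_iff_le_sup.2 fun x _ => Submodule.mem_sup.2 ⟨P x, hPW x, x - P x, ?_, by abel⟩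
    rw [LinearMap.mem_ker, map_sub, hfix _ (hPW x), sub_self]

end Groth.Agent.S5228
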