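import Groth.Statements.S5231
set_option linter.style.haveILetI false
open CategoryTheory CategoryTheory.Limits Opposite

set_option autoImplicit false
open CategoryTheory
universe w v₁ u₁
open ShfCat

namespace Groth.Agent.S5231

/-- (iii) ⇒ (i): a morphism `f` of sheaves of sets on a site is a monomorphism (resp. an epimorphism) as
soon as, for every object `S`, the morphisms `T ⟶ S` over which the restriction of `f` to the
induced site `C/T` is a monomorphism (resp. an epimorphism) form a covering sieve. No sheafification
is assumed. (The published statement also treats isomorphisms in the same way; that case is left out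
here.) -/
theorem result {C : Type u₁} [Category.{v₁} C]
    (J : GrothendieckTopology C) {F G : Sheaf J (Type w)} (f : F ⟶ G) :
    ((∀ S : C, ∃ R : Sieve S, R ∈ J S ∧ ∀ ⦃T : C⦄ (g : T ⟶ S), R g →
        Mono ((J.overPullback (Type w) T).map f)) → Mono f) ∧
    ((∀ S : C, ∃ R : Sieve S, R ∈ J S ∧ ∀ ⦃T : C⦄ (g : T ⟶ S), R g →
        Epi ((J.overPullback (Type w) T).map f)) → Epi f) := by
  refine ⟨fun h => ⟨fun {H} a b hab => ?_⟩, fun h => ⟨fun {H} a b hab => ?_⟩⟩
  · ext U x
    obtain ⟨R, hR, hm⟩ := h U.unop
    refine (((isSheaf_iff_isSheaf_of_type _ _).1 F.2).isSeparated R hR).ext fun T g hg => ?_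
    haveI := hm g hg
    have e : (J.overPullback (Type w) T).map a = (J.overPullback (Type w) T).map b := by
      rw [← cancel_mono ((J.overPullback (Type w) T).map f), ← Functor.map_comp, ← Functor.map_comp, hab]
    have e' : a.hom.app (op T) = b.hom.app (op T) :=
      congr_app (congrArg (fun k => k.hom) e) (op (Over.mk (𝟙 T)))
    show _ = _
    erw [← NatTrans.naturality_apply a.hom g.op, ← NatTrans.naturality_apply b.hom g.op]
    rw [e']
  · ext U x
    obtain ⟨R, hR, hm⟩ := h U.unop
    refine (((isSheaf_iff_isSheaf_of_type _ _).1 H.2).isSeparated R hR).ext fun T g hg => ?_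
    haveI := hm g hg
    have e : (J.overPullback (Type w) T).map a = (J.overPullback (Type w) T).map b := by
      rw [← cancel_epi ((J.overPullback (Type w) T).map f), ← Functor.map_comp, ← Functor.map_comp, hab]
    have e' : a.hom.app (op T) = b.hom.app (op T) :=
      congr_app (congrArg (fun k => k.hom) e) (op (Over.mk (𝟙 T)))
    show _ = _
    erw [← NatTrans.naturality_apply a.hom g.op, ← NatTrans.naturality_apply b.hom g.op]
    rw [e']

end Groth.Agent.S5231
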