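import Groth.Statements.S5232
import Groth.Agent.H15Magnet.AffineRep
import Mathlib.CategoryTheory.ShrinkYoneda

set_option autoImplicit false
open CategoryTheory CategoryTheory.Limits AlgebraicGeometry
universe u
open GrpQ

namespace Groth.Agent.S5232

section
variable {S : Scheme.{u}}

theorem isSheaf_ulift (V : Over S) :
    Presheaf.IsSheaf (QuotSh.J Scheme.fppfPrecoverage S) (yoneda.obj V ⋙ uliftFunctor.{u + 1, u}) :=
  ((QuotSh.J Scheme.fppfPrecoverage S).uliftYoneda.{u + 1}.obj V).property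

/-- The sections of a sheaf as maps from a representable sheaf. -/
noncomputable def homSec (V : Over S) (Z : QuotSh.Sh Scheme.fppfPrecoverage S) :
    (QuotSh.rep Scheme.fppfPrecoverage V ⟶ Z) ≃ Z.obj.obj (Opposite.op V) :=
  ((sheafificationAdjunction (QuotSh.J Scheme.fppfPrecoverage S) (Type (u + 1))).homEquiv _ Z).trans uliftYonedaEquiv

theorem homSec_eq {V : Over S} {Z : QuotSh.Sh Scheme.fppfPrecoverage S} (m : QuotSh.rep Scheme.fppfPrecoverage V ⟶ Z) :
    homSec V Z m = m.hom.app _ ((toSheafify (QuotSh.J Scheme.fppfPrecoverage S) (yoneda.obj V ⋙ uliftFunctor.{u + 1, u})).app (Opposite.op V) ⟨𝟙 V⟩) := by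
  simp only [homSec, Equiv.trans_apply, Adjunction.homEquiv_unit]
  rfl

theorem homSec_repMap {V W : Over S} (z : V ⟶ W) :
    homSec V (QuotSh.rep Scheme.fppfPrecoverage W) (QuotSh.repMap Scheme.fppfPrecoverage z) =
      (toSheafify (QuotSh.J Scheme.fppfPrecoverage S) (yoneda.obj W ⋙ uliftFunctor.{u + 1, u})).app (Opposite.op V) ⟨z⟩ := by
  rw [homSec_eq]
  have h := ConcreteCategory.congr_hom (NatTrans.congr_app
    (toSheafify_naturality (QuotSh.J Scheme.fppfPrecoverage S) (Functor.whiskerRight (yoneda.map z) uliftFunctor.{u + 1, u}))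
    (Opposite.op V)) ⟨𝟙 V⟩
  refine h.symm.trans ?_
  show (toSheafify (QuotSh.J Scheme.fppfPrecoverage S) (yoneda.obj W ⋙ uliftFunctor.{u + 1, u})).app (Opposite.op V) ⟨𝟙 V ≫ z⟩ = _
  rw [Category.id_comp]

theorem repMap_bijective (V W : Over S) :
    Function.Bijective fun z : V ⟶ W => QuotSh.repMap Scheme.fppfPrecoverage z := by
  haveI := isIso_toSheafify (QuotSh.J Scheme.fppfPrecoverage S) (isSheaf_ulift W)
  refine (Function.Bijective.of_comp_iff' (homSec V (QuotSh.rep Scheme.fppfPrecoverage W)).bijective _).mp ?_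
  rw [show (homSec V (QuotSh.rep Scheme.fppfPrecoverage W) : _ → _) ∘ (fun z => QuotSh.repMap Scheme.fppfPrecoverage z) =
    (fun y => (toSheafify (QuotSh.J Scheme.fppfPrecoverage S) (yoneda.obj W ⋙ uliftFunctor.{u + 1, u})).app (Opposite.op V) y) ∘ (ULift.up : (V ⟶ W) → _) from funext homSec_repMap]
  exact (ConcreteCategory.bijective_of_isIso _).comp Equiv.ulift.symm.bijective

theorem homSec_comp {V W : Over S} {Z : QuotSh.Sh Scheme.fppfPrecoverage S} (z : V ⟶ W) (m : QuotSh.rep Scheme.fppfPrecoverage W ⟶ Z) :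
    homSec V Z (QuotSh.repMap Scheme.fppfPrecoverage z ≫ m) = Z.obj.map z.op (homSec W Z m) := by
  have h1 : homSec V Z (QuotSh.repMap Scheme.fppfPrecoverage z ≫ m) = m.hom.app _ (homSec V _ (QuotSh.repMap Scheme.fppfPrecoverage z)) := by
    rw [homSec_eq, homSec_eq]; rfl
  rw [h1, homSec_repMap, homSec_eq]
  have e : (⟨z⟩ : (yoneda.obj W ⋙ uliftFunctor.{u + 1, u}).obj (Opposite.op V)) =
      (yoneda.obj W ⋙ uliftFunctor.{u + 1, u}).map z.op ⟨𝟙 W⟩ := by
    show (⟨z⟩ : ULift _) = ⟨z ≫ 𝟙 W⟩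
    rw [Category.comp_id]
  rw [e]
  exact ConcreteCategory.congr_hom
    ((toSheafify (QuotSh.J Scheme.fppfPrecoverage S) (yoneda.obj W ⋙ uliftFunctor.{u + 1, u}) ≫ m.hom).naturality z.op) (⟨𝟙 W⟩ : ULift.{u + 1} (W ⟶ W))

variable {S' : Scheme.{u}} (f : S' ⟶ S) (Z : QuotSh.Sh Scheme.fppfPrecoverage S) (T' : Over S) (a : T' ⟶ Over.mk f)
  (φ : QuotSh.rep Scheme.fppfPrecoverage T' ≅ Z ⨯ QuotSh.rep Scheme.fppfPrecoverage (Over.mk f))

theorem existsUnique_lift (hφ : φ.hom ≫ prod.snd = QuotSh.repMap Scheme.fppfPrecoverage a) (T : Over S) (g : Z.obj.obj (Opposite.op T))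
    (x : T ⟶ Over.mk f) :
    ∃! z : T ⟶ T', z ≫ a = x ∧ Z.obj.map z.op (homSec T' Z (φ.hom ≫ prod.fst)) = g := by
  obtain ⟨z, hz⟩ := (repMap_bijective T T').2 (prod.lift ((homSec T Z).symm g) (QuotSh.repMap Scheme.fppfPrecoverage x) ≫ φ.inv)
  change QuotSh.repMap Scheme.fppfPrecoverage z = _ at hz
  have hc : ∀ w : T ⟶ T', QuotSh.repMap Scheme.fppfPrecoverage (w ≫ a) = QuotSh.repMap Scheme.fppfPrecoverage w ≫ QuotSh.repMap Scheme.fppfPrecoverage a := fun w => by
    simp only [QuotSh.repMap, Functor.map_comp, Functor.whiskerRight_comp]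
  refine ⟨z, ⟨(repMap_bijective T (Over.mk f)).1 ?_, ?_⟩, ?_⟩
  · show QuotSh.repMap Scheme.fppfPrecoverage (z ≫ a) = QuotSh.repMap Scheme.fppfPrecoverage x
    rw [hc, ← hφ, hz, Category.assoc, φ.inv_hom_id_assoc, prod.lift_snd]
  · rw [← homSec_comp, hz, Category.assoc, φ.inv_hom_id_assoc, prod.lift_fst, Equiv.apply_symm_apply]
  · rintro w ⟨hwa, hwg⟩
    refine (repMap_bijective T T').1 ?_
    show QuotSh.repMap Scheme.fppfPrecoverage w = QuotSh.repMap Scheme.fppfPrecoverage z
    rw [hz, Iso.eq_comp_inv]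
    apply prod.hom_ext
    · rw [prod.lift_fst, Category.assoc, Equiv.eq_symm_apply, homSec_comp, hwg]
    · rw [prod.lift_snd, Category.assoc, hφ, ← hc, hwa]

theorem isSeparatedFor_singleton {A B : Over S} (g : A ⟶ B) [Flat g.left] [Surjective g.left]
    [LocallyOfFinitePresentation g.left] : (Presieve.singleton g).IsSeparatedFor Z.obj := by
  have hG := Z.property
  rw [isSheaf_iff_isSheaf_of_type] at hG
  rw [Presieve.isSeparatedFor_iff_generate]
  refine (hG _ ?_).isSeparatedFor
  rw [GrothendieckTopology.mem_over_iff]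
  refine GrothendieckTopology.superset_covering _ ?_
    (Precoverage.generate_mem_toGrothendieck (Scheme.Hom.singleton_mem_fppfPrecoverage g.left))
  rintro Y g' ⟨Z', h, _, ⟨⟩, rfl⟩
  rw [Sieve.overEquiv_iff]
  exact ⟨A, Over.homMk h (by simp), g, ⟨⟩, Over.OverMorphism.ext rfl⟩

end

/-- On the big fppf site of a scheme `S`, in the case where the local representing objects are affine
over the cover (so that the canonical descent datum is effective): if `Z` is an fppf sheaf over `S`
and, for an fppf cover `S' ⟶ S`, the sheaf `Z ×_S S'` is represented over `S'` by a scheme affine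
over `S'`, then `Z` is represented by a scheme affine over `S`. -/
theorem result {S S' : Scheme.{u}} (f : S' ⟶ S)
    [Flat f] [Surjective f] [LocallyOfFinitePresentation f]
    (Z : QuotSh.Sh Scheme.fppfPrecoverage S)
    (T' : Over S) (a : T' ⟶ Over.mk f) [IsAffineHom a.left]
    (φ : QuotSh.rep Scheme.fppfPrecoverage T' ≅ Z ⨯ QuotSh.rep Scheme.fppfPrecoverage (Over.mk f))
    (hφ : φ.hom ≫ prod.snd = QuotSh.repMap Scheme.fppfPrecoverage a) :
    ∃ T : Over S, IsAffineHom T.hom ∧ Nonempty (QuotSh.rep Scheme.fppfPrecoverage T ≅ Z) := by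
  have key := existsUnique_lift f Z T' a φ hφ
  haveI hsmall : FunctorToTypes.Small.{u} Z.obj := by
    rintro ⟨T⟩
    let P : Over S := Over.mk (pullback.fst T.hom f ≫ T.hom)
    let i : P ⟶ T := Over.homMk (pullback.fst T.hom f)
    let x : P ⟶ Over.mk f := Over.homMk (pullback.snd T.hom f) pullback.condition.symm
    haveI : Flat i.left := inferInstanceAs (Flat (pullback.fst T.hom f))
    haveI : Surjective i.left := inferInstanceAs (Surjective (pullback.fst T.hom f))
    haveI : LocallyOfFinitePresentation i.left := inferInstanceAs (LocallyOfFinitePresentation (pullback.fst T.hom f))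
    refine small_of_injective.{u} (f := fun g : Z.obj.obj (Opposite.op T) => (key P (Z.obj.map i.op g) x).exists.choose)
      fun g₁ g₂ h => ?_
    refine (isSeparatedFor_singleton Z i).ext fun Y j hj => ?_
    obtain ⟨⟩ := hj
    rw [← (key P (Z.obj.map i.op g₁) x).exists.choose_spec.2, ← (key P (Z.obj.map i.op g₂) x).exists.choose_spec.2]
    exact congrArg (fun w : P ⟶ T' => Z.obj.map w.op _) h
  let G : (Over S)ᵒᵖ ⥤ Type u := FunctorToTypes.shrink.{u} Z.obj
  let ν : G ⋙ uliftFunctor.{u + 1, u} ≅ Z.obj :=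
    NatIso.ofComponents (fun X => (Equiv.ulift.trans (equivShrink.{u} _).symm).toIso) (by
      intro X Y g
      ext z
      show (equivShrink _).symm (equivShrink _ (Z.obj.map g ((equivShrink _).symm z.down))) = _
      rw [Equiv.symm_apply_apply]
      rfl)
  have hG : Presheaf.IsSheaf (Scheme.fppfTopology.over S) G := by
    have h := (Presheaf.isSheaf_of_iso_iff ν).mpr Z.property
    rw [isSheaf_iff_isSheaf_of_type] at h ⊢
    exact (Presieve.isSheaf_comp_uliftFunctor_iff _).mp h
  let W : Over S := Over.mk (𝟙 S)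
  let q : G ⟶ yoneda.obj W :=
    { app := fun T => ↾fun _ => Over.homMk T.unop.hom (Category.comp_id _)
      naturality := fun T T'' g => by
        ext z
        apply Over.OverMorphism.ext
        exact (Over.w g.unop).symm }
  let p : Over.mk f ⟶ W := Over.homMk f (Category.comp_id _)
  have hT : ∀ {T : Over S} (w w' : T ⟶ W), w = w' := fun w w' => Over.OverMorphism.ext
    (((Category.comp_id w.left).symm.trans (Over.w w)).trans ((Over.w w').symm.trans (Category.comp_id w'.left)))
  have hrep : Groth.Agent.H15Magnet.AffineRep.IsRep q p a (equivShrink.{u} _ (homSec T' Z (φ.hom ≫ prod.fst))) := by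
    refine ⟨hT _ _, fun T g x _ => ?_⟩
    refine existsUnique_congr (fun z => ?_) |>.mp (key T ((equivShrink.{u} _).symm g) x)
    refine and_congr Iff.rfl ?_
    simp only [G, FunctorToTypes.shrink, Equiv.eq_symm_apply]
    simp
  haveI : Flat p.left := ‹Flat f›
  haveI : Surjective p.left := ‹Surjective f›
  haveI : LocallyOfFinitePresentation p.left := ‹LocallyOfFinitePresentation f›
  obtain ⟨T, j, e, hj, -⟩ := Groth.Agent.H15Magnet.AffineRep.exists_rep hG hrep
  refine ⟨T, ?_, ⟨?_⟩⟩
  · have h1 : j.left = T.hom := (Category.comp_id _).symm.trans (Over.w j)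
    rw [← h1]
    exact hj
  · exact (presheafToSheaf _ _).mapIso (Functor.isoWhiskerRight e.toIso uliftFunctor.{u + 1, u} ≪≫ ν) ≪≫
      (sheafificationIso Z).symm


end Groth.Agent.S5232
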