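import Groth.Statements.S5233
import Groth.Agent.H06Desc.SchDominant

set_option autoImplicit false
set_option linter.style.haveILetI false
set_option backward.isDefEq.respectTransparency false
open CategoryTheory CategoryTheory.Limits AlgebraicGeometry
universe u
open GrpQ

namespace Groth.Agent.S5233

theorem toImage_ker_eq_bot {X Y : Scheme.{u}} (f : X ⟶ Y) [QuasiCompact f] : f.toImage.ker = ⊥ := by
  refine Scheme.IdealSheafData.ext_of_iSup_eq_top
    (fun U : Y.affineOpens => ⟨f.imageι ⁻¹ᵁ U.1, U.2.preimage f.imageι⟩) ?_ fun U => ?_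
  · rw [← Scheme.Hom.preimage_iSup, iSup_affineOpens_eq_top, Scheme.Hom.preimage_top]
  · rw [Scheme.Hom.ker_apply, Scheme.IdealSheafData.ideal_bot, Pi.bot_apply,
      ← RingHom.injective_iff_ker_eq_bot]
    exact f.toImage_app_injective U

theorem ker_fst_of_flat {X X' Z : Scheme.{u}} (π : X ⟶ X') (h : Z ⟶ X') [Flat π] [QuasiCompact h] :
    (pullback.fst π h).ker = h.ker.comap π := by
  let a := pullback.fst π h.imageι
  let q := pullback.snd π h.imageι
  haveI : IsSchemeTheoreticallyDominant h.toImage := ⟨toImage_ker_eq_bot h⟩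
  have hpb : IsPullback (pullback.fst q h.toImage ≫ a) (pullback.snd q h.toImage) π h := by
    have := (IsPullback.of_hasPullback q h.toImage).flip.paste_vert (IsPullback.of_hasPullback π h.imageι).flip
    rw [Scheme.Hom.toImage_imageι] at this
    exact this.flip
  rw [← hpb.isoPullback_inv_fst, Scheme.Hom.ker_comp_of_isIso]
  rw [Scheme.Hom.ker_comp, Scheme.Hom.ker_eq_bot (pullback.fst q h.toImage), Scheme.IdealSheafData.map_bot,
    Scheme.IdealSheafData.ker_fst_of_isClosedImmersion, Scheme.IdealSheafData.ker_subschemeι]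

theorem eq_of_ker {X : Scheme.{u}} (Y Y' : Subobject X) [IsClosedImmersion Y.arrow] [IsClosedImmersion Y'.arrow]
    (h : Y.arrow.ker = Y'.arrow.ker) : Y = Y' :=
  le_antisymm
    (Subobject.le_of_comm (IsClosedImmersion.lift Y'.arrow Y.arrow h.ge) (IsClosedImmersion.lift_fac _ _ _))
    (Subobject.le_of_comm (IsClosedImmersion.lift Y.arrow Y'.arrow h.le) (IsClosedImmersion.lift_fac _ _ _))

theorem pullback_closed {X X' : Scheme.{u}} (f : X ⟶ X') (Y : Subobject X') [IsClosedImmersion Y.arrow] :
    IsClosedImmersion ((Subobject.pullback f).obj Y).arrow ∧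
      ((Subobject.pullback f).obj Y).arrow.ker = Y.arrow.ker.comap f := by
  have hp := (Subobject.isPullback f Y).flip
  refine ⟨MorphismProperty.of_isPullback hp.flip inferInstance, ?_⟩
  rw [← hp.isoPullback_hom_fst, Scheme.Hom.ker_comp_of_isIso,
    Scheme.IdealSheafData.ker_fst_of_isClosedImmersion]


/-- For schemes, with (M) the faithfully flat quasi-compact morphisms and (N) the closed immersions: if
`π : X ⟶ X'` is flat, surjective and quasi-compact (so `X' = X/R` for its kernel pair `R ⇉ X`), then
`Y' ↦ π⁻¹(Y')` is a bijection from closed subschemes of `X'` onto the closed subschemes of `X`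
stable under `R`. -/
theorem result {X X' : Scheme.{u}} (π : X ⟶ X')
    [Flat π] [Surjective π] [QuasiCompact π] :
    Set.BijOn (Subobject.pullback π).obj
      {Y' : Subobject X' | IsClosedImmersion Y'.arrow}
      {Y : Subobject X | IsClosedImmersion Y.arrow ∧
        (Subobject.pullback (pullback.fst π π)).obj Y = (Subobject.pullback (pullback.snd π π)).obj Y} := by
  refine ⟨fun Y' hY' => ?_, fun Y₁ h₁ Y₂ h₂ he => ?_, fun Y hY => ?_⟩
  · haveI : IsClosedImmersion Y'.arrow := hY'
    refine ⟨(pullback_closed π Y').1, ?_⟩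
    rw [← Subobject.pullback_comp, ← Subobject.pullback_comp, pullback.condition]
  · haveI : IsClosedImmersion Y₁.arrow := h₁
    haveI : IsClosedImmersion Y₂.arrow := h₂
    refine eq_of_ker _ _ (H06Desc.comap_injective_of_flat_surjective π ?_)
    show Y₁.arrow.ker.comap π = Y₂.arrow.ker.comap π
    rw [← (pullback_closed π Y₁).2, ← (pullback_closed π Y₂).2]
    exact congrArg (fun S : Subobject X => S.arrow.ker) he
  · obtain ⟨hY, hR⟩ := hY
    haveI := hY
    let h := Y.arrow ≫ π
    haveI : IsClosedImmersion (Subobject.mk h.ker.subschemeι).arrow := by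
      rw [← Subobject.underlyingIso_hom_comp_eq_mk]; infer_instance
    refine ⟨Subobject.mk h.ker.subschemeι, inferInstanceAs (IsClosedImmersion (Subobject.mk h.ker.subschemeι).arrow), ?_⟩
    haveI := (pullback_closed π (Subobject.mk h.ker.subschemeι)).1
    refine eq_of_ker _ _ ?_
    rw [(pullback_closed π (Subobject.mk h.ker.subschemeι)).2, ← Subobject.underlyingIso_hom_comp_eq_mk,
      Scheme.Hom.ker_comp_of_isIso, Scheme.IdealSheafData.ker_subschemeι, ← ker_fst_of_flat]
    have hpb : IsPullback (pullback.fst (pullback.snd π π) Y.arrow ≫ pullback.fst π π)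
        (pullback.snd (pullback.snd π π) Y.arrow) π h :=
      ((IsPullback.of_hasPullback (pullback.snd π π) Y.arrow).flip.paste_vert
        (IsPullback.of_hasPullback π π).flip).flip
    rw [← hpb.isoPullback_inv_fst, Scheme.Hom.ker_comp_of_isIso, Scheme.Hom.ker_comp,
      Scheme.IdealSheafData.ker_fst_of_isClosedImmersion, ← (pullback_closed (pullback.snd π π) Y).2, ← hR,
      (pullback_closed (pullback.fst π π) Y).2]
    exact H06Desc.map_comap_of_flat_surjective (pullback.fst π π) _

end Groth.Agent.S5233
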