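import Groth.Statements.S5234
import Groth.Agent.H13Desc.Flat
import Mathlib.AlgebraicGeometry.Morphisms.LocalFlatDescent

set_option autoImplicit false
open CategoryTheory CategoryTheory.Limits AlgebraicGeometry MonoidalCategory
universe u
open RedSub

namespace Groth.Agent.S5234


open CartesianMonoidalCategory SemiCartesianMonoidalCategory in
/-- (ii) ⇔ (iii), for schemes with the fppf topology: let `G` be an `S`-group scheme which is faithfully
flat and locally of finite presentation over `S`, acting on `X` so that `X` is formally principal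
homogeneous. Then `X` is a torsor (its structure map is faithfully flat and locally of finite
presentation) if and only if `X` has a point over some faithfully flat, locally finitely presented
`S' ⟶ S`. -/
theorem result {S : Scheme.{u}} {G X : Over S} [GrpObj G]
    (a : AlgGrp.Action G X)
    [Flat G.hom] [Surjective G.hom] [LocallyOfFinitePresentation G.hom]
    (hX : IsIso (lift a.act (snd G X))) :
    RedSub.IsTorsor a ↔
      ∃ S' : Over S, Surjective S'.hom ∧ Flat S'.hom ∧ LocallyOfFinitePresentation S'.hom ∧
        Nonempty (S' ⟶ X) := by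
  open CartesianMonoidalCategory in
  constructor
  · rintro ⟨h1, h2, h3, -⟩
    exact ⟨X, h1, h2, h3, ⟨𝟙 X⟩⟩
  · rintro ⟨S', hs, hf, hp, ⟨s⟩⟩
    set h : G ⊗ X ⟶ X ⊗ X := lift a.act (snd G X) with hh
    let θ : G ⊗ S' ⟶ X ⊗ S' := lift (lift (fst G S') (snd G S' ≫ s) ≫ a.act) (snd G S')
    let w : X ⊗ S' ⟶ G ⊗ X := lift (fst X S') (snd X S' ≫ s) ≫ inv h
    let ψ : X ⊗ S' ⟶ G ⊗ S' := lift (w ≫ fst G X) (snd X S')
    have hwh : w ≫ h = lift (fst X S') (snd X S' ≫ s) := by simp [w]
    have hw1 : w ≫ a.act = fst X S' := by
      have := congrArg (· ≫ fst X X) hwh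
      simpa [hh] using this
    have hw2 : w ≫ snd G X = snd X S' ≫ s := by
      have := congrArg (· ≫ snd X X) hwh
      simpa [hh] using this
    have hψθ : ψ ≫ θ = 𝟙 _ := by
      refine CartesianMonoidalCategory.hom_ext _ _ ?_ (by simp [ψ, θ])
      have e : ψ ≫ lift (fst G S') (snd G S' ≫ s) = w := by
        refine CartesianMonoidalCategory.hom_ext _ _ (by simp [ψ]) ?_
        simp [ψ, hw2]
      simp only [θ, Category.assoc, lift_fst, reassoc_of% e, hw1, Category.id_comp]
    have hθψ : θ ≫ ψ = 𝟙 _ := by
      refine CartesianMonoidalCategory.hom_ext _ _ ?_ (by simp [ψ, θ])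
      have e : θ ≫ w = lift (fst G S') (snd G S' ≫ s) := by
        rw [← cancel_mono h, Category.assoc, hwh]
        refine CartesianMonoidalCategory.hom_ext _ _ (by simp [θ, hh]) (by simp [θ, hh])
      simp only [ψ, Category.assoc, lift_fst, reassoc_of% e, Category.id_comp]
    let i : G ⊗ S' ≅ X ⊗ S' := ⟨θ, ψ, hθψ, hψθ⟩
    -- the two projections to `S'`
    have hG1 : Flat (snd G S').left := by
      rw [Over.snd_left]; infer_instance
    have hG2 : Surjective (snd G S').left := by
      rw [Over.snd_left]; infer_instance
    have hG3 : LocallyOfFinitePresentation (snd G S').left := by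
      rw [Over.snd_left]; infer_instance
    have hψi : IsIso ψ.left := ((Over.forget S).mapIso i).isIso_inv
    have hsnd : (snd X S').left = ψ.left ≫ (snd G S').left := by
      rw [← Over.comp_left]; simp [ψ]
    have hX1 : Flat (pullback.snd X.hom S'.hom) := by
      have hh' : Flat (snd X S').left := by rw [hsnd]; infer_instance
      rwa [Over.snd_left] at hh'
    have hX2 : Surjective (pullback.snd X.hom S'.hom) := by
      have hh' : Surjective (snd X S').left := by rw [hsnd]; infer_instance
      rwa [Over.snd_left] at hh'
    have hX3 : LocallyOfFinitePresentation (pullback.snd X.hom S'.hom) := by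
      have hh' : LocallyOfFinitePresentation (snd X S').left := by rw [hsnd]; infer_instance
      rwa [Over.snd_left] at hh'
    refine ⟨?_, ?_, ?_, hX⟩
    · have : Surjective (pullback.snd X.hom S'.hom ≫ S'.hom) := inferInstance
      rw [← pullback.condition] at this
      exact Surjective.of_comp (pullback.fst X.hom S'.hom) X.hom
    · have : Flat (pullback.fst X.hom S'.hom ≫ X.hom) := by
        rw [pullback.condition]; infer_instance
      have : Flat (𝟙 _ ≫ pullback.fst X.hom S'.hom) := by rw [Category.id_comp]; infer_instance
      have : Surjective (𝟙 _ ≫ pullback.fst X.hom S'.hom) := by rw [Category.id_comp]; infer_instance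
      exact H13Desc.flat_of_refinement (pullback.fst X.hom S'.hom) X.hom (𝟙 _)
    · have : IsZariskiLocalAtTarget (@LocallyOfFinitePresentation : MorphismProperty Scheme.{u}) :=
        HasRingHomProperty.instIsZariskiLocalAtTarget _
      have := AlgebraicGeometry.instDescendsAlongSchemeMinMorphismPropertySurjectiveFlatLocallyOfFinitePresentationOfQuasiCompactOfIsZariskiLocalAtTarget
        (@LocallyOfFinitePresentation : MorphismProperty Scheme.{u})
      exact MorphismProperty.of_pullback_snd_of_descendsAlong
        (P := @LocallyOfFinitePresentation) (Q := @Surjective ⊓ @Flat ⊓ @LocallyOfFinitePresentation)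
        ⟨⟨hs, hf⟩, hp⟩ hX3

end Groth.Agent.S5234
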