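import Groth.Statements.S5235
import Mathlib

set_option autoImplicit false
set_option linter.style.haveILetI false
set_option backward.isDefEq.respectTransparency false
open CategoryTheory CategoryTheory.Limits AlgebraicGeometry
universe u
open GrpQ

namespace Groth.Agent.S5235

theorem eq_of_range {X : Scheme.{u}} (Y Y' : Subobject X) [IsOpenImmersion Y.arrow] [IsOpenImmersion Y'.arrow]
    (h : Set.range Y.arrow = Set.range Y'.arrow) : Y = Y' :=
  le_antisymm
    (Subobject.le_of_comm (IsOpenImmersion.lift Y'.arrow Y.arrow h.le) (IsOpenImmersion.lift_fac _ _ _))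
    (Subobject.le_of_comm (IsOpenImmersion.lift Y.arrow Y'.arrow h.ge) (IsOpenImmersion.lift_fac _ _ _))

theorem pullback_open {X X' : Scheme.{u}} (f : X ⟶ X') (Y : Subobject X') [IsOpenImmersion Y.arrow] :
    IsOpenImmersion ((Subobject.pullback f).obj Y).arrow ∧
      Set.range ((Subobject.pullback f).obj Y).arrow = f ⁻¹' Set.range Y.arrow := by
  have hp := (Subobject.isPullback f Y).flip
  refine ⟨MorphismProperty.of_isPullback hp.flip inferInstance, ?_⟩
  rw [← hp.isoPullback_hom_fst, Scheme.Hom.comp_base, TopCat.coe_comp, Set.range_comp,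
    Set.range_eq_univ.mpr hp.isoPullback.hom.surjective, Set.image_univ]
  exact Scheme.Pullback.range_fst f Y.arrow


/-- For schemes, with (M) the faithfully flat quasi-compact morphisms and (N) the open immersions: if `π
: X ⟶ X'` is flat, surjective and quasi-compact, then `Y' ↦ π⁻¹(Y')` is a bijection from open
subschemes of `X'` onto the open subschemes of `X` stable under the kernel pair of `π`. -/
theorem result {X X' : Scheme.{u}} (π : X ⟶ X')
    [Flat π] [Surjective π] [QuasiCompact π] :
    Set.BijOn (Subobject.pullback π).obj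
      {Y' : Subobject X' | IsOpenImmersion Y'.arrow}
      {Y : Subobject X | IsOpenImmersion Y.arrow ∧
        (Subobject.pullback (pullback.fst π π)).obj Y = (Subobject.pullback (pullback.snd π π)).obj Y} := by
  refine ⟨fun Y' hY' => ?_, fun Y₁ h₁ Y₂ h₂ he => ?_, fun Y hY => ?_⟩
  · haveI : IsOpenImmersion Y'.arrow := hY'
    refine ⟨(pullback_open π Y').1, ?_⟩
    rw [← Subobject.pullback_comp, ← Subobject.pullback_comp, pullback.condition]
  · haveI : IsOpenImmersion Y₁.arrow := h₁
    haveI : IsOpenImmersion Y₂.arrow := h₂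
    refine eq_of_range _ _ (π.surjective.preimage_injective ?_)
    rw [← (pullback_open π Y₁).2, ← (pullback_open π Y₂).2]
    exact congrArg (fun S : Subobject X => Set.range S.arrow) he
  · obtain ⟨hY, hR⟩ := hY
    haveI := hY
    have hsat : ∀ x x' : X, π x = π x' → x ∈ Set.range Y.arrow → x' ∈ Set.range Y.arrow := by
      intro x x' hxx hx
      obtain ⟨z, hz1, hz2⟩ := Scheme.Pullback.exists_preimage_pullback x x' hxx
      have h1 : z ∈ Set.range ((Subobject.pullback (pullback.fst π π)).obj Y).arrow := by
        rw [(pullback_open _ Y).2, Set.mem_preimage, hz1]; exact hx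
      rw [hR, (pullback_open _ Y).2, Set.mem_preimage, hz2] at h1
      exact h1
    have hpre : π ⁻¹' (π '' Set.range Y.arrow) = Set.range Y.arrow :=
      Set.Subset.antisymm (fun x' ⟨x, hx, e⟩ => hsat x x' e hx) (Set.subset_preimage_image _ _)
    let V : X'.Opens := ⟨π '' Set.range Y.arrow, (Flat.isQuotientMap_of_surjective π).isOpen_preimage.mp
      (by rw [hpre]; exact Y.arrow.isOpenEmbedding.isOpen_range)⟩
    haveI : IsOpenImmersion (Subobject.mk V.ι).arrow := by
      rw [← Subobject.underlyingIso_hom_comp_eq_mk]; infer_instance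
    refine ⟨Subobject.mk V.ι, inferInstanceAs (IsOpenImmersion (Subobject.mk V.ι).arrow), ?_⟩
    haveI := (pullback_open π (Subobject.mk V.ι)).1
    refine eq_of_range _ _ ?_
    rw [(pullback_open π (Subobject.mk V.ι)).2, ← Subobject.underlyingIso_hom_comp_eq_mk, Scheme.Hom.comp_base,
      TopCat.coe_comp, Set.range_comp,
      Set.range_eq_univ.mpr (Subobject.underlyingIso V.ι).hom.surjective, Set.image_univ,
      Scheme.Opens.range_ι]
    exact hpre

end Groth.Agent.S5235
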