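import Groth.Statements.S5237
import Groth.Agent.H21Quot.Basic

set_option autoImplicit false
open CategoryTheory CategoryTheory.Limits AlgebraicGeometry MonoidalCategory
universe u
open RedSub

namespace Groth.Agent.S5237


open MonObj GrpObj CartesianMonoidalCategory in
/-- For group schemes and the fppf topology: if `q : G ⟶ Q = G/H` is the fppf quotient of `G` by a
normal subgroup `H`, with its group structure, then a homomorphism `G ⟶ K` that kills `H` factors
uniquely through `q`, and the factorisation is a homomorphism. -/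
theorem result {S : Scheme.{u}} {H G Q K : Over S}
    [GrpObj H] [GrpObj G] [GrpObj Q] [GrpObj K]
    (i : H ⟶ G) [IsMonHom i] [Mono i] (hn : AlgGrp.IsNormalHom i)
    (q : G ⟶ Q) [IsMonHom q] (hq : RedSub.IsQuotient i q)
    (f : G ⟶ K) [IsMonHom f] (hf : i ≫ f = 1) :
    ∃! g : Q ⟶ K, q ≫ g = f ∧ IsMonHom g := by
  haveI := hq.1; haveI := hq.2.1; haveI := hq.2.2.1
  obtain ⟨g, hg, hgu⟩ := H21Quot.desc_unique q f fun T a b hab => by
    obtain ⟨n, rfl⟩ := (H21Quot.comp_eq_iff hq a b).mp hab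
    rw [MonObj.mul_comp, Category.assoc, hf, MonObj.comp_one, _root_.mul_one]
  refine ⟨g, ⟨hg, ⟨?_, ?_⟩⟩, fun g' hg' => hgu g' hg'.1⟩
  · rw [← IsMonHom.one_hom (f := q), Category.assoc, hg, IsMonHom.one_hom]
  · haveI := H19Grp.epi_tensorHom_of_fpqc q q
    rw [← cancel_epi (q ⊗ₘ q), ← IsMonHom.mul_hom_assoc, hg, tensorHom_comp_tensorHom_assoc, hg,
      IsMonHom.mul_hom]

end Groth.Agent.S5237
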