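import Groth.Statements.S5238
import Groth.Agent.S2735

set_option autoImplicit false
open CategoryTheory AlgebraicGeometry
universe w u
open GrpQ

namespace Groth.Agent.S5238

open CategoryTheory.Limits Opposite

private theorem singleton_mem (F : Scheme.{u}ᵒᵖ ⥤ Type w)
    (hZ : Scheme.zariskiTopology ≤ Sheaf.finestTopologySingle F)
    (hA : ∀ (T S : Scheme.{u}) [IsAffine T] [IsAffine S] (f : T ⟶ S)
      [Flat f] [Surjective f] [LocallyOfFinitePresentation f] [LocallyQuasiFinite f],
      Presieve.IsSheafFor F (Presieve.singleton f))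
    {T S : Scheme.{u}} [IsAffine T] [IsAffine S] (f : T ⟶ S)
    [Flat f] [Surjective f] [LocallyOfFinitePresentation f] [LocallyQuasiFinite f] :
    Sieve.generate (Presieve.singleton f) ∈ Sheaf.finestTopologySingle F S := by
  have affine : ∀ (Y : Scheme.{u}) [IsAffine Y] (g : Y ⟶ S),
      Presieve.IsSheafFor F ((Sieve.generate (Presieve.singleton f)).pullback g).arrows := by
    intro Y _ g
    rw [← Sieve.pullbackArrows_comm, Presieve.pullback_singleton, ← Presieve.isSheafFor_iff_generate]
    exact hA (pullback f g) Y (pullback.snd f g)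
  have hsep : ∀ (Y₀ : Scheme.{u}) (g : Y₀ ⟶ S) (t₁ t₂ : F.obj (op Y₀)),
      (∀ (Z : Scheme.{u}) (h : Z ⟶ Y₀), (Sieve.generate (Presieve.singleton f)).pullback g h →
        F.map h.op t₁ = F.map h.op t₂) → t₁ = t₂ := by
    intro Y₀ g t₁ t₂ ht
    have hR := hZ _ (Precoverage.generate_mem_toGrothendieck Y₀.affineCover.mem₀) Y₀ (𝟙 Y₀)
    rw [Sieve.pullback_id, ← Presieve.isSheafFor_iff_generate] at hR
    refine hR.isSeparatedFor.ext ?_
    intro W k hk
    obtain ⟨i⟩ := hk
    refine (affine _ (Y₀.affineCover.f i ≫ g)).isSeparatedFor.ext ?_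
    intro Z h hh
    have := ht Z (h ≫ Y₀.affineCover.f i) (by simpa using hh)
    simpa using this
  intro Y g x hx
  have hR := hZ _ (Precoverage.generate_mem_toGrothendieck Y.affineCover.mem₀)
  let u := Y.affineCover.f
  have hmem : ∀ i (Z : Scheme.{u}) (h : Z ⟶ Y.affineCover.X i),
      (Sieve.generate (Presieve.singleton f)).pullback (u i ≫ g) h →
        (Sieve.generate (Presieve.singleton f)).pullback g (h ≫ u i) := by
    intro i Z h hh; simpa using hh
  let xi : ∀ i, Presieve.FamilyOfElements F
      ((Sieve.generate (Presieve.singleton f)).pullback (u i ≫ g)).arrows :=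
    fun i Z h hh ↦ x (h ≫ u i) (hmem i Z h hh)
  have hxi : ∀ i, (xi i).Compatible := by
    intro i Z₁ Z₂ W a₁ a₂ b₁ b₂ hb₁ hb₂ e
    exact hx a₁ a₂ _ _ (by rw [reassoc_of% e])
  let ti : ∀ i, F.obj (op (Y.affineCover.X i)) :=
    fun i ↦ (affine _ (u i ≫ g)).amalgamate (xi i) (hxi i)
  have hti : ∀ i (Z : Scheme.{u}) (h : Z ⟶ Y.affineCover.X i)
      (hh : (Sieve.generate (Presieve.singleton f)).pullback (u i ≫ g) h),
      F.map h.op (ti i) = x (h ≫ u i) (hmem i Z h hh) :=
    fun i Z h hh ↦ (affine _ (u i ≫ g)).valid_glue (hxi i) h hh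
  have hcompat : Presieve.Arrows.Compatible F u ti := by
    intro i j Z gi gj e
    refine hsep Z (gi ≫ u i ≫ g) _ _ fun W h hh ↦ ?_
    have h1 : (Sieve.generate (Presieve.singleton f)).pullback (u i ≫ g) (h ≫ gi) := by
      simpa using hh
    have h2 : (Sieve.generate (Presieve.singleton f)).pullback (u j ≫ g) (h ≫ gj) := by
      simpa [← reassoc_of% e] using hh
    have e1 := hti i W (h ≫ gi) h1
    have e2 := hti j W (h ≫ gj) h2
    simp only [op_comp, Functor.map_comp_apply] at e1 e2
    rw [e1, e2]
    congr 1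
    simp [e]
  have hR' := hR Y (𝟙 Y)
  rw [Sieve.pullback_id, ← Presieve.isSheafFor_iff_generate] at hR'
  obtain ⟨t, ht, -⟩ := (Presieve.isSheafFor_arrows_iff _ _).mp hR' ti hcompat
  refine ⟨t, ?_, fun t' ht' ↦ hsep Y g _ _ fun Z h hh ↦ ?_⟩
  · intro Z h hh
    refine (hR Z h).isSeparatedFor.ext ?_
    rintro V k ⟨W, a, b, ⟨i⟩, e⟩
    have h1 : (Sieve.generate (Presieve.singleton f)).pullback (u i ≫ g) a := by
      show (Sieve.generate (Presieve.singleton f)) (a ≫ u i ≫ g)
      rw [reassoc_of% e]
      exact Sieve.downward_closed _ hh k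
    have e1 : F.map a.op (ti i) = x (a ≫ u i) (hmem i V a h1) := hti i V a h1
    rw [← Functor.map_comp_apply, ← op_comp, ← e, op_comp, Functor.map_comp_apply, ht i, e1]
    have := hx k (𝟙 V) hh (hmem i V a h1) (by simpa using e.symm)
    simpa using this.symm
  · rw [ht' h hh]
    symm
    refine (hR Z h).isSeparatedFor.ext ?_
    rintro V k ⟨W, a, b, ⟨i⟩, e⟩
    have h1 : (Sieve.generate (Presieve.singleton f)).pullback (u i ≫ g) a := by
      show (Sieve.generate (Presieve.singleton f)) (a ≫ u i ≫ g)
      rw [reassoc_of% e]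
      exact Sieve.downward_closed _ hh k
    have e1 : F.map a.op (ti i) = x (a ≫ u i) (hmem i V a h1) := hti i V a h1
    rw [← Functor.map_comp_apply, ← op_comp, ← e, op_comp, Functor.map_comp_apply, ht i, e1]
    have := hx k (𝟙 V) hh (hmem i V a h1) (by simpa using e.symm)
    simpa using this.symm

private theorem affine_mem (F : Scheme.{u}ᵒᵖ ⥤ Type w)
    (hZ : Scheme.zariskiTopology ≤ Sheaf.finestTopologySingle F)
    (hA : ∀ (T S : Scheme.{u}) [IsAffine T] [IsAffine S] (f : T ⟶ S)
      [Flat f] [Surjective f] [LocallyOfFinitePresentation f] [LocallyQuasiFinite f],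
      Presieve.IsSheafFor F (Presieve.singleton f))
    {T : Scheme.{u}} [IsAffine T] (R' : Presieve T) (hR' : R' ∈ Scheme.fppfPrecoverage T) :
    Sieve.generate R' ∈ Sheaf.finestTopologySingle F T := by
  obtain ⟨hsurj, hP⟩ := hR'
  have hpt : ∀ s : T, ∃ (Y : Scheme.{u}) (q : Y ⟶ T), R' q ∧ s ∈ Set.range q := fun s ↦ by
    obtain ⟨_, q, ⟨hq⟩, y, hy⟩ := hsurj s
    exact ⟨_, _, hq, y, hy⟩
  choose Y q hq hs using hpt
  haveI : ∀ s, Flat (q s) := fun s ↦ (hP (hq s)).1
  haveI : ∀ s, LocallyOfFinitePresentation (q s) := fun s ↦ (hP (hq s)).2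
  haveI : Flat (Sigma.desc q) := IsZariskiLocalAtSource.sigmaDesc fun _ ↦ inferInstance
  haveI : LocallyOfFinitePresentation (Sigma.desc q) :=
    IsZariskiLocalAtSource.sigmaDesc fun _ ↦ inferInstance
  haveI : Surjective (Sigma.desc q) := Surjective.sigmaDesc_of_union_range_eq_univ
    (Set.eq_univ_of_forall fun s ↦ Set.mem_iUnion.mpr ⟨s, hs s⟩)
  obtain ⟨S', g, h, hh, _, _, _, _, haff⟩ := Groth.Agent.S2735.result (Sigma.desc q)
  haveI := haff inferInstance
  have hcov : Sieve.generate (sigmaOpenCover Y).presieve₀ ∈ Scheme.zariskiTopology (∐ Y) :=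
    Precoverage.generate_mem_toGrothendieck (sigmaOpenCover Y).mem₀
  refine (Sheaf.finestTopologySingle F).transitive (singleton_mem F hZ hA g) _ ?_
  rintro U _ ⟨_, a, _, ⟨⟩, rfl⟩
  rw [Sieve.pullback_comp]
  refine GrothendieckTopology.pullback_stable _ a ?_
  refine (Sheaf.finestTopologySingle F).transitive
    (hZ _ (GrothendieckTopology.pullback_stable _ h hcov)) _ ?_
  rintro U k ⟨W, b, _, ⟨s⟩, eb⟩
  suffices hm : (Sieve.generate R').pullback g k by
    rw [Sieve.pullback_eq_top_of_mem _ hm]; exact GrothendieckTopology.top_mem _ _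
  show Sieve.generate R' (k ≫ g)
  rw [← hh, ← Category.assoc, ← eb, Category.assoc]
  refine ⟨_, b, q s, hq s, ?_⟩
  exact congrArg (b ≫ ·) (Sigma.ι_desc q s).symm

/-- A presheaf of sets on schemes is a sheaf for the fppf topology (the topology generated by jointly
surjective families of flat morphisms locally of finite presentation) if and only if it is a Zariski
sheaf and satisfies the sheaf condition for every single morphism of affine schemes `T ⟶ S` which is
flat, surjective, locally of finite presentation and locally quasi-finite. (Between affine schemes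
such a morphism is faithfully flat, of finite presentation and quasi-finite; that these quasi-finite
covers suffice rests on the existence of quasi-finite flat quasi-sections of flat surjective
morphisms locally of finite presentation.) -/
theorem result (F : Scheme.{u}ᵒᵖ ⥤ Type w) :
    Presheaf.IsSheaf Scheme.fppfTopology F ↔
      Presheaf.IsSheaf Scheme.zariskiTopology F ∧
        ∀ (T S : Scheme.{u}) [IsAffine T] [IsAffine S] (f : T ⟶ S)
          [Flat f] [Surjective f] [LocallyOfFinitePresentation f] [LocallyQuasiFinite f],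
          Presieve.IsSheafFor F (Presieve.singleton f) := by
  constructor
  · intro h
    have h' := (isSheaf_iff_isSheaf_of_type _ _).mp h
    refine ⟨(isSheaf_iff_isSheaf_of_type _ _).mpr (Presieve.isSheaf_of_le _
      (Precoverage.toGrothendieck_mono Scheme.zariskiPrecoverage_le_fppfPrecoverage) h'), ?_⟩
    intro T S _ _ f _ _ _ _
    rw [Presieve.isSheafFor_iff_generate]
    exact h' _ (Precoverage.generate_mem_toGrothendieck f.singleton_mem_fppfPrecoverage)
  · rintro ⟨hZar, hA⟩
    have hZ : Scheme.zariskiTopology ≤ Sheaf.finestTopologySingle F := fun X R hR Y f ↦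
      (isSheaf_iff_isSheaf_of_type _ _).mp hZar _ (GrothendieckTopology.pullback_stable _ f hR)
    rw [isSheaf_iff_isSheaf_of_type, Precoverage.isSheaf_toGrothendieck_iff_of_isStableUnderBaseChange]
    intro S R hR
    rw [Presieve.isSheafFor_iff_generate]
    suffices hK : Sieve.generate R ∈ Sheaf.finestTopologySingle F S by
      simpa using hK S (𝟙 S)
    refine (Sheaf.finestTopologySingle F).transitive
      (hZ _ (Precoverage.generate_mem_toGrothendieck S.affineCover.mem₀)) _ ?_
    rintro U _ ⟨V, a, _, ⟨i⟩, rfl⟩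
    rw [Sieve.pullback_comp]
    refine GrothendieckTopology.pullback_stable _ a ?_
    let e := S.affineCover.f i
    have hR' : Presieve.pullbackArrows e R ∈ Scheme.fppfPrecoverage (S.affineCover.X i) :=
      Precoverage.pullbackArrows_mem e hR
    rw [← Sieve.pullbackArrows_comm]
    exact affine_mem F hZ hA _ hR'

end Groth.Agent.S5238
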