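import Groth.Statements.S5243
import Mathlib
import Groth.Agent.H19Mult.Mono

set_option autoImplicit false
universe u
open TensorProduct SGA3b
open SGA3b

namespace Groth.Agent.S5243

/-- Let G = Spec A be an R-group of multiplicative type, H = Spec C an affine R-group and u : G ⟶ H a
homomorphism of R-groups, given by the bialgebra map φ : C → A, which is a monomorphism: for every
R-algebra T the induced map on T-valued points G(T) → H(T) is injective. Then u is a closed
immersion, i.e. φ is surjective. (The published statement also asserts that the quotient of H by G
exists and is affine over the base, and that H is a torsor over it; this row states only that u is a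
closed immersion.) (Affine group schemes over an affine base are taken in Hopf-algebra form; base
change is the tensor product; a homomorphism of groups Spec A ⟶ Spec C is a bialgebra map C → A.) -/
theorem result (R : Type u) [CommRing R] (A : Type u) [CommRing A] [HopfAlgebra R A]
    (h : IsMultType R A) (C : Type u) [CommRing C] [HopfAlgebra R C] (φ : C →ₐc[R] A)
    (hmono : ∀ (T : Type u) [CommRing T] [Algebra R T],
      Function.Injective (fun x : A →ₐ[R] T => x.comp (φ : C →ₐ[R] A))) :
    Function.Surjective φ := by
  exact H19Mult.surjective_of_mono h φ hmono

end Groth.Agent.S5243
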