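import Groth.Statements.S5249
import Groth.Agent.H21Diag.NormCent

set_option autoImplicit false
open CategoryTheory MonoidalCategory CartesianMonoidalCategory MonObj GrpObj AlgebraicGeometry
universe u
open SGA3x

namespace Groth.Agent.S5249

/-- Let G be an S-group smooth and affine over S, i : H ⟶ G a subgroup scheme of multiplicative type (H
of multiplicative type and of finite type), j : Z ⟶ G the centralizer and k : N ⟶ G the normalizer
of H in G. Then Z ⟶ G factors through N by a morphism which is an open and closed immersion: the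
centralizer is an open and closed subgroup scheme of the normalizer. -/
theorem result {S : Scheme.{u}} (H G Z N : Over S) [GrpObj H] [GrpObj G] [GrpObj Z] [GrpObj N]
    (hH : SGA3x.IsMultTypeFT H) (hG : Smooth G.hom) (hGa : IsAffineHom G.hom) (i : H ⟶ G) [IsMonHom i] [Mono i]
    (j : Z ⟶ G) (k : N ⟶ G) (hj : Red.IsCentralizerOf i j) (hk : Red.IsNormalizerOf i k) :
    ∃ f : Z ⟶ N, f ≫ k = j ∧ IsOpenImmersion f.left ∧ IsClosedImmersion f.left := by
  have := hGa
  obtain ⟨Z', _, j', hj', hcl, -⟩ := Groth.Agent.H21Diag.exists_centralizer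
    (Groth.Agent.H21Diag.isDiagLoc_of_isMultTypeFT hH) hG i
  obtain ⟨_, _, h1⟩ := id hj
  obtain ⟨_, _, h2⟩ := hj'
  obtain ⟨a, ha⟩ := (h2 Z j).mpr ((h1 Z j).mp ⟨𝟙 Z, Category.id_comp j⟩)
  obtain ⟨b, hb⟩ := (h1 Z' j').mpr ((h2 Z' j').mp ⟨𝟙 Z', Category.id_comp j'⟩)
  have : IsIso a := ⟨b, by rw [← cancel_mono j, Category.assoc, hb, ha, Category.id_comp],
    by rw [← cancel_mono j', Category.assoc, ha, hb, Category.id_comp]⟩
  have : IsIso a.left := inferInstanceAs (IsIso ((Over.forget S).map a))
  have : IsClosedImmersion j.left := by rw [← ha, Over.comp_left]; infer_instance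
  exact Groth.Agent.H21Diag.exists_clopen_immersion i j k hH hj hk

end Groth.Agent.S5249
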