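import Groth.Statements.S5252
import Mathlib
import Groth.Agent.S2987
import Groth.Agent.H19Mult.SplitField

set_option autoImplicit false
set_option linter.style.haveILetI false
set_option backward.isDefEq.respectTransparency false
universe u
open TensorProduct SGA3b
open SGA3b

namespace Groth.Agent.S5252

/-- Let A be an Artinian local ring with residue field k and H = Spec C an affine A-group with C flat
and of finite type over A, whose closed fibre Spec (k ⊗ C) is a k-group of multiplicative type. Then
H is of multiplicative type and isotrivial. (Affine group schemes over an affine base are taken in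
Hopf-algebra form; base change is the tensor product; a homomorphism of groups Spec A ⟶ Spec C is a
bialgebra map C → A.) -/
theorem result (A : Type u) [CommRing A] [IsArtinianRing A] [IsLocalRing A]
    (C : Type u) [CommRing C] [HopfAlgebra A C] [Module.Flat A C] (hft : Algebra.FiniteType A C)
    (h0 : IsMultType (IsLocalRing.ResidueField A) (IsLocalRing.ResidueField A ⊗[A] C)) :
    IsMultType A C ∧ IsIsotrivial A C := by
  let k := IsLocalRing.ResidueField A
  haveI : Algebra.FiniteType A C := hft
  obtain ⟨k', _, _, hfin, hsep, hd⟩ := H19Mult.exists_split_separable (k := k) (A := k ⊗[A] C) inferInstance h0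
  haveI := hfin
  haveI := hsep
  haveI : Algebra.FormallyEtale k k' := Algebra.FormallyEtale.of_isSeparable k k'
  haveI : Algebra.FinitePresentation k k' := Algebra.FinitePresentation.of_finiteType.1 inferInstance
  haveI : Algebra.Etale k k' := {}
  letI : Algebra A k' := ((algebraMap k k').comp (algebraMap A k)).toAlgebra
  haveI : IsScalarTower A k k' := IsScalarTower.of_algebraMap_eq' rfl
  have hk : Function.Surjective (algebraMap A k) := IsLocalRing.residue_surjective
  have hm : IsNilpotent (RingHom.ker (algebraMap A k)) := by
    have : RingHom.ker (algebraMap A k) = IsLocalRing.maximalIdeal A := IsLocalRing.ker_residue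
    rw [this, ← IsLocalRing.jacobson_eq_maximalIdeal (⊥ : Ideal A) bot_ne_top]
    exact IsArtinianRing.isNilpotent_jacobson_bot
  obtain ⟨M, _, -, he⟩ := hd
  obtain ⟨S, _, _, hE, hF, hSfin, hSd⟩ := S2987.lift_cover (A := C) hk hm k'
    ((H19Mult.isDiag_cancel k k').1 ⟨M, inferInstance, he⟩)
  haveI := hF
  refine ⟨⟨{1}, Ideal.span_singleton_one, fun f hf => ?_⟩, S, inferInstance, inferInstance, hE, hSfin hfin, hF, hSd⟩
  obtain ⟨N, _, ⟨eN⟩⟩ := hSd
  let T := Localization.Away f ⊗[A] S
  letI : Algebra S T := Algebra.TensorProduct.rightAlgebra
  obtain ⟨eT⟩ := H19Mult.isDiag_baseChange eN T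
  exact ⟨T, inferInstance, inferInstance, inferInstance, N, inferInstance,
    ⟨(H19Mult.cancelEquiv (R := A) (A := C) (Localization.Away f) T).trans eT⟩⟩

end Groth.Agent.S5252
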