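import Groth.Statements.S5256
import Groth.Agent.H21Diag.FibreTrivial
import Groth.Agent.H21Diag.Actions
-- import your own Groth.Agent.* helpers here

set_option autoImplicit false
open CategoryTheory MonoidalCategory CartesianMonoidalCategory MonObj GrpObj AlgebraicGeometry
universe u
open SGA3x

namespace Groth.Agent.S5256

/-- Let u : H ⟶ G be a homomorphism of S-groups, with H of multiplicative type and of finite type and G
of finite presentation over S (locally of finite presentation, quasi-compact and quasi-separated).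
If for every s ∈ S the homomorphism u_s : H_s ⟶ G_s induced on the fibres at s is central (every
point of G_s commutes with the image of every point of H_s), then u is central. -/
theorem result {S : Scheme.{u}} (H G : Over S) [GrpObj H] [GrpObj G]
    (hH : SGA3x.IsMultTypeFT H) [LocallyOfFinitePresentation G.hom] [QuasiCompact G.hom] [QuasiSeparated G.hom]
    (u : H ⟶ G) [IsMonHom u]
    (hfib : ∀ (s : S) (X : Over (Spec (S.residueField s))) (g : X ⟶ Red.bc (S.fromSpecResidueField s) G)
      (h : X ⟶ Red.bc (S.fromSpecResidueField s) H),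
      g * (h ≫ (Over.pullback (S.fromSpecResidueField s)).map u) = (h ≫ (Over.pullback (S.fromSpecResidueField s)).map u) * g) :
    ∀ (X : Over S) (g : X ⟶ G) (h : X ⟶ H), g * (h ≫ u) = (h ≫ u) * g := by
  intro X g h
  obtain ⟨S', f, hf, hs, -, hloc⟩ := hH
  have : LocallyOfFiniteType G.hom := inferInstance
  have key := H21Diag.action_trivial_of_fibres (a := H21Diag.conjAct u) f
    (fun s' => by
      obtain ⟨U, hU, M, _, -, hiso⟩ := hloc s'
      exact ⟨U, hU, M, inferInstance, hiso⟩) (fun s Y p hp k x => ?_) X h g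
  · rw [H21Diag.lift_conjAct, mul_inv_eq_iff_eq_mul] at key
    exact key.symm
  rw [H21Diag.lift_conjAct, mul_inv_eq_iff_eq_mul]
  let i := S.fromSpecResidueField s
  let τ : Y ⟶ (Over.map i).obj (Over.mk p) := Over.homMk (𝟙 _) (by simp [i, hp])
  let τ' : (Over.map i).obj (Over.mk p) ⟶ Y := Over.homMk (𝟙 _) (by simp [i, hp])
  have hτ : τ ≫ τ' = 𝟙 Y := Over.OverMorphism.ext (Category.id_comp _)
  have h1 := hfib s (Over.mk p) (H21Diag.bcEquiv i G _ (τ' ≫ x)) (H21Diag.bcEquiv i H _ (τ' ≫ k))
  have h2 : H21Diag.bcEquiv i H (Over.mk p) (τ' ≫ k) ≫ (Over.pullback i).map u =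
      H21Diag.bcEquiv i G (Over.mk p) (τ' ≫ k ≫ u) := by
    rw [← Category.assoc]
    exact ((Over.mapPullbackAdj i).homEquiv_naturality_right (τ' ≫ k) u).symm
  rw [h2, ← H21Diag.bcEquiv_mul, ← H21Diag.bcEquiv_mul, ← MonObj.comp_mul, ← MonObj.comp_mul] at h1
  have h3 := congrArg (τ ≫ ·) ((H21Diag.bcEquiv i G (Over.mk p)).injective h1)
  simp only [← Category.assoc, hτ, Category.id_comp] at h3
  exact h3.symm

end Groth.Agent.S5256
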