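import Groth.Statements.S5259
import Groth.Agent.H21Taylor.GrpTransporter

set_option autoImplicit false
set_option synthInstance.maxHeartbeats 100000
set_option maxHeartbeats 1000000
open CategoryTheory MonoidalCategory CartesianMonoidalCategory MonObj GrpObj AlgebraicGeometry
universe u
open SGA3x

namespace Groth.Agent.S5259

/-- Centralizer: Let G be an S-group locally of finite type and quasi-separated over S, H an S-group
which is smooth and of finite presentation over S with connected fibres, and i : H ⟶ G a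
homomorphism which is a monomorphism. Then the centralizer of H in G is representable by a closed
subgroup scheme of G whose immersion into G is of finite presentation. -/
theorem result {S : Scheme.{u}} (G H : Over S) [GrpObj G] [GrpObj H]
    [LocallyOfFiniteType G.hom] [QuasiSeparated G.hom] [Smooth H.hom] [QuasiCompact H.hom] [QuasiSeparated H.hom]
    (hconn : ∀ s : S, ConnectedSpace ↥(Limits.pullback H.hom (S.fromSpecResidueField s)))
    (i : H ⟶ G) [IsMonHom i] [Mono i] :
    ∃ (Z : Over S) (_ : GrpObj Z) (j : Z ⟶ G), Red.IsCentralizerOf i j ∧ IsClosedImmersion j.left ∧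
      LocallyOfFinitePresentation j.left := by
  let δ : G ⟶ G ⊗ G := lift (𝟙 G) (𝟙 G)
  have hδ : δ.left ≫ (fst G G).left = 𝟙 G.left := by
    rw [← Over.comp_left, lift_fst]; rfl
  haveI : Mono δ.left := by
    haveI : Mono (δ.left ≫ (fst G G).left) := hδ.symm ▸ inferInstance
    exact mono_of_mono δ.left (fst G G).left
  haveI : LocallyOfFinitePresentation δ.left := by
    haveI : LocallyOfFinitePresentation (δ.left ≫ (fst G G).left) := hδ.symm ▸ inferInstance
    haveI : LocallyOfFiniteType (fst G G).left :=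
      inferInstanceAs (LocallyOfFiniteType (Limits.pullback.fst G.hom G.hom))
    exact H7Lim.locallyOfFinitePresentation_of_comp δ.left (fst G G).left
  let c : H ⊗ G ⟶ G ⊗ G := lift (snd H G * (fst H G ≫ i)) ((fst H G ≫ i) * snd H G)
  have hc : ∀ (T : Over S) (g : T ⟶ G) (h : T ⟶ H),
      lift h g ≫ c = lift (g * (h ≫ i)) ((h ≫ i) * g) := fun T g h => by
    simp [c, MonObj.comp_mul]
  have hfac : ∀ (T : Over S) (g : T ⟶ G) (h : T ⟶ H),
      (∃ κ : T ⟶ G, κ ≫ δ = lift h g ≫ c) ↔ g * (h ≫ i) = (h ≫ i) * g := by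
    intro T g h
    rw [hc]
    constructor
    · rintro ⟨κ, hκ⟩
      have h1 := congrArg (· ≫ fst G G) hκ
      have h2 := congrArg (· ≫ snd G G) hκ
      simp only [δ, Category.assoc, lift_fst, lift_snd, Category.comp_id] at h1 h2
      exact h1.symm.trans h2
    · intro e
      exact ⟨g * (h ≫ i), by rw [comp_lift, Category.comp_id, ← e]⟩
  obtain ⟨Z, j, hj, hfp, hZ⟩ := H21Taylor.exists_closed_forall_factor_grp hconn c δ
    (fun T g => by rw [hfac]; simp [MonObj.one_comp])
    (fun T g a b ha hb => by
      rw [hfac] at ha hb ⊢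
      rw [MonObj.mul_comp]
      exact (Commute.mul_right ha hb))
  simp only [hfac] at hZ
  haveI : Mono j.left := inferInstance
  haveI : Mono j := Over.mono_of_mono_left j
  have hmem : ∀ {T : Over S} (a : T ⟶ Z), ∀ (X' : Over S) (x : X' ⟶ T) (h : X' ⟶ H),
      (x ≫ a ≫ j) * (h ≫ i) = (h ≫ i) * (x ≫ a ≫ j) := fun a => (hZ _ (a ≫ j)).mp ⟨a, rfl⟩
  obtain ⟨inst, hinst⟩ := H19Grp.exists_grpObj_of_closed j
    ((hZ _ 1).mpr fun X' x h => by rw [MonObj.comp_one, _root_.one_mul, _root_.mul_one])
    (fun T a b => (hZ _ _).mpr fun X' x h => by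
      rw [MonObj.comp_mul]
      exact Commute.mul_left (hmem a X' x h) (hmem b X' x h))
    (fun T a => (hZ _ _).mpr fun X' x h => by
      rw [GrpObj.comp_inv]
      exact Commute.inv_left (hmem a X' x h))
  exact ⟨Z, inst, j, ⟨hinst, inferInstance, hZ⟩, hj, hfp⟩

end Groth.Agent.S5259
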