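import Groth.Statements.S5260
import Groth.Agent.H21Taylor.GrpTransporter

set_option autoImplicit false
set_option synthInstance.maxHeartbeats 100000
set_option maxHeartbeats 1000000
open CategoryTheory MonoidalCategory CartesianMonoidalCategory MonObj GrpObj AlgebraicGeometry
universe u
open SGA3x

namespace Groth.Agent.S5260

theorem exists_inter {S : Scheme.{u}} {G T₁ T₂ : Over S} (t₁ : T₁ ⟶ G) (t₂ : T₂ ⟶ G)
    [IsClosedImmersion t₁.left] [IsClosedImmersion t₂.left]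
    [LocallyOfFinitePresentation t₁.left] [LocallyOfFinitePresentation t₂.left] :
    ∃ (N : Over S) (j : N ⟶ G), IsClosedImmersion j.left ∧ LocallyOfFinitePresentation j.left ∧
      ∀ (X : Over S) (g : X ⟶ G), (∃ z : X ⟶ N, z ≫ j = g) ↔
        (∃ z : X ⟶ T₁, z ≫ t₁ = g) ∧ ∃ z : X ⟶ T₂, z ≫ t₂ = g := by
  let p₁ := Limits.pullback.fst t₁.left t₂.left
  let p₂ := Limits.pullback.snd t₁.left t₂.left
  let N : Over S := Over.mk ((p₁ ≫ t₁.left) ≫ G.hom)
  let j : N ⟶ G := Over.homMk (p₁ ≫ t₁.left) rfl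
  refine ⟨N, j, inferInstanceAs (IsClosedImmersion (p₁ ≫ t₁.left)),
    inferInstanceAs (LocallyOfFinitePresentation (p₁ ≫ t₁.left)), fun X g => ⟨?_, ?_⟩⟩
  · rintro ⟨z, rfl⟩
    let z₁ : N ⟶ T₁ := Over.homMk p₁ (by
      show p₁ ≫ T₁.hom = (p₁ ≫ t₁.left) ≫ G.hom
      rw [Category.assoc, Over.w t₁])
    let z₂ : N ⟶ T₂ := Over.homMk p₂ (by
      show p₂ ≫ T₂.hom = (p₁ ≫ t₁.left) ≫ G.hom
      rw [Limits.pullback.condition, Category.assoc, Over.w t₂])
    exact ⟨⟨z ≫ z₁, (Category.assoc _ _ _).trans (congrArg (z ≫ ·) (Over.OverMorphism.ext rfl))⟩,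
      ⟨z ≫ z₂, (Category.assoc _ _ _).trans (congrArg (z ≫ ·) (Over.OverMorphism.ext Limits.pullback.condition.symm))⟩⟩
  · rintro ⟨⟨z₁, h₁⟩, ⟨z₂, h₂⟩⟩
    have e : z₁.left ≫ t₁.left = z₂.left ≫ t₂.left := by
      rw [← Over.comp_left, ← Over.comp_left, h₁, h₂]
    refine ⟨Over.homMk (Limits.pullback.lift z₁.left z₂.left e) ?_, Over.OverMorphism.ext ?_⟩
    · show Limits.pullback.lift z₁.left z₂.left e ≫ (p₁ ≫ t₁.left) ≫ G.hom = X.hom
      rw [Category.assoc, Limits.pullback.lift_fst_assoc, Over.w t₁, Over.w z₁]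
    · show Limits.pullback.lift z₁.left z₂.left e ≫ p₁ ≫ t₁.left = g.left
      rw [Limits.pullback.lift_fst_assoc, ← Over.comp_left, h₁]

/-- Normalizer: Let G be an S-group locally of finite type and quasi-separated over S, H an S-group
which is smooth and of finite presentation over S with connected fibres, and i : H ⟶ G a
homomorphism which is a monomorphism. Then the normalizer of H in G is representable by a closed
subgroup scheme of G whose immersion into G is of finite presentation. -/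
theorem result {S : Scheme.{u}} (G H : Over S) [GrpObj G] [GrpObj H]
    [LocallyOfFiniteType G.hom] [QuasiSeparated G.hom] [Smooth H.hom] [QuasiCompact H.hom] [QuasiSeparated H.hom]
    (hconn : ∀ s : S, ConnectedSpace ↥(Limits.pullback H.hom (S.fromSpecResidueField s)))
    (i : H ⟶ G) [IsMonHom i] [Mono i] :
    ∃ (N : Over S) (_ : GrpObj N) (j : N ⟶ G), Red.IsNormalizerOf i j ∧ IsClosedImmersion j.left ∧
      LocallyOfFinitePresentation j.left := by
  haveI : LocallyOfFinitePresentation i.left := by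
    haveI : LocallyOfFinitePresentation (i.left ≫ G.hom) := (Over.w i).symm ▸ inferInstance
    exact H7Lim.locallyOfFinitePresentation_of_comp i.left G.hom
  obtain ⟨T₁, t₁, ht₁, hfp₁, hT₁⟩ := H21Taylor.exists_closed_forall_factor_grp hconn
    (snd H G * (fst H G ≫ i) * (snd H G)⁻¹) i
    (fun T g => ⟨1, by simp [MonObj.one_comp, MonObj.comp_mul, GrpObj.comp_inv]⟩)
    (fun T g a b => by
      rintro ⟨κ, hκ⟩ ⟨κ', hκ'⟩
      refine ⟨κ * κ', ?_⟩
      rw [MonObj.mul_comp, hκ, hκ']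
      simp only [MonObj.comp_mul, GrpObj.comp_inv, lift_fst_assoc, lift_snd, MonObj.mul_comp]
      group)
  obtain ⟨T₂, t₂, ht₂, hfp₂, hT₂⟩ := H21Taylor.exists_closed_forall_factor_grp hconn
    ((snd H G)⁻¹ * (fst H G ≫ i) * snd H G) i
    (fun T g => ⟨1, by simp [MonObj.one_comp, MonObj.comp_mul, GrpObj.comp_inv]⟩)
    (fun T g a b => by
      rintro ⟨κ, hκ⟩ ⟨κ', hκ'⟩
      refine ⟨κ * κ', ?_⟩
      rw [MonObj.mul_comp, hκ, hκ']
      simp only [MonObj.comp_mul, GrpObj.comp_inv, lift_fst_assoc, lift_snd, MonObj.mul_comp]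
      group)
  obtain ⟨N, j, hj, hfp, hN⟩ := exists_inter t₁ t₂
  have hN' : ∀ (X : Over S) (g : X ⟶ G), (∃ z : X ⟶ N, z ≫ j = g) ↔
      ∀ (X' : Over S) (x : X' ⟶ X) (h : X' ⟶ H),
        (∃ h' : X' ⟶ H, (x ≫ g) * (h ≫ i) * (x ≫ g)⁻¹ = h' ≫ i) ∧
        (∃ h' : X' ⟶ H, (x ≫ g)⁻¹ * (h ≫ i) * (x ≫ g) = h' ≫ i) := by
    intro X g
    rw [hN, hT₁, hT₂]
    simp only [MonObj.comp_mul, GrpObj.comp_inv, lift_fst_assoc, lift_snd]
    constructor
    · rintro ⟨A, B⟩ X' x h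
      exact ⟨(A X' x h).imp fun _ e => e.symm, (B X' x h).imp fun _ e => e.symm⟩
    · intro A
      exact ⟨fun X' x h => (A X' x h).1.imp fun _ e => e.symm, fun X' x h => (A X' x h).2.imp fun _ e => e.symm⟩
  haveI : Mono j.left := inferInstance
  haveI : Mono j := Over.mono_of_mono_left j
  have hmem : ∀ {T : Over S} (a : T ⟶ N), ∀ (X' : Over S) (x : X' ⟶ T) (h : X' ⟶ H),
      (∃ h' : X' ⟶ H, (x ≫ a ≫ j) * (h ≫ i) * (x ≫ a ≫ j)⁻¹ = h' ≫ i) ∧
      (∃ h' : X' ⟶ H, (x ≫ a ≫ j)⁻¹ * (h ≫ i) * (x ≫ a ≫ j) = h' ≫ i) :=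
    fun a => (hN' _ (a ≫ j)).mp ⟨a, rfl⟩
  obtain ⟨inst, hinst⟩ := H19Grp.exists_grpObj_of_closed j
    ((hN' _ 1).mpr fun X' x h => by
      rw [MonObj.comp_one, _root_.one_mul, inv_one, _root_.mul_one, _root_.one_mul, _root_.mul_one]
      exact ⟨⟨h, rfl⟩, ⟨h, rfl⟩⟩)
    (fun T a b => (hN' _ _).mpr fun X' x h => by
      rw [MonObj.comp_mul]
      obtain ⟨hb, hb'⟩ := (hmem b X' x h).1
      obtain ⟨ha, ha'⟩ := (hmem a X' x h).2
      refine ⟨?_, ?_⟩
      · obtain ⟨h', e⟩ := (hmem a X' x hb).1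
        exact ⟨h', by rw [← e, ← hb']; group⟩
      · obtain ⟨h', e⟩ := (hmem b X' x ha).2
        exact ⟨h', by rw [← e, ← ha']; group⟩)
    (fun T a => (hN' _ _).mpr fun X' x h => by
      rw [GrpObj.comp_inv, _root_.inv_inv]
      exact ⟨(hmem a X' x h).2, (hmem a X' x h).1⟩)
  exact ⟨N, inst, j, ⟨hinst, inferInstance, hN'⟩, hj, hfp⟩

end Groth.Agent.S5260
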