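import Groth.Statements.S5261
import Groth.Agent.H21Diag.Mono
-- import your own Groth.Agent.* helpers here

set_option autoImplicit false
open CategoryTheory MonoidalCategory CartesianMonoidalCategory MonObj GrpObj AlgebraicGeometry
universe u
open SGA3x

namespace Groth.Agent.S5261

/-- Let u : H ⟶ G be a homomorphism of S-groups, with H of multiplicative type and of finite type, and
suppose S locally Noetherian or G locally of finite presentation over S. If for every s ∈ S the
homomorphism u_s : H_s ⟶ G_s induced on the fibres at s is a monomorphism, then u is a monomorphism. -/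
theorem result {S : Scheme.{u}} (H G : Over S) [GrpObj H] [GrpObj G]
    (hH : SGA3x.IsMultTypeFT H) (hG : IsLocallyNoetherian S ∨ LocallyOfFinitePresentation G.hom)
    (u : H ⟶ G) [IsMonHom u]
    (hfib : ∀ s : S, Mono ((Over.pullback (S.fromSpecResidueField s)).map u).left) :
    Mono u.left := by
  obtain ⟨S', f, hf, hs, -, hloc⟩ := hH
  have hone : ∀ {S₀ : Scheme.{u}} (i : S₀ ⟶ S) (Z : Over S) [GrpObj Z] (T : Over S₀),
      H21Diag.bcEquiv i Z T 1 = 1 := by
    intro S₀ i Z _ T
    have h2 := H21Diag.bcEquiv_mul i Z T 1 1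
    rw [_root_.mul_one] at h2
    exact left_eq_mul.mp h2
  have hu : Mono u := ⟨fun {Y} a b hab => ?_⟩
  · exact inferInstance
  refine H21Diag.ext_on_charts f (P := fun U => ∃ (M : Type) (_ : AddCommGroup M), AddGroup.FG M ∧
    Nonempty (Grp.mk (Red.bc (U.ι ≫ f) H) ≅ Grp.mk (Red.DS (U : Scheme.{u}) M))) hloc a b ?_
  rintro U ⟨M, _, hfg, ⟨e⟩⟩ B _ y T
  obtain ⟨χa, hχa⟩ := H21Diag.gpt_surjective e y (T ≫ a)
  obtain ⟨χb, hχb⟩ := H21Diag.gpt_surjective e y (T ≫ b)
  let χb' : Multiplicative M →* B := χb.comp invMonoidHom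
  have hinv : χb * χb' = 1 := MonoidHom.ext fun m => by
    change χb m * χb m⁻¹ = 1
    rw [← map_mul, mul_inv_cancel, map_one]
  have heq : H21Diag.gpt e y χa ≫ u = H21Diag.gpt e y χb ≫ u := by
    rw [hχa, hχb, Category.assoc, Category.assoc, hab]
  have hmulu : ∀ χ χ' : Multiplicative M →* B,
      H21Diag.gpt e y (χ * χ') ≫ u = (H21Diag.gpt e y χ ≫ u) * (H21Diag.gpt e y χ' ≫ u) := fun χ χ' =>
    (congrArg (· ≫ u) (H21Diag.gpt_mul e y χ χ')).trans (MonObj.mul_comp _ _ u)
  have hk : H21Diag.gpt e y (χa * χb') ≫ u = 1 := by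
    rw [hmulu, heq, ← hmulu, hinv, H21Diag.gpt_one]
    exact MonObj.one_comp u
  have h1 : χa * χb' = 1 := H21Diag.chart_kernel e u y (fun K D _ _ ψ φ χ hχ => by
    let y' := Spec.map (CommRingCat.ofHom (φ.comp ψ)) ≫ y
    let z : Spec (CommRingCat.of K) ⟶ S := Spec.map (CommRingCat.ofHom ψ) ≫ y ≫ U.ι ≫ f
    have hz : y' ≫ U.ι ≫ f = Spec.map (CommRingCat.ofHom φ) ≫ z := by
      simp only [y', z, Category.assoc, H21Diag.specMap_comp_assoc]
    let s := z.base (IsLocalRing.closedPoint K)
    let i := S.fromSpecResidueField s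
    let p : Spec (CommRingCat.of D) ⟶ Spec (S.residueField s) := Spec.map (CommRingCat.ofHom φ) ≫
      Spec.map (Scheme.descResidueField (Scheme.stalkClosedPointTo z))
    have hp : p ≫ i = y' ≫ U.ι ≫ f := by
      rw [Category.assoc, Scheme.descResidueField_stalkClosedPointTo_fromSpecResidueField, ← hz]
    let t : (Over.map i).obj (Over.mk p) ⟶ Over.mk (y' ≫ U.ι ≫ f) := Over.homMk (𝟙 _) (by
      change 𝟙 _ ≫ y' ≫ U.ι ≫ f = p ≫ i
      rw [Category.id_comp, hp])
    let g := t ≫ H21Diag.gpt e y' χ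
    have h2 : H21Diag.bcEquiv i H (Over.mk p) g ≫ (Over.pullback i).map u =
        (1 : Over.mk p ⟶ Red.bc i H) ≫ (Over.pullback i).map u := by
      refine ((Over.mapPullbackAdj i).homEquiv_naturality_right g u).symm.trans ?_
      rw [MonObj.one_comp, Category.assoc, hχ, MonObj.comp_one]
      exact hone i G _
    have := hfib s
    have : Mono ((Over.pullback i).map u) := Over.mono_of_mono_left _
    have h3 : g = 1 := (H21Diag.bcEquiv i H (Over.mk p)).injective
      (((cancel_mono _).mp h2).trans (hone i H _).symm)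
    let t' : Over.mk (y' ≫ U.ι ≫ f) ⟶ (Over.map i).obj (Over.mk p) := Over.homMk (𝟙 _) (by
      change 𝟙 _ ≫ p ≫ i = y' ≫ U.ι ≫ f
      rw [Category.id_comp, hp])
    have htt : t' ≫ t = 𝟙 _ := Over.OverMorphism.ext (Category.id_comp _)
    refine H21Diag.gpt_injective e y' ?_
    rw [H21Diag.gpt_one]
    have h4 := congrArg (t' ≫ ·) h3
    simp only [g, MonObj.comp_one] at h4
    exact ((Category.id_comp _).symm.trans ((congrArg (· ≫ H21Diag.gpt e y' χ) htt.symm).trans
      (Category.assoc _ _ _))).trans h4) _ hk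
  have h5 : χa = χb := by
    have h6 := congrArg (· * χb) h1
    rwa [_root_.mul_assoc, _root_.mul_comm χb', hinv, _root_.mul_one, _root_.one_mul] at h6
  rw [← hχa, ← hχb, h5]

end Groth.Agent.S5261
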