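import Groth.Statements.S5262
import Groth.Agent.H19Mult.FiniteHom
import Groth.Agent.H19Mult.HenselHom

set_option autoImplicit false
set_option linter.style.haveILetI false
set_option backward.isDefEq.respectTransparency false
universe u
open TensorProduct SGA3b
open SGA3b

namespace Groth.Agent.S5262

open WithConv Coalgebra IsLocalRing
open Groth.Agent.H19Mult

theorem map_le_jacobson {A U : Type u} [CommRing A] [IsLocalRing A] [CommRing U] [Algebra A U] [Module.Finite A U] :
    (maximalIdeal A).map (algebraMap A U) ≤ Ideal.jacobson ⊥ := by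
  refine le_sInf fun P hP => ?_
  haveI : P.IsMaximal := hP.2
  haveI : (P.comap (algebraMap A U)).IsMaximal := Ideal.isMaximal_comap_of_isIntegral_of_isMaximal P
  rw [Ideal.map_le_iff_le_comap, IsLocalRing.eq_maximalIdeal (I := P.comap (algebraMap A U)) inferInstance]

theorem mem_map_of_coefs {A : Type u} [CommRing A] {B : Type u} [CommRing B] [HopfAlgebra A B] (I : Ideal A)
    {T : Type u} [CommRing T] [Algebra A T] {M : Type u} [CommGroup M]
    (e : (T ⊗[A] B) ≃ₐc[T] MonoidAlgebra T M) {z : T ⊗[A] B}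
    (h : ∀ m, coefL m (e z) ∈ I.map (algebraMap A T)) : z ∈ I.map (algebraMap A (T ⊗[A] B)) := by
  have h1 := Ideal.mem_map_of_mem (e.symm : MonoidAlgebra T M →ₐ[T] T ⊗[A] B).toRingHom
    (mem_map_of_forall_coef_mem h)
  rw [Ideal.map_map, AlgHom.toRingHom_eq_coe, AlgHom.comp_algebraMap, Ideal.map_map,
    ← IsScalarTower.algebraMap_eq] at h1
  simpa using h1

theorem coefs_mem_of_mem_map {A : Type u} [CommRing A] {B : Type u} [CommRing B] [HopfAlgebra A B] (I : Ideal A)
    {T : Type u} [CommRing T] [Algebra A T] {M : Type u} [CommGroup M]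
    (e : (T ⊗[A] B) ≃ₐc[T] MonoidAlgebra T M) {z : T ⊗[A] B}
    (h : z ∈ I.map (algebraMap A (T ⊗[A] B))) (m : M) : coefL m (e z) ∈ I.map (algebraMap A T) := by
  refine linearMap_mem_of_mem_map (coefL m ∘ₗ (e : (T ⊗[A] B) →ₐ[T] MonoidAlgebra T M).toLinearMap) ?_
  rwa [Ideal.map_map, ← IsScalarTower.algebraMap_eq]

theorem uniq {A : Type u} [CommRing A] [IsLocalRing A] {B : Type u} [CommRing B] [HopfAlgebra A B]
    {C : Type u} [CommRing C] [HopfAlgebra A C] [Module.Finite A C] (hH : SGA3b.IsMultType A C)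
    {U : Type u} [CommRing U] [Algebra A U] [Module.Finite A U] {M : Type u} [CommGroup M]
    (e : (U ⊗[A] B) ≃ₐc[U] MonoidAlgebra U M) (Φ Ψ : (U ⊗[A] C) →ₐc[U] U ⊗[A] B)
    (h : ∀ c, Φ ((1 : U) ⊗ₜ[A] c) - Ψ ((1 : U) ⊗ₜ[A] c) ∈ (maximalIdeal A).map (algebraMap A (U ⊗[A] B))) (c : C) :
    Φ ((1 : U) ⊗ₜ[A] c) = Ψ ((1 : U) ⊗ₜ[A] c) := by
  have h1 : restr ((e : (U ⊗[A] B) →ₐc[U] MonoidAlgebra U M).comp Φ) =
      restr ((e : (U ⊗[A] B) →ₐc[U] MonoidAlgebra U M).comp Ψ) :=
    (isHomD_restr _).eq_of_jacobson (isHomD_restr _) (commConv_of_isMultType hH U)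
      (J := (maximalIdeal A).map (algebraMap A U)) map_le_jacobson fun m c => by
        show coefL m (e (Φ ((1 : U) ⊗ₜ[A] c))) - coefL m (e (Ψ ((1 : U) ⊗ₜ[A] c))) ∈ _
        rw [← map_sub, ← map_sub]
        exact coefs_mem_of_mem_map _ e (h c) m
  exact EquivLike.injective e (DFunLike.congr_fun h1 c)

theorem common_split (A : Type u) [CommRing A] [HenselianLocalRing A]
    (B : Type u) [CommRing B] [HopfAlgebra A B] [Module.Finite A B] (hG : SGA3b.IsMultType A B)
    (C : Type u) [CommRing C] [HopfAlgebra A C] [Module.Finite A C] (hH : SGA3b.IsMultType A C) :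
    ∃ (S : Type u) (_ : CommRing S) (_ : Algebra A S) (_ : HenselianLocalRing S), Algebra.Etale A S ∧
      Module.Finite A S ∧ Module.FaithfullyFlat A S ∧ SGA3b.IsDiag S (S ⊗[A] B) ∧ SGA3b.IsDiag S (S ⊗[A] C) := by
  obtain ⟨T, _, _, _, het, hfin, hff, M, _, ⟨e⟩⟩ := exists_local_splitting A B inferInstance hG
  haveI := het
  haveI := hfin
  haveI := hff
  obtain ⟨S, _, _, hS, het', hfin', hff', hd⟩ :=
    exists_local_splitting T (T ⊗[A] C) inferInstance (isMultType_baseChange hH T)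
  haveI := het'
  haveI := hfin'
  haveI := hff'
  letI : Algebra A S := ((algebraMap T S).comp (algebraMap A T)).toAlgebra
  haveI : IsScalarTower A T S := IsScalarTower.of_algebraMap_eq' rfl
  exact ⟨S, inferInstance, inferInstance, hS, Algebra.Etale.comp A T S, Module.Finite.trans T S,
    Module.FaithfullyFlat.trans A T S, ⟨M, inferInstance, isDiag_baseChange e S⟩,
    (isDiag_cancel (R := A) (A := C) T S).1 hd⟩


/-- Full faithfulness of the reduction functor. Let A be a henselian local ring with residue field k,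
and G = Spec B, H = Spec C two A-groups of multiplicative type with B and C finite over A. Then
reduction to the closed fibre is a bijection from homomorphisms of A-groups G ⟶ H (bialgebra maps C
→ B) to homomorphisms of k-groups G₀ ⟶ H₀: two bialgebra maps C → B with the same reduction are
equal, and every bialgebra map k ⊗ C → k ⊗ B over k is a reduction. (The published statement is an
equivalence of categories between groups of multiplicative type finite over A and over k; this row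
states only full faithfulness, i.e. that reduction is bijective on homomorphisms.) (Affine group
schemes over an affine base are taken in Hopf-algebra form; base change is the tensor product; a
homomorphism of groups Spec A ⟶ Spec C is a bialgebra map C → A.) -/
theorem result (A : Type u) [CommRing A] [HenselianLocalRing A]
    (B : Type u) [CommRing B] [HopfAlgebra A B] [Module.Finite A B] (hG : IsMultType A B)
    (C : Type u) [CommRing C] [HopfAlgebra A C] [Module.Finite A C] (hH : IsMultType A C) :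
    (∀ φ ψ : C →ₐc[A] B, (∀ c : C, (1 : IsLocalRing.ResidueField A) ⊗ₜ[A] (φ c) =
        (1 : IsLocalRing.ResidueField A) ⊗ₜ[A] (ψ c)) → φ = ψ) ∧
    (∀ φ₀ : (IsLocalRing.ResidueField A ⊗[A] C) →ₐc[IsLocalRing.ResidueField A] (IsLocalRing.ResidueField A ⊗[A] B),
      ∃ φ : C →ₐc[A] B, ∀ c : C, φ₀ ((1 : IsLocalRing.ResidueField A) ⊗ₜ[A] c) =
        (1 : IsLocalRing.ResidueField A) ⊗ₜ[A] (φ c)) := by
  classical
  obtain ⟨S, _, _, hS, het, hfin, hff, ⟨M, _, ⟨eB⟩⟩, ⟨N, _, ⟨eC⟩⟩⟩ := common_split A B hG C hH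
  haveI := het
  haveI := hfin
  haveI := hff
  have hinj := Module.FaithfullyFlat.tensorProduct_mk_injective (A := A) (B := S) B
  have hmapr : ∀ (U : Type u) [CommRing U] [Algebra A U] {y : B},
      y ∈ (maximalIdeal A).map (algebraMap A B) →
      (1 : U) ⊗ₜ[A] y ∈ (maximalIdeal A).map (algebraMap A (U ⊗[A] B)) := fun U _ _ y hy => by
    have h1 := Ideal.mem_map_of_mem (Algebra.TensorProduct.includeRight : B →ₐ[A] U ⊗[A] B).toRingHom hy
    rwa [Ideal.map_map, AlgHom.toRingHom_eq_coe, AlgHom.comp_algebraMap] at h1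
  refine ⟨fun φ ψ hφψ => BialgHom.ext fun c => hinj ?_, fun φ₀ => ?_⟩
  · exact uniq hH eB (Bialgebra.TensorProduct.map (BialgHom.id S S) φ)
      (Bialgebra.TensorProduct.map (BialgHom.id S S) ψ) (fun c => by
        show (1 : S) ⊗ₜ[A] φ c - (1 : S) ⊗ₜ[A] ψ c ∈ _
        rw [← TensorProduct.tmul_sub]
        exact hmapr S (mem_map_of_one_tmul_eq (hφψ c))) c
  let k := ResidueField A
  let mS := (maximalIdeal A).map (algebraMap A S)
  haveI : IsLocalHom (algebraMap A S) := by
    refine ⟨fun a ha => ?_⟩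
    by_contra hna
    obtain ⟨P, hP⟩ := PrimeSpectrum.comap_surjective_of_faithfullyFlat (A := A) (B := S) ⟨maximalIdeal A, inferInstance⟩
    have : a ∈ P.asIdeal.comap (algebraMap A S) := by
      rw [show P.asIdeal.comap (algebraMap A S) = maximalIdeal A from congrArg PrimeSpectrum.asIdeal hP]
      exact (mem_maximalIdeal a).2 hna
    exact P.isPrime.ne_top (Ideal.eq_top_of_isUnit_mem _ this ha)
  have hmS : mS = maximalIdeal S := Algebra.FormallyUnramified.map_maximalIdeal
  haveI : mS.IsPrime := by rw [hmS]; infer_instance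
  let S₀ := S ⧸ mS
  let i : k →ₐ[A] S₀ := Ideal.Quotient.liftₐ _ (Algebra.ofId A S₀) fun a ha => by
    show algebraMap A S₀ a = 0
    rw [IsScalarTower.algebraMap_apply A S S₀, Ideal.Quotient.algebraMap_eq, Ideal.Quotient.eq_zero_iff_mem]
    exact Ideal.mem_map_of_mem _ ha
  obtain ⟨Ψ₀, hΨ₀⟩ := exists_bcHom' φ₀ i
  obtain ⟨e₀, he₀⟩ := exists_chart_map eB S₀
  have hlift : ∀ z : k ⊗[A] B, ∃ b : B, (1 : k) ⊗ₜ[A] b = z := fun z => by
    induction z using TensorProduct.induction_on with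
    | zero => exact ⟨0, TensorProduct.tmul_zero _ _⟩
    | tmul r b =>
      obtain ⟨a, rfl⟩ := IsLocalRing.residue_surjective r
      exact ⟨a • b, by rw [← TensorProduct.smul_tmul, Algebra.smul_def, mul_one]; rfl⟩
    | add u w hu hw =>
      obtain ⟨p, rfl⟩ := hu
      obtain ⟨q, rfl⟩ := hw
      exact ⟨p + q, TensorProduct.tmul_add _ _ _⟩
  choose b hb using fun c : C => hlift (φ₀ ((1 : k) ⊗ₜ[A] c))
  obtain ⟨G₁, hG₁, hG₁v⟩ := exists_lift_split (T₀ := S₀) eC
    (restr ((e₀ : (S₀ ⊗[A] B) →ₐc[S₀] MonoidAlgebra S₀ M).comp Ψ₀)) (isHomD_restr _)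
  obtain ⟨ΦG, hΦG⟩ := hG₁.exists_bialgHom
  let G : (S ⊗[A] C) →ₐc[S] S ⊗[A] B := (eB.symm : MonoidAlgebra S M →ₐc[S] S ⊗[A] B).comp ΦG
  have hxb : ∀ c, G ((1 : S) ⊗ₜ[A] c) - (1 : S) ⊗ₜ[A] b c ∈ (maximalIdeal A).map (algebraMap A (S ⊗[A] B)) :=
    fun c => mem_map_of_coefs _ eB fun m => by
      rw [map_sub, map_sub]
      show coefL m (eB (eB.symm (ΦG ((1 : S) ⊗ₜ[A] c)))) - _ ∈ mS
      rw [BialgEquiv.apply_symm_apply, hΦG, one_smul, ← Ideal.Quotient.eq]
      show algebraMap S S₀ (coefL m (G₁ c)) = algebraMap S S₀ (coefL m (eB ((1 : S) ⊗ₜ[A] b c)))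
      rw [hG₁v, ← he₀]
      show coefL m (e₀ (Ψ₀ ((1 : S₀) ⊗ₜ[A] c))) = _
      rw [hΨ₀, ← hb, mapA_tmul, map_one, mapA_tmul, map_one]
  let U := S ⊗[A] S
  haveI : Module.Finite A U := inferInstance
  obtain ⟨eU, -⟩ := exists_chart_map eB U
  have hagree : ∀ c, mapA (A := B) (Algebra.TensorProduct.includeLeft : S →ₐ[A] U) (G ((1 : S) ⊗ₜ[A] c)) =
      mapA (A := B) (Algebra.TensorProduct.includeRight : S →ₐ[A] U) (G ((1 : S) ⊗ₜ[A] c)) := by
    intro c
    obtain ⟨Ψ₁, hΨ₁⟩ := exists_bcHom' G (Algebra.TensorProduct.includeLeft : S →ₐ[A] U)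
    obtain ⟨Ψ₂, hΨ₂⟩ := exists_bcHom' G (Algebra.TensorProduct.includeRight : S →ₐ[A] U)
    have hmem : ∀ (j : S →ₐ[A] U) (c : C), mapA (A := B) j (G ((1 : S) ⊗ₜ[A] c)) - (1 : U) ⊗ₜ[A] b c ∈
        (maximalIdeal A).map (algebraMap A (U ⊗[A] B)) := by
      intro j c
      have h1 := Ideal.mem_map_of_mem (mapA (A := B) j).toRingHom (hxb c)
      rw [Ideal.map_map, AlgHom.toRingHom_eq_coe, AlgHom.comp_algebraMap] at h1
      simpa [map_sub] using h1
    have h1 := uniq hH eU Ψ₁ Ψ₂ (fun c => by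
      rw [hΨ₁, hΨ₂]
      have := sub_mem (hmem Algebra.TensorProduct.includeLeft c) (hmem Algebra.TensorProduct.includeRight c)
      rwa [sub_sub_sub_cancel_right] at this) c
    rwa [hΨ₁, hΨ₂] at h1
  obtain ⟨φ, hφ⟩ := exists_hom_of_desc G hagree
  refine ⟨φ, fun c => ?_⟩
  have h1 := hxb c
  rw [← hφ, ← TensorProduct.tmul_sub] at h1
  have h2 : φ c - b c ∈ (maximalIdeal A).map (algebraMap A B) := by
    letI : Algebra B (S ⊗[A] B) := Algebra.TensorProduct.rightAlgebra
    haveI : Module.FaithfullyFlat B (B ⊗[A] S) := inferInstance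
    have h3 := Ideal.mem_map_of_mem (Algebra.TensorProduct.comm A S B).toAlgHom.toRingHom h1
    rw [Ideal.map_map, AlgHom.toRingHom_eq_coe, AlgHom.comp_algebraMap, IsScalarTower.algebraMap_eq A B (B ⊗[A] S),
      ← Ideal.map_map] at h3
    rw [← Ideal.comap_map_eq_self_of_faithfullyFlat (B := B ⊗[A] S) ((maximalIdeal A).map (algebraMap A B)), Ideal.mem_comap]
    simpa using h3
  rw [← hb]
  symm
  rw [← sub_eq_zero, ← TensorProduct.tmul_sub]
  show (Ideal.Quotient.mk (maximalIdeal A) 1) ⊗ₜ[A] (φ c - b c) = 0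
  refine (TensorProduct.quotTensorEquivQuotSMul B (maximalIdeal A)).injective ?_
  rw [map_zero, TensorProduct.quotTensorEquivQuotSMul_mk_tmul, one_smul, Submodule.Quotient.mk_eq_zero,
    Ideal.smul_top_eq_map, Submodule.restrictScalars_mem]
  exact h2

end Groth.Agent.S5262
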