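import Groth.Statements.S5263
import Groth.Agent.H21Weil.HomScheme
import Groth.Agent.H21Diag.TransporterSub
import Groth.Agent.H21Diag.FpqcLocal
import Groth.Agent.H21Diag.Cover
import Groth.Agent.H21Diag.HomEtale
import Groth.Agent.H18Torsor.Basic
import Mathlib.AlgebraicGeometry.Morphisms.LocalFlatDescent

set_option autoImplicit false
open CategoryTheory MonoidalCategory CartesianMonoidalCategory MonObj GrpObj AlgebraicGeometry CategoryTheory.Limits
universe u
open SGA3x

set_option backward.isDefEq.respectTransparency false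

namespace Groth.Agent.S5263

theorem flat_diag (M : Type) [AddCommGroup M] : Flat (Red.diag (ULift.{u} ℤ) M).hom :=
  (Flat.SpecMap_iff (f := CommRingCat.ofHom (algebraMap (ULift.{u} ℤ) (MonoidAlgebra (ULift.{u} ℤ) (Multiplicative M))))).mpr
    (RingHom.flat_algebraMap_iff.mpr inferInstance)

theorem finite_of_monoidAlgebra {B : Type u} [CommRing B] [Nontrivial B] {M : Type} [AddCommGroup M]
    (h : Module.Finite B (MonoidAlgebra B (Multiplicative M))) : Finite M :=
  have := Module.Finite.finite_basis (MonoidAlgebra.basis (Multiplicative M) B)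
  Finite.of_equiv _ Multiplicative.toAdd

theorem finite_chart {S U : Scheme.{u}} {u₀ : U ⟶ S} {G : Over S} [GrpObj G] [IsFinite G.hom] {M : Type}
    [AddCommGroup M] (e : Grp.mk (Red.bc u₀ G) ≅ Grp.mk (Red.DS U M)) {B : Type u} [CommRing B] [Nontrivial B]
    (y : Spec (CommRingCat.of B) ⟶ U) : Finite M := by
  obtain ⟨θ, hθ, -, hsnd⟩ := H21Diag.exists_chart_iso e y
  have : IsFinite (pullback.snd G.hom (y ≫ u₀)) := MorphismProperty.pullback_snd _ _ inferInstance
  have h : IsFinite (θ ≫ pullback.snd G.hom (y ≫ u₀)) := inferInstance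
  rw [hsnd] at h
  have h' := (IsFinite.SpecMap_iff _).mp h
  rw [CommRingCat.hom_ofHom] at h'
  refine finite_of_monoidAlgebra (B := B) (RingHom.finite_algebraMap.mp ?_)
  convert h' using 1
  all_goals rfl

theorem local_chart {S T : Scheme.{u}} {g : T ⟶ S} {G H A : Over S} [GrpObj G] [GrpObj H] [IsFinite G.hom]
    [IsFinite H.hom] [IsAffineHom A.hom] (υ : G ⊗ A ⟶ H) (hA : AutFam.RepresentsHom G H A υ) {t : T} {U : T.Opens}
    (htU : t ∈ U) {M M' : Type} [AddCommGroup M] [AddCommGroup M'] [AddGroup.FG M']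
    (e : Grp.mk (Red.bc (U.ι ≫ g) G) ≅ Grp.mk (Red.DS (U : Scheme.{u}) M))
    (e' : Grp.mk (Red.bc (U.ι ≫ g) H) ≅ Grp.mk (Red.DS (U : Scheme.{u}) M')) :
    ∃ V : T.Opens, t ∈ V ∧ IsFinite (pullback.snd A.hom (V.ι ≫ g)) ∧ Etale (pullback.snd A.hom (V.ι ≫ g)) := by
  obtain ⟨V, hV, htV, hVU⟩ := exists_isAffineOpen_mem_and_subset (U := U) (x := t) htU
  have : Nonempty (V : Scheme.{u}) := ⟨⟨t, htV⟩⟩
  have : Nonempty (Spec Γ(T, V)) := ⟨hV.isoSpec.hom.base ⟨t, htV⟩⟩
  have : Nontrivial Γ(T, V) := PrimeSpectrum.nontrivial (Classical.arbitrary (Spec Γ(T, V)))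
  let y : Spec (CommRingCat.of Γ(T, V)) ⟶ (U : Scheme.{u}) := hV.isoSpec.inv ≫ T.homOfLE hVU
  have : Finite M := finite_chart e y
  have : Finite M' := finite_chart e' y
  obtain ⟨h1, h2⟩ := H21Diag.finite_etale_chart e e' υ hA y
  have he : V.ι ≫ g = hV.isoSpec.hom ≫ y ≫ U.ι ≫ g := by simp [y]
  refine ⟨V, htV, ?_, ?_⟩
  · rw [he, ← pullbackLeftPullbackSndIso_inv_snd_snd, MorphismProperty.cancel_left_of_respectsIso @IsFinite]
    exact MorphismProperty.pullback_snd _ _ h1
  · rw [he, ← pullbackLeftPullbackSndIso_inv_snd_snd, MorphismProperty.cancel_left_of_respectsIso @Etale]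
    exact MorphismProperty.pullback_snd _ _ h2


/-- Let G and H be S-groups of multiplicative type which are finite over S. Then the functor of group
homomorphisms from G to H is representable by an S-scheme which is finite and etale over S (with its
universal family of homomorphisms). -/
theorem result {S : Scheme.{u}} (G H : Over S) [GrpObj G] [GrpObj H]
    (hG : SGA3x.IsMultTypeFT G) [IsFinite G.hom] (hH : SGA3x.IsMultTypeFT H) [IsFinite H.hom] :
    ∃ (A : Over S) (υ : G ⊗ A ⟶ H), AutFam.RepresentsHom G H A υ ∧ IsFinite A.hom ∧ Etale A.hom := by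
  have : LocallyOfFinitePresentation G.hom := H21Diag.lfp_of_multTypeFT hG
  have : Flat G.hom := H21Diag.of_multTypeFT (@Flat) (fun M => flat_diag M) hG
  obtain ⟨A, υ, hA, haff, -, -⟩ := H21Weil.exists_homScheme G H
  obtain ⟨T, g, hg, hs, hqc, hloc⟩ := H21Diag.exists_common_cover hG hH
  have h : ∀ t : T, ∃ V : T.Opens, t ∈ V ∧
      IsFinite (pullback.snd A.hom (V.ι ≫ g)) ∧ Etale (pullback.snd A.hom (V.ι ≫ g)) := by
    intro t
    obtain ⟨U, htU, ⟨M, _, -, ⟨e⟩⟩, M', _, hfg', ⟨e'⟩⟩ := hloc t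
    exact local_chart υ hA htU e e'
  refine ⟨A, υ, hA, ?_, ?_⟩
  · exact H21Diag.of_fpqc_cover_base (@IsFinite) g hqc A.hom fun t =>
      let ⟨V, hV, h1, _⟩ := h t; ⟨V, hV, h1⟩
  · exact H21Diag.of_fpqc_cover_base (@Etale) g hqc A.hom fun t =>
      let ⟨V, hV, _, h2⟩ := h t; ⟨V, hV, h2⟩

end Groth.Agent.S5263
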