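import Groth.Statements.S5269
import Groth.Agent.H21Desc.TwConstSplit
import Groth.Agent.H21Desc.ConstPullback
import Groth.Agent.S2735
import Groth.Agent.S1482

set_option autoImplicit false
open CategoryTheory MonoidalCategory CartesianMonoidalCategory MonObj GrpObj AlgebraicGeometry
universe u
open SGA3x

namespace Groth.Agent.S5269

set_option linter.style.haveILetI false

open CategoryTheory CategoryTheory.Limits AlgebraicGeometry in
set_option backward.isDefEq.respectTransparency false in
theorem result_aux {S : Scheme.{u}} [IsLocallyNoetherian S] (X : Over S)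
    (hX : TwC.IsTwConst TwC.Topology.fppf X) : TwC.IsTwConst TwC.Topology.etale X := by
  intro s
  obtain ⟨S', f, hflat, hlfp, hs, I, ⟨e⟩⟩ := hX s
  haveI := hflat; haveI := hlfp
  let U₀ : S.Opens := ⟨Set.range f.base, f.isOpenMap.isOpen_range⟩
  have hr : Set.range f ⊆ Set.range U₀.ι := by rw [Scheme.Opens.range_ι]; exact le_refl _
  let f' : S' ⟶ U₀ := IsOpenImmersion.lift U₀.ι f hr
  have hf' : f' ≫ U₀.ι = f := IsOpenImmersion.lift_fac _ _ hr
  haveI : Flat f' := by
    have : Flat (f' ≫ U₀.ι) := hf'.symm ▸ hflat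
    exact MorphismProperty.of_postcomp (W := @Flat) (W' := @IsOpenImmersion) f' U₀.ι inferInstance this
  haveI : LocallyOfFinitePresentation f' := by
    have : LocallyOfFinitePresentation (f' ≫ U₀.ι) := hf'.symm ▸ hlfp
    exact MorphismProperty.of_postcomp (W := @LocallyOfFinitePresentation) (W' := @IsOpenImmersion) f' U₀.ι
      inferInstance this
  haveI : Surjective f' := ⟨fun y => by
    obtain ⟨z, hz⟩ := y.2
    exact ⟨z, Subtype.ext ((congrArg (fun g : S' ⟶ S => g z) hf').trans hz)⟩⟩
  obtain ⟨T₀, g₀, a₀, ha₀, hg₀f, hg₀p, hg₀q, hg₀s, -⟩ := Groth.Agent.S2735.result f'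
  haveI := hg₀f; haveI := hg₀p; haveI := hg₀q; haveI := hg₀s
  obtain ⟨t₀, ht₀⟩ := g₀.surjective ⟨s, hs⟩
  let g : T₀ ⟶ S := g₀ ≫ U₀.ι
  have hgs : g t₀ = s := (congrArg U₀.ι ht₀).trans rfl
  obtain ⟨U, g₂, u, hU, hu, J, -, V, v, hv, -, hex⟩ := Groth.Agent.S1482.result g s (fun _ : Unit => t₀)
    (fun _ _ _ => rfl) (fun _ => hgs) (fun _ => g.quasiFiniteAt t₀)
  haveI := hU
  obtain ⟨w, hw1, hw2⟩ := Scheme.Pullback.exists_preimage_pullback (f := g) (g := g₂) t₀ u (by rw [hgs, hu])
  obtain ⟨j, -⟩ := hex w () hw2 hw1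
  obtain ⟨hvV, hfin, hsnd, huniq, ⟨-, hpi⟩, -⟩ := hv () j
  haveI := hfin
  haveI : IsLocallyNoetherian U := LocallyOfFiniteType.isLocallyNoetherian g₂
  haveI : LocallyConnectedSpace U := Groth.Agent.H17.locallyConnectedSpace_of_locallyNoetherian fun x => by
    obtain ⟨W, hW, hxW, -⟩ := exists_isAffineOpen_mem_and_subset (U := (⊤ : U.Opens)) (x := x) trivial
    have : IsNoetherianRing Γ(U, W) := IsLocallyNoetherian.component_noetherian ⟨W, hW⟩
    haveI : TopologicalSpace.NoetherianSpace (Spec Γ(U, W)) :=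
      (inferInstance : TopologicalSpace.NoetherianSpace (PrimeSpectrum Γ(U, W)))
    exact ⟨W, W.2.mem_nhds hxW, hW.isoSpec.hom.homeomorph.isEmbedding.noetherianSpace⟩
  let O : U.Opens := ⟨connectedComponent u, isOpen_connectedComponent⟩
  haveI : PreconnectedSpace O := Subtype.preconnectedSpace isPreconnected_connectedComponent
  let hV := (V () j).ι ≫ pullback.snd g g₂
  let T : (V () j).toScheme.Opens := hV ⁻¹ᵁ O
  let h : T.toScheme ⟶ O := hV ∣_ O
  haveI : IsFinite h := inferInstance
  haveI : Flat h := inferInstance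
  haveI : LocallyOfFinitePresentation h := inferInstance
  let g₁ : O.toScheme ⟶ S := O.ι ≫ g₂
  let a : T.toScheme ⟶ S' := T.ι ≫ (V () j).ι ≫ pullback.fst g g₂ ≫ a₀
  have ha : a ≫ f = h ≫ g₁ := by
    have e : a₀ ≫ f = g := by rw [← hf', ← Category.assoc, ha₀]
    simp only [a, h, g₁, Category.assoc, e, pullback.condition]
    rw [morphismRestrict_ι_assoc]
    simp only [hV, Category.assoc]
    rfl
  haveI : IsIso e.inv.left := inferInstanceAs (IsIso ((Over.forget _).map e.inv))
  have hP0 : IsPullback (e.inv.left ≫ pullback.fst X.hom f) (Sigma.desc fun _ : I => 𝟙 S') X.hom f :=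
    (IsPullback.of_horiz_isIso (show CommSq e.inv.left (Sigma.desc fun _ : I => 𝟙 S') (pullback.snd X.hom f) (𝟙 S')
      from ⟨by rw [Category.comp_id]; exact Over.w e.inv⟩)).paste_horiz (IsPullback.of_hasPullback X.hom f) |>
      fun hp => by simpa using hp
  let m : (∐ fun _ : I => T.toScheme) ⟶ ∐ fun _ : I => S' := Sigma.desc fun i => a ≫ Sigma.ι (fun _ : I => S') i
  have hm : IsPullback m (Sigma.desc fun _ : I => 𝟙 T.toScheme) (Sigma.desc fun _ : I => 𝟙 S') a :=
    Groth.Agent.H21Desc.isPullback_constAny a I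
  have hP1 := hm.paste_horiz hP0
  rw [ha] at hP1
  let π : (∐ fun _ : I => T.toScheme) ⟶ pullback X.hom g₁ :=
    pullback.lift (m ≫ e.inv.left ≫ pullback.fst X.hom f) (Sigma.desc (fun _ : I => 𝟙 T.toScheme) ≫ h)
      (by rw [hP1.w, Category.assoc])
  have hπ : IsPullback π (Sigma.desc fun _ : I => 𝟙 T.toScheme) (pullback.snd X.hom g₁) h := by
    refine IsPullback.of_right ?_ (pullback.lift_snd _ _ _) (IsPullback.of_hasPullback X.hom g₁)
    rw [pullback.lift_fst]
    exact hP1
  let t : T.toScheme := ⟨⟨v () j, hvV⟩, by change pullback.snd g g₂ (v () j) ∈ connectedComponent u; rw [hsnd]; exact mem_connectedComponent⟩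
  let uO : O.toScheme := ⟨u, mem_connectedComponent⟩
  have ht : h t = uO := Subtype.ext ((congrArg (fun k : T.toScheme ⟶ U => k t) (morphismRestrict_ι hV O)).trans hsnd)
  have huniq' : ∀ y, h y = uO → y = t := fun y hy => by
    refine Subtype.ext (Subtype.ext (huniq _ y.1.2 ?_))
    exact ((congrArg (fun k : T.toScheme ⟶ U => k y) (morphismRestrict_ι hV O)).symm).trans (congrArg O.ι hy)
  have hinj : UniversallyInjective (T.toScheme.fromSpecResidueField t ≫ h) :=
    Groth.Agent.H21Desc.universallyInjective_of_residue (pullback.snd g g₂) O.ι h (T.ι ≫ (V () j).ι)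
      ((morphismRestrict_ι hV O).trans (Category.assoc _ _ _).symm) t hpi
  obtain ⟨e'⟩ := Groth.Agent.H21Desc.nonempty_iso_const (pullback.snd X.hom g₁) h uO t ht huniq' hinj I π hπ
  exact ⟨O, g₁, inferInstance, ⟨uO, hu⟩, I, ⟨e'⟩⟩

/-- Let S be a locally Noetherian scheme and X an S-scheme which is a twisted constant scheme locally
trivial for the fppf topology (every point of S is in the image of a flat, locally finitely
presented S' ⟶ S over which X becomes a constant scheme). Then X is quasi-isotrivial: it becomes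
constant etale-locally on S. -/
theorem result {S : Scheme.{u}} [IsLocallyNoetherian S] (X : Over S)
    (hX : TwC.IsTwConst TwC.Topology.fppf X) : TwC.IsTwConst TwC.Topology.etale X := by
  exact result_aux X hX

end Groth.Agent.S5269
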