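import Groth.Statements.S5270
import Mathlib

set_option autoImplicit false
set_option linter.style.haveILetI false
universe u
open TensorProduct SGA3b
open SGA3b

namespace Groth.Agent.S5270

/-- Injectivity of the map to formal homomorphisms. Let A be a Noetherian ring, separated and complete
for the I-adic topology, H = Spec B an isotrivial A-group of multiplicative type and G = Spec C an
affine A-group. If two homomorphisms H ⟶ G, given by bialgebra maps φ, ψ : C → B, have the same
reduction modulo I^(n+1) for every n ≥ 0, then φ = ψ. (Affine group schemes over an affine base are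
taken in Hopf-algebra form; base change is the tensor product; a homomorphism of groups Spec A ⟶
Spec C is a bialgebra map C → A.) -/
theorem result (A : Type u) [CommRing A] [IsNoetherianRing A] (I : Ideal A) [IsAdicComplete I A]
    (B : Type u) [CommRing B] [HopfAlgebra A B] (hH : IsIsotrivial A B)
    (C : Type u) [CommRing C] [HopfAlgebra A C] (φ ψ : C →ₐc[A] B)
    (h : ∀ (n : ℕ) (c : C), (1 : A ⧸ I ^ (n + 1)) ⊗ₜ[A] (φ c) = (1 : A ⧸ I ^ (n + 1)) ⊗ₜ[A] (ψ c)) :
    φ = ψ := by
  obtain ⟨R', _, _, _, hfin, hff, M, _, ⟨e⟩⟩ := hH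
  haveI := hfin
  haveI := hff
  haveI : IsHausdorff I R' := IsHausdorff.of_le_jacobson I R' (IsAdicComplete.le_jacobson_bot I)
  refine BialgHom.ext fun c => ?_
  apply Module.FaithfullyFlat.tensorProduct_mk_injective (A := A) (B := R') B
  apply e.injective
  apply MonoidAlgebra.coeff_injective
  ext m
  let L : R' ⊗[A] B →ₗ[A] R' :=
    { toFun := fun y => (e y).coeff m
      map_add' := fun x y => by simp
      map_smul' := fun r y => by
        rw [← algebraMap_smul R' r y, map_smul, RingHom.id_apply]
        simp [Algebra.smul_def] }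
  have key : ∀ n : ℕ, L (1 ⊗ₜ φ c) - L (1 ⊗ₜ ψ c) ∈ (I ^ (n + 1) • ⊤ : Submodule A R') := by
    intro n
    have h1 := congrArg (TensorProduct.quotTensorEquivQuotSMul B (I ^ (n + 1))) (h n c)
    rw [← RingHom.map_one (Ideal.Quotient.mk (I ^ (n + 1))), TensorProduct.quotTensorEquivQuotSMul_mk_tmul,
      TensorProduct.quotTensorEquivQuotSMul_mk_tmul, one_smul, one_smul, Submodule.Quotient.eq] at h1
    let T : B →ₗ[A] R' := L ∘ₗ TensorProduct.mk A R' B 1
    have h2 := Submodule.mem_map_of_mem (f := T) h1
    rw [Submodule.map_smul''] at h2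
    have h3 : T (φ c - ψ c) ∈ (I ^ (n + 1) • ⊤ : Submodule A R') :=
      Submodule.smul_mono le_rfl le_top h2
    rw [map_sub] at h3
    exact h3
  have h0 : L (1 ⊗ₜ φ c) - L (1 ⊗ₜ ψ c) = 0 := by
    refine IsHausdorff.haus (inferInstance : IsHausdorff I R') _ fun n => ?_
    rw [SModEq.zero]
    exact Submodule.smul_mono_left (Ideal.pow_le_pow_right (Nat.le_succ n)) (key n)
  exact sub_eq_zero.1 h0

end Groth.Agent.S5270
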