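import Groth.Statements.S5275
import Groth.Agent.H21Diag.MonoLocus

set_option autoImplicit false
open CategoryTheory MonoidalCategory CartesianMonoidalCategory MonObj GrpObj AlgebraicGeometry
universe u
open SGA3x

namespace Groth.Agent.S5275


/-- Let u : G ⟶ H be a homomorphism of S-groups of multiplicative type and of finite type. Then the set
U of points s ∈ S such that u_s : G_s ⟶ H_s is an isomorphism is open and closed in S, and the
homomorphism G|_U ⟶ H|_U induced above U is an isomorphism. -/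
theorem result {S : Scheme.{u}} (G H : Over S) [GrpObj G] [GrpObj H]
    (hG : SGA3x.IsMultTypeFT G) (hH : SGA3x.IsMultTypeFT H) (u : G ⟶ H) [IsMonHom u] :
    ∃ U : S.Opens, IsClosed (U : Set S) ∧
      (∀ s : S, s ∈ U ↔ IsIso ((Over.pullback (S.fromSpecResidueField s)).map u).left) ∧
      IsIso ((Over.pullback U.ι).map u).left := by
  have := H21Diag.isAffineHom_of_multTypeFT hG
  have := H21Diag.isAffineHom_of_multTypeFT hH
  obtain ⟨V, hVc, hV, hV1, hV2⟩ := H21Diag.exists_flat_surjective_locus u hG hH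
  have hcl := H21Diag.isClopen_mono_locus u hG hH
  let W : S.Opens := V ⊓ ⟨_, hcl.2⟩
  refine ⟨W, hVc.inter hcl.1, fun s => ?_, ?_⟩
  · rw [H21Diag.isIso_map_iff, ← H21Diag.kerTriv_iff_mono, ← hV]
    exact ⟨fun h => ⟨h.2, h.1⟩, fun h => ⟨h.2, h.1⟩⟩
  · rw [H21Diag.isIso_map_iff]
    refine ⟨H21Diag.mono_of_kerTriv u hG W fun s hs => hs.2, ?_⟩
    have h := H21Diag.flat_surjective_comp u V.ι (S.homOfLE (inf_le_left : W ≤ V)) hV1 hV2
    rwa [Scheme.homOfLE_ι] at h

end Groth.Agent.S5275
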