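import Groth.Statements.S5276
import Groth.Agent.H21Diag.Iso

set_option autoImplicit false
open CategoryTheory MonoidalCategory CartesianMonoidalCategory MonObj GrpObj AlgebraicGeometry
universe u
open SGA3x

namespace Groth.Agent.S5276


/-- Case 'faithfully flat (flat and surjective)': Let u : G ⟶ H be a homomorphism of S-groups of
multiplicative type and of finite type. Then the set U of points s ∈ S such that u_s : G_s ⟶ H_s is
faithfully flat (flat and surjective) is open and closed in S, and the homomorphism G|_U ⟶ H|_U
induced above U is faithfully flat (flat and surjective). -/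
theorem result {S : Scheme.{u}} (G H : Over S) [GrpObj G] [GrpObj H]
    (hG : SGA3x.IsMultTypeFT G) (hH : SGA3x.IsMultTypeFT H) (u : G ⟶ H) [IsMonHom u] :
    ∃ U : S.Opens, IsClosed (U : Set S) ∧
      (∀ s : S, s ∈ U ↔ (Flat ((Over.pullback (S.fromSpecResidueField s)).map u).left ∧ Surjective ((Over.pullback (S.fromSpecResidueField s)).map u).left)) ∧
      (Flat ((Over.pullback U.ι).map u).left ∧ Surjective ((Over.pullback U.ι).map u).left) := by
  exact H21Diag.exists_flat_surjective_locus u hG hH

end Groth.Agent.S5276
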