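import Groth.Statements.S5277
import Groth.Agent.H19Mult.ConnFibre
import Groth.Agent.H19Mult.Charts

set_option autoImplicit false
set_option linter.style.haveILetI false
set_option backward.isDefEq.respectTransparency false
universe u
open TensorProduct SGA3b
open SGA3b

namespace Groth.Agent.S5277

open Groth.Agent.H19Mult

theorem isTorus_of_isIsotrivial (A : Type u) [CommRing A] (I : Ideal A) (hI : I ≤ Ideal.jacobson ⊥)
    (C : Type u) [CommRing C] [HopfAlgebra A C] (h : SGA3b.IsIsotrivial A C)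
    (h0 : SGA3b.IsTorus (A ⧸ I) ((A ⧸ I) ⊗[A] C)) : SGA3b.IsTorus A C := by
  rcases subsingleton_or_nontrivial A with hA | hA
  · exact ⟨∅, Subsingleton.elim _ _, fun f hf => hf.elim⟩
  obtain ⟨T, _, _, -, -, hff, M, _, ⟨e⟩⟩ := h
  haveI := hff
  obtain ⟨s, hs, h0⟩ := h0
  have hI' : I ≠ ⊤ := fun ht => by
    obtain ⟨m, hm⟩ := Ideal.exists_maximal A
    exact hm.ne_top (top_le_iff.1 ((ht ▸ hI).trans (sInf_le ⟨bot_le, hm⟩)))
  obtain ⟨m, hm, hle⟩ := Ideal.exists_le_maximal I hI'
  haveI : (m.map (Ideal.Quotient.mk I)).IsPrime :=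
    Ideal.map_isPrime_of_surjective (H := hm.isPrime) Ideal.Quotient.mk_surjective (by rwa [Ideal.mk_ker])
  let p₀ : PrimeSpectrum (A ⧸ I) := ⟨m.map (Ideal.Quotient.mk I), inferInstance⟩
  obtain ⟨f, hf, hfp⟩ : ∃ f ∈ s, f ∉ p₀.asIdeal := by
    by_contra hc
    push Not at hc
    exact p₀.isPrime.ne_top (top_le_iff.1 (hs ▸ Ideal.span_le.2 hc))
  obtain ⟨R', _, _, hR', n, ⟨e'⟩⟩ := h0 f hf
  haveI := hR'
  let L := Localization.Away f
  letI : Algebra (A ⧸ I) R' := ((algebraMap L R').comp (algebraMap (A ⧸ I) L)).toAlgebra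
  haveI : IsScalarTower (A ⧸ I) L R' := IsScalarTower.of_algebraMap_eq' rfl
  letI : Algebra A R' := ((algebraMap (A ⧸ I) R').comp (algebraMap A (A ⧸ I))).toAlgebra
  haveI : IsScalarTower A (A ⧸ I) R' := IsScalarTower.of_algebraMap_eq' rfl
  let e₁ : (R' ⊗[A] C) ≃ₐc[R'] MonoidAlgebra R' (Multiplicative (ULift.{u} (Fin n) → ℤ)) :=
    ((cancelEquiv (R := A) (A := C) (A ⧸ I) R').symm.trans
      ((cancelEquiv (R := A ⧸ I) (A := (A ⧸ I) ⊗[A] C) L R').symm.trans e')).trans
      (MonoidAlgebra.domCongrBialgEquiv R' R'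
        (AddEquiv.toMultiplicative (LinearEquiv.funCongrLeft ℤ ℤ Equiv.ulift).toAddEquiv))
  have hr : p₀ ∈ Set.range (PrimeSpectrum.comap (algebraMap (A ⧸ I) R')) := by
    have h1 : p₀ ∈ (PrimeSpectrum.basicOpen f : Set (PrimeSpectrum (A ⧸ I))) := hfp
    rw [← PrimeSpectrum.localization_away_comap_range L f] at h1
    obtain ⟨q, hq⟩ := h1
    obtain ⟨r, rfl⟩ := PrimeSpectrum.comap_surjective_of_faithfullyFlat (A := L) (B := R') q
    exact ⟨r, by rw [IsScalarTower.algebraMap_eq (A ⧸ I) L R', PrimeSpectrum.comap_comp, ← hq]; rfl⟩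
  obtain ⟨r, hr⟩ := hr
  obtain ⟨q, hq⟩ := PrimeSpectrum.comap_surjective_of_faithfullyFlat (A := A) (B := T) ⟨m, hm.isPrime⟩
  obtain ⟨θ⟩ := nonempty_mulEquiv_of_points e e₁ q r (by
    rw [hq, IsScalarTower.algebraMap_eq A (A ⧸ I) R', PrimeSpectrum.comap_comp_apply, hr]
    refine PrimeSpectrum.ext ?_
    show m = (m.map (Ideal.Quotient.mk I)).comap (Ideal.Quotient.mk I)
    rw [Ideal.comap_map_of_surjective _ Ideal.Quotient.mk_surjective, ← RingHom.ker_eq_comap_bot, Ideal.mk_ker,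
      sup_eq_left.2 hle])
  refine ⟨{1}, Ideal.span_singleton_one, fun g hg => ?_⟩
  rw [Set.mem_singleton_iff] at hg
  subst hg
  let T' := Localization.Away (1 : A) ⊗[A] T
  letI : Algebra T T' := Algebra.TensorProduct.rightAlgebra
  obtain ⟨eT⟩ := isDiag_baseChange e T'
  exact ⟨T', inferInstance, inferInstance, inferInstance, n,
    ⟨((cancelEquiv (R := A) (A := C) (Localization.Away (1 : A)) T').trans eT).trans
      (MonoidAlgebra.domCongrBialgEquiv T' T' (θ.trans
        (AddEquiv.toMultiplicative (LinearEquiv.funCongrLeft ℤ ℤ Equiv.ulift).toAddEquiv.symm)))⟩⟩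


/-- Let A be a Noetherian ring, separated and complete for the I-adic topology, and H = Spec C an affine
A-group with C flat and of finite type over A, all of whose fibres Spec (κ(p) ⊗ C) are connected. If
the reduction H₀ = Spec ((A/I) ⊗ C) is an isotrivial torus over A/I, then H is an isotrivial torus
over A. (Affine group schemes over an affine base are taken in Hopf-algebra form; base change is the
tensor product; a homomorphism of groups Spec A ⟶ Spec C is a bialgebra map C → A.) -/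
theorem result (A : Type u) [CommRing A] [IsNoetherianRing A] (I : Ideal A) [IsAdicComplete I A]
    (C : Type u) [CommRing C] [HopfAlgebra A C] [Module.Flat A C] (hft : Algebra.FiniteType A C)
    (hconn : ∀ (p : Ideal A) [p.IsPrime], ConnectedSpace (PrimeSpectrum (p.ResidueField ⊗[A] C)))
    (h0 : IsIsotrivial (A ⧸ I) ((A ⧸ I) ⊗[A] C) ∧ IsTorus (A ⧸ I) ((A ⧸ I) ⊗[A] C)) :
    IsIsotrivial A C ∧ IsTorus A C := by
  have h := H19Mult.isIsotrivial_of_connected_fibres A I C hft hconn h0.1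
  exact ⟨h, isTorus_of_isIsotrivial A I (IsAdicComplete.le_jacobson_bot I) C h h0.2⟩

end Groth.Agent.S5277
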