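import Groth.Statements.S5278
import Mathlib.AlgebraicGeometry.Morphisms.QuasiFinite
import Mathlib.AlgebraicGeometry.Morphisms.UniversallyOpen
import Mathlib.Data.Set.Card


set_option autoImplicit false
open CategoryTheory AlgebraicGeometry
universe u
open SGA3x

namespace Groth.Agent.S5278


/-- Let X be a connected scheme, f : X' ⟶ X a finite etale morphism and x a point of X. Then every
connected component of X' meets the fibre of f over x; equivalently the map from the connected
components of the fibre (or of the geometric fibre) to those of X' is surjective. -/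
theorem result {X X' : Scheme.{u}} [ConnectedSpace X] (f : X' ⟶ X)
    [IsFinite f] [Etale f] (x : X) (c : X') :
    ∃ x' : X', f.base x' = x ∧ x' ∈ connectedComponent c := by
  classical
  have hcl : IsClosedMap f.base := f.isClosedMap
  have hop : IsOpenMap f.base := f.isOpenMap
  have hsurj : ∀ U : Set X', IsClopen U → U.Nonempty → ∃ x' ∈ U, f.base x' = x := fun U hU hne => by
    have : f.base '' U = Set.univ :=
      IsClopen.eq_univ ⟨hcl _ hU.isClosed, hop _ hU.isOpen⟩ (hne.image _)
    obtain ⟨x', hx', he⟩ := this.symm ▸ Set.mem_univ x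
    exact ⟨x', hx', he⟩
  have hfin : (f.base ⁻¹' {x}).Finite := IsFinite.finite_preimage_singleton f x
  -- a clopen containing `c` with the fewest points over `x`
  let P : ℕ → Prop := fun n => ∃ U : Set X', IsClopen U ∧ c ∈ U ∧ (U ∩ f.base ⁻¹' {x}).ncard = n
  have hex : ∃ n, P n := ⟨_, Set.univ, isClopen_univ, Set.mem_univ c, rfl⟩
  obtain ⟨U, hU, hcU, hUn⟩ := Nat.find_spec hex
  have hconn : _root_.IsPreconnected U := by
    intro V W hV hW hUVW hVne hWne
    by_contra hno
    rw [Set.not_nonempty_iff_eq_empty] at hno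
    have hsplit : ∀ V' W' : Set X', IsOpen V' → IsOpen W' → U ⊆ V' ∪ W' → U ∩ (V' ∩ W') = ∅ →
        IsClopen (U ∩ V') := fun V' W' hV' hW' hcov hdis => by
      refine ⟨?_, hU.isOpen.inter hV'⟩
      have : (U ∩ V')ᶜ = Uᶜ ∪ W' := by
        ext z
        simp only [Set.mem_compl_iff, Set.mem_inter_iff, Set.mem_union, not_and]
        refine ⟨fun h => ?_, fun h hzU hzV => ?_⟩
        · by_cases hz : z ∈ U
          · exact Or.inr ((hcov hz).resolve_left (h hz))
          · exact Or.inl hz
        · rcases h with h | h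
          · exact h hzU
          · exact Set.eq_empty_iff_forall_notMem.mp hdis z ⟨hzU, hzV, h⟩
      exact isOpen_compl_iff.mp (this ▸ hU.isClosed.isOpen_compl.union hW')
    have key : ∀ V' W' : Set X', IsOpen V' → IsOpen W' → U ⊆ V' ∪ W' → U ∩ (V' ∩ W') = ∅ →
        c ∈ V' → (U ∩ W').Nonempty → False := fun V' W' hV' hW' hcov hdis hc hne => by
      have h1 := hsplit V' W' hV' hW' hcov hdis
      have h2 := hsplit W' V' hW' hV' (by rwa [Set.union_comm]) (by rwa [Set.inter_comm W' V'])
      obtain ⟨x', hx', hx'x⟩ := hsurj _ h2 hne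
      refine (Nat.find_le (h := hex) ⟨U ∩ V', h1, ⟨hcU, hc⟩, rfl⟩).not_gt ?_
      rw [← hUn]
      refine Set.ncard_lt_ncard ⟨fun z hz => ⟨hz.1.1, hz.2⟩, fun hsub => ?_⟩ (hfin.subset Set.inter_subset_right)
      exact Set.eq_empty_iff_forall_notMem.mp hdis x' ⟨hx'.1, (hsub ⟨hx'.1, hx'x⟩).1.2, hx'.2⟩
    rcases hUVW hcU with h | h
    · exact key V W hV hW hUVW hno h hWne
    · exact key W V hW hV (by rwa [Set.union_comm]) (by rwa [Set.inter_comm W V]) h hVne
  obtain ⟨x', hx', he⟩ := hsurj U hU ⟨c, hcU⟩
  exact ⟨x', he, hconn.subset_connectedComponent hcU hx'⟩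

end Groth.Agent.S5278
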