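import Groth.Statements.S5279
import Groth.Agent.H21Diag.ActTrivial

set_option autoImplicit false
open CategoryTheory MonoidalCategory CartesianMonoidalCategory MonObj GrpObj AlgebraicGeometry
universe u
open SGA3x

namespace Groth.Agent.S5279


/-- Let i₀ : S₀ ⟶ S be a closed immersion whose ideal is locally nilpotent (nilpotent on each member of
an affine open cover of S; in particular S₀ and S have the same underlying space), G an S-group of
multiplicative type (fpqc-locally on S isomorphic, as a group, to diagonalisable groups D(M), M
allowed to vary and taken in Type 0), X an S-scheme locally of finite presentation over S, and a an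
action of G on X. If G₀ acts trivially on X₀, i.e. g · x = x for all points g of G and x of X
defined over an S₀-scheme, then G acts trivially on X. -/
theorem result {S S₀ : Scheme.{u}} (i₀ : S₀ ⟶ S) [IsClosedImmersion i₀]
    (hnil : ∀ x : S, ∃ U : S.affineOpens, x ∈ (U : S.Opens) ∧ IsNilpotent (i₀.ker.ideal U))
    (G X : Over S) [GrpObj G] (hG : TwC.Locally S TwC.Topology.fpqc (fun S' f => ∃ (M : Type) (_ : AddCommGroup M), Nonempty (Grp.mk (Red.bc f G) ≅ Grp.mk (Red.DS S' M))))
    [LocallyOfFinitePresentation X.hom] (a : AlgGrp.Action G X)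
    (h0 : ∀ (Y : Over S) (p : Y ⟶ Over.mk i₀) (g : Y ⟶ G) (x : Y ⟶ X), lift g x ≫ a.act = x) :
    ∀ (Y : Over S) (g : Y ⟶ G) (x : Y ⟶ X), lift g x ≫ a.act = x := by
  intro Y g x
  exact H21Diag.action_trivial i₀ hnil hG a h0 Y g x

end Groth.Agent.S5279
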