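import Groth.Statements.S5281
import Groth.Agent.S2979
import Groth.Agent.S2973
import Groth.Agent.H21Mono.MultTypeFG
import Groth.Agent.H21Diag.IntegrateLoc
import Groth.Agent.H7Flat.ThickeningHom
-- import your own Groth.Agent.* helpers here

set_option autoImplicit false
set_option backward.isDefEq.respectTransparency false
set_option maxHeartbeats 1000000
set_option synthInstance.maxHeartbeats 400000
set_option linter.style.haveILetI false
open CategoryTheory MonoidalCategory CartesianMonoidalCategory MonObj GrpObj AlgebraicGeometry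
universe u
open SGA3x

namespace Groth.Agent.S5281

/-- Let S = Spec R be affine, J a nilpotent ideal of R, S₀ = Spec (R/J), G an S-group which is smooth
over S, and j₀ : H₀ ⟶ G₀ = G ×_S S₀ a sub-group-scheme (a homomorphism which is an immersion) of
multiplicative type (H₀ fpqc-locally on S₀ isomorphic, as a group, to diagonalisable groups D(M), M
allowed to vary and taken in Type 0). Then there is a subgroup scheme j : H ⟶ G (a homomorphism
which is an immersion), with H flat over S, whose base change to S₀ coincides with H₀ as a subgroup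
of G₀: there is an isomorphism H ×_S S₀ ≅ H₀ over S₀ compatible with the two maps to G₀. -/
theorem result {R : Type u} [CommRing R] (J : Ideal R) (hJ : IsNilpotent J)
    (G : Over (Spec (CommRingCat.of R))) [GrpObj G] (hG : Smooth G.hom)
    (H₀ : Over (Spec (CommRingCat.of (R ⧸ J)))) [GrpObj H₀]
    (hH₀ : TwC.Locally (Spec (CommRingCat.of (R ⧸ J))) TwC.Topology.fpqc (fun S' f => ∃ (M : Type) (_ : AddCommGroup M), Nonempty (Grp.mk (Red.bc f H₀) ≅ Grp.mk (Red.DS S' M))))
    (j₀ : H₀ ⟶ Red.bc (Spec.map (CommRingCat.ofHom (Ideal.Quotient.mk J))) G) [IsMonHom j₀] [IsImmersion j₀.left] :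
    ∃ (H : Over (Spec (CommRingCat.of R))) (_ : GrpObj H) (j : H ⟶ G), IsMonHom j ∧ IsImmersion j.left ∧ Flat H.hom ∧
      ∃ φ : Red.bc (Spec.map (CommRingCat.ofHom (Ideal.Quotient.mk J))) H ≅ H₀, φ.hom ≫ j₀ = (Over.pullback (Spec.map (CommRingCat.ofHom (Ideal.Quotient.mk J)))).map j := by
  let q : Spec (CommRingCat.of (R ⧸ J)) ⟶ Spec (CommRingCat.of R) :=
    Spec.map (CommRingCat.ofHom (Ideal.Quotient.mk J))
  haveI : IsAffineHom H₀.hom :=
    Groth.Agent.H21Mono.prop_of_locDS @IsAffineHom (fun T M _ => Groth.Agent.H21Diag.isAffineHom_DS T M) hH₀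
  haveI hsm : Smooth (Red.bc q G).hom := MorphismProperty.pullback_snd (P := @Smooth) _ _ hG
  haveI : LocallyOfFiniteType H₀.hom := by
    rw [← Over.w j₀]
    haveI : LocallyOfFiniteType (Red.bc q G).hom := inferInstance
    infer_instance
  have hft₀ := Groth.Agent.H21Mono.isMultTypeFT_of_locDS hH₀
  obtain ⟨A₀, _, _, ⟨e₀⟩, -, hfp⟩ := Groth.Agent.H21Hom.exists_model H₀
  haveI := hfp (Groth.Agent.H21Diag.lfp_of_multTypeFT hft₀)
  have hm₀ := Groth.Agent.H21Hom.isMultType_of_specGrp (Groth.Agent.H21Hom.isMultTypeFT_of_iso hft₀ e₀)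
  have hJ' : ∀ x ∈ J, IsNilpotent x := fun x hx => by
    obtain ⟨n, hn⟩ := hJ
    exact ⟨n, (Ideal.mem_bot).mp (by rw [← Ideal.zero_eq_bot, ← hn]; exact Ideal.pow_mem_pow hx n)⟩
  obtain ⟨A, _, _, hA, ⟨eA⟩⟩ :=
    Groth.Agent.S2979.result R J hJ' A₀ (Groth.Agent.S2973.result _ A₀ inferInstance hm₀)
  have hftA : Algebra.FiniteType R A := Groth.Agent.H21Mono.finiteType_of_tensor_quot hJ A
    (Algebra.FiniteType.equiv (inferInstance : Algebra.FiniteType (R ⧸ J) A₀) (AlgEquivClass.toAlgEquiv eA.symm))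
  let H := Groth.Agent.H21Hom.specGrp R A
  have hH : SGA3x.IsMultTypeFT H :=
    Groth.Agent.H21Hom.isMultTypeFT_specGrp hftA (Groth.Agent.H21Mono.isMultType_of_isQuasiIsotrivial hA)
  have hHd := Groth.Agent.H21Diag.isDiagLoc_of_isMultTypeFT hH
  obtain ⟨b⟩ := Groth.Agent.H21Hom.nonempty_bc_specGrp (R := R) A (R ⧸ J)
  obtain ⟨c⟩ := Groth.Agent.H21Hom.nonempty_iso_of_bialgEquiv eA.symm
  let Φ : Grp.mk (Red.bc q H) ≅ Grp.mk H₀ := b ≪≫ c ≪≫ e₀.symm
  let φ : Red.bc q H ≅ H₀ := (Grp.forget _).mapIso Φ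
  haveI : IsMonHom φ.hom := inferInstanceAs (IsMonHom Φ.hom.hom.hom)
  obtain ⟨φ₀, hmul, hφ₀⟩ := Groth.Agent.H21Mono.exists_pairing q (H := H) (G := G) (φ.hom ≫ j₀)
  obtain ⟨f, hf, hff⟩ := Groth.Agent.H21Diag.exists_hom_lift_smooth_loc hG hHd J hJ φ₀ hmul
  have hmap := hφ₀ f hff
  haveI : Flat H.hom := Groth.Agent.H21Mono.prop_of_locDS @Flat
    (fun T M _ => Groth.Agent.H21Diag.flat_DS T M) hHd
  haveI : LocallyOfFiniteType H.hom := by
    haveI := Groth.Agent.H21Diag.lfp_of_multTypeFT hH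
    infer_instance
  haveI : LocallyOfFiniteType (f.left ≫ G.hom) := by rw [Over.w f]; infer_instance
  haveI : LocallyOfFiniteType f.left := locallyOfFiniteType_of_comp f.left G.hom
  haveI : IsClosedImmersion q := IsClosedImmersion.spec_of_surjective _ Ideal.Quotient.mk_surjective
  haveI : Surjective q := ⟨fun p => by
    have hp : p ∈ Set.range (PrimeSpectrum.comap (Ideal.Quotient.mk J)) := by
      rw [range_comap_of_surjective _ _ Ideal.Quotient.mk_surjective, Ideal.mk_ker, PrimeSpectrum.mem_zeroLocus]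
      intro x hx
      obtain ⟨n, hn⟩ := hJ' x hx
      exact p.2.mem_of_pow_mem n (hn ▸ p.asIdeal.zero_mem)
    exact hp⟩
  haveI : IsImmersion ((Over.pullback q).map f).left := by
    rw [hmap, Over.comp_left]
    haveI : IsIso φ.hom.left := inferInstanceAs (IsIso ((Over.forget _).map φ.hom))
    infer_instance
  haveI : IsClosedImmersion (Limits.pullback.fst G.hom q) := MorphismProperty.pullback_fst (P := @IsClosedImmersion) _ _ ‹_›
  haveI : Surjective (Limits.pullback.fst G.hom q) := MorphismProperty.pullback_fst (P := @Surjective) _ _ ‹_›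
  have himm : IsImmersion f.left :=
    (Groth.Agent.H7Flat.isImmersion_iff_of_thickening _ (Limits.pullback.fst G.hom q) _ f.left
      (Groth.Agent.H21Mono.sqBC q f).flip).1 ‹_›
  exact ⟨H, inferInstance, f, hf, himm, ‹_›, φ, hmap.symm⟩

end Groth.Agent.S5281
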