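import Groth.Statements.S5283
import Groth.Agent.H21Taylor.GrpTransporter

set_option autoImplicit false
set_option synthInstance.maxHeartbeats 100000
set_option maxHeartbeats 1000000
open CategoryTheory MonoidalCategory CartesianMonoidalCategory MonObj GrpObj AlgebraicGeometry
universe u
open SGA3x

namespace Groth.Agent.S5283

/-- Let X be an S-group which is smooth and of finite presentation over S with connected fibres, Y an
S-group of finite presentation over S and i : Y ⟶ X a homomorphism which is a monomorphism. Then the
functor on S-schemes whose value at S' ⟶ S is a point when X ×_S S' ⟶ X factors through Y and empty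
otherwise is representable by a closed subscheme of S whose immersion is of finite presentation. -/
theorem result {S : Scheme.{u}} (X Y : Over S) [GrpObj X] [GrpObj Y]
    [Smooth X.hom] [QuasiCompact X.hom] [QuasiSeparated X.hom]
    (hconn : ∀ s : S, ConnectedSpace ↥(Limits.pullback X.hom (S.fromSpecResidueField s)))
    [LocallyOfFinitePresentation Y.hom] [QuasiCompact Y.hom] [QuasiSeparated Y.hom]
    (i : Y ⟶ X) [IsMonHom i] [Mono i] :
    ∃ (T : Scheme.{u}) (t : T ⟶ S), IsClosedImmersion t ∧ LocallyOfFinitePresentation t ∧
      ∀ (S' : Scheme.{u}) (g : S' ⟶ S), (∃ g' : S' ⟶ T, g' ≫ t = g) ↔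
        ∃ l : Limits.pullback X.hom g ⟶ Y.left, l ≫ i.left = Limits.pullback.fst X.hom g := by
  haveI : GeometricallyIrreducible X.hom := H21Taylor.geometricallyIrreducible_of_connected_fibres X hconn
  haveI : LocallyOfFinitePresentation i.left := by
    haveI : LocallyOfFinitePresentation (i.left ≫ X.hom) := (Over.w i).symm ▸ inferInstance
    exact H7Lim.locallyOfFinitePresentation_of_comp i.left X.hom
  exact H21Taylor.exists_closed_contains_mono i η[Y] (IsMonHom.one_hom i)
    fun T a b => ⟨a * b, MonObj.mul_comp a b i⟩

end Groth.Agent.S5283
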