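import Groth.Statements.S5284
import Groth.Agent.H21Diag.FreeAction
import Groth.Agent.H21Diag.FiniteType

set_option autoImplicit false
open CategoryTheory MonoidalCategory CartesianMonoidalCategory MonObj GrpObj AlgebraicGeometry
universe u
open SGA3x

namespace Groth.Agent.S5284

/-- Let G be an S-group of multiplicative type (fpqc-locally on S isomorphic, as a group, to
diagonalisable groups D(M), M allowed to vary and taken in Type 0) acting on an S-scheme X which is
affine over S, the action being free (a point g of G fixing a point x of X is the unit). Then the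
graph morphism G ×_S X ⟶ X ×_S X, (g, x) ↦ (g·x, x), is a closed immersion; and for every section σ
of X over S the orbit morphism G ⟶ X, g ↦ g·σ, is a closed immersion. -/
theorem result {S : Scheme.{u}} (G X : Over S) [GrpObj G]
    (hG : TwC.Locally S TwC.Topology.fpqc (fun S' f => ∃ (M : Type) (_ : AddCommGroup M), Nonempty (Grp.mk (Red.bc f G) ≅ Grp.mk (Red.DS S' M)))) (hX : IsAffineHom X.hom) (a : AlgGrp.Action G X)
    (hfree : ∀ (Y : Over S) (g : Y ⟶ G) (x : Y ⟶ X), lift g x ≫ a.act = x → g = 1) :
    IsClosedImmersion (lift a.act (snd G X)).left ∧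
      ∀ σ : 𝟙_ (Over S) ⟶ X, IsClosedImmersion (a.orbitMap σ).left := by
  obtain ⟨S', g, hg, hs, hqc, hloc⟩ := hG
  have hGaff : IsAffineHom G.hom := by
    refine Groth.Agent.H21Diag.of_fpqc_cover_base (@IsAffineHom) g hqc G.hom fun s' => ?_
    obtain ⟨U, hsU, M, _, ⟨e⟩⟩ := hloc s'
    refine ⟨U, hsU, ?_⟩
    have h1 : IsAffineHom (Red.DS (U : Scheme.{u}) M).hom :=
      MorphismProperty.pullback_snd _ _ (Groth.Agent.H21Diag.isAffineHom_diag M)
    have : IsIso e.hom.hom.hom.left := by
      refine ⟨⟨e.inv.hom.hom.left, ?_, ?_⟩⟩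
      · exact congrArg (fun z => z.hom.hom.left) e.hom_inv_id
      · exact congrArg (fun z => z.hom.hom.left) e.inv_hom_id
    have h3 : Limits.pullback.snd G.hom (U.ι ≫ g) = e.hom.hom.hom.left ≫ (Red.DS (U : Scheme.{u}) M).hom :=
      (Over.w e.hom.hom.hom).symm
    rw [h3, MorphismProperty.cancel_left_of_respectsIso (P := @IsAffineHom)]
    exact h1
  have hgraph : IsClosedImmersion (lift a.act (snd G X)).left := by
    refine Groth.Agent.H21Diag.of_fpqc_cover (@IsClosedImmersion) g hqc _ (X ⊗ X).hom fun s' => ?_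
    obtain ⟨U, hsU, M, _, ⟨e⟩⟩ := hloc s'
    obtain ⟨V, hV, hsV, hVU⟩ := exists_isAffineOpen_mem_and_subset (U := U) (x := s') hsU
    have hr : Set.range hV.fromSpec.base ⊆ Set.range U.ι.base := by
      rw [hV.range_fromSpec, Scheme.Opens.range_ι]; exact hVU
    refine ⟨_, hV.fromSpec, inferInstance, by rw [hV.range_fromSpec]; exact hsV, ?_⟩
    have h := Groth.Agent.H21Diag.graph_chart e a hfree (IsOpenImmersion.lift U.ι hV.fromSpec hr)
    have he : IsOpenImmersion.lift U.ι hV.fromSpec hr ≫ U.ι ≫ g = hV.fromSpec ≫ g := by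
      rw [← Category.assoc, IsOpenImmersion.lift_fac]
    rw [he] at h
    exact h
  refine ⟨hgraph, fun σ => ?_⟩
  let l : G ⟶ G ⊗ X := lift (𝟙 G) (toUnit G ≫ σ)
  let k : X ⟶ X ⊗ X := lift (𝟙 X) (toUnit X ≫ σ)
  have heq : a.orbitMap σ ≫ k = l ≫ lift a.act (snd G X) := by
    rw [AlgGrp.Action.orbitMap, comp_lift, comp_lift, Category.comp_id]
    congr 1
    rw [← Category.assoc, toUnit_unique (_ ≫ toUnit X) (toUnit G), lift_snd]
  have : IsSeparated X.hom := inferInstance
  have hX2 : IsSeparated (Limits.pullback.fst X.hom X.hom) :=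
    MorphismProperty.pullback_fst _ _ inferInstance
  have hG2 : IsSeparated (Limits.pullback.fst G.hom X.hom) :=
    MorphismProperty.pullback_fst _ _ inferInstance
  have hl1 : l.left ≫ Limits.pullback.fst G.hom X.hom = 𝟙 G.left :=
    congrArg (fun m => m.left) (lift_fst (𝟙 G) (toUnit G ≫ σ))
  have hk1 : k.left ≫ Limits.pullback.fst X.hom X.hom = 𝟙 X.left :=
    congrArg (fun m => m.left) (lift_fst (𝟙 X) (toUnit X ≫ σ))
  have hlc : IsClosedImmersion l.left := by
    have : IsClosedImmersion (l.left ≫ Limits.pullback.fst G.hom X.hom) := by rw [hl1]; infer_instance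
    exact IsClosedImmersion.of_comp l.left (Limits.pullback.fst G.hom X.hom)
  have hkc : IsClosedImmersion k.left := by
    have : IsClosedImmersion (k.left ≫ Limits.pullback.fst X.hom X.hom) := by rw [hk1]; infer_instance
    exact IsClosedImmersion.of_comp k.left (Limits.pullback.fst X.hom X.hom)
  have : IsClosedImmersion ((a.orbitMap σ).left ≫ k.left) := by
    rw [← Over.comp_left, heq, Over.comp_left]; infer_instance
  exact IsClosedImmersion.of_comp (a.orbitMap σ).left k.left

end Groth.Agent.S5284
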