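import Groth.Statements.S5287
import Groth.Agent.H21Diag.TransporterSub

set_option autoImplicit false
open CategoryTheory MonoidalCategory CartesianMonoidalCategory MonObj GrpObj AlgebraicGeometry
universe u
open SGA3x

namespace Groth.Agent.S5287

/-- Let G be an S-group smooth and affine over S and i₁ : H₁ ⟶ G, i₂ : H₂ ⟶ G two subgroup schemes of
multiplicative type (and of finite type). Then the transporter of H₁ into H₂, the subfunctor of G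
whose X-points are the g with int(g)(H₁) = H₂ after every base change X' ⟶ X (g H₁ g⁻¹ ⊆ H₂ and g⁻¹
H₂ g ⊆ H₁ on points), is representable by a closed subscheme of G which is smooth over S. -/
theorem result {S : Scheme.{u}} (H₁ H₂ G : Over S) [GrpObj H₁] [GrpObj H₂] [GrpObj G]
    (hH₁ : SGA3x.IsMultTypeFT H₁) (hH₂ : SGA3x.IsMultTypeFT H₂) (hG : Smooth G.hom) (hGa : IsAffineHom G.hom)
    (i₁ : H₁ ⟶ G) [IsMonHom i₁] [Mono i₁] (i₂ : H₂ ⟶ G) [IsMonHom i₂] [Mono i₂] :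
    ∃ (T : Over S) (j : T ⟶ G), IsClosedImmersion j.left ∧ Smooth T.hom ∧
      ∀ (X : Over S) (g : X ⟶ G), (∃ t : X ⟶ T, t ≫ j = g) ↔
        ∀ (X' : Over S) (x : X' ⟶ X),
          (∀ h₁ : X' ⟶ H₁, ∃ h₂ : X' ⟶ H₂, (x ≫ g) * (h₁ ≫ i₁) * (x ≫ g)⁻¹ = h₂ ≫ i₂) ∧
          (∀ h₂ : X' ⟶ H₂, ∃ h₁ : X' ⟶ H₁, (x ≫ g)⁻¹ * (h₂ ≫ i₂) * (x ≫ g) = h₁ ≫ i₁) := by
  exact Groth.Agent.H21Diag.exists_smooth_transEq hH₁ hH₂ hG hGa i₁ i₂

end Groth.Agent.S5287
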