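import Groth.Statements.S5288
import Groth.Agent.H19Mult.HenselHom

set_option autoImplicit false
set_option linter.style.haveILetI false
set_option backward.isDefEq.respectTransparency false
universe u
open TensorProduct SGA3b
open SGA3b

namespace Groth.Agent.S5288

open WithConv Coalgebra IsLocalRing


/-- Let A be a henselian Noetherian local ring with maximal ideal 𝔪, residue field k and completion A';
let G = Spec B be an A-group of multiplicative type and of finite type, and H = Spec C an affine
A-group with C of finite type over A, flat over A at the points of the closed fibre (C localised at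
any prime containing 𝔪C is flat over A), whose closed fibre Spec (k ⊗ C) is a k-group of
multiplicative type. Then base change to A' is a bijection from homomorphisms of A-groups G ⟶ H
(bialgebra maps C → B) to homomorphisms of A'-groups G' ⟶ H': two bialgebra maps C → B with the same
base change are equal, and every bialgebra map A' ⊗ C → A' ⊗ B over A' is a base change. (The
published statement allows H locally of finite type and separated over A, not necessarily affine;
this row takes H affine.) (Affine group schemes over an affine base are taken in Hopf-algebra form;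
base change is the tensor product; a homomorphism of groups Spec A ⟶ Spec C is a bialgebra map C →
A.) -/
theorem result (A : Type u) [CommRing A] [IsNoetherianRing A] [HenselianLocalRing A]
    (B : Type u) [CommRing B] [HopfAlgebra A B] (hGft : Algebra.FiniteType A B) (hG : IsMultType A B)
    (C : Type u) [CommRing C] [HopfAlgebra A C] (hHft : Algebra.FiniteType A C)
    (hfl : ∀ (q : Ideal C) [q.IsPrime], Ideal.map (algebraMap A C) (IsLocalRing.maximalIdeal A) ≤ q → Module.Flat A (Localization.AtPrime q))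
    (hs : IsMultType (IsLocalRing.ResidueField A) (IsLocalRing.ResidueField A ⊗[A] C)) :
    (∀ φ ψ : C →ₐc[A] B, (∀ c : C, (1 : AdicCompletion (IsLocalRing.maximalIdeal A) A) ⊗ₜ[A] (φ c) = (1 : AdicCompletion (IsLocalRing.maximalIdeal A) A) ⊗ₜ[A] (ψ c)) → φ = ψ) ∧
    (∀ φ' : (AdicCompletion (IsLocalRing.maximalIdeal A) A ⊗[A] C) →ₐc[AdicCompletion (IsLocalRing.maximalIdeal A) A] (AdicCompletion (IsLocalRing.maximalIdeal A) A ⊗[A] B),
      ∃ φ : C →ₐc[A] B, ∀ c : C, φ' ((1 : AdicCompletion (IsLocalRing.maximalIdeal A) A) ⊗ₜ[A] c) = (1 : AdicCompletion (IsLocalRing.maximalIdeal A) A) ⊗ₜ[A] (φ c)) := by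
  classical
  let Ah := AdicCompletion (maximalIdeal A) A
  haveI : Module.Flat A Ah := AdicCompletion.flat_of_isNoetherian _
  haveI : Module.FaithfullyFlat A Ah := Module.FaithfullyFlat.of_flat_of_isLocalHom
  have hjinj : Function.Injective fun b : B => (1 : Ah) ⊗ₜ[A] b :=
    Module.FaithfullyFlat.tensorProduct_mk_injective (A := A) (B := Ah) B
  refine ⟨fun φ ψ h => BialgHom.ext fun c => hjinj (h c), fun φ' => ?_⟩
  obtain ⟨T, _, _, _, het, hfin, hff, M, _, ⟨e⟩⟩ := H19Mult.exists_local_splitting A B hGft hG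
  haveI := het
  haveI := hfin
  haveI := hff
  haveI : IsNoetherianRing T := IsNoetherianRing.of_finite A T
  haveI : Module.Flat A T := inferInstance
  haveI : IsLocalHom (algebraMap A T) := by
    refine ⟨fun a ha => ?_⟩
    by_contra hna
    obtain ⟨P, hP⟩ := PrimeSpectrum.comap_surjective_of_faithfullyFlat (A := A) (B := T) ⟨maximalIdeal A, inferInstance⟩
    have : a ∈ P.asIdeal.comap (algebraMap A T) := by
      rw [show P.asIdeal.comap (algebraMap A T) = maximalIdeal A from congrArg PrimeSpectrum.asIdeal hP]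
      exact (mem_maximalIdeal a).2 hna
    exact P.isPrime.ne_top (Ideal.eq_top_of_isUnit_mem _ this ha)
  have hmA : (maximalIdeal A).map (algebraMap A T) = maximalIdeal T :=
    Algebra.FormallyUnramified.map_maximalIdeal
  obtain ⟨hUl, hloc, hres⟩ := H19Mult.completion_tensor (T := T) hmA
  let U := T ⊗[A] Ah
  haveI := hUl
  haveI := hloc
  have hinjTU : Function.Injective (algebraMap T U) := by
    intro x y hxy
    simpa [Algebra.TensorProduct.algebraMap_apply] using hxy
  -- the homomorphism over `U`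
  obtain ⟨Ψ, hΨ⟩ := H19Mult.exists_bcHom' φ' (Algebra.TensorProduct.includeRight : Ah →ₐ[A] U)
  obtain ⟨eU, heU⟩ := H19Mult.exists_chart_map e U
  let FU := H19Mult.restr ((eU : (U ⊗[A] B) →ₐc[U] MonoidAlgebra U M).comp Ψ)
  obtain ⟨H, hH, hHp⟩ := H19Mult.exists_algebraic_hom (T := T) (U := U) hinjTU hres hHft hs hmA FU
    (H19Mult.isHomD_restr _)
  obtain ⟨ΦH, hΦH⟩ := hH.exists_bialgHom
  let G : (T ⊗[A] C) →ₐc[T] T ⊗[A] B := (e.symm : MonoidAlgebra T M →ₐc[T] T ⊗[A] B).comp ΦH
  have key : ∀ c, H19Mult.mapA (IsScalarTower.toAlgHom A T U) (G ((1 : T) ⊗ₜ[A] c)) =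
      H19Mult.mapA (Algebra.TensorProduct.includeRight : Ah →ₐ[A] U) (φ' ((1 : Ah) ⊗ₜ[A] c)) := by
    intro c
    rw [← hΨ]
    refine EquivLike.injective eU (H19Mult.ext_coef fun m => ?_)
    rw [heU]
    show algebraMap T U (H19Mult.coefL m (e (e.symm (ΦH ((1 : T) ⊗ₜ[A] c))))) = H19Mult.coefL m (FU c)
    rw [BialgEquiv.apply_symm_apply, hΦH, one_smul, ← hHp, H19Mult.coefL_push]
    rfl
  -- descent
  have hdesc : ∀ c, ∃ y : B, (1 : Ah) ⊗ₜ[A] y = φ' ((1 : Ah) ⊗ₜ[A] c) := by
    intro c
    refine S1156.result A Ah B _ ?_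
    refine Module.FaithfullyFlat.tensorProduct_mk_injective (A := A) (B := T) _ ?_
    set z := φ' ((1 : Ah) ⊗ₜ[A] c)
    set x := G ((1 : T) ⊗ₜ[A] c)
    let j : B →ₗ[A] Ah ⊗[A] B := TensorProduct.mk A Ah B 1
    have h1 : (1 : T) ⊗ₜ[A] z = LinearMap.lTensor T j x := by
      have h := congrArg (Algebra.TensorProduct.assoc A A A T Ah B) (key c)
      have hl : ∀ w : T ⊗[A] B, Algebra.TensorProduct.assoc A A A T Ah B
          (H19Mult.mapA (A := B) (IsScalarTower.toAlgHom A T U) w) = LinearMap.lTensor T j w := fun w => by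
        induction w using TensorProduct.induction_on with
        | zero => simp
        | tmul t y =>
          rw [H19Mult.mapA_tmul, show IsScalarTower.toAlgHom A T U t = t ⊗ₜ[A] (1 : Ah) from rfl]
          rfl
        | add u v hu hv => simp only [map_add, hu, hv]
      have hr : ∀ w : Ah ⊗[A] B, Algebra.TensorProduct.assoc A A A T Ah B
          (H19Mult.mapA (A := B) (Algebra.TensorProduct.includeRight : Ah →ₐ[A] U) w) = (1 : T) ⊗ₜ[A] w := fun w => by
        induction w using TensorProduct.induction_on with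
        | zero => simp
        | tmul t y => simp
        | add u v hu hv => simp only [map_add, TensorProduct.tmul_add, hu, hv]
      rw [hl, hr] at h
      exact h.symm
    show (1 : T) ⊗ₜ[A] (TensorProduct.mk A Ah (Ah ⊗[A] B) 1 z) = (1 : T) ⊗ₜ[A] (LinearMap.lTensor Ah j z)
    rw [← LinearMap.lTensor_tmul T (TensorProduct.mk A Ah (Ah ⊗[A] B) 1), ← LinearMap.lTensor_tmul T (LinearMap.lTensor Ah j),
      h1, ← LinearMap.comp_apply, ← LinearMap.comp_apply, ← LinearMap.lTensor_comp, ← LinearMap.lTensor_comp]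
    congr 2
  choose y hy using hdesc
  let j : B →ₐ[A] Ah ⊗[A] B := Algebra.TensorProduct.includeRight
  let xh : C →ₐ[A] Ah ⊗[A] B := ((φ' : (Ah ⊗[A] C) →ₐ[Ah] Ah ⊗[A] B).restrictScalars A).comp
    Algebra.TensorProduct.includeRight
  have hj : ∀ c, j (y c) = xh c := hy
  let ψ : C →ₐ[A] B :=
    { toFun := y
      map_one' := hjinj (show j (y 1) = j 1 by rw [hj, map_one, map_one])
      map_mul' := fun a b => hjinj (show j (y (a * b)) = j (y a * y b) by rw [hj, map_mul, map_mul, hj, hj])
      map_zero' := hjinj (show j (y 0) = j 0 by rw [hj, map_zero, map_zero])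
      map_add' := fun a b => hjinj (show j (y (a + b)) = j (y a + y b) by rw [hj, map_add, map_add, hj, hj])
      commutes' := fun r => hjinj (show j (y (algebraMap A C r)) = j (algebraMap A B r) by
        rw [hj, AlgHom.commutes, AlgHom.commutes]) }
  refine ⟨BialgHom.ofAlgHom ψ ?_ ?_, fun c => (hy c).symm⟩
  · refine AlgHom.ext fun c => FaithfulSMul.algebraMap_injective A Ah ?_
    show algebraMap A Ah (counit (R := A) (y c)) = algebraMap A Ah (counit (R := A) c)
    have h1 := CoalgHomClass.counit_comp_apply φ' ((1 : Ah) ⊗ₜ[A] c)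
    rw [← hy c] at h1
    simpa [TensorProduct.counit_tmul, Algebra.smul_def] using h1
  · refine AlgHom.ext fun c => Module.FaithfullyFlat.tensorProduct_mk_injective (A := A) (B := Ah) (B ⊗[A] B) ?_
    show (1 : Ah) ⊗ₜ[A] (Algebra.TensorProduct.map ψ ψ (comul (R := A) c)) = (1 : Ah) ⊗ₜ[A] comul (R := A) (y c)
    have h1 : (1 : Ah) ⊗ₜ[A] comul (R := A) (y c) = H19Mult.comulT Ah (φ' ((1 : Ah) ⊗ₜ[A] c)) := by
      rw [← hy c]
      rfl
    rw [h1, ← H19Mult.psi_comul, ← CoalgHomClass.map_comp_comul_apply φ' ((1 : Ah) ⊗ₜ[A] c)]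
    simp only [TensorProduct.comul_tmul, CommSemiring.comul_apply]
    generalize CoalgebraStruct.comul (R := A) c = z
    induction z using TensorProduct.induction_on with
    | zero => simp
    | add u w hu hw => simp only [TensorProduct.tmul_add, map_add, hu, hw]
    | tmul p q =>
      simp only [Algebra.TensorProduct.map_tmul, TensorProduct.AlgebraTensorModule.tensorTensorTensorComm_tmul,
        TensorProduct.map_tmul]
      show (1 : Ah) ⊗ₜ[A] (y p ⊗ₜ[A] y q) =
        H19Mult.psi Ah (φ' ((1 : Ah) ⊗ₜ[A] p) ⊗ₜ[Ah] φ' ((1 : Ah) ⊗ₜ[A] q))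
      rw [H19Mult.psi_tmul, ← hy p, ← hy q]
      simp [H19Mult.inl2, H19Mult.inr2]

end Groth.Agent.S5288
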