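import Groth.Statements.S5289
import Groth.Agent.H21Diag.SubgroupConj

set_option autoImplicit false
open CategoryTheory MonoidalCategory CartesianMonoidalCategory MonObj GrpObj AlgebraicGeometry
universe u
open SGA3x

namespace Groth.Agent.S5289

/-- Let S = Spec R be affine, J an ideal of R with J² = 0 and S₀ = Spec (R/J); let G be an arbitrary
S-group and i : H ⟶ G, i' : H' ⟶ G two sub-group-schemes (homomorphisms which are immersions) of
multiplicative type (fpqc-locally on S isomorphic, as groups, to diagonalisable groups D(M), M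
allowed to vary and taken in Type 0), such that H ×_S S₀ and H' ×_S S₀ coincide as subgroups of G
×_S S₀. Then there is an S-point g of G whose restriction to S₀ is the unit and which conjugates H
onto H': int(g) ∘ i factors through i' by an isomorphism H ≅ H'. -/
theorem result {R : Type u} [CommRing R] (J : Ideal R) (hJ : J ^ 2 = ⊥)
    (G H H' : Over (Spec (CommRingCat.of R))) [GrpObj G] [GrpObj H] [GrpObj H']
    (hH : TwC.Locally (Spec (CommRingCat.of R)) TwC.Topology.fpqc (fun S' f => ∃ (M : Type) (_ : AddCommGroup M), Nonempty (Grp.mk (Red.bc f H) ≅ Grp.mk (Red.DS S' M))))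
    (hH' : TwC.Locally (Spec (CommRingCat.of R)) TwC.Topology.fpqc (fun S' f => ∃ (M : Type) (_ : AddCommGroup M), Nonempty (Grp.mk (Red.bc f H') ≅ Grp.mk (Red.DS S' M))))
    (i : H ⟶ G) [IsMonHom i] [IsImmersion i.left] (i' : H' ⟶ G) [IsMonHom i'] [IsImmersion i'.left]
    (h0 : ∃ ψ : Red.bc (Spec.map (CommRingCat.ofHom (Ideal.Quotient.mk J))) H ≅ Red.bc (Spec.map (CommRingCat.ofHom (Ideal.Quotient.mk J))) H',
      ψ.hom ≫ (Over.pullback (Spec.map (CommRingCat.ofHom (Ideal.Quotient.mk J)))).map i' = (Over.pullback (Spec.map (CommRingCat.ofHom (Ideal.Quotient.mk J)))).map i) :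
    ∃ g : 𝟙_ (Over (Spec (CommRingCat.of R))) ⟶ G, toUnit (Over.mk (Spec.map (CommRingCat.ofHom (Ideal.Quotient.mk J))) : Over (Spec (CommRingCat.of R))) ≫ g = 1 ∧ SGA3x.ConjBy i i' g := by
  have : Mono i := Over.mono_of_mono_left i
  have : Mono i' := Over.mono_of_mono_left i'
  obtain ⟨ψ, hψ⟩ := h0
  let i₀ := Spec.map (CommRingCat.ofHom (Ideal.Quotient.mk J))
  have hψ' : ψ.inv ≫ (Over.pullback i₀).map i = (Over.pullback i₀).map i' := by rw [Iso.inv_comp_eq, hψ]
  have trans : ∀ {A B : Over (Spec (CommRingCat.of R))} [GrpObj A] [GrpObj B] (a : A ⟶ G) (b : B ⟶ G)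
      (t : Red.bc i₀ A ⟶ Red.bc i₀ B), t ≫ (Over.pullback i₀).map b = (Over.pullback i₀).map a →
      ∀ (X : Over (Spec (CommRingCat.of R))) (_ : X ⟶ Groth.Agent.H21Diag.Tst (Ideal.Quotient.mk J)) (h : X ⟶ A),
        ∃ h' : X ⟶ B, h ≫ a = h' ≫ b := by
    intro A B _ _ a b t ht X p h
    let e : X ⟶ (Over.map i₀).obj (Over.mk p.left) := Over.homMk (𝟙 _) ((Category.id_comp _).trans (Over.w p))
    let e' : (Over.map i₀).obj (Over.mk p.left) ⟶ X :=
      Over.homMk (𝟙 _) ((Category.id_comp _).trans (Over.w p).symm)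
    have hee : e ≫ e' = 𝟙 X := Over.OverMorphism.ext (Category.id_comp _)
    refine ⟨e ≫ Groth.Agent.H21Diag.bcHom i₀ B _ (Groth.Agent.H21Diag.bcEquiv i₀ A _ (e' ≫ h) ≫ t), ?_⟩
    have h3 : Groth.Agent.H21Diag.bcHom i₀ A _ (Groth.Agent.H21Diag.bcEquiv i₀ A (Over.mk p.left) (e' ≫ h)) = e' ≫ h :=
      Equiv.symm_apply_apply _ _
    rw [Category.assoc, ← Groth.Agent.H21Diag.bcHom_comp, Category.assoc, ht, Groth.Agent.H21Diag.bcHom_comp, h3,
      ← Category.assoc, ← Category.assoc, hee, Category.id_comp]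
  obtain ⟨φ, hm, hφ⟩ := Groth.Agent.H21Diag.exists_iso_of_eq_mod hH hH' J ⟨2, hJ⟩ i i'
    (trans i i' ψ.hom hψ) (trans i' i ψ.inv hψ')
  obtain ⟨c, hc1, hc⟩ := Groth.Agent.H21Diag.exists_conj_of_eq_mod hH i (φ.hom ≫ i') J hJ fun D _ g hg h => by
    rw [← Category.assoc h, hφ _ (Groth.Agent.H21Diag.tst (Ideal.Quotient.lift J g fun a ha => by
      rw [← Ideal.mem_bot, ← hg]; exact Ideal.mem_map_of_mem g ha) (Ideal.Quotient.lift_comp_mk _ _ _)) h]
  refine ⟨c, hc1 _ (Ideal.Quotient.mk J) (Ideal.map_quotient_self J), φ, ?_⟩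
  have h1 := hc H (𝟙 H)
  rw [Category.id_comp, Category.id_comp] at h1
  exact h1.symm

end Groth.Agent.S5289
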