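import Groth.Statements.S5290
import Groth.Agent.H21Diag.CentralEq

set_option autoImplicit false
open CategoryTheory MonoidalCategory CartesianMonoidalCategory MonObj GrpObj AlgebraicGeometry
universe u
open SGA3x

namespace Groth.Agent.S5290

/-- Let S = Spec R be affine, J a nilpotent ideal of R and S₀ = Spec (R/J); let G be an arbitrary
S-group and i : H ⟶ G, i' : H' ⟶ G two sub-group-schemes (homomorphisms which are immersions) of
multiplicative type (fpqc-locally on S isomorphic, as groups, to diagonalisable groups D(M), M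
allowed to vary and taken in Type 0), with H central in G (every point of G commutes with every
point of H). If H ×_S S₀ and H' ×_S S₀ coincide as subgroups of G ×_S S₀, then H = H' as subgroups
of G: there is an isomorphism H ≅ H' compatible with i and i'. -/
theorem result {R : Type u} [CommRing R] (J : Ideal R) (hJ : IsNilpotent J)
    (G H H' : Over (Spec (CommRingCat.of R))) [GrpObj G] [GrpObj H] [GrpObj H']
    (hH : TwC.Locally (Spec (CommRingCat.of R)) TwC.Topology.fpqc (fun S' f => ∃ (M : Type) (_ : AddCommGroup M), Nonempty (Grp.mk (Red.bc f H) ≅ Grp.mk (Red.DS S' M))))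
    (hH' : TwC.Locally (Spec (CommRingCat.of R)) TwC.Topology.fpqc (fun S' f => ∃ (M : Type) (_ : AddCommGroup M), Nonempty (Grp.mk (Red.bc f H') ≅ Grp.mk (Red.DS S' M))))
    (i : H ⟶ G) [IsMonHom i] [IsImmersion i.left] (i' : H' ⟶ G) [IsMonHom i'] [IsImmersion i'.left]
    (hc : ∀ (X : Over (Spec (CommRingCat.of R))) (g : X ⟶ G) (h : X ⟶ H), g * (h ≫ i) = (h ≫ i) * g)
    (h0 : ∃ ψ : Red.bc (Spec.map (CommRingCat.ofHom (Ideal.Quotient.mk J))) H ≅ Red.bc (Spec.map (CommRingCat.ofHom (Ideal.Quotient.mk J))) H',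
      ψ.hom ≫ (Over.pullback (Spec.map (CommRingCat.ofHom (Ideal.Quotient.mk J)))).map i' = (Over.pullback (Spec.map (CommRingCat.ofHom (Ideal.Quotient.mk J)))).map i) :
    ∃ φ : H ≅ H', φ.hom ≫ i' = i := by
  obtain ⟨ψ, hψ⟩ := h0
  let i₀ := Spec.map (CommRingCat.ofHom (Ideal.Quotient.mk J))
  have hm : Mono i' := Over.mono_of_mono_left _
  have hm2 : Mono i := Over.mono_of_mono_left _
  have hfac : ∀ (A A' : Over (Spec (CommRingCat.of R))) (j : A ⟶ G) (j' : A' ⟶ G)
      (χ : Red.bc i₀ A ⟶ Red.bc i₀ A'), χ ≫ (Over.pullback i₀).map j' = (Over.pullback i₀).map j →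
      ∀ (T : Over (Spec (CommRingCat.of R))) (p : T.left ⟶ Spec (CommRingCat.of (R ⧸ J))),
        p ≫ i₀ = T.hom → ∀ h : T ⟶ A, ∃ h' : T ⟶ A', h' ≫ j' = h ≫ j := by
    intro A A' j j' χ hχ T p hp h
    let σ : (Over.map i₀).obj (Over.mk p) ⟶ T := Over.homMk (𝟙 _) (by
      change 𝟙 _ ≫ T.hom = p ≫ i₀; rw [Category.id_comp, hp])
    let τ : T ⟶ (Over.map i₀).obj (Over.mk p) := Over.homMk (𝟙 _) (by
      change 𝟙 _ ≫ p ≫ i₀ = T.hom; rw [Category.id_comp, hp])
    have hτσ : τ ≫ σ = 𝟙 T := Over.OverMorphism.ext (Category.comp_id _)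
    let E := fun Z => Groth.Agent.H21Diag.bcEquiv i₀ Z (Over.mk p)
    let h₁ := (E A').symm (E A (σ ≫ h) ≫ χ)
    have hn : ∀ {Z Z' : Over (Spec (CommRingCat.of R))} (a : (Over.map i₀).obj (Over.mk p) ⟶ Z) (f : Z ⟶ Z'),
        E Z' (a ≫ f) = E Z a ≫ (Over.pullback i₀).map f :=
      fun a f => (Over.mapPullbackAdj i₀).homEquiv_naturality_right a f
    have key : h₁ ≫ j' = (σ ≫ h) ≫ j := by
      apply (E G).injective
      refine (hn h₁ j').trans (Eq.trans ?_ (hn (σ ≫ h) j).symm)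
      rw [← hχ, Equiv.apply_symm_apply]
      exact Category.assoc _ _ _
    exact ⟨τ ≫ h₁, by
      rw [Category.assoc, key, ← Category.assoc, ← Category.assoc, hτσ, Category.id_comp]⟩
  have hψ' : ψ.inv ≫ (Over.pullback i₀).map i = (Over.pullback i₀).map i' := by
    rw [← hψ, Iso.inv_hom_id_assoc]
  obtain ⟨φ, hφ⟩ := Groth.Agent.H21Diag.exists_factor_of_mod J hJ hH hH' i i'
    (fun X h h' => (hc X (h' ≫ i') h).symm) (hfac H H' i i' ψ.hom hψ)
  obtain ⟨φ', hφ'⟩ := Groth.Agent.H21Diag.exists_factor_of_mod J hJ hH' hH i' i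
    (fun X h' h => hc X (h' ≫ i') h) (hfac H' H i' i ψ.inv hψ')
  exact ⟨⟨φ, φ', by rw [← cancel_mono i, Category.assoc, hφ', hφ, Category.id_comp],
    by rw [← cancel_mono i', Category.assoc, hφ, hφ', Category.id_comp]⟩, hφ⟩

end Groth.Agent.S5290
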