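import Groth.Statements.S5291
import Groth.Agent.S5239

set_option autoImplicit false
set_option linter.style.haveILetI false
set_option backward.isDefEq.respectTransparency false
universe u
open TensorProduct SGA3b
open SGA3b

namespace Groth.Agent.S5291
open scoped Groth.Agent.H19Mult.Cohom

/-- Let R be a ring, I a nilpotent ideal of R, u : H₁ ⟶ H₂ a homomorphism of R-groups of multiplicative
type (H₁ = Spec A₁, H₂ = Spec A₂, u given by the bialgebra map α : A₂ → A₁), G = Spec C an affine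
R-group with C smooth over R, v : H₁ ⟶ G a homomorphism (bialgebra map β : C → A₁) and w₀ : H₂,₀ ⟶
G₀ a homomorphism over R/I (bialgebra map γ₀ : C₀ → A₂,₀) with w₀ ∘ u₀ = v₀ (the reduction of α
composed with γ₀ is the reduction of β). Then there is a homomorphism w : H₂ ⟶ G (bialgebra map γ :
C → A₂) lifting w₀ with w ∘ u = v, i.e. α ∘ γ = β. (The published statement says that the map of
homomorphism functors w ↦ w ∘ u is formally smooth, for any smooth S-group G; this row states the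
lifting property this means over an affine base, for G affine.) (Affine group schemes over an affine
base are taken in Hopf-algebra form; base change is the tensor product; a homomorphism of groups
Spec A ⟶ Spec C is a bialgebra map C → A.) -/
theorem result (R : Type u) [CommRing R] (I : Ideal R) (hI : IsNilpotent I)
    (A₁ : Type u) [CommRing A₁] [HopfAlgebra R A₁] (h₁ : IsMultType R A₁)
    (A₂ : Type u) [CommRing A₂] [HopfAlgebra R A₂] (h₂ : IsMultType R A₂) (α : A₂ →ₐc[R] A₁)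
    (C : Type u) [CommRing C] [HopfAlgebra R C] [Algebra.Smooth R C] (β : C →ₐc[R] A₁)
    (γ₀ : ((R ⧸ I) ⊗[R] C) →ₐc[R ⧸ I] ((R ⧸ I) ⊗[R] A₂))
    (h0 : ∀ c : C, Algebra.TensorProduct.map (AlgHom.id (R ⧸ I) (R ⧸ I)) (α : A₂ →ₐ[R] A₁) (γ₀ ((1 : R ⧸ I) ⊗ₜ[R] c)) =
      (1 : R ⧸ I) ⊗ₜ[R] (β c)) :
    ∃ γ : C →ₐc[R] A₂, (∀ c : C, γ₀ ((1 : R ⧸ I) ⊗ₜ[R] c) = (1 : R ⧸ I) ⊗ₜ[R] (γ c)) ∧ ∀ c : C, α (γ c) = β c := by
  obtain ⟨δ, hδ⟩ := H19Mult.exists_isInt h₁
  obtain ⟨γ₁, hγ₁⟩ := S5239.result R I hI A₂ h₂ C γ₀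
  have hker : RingHom.ker (Ideal.Quotient.mkₐ R I) = I := Ideal.mk_ker
  have hsur : Function.Surjective (Ideal.Quotient.mkₐ R I) := Ideal.Quotient.mkₐ_surjective R I
  let q := fun (A : Type u) [CommRing A] [Algebra R A] =>
    Algebra.TensorProduct.map (Ideal.Quotient.mkₐ R I) (AlgHom.id R A)
  let u := H19Mult.Cohom.up ((α : A₂ →ₐ[R] A₁).comp (γ₁ : C →ₐ[R] A₂))
  let v := H19Mult.Cohom.up (β : C →ₐ[R] A₁)
  have hu : H19Mult.Cohom.IsHom R u := H19Mult.Cohom.isHom_up (α.comp γ₁)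
  have hv : H19Mult.Cohom.IsHom R v := H19Mult.Cohom.isHom_up β
  have huv : H19Mult.Cohom.Mem (H19Mult.Cohom.Kw R R A₁ I) (H19Mult.Cohom.lin v - H19Mult.Cohom.lin u) := by
    have h := (H19Mult.Cohom.mem_iff_pp_eq (A := A₁) _ hsur u v).2 ?_
    · rwa [hker] at h
    refine WithConv.ofConv_injective (AlgHom.ext fun c => ?_)
    have e := h0 c
    rw [hγ₁ c] at e
    simpa [u, v, H19Mult.Cohom.up, H19Mult.Cohom.pp] using e
  obtain ⟨γ, hγ, hconj⟩ := H19Mult.Cohom.exists_conj hδ hI hu hv huv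
  have hu₁ : H19Mult.Cohom.IsHom R (H19Mult.Cohom.up (γ₁ : C →ₐ[R] A₂)) := H19Mult.Cohom.isHom_up γ₁
  obtain ⟨f, hf⟩ := H19Mult.Cohom.exists_bialgHom_of_isHom (hu₁.conj γ)
  refine ⟨f, fun c => ?_, fun c => ?_⟩
  · rw [hγ₁ c]
    have hg1 : H19Mult.Cohom.pp (q A₂) (H19Mult.Cohom.pp (H19Mult.Cohom.sc A₂ R) γ) =
        H19Mult.Cohom.pp (q A₂) 1 := by
      refine ((H19Mult.Cohom.mem_iff_pp_eq (A := A₂) _ hsur _ _).1 ?_).symm
      rw [hker]
      have h := hγ.pl (H19Mult.Cohom.sc A₂ R) (P' := H19Mult.Cohom.Kw R R A₂ I) le_rfl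
      rw [map_sub, map_one, H19Mult.Cohom.pl_lin] at h
      rwa [map_one]
    have h := congrArg (H19Mult.Cohom.pp (q A₂)) hf
    rw [map_mul, map_mul, map_inv, hg1, ← map_inv, ← map_mul, ← map_mul, inv_one, _root_.mul_one,
      _root_.one_mul] at h
    have e := congrArg (fun w : WithConv (C →ₐ[R] (R ⧸ I) ⊗[R] A₂) => w.ofConv c) h
    simpa [q, H19Mult.Cohom.up, H19Mult.Cohom.pp] using e
  · have h := congrArg (H19Mult.Cohom.pp (H19Mult.Cohom.L R (α : A₂ →ₐ[R] A₁))) hf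
    rw [map_mul, map_mul, map_inv, H19Mult.Cohom.pp_L_sc] at h
    have hnat : H19Mult.Cohom.pp (H19Mult.Cohom.L R (α : A₂ →ₐ[R] A₁)) (H19Mult.Cohom.up (γ₁ : C →ₐ[R] A₂)) = u :=
      WithConv.ofConv_injective (AlgHom.ext fun x => by simp [u, H19Mult.Cohom.up, H19Mult.Cohom.pp])
    rw [hnat, ← hconj] at h
    have e := congrArg (fun w : WithConv (C →ₐ[R] R ⊗[R] A₁) => Algebra.TensorProduct.lid R A₁ (w.ofConv c)) h
    simpa [v, H19Mult.Cohom.up, H19Mult.Cohom.pp] using e.symm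

end Groth.Agent.S5291
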