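import Groth.Statements.S5292
import Groth.Agent.H21Desc.HomTwConst
import Groth.Agent.H21Desc.DualConst
-- import your own Groth.Agent.* helpers here

set_option autoImplicit false
open CategoryTheory MonoidalCategory CartesianMonoidalCategory MonObj GrpObj AlgebraicGeometry
universe u
open SGA3x
open CategoryTheory.Limits
set_option maxHeartbeats 1000000

namespace Groth.Agent.S5292

/-- Let R be a commutative twisted constant S-group (fpqc-locally on S isomorphic, as a group, to
constant groups M_{S'}, the groups M allowed to vary and taken in Type 0, like the character groups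
of the conclusion). Then the functor D_S(R) = Hom_{S-gr}(R, G_m) is representable: there is an
S-group D with a universal family of characters R ×_S D ⟶ G_{m,S}, multiplicative in the D-variable
as well (the group law of D is the pointwise product of characters), and D is of multiplicative type
(fpqc-locally on S isomorphic, as a group, to diagonalisable groups D(M), M allowed to vary and
taken in Type 0). -/
theorem result {S : Scheme.{u}} (R : Over S) [GrpObj R]
    (hR : TwC.Locally S TwC.Topology.fpqc (fun S' f => ∃ (M : Type) (_ : Group M) (e : Red.bc f R ≅ TwC.const S' M),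
      TwC.IsConstGrp M (Red.bc f R) e))
    (hcomm : ∀ (X : Over S) (a b : X ⟶ R), a * b = b * a) :
    ∃ (D : Over S) (_ : GrpObj D) (υ : R ⊗ D ⟶ Red.Gm S), AutFam.RepresentsHom R (Red.Gm S) D υ ∧
      (∀ (X : Over S) (r : X ⟶ R) (a b : X ⟶ D), lift r (a * b) ≫ υ = (lift r a ≫ υ) * (lift r b ≫ υ)) ∧
      TwC.Locally S TwC.Topology.fpqc (fun S' f => ∃ (M : Type) (_ : AddCommGroup M), Nonempty (Grp.mk (Red.bc f D) ≅ Grp.mk (Red.DS S' M))) := by
  classical
  obtain ⟨S', f, _, _, hqc, hloc⟩ := hR
  choose O hO M instM e he using hloc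
  let g : ∀ x : S', (O x : Scheme.{u}) ⟶ S := fun x => (O x).ι ≫ f
  have hcm : ∀ x (m n : M x), m * n = n * m := fun x => by
    have : Nonempty (O x).toScheme := ⟨⟨x, hO x⟩⟩
    refine H21Desc.mul_comm_of_isConstGrp (e x) (he x) fun X a b => H21Desc.tr_injective ?_
    rw [H21Desc.tr_mul, H21Desc.tr_mul, hcomm]
  letI : ∀ x, CommGroup (M x) := fun x => { instM x with mul_comm := hcm x }
  choose υc hυc hmc using fun x => H21Desc.exists_representsHom_const (e x) (he x)
  let β := fun x => H21Diag.bcDSIso (g x) ℤ
  have hA := fun x => H21Desc.representsHom_of_iso (Iso.refl (Grp.mk (Red.bc (g x) R))) (β x) (hυc x)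
  obtain ⟨D, υ, hυ⟩ := H21Desc.exists_representsHom_of_affine f hqc O hO hA fun x => H21Diag.isAffineHom_DS _ _
  obtain ⟨instD, hm⟩ := H21Desc.exists_grpObj_Gm hυ
  refine ⟨D, instD, υ, hυ, hm, S', f, inferInstance, inferInstance, hqc, fun x => ⟨O x, hO x,
    Additive (M x), inferInstance, H21Desc.nonempty_grpIso_of_representsHom (H21Desc.representsHom_bc hυ) (hA x)
      (fun X h a b => H21Desc.bcFam_mul hm h a b) (H21Desc.mul_transport _ _ (hmc x))⟩⟩

end Groth.Agent.S5292
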