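import Groth.Statements.S5293
import Groth.Agent.H21Desc.HomTwConst
import Groth.Agent.H21Desc.DualGroup
-- import your own Groth.Agent.* helpers here

set_option autoImplicit false
open CategoryTheory MonoidalCategory CartesianMonoidalCategory MonObj GrpObj AlgebraicGeometry
universe u
open SGA3x
open CategoryTheory.Limits

namespace Groth.Agent.S5293

/-- Let H be a quasi-isotrivial S-group of multiplicative type (etale-locally on S isomorphic, as a
group, to diagonalisable groups D(M), M allowed to vary and taken in Type 0). Then the functor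
D_S(H) = Hom_{S-gr}(H, G_m) is representable: there is an S-group D with a universal family of
characters H ×_S D ⟶ G_{m,S}, multiplicative in the D-variable as well (the group law of D is the
pointwise product of characters), and D is a quasi-isotrivial twisted constant S-group
(etale-locally on S a constant group). -/
theorem result {S : Scheme.{u}} (H : Over S) [GrpObj H]
    (hH : TwC.Locally S TwC.Topology.etale (fun S' f => ∃ (M : Type) (_ : AddCommGroup M), Nonempty (Grp.mk (Red.bc f H) ≅ Grp.mk (Red.DS S' M)))) :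
    ∃ (D : Over S) (_ : GrpObj D) (υ : H ⊗ D ⟶ Red.Gm S), AutFam.RepresentsHom H (Red.Gm S) D υ ∧
      (∀ (X : Over S) (h : X ⟶ H) (a b : X ⟶ D), lift h (a * b) ≫ υ = (lift h a ≫ υ) * (lift h b ≫ υ)) ∧
      TwC.IsTwConstGrp TwC.Topology.etale D := by
  obtain ⟨D, υ, hυ, -⟩ := H21Desc.exists_representsHom_etale_const H (Red.Gm S) fun s => by
    obtain ⟨V, g, hg, hs, M, _, ⟨e⟩⟩ := hH s
    obtain ⟨υ, hυ⟩ := H21Desc.exists_representsHom_chart g e (H21Diag.bcDSIso g ℤ)
    exact ⟨V, g, _, υ, hg, hs, hυ⟩
  obtain ⟨instD, hm⟩ := H21Desc.exists_grpObj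
    (fun {X} a b => H21Diag.comm_of_chart (H21Diag.idChart S ℤ) a b) hυ
  refine ⟨D, instD, υ, hυ, hm, fun s => ?_⟩
  obtain ⟨V, g, hg, hs, M, _, ⟨e⟩⟩ := hH s
  exact ⟨V, g, hg, hs, H21Desc.exists_isConstGrp g hυ hm e (H21Diag.bcDSIso g ℤ)⟩

end Groth.Agent.S5293
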