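import Groth.Statements.S5300
import Groth.Agent.H19Mult.TorsionTranslates
import Groth.Agent.H19Mult.ClopenHom
import Groth.Agent.H19Mult.LocalCriterion

set_option autoImplicit false
set_option linter.style.haveILetI false
set_option backward.isDefEq.respectTransparency false
universe u
open TensorProduct SGA3b
open SGA3b

namespace Groth.Agent.S5300

/-- The affine form of schematic density. Let k be a field and H = Spec C a commutative k-group of
finite type (C cocommutative, of finite type over k) which has an open subgroup G of multiplicative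
type: an idempotent e of C such that the ideal (e) is a Hopf ideal and G = Spec (C/(e)) is of
multiplicative type. Then the family of kernels ₙH, n > 0, of the n-th power maps is schematically
dense in H: for every a ∈ C, the intersection over n > 0 of the extensions to C[1/a] of the ideals
Jₙ of the ₙH is zero. (Affine group schemes over an affine base are taken in Hopf-algebra form; base
change is the tensor product; a homomorphism of groups Spec A ⟶ Spec C is a bialgebra map C → A.) -/
theorem result (k : Type u) [Field k] (C : Type u) [CommRing C] [HopfAlgebra k C]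
    [Coalgebra.IsCocomm k C] (hft : Algebra.FiniteType k C)
    (e : C) (he : IsIdempotentElem e) [(Ideal.span {e}).IsHopfIdeal k] (hG : IsMultType k (C ⧸ Ideal.span {e})) :
    ∀ a : C, ⨅ n : {n : ℕ // 0 < n}, Ideal.map (algebraMap C (Localization.Away a)) (torsionIdeal k C n.1) = ⊥ := by
  classical
  intro a
  rw [eq_bot_iff]
  intro x hx
  rw [Submodule.mem_iInf] at hx
  obtain ⟨⟨b, s⟩, hbs⟩ := IsLocalization.surj (Submonoid.powers a) x
  have hT : ∀ n : ℕ, 0 < n → ∃ j : ℕ, a ^ j * b ∈ torsionIdeal k C n := by
    intro n hn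
    obtain ⟨⟨⟨y, hy⟩, t⟩, hyt⟩ := (IsLocalization.mem_map_algebraMap_iff (Submonoid.powers a) (Localization.Away a)).1
      (hx ⟨n, hn⟩)
    have h2 : algebraMap C (Localization.Away a) (b * (t : C)) = algebraMap C (Localization.Away a) (y * (s : C)) := by
      rw [map_mul, map_mul, ← hbs, ← hyt]
      ring
    obtain ⟨⟨c, l, hc⟩, hc2⟩ := (IsLocalization.eq_iff_exists (Submonoid.powers a) (Localization.Away a)).1 h2
    obtain ⟨tl, htl⟩ := t.2
    refine ⟨l + tl, ?_⟩
    simp only at hc2 hc htl
    rw [pow_add, hc, htl, mul_assoc, mul_comm (t : C) b, hc2]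
    exact Ideal.mul_mem_left _ _ (Ideal.mul_mem_right _ _ hy)
  let K := AlgebraicClosure k
  haveI : Algebra.FiniteType k C := hft
  obtain ⟨Φ, hΦ, hker⟩ := Groth.Agent.H19Mult.LocalCriterion.baseChange_surj_ker K
    (Bialgebra.Quotient.mkBialgHom (R := k) (Ideal.span {e})) Ideal.Quotient.mk_surjective (e := e) Ideal.mk_ker
  obtain ⟨hH, ⟨E⟩⟩ := Groth.Agent.H19Mult.exists_quot_equiv Φ hΦ _ hker
  haveI := hH
  have hG' : IsMultType K ((K ⊗[k] C) ⧸ Ideal.span {(1 : K) ⊗ₜ[k] e}) :=
    Groth.Agent.H19Mult.LocalDescent.isMultType_congr E (Groth.Agent.H19Mult.isMultType_baseChange hG K)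
  let ι : C →ₐ[k] K ⊗[k] C := Algebra.TensorProduct.includeRight
  obtain ⟨m, hm⟩ := Groth.Agent.H19Mult.TorsionTranslates.exists_pow_mul_eq_zero (e := (1 : K) ⊗ₜ[k] e)
    (he.map ι) hG' (ι a) (ι b) fun n hn => by
      obtain ⟨j, hj⟩ := hT n hn
      refine ⟨j, ?_⟩
      rw [← map_pow, ← map_mul]
      have h : torsionIdeal k C n ≤ (torsionIdeal K (K ⊗[k] C) n).comap ι :=
        Ideal.map_le_iff_le_comap.2 fun c hc => by
          show (1 : K) ⊗ₜ[k] powConv k C n c ∈ torsionIdeal K (K ⊗[k] C) n
          rw [← Groth.Agent.H19Mult.LocalCriterion.powConv_baseChange]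
          refine Ideal.mem_map_of_mem _ ?_
          show Coalgebra.counit (R := K) ((1 : K) ⊗ₜ[k] c) = 0
          rw [TensorProduct.counit_tmul, show Coalgebra.counit (R := k) c = 0 from hc, zero_smul]
      exact h hj
  have hab : a ^ m * b = 0 := by
    refine Module.FaithfullyFlat.tensorProduct_mk_injective (A := k) (B := K) C ?_
    rw [TensorProduct.mk_apply, TensorProduct.mk_apply, TensorProduct.tmul_zero]
    show ι (a ^ m * b) = 0
    rw [map_mul, map_pow, hm]
  rw [Ideal.mem_bot]
  have hb0 : algebraMap C (Localization.Away a) b = 0 :=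
    (IsLocalization.map_eq_zero_iff (Submonoid.powers a) _ _).2 ⟨⟨_, _, rfl⟩, hab⟩
  rw [hb0] at hbs
  exact (IsLocalization.map_units (Localization.Away a) s).mul_left_eq_zero.1 hbs

end Groth.Agent.S5300
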