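import Groth.Statements.S5304
import Groth.Agent.H21Diag.SubgroupEqLocus

set_option autoImplicit false
open CategoryTheory MonoidalCategory CartesianMonoidalCategory MonObj GrpObj AlgebraicGeometry
universe u
open SGA3x

namespace Groth.Agent.S5304

/-- Let G be an S-group separated over S, suppose S locally Noetherian or G of finite presentation over
S, and let i₁ : H₁ ⟶ G, i₂ : H₂ ⟶ G be two sub-group-schemes (homomorphisms which are immersions) of
multiplicative type and of finite type, with H₁ central in G. Then the set U of points s ∈ S such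
that (H₁)_s = (H₂)_s as subgroups of G_s (an isomorphism of the fibres compatible with the
inclusions) is open and closed, and H₁|_U = H₂|_U as subgroups of G|_U. (The published statement
asks only that the fibres of H₁ be central; this row assumes H₁ central in G.) -/
theorem result {S : Scheme.{u}} (G H₁ H₂ : Over S) [GrpObj G] [GrpObj H₁] [GrpObj H₂]
    [IsSeparated G.hom] (hG : IsLocallyNoetherian S ∨ (LocallyOfFinitePresentation G.hom ∧ QuasiCompact G.hom ∧ QuasiSeparated G.hom))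
    (h₁ : SGA3x.IsMultTypeFT H₁) (h₂ : SGA3x.IsMultTypeFT H₂)
    (i₁ : H₁ ⟶ G) [IsMonHom i₁] [IsImmersion i₁.left] (i₂ : H₂ ⟶ G) [IsMonHom i₂] [IsImmersion i₂.left]
    (hc : ∀ (X : Over S) (g : X ⟶ G) (h : X ⟶ H₁), g * (h ≫ i₁) = (h ≫ i₁) * g) :
    ∃ U : S.Opens, IsClosed (U : Set S) ∧
      (∀ s : S, s ∈ U ↔ ∃ ψ : Red.bc (S.fromSpecResidueField s) H₁ ≅ Red.bc (S.fromSpecResidueField s) H₂,
        ψ.hom ≫ (Over.pullback (S.fromSpecResidueField s)).map i₂ = (Over.pullback (S.fromSpecResidueField s)).map i₁) ∧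
      ∃ ψ : Red.bc U.ι H₁ ≅ Red.bc U.ι H₂, ψ.hom ≫ (Over.pullback U.ι).map i₂ = (Over.pullback U.ι).map i₁ := by
  have hG' : IsLocallyNoetherian S ∨ LocallyOfFiniteType G.hom := hG.imp id fun h => by
    have := h.1; infer_instance
  have hcomm : ∀ (X : Over S) (h : X ⟶ H₁) (h' : X ⟶ H₂), (h ≫ i₁) * (h' ≫ i₂) = (h' ≫ i₂) * (h ≫ i₁) :=
    fun X h h' => (hc X (h' ≫ i₂) h).symm
  obtain ⟨c₁, d₁⟩ := H21Diag.exists_clopen_le i₁ i₂ h₁ h₂ hG' hcomm
  obtain ⟨c₂, d₂⟩ := H21Diag.exists_clopen_le i₂ i₁ h₂ h₁ hG' fun X h h' => (hcomm X h' h).symm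
  refine ⟨⟨_, (c₁.inter c₂).2⟩, (c₁.inter c₂).1, fun s => ⟨fun hs => ?_, ?_⟩, ?_⟩
  · exact H21Diag.exists_iso_of_leOn _ hs.1 hs.2
  · rintro ⟨ψ, hψ⟩
    refine ⟨H21Diag.leOn_of_iso _ ψ.hom hψ, H21Diag.leOn_of_iso _ ψ.inv ?_⟩
    rw [← hψ, Iso.inv_hom_id_assoc]
  · exact H21Diag.exists_iso_of_leOn _ (d₁ _ fun s hs => hs.1) (d₂ _ fun s hs => hs.2)

end Groth.Agent.S5304
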