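import Groth.Statements.S5307
import Groth.Agent.H21Cent.SubDescent

set_option autoImplicit false
set_option backward.isDefEq.respectTransparency false
set_option synthInstance.maxHeartbeats 200000
open CategoryTheory MonoidalCategory CartesianMonoidalCategory MonObj GrpObj AlgebraicGeometry
universe u
open SGA3x

namespace Groth.Agent.S5307

/-- The case of an fpqc covering. Let G be an S-group separated and of finite presentation over S
(locally of finite presentation, quasi-compact, quasi-separated), π : S' ⟶ S a flat surjective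
morphism which is an fpqc covering (every affine open of S is the image of a quasi-compact open of
S') with geometrically connected fibres, and j' : H' ⟶ G ×_S S' a central sub-group-scheme (a
homomorphism which is an immersion, every point of G ×_S S' commuting with every point of H') of
multiplicative type and of finite type. Then there is a sub-group-scheme j : H ⟶ G of multiplicative
type and of finite type with H ×_S S' = H' as subgroups of G ×_S S' (an isomorphism compatible with
the inclusions), and any two such subgroups of G coincide (are isomorphic compatibly with their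
inclusions). -/
theorem result {S S' : Scheme.{u}} (G : Over S) [GrpObj G]
    [IsSeparated G.hom] [LocallyOfFinitePresentation G.hom] [QuasiCompact G.hom] [QuasiSeparated G.hom]
    (π : S' ⟶ S) [Flat π] [Surjective π]
    (hcov : ∀ V : S.Opens, IsAffineOpen V → ∃ W : S'.Opens, IsCompact (W : Set S') ∧ π.base '' (W : Set S') = (V : Set S))
    (hconn : ∀ s : S, ConnectedSpace ↥(Limits.pullback π (Red.geomPt s)))
    (H' : Over S') [GrpObj H'] (hH' : SGA3x.IsMultTypeFT H') (j' : H' ⟶ Red.bc π G) [IsMonHom j'] [IsImmersion j'.left]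
    (hc : ∀ (X : Over S') (g : X ⟶ Red.bc π G) (h : X ⟶ H'), g * (h ≫ j') = (h ≫ j') * g) :
    (∃ (H : Over S) (_ : GrpObj H) (j : H ⟶ G), IsMonHom j ∧ IsImmersion j.left ∧ SGA3x.IsMultTypeFT H ∧
      ∃ φ : Red.bc π H ≅ H', φ.hom ≫ j' = (Over.pullback π).map j) ∧
    (∀ (H₁ H₂ : Over S) [GrpObj H₁] [GrpObj H₂] (j₁ : H₁ ⟶ G) (j₂ : H₂ ⟶ G) [IsMonHom j₁] [IsMonHom j₂]
      [IsImmersion j₁.left] [IsImmersion j₂.left],
      (∃ φ₁ : Red.bc π H₁ ≅ H', φ₁.hom ≫ j' = (Over.pullback π).map j₁) →
      (∃ φ₂ : Red.bc π H₂ ≅ H', φ₂.hom ≫ j' = (Over.pullback π).map j₂) →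
      ∃ ψ : H₁ ≅ H₂, ψ.hom ≫ j₂ = j₁) := by
  have hπ := H21Cent.singleton_mem_fpqc π hcov
  have : IsAffineHom H'.hom := H21Diag.isAffineHom_of_multTypeFT hH'
  refine ⟨?_, ?_⟩
  · have hmove : ∀ (T : Scheme.{u}) (x₀ x₁ : T ⟶ S') (_ : x₀ ≫ π = x₁ ≫ π) (v : Desc.Lifts H' x₀),
        ∃ v' : Desc.Lifts H' x₁, v'.1 ≫ j'.left ≫ Limits.pullback.fst G.hom π =
          v.1 ≫ j'.left ≫ Limits.pullback.fst G.hom π :=
      fun T x₀ x₁ h v => H21Cent.exists_move j' hH' hconn hc x₀ x₁ h v
    obtain ⟨U, j, φ, hφ⟩ := H21Cent.exists_descended_obj π j' hπ hmove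
    have : QuasiCompact U.hom := by
      refine H21Diag.of_fpqc_cover_base (@QuasiCompact) π hcov U.hom fun s' => ⟨⊤, trivial, ?_⟩
      rw [← Limits.pullbackLeftPullbackSndIso_inv_snd_snd U.hom π (⊤ : S'.Opens).ι,
        MorphismProperty.cancel_left_of_respectsIso (P := @QuasiCompact)]
      refine MorphismProperty.pullback_snd (P := @QuasiCompact) _ _ ?_
      have e : φ.hom.left ≫ H'.hom = Limits.pullback.snd U.hom π := Over.w φ.hom
      rw [← e]
      have : IsIso φ.hom.left := ((Over.forget S').mapIso φ).isIso_hom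
      infer_instance
    have : IsImmersion j.left := H21Cent.isImmersion_of_desc j' hcov hφ
    obtain ⟨inst, hj, hU⟩ := H21Cent.exists_grpObj_desc π j' hcov hH' hφ
    exact ⟨U, inst, j, hj, inferInstance, hU, φ, hφ⟩
  · intro H₁ H₂ _ _ j₁ j₂ _ _ _ _ ⟨φ₁, h₁⟩ ⟨φ₂, h₂⟩
    have key : ∀ {A B : Over S} (a : A ⟶ G) (b : B ⟶ G) [Mono b.left] (ψ : Red.bc π A ⟶ Red.bc π B),
        ψ ≫ (Over.pullback π).map b = (Over.pullback π).map a → ∃ c : A ⟶ B, c ≫ b = a := by
      intro A B a b _ ψ hψ
      obtain ⟨c, hc⟩ := H21Cent.exists_lift_desc π hπ A.hom b.left a.left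
        ((Limits.pullbackSymmetry π A.hom).hom ≫ ψ.left ≫ Limits.pullback.fst B.hom π) (by
          have e1 : ((Over.pullback π).map b).left ≫ Limits.pullback.fst G.hom π =
              Limits.pullback.fst B.hom π ≫ b.left := Limits.pullback.lift_fst _ _ _
          have e2 : ((Over.pullback π).map a).left ≫ Limits.pullback.fst G.hom π =
              Limits.pullback.fst A.hom π ≫ a.left := Limits.pullback.lift_fst _ _ _
          simp only [Category.assoc]
          rw [← e1, ← Category.assoc ψ.left, ← Over.comp_left, hψ, e2, ← Category.assoc,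
            Limits.pullbackSymmetry_hom_comp_fst])
      exact ⟨Over.homMk c (by rw [← Over.w b, ← Category.assoc, hc]; exact Over.w a),
        Over.OverMorphism.ext hc⟩
    have : Mono j₁ := Over.mono_of_mono_left _
    have : Mono j₂ := Over.mono_of_mono_left _
    obtain ⟨c, hc'⟩ := key j₁ j₂ (φ₁.hom ≫ φ₂.inv) (by rw [Category.assoc, ← h₂, φ₂.inv_hom_id_assoc, h₁])
    obtain ⟨d, hd⟩ := key j₂ j₁ (φ₂.hom ≫ φ₁.inv) (by rw [Category.assoc, ← h₁, φ₁.inv_hom_id_assoc, h₂])
    exact ⟨⟨c, d, (cancel_mono j₁).mp (by rw [Category.assoc, hd, hc', Category.id_comp]),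
      (cancel_mono j₂).mp (by rw [Category.assoc, hc', hd, Category.id_comp])⟩, hc'⟩

end Groth.Agent.S5307
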