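import Groth.Statements.S5308
import Groth.Agent.S5266

set_option autoImplicit false
open CategoryTheory MonoidalCategory CartesianMonoidalCategory MonObj GrpObj AlgebraicGeometry
universe u
open SGA3x

namespace Groth.Agent.S5308

set_option linter.style.haveILetI false
set_option backward.isDefEq.respectTransparency false

/-- (i) ⇒ (ii). Let R be a commutative twisted constant S-group which is isotrivial (it becomes a
constant group over the open and closed pieces of one finite etale surjective S' ⟶ S). Then R is a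
union of open and closed subschemes which are quasi-compact, indeed finite, over S: every point of R
has an open and closed neighbourhood U in R with U ⟶ S finite. -/
theorem result {S : Scheme.{u}} (R : Over S) [GrpObj R]
    (hcomm : ∀ (X : Over S) (a b : X ⟶ R), a * b = b * a) (hR : TwC.IsTwConstGrp TwC.Topology.finiteEtale R) (x : R.left) :
    ∃ U : R.left.Opens, x ∈ U ∧ IsClosed (U : Set R.left) ∧ IsFinite (U.ι ≫ R.hom) := by
  classical
  obtain ⟨S', f, hfin, het, hsurj, hloc⟩ := hR
  haveI := hfin; haveI := het; haveI := hsurj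
  have hfp : TwC.IsTwConst TwC.Topology.fpqc R := by
    refine ⟨S', f, inferInstance, hsurj, fun V hV => ⟨f ⁻¹ᵁ V, (hV.preimage f).isCompact, ?_⟩, fun s' => ?_⟩
    · exact Set.image_preimage_eq _ hsurj.surj
    · obtain ⟨U, hsU, -, M, _, e, -⟩ := hloc s'
      exact ⟨U, hsU, M, ⟨e⟩⟩
  let π := Limits.pullback.fst R.hom f
  haveI : IsFinite π := inferInstance
  haveI : Etale π := inferInstance
  haveI : Surjective π := inferInstance
  have hpiece : ∀ y : ↥(Limits.pullback R.hom f), ∃ C : Set ↥(Limits.pullback R.hom f),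
      IsClopen C ∧ y ∈ C ∧ ∀ K : Set S, IsCompact K → IsOpen K → IsCompact (C ∩ (Limits.pullback.snd R.hom f ≫ f) ⁻¹' K) := by
    intro y
    obtain ⟨U, hyU, hUc, M, _, e, -⟩ := hloc (Limits.pullback.snd R.hom f y)
    haveI : IsClosedImmersion U.ι := IsClosedImmersion.of_isPreimmersion _ (by rw [Scheme.Opens.range_ι]; exact hUc)
    let P := Limits.pullback R.hom (U.ι ≫ f)
    let j : P ⟶ Limits.pullback R.hom f :=
      (Limits.pullbackLeftPullbackSndIso R.hom f U.ι).inv ≫ Limits.pullback.fst _ _
    have hj : j ≫ Limits.pullback.snd R.hom f = Limits.pullback.snd R.hom (U.ι ≫ f) ≫ U.ι := by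
      simp only [j, Category.assoc, Limits.pullback.condition]
      rw [Limits.pullbackLeftPullbackSndIso_inv_snd_snd_assoc]
    haveI : IsOpenImmersion j := inferInstance
    haveI : IsClosedImmersion j := inferInstance
    obtain ⟨p, hp⟩ : y ∈ Set.range j := by
      simp only [j]
      rw [Scheme.Hom.comp_base, TopCat.coe_comp, Set.range_comp,
        Set.range_eq_univ.mpr (Limits.pullbackLeftPullbackSndIso R.hom f U.ι).inv.surjective, Set.image_univ,
        Scheme.Pullback.range_fst, Scheme.Opens.range_ι]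
      exact hyU
    haveI : IsIso e.inv.left := inferInstanceAs (IsIso ((Over.forget _).map e.inv))
    obtain ⟨⟨m, u⟩, hmu⟩ := (sigmaMk fun _ : M => (U : Scheme.{u})).surjective (e.hom.left p)
    rw [sigmaMk_mk] at hmu
    let c : U.toScheme ⟶ Limits.pullback R.hom f :=
      Limits.Sigma.ι (fun _ : M => (U : Scheme.{u})) m ≫ e.inv.left ≫ j
    haveI : IsOpenImmersion c := inferInstance
    have hc : c ≫ Limits.pullback.snd R.hom f = U.ι := by
      have he : e.inv.left ≫ Limits.pullback.snd R.hom (U.ι ≫ f) = Limits.Sigma.desc fun _ : M => 𝟙 (U : Scheme.{u}) :=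
        Over.w e.inv
      simp only [c, Category.assoc, hj]
      rw [reassoc_of% he, Limits.Sigma.ι_desc_assoc, Category.id_comp]
    haveI : IsClosedImmersion (Limits.Sigma.ι (fun _ : M => (U : Scheme.{u})) m) := by
      refine IsClosedImmersion.of_isPreimmersion _ ?_
      rw [← isOpen_compl_iff, show (Set.range (Limits.Sigma.ι (fun _ : M => (U : Scheme.{u})) m))ᶜ =
          ⋃ (k) (_ : k ≠ m), Set.range (Limits.Sigma.ι (fun _ : M => (U : Scheme.{u})) k) by
        ext z
        obtain ⟨⟨k, v⟩, rfl⟩ := (sigmaMk fun _ : M => (U : Scheme.{u})).surjective z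
        rw [sigmaMk_mk]
        simp only [Set.mem_compl_iff, Set.mem_iUnion, exists_prop]
        refine ⟨fun hj => ⟨k, fun hkm => hj ⟨v, hkm ▸ rfl⟩, v, rfl⟩, ?_⟩
        rintro ⟨l, hl, v', hv'⟩ ⟨v'', hv''⟩
        have := (sigmaMk fun _ : M => (U : Scheme.{u})).injective (a₁ := ⟨l, v'⟩) (a₂ := ⟨m, v''⟩)
          (by rw [sigmaMk_mk, sigmaMk_mk]; exact hv'.trans hv''.symm)
        exact hl (congrArg Sigma.fst this)]
      exact isOpen_iUnion fun k => isOpen_iUnion fun _ =>
        (Limits.Sigma.ι (fun _ : M => (U : Scheme.{u})) k).isOpenEmbedding.isOpen_range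
    haveI : IsClosedImmersion c := inferInstance
    refine ⟨Set.range c, ⟨c.isClosedEmbedding.isClosed_range, c.isOpenEmbedding.isOpen_range⟩, ⟨u, ?_⟩,
      fun K hKc hKo => ?_⟩
    · simp only [c, Scheme.Hom.comp_apply, hmu]
      exact (congrArg j (show e.inv.left (e.hom.left p) = p from congrArg (fun k => k.left p) e.hom_inv_id)).trans hp
    · rw [Set.inter_comm, ← Set.image_preimage_eq_inter_range, ← Set.preimage_comp]
      refine IsCompact.image ?_ c.continuous
      have e' : ⇑(Limits.pullback.snd R.hom f ≫ f) ∘ c = ⇑(U.ι ≫ f) := by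
        rw [← hc]; rfl
      rw [e']
      exact QuasiCompact.isCompact_preimage (f := U.ι ≫ f) K hKo hKc
  choose C hC hyC hCK using hpiece
  let F := (π.finite_preimage_singleton x).toFinset
  let D : Set ↥(Limits.pullback R.hom f) := ⋃ y ∈ F, C y
  have hD : IsClopen D := isClopen_biUnion_finset fun y _ => hC y
  let W : R.left.Opens := ⟨π '' D, π.isOpenMap _ hD.2⟩
  have hWc : IsClosed (W : Set R.left) := π.isClosedMap _ hD.1
  refine ⟨W, ?_, hWc, ?_⟩
  · obtain ⟨y, hy⟩ := π.surjective x
    exact ⟨y, Set.mem_biUnion ((π.finite_preimage_singleton x).mem_toFinset.mpr hy) (hyC y), hy⟩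
  haveI : IsClosedImmersion W.ι := IsClosedImmersion.of_isPreimmersion _ (by rw [Scheme.Opens.range_ι]; exact hWc)
  haveI : QuasiCompact (W.ι ≫ R.hom) := by
    refine ⟨fun K hKo hKc => ?_⟩
    rw [W.ι.isEmbedding.isCompact_iff, Scheme.Hom.comp_base, TopCat.coe_comp, Set.preimage_comp,
      Set.image_preimage_eq_inter_range, Scheme.Opens.range_ι]
    change IsCompact (R.hom ⁻¹' K ∩ π '' D)
    rw [← Set.image_preimage_inter, Set.inter_comm, ← Set.preimage_comp]
    refine IsCompact.image ?_ π.continuous
    have e : ⇑R.hom ∘ π = ⇑(Limits.pullback.snd R.hom f ≫ f) := by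
      rw [← Limits.pullback.condition]; rfl
    rw [e, Set.iUnion₂_inter]
    exact F.isCompact_biUnion fun y _ => hCK y K hKc hKo
  exact Groth.Agent.S5266.result R hfp W.ι

end Groth.Agent.S5308
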