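import Groth.Statements.S5309
import Groth.Agent.H06FilteredSub.Scheme

set_option autoImplicit false
open CategoryTheory MonoidalCategory CartesianMonoidalCategory MonObj GrpObj AlgebraicGeometry
universe u
open CategoryTheory.Limits
open SGA3x

namespace Groth.Agent.S5309

/-- Let S be a Noetherian scheme, f : X ⟶ S quasi-finite (locally quasi-finite, of finite type), and
(X_i) an increasing filtered family of subschemes of X (immersions x_i : X_i ⟶ X indexed by a
directed preorder, x_i factoring through x_j for i ≤ j) such that for every s ∈ S and every n ≥ 0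
there is an index i for which the base change of x_i to Spec (O_{S,s}/𝔪_s^(n+1)) is an isomorphism
onto X ×_S Spec (O_{S,s}/𝔪_s^(n+1)). Then x_i is an isomorphism for some i. -/
theorem result {S X : Scheme.{u}} [IsNoetherian S] (f : X ⟶ S)
    [LocallyQuasiFinite f] [LocallyOfFiniteType f] [QuasiCompact f]
    {D : Type u} [Preorder D] [IsDirected D (fun a b => a ≤ b)] [Nonempty D]
    (Xi : D → Scheme.{u}) (x : ∀ i, Xi i ⟶ X) (hx : ∀ i, IsImmersion (x i))
    (hmono : ∀ i j, i ≤ j → ∃ t : Xi i ⟶ Xi j, t ≫ x j = x i)
    (h : ∀ (s : S) (n : ℕ), ∃ i : D,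
      IsIso (pullback.snd (x i) (pullback.fst f
        (Spec.map (CommRingCat.ofHom (Ideal.Quotient.mk (IsLocalRing.maximalIdeal (S.presheaf.stalk s) ^ (n + 1)))) ≫ S.fromSpecStalk s)))) :
    ∃ i : D, IsIso (x i) := by
  haveI : IsLocallyNoetherian X := LocallyOfFiniteType.isLocallyNoetherian f
  haveI : CompactSpace X := QuasiCompact.compactSpace_of_compactSpace f
  haveI : IsNoetherian X := {}
  exact H06FilteredSub.exists_isIso f x hx hmono h

end Groth.Agent.S5309
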