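import Groth.Statements.S5311
import Groth.Agent.H19Grp.PointPreds

set_option autoImplicit false
set_option linter.style.haveILetI false
set_option backward.isDefEq.respectTransparency false
universe u
open CategoryTheory CategoryTheory.Limits MonoidalCategory CartesianMonoidalCategory MonObj GrpObj AlgebraicGeometry
open SGA3

namespace Groth.Agent.S5311

/-- Let u : G → H be a homomorphism of S-group schemes with G or H universally open over S, and let V be
the largest open subscheme of G on which the restriction of u is universally open. Then the image U
of V in S is open and V is an open subgroup scheme of G over U: V contains the unit point of every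
fibre of G that it meets, V is stable under the inversion of G, and the product of a point of G ×_S
G whose two projections lie in V lies in V. -/
theorem result (S : Scheme.{u}) (G H : Over S) [GrpObj G] [GrpObj H]
    (u : G ⟶ H) [IsMonHom u] (hG : UniversallyOpen G.hom ∨ UniversallyOpen H.hom)
    (V : G.left.Opens) (hV : UniversallyOpen (V.ι ≫ u.left))
    (hmax : ∀ W : G.left.Opens, UniversallyOpen (W.ι ≫ u.left) → W ≤ V) :
    IsOpen (G.hom.base '' (V : Set G.left)) ∧
    (∀ g ∈ V, ∀ p : ↥(𝟙_ (Over S)).left, (𝟙_ (Over S)).hom.base p = G.hom.base g → η[G].left.base p ∈ V) ∧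
    (∀ g ∈ V, ι[G].left.base g ∈ V) ∧
    (∀ z : ↥(G ⊗ G).left, (fst G G).left.base z ∈ V → (snd G G).left.base z ∈ V → μ[G].left.base z ∈ V) := by
  haveI := hV
  haveI h1 : UniversallyOpen (V.ι ≫ G.hom) := by
    rcases hG with h | h
    · haveI := h; infer_instance
    · haveI := h; rw [← Over.w u, ← Category.assoc]; infer_instance
  exact H19Grp.locus_isSubgroup u (H19Grp.ptBC_onNhd _) H19Grp.ptDesc_universallyOpen V V
    (H19Grp.setOf_onNhd (P := @UniversallyOpen) u.left V hV hmax) le_rfl h1

end Groth.Agent.S5311
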