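import Groth.Statements.S5317
import Groth.Agent.H19Grp.FibreLoci

set_option autoImplicit false
set_option linter.style.haveILetI false
set_option backward.isDefEq.respectTransparency false
universe u
open CategoryTheory CategoryTheory.Limits MonoidalCategory CartesianMonoidalCategory MonObj GrpObj AlgebraicGeometry
open SGA3

namespace Groth.Agent.S5317

/-- Let u : G → H be a homomorphism of S-group schemes which is universally injective (for instance a
monomorphism), with G flat and locally of finite presentation over S and H locally of finite type
over S. Then the set U of points s of S such that u_s : G_s → H_s is an open immersion is open in S,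
and the restriction of u over every open of S contained in U is an open immersion. -/
theorem result (S : Scheme.{u}) (G H : Over S) [GrpObj G] [GrpObj H]
    (u : G ⟶ H) [IsMonHom u] [UniversallyInjective u.left]
    [Flat G.hom] [LocallyOfFinitePresentation G.hom] [LocallyOfFiniteType H.hom] :
    IsOpen {s : S | IsOpenImmersion ((Over.pullback (S.fromSpecResidueField s)).map u).left} ∧
    ∀ W : S.Opens, (W : Set S) ⊆ {s : S | IsOpenImmersion ((Over.pullback (S.fromSpecResidueField s)).map u).left} → IsOpenImmersion ((G.hom ⁻¹ᵁ W).ι ≫ u.left) := by
  have hiff : ∀ s : S, IsOpenImmersion ((Over.pullback (S.fromSpecResidueField s)).map u).left ↔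
      Etale ((Over.pullback (S.fromSpecResidueField s)).map u).left := fun s => by
    haveI : UniversallyInjective ((Over.pullback (S.fromSpecResidueField s)).map u).left :=
      MorphismProperty.of_isPullback (H19Grp.isPullback_map _ u) ‹_›
    exact ⟨fun h => by haveI := h; infer_instance, fun h => by
      haveI := h; exact H18Et.TopInv.isOpenImmersion_of_etale_of_universallyInjective _⟩
  simp only [hiff]
  obtain ⟨ho, he⟩ := H19Grp.isOpen_etale_and_eq u
  refine ⟨ho, fun W hW => ?_⟩
  haveI : UniversallyInjective ((G.hom ⁻¹ᵁ W).ι ≫ u.left) := MorphismProperty.comp_mem @UniversallyInjective _ _ inferInstance ‹_›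
  haveI : Etale ((G.hom ⁻¹ᵁ W).ι ≫ u.left) := H19Grp.of_forall_onNhd @Etale _ fun z => by
    obtain ⟨U, hU, hUe⟩ := he.ge (hW z.2)
    haveI : Etale (U.ι ≫ u.left) := hUe
    refine ⟨(G.hom ⁻¹ᵁ W).ι ⁻¹ᵁ U, hU, ?_⟩
    rw [← morphismRestrict_ι_assoc]
    infer_instance
  exact H18Et.TopInv.isOpenImmersion_of_etale_of_universallyInjective _

end Groth.Agent.S5317
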