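import Groth.Statements.S5318
import Groth.Agent.H19Grp.Diagonal
import Groth.Agent.H19Grp.UnramifiedFibres
import Groth.Agent.H19Grp.FibreLoci

set_option autoImplicit false
set_option maxHeartbeats 1000000
set_option synthInstance.maxHeartbeats 100000
set_option linter.style.haveILetI false
set_option backward.isDefEq.respectTransparency false
universe u
open CategoryTheory CategoryTheory.Limits MonoidalCategory CartesianMonoidalCategory MonObj GrpObj AlgebraicGeometry
open SGA3

namespace Groth.Agent.S5318

open CategoryTheory.Limits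
open scoped TensorProduct

/-- Villamayor: an algebra over a field whose diagonal is open is finite. -/
lemma finite_of_idem {k A : Type u} [Field k] [CommRing A] [Algebra k A] (e : A ⊗[k] A)
    (he : ∀ a : A, (a ⊗ₜ[k] (1 : A)) * e = ((1 : A) ⊗ₜ[k] a) * e)
    (h1 : Algebra.TensorProduct.lmul' k (S := A) e = 1) : Module.Finite k A := by
  classical
  let b := Module.Basis.ofVectorSpace k A
  let E := TensorProduct.equivFinsuppOfBasisRight (M := A) b
  let c := E e
  have hc : (c.sum fun i x => x ⊗ₜ[k] b i) = e := by
    rw [← TensorProduct.equivFinsuppOfBasisRight_symm_apply]; exact E.symm_apply_apply e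
  let V := Submodule.span k (c.support.image c : Set A)
  have key : ∀ (a : A) (j), a * c j ∈ V := by
    intro a j
    have e1 : E ((a ⊗ₜ[k] (1 : A)) * e) j = a * c j := by
      conv_lhs => rw [← hc, Finsupp.sum, Finset.mul_sum]
      simp [E, Algebra.TensorProduct.tmul_mul_tmul, Finsupp.single_apply]
      by_cases hj : c j = 0
      · simp [hj]
      · simp [Finset.sum_ite_eq', hj]
    have e2 : E (((1 : A) ⊗ₜ[k] a) * e) j ∈ V := by
      conv => rw [← hc, Finsupp.sum, Finset.mul_sum]
      simp only [Algebra.TensorProduct.tmul_mul_tmul, one_mul, map_sum, Finsupp.finset_sum_apply, E,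
        TensorProduct.equivFinsuppOfBasisRight_apply_tmul_apply]
      exact V.sum_mem fun i hi => V.smul_mem _ (by
        rw [_root_.one_mul]
        exact Submodule.subset_span (Finset.mem_image_of_mem c hi))
    rw [← e1, he a]
    exact e2
  refine ⟨⟨c.support.image c, top_unique fun a _ => ?_⟩⟩
  have ha : a = ∑ i ∈ c.support, (a * b i) * c i := by
    have h2 : (∑ i ∈ c.support, c i * b i) = 1 := by
      rw [← h1, ← hc, Finsupp.sum, map_sum]
      simp
    conv_lhs => rw [← _root_.mul_one a, ← h2, Finset.mul_sum]
    exact Finset.sum_congr rfl fun i _ => by ring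
  rw [ha]
  exact Submodule.sum_mem _ fun i _ => key _ i

/-- Over a field an open diagonal forces local finiteness. -/
lemma lft_of_diagonal {k : Type u} [Field k] {X : Scheme.{u}} (f : X ⟶ Spec (CommRingCat.of k))
    [IsOpenImmersion (pullback.diagonal f)] : LocallyOfFiniteType f := by
  wlog hX : ∃ A, X = Spec A generalizing X
  · rw [IsZariskiLocalAtSource.iff_of_openCover (P := @LocallyOfFiniteType) X.affineCover]
    intro i
    have inst : IsOpenImmersion (pullback.diagonal (X.affineCover.f i ≫ f)) :=
      MorphismProperty.comp_mem (.diagonal @IsOpenImmersion) _ _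
        (inferInstanceAs (IsOpenImmersion _)) ‹_›
    exact this (_ ≫ _) ⟨_, rfl⟩
  obtain ⟨A, rfl⟩ := hX
  obtain ⟨φ, rfl : Spec.map φ = f⟩ := Spec.homEquiv.symm.surjective f
  rw [HasRingHomProperty.Spec_iff (P := @LocallyOfFiniteType)]
  algebraize [φ.hom]
  let F := (Algebra.TensorProduct.lmul' k (S := A)).toRingHom
  have hF : Function.Surjective F := fun x ↦ ⟨.mk _ _ _ x 1, by simp [F]⟩
  have : IsOpenImmersion (Spec.map (CommRingCat.ofHom F)) := by
    rwa [← MorphismProperty.cancel_right_of_respectsIso (P := @IsOpenImmersion) _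
      (pullbackSpecIso k A A).inv, ← AlgebraicGeometry.diagonal_SpecMap k A]
  obtain ⟨e, he, he'⟩ := (isOpenImmersion_SpecMap_iff_of_surjective _ hF).mp this
  haveI : Module.Finite k A := finite_of_idem (1 - e) (fun a => by
    have hm : a ⊗ₜ[k] (1 : A) - (1 : A) ⊗ₜ[k] a ∈ RingHom.ker F := by
      simp [RingHom.mem_ker, F]
    obtain ⟨z, hz⟩ := Ideal.mem_span_singleton.mp (he'.le hm)
    rw [← sub_eq_zero, ← sub_mul, hz]
    linear_combination -(z * he.eq)) (by
    have : F e = 0 := RingHom.mem_ker.mp (he'.ge (Ideal.mem_span_singleton_self e))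
    show F (1 - e) = 1
    rw [map_sub, map_one, this, sub_zero])
  show φ.hom.FiniteType
  exact RingHom.finiteType_algebraMap.2 inferInstance


/-- (ii) ⟺ (iii) and, for G locally of finite presentation over S, (ii) ⟺ (iv): let G be an S-group
scheme. The unit section of G is an open immersion if and only if G is locally of finite
presentation over S on some open containing the unit section and every fibre G_s is unramified
(formally unramified and locally of finite presentation) over κ(s). If G is locally of finite
presentation over S, the unit section is an open immersion if and only if G is unramified over S. -/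
theorem result (S : Scheme.{u}) (G : Over S) [GrpObj G] :
    (IsOpenImmersion η[G].left ↔
      ((∃ W : G.left.Opens, (∀ p : ↥(𝟙_ (Over S)).left, η[G].left.base p ∈ W) ∧ LocallyOfFinitePresentation (W.ι ≫ G.hom)) ∧
        ∀ s : S, FormallyUnramified (G.hom.fiberToSpecResidueField s) ∧ LocallyOfFinitePresentation (G.hom.fiberToSpecResidueField s))) ∧
    (LocallyOfFinitePresentation G.hom → (IsOpenImmersion η[G].left ↔ FormallyUnramified G.hom)) := by
  refine ⟨⟨fun hη => ⟨⟨η[G].left.opensRange, fun p => ⟨p, rfl⟩, ?_⟩, fun s => ?_⟩, ?_⟩, fun h =>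
    (Groth.Agent.H19Grp.formallyUnramified_iff_isOpenImmersion_one G).symm⟩
  · haveI : IsIso (η[G].left.opensRange.ι ≫ G.hom) := by
      haveI : IsIso (η[G].left.isoOpensRange.hom ≫ η[G].left.opensRange.ι ≫ G.hom) := by
        rw [Scheme.Hom.isoOpensRange_hom_ι_assoc, Over.w η[G]]
        exact inferInstanceAs (IsIso (𝟙 S))
      exact IsIso.of_isIso_comp_left η[G].left.isoOpensRange.hom _
    infer_instance
  · let F := Over.pullback (S.fromSpecResidueField s)
    let _ : GrpObj (F.obj G) := Functor.grpObjObj
    haveI : IsOpenImmersion (F.map η[G]).left :=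
      MorphismProperty.of_isPullback (P := @IsOpenImmersion) (Groth.Agent.H19Grp.isPullback_map _ η[G]) hη
    haveI : IsOpenImmersion η[F.obj G].left := by
      show IsOpenImmersion ((Functor.LaxMonoidal.ε F).left ≫ (F.map η[G]).left)
      infer_instance
    haveI : IsOpenImmersion (pullback.diagonal (F.obj G).hom) :=
      Groth.Agent.H19Grp.diagonal_of_unit (F.obj G) @IsOpenImmersion inferInstance
    haveI : LocallyOfFiniteType (F.obj G).hom := lft_of_diagonal (k := S.residueField s) _
    exact ⟨inferInstanceAs (FormallyUnramified (F.obj G).hom), inferInstanceAs (LocallyOfFinitePresentation (F.obj G).hom)⟩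
  · rintro ⟨⟨W, hW, hWf⟩, hfib⟩
    let σ : S ⟶ W.toScheme := IsOpenImmersion.lift W.ι η[G].left (by
      rw [Scheme.Opens.range_ι]
      rintro _ ⟨p, rfl⟩
      exact hW p)
    have hσι : σ ≫ W.ι = η[G].left := IsOpenImmersion.lift_fac _ _ _
    have hσ : σ ≫ W.ι ≫ G.hom = 𝟙 S := by rw [reassoc_of% hσι, Over.w η[G]]; rfl
    haveI : FormallyUnramified (W.ι ≫ G.hom) := Groth.Agent.H19Grp.formallyUnramified_of_fibres _ fun s => by
      haveI := (hfib s).1
      let m : pullback (W.ι ≫ G.hom) (S.fromSpecResidueField s) ⟶ pullback G.hom (S.fromSpecResidueField s) :=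
        pullback.map _ _ _ _ W.ι (𝟙 _) (𝟙 _) (by simp) (by simp)
      haveI : IsOpenImmersion m := inferInstance
      show FormallyUnramified (pullback.snd (W.ι ≫ G.hom) (S.fromSpecResidueField s))
      rw [show pullback.snd (W.ι ≫ G.hom) (S.fromSpecResidueField s) = m ≫ pullback.snd G.hom (S.fromSpecResidueField s) by
        simp [m]]
      exact MorphismProperty.comp_mem _ _ _ inferInstance ‹FormallyUnramified (G.hom.fiberToSpecResidueField s)›
    haveI : IsOpenImmersion σ := MorphismProperty.of_isPullback (P := @IsOpenImmersion)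
      (Groth.Agent.H19Grp.isPullback_section (W.ι ≫ G.hom) σ hσ).flip inferInstance
    show IsOpenImmersion η[G].left
    rw [← hσι]
    infer_instance

end Groth.Agent.S5318
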