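import Groth.Statements.S5319
import Groth.Agent.H19Grp.FibreLoci
import Groth.Agent.H18Descent.Basic
import Groth.Agent.H12AlgSp.UnivInj

set_option autoImplicit false
set_option maxHeartbeats 1000000
set_option synthInstance.maxHeartbeats 100000
set_option linter.style.haveILetI false
set_option backward.isDefEq.respectTransparency false
universe u
open CategoryTheory CategoryTheory.Limits MonoidalCategory CartesianMonoidalCategory MonObj GrpObj AlgebraicGeometry
open SGA3

namespace Groth.Agent.S5319

open CategoryTheory.Limits


/-- Let u : G → H be a homomorphism of S-group schemes which is locally of finite type, with every fibre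
G_s locally of finite type over κ(s), and let i : K → G be the kernel of u (the square i, u, unit of
H is cartesian). The following are equivalent: u is locally quasi-finite; every fibre u_s : G_s →
H_s is locally quasi-finite; K is locally quasi-finite over S; every fibre of K over S is a discrete
space. -/
theorem result (S : Scheme.{u}) (G H : Over S) [GrpObj G] [GrpObj H] (u : G ⟶ H) [IsMonHom u]
    [LocallyOfFiniteType u.left] (hG : ∀ s : S, LocallyOfFiniteType (G.hom.fiberToSpecResidueField s)) (K : Over S) [GrpObj K] (i : K ⟶ G) [IsMonHom i] (hK : AlgGrp.IsKernel i u) :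
    (LocallyQuasiFinite u.left ↔ ∀ s : S, LocallyQuasiFinite ((Over.pullback (S.fromSpecResidueField s)).map u).left) ∧
    (LocallyQuasiFinite u.left ↔ LocallyQuasiFinite K.hom) ∧
    (LocallyQuasiFinite u.left ↔ ∀ s : S, DiscreteTopology ↥(K.hom.base ⁻¹' {s})) := by
  have hsq := hK.map (Over.forget S)
  simp only [Over.forget_map, Over.toUnit_left] at hsq
  haveI : LocallyOfFiniteType K.hom := MorphismProperty.of_isPullback (P := @LocallyOfFiniteType) hsq inferInstance
  have hKu : LocallyQuasiFinite u.left → LocallyQuasiFinite K.hom := fun h =>
    MorphismProperty.of_isPullback (P := @LocallyQuasiFinite) hsq h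
  have huK : LocallyQuasiFinite K.hom → LocallyQuasiFinite u.left := fun hlqf => by
    let Q : Over S := Over.mk (pullback.fst u.left u.left ≫ G.hom)
    let a : Q ⟶ G := Over.homMk (pullback.fst u.left u.left) rfl
    let b : Q ⟶ G := Over.homMk (pullback.snd u.left u.left) (by
      show pullback.snd u.left u.left ≫ G.hom = pullback.fst u.left u.left ≫ G.hom
      rw [← Over.w u, pullback.condition_assoc])
    have hab : a ≫ u = b ≫ u := Over.OverMorphism.ext pullback.condition
    obtain ⟨n, hn, -⟩ := hK.exists_lift (a * b⁻¹) (toUnit Q) (by
      rw [MonObj.mul_comp, GrpObj.inv_comp, hab, mul_inv_cancel, Hom.one_def])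
    let l : K ⊗ G ⟶ Q := Over.homMk (pullback.lift ((fst K G ≫ i) * snd K G).left (snd K G).left (by
      rw [← Over.comp_left, ← Over.comp_left]
      congr 1
      rw [MonObj.mul_comp, Category.assoc, hK.w, ← Category.assoc, toUnit_unique (fst K G ≫ toUnit K) (toUnit _),
        ← Hom.one_def, _root_.one_mul])) (by
      show pullback.lift _ _ _ ≫ pullback.fst u.left u.left ≫ G.hom = (K ⊗ G).hom
      rw [pullback.lift_fst_assoc, Over.w])
    have hla : l ≫ a = (fst K G ≫ i) * snd K G := Over.OverMorphism.ext (pullback.lift_fst _ _ _)
    have hlb : l ≫ b = snd K G := Over.OverMorphism.ext (pullback.lift_snd _ _ _)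
    haveI : Mono i := ⟨fun g h e => hK.hom_ext e (toUnit_unique _ _)⟩
    let e : K ⊗ G ≅ Q :=
      { hom := l
        inv := lift n b
        hom_inv_id := by
          apply CartesianMonoidalCategory.hom_ext
          · rw [Category.assoc, lift_fst, Category.id_comp, ← cancel_mono i, Category.assoc, hn,
              MonObj.comp_mul, GrpObj.comp_inv, hla, hlb, mul_inv_cancel_right]
          · rw [Category.assoc, lift_snd, hlb, Category.id_comp]
        inv_hom_id := by
          have h1 : (lift n b ≫ l) ≫ a = 𝟙 Q ≫ a := by
            rw [Category.assoc, hla, MonObj.comp_mul, ← Category.assoc, lift_fst, lift_snd, hn,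
              inv_mul_cancel_right, Category.id_comp]
          have h2 : (lift n b ≫ l) ≫ b = 𝟙 Q ≫ b := by rw [Category.assoc, hlb, lift_snd, Category.id_comp]
          exact Over.OverMorphism.ext (pullback.hom_ext (congrArg CommaMorphism.left h1) (congrArg CommaMorphism.left h2)) }
    haveI : LocallyQuasiFinite (pullback.snd u.left u.left) := by
      haveI : LocallyQuasiFinite (snd K G).left := MorphismProperty.pullback_snd (P := @LocallyQuasiFinite) K.hom G.hom hlqf
      haveI : IsIso e.inv.left := by
        haveI : IsIso e.inv := Iso.isIso_inv e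
        exact Functor.map_isIso (Over.forget S) e.inv
      have : pullback.snd u.left u.left = e.inv.left ≫ (snd K G).left := by
        rw [← Over.comp_left, show e.inv ≫ snd K G = b from lift_snd _ _]; rfl
      rw [this]
      infer_instance
    refine LocallyQuasiFinite.of_fiberToSpecResidueField u.left fun y => ?_
    by_cases hy : y ∈ Set.range u.left
    swap
    · haveI : IsEmpty (u.left.fiber y) := ⟨fun z => hy ⟨_, (u.left.range_fiberι y).subset (Set.mem_range_self z)⟩⟩
      infer_instance
    obtain ⟨x, rfl⟩ := hy
    let r := Spec.map (u.left.residueFieldMap x)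
    let t := G.left.fromSpecResidueField x ≫ u.left
    have hrt : r ≫ H.left.fromSpecResidueField (u.left x) = t := Scheme.Hom.SpecMap_residueFieldMap_fromSpecResidueField _ _
    haveI : LocallyQuasiFinite (pullback.snd u.left t) := by
      rw [show pullback.snd u.left t = (pullbackLeftPullbackSndIso u.left u.left (G.left.fromSpecResidueField x)).inv ≫
        pullback.snd _ (G.left.fromSpecResidueField x) by simp [t]]
      infer_instance
    let m : pullback u.left t ⟶ u.left.fiber (u.left x) :=
      pullback.lift (pullback.fst _ _) (pullback.snd _ _ ≫ r) (by rw [Category.assoc, hrt, pullback.condition])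
    have sq : IsPullback (pullback.snd u.left t) m r (u.left.fiberToSpecResidueField (u.left x)) := by
      refine (IsPullback.of_right (h₁₂ := pullback.fst u.left (H.left.fromSpecResidueField (u.left x)))
        (h₂₂ := H.left.fromSpecResidueField (u.left x)) ?_ (pullback.lift_snd _ _ _)
        (IsPullback.of_hasPullback _ _)).flip
      rw [pullback.lift_fst, hrt]
      exact IsPullback.of_hasPullback _ _
    haveI : Surjective r := ⟨fun z => ⟨IsLocalRing.closedPoint _, Subsingleton.elim (α := PrimeSpectrum (H.left.residueField (u.left x))) _ _⟩⟩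
    haveI : Flat r := Groth.Agent.H12AlgSp.flat_to_field r
    exact MorphismProperty.of_isPullback_of_descendsAlong (P := @LocallyQuasiFinite) (Q := H18Descent.fpqc) sq
      ⟨⟨inferInstance, inferInstance⟩, inferInstance⟩ inferInstance
  refine ⟨⟨fun h s => MorphismProperty.of_isPullback (P := @LocallyQuasiFinite)
      (Groth.Agent.H19Grp.isPullback_map (S.fromSpecResidueField s) u) h, fun h => ?_⟩, ⟨hKu, huK⟩, ?_⟩
  · exact LocallyQuasiFinite.of_fiberToSpecResidueField u.left fun y =>
      Groth.Agent.H19Grp.fibre_point_of_map u y (h (H.hom y))
  · refine ⟨fun h s => ?_, fun h => huK ?_⟩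
    · haveI := hKu h
      exact isDiscrete_iff_discreteTopology.1 (K.hom.isDiscrete_preimage_singleton s)
    · exact locallyQuasiFinite_iff_isDiscrete_preimage_singleton.2 fun s => isDiscrete_iff_discreteTopology.2 (h s)

end Groth.Agent.S5319
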