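import Groth.Statements.S5320
import Groth.Agent.H19Grp.Diagonal
import Groth.Agent.H19Grp.UnramifiedFibres
import Groth.Agent.H19Grp.FibreLoci

set_option autoImplicit false
set_option maxHeartbeats 1000000
set_option synthInstance.maxHeartbeats 100000
set_option linter.style.haveILetI false
set_option backward.isDefEq.respectTransparency false
universe u
open CategoryTheory CategoryTheory.Limits MonoidalCategory CartesianMonoidalCategory MonObj GrpObj AlgebraicGeometry
open SGA3

namespace Groth.Agent.S5320

open CategoryTheory.Limits


/-- Let u : G → H be a homomorphism of S-group schemes which is locally of finite presentation, with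
every fibre G_s locally of finite type over κ(s), and let i : K → G be the kernel of u (the square
i, u, unit of H is cartesian, K with the group structure making i a homomorphism). The following are
equivalent: u is unramified (formally unramified); every fibre u_s : G_s → H_s is unramified; K is
unramified over S; the unit section of K is an open immersion. -/
theorem result (S : Scheme.{u}) (G H : Over S) [GrpObj G] [GrpObj H] (u : G ⟶ H) [IsMonHom u]
    [LocallyOfFinitePresentation u.left] (hG : ∀ s : S, LocallyOfFiniteType (G.hom.fiberToSpecResidueField s)) (K : Over S) [GrpObj K] (i : K ⟶ G) [IsMonHom i] (hK : AlgGrp.IsKernel i u) :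
    (FormallyUnramified u.left ↔ ∀ s : S, FormallyUnramified ((Over.pullback (S.fromSpecResidueField s)).map u).left) ∧
    (FormallyUnramified u.left ↔ FormallyUnramified K.hom) ∧
    (FormallyUnramified u.left ↔ IsOpenImmersion η[K].left) := by
  let Q : Over S := Over.mk (pullback.fst u.left u.left ≫ G.hom)
  let a : Q ⟶ G := Over.homMk (pullback.fst u.left u.left) rfl
  let b : Q ⟶ G := Over.homMk (pullback.snd u.left u.left) (by
    show pullback.snd u.left u.left ≫ G.hom = pullback.fst u.left u.left ≫ G.hom
    rw [← Over.w u, pullback.condition_assoc])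
  have hab : a ≫ u = b ≫ u := Over.OverMorphism.ext pullback.condition
  haveI : LocallyOfFiniteType K.hom := by
    have h := (hK.map (Over.forget S)).flip
    simp only [Over.forget_map, Over.toUnit_left] at h
    exact MorphismProperty.of_isPullback (P := @LocallyOfFiniteType) h.flip inferInstance
  have hKu : FormallyUnramified u.left → FormallyUnramified K.hom := fun _ => by
    have h := hK.map (Over.forget S)
    simp only [Over.forget_map, Over.toUnit_left] at h
    exact MorphismProperty.of_isPullback (P := @FormallyUnramified) h inferInstance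
  have huK : IsOpenImmersion η[K].left → FormallyUnramified u.left := fun hη => by
    obtain ⟨n, hn, -⟩ := hK.exists_lift (a * b⁻¹) (toUnit Q) (by
      rw [MonObj.mul_comp, GrpObj.inv_comp, hab, mul_inv_cancel, Hom.one_def])
    let d : G ⟶ Q := Over.homMk (pullback.lift (𝟙 _) (𝟙 _) rfl) (by
      show pullback.lift _ _ _ ≫ pullback.fst u.left u.left ≫ G.hom = G.hom
      rw [pullback.lift_fst_assoc, Category.id_comp])
    have hda : d ≫ a = 𝟙 G := Over.OverMorphism.ext (pullback.lift_fst _ _ _)
    have hdb : d ≫ b = 𝟙 G := Over.OverMorphism.ext (pullback.lift_snd _ _ _)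
    haveI : Mono i := ⟨fun g h e => hK.hom_ext e (toUnit_unique _ _)⟩
    have hdn : d ≫ n = toUnit G ≫ η[K] := by
      rw [← cancel_mono i, Category.assoc, hn, MonObj.comp_mul, GrpObj.comp_inv, hda, hdb, mul_inv_cancel,
        Category.assoc, IsMonHom.one_hom, Hom.one_def]
    have sq : IsPullback d (toUnit G) n η[K] := by
      refine ⟨⟨hdn⟩, ⟨PullbackCone.IsLimit.mk _ (fun s => s.fst ≫ a) (fun s => ?_) (fun s => toUnit_unique _ _)
        (fun s m h₁ _ => by rw [← h₁, Category.assoc, hda, Category.comp_id])⟩⟩
      have h1 := congrArg (· ≫ i) s.condition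
      simp only [Category.assoc, hn, IsMonHom.one_hom, MonObj.comp_mul, GrpObj.comp_inv] at h1
      rw [toUnit_unique s.snd (toUnit _), ← Hom.one_def, mul_inv_eq_one] at h1
      apply Over.OverMorphism.ext
      refine pullback.hom_ext ?_ ?_
      · exact congrArg CommaMorphism.left (show ((s.fst ≫ a) ≫ d) ≫ a = s.fst ≫ a by
          rw [Category.assoc, hda, Category.comp_id])
      · exact congrArg CommaMorphism.left (show ((s.fst ≫ a) ≫ d) ≫ b = s.fst ≫ b by
          rw [Category.assoc, hdb, Category.comp_id, h1])
    have sq' := sq.map (Over.forget S)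
    simp only [Over.forget_map, Over.toUnit_left] at sq'
    haveI : IsOpenImmersion (pullback.diagonal u.left) :=
      MorphismProperty.of_isPullback (P := @IsOpenImmersion) sq'.flip hη
    infer_instance
  have hiff : FormallyUnramified K.hom ↔ IsOpenImmersion η[K].left :=
    Groth.Agent.H19Grp.formallyUnramified_iff_isOpenImmersion_one K
  refine ⟨⟨fun h s => MorphismProperty.of_isPullback (P := @FormallyUnramified)
      (Groth.Agent.H19Grp.isPullback_map (S.fromSpecResidueField s) u) h, fun h => ?_⟩,
    ⟨hKu, fun h => huK (hiff.1 h)⟩, ⟨fun h => hiff.1 (hKu h), huK⟩⟩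
  exact Groth.Agent.H19Grp.formallyUnramified_of_fibres u.left fun y =>
    Groth.Agent.H19Grp.fibre_point_of_map u y (h (H.hom y))

end Groth.Agent.S5320
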