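import Groth.Statements.S5321
import Groth.Agent.H17.LocusBC

set_option autoImplicit false
set_option linter.style.haveILetI false
set_option backward.isDefEq.respectTransparency false
universe u
open CategoryTheory CategoryTheory.Limits MonoidalCategory CartesianMonoidalCategory MonObj GrpObj AlgebraicGeometry
open SGA3

namespace Groth.Agent.S5321

private theorem isOpenImmersion_of_comp_unramified {X Y Z : Scheme.{u}} (g : X ⟶ Y) (f : Y ⟶ Z)
    [FormallyUnramified f] [LocallyOfFiniteType f] [IsOpenImmersion (g ≫ f)] : IsOpenImmersion g := by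
  have : g = pullback.lift (𝟙 X) g (by simp) ≫ pullback.snd (g ≫ f) f := by simp
  rw [this]
  haveI : IsOpenImmersion (pullback.lift (𝟙 X) g (by simp : 𝟙 X ≫ g ≫ f = g ≫ f)) :=
    MorphismProperty.of_isPullback (P := @IsOpenImmersion) (pullback_lift_diagonal_isPullback g f) inferInstance
  infer_instance


/-- Consider a morphism π : X → S admitting a section ε, and assume the map of underlying spaces of π is
closed. Fix a point s of S, and suppose that on some open neighbourhood of ε(s) the morphism π is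
locally of finite presentation, and that the fibre X_s → Spec κ(s) is an isomorphism. Under these
assumptions one can find an open subset U of S containing s such that π restricts to an isomorphism
π⁻¹(U) → U (consequently ε restricted to U is an isomorphism onto π⁻¹(U)). -/
theorem result (X S : Scheme.{u}) (π : X ⟶ S) (ε : S ⟶ X) (hε : ε ≫ π = 𝟙 S)
    (hcl : IsClosedMap π.base) (s : S)
    (hfp : ∃ W : X.Opens, ε.base s ∈ W ∧ LocallyOfFinitePresentation (W.ι ≫ π))
    (hs : IsIso (π.fiberToSpecResidueField s)) :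
    ∃ U : S.Opens, s ∈ U ∧ IsIso (π ∣_ U) := by
  obtain ⟨W, hWs, hWfp⟩ := hfp
  haveI := hWfp
  haveI := hs
  have hπε : ∀ t, π (ε t) = t := fun t => by
    rw [← Scheme.Hom.comp_apply, hε]; rfl
  have hfib : ∀ x, π x = s → x = ε s := by
    intro x hx
    obtain ⟨a, rfl⟩ := (π.range_fiberι s).ge (show x ∈ π ⁻¹' {s} from hx)
    obtain ⟨b, hb⟩ := (π.range_fiberι s).ge (show ε s ∈ π ⁻¹' {s} from hπε s)
    haveI : Subsingleton (Spec (S.residueField s)) := inferInstanceAs (Subsingleton (PrimeSpectrum (S.residueField s)))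
    rw [← hb, (π.fiberToSpecResidueField s).isOpenEmbedding.injective (Subsingleton.elim (π.fiberToSpecResidueField s a) (π.fiberToSpecResidueField s b))]
  -- unramified neighbourhood
  obtain ⟨a₀, ha₀⟩ := (π.range_fiberι s).ge (show ε s ∈ π ⁻¹' {s} from hπε s)
  haveI : Subsingleton (π.fiber s) := ⟨fun a b => (π.fiberι s).isEmbedding.injective
    ((hfib _ ((π.range_fiberι s).le ⟨a, rfl⟩)).trans (hfib _ ((π.range_fiberι s).le ⟨b, rfl⟩)).symm)⟩
  have hsq : IsPullback (pullback.fst (W.ι ≫ π) (S.fromSpecResidueField s))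
      (pullback.snd (W.ι ≫ π) (S.fromSpecResidueField s)) (W.ι ≫ π) (S.fromSpecResidueField s) :=
    IsPullback.of_hasPullback _ _
  let e := pullback.map (W.ι ≫ π) (S.fromSpecResidueField s) π (S.fromSpecResidueField s) W.ι (𝟙 _) (𝟙 _)
    (Category.comp_id _) (by simp)
  haveI : IsOpenImmersion e := inferInstance
  obtain ⟨a₁, ha₁⟩ : a₀ ∈ Set.range e := by
    dsimp only [e]
    erw [Scheme.Pullback.range_map]
    refine ⟨?_, by simp⟩
    show pullback.fst π (S.fromSpecResidueField s) a₀ ∈ Set.range W.ι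
    rw [W.range_ι]
    exact ha₀.symm ▸ hWs
  haveI : Surjective e := ⟨fun a => ⟨a₁, Subsingleton.elim (α := π.fiber s) _ _⟩⟩
  haveI : IsIso e := (isIso_iff_isOpenImmersion_and_epi_base e).2 ⟨inferInstance,
    (TopCat.epi_iff_surjective _).2 e.surjective⟩
  haveI : IsIso (pullback.snd (W.ι ≫ π) (S.fromSpecResidueField s)) := by
    have h : pullback.snd (W.ι ≫ π) (S.fromSpecResidueField s) = e ≫ π.fiberToSpecResidueField s := by
      simp [e, Scheme.Hom.fiberToSpecResidueField]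
    rw [h]; infer_instance
  obtain ⟨O, haO, hO⟩ := H17.LocusBC.exists_formallyUnramified_of_baseChange hsq a₁ ⊤ trivial
  haveI := hO
  let O' : X.Opens := W.ι ''ᵁ O
  have hsO : ε s ∈ O' := by
    refine ⟨_, haO, ?_⟩
    rw [← ha₀, ← ha₁]
    have h : e ≫ pullback.fst π (S.fromSpecResidueField s) =
        pullback.fst (W.ι ≫ π) (S.fromSpecResidueField s) ≫ W.ι := by simp [e]
    exact (congrArg (fun m : pullback (W.ι ≫ π) (S.fromSpecResidueField s) ⟶ X => m a₁) h).symm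
  let U₂ : S.Opens := ε ⁻¹ᵁ O'
  let σ : U₂.toScheme ⟶ O.toScheme := IsOpenImmersion.lift (O.ι ≫ W.ι) (U₂.ι ≫ ε) (by
    rintro _ ⟨t, rfl⟩
    obtain ⟨w, hw, hw'⟩ := (U₂.range_ι.le ⟨t, rfl⟩ : U₂.ι t ∈ U₂)
    obtain ⟨o, rfl⟩ := O.range_ι.ge hw
    exact ⟨o, hw'⟩)
  have hσ : σ ≫ O.ι ≫ W.ι = U₂.ι ≫ ε := IsOpenImmersion.lift_fac _ _ _
  haveI : IsOpenImmersion (σ ≫ O.ι ≫ W.ι ≫ π) := by
    rw [show σ ≫ O.ι ≫ W.ι ≫ π = U₂.ι by rw [reassoc_of% hσ, hε, Category.comp_id]]
    infer_instance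
  haveI : IsOpenImmersion σ := isOpenImmersion_of_comp_unramified σ (O.ι ≫ W.ι ≫ π)
  haveI : IsOpenImmersion (U₂.ι ≫ ε) := by rw [← hσ]; infer_instance
  let E : X.Opens := (U₂.ι ≫ ε).opensRange
  have hEs : ε s ∈ E := ⟨⟨s, hsO⟩, rfl⟩
  have hK : IsClosed (π '' (↑E)ᶜ) := hcl _ E.2.isClosed_compl
  let U : S.Opens := U₂ ⊓ ⟨(π '' (↑E)ᶜ)ᶜ, hK.isOpen_compl⟩
  refine ⟨U, ⟨hsO, ?_⟩, ?_⟩
  · rintro ⟨x, hx, hxs⟩
    exact hx (hfib x hxs ▸ hEs)
  · have hmem : ∀ t ∈ U, ε t ∈ π ⁻¹ᵁ U := fun t ht => show π (ε t) ∈ U by rw [hπε]; exact ht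
    let j : U.toScheme ⟶ (π ⁻¹ᵁ U).toScheme := IsOpenImmersion.lift (π ⁻¹ᵁ U).ι (U.ι ≫ ε) (by
      rw [Scheme.Opens.range_ι]
      rintro _ ⟨t, rfl⟩
      exact hmem _ (U.range_ι.le ⟨t, rfl⟩))
    have hj : j ≫ (π ⁻¹ᵁ U).ι = U.ι ≫ ε := IsOpenImmersion.lift_fac _ _ _
    have hjπ : j ≫ (π ∣_ U) = 𝟙 _ := by
      rw [← cancel_mono U.ι, Category.assoc, morphismRestrict_ι, reassoc_of% hj, hε, Category.comp_id, Category.id_comp]
    haveI : IsOpenImmersion j := by
      have h : IsOpenImmersion (j ≫ (π ⁻¹ᵁ U).ι) := by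
        rw [hj, ← S.homOfLE_ι (inf_le_left : U ≤ U₂), Category.assoc]
        infer_instance
      exact IsOpenImmersion.of_comp j (π ⁻¹ᵁ U).ι
    haveI : Surjective j := by
      refine ⟨fun x => ?_⟩
      have hxE : (π ⁻¹ᵁ U).ι x ∈ E := by
        by_contra h
        exact ((π ⁻¹ᵁ U).range_ι.le ⟨x, rfl⟩ : π _ ∈ U).2 ⟨_, h, rfl⟩
      obtain ⟨t, ht⟩ := hxE
      have ht' : U₂.ι t ∈ U := by
        have := ((π ⁻¹ᵁ U).range_ι.le ⟨x, rfl⟩ : π _ ∈ U)
        rw [← ht, Scheme.Hom.comp_apply] at this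
        exact hπε (U₂.ι t) ▸ this
      obtain ⟨t', hte⟩ := U.range_ι.ge ht'
      refine ⟨t', (π ⁻¹ᵁ U).ι.isOpenEmbedding.injective ?_⟩
      rw [← Scheme.Hom.comp_apply, hj, Scheme.Hom.comp_apply, hte, ← ht, Scheme.Hom.comp_apply]
    haveI : IsIso j := (isIso_iff_isOpenImmersion_and_epi_base j).2 ⟨inferInstance,
      (TopCat.epi_iff_surjective _).2 j.surjective⟩
    rw [show π ∣_ U = inv j by rw [← cancel_epi j, hjπ, IsIso.hom_inv_id]]
    infer_instance

end Groth.Agent.S5321
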