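import Groth.Statements.S5323
import Groth.Agent.H19Grp.NeutralCompact

set_option autoImplicit false
set_option maxHeartbeats 1000000
set_option synthInstance.maxHeartbeats 100000
set_option linter.style.haveILetI false
set_option backward.isDefEq.respectTransparency false
universe u
open CategoryTheory CategoryTheory.Limits MonoidalCategory CartesianMonoidalCategory MonObj GrpObj AlgebraicGeometry
open SGA3

namespace Groth.Agent.S5323

/-- Let S be a quasi-compact quasi-separated scheme and G an S-group scheme whose fibres G_s are locally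
of finite type over κ(s). Then there is a quasi-compact open subset of G containing the union of the
neutral components of the fibres G_s. -/
theorem result (S : Scheme.{u}) [CompactSpace S] [QuasiSeparatedSpace S]
    (G : Over S) [GrpObj G] (hG : ∀ s : S, LocallyOfFiniteType (G.hom.fiberToSpecResidueField s)) :
    ∃ U : G.left.Opens, IsCompact (U : Set G.left) ∧ SGA3x.neutralSet G ⊆ U := by
  haveI : QuasiSeparatedSpace (⊤ : S.Opens) := by
    have := (Scheme.Opens.ι (⊤ : S.Opens)).isOpenEmbedding
    exact this.quasiSeparatedSpace
  obtain ⟨K, hK, hsub, -⟩ := H19Grp.exists_compact_supset_neutralSet G ⊤ isCompact_univ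
  obtain ⟨t, ht⟩ := hK.elim_finite_subcover
    (fun U : {U : G.left.Opens // IsAffineOpen U} => (U.1 : Set G.left)) (fun U => U.1.2) (by
      intro x _
      obtain ⟨U, hU, hxU, -⟩ := exists_isAffineOpen_mem_and_subset (X := G.left) (x := x) (U := ⊤) trivial
      exact Set.mem_iUnion.2 ⟨⟨U, hU⟩, hxU⟩)
  refine ⟨⟨⋃ U ∈ t, (U.1 : Set G.left), isOpen_biUnion fun U _ => U.1.2⟩,
    t.isCompact_biUnion fun U _ => U.2.isCompact, fun x hx => ht (hsub ⟨hx, trivial⟩)⟩

end Groth.Agent.S5323
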