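import Groth.Statements.S5324
import Groth.Agent.H19Grp.NeutralCompact

set_option autoImplicit false
set_option maxHeartbeats 1000000
set_option synthInstance.maxHeartbeats 100000
set_option linter.style.haveILetI false
set_option backward.isDefEq.respectTransparency false
universe u
open CategoryTheory CategoryTheory.Limits MonoidalCategory CartesianMonoidalCategory MonObj GrpObj AlgebraicGeometry
open SGA3

namespace Groth.Agent.S5324

/-- Let G be an S-group scheme whose fibres G_s are locally of finite type over κ(s) and connected. Then
G is quasi-compact over S. -/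
theorem result (S : Scheme.{u}) (G : Over S) [GrpObj G]
    (hG : ∀ s : S, LocallyOfFiniteType (G.hom.fiberToSpecResidueField s))
    (hconn : ∀ s : S, _root_.IsConnected (G.hom.base ⁻¹' {s})) : QuasiCompact G.hom := by
  rw [quasiCompact_iff_forall_isAffineOpen]
  intro V hV
  haveI : IsAffine V := hV
  obtain ⟨K, hK, hsub, hKV⟩ := H19Grp.exists_compact_supset_neutralSet G V hV.isCompact
  convert hK
  refine Set.Subset.antisymm (fun x hx => hsub ⟨?_, hx⟩) hKV
  rw [H19Grp.mem_neutralSet_iff]
  exact (hconn (G.hom x)).isPreconnected.subset_connectedComponentIn (H19Grp.hom_one_apply G _)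
    subset_rfl rfl

end Groth.Agent.S5324
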