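import Groth.Statements.S5326
import Groth.Agent.H19Grp.NeutralOpen
import Groth.Agent.H19Grp.RepresentsOpen

set_option autoImplicit false
set_option linter.style.haveILetI false
set_option backward.isDefEq.respectTransparency false
universe u
open CategoryTheory CategoryTheory.Limits MonoidalCategory CartesianMonoidalCategory MonObj GrpObj AlgebraicGeometry
open SGA3

namespace Groth.Agent.S5326

open Groth.Agent.H19Grp


/-- Let G be an S-group scheme locally of finite presentation over S, and suppose the neutral component
subfunctor of G is representable: there is a monomorphism i : G⁰ → G of S-schemes such that a point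
g : T → G factors through i exactly when the image of the underlying map of g lies in the union of
the neutral components of the fibres G_s. Then i is an open immersion and G⁰ is quasi-compact over
S. -/
theorem result (S : Scheme.{u}) (G : Over S) [GrpObj G]
    [LocallyOfFinitePresentation G.hom] (G0 : Over S) (i : G0 ⟶ G) [Mono i]
    (hrep : ∀ (T : Over S) (g : T ⟶ G), (∃ z : T ⟶ G0, z ≫ i = g) ↔ Set.range g.left.base ⊆ SGA3x.neutralSet G) :
    IsOpenImmersion i.left ∧ QuasiCompact G0.hom := by
  haveI : Mono i.left := inferInstance
  have hR : RepresentsMapsInto i.left (SGA3x.neutralSet G) := by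
    intro T g
    have h1 := hrep (Over.mk (g ≫ G.hom)) (Over.homMk g rfl)
    constructor
    · rintro ⟨z, hz⟩
      exact h1.1 ⟨Over.homMk z (by
        rw [← Over.w i, reassoc_of% hz]; rfl), Over.OverMorphism.ext hz⟩
    · intro hg
      obtain ⟨z, hz⟩ := h1.2 hg
      exact ⟨z.left, congrArg (·.left) hz⟩
  haveI := hR.isOpenImmersion (chartInd_neutralSet G)
  have hN : IsOpen (SGA3x.neutralSet G) := by
    rw [← hR.range_eq]; exact i.left.isOpenEmbedding.isOpen_range
  have heq : Set.range i.left = Set.range (neutralOpenι G hN).left := by
    rw [range_neutralOpenι, hR.range_eq]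
  have hhom : (IsOpenImmersion.isoOfRangeEq i.left (neutralOpenι G hN).left heq).hom ≫
      (neutralOpen G hN).hom = G0.hom := by
    rw [← Over.w (neutralOpenι G hN), IsOpenImmersion.isoOfRangeEq_hom_fac_assoc, Over.w i]
  refine ⟨inferInstance, ?_⟩
  haveI := quasiCompact_neutralOpen G hN ⊤ (fun _ => trivial) (Or.inl inferInstance)
  rw [← hhom]
  infer_instance

end Groth.Agent.S5326
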