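import Groth.Statements.S5327
import Groth.Agent.H19Grp.Neutral

set_option autoImplicit false
set_option linter.style.haveILetI false
set_option backward.isDefEq.respectTransparency false
universe u
open CategoryTheory CategoryTheory.Limits MonoidalCategory CartesianMonoidalCategory MonObj GrpObj AlgebraicGeometry
open SGA3

namespace Groth.Agent.S5327

open Groth.Agent.H19Grp


/-- Let G be an S-group scheme whose fibres are locally of finite type over κ(s), and let i : H → G be a
homomorphism of S-group schemes which is an open immersion (an open subgroup scheme). Then the union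
G⁰ of the neutral components of the fibres of G is contained in the image of i, and G⁰ is the image
under i of the union H⁰ of the neutral components of the fibres of H. -/
theorem result (S : Scheme.{u}) (G H : Over S) [GrpObj G] [GrpObj H]
    (hG : ∀ s : S, LocallyOfFiniteType (G.hom.fiberToSpecResidueField s)) (i : H ⟶ G) [IsMonHom i]
    [IsOpenImmersion i.left] :
    SGA3x.neutralSet G ⊆ Set.range i.left.base ∧ i.left.base '' SGA3x.neutralSet H = SGA3x.neutralSet G := by
  have hsub : SGA3x.neutralSet G ⊆ Set.range i.left.base := by
    refine neutralSet_subset_of_fibres _ fun s => ?_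
    rw [← range_bc_map]
    refine component_subset_range_of_isOpen _ ?_
    rw [range_bc_map]
    exact i.left.isOpenEmbedding.isOpen_range.preimage (pullback.fst G.hom _).continuous
  refine ⟨hsub, Set.Subset.antisymm (image_neutralSet_subset i) fun x hx => ?_⟩
  obtain ⟨y, rfl⟩ := hsub hx
  refine ⟨y, ?_, rfl⟩
  have hw : ∀ z, G.hom (i.left z) = H.hom z := fun z =>
    congrArg (fun m : H.left ⟶ S => m z) (Over.w i)
  rw [mem_neutralSet_iff] at hx ⊢
  rw [hw] at hx
  let A : Set G.left := connectedComponentIn (G.hom ⁻¹' {H.hom y}) (η[G].left (H.hom y))
  have hA : A ⊆ Set.range i.left := (neutralAt_subset_neutralSet G _).trans hsub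
  have hpre : _root_.IsPreconnected (i.left ⁻¹' A) := by
    rw [← i.left.isOpenEmbedding.isInducing.isPreconnected_image,
      Set.image_preimage_eq_of_subset hA]
    exact isPreconnected_connectedComponentIn
  refine hpre.subset_connectedComponentIn ?_ ?_ hx
  · show i.left (η[H].left (H.hom y)) ∈ A
    rw [hom_one_apply_map]
    exact mem_connectedComponentIn (hom_one_apply G (H.hom y))
  · intro z hz
    exact (hw z).symm.trans
      (connectedComponentIn_subset (G.hom ⁻¹' {H.hom y}) (η[G].left (H.hom y)) hz)

end Groth.Agent.S5327
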