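import Groth.Statements.S5328
import Groth.Agent.H19Grp.HomFlatOpen
import Groth.Agent.H8Props.FibreCriterionApps

set_option autoImplicit false
set_option linter.style.haveILetI false
set_option backward.isDefEq.respectTransparency false
universe u
open CategoryTheory CategoryTheory.Limits MonoidalCategory CartesianMonoidalCategory MonObj GrpObj AlgebraicGeometry
open SGA3

namespace Groth.Agent.S5328

open Groth.Agent.H19Grp


/-- Let u : G → H be a homomorphism between S-group schemes locally of finite presentation over S, and
let G⁰, H⁰ be the unions of the neutral components of the fibres. If u is flat then u(G⁰) = H⁰.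
Conversely, if G is flat over S, the fibres H_s are reduced and u(G⁰) = H⁰, then u is flat. -/
theorem result (S : Scheme.{u}) (G H : Over S) [GrpObj G] [GrpObj H]
    [LocallyOfFinitePresentation G.hom] [LocallyOfFinitePresentation H.hom] (u : G ⟶ H) [IsMonHom u] :
    (Flat u.left → u.left.base '' SGA3x.neutralSet G = SGA3x.neutralSet H) ∧
    (Flat G.hom → (∀ s : S, IsReduced (H.hom.fiber s)) → u.left.base '' SGA3x.neutralSet G = SGA3x.neutralSet H →
      Flat u.left) := by
  have hlft : ∀ (X : Over S) [LocallyOfFinitePresentation X.hom] (s : S),
      LocallyOfFiniteType (Red.bc (S.fromSpecResidueField s) X).hom := fun X _ s =>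
    show LocallyOfFiniteType (pullback.snd X.hom (S.fromSpecResidueField s)) from inferInstance
  haveI : LocallyOfFinitePresentation (u.left ≫ H.hom) := by rw [Over.w u]; infer_instance
  haveI : LocallyOfFinitePresentation u.left := Groth.Agent.H12AlgSp.lfp_of_comp u.left H.hom
  refine ⟨fun hu => Set.Subset.antisymm (image_neutralSet_subset u)
      (neutralSet_subset_of_fibres _ fun s => ?_), fun hG hred h => ?_⟩
  · haveI := hlft G s
    set x := S.fromSpecResidueField s
    have hsq : IsPullback (pullback.fst G.hom x) ((Over.pullback x).map u).left u.left
        (pullback.fst H.hom x) := by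
      refine IsPullback.of_bot ?_ ?_ (IsPullback.of_hasPullback H.hom x)
      · simpa using IsPullback.of_hasPullback G.hom x
      · simp
    haveI : Flat ((Over.pullback x).map u).left := MorphismProperty.of_isPullback hsq hu
    haveI : LocallyOfFinitePresentation ((Over.pullback x).map u).left :=
      MorphismProperty.of_isPullback hsq inferInstance
    obtain ⟨inst, hm⟩ := exists_grpObj_idComp (Red.bc x G)
    letI := inst
    haveI := hm
    have hr : Set.range (idCompι (Red.bc x G) ≫ (Over.pullback x).map u).left =
        ((Over.pullback x).map u).left '' connectedComponent (ept (Red.bc x G)) := by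
      rw [← range_idCompι_ept, Over.comp_left, ← Set.range_comp]
      rfl
    have hopen : IsOpen (Set.range (idCompι (Red.bc x G) ≫ (Over.pullback x).map u).left) := by
      rw [hr]
      exact ((Over.pullback x).map u).left.isOpenMap _ (isOpen_component (Red.bc x G))
    refine (component_subset_range_of_isOpen _ hopen).trans ?_
    rw [hr, ← preimage_neutralSet_residueField]
    rintro _ ⟨y, hy, rfl⟩
    exact ⟨_, hy, (congrArg (fun m : (Red.bc x G).left ⟶ H.left => m y) (bc_map_fst x u)).symm⟩
  · haveI : Flat (u.left ≫ H.hom) := by rw [Over.w u]; exact hG
    haveI : LocallyOfFiniteType u.left := inferInstance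
    refine Flat.of_stalkMap u.left fun z =>
      (Groth.Agent.H8Props.FibreCriterion.flat_stalkMap_of_snd u.left H.hom (fun s => ?_) z).1
    haveI := hlft G s
    haveI := hlft H s
    set x := S.fromSpecResidueField s
    haveI : IsReduced (Red.bc x H).left := hred s
    have hsq : IsPullback (pullback.fst G.hom x) ((Over.pullback x).map u).left u.left
        (pullback.fst H.hom x) := by
      refine IsPullback.of_bot ?_ ?_ (IsPullback.of_hasPullback H.hom x)
      · simpa using IsPullback.of_hasPullback G.hom x
      · simp
    haveI : Flat ((Over.pullback x).map u).left := by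
      refine flat_of_image_component _ (Set.Subset.antisymm ?_ ?_)
      · rw [← preimage_neutralSet_residueField, ← preimage_neutralSet_residueField, ← h]
        rintro _ ⟨y, hy, rfl⟩
        exact ⟨_, hy, (congrArg (fun m : (Red.bc x G).left ⟶ H.left => m y) (bc_map_fst x u)).symm⟩
      · intro w hw
        rw [← preimage_neutralSet_residueField, Set.mem_preimage, ← h] at hw
        obtain ⟨y, hy, hyw⟩ := hw
        obtain ⟨z, hz, hz'⟩ := Scheme.exists_preimage_of_isPullback hsq y w hyw
        refine ⟨z, ?_, hz'⟩
        rw [← preimage_neutralSet_residueField, Set.mem_preimage, hz]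
        exact hy
    show Flat (pullback.snd u.left (pullback.fst H.hom x))
    rw [← hsq.flip.flip.isoPullback_inv_snd]
    infer_instance

end Groth.Agent.S5328
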