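import Groth.Statements.S5329
import Groth.Agent.H19Grp.Dimension
import Groth.Agent.H7Flat.FibreDimConstructible
import Groth.Agent.H8Props.FibreDimSemicont

set_option autoImplicit false
set_option maxHeartbeats 1000000
set_option synthInstance.maxHeartbeats 100000
set_option linter.style.haveILetI false
set_option backward.isDefEq.respectTransparency false
universe u
open CategoryTheory CategoryTheory.Limits MonoidalCategory CartesianMonoidalCategory MonObj GrpObj AlgebraicGeometry
open SGA3

namespace Groth.Agent.S5329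

open Topology in
/-- The dimension of a fibre of a group scheme is its local dimension anywhere on it. -/
theorem fibreDimAt_eq_dim {S : Scheme.{u}} (G : Over S) [GrpObj G] [LocallyOfFiniteType G.hom] (x : G.left) :
    FlatMor.fibreDimAt G.hom x = topologicalKrullDim ↥(G.hom.base ⁻¹' {G.hom x}) := by
  let s := G.hom x
  let Gs : Over (Spec (CommRingCat.of (S.residueField s))) := (Over.pullback (S.fromSpecResidueField s)).obj G
  letI : GrpObj Gs := Functor.grpObjObj
  haveI : LocallyOfFiniteType Gs.hom := MorphismProperty.pullback_snd _ _ inferInstance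
  haveI : LocallyOfFiniteType (Groth.Agent.H19Grp.grpToGrpd Gs).s := inferInstanceAs (LocallyOfFiniteType Gs.hom)
  haveI : LocallyOfFiniteType (Groth.Agent.H19Grp.grpToGrpd Gs).t := inferInstanceAs (LocallyOfFiniteType Gs.hom)
  have h := Groth.Agent.H19Grp.localDim_eq (Groth.Agent.H19Grp.grpToGrpd Gs) (Iso.refl _) (G.hom.asFiber x)
  exact h.trans (G.hom.fiberHomeo s).isHomeomorph.topologicalKrullDim_eq


/-- Let G be an S-group scheme locally of finite type over S. Then (i) s ↦ dim G_s is upper
semicontinuous on S; (ii) if G is locally of finite presentation over S, this function is locally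
constructible: every point of S has an open neighbourhood V on which it takes finitely many values
and on which each of its level sets is constructible. (The published statement is for an S-scheme
locally of finite type with a section ε such that dim G_s = dim_{ε(s)} G_s for all s; this row takes
the case of a group scheme, where that condition holds.) -/
theorem result (S : Scheme.{u}) (G : Over S) [GrpObj G] [LocallyOfFiniteType G.hom] :
    UpperSemicontinuous (fun s : S => topologicalKrullDim ↥(G.hom.base ⁻¹' {s})) ∧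
    (LocallyOfFinitePresentation G.hom → ∀ s : S, ∃ V : S.Opens, s ∈ V ∧
      ((fun t : S => topologicalKrullDim ↥(G.hom.base ⁻¹' {t})) '' (V : Set S)).Finite ∧
      ∀ d : WithBot ℕ∞, Topology.IsConstructible {t : V | topologicalKrullDim ↥(G.hom.base ⁻¹' {(t : S)}) = d}) := by
  let e : S ⟶ G.left := η[G].left
  have he : ∀ t : S, G.hom (e t) = t := fun t => by
    rw [← Scheme.Hom.comp_apply, show e ≫ G.hom = 𝟙 S from Over.w η[G]]
    simp
  let d : S → WithBot ℕ∞ := fun s => topologicalKrullDim ↥(G.hom.base ⁻¹' {s})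
  have hd : ∀ t, FlatMor.fibreDimAt G.hom (e t) = d t := fun t => by
    rw [fibreDimAt_eq_dim, he]
  have hnat : ∀ t, ∃ k : ℕ, d t = k := fun t => by
    obtain ⟨n, hn⟩ := Groth.Agent.H7Flat.exists_nat_fibreDimAt G.hom (e t)
    rw [hd] at hn
    haveI : Nonempty ↥(G.hom.base ⁻¹' {t}) := ⟨⟨e t, he t⟩⟩
    have h0 : d t ≠ ⊥ := fun h => by
      exact (Order.krullDim_eq_bot_iff.1 h).false
        ⟨closure {⟨e t, he t⟩}, isIrreducible_singleton.closure, isClosed_closure⟩
    obtain ⟨a, ha⟩ := WithBot.ne_bot_iff_exists.1 h0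
    rw [← ha] at hn ⊢
    have han : a ≤ (n : ℕ∞) := by exact_mod_cast hn
    lift a to ℕ using ne_top_of_le_ne_top (ENat.natCast_ne_top n) han
    exact ⟨a, rfl⟩
  have hopen : ∀ k : ℕ, IsOpen {t : S | d t ≤ k} := fun k => by
    convert (Groth.Agent.H8Props.FieldDim.isOpen_fibreDimAt_le G.hom k).preimage e.continuous using 1
    ext t
    show d t ≤ k ↔ FlatMor.fibreDimAt G.hom (e t) ≤ k
    rw [hd]
  refine ⟨fun t y hy => ?_, fun _ s => ?_⟩
  · obtain ⟨k, hk⟩ := hnat t
    exact Filter.eventually_of_mem ((hopen k).mem_nhds hk.le) fun t' ht' => (le_trans ht' hk.ge).trans_lt hy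
  obtain ⟨U, hU, hsU, -⟩ := exists_isAffineOpen_mem_and_subset (Set.mem_univ s) (U := (⊤ : S.Opens))
  obtain ⟨W, hW, hsW, hWU⟩ := exists_isAffineOpen_mem_and_subset (U := G.hom ⁻¹ᵁ U)
    (x := e s) (show G.hom (e s) ∈ U by rw [he]; exact hsU)
  obtain ⟨V, hV, hsV, hVle⟩ := exists_isAffineOpen_mem_and_subset (U := U ⊓ e ⁻¹ᵁ W) (x := s) ⟨hsU, hsW⟩
  haveI : CompactSpace ↥V := isCompact_iff_compactSpace.mp hV.isCompact
  haveI : IsAffine (V : Scheme.{u}) := hV
  haveI : PrespectralSpace ↥V := inferInstanceAs (PrespectralSpace ↥(V : Scheme.{u}))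
  haveI : QuasiSeparatedSpace ↥V := inferInstanceAs (QuasiSeparatedSpace ↥(V : Scheme.{u}))
  let g : (W : Scheme.{u}) ⟶ (U : Scheme.{u}) := G.hom.resLE U W hWU
  haveI : IsAffine (W : Scheme.{u}) := hW
  haveI : IsAffine (U : Scheme.{u}) := hU
  haveI : LocallyOfFinitePresentation g := by
    haveI : LocallyOfFinitePresentation G.hom := ‹_›
    exact IsZariskiLocalAtSource.resLE hWU inferInstance
  have hg : ∀ w, FlatMor.fibreDimAt g w = FlatMor.fibreDimAt G.hom (W.ι w) := fun w => by
    rw [← Groth.Agent.H8Props.FieldDim.fibreDimAt_openImmersion_comp W.ι G.hom w,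
      ← Groth.Agent.H8Props.FieldDim.fibreDimAt_comp_openImmersion g U.ι w, Scheme.Hom.resLE_comp_ι]
  have hle : ∀ (t : V) (k : WithBot ℕ∞), d t ≤ k ↔
      topologicalKrullDim (g.fiber ⟨t, (hVle t.2).1⟩) ≤ k := fun t k => by
    rw [Groth.Agent.H7Flat.dim_fiber_le_iff]
    constructor
    · intro h w hw
      have hwt : G.hom (W.ι w) = t.1 := by
        rw [← Scheme.Hom.comp_apply, ← Scheme.Hom.resLE_comp_ι G.hom hWU, Scheme.Hom.comp_apply]
        exact congrArg Subtype.val hw
      rw [hg, fibreDimAt_eq_dim, hwt]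
      exact h
    · intro h
      have h' := h ⟨e t.1, (hVle t.2).2⟩ (Subtype.ext (by
        show U.ι (g ⟨e t.1, (hVle t.2).2⟩) = t.1
        rw [← Scheme.Hom.comp_apply, Scheme.Hom.resLE_comp_ι, Scheme.Hom.comp_apply]
        exact he t.1))
      rw [hg] at h'
      exact (hd t.1).ge.trans h'
  have hc : ∀ k : ℕ, Topology.IsConstructible {t : V | d t ≤ k} := fun k => by
    have h1 := Groth.Agent.H7Lim.isLocallyConstructible_preimage
      (Groth.Agent.H7Flat.isLocallyConstructible_dim_fiber_le g k)
      (S.homOfLE (show V ≤ U from fun x hx => (hVle hx).1))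
    refine (?_ : Topology.IsLocallyConstructible {t : V | d t ≤ k}).isConstructible
    convert! h1 using 1
    ext t
    have hVU : V ≤ U := fun x hx => (hVle hx).1
    have e1 : S.homOfLE hVU t = ⟨t.1, hVU t.2⟩ :=
      Subtype.ext ((Scheme.Hom.comp_apply (S.homOfLE hVU) U.ι t).symm.trans congr($(Scheme.homOfLE_ι S hVU) t))
    rw [Set.mem_ofPred_eq, hle t k, Set.mem_preimage, Set.mem_ofPred_eq, e1]
  obtain ⟨N, hN⟩ : ∃ N : ℕ, ∀ t : V, d t ≤ N := by
    obtain ⟨T, hT⟩ := hV.isCompact.elim_finite_subcover (fun k : ℕ => {t : S | d t ≤ k}) hopen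
      (fun t _ => Set.mem_iUnion.2 ⟨_, (hnat t).choose_spec.le⟩)
    refine ⟨T.sup id, fun t => ?_⟩
    obtain ⟨k, hk, ht⟩ := Set.mem_iUnion₂.1 (hT t.2)
    exact le_trans ht (by exact_mod_cast Finset.le_sup (f := id) hk)
  refine ⟨V, hsV, ((Set.finite_Iic N).image fun k : ℕ => (k : WithBot ℕ∞)).subset ?_, fun a => ?_⟩
  · rintro _ ⟨t, ht, rfl⟩
    obtain ⟨k, hk⟩ := hnat t
    refine ⟨k, ?_, hk.symm⟩
    have := hN ⟨t, ht⟩
    rw [hk] at this
    simpa using this
  show Topology.IsConstructible {t : V | d t = a}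
  by_cases ha : ∃ k : ℕ, a = k
  · obtain ⟨k, rfl⟩ := ha
    cases k with
    | zero =>
      convert hc 0 using 1
      ext t
      obtain ⟨j, hj⟩ := hnat t
      simp only [Set.mem_ofPred_eq, hj]
      norm_cast
      omega
    | succ k =>
      convert (hc (k + 1)).sdiff (hc k) using 1
      ext t
      obtain ⟨j, hj⟩ := hnat t
      simp only [Set.mem_ofPred_eq, Set.mem_sdiff, hj]
      norm_cast
      omega
  · convert Topology.IsConstructible.empty using 1
    refine Set.eq_empty_iff_forall_notMem.2 fun t ht => ha ?_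
    obtain ⟨j, hj⟩ := hnat t
    exact ⟨j, (show d t = a from ht).symm.trans hj⟩

end Groth.Agent.S5329
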