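import Groth.Statements.S5330
import Groth.Agent.H06EGA15.GroupDim

set_option autoImplicit false
universe u
open CategoryTheory CategoryTheory.Limits MonoidalCategory CartesianMonoidalCategory MonObj GrpObj AlgebraicGeometry
open SGA3

namespace Groth.Agent.S5330

open Groth.Agent

/-- Let G be an S-group scheme locally of finite presentation over S, s a point of S and G_s⁰ the
connected component of the unit in the fibre G_s. The following are equivalent: (i) G → S is
universally open at every point of G_s⁰; (i bis) G → S is universally open at every point of W ∩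
G_s⁰ for some open W of G containing the unit point of G_s; (ii) t ↦ dim G_t is constant on some
neighbourhood of s. (The published statement is for an S-scheme locally of finite presentation with
a section, equidimensional fibres and geometrically irreducible neutral components; this row takes
the case of a group scheme, where these hold. The published statement has a fourth equivalent
condition, not stated here.) -/
theorem result (S : Scheme.{u}) (G : Over S) [GrpObj G]
    [LocallyOfFinitePresentation G.hom] (s : S) :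
    ((∀ x ∈ (SGA3x.neutralSet G ∩ G.hom.base ⁻¹' {s}), EGA43.IsUnivOpenAt G.hom x) ↔
      ∃ W : G.left.Opens, (∀ p : ↥(𝟙_ (Over S)).left, (𝟙_ (Over S)).hom.base p = s → η[G].left.base p ∈ W) ∧
        ∀ x ∈ (SGA3x.neutralSet G ∩ G.hom.base ⁻¹' {s}), x ∈ W → EGA43.IsUnivOpenAt G.hom x) ∧
    ((∀ x ∈ (SGA3x.neutralSet G ∩ G.hom.base ⁻¹' {s}), EGA43.IsUnivOpenAt G.hom x) ↔
      ∃ U : Set S, U ∈ nhds s ∧ ∀ t ∈ U, topologicalKrullDim ↥(G.hom.base ⁻¹' {t}) = topologicalKrullDim ↥(G.hom.base ⁻¹' {s})) := by
  rw [H19Grp.neutralSet_inter_fibre]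
  refine ⟨⟨fun h => ⟨⊤, fun _ _ => trivial, fun x hx _ => h x hx⟩, ?_⟩, ⟨fun h => ?_, ?_⟩⟩
  · rintro ⟨W, hW, h⟩
    exact H06EGA15.isUnivOpenAt_neutralAt_of_open G s W (hW s rfl) h
  · obtain ⟨V, hV, hVc⟩ := H06EGA15.dim_component_const_of_dim_eq G.hom η[G].left (H19Grp.one_comp_hom G)
      (H19Grp.geomIrr_neutral G) s (fun ξ hξ _ => h ξ hξ) fun y' _ _ => by
        refine Eq.trans ?_ (H19Grp.dim_neutralAt G y').symm
        rw [← G.hom.range_fiberι]
        exact IsHomeomorph.topologicalKrullDim_eq _ (G.hom.fiberι y').isEmbedding.toHomeomorph.isHomeomorph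
    exact ⟨V, hV, fun t ht => (H19Grp.dim_neutralAt G t).symm.trans ((hVc t ht).trans (H19Grp.dim_neutralAt G s))⟩
  · rintro ⟨U, hU, hc⟩ x hx
    refine H06EGA15.isUnivOpenAt_of_dim_component_const G.hom η[G].left (H19Grp.one_comp_hom G)
      (H19Grp.geomIrr_neutral G) (fun y' hy' => ?_) hx
    exact ((H19Grp.dim_neutralAt G s).trans ((hc y' (interior_subset (hy'.mem_open isOpen_interior
      (mem_interior_iff_mem_nhds.mpr hU)))).symm.trans (H19Grp.dim_neutralAt G y').symm)).le

end Groth.Agent.S5330
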