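import Groth.Statements.S5331
import Groth.Agent.H19Grp.Diagonal
import Groth.Agent.H19Grp.GrpdSep
import Mathlib

set_option autoImplicit false
set_option linter.style.haveILetI false
set_option backward.isDefEq.respectTransparency false
universe u
open CategoryTheory CategoryTheory.Limits MonoidalCategory CartesianMonoidalCategory MonObj GrpObj AlgebraicGeometry
open SGA3

namespace Groth.Agent.S5331

/-- Let S be a scheme whose underlying topological space is discrete. Then every S-group scheme is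
separated over S. -/
theorem result (S : Scheme.{u}) [DiscreteTopology S] (G : Over S) [GrpObj G] :
    IsSeparated G.hom := by
  rw [H19Grp.isSeparated_iff_isClosedImmersion_one]
  let σ : S ⟶ G.left := (η[G]).left
  have hσ : σ ≫ G.hom = 𝟙 S := Over.w η[G]
  suffices h : IsClosedImmersion σ from h
  haveI : IsPreimmersion σ := by
    haveI : IsImmersion (σ ≫ G.hom) := by rw [hσ]; infer_instance
    exact (IsImmersion.of_comp σ G.hom).toIsPreimmersion
  refine IsClosedImmersion.iff_isPreimmersion.mpr ⟨inferInstance, ?_⟩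
  rw [← isOpen_compl_iff, isOpen_iff_forall_mem_open]
  intro x hx
  let U : S.Opens := ⟨{G.hom x}, isOpen_discrete _⟩
  haveI : Subsingleton (U : Scheme) := ⟨fun a b => Subtype.ext (a.2.trans b.2.symm)⟩
  haveI : IsAffine (U : Scheme) := by
    obtain ⟨V, hV, hxV, hVU⟩ := exists_isAffineOpen_mem_and_subset (x := G.hom x) (U := U) rfl
    rwa [show U = V from le_antisymm (fun y hy => (show y = G.hom x from hy) ▸ hxV) hVU]
  have hle : U ≤ σ ⁻¹ᵁ (G.hom ⁻¹ᵁ U) := fun y hy => by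
    show G.hom (σ y) ∈ U
    rw [← Scheme.Hom.comp_apply, hσ]; exact hy
  haveI := H19Grp.isClosedImmersion_section_of_subsingleton (G.hom ∣_ U) (σ.resLE _ _ hle) (by
    rw [← cancel_mono U.ι, Category.assoc, morphismRestrict_ι, Scheme.Hom.resLE_comp_ι_assoc, hσ]
    simp)
  refine ⟨(G.hom ⁻¹ᵁ U).ι '' (Set.range (σ.resLE _ _ hle))ᶜ, ?_,
    (G.hom ⁻¹ᵁ U).ι.isOpenEmbedding.isOpenMap _
      (IsClosedImmersion.base_closed (f := σ.resLE _ _ hle)).isClosed_range.isOpen_compl,
    ⟨⟨x, rfl⟩, fun ⟨u, hu⟩ => hx ⟨u.1, ?_⟩, rfl⟩⟩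
  · rintro _ ⟨⟨y, hy⟩, hy', rfl⟩ ⟨s, hs⟩
    have hs' : s ∈ U := by
      have h1 : G.hom (σ s) = s := by rw [← Scheme.Hom.comp_apply, hσ]; rfl
      have h2 : G.hom (σ s) = G.hom x := by rw [hs]; exact hy
      exact h1 ▸ h2
    refine hy' ⟨⟨s, hs'⟩, Subtype.ext ?_⟩
    show (σ.resLE _ _ hle ≫ (G.hom ⁻¹ᵁ U).ι) ⟨s, hs'⟩ = y
    rw [Scheme.Hom.resLE_comp_ι]; exact hs
  · show (U.ι ≫ σ) u = x
    rw [← Scheme.Hom.resLE_comp_ι σ hle]
    exact congrArg (G.hom ⁻¹ᵁ U).ι hu

end Groth.Agent.S5331
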