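import Groth.Statements.S5332
import Groth.Agent.H19Grp.OrbitGeneric

set_option autoImplicit false
set_option linter.style.haveILetI false
set_option backward.isDefEq.respectTransparency false
universe u
open CategoryTheory CategoryTheory.Limits MonoidalCategory CartesianMonoidalCategory MonObj GrpObj AlgebraicGeometry
open SGA3

namespace Groth.Agent.S5332

/-- Let G be an S-group scheme locally of finite presentation over S and universally open over S on some
open containing the unit section, acting on an S-scheme X so that the morphism G ×_S X → X ×_S X,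
(g, x) ↦ (gx, x), is surjective. Suppose that for every point s of S the fibre X_s is locally of
finite type over κ(s) and there is an open subscheme U of X, separated over S, whose fibre U_s is
dense in X_s. Then X is separated over S. -/
theorem result (S : Scheme.{u}) (G X : Over S) [GrpObj G] [LocallyOfFinitePresentation G.hom]
    (hGo : ∃ W : G.left.Opens, (∀ p : ↥(𝟙_ (Over S)).left, η[G].left.base p ∈ W) ∧ UniversallyOpen (W.ι ≫ G.hom))
    (a : AlgGrp.Action G X) (hΦ : Surjective (lift a.act (snd G X)).left)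
    (hft : ∀ s : S, LocallyOfFiniteType (X.hom.fiberToSpecResidueField s))
    (hU : ∀ s : S, ∃ U : X.left.Opens, IsSeparated (U.ι ≫ X.hom) ∧
      X.hom.base ⁻¹' {s} ⊆ closure ((U : Set X.left) ∩ X.hom.base ⁻¹' {s})) :
    IsSeparated X.hom := by
  obtain ⟨W, hWe, hWo⟩ := hGo
  haveI := hWo
  haveI : LocallyOfFiniteType G.hom := inferInstance
  refine H19Grp.isSeparated_of_translations a W fun z => ?_
  obtain ⟨w₀, hw₀⟩ := hΦ.surj z
  let Ω := AlgebraicClosure ((G ⊗ X).left.residueField w₀)
  let f : Spec (CommRingCat.of Ω) ⟶ (G ⊗ X).left :=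
    Spec.map (CommRingCat.ofHom (algebraMap ((G ⊗ X).left.residueField w₀) Ω)) ≫ (G ⊗ X).left.fromSpecResidueField w₀
  let y₀ : Spec (CommRingCat.of Ω) ⟶ S := f ≫ (G ⊗ X).hom
  let P : Over S := Over.mk y₀
  let p : P ⟶ G ⊗ X := Over.homMk f rfl
  let t : P.left := IsLocalRing.closedPoint Ω
  haveI : Subsingleton P.left := inferInstanceAs (Subsingleton (PrimeSpectrum Ω))
  have hp : p.left t = w₀ :=
    (Scheme.Hom.comp_apply _ _ _).trans ((G ⊗ X).left.fromSpecResidueField_apply w₀ _)
  let g₀ : P ⟶ G := p ≫ fst G X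
  let y : P ⟶ X := p ≫ snd G X
  let x : P ⟶ X := H18Torsor.smul a g₀ y
  have hxy : CartesianMonoidalCategory.lift x y = p ≫ CartesianMonoidalCategory.lift a.act (snd G X) := by
    rw [comp_lift]
    congr 1
    show CartesianMonoidalCategory.lift (p ≫ fst G X) (p ≫ snd G X) ≫ a.act = _
    rw [← comp_lift, lift_fst_snd, Category.comp_id]
  have hz : (CartesianMonoidalCategory.lift x y).left t = z := by
    rw [hxy, Over.comp_left, Scheme.Hom.comp_apply, hp]
    exact hw₀
  obtain ⟨U, hUsep, hUd⟩ := hU (y₀ t)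
  have hUd' : ∀ t', X.hom.base ⁻¹' {y₀ t'} ⊆ closure ((U : Set X.left) ∩ X.hom.base ⁻¹' {y₀ t'}) := fun t' => by
    rw [show t' = t from Subsingleton.elim (α := P.left) _ _]
    exact hUd
  let e : ↥(G ⊗ P).left := (CartesianMonoidalCategory.lift (1 : P ⟶ G) (𝟙 P)).left t
  obtain ⟨ξ, hξe, hξ⟩ := H19Grp.exists_isMaxPt e
  have hξW : (fst G P).left ξ ∈ W := by
    refine (hξe.map (fst G P).left.continuous).mem_open W.2 ?_
    show (fst G P).left e ∈ W
    rw [← Scheme.Hom.comp_apply, ← Over.comp_left, lift_fst, Hom.one_def, Over.comp_left, Scheme.Hom.comp_apply]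
    exact hWe _
  have key : ∀ v : P ⟶ X, ((G ◁ v) ≫ a.act).left ξ ∈ U := by
    intro v
    have h := H19Grp.isMaxPt_mem_of_dense y₀ hft U hUd' (H19Grp.isMaxPt_orbit y₀ a v hξ)
    have e2 : CartesianMonoidalCategory.lift ((G ◁ v) ≫ a.act) (snd G P) ≫ fst X P = (G ◁ v) ≫ a.act := lift_fst _ _
    rw [← e2, Over.comp_left, Scheme.Hom.comp_apply]
    exact h
  refine ⟨U, (G ◁ CartesianMonoidalCategory.lift x y).left ξ, hUsep, ?_, ?_, ?_, ?_⟩
  · rw [← Scheme.Hom.comp_apply, ← Over.comp_left, whiskerLeft_snd, Over.comp_left, Scheme.Hom.comp_apply,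
      Subsingleton.elim ((snd G P).left ξ) t]
    exact hz
  · rw [← Scheme.Hom.comp_apply, ← Over.comp_left, whiskerLeft_fst]
    exact hξW
  · rw [← Scheme.Hom.comp_apply, ← Over.comp_left, ← MonoidalCategory.whiskerLeft_comp_assoc, lift_fst]
    exact key x
  · rw [← Scheme.Hom.comp_apply, ← Over.comp_left, ← MonoidalCategory.whiskerLeft_comp_assoc, lift_snd]
    exact key y

end Groth.Agent.S5332
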