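import Groth.Statements.S5333
import Groth.Agent.H19Grp.Translations
import Groth.Agent.H17.Reduced

set_option autoImplicit false
set_option linter.style.haveILetI false
set_option backward.isDefEq.respectTransparency false
universe u
open CategoryTheory CategoryTheory.Limits MonoidalCategory CartesianMonoidalCategory MonObj GrpObj AlgebraicGeometry
open SGA3

namespace Groth.Agent.S5333

theorem isSeparated_of_reduced_test {X S : Scheme.{u}} (f : X ⟶ S)
    (h : ∀ (T : Scheme.{u}) [IsReduced T] (g₁ g₂ : T ⟶ X) (U : T.Opens), g₁ ≫ f = g₂ ≫ f →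
      Dense (U : Set T) → U.ι ≫ g₁ = U.ι ≫ g₂ → g₁ = g₂) : IsSeparated f := by
  let D := pullback.diagonal f
  suffices hc : IsClosed (Set.range D) from ⟨IsClosedImmersion.of_isPreimmersion _ hc⟩
  let C : TopologicalSpace.Closeds ↥(pullback f f) := ⟨closure (Set.range D), isClosed_closure⟩
  let t := (Scheme.IdealSheafData.vanishingIdeal C).subschemeι
  haveI : IsReduced (Scheme.IdealSheafData.vanishingIdeal C).subscheme :=
    Groth.Agent.H17.isReduced_vanishingIdeal_subscheme _
  have ht : Set.range t = closure (Set.range D) := by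
    exact Groth.Agent.H17.range_vanishingIdeal_subschemeι C
  let U := t ⁻¹ᵁ D.coborderRange
  have hco : Set.range D = (D.coborderRange : Set _) ∩ closure (Set.range D) := coborder_inter_closure.symm
  have hU : ∀ u, u ∈ U ↔ t u ∈ Set.range D := fun u => by
    rw [hco]
    exact ⟨fun h => ⟨h, ht.le ⟨u, rfl⟩⟩, fun h => h.1⟩
  have hdense : Dense (U : Set (Scheme.IdealSheafData.vanishingIdeal C).subscheme) := by
    intro u
    rw [t.isClosedEmbedding.isEmbedding.closure_eq_preimage_closure_image]
    show t u ∈ closure _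
    refine closure_mono ?_ (ht.le ⟨u, rfl⟩)
    rintro x hx
    obtain ⟨v, rfl⟩ := ht.ge (subset_closure hx)
    exact ⟨v, (hU v).2 hx, rfl⟩
  -- the part over the range of the diagonal lifts to X
  have hsurj : Surjective (pullback.snd D (U.ι ≫ t)) := ⟨fun u => by
    obtain ⟨x, hx⟩ := (hU (U.ι u)).1 (U.range_ι.le ⟨u, rfl⟩)
    obtain ⟨p, -, hp⟩ := Scheme.Pullback.exists_preimage_pullback (f := D) (g := U.ι ≫ t) x u hx
    exact ⟨p, hp⟩⟩
  haveI : IsImmersion (pullback.snd D (U.ι ≫ t)) :=
    MorphismProperty.pullback_snd _ _ (inferInstanceAs (IsImmersion (pullback.diagonal f)))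
  haveI : IsClosedImmersion (pullback.snd D (U.ι ≫ t)) :=
    .of_isPreimmersion _ (by rw [hsurj.1.range_eq]; exact isClosed_univ)
  haveI := isIso_of_isClosedImmersion_of_surjective (pullback.snd D (U.ι ≫ t))
  have key : t ≫ pullback.fst f f = t ≫ pullback.snd f f := by
    refine h _ _ _ U ?_ hdense ?_
    · rw [Category.assoc, Category.assoc, pullback.condition]
    · rw [← cancel_epi (pullback.snd D (U.ι ≫ t))]
      have hc := pullback.condition (f := D) (g := U.ι ≫ t)
      rw [← Category.assoc U.ι t, ← Category.assoc U.ι t,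
        ← Category.assoc (pullback.snd D (U.ι ≫ t)) (U.ι ≫ t),
        ← Category.assoc (pullback.snd D (U.ι ≫ t)) (U.ι ≫ t), ← hc, Category.assoc, Category.assoc]
      simp [D]
  rw [← closure_subset_iff_isClosed]
  intro x hx
  obtain ⟨v, rfl⟩ := ht.ge hx
  refine ⟨(t ≫ pullback.fst f f) v, ?_⟩
  have e : (t ≫ pullback.fst f f) ≫ D = t := by
    apply pullback.hom_ext
    · simp [D]
    · simp [D, key]
  exact congrArg (fun m : (Scheme.IdealSheafData.vanishingIdeal C).subscheme ⟶ pullback f f => m v) e


/-- (i) ⟺ (iii) ⟺ (iv'): let f : X → S be a morphism of schemes. Then X is separated over S if and only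
if for every reduced scheme T and every two morphisms T → X with the same composite to S which agree
on a dense open subscheme of T are equal; and X is separated over S if and only if every two points
of X in the same fibre over S lie in a common open subscheme of X which is separated over S. -/
theorem result (X S : Scheme.{u}) (f : X ⟶ S) :
    (IsSeparated f ↔ ∀ (T : Scheme.{u}) [IsReduced T] (g₁ g₂ : T ⟶ X) (U : T.Opens), g₁ ≫ f = g₂ ≫ f →
      Dense (U : Set T) → U.ι ≫ g₁ = U.ι ≫ g₂ → g₁ = g₂) ∧
    (IsSeparated f ↔ ∀ x₁ x₂ : X, f.base x₁ = f.base x₂ →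
      ∃ V : X.Opens, x₁ ∈ V ∧ x₂ ∈ V ∧ IsSeparated (V.ι ≫ f)) := by
  refine ⟨⟨fun hf T _ g₁ g₂ U hg hd he => ?_, isSeparated_of_reduced_test f⟩,
    ⟨fun hf x₁ x₂ _ => ⟨⊤, trivial, trivial, inferInstance⟩, fun h => ?_⟩⟩
  · haveI : IsDominant U.ι := ⟨by rw [DenseRange, U.range_ι]; exact hd⟩
    exact ext_of_isDominant_of_isSeparated f hg U.ι he
  · suffices hc : IsClosed (Set.range (lift (𝟙 (Over.mk f)) (𝟙 (Over.mk f))).left) by
      have hδ : (lift (𝟙 (Over.mk f)) (𝟙 (Over.mk f))).left = pullback.diagonal f := by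
        apply pullback.hom_ext
        · erw [pullback.diagonal_fst]
        · erw [pullback.diagonal_snd]
      rw [hδ] at hc
      exact ⟨IsClosedImmersion.of_isPreimmersion _ hc⟩
    refine closure_subset_iff_isClosed.1 fun z hz => ?_
    obtain ⟨V, h1, h2, hV⟩ := h ((fst (Over.mk f) (Over.mk f)).left z)
      ((snd (Over.mk f) (Over.mk f)).left z)
      ((congrArg (fun m : ((Over.mk f) ⊗ (Over.mk f)).left ⟶ S => m z) (Over.w (fst (Over.mk f) (Over.mk f)))).trans
        (congrArg (fun m : ((Over.mk f) ⊗ (Over.mk f)).left ⟶ S => m z) (Over.w (snd (Over.mk f) (Over.mk f)))).symm)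
    haveI : IsSeparated (V.ι ≫ (Over.mk f).hom) := hV
    exact Groth.Agent.H19Grp.diag_closed_on_separated V h1 h2 hz

end Groth.Agent.S5333
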