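import Groth.Statements.S5335
import Groth.Agent.H06Desc.Discrete

set_option autoImplicit false
set_option maxHeartbeats 1000000
set_option synthInstance.maxHeartbeats 100000
set_option linter.style.haveILetI false
set_option backward.isDefEq.respectTransparency false
universe u
open CategoryTheory CategoryTheory.Limits MonoidalCategory CartesianMonoidalCategory MonObj GrpObj AlgebraicGeometry
open SGA3

namespace Groth.Agent.S5335

theorem universallyOpen_of_artinian {A : Type u} [CommRing A] [IsArtinianRing A] [IsLocalRing A]
    (Y : Over (Spec (CommRingCat.of A))) : UniversallyOpen Y.hom := by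
  haveI : DiscreteTopology ↥(Spec (CommRingCat.of A)) := inferInstanceAs (DiscreteTopology (PrimeSpectrum A))
  exact Groth.Agent.H06Desc.universallyOpen_of_discreteTopology _


/-- Let A be a local artinian ring and f : X' → X, g : Y' → Y two quasi-compact dominant morphisms of
schemes over A. Then the product morphism f ×_A g : X' ×_A Y' → X ×_A Y is dominant (and
quasi-compact). -/
theorem result (A : Type u) [CommRing A] [IsArtinianRing A] [IsLocalRing A] (X X' Y Y' : Over (Spec (CommRingCat.of A)))
    (f : X' ⟶ X) (g : Y' ⟶ Y) [QuasiCompact f.left] [QuasiCompact g.left]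
    (hf : DenseRange f.left.base) (hg : DenseRange g.left.base) :
    DenseRange (f ⊗ₘ g).left.base ∧ QuasiCompact (f ⊗ₘ g).left := by
  haveI := universallyOpen_of_artinian X
  haveI := universallyOpen_of_artinian Y'
  have hfr : ∀ {U V W : Over (Spec (CommRingCat.of A))} (m : U ⟶ V), IsPullback (fst U W).left (m ▷ W).left m.left (fst V W).left := by
    intro U V W m
    refine (IsPullback.of_right ?_ ?_ (IsPullback.of_hasPullback V.hom W.hom).flip).flip
    · show IsPullback ((m ▷ W).left ≫ (snd V W).left) (fst U W).left W.hom (m.left ≫ V.hom)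
      rw [← Over.comp_left, whiskerRight_snd, Over.w m]
      exact (IsPullback.of_hasPullback U.hom W.hom).flip
    · show (m ▷ W).left ≫ (fst V W).left = (fst U W).left ≫ m.left
      rw [← Over.comp_left, ← Over.comp_left, whiskerRight_fst]
  have hfl : ∀ {U V W : Over (Spec (CommRingCat.of A))} (m : U ⟶ V), IsPullback (snd W U).left (W ◁ m).left m.left (snd W V).left := by
    intro U V W m
    refine (IsPullback.of_right ?_ ?_ (IsPullback.of_hasPullback W.hom V.hom)).flip
    · show IsPullback ((W ◁ m).left ≫ (fst W V).left) (snd W U).left W.hom (m.left ≫ V.hom)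
      rw [← Over.comp_left, whiskerLeft_fst, Over.w m]
      exact IsPullback.of_hasPullback W.hom U.hom
    · show (W ◁ m).left ≫ (snd W V).left = (snd W U).left ≫ m.left
      rw [← Over.comp_left, ← Over.comp_left, whiskerLeft_snd]
  have h1 : DenseRange (f ▷ Y').left := by
    have hr : Set.range (f ▷ Y').left = (fst X Y').left ⁻¹' Set.range f.left := by
      ext q
      refine ⟨fun ⟨r, hr⟩ => ⟨(fst X' Y').left r, by rw [← hr, ← Scheme.Hom.comp_apply, (hfr f).w]; rfl⟩, fun ⟨r, hr⟩ => ?_⟩
      obtain ⟨w, -, hw⟩ := Scheme.exists_preimage_of_isPullback (hfr f) r q hr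
      exact ⟨w, hw⟩
    show Dense _
    rw [hr]
    haveI : UniversallyOpen (fst X Y').left := inferInstanceAs (UniversallyOpen (pullback.fst X.hom Y'.hom))
    exact hf.preimage (fst X Y').left.isOpenMap
  have h2 : DenseRange (X ◁ g).left := by
    have hr : Set.range (X ◁ g).left = (snd X Y).left ⁻¹' Set.range g.left := by
      ext q
      refine ⟨fun ⟨r, hr⟩ => ⟨(snd X Y').left r, by rw [← hr, ← Scheme.Hom.comp_apply, (hfl g).w]; rfl⟩, fun ⟨r, hr⟩ => ?_⟩
      obtain ⟨w, -, hw⟩ := Scheme.exists_preimage_of_isPullback (hfl g) r q hr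
      exact ⟨w, hw⟩
    show Dense _
    rw [hr]
    haveI : UniversallyOpen (snd X Y).left := inferInstanceAs (UniversallyOpen (pullback.snd X.hom Y.hom))
    exact hg.preimage (snd X Y).left.isOpenMap
  haveI : QuasiCompact (f ▷ Y').left := MorphismProperty.of_isPullback (P := @QuasiCompact) (hfr f) inferInstance
  haveI : QuasiCompact (X ◁ g).left := MorphismProperty.of_isPullback (P := @QuasiCompact) (hfl g) inferInstance
  rw [CategoryTheory.MonoidalCategory.tensorHom_def, Over.comp_left]
  exact ⟨h2.comp h1 (X ◁ g).left.continuous, inferInstance⟩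

end Groth.Agent.S5335
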