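import Groth.Statements.S5337
import Groth.Agent.H19Grp.PointPredsQF

set_option autoImplicit false
set_option linter.style.haveILetI false
set_option backward.isDefEq.respectTransparency false
universe u
open CategoryTheory CategoryTheory.Limits MonoidalCategory CartesianMonoidalCategory MonObj GrpObj AlgebraicGeometry
open SGA3

namespace Groth.Agent.S5337

/-- Quasi-finite, unramified, smooth and etale cases: let A be a local artinian ring, G an A-group
scheme which is flat and locally of finite type over A, and u : G → H a homomorphism of A-group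
schemes. If u is locally quasi-finite (resp. unramified, that is formally unramified and locally of
finite presentation, resp. smooth, resp. etale) on some nonempty open subscheme of G, then u is
locally quasi-finite (resp. unramified, resp. smooth, resp. etale). (Here u is automatically locally
of finite type.) -/
theorem result (A : Type u) [CommRing A] [IsArtinianRing A] [IsLocalRing A] (G H : Over (Spec (CommRingCat.of A))) [GrpObj G] [GrpObj H]
    [Flat G.hom] [LocallyOfFiniteType G.hom] (u : G ⟶ H) [IsMonHom u] (W : G.left.Opens) (hW : (W : Set G.left).Nonempty) :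
    (LocallyQuasiFinite (W.ι ≫ u.left) → LocallyQuasiFinite u.left) ∧
    (FormallyUnramified (W.ι ≫ u.left) → LocallyOfFinitePresentation (W.ι ≫ u.left) →
      FormallyUnramified u.left ∧ LocallyOfFinitePresentation u.left) ∧
    (Smooth (W.ι ≫ u.left) → Smooth u.left) ∧ (Etale (W.ι ≫ u.left) → Etale u.left) := by
  obtain ⟨x, hx⟩ := hW
  haveI : LocallyOfFinitePresentation G.hom := inferInstance
  haveI : LocallyOfFiniteType (u.left ≫ H.hom) := by rw [Over.w u]; infer_instance
  haveI : LocallyOfFiniteType u.left := locallyOfFiniteType_of_comp u.left H.hom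
  have hG : (@Flat ⊓ @LocallyOfFinitePresentation : MorphismProperty Scheme.{u}) G.hom := ⟨inferInstance, inferInstance⟩
  have hfib : ∀ y, G.hom x = G.hom y := fun y => Subsingleton.elim (α := PrimeSpectrum A) _ _
  have key : ∀ {P : MorphismProperty Scheme.{u}} [IsZariskiLocalAtSource P], (∀ y, H19Grp.OnNhd P u.left y) → P u.left := by
    intro P _ h
    choose U hU hP using h
    exact IsZariskiLocalAtSource.of_openCover (Scheme.openCoverOfIsOpenCover _ U
      (TopologicalSpace.IsOpenCover.mk (top_unique fun y _ => TopologicalSpace.Opens.mem_iSup.2 ⟨y, hU y⟩))) hP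
  refine ⟨fun h => ?_, fun h h' => ?_, fun h => ?_, fun h => ?_⟩
  · have hall : ∀ y, H19Grp.QFPt u.left y := fun y =>
      H19Grp.of_mem_fibre u H19Grp.ptBC_qfPt H19Grp.ptDesc_qfPt hG (hfib y) ⟨W, hx, inferInstance, h⟩
    exact key fun y => let ⟨U, hy, _, hU⟩ := hall y; ⟨U, hy, hU⟩
  · have hall : ∀ y, H19Grp.OnNhd (@FormallyUnramified ⊓ @LocallyOfFinitePresentation) u.left y := fun y =>
      H19Grp.of_mem_fibre u (H19Grp.ptBC_onNhd _) H19Grp.ptDesc_unramified hG (hfib y) ⟨W, hx, h, h'⟩
    exact ⟨key fun y => let ⟨U, hy, hU, _⟩ := hall y; ⟨U, hy, hU⟩,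
      key fun y => let ⟨U, hy, _, hU⟩ := hall y; ⟨U, hy, hU⟩⟩
  · exact key fun y => H19Grp.of_mem_fibre u (H19Grp.ptBC_onNhd _) H19Grp.ptDesc_smooth hG (hfib y) ⟨W, hx, h⟩
  · exact key fun y => H19Grp.of_mem_fibre u (H19Grp.ptBC_onNhd _) H19Grp.ptDesc_etale hG (hfib y) ⟨W, hx, h⟩

end Groth.Agent.S5337
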