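import Groth.Statements.S5338
import Mathlib

set_option autoImplicit false
set_option linter.style.haveILetI false
set_option backward.isDefEq.respectTransparency false
universe u
open CategoryTheory CategoryTheory.Limits MonoidalCategory CartesianMonoidalCategory MonObj GrpObj AlgebraicGeometry
open SGA3

namespace Groth.Agent.S5338

theorem le_of_le_sup_mul {P : Type*} [CommRing P] {N K L : Ideal P} (hN : IsNilpotent N)
    (h : K ≤ L ⊔ N * K) : K ≤ L := by
  obtain ⟨t, ht⟩ := hN
  have key : ∀ j : ℕ, K ≤ L ⊔ N ^ j * K := by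
    intro j
    induction j with
    | zero => simp
    | succ j ih =>
      calc K ≤ L ⊔ N ^ j * K := ih
        _ ≤ L ⊔ N ^ j * (L ⊔ N * K) := sup_le_sup_left (Ideal.mul_mono_right h) _
        _ ≤ L ⊔ N ^ (j + 1) * K := by
          rw [Ideal.mul_sup, pow_succ, _root_.mul_assoc]
          exact sup_le le_sup_left (sup_le ((Ideal.mul_le_inf.trans inf_le_right).trans le_sup_left) le_sup_right)
  simpa [ht] using key t

theorem adjoin_eq_top {A B C : Type*} [CommRing A] [CommRing B] [CommRing C]
    [Algebra A B] [Algebra B C] [Algebra A C] [IsScalarTower A B C] {n : Ideal A} (hn : IsNilpotent n)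
    (S : Subalgebra B C) (h : ∀ c : C, ∃ s ∈ S, c - s ∈ n.map (algebraMap A C)) : S = ⊤ := by
  obtain ⟨t, ht⟩ := hn
  let S' : Submodule A C := S.toSubmodule.restrictScalars A
  have h1 : (⊤ : Submodule A C) ≤ S' ⊔ n • ⊤ := fun c _ => by
    obtain ⟨s, hs, hcs⟩ := h c
    rw [Ideal.smul_top_eq_map]
    exact Submodule.mem_sup.2 ⟨s, hs, c - s, hcs, add_sub_cancel s c⟩
  have key : ∀ j : ℕ, (⊤ : Submodule A C) ≤ S' ⊔ n ^ j • ⊤ := by
    intro j
    induction j with
    | zero => rw [pow_zero, Ideal.one_eq_top, Submodule.top_smul]; exact le_sup_right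
    | succ j ih =>
      calc (⊤ : Submodule A C) ≤ S' ⊔ n ^ j • ⊤ := ih
        _ ≤ S' ⊔ n ^ j • (S' ⊔ n • ⊤) := sup_le_sup_left (Submodule.smul_mono le_rfl h1) _
        _ ≤ S' ⊔ n ^ (j + 1) • ⊤ := by
          rw [Submodule.smul_sup, pow_succ, ← Submodule.smul_assoc, smul_eq_mul]
          exact sup_le le_sup_left (sup_le (Submodule.smul_le_right.trans le_sup_left) le_sup_right)
  rw [eq_top_iff]
  intro c _
  have := key t (Submodule.mem_top (x := c))
  rw [ht] at this
  simpa [S'] using this

variable {A B C : Type*} [CommRing A] [CommRing B] [CommRing C]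
    [Algebra A B] [Algebra B C] [Algebra A C] [IsScalarTower A B C]

theorem fp_of_aux {m : ℕ} (n : Ideal A) (hn : IsNilpotent n) [Module.Flat A C]
    (f : MvPolynomial (Fin m) B →ₐ[B] C) (hf : Function.Surjective f)
    (M : Ideal (MvPolynomial (Fin m) B)) (hM : M.FG)
    (hle : M ≤ (n.map (algebraMap A C)).comap f.toRingHom)
    (hker : (n.map (algebraMap A C)).comap f.toRingHom ≤
      M ⊔ n.map (algebraMap A (MvPolynomial (Fin m) B))) :
    Algebra.FinitePresentation B C := by
  classical
  set N := n.map (algebraMap A (MvPolynomial (Fin m) B))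
  set K := RingHom.ker f.toRingHom
  have hfA : ∀ a : A, f (algebraMap A (MvPolynomial (Fin m) B) a) = algebraMap A C a := fun a => by
    rw [IsScalarTower.algebraMap_apply A B (MvPolynomial (Fin m) B), AlgHom.commutes,
      ← IsScalarTower.algebraMap_apply A B C]
  have hNf : N.map f.toRingHom = n.map (algebraMap A C) := by
    rw [Ideal.map_map]; congr 1; ext a; exact hfA a
  -- flatness: `K ⊓ N ≤ N * K`
  have hflat : K ⊓ N ≤ N * K := by
    rintro x ⟨hxK, hxN⟩
    have hxN' : x ∈ n • (⊤ : Submodule A (MvPolynomial (Fin m) B)) := by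
      rw [Ideal.smul_top_eq_map]; exact hxN
    rw [← Submodule.span_univ, ← Set.range_id,
      Submodule.mem_ideal_smul_span_iff_exists_sum] at hxN'
    obtain ⟨c, hc, rfl⟩ := hxN'
    have h0 : ∑ a : c.support, c a • f a = 0 := by
      have hsum : f (c.sum fun p a => a • id p) = 0 := hxK
      rw [Finsupp.sum, map_sum, ← Finset.sum_coe_sort] at hsum
      refine Eq.trans (Finset.sum_congr rfl fun a _ => ?_) hsum
      rw [id, Algebra.smul_def, Algebra.smul_def, map_mul, hfA]
    obtain ⟨k, u, y, hy, hu⟩ := Module.Flat.isTrivialRelation_of_sum_smul_eq_zero (R := A) (M := C) h0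
    choose q hq using fun j => hf (y j)
    have hmem : ∀ a : c.support, (a : MvPolynomial (Fin m) B) - ∑ j, u a j • q j ∈ K := fun a => by
      show f ((a : MvPolynomial (Fin m) B) - ∑ j, u a j • q j) = 0
      rw [map_sub, map_sum, show f (a : MvPolynomial (Fin m) B) = _ from hy a, sub_eq_zero]
      refine Finset.sum_congr rfl fun j _ => ?_
      rw [Algebra.smul_def, Algebra.smul_def, map_mul, hfA, hq]
    have hx : (c.sum fun p a => a • id p) =
        ∑ a : c.support, c a • ((a : MvPolynomial (Fin m) B) - ∑ j, u a j • q j) := by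
      simp only [smul_sub, Finset.sum_sub_distrib, Finset.smul_sum, smul_smul]
      rw [Finset.sum_comm (f := fun (a : c.support) (j : Fin k) => (c a * u a j) • q j)]
      simp only [← Finset.sum_smul, hu, zero_smul, Finset.sum_const_zero, sub_zero]
      rw [Finsupp.sum, ← Finset.sum_coe_sort]
      rfl
    rw [hx]
    refine Ideal.sum_mem _ fun a _ => ?_
    rw [Algebra.smul_def]
    exact Ideal.mul_mem_mul (Ideal.mem_map_of_mem _ (hc a.1)) (hmem a)
  -- generators of `M` corrected into `K`
  obtain ⟨s, hs⟩ := hM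
  have hlift : ∀ p : s, ∃ w ∈ N, f w = f (p : MvPolynomial (Fin m) B) := fun p => by
    have : f p ∈ N.map f.toRingHom := by rw [hNf]; exact hle (hs ▸ Ideal.subset_span p.2)
    exact (Ideal.mem_map_iff_of_surjective f.toRingHom hf).1 this
  choose w hwN hw using hlift
  let L := Ideal.span (Set.range fun p : s => (p : MvPolynomial (Fin m) B) - w p)
  have hLK : L ≤ K := Ideal.span_le.2 (by
    rintro _ ⟨p, rfl⟩
    show f (_ - _) = 0
    rw [map_sub, hw, sub_self])
  have hML : M ≤ L ⊔ N := by
    rw [← hs, Ideal.span_le]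
    intro p hp
    exact Submodule.mem_sup.2 ⟨_, Ideal.subset_span ⟨⟨p, hp⟩, rfl⟩, w ⟨p, hp⟩, hwN _, sub_add_cancel _ _⟩
  have hKL : K ≤ L ⊔ N * K := by
    intro x hx
    have : x ∈ L ⊔ N := sup_le hML le_sup_right
      (hker (show f x ∈ n.map (algebraMap A C) by rw [show f x = 0 from hx]; exact zero_mem _))
    obtain ⟨l, hl, r, hr, rfl⟩ := Submodule.mem_sup.1 this
    have hrK : r ∈ K := by
      have := K.sub_mem hx (hLK hl)
      simpa using this
    exact Submodule.mem_sup.2 ⟨l, hl, r, hflat ⟨hrK, hr⟩, rfl⟩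
  have hK : K = L := le_antisymm (le_of_le_sup_mul (hn.map (Ideal.mapHom _)) hKL) hLK
  refine Algebra.FinitePresentation.of_surjective hf ?_
  show K.FG
  rw [hK]
  exact Submodule.fg_span (Set.finite_range _)


/-- Let A → B → C be homomorphisms of commutative rings and n a nilpotent ideal of A; write nB and nC
for the extended ideals. (i) If C/nC is a (B/nB)-algebra of finite type, then C is a B-algebra of
finite type. (ii) If moreover C is flat over A and C/nC is a (B/nB)-algebra of finite presentation,
then C is a B-algebra of finite presentation. -/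
theorem result (A B C : Type u) [CommRing A] [CommRing B] [CommRing C]
    [Algebra A B] [Algebra B C] [Algebra A C] [IsScalarTower A B C] (n : Ideal A) (hn : IsNilpotent n) :
    (Algebra.FiniteType (B ⧸ n.map (algebraMap A B)) (C ⧸ (n.map (algebraMap A B)).map (algebraMap B C)) →
      Algebra.FiniteType B C) ∧
    (Module.Flat A C →
      Algebra.FinitePresentation (B ⧸ n.map (algebraMap A B)) (C ⧸ (n.map (algebraMap A B)).map (algebraMap B C)) →
      Algebra.FinitePresentation B C) := by
  have hmap : (n.map (algebraMap A B)).map (algebraMap B C) = n.map (algebraMap A C) := by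
    rw [Ideal.map_map, ← IsScalarTower.algebraMap_eq]
  have lift : Algebra.FiniteType (B ⧸ n.map (algebraMap A B))
      (C ⧸ (n.map (algebraMap A B)).map (algebraMap B C)) → Algebra.FiniteType B C := by
    intro h
    haveI : Algebra.FiniteType B (C ⧸ (n.map (algebraMap A B)).map (algebraMap B C)) :=
      Algebra.FiniteType.trans (inferInstance : Algebra.FiniteType B (B ⧸ n.map (algebraMap A B))) h
    obtain ⟨s, hs⟩ := Algebra.FiniteType.out (R := B)
      (A := C ⧸ (n.map (algebraMap A B)).map (algebraMap B C))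
    classical
    choose g hg using fun x : s => Ideal.Quotient.mk_surjective x.1
    refine ⟨⟨Finset.univ.image g, adjoin_eq_top hn _ fun c => ?_⟩⟩
    have : Ideal.Quotient.mk ((n.map (algebraMap A B)).map (algebraMap B C)) c ∈
        (Algebra.adjoin B ((Finset.univ.image g : Finset C) : Set C)).map
          (Ideal.Quotient.mkₐ B _) := by
      rw [AlgHom.map_adjoin]
      have e : (Ideal.Quotient.mkₐ B ((n.map (algebraMap A B)).map (algebraMap B C))) ''
          ((Finset.univ.image g : Finset C) : Set C) = (s : Set _) := by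
        rw [Finset.coe_image, Finset.coe_univ, Set.image_univ, ← Set.range_comp]
        ext x
        constructor
        · rintro ⟨y, rfl⟩; show Ideal.Quotient.mk _ (g y) ∈ _; rw [hg]; exact y.2
        · intro hx; exact ⟨⟨x, hx⟩, hg _⟩
      rw [e, hs]
      exact Algebra.mem_top
    obtain ⟨d, hd, hdc⟩ := this
    exact ⟨d, hd, hmap ▸ Ideal.Quotient.eq.1 hdc.symm⟩
  refine ⟨lift, fun hflat h => ?_⟩
  haveI := hflat
  haveI : Algebra.FiniteType B C := lift inferInstance
  obtain ⟨m, f, hf⟩ := Algebra.FiniteType.iff_quotient_mvPolynomial''.1 ‹Algebra.FiniteType B C›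
  let I := n.map (algebraMap A B)
  let J := I.map (algebraMap B C)
  let fb : MvPolynomial (Fin m) (B ⧸ I) →ₐ[B ⧸ I] C ⧸ J :=
    MvPolynomial.aeval fun i => Ideal.Quotient.mk J (f (MvPolynomial.X i))
  have hcomm : fb.toRingHom.comp (MvPolynomial.map (Ideal.Quotient.mk I)) =
      (Ideal.Quotient.mk J).comp f.toRingHom := by
    refine MvPolynomial.ringHom_ext (fun b => ?_) fun i => ?_
    · show fb (MvPolynomial.map _ (MvPolynomial.C b)) = Ideal.Quotient.mk J (f (MvPolynomial.C b))
      rw [MvPolynomial.map_C, MvPolynomial.aeval_C, ← MvPolynomial.algebraMap_eq, AlgHom.commutes]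
      rfl
    · show fb (MvPolynomial.map _ (MvPolynomial.X i)) = Ideal.Quotient.mk J (f (MvPolynomial.X i))
      rw [MvPolynomial.map_X, MvPolynomial.aeval_X]
  have hfb : Function.Surjective fb := fun c => by
    obtain ⟨c, rfl⟩ := Ideal.Quotient.mk_surjective c
    obtain ⟨p, rfl⟩ := hf c
    exact ⟨_, RingHom.congr_fun hcomm p⟩
  obtain ⟨s, hs⟩ := Algebra.FinitePresentation.ker_fG_of_surjective fb hfb
  classical
  have hmk : Function.Surjective (MvPolynomial.map (σ := Fin m) (Ideal.Quotient.mk I)) :=
    MvPolynomial.map_surjective _ Ideal.Quotient.mk_surjective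
  choose g hg using fun x : s => hmk (x : MvPolynomial (Fin m) (B ⧸ I))
  have hk : Ideal.comap (MvPolynomial.map (σ := Fin m) (Ideal.Quotient.mk I)) (RingHom.ker fb) =
      (n.map (algebraMap A C)).comap f.toRingHom := by
    show Ideal.comap _ (RingHom.ker fb.toRingHom) = _
    rw [RingHom.comap_ker, hcomm, ← RingHom.comap_ker, Ideal.mk_ker, ← hmap]
  have hgen : (Ideal.span (Set.range g)).map (MvPolynomial.map (σ := Fin m) (Ideal.Quotient.mk I)) =
      RingHom.ker fb := by
    rw [Ideal.map_span, ← Set.range_comp]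
    refine Eq.trans (congrArg Ideal.span ?_) hs
    ext x
    constructor
    · rintro ⟨y, rfl⟩; show MvPolynomial.map _ (g y) ∈ _; rw [hg]; exact y.2
    · intro hx; exact ⟨⟨x, hx⟩, hg _⟩
  have hN : RingHom.ker (MvPolynomial.map (σ := Fin m) (Ideal.Quotient.mk I)) =
      n.map (algebraMap A (MvPolynomial (Fin m) B)) := by
    rw [MvPolynomial.ker_map, Ideal.mk_ker, Ideal.map_map, ← MvPolynomial.algebraMap_eq,
      ← IsScalarTower.algebraMap_eq]
  have hco := Ideal.comap_map_of_surjective _ hmk (Ideal.span (Set.range g))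
  rw [hgen, hk, ← RingHom.ker_eq_comap_bot, hN] at hco
  exact fp_of_aux n hn f hf (Ideal.span (Set.range g)) (Submodule.fg_span (Set.finite_range g))
    (hco ▸ le_sup_left) hco.le

end Groth.Agent.S5338
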