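import Groth.Statements.S5341
import Groth.Agent.H19Grp.Dimension
import Groth.Agent.H19Grp.GrpToGrpd

set_option autoImplicit false
set_option linter.style.haveILetI false
set_option backward.isDefEq.respectTransparency false
universe u
open CategoryTheory CategoryTheory.Limits MonoidalCategory CartesianMonoidalCategory MonObj GrpObj AlgebraicGeometry
open SGA3

namespace Groth.Agent.S5341

/-- Let G be a group scheme locally of finite type over a field k. Then (i) every irreducible component
of G has the same dimension as G; (ii) for every point g of G the local dimension of G at g (the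
infimum of the dimensions of the open neighbourhoods of g) equals dim G. -/
theorem result (k : Type u) [Field k] (G : Over (Spec (CommRingCat.of k))) [GrpObj G]
    [LocallyOfFiniteType G.hom] :
    (∀ Z ∈ irreducibleComponents ↥G.left, topologicalKrullDim ↥Z = topologicalKrullDim ↥G.left) ∧
    (∀ g : G.left, FlatMor.localDim ↥G.left g = topologicalKrullDim ↥G.left) := by
  haveI : LocallyOfFiniteType (H19Grp.grpToGrpd G).s := inferInstanceAs (LocallyOfFiniteType G.hom)
  haveI : LocallyOfFiniteType (H19Grp.grpToGrpd G).t := inferInstanceAs (LocallyOfFiniteType G.hom)
  exact ⟨fun Z hZ => H19Grp.topologicalKrullDim_component (H19Grp.grpToGrpd G) (Iso.refl _) Z hZ,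
    fun g => H19Grp.localDim_eq (H19Grp.grpToGrpd G) (Iso.refl _) g⟩

end Groth.Agent.S5341
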