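import Groth.Statements.S5343


set_option autoImplicit false
universe u
open CategoryTheory CategoryTheory.Limits MonoidalCategory CartesianMonoidalCategory MonObj GrpObj AlgebraicGeometry
open SGA3

namespace Groth.Agent.S5343

/-- Let R be a commutative ring and B a commutative R-algebra which is projective as an R-module. Then
the image of Spec B → Spec R is an open and closed subset of Spec R. (The published statement
concerns a quasi-coherent algebra on any scheme which is a direct summand of a free module; this row
is the affine case.) -/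
theorem result (R B : Type u) [CommRing R] [CommRing B] [Algebra R B] [Module.Projective R B] :
    IsClopen (Set.range (PrimeSpectrum.comap (algebraMap R B))) := by
  classical
  obtain ⟨s, hs⟩ := Module.projective_def'.1 (inferInstance : Module.Projective R B)
  let g : B →₀ R := s 1
  let τ : Ideal R := Ideal.span (g.support.image g : Set R)
  have hg : ∀ i, g i ∈ τ := fun i => by
    by_cases h : g i = 0
    · rw [h]; exact zero_mem _
    · exact Ideal.subset_span (Finset.mem_coe.2 (Finset.mem_image_of_mem _ (Finsupp.mem_support_iff.2 h)))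
  have h1 : (1 : B) = ∑ i ∈ g.support, g i • i := by
    have := LinearMap.congr_fun hs 1
    rw [LinearMap.comp_apply, Finsupp.linearCombination_apply] at this
    exact this.symm
  have hall : ∀ (b j : B), s b j ∈ τ := fun b j => by
    have h2 : b = ∑ i ∈ g.support, g i • (b * i) := by
      conv_lhs => rw [← mul_one b, h1, Finset.mul_sum]
      exact Finset.sum_congr rfl fun i _ => mul_smul_comm _ _ _
    rw [h2, map_sum, Finsupp.finsetSum_apply]
    refine sum_mem fun i _ => ?_
    rw [map_smul, Finsupp.smul_apply, smul_eq_mul]
    exact Ideal.mul_mem_right _ _ (hg i)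
  have hidem : IsIdempotentElem τ := by
    refine le_antisymm Ideal.mul_le_right (Ideal.span_le.2 ?_)
    intro x hx
    obtain ⟨j, -, rfl⟩ := Finset.mem_image.1 (Finset.mem_coe.1 hx)
    show s 1 j ∈ τ * τ
    rw [h1, map_sum, Finsupp.finsetSum_apply]
    refine sum_mem fun i _ => ?_
    rw [map_smul, Finsupp.smul_apply, smul_eq_mul]
    exact Ideal.mul_mem_mul (hg i) (hall i j)
  obtain ⟨e, he, hτ⟩ := (Ideal.isIdempotentElem_iff_of_fg τ ⟨_, rfl⟩).1 hidem
  have hrange : Set.range (PrimeSpectrum.comap (algebraMap R B)) = PrimeSpectrum.basicOpen e := by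
    ext p
    rw [PrimeSpectrum.mem_range_comap_iff, SetLike.mem_coe, PrimeSpectrum.mem_basicOpen]
    constructor
    · intro h hep
      refine p.isPrime.ne_top ?_
      rw [← h, Ideal.comap_eq_top_iff, Ideal.eq_top_iff_one, h1]
      refine sum_mem fun i _ => ?_
      rw [Algebra.smul_def]
      refine Ideal.mul_mem_right _ _ (Ideal.mem_map_of_mem _ ?_)
      have : τ ≤ p.asIdeal := by
        rw [hτ]
        exact Ideal.span_le.2 (Set.singleton_subset_iff.2 hep)
      exact this (hg i)
    · intro hep
      refine le_antisymm (fun a ha => ?_) Ideal.le_comap_map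
      obtain ⟨i, hi⟩ : ∃ i, g i ∉ p.asIdeal := by
        by_contra hc
        push Not at hc
        refine hep ?_
        have : τ ≤ p.asIdeal := Ideal.span_le.2 fun x hx => by
          obtain ⟨j, -, rfl⟩ := Finset.mem_image.1 (Finset.mem_coe.1 hx)
          exact hc j
        exact this (hτ ▸ Ideal.mem_span_singleton_self e)
      have hmem : ∀ b ∈ p.asIdeal.map (algebraMap R B), s b i ∈ p.asIdeal := by
        intro b hb
        have hb' : b ∈ p.asIdeal • (⊤ : Submodule R B) := by
          rw [Ideal.smul_top_eq_map]; exact hb
        refine Submodule.smul_induction_on hb' (fun r hr x _ => ?_) fun x y hx hy => ?_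
        · rw [map_smul, Finsupp.smul_apply, smul_eq_mul]; exact Ideal.mul_mem_right _ _ hr
        · rw [map_add, Finsupp.add_apply]; exact add_mem hx hy
      have h3 := hmem _ ha
      rw [Algebra.algebraMap_eq_smul_one, map_smul, Finsupp.smul_apply, smul_eq_mul] at h3
      exact (p.isPrime.mem_or_mem h3).resolve_right hi
  rw [hrange]
  refine ⟨?_, (PrimeSpectrum.basicOpen e).isOpen⟩
  rw [PrimeSpectrum.basicOpen_eq_zeroLocus_of_mul_add e (1 - e) (by linear_combination -(he.eq))
    (by ring)]
  exact PrimeSpectrum.isClosed_zeroLocus _

end Groth.Agent.S5343
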