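import Groth.Statements.S5344
import Groth.Agent.H19Grp.NeutralOpen
import Groth.Agent.H17.Topology

set_option autoImplicit false
set_option maxHeartbeats 1000000
set_option synthInstance.maxHeartbeats 100000
set_option linter.style.haveILetI false
set_option backward.isDefEq.respectTransparency false
universe u
open CategoryTheory CategoryTheory.Limits MonoidalCategory CartesianMonoidalCategory MonObj GrpObj AlgebraicGeometry
open SGA3

namespace Groth.Agent.S5344

open Groth.Agent.H19Grp in
theorem neutralSet_eq_component {A : Type u} [CommRing A] [IsArtinianRing A] [IsLocalRing A]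
    (G : Over (Spec (CommRingCat.of A))) [GrpObj G] (pt : ↥(𝟙_ (Over (Spec (CommRingCat.of A)))).left) :
    SGA3x.neutralSet G = connectedComponent (η[G].left.base pt) := by
  haveI : Subsingleton ↥(Spec (CommRingCat.of A)) := inferInstanceAs (Subsingleton (PrimeSpectrum A))
  have h : ∀ p : ↥(𝟙_ (Over (Spec (CommRingCat.of A)))).left,
      connectedComponentIn (G.hom ⁻¹' {(𝟙_ (Over (Spec (CommRingCat.of A)))).hom p}) (η[G].left p) =
        connectedComponent (η[G].left.base pt) := by
    intro p
    rw [show G.hom ⁻¹' {(𝟙_ (Over (Spec (CommRingCat.of A)))).hom p} = Set.univ from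
      Set.eq_univ_of_forall fun x => Subsingleton.elim (α := ↥(Spec (CommRingCat.of A))) _ _, connectedComponentIn_univ]
    congr 1
    exact congrArg η[G].left (Subsingleton.elim (α := ↥(Spec (CommRingCat.of A))) p pt)
  ext x
  show x ∈ ⋃ p, _ ↔ _
  simp only [Set.mem_iUnion]
  constructor
  · rintro ⟨p, hp⟩; rwa [h p] at hp
  · intro hx; exact ⟨pt, by rwa [h pt]⟩


/-- Let A be a local artinian ring and G an A-group scheme locally of finite type, and let G⁰ be the
connected component of the unit point. Then G⁰ is open in G; it is stable under the group law: for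
every A-scheme T and all points g, h : T → G whose images lie in G⁰, the image of g h⁻¹ lies in G⁰
(so G⁰ carries an open subgroup scheme, the neutral component); and it is normal: for every A-scheme
T, every point g : T → G and every point n : T → G whose image lies in G⁰, the image of g n g⁻¹ lies
in G⁰. -/
theorem result (A : Type u) [CommRing A] [IsArtinianRing A] [IsLocalRing A] (G : Over (Spec (CommRingCat.of A))) [GrpObj G] [LocallyOfFiniteType G.hom]
    (pt : ↥(𝟙_ (Over (Spec (CommRingCat.of A)))).left) :
    IsOpen (connectedComponent (η[G].left.base pt)) ∧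
    (∀ (T : Over (Spec (CommRingCat.of A))) (g h : T ⟶ G), Set.range g.left.base ⊆ connectedComponent (η[G].left.base pt) →
      Set.range h.left.base ⊆ connectedComponent (η[G].left.base pt) →
      Set.range (g * h⁻¹).left.base ⊆ connectedComponent (η[G].left.base pt)) ∧
    ∀ (T : Over (Spec (CommRingCat.of A))) (g n : T ⟶ G), Set.range n.left.base ⊆ connectedComponent (η[G].left.base pt) →
      Set.range (g * n * g⁻¹).left.base ⊆ connectedComponent (η[G].left.base pt) := by
  haveI : IsNoetherianRing A := inferInstance
  haveI : IsNoetherianRing (CommRingCat.of A) := inferInstanceAs (IsNoetherianRing A)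
  haveI : IsLocallyNoetherian G.left := LocallyOfFiniteType.isLocallyNoetherian G.hom
  have hN := neutralSet_eq_component G pt
  haveI : LocallyConnectedSpace ↥G.left := Groth.Agent.H17.locallyConnectedSpace_of_locallyNoetherian (fun x => by
    obtain ⟨U, hU, hxU, -⟩ := exists_isAffineOpen_mem_and_subset (X := G.left) (x := x) (U := ⊤) trivial
    haveI : IsNoetherianRing Γ(G.left, U) := IsLocallyNoetherian.component_noetherian ⟨U, hU⟩
    exact ⟨U, U.isOpen.mem_nhds hxU, noetherianSpace_of_isAffineOpen U hU⟩)
  refine ⟨isOpen_connectedComponent, ?_, ?_⟩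
  · intro T g h hg hh
    rw [← hN] at hg hh ⊢
    rintro _ ⟨z, rfl⟩
    show (g * h⁻¹).left z ∈ _
    rw [Hom.mul_def, Over.comp_left, Scheme.Hom.comp_apply]
    apply Groth.Agent.H19Grp.mul_mem_neutralSet
    · rw [← Scheme.Hom.comp_apply, ← Over.comp_left, lift_fst]
      exact hg ⟨z, rfl⟩
    · rw [← Scheme.Hom.comp_apply, ← Over.comp_left, lift_snd, Hom.inv_def, Over.comp_left, Scheme.Hom.comp_apply]
      exact Groth.Agent.H19Grp.inv_mem_neutralSet G (hh ⟨z, rfl⟩)
  · intro T g n hn
    rw [← hN] at hn ⊢
    rintro _ ⟨z, rfl⟩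
    let K := T.left.residueField z
    let y : Spec (CommRingCat.of K) ⟶ Spec (CommRingCat.of A) := T.left.fromSpecResidueField z ≫ T.hom
    let P : Over (Spec (CommRingCat.of A)) := Over.mk y
    let p : P ⟶ T := Over.homMk (T.left.fromSpecResidueField z) rfl
    let c : P.left := IsLocalRing.closedPoint K
    have hz : p.left c = z := T.left.fromSpecResidueField_apply z _
    let σ : G ⊗ P ⟶ G ⊗ P := lift ((snd G P ≫ p ≫ g) * fst G P * (snd G P ≫ p ≫ g)⁻¹) (snd G P)
    have hpre : (fst G P).left ⁻¹' SGA3x.neutralSet G =
        connectedComponent (α := (G ⊗ P).left) (Groth.Agent.H19Grp.ept (Red.bc y G)) :=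
      Groth.Agent.H19Grp.preimage_neutralSet_field G y
    let o : P ⟶ G ⊗ P := lift 1 (𝟙 P)
    have ho : (fst G P).left (o.left c) ∈ SGA3x.neutralSet G := by
      rw [← Scheme.Hom.comp_apply, ← Over.comp_left, lift_fst, Hom.one_def, Over.comp_left, Scheme.Hom.comp_apply]
      exact Groth.Agent.H19Grp.one_mem_neutralSet G _
    let n' : P ⟶ G ⊗ P := lift (p ≫ n) (𝟙 P)
    have hn' : (fst G P).left (n'.left c) ∈ SGA3x.neutralSet G := by
      rw [← Scheme.Hom.comp_apply, ← Over.comp_left, lift_fst, Over.comp_left, Scheme.Hom.comp_apply]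
      exact hn ⟨_, rfl⟩
    have hσo : o ≫ σ = o := by
      apply CartesianMonoidalCategory.hom_ext
      · simp only [σ, o, Category.assoc, lift_fst, MonObj.comp_mul, GrpObj.comp_inv, lift_snd_assoc]
        rw [_root_.mul_one, mul_inv_cancel]
      · simp [σ, o]
    have hC := (isPreconnected_connectedComponent (x := o.left c)).image σ.left σ.left.continuous.continuousOn
    have hmem : σ.left (n'.left c) ∈ connectedComponent (o.left c) := by
      refine hC.subset_connectedComponent ⟨o.left c, mem_connectedComponent, ?_⟩ ⟨n'.left c, ?_, rfl⟩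
      · rw [← Scheme.Hom.comp_apply, ← Over.comp_left, hσo]
      · rw [← connectedComponent_eq (hpre.le ho)]
        exact hpre.le hn'
    rw [← connectedComponent_eq (hpre.le ho)] at hmem
    have h2 : (fst G P).left (σ.left (n'.left c)) ∈ SGA3x.neutralSet G := hpre.ge hmem
    have e : n' ≫ σ ≫ fst G P = p ≫ (g * n * g⁻¹) := by
      simp only [σ, n', lift_fst, MonObj.comp_mul, GrpObj.comp_inv, lift_snd_assoc, Category.id_comp]
    rw [← hz, ← Scheme.Hom.comp_apply, ← Over.comp_left, ← e]
    exact h2

end Groth.Agent.S5344
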