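import Groth.Statements.S5345
import Groth.Agent.H19Grp.Components
import Groth.Agent.H19Grp.Neutral
import Groth.Agent.H19Grp.ArtinHom

set_option autoImplicit false
set_option maxHeartbeats 1000000
set_option synthInstance.maxHeartbeats 100000
set_option linter.style.haveILetI false
set_option backward.isDefEq.respectTransparency false
universe u
open CategoryTheory CategoryTheory.Limits MonoidalCategory CartesianMonoidalCategory MonObj GrpObj AlgebraicGeometry
open SGA3

namespace Groth.Agent.S5345

theorem isCompact_component_field {K : Type u} [Field K] (G : Over (Spec (CommRingCat.of K))) [GrpObj G] (x : G.left) :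
    IsCompact (connectedComponent x) := by
  let Gd := Groth.Agent.H19Grp.grpToGrpd G
  show IsCompact (connectedComponent (α := Gd.R) x)
  rw [Groth.Agent.H19Grp.connectedComponent_eq_irreducibleComponent Gd (Iso.refl _)]
  obtain ⟨_, ⟨(W : Gd.R.Opens), (hW : IsAffineOpen W), rfl⟩, hxW, -⟩ :=
    Gd.R.isBasis_affineOpens.exists_subset_of_mem_open (Set.mem_univ (Groth.Agent.H19Grp.zeta (α := Gd.R) x)) isOpen_univ
  refine (Groth.Agent.H19Grp.isCompact_sat Gd (Iso.refl _) W hW.isCompact).of_isClosed_subset isClosed_irreducibleComponent ?_
  intro y hy
  rw [Groth.Agent.H19Grp.mem_irreducibleComponent_iff_zeta (Groth.Agent.H19Grp.dirGen Gd (Iso.refl _))] at hy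
  show Groth.Agent.H19Grp.zeta y ∈ W
  rw [hy]; exact hxW


/-- Let A be a local artinian ring and G an A-group scheme locally of finite type. Then every connected
component of G, in particular the connected component of the unit, is quasi-compact (so the open
subscheme it carries is of finite type over A). (The published statement also asserts that the
components are irreducible and of equal dimension; this row states only their quasi-compactness.) -/
theorem result (A : Type u) [CommRing A] [IsArtinianRing A] [IsLocalRing A] (G : Over (Spec (CommRingCat.of A))) [GrpObj G] [LocallyOfFiniteType G.hom]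
    (g : G.left) : IsCompact (connectedComponent g) := by
  let k := IsLocalRing.ResidueField A
  let res : Spec (CommRingCat.of k) ⟶ Spec (CommRingCat.of A) := Spec.map (CommRingCat.ofHom (IsLocalRing.residue A))
  haveI : IsClosedImmersion res := IsClosedImmersion.spec_of_surjective _ IsLocalRing.residue_surjective
  haveI : Surjective res := Groth.Agent.H19Grp.ArtinHom.surjective_residue
  let G₀ := (Over.pullback res).obj G
  letI : GrpObj G₀ := Functor.grpObjObj
  let h : G₀.left ≃ₜ G.left := ((pullback.fst G.hom res).isClosedEmbedding.isEmbedding.toHomeomorphOfSurjective
    (pullback.fst G.hom res).surjective)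
  obtain ⟨x, rfl⟩ := h.surjective g
  rw [← Groth.Agent.H19Grp.homeomorph_image_component h x]
  exact (isCompact_component_field G₀ x).image h.continuous

end Groth.Agent.S5345
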