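import Groth.Statements.S5347
import Groth.Agent.H19Grp.PointPreds

set_option autoImplicit false
set_option linter.style.haveILetI false
set_option backward.isDefEq.respectTransparency false
universe u
open CategoryTheory CategoryTheory.Limits MonoidalCategory CartesianMonoidalCategory MonObj GrpObj AlgebraicGeometry
open SGA3

namespace Groth.Agent.S5347

/-- Let A be a local artinian ring, G a flat A-group scheme (not assumed of finite type), X an A-scheme
with a left action of G and an A-point s₀ of X, and φ : G → X the orbit morphism g ↦ g·s₀. If φ is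
flat at some point of G (the local ring of G there is flat over the local ring of X at the image),
then φ is flat. -/
theorem result (A : Type u) [CommRing A] [IsArtinianRing A] [IsLocalRing A] (G X : Over (Spec (CommRingCat.of A))) [GrpObj G] [Flat G.hom]
    (a : AlgGrp.Action G X) (s₀ : 𝟙_ (Over (Spec (CommRingCat.of A))) ⟶ X)
    (h : ∃ g : G.left, ((a.orbitMap s₀).left.stalkMap g).hom.Flat) : Flat (a.orbitMap s₀).left := by
  obtain ⟨g, hg⟩ := h
  let φ : G ⟶ X := a.orbitMap s₀
  let v : G ⟶ X := toUnit G ≫ s₀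
  have hv : H19Grp.orbitMap a v = φ ▷ G := by
    apply CartesianMonoidalCategory.hom_ext
    · rw [H19Grp.orbitMap, lift_fst, whiskerRight_fst]
      simp only [φ, AlgGrp.Action.orbitMap, comp_lift_assoc, Category.comp_id]
      congr 1
      refine CartesianMonoidalCategory.hom_ext _ _ ?_ ?_
      · simp
      · rw [whiskerLeft_snd, lift_snd, ← Category.assoc (snd G G), ← Category.assoc (fst G G),
          toUnit_unique (snd G G ≫ toUnit G) (fst G G ≫ toUnit G)]
    · rw [H19Grp.orbitMap, lift_snd, whiskerRight_snd]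
  have sq : IsPullback (fst G G).left (φ ▷ G).left φ.left (fst X G).left := by
    refine IsPullback.of_bot (v₂₁ := (snd X G).left) (v₂₂ := X.hom) (h₃₁ := G.hom) ?_
      (congrArg Over.Hom.left (whiskerRight_fst φ G).symm) (IsPullback.of_hasPullback X.hom G.hom)
    rw [← Over.comp_left, whiskerRight_snd, Over.w φ]
    exact IsPullback.of_hasPullback G.hom G.hom
  rw [Flat.iff_flat_stalkMap]
  intro y
  haveI : Subsingleton (PrimeSpectrum A) := inferInstance
  obtain ⟨z, hz1, hz2⟩ := Scheme.Pullback.exists_preimage_pullback (f := G.hom) (g := G.hom) g y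
    (Subsingleton.elim (α := PrimeSpectrum A) _ _)
  let σ : G ⊗ G ⟶ G ⊗ G := lift (fst G G) (snd G G * (fst G G)⁻¹)
  let τ : G ⊗ G ⟶ G ⊗ G := H19Grp.transL (𝟙 G)
  let τX : X ⊗ G ⟶ X ⊗ G := H19Grp.transX a (𝟙 G)
  haveI : IsIso τ.left := H19Grp.isIso_transL (𝟙 G)
  haveI : IsIso τX.left := by
    have key : ∀ k : G ⟶ G, H19Grp.transX a k ≫ H19Grp.transX a k⁻¹ = 𝟙 _ := fun k => by
      apply CartesianMonoidalCategory.hom_ext
      · simp [H19Grp.transX, H18Torsor.comp_smul, GrpObj.comp_inv, ← H18Torsor.mul_smul_pt, H18Torsor.one_smul_pt]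
      · simp [H19Grp.transX]
    haveI : IsIso τX := ⟨H19Grp.transX a (𝟙 G)⁻¹, key _, by have := key (𝟙 G)⁻¹; rw [_root_.inv_inv] at this; exact this⟩
    exact ((Over.forget _).mapIso (asIso τX)).isIso_hom
  have hcl : τ.left ≫ (φ ▷ G).left = (φ ▷ G).left ≫ τX.left := by
    rw [← Over.comp_left, ← Over.comp_left, ← hv]
    exact congrArg Over.Hom.left (H19Grp.transL_orbitMap a (𝟙 G) v)
  have sq2 : IsPullback (inv τ.left) (φ ▷ G).left (φ ▷ G).left (inv τX.left) := by
    refine IsPullback.of_horiz_isIso ⟨?_⟩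
    rw [IsIso.inv_comp_eq, ← Category.assoc, hcl, Category.assoc, IsIso.hom_inv_id, Category.comp_id]
  have e1 : σ.left ≫ (fst G G).left = (fst G G).left := by rw [← Over.comp_left, lift_fst]
  have e2 : σ.left ≫ τ.left ≫ (fst G G).left = (snd G G).left := by
    rw [← Over.comp_left, ← Over.comp_left]
    congr 1
    simp [σ, τ, H19Grp.transL, MonObj.comp_mul]
  have h1 : H19Grp.FlatPt (φ ▷ G).left (σ.left z) := by
    refine H19Grp.ptBC_flatPt _ _ _ _ sq _ ?_
    rw [← Scheme.Hom.comp_apply, e1, show (fst G G).left z = g from hz1]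
    exact hg
  have h2 : H19Grp.FlatPt (φ ▷ G).left (τ.left (σ.left z)) := by
    refine H19Grp.ptBC_flatPt _ _ _ _ sq2 _ ?_
    rwa [← Scheme.Hom.comp_apply, IsIso.hom_inv_id]
  have hfl : Flat (fst X G).left := inferInstanceAs (Flat (pullback.fst X.hom G.hom))
  have h3 := H19Grp.ptDesc_flatPt _ _ _ _ sq hfl _ h2
  rw [← Scheme.Hom.comp_apply, ← Scheme.Hom.comp_apply, e2, show (snd G G).left z = y from hz2] at h3
  exact h3

end Groth.Agent.S5347
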