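import Groth.Statements.S5349
import Groth.Agent.H06Homog.Orbits
-- import your own Groth.Agent.* helpers here

set_option autoImplicit false
universe u
open CategoryTheory CategoryTheory.Limits MonoidalCategory CartesianMonoidalCategory MonObj GrpObj AlgebraicGeometry
open SGA3

namespace Groth.Agent.S5349

open Groth.Agent Groth.Agent.H06Homog Groth.Agent.H19Grp TopologicalSpace

set_option backward.isDefEq.respectTransparency false

/-- Let G be a group scheme over a field k (not assumed of finite type) acting on an irreducible
k-scheme X so that the morphism G ×_k X → X ×_k X, (g, x) ↦ (gx, x), is surjective. Then X is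
quasi-compact. -/
theorem result (k : Type u) [Field k] (G X : Over (Spec (CommRingCat.of k))) [GrpObj G] (a : AlgGrp.Action G X) (hΦ : Surjective (lift a.act (snd G X)).left)
    [IrreducibleSpace X.left] : CompactSpace X.left := by
  haveI := hΦ
  exact compactSpace_of_irreducible a

end Groth.Agent.S5349
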