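import Groth.Statements.S5350
import Groth.Agent.H06Homog.Orbits
-- import your own Groth.Agent.* helpers here

set_option autoImplicit false
universe u
open CategoryTheory CategoryTheory.Limits MonoidalCategory CartesianMonoidalCategory MonObj GrpObj AlgebraicGeometry
open SGA3

namespace Groth.Agent.S5350

open Groth.Agent Groth.Agent.H06Homog Groth.Agent.H19Grp TopologicalSpace

set_option backward.isDefEq.respectTransparency false

/-- Let G be a group scheme over a field k (not assumed of finite type) acting on a k-scheme X so that G
×_k X → X ×_k X, (g, x) ↦ (gx, x), is surjective; let C⁰ be an irreducible component of G containing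
the unit point and U an open subset of X. Let C⁰·U be the image under the action of the set of
points of G ×_k X whose projections lie in C⁰ and in U. Then (i) C⁰·U is open in X and equals the
union of the irreducible components of X whose generic point lies in U; (ii) if U is retrocompact in
X then C⁰·U is the closure of U (so is open and closed). -/
theorem result (k : Type u) [Field k] (G X : Over (Spec (CommRingCat.of k))) [GrpObj G] (a : AlgGrp.Action G X) (hΦ : Surjective (lift a.act (snd G X)).left)
    (pt : ↥(𝟙_ (Over (Spec (CommRingCat.of k)))).left) (C0 : Set G.left) (hC0 : C0 ∈ irreducibleComponents ↥G.left)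
    (he : η[G].left.base pt ∈ C0) (U : X.left.Opens) :
    letI V : Set X.left := a.act.left.base '' {z : ↥(G ⊗ X).left | (fst G X).left.base z ∈ C0 ∧ (snd G X).left.base z ∈ U}
    IsOpen V ∧ V = ⋃₀ {Z : Set X.left | Z ∈ irreducibleComponents ↥X.left ∧ ∃ ξ ∈ U, closure {ξ} = Z} ∧
    (IsRetrocompact (U : Set X.left) → V = closure (U : Set X.left)) := by
  haveI := hΦ
  have hd := dirX a
  have hV : a.act.left.base '' {z : ↥(G ⊗ X).left | (fst G X).left.base z ∈ C0 ∧ (snd G X).left.base z ∈ U} =
      sat (U : Set X.left) := by
    rw [← orb_eq_sat a U, component_eq hC0 pt he]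
    rfl
  show IsOpen _ ∧ _ = _ ∧ (_ → _ = _)
  rw [hV]
  refine ⟨isOpen_sat' a U, ?_, fun hU => ?_⟩
  · ext x
    constructor
    · intro hx
      exact ⟨irreducibleComponent x, ⟨irreducibleComponent_mem_irreducibleComponents x, zeta x, hx,
        (isGenericPoint_zeta x).def⟩, mem_irreducibleComponent⟩
    · rintro ⟨Z, ⟨hZ, ξ, hξ, rfl⟩, hxZ⟩
      show zeta x ∈ U
      rw [← zeta_eq_of_specializes hd (specializes_iff_mem_closure.2 hxZ)]
      exact (zeta_specializes ξ).mem_open U.2 hξ
  · refine Set.Subset.antisymm (fun x hx => ?_) (fun x hx => ?_)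
    · exact ((zeta_specializes x).mem_closed isClosed_closure (subset_closure hx))
    · haveI : QuasiCompact U.ι := by
        refine ⟨fun V hV hVc => ?_⟩
        rw [U.ι.isOpenEmbedding.isInducing.isCompact_iff, Set.image_preimage_eq_inter_range,
          Scheme.Opens.range_ι, Set.inter_comm]
        exact hU hVc hV
      rw [← U.range_ι] at hx
      obtain ⟨u, hu⟩ := H17.exists_specializes_of_mem_closure_range U.ι hx
      show zeta x ∈ U
      rw [← zeta_eq_of_specializes hd hu]
      exact (zeta_specializes _).mem_open U.2 u.2

end Groth.Agent.S5350
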