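import Groth.Statements.S5352
import Groth.Agent.H19Quot.AbelianCat
import Groth.Agent.S3278

set_option autoImplicit false
set_option maxHeartbeats 1000000
set_option synthInstance.maxHeartbeats 100000
set_option linter.style.haveILetI false
set_option backward.isDefEq.respectTransparency false
universe u
open CategoryTheory CategoryTheory.Limits MonoidalCategory CartesianMonoidalCategory MonObj GrpObj AlgebraicGeometry
open SGA3

namespace Groth.Agent.S5352

theorem isAffine_of_fppf {k : Type u} [Field k] {X Y : Over (Spec (CommRingCat.of k))} [GrpObj X] [GrpObj Y]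
    [IsCommMonObj X] [IsAffine X.left] [LocallyOfFiniteType X.hom] (p : X ⟶ Y) [IsMonHom p] [Flat p.left]
    [Surjective p.left] [LocallyOfFinitePresentation p.left] : IsAffine Y.left := by
  haveI := H19Grp.AffineQuotient.isSeparated_of_grp Y
  obtain ⟨N, gN, i, hi, hic, hk⟩ := H19Grp.AffineQuotient.exists_kernel p
  letI := gN; haveI := hi; haveI := hic
  obtain ⟨Q, gQ, q, hq, hQa, hQl, hqf, hqs, hkq⟩ :=
    Groth.Agent.S3278.result k X N i (H19Quot.AbelianCat.normal_of_comm i)
  letI := gQ; haveI := hq; haveI := hQl; haveI := hqf; haveI := hqs; haveI := hQa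
  haveI : IsNoetherianRing (CommRingCat.of k) := inferInstanceAs (IsNoetherianRing k)
  haveI : IsLocallyNoetherian Q.left := LocallyOfFiniteType.isLocallyNoetherian Q.hom
  haveI : LocallyOfFiniteType (q.left ≫ Q.hom) := by rw [Over.w]; infer_instance
  haveI : LocallyOfFiniteType q.left := locallyOfFiniteType_of_comp q.left Q.hom
  have sp := H19Quot.hasFpqcSection_of_lfp p
  have sq := H19Quot.hasFpqcSection_of_lfp q
  obtain ⟨φ, -, hφ⟩ := H19Quot.AbelianCat.desc_hom p sp hk q (H19Grp.kernel_comp_eq_one hkq)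
  obtain ⟨ψ, -, hψ⟩ := H19Quot.AbelianCat.desc_hom q sq hkq p (H19Grp.kernel_comp_eq_one hk)
  haveI := sp.epi; haveI := sq.epi
  haveI : IsIso φ := ⟨ψ, by rw [← cancel_epi p, reassoc_of% hφ, hψ, Category.comp_id],
    by rw [← cancel_epi q, reassoc_of% hψ, hφ, Category.comp_id]⟩
  haveI : IsIso φ.left := inferInstanceAs (IsIso ((Over.forget _).map φ))
  exact IsAffine.of_isIso φ.left


/-- Let k be a field. The category of commutative affine algebraic k-groups (commutative group objects
in k-schemes whose underlying scheme is affine and of finite type over k, as a full subcategory of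
commutative group objects over Spec k) is an abelian category. -/
theorem result (k : Type u) [Field k] :
    Nonempty (Abelian (ObjectProperty.FullSubcategory
      (fun G : CommGrp (Over (Spec (CommRingCat.of k))) => LocallyOfFiniteType G.X.hom ∧ QuasiCompact G.X.hom ∧ IsAffine G.X.left))) := by
  refine H19Quot.AbelianCat.nonempty_abelian (P := fun G : CommGrp (Over (Spec (CommRingCat.of k))) =>
    LocallyOfFiniteType G.X.hom ∧ QuasiCompact G.X.hom ∧ IsAffine G.X.left) ⟨fun A h => ⟨h.1, h.2.1⟩, ?_, ?_, ?_, ?_⟩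
  · refine ⟨?_, ?_, ?_⟩
    · show LocallyOfFiniteType (𝟙 _); infer_instance
    · show QuasiCompact (𝟙 _); infer_instance
    · show IsAffine (Spec (CommRingCat.of k)); infer_instance
  · intro A B hA hB
    haveI := hA.1; haveI := hA.2.1; haveI := hA.2.2; haveI := hB.1; haveI := hB.2.1; haveI := hB.2.2
    refine ⟨?_, ?_, ?_⟩
    · show LocallyOfFiniteType (pullback.fst A.X.hom B.X.hom ≫ A.X.hom); infer_instance
    · show QuasiCompact (pullback.fst A.X.hom B.X.hom ≫ A.X.hom); infer_instance
    · show IsAffine (pullback A.X.hom B.X.hom); infer_instance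
  · intro A B i _ _ hB
    haveI := hB.2.2
    obtain ⟨h₁, h₂⟩ := H19Quot.AbelianCat.isFT_of_closed i ⟨hB.1, hB.2.1⟩
    exact ⟨h₁, h₂, isAffine_of_isAffineHom i.left⟩
  · intro A B p _ _ _ _ hA
    haveI := hA.1; haveI := hA.2.2
    obtain ⟨h₁, h₂⟩ := H19Quot.AbelianCat.isFT_of_fppf p ⟨hA.1, hA.2.1⟩
    exact ⟨h₁, h₂, isAffine_of_fppf p⟩

end Groth.Agent.S5352
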