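import Groth.Statements.S5353
import Groth.Agent.H13Flat.Scheme
import Groth.Agent.H13Desc.Flat
import Groth.Agent.H12AlgSp.Descent
import Groth.Agent.H18Descent.Basic

set_option autoImplicit false
set_option maxHeartbeats 1000000
set_option synthInstance.maxHeartbeats 100000
set_option linter.style.haveILetI false
set_option backward.isDefEq.respectTransparency false
universe u
open CategoryTheory CategoryTheory.Limits MonoidalCategory CartesianMonoidalCategory MonObj GrpObj AlgebraicGeometry
open SGA3

namespace Groth.Agent.S5353

/-- Let A be a local artinian ring, G an A-group scheme which is flat and locally of finite type, i : G⁰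
→ G an open subgroup scheme whose image is the connected component of the unit (the neutral
component), and p : G → Q a homomorphism of A-group schemes which is surjective, flat and locally of
finite presentation with kernel G⁰ (Q is the quotient of G by G⁰). Then Q is etale over A. -/
theorem result (A : Type u) [CommRing A] [IsArtinianRing A] [IsLocalRing A] (G0 G Q : Over (Spec (CommRingCat.of A))) [GrpObj G0] [GrpObj G] [GrpObj Q]
    [Flat G.hom] [LocallyOfFiniteType G.hom] (i : G0 ⟶ G) [IsMonHom i] [IsOpenImmersion i.left]
    (pt : ↥(𝟙_ (Over (Spec (CommRingCat.of A)))).left) (hi : Set.range i.left.base = connectedComponent (η[G].left.base pt))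
    (p : G ⟶ Q) [IsMonHom p] [Surjective p.left] [Flat p.left] [LocallyOfFinitePresentation p.left]
    (hK : AlgGrp.IsKernel i p) : Etale Q.hom := by
  haveI : IsNoetherianRing (CommRingCat.of A) := inferInstanceAs (IsNoetherianRing A)
  haveI : LocallyOfFinitePresentation G.hom := inferInstance
  haveI : Flat (p.left ≫ Q.hom) := by rw [Over.w]; infer_instance
  haveI : LocallyOfFinitePresentation (p.left ≫ Q.hom) := by rw [Over.w]; infer_instance
  haveI : Flat (𝟙 G.left ≫ p.left) := by rw [Category.id_comp]; infer_instance
  haveI : Surjective (𝟙 G.left ≫ p.left) := by rw [Category.id_comp]; infer_instance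
  haveI hQf : Flat Q.hom := H13Desc.flat_of_refinement p.left Q.hom (𝟙 _)
  haveI hQp : LocallyOfFinitePresentation Q.hom := H13Flat.lfp_of_flat_surjective p.left Q.hom
  have sq : IsPullback i.left (toUnit G0).left p.left η[Q].left := hK.map (Over.forget _)
  have hη : IsOpenImmersion η[Q].left :=
    MorphismProperty.of_isPullback_of_descendsAlong (P := @IsOpenImmersion) (Q := H12AlgSp.fppfMor.{u}) sq
      ⟨⟨‹Surjective p.left›, ‹Flat p.left›⟩, ‹LocallyOfFinitePresentation p.left›⟩ ‹_›
  let d : Q ⊗ Q ⟶ Q := fst Q Q * (snd Q Q)⁻¹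
  have sq₂ : IsPullback (CartesianMonoidalCategory.lift (𝟙 Q) (𝟙 Q)) (toUnit Q) d η[Q] := by
    have hd : CartesianMonoidalCategory.lift (𝟙 Q) (𝟙 Q) ≫ d = toUnit Q ≫ η[Q] := by
      rw [← Hom.one_def]; simp [d, MonObj.comp_mul, GrpObj.comp_inv]
    have key : ∀ c : PullbackCone d η[Q], c.fst ≫ fst Q Q = c.fst ≫ snd Q Q := fun c => by
      have h := c.condition
      rw [toUnit_unique c.snd (toUnit _), ← Hom.one_def, MonObj.comp_mul, GrpObj.comp_inv, mul_inv_eq_one] at h
      exact h
    refine IsPullback.of_isLimit' ⟨hd⟩ (PullbackCone.IsLimit.mk _ (fun c => c.fst ≫ fst Q Q) (fun c => ?_)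
      (fun c => toUnit_unique _ _) (fun c m hm _ => ?_))
    · apply CartesianMonoidalCategory.hom_ext
      · simp
      · simpa using key c
    · rw [← hm]; simp
  have hD : IsOpenImmersion (CartesianMonoidalCategory.lift (𝟙 Q) (𝟙 Q)).left :=
    MorphismProperty.of_isPullback (P := @IsOpenImmersion) (sq₂.map (Over.forget _)).flip hη
  haveI : IsOpenImmersion (pullback.diagonal Q.hom) := by
    have e : (CartesianMonoidalCategory.lift (𝟙 Q) (𝟙 Q)).left = pullback.diagonal Q.hom := pullback.hom_ext
      (by simp [pullback.diagonal]) (by simp [pullback.diagonal])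
    exact e ▸ hD
  exact Etale.iff_flat_and_formallyUnramified.2 ⟨hQf, inferInstance, hQp⟩

end Groth.Agent.S5353
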