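import Groth.Statements.S5354
import Groth.Agent.H19Grp.Basic

set_option autoImplicit false
set_option maxHeartbeats 1000000
set_option synthInstance.maxHeartbeats 100000
set_option linter.style.haveILetI false
set_option backward.isDefEq.respectTransparency false
universe u
open CategoryTheory CategoryTheory.Limits MonoidalCategory CartesianMonoidalCategory MonObj GrpObj AlgebraicGeometry
open SGA3

namespace Groth.Agent.S5354

theorem maximal_of_flat {X Y : Scheme.{u}} (f : X ⟶ Y) [Flat f] {z : X}
    (hz : closure {z} ∈ irreducibleComponents ↥X) : closure {f z} ∈ irreducibleComponents ↥Y := by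
  let g := (isIrreducible_irreducibleComponent (x := f z)).genericPoint
  have hgen : IsGenericPoint g (irreducibleComponent (f z)) :=
    (isIrreducible_irreducibleComponent (x := f z)).isGenericPoint_genericPoint isClosed_irreducibleComponent
  have hspec : g ⤳ f z := hgen.specializes mem_irreducibleComponent
  obtain ⟨z', hz', hfz'⟩ := (Flat.generalizingMap f) hspec
  have hzz : z ⤳ z' := by
    have h1 : closure {z} ⊆ closure {z'} := (isClosed_closure.closure_subset_iff).mpr
      (Set.singleton_subset_iff.mpr hz'.mem_closure)
    exact (specializes_iff_mem_closure).mpr ((hz.2 isIrreducible_singleton.closure h1) (subset_closure rfl))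
  have e : z' = z := (hz'.antisymm hzz).eq
  rw [e] at hfz'
  rw [hfz', hgen.def]
  exact irreducibleComponent_mem_irreducibleComponents _


/-- Let G be a group scheme over a field k (not assumed of finite type). For every point x of G there is
a point z of G ×_k G with product x whose two projections are maximal points of G (generic points of
irreducible components). -/
theorem result (k : Type u) [Field k] (G : Over (Spec (CommRingCat.of k))) [GrpObj G] (x : G.left) :
    ∃ z : ↥(G ⊗ G).left, μ[G].left.base z = x ∧
      closure {(fst G G).left.base z} ∈ irreducibleComponents ↥G.left ∧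
      closure {(snd G G).left.base z} ∈ irreducibleComponents ↥G.left := by
  let P : Over (Spec (CommRingCat.of k)) := Over.mk (G.left.fromSpecResidueField x ≫ G.hom)
  let p : P ⟶ G := Over.homMk (G.left.fromSpecResidueField x) rfl
  let a : G ⊗ P ⟶ G := (fst G P)⁻¹ * (snd G P ≫ p)
  have e1 : ∀ {T : Over (Spec (CommRingCat.of k))} (g : T ⟶ G) (q : T ⟶ P),
      lift g q ≫ a = g⁻¹ * (q ≫ p) := fun g q => by
    simp only [a, MonObj.comp_mul, GrpObj.comp_inv, lift_fst, lift_snd_assoc]
  let σ : G ⊗ P ⟶ G ⊗ P := lift a (snd G P)
  let τ : G ⊗ P ⟶ G ⊗ P := lift ((snd G P ≫ p) * (fst G P)⁻¹) (snd G P)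
  have e2 : σ ≫ τ = 𝟙 _ := by
    apply CartesianMonoidalCategory.hom_ext
    · simp only [σ, τ, a, Category.assoc, Category.id_comp, lift_fst, MonObj.comp_mul, GrpObj.comp_inv, lift_snd_assoc]
      rw [_root_.mul_inv_rev, _root_.inv_inv, mul_inv_cancel_left]
    · simp [σ, τ]
  have e3 : τ ≫ σ = 𝟙 _ := by
    apply CartesianMonoidalCategory.hom_ext
    · simp only [σ, τ, a, Category.assoc, Category.id_comp, lift_fst, MonObj.comp_mul, GrpObj.comp_inv, lift_snd_assoc]
      rw [_root_.mul_inv_rev, _root_.inv_inv, inv_mul_cancel_right]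
    · simp [σ, τ]
  haveI : IsIso σ := ⟨τ, e2, e3⟩
  haveI : IsIso σ.left := inferInstanceAs (IsIso ((Over.forget _).map σ))
  haveI : Flat (fst G P).left := inferInstanceAs (Flat (pullback.fst G.hom P.hom))
  haveI : Flat a.left := by
    have h : a = σ ≫ fst G P := (lift_fst _ _).symm
    rw [h, Over.comp_left]; infer_instance
  haveI : Nonempty ↥(G ⊗ P).left :=
    ⟨(lift (toUnit P ≫ η[G]) (𝟙 P)).left (IsLocalRing.closedPoint (G.left.residueField x))⟩
  obtain ⟨y⟩ := ‹Nonempty ↥(G ⊗ P).left›
  let z₀ := (isIrreducible_irreducibleComponent (x := y)).genericPoint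
  have hz₀ : closure {z₀} ∈ irreducibleComponents ↥(G ⊗ P).left := by
    rw [((isIrreducible_irreducibleComponent (x := y)).isGenericPoint_genericPoint isClosed_irreducibleComponent).def]
    exact irreducibleComponent_mem_irreducibleComponents _
  refine ⟨(lift (fst G P) a).left z₀, ?_, ?_, ?_⟩
  · show μ[G].left _ = x
    rw [← Scheme.Hom.comp_apply, ← Over.comp_left, ← Hom.mul_def,
      show fst G P * a = snd G P ≫ p from mul_inv_cancel_left _ _, Over.comp_left, Scheme.Hom.comp_apply]
    exact Scheme.fromSpecResidueField_apply _ _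
  · show closure {(fst G G).left _} ∈ _
    rw [← Scheme.Hom.comp_apply, ← Over.comp_left, lift_fst]
    exact maximal_of_flat _ hz₀
  · show closure {(snd G G).left _} ∈ _
    rw [← Scheme.Hom.comp_apply, ← Over.comp_left, lift_snd]
    exact maximal_of_flat _ hz₀

end Groth.Agent.S5354
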