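import Groth.Statements.S5357
import Groth.Agent.H19Grp.Transporter
import Groth.Agent.H19Grp.GrpdSep

set_option autoImplicit false
set_option linter.style.haveILetI false
set_option backward.isDefEq.respectTransparency false
universe u
open CategoryTheory CategoryTheory.Limits MonoidalCategory CartesianMonoidalCategory MonObj GrpObj AlgebraicGeometry
open SGA3

namespace Groth.Agent.S5357

/-- Let G be a group scheme over a field k, X a k-scheme and u, v : X → G two morphisms of k-schemes.
Then the transporter of u into v, the subfunctor of G whose points with values in S' are the g such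
that g u(x) g⁻¹ = v(x) for every S'' → S' and every point x of X with values in S'', is represented
by a closed subscheme of G. (For u = v this says that the centralizer of u is represented by a
closed subscheme of G; that it is a subgroup scheme is not stated here.) -/
theorem result (k : Type u) [Field k] (G X : Over (Spec (CommRingCat.of k))) [GrpObj G]
    (u v : X ⟶ G) :
    ∃ (T : Over (Spec (CommRingCat.of k))) (t : T ⟶ G), IsClosedImmersion t.left ∧
      ∀ (S' : Over (Spec (CommRingCat.of k))) (g : S' ⟶ G), (∃ z : S' ⟶ T, z ≫ t = g) ↔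
        ∀ (S'' : Over (Spec (CommRingCat.of k))) (s : S'' ⟶ S') (x : S'' ⟶ X), (s ≫ g) * (x ≫ u) * (s ≫ g)⁻¹ = x ≫ v := by
  haveI : Subsingleton (Spec (CommRingCat.of k)) := inferInstance
  haveI : IsClosedImmersion (η[G]).left :=
    H19Grp.isClosedImmersion_section_of_subsingleton G.hom (η[G]).left (Over.w η[G])
  let c : G ⊗ X ⟶ G := fst G X * (snd G X ≫ u) * (fst G X)⁻¹ * (snd G X ≫ v)⁻¹
  obtain ⟨T, t, ht, h⟩ := H19Grp.exists_closed_forall_factor c η[G]
  refine ⟨T, t, ht, fun S' g => (h S' g).trans ⟨fun H S'' s x => ?_, fun H S'' s x => ?_⟩⟩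
  · obtain ⟨x', hx'⟩ := H S'' s x
    have h1 : x' ≫ η[G] = (1 : S'' ⟶ G) := by
      rw [Hom.one_def, toUnit_unique x' (toUnit S'')]
    rw [h1] at hx'
    have h2 := hx'.symm
    simp only [c, MonObj.comp_mul, GrpObj.comp_inv, lift_fst, lift_snd_assoc] at h2
    exact mul_inv_eq_one.mp h2
  · refine ⟨toUnit S'', ?_⟩
    rw [← Hom.one_def]
    simp only [c, MonObj.comp_mul, GrpObj.comp_inv, lift_fst, lift_snd_assoc]
    exact (mul_inv_eq_one.mpr (H S'' s x)).symm

end Groth.Agent.S5357
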