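import Groth.Statements.S5358
import Groth.Agent.H19Grp.Transporter
import Groth.Agent.H19Grp.SubgrpClosed
import Groth.Agent.H19Grp.GrpdSep

set_option autoImplicit false
set_option linter.style.haveILetI false
set_option backward.isDefEq.respectTransparency false
universe u
open CategoryTheory CategoryTheory.Limits MonoidalCategory CartesianMonoidalCategory MonObj GrpObj AlgebraicGeometry
open SGA3

namespace Groth.Agent.S5358

lemma isClosedImmersion_subgroup {k : Type u} [Field k] {H G : Over (Spec (CommRingCat.of k))} [GrpObj H]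
    [GrpObj G] (h : H ⟶ G) [IsMonHom h] [IsImmersion h.left] : IsClosedImmersion h.left := by
  haveI : IsIntegral (H19Grp.grpToGrpd G).U := inferInstanceAs (IsIntegral (Spec (CommRingCat.of k)))
  haveI : Subsingleton (H19Grp.grpToGrpd G).U := inferInstanceAs (Subsingleton (Spec (CommRingCat.of k)))
  exact IsClosedImmersion.iff_isPreimmersion.mpr ⟨inferInstance,
    H19Grp.isClosed_range_hom (H19Grp.grpHomToGrpd h) h.left.isLocallyClosed_range⟩

lemma exists_inter {k : Type u} [Field k] {G : Over (Spec (CommRingCat.of k))}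
    (P Q : ∀ S' : Over (Spec (CommRingCat.of k)), (S' ⟶ G) → Prop)
    (hP : ∃ (T : Over (Spec (CommRingCat.of k))) (t : T ⟶ G), IsClosedImmersion t.left ∧
      ∀ S' g, (∃ z : S' ⟶ T, z ≫ t = g) ↔ P S' g)
    (hQ : ∃ (T : Over (Spec (CommRingCat.of k))) (t : T ⟶ G), IsClosedImmersion t.left ∧
      ∀ S' g, (∃ z : S' ⟶ T, z ≫ t = g) ↔ Q S' g) :
    ∃ (T : Over (Spec (CommRingCat.of k))) (t : T ⟶ G), IsClosedImmersion t.left ∧
      ∀ S' g, (∃ z : S' ⟶ T, z ≫ t = g) ↔ P S' g ∧ Q S' g := by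
  obtain ⟨T₁, t₁, h₁, e₁⟩ := hP
  obtain ⟨T₂, t₂, h₂, e₂⟩ := hQ
  let T : Over (Spec (CommRingCat.of k)) :=
    Over.mk (Limits.pullback.fst t₁.left t₂.left ≫ t₁.left ≫ G.hom)
  let p₁ : T ⟶ T₁ := Over.homMk (Limits.pullback.fst t₁.left t₂.left)
    (congrArg (Limits.pullback.fst t₁.left t₂.left ≫ ·) (Over.w t₁).symm)
  let p₂ : T ⟶ T₂ := Over.homMk (Limits.pullback.snd t₁.left t₂.left) (by
    show _ = Limits.pullback.fst t₁.left t₂.left ≫ t₁.left ≫ G.hom
    rw [← Category.assoc, Limits.pullback.condition, Category.assoc, Over.w t₂])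
  have hp : p₂ ≫ t₂ = p₁ ≫ t₁ := Over.OverMorphism.ext Limits.pullback.condition.symm
  refine ⟨T, p₁ ≫ t₁, ?_, fun S' g => ⟨?_, ?_⟩⟩
  · show IsClosedImmersion (Limits.pullback.fst t₁.left t₂.left ≫ t₁.left)
    infer_instance
  · rintro ⟨z, rfl⟩
    exact ⟨(e₁ _ _).mp ⟨z ≫ p₁, Category.assoc _ _ _⟩,
      (e₂ _ _).mp ⟨z ≫ p₂, by rw [Category.assoc, hp]⟩⟩
  · rintro ⟨hp', hq'⟩
    obtain ⟨z₁, rfl⟩ := (e₁ _ _).mpr hp'
    obtain ⟨z₂, hz₂⟩ := (e₂ _ _).mpr hq'
    exact ⟨Over.homMk (Limits.pullback.lift z₁.left z₂.left (congrArg Over.Hom.left hz₂).symm)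
      ((Limits.pullback.lift_fst_assoc _ _ _ _).trans ((congrArg (z₁.left ≫ ·) (Over.w t₁)).trans (Over.w z₁))),
      Over.OverMorphism.ext (Limits.pullback.lift_fst_assoc _ _ _ _)⟩

lemma transporter {k : Type u} [Field k] {G Y Y' : Over (Spec (CommRingCat.of k))} [GrpObj G]
    (y : Y ⟶ G) [IsClosedImmersion y.left] (y' : Y' ⟶ G) :
    ∃ (T : Over (Spec (CommRingCat.of k))) (t : T ⟶ G), IsClosedImmersion t.left ∧
      ∀ (S' : Over (Spec (CommRingCat.of k))) (g : S' ⟶ G), (∃ z : S' ⟶ T, z ≫ t = g) ↔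
        ∀ (S'' : Over (Spec (CommRingCat.of k))) (s : S'' ⟶ S') (x : S'' ⟶ Y'),
          ∃ x' : S'' ⟶ Y, (s ≫ g) * (x ≫ y') * (s ≫ g)⁻¹ = x' ≫ y := by
  obtain ⟨T, t, ht, h⟩ :=
    H19Grp.exists_closed_forall_factor (fst G Y' * (snd G Y' ≫ y') * (fst G Y')⁻¹) y
  refine ⟨T, t, ht, fun S' g => (h S' g).trans
    (forall_congr' fun S'' => forall_congr' fun s => forall_congr' fun x => exists_congr fun x' => ?_)⟩
  simp [MonObj.comp_mul, GrpObj.comp_inv, eq_comm]

lemma transporter' {k : Type u} [Field k] {G Y Y' : Over (Spec (CommRingCat.of k))} [GrpObj G]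
    (y : Y ⟶ G) [IsClosedImmersion y.left] (y' : Y' ⟶ G) :
    ∃ (T : Over (Spec (CommRingCat.of k))) (t : T ⟶ G), IsClosedImmersion t.left ∧
      ∀ (S' : Over (Spec (CommRingCat.of k))) (g : S' ⟶ G), (∃ z : S' ⟶ T, z ≫ t = g) ↔
        ∀ (S'' : Over (Spec (CommRingCat.of k))) (s : S'' ⟶ S') (x : S'' ⟶ Y'),
          ∃ x' : S'' ⟶ Y, (s ≫ g)⁻¹ * (x ≫ y') * (s ≫ g) = x' ≫ y := by
  obtain ⟨T, t, ht, h⟩ :=
    H19Grp.exists_closed_forall_factor ((fst G Y')⁻¹ * (snd G Y' ≫ y') * fst G Y') y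
  refine ⟨T, t, ht, fun S' g => (h S' g).trans
    (forall_congr' fun S'' => forall_congr' fun s => forall_congr' fun x => exists_congr fun x' => ?_)⟩
  simp [MonObj.comp_mul, GrpObj.comp_inv, eq_comm]

/-- Let G be a group scheme over a field k, y' : Y' → G an immersion and y : Y → G a closed immersion.
(ii) The transporter of Y' into Y, whose points with values in S' are the g such that conjugation by
g carries every point of Y' (after any base change S'' → S') into Y, is represented by a closed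
subscheme of G; if y' is also a closed immersion, so is the strict transporter (g Y' g⁻¹ = Y
functorially). (iii) For every subgroup scheme h : H → G (a homomorphism which is an immersion), the
normalizer of H in G is represented by a closed subscheme of G. -/
theorem result (k : Type u) [Field k] (G Y Y' : Over (Spec (CommRingCat.of k))) [GrpObj G]
    (y : Y ⟶ G) [IsClosedImmersion y.left] (y' : Y' ⟶ G) [IsImmersion y'.left] :
    (∃ (T : Over (Spec (CommRingCat.of k))) (t : T ⟶ G), IsClosedImmersion t.left ∧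
      ∀ (S' : Over (Spec (CommRingCat.of k))) (g : S' ⟶ G), (∃ z : S' ⟶ T, z ≫ t = g) ↔
        ∀ (S'' : Over (Spec (CommRingCat.of k))) (s : S'' ⟶ S') (x : S'' ⟶ Y'),
          ∃ x' : S'' ⟶ Y, (s ≫ g) * (x ≫ y') * (s ≫ g)⁻¹ = x' ≫ y) ∧
    (IsClosedImmersion y'.left →
      ∃ (T : Over (Spec (CommRingCat.of k))) (t : T ⟶ G), IsClosedImmersion t.left ∧
      ∀ (S' : Over (Spec (CommRingCat.of k))) (g : S' ⟶ G), (∃ z : S' ⟶ T, z ≫ t = g) ↔
        ((∀ (S'' : Over (Spec (CommRingCat.of k))) (s : S'' ⟶ S') (x : S'' ⟶ Y'),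
          ∃ x' : S'' ⟶ Y, (s ≫ g) * (x ≫ y') * (s ≫ g)⁻¹ = x' ≫ y) ∧
        (∀ (S'' : Over (Spec (CommRingCat.of k))) (s : S'' ⟶ S') (x' : S'' ⟶ Y),
          ∃ x : S'' ⟶ Y', (s ≫ g)⁻¹ * (x' ≫ y) * (s ≫ g) = x ≫ y'))) ∧
    (∀ (H : Over (Spec (CommRingCat.of k))) [GrpObj H] (h : H ⟶ G) [IsMonHom h] [IsImmersion h.left],
      ∃ (N : Over (Spec (CommRingCat.of k))) (_ : GrpObj N) (n : N ⟶ G), IsClosedImmersion n.left ∧
        Red.IsNormalizerOf h n) := by
  refine ⟨transporter y y', fun hy' => ?_, fun H _ h _ _ => ?_⟩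
  · haveI := hy'
    exact exists_inter _ _ (transporter y y') (transporter' y' y)
  haveI := isClosedImmersion_subgroup h
  obtain ⟨N, n, hn, hN⟩ := exists_inter _ _ (transporter h h) (transporter' h h)
  haveI : Mono n.left := inferInstance
  haveI : Mono n := (Over.forget _).mono_of_mono_map (inferInstanceAs (Mono n.left))
  have hin : ∀ (T : Over (Spec (CommRingCat.of k))) (a : T ⟶ N), _ := fun T a => (hN T (a ≫ n)).mp ⟨a, rfl⟩
  have hex : ∃ _ : GrpObj N, IsMonHom n := by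
    refine H19Grp.exists_grpObj_of_closed n
      ((hN _ _).mpr ⟨fun S'' s x => ⟨x, by simp [MonObj.comp_one]⟩, fun S'' s x => ⟨x, by simp [MonObj.comp_one]⟩⟩)
      (fun T a b => (hN _ _).mpr ⟨fun S'' s x => ?_, fun S'' s x => ?_⟩)
      (fun T a => (hN _ _).mpr ⟨fun S'' s x => ?_, fun S'' s x => ?_⟩)
    · obtain ⟨x₁, h₁⟩ := (hin T b).1 S'' s x
      obtain ⟨x₂, h₂⟩ := (hin T a).1 S'' s x₁
      refine ⟨x₂, ?_⟩
      rw [← h₂, ← h₁, MonObj.comp_mul]
      group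
    · obtain ⟨x₁, h₁⟩ := (hin T a).2 S'' s x
      obtain ⟨x₂, h₂⟩ := (hin T b).2 S'' s x₁
      refine ⟨x₂, ?_⟩
      rw [← h₂, ← h₁, MonObj.comp_mul]
      group
    · obtain ⟨x₁, h₁⟩ := (hin T a).2 S'' s x
      refine ⟨x₁, ?_⟩
      rw [← h₁, GrpObj.comp_inv, _root_.inv_inv]
    · obtain ⟨x₁, h₁⟩ := (hin T a).1 S'' s x
      refine ⟨x₁, ?_⟩
      rw [← h₁, GrpObj.comp_inv, _root_.inv_inv]
  obtain ⟨inst, hinst⟩ := hex
  exact ⟨N, inst, n, hn, hinst, inferInstance, fun X g => (hN X g).trans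
      ⟨fun ⟨p, q⟩ X' x z => ⟨p X' x z, q X' x z⟩, fun H' => ⟨fun X' x z => (H' X' x z).1, fun X' x z => (H' X' x z).2⟩⟩⟩

end Groth.Agent.S5358
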