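import Groth.Statements.S5359
import Groth.Agent.H8Props.MonoEndo.Main

set_option autoImplicit false
set_option maxHeartbeats 1000000
set_option synthInstance.maxHeartbeats 100000
set_option linter.style.haveILetI false
set_option backward.isDefEq.respectTransparency false
universe u
open CategoryTheory CategoryTheory.Limits MonoidalCategory CartesianMonoidalCategory MonObj GrpObj AlgebraicGeometry
open SGA3

namespace Groth.Agent.S5359

open Limits in
/-- a monomorphism of a finitely presented scheme over any base to itself is an isomorphism -/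
theorem isIso_of_mono_over {P T : Scheme.{u}} (p : P ⟶ T) [LocallyOfFinitePresentation p] [QuasiCompact p]
    [QuasiSeparated p] (φ : P ⟶ P) (hφ : φ ≫ p = p) [Mono φ] : IsIso φ := by
  refine (IsZariskiLocalAtTarget.iff_of_openCover (P := MorphismProperty.isomorphisms Scheme.{u})
    (T.affineCover.pullback₁ p)).mpr fun j => ?_
  let f := T.affineCover.f j
  change IsIso (pullback.snd φ (pullback.fst p f))
  let ψ : pullback p f ⟶ pullback p f := pullback.lift (pullback.fst p f ≫ φ) (pullback.snd p f)
    (by rw [Category.assoc, hφ, pullback.condition])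
  have h : IsPullback (pullback.fst p f) ψ φ (pullback.fst p f) := by
    refine IsPullback.of_bot ?_ (pullback.lift_fst _ _ _).symm (IsPullback.of_hasPullback p f)
    rw [pullback.lift_snd, hφ]
    exact IsPullback.of_hasPullback p f
  have hψs : ψ ≫ pullback.snd p f = pullback.snd p f := pullback.lift_snd _ _ _
  haveI : Mono ψ := ⟨fun a b hab => pullback.hom_ext
    ((cancel_mono φ).mp (by
      have := congrArg (· ≫ pullback.fst p f) hab
      simpa only [Category.assoc, ψ, pullback.lift_fst] using this))
    (by
      have := congrArg (· ≫ pullback.snd p f) hab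
      simpa only [Category.assoc, hψs] using this)⟩
  haveI : LocallyOfFinitePresentation (pullback.snd p f ≫ (T.affineCover.X j).isoSpec.hom) :=
    MorphismProperty.comp_mem _ _ _ (MorphismProperty.pullback_snd (P := @LocallyOfFinitePresentation) _ _ ‹_›) inferInstance
  haveI : IsIso ψ := Groth.Agent.H8Props.MonoEndo.isIso_of_mono_affine
    (pullback.snd p f ≫ (T.affineCover.X j).isoSpec.hom) ψ (by rw [reassoc_of% hψs])
  rw [← h.isoPullback_inv_snd]
  infer_instance


/-- Let G be an S-group scheme and u : X → G a monomorphism of S-schemes with X of finite presentation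
over S. If a point g : T → G is such that, for every T' → T and every point x of X with values in
T', the conjugate g x g⁻¹ is again a point of X, then the same holds for g⁻¹: the transporter of X
into X coincides with the strict transporter (the normalizer of X). -/
theorem result (S : Scheme.{u}) (G X : Over S) [GrpObj G] (u : X ⟶ G) [Mono u]
    [LocallyOfFinitePresentation X.hom] [QuasiCompact X.hom] [QuasiSeparated X.hom]
    (T : Over S) (g : T ⟶ G)
    (hg : ∀ (T' : Over S) (t : T' ⟶ T) (x : T' ⟶ X), ∃ x' : T' ⟶ X, (t ≫ g) * (x ≫ u) * (t ≫ g)⁻¹ = x' ≫ u) :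
    ∀ (T' : Over S) (t : T' ⟶ T) (x : T' ⟶ X), ∃ x' : T' ⟶ X, (t ≫ g)⁻¹ * (x ≫ u) * (t ≫ g) = x' ≫ u := by
  intro T' t x
  obtain ⟨x', hx'⟩ := hg (X ⊗ T) (snd X T) (fst X T)
  let φ : X ⊗ T ⟶ X ⊗ T := lift x' (snd X T)
  have hφ : φ ≫ snd X T = snd X T := lift_snd _ _
  have hmul : ∀ {A : Over S} (a : A ⟶ X ⊗ T),
      (a ≫ φ ≫ fst X T) ≫ u = ((a ≫ snd X T) ≫ g) * ((a ≫ fst X T) ≫ u) * ((a ≫ snd X T) ≫ g)⁻¹ := by
    intro A a
    rw [lift_fst, Category.assoc, ← hx', MonObj.comp_mul, MonObj.comp_mul, GrpObj.comp_inv,
      Category.assoc, Category.assoc]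
  haveI : Mono φ := ⟨fun a b hab => by
    have h2 : a ≫ snd X T = b ≫ snd X T := by
      have := congrArg (· ≫ snd X T) hab
      simpa only [Category.assoc, hφ] using this
    refine CartesianMonoidalCategory.hom_ext _ _ ?_ h2
    apply (cancel_mono u).mp
    have h1 := hmul a
    rw [reassoc_of% hab, hmul b, h2] at h1
    exact (mul_left_cancel (mul_right_cancel h1)).symm⟩
  haveI : Mono φ.left := inferInstance
  haveI : LocallyOfFinitePresentation (snd X T).left :=
    inferInstanceAs (LocallyOfFinitePresentation (Limits.pullback.snd X.hom T.hom))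
  haveI : QuasiCompact (snd X T).left := inferInstanceAs (QuasiCompact (Limits.pullback.snd X.hom T.hom))
  haveI : QuasiSeparated (snd X T).left := inferInstanceAs (QuasiSeparated (Limits.pullback.snd X.hom T.hom))
  haveI : IsIso φ.left := isIso_of_mono_over (snd X T).left φ.left (by rw [← Over.comp_left, hφ])
  haveI : IsIso ((Over.forget S).map φ) := ‹IsIso φ.left›
  haveI : IsIso φ := isIso_of_reflects_iso φ (Over.forget S)
  let z := lift x t ≫ inv φ
  have hz : z ≫ snd X T = t := by
    rw [Category.assoc, show inv φ ≫ snd X T = snd X T by rw [IsIso.inv_comp_eq, hφ], lift_snd]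
  refine ⟨z ≫ fst X T, ?_⟩
  have h1 := hmul z
  rw [hz, Category.assoc (lift x t), IsIso.inv_hom_id_assoc, lift_fst] at h1
  rw [h1]
  simp only [_root_.mul_assoc, inv_mul_cancel, _root_.mul_one, inv_mul_cancel_left]

end Groth.Agent.S5359
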