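import Groth.Statements.S5360
import Groth.Agent.S2732
-- import your own Groth.Agent.* helpers here

set_option autoImplicit false
universe u
open CategoryTheory CategoryTheory.Limits MonoidalCategory CartesianMonoidalCategory MonObj GrpObj AlgebraicGeometry
open SGA3

namespace Groth.Agent.S5360

theorem exists_leftDiv {S : Scheme.{u}} (G : Over S)
    [LocallyOfFinitePresentation G.hom] [QuasiCompact G.hom] [QuasiSeparated G.hom] (m : G ⊗ G ⟶ G)
    (hl : ∀ (T : Over S) (g : T ⟶ G), Function.Injective (fun x : T ⟶ G => lift g x ≫ m))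
    {T : Over S} (g y : T ⟶ G) : ∃ x : T ⟶ G, lift g x ≫ m = y := by
  let φ : T ⊗ G ⟶ T ⊗ G := lift (fst T G) (lift (fst T G ≫ g) (snd T G) ≫ m)
  haveI : Mono φ := ⟨fun {Z} a b h => by
    have h1 : a ≫ fst T G = b ≫ fst T G := by simpa [φ] using congrArg (· ≫ fst T G) h
    have h2 := congrArg (· ≫ snd T G) h
    simp only [φ, Category.assoc, lift_snd, comp_lift_assoc] at h2
    refine CartesianMonoidalCategory.hom_ext _ _ h1 (hl Z (a ≫ fst T G ≫ g) ?_)
    show lift _ (a ≫ snd T G) ≫ m = lift _ (b ≫ snd T G) ≫ m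
    rw [h2, reassoc_of% h1]⟩
  haveI : Mono φ.left := CategoryTheory.Over.mono_left_of_mono φ
  let f : (T ⊗ G).left ⟶ T.left := (fst T G).left
  haveI : LocallyOfFinitePresentation f :=
    inferInstanceAs (LocallyOfFinitePresentation (pullback.fst T.hom G.hom))
  haveI : QuasiCompact f := inferInstanceAs (QuasiCompact (pullback.fst T.hom G.hom))
  haveI : QuasiSeparated f := inferInstanceAs (QuasiSeparated (pullback.fst T.hom G.hom))
  haveI : IsIso φ.left := Groth.Agent.S2732.result f φ.left
    (by simp only [f, ← Over.comp_left, φ, lift_fst])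
  haveI : IsIso ((CategoryTheory.Over.forget S).map φ) := ‹IsIso φ.left›
  haveI : IsIso φ := isIso_of_reflects_iso φ (CategoryTheory.Over.forget S)
  refine ⟨lift (𝟙 T) y ≫ inv φ ≫ snd T G, ?_⟩
  have hz : (lift (𝟙 T) y ≫ inv φ) ≫ φ = lift (𝟙 T) y := by simp
  have h1 : lift (𝟙 T) y ≫ inv φ ≫ fst T G = 𝟙 T := by
    simpa [φ] using congrArg (· ≫ fst T G) hz
  have h2 := congrArg (· ≫ snd T G) hz
  simp only [φ, Category.assoc, lift_snd, comp_lift_assoc] at h2
  rw [reassoc_of% h1] at h2
  exact h2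

/-- Let G be an S-scheme of finite presentation over S with an associative composition law m : G ×_S G →
G such that for every S-scheme S' and every point g of G with values in S' the left and right
translations by g are injective on G(S'), and such that G has an S-point. Then G is an S-group
scheme: there is a group object structure on G over S whose multiplication is m. -/
theorem result (S : Scheme.{u}) (G : Over S)
    [LocallyOfFinitePresentation G.hom] [QuasiCompact G.hom] [QuasiSeparated G.hom]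
    (m : G ⊗ G ⟶ G) (hassoc : (m ▷ G) ≫ m = (α_ G G G).hom ≫ (G ◁ m) ≫ m)
    (hl : ∀ (T : Over S) (g : T ⟶ G), Function.Injective (fun x : T ⟶ G => lift g x ≫ m))
    (hr : ∀ (T : Over S) (g : T ⟶ G), Function.Injective (fun x : T ⟶ G => lift x g ≫ m))
    (e : 𝟙_ (Over S) ⟶ G) :
    ∃ inst : GrpObj G, inst.mul = m := by
  have assoc' : ∀ {T : Over S} (a b c : T ⟶ G),
      lift (lift a b ≫ m) c ≫ m = lift a (lift b c ≫ m) ≫ m := fun a b c => by
    have h := congrArg (lift (lift a b) c ≫ ·) hassoc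
    simpa using h
  obtain ⟨one, hone⟩ := exists_leftDiv G m hl e e
  have hone' : ∀ (T : Over S), lift (toUnit T ≫ e) (toUnit T ≫ one) ≫ m = toUnit T ≫ e := fun T => by
    rw [← comp_lift, Category.assoc, hone]
  have h1x : ∀ {T : Over S} (x : T ⟶ G), lift (toUnit T ≫ one) x ≫ m = x := fun {T} x => by
    apply hl T (toUnit T ≫ e)
    show lift _ (lift _ x ≫ m) ≫ m = lift _ x ≫ m
    rw [← assoc', hone']
  have hx1 : ∀ {T : Over S} (x : T ⟶ G), lift x (toUnit T ≫ one) ≫ m = x := fun {T} x => by
    apply hr T x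
    show lift (lift x _ ≫ m) x ≫ m = lift x x ≫ m
    rw [assoc', h1x]
  obtain ⟨i, hi⟩ := exists_leftDiv G m hl (𝟙 G) (toUnit G ≫ one)
  refine ⟨{ one := one, mul := m, inv := i, mul_assoc := hassoc, one_mul := ?_, mul_one := ?_,
            left_inv := ?_, right_inv := hi }, rfl⟩
  · have e1 : one ▷ G = lift (toUnit _ ≫ one) (λ_ G).hom := by
      apply CartesianMonoidalCategory.hom_ext <;> simp [leftUnitor_hom]
      rw [toUnit_unique (fst (𝟙_ (Over S)) G) (toUnit _)]
    rw [e1, h1x]
  · have e1 : G ◁ one = lift (ρ_ G).hom (toUnit _ ≫ one) := by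
      apply CartesianMonoidalCategory.hom_ext <;> simp [rightUnitor_hom]
      rw [toUnit_unique (snd G (𝟙_ (Over S))) (toUnit _)]
    rw [e1, hx1]
  · apply hl G (𝟙 G)
    show lift (𝟙 G) (lift i (𝟙 G) ≫ m) ≫ m = lift (𝟙 G) (toUnit G ≫ one) ≫ m
    rw [← assoc', hi, h1x, hx1]

end Groth.Agent.S5360
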