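import Groth.Statements.S5362
import Groth.Agent.H06GenSub.Points
import Groth.Agent.H19Grp.ImageGroup
import Groth.Agent.H19Grp.AffineQuotient

set_option autoImplicit false
universe u
open CategoryTheory CategoryTheory.Limits MonoidalCategory CartesianMonoidalCategory MonObj GrpObj AlgebraicGeometry
open SGA3

namespace Groth.Agent.S5362

open Groth.Agent.H06GenSub

set_option maxHeartbeats 1000000
set_option backward.isDefEq.respectTransparency false

variable {S : Scheme.{u}}

/-- The two letters. -/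
def pairObj (A B : Over S) : ULift.{u} Bool → Over S
  | ⟨true⟩ => A
  | ⟨false⟩ => B

/-- The two morphisms. -/
def pairHom {G A B : Over S} (a : A ⟶ G) (b : B ⟶ G) : ∀ j, pairObj A B j ⟶ G
  | ⟨true⟩ => a
  | ⟨false⟩ => b

theorem isWord_pair_eq {G A B : Over S} [GrpObj G] [GrpObj A] [GrpObj B] (a : A ⟶ G) [IsMonHom a] (b : B ⟶ G)
    [IsMonHom b] (hN : ∀ (T : Over S) (y : T ⟶ B) (x : T ⟶ A), ∃ x' : T ⟶ A, (y ≫ b) * (x ≫ a) * (y ≫ b)⁻¹ = x' ≫ a) :
    ∀ (l : List (ULift.{u} Bool × Bool)) (T : Over S) (v : T ⟶ wordSrc (pairObj A B) l),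
      ∃ (x : T ⟶ A) (y : T ⟶ B), v ≫ word (pairHom a b) l = (x ≫ a) * (y ≫ b) := by
  intro l
  induction l with
  | nil =>
    intro T v
    refine ⟨1, 1, ?_⟩
    rw [MonObj.one_comp, MonObj.one_comp, _root_.mul_one]
    exact MonObj.comp_one v
  | cons p l ih =>
    intro T v
    obtain ⟨x, y, hxy⟩ := ih T (v ≫ snd _ _)
    rw [comp_word_cons (pairHom a b) p l v, hxy]
    obtain ⟨⟨j⟩, s⟩ := p
    cases j with
    | true =>
      let z : T ⟶ A := v ≫ fst A (wordSrc (pairObj A B) l)
      refine ⟨(if s then z else z⁻¹) * x, y, ?_⟩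
      show sgn s (z ≫ a) * ((x ≫ a) * (y ≫ b)) = _
      rw [MonObj.mul_comp, ← _root_.mul_assoc]
      cases s <;> simp [sgn, GrpObj.inv_comp]
    | false =>
      let z : T ⟶ B := v ≫ fst B (wordSrc (pairObj A B) l)
      let w : T ⟶ B := if s then z else z⁻¹
      obtain ⟨x', hx'⟩ := hN T w x
      refine ⟨x', w * y, ?_⟩
      show sgn s (z ≫ b) * ((x ≫ a) * (y ≫ b)) = _
      rw [← hx', show sgn s (z ≫ b) = w ≫ b by cases s <;> simp [sgn, w, GrpObj.inv_comp], MonObj.mul_comp]
      group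

/-- Let G be a group scheme locally of finite type over a field k, and a : A → G, b : B → G two closed
subgroup schemes which are smooth and of finite type over k, such that B normalizes A (conjugating a
point of A by a point of B gives a point of A). Let i : Γ → G be the smallest closed subgroup scheme
of G through which both a and b factor. Then Γ is reduced and its underlying set is A·B, the image
of A ×_k B under (x, y) ↦ a(x) b(y). -/
theorem result (k : Type u) [Field k] (G A B : Over (Spec (CommRingCat.of k))) [GrpObj G] [GrpObj A] [GrpObj B]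
    [LocallyOfFiniteType G.hom] (a : A ⟶ G) [IsMonHom a] [IsClosedImmersion a.left] (b : B ⟶ G) [IsMonHom b]
    [IsClosedImmersion b.left] [Smooth A.hom] [QuasiCompact A.hom] [Smooth B.hom] [QuasiCompact B.hom]
    (hN : ∀ (T : Over (Spec (CommRingCat.of k))) (y : T ⟶ B) (x : T ⟶ A), ∃ x' : T ⟶ A, (y ≫ b) * (x ≫ a) * (y ≫ b)⁻¹ = x' ≫ a)
    (Γ : Over (Spec (CommRingCat.of k))) [GrpObj Γ] (i : Γ ⟶ G) [IsMonHom i] [IsClosedImmersion i.left]
    (ha : ∃ a' : A ⟶ Γ, a' ≫ i = a) (hb : ∃ b' : B ⟶ Γ, b' ≫ i = b)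
    (hmin : ∀ (Γ' : Over (Spec (CommRingCat.of k))) (_ : GrpObj Γ') (i' : Γ' ⟶ G), IsMonHom i' → IsClosedImmersion i'.left →
        (∃ a'' : A ⟶ Γ', a'' ≫ i' = a) → (∃ b'' : B ⟶ Γ', b'' ≫ i' = b) → ∃ j : Γ ⟶ Γ', j ≫ i' = i) :
    IsReduced Γ.left ∧ Set.range i.left.base = Set.range ((a ⊗ₘ b) ≫ μ[G]).left.base := by
  let fs := pairHom a b
  haveI : ∀ j, GeometricallyReduced (pairObj A B j).hom := by
    rintro ⟨_ | _⟩
    · exact H19Grp.geometricallyReduced_of_smooth B.hom
    · exact H19Grp.geometricallyReduced_of_smooth A.hom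
  obtain ⟨e, he⟩ := range_smallest fs i (by rintro ⟨_ | _⟩ <;> assumption)
    fun Γ₁ h₁ i₁ hm hc hfac => hmin Γ₁ h₁ i₁ hm hc (hfac ⟨true⟩) (hfac ⟨false⟩)
  haveI := isReduced_gen fs
  refine ⟨isReduced_of_iso e.symm, ?_⟩
  let m : A ⊗ B ⟶ G := (fst A B ≫ a) * (snd A B ≫ b)
  have hm : (a ⊗ₘ b) ≫ μ[G] = m := by
    simp only [m, Hom.mul_def]
    congr 1
  have hmw : IsWord fs m :=
    isWord_mul (isWord_gen (f := fs) (j := ⟨true⟩) (fst A B)) (isWord_gen (f := fs) (j := ⟨false⟩) (snd A B))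
  have hws : wordSet fs = Set.range m.left := by
    refine (Set.iUnion_subset fun l => ?_).antisymm (range_subset_wordSet hmw)
    obtain ⟨x, y, hxy⟩ := isWord_pair_eq a b hN l _ (𝟙 _)
    rw [Category.id_comp] at hxy
    rw [hxy, show (x ≫ a) * (y ≫ b) = lift x y ≫ m by
      simp only [m, MonObj.comp_mul, lift_fst_assoc, lift_snd_assoc], Over.comp_left]
    rintro _ ⟨t, rfl⟩
    exact ⟨(lift x y).left t, (Scheme.Hom.comp_apply _ _ _).symm⟩
  obtain ⟨m0, hm0⟩ := factor_gen_of_isWord fs hmw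
  have hr : Set.range i.left.base = Set.range (genι fs).left := by
    rw [← he, Over.comp_left, Scheme.Hom.comp_base, TopCat.coe_comp, Set.range_comp]
    have hs : Set.range e.hom.left = Set.univ := Set.eq_univ_of_forall fun y =>
      ⟨e.inv.left y, by rw [← Scheme.Hom.comp_apply, ← Over.comp_left, e.inv_hom_id]; rfl⟩
    exact (congrArg _ hs).trans Set.image_univ
  rw [hm, hr]
  suffices hsurj : Set.range m0.left = Set.univ by
    rw [← hm0, Over.comp_left, Scheme.Hom.comp_base, TopCat.coe_comp, Set.range_comp]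
    exact (Set.image_univ.symm.trans (congrArg _ hsurj.symm))
  haveI : LocallyOfFiniteType (gen fs).hom :=
    inferInstanceAs (LocallyOfFiniteType ((genIdeal fs).subschemeι ≫ G.hom))
  haveI : IsSeparated G.hom := H19Grp.AffineQuotient.isSeparated_of_grp G
  haveI : IsSeparated (gen fs).hom := inferInstanceAs (IsSeparated ((genIdeal fs).subschemeι ≫ G.hom))
  haveI : QuasiCompact (A ⊗ B).hom :=
    inferInstanceAs (QuasiCompact (CategoryTheory.Limits.pullback.fst A.hom B.hom ≫ A.hom))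
  haveI : LocallyOfFiniteType (A ⊗ B).hom :=
    inferInstanceAs (LocallyOfFiniteType (CategoryTheory.Limits.pullback.fst A.hom B.hom ≫ A.hom))
  haveI : QuasiCompact m0.left := by
    haveI : QuasiCompact (m0.left ≫ (gen fs).hom) := by rw [Over.w m0]; infer_instance
    exact .of_comp m0.left (gen fs).hom
  haveI : LocallyOfFiniteType m0.left := by
    haveI : LocallyOfFiniteType (m0.left ≫ (gen fs).hom) := by rw [Over.w m0]; infer_instance
    exact locallyOfFiniteType_of_comp m0.left (gen fs).hom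
  haveI : IsLocallyNoetherian (gen fs).left := LocallyOfFiniteType.isLocallyNoetherian (gen fs).hom
  haveI : LocallyOfFinitePresentation m0.left := inferInstance
  have hd : Dense (Set.range m0.left) := by
    intro x
    rw [(genι fs).left.isClosedEmbedding.isEmbedding.closure_eq_preimage_closure_image, Set.mem_preimage,
      ← Set.range_comp, show (genι fs).left ∘ m0.left = m.left by rw [← hm0, Over.comp_left]; rfl, ← hws]
    exact (range_genι fs).le ⟨x, rfl⟩
  have hc : Topology.IsLocallyConstructible (Set.range m0.left) := by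
    rw [← Set.image_univ]
    exact m0.left.isLocallyConstructible_image
      (IsRetrocompact.univ.isLocallyConstructible isOpen_univ)
  have hU := dense_interior_of_isLocallyConstructible hc hd
  obtain ⟨instg, hιg⟩ := exists_grpObj_gen fs
  letI := instg
  haveI := hιg
  refine Set.eq_univ_of_forall fun p => ?_
  obtain ⟨Z, z, u, v, hu, hv, huv⟩ := exists_eq_inv_mul ⟨interior _, isOpen_interior⟩ hU p
  obtain ⟨Z₁, q₁, z₁, x₁, hz₁, hx₁⟩ := exists_lift_point u z m0 (interior_subset hu)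
  obtain ⟨Z₂, q₂, z₂, x₂, hz₂, hx₂⟩ := exists_lift_point (q₁ ≫ v) z₁ m0 (by
    rw [Over.comp_left, Scheme.Hom.comp_apply, hz₁]; exact interior_subset hv)
  have hword : IsWord fs ((q₂ ≫ q₁ ≫ (u⁻¹ * v)) ≫ genι fs) := by
    rw [MonObj.comp_mul, MonObj.comp_mul, ← hx₂, GrpObj.comp_inv, ← hx₁, GrpObj.comp_inv, MonObj.mul_comp,
      GrpObj.inv_comp, Category.assoc, Category.assoc, Category.assoc, hm0]
    exact isWord_mul (isWord_inv (isWord_comp q₂ (isWord_comp x₁ hmw))) (isWord_comp x₂ hmw)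
  have hp : (q₂ ≫ q₁ ≫ (u⁻¹ * v)).left z₂ = p := by
    rw [Over.comp_left, Scheme.Hom.comp_apply, hz₂, Over.comp_left, Scheme.Hom.comp_apply, hz₁, huv]
  obtain ⟨w, hw⟩ := hws.le (range_subset_wordSet hword ⟨z₂, rfl⟩)
  refine ⟨w, (genι fs).left.isClosedEmbedding.injective ?_⟩
  rw [← Scheme.Hom.comp_apply, ← Over.comp_left, hm0, hw, Over.comp_left, Scheme.Hom.comp_apply, hp]

end Groth.Agent.S5362
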