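import Groth.Statements.S5363
import Groth.Agent.H19Grp.Transporter
import Groth.Agent.H19Grp.PointsEq

set_option autoImplicit false
set_option linter.style.haveILetI false
set_option backward.isDefEq.respectTransparency false
universe u
open CategoryTheory CategoryTheory.Limits MonoidalCategory CartesianMonoidalCategory MonObj GrpObj AlgebraicGeometry
open SGA3

namespace Groth.Agent.S5363

/-- Let G be a group scheme over a field k and g a k-rational point of G. Then the smallest closed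
subgroup scheme Γ of G through which g factors (the closed subgroup generated by g) is commutative. -/
theorem result (k : Type u) [Field k] (G : Over (Spec (CommRingCat.of k))) [GrpObj G]
    (g : 𝟙_ (Over (Spec (CommRingCat.of k))) ⟶ G) (Γ : Over (Spec (CommRingCat.of k))) [GrpObj Γ] (i : Γ ⟶ G) [IsMonHom i] [IsClosedImmersion i.left]
    (hf : ∃ f' : 𝟙_ (Over (Spec (CommRingCat.of k))) ⟶ Γ, f' ≫ i = g)
    (hmin : ∀ (Γ' : Over (Spec (CommRingCat.of k))) (_ : GrpObj Γ') (i' : Γ' ⟶ G), IsMonHom i' → IsClosedImmersion i'.left →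
        (∃ f'' : 𝟙_ (Over (Spec (CommRingCat.of k))) ⟶ Γ', f'' ≫ i' = g) → ∃ j : Γ ⟶ Γ', j ≫ i' = i) :
    IsCommMonObj Γ := by
  haveI : Mono i := (Over.forget _).mono_of_mono_map (inferInstanceAs (Mono i.left))
  obtain ⟨f', hf'⟩ := hf
  haveI : IsSeparated Γ.hom := Groth.Agent.H19Grp.PointsDense.isSeparated_grp Γ
  haveI : IsClosedImmersion (η[Γ]).left := (Groth.Agent.H19Grp.isSeparated_iff_isClosedImmersion_one Γ).mp ‹_›
  -- a closed subgroup of `Γ` containing the generator is everything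
  have hclosed : ∀ (T : Over (Spec (CommRingCat.of k))) (t : T ⟶ Γ) (_ : IsClosedImmersion t.left)
      (P : ∀ {X : Over (Spec (CommRingCat.of k))}, (X ⟶ Γ) → Prop),
      (∀ (X : Over (Spec (CommRingCat.of k))) (a : X ⟶ Γ), (∃ z : X ⟶ T, z ≫ t = a) ↔ P a) →
      P (1 : 𝟙_ (Over (Spec (CommRingCat.of k))) ⟶ Γ) →
      (∀ (X : Over (Spec (CommRingCat.of k))) (a b : X ⟶ Γ), P a → P b → P (a * b)) →
      (∀ (X : Over (Spec (CommRingCat.of k))) (a : X ⟶ Γ), P a → P a⁻¹) → P f' →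
      ∀ (X : Over (Spec (CommRingCat.of k))) (a : X ⟶ Γ), P a := by
    intro T t ht P hP h1 hm hi hg X a
    haveI : Mono t := (Over.forget _).mono_of_mono_map (inferInstanceAs (Mono t.left))
    obtain ⟨_, htm⟩ := Groth.Agent.H19Grp.exists_grpObj_of_closed t ((hP _ _).2 h1)
      (fun X a b => (hP _ _).2 (hm X _ _ ((hP _ _).1 ⟨a, rfl⟩) ((hP _ _).1 ⟨b, rfl⟩)))
      (fun X a => (hP _ _).2 (hi X _ ((hP _ _).1 ⟨a, rfl⟩)))
    obtain ⟨z, hz⟩ := (hP _ f').2 hg
    haveI := htm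
    haveI : IsClosedImmersion (t ≫ i).left := by
      rw [Over.comp_left]; infer_instance
    obtain ⟨j, hj⟩ := hmin T inferInstance (t ≫ i) inferInstance inferInstance
      ⟨z, by rw [← Category.assoc, hz, hf']⟩
    refine (hP X a).1 ⟨a ≫ j, ?_⟩
    rw [← cancel_mono i, Category.assoc, Category.assoc, hj]
  -- commutation is a closed condition
  let gΓ : (X : Over (Spec (CommRingCat.of k))) → (X ⟶ Γ) := fun X => toUnit X ≫ f'
  have hiff : ∀ {X : Over (Spec (CommRingCat.of k))} (a b : X ⟶ Γ),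
      (∃ x' : X ⟶ 𝟙_ (Over (Spec (CommRingCat.of k))), x' ≫ η[Γ] = a * b * (b * a)⁻¹) ↔ a * b = b * a := fun {X} a b => by
    constructor
    · rintro ⟨x', hx⟩
      rw [← mul_inv_eq_one, ← hx, Hom.one_def, Subsingleton.elim x' (toUnit X)]
    · intro h
      exact ⟨toUnit X, by rw [h, mul_inv_cancel, Hom.one_def]⟩
  have hgnat : ∀ {X Y : Over (Spec (CommRingCat.of k))} (s : Y ⟶ X), s ≫ gΓ X = gΓ Y := fun s => by
    show s ≫ toUnit _ ≫ f' = _
    rw [← Category.assoc, Subsingleton.elim (s ≫ toUnit _) (toUnit _)]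
  have hcentral : ∀ (X : Over (Spec (CommRingCat.of k))) (a : X ⟶ Γ), a * gΓ X = gΓ X * a := by
    obtain ⟨T, t, ht, hT⟩ := Groth.Agent.H19Grp.exists_closed_forall_factor
      (G := Γ) (X := 𝟙_ (Over (Spec (CommRingCat.of k))))
      (fst Γ _ * gΓ _ * (gΓ _ * fst Γ _)⁻¹) η[Γ]
    refine hclosed T t ht (fun {X} a => a * gΓ X = gΓ X * a) (fun X a => (hT X a).trans ⟨fun h => ?_, fun h Y s x => ?_⟩)
      ?_ ?_ ?_ ?_
    · obtain ⟨x', hx⟩ := h X (𝟙 X) (toUnit X)
      rw [MonObj.comp_mul, GrpObj.comp_inv, MonObj.comp_mul, MonObj.comp_mul, hgnat, lift_fst, Category.id_comp] at hx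
      exact (hiff _ _).1 ⟨x', hx⟩
    · obtain ⟨x', hx⟩ := (hiff (s ≫ a) (gΓ Y)).2 (by rw [← hgnat s, ← MonObj.comp_mul, h, MonObj.comp_mul])
      exact ⟨x', by rw [MonObj.comp_mul, GrpObj.comp_inv, MonObj.comp_mul, MonObj.comp_mul, hgnat, lift_fst]; exact hx⟩
    · rw [_root_.one_mul, _root_.mul_one]
    · exact fun X a b (ha : a * gΓ X = gΓ X * a) (hb : b * gΓ X = gΓ X * b) => by
        show a * b * gΓ X = gΓ X * (a * b)
        rw [_root_.mul_assoc, hb, ← _root_.mul_assoc, ha, _root_.mul_assoc]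
    · exact fun X a (ha : a * gΓ X = gΓ X * a) => (Commute.inv_left ha : Commute a⁻¹ (gΓ X))
    · show f' * gΓ _ = gΓ _ * f'
      have : gΓ (𝟙_ (Over (Spec (CommRingCat.of k)))) = f' := by
        show toUnit _ ≫ f' = f'
        rw [Subsingleton.elim (toUnit (𝟙_ (Over (Spec (CommRingCat.of k))))) (𝟙 _), Category.id_comp]
      rw [this]
  have hcomm : ∀ (X : Over (Spec (CommRingCat.of k))) (a : X ⟶ Γ) (Y : Over (Spec (CommRingCat.of k))) (s : Y ⟶ X)
      (x : Y ⟶ Γ), (s ≫ a) * x = x * (s ≫ a) := by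
    obtain ⟨T, t, ht, hT⟩ := Groth.Agent.H19Grp.exists_closed_forall_factor (G := Γ) (X := Γ)
      (fst Γ Γ * snd Γ Γ * (snd Γ Γ * fst Γ Γ)⁻¹) η[Γ]
    refine hclosed T t ht (fun {X} a => ∀ (Y : Over (Spec (CommRingCat.of k))) (s : Y ⟶ X) (x : Y ⟶ Γ),
      (s ≫ a) * x = x * (s ≫ a)) (fun X a => (hT X a).trans ⟨fun h Y s x => ?_, fun h Y s x => ?_⟩) ?_ ?_ ?_ ?_
    · obtain ⟨x', hx⟩ := h Y s x
      rw [MonObj.comp_mul, GrpObj.comp_inv, MonObj.comp_mul, MonObj.comp_mul, lift_fst, lift_snd] at hx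
      exact (hiff _ _).1 ⟨x', hx⟩
    · obtain ⟨x', hx⟩ := (hiff (s ≫ a) x).2 (h Y s x)
      exact ⟨x', by rw [MonObj.comp_mul, GrpObj.comp_inv, MonObj.comp_mul, MonObj.comp_mul, lift_fst, lift_snd]; exact hx⟩
    · intro Y s x
      rw [MonObj.comp_one, _root_.one_mul, _root_.mul_one]
    · intro X a b ha hb Y s x
      rw [MonObj.comp_mul, _root_.mul_assoc, hb Y s x, ← _root_.mul_assoc, ha Y s x, _root_.mul_assoc]
    · intro X a ha Y s x
      rw [GrpObj.comp_inv]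
      exact (Commute.inv_left (ha Y s x) : Commute (s ≫ a)⁻¹ x)
    · intro Y s x
      rw [Subsingleton.elim s (toUnit Y)]
      exact (hcentral Y x).symm
  refine ⟨?_⟩
  have h := hcomm (Γ ⊗ Γ) (fst Γ Γ) (Γ ⊗ Γ) (𝟙 _) (snd Γ Γ)
  rw [Category.id_comp] at h
  calc (β_ Γ Γ).hom ≫ μ[Γ] = (β_ Γ Γ).hom ≫ (fst Γ Γ * snd Γ Γ) := by rw [← MonObj.mul_eq_mul]
    _ = snd Γ Γ * fst Γ Γ := by rw [MonObj.comp_mul, braiding_hom_fst, braiding_hom_snd]
    _ = μ[Γ] := by rw [← h, ← MonObj.mul_eq_mul]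

end Groth.Agent.S5363
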