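import Groth.Statements.S5364
import Groth.Agent.H19Grp.Transporter

set_option autoImplicit false
set_option maxHeartbeats 1000000
set_option synthInstance.maxHeartbeats 100000
set_option linter.style.haveILetI false
set_option backward.isDefEq.respectTransparency false
universe u
open CategoryTheory CategoryTheory.Limits MonoidalCategory CartesianMonoidalCategory MonObj GrpObj AlgebraicGeometry
open SGA3

namespace Groth.Agent.S5364

open Groth.Agent


/-- Let G be a group scheme over a field k and a : A → G, b : B → G two closed subgroup schemes which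
are geometrically reduced over k and normal in G. Let i : Γ → G be the commutator subgroup scheme
(A, B): the smallest closed subgroup scheme of G through which the morphism A ×_k B → G, (x, y) ↦
a(x) b(y) a(x)⁻¹ b(y)⁻¹, factors. Then Γ is normal in G. (The published statement also covers
characteristic subgroups; this row states the case of normal subgroups only.) -/
theorem result (k : Type u) [Field k] (G A B : Over (Spec (CommRingCat.of k))) [GrpObj G] [GrpObj A] [GrpObj B]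
    (a : A ⟶ G) [IsMonHom a] [IsClosedImmersion a.left] (b : B ⟶ G) [IsMonHom b] [IsClosedImmersion b.left]
    [GeometricallyReduced A.hom] [GeometricallyReduced B.hom] (hA : AlgGrp.IsNormalHom a) (hB : AlgGrp.IsNormalHom b)
    (Γ : Over (Spec (CommRingCat.of k))) [GrpObj Γ] (i : Γ ⟶ G) [IsMonHom i] [IsClosedImmersion i.left]
    (hf : ∃ f' : A ⊗ B ⟶ Γ, f' ≫ i = (((fst A B) ≫ a) * ((snd A B) ≫ b) * ((fst A B) ≫ a)⁻¹ * ((snd A B) ≫ b)⁻¹))
    (hmin : ∀ (Γ' : Over (Spec (CommRingCat.of k))) (_ : GrpObj Γ') (i' : Γ' ⟶ G), IsMonHom i' → IsClosedImmersion i'.left →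
        (∃ f'' : A ⊗ B ⟶ Γ', f'' ≫ i' = (((fst A B) ≫ a) * ((snd A B) ≫ b) * ((fst A B) ≫ a)⁻¹ * ((snd A B) ≫ b)⁻¹)) → ∃ j : Γ ⟶ Γ', j ≫ i' = i) :
    AlgGrp.IsNormalHom i := by
  haveI : Mono i := (Over.forget _).mono_of_mono_map (inferInstanceAs (Mono i.left))
  obtain ⟨f', hf'⟩ := hf
  obtain ⟨T, t, ht, hT⟩ := Groth.Agent.H19Grp.exists_closed_forall_factor (G := Γ) (X := G)
    (snd Γ G * (fst Γ G ≫ i) * (snd Γ G)⁻¹) i
  haveI := ht
  haveI : Mono t := (Over.forget _).mono_of_mono_map (inferInstanceAs (Mono t.left))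
  have hP : ∀ (X : Over (Spec (CommRingCat.of k))) (x : X ⟶ Γ), (∃ z : X ⟶ T, z ≫ t = x) ↔
      ∀ (Y : Over (Spec (CommRingCat.of k))) (s : Y ⟶ X) (g : Y ⟶ G),
        ∃ n' : Y ⟶ Γ, g * (s ≫ x ≫ i) * g⁻¹ = n' ≫ i := fun X x => by
    refine (hT X x).trans ⟨fun h Y s g => ?_, fun h Y s g => ?_⟩
    · obtain ⟨x', hx⟩ := h Y s g
      refine ⟨x', ?_⟩
      rw [hx]
      simp only [MonObj.comp_mul, GrpObj.comp_inv, lift_fst_assoc, lift_snd, Category.assoc]
    · obtain ⟨n', hn⟩ := h Y s g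
      refine ⟨n', ?_⟩
      rw [← hn]
      simp only [MonObj.comp_mul, GrpObj.comp_inv, lift_fst_assoc, lift_snd, Category.assoc]
  obtain ⟨gT, htm⟩ := Groth.Agent.H19Grp.exists_grpObj_of_closed t
    ((hP _ 1).2 fun Y s g => ⟨1, by simp [MonObj.comp_one, MonObj.one_comp]⟩)
    (fun X x y => (hP X _).2 fun Y s g => by
      obtain ⟨m, hm⟩ := (hP X (x ≫ t)).1 ⟨x, rfl⟩ Y s g
      obtain ⟨n, hn⟩ := (hP X (y ≫ t)).1 ⟨y, rfl⟩ Y s g
      refine ⟨m * n, ?_⟩
      rw [MonObj.mul_comp, MonObj.comp_mul, MonObj.mul_comp, ← hm, ← hn]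
      group)
    (fun X x => (hP X _).2 fun Y s g => by
      obtain ⟨m, hm⟩ := (hP X (x ≫ t)).1 ⟨x, rfl⟩ Y s g
      refine ⟨m⁻¹, ?_⟩
      rw [GrpObj.inv_comp, GrpObj.comp_inv, GrpObj.inv_comp, ← hm]
      group)
  haveI := htm
  have hfT : ∃ z : A ⊗ B ⟶ T, z ≫ t = f' := (hP _ f').2 fun Y s g => by
    obtain ⟨x', hx⟩ := hA Y g (s ≫ fst A B)
    obtain ⟨y', hy⟩ := hB Y g (s ≫ snd A B)
    refine ⟨lift x' y' ≫ f', ?_⟩
    rw [Category.assoc, hf']
    simp only [MonObj.comp_mul, GrpObj.comp_inv, lift_fst_assoc, lift_snd_assoc, ← hx, ← hy, Category.assoc]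
    group
  obtain ⟨z, hz⟩ := hfT
  haveI : IsClosedImmersion (t ≫ i).left := by
    rw [Over.comp_left]; infer_instance
  obtain ⟨j, hj⟩ := hmin T inferInstance (t ≫ i) inferInstance inferInstance
    ⟨z, by rw [← Category.assoc, hz, hf']⟩
  intro X g n
  obtain ⟨n', hn'⟩ := (hP X n).1 ⟨n ≫ j, by rw [← cancel_mono i, Category.assoc, Category.assoc, hj]⟩ X (𝟙 X) g
  exact ⟨n', by rw [Category.id_comp] at hn'; exact hn'⟩

end Groth.Agent.S5364
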